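import Groth.Statements.S13590
import Groth.Agent.Lib.Helper26.ClosedEmbSh
import Groth.Agent.Lib.Helper53.RestrInj
import Groth.Prelude.Def_CohPull

set_option autoImplicit false
universe u
open CategoryTheory TopologicalSpace
open SuppFam

namespace Groth.Agent.S13590

lemma sectSupp_injective {X : TopCat.{u}} (U : Opens X) (I : CohTop.Ab X) (hI : Injective I) :
    Injective (CohCx.sectSupp U I) := by
  have hj : Topology.IsOpenEmbedding (CohCx.incl U) := U.isOpen.isOpenEmbedding_subtypeVal
  have hcl : IsClosed ((U : Set X)ᶜ) := U.isOpen.isClosed_compl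
  have hi : Topology.IsClosedEmbedding (CohCx.inclCompl U) := hcl.isClosedEmbedding_subtypeVal
  have hc : Set.range (CohCx.inclCompl U) = (Set.range (CohCx.incl U))ᶜ := by
    have h1 : Set.range (CohCx.inclCompl U) = ((U : Set X)ᶜ) := Subtype.range_coe
    have h2 : Set.range (CohCx.incl U) = (U : Set X) := Subtype.range_coe
    rw [h1, h2]
  have hm : (TopCat.Sheaf.pullback AddCommGrpCat.{u} (CohCx.inclCompl U)).PreservesMonomorphisms := by
    have : Limits.PreservesFiniteLimits (TopCat.Sheaf.pullback AddCommGrpCat.{u} (CohCx.inclCompl U)) :=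
      CohPull.preservesFiniteLimits_pull (CohCx.inclCompl U)
    infer_instance
  exact @Groth.Agent.Lib.Helper26.ClosedEmbSh.injective_kernel_unit _ _ _ (CohCx.incl U)
    (CohCx.inclCompl U) hj hi hc hm I hI



/-- For an abelian sheaf `F` on a topological space `X` and a locally closed `Z = V ∖ W` (`W ≤ V`
opens), if `F` is injective then the sheaf `Γ_Z(F) = i_* i^!(F)` of sections of `F` with supports in
`Z` is injective. -/
theorem result {X : TopCat.{u}} (F : CohTop.Ab X) {W V : Opens X} (h : W ≤ V)
    (hF : Injective F) : Injective ((SuppFam.sectSuppLC h).obj F) := by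
  have h1 : Injective ((CohTop.restrFunctor V).obj F) :=
    Groth.Agent.Lib.Helper53.injective_restr V F
  have h2 : Injective ((LocCohZ.sectSuppF (SuppFam.inOpen V W)).obj ((CohTop.restrFunctor V).obj F)) :=
    sectSupp_injective _ _ h1
  have hm : (TopCat.Sheaf.pullback AddCommGrpCat.{u} (CohCx.incl V)).PreservesMonomorphisms := by
    have : Limits.PreservesFiniteLimits (TopCat.Sheaf.pullback AddCommGrpCat.{u} (CohCx.incl V)) :=
      CohPull.preservesFiniteLimits_pull (CohCx.incl V)
    infer_instance
  exact @Injective.injective_of_adjoint _ _ _ _ _ _ hm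
    (TopCat.Sheaf.pullbackPushforwardAdjunction AddCommGrpCat.{u} (CohCx.incl V))
    ((LocCohZ.sectSuppF (SuppFam.inOpen V W)).obj ((CohTop.restrFunctor V).obj F)) h2

end Groth.Agent.S13590
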