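import Groth.Statements.S13596
import Mathlib.RingTheory.Invariant.Basic

set_option autoImplicit false
universe u
open CategoryTheory AlgebraicGeometry
open SGA1

namespace Groth.Agent.S13596

section aux

variable {X Y : Scheme.{u}} {G : Type u} [Group G]

theorem appLE_congr_hom {X Y : Scheme.{u}} {f f' : X ⟶ Y} (h : f = f') (U : Y.Opens) (V : X.Opens)
    (e : V ≤ f ⁻¹ᵁ U) : f.appLE U V e = f'.appLE U V (h ▸ e) := by
  subst h; rfl

/-- the endomorphism of sections over an invariant open induced by a group element -/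
noncomputable def sig (ρ : G →* Aut X) (V : X.Opens) (hV : ∀ g : G, V ≤ (ρ g).hom ⁻¹ᵁ V) (g : G) :
    Γ(X, V) →+* Γ(X, V) := ((ρ g).hom.appLE V V (hV g)).hom

theorem sig_one (ρ : G →* Aut X) (V : X.Opens) (hV : ∀ g : G, V ≤ (ρ g).hom ⁻¹ᵁ V)
    (s : Γ(X, V)) : sig ρ V hV 1 s = s := by
  unfold sig
  have h1 : (ρ 1).hom = 𝟙 X := by rw [map_one]; rfl
  rw [appLE_congr_hom h1]
  simp only [Scheme.Hom.appLE, Scheme.Hom.id_app, Category.id_comp]
  change (X.presheaf.map (𝟙 (Opposite.op V))).hom s = s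
  simp

theorem sig_mul (ρ : G →* Aut X) (V : X.Opens) (hV : ∀ g : G, V ≤ (ρ g).hom ⁻¹ᵁ V)
    (a b : G) (s : Γ(X, V)) : sig ρ V hV (a * b) s = sig ρ V hV b (sig ρ V hV a s) := by
  unfold sig
  have h1 : (ρ (a * b)).hom = (ρ b).hom ≫ (ρ a).hom := by rw [map_mul]; rfl
  rw [appLE_congr_hom h1, ← Scheme.Hom.appLE_comp_appLE (ρ b).hom (ρ a).hom V V V (hV a) (hV b)]
  rfl

end aux

/-- Let a finite group G act on a scheme X and let p : X ⟶ Y be a quotient of X by G (affine,
G-invariant, and identifying the sections of O_Y over every open with the G-invariant sections of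
O_X over its preimage). Then p is an integral morphism. -/
theorem result {X Y : Scheme.{u}} {G : Type u} [Group G] [Finite G]
    (ρ : G →* Aut X) (p : X ⟶ Y) (hp : SGA1.IsQuot ρ p) :
    IsIntegralHom p := by
  have haff := hp.affine
  refine ⟨fun U hU => ?_⟩
  let V := p ⁻¹ᵁ U
  have hV : ∀ g : G, V ≤ (ρ g).hom ⁻¹ᵁ V := fun g => SGA1.preimage_le_of_inv ρ p hp.inv g U
  let _ : Algebra Γ(Y, U) Γ(X, V) := (p.app U).hom.toAlgebra
  let _ : MulSemiringAction G Γ(X, V) :=
    { smul := fun g s => sig ρ V hV g⁻¹ s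
      one_smul := fun s => by
        change sig ρ V hV (1 : G)⁻¹ s = s
        rw [inv_one, sig_one]
      mul_smul := fun g h s => by
        change sig ρ V hV (g * h)⁻¹ s = sig ρ V hV g⁻¹ (sig ρ V hV h⁻¹ s)
        rw [mul_inv_rev, sig_mul]
      smul_zero := fun g => map_zero _
      smul_add := fun g => map_add _
      smul_one := fun g => map_one _
      smul_mul := fun g => map_mul _ }
  have hinv : Algebra.IsInvariant Γ(Y, U) Γ(X, V) G := by
    refine ⟨fun b hb => ?_⟩
    have := (hp.range_iff U b).mpr (fun g => by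
      have := hb g⁻¹
      change sig ρ V hV (g⁻¹)⁻¹ b = b at this
      rwa [inv_inv] at this)
    obtain ⟨a, ha⟩ := this
    exact ⟨a, ha⟩
  have hint := Algebra.IsInvariant.isIntegral Γ(Y, U) Γ(X, V) G
  intro s
  exact hint.isIntegral s

end Groth.Agent.S13596
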