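import Groth.Statements.S13597
import Groth.Agent.S13596
import Mathlib.RingTheory.Invariant.Galois
import Mathlib.AlgebraicGeometry.ResidueField
import Mathlib.AlgebraicGeometry.Morphisms.Affine

set_option autoImplicit false
universe u
open CategoryTheory AlgebraicGeometry
open SGA1

namespace Groth.Agent.S13597

section aux

open scoped Pointwise in
theorem alg_main {A B K L : Type u} [CommRing A] [CommRing B] [Field K] [Field L]
    {G : Type u} [Group G] [Finite G] [MulSemiringAction G B]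
    (f : A →+* B) (hf1 : ∀ (a : A) (g : G), g • f a = f a)
    (hf2 : ∀ b : B, (∀ g : G, g • b = b) → ∃ a, f a = b)
    (evA : A →+* K) (evB : B →+* L) (φ : K →+* L) (hφ : φ.comp evA = evB.comp f)
    (hK : ∀ z : K, ∃ a a', z = evA a / evA a') (hL : ∀ z : L, ∃ b b', z = evB b / evB b') :
    (letI := φ.toAlgebra; Normal K L) ∧
    ∀ τ : L ≃+* L, (∀ z, τ (φ z) = φ z) →
      ∃ g : G, (∀ b, evB (g • b) = 0 ↔ evB b = 0) ∧ ∀ b, τ (evB b) = evB (g • b) := by
  let _ : Algebra A B := f.toAlgebra
  have hfa : ∀ a, algebraMap A B a = f a := fun _ => rfl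
  have : SMulCommClass G A B := ⟨fun g a b => by
    rw [Algebra.smul_def, Algebra.smul_def, smul_mul', hfa, hf1]⟩
  have : Algebra.IsInvariant A B G := ⟨fun b hb => hf2 b hb⟩
  let Q : Ideal B := RingHom.ker evB
  let P : Ideal A := RingHom.ker evA
  have hQ : Q.IsPrime := RingHom.ker_isPrime evB
  have hP : P.IsPrime := RingHom.ker_isPrime evA
  have hφ' : ∀ a, φ (evA a) = evB (f a) := fun a => RingHom.congr_fun hφ a
  have hPQ : Q.LiesOver P := ⟨by
    ext a
    change a ∈ RingHom.ker evA ↔ algebraMap A B a ∈ RingHom.ker evB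
    rw [RingHom.mem_ker, RingHom.mem_ker, hfa, ← hφ', map_eq_zero_iff φ φ.injective]⟩
  let _ : Algebra (A ⧸ P) K := (RingHom.kerLift evA).toAlgebra
  let _ : Algebra (B ⧸ Q) L := (RingHom.kerLift evB).toAlgebra
  let _ : Algebra K L := φ.toAlgebra
  let _ : Algebra (A ⧸ P) L := ((algebraMap K L).comp (algebraMap (A ⧸ P) K)).toAlgebra
  have : IsScalarTower (A ⧸ P) K L := IsScalarTower.of_algebraMap_eq (fun _ => rfl)
  have : IsScalarTower (A ⧸ P) (B ⧸ Q) L := IsScalarTower.of_algebraMap_eq (fun z => by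
    obtain ⟨a, rfl⟩ := Ideal.Quotient.mk_surjective z
    rw [Ideal.Quotient.algebraMap_mk_of_liesOver]
    change φ (RingHom.kerLift evA (Ideal.Quotient.mk P a)) =
      RingHom.kerLift evB (Ideal.Quotient.mk Q (algebraMap A B a))
    rw [RingHom.kerLift_mk, RingHom.kerLift_mk, hφ', hfa])
  have : FaithfulSMul (A ⧸ P) K :=
    (faithfulSMul_iff_algebraMap_injective _ _).mpr (RingHom.kerLift_injective evA)
  have : FaithfulSMul (B ⧸ Q) L :=
    (faithfulSMul_iff_algebraMap_injective _ _).mpr (RingHom.kerLift_injective evB)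
  have : IsFractionRing (A ⧸ P) K := IsFractionRing.of_field (surj := fun z => by
    obtain ⟨a, a', h⟩ := hK z
    exact ⟨Ideal.Quotient.mk P a, Ideal.Quotient.mk P a', h⟩)
  have : IsFractionRing (B ⧸ Q) L := IsFractionRing.of_field (surj := fun z => by
    obtain ⟨a, a', h⟩ := hL z
    exact ⟨Ideal.Quotient.mk Q a, Ideal.Quotient.mk Q a', h⟩)
  refine ⟨Ideal.IsFractionRing.normal G P Q K L, ?_⟩
  intro τ hτ
  let τ' : L ≃ₐ[K] L := AlgEquiv.ofRingEquiv (f := τ) (fun z => hτ z)
  obtain ⟨σ, hσ⟩ := IsFractionRing.stabilizerHom_surjective G P Q K L τ'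
  refine ⟨σ.val, ?_, ?_⟩
  · intro b
    have h1 : σ.val • Q = Q := σ.2
    change σ.val • b ∈ Q ↔ b ∈ Q
    obtain ⟨g, hg⟩ := σ
    change g • Q = Q at h1
    change g • b ∈ Q ↔ b ∈ Q
    have h2 : g • b ∈ g • Q ↔ b ∈ Q := Ideal.smul_mem_pointwise_smul_iff
    rwa [h1] at h2
  · intro b
    have := IsFractionRing.stabilizerHom_apply_apply_mk G P Q K L σ b
    rw [hσ] at this
    exact this

theorem exists_eval_div (X : Scheme.{u}) (V : X.Opens) (hV : IsAffineOpen V) (x : X) (hx : x ∈ V)
    (z : X.residueField x) :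
    ∃ b b' : Γ(X, V), z = (X.evaluation V x hx).hom b / (X.evaluation V x hx).hom b' := by
  let _ := X.presheaf.algebra_section_stalk ⟨x, hx⟩
  have hloc := hV.isLocalization_stalk ⟨x, hx⟩
  obtain ⟨s, rfl⟩ := X.residue_surjective x z
  obtain ⟨b, t, rfl⟩ := IsLocalization.exists_mk'_eq (hV.primeIdealOf ⟨x, hx⟩).asIdeal.primeCompl s
  refine ⟨b, t.1, ?_⟩
  have h1 := IsLocalization.mk'_spec (X.presheaf.stalk x) b t
  have hu : IsUnit (algebraMap Γ(X, V) (X.presheaf.stalk x) t.1) :=
    IsLocalization.map_units (X.presheaf.stalk x) t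
  have hu' : IsUnit ((X.residue x).hom (algebraMap Γ(X, V) (X.presheaf.stalk x) t.1)) :=
    hu.map _
  have h2 := congrArg (X.residue x).hom h1
  rw [map_mul] at h2
  have hne : (X.evaluation V x hx).hom t.1 ≠ 0 := hu'.ne_zero
  exact (eq_div_iff hne).mpr h2

theorem eval_congr (X : Scheme.{u}) (V : X.Opens) {x y : X} (h : x = y) (hx : x ∈ V)
    (s : Γ(X, V)) :
    (X.residueFieldCongr h).hom.hom ((X.evaluation V x hx).hom s) =
      (X.evaluation V y (h ▸ hx)).hom s := by
  subst h
  simp

theorem eval_sig {X : Scheme.{u}} {G : Type u} [Group G] (ρ : G →* Aut X) (V : X.Opens)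
    (hV : ∀ g : G, V ≤ (ρ g).hom ⁻¹ᵁ V) (g : G) (x : X) (hx : x ∈ V) (s : Γ(X, V)) :
    (X.evaluation V x hx).hom (Groth.Agent.S13596.sig ρ V hV g s) =
      ((ρ g).hom.residueFieldMap x).hom ((X.evaluation V ((ρ g).hom.base x) (hV g hx)).hom s) := by
  have h1 := Scheme.evaluation_naturality_apply (ρ g).hom (V := V) x (hV g hx) s
  rw [h1]
  unfold Groth.Agent.S13596.sig
  simp only [Scheme.Hom.appLE, CommRingCat.hom_comp, RingHom.coe_comp, Function.comp_apply]
  simp only [Scheme.evaluation, CommRingCat.hom_comp, RingHom.coe_comp, Function.comp_apply]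
  congr 1
  exact TopCat.Presheaf.germ_res_apply _ _ _ _ _

/-- the action of the group on sections over an invariant open -/
@[instance_reducible] noncomputable def act {X : Scheme.{u}} {G : Type u} [Group G] (ρ : G →* Aut X) (V : X.Opens)
    (hV : ∀ g : G, V ≤ (ρ g).hom ⁻¹ᵁ V) : MulSemiringAction G Γ(X, V) :=
  { smul := fun g s => Groth.Agent.S13596.sig ρ V hV g⁻¹ s
    one_smul := fun s => by
      change Groth.Agent.S13596.sig ρ V hV (1 : G)⁻¹ s = s
      rw [inv_one, Groth.Agent.S13596.sig_one]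
    mul_smul := fun g h s => by
      change Groth.Agent.S13596.sig ρ V hV (g * h)⁻¹ s =
        Groth.Agent.S13596.sig ρ V hV g⁻¹ (Groth.Agent.S13596.sig ρ V hV h⁻¹ s)
      rw [mul_inv_rev, Groth.Agent.S13596.sig_mul]
    smul_zero := fun g => map_zero _
    smul_add := fun g => map_add _
    smul_one := fun g => map_one _
    smul_mul := fun g => map_mul _ }

end aux

/-- Let a finite group G act on a scheme X and let p : X ⟶ Y be a quotient of X by G (affine,
G-invariant, sections of O_Y = G-invariant sections of O_X). For a point x of X with image y, the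
residue field κ(x) is a normal algebraic extension of κ(y) through the map induced by p, and the
stabilizer of x in G maps onto the group of κ(y)-automorphisms of κ(x): every automorphism τ of κ(x)
over κ(y) is the map on residue fields induced by some g ∈ G with g·x = x (composed with the
identification of the residue fields at g·x and x). -/
theorem result {X Y : Scheme.{u}} {G : Type u}
    [Group G] [Finite G] (ρ : G →* Aut X) (p : X ⟶ Y) (hp : SGA1.IsQuot ρ p) (x : X) :
    (letI := (p.residueFieldMap x).hom.toAlgebra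
     Normal (Y.residueField (p.base x)) (X.residueField x)) ∧
    ∀ τ : X.residueField x ≅ X.residueField x,
      p.residueFieldMap x ≫ τ.hom = p.residueFieldMap x →
      ∃ (g : G) (e : (ρ g).hom.base x = x),
        τ.hom = (X.residueFieldCongr e).inv ≫ (ρ g).hom.residueFieldMap x := by
  have haff := hp.affine
  obtain ⟨U, hU, hyU, -⟩ := exists_isAffineOpen_mem_and_subset
    (X := Y) (x := p.base x) (U := ⊤) trivial
  let V := p ⁻¹ᵁ U
  have hV : IsAffineOpen V := hU.preimage p
  have hVst : ∀ g : G, V ≤ (ρ g).hom ⁻¹ᵁ V := fun g => SGA1.preimage_le_of_inv ρ p hp.inv g U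
  have hxV : x ∈ V := hyU
  let _ : MulSemiringAction G Γ(X, V) := act ρ V hVst
  have hsmul : ∀ (g : G) (s : Γ(X, V)), g • s = Groth.Agent.S13596.sig ρ V hVst g⁻¹ s :=
    fun _ _ => rfl
  have hf1 : ∀ (a : Γ(Y, U)) (g : G), g • (p.app U).hom a = (p.app U).hom a := by
    intro a g
    exact (hp.range_iff U _).mp ⟨a, rfl⟩ g⁻¹
  have hf2 : ∀ b : Γ(X, V), (∀ g : G, g • b = b) → ∃ a, (p.app U).hom a = b := by
    intro b hb
    have := (hp.range_iff U b).mpr (fun g => by
      have := hb g⁻¹
      rw [hsmul, inv_inv] at this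
      exact this)
    obtain ⟨a, ha⟩ := this
    exact ⟨a, ha⟩
  have hφ : (p.residueFieldMap x).hom.comp (Y.evaluation U (p.base x) hyU).hom =
      (X.evaluation V x hxV).hom.comp (p.app U).hom := by
    have := congrArg CommRingCat.Hom.hom (Scheme.evaluation_naturality p x hyU)
    simpa only [CommRingCat.hom_comp] using this
  obtain ⟨hnormal, hstab⟩ := alg_main (G := G) (p.app U).hom hf1 hf2
    (Y.evaluation U (p.base x) hyU).hom (X.evaluation V x hxV).hom (p.residueFieldMap x).hom hφ
    (exists_eval_div Y U hU (p.base x) hyU) (exists_eval_div X V hV x hxV)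
  refine ⟨hnormal, ?_⟩
  intro τ hτ
  obtain ⟨g, hg1, hg2⟩ := hstab τ.commRingCatIsoToRingEquiv (fun z => by
    have := congrArg (fun f => f.hom z) hτ
    exact this)
  have hx' : (ρ g⁻¹).hom.base x ∈ V := hVst g⁻¹ hxV
  -- the point is fixed
  have hbasic : ∀ s : Γ(X, V), (ρ g⁻¹).hom.base x ∈ X.basicOpen s ↔ x ∈ X.basicOpen s := by
    intro s
    have h1 := hg1 s
    rw [hsmul, eval_sig ρ V hVst g⁻¹ x hxV s,
      map_eq_zero_iff _ ((ρ g⁻¹).hom.residueFieldMap x).hom.injective] at h1
    have h2 := Scheme.evaluation_eq_zero_iff_notMem_basicOpen X x hxV s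
    have h3 := Scheme.evaluation_eq_zero_iff_notMem_basicOpen X ((ρ g⁻¹).hom.base x) hx' s
    exact not_iff_not.mp ((h3.symm.trans h1).trans h2)
  have e : (ρ g⁻¹).hom.base x = x := by
    apply Inseparable.eq
    rw [inseparable_iff_forall_isOpen]
    intro O hO
    constructor
    · intro hmem
      obtain ⟨s, hs1, hs2⟩ := hV.exists_basicOpen_le (V := ⟨O, hO⟩) ⟨_, hmem⟩ hx'
      exact hs1 ((hbasic s).mp hs2)
    · intro hmem
      obtain ⟨s, hs1, hs2⟩ := hV.exists_basicOpen_le (V := ⟨O, hO⟩) ⟨_, hmem⟩ hxV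
      exact hs1 ((hbasic s).mpr hs2)
  refine ⟨g⁻¹, e, ?_⟩
  apply CommRingCat.hom_ext
  apply RingHom.ext
  intro z
  obtain ⟨b, b', rfl⟩ := exists_eval_div X V hV x hxV z
  have key : ∀ b : Γ(X, V), τ.hom.hom ((X.evaluation V x hxV).hom b) =
      ((X.residueFieldCongr e).inv ≫ (ρ g⁻¹).hom.residueFieldMap x).hom
        ((X.evaluation V x hxV).hom b) := by
    intro b
    have h1 := hg2 b
    rw [hsmul, eval_sig ρ V hVst g⁻¹ x hxV b] at h1
    rw [CommRingCat.hom_comp, RingHom.comp_apply, Scheme.residueFieldCongr_inv,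
      eval_congr X V e.symm hxV b]
    exact h1
  rw [map_div₀, map_div₀, key, key]

end Groth.Agent.S13597
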