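import Groth.Statements.S1360
import Groth.Agent.S9738
import Groth.Agent.Lib.Helper19.StalkCriteria

set_option autoImplicit false
universe u
open FlatMor

namespace Groth.Agent.S1360

open AlgebraicGeometry CategoryTheory Limits


open AlgebraicGeometry CategoryTheory Limits in
/-- Let S be locally Noetherian, f : X → S of finite type, and Z the closed subscheme of S cut out by an
ideal sheaf I. If the base change of f to every infinitesimal neighbourhood of Z is étale, then
every point of X over Z has an open neighbourhood on which f is étale. -/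
theorem result {X S : Scheme.{u}} (f : X ⟶ S) [IsLocallyNoetherian S] [LocallyOfFinitePresentation f] [QuasiCompact f]
    (I : S.IdealSheafData) (h : ∀ n : ℕ, Etale (pullback.snd f (I ^ (n + 1)).subschemeι)) (x : X) (hx : f x ∈ I.support) :
    ∃ U : X.Opens, x ∈ U ∧ Etale (U.ι ≫ f) := by
  have hX : IsLocallyNoetherian X := LocallyOfFiniteType.isLocallyNoetherian f
  have hflat : (f.stalkMap x).hom.Flat :=
    Groth.Agent.S9738.result f I (fun n => by
      have := h n
      infer_instance) x hx
  have hx' : f x ∈ (I ^ (0 + 1)).support := by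
    rw [zero_add, pow_one]
    exact hx
  have hr : f x ∈ Set.range (I ^ (0 + 1)).subschemeι := by
    rw [(I ^ (0 + 1)).range_subschemeι]
    exact hx'
  obtain ⟨z, hz⟩ := hr
  obtain ⟨x', hx'1, hx'2⟩ := Scheme.Pullback.exists_preimage_pullback
    (f := f) (g := (I ^ (0 + 1)).subschemeι) x z hz.symm
  have h0 := h 0
  have hu : ∃ U : X.Opens, (pullback.fst f (I ^ (0 + 1)).subschemeι).base x' ∈ U ∧
      FormallyUnramified (U.ι ≫ f) := by
    apply Groth.Agent.Lib.Helper19.exists_nhd_formallyUnramified_of_pullback f
      (I ^ (0 + 1)).subschemeι x'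
    refine ⟨⊤, trivial, ?_⟩
    infer_instance
  rw [hx'1] at hu
  exact Groth.Agent.Lib.Helper19.exists_nhd_etale_of_flat_stalkMap f x hu hflat

end Groth.Agent.S1360
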