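import Groth.Statements.S13603
import Mathlib

set_option autoImplicit false
universe u v
open CAlg

namespace Groth.Agent.S13603

/-- Let a group G act on a commutative ring B by ring automorphisms so that every element of B has a
finite orbit, and let S ⊆ B be a multiplicative set of G-fixed elements (so each g ∈ G induces an
endomorphism of the localization S⁻¹B; the hypothesis that g maps S into S is implied by the
previous one and is only carried to name that endomorphism). Then an element of S⁻¹B is fixed by all
of G if and only if it is a fraction b/s with b fixed by G and s ∈ S: the canonical map S⁻¹(B^G) →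
(S⁻¹B)^G is onto. -/
theorem result {B : Type u} [CommRing B]
    {G : Type v} [Group G] [MulSemiringAction G B] (hfin : ∀ b : B, (MulAction.orbit G b).Finite)
    (S : Submonoid B) (hS : ∀ (g : G) (s : B), s ∈ S → g • s = s)
    (hS' : ∀ g : G, S ≤ S.comap (MulSemiringAction.toRingHom G B g)) (x : Localization S) :
    (∀ g : G, IsLocalization.map (Localization S) (MulSemiringAction.toRingHom G B g) (hS' g) x = x) ↔
      ∃ (b : B) (s : S), (∀ g : G, g • b = b) ∧ x = IsLocalization.mk' (Localization S) b s := by
  classical
  have hmap : ∀ (g : G) (b : B) (s : S),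
      IsLocalization.map (Localization S) (MulSemiringAction.toRingHom G B g) (hS' g)
        (IsLocalization.mk' (Localization S) b s) = IsLocalization.mk' (Localization S) (g • b) s := by
    intro g b s
    rw [IsLocalization.map_mk']
    congr 1
    exact Subtype.ext (hS g s s.2)
  constructor
  · intro hx
    obtain ⟨b, s, rfl⟩ := IsLocalization.exists_mk'_eq S x
    -- for each g there is t ∈ S with t * (g • b) = t * b
    have ht : ∀ g : G, ∃ t : S, (t : B) * (g • b) = t * b := by
      intro g
      have h1 := hx g
      rw [hmap, IsLocalization.eq] at h1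
      obtain ⟨c, hc⟩ := h1
      refine ⟨c * s, ?_⟩
      simp only [Submonoid.coe_mul]
      rw [mul_assoc, mul_assoc]
      exact hc
    have ht' : ∀ b' ∈ (hfin b).toFinset, ∃ t : S, (t : B) * b' = t * b := by
      intro b' hb'
      rw [Set.Finite.mem_toFinset] at hb'
      obtain ⟨g, rfl⟩ := hb'
      exact ht g
    choose! t htt using ht'
    let T : S := ∏ b' ∈ (hfin b).toFinset, t b'
    have hT : ∀ g : G, (T : B) * (g • b) = T * b := by
      intro g
      have hmem : g • b ∈ (hfin b).toFinset := by
        rw [Set.Finite.mem_toFinset]; exact ⟨g, rfl⟩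
      have hsplit : T = t (g • b) * ∏ b' ∈ (hfin b).toFinset.erase (g • b), t b' :=
        (Finset.mul_prod_erase _ _ hmem).symm
      rw [hsplit]
      simp only [Submonoid.coe_mul]
      rw [mul_comm ((t (g • b) : S) : B), mul_assoc, mul_assoc, htt _ hmem]
    refine ⟨T * b, T * s, ?_, ?_⟩
    · intro g
      rw [smul_mul', hS g T T.2, hT g]
    · rw [mul_comm (T : B) b, mul_comm T s, IsLocalization.mk'_cancel]
  · rintro ⟨b, s, hb, rfl⟩ g
    rw [hmap, hb]

end Groth.Agent.S13603
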