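import Groth.Statements.S13604
import Mathlib.Tactic
import Groth.Agent.Lib.Helper43.EffCartierDescent
-- import your own Groth.Agent.* helpers here

set_option autoImplicit false
set_option linter.style.haveILetI false
universe u
open CategoryTheory AlgebraicGeometry
open CategoryTheory.Limits
open Cyc

namespace Groth.Agent.S13604

/-- Let k be a field, X a separated k-scheme of finite type, smooth of relative dimension r, and Z ⊆ X a
closed subscheme (a quasi-coherent ideal sheaf) of pure dimension r − 1, i.e. the local ring of X at
every maximal point of Z has dimension 1. If for some field extension K/k the base change Z_K ⊆ X_K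
= X ×_k Spec K (the inverse image ideal sheaf along the first projection) is an effective Cartier
divisor, then the ideal of Z is locally generated by a single non-zero-divisor, i.e. Z too is
effective Cartier. -/
theorem result {k : Type u} [Field k] {K : Type u} [Field K]
    [Algebra k K] {X : Scheme.{u}} (f : X ⟶ Spec (CommRingCat.of k)) (r : ℕ) [SmoothOfRelativeDimension r f]
    [QuasiCompact f] [IsSeparated f] (𝓘 : X.IdealSheafData)
    (hpure : ∀ z : ↥𝓘.subscheme, (∀ z' : ↥𝓘.subscheme, z' ⤳ z → z' = z) →
      ringKrullDim ↑(X.presheaf.stalk (𝓘.subschemeι.base z)) = 1)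
    (hK : BlowUp.IsEffCartierIdeal
      (𝓘.comap (pullback.fst f (Spec.map (CommRingCat.ofHom (algebraMap k K)))))) :
    BlowUp.IsEffCartierIdeal 𝓘 := by
  haveI : Smooth f := SmoothOfRelativeDimension.smooth r f
  haveI : IsLocallyNoetherian X := LocallyOfFiniteType.isLocallyNoetherian f
  have hflat : Flat (Spec.map (CommRingCat.ofHom (algebraMap k K))) := by
    rw [HasRingHomProperty.Spec_iff (P := @Flat)]
    change (algebraMap k K).Flat
    rw [RingHom.flat_algebraMap_iff]
    infer_instance
  haveI := hflat
  haveI hsurj : Surjective (Spec.map (CommRingCat.ofHom (algebraMap k K))) := by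
    constructor
    intro x
    have hsub : Subsingleton (PrimeSpectrum k) := inferInstance
    exact ⟨(⟨⊥, Ideal.isPrime_bot⟩ : PrimeSpectrum K),
      Subsingleton.elim (α := PrimeSpectrum k) _ _⟩
  haveI : Flat (pullback.fst f (Spec.map (CommRingCat.ofHom (algebraMap k K)))) :=
    MorphismProperty.pullback_fst _ _ inferInstance
  haveI : Surjective (pullback.fst f (Spec.map (CommRingCat.ofHom (algebraMap k K)))) :=
    MorphismProperty.pullback_fst _ _ inferInstance
  exact Groth.Agent.Lib.Helper43.EffCartierDescent.isEffCartierIdeal_of_comap
    (pullback.fst f (Spec.map (CommRingCat.ofHom (algebraMap k K)))) 𝓘 hK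

end Groth.Agent.S13604
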