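import Groth.Statements.S13605
import Groth.Agent.S13602
import Groth.Agent.Lib.Helper81.IsQuotAffine
-- import your own Groth.Agent.* helpers here

set_option autoImplicit false
universe u
open CategoryTheory AlgebraicGeometry
open CategoryTheory.Limits
open SymProd

namespace Groth.Agent.S13605

/-- Let f : X ⟶ S be a morphism of schemes satisfying (AF) (every finite set of points of X over a
single point of S lies in an affine open of X), let 𝒮 be a cover of S by affine opens, let d ≥ 1 and
let (Y, q, g) be a d-th symmetric power of X over S: q : X ×_S ⋯ ×_S X ⟶ Y is a quotient by the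
symmetric group on d letters permuting the factors (affine, invariant, sections of O_Y = invariant
sections) and q ≫ g is the structure map of the fibre power. Then Y is covered by affine opens of
the form Sym^d(U/V) with V in the given cover: for every point y of Y there are V ∈ 𝒮 and an affine
open U ⊆ f⁻¹V of X such that the open W = ⋂_i pr_i⁻¹ U of the fibre power (the fibre power of U over
V) is affine and stable under every permutation of the factors, and an affine open W' of Y
containing y with q⁻¹ W' = W. (The published statement also fixes an affine open cover of X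
subordinate to the cover of S, in which any d points over a common point of a member V lie in a
common member mapping into V, and concludes that the corresponding opens Sym^d(U/V) cover Y; this
row states the pointwise form, producing U for each y.) -/
theorem result {X S Y : Scheme.{u}} (f : X ⟶ S) (hAF : SymProd.IsAF f)
    (𝒮 : Set S.Opens) (h𝒮 : ∀ V ∈ 𝒮, IsAffineOpen V) (hcov : ∀ s : S, ∃ V ∈ 𝒮, s ∈ V)
    (d : ℕ) (hd : 0 < d) (q : SymProd.fibPow f d ⟶ Y) (g : Y ⟶ S) (hq : SymProd.IsSymProd f d q g) (y : Y) :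
    ∃ V ∈ 𝒮, ∃ U : X.Opens, IsAffineOpen U ∧ U ≤ f ⁻¹ᵁ V ∧
      ∃ W : (SymProd.fibPow f d).Opens,
        (W : Set ↥(SymProd.fibPow f d)) =
          ⋂ i : Fin d, (WidePullback.π (fun _ : Fin d => f) i).base ⁻¹' (U : Set X) ∧
        IsAffineOpen W ∧ (∀ σ : Equiv.Perm (Fin d), (SymProd.permHom f d σ) ⁻¹ᵁ W = W) ∧
        ∃ W' : Y.Opens, y ∈ W' ∧ IsAffineOpen W' ∧ q ⁻¹ᵁ W' = W := by
  classical
  have hQ := hq.isQuot
  obtain ⟨x, rfl⟩ := Groth.Agent.Lib.Helper81.Quot.surjective hQ y
  have hπb : ∀ i, Limits.WidePullback.π (fun _ : Fin d => f) i ≫ f =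
      Limits.WidePullback.base (fun _ : Fin d => f) := fun i => Limits.WidePullback.π_arrow _ i
  let s := (Limits.WidePullback.base (fun _ : Fin d => f)).base x
  let T : Finset X := Finset.univ.image (fun i => (Limits.WidePullback.π (fun _ : Fin d => f) i).base x)
  obtain ⟨U, hU, hTU⟩ := hAF s T (by
    intro y hy
    obtain ⟨i, -, rfl⟩ := Finset.mem_image.mp hy
    rw [← Scheme.Hom.comp_apply, hπb])
  obtain ⟨V, hV𝒮, hsV⟩ := hcov s
  have hV : IsAffineOpen V := h𝒮 V hV𝒮
  have hxU : ∀ i, (Limits.WidePullback.π (fun _ : Fin d => f) i).base x ∈ U := fun i =>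
    hTU _ (Finset.mem_image.mpr ⟨i, Finset.mem_univ _, rfl⟩)
  let T' : Finset U := Finset.univ.image
    (fun i => (⟨(Limits.WidePullback.π (fun _ : Fin d => f) i).base x, hxU i⟩ : U))
  obtain ⟨h, hh1, hh2⟩ := Groth.Agent.S13602.exists_basicOpen_finset hU (f ⁻¹ᵁ V) T' (by
    intro y hy
    obtain ⟨i, -, rfl⟩ := Finset.mem_image.mp hy
    change f.base ((Limits.WidePullback.π (fun _ : Fin d => f) i).base x) ∈ V
    rw [← Scheme.Hom.comp_apply, hπb]
    exact hsV)
  have hxU' : ∀ i, (Limits.WidePullback.π (fun _ : Fin d => f) i).base x ∈ X.basicOpen h := fun i =>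
    hh2 _ (Finset.mem_image.mpr ⟨i, Finset.mem_univ _, rfl⟩)
  let W : (SymProd.fibPow f d).Opens :=
    ⨅ i : Fin d, (Limits.WidePullback.π (fun _ : Fin d => f) i) ⁻¹ᵁ (X.basicOpen h)
  have hWmem : ∀ y, y ∈ W ↔
      ∀ i, (Limits.WidePullback.π (fun _ : Fin d => f) i).base y ∈ X.basicOpen h := by
    intro y
    change y ∈ ((⨅ i : Fin d, (Limits.WidePullback.π (fun _ : Fin d => f) i) ⁻¹ᵁ (X.basicOpen h) :
        (SymProd.fibPow f d).Opens) : Set _) ↔ _
    rw [TopologicalSpace.Opens.coe_iInf, Set.mem_iInter]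
    rfl
  have hW : ∀ y, y ∈ W ↔ (Limits.WidePullback.base (fun _ : Fin d => f)).base y ∈ V ∧
      ∀ i, (Limits.WidePullback.π (fun _ : Fin d => f) i).base y ∈ X.basicOpen h := by
    intro y
    rw [hWmem]
    constructor
    · intro hy
      refine ⟨?_, hy⟩
      have h0 := hh1 (hy ⟨0, hd⟩)
      change f.base ((Limits.WidePullback.π (fun _ : Fin d => f) ⟨0, hd⟩).base y) ∈ V at h0
      rwa [← Scheme.Hom.comp_apply, hπb] at h0
    · exact fun hy => hy.2
  have hWaff : IsAffineOpen W :=
    Groth.Agent.S13602.isAffineOpen_fibPow f d V hV (X.basicOpen h) (hU.basicOpen h) hh1 W hW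
  have hstab : ∀ σ : Equiv.Perm (Fin d), (SymProd.permHom f d σ) ⁻¹ᵁ W = W := by
    intro σ
    ext y
    change (SymProd.permHom f d σ).base y ∈ W ↔ y ∈ W
    rw [hWmem, hWmem]
    constructor
    · intro hy i
      have := hy (σ i)
      rwa [← Scheme.Hom.comp_apply, SymProd.permHom_π, Equiv.symm_apply_apply] at this
    · intro hy i
      rw [← Scheme.Hom.comp_apply, SymProd.permHom_π]
      exact hy _
  -- the image of `W` in `Y`
  have hsat : q.base ⁻¹' (q.base '' (W : Set ↥(SymProd.fibPow f d))) = (W : Set _) := by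
    apply Set.Subset.antisymm
    · rintro x' ⟨w, hw, hwx⟩
      obtain ⟨g, hg⟩ := Groth.Agent.Lib.Helper81.Quot.exists_eq_of_base_eq hQ w x' hwx
      rw [SymProd.permActU_hom] at hg
      rw [← hg]
      have : w ∈ (SymProd.permHom f d g.down) ⁻¹ᵁ W := by rw [hstab]; exact hw
      exact this
    · exact Set.subset_preimage_image _ _
  have hopen : IsOpen (q.base '' (W : Set ↥(SymProd.fibPow f d))) := by
    rw [← (Groth.Agent.Lib.Helper81.Quot.isQuotientMap hQ).isOpen_preimage, hsat]
    exact W.2
  let W' : Y.Opens := ⟨q.base '' (W : Set _), hopen⟩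
  have hpre : q ⁻¹ᵁ W' = W := by
    ext x'
    change x' ∈ q.base ⁻¹' (q.base '' (W : Set _)) ↔ x' ∈ (W : Set _)
    rw [hsat]
  refine ⟨V, hV𝒮, X.basicOpen h, hU.basicOpen h, hh1, W, ?_, hWaff, hstab, W', ?_, ?_, hpre⟩
  · ext y
    rw [Set.mem_iInter]
    exact hWmem y
  · exact ⟨x, (hWmem x).2 hxU', rfl⟩
  · apply Groth.Agent.Lib.Helper81.Quot.isAffineOpen_of_preimage hQ W'
    rw [hpre]
    exact hWaff

end Groth.Agent.S13605
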