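import Groth.Statements.S13606
import Groth.Agent.S13596
import Mathlib.AlgebraicGeometry.Morphisms.Affine

set_option autoImplicit false
universe u
open CategoryTheory AlgebraicGeometry
open SGA1

namespace Groth.Agent.S13606

section aux

variable {X Y : Scheme.{u}} {G : Type u} [Group G]

theorem range_appLE_iff (ρ : G →* Aut X) (p : X ⟶ Y) (hp : SGA1.IsQuot ρ p)
    (W' : Y.Opens) (A : X.Opens) (h : A = p ⁻¹ᵁ W') (hA : ∀ g : G, A ≤ (ρ g).hom ⁻¹ᵁ A)
    (s : Γ(X, A)) :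
    s ∈ Set.range (p.appLE W' A h.le).hom ↔
      ∀ g : G, ((ρ g).hom.appLE A A (hA g)).hom s = s := by
  subst h
  rw [Scheme.Hom.appLE_eq_app]
  exact hp.range_iff W' s

theorem appLE_restrict_eq (ρ : G →* Aut X) (V : X.Opens)
    (ρV : G →* Aut V.toScheme)
    (hρV : ∀ g : G, (ρV g).hom ≫ V.ι = V.ι ≫ (ρ g).hom) (g : G)
    (B : V.toScheme.Opens) (hB : B ≤ (ρV g).hom ⁻¹ᵁ B)
    (hB' : V.ι ''ᵁ B ≤ (ρ g).hom ⁻¹ᵁ (V.ι ''ᵁ B)) :
    (ρV g).hom.appLE B B hB = (ρ g).hom.appLE (V.ι ''ᵁ B) (V.ι ''ᵁ B) hB' := by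
  have e1 : B ≤ V.ι ⁻¹ᵁ (V.ι ''ᵁ B) := by
    intro x hx
    exact ⟨x, hx, rfl⟩
  have h1 := Scheme.Hom.appLE_comp_appLE (ρV g).hom V.ι (V.ι ''ᵁ B) B B e1 hB
  have h2 := Scheme.Hom.appLE_comp_appLE V.ι (ρ g).hom (V.ι ''ᵁ B) (V.ι ''ᵁ B) B hB' e1
  rw [Groth.Agent.S13596.appLE_congr_hom (hρV g)] at h1
  have h3 : V.ι.appLE (V.ι ''ᵁ B) B e1 = 𝟙 _ := by
    rw [Scheme.Opens.ι_appLE]
    exact X.presheaf.map_id _
  rw [h3] at h1 h2
  exact ((Category.id_comp _).symm.trans h1).trans ((Category.comp_id _).symm.trans h2).symm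

end aux

/-- Let a finite group G act on a scheme X and let p : X ⟶ Y be a quotient of X by G (affine,
G-invariant, sections of O_Y over every open = G-invariant sections of O_X over its preimage). Then
for every open U ⊆ Y, U is the quotient of p⁻¹U by G: the restriction p⁻¹U ⟶ U of p is again a
quotient in the same sense, for the action ρU of G on the G-stable open p⁻¹U induced by ρ (pinned by
compatibility with the inclusion p⁻¹U ⟶ X). -/
theorem result {X Y : Scheme.{u}} {G : Type u} [Group G] [Finite G]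
    (ρ : G →* Aut X) (p : X ⟶ Y) (hp : SGA1.IsQuot ρ p) (U : Y.Opens)
    (ρU : G →* Aut (p ⁻¹ᵁ U).toScheme)
    (hρU : ∀ g : G, (ρU g).hom ≫ (p ⁻¹ᵁ U).ι = (p ⁻¹ᵁ U).ι ≫ (ρ g).hom) :
    SGA1.IsQuot ρU (p ∣_ U) := by
  have haff : IsAffineHom (p ∣_ U) := by
    have := hp.affine
    exact IsZariskiLocalAtTarget.restrict this U
  have hinv : ∀ g : G, (ρU g).hom ≫ p ∣_ U = p ∣_ U := by
    intro g
    rw [← cancel_mono U.ι, Category.assoc, morphismRestrict_ι, ← Category.assoc, hρU,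
      Category.assoc, hp.inv]
  refine ⟨haff, hinv, ?_, ?_⟩
  · intro W
    rw [morphismRestrict_app]
    have h1 := hp.injective (U.ι ''ᵁ W)
    have h2 : Function.Injective
        (X.presheaf.map (eqToHom (image_morphismRestrict_preimage p U W)).op).hom :=
      ((ConcreteCategory.bijective_of_isIso _).1)
    exact h2.comp h1
  · intro W s
    have hA : ∀ g : G, (p ⁻¹ᵁ U).ι ''ᵁ ((p ∣_ U) ⁻¹ᵁ W) ≤
        (ρ g).hom ⁻¹ᵁ ((p ⁻¹ᵁ U).ι ''ᵁ ((p ∣_ U) ⁻¹ᵁ W)) := by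
      intro g
      rw [image_morphismRestrict_preimage]
      exact SGA1.preimage_le_of_inv ρ p hp.inv g _
    have key := range_appLE_iff ρ p hp (U.ι ''ᵁ W) ((p ⁻¹ᵁ U).ι ''ᵁ ((p ∣_ U) ⁻¹ᵁ W))
      (image_morphismRestrict_preimage p U W) hA s
    rw [morphismRestrict_app']
    refine Iff.trans key ?_
    refine forall_congr' fun g => ?_
    have e := appLE_restrict_eq ρ (p ⁻¹ᵁ U) ρU hρU g ((p ∣_ U) ⁻¹ᵁ W)
      (SGA1.preimage_le_of_inv ρU (p ∣_ U) hinv g W) (hA g)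
    have e2 := congrArg (fun f => (CommRingCat.Hom.hom f) s) e
    exact Iff.of_eq (congrArg (· = s) e2.symm)

end Groth.Agent.S13606
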