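import Groth.Statements.S13607
import Mathlib

set_option autoImplicit false
open CategoryTheory CategoryTheory.Limits Opposite
universe w v u
open ARSys

namespace Groth.Agent.S13607

/-- In an abelian category linear over a commutative ring A with an ideal J, let X be a J-adic
projective system indexed by the natural numbers and Y a projective system whose n-th term is killed
by J^(n+1) for every n. Then for every r, every morphism from the translate X[r] to Y factors
uniquely through the canonical translation map X[r] ⟶ X: there is exactly one morphism g : X ⟶ Y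
whose n-th component, precomposed with the transition map X_(n+r) ⟶ X_n, is the n-th component of
the given morphism. In particular morphisms X ⟶ Y up to translation are the same as morphisms X ⟶ Y.
(The published statement is for systems of finitely generated modules over a Noetherian ring, and
for systems of sheaves of modules on the small etale site; this row states it in any linear abelian
category, which is all the argument uses.) -/
theorem result {C : Type u} [Category.{v} C] [Abelian C] {A : Type w} [CommRing A] [Linear A C]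
    (J : Ideal A) (X Y : ARSys.PS C) (hX : ARSys.IsAdic J X) (hY : ARSys.TermKilled J Y) (r : ℕ)
    (f : (ARSys.shift C r).obj X ⟶ Y) :
    ∃! g : X ⟶ Y, ∀ n : ℕ, f.app (op n) = ARSys.shiftMap X r n ≫ g.app (op n) := by
  -- any morphism into `Y_n` is killed by `J^(n+1)`
  have hkill : ∀ (n : ℕ) {Z : C} (φ : Z ⟶ Y.obj (op n)), HomKilledBy (J ^ (n + 1)) φ := by
    intro n Z φ a ha
    have h := hY n a ha
    calc a • φ = a • (φ ≫ 𝟙 _) := by rw [Category.comp_id]
      _ = φ ≫ (a • 𝟙 _) := by rw [Linear.comp_smul]
      _ = 0 := by rw [h, comp_zero]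
  have hq : ∀ n : ℕ, IsQuot (J ^ (n + 1)) (ARSys.shiftMap X r n) := fun n => hX.2 n (n + r) _
  -- cancellation property of the quotient maps
  have hcancel : ∀ (n : ℕ) (ψ₁ ψ₂ : X.obj (op n) ⟶ Y.obj (op n)),
      ARSys.shiftMap X r n ≫ ψ₁ = ARSys.shiftMap X r n ≫ ψ₂ → ψ₁ = ψ₂ := by
    intro n ψ₁ ψ₂ h
    obtain ⟨ψ, -, hu⟩ := (hq n).2 _ (ARSys.shiftMap X r n ≫ ψ₁) (hkill n _)
    rw [hu ψ₁ rfl, hu ψ₂ h.symm]
  choose g' hg' hg'u using fun n : ℕ => (hq n).2 _ (f.app (op n)) (hkill n _)
  have hnat : ∀ (n m : ℕ) (h : n ≤ m),
      X.map (homOfLE h).op ≫ g' n = g' m ≫ Y.map (homOfLE h).op := by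
    intro n m h
    -- cancel the quotient map `X_{m+r} ⟶ X_m`; its target has to be `Y_n`, so use `hq m` directly
    obtain ⟨ψ, -, hu⟩ := (hq m).2 _ (ARSys.shiftMap X r m ≫ X.map (homOfLE h).op ≫ g' n)
      (fun a ha => hkill n _ a (Ideal.pow_le_pow_right (by omega) ha))
    rw [hu (X.map (homOfLE h).op ≫ g' n) rfl]
    apply (hu _ _).symm
    rw [← Category.assoc, hg' m]
    have hfn := f.naturality (homOfLE h).op
    rw [← hfn, ← hg' n]
    have : ((ARSys.shift C r).obj X).map (homOfLE h).op ≫ ARSys.shiftMap X r n =
        ARSys.shiftMap X r m ≫ X.map (homOfLE h).op := by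
      dsimp only [ARSys.shiftMap, ARSys.tr, ARSys.shift]
      change X.map _ ≫ X.map _ = X.map _ ≫ X.map _
      rw [← X.map_comp, ← X.map_comp]
      congr 1
    rw [← Category.assoc, ← Category.assoc, this]
  let g : X ⟶ Y :=
    { app := fun k => g' k.unop
      naturality := by
        intro k k' φ
        have h : k'.unop ≤ k.unop := leOfHom φ.unop
        have hφ : φ = (homOfLE h).op := Subsingleton.elim _ _
        rw [hφ]
        exact hnat _ _ h }
  refine ⟨g, fun n => (hg' n).symm, ?_⟩
  intro g₂ hg₂
  ext k
  obtain ⟨n⟩ := k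
  exact hcancel n _ _ (by rw [← hg₂ n]; exact (hg' n).symm)

end Groth.Agent.S13607
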