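import Groth.Statements.S13608
import Mathlib

set_option autoImplicit false
universe u v
open CAlg

namespace Groth.Agent.S13608

theorem smodEq_map_pow {A : Type u} [CommRing A] (I : Ideal A) {M N : Type v} [AddCommGroup M] [Module A M]
    [AddCommGroup N] [Module A N] (g : M →ₗ[A] N) (n : ℕ) {x y : M}
    (h : x ≡ y [SMOD (I ^ n • ⊤ : Submodule A M)]) :
    g x ≡ g y [SMOD (I ^ n • ⊤ : Submodule A N)] := by
  refine SModEq.mono ?_ (h.map g)
  rw [Submodule.map_smul'']
  exact Submodule.smul_mono le_rfl le_top

theorem isAdicComplete_of_retract {A : Type u} [CommRing A] (I : Ideal A) {M N : Type v}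
    [AddCommGroup M] [Module A M] [AddCommGroup N] [Module A N] [IsAdicComplete I N]
    (ι : M →ₗ[A] N) (r : N →ₗ[A] M) (hr : ∀ x, r (ι x) = x) : IsAdicComplete I M := by
  have hH : IsHausdorff I M := by
    constructor
    intro x hx
    have h1 : ∀ n : ℕ, (ι x) ≡ 0 [SMOD (I ^ n • ⊤ : Submodule A N)] := by
      intro n
      have := smodEq_map_pow I ι n (hx n)
      rwa [map_zero] at this
    have h2 := IsHausdorff.haus (inferInstance : IsHausdorff I N) _ h1
    rw [← hr x, h2, map_zero]
  have hP : IsPrecomplete I M := by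
    constructor
    intro f hf
    obtain ⟨L, hL⟩ := IsPrecomplete.prec (inferInstance : IsPrecomplete I N)
      (f := fun n => ι (f n))
      (fun {m n} hmn => smodEq_map_pow I ι m (hf hmn))
    refine ⟨r L, fun n => ?_⟩
    have := smodEq_map_pow I r n (hL n)
    rwa [hr] at this
  exact { toIsHausdorff := hH, toIsPrecomplete := hP }

/-- Let A be a commutative ring, I a finitely generated ideal of A and (M_n) an inverse system of
A-modules with transition maps f_n : M_(n+1) → M_n such that I^(n+1) M_n = 0 for every n. If L is an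
inverse limit of the system (projections π_n compatible with the f_n, jointly injective, and such
that every compatible family of elements lifts to L), then L is complete and separated for the
I-adic topology. No surjectivity of the transition maps is assumed. -/
theorem result
    (A : Type u) [CommRing A] (I : Ideal A) (hI : I.FG)
    (M : ℕ → Type v) [∀ n, AddCommGroup (M n)] [∀ n, Module A (M n)]
    (f : ∀ n, M (n + 1) →ₗ[A] M n)
    (hkill : ∀ n, I ^ (n + 1) • (⊤ : Submodule A (M n)) = ⊥)
    (L : Type v) [AddCommGroup L] [Module A L] (π : ∀ n, L →ₗ[A] M n)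
    (hπ : ∀ n, f n ∘ₗ π (n + 1) = π n)
    (hinj : ∀ x : L, (∀ n, π n x = 0) → x = 0)
    (hlift : ∀ y : (∀ n, M n), (∀ n, f n (y (n + 1)) = y n) → ∃ x : L, ∀ n, π n x = y n) :
    IsAdicComplete I L := by
  classical
  have : IsAdicComplete I (AdicCompletion I L) := AdicCompletion.isAdicComplete hI
  -- the embedding of L into the product
  let Φ : L →ₗ[A] (∀ n, M n) := LinearMap.pi π
  have hΦinj : Function.Injective Φ := by
    rw [← LinearMap.ker_eq_bot, LinearMap.ker_eq_bot']
    intro x hx
    exact hinj x (fun n => congrFun hx n)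
  -- π n kills I^(n+1) L
  have hle : ∀ n, (I ^ (n + 1) • ⊤ : Submodule A L) ≤ LinearMap.ker (π n) := by
    intro n
    rw [Submodule.smul_le]
    intro a ha x _
    rw [LinearMap.mem_ker, map_smul]
    have : a • π n x ∈ I ^ (n + 1) • (⊤ : Submodule A (M n)) :=
      Submodule.smul_mem_smul ha Submodule.mem_top
    rw [hkill n] at this
    exact this
  let πbar : ∀ n, (L ⧸ (I ^ (n + 1) • ⊤ : Submodule A L)) →ₗ[A] M n :=
    fun n => Submodule.liftQ _ (π n) (hle n)
  let Ψ : AdicCompletion I L →ₗ[A] (∀ n, M n) :=
    LinearMap.pi (fun n => (πbar n) ∘ₗ (AdicCompletion.eval I L (n + 1)))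
  have hΨrange : ∀ z, Ψ z ∈ LinearMap.range Φ := by
    intro z
    have hcompat : ∀ n, f n (Ψ z (n + 1)) = Ψ z n := by
      intro n
      obtain ⟨l, hl⟩ := Submodule.Quotient.mk_surjective _ (z.val (n + 2))
      have h1 : z.val (n + 1) = Submodule.Quotient.mk l := by
        rw [← AdicCompletion.transitionMap_comp_eval_apply I L (Nat.le_succ (n + 1)) z]
        show AdicCompletion.transitionMap I L (Nat.le_succ (n + 1)) (z.val (n + 2)) = _
        rw [← hl]
        rfl
      show f n ((πbar (n + 1)) (z.val (n + 1 + 1))) = (πbar n) (z.val (n + 1))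
      have h2 : z.val (n + 1 + 1) = Submodule.Quotient.mk l := hl.symm
      rw [h1, h2]
      show f n (π (n + 1) l) = π n l
      rw [← hπ n]; rfl
    obtain ⟨x, hx⟩ := hlift (Ψ z) hcompat
    exact ⟨x, funext hx⟩
  let e := LinearEquiv.ofInjective Φ hΦinj
  let r : AdicCompletion I L →ₗ[A] L := e.symm.toLinearMap ∘ₗ (Ψ.codRestrict _ hΨrange)
  refine isAdicComplete_of_retract I (AdicCompletion.of I L) r ?_
  intro x
  apply hΦinj
  have h1 : Φ (r (AdicCompletion.of I L x)) = Ψ (AdicCompletion.of I L x) := by
    have : e (r (AdicCompletion.of I L x)) = Ψ.codRestrict _ hΨrange (AdicCompletion.of I L x) := by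
      show e (e.symm _) = _
      rw [LinearEquiv.apply_symm_apply]
    exact congrArg Subtype.val this
  rw [h1]
  funext n
  show (πbar n) (AdicCompletion.eval I L (n + 1) (AdicCompletion.of I L x)) = π n x
  rw [AdicCompletion.eval_of]
  rfl

end Groth.Agent.S13608
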