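import Groth.Statements.S13612
import Groth.Agent.S13611
import Groth.Agent.Lib.Helper57.ModTopInv2

set_option autoImplicit false
open CategoryTheory CategoryTheory.Limits AlgebraicGeometry Opposite
universe u
open EtModW

namespace Groth.Agent.S13612

theorem dense_aux {X : Type*} [TopologicalSpace X] {ι : Type*} (R : ι → Set X)
    (hR : ∀ i, IsLocallyClosed (R i)) (s : Finset ι) :
    ∀ O : Set X, IsOpen O → O.Nonempty → O ⊆ ⋃ i ∈ s, R i →
      ∃ i ∈ s, (O ∩ interior (R i)).Nonempty := by
  classical
  induction s using Finset.induction_on with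
  | empty =>
    intro O _ hne hsub
    obtain ⟨x, hx⟩ := hne
    have := hsub hx
    simp at this
  | insert a s ha ih =>
    intro O hO hne hsub
    obtain ⟨A, C, hA, hC, hAC⟩ := hR a
    by_cases h1 : (O ∩ Cᶜ).Nonempty
    · have hsub' : O ∩ Cᶜ ⊆ ⋃ i ∈ s, R i := by
        rintro x ⟨hxO, hxC⟩
        have := hsub hxO
        simp only [Finset.mem_insert, Set.iUnion_iUnion_eq_or_left, Set.mem_union] at this
        rcases this with h | h
        · rw [hAC] at h
          exact (hxC h.2).elim
        · exact h
      obtain ⟨i, hi, x, hx, hxi⟩ := ih _ (hO.inter hC.isOpen_compl) h1 hsub'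
      exact ⟨i, Finset.mem_insert_of_mem hi, x, hx.1, hxi⟩
    · by_cases h2 : (O ∩ A).Nonempty
      · obtain ⟨x, hxO, hxA⟩ := h2
        have hOC : O ⊆ C := by
          intro y hy
          by_contra hyC
          exact h1 ⟨y, hy, hyC⟩
        have hsubR : O ∩ A ⊆ R a := by
          rintro y ⟨hyO, hyA⟩
          rw [hAC]
          exact ⟨hyA, hOC hyO⟩
        have hint : O ∩ A ⊆ interior (R a) := interior_maximal hsubR (hO.inter hA)
        exact ⟨a, Finset.mem_insert_self a s, x, hxO, hint ⟨hxO, hxA⟩⟩
      · have hsub' : O ⊆ ⋃ i ∈ s, R i := by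
          intro x hxO
          have := hsub hxO
          simp only [Finset.mem_insert, Set.iUnion_iUnion_eq_or_left, Set.mem_union] at this
          rcases this with h | h
          · rw [hAC] at h
            exact (h2 ⟨x, hxO, h.1⟩).elim
          · exact h
        obtain ⟨i, hi, hne'⟩ := ih O hO hne hsub'
        exact ⟨i, Finset.mem_insert_of_mem hi, hne'⟩

/-- For a Noetherian scheme X, a Noetherian coefficient ring Λ and an ideal I of Λ, let F = (F_n) be an
I-adic inverse system of constructible sheaves of Λ-modules on the small etale site of X. Then there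
is a dense open subscheme U of X on which every F_n is locally constant of finite type (the system
is lisse on U). -/
theorem result
    (Λ : Type (u + 1)) [CommRing Λ] [IsNoetherianRing Λ] (I : Ideal Λ)
    (X : Scheme.{u}) [IsNoetherian X]
    (F : ARSys.PS (EtModW.Mod Λ X)) (hF : ARSys.IsAdic I F)
    (hc : ∀ n : ℕ, EtModW.IsConstructible Λ (F.obj (op n))) :
    ∃ U : X.Opens, Dense (U : Set X) ∧
      ∀ n : ℕ, EtModW.IsFTLocConst Λ ((EtModW.pull Λ U.ι).obj (F.obj (op n))) := by
  obtain ⟨m, T, g, hg, hdisj, hun, hflc⟩ := Groth.Agent.S13611.result Λ I X F hF hc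
  haveI := hg
  let R : Fin m → Set X := fun i => Set.range (g i).base
  have hR : ∀ i, IsLocallyClosed (R i) := fun i => (g i).isLocallyClosed_range
  let U : X.Opens := ⟨⋃ i, interior (R i), isOpen_iUnion fun i => isOpen_interior⟩
  refine ⟨U, ?_, fun n => ?_⟩
  · rw [dense_iff_inter_open]
    intro O hO hne
    have hsub : O ⊆ ⋃ i ∈ (Finset.univ : Finset (Fin m)), R i := by
      intro x _
      have hx : x ∈ ⋃ i, R i := by
        have : x ∈ (Set.univ : Set X) := trivial
        rw [← hun] at this
        exact this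
      obtain ⟨i, hi⟩ := Set.mem_iUnion.1 hx
      exact Set.mem_biUnion (Finset.mem_univ i) hi
    obtain ⟨i, -, x, hxO, hxi⟩ := dense_aux R hR Finset.univ O hO hne hsub
    exact ⟨x, hxO, Set.mem_iUnion.2 ⟨i, hxi⟩⟩
  · apply Groth.Agent.Lib.Helper57.ModTopInv.isFTLocConst_of_open_cover
    intro x hx
    obtain ⟨i, hi⟩ := Set.mem_iUnion.1 hx
    refine ⟨⟨interior (R i), isOpen_interior⟩, hi, ?_, ?_⟩
    · intro y hy
      exact Set.mem_iUnion.2 ⟨i, hy⟩
    · exact Groth.Agent.Lib.Helper57.ModTopInv.isFTLocConst_of_immersion Λ (g i) _ (hflc i n) _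
        interior_subset

end Groth.Agent.S13612
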