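import Mathlib
import Groth.Statements.S13621
-- import your own Groth.Agent.* helpers here

set_option autoImplicit false
open CategoryTheory CategoryTheory.Limits Opposite
universe v u
open ARSys

namespace Groth.Agent.S13621

section abelian
variable {C : Type u} [Category.{v} C] [Abelian C]

theorem exists_through {X' Y' X'' Y'' : C} (f : X' ⟶ Y') (a : Y'' ⟶ Y') (b : X' ⟶ X'')
    (ha : a ≫ cokernel.π f = 0) (hb : kernel.ι f ≫ b = 0) :
    ∃ v : Y'' ⟶ X'', (∀ {Z : C} (x : Z ⟶ X') (y : Z ⟶ Y''), x ≫ f = y ≫ a → y ≫ v = x ≫ b) ∧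
      (∀ {Z : C} (g : X'' ⟶ Z) (g' : Y' ⟶ Z), b ≫ g = f ≫ g' → v ≫ g = a ≫ g') := by
  let a' : Y'' ⟶ Abelian.image f := kernel.lift (cokernel.π f) a ha
  let b' : Abelian.coimage f ⟶ X'' := cokernel.desc (kernel.ι f) b hb
  have ha' : a' ≫ Abelian.image.ι f = a := kernel.lift_ι _ _ _
  have hb' : Abelian.coimage.π f ≫ b' = b := cokernel.π_desc _ _ _
  have hf : Abelian.coimage.π f ≫ Abelian.coimageImageComparison f ≫ Abelian.image.ι f = f :=
    Abelian.coimage_image_factorisation f
  refine ⟨a' ≫ inv (Abelian.coimageImageComparison f) ≫ b', ?_, ?_⟩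
  · intro Z x y h
    have h1 : y ≫ a' = x ≫ Abelian.coimage.π f ≫ Abelian.coimageImageComparison f := by
      rw [← cancel_mono (Abelian.image.ι f)]
      simp only [Category.assoc, ha', hf, h]
    rw [← Category.assoc, h1]
    simp [hb']
  · intro Z g g' h
    have h1 : b' ≫ g = Abelian.coimageImageComparison f ≫ Abelian.image.ι f ≫ g' := by
      rw [← cancel_epi (Abelian.coimage.π f)]
      rw [← Category.assoc, hb', h, ← Category.assoc, ← Category.assoc]
      congr 1
      simp
    simp only [Category.assoc, h1, IsIso.inv_hom_id_assoc]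
    rw [← Category.assoc, ha']

end abelian

section main
variable {C : Type u} [Category.{v} C] [Abelian C]

theorem hK_of_null {X Y : ARSys.PS C} (u : X ⟶ Y) (r : ℕ)
    (h : ∀ n : ℕ, shiftMap (kernel u) r n = 0) (n : ℕ) {Z : C} (d : Z ⟶ X.obj (op (n + r)))
    (hd : d ≫ u.app (op (n + r)) = 0) : d ≫ tr X (Nat.le_add_right n r) = 0 := by
  let G := (evaluation ℕᵒᵖ C).obj (op (n + r))
  let e := PreservesKernel.iso G u
  have he : e.inv ≫ (kernel.ι u).app (op (n + r)) = kernel.ι (u.app (op (n + r))) :=
    PreservesKernel.iso_inv_ι G u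
  have h1 : d = kernel.lift (u.app (op (n + r))) d hd ≫ e.inv ≫ (kernel.ι u).app (op (n + r)) := by
    rw [he, kernel.lift_ι]
  rw [h1]
  have h' : (kernel u).map (homOfLE (Nat.le_add_right n r)).op = 0 := h n
  have h2 : (kernel.ι u).app (op (n + r)) ≫ tr X (Nat.le_add_right n r) =
      (kernel u).map (homOfLE (Nat.le_add_right n r)).op ≫ (kernel.ι u).app (op n) :=
    ((kernel.ι u).naturality (homOfLE (Nat.le_add_right n r)).op).symm
  simp only [Category.assoc]
  rw [h2, h']
  simp

theorem hQ_of_null {X Y : ARSys.PS C} (u : X ⟶ Y) (r : ℕ)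
    (h : ∀ n : ℕ, shiftMap (cokernel u) r n = 0) (n : ℕ) {Z : C} (e : Y.obj (op n) ⟶ Z)
    (he : u.app (op n) ≫ e = 0) : tr Y (Nat.le_add_right n r) ≫ e = 0 := by
  let G := (evaluation ℕᵒᵖ C).obj (op n)
  let i := PreservesCokernel.iso G u
  have hi : (cokernel.π u).app (op n) ≫ i.hom = cokernel.π (u.app (op n)) :=
    PreservesCokernel.π_iso_hom G u
  have h1 : e = (cokernel.π u).app (op n) ≫ i.hom ≫ cokernel.desc (u.app (op n)) e he := by
    rw [← Category.assoc, hi, cokernel.π_desc]
  rw [h1]
  have h' : (cokernel u).map (homOfLE (Nat.le_add_right n r)).op = 0 := h n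
  have h2 : tr Y (Nat.le_add_right n r) ≫ (cokernel.π u).app (op n) =
      (cokernel.π u).app (op (n + r)) ≫ (cokernel u).map (homOfLE (Nat.le_add_right n r)).op :=
    ((cokernel.π u).naturality (homOfLE (Nat.le_add_right n r)).op)
  rw [← Category.assoc, h2, h']
  simp

theorem result' [HasLimitsOfShape ℕᵒᵖ C]
    {X Y : ARSys.PS C} (u : X ⟶ Y) (hu : ARSys.IsARIso u) : IsIso (limMap u) := by
  obtain ⟨⟨r, hr⟩, ⟨r', hr'⟩⟩ := hu
  have hK := hK_of_null u r hr
  have hQ := hQ_of_null u r' hr'
  have trX : ∀ {a b c : ℕ} (h1 : a ≤ b) (h2 : b ≤ c), tr X h2 ≫ tr X h1 = tr X (h1.trans h2) := by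
    intro a b c h1 h2
    simp only [tr, ← X.map_comp]
    rfl
  have trY : ∀ {a b c : ℕ} (h1 : a ≤ b) (h2 : b ≤ c), tr Y h2 ≫ tr Y h1 = tr Y (h1.trans h2) := by
    intro a b c h1 h2
    simp only [tr, ← Y.map_comp]
    rfl
  have nat : ∀ {a b : ℕ} (h : a ≤ b), tr X h ≫ u.app (op a) = u.app (op b) ≫ tr Y h :=
    fun h => u.naturality _
  have wX : ∀ {a b : ℕ} (h : a ≤ b), limit.π X (op b) ≫ tr X h = limit.π X (op a) :=
    fun h => limit.w X _
  have wY : ∀ {a b : ℕ} (h : a ≤ b), limit.π Y (op b) ≫ tr Y h = limit.π Y (op a) :=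
    fun h => limit.w Y _
  have key : ∀ n : ℕ, ∃ v : Y.obj (op (n + r + r')) ⟶ X.obj (op n),
      u.app (op (n + r + r')) ≫ v = tr X (by omega : n ≤ n + r + r') ∧
      v ≫ u.app (op n) = tr Y (by omega : n ≤ n + r + r') := by
    intro n
    obtain ⟨v, hA, hB⟩ := exists_through (u.app (op (n + r)))
      (tr Y (Nat.le_add_right (n + r) r')) (tr X (Nat.le_add_right n r))
      (hQ (n + r) _ (cokernel.condition _)) (hK n _ (kernel.condition _))
    refine ⟨v, ?_, ?_⟩
    · have := hA (tr X (Nat.le_add_right (n + r) r')) (u.app (op (n + r + r'))) (nat _)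
      rw [this, trX]
    · have := hB (u.app (op n)) (tr Y (Nat.le_add_right n r)) (nat _)
      rw [this, trY]
  choose v hv1 hv2 using key
  let c : ∀ n : ℕ, limit Y ⟶ X.obj (op n) := fun n =>
    limit.π Y (op (n + r + r + r')) ≫ v (n + r) ≫ tr X (Nat.le_add_right n r)
  have hc : ∀ (n m : ℕ) (h : n ≤ m), c m ≫ tr X h = c n := by
    intro n m h
    have hnm : n + r ≤ m + r := by omega
    have h0 : (limit.π Y (op (m + r + r + r')) ≫ v (m + r) ≫ tr X hnm -
        limit.π Y (op (n + r + r + r')) ≫ v (n + r)) ≫ u.app (op (n + r)) = 0 := by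
      rw [Preadditive.sub_comp]
      simp only [Category.assoc]
      rw [nat, ← Category.assoc (v (m + r)), hv2, hv2, trY, wY, wY, sub_self]
    have h1 := hK n _ h0
    rw [Preadditive.sub_comp, sub_eq_zero] at h1
    simp only [Category.assoc] at h1
    rw [trX] at h1
    simp only [c, Category.assoc]
    rw [trX]
    exact h1
  let cone : Cone X :=
    { pt := limit Y
      π :=
        { app := fun k => c k.unop
          naturality := by
            intro k k' f
            have hf : f = (homOfLE (leOfHom f.unop)).op := Subsingleton.elim _ _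
            simp only [Functor.const_obj_obj, Functor.const_obj_map, Category.id_comp]
            rw [hf]
            exact (hc _ _ _).symm } }
  refine ⟨limit.lift X cone, ?_, ?_⟩
  · apply limit.hom_ext
    intro k
    obtain ⟨n⟩ := k
    rw [Category.assoc, limit.lift_π, Category.id_comp]
    show limMap u ≫ c n = _
    simp only [c]
    rw [← Category.assoc, limMap_π, Category.assoc, ← Category.assoc (u.app _), hv1, trX, wX]
  · apply limit.hom_ext
    intro k
    obtain ⟨n⟩ := k
    rw [Category.assoc, limMap_π, ← Category.assoc, limit.lift_π, Category.id_comp]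
    show c n ≫ u.app (op n) = _
    simp only [c, Category.assoc]
    rw [nat, ← Category.assoc (v _), hv2, trY, wY]

end main


/-- The inverse limit is a well-defined functor on projective systems up to translation. Concretely: in
an abelian category with limits of shape ℕᵒᵖ, a morphism u : X ⟶ Y of projective systems indexed by
the natural numbers whose kernel and cokernel are null up to translation induces an isomorphism lim
X ⟶ lim Y. (The published statement is the functoriality of lim on the category of systems up to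
translation; combined with the description of isomorphisms there as the morphisms with null kernel
and cokernel, this is the form stated.) -/
theorem result {C : Type u} [Category.{v} C] [Abelian C] [HasLimitsOfShape ℕᵒᵖ C]
    {X Y : ARSys.PS C} (u : X ⟶ Y) (hu : ARSys.IsARIso u) : IsIso (limMap u) := by
  exact result' u hu

end Groth.Agent.S13621
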