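import Mathlib
-- Template for statement S13623 (row 13622; see the milestone table for weights).
-- Copy to Groth/Agent/S13623.lean and replace the sorry. The statement below is byte-identical to the frozen
-- statement CAlg.GrothFrozen.S13623 (Groth/Statements/S13623.lean; the theorem CAlg.adjoin_degreeOne_eq_top_of_algClosed_baseChange);
-- the grader kernel-checks Groth.Agent.S13623.result against that frozen type. Keep the theorem IN THIS FILE
-- (a `result` declared elsewhere and merely imported here is not credited); helpers may live anywhere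
-- under Groth/Agent/.
import Groth.Statements.S13623


set_option autoImplicit false
universe u
section Helpers
open TensorProduct
namespace Groth.Agent.S13623

/-- Nakayama over algebraically closed fibres. -/
theorem subsingleton_of_forall_algClosed (A : Type u) [CommRing A] (Q : Type u) [AddCommGroup Q]
    [Module A Q] [Module.Finite A Q]
    (h : ∀ (k : Type u) [Field k] [IsAlgClosed k] [Algebra A k], Subsingleton (k ⊗[A] Q)) :
    Subsingleton Q := by
  by_contra hQ
  have hann : Module.annihilator A Q ≠ ⊤ := by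
    rw [Ne, Module.annihilator_eq_top_iff]
    exact hQ
  obtain ⟨p, hp, hle⟩ := Ideal.exists_le_maximal _ hann
  let _ := Ideal.Quotient.field p
  have h1 : Subsingleton ((AlgebraicClosure (A ⧸ p)) ⊗[A] Q) := h (AlgebraicClosure (A ⧸ p))
  have e := TensorProduct.AlgebraTensorModule.cancelBaseChange A (A ⧸ p) (AlgebraicClosure (A ⧸ p))
    (AlgebraicClosure (A ⧸ p)) Q
  have h2 : Subsingleton ((AlgebraicClosure (A ⧸ p)) ⊗[A ⧸ p] ((A ⧸ p) ⊗[A] Q)) :=
    e.toEquiv.subsingleton
  have h3 : Subsingleton ((A ⧸ p) ⊗[A] Q) :=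
    Module.FaithfullyFlat.lTensor_reflects_triviality (A ⧸ p) (AlgebraicClosure (A ⧸ p)) _
  have h4 : Subsingleton (Q ⧸ (p • ⊤ : Submodule A Q)) :=
    (TensorProduct.quotTensorEquivQuotSMul Q p).symm.toEquiv.subsingleton
  have h5 : (p • ⊤ : Submodule A Q) = ⊤ := Submodule.Quotient.subsingleton_iff.mp h4
  obtain ⟨r, hr1, hr2⟩ := Submodule.exists_sub_one_mem_and_smul_eq_zero_of_fg_of_le_smul p
    (⊤ : Submodule A Q) Module.Finite.fg_top (by rw [h5])
  have hr : r ∈ Module.annihilator A Q := by
    rw [Module.mem_annihilator]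
    intro q
    exact hr2 q Submodule.mem_top
  have : (1 : A) ∈ p := by
    have h6 := p.sub_mem (hle hr) hr1
    simpa using h6
  exact hp.ne_top ((Ideal.eq_top_iff_one p).mpr this)

/-- Elements of the multiplicative closure of `𝒜 1` are homogeneous. -/
theorem homogeneous_of_mem_closure {A : Type u} [CommRing A] {B : Type u} [CommRing B] [Algebra A B]
    (𝒜 : ℕ → Submodule A B) [GradedAlgebra 𝒜] {y : B}
    (hy : y ∈ Submonoid.closure (𝒜 1 : Set B)) : ∃ n, y ∈ 𝒜 n := by
  induction hy using Submonoid.closure_induction with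
  | mem x hx => exact ⟨1, hx⟩
  | one => exact ⟨0, SetLike.GradedOne.one_mem⟩
  | mul x y _ _ hx hy =>
    obtain ⟨a, ha⟩ := hx
    obtain ⟨b, hb⟩ := hy
    exact ⟨a + b, SetLike.GradedMul.mul_mem ha hb⟩

end Groth.Agent.S13623
end Helpers

open TensorProduct
open CAlg

namespace Groth.Agent.S13623

/-- Let A be a commutative ring and B a commutative A-algebra, graded by A-submodules B_m (m ≥ 0)
forming a graded-algebra structure, such that every B_m is a finitely generated A-module. If for
every algebraically closed field k and every A-algebra structure on k the k-algebra k ⊗_A B is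
generated by the image of B_1 under b ↦ 1 ⊗ b, then its degree-one part B_1 generates the A-algebra
B. (Algebraically closed fields are taken in the universe of A.) -/
theorem result
    (A : Type u) [CommRing A] (B : Type u) [CommRing B] [Algebra A B]
    (𝒜 : ℕ → Submodule A B) [GradedAlgebra 𝒜]
    (hfin : ∀ m : ℕ, Module.Finite A (𝒜 m))
    (hgen : ∀ (k : Type u) [Field k] [IsAlgClosed k] [Algebra A k],
      Algebra.adjoin k ((Algebra.TensorProduct.includeRight : B →ₐ[A] k ⊗[A] B) '' (𝒜 1 : Set B)) = ⊤) :
    Algebra.adjoin A (𝒜 1 : Set B) = ⊤ := by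
  classical
  set B' := Algebra.adjoin A (𝒜 1 : Set B) with hB'
  have hclB' : ∀ y ∈ Submonoid.closure (𝒜 1 : Set B), y ∈ B' := by
    intro y hy
    have : Submonoid.closure (𝒜 1 : Set B) ≤ B'.toSubmonoid := by
      rw [Submonoid.closure_le]
      exact Algebra.subset_adjoin
    exact this hy
  have key : ∀ m, 𝒜 m ≤ Subalgebra.toSubmodule B' := by
    intro m
    let N : Submodule A (𝒜 m) := Submodule.comap (𝒜 m).subtype (Subalgebra.toSubmodule B')
    let π : B →ₗ[A] 𝒜 m := (DirectSum.component A ℕ (fun i => 𝒜 i) m) ∘ₗ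
      (DirectSum.decomposeLinearEquiv 𝒜).toLinearMap
    have hπ : ∀ b, π b = DirectSum.decompose 𝒜 b m := fun b => rfl
    let ψ : B →ₗ[A] (↥(𝒜 m) ⧸ N) := N.mkQ ∘ₗ π
    have hψcl : ∀ y ∈ Submonoid.closure (𝒜 1 : Set B), ψ y = 0 := by
      intro y hy
      obtain ⟨n, hn⟩ := homogeneous_of_mem_closure 𝒜 hy
      change N.mkQ (π y) = 0
      rw [Submodule.mkQ_apply, Submodule.Quotient.mk_eq_zero, hπ]
      change ((DirectSum.decompose 𝒜 y m : 𝒜 m) : B) ∈ B'
      by_cases hmn : n = m
      · subst hmn
        rw [DirectSum.decompose_of_mem_same 𝒜 hn]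
        exact hclB' y hy
      · rw [DirectSum.decompose_of_mem_ne 𝒜 hn hmn]
        exact B'.zero_mem
    have hQ : Subsingleton (↥(𝒜 m) ⧸ N) := by
      have := hfin m
      apply subsingleton_of_forall_algClosed A
      intro k _ _ _
      let Ψ : k ⊗[A] B →ₗ[k] k ⊗[A] (↥(𝒜 m) ⧸ N) := ψ.baseChange k
      have hΨ : ∀ z, Ψ z = 0 := by
        intro z
        have hz : z ∈ Subalgebra.toSubmodule (Algebra.adjoin k
            ((Algebra.TensorProduct.includeRight : B →ₐ[A] k ⊗[A] B) '' (𝒜 1 : Set B))) := by
          rw [hgen k]; trivial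
        rw [Algebra.adjoin_eq_span] at hz
        have hle : Submodule.span k ((Submonoid.closure
            ((Algebra.TensorProduct.includeRight : B →ₐ[A] k ⊗[A] B) '' (𝒜 1 : Set B)) :
              Submonoid (k ⊗[A] B)) : Set (k ⊗[A] B)) ≤ LinearMap.ker Ψ := by
          rw [Submodule.span_le]
          intro w hw
          have hw' : w ∈ Submonoid.map
              ((Algebra.TensorProduct.includeRight : B →ₐ[A] k ⊗[A] B) : B →* k ⊗[A] B)
              (Submonoid.closure (𝒜 1 : Set B)) := by
            rw [MonoidHom.map_mclosure]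
            exact hw
          obtain ⟨y, hy, rfl⟩ := hw'
          change Ψ ((1 : k) ⊗ₜ[A] y) = 0
          change (ψ.baseChange k) ((1 : k) ⊗ₜ[A] y) = 0
          rw [LinearMap.baseChange_tmul, hψcl y hy, tmul_zero]
        exact hle hz
      refine ⟨fun a b => ?_⟩
      have h0 : ∀ t : k ⊗[A] (↥(𝒜 m) ⧸ N), t = 0 := by
        intro t
        induction t using TensorProduct.induction_on with
        | zero => rfl
        | tmul c q =>
          obtain ⟨x, rfl⟩ := N.mkQ_surjective q
          have h1 : (1 : k) ⊗ₜ[A] (N.mkQ x) = 0 := by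
            have := hΨ ((1 : k) ⊗ₜ[A] (x : B))
            change (ψ.baseChange k) ((1 : k) ⊗ₜ[A] (x : B)) = 0 at this
            rw [LinearMap.baseChange_tmul] at this
            have hx : ψ (x : B) = N.mkQ x := by
              change N.mkQ (π (x : B)) = N.mkQ x
              rw [hπ]
              congr 1
              exact DirectSum.decompose_of_mem_same 𝒜 x.2 |> Subtype.ext
            rwa [hx] at this
          have : c ⊗ₜ[A] (N.mkQ x) = c • ((1 : k) ⊗ₜ[A] (N.mkQ x)) := by
            rw [TensorProduct.smul_tmul', smul_eq_mul, mul_one]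
          rw [this, h1, smul_zero]
        | add x y hx hy => rw [hx, hy, add_zero]
      rw [h0 a, h0 b]
    rw [Submodule.Quotient.subsingleton_iff] at hQ
    intro x hx
    have : (⟨x, hx⟩ : 𝒜 m) ∈ N := by rw [hQ]; trivial
    exact this
  rw [eq_top_iff]
  intro b _
  rw [← DirectSum.sum_support_decompose 𝒜 b]
  exact Subalgebra.sum_mem _ (fun i _ => key i (SetLike.coe_mem _))

end Groth.Agent.S13623
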