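import Groth.Statements.S13631
import Mathlib

set_option autoImplicit false
universe u v w
open CAlg

namespace Groth.Agent.S13631

/-- Let k be a field, R an integral domain which is a k-algebra of infinite dimension over k, M a finite
free R-module, σ a ring automorphism of R mapping the image of k onto itself, and φ : M → M a
σ-semilinear map. If the cokernel of φ is finite-dimensional over k, in the sense that some finitely
generated k-subspace N of M satisfies M = N + φ(M), then φ is injective. -/
theorem result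
    {k : Type u} {R : Type v} {M : Type w} [Field k] [CommRing R] [IsDomain R] [Algebra k R]
    (hR : ¬ Module.Finite k R)
    [AddCommGroup M] [Module R M] [Module k M] [IsScalarTower k R M]
    [Module.Finite R M] [Module.Free R M]
    (σ : R ≃+* R)
    (hσ : ∀ x : k, ∃ y : k, σ (algebraMap k R x) = algebraMap k R y)
    (hσ' : ∀ y : k, ∃ x : k, σ (algebraMap k R x) = algebraMap k R y)
    (φ : M →ₛₗ[(σ : R →+* R)] M)
    (hcoker : ∃ N : Submodule k M, N.FG ∧ ∀ m : M, ∃ n ∈ N, ∃ m' : M, m = n + φ m') :
    Function.Injective φ := by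
  classical
  rw [injective_iff_map_eq_zero]
  intro x₀ hx₀
  by_contra hne
  set ι := Module.Free.ChooseBasisIndex R M
  set b : Module.Basis ι R M := Module.Free.chooseBasis R M with hb
  set A : Matrix ι ι R := Matrix.of fun i j => b.repr (φ (b j)) i with hA
  have hrepr : ∀ (m : M) (i : ι), b.repr (φ m) i = ∑ j, A i j * σ (b.repr m j) := by
    intro m i
    conv_lhs => rw [← b.sum_repr m]
    rw [map_sum, map_sum, Finsupp.coe_finset_sum, Finset.sum_apply]
    refine Finset.sum_congr rfl fun j _ => ?_
    rw [map_smulₛₗ, map_smul, Finsupp.smul_apply, smul_eq_mul, mul_comm]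
    rfl
  -- a nonzero kernel vector for A
  have hv : ∃ v : ι → R, v ≠ 0 ∧ A.mulVec v = 0 := by
    refine ⟨fun j => σ (b.repr x₀ j), ?_, ?_⟩
    · intro h0
      apply hne
      apply b.repr.injective
      refine Finsupp.ext fun j => ?_
      have := congrFun h0 j
      simp only [Pi.zero_apply] at this
      rw [map_zero, Finsupp.zero_apply]
      exact (map_eq_zero_iff σ σ.injective).mp this
    · funext i
      rw [Matrix.mulVec, Pi.zero_apply]
      show ∑ j, A i j * σ (b.repr x₀ j) = 0
      rw [← hrepr, hx₀, map_zero, Finsupp.zero_apply]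
  have hdet : Matrix.det A = 0 := Matrix.exists_mulVec_eq_zero_iff.mp hv
  obtain ⟨ℓ, hℓ0, hℓ⟩ := Matrix.exists_vecMul_eq_zero_iff.mpr hdet
  obtain ⟨i₀, hi₀⟩ : ∃ i₀, ℓ i₀ ≠ 0 := by
    by_contra hcon
    push_neg at hcon
    exact hℓ0 (funext hcon)
  -- the functional
  set L : M →ₗ[R] R := ∑ i, ℓ i • b.coord i with hL
  have hLapp : ∀ m, L m = ∑ i, ℓ i * b.repr m i := by
    intro m
    simp only [hL, LinearMap.sum_apply, LinearMap.smul_apply, Module.Basis.coord_apply, smul_eq_mul]
  have hLφ : ∀ m, L (φ m) = 0 := by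
    intro m
    rw [hLapp]
    simp only [hrepr, Finset.mul_sum]
    rw [Finset.sum_comm]
    refine Finset.sum_eq_zero fun j _ => ?_
    have h1 : ∑ i, ℓ i * (A i j * σ (b.repr m j)) = (∑ i, ℓ i * A i j) * σ (b.repr m j) := by
      rw [Finset.sum_mul]
      exact Finset.sum_congr rfl fun i _ => (mul_assoc _ _ _).symm
    rw [h1]
    have h2 : ∑ i, ℓ i * A i j = (Matrix.vecMul ℓ A) j := rfl
    rw [h2, hℓ, Pi.zero_apply, zero_mul]
  have hLb : L (b i₀) = ℓ i₀ := by
    rw [hLapp, Finset.sum_eq_single i₀]
    · rw [Module.Basis.repr_self, Finsupp.single_eq_same, mul_one]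
    · intro j _ hj
      rw [Module.Basis.repr_self, Finsupp.single_eq_of_ne hj, mul_zero]
    · intro h; exact absurd (Finset.mem_univ _) h
  obtain ⟨N, hNfg, hN⟩ := hcoker
  set Lk : M →ₗ[k] R := L.restrictScalars k with hLk
  have hrange : ∀ m : M, L m ∈ N.map Lk := by
    intro m
    obtain ⟨n, hn, m', rfl⟩ := hN m
    rw [map_add, hLφ, add_zero]
    exact ⟨n, hn, rfl⟩
  have hfg : (N.map Lk).FG := hNfg.map Lk
  haveI : Module.Finite k (N.map Lk) := Module.Finite.iff_fg.mpr hfg
  set μ : R →ₗ[k] R := LinearMap.mulRight k (ℓ i₀) with hμ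
  have hμmem : ∀ r : R, μ r ∈ N.map Lk := by
    intro r
    have h1 : μ r = L (r • b i₀) := by
      rw [map_smul, hLb, smul_eq_mul]
      rfl
    rw [h1]
    exact hrange _
  set μ' : R →ₗ[k] (N.map Lk) := LinearMap.codRestrict (N.map Lk) μ hμmem with hμ'
  have hinj : Function.Injective μ' := by
    intro r r' h
    have h1 : μ r = μ r' := congrArg Subtype.val h
    exact mul_left_injective₀ hi₀ h1
  exact hR (Module.Finite.of_injective μ' hinj)

end Groth.Agent.S13631
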