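import Groth.Statements.S13632
import Mathlib
import Groth.Agent.Lib.Helper61.NodeIso

set_option autoImplicit false
universe u
open TensorProduct
open CAlg

namespace Groth.Agent.S13632
open TensorProduct

/-- Step 1: a linear map into a finite module that is surjective on all closed fibres is
surjective. -/
theorem surjective_of_residue {R : Type u} {A B : Type u} [CommRing R] [AddCommGroup A] [Module R A]
    [AddCommGroup B] [Module R B] [Module.Finite R A] (f : B →ₗ[R] A)
    (h : ∀ (m : Ideal R) [m.IsMaximal],
      Function.Surjective (LinearMap.lTensor m.ResidueField f)) : Function.Surjective f := by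
  rw [← LinearMap.range_eq_top, ← Submodule.Quotient.subsingleton_iff,
    ← Module.support_eq_empty_iff (R := R)]
  by_contra hne
  obtain ⟨p, hp⟩ := Set.nonempty_iff_ne_empty.mpr hne
  obtain ⟨m, hm, hpm⟩ := Ideal.exists_le_maximal p.asIdeal p.2.ne_top
  have hm' : (⟨m, hm.isPrime⟩ : PrimeSpectrum R) ∈ Module.support R (A ⧸ LinearMap.range f) :=
    Module.mem_support_mono hpm hp
  rw [Module.mem_support_iff_nontrivial_residueField_tensorProduct] at hm'
  have key : ∀ a : m.ResidueField ⊗[R] (A ⧸ LinearMap.range f), a = 0 := by
    intro a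
    obtain ⟨y, rfl⟩ := LinearMap.lTensor_surjective m.ResidueField
      (Submodule.mkQ_surjective (LinearMap.range f)) a
    obtain ⟨z, rfl⟩ := h m y
    rw [← LinearMap.comp_apply, ← LinearMap.lTensor_comp]
    have : (LinearMap.range f).mkQ ∘ₗ f = 0 := by ext; simp
    rw [this, LinearMap.lTensor_zero, LinearMap.zero_apply]
  obtain ⟨a, b, hab⟩ := hm'.exists_pair_ne
  exact hab ((key a).trans (key b).symm)

/-- Step 2: a surjective linear map between vector spaces of the same finite rank is injective. -/
theorem injective_of_rank_eq {K V W : Type u} [Field K] [AddCommGroup V] [Module K V]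
    [AddCommGroup W] [Module K W] [Module.Finite K W] (g : V →ₗ[K] W)
    (hg : Function.Surjective g) (hr : Module.rank K V = Module.rank K W) :
    Function.Injective g := by
  have : Module.Finite K V := by
    rw [← Module.rank_lt_aleph0_iff, hr, Module.rank_lt_aleph0_iff]; infer_instance
  have hfr : Module.finrank K V = Module.finrank K W := by
    unfold Module.finrank; rw [hr]
  exact (LinearMap.injective_iff_surjective_of_finrank_eq_finrank hfr).mpr hg


/-- kernel of a surjection from a finite type algebra to a finitely presented algebra is f.g. -/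
theorem ker_fg_of_finiteType {R A B : Type u} [CommRing R] [CommRing A] [CommRing B] [Algebra R A]
    [Algebra R B] [Algebra.FiniteType R B] [Algebra.FinitePresentation R A] (f : B →ₐ[R] A)
    (hf : Function.Surjective f) : (RingHom.ker f.toRingHom).FG := by
  obtain ⟨n, g, hg⟩ := Algebra.FiniteType.iff_quotient_mvPolynomial''.mp
    (inferInstance : Algebra.FiniteType R B)
  convert! (Algebra.FinitePresentation.ker_fg_of_mvPolynomial (f.comp g) (hf.comp hg)).map
    g.toRingHom
  simp_rw [RingHom.ker_eq_comap_bot, AlgHom.toRingHom_eq_coe, AlgHom.comp_toRingHom]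
  rw [← Ideal.comap_comap, Ideal.map_comap_of_surjective (g : MvPolynomial (Fin n) R →+* B) hg]

theorem mem_smul_top_of_tmul_eq_zero {R M : Type u} [CommRing R] [AddCommGroup M] [Module R M]
    (I : Ideal R) (x : M) (h : (1 : R ⧸ I) ⊗ₜ[R] x = 0) : x ∈ I • (⊤ : Submodule R M) := by
  have h3 := congrArg (TensorProduct.quotTensorEquivQuotSMul M I) h
  have h4 : (1 : R ⧸ I) = Ideal.Quotient.mk I 1 := rfl
  rw [h4, TensorProduct.quotTensorEquivQuotSMul_mk_tmul, map_zero, one_smul,
    Submodule.Quotient.mk_eq_zero] at h3
  exact h3

/-- Step 3 (local statement). -/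
theorem local_key {R' A' B' : Type u} [CommRing R'] [IsLocalRing R'] [CommRing A'] [CommRing B']
    [Algebra R' A'] [Algebra R' B'] [Module.Finite R' A'] [Module.Flat R' A']
    [Algebra.FiniteType R' B'] (f' : B' →ₐ[R'] A') (hf' : Function.Surjective f')
    (hinj : Function.Injective
      (LinearMap.lTensor (IsLocalRing.ResidueField R') f'.toLinearMap)) :
    ∃ b' : B', b' - 1 ∈ (IsLocalRing.maximalIdeal R').map (algebraMap R' B') ∧
      ∀ x, f' x = 0 → b' * x = 0 := by
  have : Module.Free R' A' := Module.free_of_flat_of_isLocalRing
  have : Module.FinitePresentation R' A' := Module.finitePresentation_of_projective R' A'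
  have hfg : (RingHom.ker f'.toRingHom).FG := ker_fg_of_finiteType f' hf'
  have hsub : (IsLocalRing.maximalIdeal R') • LinearMap.ker f'.toLinearMap ≤
      (((IsLocalRing.maximalIdeal R').map (algebraMap R' B')) •
        RingHom.ker f'.toRingHom).restrictScalars R' := by
    rw [Submodule.smul_le]
    intro r hr y hy
    have hy0 : f' y = 0 := hy
    have hy' : y ∈ RingHom.ker f'.toRingHom := hy0
    rw [Submodule.restrictScalars_mem, ← algebraMap_smul B' r y]
    exact Submodule.smul_mem_smul (Ideal.mem_map_of_mem (algebraMap R' B') hr) hy'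
  have hle : RingHom.ker f'.toRingHom ≤
      ((IsLocalRing.maximalIdeal R').map (algebraMap R' B')) • RingHom.ker f'.toRingHom := by
    intro x hx
    have hx0 : f' x = 0 := hx
    have h1 : x ∈ (IsLocalRing.maximalIdeal R') • (⊤ : Submodule R' B') := by
      have h2 : (1 : IsLocalRing.ResidueField R') ⊗ₜ[R'] x = 0 := by
        apply hinj
        rw [map_zero, LinearMap.lTensor_tmul]
        have : f'.toLinearMap x = 0 := hx0
        rw [this, TensorProduct.tmul_zero]
      exact mem_smul_top_of_tmul_eq_zero (IsLocalRing.maximalIdeal R') x h2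
    exact hsub (Groth.Agent.Lib.Helper61.NodeIso.mem_smul_ker_of_flat f'.toLinearMap hf' _ x hx0 h1)
  obtain ⟨r, hr1, hr2⟩ :=
    Submodule.exists_sub_one_mem_and_smul_eq_zero_of_fg_of_le_smul _ _ hfg hle
  exact ⟨r, hr1, fun x hx => hr2 x hx⟩


/-- Compatibility of `cancelBaseChange` with `lTensor`, elementwise. -/
theorem cancel_lTensor {R R' κ A B : Type u} [CommRing R] [CommRing R'] [Algebra R R'] [Field κ]
    [Algebra R κ] [Algebra R' κ] [IsScalarTower R R' κ]
    [CommRing A] [CommRing B] [Algebra R A] [Algebra R B] (f : B →ₐ[R] A)
    (z : κ ⊗[R'] (R' ⊗[R] B)) :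
    (AlgebraTensorModule.cancelBaseChange R R' κ κ A)
      (LinearMap.lTensor κ (Algebra.TensorProduct.map (AlgHom.id R' R') f).toLinearMap z) =
    LinearMap.lTensor κ f.toLinearMap ((AlgebraTensorModule.cancelBaseChange R R' κ κ B) z) := by
  induction z using TensorProduct.induction_on with
  | zero => simp
  | add a b ha hb => simp only [map_add, ha, hb]
  | tmul k w =>
    induction w using TensorProduct.induction_on with
    | zero => simp
    | add a b ha hb => simp only [TensorProduct.tmul_add, map_add, ha, hb]
    | tmul r b => simp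

/-- Step 4: injectivity. -/
theorem injective_main {R A B : Type u} [CommRing R] [CommRing A] [CommRing B] [Algebra R A]
    [Algebra R B] [Module.Finite R A] [Module.Flat R A] [Algebra.FiniteType R B]
    (f : B →ₐ[R] A) (hf : Function.Surjective f)
    (hinj : ∀ (p : Ideal R) [p.IsPrime],
      Function.Injective (LinearMap.lTensor p.ResidueField f.toLinearMap)) :
    Function.Injective f := by
  rw [injective_iff_map_eq_zero]
  intro x hx
  by_contra hx0
  have hne : Ideal.torsionOf B B x ≠ ⊤ := by
    intro h
    have h1 : (1 : B) ∈ Ideal.torsionOf B B x := h ▸ Submodule.mem_top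
    rw [Ideal.mem_torsionOf_iff, one_smul] at h1
    exact hx0 h1
  obtain ⟨n, hn, hle⟩ := Ideal.exists_le_maximal _ hne
  have : n.IsPrime := hn.isPrime
  let p : Ideal R := n.comap (algebraMap R B)
  have : p.IsPrime := Ideal.comap_isPrime _ _
  let R' := Localization.AtPrime p
  let Bn := Localization.AtPrime n
  let f' : R' ⊗[R] B →ₐ[R'] R' ⊗[R] A := Algebra.TensorProduct.map (AlgHom.id R' R') f
  have hf' : Function.Surjective f' := by
    have : (f' : R' ⊗[R] B → R' ⊗[R] A) = LinearMap.lTensor R' f.toLinearMap := by
      ext z
      induction z using TensorProduct.induction_on with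
      | zero => simp
      | add a b ha hb => simp only [map_add, ha, hb]
      | tmul r b => simp [f']
    rw [this]
    exact LinearMap.lTensor_surjective R' hf
  have hinj' : Function.Injective
      (LinearMap.lTensor (IsLocalRing.ResidueField R') f'.toLinearMap) := by
    rw [injective_iff_map_eq_zero]
    intro z hz
    have h1 := cancel_lTensor (R := R) (R' := R') (κ := p.ResidueField) f z
    rw [show LinearMap.lTensor p.ResidueField
        (Algebra.TensorProduct.map (AlgHom.id R' R') f).toLinearMap z = 0 from hz, map_zero] at h1
    have h2 := hinj p (h1.symm.trans (map_zero _).symm)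
    exact (AlgebraTensorModule.cancelBaseChange R R' p.ResidueField p.ResidueField B).injective
      (h2.trans (map_zero _).symm)
  obtain ⟨b', hb'1, hb'2⟩ := local_key f' hf' hinj'
  -- the map to the local ring of `B` at `n`
  let φ : R' →ₐ[R] Bn :=
    { Localization.localRingHom p n (algebraMap R B) rfl with
      commutes' := fun r => by
        change Localization.localRingHom p n (algebraMap R B) rfl (algebraMap R R' r) = _
        rw [Localization.localRingHom_to_map]
        exact (IsScalarTower.algebraMap_apply R B Bn r).symm }
  have hφ : ∀ r' ∈ IsLocalRing.maximalIdeal R', φ r' ∈ IsLocalRing.maximalIdeal Bn := by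
    intro r' hr'
    exact map_nonunit (Localization.localRingHom p n (algebraMap R B) rfl) r' hr'
  let θ : R' ⊗[R] B →ₐ[R] Bn :=
    Algebra.TensorProduct.lift φ (IsScalarTower.toAlgHom R B Bn) (fun _ _ => Commute.all _ _)
  have hθ1 : θ (1 ⊗ₜ x) = algebraMap B Bn x := by simp [θ]
  have hθI : (IsLocalRing.maximalIdeal R').map (algebraMap R' (R' ⊗[R] B)) ≤
      (IsLocalRing.maximalIdeal Bn).comap θ := by
    rw [Ideal.map_le_iff_le_comap]
    intro r' hr'
    rw [Ideal.mem_comap, Ideal.mem_comap, Algebra.TensorProduct.algebraMap_apply]
    simpa [θ] using hφ r' hr'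
  have hunit : IsUnit (θ b') := by
    rw [← IsLocalRing.notMem_maximalIdeal]
    intro hmem
    have h1 : θ (b' - 1) ∈ IsLocalRing.maximalIdeal Bn := hθI hb'1
    have h2 : (1 : Bn) ∈ IsLocalRing.maximalIdeal Bn := by
      have : (1 : Bn) = θ b' - θ (b' - 1) := by rw [map_sub, map_one]; ring
      rw [this]
      exact sub_mem hmem h1
    exact (Ideal.ne_top_iff_one _).mp (IsLocalRing.maximalIdeal.isMaximal Bn).ne_top h2
  have h0 : θ b' * θ (1 ⊗ₜ x) = 0 := by
    rw [← map_mul, hb'2 _ (by simp [f', hx]), map_zero]
  have h3 : algebraMap B Bn x = 0 := by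
    rw [← hθ1]
    exact (hunit.mul_right_eq_zero).mp h0
  obtain ⟨t, ht⟩ := (IsLocalization.map_eq_zero_iff n.primeCompl Bn x).mp h3
  exact t.2 (hle ((Ideal.mem_torsionOf_iff x _).mpr ht))

end Groth.Agent.S13632

namespace Groth.Agent.S13632

/-- Let S = Spec R, X = Spec A finite and flat over S, Y = Spec B of finite type over S, and φ : X → Y
an S-morphism given by f : B → A. If for every point s of S the fibres X_s and Y_s have the same
order (the κ(s)-dimension of their rings of global sections κ(s) ⊗ A and κ(s) ⊗ B; equivalently at
every geometric point) and φ is an isomorphism over every closed point of S (κ(m) ⊗ f bijective for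
every maximal ideal m), then φ is an isomorphism, i.e. f is bijective. (The published statement
allows an arbitrary base scheme S and Y separated of finite type over S; this row is the case of an
affine base with X and Y affine, the case its proof treats directly. Over a base with no closed
points the general statement fails: the hypothesis at closed points is then empty.) -/
theorem result
    {R A B : Type u} [CommRing R] [CommRing A] [CommRing B] [Algebra R A] [Algebra R B]
    [Module.Finite R A] [Module.Flat R A] [Algebra.FiniteType R B]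
    (f : B →ₐ[R] A)
    (hrank : ∀ p : PrimeSpectrum R,
      Module.rank p.asIdeal.ResidueField (p.asIdeal.ResidueField ⊗[R] B) =
        Module.rank p.asIdeal.ResidueField (p.asIdeal.ResidueField ⊗[R] A))
    (hmax : ∀ (m : Ideal R) [m.IsMaximal],
      Function.Bijective (LinearMap.lTensor m.ResidueField f.toLinearMap)) :
    Function.Bijective f := by
  have hsurj : Function.Surjective f :=
    surjective_of_residue f.toLinearMap (fun m _ => (hmax m).2)
  refine ⟨injective_main f hsurj ?_, hsurj⟩
  intro p _
  have h := injective_of_rank_eq (LinearMap.baseChange p.ResidueField f.toLinearMap)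
    (by rw [LinearMap.baseChange_eq_ltensor]; exact LinearMap.lTensor_surjective _ hsurj)
    (hrank ⟨p, inferInstance⟩)
  rwa [LinearMap.baseChange_eq_ltensor] at h

end Groth.Agent.S13632
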