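import Groth.Statements.S13634
import Mathlib

set_option autoImplicit false
universe u
open CategoryTheory CategoryTheory.Limits MonoidalCategory CartesianMonoidalCategory MonObj AlgebraicGeometry
open MultSch

namespace Groth.Agent.S13634

section Cat
variable {C : Type*} [Category C] [CartesianMonoidalCategory C]

lemma comp_tuple {M T T' : C} (f : T' ⟶ T) : ∀ {n : ℕ} (x : Fin n → (T ⟶ M)),
    f ≫ MultSch.tuple x = MultSch.tuple (fun l => f ≫ x l)
  | 0, _ => toUnit_unique _ _
  | n + 1, x => by
    show f ≫ (lift (x 0) (MultSch.tuple fun i => x i.succ) : T ⟶ M ⊗ MultSch.pow M n) =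
      (lift (f ≫ x 0) (MultSch.tuple fun i => f ≫ x i.succ) : T' ⟶ M ⊗ MultSch.pow M n)
    rw [← comp_tuple f (fun i => x i.succ)]
    exact comp_lift f _ _

end Cat

/-- finite intersections of covering sieves are covering -/
lemma exists_covering_le {C : Type*} [Category C] (J : GrothendieckTopology C) {T : C} :
    ∀ {n : ℕ} (R : Fin n → Sieve T), (∀ l, R l ∈ J T) →
      ∃ R' : Sieve T, R' ∈ J T ∧ ∀ ⦃Y : C⦄ (f : Y ⟶ T), R' f → ∀ l, R l f
  | 0, _, _ => ⟨⊤, J.top_mem T, fun _ _ _ l => Fin.elim0 l⟩
  | n + 1, R, hR => by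
    obtain ⟨R'', h1, h2⟩ := exists_covering_le J (fun l : Fin n => R l.succ) (fun l => hR _)
    refine ⟨R 0 ⊓ R'', J.intersection_covering (hR 0) h1, fun Y f hf l => ?_⟩
    refine Fin.cases ?_ (fun l' => ?_) l
    · exact hf.1
    · exact h2 f hf.2 l'


/-- Let π : M → M'' be a homomorphism of commutative group schemes over a scheme S which is an
epimorphism of fppf sheaves, H a commutative group scheme over S and φ : (M'')^r → H a multilinear
morphism. If the composite of φ with π^r : M^r → (M'')^r is alternating, then φ is alternating. (The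
published statement is for module schemes over a ring R and an R-multilinear φ; the ring action
plays no role, so this row states it for commutative group schemes, which contains that case.) -/
theorem result
    {S : Scheme.{u}} {M M'' H : Over S}
    [GrpObj M] [IsCommMonObj M] [GrpObj M''] [IsCommMonObj M''] [GrpObj H] [IsCommMonObj H]
    (π : M ⟶ M'') [IsMonHom π] (hπ : Epi (CGrpSh.ptsMap Scheme.fppfPrecoverage π))
    {r : ℕ} (φ : MultSch.pow M'' r ⟶ H) (hφ : MultSch.IsMultilinear φ)
    (halt : ∀ (T : Over S) (x : Fin r → (T ⟶ M)) (i j : Fin r), i ≠ j → x i = x j →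
      MultSch.tuple (fun l => x l ≫ π) ≫ φ = 1) :
    MultSch.IsAlternating φ := by
  classical
  intro T x i j hij hxij
  have hls : Sheaf.IsLocallySurjective (CGrpSh.ptsMap Scheme.fppfPrecoverage π) :=
    (Sheaf.isLocallySurjective_iff_epi' AddCommGrpCat.{u+1} _).2 hπ
  -- the sieves on which each coordinate lifts
  let R : Fin r → Sieve T := fun l => Presheaf.imageSieve
    (CGrpSh.ptsMap Scheme.fppfPrecoverage π).hom
    (ULift.up (Additive.ofMul (x l)) : (CGrpSh.pts Scheme.fppfPrecoverage M'').obj.obj (Opposite.op T))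
  have hR : ∀ l, R l ∈ QuotSh.J Scheme.fppfPrecoverage S T := fun l => hls.imageSieve_mem _
  obtain ⟨R', hR', hle⟩ := exists_covering_le (QuotSh.J Scheme.fppfPrecoverage S) R hR
  have hsh : Presieve.IsSheaf (QuotSh.J Scheme.fppfPrecoverage S) (yoneda.obj H) :=
    GrothendieckTopology.Subcanonical.isSheaf_of_isRepresentable
      (J := QuotSh.J Scheme.fppfPrecoverage S) (yoneda.obj H)
  have hsep := (hsh R' hR').isSeparatedFor
  refine hsep.ext fun Y f hf => ?_
  show f ≫ (MultSch.tuple x ≫ φ) = f ≫ 1
  rw [MonObj.comp_one, ← Category.assoc, comp_tuple]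
  -- lifts of the coordinates
  have hlift : ∀ l, ∃ y : Y ⟶ M, y ≫ π = f ≫ x l := by
    intro l
    obtain ⟨t, ht⟩ := hle f hf l
    refine ⟨t.down.toMul, ?_⟩
    have := congrArg ULift.down ht
    exact Additive.ofMul.injective this
  choose y hy using hlift
  let y' : Fin r → (Y ⟶ M) := Function.update y j (y i)
  have hy' : ∀ l, y' l ≫ π = f ≫ x l := by
    intro l
    by_cases hl : l = j
    · subst hl
      simp only [y', Function.update_self]
      rw [hy i, hxij]
    · simp only [y', Function.update_of_ne hl]
      exact hy l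
  have h1 : (fun l => f ≫ x l) = fun l => y' l ≫ π := funext fun l => (hy' l).symm
  rw [h1]
  refine halt Y y' i j hij ?_
  simp only [y', Function.update_self, Function.update_of_ne hij]

end Groth.Agent.S13634
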