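import Groth.Statements.S13636
import Mathlib
import Groth.Agent.Lib.Helper54.SheafExactLift

set_option autoImplicit false
universe u w
open CategoryTheory CategoryTheory.Limits MonoidalCategory CartesianMonoidalCategory MonObj AlgebraicGeometry
open MultSch

namespace Groth.Agent.S13636

variable {S : Scheme.{u}}

local notation "JJ" => QuotSh.J Scheme.fppfPrecoverage S

/-- local lifting along an fppf-epimorphism of commutative group schemes -/
lemma exists_local_lift_of_epi {M M'' : Over S} [GrpObj M] [IsCommMonObj M] [GrpObj M'']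
    [IsCommMonObj M''] (π : M ⟶ M'') [IsMonHom π]
    (hepi : Epi (CGrpSh.ptsMap Scheme.fppfPrecoverage π)) {Y : Over S} (y : Y ⟶ M'') :
    ∃ R : Sieve Y, R ∈ JJ Y ∧ ∀ ⦃Z : Over S⦄ (f : Z ⟶ Y), R f → ∃ x : Z ⟶ M, x ≫ π = f ≫ y := by
  have hls : Sheaf.IsLocallySurjective (CGrpSh.ptsMap Scheme.fppfPrecoverage π) :=
    (Sheaf.isLocallySurjective_iff_epi' AddCommGrpCat.{u+1} _).2 hepi
  refine ⟨_, hls.imageSieve_mem (ULift.up (Additive.ofMul y) :
    (CGrpSh.pts Scheme.fppfPrecoverage M'').obj.obj (Opposite.op Y)), fun Z f hf => ?_⟩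
  obtain ⟨t, ht⟩ := hf
  refine ⟨t.down.toMul, ?_⟩
  have := congrArg ULift.down ht
  exact Additive.ofMul.injective this

/-- local lifting to the kernel term in an fppf-exact sequence of commutative group schemes -/
lemma exists_local_lift_of_exact {M' M M'' : Over S} [GrpObj M'] [IsCommMonObj M'] [GrpObj M]
    [IsCommMonObj M] [GrpObj M''] [IsCommMonObj M''] (j : M' ⟶ M) (π : M ⟶ M'') [IsMonHom j]
    [IsMonHom π] (w : j ≫ π = 1) (hex : (CGrpSh.seq Scheme.fppfPrecoverage j π w).Exact)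
    {Y : Over S} (y : Y ⟶ M) (hy : y ≫ π = 1) :
    ∃ R : Sieve Y, R ∈ JJ Y ∧ ∀ ⦃Z : Over S⦄ (f : Z ⟶ Y), R f → ∃ x : Z ⟶ M', x ≫ j = f ≫ y := by
  obtain ⟨R, hR, h⟩ := Groth.Agent.Lib.Helper54.SheafExactLift.exists_local_lift hex
    (Y := Y) (ULift.up (Additive.ofMul y)) (by
      apply ULift.ext
      change Additive.ofMul (y ≫ π) = 0
      rw [hy]
      rfl)
  refine ⟨R, hR, fun Z f hf => ?_⟩
  obtain ⟨t, ht⟩ := h f hf
  refine ⟨t.down.toMul, ?_⟩
  have := congrArg ULift.down ht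
  exact Additive.ofMul.injective this

/-- representable presheaves are separated for the fppf topology -/
lemma sep (N : Over S) {Y : Over S} (a b : Y ⟶ N) (R : Sieve Y) (hR : R ∈ JJ Y)
    (h : ∀ ⦃Z : Over S⦄ (f : Z ⟶ Y), R f → f ≫ a = f ≫ b) : a = b := by
  have hsh : Presieve.IsSheaf JJ (yoneda.obj N) :=
    GrothendieckTopology.Subcanonical.isSheaf_of_isRepresentable (J := JJ) (yoneda.obj N)
  exact (hsh R hR).isSeparatedFor.ext fun Z f hf => h f hf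

section Main

variable {R : Type w} [CommRing R] {P Q M' M M'' N : Over S}
    [GrpObj M'] [IsCommMonObj M'] [GrpObj M] [IsCommMonObj M] [GrpObj M''] [IsCommMonObj M'']
    [GrpObj N] [IsCommMonObj N]
    (j : M' ⟶ M) (π : M ⟶ M'') [IsMonHom j] [IsMonHom π]
    (w : j ≫ π = 1) (hex : (CGrpSh.seq Scheme.fppfPrecoverage j π w).Exact)
    (hepi : Epi (CGrpSh.ptsMap Scheme.fppfPrecoverage π))
    (ψ : P ⊗ (M ⊗ Q) ⟶ N)
    (hadd : ∀ (T : Over S) (p : T ⟶ P) (q : T ⟶ Q) (y z : T ⟶ M),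
      lift p (lift (y * z) q) ≫ ψ = (lift p (lift y q) ≫ ψ) * (lift p (lift z q) ≫ ψ))
    (hvan : ∀ (T : Over S) (p : T ⟶ P) (q : T ⟶ Q) (y' : T ⟶ M'), lift p (lift (y' ≫ j) q) ≫ ψ = 1)

omit [IsCommMonObj M] [IsCommMonObj M''] [GrpObj M] [GrpObj M''] [IsMonHom π] in
lemma lift_comp_e {T : Over S} (p : T ⟶ P) (y : T ⟶ M) (q : T ⟶ Q) :
    lift p (lift y q) ≫ (P ◁ (π ▷ Q)) = lift p (lift (y ≫ π) q) := by
  simp

lemma eta {A B D : Over S} {T : Over S} (g : T ⟶ A ⊗ (B ⊗ D)) :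
    g = lift (g ≫ fst _ _) (lift (g ≫ snd _ _ ≫ fst _ _) (g ≫ snd _ _ ≫ snd _ _)) := by
  apply CartesianMonoidalCategory.hom_ext
  · simp
  · apply CartesianMonoidalCategory.hom_ext <;> simp

include hex hadd hvan in
/-- Step A: `ψ` is constant on the fibres of `id × π × id`. -/
lemma key {Y : Over S} (p : Y ⟶ P) (q : Y ⟶ Q) (y₁ y₂ : Y ⟶ M) (h : y₁ ≫ π = y₂ ≫ π) :
    lift p (lift y₁ q) ≫ ψ = lift p (lift y₂ q) ≫ ψ := by
  have hd : (y₁ / y₂) ≫ π = 1 := by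
    rw [GrpObj.div_comp, h, div_self']
  obtain ⟨R, hR, hl⟩ := exists_local_lift_of_exact j π w hex (y₁ / y₂) hd
  refine sep N _ _ R hR fun Z f hf => ?_
  obtain ⟨x, hx⟩ := hl f hf
  have e1 : f ≫ y₁ = (x ≫ j) * (f ≫ y₂) := by
    rw [hx, GrpObj.comp_div, div_mul_cancel]
  rw [← Category.assoc, ← Category.assoc, comp_lift, comp_lift, comp_lift, comp_lift, e1, hadd,
    hvan, _root_.one_mul]

end Main


/-- Let M' → M → M'' → 0 be a sequence of R-module schemes over a scheme S, with R-linear homomorphisms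
j and π, exact as fppf sheaves, and let ψ : P × M × Q → N be a morphism to an R-module scheme N
which is additive and R-linear in the coordinate M (on T-valued points) and trivial on all points
whose M-coordinate lies in the image of j. Then ψ = ψ' ∘ (id × π × id) for a unique morphism ψ' : P
× M'' × Q → N, and ψ' is additive and R-linear in the coordinate M''. (The published statement has a
product M₁ × ⋯ × M_r of R-module schemes with the exact sequence in the i-th factor and ψ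
R-multilinear; here the factors before and after the i-th are collected into single S-schemes P and
Q, and only linearity in the i-th coordinate, the one the statement is about, is carried; linearity
in the other coordinates passes between ψ and ψ' formally.) -/
theorem result
    {S : Scheme.{u}} {R : Type w} [CommRing R] {P Q M' M M'' N : Over S}
    [GrpObj M'] [IsCommMonObj M'] [GrpObj M] [IsCommMonObj M] [GrpObj M''] [IsCommMonObj M'']
    [GrpObj N] [IsCommMonObj N]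
    (ρ' : MultSch.RMod R M') (ρ : MultSch.RMod R M) (ρ'' : MultSch.RMod R M'') (ρN : MultSch.RMod R N)
    (j : M' ⟶ M) (π : M ⟶ M'') [IsMonHom j] [IsMonHom π]
    (hj : ∀ a : R, j ≫ ρ.act a = ρ'.act a ≫ j) (hπ : ∀ a : R, π ≫ ρ''.act a = ρ.act a ≫ π)
    (w : j ≫ π = 1) (hex : (CGrpSh.seq Scheme.fppfPrecoverage j π w).Exact)
    (hepi : Epi (CGrpSh.ptsMap Scheme.fppfPrecoverage π))
    (ψ : P ⊗ (M ⊗ Q) ⟶ N)
    (hadd : ∀ (T : Over S) (p : T ⟶ P) (q : T ⟶ Q) (y z : T ⟶ M),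
      lift p (lift (y * z) q) ≫ ψ = (lift p (lift y q) ≫ ψ) * (lift p (lift z q) ≫ ψ))
    (hlin : ∀ (T : Over S) (p : T ⟶ P) (q : T ⟶ Q) (y : T ⟶ M) (a : R),
      lift p (lift (y ≫ ρ.act a) q) ≫ ψ = (lift p (lift y q) ≫ ψ) ≫ ρN.act a)
    (hvan : ∀ (T : Over S) (p : T ⟶ P) (q : T ⟶ Q) (y' : T ⟶ M'), lift p (lift (y' ≫ j) q) ≫ ψ = 1) :
    ∃ ψ' : P ⊗ (M'' ⊗ Q) ⟶ N,
      (P ◁ (π ▷ Q)) ≫ ψ' = ψ ∧
      (∀ (T : Over S) (p : T ⟶ P) (q : T ⟶ Q) (y z : T ⟶ M''),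
        lift p (lift (y * z) q) ≫ ψ' = (lift p (lift y q) ≫ ψ') * (lift p (lift z q) ≫ ψ')) ∧
      (∀ (T : Over S) (p : T ⟶ P) (q : T ⟶ Q) (y : T ⟶ M'') (a : R),
        lift p (lift (y ≫ ρ''.act a) q) ≫ ψ' = (lift p (lift y q) ≫ ψ') ≫ ρN.act a) ∧
      ∀ ψ'' : P ⊗ (M'' ⊗ Q) ⟶ N, (P ◁ (π ▷ Q)) ≫ ψ'' = ψ → ψ'' = ψ' := by
  classical
  let e : P ⊗ (M ⊗ Q) ⟶ P ⊗ (M'' ⊗ Q) := P ◁ (π ▷ Q)
  have keyG : ∀ {Y : Over S} (g₁ g₂ : Y ⟶ P ⊗ (M ⊗ Q)), g₁ ≫ e = g₂ ≫ e →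
      g₁ ≫ ψ = g₂ ≫ ψ := by
    intro Y g₁ g₂ h
    have h1 := congrArg (fun m => m ≫ fst _ _) h
    have h2 := congrArg (fun m => m ≫ snd _ _ ≫ fst _ _) h
    have h3 := congrArg (fun m => m ≫ snd _ _ ≫ snd _ _) h
    simp only [e, Category.assoc, whiskerLeft_fst, whiskerLeft_snd_assoc, whiskerRight_fst,
      whiskerRight_snd] at h1 h2 h3
    have E1 := eta g₁
    have E2 := eta g₂
    rw [E1, E2, h1, h3]
    exact key j π w hex ψ hadd hvan _ _ _ _ (by simpa only [Category.assoc] using h2)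
  let RZ : Sieve (P ⊗ (M'' ⊗ Q)) :=
    { arrows := fun Y f => ∃ g : Y ⟶ P ⊗ (M ⊗ Q), g ≫ e = f
      downward_closed := by
        rintro Y Y' f ⟨g, rfl⟩ h
        exact ⟨h ≫ g, Category.assoc _ _ _⟩ }
  have hRZ : RZ ∈ (QuotSh.J Scheme.fppfPrecoverage S) (P ⊗ (M'' ⊗ Q)) := by
    obtain ⟨R₁, hR₁, hl⟩ := exists_local_lift_of_epi π hepi (snd P (M'' ⊗ Q) ≫ fst M'' Q)
    refine (QuotSh.J Scheme.fppfPrecoverage S).superset_covering (fun Y f hf => ?_) hR₁
    obtain ⟨x, hx⟩ := hl f hf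
    refine ⟨lift (f ≫ fst _ _) (lift x (f ≫ snd _ _ ≫ snd _ _)), ?_⟩
    show _ ≫ (P ◁ (π ▷ Q)) = f
    rw [lift_comp_e, hx]
    exact (eta f).symm
  have hsh : Presieve.IsSheaf (QuotSh.J Scheme.fppfPrecoverage S) (yoneda.obj N) :=
    GrothendieckTopology.Subcanonical.isSheaf_of_isRepresentable (J := (QuotSh.J Scheme.fppfPrecoverage S)) (yoneda.obj N)
  let fam : Presieve.FamilyOfElements (yoneda.obj N) RZ.arrows := fun Y f hf => hf.choose ≫ ψ
  have hfam : fam.Compatible := by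
    intro Y₁ Y₂ W h₁ h₂ f₁ f₂ hf₁ hf₂ hcomm
    show h₁ ≫ (hf₁.choose ≫ ψ) = h₂ ≫ (hf₂.choose ≫ ψ)
    rw [← Category.assoc, ← Category.assoc]
    apply keyG
    rw [Category.assoc, Category.assoc, hf₁.choose_spec, hf₂.choose_spec, hcomm]
  let ψ' : P ⊗ (M'' ⊗ Q) ⟶ N := (hsh RZ hRZ).amalgamate fam hfam
  have hglue : ∀ {Y : Over S} (g : Y ⟶ P ⊗ (M ⊗ Q)), (g ≫ e) ≫ ψ' = g ≫ ψ := by
    intro Y g
    have hmem : RZ (g ≫ e) := ⟨g, rfl⟩
    have := (hsh RZ hRZ).valid_glue hfam (g ≫ e) hmem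
    refine this.trans ?_
    exact keyG _ _ hmem.choose_spec
  have hpt : ∀ {T : Over S} (p : T ⟶ P) (y : T ⟶ M) (q : T ⟶ Q),
      lift p (lift (y ≫ π) q) ≫ ψ' = lift p (lift y q) ≫ ψ := by
    intro T p y q
    rw [← lift_comp_e]
    exact hglue _
  refine ⟨ψ', ?_, ?_, ?_, ?_⟩
  · have := hglue (𝟙 _)
    simpa using this
  · intro T p q y z
    obtain ⟨Ry, hRy, hly⟩ := exists_local_lift_of_epi π hepi y
    obtain ⟨Rz, hRz, hlz⟩ := exists_local_lift_of_epi π hepi z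
    refine sep N _ _ (Ry ⊓ Rz) ((QuotSh.J Scheme.fppfPrecoverage S).intersection_covering hRy hRz) fun Z f hf => ?_
    obtain ⟨a, ha⟩ := hly f hf.1
    obtain ⟨b, hb⟩ := hlz f hf.2
    rw [MonObj.comp_mul, ← Category.assoc, ← Category.assoc, ← Category.assoc, comp_lift,
      comp_lift, comp_lift, comp_lift, comp_lift, comp_lift, MonObj.comp_mul, ← ha, ← hb,
      ← MonObj.mul_comp, hpt, hpt, hpt, hadd]
  · intro T p q y a
    obtain ⟨Ry, hRy, hly⟩ := exists_local_lift_of_epi π hepi y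
    refine sep N _ _ Ry hRy fun Z f hf => ?_
    obtain ⟨x, hx⟩ := hly f hf
    rw [← Category.assoc, ← Category.assoc, ← Category.assoc, comp_lift, comp_lift, comp_lift,
      comp_lift, ← Category.assoc, ← hx, Category.assoc, hπ, ← Category.assoc, hpt, hpt, hlin]
  · intro ψ'' h''
    refine sep N _ _ RZ hRZ fun Y f hf => ?_
    obtain ⟨g, rfl⟩ := hf
    rw [hglue, Category.assoc]
    show g ≫ (P ◁ (π ▷ Q)) ≫ ψ'' = g ≫ ψ
    rw [h'']

end Groth.Agent.S13636
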