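import Groth.Statements.S13635
import Mathlib
import Groth.Agent.S13634
import Groth.Agent.S13636

set_option autoImplicit false
universe u w
open CategoryTheory CategoryTheory.Limits MonoidalCategory CartesianMonoidalCategory MonObj AlgebraicGeometry
open MultSch

namespace Groth.Agent.S13635

section Cat
variable {C : Type*} [Category C] [CartesianMonoidalCategory C]

lemma tuple_inj {M T : C} : ∀ {n : ℕ} (x x' : Fin n → (T ⟶ M)),
    MultSch.tuple x = MultSch.tuple x' → x = x'
  | 0, _, _, _ => funext fun l => l.elim0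
  | n + 1, x, x', h => by
    have h' : (lift (x 0) (MultSch.tuple fun i => x i.succ) : T ⟶ M ⊗ MultSch.pow M n) =
      lift (x' 0) (MultSch.tuple fun i => x' i.succ) := h
    have h1 := congrArg (fun m => m ≫ fst _ _) h'
    have h2 := congrArg (fun m => m ≫ snd _ _) h'
    simp only [lift_fst, lift_snd] at h1 h2
    have h3 := tuple_inj _ _ h2
    funext l
    refine Fin.cases h1 (fun i => ?_) l
    exact congrFun h3 i

lemma tuple_surj {M T : C} : ∀ {n : ℕ} (g : T ⟶ MultSch.pow M n),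
    ∃ x : Fin n → (T ⟶ M), MultSch.tuple x = g
  | 0, g => by
    refine ⟨fun l => l.elim0, ?_⟩
    let g' : T ⟶ 𝟙_ C := g
    show (toUnit T : T ⟶ 𝟙_ C) = g'
    exact toUnit_unique _ _
  | n + 1, g => by
    let g' : T ⟶ M ⊗ MultSch.pow M n := g
    obtain ⟨x', hx'⟩ := tuple_surj (n := n) (g' ≫ snd M (MultSch.pow M n))
    refine ⟨Fin.cons (g' ≫ fst M (MultSch.pow M n)) x', ?_⟩
    show (lift ((Fin.cons (g' ≫ fst M (MultSch.pow M n)) x' : Fin (n + 1) → (T ⟶ M)) 0)
      (MultSch.tuple fun i => (Fin.cons (g' ≫ fst M (MultSch.pow M n)) x' :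
        Fin (n + 1) → (T ⟶ M)) i.succ) : T ⟶ M ⊗ MultSch.pow M n) = g'
    simp only [Fin.cons_zero, Fin.cons_succ]
    rw [hx']
    apply CartesianMonoidalCategory.hom_ext <;> simp

end Cat

section Alg

variable {S : Scheme.{u}} {M N : Over S} [GrpObj M] [GrpObj N] {n : ℕ}
  (φ : MultSch.pow M n ⟶ N) (hmult : MultSch.IsMultilinear φ) (halt : MultSch.IsAlternating φ)

omit [GrpObj M] in
lemma comp_update {T T' : Over S} (f : T' ⟶ T) (x : Fin n → (T ⟶ M)) (i : Fin n) (a : T ⟶ M) :
    (fun l => f ≫ Function.update x i a l) = Function.update (fun l => f ≫ x l) i (f ≫ a) := by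
  funext l
  by_cases h : l = i
  · subst h; simp
  · simp [Function.update_of_ne h]

omit [GrpObj M] in
lemma update_comp {T : Over S} {M' : Over S} (π : M ⟶ M') (x : Fin n → (T ⟶ M)) (i : Fin n)
    (a : T ⟶ M) :
    (fun l => Function.update x i a l ≫ π) = Function.update (fun l => x l ≫ π) i (a ≫ π) := by
  funext l
  by_cases h : l = i
  · subst h; simp
  · simp [Function.update_of_ne h]

include hmult halt in
/-- antisymmetry of an alternating multilinear morphism -/
lemma antisymm {T : Over S} (x : Fin n → (T ⟶ M)) (i k : Fin n) (hik : i ≠ k) :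
    (MultSch.tuple (Function.update (Function.update x k (x i)) i (x k)) ≫ φ) *
      (MultSch.tuple x ≫ φ) = 1 := by
  classical
  set a := x i with ha
  set b := x k with hb
  have h0 : MultSch.tuple (Function.update (Function.update x i (a * b)) k (a * b)) ≫ φ = 1 :=
    halt T _ i k hik (by simp [Function.update_of_ne hik])
  rw [hmult T (Function.update x i (a * b)) k a b,
    Function.update_comm hik (a * b) a x, Function.update_comm hik (a * b) b x,
    hmult T (Function.update x k a) i a b, hmult T (Function.update x k b) i a b] at h0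
  have h1 : MultSch.tuple (Function.update (Function.update x k a) i a) ≫ φ = 1 :=
    halt T _ i k hik (by simp [Function.update_of_ne hik.symm])
  have h2 : MultSch.tuple (Function.update (Function.update x k b) i b) ≫ φ = 1 :=
    halt T _ i k hik (by simp [Function.update_of_ne hik.symm])
  have h3 : Function.update (Function.update x k b) i a = x := by
    rw [hb, Function.update_eq_self, ha, Function.update_eq_self]
  rw [h1, h2, h3, _root_.one_mul, _root_.mul_one] at h0
  exact h0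

include hmult halt in
/-- vanishing in the first slot gives vanishing in every slot -/
lemma vanish_slot {M₁ : Over S} (j : M₁ ⟶ M) (hn : 1 ≤ n)
    (hvan : ∀ (T : Over S) (y : T ⟶ M₁) (x : Fin n → (T ⟶ M)), x ⟨0, hn⟩ = y ≫ j →
      MultSch.tuple x ≫ φ = 1)
    {T : Over S} (y : T ⟶ M₁) (x : Fin n → (T ⟶ M)) (i : Fin n) (hx : x i = y ≫ j) :
    MultSch.tuple x ≫ φ = 1 := by
  classical
  by_cases hi : i = ⟨0, hn⟩
  · subst hi
    exact hvan T y x hx
  · have h1 := antisymm φ hmult halt x i ⟨0, hn⟩ hi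
    have h2 : MultSch.tuple (Function.update (Function.update x ⟨0, hn⟩ (x i)) i (x ⟨0, hn⟩)) ≫ φ
        = 1 := by
      refine hvan T y _ ?_
      rw [Function.update_of_ne (Ne.symm hi), Function.update_self, hx]
    rw [h2, _root_.one_mul] at h1
    exact h1

end Alg

section Sh

variable {S : Scheme.{u}} {M₁ M₂ M₃ N : Over S}
    [GrpObj M₁] [IsCommMonObj M₁] [GrpObj M₂] [IsCommMonObj M₂] [GrpObj M₃] [IsCommMonObj M₃]
    [GrpObj N] [IsCommMonObj N]
    (j : M₁ ⟶ M₂) (π : M₂ ⟶ M₃) [IsMonHom j] [IsMonHom π]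
    (w : j ≫ π = 1) (hex : (CGrpSh.seq Scheme.fppfPrecoverage j π w).Exact)
    {n : ℕ} (hn : 1 ≤ n) (φ : MultSch.pow M₂ n ⟶ N)
    (hmult : MultSch.IsMultilinear φ) (halt : MultSch.IsAlternating φ)
    (hvan : ∀ (T : Over S) (y : T ⟶ M₁) (x : Fin n → (T ⟶ M₂)), x ⟨0, hn⟩ = y ≫ j →
      MultSch.tuple x ≫ φ = 1)

include hex hmult halt hvan in
lemma slot_key {Y : Over S} (x : Fin n → (Y ⟶ M₂)) (i : Fin n) (y z : Y ⟶ M₂)
    (h : y ≫ π = z ≫ π) :
    MultSch.tuple (Function.update x i y) ≫ φ = MultSch.tuple (Function.update x i z) ≫ φ := by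
  have hd : (y / z) ≫ π = 1 := by
    rw [GrpObj.div_comp, h, div_self']
  obtain ⟨R, hR, hl⟩ := Groth.Agent.S13636.exists_local_lift_of_exact j π w hex (y / z) hd
  refine Groth.Agent.S13636.sep N _ _ R hR fun Z f hf => ?_
  obtain ⟨t, ht⟩ := hl f hf
  have e1 : f ≫ y = (t ≫ j) * (f ≫ z) := by
    rw [ht, GrpObj.comp_div, div_mul_cancel]
  rw [← Category.assoc, ← Category.assoc, Groth.Agent.S13634.comp_tuple,
    Groth.Agent.S13634.comp_tuple, comp_update, comp_update, e1, hmult]
  rw [vanish_slot φ hmult halt j hn hvan t _ i (by rw [Function.update_self]), _root_.one_mul]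

include hex hmult halt hvan in
lemma hybrid {Y : Over S} (x x' : Fin n → (Y ⟶ M₂)) (h : ∀ l, x l ≫ π = x' l ≫ π) :
    ∀ k : ℕ, k ≤ n →
      MultSch.tuple (fun l : Fin n => if l.val < k then x' l else x l) ≫ φ = MultSch.tuple x ≫ φ
  | 0, _ => by simp
  | k + 1, hk => by
    classical
    have ih := hybrid x x' h k (Nat.le_of_succ_le hk)
    set hyb : Fin n → (Y ⟶ M₂) := fun l => if l.val < k then x' l else x l with hhyb
    have e1 : (fun l : Fin n => if l.val < k + 1 then x' l else x l) =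
        Function.update hyb ⟨k, hk⟩ (x' ⟨k, hk⟩) := by
      funext l
      by_cases hl : l = ⟨k, hk⟩
      · subst hl
        simp
      · rw [Function.update_of_ne hl]
        have : l.val ≠ k := fun e => hl (Fin.ext e)
        simp only [hhyb]
        by_cases h1 : l.val < k
        · simp [h1, Nat.lt_succ_of_lt h1]
        · have : ¬ l.val < k + 1 := by omega
          simp [h1, this]
    have e2 : hyb = Function.update hyb ⟨k, hk⟩ (x ⟨k, hk⟩) := by
      have : hyb ⟨k, hk⟩ = x ⟨k, hk⟩ := by simp [hhyb]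
      rw [← this, Function.update_eq_self]
    rw [e1, slot_key j π w hex hn φ hmult halt hvan hyb ⟨k, hk⟩ _ _ (h _).symm, ← e2, ih]

include hex hmult halt hvan in
lemma key {Y : Over S} (x x' : Fin n → (Y ⟶ M₂)) (h : ∀ l, x l ≫ π = x' l ≫ π) :
    MultSch.tuple x ≫ φ = MultSch.tuple x' ≫ φ := by
  have := hybrid j π w hex hn φ hmult halt hvan x x' h n le_rfl
  rw [← this]
  congr 2
  funext l
  simp [l.isLt]

end Sh


/-- Let M₁ → M₂ → M₃ → 0 be a sequence of R-module schemes over a scheme S, with R-linear homomorphisms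
j : M₁ → M₂ and π : M₂ → M₃, exact as a sequence of fppf sheaves. For n ≥ 1 and an R-module scheme
N, the sequence 0 → Alt(M₃^n, N) → Alt(M₂^n, N) → Alt(M₁ × M₂^(n-1), N) of R-multilinear alternating
morphisms is exact: an R-multilinear alternating φ : M₂^n → N which is trivial on all points with
first coordinate in the image of j is of the form φ' ∘ π^n for a unique morphism φ' : M₃^n → N
(unique among all morphisms), and this φ' is R-multilinear and alternating. -/
theorem result
    {S : Scheme.{u}} {R : Type w} [CommRing R] {M₁ M₂ M₃ N : Over S}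
    [GrpObj M₁] [IsCommMonObj M₁] [GrpObj M₂] [IsCommMonObj M₂] [GrpObj M₃] [IsCommMonObj M₃]
    [GrpObj N] [IsCommMonObj N]
    (ρ₁ : MultSch.RMod R M₁) (ρ₂ : MultSch.RMod R M₂) (ρ₃ : MultSch.RMod R M₃) (ρN : MultSch.RMod R N)
    (j : M₁ ⟶ M₂) (π : M₂ ⟶ M₃) [IsMonHom j] [IsMonHom π]
    (hj : ∀ a : R, j ≫ ρ₂.act a = ρ₁.act a ≫ j) (hπ : ∀ a : R, π ≫ ρ₃.act a = ρ₂.act a ≫ π)
    (w : j ≫ π = 1) (hex : (CGrpSh.seq Scheme.fppfPrecoverage j π w).Exact)
    (hepi : Epi (CGrpSh.ptsMap Scheme.fppfPrecoverage π))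
    {n : ℕ} (hn : 1 ≤ n) (φ : MultSch.pow M₂ n ⟶ N)
    (hmult : MultSch.IsMultilinear φ) (hlin : MultSch.IsRLinear ρ₂ ρN φ) (halt : MultSch.IsAlternating φ)
    (hvan : ∀ (T : Over S) (y : T ⟶ M₁) (x : Fin n → (T ⟶ M₂)), x ⟨0, hn⟩ = y ≫ j →
      MultSch.tuple x ≫ φ = 1) :
    ∃ φ' : MultSch.pow M₃ n ⟶ N,
      (∀ (T : Over S) (x : Fin n → (T ⟶ M₂)), MultSch.tuple x ≫ φ = MultSch.tuple (fun l => x l ≫ π) ≫ φ') ∧
      MultSch.IsMultilinear φ' ∧ MultSch.IsRLinear ρ₃ ρN φ' ∧ MultSch.IsAlternating φ' ∧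
      ∀ φ'' : MultSch.pow M₃ n ⟶ N,
        (∀ (T : Over S) (x : Fin n → (T ⟶ M₂)), MultSch.tuple x ≫ φ = MultSch.tuple (fun l => x l ≫ π) ≫ φ'') →
          φ'' = φ' := by
  classical
  have keyT : ∀ {Y : Over S} (x x' : Fin n → (Y ⟶ M₂)), (∀ l, x l ≫ π = x' l ≫ π) →
      MultSch.tuple x ≫ φ = MultSch.tuple x' ≫ φ :=
    fun x x' h => key j π w hex hn φ hmult halt hvan x x' h
  let RZ : Sieve (MultSch.pow M₃ n) :=
    { arrows := fun Y f => ∃ x : Fin n → (Y ⟶ M₂), MultSch.tuple (fun l => x l ≫ π) = f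
      downward_closed := by
        rintro Y Y' f ⟨x, rfl⟩ h
        refine ⟨fun l => h ≫ x l, ?_⟩
        rw [Groth.Agent.S13634.comp_tuple]
        congr 1 }
  have hRZ : RZ ∈ (QuotSh.J Scheme.fppfPrecoverage S) (MultSch.pow M₃ n) := by
    obtain ⟨c, hc⟩ := tuple_surj (𝟙 (MultSch.pow M₃ n))
    choose Rl hRl hl using fun l => Groth.Agent.S13636.exists_local_lift_of_epi π hepi (c l)
    obtain ⟨R', hR', hle⟩ := Groth.Agent.S13634.exists_covering_le
      (QuotSh.J Scheme.fppfPrecoverage S) Rl hRl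
    refine (QuotSh.J Scheme.fppfPrecoverage S).superset_covering (fun Y f hf => ?_) hR'
    choose x hx using fun l => hl l f (hle f hf l)
    refine ⟨x, ?_⟩
    have : (fun l => x l ≫ π) = fun l => f ≫ c l := funext hx
    rw [this, ← Groth.Agent.S13634.comp_tuple, hc, Category.comp_id]
  have hsh : Presieve.IsSheaf (QuotSh.J Scheme.fppfPrecoverage S) (yoneda.obj N) :=
    GrothendieckTopology.Subcanonical.isSheaf_of_isRepresentable
      (J := (QuotSh.J Scheme.fppfPrecoverage S)) (yoneda.obj N)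
  let fam : Presieve.FamilyOfElements (yoneda.obj N) RZ.arrows :=
    fun Y f hf => MultSch.tuple hf.choose ≫ φ
  have hfam : fam.Compatible := by
    intro Y₁ Y₂ W h₁ h₂ f₁ f₂ hf₁ hf₂ hcomm
    show h₁ ≫ (MultSch.tuple hf₁.choose ≫ φ) = h₂ ≫ (MultSch.tuple hf₂.choose ≫ φ)
    rw [← Category.assoc, ← Category.assoc, Groth.Agent.S13634.comp_tuple,
      Groth.Agent.S13634.comp_tuple]
    apply keyT
    have e : MultSch.tuple (fun l => (h₁ ≫ hf₁.choose l) ≫ π) =
        MultSch.tuple (fun l => (h₂ ≫ hf₂.choose l) ≫ π) := by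
      have a1 : (fun l => (h₁ ≫ hf₁.choose l) ≫ π) = fun l => h₁ ≫ (hf₁.choose l ≫ π) :=
        funext fun l => Category.assoc _ _ _
      have a2 : (fun l => (h₂ ≫ hf₂.choose l) ≫ π) = fun l => h₂ ≫ (hf₂.choose l ≫ π) :=
        funext fun l => Category.assoc _ _ _
      rw [a1, a2, ← Groth.Agent.S13634.comp_tuple, ← Groth.Agent.S13634.comp_tuple,
        hf₁.choose_spec, hf₂.choose_spec, hcomm]
    exact fun l => congrFun (tuple_inj _ _ e) l
  let φ' : MultSch.pow M₃ n ⟶ N := (hsh RZ hRZ).amalgamate fam hfam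
  have hglue : ∀ {Y : Over S} (x : Fin n → (Y ⟶ M₂)),
      MultSch.tuple (fun l => x l ≫ π) ≫ φ' = MultSch.tuple x ≫ φ := by
    intro Y x
    have hmem : RZ (MultSch.tuple (fun l => x l ≫ π)) := ⟨x, rfl⟩
    have := (hsh RZ hRZ).valid_glue hfam _ hmem
    refine this.trans ?_
    apply keyT
    exact fun l => congrFun (tuple_inj _ _ hmem.choose_spec) l
  have hmult' : MultSch.IsMultilinear φ' := by
    intro T x i y z
    choose Rl hRl hl using fun l => Groth.Agent.S13636.exists_local_lift_of_epi π hepi (x l)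
    obtain ⟨R', hR', hle⟩ := Groth.Agent.S13634.exists_covering_le
      (QuotSh.J Scheme.fppfPrecoverage S) Rl hRl
    obtain ⟨Ry, hRy, hly⟩ := Groth.Agent.S13636.exists_local_lift_of_epi π hepi y
    obtain ⟨Rz, hRz, hlz⟩ := Groth.Agent.S13636.exists_local_lift_of_epi π hepi z
    refine Groth.Agent.S13636.sep N _ _ (R' ⊓ (Ry ⊓ Rz))
      ((QuotSh.J Scheme.fppfPrecoverage S).intersection_covering hR'
        ((QuotSh.J Scheme.fppfPrecoverage S).intersection_covering hRy hRz)) fun Z f hf => ?_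
    choose xt hxt using fun l => hl l f (hle f hf.1 l)
    obtain ⟨a, ha⟩ := hly f hf.2.1
    obtain ⟨b, hb⟩ := hlz f hf.2.2
    have e0 : (fun l => f ≫ x l) = fun l => xt l ≫ π := funext fun l => (hxt l).symm
    rw [MonObj.comp_mul, ← Category.assoc, ← Category.assoc, ← Category.assoc,
      Groth.Agent.S13634.comp_tuple, Groth.Agent.S13634.comp_tuple,
      Groth.Agent.S13634.comp_tuple, comp_update, comp_update, comp_update, MonObj.comp_mul,
      ← ha, ← hb, ← MonObj.mul_comp, e0, ← update_comp, ← update_comp, ← update_comp, hglue,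
      hglue, hglue, hmult]
  have hlin' : MultSch.IsRLinear ρ₃ ρN φ' := by
    intro T x i a
    choose Rl hRl hl using fun l => Groth.Agent.S13636.exists_local_lift_of_epi π hepi (x l)
    obtain ⟨R', hR', hle⟩ := Groth.Agent.S13634.exists_covering_le
      (QuotSh.J Scheme.fppfPrecoverage S) Rl hRl
    refine Groth.Agent.S13636.sep N _ _ R' hR' fun Z f hf => ?_
    choose xt hxt using fun l => hl l f (hle f hf l)
    have e0 : (fun l => f ≫ x l) = fun l => xt l ≫ π := funext fun l => (hxt l).symm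
    have e1 : f ≫ x i ≫ ρ₃.act a = (xt i ≫ ρ₂.act a) ≫ π := by
      rw [← Category.assoc, ← hxt i, Category.assoc, hπ, Category.assoc]
    rw [← Category.assoc, ← Category.assoc, ← Category.assoc, Groth.Agent.S13634.comp_tuple,
      Groth.Agent.S13634.comp_tuple, comp_update, e1, e0, ← update_comp, hglue, hglue]
    exact hlin Z xt i a
  refine ⟨φ', fun T x => (hglue x).symm, hmult', hlin', ?_, ?_⟩
  · exact Groth.Agent.S13634.result π hepi φ' hmult' (fun T x i j hij hx => by
      rw [hglue]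
      exact halt T x i j hij hx)
  · intro φ'' h''
    refine Groth.Agent.S13636.sep N _ _ RZ hRZ fun Y f hf => ?_
    obtain ⟨x, rfl⟩ := hf
    rw [hglue, ← h'']

end Groth.Agent.S13635
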