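import Groth.Statements.S13642
import Mathlib

set_option autoImplicit false
set_option linter.style.haveILetI false
open CategoryTheory
universe u
open FSch

namespace Groth.Agent.S13642

open AlgebraicGeometry CategoryTheory.Limits TopologicalSpace Opposite
open FSch

/-- `resLE` onto the full preimage is finite when `f` is. -/
lemma isFinite_resLE {X Y : Scheme.{u}} (g : X ⟶ Y) [IsFinite g] (V : Y.Opens) (W : X.Opens)
    (e : W ≤ g ⁻¹ᵁ V) (he : g ⁻¹ᵁ V = W) : IsFinite (g.resLE V W e) := by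
  subst he
  have : g.resLE V (g ⁻¹ᵁ V) e = g ∣_ V := by
    simp [Scheme.Hom.resLE]
  rw [this]
  infer_instance


/-- Let f : 𝔛 ⟶ 𝔜 be a finite morphism of locally Noetherian formal schemes (adic, with finite morphism
of smallest levels). Then for every open U of 𝔜 the restriction f⁻¹(U) ⟶ U of f to the induced
formal schemes on U and on its inverse image is a finite morphism. -/
theorem result (𝔛 𝔜 : FSch.Sys.{u}) (h𝔛 : 𝔛.IsLocNoethFormal) (h𝔜 : 𝔜.IsLocNoethFormal)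
    (f : 𝔛 ⟶ 𝔜) (hf : FSch.IsFiniteHom f) (U : (𝔜.X 0).Opens) :
    FSch.IsFiniteHom (FSch.Hom.restrictOpen f h𝔛.1 h𝔜.1 U) := by
  obtain ⟨hadic, hfin⟩ := hf
  refine ⟨?_, ?_⟩
  · intro n
    have H := hadic n
    exact Scheme.Hom.isPullback_resLE H (US := 𝔜.lvU h𝔜.1 (n + 1) U) (UT := 𝔜.lvU h𝔜.1 n U)
      (UX := 𝔛.lvU h𝔛.1 (n + 1) ((f : Hom 𝔛 𝔜).app 0 ⁻¹ᵁ U))
      (𝔜.lvU_le h𝔜.1 n U) (Hom.lvU_preimage f h𝔛.1 h𝔜.1 (n + 1) U).ge
      (UY := 𝔛.lvU h𝔛.1 n ((f : Hom 𝔛 𝔜).app 0 ⁻¹ᵁ U)) (by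
        rw [Sys.lvU_succ, Hom.lvU_preimage f h𝔛.1 h𝔜.1 n U, inf_idem])
  · haveI := hfin
    exact isFinite_resLE _ _ _ _ (Hom.lvU_preimage f h𝔛.1 h𝔜.1 0 U)

end Groth.Agent.S13642
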