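import Groth.Statements.S13663
import Mathlib.RingTheory.Ideal.Operations

set_option autoImplicit false
universe u
open GrRing

set_option linter.unusedSectionVars false

namespace Groth.Agent.S13663Aux

open DirectSum

variable {R A : Type u} [CommRing R] [CommRing A] [Algebra R A]
  (𝒜 : ℤ → Submodule R A) [GradedAlgebra 𝒜]
  {p : ℕ} (f : Fin p → A) (deg : Fin p → ℤ)

include 𝒜 in
theorem expand (hf : ∀ i, f i ∈ 𝒜 (deg i))
    (hgen : Ideal.span {a : A | ∃ n : ℤ, 0 < n ∧ a ∈ 𝒜 n} = Ideal.span (Set.range f))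
    (n : ℤ) (hn : 0 < n) (c : A) (hc : c ∈ 𝒜 n) :
    ∃ b : Fin p → A, (∀ i, b i ∈ 𝒜 (n - deg i)) ∧ c = ∑ i, b i * f i := by
  have hc' : c ∈ Ideal.span (Set.range f) := by
    rw [← hgen]; exact Ideal.subset_span ⟨n, hn, hc⟩
  obtain ⟨g, hg⟩ := (Ideal.mem_span_range_iff_exists_fun).mp hc'
  refine ⟨fun i => (decompose 𝒜 (g i) (n - deg i) : A), fun i => SetLike.coe_mem _, ?_⟩
  have h1 : c = (decompose 𝒜 c n : A) := (decompose_of_mem_same 𝒜 hc).symm
  rw [h1, ← hg, decompose_sum, DFinsupp.finsetSum_apply, AddSubmonoidClass.coe_finsetSum]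
  refine Finset.sum_congr rfl fun i _ => ?_
  have := coe_decompose_mul_add_of_right_mem 𝒜 (a := g i) (i := n - deg i) (hf i)
  rwa [sub_add_cancel] at this


include 𝒜 in
theorem main (hdeg : ∀ i, 0 < deg i) (hf : ∀ i, f i ∈ 𝒜 (deg i))
    (hgen : Ideal.span {a : A | ∃ n : ℤ, 0 < n ∧ a ∈ 𝒜 n} = Ideal.span (Set.range f))
    (d : ℤ) (e : Fin p → ℕ) (he : ∀ i, (e i : ℤ) * deg i = d)
    (N : ℤ) (hN : d * p - ∑ i, deg i < N) :
    ∀ (k : ℕ) (α : Fin p → ℕ), (∀ i, α i < e i) → ∑ i, (e i - α i) = k →
      ∀ (n : ℤ), n + ∑ i, (α i : ℤ) * deg i = N → ∀ c ∈ 𝒜 n,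
        c * ∏ i, f i ^ α i ∈ 𝒜 d * 𝒜 (N - d) := by
  classical
  intro k
  induction k using Nat.strong_induction_on with
  | _ k ih =>
    intro α hα hk n hn c hc
    -- n > 0
    have hnpos : 0 < n := by
      have h1 : ∑ i, (α i : ℤ) * deg i ≤ ∑ i, ((e i : ℤ) - 1) * deg i := by
        refine Finset.sum_le_sum fun i _ => ?_
        have : (α i : ℤ) ≤ (e i : ℤ) - 1 := by have := hα i; omega
        exact mul_le_mul_of_nonneg_right this (hdeg i).le
      have h2 : ∑ i, ((e i : ℤ) - 1) * deg i = d * p - ∑ i, deg i := by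
        simp only [sub_mul, one_mul, Finset.sum_sub_distrib, he, Finset.sum_const, Finset.card_univ,
          Fintype.card_fin, nsmul_eq_mul]
        ring
      linarith
    obtain ⟨b, hb, rfl⟩ := expand 𝒜 f deg hf hgen n hnpos c hc
    rw [Finset.sum_mul]
    refine Submodule.sum_mem _ fun j _ => ?_
    -- split off the j-th factor
    have hprod : ∏ i, f i ^ α i = f j ^ α j * ∏ i ∈ Finset.univ.erase j, f i ^ α i :=
      (Finset.mul_prod_erase _ _ (Finset.mem_univ j)).symm
    have hsum : ∑ i, (α i : ℤ) * deg i = (α j : ℤ) * deg j + ∑ i ∈ Finset.univ.erase j, (α i : ℤ) * deg i :=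
      (Finset.add_sum_erase _ _ (Finset.mem_univ j)).symm
    have hPj : ∏ i ∈ Finset.univ.erase j, f i ^ α i ∈ 𝒜 (∑ i ∈ Finset.univ.erase j, (α i : ℤ) * deg i) := by
      have := SetLike.prod_pow_mem_graded 𝒜 deg f (F := Finset.univ.erase j) α (fun i _ => hf i)
      simpa only [nsmul_eq_mul] using this
    by_cases hcase : α j + 1 < e j
    · -- increase α j
      set α' : Fin p → ℕ := Function.update α j (α j + 1) with hα'
      have hα'j : α' j = α j + 1 := Function.update_self ..
      have hα'ne : ∀ i, i ≠ j → α' i = α i := fun i hi => Function.update_of_ne hi ..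
      have hprod' : ∏ i, f i ^ α' i = f j ^ (α j + 1) * ∏ i ∈ Finset.univ.erase j, f i ^ α i := by
        rw [← Finset.mul_prod_erase _ _ (Finset.mem_univ j), hα'j]
        congr 1
        exact Finset.prod_congr rfl fun i hi => by rw [hα'ne i (Finset.ne_of_mem_erase hi)]
      have hsum' : ∑ i, (α' i : ℤ) * deg i =
          ((α j : ℤ) + 1) * deg j + ∑ i ∈ Finset.univ.erase j, (α i : ℤ) * deg i := by
        have hs : ∑ i ∈ Finset.univ.erase j, (α' i : ℤ) * deg i =
            ∑ i ∈ Finset.univ.erase j, (α i : ℤ) * deg i :=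
          Finset.sum_congr rfl fun i hi => by rw [hα'ne i (Finset.ne_of_mem_erase hi)]
        rw [← Finset.add_sum_erase _ _ (Finset.mem_univ j), hα'j, hs]
        push_cast; ring
      have hk' : ∑ i, (e i - α' i) < k := by
        rw [← hk]
        apply Finset.sum_lt_sum
        · intro i _
          by_cases hi : i = j
          · subst hi; rw [hα'j]; omega
          · rw [hα'ne i hi]
        · exact ⟨j, Finset.mem_univ j, by rw [hα'j]; omega⟩
      have hα'lt : ∀ i, α' i < e i := by
        intro i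
        by_cases hi : i = j
        · subst hi; rw [hα'j]; exact hcase
        · rw [hα'ne i hi]; exact hα i
      have := ih _ hk' α' hα'lt rfl (n - deg j) (by rw [hsum']; rw [hsum] at hn; linarith) (b j) (hb j)
      rw [hprod'] at this
      rw [hprod]
      have heq : b j * f j * (f j ^ α j * ∏ i ∈ Finset.univ.erase j, f i ^ α i) =
          b j * (f j ^ (α j + 1) * ∏ i ∈ Finset.univ.erase j, f i ^ α i) := by ring
      rw [heq]; exact this
    · -- α j + 1 = e j
      have hej : α j + 1 = e j := by have := hα j; omega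
      rw [hprod]
      have heq : b j * f j * (f j ^ α j * ∏ i ∈ Finset.univ.erase j, f i ^ α i) =
          f j ^ e j * (b j * ∏ i ∈ Finset.univ.erase j, f i ^ α i) := by rw [← hej]; ring
      rw [heq]
      apply Submodule.mul_mem_mul
      · have := SetLike.pow_mem_graded (e j) (hf j)
        rwa [nsmul_eq_mul, he j] at this
      · have := SetLike.mul_mem_graded (hb j) hPj
        have hidx : n - deg j + ∑ i ∈ Finset.univ.erase j, (α i : ℤ) * deg i = N - d := by
          rw [hsum] at hn
          have h3 := he j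
          rw [← hej] at h3
          push_cast at h3
          linarith
        rwa [hidx] at this

end Groth.Agent.S13663Aux

namespace Groth.Agent.S13663

/-- Let A be a commutative ring graded by the integers whose ideal generated by the homogeneous elements
of positive degree has homogeneous generators f_1, …, f_p, of positive degrees d_1, …, d_p, and let
d be a positive integer divisible by each d_i. Then A_N = A_d · A_{N-d} for every integer N > dp -
(d_1 + ⋯ + d_p). -/
theorem result {R A : Type u} [CommRing R] [CommRing A] [Algebra R A]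
    (𝒜 : ℤ → Submodule R A) [GradedAlgebra 𝒜]
    {p : ℕ} (f : Fin p → A) (deg : Fin p → ℤ) (hdeg : ∀ i, 0 < deg i) (hf : ∀ i, f i ∈ 𝒜 (deg i))
    (hgen : Ideal.span {a : A | ∃ n : ℤ, 0 < n ∧ a ∈ 𝒜 n} = Ideal.span (Set.range f))
    (d : ℤ) (hd : 0 < d) (hdvd : ∀ i, deg i ∣ d) (N : ℤ) (hN : d * p - ∑ i, deg i < N) :
    𝒜 N = 𝒜 d * 𝒜 (N - d) := by
  apply le_antisymm
  · intro a ha
    have he : ∀ i, ∃ e : ℕ, (e : ℤ) * deg i = d ∧ 0 < e := by
      intro i
      obtain ⟨c, hc⟩ := hdvd i
      have hcpos : 0 < c := by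
        by_contra h
        have : deg i * c ≤ 0 := mul_nonpos_of_nonneg_of_nonpos (hdeg i).le (not_lt.mp h)
        omega
      refine ⟨c.toNat, ?_, by omega⟩
      rw [Int.toNat_of_nonneg hcpos.le, hc, mul_comm]
    choose e he hepos using he
    have := S13663Aux.main 𝒜 f deg hdeg hf hgen d e he N hN _ (fun _ => 0) hepos rfl N (by simp) a ha
    simpa using this
  · rw [Submodule.mul_le]
    intro x hx y hy
    have := SetLike.mul_mem_graded hx hy
    rwa [add_sub_cancel] at this

end Groth.Agent.S13663
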