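import Mathlib
import Groth.Statements.S13664
-- import your own Groth.Agent.* helpers here

set_option autoImplicit false
universe u
open GrRing

namespace Groth.Agent.S13664


/-- Let A be a commutative ring graded by the integers whose ideal I generated by the homogeneous
elements of positive degree has homogeneous generators f_1, …, f_p, of positive degrees d_1, …, d_p,
let d be a positive integer divisible by each d_i, and let x be an element of an A-module M. The
following are equivalent: x is annihilated by some power of I; x is annihilated by (A_d)^n for all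
sufficiently large n; there is an integer s such that A_n x = 0 for all n ≥ s. (The published
statement is for a homogeneous element of a graded module; this row drops both the grading of M and
the homogeneity of x, which play no role.) -/
theorem result {R A : Type u} [CommRing R] [CommRing A] [Algebra R A]
    (𝒜 : ℤ → Submodule R A) [GradedAlgebra 𝒜]
    {p : ℕ} (f : Fin p → A) (deg : Fin p → ℤ) (hdeg : ∀ i, 0 < deg i) (hf : ∀ i, f i ∈ 𝒜 (deg i))
    (hgen : Ideal.span {a : A | ∃ n : ℤ, 0 < n ∧ a ∈ 𝒜 n} = Ideal.span (Set.range f))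
    (d : ℤ) (hd : 0 < d) (hdvd : ∀ i, deg i ∣ d)
    {M : Type u} [AddCommGroup M] [Module A M] (x : M) :
    [x ∈ GrLC.gam (Ideal.span (Set.range f)) M,
     ∃ n₀ : ℕ, ∀ n : ℕ, n₀ ≤ n → ∀ r ∈ (𝒜 d) ^ n, r • x = 0,
     ∃ s : ℤ, ∀ n : ℤ, s ≤ n → ∀ r ∈ 𝒜 n, r • x = 0].TFAE := by
  classical
  have hdle : ∀ i, deg i ≤ d := fun i => Int.le_of_dvd hd (hdvd i)
  have key : ∀ k : ℕ, ∀ m : ℤ, (k : ℤ) * d < m + d → ∀ a ∈ 𝒜 m,
      a ∈ (Ideal.span (Set.range f)) ^ k := by
    intro k
    induction k with
    | zero => intro m _ a _; simp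
    | succ k ih =>
      intro m hm a ha
      have hm0 : 0 < m := by
        have : (0:ℤ) ≤ k * d := by positivity
        push_cast at hm; nlinarith
      have haI : a ∈ Ideal.span (Set.range f) := by
        rw [← hgen]; exact Ideal.subset_span ⟨m, hm0, ha⟩
      obtain ⟨c, hc⟩ := (Ideal.mem_span_range_iff_exists_fun).1 haI
      have h1 : a = ∑ i, (DirectSum.decompose 𝒜 (c i) (m - deg i) : A) * f i := by
        have : (DirectSum.decompose 𝒜 a m : A) = a := DirectSum.decompose_of_mem_same 𝒜 ha
        rw [← this, ← hc, DirectSum.decompose_sum, DFinsupp.finsetSum_apply,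
          AddSubmonoidClass.coe_finsetSum]
        refine Finset.sum_congr rfl fun i _ => ?_
        have := DirectSum.coe_decompose_mul_add_of_right_mem 𝒜 (i := m - deg i) (a := c i) (hf i)
        rwa [sub_add_cancel] at this
      rw [h1]
      refine Ideal.sum_mem _ fun i _ => ?_
      rw [pow_succ]
      refine Ideal.mul_mem_mul (ih _ ?_ _ (SetLike.coe_mem _)) (Ideal.subset_span ⟨i, rfl⟩)
      have := hdle i; push_cast at hm; nlinarith
  have hpow : ∀ n : ℕ, (𝒜 d) ^ n ≤ 𝒜 (n * d) := by
    intro n
    induction n with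
    | zero =>
      rw [pow_zero, Submodule.one_le]
      simpa using SetLike.GradedOne.one_mem (A := 𝒜)
    | succ n ih =>
      rw [pow_succ, Submodule.mul_le]
      intro a ha b hb
      have := SetLike.GradedMul.mul_mem (ih ha) hb
      convert this using 2
      push_cast; ring
  tfae_have 1 → 3 := by
    rintro ⟨n, hn⟩
    exact ⟨n * d, fun m hm r hr => hn r (key n m (by linarith) r hr)⟩
  tfae_have 3 → 2 := by
    rintro ⟨s, hs⟩
    refine ⟨s.toNat, fun n hn r hr => hs (n * d) ?_ r (hpow n hr)⟩
    have h1 : s ≤ (s.toNat : ℤ) := Int.self_le_toNat s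
    have h2 : (s.toNat : ℤ) ≤ n := by exact_mod_cast hn
    have h3 : (0 : ℤ) ≤ n := by positivity
    nlinarith
  tfae_have 2 → 1 := by
    rintro ⟨n₀, h⟩
    let J : Ideal A := LinearMap.ker (LinearMap.toSpanSingleton A M x)
    have hJ : ∀ r, r ∈ J ↔ r • x = 0 := fun r => by
      simp [J, LinearMap.mem_ker]
    have hle : Ideal.span (Set.range f) ≤ J.radical := by
      rw [Ideal.span_le]
      rintro _ ⟨i, rfl⟩
      have he : ((d / deg i).toNat : ℤ) * deg i = d := by
        rw [Int.toNat_of_nonneg (Int.ediv_nonneg hd.le (hdeg i).le), Int.ediv_mul_cancel (hdvd i)]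
      have h1 : f i ^ (d / deg i).toNat ∈ 𝒜 d := by
        have := SetLike.pow_mem_graded (d / deg i).toNat (hf i)
        rwa [nsmul_eq_mul, he] at this
      refine ⟨(d / deg i).toNat * n₀, ?_⟩
      rw [pow_mul, hJ]
      exact h n₀ le_rfl _ (Submodule.pow_mem_pow _ h1 n₀)
    obtain ⟨k, hk⟩ := Ideal.exists_pow_le_of_le_radical_of_fg hle
      (Submodule.fg_span (Set.finite_range f))
    exact ⟨k, fun r hr => (hJ r).1 (hk hr)⟩
  tfae_finish


end Groth.Agent.S13664
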