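import Groth.Statements.S13665
import Mathlib.RingTheory.GradedAlgebra.Homogeneous.Ideal
import Mathlib.RingTheory.FiniteType
import Mathlib.RingTheory.Polynomial.Basic
import Mathlib.RingTheory.Adjoin.FG

set_option autoImplicit false
universe u
open GrRing

namespace Groth.Agent.S13665

open DirectSum

variable {R A : Type u} [CommRing R] [CommRing A] [Algebra R A]
  (𝒜 : ℤ → Submodule R A) [GradedAlgebra 𝒜]

theorem coeff_lemma (t : Finset A) (deg : A → ℤ) (hdeg : ∀ x ∈ t, x ∈ 𝒜 (deg x)) (e : ℤ) (y : A)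
    (hy : y ∈ 𝒜 e) (hmem : y ∈ Ideal.span (t : Set A)) :
    ∃ c : A → A, (∀ x ∈ t, c x ∈ 𝒜 (e - deg x)) ∧ y = ∑ x ∈ t, c x * x := by
  classical
  rw [Ideal.span, Submodule.mem_span_finset] at hmem
  obtain ⟨f, -, hf⟩ := hmem
  refine ⟨fun x => (decompose 𝒜 (f x) (e - deg x) : A), fun x _ => SetLike.coe_mem _, ?_⟩
  have h1 : y = GradedRing.proj 𝒜 e y := by
    rw [GradedRing.proj_apply, decompose_of_mem_same 𝒜 hy]
  rw [h1, ← hf, map_sum]
  apply Finset.sum_congr rfl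
  intro x hx
  rw [GradedRing.proj_apply, smul_eq_mul]
  have : e = (e - deg x) + deg x := by ring
  conv_lhs => rw [this]
  exact coe_decompose_mul_add_of_right_mem 𝒜 (hdeg x hx)

theorem exists_finset_span (h2 : ∀ I : Ideal A, I.IsHomogeneous 𝒜 → I.FG) (n : ℤ) :
    ∃ t : Finset A, (↑t ⊆ (𝒜 n : Set A)) ∧
      ∀ y ∈ 𝒜 n, ∃ c : A → A, (∀ x ∈ t, c x ∈ 𝒜 0) ∧ y = ∑ x ∈ t, c x * x := by
  have hI : (Ideal.span (𝒜 n : Set A)).IsHomogeneous 𝒜 :=
    Ideal.homogeneous_span 𝒜 _ (fun x hx => ⟨n, hx⟩)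
  have hfg : (Submodule.span A (𝒜 n : Set A)).FG := h2 _ hI
  rw [Submodule.fg_span_iff_fg_span_finset_subset] at hfg
  obtain ⟨t, ht, hspan⟩ := hfg
  refine ⟨t, ht, ?_⟩
  intro y hy
  have hy' : y ∈ Ideal.span (t : Set A) := by
    rw [Ideal.span, ← hspan]
    exact Submodule.subset_span hy
  obtain ⟨c, hc, hsum⟩ := coeff_lemma 𝒜 t (fun _ => n) (fun x hx => ht hx) n y hy hy'
  refine ⟨c, ?_, hsum⟩
  intro x hx
  have := hc x hx
  simpa using this

theorem noeth_zero (h2 : ∀ I : Ideal A, I.IsHomogeneous 𝒜 → I.FG) : IsNoetherianRing (𝒜 0) := by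
  classical
  rw [isNoetherianRing_iff_ideal_fg]
  intro I0
  have hI : (Ideal.span ((fun z : 𝒜 0 => (z : A)) '' (I0 : Set (𝒜 0)))).IsHomogeneous 𝒜 :=
    Ideal.homogeneous_span 𝒜 _ (by
      rintro _ ⟨z, _, rfl⟩
      exact ⟨0, z.2⟩)
  have hfg : (Submodule.span A ((fun z : 𝒜 0 => (z : A)) '' (I0 : Set (𝒜 0)))).FG := h2 _ hI
  rw [Submodule.fg_span_iff_fg_span_finset_subset] at hfg
  obtain ⟨t, ht, hspan⟩ := hfg
  have ht' : ∀ x ∈ t, ∃ z : 𝒜 0, z ∈ I0 ∧ (z : A) = x := by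
    intro x hx
    obtain ⟨z, hz, rfl⟩ := ht hx
    exact ⟨z, hz, rfl⟩
  choose! g hg using ht'
  refine ⟨t.image g, ?_⟩
  apply le_antisymm
  · rw [Ideal.span, Submodule.span_le]
    intro z hz
    rw [Finset.coe_image] at hz
    obtain ⟨x, hx, rfl⟩ := hz
    exact (hg x hx).1
  · intro y hy
    have hy' : (y : A) ∈ Ideal.span (t : Set A) := by
      rw [Ideal.span, ← hspan]
      exact Submodule.subset_span ⟨y, hy, rfl⟩
    obtain ⟨c, hc, hsum⟩ := coeff_lemma 𝒜 t (fun _ => 0) (fun x hx => by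
      rw [← (hg x hx).2]
      exact (g x).2) 0 y y.2 hy'
    have hyeq : y = ∑ x ∈ t, decompose 𝒜 (c x) 0 * g x := by
      apply Subtype.ext
      rw [hsum, AddSubmonoidClass.coe_finsetSum]
      apply Finset.sum_congr rfl
      intro x hx
      have hcx : c x ∈ 𝒜 0 := by simpa using hc x hx
      rw [SetLike.GradeZero.coe_mul, decompose_of_mem_same 𝒜 hcx, (hg x hx).2]
    rw [hyeq]
    apply Ideal.sum_mem
    intro x hx
    apply Ideal.mul_mem_left
    apply Ideal.subset_span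
    rw [Finset.coe_image]
    exact ⟨x, hx, rfl⟩

theorem mem_adjoin_of_mem_zero (T : Set A) (c : A) (hc : c ∈ 𝒜 0) :
    c ∈ Algebra.adjoin (𝒜 0) T :=
  (Algebra.adjoin (𝒜 0) T).algebraMap_mem ⟨c, hc⟩

theorem half_fg (h2 : ∀ I : Ideal A, I.IsHomogeneous 𝒜 → I.FG) (s : ℤ) (hs : s = 1 ∨ s = -1) :
    (Algebra.adjoin (𝒜 0) {a : A | ∃ n : ℤ, 0 ≤ s * n ∧ a ∈ 𝒜 n}).FG := by
  classical
  have hss : s * s = 1 := by rcases hs with rfl | rfl <;> norm_num
  have hI : (Ideal.span {a : A | ∃ n : ℤ, 0 < s * n ∧ a ∈ 𝒜 n}).IsHomogeneous 𝒜 :=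
    Ideal.homogeneous_span 𝒜 _ (fun x hx => by
      obtain ⟨n, _, hn⟩ := hx
      exact ⟨n, hn⟩)
  have hfg : (Submodule.span A {a : A | ∃ n : ℤ, 0 < s * n ∧ a ∈ 𝒜 n}).FG := h2 _ hI
  rw [Submodule.fg_span_iff_fg_span_finset_subset] at hfg
  obtain ⟨t, ht, hspan⟩ := hfg
  have ht' : ∀ x ∈ t, ∃ n : ℤ, 0 < s * n ∧ x ∈ 𝒜 n := fun x hx => ht hx
  choose! deg hdeg using ht'
  obtain ⟨D, hD⟩ : ∃ D : ℕ, ∀ x ∈ t, s * deg x ≤ D := by
    refine ⟨t.sup (fun x => (s * deg x).toNat), ?_⟩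
    intro x hx
    have h1 : (s * deg x).toNat ≤ t.sup (fun x => (s * deg x).toNat) :=
      Finset.le_sup (f := fun x => (s * deg x).toNat) hx
    have h2 : s * deg x ≤ ((s * deg x).toNat : ℤ) := Int.self_le_toNat _
    exact h2.trans (by exact_mod_cast h1)
  choose g hg1 hg2 using exists_finset_span 𝒜 h2
  let T : Finset A := t ∪ (Finset.range (D + 1)).biUnion (fun i => g (s * i))
  have hclaim : ∀ (e : ℕ) (y : A), y ∈ 𝒜 (s * e) → y ∈ Algebra.adjoin (𝒜 0) (T : Set A) := by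
    intro e
    induction e using Nat.strong_induction_on with
    | _ e ih =>
      intro y hy
      by_cases heD : e ≤ D
      · obtain ⟨c, hc, hsum⟩ := hg2 (s * e) y hy
        rw [hsum]
        apply Subalgebra.sum_mem
        intro x hx
        apply Subalgebra.mul_mem
        · exact mem_adjoin_of_mem_zero 𝒜 _ _ (hc x hx)
        · apply Algebra.subset_adjoin
          simp only [T, Finset.coe_union, Finset.coe_biUnion, Set.mem_union, Set.mem_iUnion]
          right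
          exact ⟨e, by simpa using Nat.lt_succ_of_le heD, hx⟩
      · push Not at heD
        have hyP : y ∈ Ideal.span (t : Set A) := by
          rw [Ideal.span, ← hspan]
          apply Submodule.subset_span
          refine ⟨s * e, ?_, hy⟩
          rw [← mul_assoc, hss, one_mul]
          exact_mod_cast (Nat.zero_le D).trans_lt heD
        obtain ⟨c, hc, hsum⟩ := coeff_lemma 𝒜 t deg (fun x hx => (hdeg x hx).2) (s * e) y hy hyP
        rw [hsum]
        apply Subalgebra.sum_mem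
        intro x hx
        apply Subalgebra.mul_mem
        · have h1 := (hdeg x hx).1
          have h2 := hD x hx
          have h3 : (0 : ℤ) ≤ (e : ℤ) - s * deg x := by
            have : (D : ℤ) < e := by exact_mod_cast heD
            omega
          have hdeg_eq : s * (e : ℤ) - deg x = s * (((e : ℤ) - s * deg x).toNat : ℤ) := by
            rw [Int.toNat_of_nonneg h3, mul_sub, ← mul_assoc, hss, one_mul]
          have hcx := hc x hx
          rw [hdeg_eq] at hcx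
          apply ih _ _ _ hcx
          have : (((e : ℤ) - s * deg x).toNat : ℤ) < e := by
            rw [Int.toNat_of_nonneg h3]
            omega
          exact_mod_cast this
        · apply Algebra.subset_adjoin
          simp only [T, Finset.coe_union, Set.mem_union]
          left
          exact hx
  rw [Subalgebra.fg_def]
  refine ⟨T, T.finite_toSet, ?_⟩
  apply le_antisymm
  · apply Algebra.adjoin_mono
    intro x hx
    simp only [T, Finset.coe_union, Finset.coe_biUnion, Set.mem_union, Set.mem_iUnion] at hx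
    rcases hx with hx | ⟨i, _, hx⟩
    · exact ⟨deg x, (hdeg x hx).1.le, (hdeg x hx).2⟩
    · refine ⟨s * i, ?_, hg1 (s * i) hx⟩
      rw [← mul_assoc, hss, one_mul]
      exact_mod_cast Nat.zero_le i
  · apply Algebra.adjoin_le
    rintro a ⟨n, hn, ha⟩
    have hn' : n = s * ((s * n).toNat : ℤ) := by
      rw [Int.toNat_of_nonneg hn, ← mul_assoc, hss, one_mul]
    rw [hn'] at ha
    exact hclaim _ a ha

theorem result {R A : Type u} [CommRing R] [CommRing A] [Algebra R A]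
    (𝒜 : ℤ → Submodule R A) [GradedAlgebra 𝒜] :
    [IsNoetherianRing A,
     ∀ I : Ideal A, I.IsHomogeneous 𝒜 → I.FG,
     IsNoetherianRing (𝒜 0) ∧ (Algebra.adjoin (𝒜 0) {a : A | ∃ n : ℤ, 0 ≤ n ∧ a ∈ 𝒜 n}).FG ∧
       (Algebra.adjoin (𝒜 0) {a : A | ∃ n : ℤ, n ≤ 0 ∧ a ∈ 𝒜 n}).FG,
     IsNoetherianRing (𝒜 0) ∧ Algebra.FiniteType (𝒜 0) A].TFAE := by
  classical
  tfae_have 1 → 2 := by
    intro h I _
    exact (isNoetherianRing_iff_ideal_fg A).mp h I
  tfae_have 2 → 3 := by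
    intro h2
    refine ⟨noeth_zero 𝒜 h2, ?_, ?_⟩
    · have := half_fg 𝒜 h2 1 (Or.inl rfl)
      simpa using this
    · have := half_fg 𝒜 h2 (-1) (Or.inr rfl)
      have hset : {a : A | ∃ n : ℤ, 0 ≤ -1 * n ∧ a ∈ 𝒜 n} = {a : A | ∃ n : ℤ, n ≤ 0 ∧ a ∈ 𝒜 n} := by
        ext a
        constructor
        · rintro ⟨n, hn, ha⟩
          exact ⟨n, by omega, ha⟩
        · rintro ⟨n, hn, ha⟩
          exact ⟨n, by omega, ha⟩
      rw [hset] at this
      exact this
  tfae_have 3 → 4 := by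
    rintro ⟨h0, hp, hm⟩
    refine ⟨h0, ⟨?_⟩⟩
    have hsup := hp.sup hm
    have htop : Algebra.adjoin (𝒜 0) {a : A | ∃ n : ℤ, 0 ≤ n ∧ a ∈ 𝒜 n} ⊔
        Algebra.adjoin (𝒜 0) {a : A | ∃ n : ℤ, n ≤ 0 ∧ a ∈ 𝒜 n} = ⊤ := by
      rw [eq_top_iff]
      intro a _
      rw [← sum_support_decompose 𝒜 a]
      apply Subalgebra.sum_mem
      intro n _
      rcases le_total 0 n with hn | hn
      · have hle : Algebra.adjoin (𝒜 0) {a : A | ∃ n : ℤ, 0 ≤ n ∧ a ∈ 𝒜 n} ≤
            Algebra.adjoin (𝒜 0) {a : A | ∃ n : ℤ, 0 ≤ n ∧ a ∈ 𝒜 n} ⊔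
              Algebra.adjoin (𝒜 0) {a : A | ∃ n : ℤ, n ≤ 0 ∧ a ∈ 𝒜 n} := le_sup_left
        exact hle (Algebra.subset_adjoin ⟨n, hn, SetLike.coe_mem _⟩)
      · have hle : Algebra.adjoin (𝒜 0) {a : A | ∃ n : ℤ, n ≤ 0 ∧ a ∈ 𝒜 n} ≤
            Algebra.adjoin (𝒜 0) {a : A | ∃ n : ℤ, 0 ≤ n ∧ a ∈ 𝒜 n} ⊔
              Algebra.adjoin (𝒜 0) {a : A | ∃ n : ℤ, n ≤ 0 ∧ a ∈ 𝒜 n} := le_sup_right
        exact hle (Algebra.subset_adjoin ⟨n, hn, SetLike.coe_mem _⟩)
    rw [htop] at hsup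
    exact hsup
  tfae_have 4 → 1 := by
    rintro ⟨h0, hft⟩
    exact Algebra.FiniteType.isNoetherianRing (𝒜 0) A
  tfae_finish

end Groth.Agent.S13665
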