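import Groth.Statements.S13682
import Mathlib

set_option autoImplicit false
universe u v w
open scoped BigOperators
open BTGrp

set_option linter.unusedSectionVars false

namespace Groth.Agent.S13682Aux
open scoped BigOperators

variable {A : Type u} [CommRing A]

section tele
variable {r : ℕ} {M : Fin r → Type v} {N : Type w} [∀ i, AddCommGroup (M i)]
  [∀ i, Module A (M i)] [AddCommGroup N] [Module A N]

/-- changing the states slot by slot -/
theorem slot_telescope (φ : MultilinearMap A M N) (α : A) (p q z : ∀ i, M i)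
    (h : ∀ i, q i = p i + α • z i) :
    φ q - φ p = α • ∑ i : Fin r, φ (fun k => if k < i then q k else if k = i then z k else p k) := by
  classical
  set S : ℕ → ∀ k, M k := fun t k => if (k : ℕ) < t then q k else p k with hS
  have hstep : ∀ i : Fin r, φ (S ((i : ℕ) + 1)) - φ (S (i : ℕ))
      = α • φ (fun k => if k < i then q k else if k = i then z k else p k) := by
    intro i
    have h1 : S ((i : ℕ) + 1) = Function.update (S (i : ℕ)) i (p i + α • z i) := by
      funext k
      by_cases hk : k = i
      · subst hk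
        simp [hS, h]
      · rw [Function.update_of_ne hk]
        have hk' : (k : ℕ) ≠ (i : ℕ) := fun h' => hk (Fin.ext h')
        simp only [hS]
        by_cases hlt : (k : ℕ) < (i : ℕ)
        · rw [if_pos hlt, if_pos (by omega)]
        · rw [if_neg hlt, if_neg (by omega)]
    have h2 : S (i : ℕ) = Function.update (S (i : ℕ)) i (p i) := by
      symm
      rw [Function.update_eq_self_iff]
      simp [hS]
    have h3 : (fun k => if k < i then q k else if k = i then z k else p k)
        = Function.update (S (i : ℕ)) i (z i) := by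
      funext k
      by_cases hk : k = i
      · subst hk
        simp
      · rw [Function.update_of_ne hk]
        simp only [hS, Fin.lt_def, if_neg hk]
    rw [h3, h1, MultilinearMap.map_update_add, MultilinearMap.map_update_smul, ← h2]
    abel
  rw [Finset.smul_sum, ← Finset.sum_congr rfl (fun i _ => hstep i)]
  rw [Fin.sum_univ_eq_sum_range (fun t => φ (S (t + 1)) - φ (S t)) r,
    Finset.sum_range_sub (fun t => φ (S t)) r]
  have hr' : S r = q := by
    funext k; simp [hS, k.2]
  have h0 : S 0 = p := by
    funext k; simp [hS]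
  rw [hr', h0]

variable (φ : MultilinearMap A M N) (α : A) (n : ℕ) (y w : ∀ i, ℕ → M i)

theorem w_eq (hw : ∀ i, ∀ j < n, w i (j + 1) = w i j + α • y i j) (i : Fin r) :
    ∀ m, m ≤ n → w i m = w i 0 + α • ∑ j ∈ Finset.range m, y i j := by
  intro m
  induction m with
  | zero => intro _; simp
  | succ m ih =>
    intro hm
    rw [hw i m (by omega), ih (by omega), Finset.sum_range_succ, smul_add, add_assoc]

theorem tele_L (hw : ∀ i, ∀ j < n, w i (j + 1) = w i j + α • y i j) :
    α • (∑ i : Fin r, ∑ j ∈ Finset.range n,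
        φ (fun k => if k < i then w k (j + 1) else if k = i then y k j else w k j))
      = φ (fun k => w k n) - φ (fun k => w k 0) := by
  rw [Finset.sum_comm, Finset.smul_sum]
  have : ∀ j ∈ Finset.range n, α • ∑ i : Fin r,
      φ (fun k => if k < i then w k (j + 1) else if k = i then y k j else w k j)
      = φ (fun k => w k (j + 1)) - φ (fun k => w k j) := by
    intro j hj
    rw [Finset.mem_range] at hj
    exact (slot_telescope φ α (fun k => w k j) (fun k => w k (j + 1)) (fun k => y k j)
      (fun i => hw i j hj)).symm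
  rw [Finset.sum_congr rfl this, Finset.sum_range_sub (fun j => φ (fun k => w k j))]

theorem tele_R (hw : ∀ i, ∀ j < n, w i (j + 1) = w i j + α • y i j) :
    α • (∑ i : Fin r, ∑ j ∈ Finset.range n,
        φ (fun k => if k < i then w k n else if k = i then y k j else w k 0))
      = φ (fun k => w k n) - φ (fun k => w k 0) := by
  classical
  rw [slot_telescope φ α (fun k => w k 0) (fun k => w k n)
    (fun k => ∑ j ∈ Finset.range n, y k j) (fun i => w_eq α n y w hw i n le_rfl)]
  congr 1
  refine Finset.sum_congr rfl fun i _ => ?_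
  have h1 : (fun k => if k < i then w k n else if k = i then ∑ j ∈ Finset.range n, y k j
      else w k 0) = Function.update (fun k => if k < i then w k n else w k 0) i
        (∑ j ∈ Finset.range n, y i j) := by
    funext k
    by_cases hk : k = i
    · subst hk; simp
    · rw [Function.update_of_ne hk]; simp [hk]
  rw [h1, MultilinearMap.map_update_sum]
  refine Finset.sum_congr rfl fun j _ => ?_
  congr 1
  funext k
  by_cases hk : k = i
  · subst hk; simp
  · rw [Function.update_of_ne hk]; simp [hk]

end tele

section red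
variable {r : ℕ} {M : Fin r → Type v} {N : Type w} [∀ i, AddCommGroup (M i)]
  [∀ i, Module A (M i)] [AddCommGroup N] [Module A N]

theorem expand {C : Type} [Fintype C] [DecidableEq C] (φ : MultilinearMap A M N)
    (v : ∀ k, C → M k) (U : Fin r → C → A) :
    φ (fun k => ∑ c, U k c • v k c)
      = ∑ κ : Fin r → C, (∏ k, U k (κ k)) • φ (fun k => v k (κ k)) := by
  classical
  rw [MultilinearMap.map_sum]
  refine Finset.sum_congr rfl fun κ _ => ?_
  rw [MultilinearMap.map_smul_univ]

theorem reduction {C : Type} [Fintype C] [DecidableEq C] (φ : MultilinearMap A M N)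
    (v : ∀ k, C → M k) {ι : Type} (s : Finset ι) (UL UR : ι → Fin r → C → A)
    (h : ∀ κ : Fin r → C, ∑ t ∈ s, ∏ k, UL t k (κ k) = ∑ t ∈ s, ∏ k, UR t k (κ k)) :
    ∑ t ∈ s, φ (fun k => ∑ c, UL t k c • v k c)
      = ∑ t ∈ s, φ (fun k => ∑ c, UR t k c • v k c) := by
  simp only [expand]
  rw [Finset.sum_comm, Finset.sum_comm (s := s)]
  refine Finset.sum_congr rfl fun κ _ => ?_
  rw [← Finset.sum_smul, ← Finset.sum_smul, h κ]

theorem reduction2 {C : Type} [Fintype C] [DecidableEq C] (φ : MultilinearMap A M N)
    (v : ∀ k, C → M k) (n : ℕ) (UL UR : Fin r → ℕ → Fin r → C → A)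
    (h : ∀ κ : Fin r → C, ∑ i : Fin r, ∑ j ∈ Finset.range n, ∏ k, UL i j k (κ k)
      = ∑ i : Fin r, ∑ j ∈ Finset.range n, ∏ k, UR i j k (κ k)) :
    ∑ i : Fin r, ∑ j ∈ Finset.range n, φ (fun k => ∑ c, UL i j k c • v k c)
      = ∑ i : Fin r, ∑ j ∈ Finset.range n, φ (fun k => ∑ c, UR i j k c • v k c) := by
  have key : ∀ U : Fin r → ℕ → Fin r → C → A,
      ∑ i : Fin r, ∑ j ∈ Finset.range n, φ (fun k => ∑ c, U i j k c • v k c)
      = ∑ κ : Fin r → C, (∑ i : Fin r, ∑ j ∈ Finset.range n, ∏ k, U i j k (κ k))
          • φ (fun k => v k (κ k)) := by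
    intro U
    simp only [expand, Finset.sum_smul]
    rw [Finset.sum_congr rfl (fun i _ => Finset.sum_comm), Finset.sum_comm]
  rw [key, key]
  refine Finset.sum_congr rfl fun κ _ => ?_
  rw [h κ]

end red

/-- universal coefficient vectors -/
def ca (α : A) (n : ℕ) (j : ℕ) : Fin (n + 1) → A :=
  fun c => if (c : ℕ) = 0 then 1 else if (c : ℕ) ≤ j then α else 0

def cb (n : ℕ) (j : ℕ) : Fin (n + 1) → A :=
  fun c => if (c : ℕ) = j + 1 then 1 else 0

theorem ca_succ (α : A) (n j : ℕ) : ca α n (j + 1) = ca α n j + α • cb n j := by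
  funext c
  simp only [ca, cb, Pi.add_apply, Pi.smul_apply, smul_eq_mul]
  by_cases h0 : (c : ℕ) = 0
  · rw [if_pos h0, if_pos h0, if_neg (by omega)]; ring
  · rw [if_neg h0, if_neg h0]
    by_cases h1 : (c : ℕ) ≤ j
    · rw [if_pos (by omega), if_pos h1, if_neg (by omega)]; ring
    · by_cases h2 : (c : ℕ) = j + 1
      · rw [if_pos (by omega), if_neg h1, if_pos h2]; ring
      · rw [if_neg (by omega), if_neg h1, if_neg h2]; ring

/-- the scalar case -/
theorem scalar_case (α : A) (hα : α ∈ nonZeroDivisors A) (r n : ℕ)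
    (κ : Fin r → Fin (n + 1)) :
    (∑ i : Fin r, ∑ j ∈ Finset.range n, ∏ k : Fin r,
        (if k < i then ca α n (j + 1) else if k = i then cb n j else ca α n j) (κ k))
      = ∑ i : Fin r, ∑ j ∈ Finset.range n, ∏ k : Fin r,
        (if k < i then ca α n n else if k = i then cb n j else ca α n 0) (κ k) := by
  let ψ : MultilinearMap A (fun _ : Fin r => (Fin (n + 1) → A)) A :=
    (MultilinearMap.mkPiAlgebra A (Fin r) A).compLinearMap (fun k => LinearMap.proj (κ k))
  have hψ : ∀ x : Fin r → (Fin (n + 1) → A), ψ x = ∏ k, x k (κ k) := by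
    intro x
    simp [ψ]
  have hw : ∀ i : Fin r, ∀ j < n, (fun (_ : Fin r) (j : ℕ) => ca α n j) i (j + 1)
      = (fun (_ : Fin r) (j : ℕ) => ca α n j) i j + α • (fun (_ : Fin r) (j : ℕ) => cb (A := A) n j) i j :=
    fun i j _ => ca_succ α n j
  have hL := tele_L ψ α n (fun _ j => cb n j) (fun _ j => ca α n j) hw
  have hR := tele_R ψ α n (fun _ j => cb n j) (fun _ j => ca α n j) hw
  have heq := hL.trans hR.symm
  rw [smul_eq_mul, smul_eq_mul, mul_cancel_left_mem_nonZeroDivisors hα] at heq
  simp only [hψ] at heq
  convert heq using 4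

end Groth.Agent.S13682Aux

namespace Groth.Agent.S13682

/-- Let A be a commutative ring, α ∈ A a non-zero-divisor, M_1, …, M_r and N modules over A and φ : M_1
× ⋯ × M_r → N an A-multilinear map. Let n be a natural number and let y_{i,j} (j < n) and w_{i,j} (j
≤ n) be elements of M_i with w_{i,j+1} = w_{i,j} + α y_{i,j} for all i and all j < n. Then Σ_i
Σ_{j<n} φ(w_{1,j+1}, …, w_{i-1,j+1}, y_{i,j}, w_{i+1,j}, …, w_{r,j}) = Σ_i Σ_{j<n} φ(w_{1,n}, …,
w_{i-1,n}, y_{i,j}, w_{i+1,0}, …, w_{r,0}). (The published statement takes n ≥ 1; for n = 0 both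
sides are empty sums. The families y, w are indexed by all natural numbers here and only the indices
named above enter.) -/
theorem result {A : Type u} [CommRing A] (α : A) (hα : α ∈ nonZeroDivisors A)
    {r : ℕ} (M : Fin r → Type v) (N : Type w) [∀ i, AddCommGroup (M i)] [∀ i, Module A (M i)]
    [AddCommGroup N] [Module A N] (φ : MultilinearMap A M N) (n : ℕ)
    (y w : ∀ i, ℕ → M i) (hw : ∀ i, ∀ j < n, w i (j + 1) = w i j + α • y i j) :
    (∑ i : Fin r, ∑ j ∈ Finset.range n,
        φ (fun k => if k < i then w k (j + 1) else if k = i then y k j else w k j)) =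
      ∑ i : Fin r, ∑ j ∈ Finset.range n,
        φ (fun k => if k < i then w k n else if k = i then y k j else w k 0) := by
  classical
  -- basis vectors
  set v : ∀ k, Fin (n + 1) → M k := fun k c => if (c : ℕ) = 0 then w k 0 else y k ((c : ℕ) - 1)
    with hv
  have hY : ∀ k, ∀ j < n, y k j = ∑ c, Groth.Agent.S13682Aux.cb (A := A) n j c • v k c := by
    intro k j hj
    rw [Finset.sum_eq_single (⟨j + 1, by omega⟩ : Fin (n + 1))]
    · simp [Groth.Agent.S13682Aux.cb, hv]
    · intro c _ hc
      have : (c : ℕ) ≠ j + 1 := fun h => hc (Fin.ext h)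
      simp [Groth.Agent.S13682Aux.cb, this]
    · intro h; exact absurd (Finset.mem_univ _) h
  have hW : ∀ k, ∀ j, j ≤ n → w k j = ∑ c, Groth.Agent.S13682Aux.ca α n j c • v k c := by
    intro k j
    induction j with
    | zero =>
      intro _
      rw [Finset.sum_eq_single (0 : Fin (n + 1))]
      · simp [Groth.Agent.S13682Aux.ca, hv]
      · intro c _ hc
        have : (c : ℕ) ≠ 0 := fun h => hc (Fin.ext h)
        simp [Groth.Agent.S13682Aux.ca, this]
      · intro h; exact absurd (Finset.mem_univ _) h
    | succ j ih =>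
      intro hj
      rw [hw k j (by omega), ih (by omega), hY k j (by omega), Groth.Agent.S13682Aux.ca_succ,
        Finset.smul_sum, ← Finset.sum_add_distrib]
      refine Finset.sum_congr rfl fun c _ => ?_
      simp only [Pi.add_apply, Pi.smul_apply, smul_eq_mul, add_smul, mul_smul]
  -- rewrite both sides through the coefficient vectors
  have hLt : ∀ i : Fin r, ∀ j ∈ Finset.range n,
      φ (fun k => if k < i then w k (j + 1) else if k = i then y k j else w k j)
      = φ (fun k => ∑ c, (fun (i : Fin r) (j : ℕ) (k : Fin r) =>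
          if k < i then Groth.Agent.S13682Aux.ca α n (j + 1)
          else if k = i then Groth.Agent.S13682Aux.cb n j
          else Groth.Agent.S13682Aux.ca α n j) i j k c • v k c) := by
    intro i j hj
    rw [Finset.mem_range] at hj
    congr 1
    funext k
    by_cases h1 : k < i
    · simp only [if_pos h1]
      exact hW k (j + 1) (by omega)
    · by_cases h2 : k = i
      · simp only [if_neg h1, if_pos h2]
        exact hY k j hj
      · simp only [if_neg h1, if_neg h2]
        exact hW k j (by omega)
  have hRt : ∀ i : Fin r, ∀ j ∈ Finset.range n,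
      φ (fun k => if k < i then w k n else if k = i then y k j else w k 0)
      = φ (fun k => ∑ c, (fun (i : Fin r) (j : ℕ) (k : Fin r) =>
          if k < i then Groth.Agent.S13682Aux.ca α n n
          else if k = i then Groth.Agent.S13682Aux.cb n j
          else Groth.Agent.S13682Aux.ca α n 0) i j k c • v k c) := by
    intro i j hj
    rw [Finset.mem_range] at hj
    congr 1
    funext k
    by_cases h1 : k < i
    · simp only [if_pos h1]
      exact hW k n le_rfl
    · by_cases h2 : k = i
      · simp only [if_neg h1, if_pos h2]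
        exact hY k j hj
      · simp only [if_neg h1, if_neg h2]
        exact hW k 0 (by omega)
  refine ((Finset.sum_congr rfl fun i _ => Finset.sum_congr rfl (hLt i)).trans ?_).trans
    (Finset.sum_congr rfl fun i _ => Finset.sum_congr rfl (hRt i)).symm
  exact Groth.Agent.S13682Aux.reduction2 φ v n _ _
    (fun κ => Groth.Agent.S13682Aux.scalar_case α hα r n κ)

end Groth.Agent.S13682
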