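import Groth.Statements.S13708
import Mathlib.AlgebraicGeometry.Morphisms.Separated
import Mathlib.AlgebraicGeometry.PullbackCarrier

set_option autoImplicit false
universe u
open CategoryTheory CategoryTheory.Limits AlgebraicGeometry
open ZeroCyc

namespace Groth.Agent.S13708

/-- Let X be a scheme over S such that every finite set of points of X over a common point of S lies in
some affine open subscheme of X (the condition (AF)). Then X is separated over S. (The published
condition (AF) asks for an open U with U → S quasi-affine rather than U affine; with U affine, as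
here, the same argument applies verbatim, and the two conditions agree over a quasi-separated base.) -/
theorem result {X S : Scheme.{u}} (f : X ⟶ S) (hX : SymProd.IsAF f) :
    IsSeparated f := by
  constructor
  apply IsZariskiLocalAtTarget.of_forall_exists_morphismRestrict
  intro z
  let x₁ := (pullback.fst f f).base z
  let x₂ := (pullback.snd f f).base z
  have hx : f.base x₁ = f.base x₂ := by
    change (pullback.fst f f ≫ f).base z = (pullback.snd f f ≫ f).base z
    rw [pullback.condition]
  classical
  obtain ⟨U, hU, hUx⟩ := hX (f.base x₁) {x₁, x₂} (by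
    intro x hx'
    rcases Finset.mem_insert.mp hx' with rfl | hx'
    · rfl
    · rw [Finset.mem_singleton.mp hx']; exact hx.symm)
  have h1 : x₁ ∈ U := hUx x₁ (by simp)
  have h2 : x₂ ∈ U := hUx x₂ (by simp)
  let j : pullback (U.ι ≫ f) (U.ι ≫ f) ⟶ pullback f f :=
    pullback.map (U.ι ≫ f) (U.ι ≫ f) f f U.ι U.ι (𝟙 S) (Category.comp_id _) (Category.comp_id _)
  refine ⟨j.opensRange, ?_, ?_⟩
  · change z ∈ Set.range j.base
    rw [show Set.range j.base = Set.range ⇑j from rfl, Scheme.Pullback.range_map]
    refine ⟨?_, ?_⟩
    · change x₁ ∈ Set.range U.ι
      rw [Scheme.Opens.range_ι]; exact h1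
    · change x₂ ∈ Set.range U.ι
      rw [Scheme.Opens.range_ι]; exact h2
  · rw [MorphismProperty.arrow_mk_iso_iff @IsClosedImmersion
      (morphismRestrictOpensRange (pullback.diagonal f) j)]
    have sq := pullback_map_diagonal_isPullback U.ι U.ι f
    have hU' : IsAffine U.toScheme := hU
    have hsep : IsSeparated (U.ι ≫ f) := by
      have : IsSeparated ((U.ι ≫ f) ≫ terminal.from S) := by
        rw [terminal.comp_from]; infer_instance
      exact IsSeparated.of_comp (U.ι ≫ f) (terminal.from S)
    have hm : pullback.map U.ι U.ι (U.ι ≫ f) (U.ι ≫ f) (𝟙 _) (𝟙 _) f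
        (Category.id_comp _).symm (Category.id_comp _).symm =
        pullback.fst U.ι U.ι ≫ pullback.diagonal (U.ι ≫ f) := by
      have hfs : pullback.fst U.ι U.ι = pullback.snd U.ι U.ι := by
        rw [← cancel_mono U.ι, pullback.condition]
      apply pullback.hom_ext
      · rw [pullback.map, pullback.lift_fst, Category.assoc, pullback.diagonal_fst,
          Category.comp_id]
      · rw [pullback.map, pullback.lift_snd, Category.assoc, pullback.diagonal_snd,
          Category.comp_id]
        exact hfs.symm
    have hPm : IsClosedImmersion (pullback.map U.ι U.ι (U.ι ≫ f) (U.ι ≫ f) (𝟙 _) (𝟙 _) f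
        (Category.id_comp _).symm (Category.id_comp _).symm) := by
      rw [hm]; infer_instance
    have := sq.isoPullback_hom_snd
    rw [← this] at hPm
    exact (MorphismProperty.cancel_left_of_respectsIso @IsClosedImmersion _ _).mp hPm

end Groth.Agent.S13708
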