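import Groth.Statements.S13709
import Mathlib.AlgebraicGeometry.Morphisms.UniversallyOpen
import Mathlib.AlgebraicGeometry.Morphisms.QuasiCompact
import Mathlib.AlgebraicGeometry.PullbackCarrier
import Mathlib.Topology.Homeomorph.Lemmas

set_option autoImplicit false
universe u
open CategoryTheory CategoryTheory.Limits AlgebraicGeometry
open ZeroCyc

namespace Groth.Agent.S13709

/-- Let f : X → Y be a quasi-compact morphism of schemes and g : Y' → Y a faithfully flat morphism, i.e.
flat and surjective, with no quasi-compactness assumption on g. If the base change X ×_Y Y' → Y' of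
f along g is a homeomorphism on underlying spaces, then so is f. -/
theorem result {X Y Y' : Scheme.{u}} (f : X ⟶ Y) (g : Y' ⟶ Y)
    [Flat g] [Surjective g] [QuasiCompact f] (h : IsHomeomorph (pullback.snd f g).base) :
    IsHomeomorph f.base := by
  have hcond : ∀ z : ↑(pullback f g), f (pullback.fst f g z) = g (pullback.snd f g z) := by
    intro z
    rw [← Scheme.Hom.comp_apply, ← Scheme.Hom.comp_apply, pullback.condition]
  have hinj : Function.Injective f := by
    intro x1 x2 hx
    obtain ⟨y', hy'⟩ := (inferInstance : Surjective g).surj (f x1)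
    obtain ⟨z1, hz1, hz1'⟩ := Scheme.Pullback.exists_preimage_pullback (f := f) (g := g) x1 y' hy'.symm
    obtain ⟨z2, hz2, hz2'⟩ := Scheme.Pullback.exists_preimage_pullback (f := f) (g := g) x2 y'
      (hx ▸ hy'.symm)
    have : z1 = z2 := h.injective (hz1'.trans hz2'.symm)
    rw [← hz1, ← hz2, this]
  have hsurj : Function.Surjective f := by
    intro y
    obtain ⟨y', hy'⟩ := (inferInstance : Surjective g).surj y
    obtain ⟨z, hz⟩ := h.surjective y'
    refine ⟨pullback.fst f g z, ?_⟩
    rw [hcond, ← hy']
    exact congrArg _ hz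
  have hspec' : SpecializingMap (pullback.snd f g) := h.isClosedMap.specializingMap
  have hgen : GeneralizingMap g := Flat.generalizingMap g
  have hspec : SpecializingMap f := by
    intro x y₁ hxy
    obtain ⟨y₁', hy₁'⟩ := (inferInstance : Surjective g).surj y₁
    obtain ⟨y', hy'spec, hy'⟩ := hgen (a := y₁') (b := f x) (by rw [hy₁']; exact hxy)
    obtain ⟨z, hz, hz'⟩ := Scheme.Pullback.exists_preimage_pullback (f := f) (g := g) x y' hy'.symm
    obtain ⟨z₁, hzz₁, hz₁⟩ := hspec' (a := z) (b := y₁') (by
      show pullback.snd f g z ⤳ y₁'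
      rw [hz']; exact hy'spec)
    refine ⟨pullback.fst f g z₁, ?_, ?_⟩
    · show x ⤳ pullback.fst f g z₁
      rw [← hz]
      exact hzz₁.map (pullback.fst f g).continuous
    · rw [hcond]
      show g (pullback.snd f g z₁) = y₁
      rw [← hy₁']
      exact congrArg _ hz₁
  rw [isHomeomorph_iff_continuous_isClosedMap_bijective]
  exact ⟨f.continuous, (isClosedMap_iff_specializingMap f).mpr hspec, hinj, hsurj⟩

end Groth.Agent.S13709
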