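import Groth.Statements.S13710
import Groth.Agent.S13709
import Mathlib.AlgebraicGeometry.Morphisms.FlatDescent
import Mathlib.AlgebraicGeometry.Stalk

set_option autoImplicit false
universe u
open CategoryTheory CategoryTheory.Limits AlgebraicGeometry
open ZeroCyc

namespace Groth.Agent.S13710

theorem stalk_iso_of_local_iso {X Y : Scheme.{u}} (f : X ⟶ Y) (hf : Function.Injective f)
    (x : X) (hiso : IsIso (pullback.snd f (Y.fromSpecStalk (f x)))) : IsIso (f.stalkMap x) := by
  set c := Y.fromSpecStalk (f x) with hc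
  set φ := f.stalkMap x with hφ
  let ψ : Spec (Y.presheaf.stalk (f x)) ⟶ X := inv (pullback.snd f c) ≫ pullback.fst f c
  have hψf : ψ ≫ f = c := by
    simp only [ψ, Category.assoc, pullback.condition, IsIso.inv_hom_id_assoc]
  have hφc : Spec.map φ ≫ c = X.fromSpecStalk x ≫ f := Scheme.SpecMap_stalkMap_fromSpecStalk f
  let σ : Spec (X.presheaf.stalk x) ⟶ pullback f c :=
    pullback.lift (X.fromSpecStalk x) (Spec.map φ) hφc.symm
  have hσ : σ = Spec.map φ ≫ inv (pullback.snd f c) := by
    rw [IsIso.eq_comp_inv]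
    exact pullback.lift_snd _ _ _
  have hφψ : Spec.map φ ≫ ψ = X.fromSpecStalk x := by
    simp only [ψ]
    rw [← Category.assoc, ← hσ]
    exact pullback.lift_fst _ _ _
  have hpt : ψ (IsLocalRing.closedPoint (Y.presheaf.stalk (f x))) = x := by
    apply hf
    rw [← Scheme.Hom.comp_apply, hψf, hc]
    exact Y.fromSpecStalk_closedPoint
  have hθ : ∃ θ : X.presheaf.stalk x ⟶ Y.presheaf.stalk (f x),
      Spec.map θ ≫ X.fromSpecStalk x = ψ := by
    have key : ∀ (x' : X) (hx' : ψ (IsLocalRing.closedPoint (Y.presheaf.stalk (f x))) = x'),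
        ∃ θ : X.presheaf.stalk x' ⟶ Y.presheaf.stalk (f x),
          Spec.map θ ≫ X.fromSpecStalk x' = ψ := by
      intro x' hx'
      subst hx'
      exact ⟨Scheme.stalkClosedPointTo ψ, Scheme.Spec_stalkClosedPointTo_fromSpecStalk ψ⟩
    exact key x hpt
  obtain ⟨θ, hθ⟩ := hθ
  have h1 : θ ≫ φ = 𝟙 _ := by
    apply Spec.map_injective
    rw [← cancel_mono (X.fromSpecStalk x), Spec.map_comp, Category.assoc, hθ, hφψ, Spec.map_id,
      Category.id_comp]
  have h2 : φ ≫ θ = 𝟙 _ := by
    apply Spec.map_injective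
    rw [← cancel_mono c, Spec.map_comp, Category.assoc, hφc, ← Category.assoc, hθ, hψf,
      Spec.map_id, Category.id_comp]
  exact ⟨θ, h2, h1⟩

theorem local_iso_of_pullback_iso {X Y Y' : Scheme.{u}} (f : X ⟶ Y) (g : Y' ⟶ Y) [Flat g]
    (hiso : IsIso (pullback.snd f g)) (y' : Y') :
    IsIso (pullback.snd f (Y.fromSpecStalk (g y'))) := by
  set c := Y.fromSpecStalk (g y') with hc
  set c' := Y'.fromSpecStalk y' with hc'
  set h := Spec.map (g.stalkMap y') with hh
  have hcomm : h ≫ c = c' ≫ g := Scheme.SpecMap_stalkMap_fromSpecStalk g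
  have hQ : (@Surjective ⊓ @Flat ⊓ @QuasiCompact : MorphismProperty Scheme.{u}) h := by
    have hff : (g.stalkMap y').hom.FaithfullyFlat := by
      algebraize [(g.stalkMap y').hom]
      exact @Module.FaithfullyFlat.of_flat_of_isLocalHom _ _ _ _ _ _ _
        (Flat.stalkMap g y') (g.toLRSHom.prop y')
    obtain ⟨h1, h2⟩ := (flat_and_surjective_SpecMap_iff (g.stalkMap y')).mpr hff
    exact ⟨⟨h2, h1⟩, inferInstance⟩
  have S1 : IsPullback (pullback.fst f c) (pullback.snd f c) f c := IsPullback.of_hasPullback f c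
  have S2 : IsPullback (pullback.snd h (pullback.snd f c)) (pullback.fst h (pullback.snd f c))
      (pullback.snd f c) h := (IsPullback.of_hasPullback h (pullback.snd f c)).flip
  have S12 := S2.paste_horiz S1
  rw [hcomm] at S12
  have S3 : IsPullback (pullback.fst f g) (pullback.snd f g) f g := IsPullback.of_hasPullback f g
  have S4 := IsPullback.of_right' S12 S3
  have : IsIso (pullback.fst h (pullback.snd f c)) := S4.isIso_snd_of_isIso
  exact MorphismProperty.of_isPullback_of_descendsAlong (P := MorphismProperty.isomorphisms Scheme.{u})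
    (Q := @Surjective ⊓ @Flat ⊓ @QuasiCompact) (IsPullback.of_hasPullback h (pullback.snd f c)) hQ this

/-- Let f : X → Y be a morphism of schemes and g : Y' → Y a faithfully flat morphism (flat and
surjective, not assumed quasi-compact). Then f is an isomorphism exactly when it is quasi-compact
and its base change X ×_Y Y' → Y' along g is an isomorphism. -/
theorem result {X Y Y' : Scheme.{u}} (f : X ⟶ Y) (g : Y' ⟶ Y)
    [Flat g] [Surjective g] :
    IsIso f ↔ QuasiCompact f ∧ IsIso (pullback.snd f g) := by
  constructor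
  · intro hf
    exact ⟨inferInstance, inferInstance⟩
  · rintro ⟨hqc, hiso⟩
    have hhomeo : IsHomeomorph f.base := Groth.Agent.S13709.result f g
      (pullback.snd f g).homeomorph.isHomeomorph
    have hstalk : ∀ x, IsIso (f.stalkMap x) := by
      intro x
      obtain ⟨y', hy'⟩ := (inferInstance : Surjective g).surj (f x)
      apply stalk_iso_of_local_iso f hhomeo.injective x
      have := local_iso_of_pullback_iso f g hiso y'
      rw [hy'] at this
      exact this
    rw [isIso_iff_isOpenImmersion_and_surjective]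
    exact ⟨IsOpenImmersion.of_isIso_stalkMap f hhomeo.isOpenEmbedding, ⟨hhomeo.surjective⟩⟩

end Groth.Agent.S13710
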