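import Groth.Statements.S13711
import Groth.Agent.S13710
import Mathlib.AlgebraicGeometry.Morphisms.Flat
import Mathlib.AlgebraicGeometry.Morphisms.Affine
import Mathlib.AlgebraicGeometry.Morphisms.Separated
import Mathlib.AlgebraicGeometry.Morphisms.QuasiSeparated

set_option autoImplicit false
universe u
open CategoryTheory CategoryTheory.Limits AlgebraicGeometry
open ZeroCyc

namespace Groth.Agent.S13711

set_option linter.style.haveILetI false

theorem bc_of_bc {X Y Y' Y₁ : Scheme.{u}} (f : X ⟶ Y) (g : Y' ⟶ Y) (b : Y₁ ⟶ Y) :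
    ∃ top, IsPullback top (pullback.snd (pullback.snd f b) (pullback.snd g b))
      (pullback.snd f g) (pullback.fst g b) := by
  have A := IsPullback.of_hasPullback (pullback.snd f b) (pullback.snd g b)
  have B := IsPullback.of_hasPullback f b
  have AB := A.paste_horiz B
  have hc : pullback.snd g b ≫ b = pullback.fst g b ≫ g := pullback.condition.symm
  rw [hc] at AB
  exact ⟨_, IsPullback.of_right' AB (IsPullback.of_hasPullback f g)⟩

theorem section_iso {X Y Y' : Scheme.{u}} (f : X ⟶ Y) (g : Y' ⟶ Y) [IsAffine Y] [Flat g]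
    [CompactSpace X] [QuasiSeparatedSpace X]
    (φ : Spec Γ(X, ⊤) ⟶ Y) (hφ : X.toSpecΓ ≫ φ = f) (V : Y'.Opens) (hV : IsAffineOpen V) :
    IsIso ((pullback.snd X.toSpecΓ (pullback.fst φ g)).app (pullback.snd φ g ⁻¹ᵁ V)) := by
  set τ := X.toSpecΓ with hτ
  set p := pullback.fst φ g with hp
  set q := pullback.snd φ g with hq
  set t := pullback.snd τ p with ht
  have HZ : IsPullback p q φ g := IsPullback.of_hasPullback φ g
  have C1 : IsPullback (pullback.fst τ p) t τ p := IsPullback.of_hasPullback τ p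
  have HX : IsPullback (pullback.fst τ p) (t ≫ q) f g := by
    have := C1.paste_vert HZ
    rwa [hφ] at this
  have hUS : IsAffineOpen (⊤ : Y.Opens) := isAffineOpen_top Y
  have hUXZ : IsAffineOpen (⊤ : (Spec Γ(X, ⊤)).Opens) := isAffineOpen_top _
  have hUST : V ≤ g ⁻¹ᵁ (⊤ : Y.Opens) := by simp
  have hUSXZ : (⊤ : (Spec Γ(X, ⊤)).Opens) ≤ φ ⁻¹ᵁ (⊤ : Y.Opens) := by simp
  have hUSXX : (⊤ : X.Opens) ≤ f ⁻¹ᵁ (⊤ : Y.Opens) := by simp
  have hUYZ : q ⁻¹ᵁ V = p ⁻¹ᵁ (⊤ : (Spec Γ(X, ⊤)).Opens) ⊓ q ⁻¹ᵁ V := by simp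
  have hUYX : t ⁻¹ᵁ (q ⁻¹ᵁ V) = (pullback.fst τ p) ⁻¹ᵁ (⊤ : X.Opens) ⊓ (t ≫ q) ⁻¹ᵁ V := by simp
  have isoZ : IsIso (pushoutSection HZ hUST hUSXZ hUYZ) :=
    isIso_pushoutSection_of_isAffineOpen HZ hUST hUSXZ hUYZ hUS hV hUXZ
  have isoX : IsIso (pushoutSection HX hUST hUSXX hUYX) :=
    isIso_pushoutSection_of_isQuasiSeparated_of_flat_right HX hUST hUSXX hUYX hUS hV
      isCompact_univ (isQuasiSeparated_univ_iff.2 inferInstance)
  have hle : (⊤ : X.Opens) ≤ τ ⁻¹ᵁ (⊤ : (Spec Γ(X, ⊤)).Opens) := by simp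
  set a := τ.appLE ⊤ ⊤ hle with ha
  have haiso : IsIso a := by
    have h1 : IsIso (τ.app ⊤) := by
      show IsIso τ.appTop
      rw [hτ, Scheme.toSpecΓ_appTop]
      infer_instance
    have h2 : IsIso (homOfLE hle) := ⟨homOfLE le_top, Subsingleton.elim _ _, Subsingleton.elim _ _⟩
    rw [ha, Scheme.Hom.appLE]
    infer_instance
  have e1 : φ.appLE ⊤ ⊤ hUSXZ ≫ a = 𝟙 _ ≫ f.appLE ⊤ ⊤ hUSXX := by
    rw [ha, Scheme.Hom.appLE_comp_appLE, Category.id_comp]
    simp only [hφ]
  have e2 : g.appLE ⊤ V hUST ≫ 𝟙 _ = 𝟙 _ ≫ g.appLE ⊤ V hUST := by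
    rw [Category.comp_id, Category.id_comp]
  have key : pushoutSection HZ hUST hUSXZ hUYZ ≫ t.appLE (q ⁻¹ᵁ V) (t ⁻¹ᵁ (q ⁻¹ᵁ V)) le_rfl =
      pushout.map _ _ _ _ a (𝟙 _) (𝟙 _) e1 e2 ≫ pushoutSection HX hUST hUSXX hUYX := by
    apply pushout.hom_ext
    · rw [pushout.inl_desc_assoc, pushout.inl_desc_assoc, Category.assoc, pushout.inl_desc,
        Scheme.Hom.appLE_comp_appLE, ha, Scheme.Hom.appLE_comp_appLE]
      simp only [ht, pullback.condition]
    · rw [pushout.inr_desc_assoc, pushout.inr_desc_assoc, Category.assoc, pushout.inr_desc,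
        Scheme.Hom.appLE_comp_appLE, Category.id_comp]
  have h3 : IsIso (t.appLE (q ⁻¹ᵁ V) (t ⁻¹ᵁ (q ⁻¹ᵁ V)) le_rfl) := by
    have h4 : IsIso (pushoutSection HZ hUST hUSXZ hUYZ ≫
        t.appLE (q ⁻¹ᵁ V) (t ⁻¹ᵁ (q ⁻¹ᵁ V)) le_rfl) := by
      rw [key]
      infer_instance
    exact IsIso.of_isIso_comp_left (pushoutSection HZ hUST hUSXZ hUYZ) _
  rw [Scheme.Hom.app_eq_appLE]
  exact h3

theorem core {X Y Y' : Scheme.{u}} (f : X ⟶ Y) (g : Y' ⟶ Y) [IsAffine Y] [Flat g] [Surjective g]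
    [QuasiCompact f] [QuasiSeparated f] [IsAffineHom (pullback.snd f g)] : IsAffine X := by
  haveI : CompactSpace X := QuasiCompact.compactSpace_of_compactSpace f
  haveI : QuasiSeparatedSpace X := quasiSeparatedSpace_of_quasiSeparated f
  set τ := X.toSpecΓ with hτ
  set φ : Spec Γ(X, ⊤) ⟶ Y := Spec.map f.appTop ≫ Y.isoSpec.inv with hφdef
  have hφ : τ ≫ φ = f := by
    rw [hφdef, hτ, ← Scheme.toSpecΓ_naturality_assoc, ← Scheme.isoSpec_hom, Iso.hom_inv_id,
      Category.comp_id]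
  set p := pullback.fst φ g with hp
  set q := pullback.snd φ g with hq
  set t := pullback.snd τ p with ht
  have HZ : IsPullback p q φ g := IsPullback.of_hasPullback φ g
  have C1 : IsPullback (pullback.fst τ p) t τ p := IsPullback.of_hasPullback τ p
  have HX : IsPullback (pullback.fst τ p) (t ≫ q) f g := by
    have := C1.paste_vert HZ
    rwa [hφ] at this
  haveI : QuasiCompact (τ ≫ φ) := by rw [hφ]; infer_instance
  haveI : QuasiCompact τ := QuasiCompact.of_comp τ φ
  haveI : IsAffineHom (t ≫ q) := by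
    rw [← HX.isoPullback_hom_snd]
    infer_instance
  haveI : IsAffineHom φ := inferInstance
  haveI : IsAffineHom q := MorphismProperty.pullback_snd (P := @IsAffineHom) φ g inferInstance
  haveI : IsAffineHom t := IsAffineHom.of_comp t q
  have htiso : IsIso t := by
    have hcover : ⨆ V : Y'.affineOpens, q ⁻¹ᵁ (V : Y'.Opens) = ⊤ := by
      rw [← Scheme.Hom.preimage_iSup, iSup_affineOpens_eq_top]
      rfl
    refine IsZariskiLocalAtTarget.of_iSup_eq_top (P := MorphismProperty.isomorphisms Scheme.{u})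
      (fun V : Y'.affineOpens => q ⁻¹ᵁ (V : Y'.Opens)) hcover (fun V => ?_)
    show IsIso (t ∣_ (q ⁻¹ᵁ (V : Y'.Opens)))
    rw [isIso_morphismRestrict_iff_isIso_app t (V.2.preimage q)]
    exact section_iso f g φ hφ V V.2
  haveI : Flat p := inferInstance
  haveI : Surjective p := inferInstance
  have hτiso : IsIso τ := (Groth.Agent.S13710.result τ p).2 ⟨inferInstance, htiso⟩
  exact ⟨hτiso⟩

/-- Let f : X → Y be a morphism of schemes and g : Y' → Y a faithfully flat morphism (flat and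
surjective, not assumed quasi-compact). Then f is affine exactly when it is quasi-compact,
quasi-separated, and its base change X ×_Y Y' → Y' along g is affine. -/
theorem result {X Y Y' : Scheme.{u}} (f : X ⟶ Y) (g : Y' ⟶ Y)
    [Flat g] [Surjective g] :
    IsAffineHom f ↔ QuasiCompact f ∧ QuasiSeparated f ∧ IsAffineHom (pullback.snd f g) := by
  constructor
  · intro hf
    exact ⟨inferInstance, inferInstance,
      MorphismProperty.pullback_snd (P := @IsAffineHom) f g hf⟩
  · rintro ⟨hqc, hqs, haff⟩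
    refine HasAffineProperty.of_openCover (P := @IsAffineHom) Y.affineCover (fun i => ?_)
    show IsAffine (pullback f (Y.affineCover.f i))
    haveI : IsAffineHom (pullback.snd (pullback.snd f (Y.affineCover.f i))
        (pullback.snd g (Y.affineCover.f i))) := by
      obtain ⟨top, htop⟩ := bc_of_bc f g (Y.affineCover.f i)
      exact MorphismProperty.of_isPullback (P := @IsAffineHom) htop haff
    exact core (pullback.snd f (Y.affineCover.f i)) (pullback.snd g (Y.affineCover.f i))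

end Groth.Agent.S13711
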