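import Groth.Statements.S13714
import Groth.Agent.Lib.Helper32.GammaDescend
import Groth.Agent.Lib.Helper32.GammaBC
import Groth.Agent.Lib.Helper32.PolLawGammaFT
import Groth.Agent.Lib.Helper32.PolLawGammaUniq
import Mathlib.RingTheory.Extension.Presentation.Core
import Mathlib.RingTheory.FiniteStability

set_option autoImplicit false
universe u
open scoped TensorProduct
open ZeroCyc

namespace Groth.Agent.S13714

/-- Let (C, γ) be the algebra of divided powers Γ^d_A(B) of a commutative A-algebra B with its universal
multiplicative law γ : B → C homogeneous of degree d (every multiplicative law B → C' homogeneous of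
degree d factors uniquely through γ by an algebra map C → C'). If B is of finite presentation over A
then so is C = Γ^d_A(B). -/
theorem result {A : Type u} [CommRing A] {B : Type u} [CommRing B] [Algebra A B] {C : Type u} [CommRing C] [Algebra A C]
    {d : ℕ} (γ : PolLaw.MulLaw A B C d) (hγ : PolLaw.IsGammaD γ) [Algebra.FinitePresentation A B] :
    Algebra.FinitePresentation A C := by
  classical
  let P := Algebra.Presentation.ofFinitePresentation A B
  have hN : IsNoetherianRing P.Core := Algebra.FiniteType.isNoetherianRing ℤ P.Core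
  obtain ⟨C₀, _, _, γ₀, hγ₀⟩ :=
    Groth.Agent.Lib.Helper32.GammaDescend.exists_isGammaD P.Core (P.ModelOfHasCoeffs P.Core) d
  have hft : Algebra.FiniteType P.Core C₀ :=
    Groth.Agent.Lib.Helper32.PolLawGammaFT.finiteType_of_isGammaD γ₀ hγ₀
  have hfp : Algebra.FinitePresentation P.Core C₀ := Algebra.FinitePresentation.of_finiteType.mp hft
  have h1 := Groth.Agent.Lib.Helper32.GammaBC.isGammaD_bcG A γ₀ hγ₀
  have h2 := Groth.Agent.Lib.Helper32.GammaDescend.isGammaD_precomp_equiv
    (B' := A ⊗[P.Core] P.ModelOfHasCoeffs P.Core) γ hγ (P.tensorModelOfHasCoeffsEquiv P.Core)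
  obtain ⟨e, -⟩ := Groth.Agent.Lib.Helper32.PolLawGammaUniq.exists_algEquiv _ _ h1 h2
  exact Algebra.FinitePresentation.equiv e

end Groth.Agent.S13714
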