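import Groth.Statements.S1372
import Groth.Agent.Lib.Helper50.UnivOpenFin

set_option autoImplicit false
universe u
open FlatMor

namespace Groth.Agent.S1372

attribute [local instance] MvPolynomial.algebraMvPolynomial

open AlgebraicGeometry CategoryTheory Limits in
/-- Let A → B be a ring map and b_1, ..., b_d elements generating B as an A-module. Let h = Σ x_i b_i in
the polynomial ring B[x_1, ..., x_d]. Then universal openness of Spec B → Spec A is equivalent to
openness of the image in Spec A[x_1, ..., x_d] of the basic open D(h). -/
theorem result {A B : Type u} [CommRing A] [CommRing B] [Algebra A B] {d : ℕ} (b : Fin d → B)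
    (hb : Submodule.span A (Set.range b) = ⊤) :
    UniversallyOpen (Spec.map (CommRingCat.ofHom (algebraMap A B))) ↔
      IsOpen (PrimeSpectrum.comap (MvPolynomial.map (σ := Fin d) (algebraMap A B)) ''
        (PrimeSpectrum.basicOpen (∑ i : Fin d, MvPolynomial.X i * MvPolynomial.C (b i)) : Set (PrimeSpectrum (MvPolynomial (Fin d) B)))) := by
  constructor
  · intro H
    have sq := (isPullback_SpecMap_of_isPushout _ _ _ _
      (CommRingCat.isPushout_of_isPushout A B (MvPolynomial (Fin d) A)
        (MvPolynomial (Fin d) B))).flip
    have h1 : IsOpenMap (Spec.map (CommRingCat.ofHom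
        (algebraMap (MvPolynomial (Fin d) A) (MvPolynomial (Fin d) B)))) :=
      H.out _ _ _ sq
    exact h1 _ (PrimeSpectrum.basicOpen _).isOpen
  · intro hO
    refine Lib.Helper50.universallyOpen_of_forall_SpecMap _ (fun R φ ↦ ?_)
    algebraize [φ.hom]
    have e := pullbackSpecIso_inv_snd A B R
    have h2 : IsOpenMap ⇑((pullbackSpecIso A B R).hom ≫ Spec.map (CommRingCat.ofHom
        (Algebra.TensorProduct.includeRight (R := A) (A := B) (B := R)).toRingHom)) := by
      rw [Scheme.Hom.comp_base, TopCat.coe_comp]
      exact (Lib.Helper50.isOpenMap_SpecMap_includeRight b R hb hO).comp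
        ((pullbackSpecIso A B R).hom.homeomorph).isOpenMap
    have e2 : (pullbackSpecIso A B R).hom ≫ Spec.map (CommRingCat.ofHom
        (Algebra.TensorProduct.includeRight (R := A) (A := B) (B := R)).toRingHom) =
        pullback.snd (Spec.map (CommRingCat.ofHom (algebraMap A B))) (Spec.map φ) := by
      have e3 : Spec.map (CommRingCat.ofHom
          (Algebra.TensorProduct.includeRight (R := A) (A := B) (B := R)).toRingHom) =
          (pullbackSpecIso A B R).inv ≫ pullback.snd (Spec.map (CommRingCat.ofHom
            (algebraMap A B))) (Spec.map φ) := e.symm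
      rw [e3, Iso.hom_inv_id_assoc]
    rwa [e2] at h2

end Groth.Agent.S1372
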