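import Groth.Statements.S13720
import Groth.Agent.Lib.Helper32.PolLawBasic

set_option autoImplicit false
universe u
open scoped TensorProduct
open ZeroCyc

namespace Groth.Agent.S13720

/-- Let B be the filtered direct limit of a directed system (B_i, t_ij : B_i → B_j) of commutative
algebras over the commutative ring A, with structure maps φ_i : B_i → B (jointly surjective, and an
element of B_i vanishing in B already vanishes in some B_j), and let F : B → C be a multiplicative
polynomial law homogeneous of degree d, with restrictions F_i = F ∘ φ_i. Then an element b of B lies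
in the kernel of F if and only if it is the image of some x ∈ B_i whose images in B_j lie in the
kernel of F_j for every j ≥ i; that is, the kernel of F is the direct limit of the kernels of the
F_i. -/
theorem result {A : Type u} [CommRing A] {B : Type u} [CommRing B] [Algebra A B]
    {C : Type u} [CommRing C] [Algebra A C] {ι : Type u} [Preorder ι] [IsDirected ι (fun i j => i ≤ j)] [Nonempty ι]
    (Bi : ι → Type u) [∀ i, CommRing (Bi i)] [∀ i, Algebra A (Bi i)]
    (t : ∀ i j : ι, i ≤ j → (Bi i →ₐ[A] Bi j)) (φ : ∀ i : ι, Bi i →ₐ[A] B)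
    (hcomp : ∀ (i j : ι) (h : i ≤ j), (φ j).comp (t i j h) = φ i)
    (hsurj : ∀ b : B, ∃ (i : ι) (x : Bi i), φ i x = b)
    (hzero : ∀ (i : ι) (x : Bi i), φ i x = 0 → ∃ (j : ι) (h : i ≤ j), t i j h x = 0)
    {d : ℕ} (F : PolLaw.MulLaw A B C d) (b : B) :
    b ∈ PolLaw.ker F.law ↔ ∃ (i : ι) (x : Bi i), φ i x = b ∧
      ∀ (j : ι) (h : i ≤ j), t i j h x ∈ PolLaw.ker (F.precomp (φ j)).law := by
  classical
  have hlift : ∀ (S : Type u) [CommSemiring S] [Algebra A S] (i₀ : ι) (y : S ⊗[A] B),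
      ∃ (j : ι) (_ : i₀ ≤ j) (yj : S ⊗[A] Bi j),
        Algebra.TensorProduct.map (AlgHom.id S S) (φ j) yj = y := by
    intro S _ _ i₀ y
    induction y using TensorProduct.induction_on with
    | zero => exact ⟨i₀, le_rfl, 0, by simp⟩
    | tmul s b' =>
      obtain ⟨k, xk, hxk⟩ := hsurj b'
      obtain ⟨j, hij, hkj⟩ := exists_ge_ge i₀ k
      refine ⟨j, hij, s ⊗ₜ[A] t k j hkj xk, ?_⟩
      rw [Algebra.TensorProduct.map_tmul, ← AlgHom.comp_apply, hcomp, hxk]
      rfl
    | add y₁ y₂ h₁ h₂ =>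
      obtain ⟨j₁, hj₁, z₁, hz₁⟩ := h₁
      obtain ⟨j₂, hj₂, z₂, hz₂⟩ := h₂
      obtain ⟨j, hj₁j, hj₂j⟩ := exists_ge_ge j₁ j₂
      refine ⟨j, hj₁.trans hj₁j,
        Algebra.TensorProduct.map (AlgHom.id S S) (t j₁ j hj₁j) z₁ +
          Algebra.TensorProduct.map (AlgHom.id S S) (t j₂ j hj₂j) z₂, ?_⟩
      rw [map_add, ← hz₁, ← hz₂]
      congr 1
      · rw [← AlgHom.comp_apply, ← Algebra.TensorProduct.map_comp, hcomp]
        rfl
      · rw [← AlgHom.comp_apply, ← Algebra.TensorProduct.map_comp, hcomp]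
        rfl
  have hpush : ∀ (S : Type u) [CommSemiring S] [Algebra A S] (j₁ j : ι) (h : j₁ ≤ j)
      (z : S ⊗[A] Bi j₁),
      Algebra.TensorProduct.map (AlgHom.id S S) (φ j)
        (Algebra.TensorProduct.map (AlgHom.id S S) (t j₁ j h) z) =
      Algebra.TensorProduct.map (AlgHom.id S S) (φ j₁) z := by
    intro S _ _ j₁ j h z
    rw [← AlgHom.comp_apply, ← Algebra.TensorProduct.map_comp, hcomp]
    rfl
  constructor
  · intro hb
    obtain ⟨i, x, hx⟩ := hsurj b
    refine ⟨i, x, hx, fun j h => ?_⟩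
    apply Groth.Agent.Lib.Helper32.PolLawBasic.comap_ker_le F.law (φ j)
    rw [Ideal.mem_comap, ← AlgHom.comp_apply, hcomp, hx]
    exact hb
  · rintro ⟨i, x, rfl, hker⟩
    intro S _ _ x' w
    obtain ⟨j₁, hj₁, z₁, hz₁⟩ := hlift S i x'
    obtain ⟨j₂, hj₂, z₂, hz₂⟩ := hlift S i w
    obtain ⟨j, hj₁j, hj₂j⟩ := exists_ge_ge j₁ j₂
    have hij : i ≤ j := hj₁.trans hj₁j
    have key := hker j hij S (Algebra.TensorProduct.map (AlgHom.id S S) (t j₁ j hj₁j) z₁)
      (Algebra.TensorProduct.map (AlgHom.id S S) (t j₂ j hj₂j) z₂)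
    rw [Groth.Agent.Lib.Helper32.PolLawBasic.mulLaw_precomp_toFun',
      Groth.Agent.Lib.Helper32.PolLawBasic.mulLaw_precomp_toFun', map_add, map_mul, hpush, hpush,
      hz₁, hz₂, Algebra.TensorProduct.map_tmul, map_one, ← AlgHom.comp_apply, hcomp] at key
    exact key

end Groth.Agent.S13720
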