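import Groth.Statements.S13727
import Groth.Agent.Lib.Helper32.PolLawIdem
import Groth.Agent.Lib.Helper32.IdemTop

set_option autoImplicit false
universe u
open scoped TensorProduct
open ZeroCyc

namespace Groth.Agent.S13727

/-- Let A be a commutative ring whose prime spectrum is connected, B a commutative A-algebra and F : B →
A a multiplicative polynomial law homogeneous of degree d. Then Spec(B/ker F), the support of the
family of zero-cycles of degree d defined by F, has at most d connected components (in particular
finitely many). -/
theorem result {A : Type u} [CommRing A] [ConnectedSpace (PrimeSpectrum A)]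
    {B : Type u} [CommRing B] [Algebra A B] {d : ℕ} (F : PolLaw.MulLaw A B A d) :
    Finite (ConnectedComponents (PrimeSpectrum (PolLaw.image F.law))) ∧
      Nat.card (ConnectedComponents (PrimeSpectrum (PolLaw.image F.law))) ≤ d :=
  Groth.Agent.Lib.Helper32.IdemTop.card_connectedComponents_le d (fun s hs =>
    Groth.Agent.Lib.Helper32.PolLawIdem.card_le_of_orthogonal
      (Groth.Agent.Lib.Helper32.PolLawQuot.quot F (le_refl (PolLaw.ker F.law)))
      (Groth.Agent.Lib.Helper32.PolLawQuot.ker_quot F) s hs.1 hs.2.1 hs.2.2.1 hs.2.2.2)

end Groth.Agent.S13727
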