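import Groth.Statements.S13730
import Groth.Agent.Lib.Helper32.PolLawTSFlat3
import Groth.Agent.Lib.Helper32.PolLawTdSucc
import Groth.Agent.Lib.Helper32.PolLawGammaUniq

set_option autoImplicit false
universe u
open scoped TensorProduct
open ZeroCyc

namespace Groth.Agent.S13730

/-- Let (C, γ) be the algebra of divided powers Γ^d_A(B) of a commutative A-algebra B with its universal
multiplicative law γ : B → C homogeneous of degree d (every multiplicative law B → C' homogeneous of
degree d factors uniquely through γ by an algebra map C → C'). If B is flat over A and K ⊗_A B is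
reduced for every field K receiving a ring map from A (X = Spec B → S = Spec A is flat with
geometrically reduced fibres), then K ⊗_A C is reduced for every such K: Γ^d_A(B) again has
geometrically reduced fibres over A. (The published statement is for a flat morphism of algebraic
spaces X → S with geometrically reduced fibres and also records that Γ^d(X/S) → S is flat; this row
is the affine case and states only the reducedness of the fibres, flatness of Γ^d_A(B) for flat B
being a separate statement.) -/
theorem result {A : Type u} [CommRing A] {B : Type u} [CommRing B] [Algebra A B] {C : Type u} [CommRing C] [Algebra A C]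
    {d : ℕ} (γ : PolLaw.MulLaw A B C d) (hγ : PolLaw.IsGammaD γ) [Module.Flat A B]
    (hred : ∀ (K : Type u) [Field K] [Algebra A K], IsReduced (K ⊗[A] B)) :
    ∀ (K : Type u) [Field K] [Algebra A K], IsReduced (K ⊗[A] C) := by
  intro K _ _
  obtain ⟨e, -⟩ := Groth.Agent.Lib.Helper32.PolLawGammaUniq.exists_algEquiv γ
    (Groth.Agent.Lib.Helper32.PolLawTS.tau A B d) hγ
    Groth.Agent.Lib.Helper32.PolLawTSFlat.isGammaD_tau_of_flat
  haveI : IsReduced (K ⊗[A] (⨂[A] _ : Fin d, B)) :=
    Groth.Agent.Lib.Helper32.PolLawTdSucc.isReduced_Td hred K d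
  let ψ : K ⊗[A] C →ₐ[K] K ⊗[A] (⨂[A] _ : Fin d, B) :=
    (Algebra.TensorProduct.map (AlgHom.id K K) (SymTen.TS A B d).val).comp
      (Algebra.TensorProduct.map (AlgHom.id K K) (e : C →ₐ[A] SymTen.TS A B d))
  have hψ : Function.Injective ψ := by
    intro x y h
    have h1 : (SymTen.TS A B d).val.toLinearMap.lTensor K
        (Algebra.TensorProduct.map (AlgHom.id K K) (e : C →ₐ[A] SymTen.TS A B d) x) =
        (SymTen.TS A B d).val.toLinearMap.lTensor K
        (Algebra.TensorProduct.map (AlgHom.id K K) (e : C →ₐ[A] SymTen.TS A B d) y) := by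
      rw [PolLaw.lTensor_algHom_apply, PolLaw.lTensor_algHom_apply]
      exact h
    have h2 := Groth.Agent.Lib.Helper32.PolLawTSFlat3.val_lTensor_injective K h1
    have h3 := congrArg (Algebra.TensorProduct.map (AlgHom.id K K)
      (e.symm : SymTen.TS A B d →ₐ[A] C)) h2
    rw [← AlgHom.comp_apply, ← AlgHom.comp_apply, ← Algebra.TensorProduct.map_comp] at h3
    have h4 : (e.symm : SymTen.TS A B d →ₐ[A] C).comp (e : C →ₐ[A] SymTen.TS A B d) =
        AlgHom.id A C := by
      ext c
      simp
    rw [h4, AlgHom.comp_id, Algebra.TensorProduct.map_id] at h3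
    exact h3
  exact isReduced_of_injective ψ.toRingHom hψ

end Groth.Agent.S13730
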