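import Groth.Statements.S14767
import Mathlib
import Groth.Agent.Lib.Helper12.Subtr

set_option autoImplicit false
universe u
open CategoryTheory CategoryTheory.Limits AlgebraicGeometry
open Subtr

namespace Groth.Agent.S14767

open CategoryTheory.Limits in
/-- For a quasi-compact morphism, the image of a closed set is closed as soon as it is stable
under specialization. -/
theorem isClosed_image_of_stableUnderSpecialization {X Y : Scheme.{u}} (f : X ⟶ Y) [QuasiCompact f]
    (Z : Set X) (hZ : IsClosed Z) (H : StableUnderSpecialization (f '' Z)) :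
    IsClosed (f '' Z) := by
  rw [← closure_subset_iff_isClosed]
  intro y hy
  obtain ⟨U, hU, hyU, -⟩ := TopologicalSpace.Opens.isBasis_iff_nbhd.mp Y.isBasis_affineOpens
    (show y ∈ (⊤ : Y.Opens) from trivial)
  have hc : IsCompact ((f ⁻¹ᵁ U : X.Opens) : Set X) :=
    QuasiCompact.isCompact_preimage (f := f) _ U.isOpen hU.isCompact
  obtain ⟨R, g, hg⟩ := isCompact_iff_exists.mp hc
  have hrange : Set.range (g ≫ f) ⊆ Set.range hU.fromSpec := by
    rw [hU.range_fromSpec]
    rintro _ ⟨r, rfl⟩
    have : g r ∈ ((f ⁻¹ᵁ U : X.Opens) : Set X) := by rw [← hg]; exact ⟨r, rfl⟩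
    exact this
  let k : Spec R ⟶ Spec Γ(Y, U) := IsOpenImmersion.lift hU.fromSpec (g ≫ f) hrange
  have hk : k ≫ hU.fromSpec = g ≫ f := IsOpenImmersion.lift_fac _ _ _
  obtain ⟨φ, hφ⟩ := Spec.map_surjective k
  let j := hU.fromSpec
  have hjemb : Topology.IsOpenEmbedding j := j.isOpenEmbedding
  let C : Set (Spec R) := g ⁻¹' Z
  have hC : IsClosed C := hZ.preimage g.continuous
  let D : Set (Spec Γ(Y, U)) := k '' C
  -- `j '' D = f '' Z ∩ U`
  have hjD : j '' D = f '' Z ∩ (U : Set Y) := by
    ext w
    constructor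
    · rintro ⟨_, ⟨c, hc, rfl⟩, rfl⟩
      have e : j (k c) = f (g c) := by
        change (k ≫ hU.fromSpec) c = (g ≫ f) c
        rw [hk]
      refine ⟨⟨g c, hc, e.symm⟩, ?_⟩
      rw [← hU.range_fromSpec]; exact ⟨_, rfl⟩
    · rintro ⟨⟨z, hz, rfl⟩, hzU⟩
      have : z ∈ Set.range g := by rw [hg]; exact hzU
      obtain ⟨c, rfl⟩ := this
      refine ⟨k c, ⟨c, hz, rfl⟩, ?_⟩
      change (k ≫ hU.fromSpec) c = (g ≫ f) c
      rw [hk]
  have hDsp : StableUnderSpecialization D := by
    intro d d' hdd' hd
    have h1 : j d ⤳ j d' := hdd'.map j.continuous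
    have h2 : j d ∈ f '' Z := by
      have : j d ∈ j '' D := ⟨d, hd, rfl⟩
      rw [hjD] at this; exact this.1
    have h3 : j d' ∈ f '' Z ∩ (U : Set Y) :=
      ⟨H h1 h2, by rw [← hU.range_fromSpec]; exact ⟨_, rfl⟩⟩
    rw [← hjD] at h3
    obtain ⟨d'', hd'', e⟩ := h3
    rwa [← hjemb.injective e]
  have hDcl : IsClosed D := by
    have := PrimeSpectrum.isClosed_image_of_stableUnderSpecialization φ.hom C hC
    have hD' : D = PrimeSpectrum.comap φ.hom '' C := by
      change k '' C = _
      rw [← hφ]; rfl
    rw [hD'] at hDsp ⊢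
    exact this hDsp
  -- conclude
  obtain ⟨y₀, rfl⟩ : y ∈ Set.range j := by rw [hU.range_fromSpec]; exact hyU
  have hy₀ : y₀ ∈ closure D := by
    rw [hjemb.isInducing.closure_eq_preimage_closure_image]
    change j y₀ ∈ closure (j '' D)
    rw [hjD]
    rw [mem_closure_iff] at hy ⊢
    intro o ho hyo
    obtain ⟨w, hw1, hw2⟩ := hy (o ∩ U) (ho.inter U.isOpen) ⟨hyo, hyU⟩
    exact ⟨w, hw1.1, hw2, hw1.2⟩
  rw [hDcl.closure_eq] at hy₀
  have : j y₀ ∈ j '' D := ⟨y₀, hy₀, rfl⟩
  rw [hjD] at this
  exact this.1

open CategoryTheory.Limits in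
/-- A quasi-compact morphism whose base changes to all valuation rings are quotient maps is a
quotient map. -/
theorem isQuotientMap_of_forall_valuationRing {X Y : Scheme.{u}} (f : X ⟶ Y) [QuasiCompact f]
    (h : ∀ (V : Type u) [CommRing V] [IsDomain V] [ValuationRing V]
      (g : Spec (CommRingCat.of V) ⟶ Y), Topology.IsQuotientMap (pullback.snd f g)) :
    Topology.IsQuotientMap f := by
  have hsurj : Function.Surjective f := by
    intro y
    have h1 : IsDomain (Y.residueField y) := inferInstance
    have h2 : ValuationRing (Y.residueField y) := inferInstance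
    have hq := @h (Y.residueField y) _ h1 h2 (Y.fromSpecResidueField y)
    obtain ⟨z, -⟩ := hq.surjective (IsLocalRing.closedPoint (Y.residueField y))
    refine ⟨pullback.fst f (Y.fromSpecResidueField y) z, ?_⟩
    rw [← Scheme.Hom.comp_apply, pullback.condition, Scheme.Hom.comp_apply]
    exact Scheme.fromSpecResidueField_apply _ _
  rw [Topology.isQuotientMap_iff_isClosed]
  refine ⟨hsurj, fun T => ⟨fun hT => hT.preimage f.continuous, fun hT => ?_⟩⟩
  have hTeq : f '' (f ⁻¹' T) = T := Set.image_preimage_eq T hsurj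
  rw [← hTeq]
  apply isClosed_image_of_stableUnderSpecialization f _ hT
  rw [hTeq]
  intro y y₁ hyy₁ hyT
  obtain ⟨A, _, _, _, g, hg1, hg2⟩ := Groth.Agent.Lib.Helper12.exists_valuationRing_of_specializes hyy₁
  have hq := h A g
  have hcl : IsClosed (g ⁻¹' T) := by
    apply ((Topology.isQuotientMap_iff_isClosed.mp hq).2 _).mpr
    have : (pullback.snd f g) ⁻¹' (g ⁻¹' T) = (pullback.fst f g) ⁻¹' (f ⁻¹' T) := by
      ext z
      simp only [Set.mem_preimage]
      rw [← Scheme.Hom.comp_apply, ← Scheme.Hom.comp_apply, pullback.condition]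
    rw [this]
    exact hT.preimage (pullback.fst f g).continuous
  have hbot : (⟨⊥, Ideal.isPrime_bot⟩ : PrimeSpectrum A) ∈ g ⁻¹' T := by
    change g _ ∈ T
    rw [hg2]; exact hyT
  have hsp : (⟨⊥, Ideal.isPrime_bot⟩ : PrimeSpectrum A) ⤳ IsLocalRing.closedPoint A := by
    rw [← PrimeSpectrum.le_iff_specializes]
    exact bot_le (a := (IsLocalRing.closedPoint A).asIdeal)
  have := hcl.stableUnderSpecialization hsp hbot
  change g _ ∈ T at this
  rwa [hg1] at this

/-- Let f : X ⟶ Y be a quasi-compact morphism of schemes. Then f is universally submersive if and only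
if, for every valuation ring V and every morphism Spec V ⟶ Y, the base change X ×_Y Spec V ⟶ Spec V
is submersive (its underlying continuous map is a quotient map). (The published statement asks
instead that f be universally submersive for the constructible topologies, which holds for
quasi-compact surjective morphisms; both sides here force f to be surjective.) -/
theorem result {X Y : Scheme.{u}} (f : X ⟶ Y) [QuasiCompact f] :
    SGA1.UnivSubmersive f ↔
      ∀ (V : Type u) [CommRing V] [IsDomain V] [ValuationRing V] (g : Spec (CommRingCat.of V) ⟶ Y),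
        Topology.IsQuotientMap (pullback.snd f g) := by
  constructor
  · intro hf V _ _ _ g
    exact hf (pullback.fst f g) g (pullback.snd f g) (IsPullback.of_hasPullback f g).flip
  · intro h X' Y' i₁ i₂ f' hpb
    haveI : QuasiCompact f' := MorphismProperty.of_isPullback hpb.flip inferInstance
    change Topology.IsQuotientMap f'
    apply isQuotientMap_of_forall_valuationRing
    intro V _ _ _ g'
    have hbig : IsPullback (pullback.fst f' g' ≫ i₁) (pullback.snd f' g') f (g' ≫ i₂) :=
      (IsPullback.of_hasPullback f' g').paste_horiz hpb.flip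
    have hq := h V (g' ≫ i₂)
    have e : hbig.isoPullback.hom ≫ pullback.snd f (g' ≫ i₂) = pullback.snd f' g' :=
      hbig.isoPullback_hom_snd
    have hhomeo : Topology.IsQuotientMap hbig.isoPullback.hom :=
      (Scheme.homeoOfIso hbig.isoPullback).isQuotientMap
    have := hq.comp hhomeo
    have e2 : (pullback.snd f' g' : _ → _) =
        (pullback.snd f (g' ≫ i₂)) ∘ hbig.isoPullback.hom := by
      ext z
      have := congrArg (fun φ : pullback f' g' ⟶ Spec (CommRingCat.of V) => φ z) e
      simp only [Scheme.Hom.comp_apply] at this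
      exact this.symm
    rw [e2]
    exact this

end Groth.Agent.S14767
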