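import Groth.Statements.S14768
import Groth.Agent.Lib.Helper12.Subtr

set_option autoImplicit false
universe u
open CategoryTheory CategoryTheory.Limits AlgebraicGeometry
open Subtr

namespace Groth.Agent.S14768

open Groth.Agent.Lib.Helper12 in
theorem result {X Y : Scheme.{u}} (f : X ⟶ Y) :
    Subtr.UnivSSubtrusive f ↔
      ∀ (V : Type u) [CommRing V] [IsDomain V] [ValuationRing V] (g : Spec (CommRingCat.of V) ⟶ Y),
        Subtr.IsSSubtrusive (pullback.snd f g) := by
  constructor
  · intro h V _ _ _ g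
    exact h (pullback.fst f g) g (pullback.snd f g) (IsPullback.of_hasPullback f g).flip
  · intro h X' Y' i₁ i₂ f' hpb y y' hy'y
    obtain ⟨A, _, _, _, g, hgc, hgg⟩ := exists_valuationRing_of_specializes hy'y
    have H := h A (g ≫ i₂)
    have hsp : (⟨⊥, Ideal.isPrime_bot⟩ : PrimeSpectrum A) ⤳ IsLocalRing.closedPoint A :=
      IsLocalRing.specializes_closedPoint _
    obtain ⟨z, z', hz'z, hz, hz'⟩ := H hsp
    let l : pullback f (g ≫ i₂) ⟶ X' :=
      hpb.lift (pullback.snd f (g ≫ i₂) ≫ g) (pullback.fst f (g ≫ i₂))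
        (by rw [Category.assoc, pullback.condition])
    have hl : l ≫ f' = pullback.snd f (g ≫ i₂) ≫ g := hpb.lift_fst _ _ _
    refine ⟨l z, l z', hz'z.map l.continuous, ?_, ?_⟩
    · rw [← Scheme.Hom.comp_apply, hl, Scheme.Hom.comp_apply, hz, hgc]
    · rw [← Scheme.Hom.comp_apply, hl, Scheme.Hom.comp_apply, hz', hgg]

end Groth.Agent.S14768
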