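import Groth.Statements.S14769
import Groth.Agent.Lib.Helper12.Subtr
import Groth.Agent.S14768

set_option autoImplicit false
universe u
open CategoryTheory CategoryTheory.Limits AlgebraicGeometry
open Subtr

namespace Groth.Agent.S14769

open Groth.Agent.Lib.Helper12 in
theorem result {X Y : Scheme.{u}} (f : X ⟶ Y) :
    Subtr.UnivSSubtrusive f ↔
      ∀ (V : Type u) [CommRing V] [IsDomain V] [ValuationRing V] (g : Spec (CommRingCat.of V) ⟶ Y),
        ∃ (V' : Type u) (_ : CommRing V') (_ : IsDomain V') (_ : ValuationRing V')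
          (a : Spec (CommRingCat.of V') ⟶ X) (b : Spec (CommRingCat.of V') ⟶ Spec (CommRingCat.of V)),
          Surjective b ∧ a ≫ f = b ≫ g := by
  constructor
  · intro h V _ _ _ g
    have H : Subtr.IsSSubtrusive (pullback.snd f g) :=
      h (pullback.fst f g) g (pullback.snd f g) (IsPullback.of_hasPullback f g).flip
    have hsp : (⟨⊥, Ideal.isPrime_bot⟩ : PrimeSpectrum V) ⤳ IsLocalRing.closedPoint V :=
      IsLocalRing.specializes_closedPoint _
    obtain ⟨z, z', hz'z, hz, hz'⟩ := H hsp
    obtain ⟨V', _, _, _, l, hlc, hlg⟩ := exists_valuationRing_of_specializes hz'z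
    refine ⟨V', inferInstance, inferInstance, inferInstance, l ≫ pullback.fst f g,
      l ≫ pullback.snd f g, ?_, ?_⟩
    · apply surjective_of_valuationRing
      · rw [Scheme.Hom.comp_apply, hlc, hz]
      · rw [Scheme.Hom.comp_apply, hlg, hz']
    · rw [Category.assoc, Category.assoc, pullback.condition]
  · intro h
    rw [Groth.Agent.S14768.result]
    intro V _ _ _ g y y' hy'y
    obtain ⟨V', _, _, _, a, b, hb, hab⟩ := h V g
    let L : Spec (CommRingCat.of V') ⟶ pullback f g := pullback.lift a b hab
    have hL : L ≫ pullback.snd f g = b := pullback.lift_snd _ _ _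
    obtain ⟨v, hv⟩ := hb.surj y
    obtain ⟨v', hv'⟩ := hb.surj y'
    rcases specializes_total_of_valuationRing (V := V') v' v with hvv | hvv
    · refine ⟨L v, L v', hvv.map L.continuous, ?_, ?_⟩
      · rw [← Scheme.Hom.comp_apply, hL, hv]
      · rw [← Scheme.Hom.comp_apply, hL, hv']
    · have h1 : y ⤳ y' := by
        have := hvv.map b.continuous
        rwa [hv, hv'] at this
      have h2 : y = y' := (h1.antisymm hy'y).eq
      refine ⟨L v, L v, specializes_rfl, ?_, ?_⟩
      · rw [← Scheme.Hom.comp_apply, hL, hv]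
      · rw [← Scheme.Hom.comp_apply, hL, hv, h2]

end Groth.Agent.S14769
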