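import Groth.Statements.S19530
import Mathlib
import Groth.Agent.Lib.Helper12.Subtr
import Groth.Agent.S14769

set_option autoImplicit false
universe u
open CategoryTheory CategoryTheory.Limits AlgebraicGeometry
open Subtr

namespace Groth.Agent.S19530

open IsLocalRing Groth.Agent.Lib.Helper12

/-- The composite of a valuation ring `V` with a valuation subring `W` of its residue field. -/
def compSubring (V : Type u) [CommRing V] [IsLocalRing V]
    (W : ValuationSubring (ResidueField V)) : Subring V :=
  W.toSubring.comap (residue V)

lemma mem_compSubring {V : Type u} [CommRing V] [IsLocalRing V]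
    (W : ValuationSubring (ResidueField V)) (x : V) :
    x ∈ compSubring V W ↔ residue V x ∈ W := Iff.rfl

instance compSubring_valuationRing (V : Type u) [CommRing V] [IsDomain V] [ValuationRing V]
    (W : ValuationSubring (ResidueField V)) : ValuationRing (compSubring V W) := by
  refine @ValuationRing.mk _ _ _ ⟨?_⟩
  intro a b
  obtain ⟨c, hc⟩ := ValuationRing.cond (a : V) (b : V)
  by_cases hcW : c ∈ compSubring V W
  · refine ⟨⟨c, hcW⟩, ?_⟩
    rcases hc with hc | hc
    · exact Or.inl (Subtype.ext hc)
    · exact Or.inr (Subtype.ext hc)
  · have hne : residue V c ≠ 0 := by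
      intro h0
      apply hcW
      rw [mem_compSubring, h0]
      exact W.zero_mem
    have hu : IsUnit c := by
      by_contra hnu
      exact hne ((IsLocalRing.residue_eq_zero_iff c).mpr ((IsLocalRing.mem_maximalIdeal c).mpr hnu))
    obtain ⟨u, rfl⟩ := hu
    have hinv : ((u⁻¹ : Vˣ) : V) ∈ compSubring V W := by
      rw [mem_compSubring]
      have h1 : residue V ((u⁻¹ : Vˣ) : V) = (residue V (u : V))⁻¹ := by
        apply eq_inv_of_mul_eq_one_left
        rw [← map_mul, Units.inv_mul, map_one]
      rw [h1]
      rcases W.mem_or_inv_mem (residue V (u : V)) with h | h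
      · exact absurd ((mem_compSubring W _).mpr h) hcW
      · exact h
    refine ⟨⟨_, hinv⟩, ?_⟩
    rcases hc with hc | hc
    · refine Or.inr (Subtype.ext ?_)
      change (b : V) * ((u⁻¹ : Vˣ) : V) = a
      rw [← hc, mul_assoc, Units.mul_inv, mul_one]
    · refine Or.inl (Subtype.ext ?_)
      change (a : V) * ((u⁻¹ : Vˣ) : V) = b
      rw [← hc, mul_assoc, Units.mul_inv, mul_one]

/-- Every finite chain of specializations in a scheme is realized by a valuation ring. -/
lemma exists_chain_valuationRing {Y : Scheme.{u}} (n : ℕ) (y : Fin (n + 1) → Y)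
    (hy : ∀ i j : Fin (n + 1), i ≤ j → y i ⤳ y j) :
    ∃ (V : Type u) (_ : CommRing V) (_ : IsDomain V) (_ : ValuationRing V)
      (g : Spec (CommRingCat.of V) ⟶ Y) (p : Fin (n + 1) → Spec (CommRingCat.of V)),
      (∀ i j, i ≤ j → p i ⤳ p j) ∧ (∀ i, g (p i) = y i) ∧ p (Fin.last n) = closedPoint V := by
  induction n with
  | zero =>
    obtain ⟨A, _, _, _, g, hg, -⟩ :=
      exists_valuationRing_of_specializes (specializes_refl (y 0))
    refine ⟨A, inferInstance, inferInstance, inferInstance, g, fun _ => closedPoint A,
      fun _ _ _ => specializes_rfl, fun i => ?_, rfl⟩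
    have hi : i = 0 := Fin.ext (by have := i.2; omega)
    rw [hg, hi]
  | succ n ih =>
    obtain ⟨V, _, _, _, g, p, hp, hgp, hlast⟩ := ih (fun i => y i.castSucc)
      (fun i j hij => hy _ _ (Fin.castSucc_le_castSucc_iff.mpr hij))
    have hgc : g (closedPoint V) = y (Fin.last n).castSucc := by rw [← hlast]; exact hgp _
    have h : g (closedPoint V) ⤳ y (Fin.last (n + 1)) := by
      rw [hgc]; exact hy _ _ (Fin.le_last _)
    let φ : Y.presheaf.stalk (y (Fin.last (n + 1))) ⟶ CommRingCat.of V :=
      Y.presheaf.stalkSpecializes h ≫ Scheme.stalkClosedPointTo g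
    have hφ : Spec.map φ ≫ Y.fromSpecStalk (y (Fin.last (n + 1))) = g := by
      rw [Spec.map_comp, Category.assoc, Scheme.SpecMap_stalkSpecializes_fromSpecStalk,
        Scheme.Spec_stalkClosedPointTo_fromSpecStalk]
    let ρ : Y.presheaf.stalk (y (Fin.last (n + 1))) →+* ResidueField V :=
      (residue V).comp φ.hom
    obtain ⟨W, hW, hloc⟩ := exists_factor_valuationRing ρ
    let V' : Subring V := compSubring V W
    let ψ : Y.presheaf.stalk (y (Fin.last (n + 1))) →+* V' :=
      φ.hom.codRestrict V' (fun x => hW x)
    have hψloc : IsLocalHom ψ := by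
      constructor
      intro r hr
      obtain ⟨v, hv⟩ := hr.exists_right_inv
      have h1 : ρ r * residue V (v : V) = 1 := by
        have := congr_arg (fun z : V' => residue V (z : V)) hv
        simpa [ρ, ψ] using this
      have h2 : IsUnit (ρ.codRestrict W.toSubring hW r) := by
        refine IsUnit.of_mul_eq_one ⟨residue V (v : V), v.2⟩ (Subtype.ext ?_)
        exact h1
      exact hloc.map_nonunit r h2
    let ι : CommRingCat.of V' ⟶ CommRingCat.of V := CommRingCat.ofHom V'.subtype
    let G : Spec (CommRingCat.of V') ⟶ Y :=
      Spec.map (CommRingCat.ofHom ψ) ≫ Y.fromSpecStalk (y (Fin.last (n + 1)))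
    have hιG : Spec.map ι ≫ G = g := by
      rw [← hφ, ← Spec.map_comp_assoc]
      rfl
    have hGc : G (closedPoint V') = y (Fin.last (n + 1)) := by
      have : Spec.map (CommRingCat.ofHom ψ) (closedPoint V') =
          closedPoint (Y.presheaf.stalk (y (Fin.last (n + 1)))) :=
        comap_closedPoint (S := V') ψ
      rw [Scheme.Hom.comp_apply, this, Y.fromSpecStalk_closedPoint]
    refine ⟨V', inferInstance, inferInstance, inferInstance, G,
      Fin.snoc (α := fun _ => Spec (CommRingCat.of V')) (fun i => Spec.map ι (p i))
        (closedPoint V'), ?_, ?_, ?_⟩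
    · intro i j hij
      induction j using Fin.lastCases with
      | last =>
        rw [Fin.snoc_last]
        exact IsLocalRing.specializes_closedPoint _
      | cast j =>
        induction i using Fin.lastCases with
        | last =>
          exact absurd (lt_of_lt_of_le (Fin.castSucc_lt_last j) hij) (lt_irrefl _)
        | cast i =>
          rw [Fin.snoc_castSucc, Fin.snoc_castSucc]
          exact (hp i j (Fin.castSucc_le_castSucc_iff.mp hij)).map (Spec.map ι).continuous
    · intro i
      induction i using Fin.lastCases with
      | last => rw [Fin.snoc_last]; exact hGc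
      | cast i =>
        rw [Fin.snoc_castSucc, ← Scheme.Hom.comp_apply, hιG]
        exact hgp i
    · rw [Fin.snoc_last]

/-- Let f : X ⟶ Y be a morphism of schemes such that every base change of f has the lifting property for
ordered pairs of points (every point together with a specialization of it is the image of such a
pair). Then every finite chain of points y_0, y_1, …, y_n of Y, in which y_j is a specialization of
y_i whenever i ≤ j, lifts to a chain in X: there are points x_0, …, x_n of X with x_j a
specialization of x_i for i ≤ j and f(x_i) = y_i for every i. (The published statement is for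
universally subtrusive f, which adds submersiveness for the constructible topologies, and for
arbitrary chains having a lower bound in Y; this row keeps the pair-lifting property alone and
finite chains, whose most special member is a lower bound.) -/
theorem result {X Y : Scheme.{u}} (f : X ⟶ Y)
    (hf : Subtr.UnivSSubtrusive f) (n : ℕ) (y : Fin (n + 1) → Y)
    (hy : ∀ i j : Fin (n + 1), i ≤ j → y i ⤳ y j) :
    ∃ x : Fin (n + 1) → X, (∀ i j : Fin (n + 1), i ≤ j → x i ⤳ x j) ∧ ∀ i, f (x i) = y i := by
  obtain ⟨V, _, _, _, g, p, hp, hgp, -⟩ := exists_chain_valuationRing n y hy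
  obtain ⟨V', _, _, _, a, b, hb, hab⟩ := (Groth.Agent.S14769.result f).mp hf V g
  have hσ : ∀ q, b (Function.surjInv hb.surj q) = q := Function.surjInv_eq hb.surj
  have hmono : ∀ q q', q ⤳ q' →
      Function.surjInv hb.surj q ⤳ Function.surjInv hb.surj q' := by
    intro q q' h
    rcases specializes_total_of_valuationRing (V := V') (Function.surjInv hb.surj q)
      (Function.surjInv hb.surj q') with h1 | h1
    · exact h1
    · have h2 : q' ⤳ q := by
        convert h1.map b.continuous <;> exact (hσ _).symm
      have h3 : q = q' := (h.antisymm h2).eq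
      rw [h3]
  refine ⟨fun i => a (Function.surjInv hb.surj (p i)),
    fun i j hij => (hmono _ _ (hp i j hij)).map a.continuous, fun i => ?_⟩
  change f (a (Function.surjInv hb.surj (p i))) = y i
  rw [← Scheme.Hom.comp_apply, hab, Scheme.Hom.comp_apply, hσ, hgp]

end Groth.Agent.S19530
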