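import Groth.Statements.S14783
import Mathlib
import Groth.Agent.S14767
import Groth.Agent.S19530

set_option autoImplicit false
universe u
open CategoryTheory CategoryTheory.Limits AlgebraicGeometry
open Subtr

namespace Groth.Agent.S14783

open TopologicalSpace

/-- A prime in the closure of `V(I) ∩ D(b)` is a specialization of a point of `V(I) ∩ D(b)`. -/
lemma exists_specializes_of_mem_closure_aux {B : Type u} [CommRing B] (I : Ideal B) (b : B)
    (x : PrimeSpectrum B)
    (hx : x ∈ closure (PrimeSpectrum.zeroLocus (I : Set B) ∩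
      (PrimeSpectrum.basicOpen b : Set (PrimeSpectrum B)))) :
    ∃ q ∈ PrimeSpectrum.zeroLocus (I : Set B) ∩
      (PrimeSpectrum.basicOpen b : Set (PrimeSpectrum B)), q ⤳ x := by
  let M : Submonoid B := Submonoid.powers b ⊔ x.asIdeal.primeCompl
  by_cases hdisj : Disjoint (I : Set B) (M : Set B)
  · obtain ⟨p, hp, hIp, hpM⟩ := Ideal.exists_le_prime_disjoint I M hdisj
    refine ⟨⟨p, hp⟩, ⟨?_, ?_⟩, ?_⟩
    · rw [PrimeSpectrum.mem_zeroLocus]; exact hIp
    · change b ∉ p
      intro hb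
      exact Set.disjoint_left.mp hpM hb
        ((le_sup_left : Submonoid.powers b ≤ M) (Submonoid.mem_powers b))
    · rw [← PrimeSpectrum.le_iff_specializes]
      intro a ha
      by_contra hax
      exact Set.disjoint_left.mp hpM ha
        ((le_sup_right : x.asIdeal.primeCompl ≤ M) hax)
  · rw [Set.not_disjoint_iff] at hdisj
    obtain ⟨a, haI, haM⟩ := hdisj
    obtain ⟨y, hy, s, hs, rfl⟩ := Submonoid.mem_sup.mp haM
    obtain ⟨n, rfl⟩ := hy
    have hxs : x ∈ (PrimeSpectrum.basicOpen s : Set (PrimeSpectrum B)) := hs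
    obtain ⟨q, hqs, hqI, hqb⟩ := mem_closure_iff.mp hx _ (PrimeSpectrum.basicOpen s).isOpen hxs
    exfalso
    rw [PrimeSpectrum.mem_zeroLocus] at hqI
    have hmem : b ^ n * s ∈ q.asIdeal := hqI haI
    rcases q.isPrime.mem_or_mem hmem with h | h
    · exact hqb (q.isPrime.mem_of_pow_mem n h)
    · exact hqs h

/-- A compact locally closed subset of a prime spectrum is `V(I) ∩ ⋃ D(a)` for finitely many
`a`. -/
lemma exists_eq_zeroLocus_inter {A : Type u} [CommRing A] (K : Set (PrimeSpectrum A))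
    (hKc : IsCompact K) (hKl : IsLocallyClosed K) :
    ∃ (I : Ideal A) (t : Finset A), K = PrimeSpectrum.zeroLocus (I : Set A) ∩
      ⋃ a ∈ t, (PrimeSpectrum.basicOpen a : Set (PrimeSpectrum A)) := by
  classical
  have hO : IsOpen (coborder K) := isLocallyClosed_iff_isOpen_coborder.mp hKl
  have hcl : PrimeSpectrum.zeroLocus (PrimeSpectrum.vanishingIdeal K : Set A) = closure K :=
    PrimeSpectrum.zeroLocus_vanishingIdeal_eq_closure K
  have hb : ∀ k ∈ K, ∃ a : A, k ∈ (PrimeSpectrum.basicOpen a : Set (PrimeSpectrum A)) ∧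
      (PrimeSpectrum.basicOpen a : Set (PrimeSpectrum A)) ⊆ coborder K := by
    intro k hk
    obtain ⟨_, ⟨a, rfl⟩, hka, hsub⟩ :=
      PrimeSpectrum.isTopologicalBasis_basic_opens.exists_subset_of_mem_open
        (subset_coborder hk) hO
    exact ⟨a, hka, hsub⟩
  choose! a ha1 ha2 using hb
  obtain ⟨t, htK, hcover⟩ := hKc.elim_nhds_subcover
    (fun k => (PrimeSpectrum.basicOpen (a k) : Set (PrimeSpectrum A)))
    (fun k hk => (PrimeSpectrum.basicOpen (a k)).isOpen.mem_nhds (ha1 k hk))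
  refine ⟨PrimeSpectrum.vanishingIdeal K, t.image a, ?_⟩
  rw [hcl]
  apply subset_antisymm
  · intro k hk
    refine ⟨subset_closure hk, ?_⟩
    obtain ⟨x, hxt, hkx⟩ := Set.mem_iUnion₂.mp (hcover hk)
    exact Set.mem_iUnion₂.mpr ⟨a x, Finset.mem_image_of_mem a hxt, hkx⟩
  · rintro q ⟨hq1, hq2⟩
    obtain ⟨a', ha't, hqa'⟩ := Set.mem_iUnion₂.mp hq2
    obtain ⟨x, hxt, rfl⟩ := Finset.mem_image.mp ha't
    have : q ∈ closure K ∩ coborder K := ⟨hq1, ha2 x (htK x hxt) hqa'⟩
    rwa [closure_inter_coborder] at this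

/-- In a prime spectrum, the closure of a compact locally closed subset consists of
specializations of its points. -/
lemma exists_specializes_of_mem_closure_primeSpectrum {A : Type u} [CommRing A]
    (K : Set (PrimeSpectrum A)) (hKc : IsCompact K) (hKl : IsLocallyClosed K)
    (x : PrimeSpectrum A) (hx : x ∈ closure K) : ∃ k ∈ K, k ⤳ x := by
  obtain ⟨I, t, hK⟩ := exists_eq_zeroLocus_inter K hKc hKl
  have hK' : K = ⋃ a ∈ t, (PrimeSpectrum.zeroLocus (I : Set A) ∩
      (PrimeSpectrum.basicOpen a : Set (PrimeSpectrum A))) := by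
    rw [hK, Set.inter_iUnion₂]
  rw [hK', Finset.closure_biUnion] at hx
  obtain ⟨a, hat, hxa⟩ := Set.mem_iUnion₂.mp hx
  obtain ⟨q, hq, hqx⟩ := exists_specializes_of_mem_closure_aux I a x hxa
  refine ⟨q, ?_, hqx⟩
  rw [hK']
  exact Set.mem_iUnion₂.mpr ⟨a, hat, hq⟩

/-- The preimage of a compact locally closed subset under a map of prime spectra is compact. -/
lemma isCompact_preimage_comap {A B : Type u} [CommRing A] [CommRing B] (φ : A →+* B)
    (K : Set (PrimeSpectrum A)) (hKc : IsCompact K) (hKl : IsLocallyClosed K) :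
    IsCompact (PrimeSpectrum.comap φ ⁻¹' K) := by
  obtain ⟨I, t, hK⟩ := exists_eq_zeroLocus_inter K hKc hKl
  rw [hK, Set.preimage_inter, Set.preimage_iUnion₂]
  apply IsCompact.inter_left
  · apply t.isCompact_biUnion
    intro a _
    have : PrimeSpectrum.comap φ ⁻¹' (PrimeSpectrum.basicOpen a : Set (PrimeSpectrum A)) =
        (PrimeSpectrum.basicOpen (φ a) : Set (PrimeSpectrum B)) := by
      ext q
      simp
    rw [this]
    exact PrimeSpectrum.isCompact_basicOpen _
  · exact (PrimeSpectrum.isClosed_zeroLocus _).preimage (PrimeSpectrum.continuous_comap φ)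

lemma isCompact_preimage_fromSpec {X : Scheme.{u}} {W : X.Opens} (hW : IsAffineOpen W)
    (F : Set X) (h : IsCompact (F ∩ W)) : IsCompact (hW.fromSpec ⁻¹' F) := by
  have hj : Topology.IsOpenEmbedding hW.fromSpec := hW.fromSpec.isOpenEmbedding
  have : hW.fromSpec ⁻¹' F = hW.fromSpec ⁻¹' (F ∩ W) := by
    ext z
    simp only [Set.mem_preimage, Set.mem_inter_iff, iff_self_and]
    intro _
    rw [← hW.range_fromSpec]
    exact ⟨z, rfl⟩
  rw [this]
  exact (hj.isInducing.isCompact_preimage_iff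
    (by rw [hW.range_fromSpec]; exact Set.inter_subset_right)).mpr h

/-- In a scheme, the closure of a retrocompact locally closed subset consists of specializations
of its points. -/
lemma exists_specializes_of_mem_closure {X : Scheme.{u}} {F : Set X} (hl : IsLocallyClosed F)
    (hr : IsRetrocompact F) (x : X) (hx : x ∈ closure F) : ∃ x' ∈ F, x' ⤳ x := by
  obtain ⟨W, hW, hxW, -⟩ := Opens.isBasis_iff_nbhd.mp X.isBasis_affineOpens
    (show x ∈ (⊤ : X.Opens) from trivial)
  let j := hW.fromSpec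
  have hj : Topology.IsOpenEmbedding j := hW.fromSpec.isOpenEmbedding
  have hKc : IsCompact (j ⁻¹' F) := isCompact_preimage_fromSpec hW F (hr hW.isCompact W.isOpen)
  have hKl : IsLocallyClosed (j ⁻¹' F) := hl.preimage j.continuous
  obtain ⟨x₀, rfl⟩ : x ∈ Set.range j := by rw [hW.range_fromSpec]; exact hxW
  have hx₀ : x₀ ∈ closure (j ⁻¹' F) := by
    rw [hj.isInducing.closure_eq_preimage_closure_image]
    change j x₀ ∈ closure (j '' (j ⁻¹' F))
    rw [Set.image_preimage_eq_inter_range, hW.range_fromSpec]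
    rw [mem_closure_iff] at hx ⊢
    intro o ho hxo
    obtain ⟨w, hw1, hw2⟩ := hx (o ∩ W) (ho.inter W.isOpen) ⟨hxo, hxW⟩
    exact ⟨w, hw1.1, hw2, hw1.2⟩
  obtain ⟨k, hk, hkx⟩ := exists_specializes_of_mem_closure_primeSpectrum _ hKc hKl x₀ hx₀
  exact ⟨j k, hk, hkx.map j.continuous⟩

/-- Locally closed sets are convex for the specialization order. -/
lemma mem_of_specializes_of_isLocallyClosed {X : Type*} [TopologicalSpace X] {F : Set X}
    (hl : IsLocallyClosed F) {a b c : X} (hab : a ⤳ b) (hbc : b ⤳ c) (ha : a ∈ F) (hc : c ∈ F) :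
    b ∈ F := by
  obtain ⟨U, Z, hU, hZ, rfl⟩ := hl
  exact ⟨hbc.mem_open hU hc.1, hab.mem_closed hZ ha.2⟩

lemma isCompact_preimage_inter_of_affine {S' S : Scheme.{u}} (f : S' ⟶ S) (E : Set S)
    (hl : IsLocallyClosed E) (hr : IsRetrocompact E) {V : S.Opens} (hV : IsAffineOpen V)
    {W : S'.Opens} (hW : IsAffineOpen W) (hWV : (W : Set S') ⊆ f ⁻¹' V) :
    IsCompact (f ⁻¹' E ∩ W) := by
  let j' := hW.fromSpec
  let j := hV.fromSpec
  have hrange : Set.range (j' ≫ f) ⊆ Set.range j := by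
    rw [hV.range_fromSpec]
    rintro _ ⟨r, rfl⟩
    apply hWV
    rw [← hW.range_fromSpec]
    exact ⟨r, rfl⟩
  let k := IsOpenImmersion.lift j (j' ≫ f) hrange
  have hk : k ≫ j = j' ≫ f := IsOpenImmersion.lift_fac _ _ _
  obtain ⟨φ, hφ⟩ := Spec.map_surjective k
  have hK : IsCompact (j ⁻¹' E) := isCompact_preimage_fromSpec hV E (hr hV.isCompact V.isOpen)
  have hKl : IsLocallyClosed (j ⁻¹' E) := hl.preimage j.continuous
  have hcomp : IsCompact (k ⁻¹' (j ⁻¹' E)) := by
    rw [← hφ]
    exact isCompact_preimage_comap φ.hom _ hK hKl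
  have hjk : ∀ r, j (k r) = f (j' r) := by
    intro r
    rw [← Scheme.Hom.comp_apply, hk, Scheme.Hom.comp_apply]
  have heq : f ⁻¹' E ∩ W = j' '' (k ⁻¹' (j ⁻¹' E)) := by
    ext w
    constructor
    · rintro ⟨h1, h2⟩
      obtain ⟨r, rfl⟩ : w ∈ Set.range j' := by rw [hW.range_fromSpec]; exact h2
      refine ⟨r, ?_, rfl⟩
      change j (k r) ∈ E
      rw [hjk]
      exact h1
    · rintro ⟨r, hr', rfl⟩
      refine ⟨?_, ?_⟩
      · change f (j' r) ∈ E
        rw [← hjk]
        exact hr'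
      · rw [← hW.range_fromSpec]
        exact ⟨r, rfl⟩
  rw [heq]
  exact hcomp.image j'.continuous

/-- The preimage of a retrocompact locally closed subset under a morphism of schemes is
retrocompact. -/
lemma isRetrocompact_preimage {S' S : Scheme.{u}} (f : S' ⟶ S) (E : Set S)
    (hl : IsLocallyClosed E) (hr : IsRetrocompact E) : IsRetrocompact (f ⁻¹' E) := by
  intro U' hU'c hU'o
  have key : ∀ x ∈ U', ∃ W : S'.Opens, x ∈ W ∧ (W : Set S') ⊆ U' ∧
      IsCompact (f ⁻¹' E ∩ W) := by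
    intro x hx
    obtain ⟨V, hV, hfxV, -⟩ := Opens.isBasis_iff_nbhd.mp S.isBasis_affineOpens
      (show f x ∈ (⊤ : S.Opens) from trivial)
    obtain ⟨W, hW, hxW, hWsub⟩ := Opens.isBasis_iff_nbhd.mp S'.isBasis_affineOpens
      (show x ∈ ((⟨U', hU'o⟩ : S'.Opens) ⊓ f ⁻¹ᵁ V : S'.Opens) from ⟨hx, hfxV⟩)
    refine ⟨W, hxW, fun w hw => (hWsub hw).1, ?_⟩
    exact isCompact_preimage_inter_of_affine f E hl hr hV hW (fun w hw => (hWsub hw).2)
  choose! W hxW hWU hWc using key
  obtain ⟨t, htU, hcover⟩ := hU'c.elim_nhds_subcover (fun x => (W x : Set S'))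
    (fun x hx => (W x).isOpen.mem_nhds (hxW x hx))
  have : f ⁻¹' E ∩ U' = ⋃ x ∈ t, (f ⁻¹' E ∩ W x) := by
    ext w
    constructor
    · rintro ⟨h1, h2⟩
      obtain ⟨x, hxt, hwx⟩ := Set.mem_iUnion₂.mp (hcover h2)
      exact Set.mem_iUnion₂.mpr ⟨x, hxt, h1, hwx⟩
    · intro hw
      obtain ⟨x, hxt, h1, hwx⟩ := Set.mem_iUnion₂.mp hw
      exact ⟨h1, hWU x (htU x hxt) hwx⟩
  rw [this]
  exact t.isCompact_biUnion (fun x hxt => hWc x (htU x hxt))

/-- Descent of local closedness along a quasi-compact universally S-subtrusive morphism, when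
the preimage is retrocompact. -/
theorem isLocallyClosed_of_preimage {S' S : Scheme.{u}} (f : S' ⟶ S) [QuasiCompact f]
    (hf : Subtr.UnivSSubtrusive f) (E : Set S) (hl : IsLocallyClosed (f ⁻¹' E))
    (hr : IsRetrocompact (f ⁻¹' E)) : IsLocallyClosed E := by
  have hpair : Subtr.IsSSubtrusive f := MorphismProperty.universally_le _ _ hf
  have hA : ∀ x ∈ closure (f ⁻¹' E), ∃ x' ∈ f ⁻¹' E, x' ⤳ x :=
    exists_specializes_of_mem_closure hl hr
  have hSsp : StableUnderSpecialization (f '' closure (f ⁻¹' E)) := by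
    rintro w w' hww' ⟨x, hx, rfl⟩
    obtain ⟨x', hx'F, hx'x⟩ := hA x hx
    have h1 : f x' ⤳ w' := (hx'x.map f.continuous).trans hww'
    obtain ⟨x₁, x₁', hsp, hx₁, hx₁'⟩ := hpair h1
    refine ⟨x₁, ?_, hx₁⟩
    have : x₁' ∈ f ⁻¹' E := by
      change f x₁' ∈ E
      rw [hx₁']
      exact hx'F
    exact hsp.mem_closed isClosed_closure (subset_closure this)
  have hScl : IsClosed (f '' closure (f ⁻¹' E)) :=
    Groth.Agent.S14767.isClosed_image_of_stableUnderSpecialization f _ isClosed_closure hSsp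
  have hsurj : Function.Surjective f := fun y => by
    obtain ⟨x, _, _, hx, _⟩ := hpair (specializes_refl y)
    exact ⟨x, hx⟩
  have hEF : f '' (f ⁻¹' E) = E := Set.image_preimage_eq E hsurj
  have hZ : closure E = f '' closure (f ⁻¹' E) := by
    apply subset_antisymm
    · apply closure_minimal _ hScl
      conv_lhs => rw [← hEF]
      exact Set.image_mono subset_closure
    · conv_rhs => rw [← hEF]
      exact image_closure_subset_closure_image f.continuous
  have hC : ∀ z ∈ closure E, ∃ e' ∈ E, e' ⤳ z := by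
    intro z hz
    rw [hZ] at hz
    obtain ⟨x, hx, rfl⟩ := hz
    obtain ⟨x', hx'F, hx'x⟩ := hA x hx
    exact ⟨f x', hx'F, hx'x.map f.continuous⟩
  have hbd : IsClosed (closure (f ⁻¹' E) \ f ⁻¹' E) := by
    have := isLocallyClosed_iff_isOpen_coborder.mp hl
    rw [coborder] at this
    exact isOpen_compl_iff.mp this
  have himg : f '' (closure (f ⁻¹' E) \ f ⁻¹' E) = closure E \ E := by
    ext z
    constructor
    · rintro ⟨x, ⟨hx1, hx2⟩, rfl⟩
      exact ⟨by rw [hZ]; exact ⟨x, hx1, rfl⟩, hx2⟩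
    · rintro ⟨hz1, hz2⟩
      obtain ⟨e', he', hsp⟩ := hC z hz1
      obtain ⟨x, x', hxx', hx, hx'⟩ := hpair hsp
      have hx'F : x' ∈ f ⁻¹' E := by
        change f x' ∈ E
        rw [hx']
        exact he'
      refine ⟨x, ⟨hxx'.mem_closed isClosed_closure (subset_closure hx'F), ?_⟩, hx⟩
      intro hxF
      apply hz2
      rw [← hx]
      exact hxF
  have hsp : StableUnderSpecialization (f '' (closure (f ⁻¹' E) \ f ⁻¹' E)) := by
    rw [himg]
    rintro z w hzw ⟨hz1, hz2⟩
    refine ⟨hzw.mem_closed isClosed_closure hz1, fun hwE => hz2 ?_⟩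
    obtain ⟨e', he', hsp⟩ := hC z hz1
    have hy : ∀ i j : Fin 3, i ≤ j → (![e', z, w] : Fin 3 → S) i ⤳ (![e', z, w] : Fin 3 → S) j := by
      intro i j hij
      fin_cases i <;> fin_cases j
      all_goals first
        | exact specializes_rfl
        | exact hsp
        | exact hzw
        | exact hsp.trans hzw
        | exact absurd hij (by decide)
    obtain ⟨x, hxchain, hxy⟩ := Groth.Agent.S19530.result f hf 2 ![e', z, w] hy
    have h0 : x 0 ∈ f ⁻¹' E := by
      change f (x 0) ∈ E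
      rw [hxy 0]
      exact he'
    have h2 : x 2 ∈ f ⁻¹' E := by
      change f (x 2) ∈ E
      rw [hxy 2]
      exact hwE
    have h1 : x 1 ∈ f ⁻¹' E :=
      mem_of_specializes_of_isLocallyClosed hl (hxchain 0 1 (by decide)) (hxchain 1 2 (by decide))
        h0 h2
    have : f (x 1) = z := hxy 1
    rw [← this]
    exact h1
  have hcl : IsClosed (closure E \ E) := by
    rw [← himg]
    exact Groth.Agent.S14767.isClosed_image_of_stableUnderSpecialization f _ hbd hsp
  refine ⟨(closure E \ E)ᶜ, closure E, hcl.isOpen_compl, isClosed_closure, ?_⟩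
  ext z
  constructor
  · intro hz
    exact ⟨fun h => h.2 hz, subset_closure hz⟩
  · rintro ⟨h1, h2⟩
    by_contra hz
    exact h1 ⟨h2, hz⟩

/-- Let f : S' ⟶ S be a quasi-compact morphism of schemes every base change of which has the lifting
property for ordered pairs of points, and E ⊆ S any subset. For E to be both locally closed and
retrocompact it is necessary and sufficient that f⁻¹(E) be both. -/
theorem result {S' S : Scheme.{u}} (f : S' ⟶ S)
    [QuasiCompact f] (hf : Subtr.UnivSSubtrusive f) (E : Set S) :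
    (IsLocallyClosed E ∧ IsRetrocompact E) ↔
      (IsLocallyClosed (f ⁻¹' E) ∧ IsRetrocompact (f ⁻¹' E)) := by
  have hpair : Subtr.IsSSubtrusive f := MorphismProperty.universally_le _ _ hf
  have hsurj : Function.Surjective f := fun y => by
    obtain ⟨x, _, _, hx, _⟩ := hpair (specializes_refl y)
    exact ⟨x, hx⟩
  constructor
  · rintro ⟨hl, hr⟩
    exact ⟨hl.preimage f.continuous, isRetrocompact_preimage f E hl hr⟩
  · rintro ⟨hl, hr⟩
    refine ⟨isLocallyClosed_of_preimage f hf E hl hr, ?_⟩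
    intro U hUc hUo
    have h1 : IsCompact (f ⁻¹' U) :=
      QuasiCompact.isCompact_preimage (f := f) U hUo hUc
    have h2 : IsCompact (f ⁻¹' E ∩ f ⁻¹' U) := hr h1 (hUo.preimage f.continuous)
    have h3 : f '' (f ⁻¹' E ∩ f ⁻¹' U) = E ∩ U := by
      rw [← Set.preimage_inter, Set.image_preimage_eq _ hsurj]
    rw [← h3]
    exact h2.image f.continuous

end Groth.Agent.S14783
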