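import Groth.Statements.S13731
import Mathlib
import Groth.Agent.S14783
import Groth.Agent.Lib.Helper50.DvrSpec

set_option autoImplicit false
universe u
open HTop

namespace Groth.Agent.S13731


open CategoryTheory CategoryTheory.Limits AlgebraicGeometry

/-- For a universally submersive morphism to a locally Noetherian scheme, every specialization
lifts (DVR argument). -/
theorem exists_specializes_lift {T X : Scheme.{u}} [IsLocallyNoetherian X] (p : T ⟶ X)
    (hp : SGA1.UnivSubmersive p) (η x : X) (h : η ⤳ x) :
    ∃ t' t : T, t' ⤳ t ∧ p t = x ∧ p t' = η := by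
  by_cases hne : x = η
  · subst hne
    have hq : Topology.IsQuotientMap p := MorphismProperty.universally_le _ _ hp
    obtain ⟨t, ht⟩ := hq.surjective x
    exact ⟨t, t, specializes_rfl, ht, ht⟩
  · have h' : (𝟙 X : X ⟶ X) η ⤳ x := h
    obtain ⟨A, hA, hdvr, hcl, hgen⟩ :=
      Groth.Agent.Lib.Helper50.exists_dvr_through_specialization (𝟙 X) η x h' hne
    let R : CommRingCat.{u} := CommRingCat.of A
    let q : pullback p hA ⟶ Spec R := pullback.snd p hA
    have hq : Topology.IsQuotientMap q := hp _ _ _ (IsPullback.of_hasPullback p hA).flip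
    let s : Spec R := IsLocalRing.closedPoint A
    have hsclosed : IsClosed ({s} : Set (Spec R)) := IsLocalRing.isClosed_singleton_closedPoint A
    let E₀ : Set (Spec R) := {s}ᶜ
    have hE₀open : IsOpen E₀ := hsclosed.isOpen_compl
    -- the generic point
    let η' : Spec R := ⟨⊥, Ideal.isPrime_bot⟩
    have hη's : η' ≠ s := by
      intro he
      have h1 : (⊥ : Ideal A) = IsLocalRing.maximalIdeal A := congrArg PrimeSpectrum.asIdeal he
      exact IsDiscreteValuationRing.not_a_field A h1.symm
    have hη'sp : η' ⤳ s := by
      have h1 : (⟨⊥, Ideal.isPrime_bot⟩ : PrimeSpectrum A) ≤ IsLocalRing.closedPoint A :=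
        show (⊥ : Ideal A) ≤ _ from bot_le
      exact (PrimeSpectrum.le_iff_specializes _ _).mp h1
    have hGnotclosed : ¬ IsClosed (q ⁻¹' E₀) := by
      intro hcl'
      have h1 : IsOpen (q ⁻¹' {s}) := by
        have : q ⁻¹' {s} = (q ⁻¹' E₀)ᶜ := by
          simp only [E₀, Set.preimage_compl, compl_compl]
        rw [this]
        exact hcl'.isOpen_compl
      have h2 : IsOpen ({s} : Set (Spec R)) := hq.isOpen_preimage.mp h1
      have h3 : η' ∈ ({s} : Set (Spec R)) := hη'sp.mem_open h2 rfl
      exact hη's h3
    have hcl2 : ¬ closure (q ⁻¹' E₀) ⊆ q ⁻¹' E₀ := fun hsub =>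
      hGnotclosed (closure_subset_iff_isClosed.mp hsub)
    obtain ⟨t, htcl, htG⟩ := Set.not_subset.mp hcl2
    have hqt : q t = s := by
      by_contra hc
      exact htG hc
    have hl : IsLocallyClosed (q ⁻¹' E₀) := (hE₀open.preimage q.continuous).isLocallyClosed
    have hr0 : IsRetrocompact E₀ := fun U _ _ =>
      TopologicalSpace.NoetherianSpace.isCompact _
    have hr : IsRetrocompact (q ⁻¹' E₀) :=
      Groth.Agent.S14783.isRetrocompact_preimage q E₀ hE₀open.isLocallyClosed hr0
    obtain ⟨t', ht'G, ht't⟩ := Groth.Agent.S14783.exists_specializes_of_mem_closure hl hr t htcl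
    -- `q t'` is the generic point
    have hqt' : q t' = η' := by
      have h1 : q t' ≠ s := ht'G
      apply PrimeSpectrum.ext
      change (q t' : PrimeSpectrum A).asIdeal = ⊥
      by_contra hb
      have hmax : (q t' : PrimeSpectrum A).asIdeal.IsMaximal :=
        Ring.DimensionLEOne.maximalOfPrime hb (q t' : PrimeSpectrum A).isPrime
      apply h1
      apply PrimeSpectrum.ext
      exact IsLocalRing.eq_maximalIdeal hmax
    -- `hA` sends the generic point to `η`
    have hAη : hA η' = η := by
      let K : CommRingCat.{u} := CommRingCat.of (X.residueField η)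
      let z : Spec K := IsLocalRing.closedPoint (X.residueField η)
      have h1 : (Spec.map (CommRingCat.ofHom A.subtype)) z = η' := by
        apply PrimeSpectrum.ext
        change Ideal.comap A.subtype (IsLocalRing.maximalIdeal (X.residueField η)) = ⊥
        rw [IsLocalRing.maximalIdeal_eq_bot]
        exact (RingHom.injective_iff_ker_eq_bot _).mp Subtype.val_injective
      have h2 := congrArg (fun m : Spec K ⟶ X => m z) hgen
      simp only [Scheme.Hom.comp_apply] at h2
      rw [h1] at h2
      rw [h2]
      exact Scheme.fromSpecResidueField_apply η z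
    have hw : pullback.fst p hA ≫ p = q ≫ hA := pullback.condition
    have hw' : ∀ y : ↑(pullback p hA), p (pullback.fst p hA y) = hA (q y) := fun y => by
      have := congrArg (fun m : pullback p hA ⟶ X => m y) hw
      simpa only [Scheme.Hom.comp_apply] using this
    refine ⟨pullback.fst p hA t', pullback.fst p hA t, ht't.map (pullback.fst p hA).continuous, ?_, ?_⟩
    · rw [hw', hqt]; exact hcl
    · rw [hw', hqt', hAη]

open CategoryTheory CategoryTheory.Limits AlgebraicGeometry in
/-- Let X be a separated Noetherian scheme and {p_i : U_i → X} a finite family of separated morphisms of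
finite type whose induced morphism from the disjoint union of the U_i to X is universally submersive
(an h-covering). Then every point x of X is p_i(u) for some i and some point u of U_i admitting a
generization ξ in U_i whose image p_i(ξ) is a generic point of an irreducible component of X.
Equivalently, the irreducible components of the U_i dominating an irreducible component of X jointly
cover X. -/
theorem result {X : Scheme.{u}} [IsNoetherian X] [X.IsSeparated] (E : PreZeroHypercover.{u} X) [Finite E.I₀] [∀ i, LocallyOfFiniteType (E.f i)] [∀ i, QuasiCompact (E.f i)] [∀ i, IsSeparated (E.f i)] (hE : SGA1.UnivSubmersive (Sigma.desc E.f)) (x : X) : ∃ (i : E.I₀) (ξ u : E.X i), ξ ⤳ u ∧ E.f i u = x ∧ closure {E.f i ξ} ∈ irreducibleComponents ↥X := by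
  classical
  -- irreducible component through `x` and its generic point
  have hirr : IsIrreducible (irreducibleComponent x) := isIrreducible_irreducibleComponent
  obtain ⟨η, hη⟩ := QuasiSober.sober hirr isClosed_irreducibleComponent
  have hηx : η ⤳ x := by
    rw [specializes_iff_mem_closure, hη.def]
    exact mem_irreducibleComponent
  obtain ⟨t', t, htt, htx, htη⟩ := exists_specializes_lift (Sigma.desc E.f) hE η x hηx
  obtain ⟨⟨i, u⟩, hu⟩ := (sigmaMk E.X).surjective t
  rw [sigmaMk_mk] at hu
  have ht'mem : t' ∈ (Sigma.ι E.X i).opensRange :=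
    htt.mem_open (Sigma.ι E.X i).opensRange.isOpen ⟨u, hu⟩
  obtain ⟨ξ, hξ⟩ := ht'mem
  have hf : ∀ v : E.X i, E.f i v = (Sigma.desc E.f) (Sigma.ι E.X i v) := fun v => by
    have h1 : Sigma.ι E.X i ≫ Sigma.desc E.f = E.f i := Sigma.ι_desc _ _
    rw [← h1, Scheme.Hom.comp_apply]
  refine ⟨i, ξ, u, ?_, ?_, ?_⟩
  · rw [← (Sigma.ι E.X i).isOpenEmbedding.isInducing.specializes_iff, hξ, hu]
    exact htt
  · rw [hf, hu, htx]
  · rw [hf, hξ, htη, hη.def]
    exact irreducibleComponent_mem_irreducibleComponents x

end Groth.Agent.S13731
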