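import Groth.Statements.S14772
import Mathlib
import Groth.Agent.Lib.Helper46.SubtrAlg
import Groth.Agent.Lib.Helper12.Subtr
import Groth.Agent.S14769

set_option autoImplicit false
universe u
open CategoryTheory CategoryTheory.Limits AlgebraicGeometry
open Subtr

namespace Groth.Agent.S14772


open Groth.Agent.Lib.Helper12 Groth.Agent.Lib.Helper46.SubtrAlg

/-- A finitely generated subalgebra is a quotient of a polynomial ring in `n > 0` variables. -/
lemma exists_surjection {R : Type u} [CommRing R] {V : Type u} [CommRing V] [Algebra R V]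
    (A : Subalgebra R V) (hA : A.FG) :
    ∃ (n : ℕ) (_ : 0 < n) (π : MvPolynomial (ULift.{u} (Fin n)) R →ₐ[R] A),
      Function.Surjective π := by
  have hft : Algebra.FiniteType R A := (Subalgebra.fg_iff_finiteType A).mp hA
  obtain ⟨n, f₀, hf₀⟩ := Algebra.FiniteType.iff_quotient_mvPolynomial''.mp hft
  let v : ULift.{u} (Fin (n + 1)) → A := fun i =>
    if h : i.down.val < n then f₀ (MvPolynomial.X ⟨i.down.val, h⟩) else 0
  let e : Fin n → ULift.{u} (Fin (n + 1)) := fun j => ⟨j.castSucc⟩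
  refine ⟨n + 1, Nat.succ_pos n, MvPolynomial.aeval v, ?_⟩
  intro y
  obtain ⟨p, rfl⟩ := hf₀ y
  refine ⟨MvPolynomial.rename e p, ?_⟩
  rw [MvPolynomial.aeval_rename]
  have h1 : v ∘ e = fun j => f₀ (MvPolynomial.X j) := by
    funext j
    simp only [v, e, Function.comp_apply, Fin.coe_castSucc, Fin.is_lt, dite_true, Fin.eta]
  rw [h1]
  exact (congrArg (fun g : MvPolynomial (Fin n) R →ₐ[R] A => g p)
    (MvPolynomial.aeval_unique f₀)).symm

open IsLocalRing in
/-- The lifting at a finitely generated stage. -/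
lemma exists_local_lift {X Y : Scheme.{u}} (f : X ⟶ Y)
    (H : ∀ n : ℕ, 0 < n →
      Subtr.IsSSubtrusive (pullback.snd f (AffineSpace (ULift.{u} (Fin n)) Y ↘ Y)))
    {U : Y.Opens} (hU : IsAffineOpen U) {V : Type u} [CommRing V] [IsDomain V] [IsLocalRing V]
    [Algebra Γ(Y, U) V] (s : Set X.affineOpens)
    (hs : f ⁻¹ᵁ U = ⨆ i ∈ s, (i : X.Opens)) (hle : ∀ k : s, k.1.1 ≤ f ⁻¹ᵁ U)
    (A : Subalgebra Γ(Y, U) V) (hA : A.FG) :
    ∃ (k : s) (W : Type u) (_ : CommRing W) (_ : IsLocalRing W)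
      (α : Γ(X, k.1.1) →+* W) (β : A →+* W),
      α.comp (f.appLE U k.1.1 (hle k)).hom = β.comp (algebraMap Γ(Y, U) A) ∧
      Function.Injective β ∧
      ∀ x : A, (x : V) ∈ maximalIdeal V → β x ∈ maximalIdeal W := by
  obtain ⟨n, hn, π, hπ⟩ := exists_surjection A hA
  let R : CommRingCat.{u} := Γ(Y, U)
  let N : Type u := ULift.{u} (Fin n)
  let j : Spec R ⟶ Y := hU.fromSpec
  let Ac : CommRingCat.{u} := CommRingCat.of A
  let πc : CommRingCat.of (MvPolynomial N R) ⟶ Ac := CommRingCat.ofHom π.toRingHom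
  haveI : IsClosedImmersion (Spec.map πc) := IsClosedImmersion.spec_of_surjective _ hπ
  haveI : IsOpenImmersion (AffineSpace.map N j) :=
    MorphismProperty.of_isPullback (P := @IsOpenImmersion) (AffineSpace.isPullback_map j).flip
      inferInstance
  let i : Spec Ac ⟶ AffineSpace N Y :=
    Spec.map πc ≫ (AffineSpace.SpecIso N R).inv ≫ AffineSpace.map N j
  haveI : IsImmersion i := inferInstance
  let am : R ⟶ Ac := CommRingCat.ofHom (algebraMap Γ(Y, U) A)
  have hi : i ≫ (AffineSpace N Y ↘ Y) = Spec.map am ≫ j := by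
    simp only [i, Category.assoc, AffineSpace.map_over, AffineSpace.SpecIso_inv_over_assoc,
      ← Spec.map_comp_assoc]
    congr 2
    ext r
    exact congrArg Subtype.val (π.commutes r)
  let fn := pullback.snd f (AffineSpace N Y ↘ Y)
  let p₁ := pullback.fst fn i
  let p₂ := pullback.snd fn i
  -- the two points of `Spec A`
  let ηA : PrimeSpectrum A := ⟨⊥, Ideal.isPrime_bot⟩
  let qA : PrimeSpectrum A := ⟨(maximalIdeal V).comap A.val, inferInstance⟩
  have hsp : ηA ⤳ qA := (PrimeSpectrum.le_iff_specializes _ _).mp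
    (show (⊥ : Ideal A) ≤ _ from bot_le)
  have hsp' : i ηA ⤳ i qA := hsp.map i.continuous
  obtain ⟨x, x', hx'x, hx, hx'⟩ := H n hn hsp'
  obtain ⟨z, hz1, hz2⟩ := Scheme.Pullback.exists_preimage_pullback (f := fn) (g := i) x qA hx
  obtain ⟨z', hz'1, hz'2⟩ := Scheme.Pullback.exists_preimage_pullback (f := fn) (g := i) x' ηA hx'
  have hz'z : z' ⤳ z := by
    rw [← p₁.isEmbedding.isInducing.specializes_iff]
    change p₁ z' ⤳ p₁ z
    rw [hz1, hz'1]; exact hx'x
  obtain ⟨W, hWr, hWd, hWv, l, hlc, hlg⟩ := exists_valuationRing_of_specializes hz'z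
  let Wc : CommRingCat.{u} := CommRingCat.of W
  let a₁ : Spec Wc ⟶ X := l ≫ p₁ ≫ pullback.fst f (AffineSpace N Y ↘ Y)
  let b₁ : Spec Wc ⟶ Spec Ac := l ≫ p₂
  have hab : a₁ ≫ f = b₁ ≫ Spec.map am ≫ j := by
    have c1 : pullback.fst f (AffineSpace N Y ↘ Y) ≫ f = fn ≫ (AffineSpace N Y ↘ Y) :=
      pullback.condition
    have c2 : p₁ ≫ fn = p₂ ≫ i := pullback.condition
    simp only [a₁, b₁, Category.assoc]
    rw [c1, reassoc_of% c2, hi]
  let c : Spec Wc := closedPoint W
  -- the piece containing the closed point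
  have hcU : a₁ c ∈ f ⁻¹ᵁ U := by
    change f (a₁ c) ∈ (U : Set Y)
    rw [← hU.range_fromSpec, ← Scheme.Hom.comp_apply, hab]
    exact ⟨(b₁ ≫ Spec.map am) c, by rw [← Scheme.Hom.comp_apply, Category.assoc]⟩
  rw [hs] at hcU
  simp only [TopologicalSpace.Opens.mem_iSup] at hcU
  obtain ⟨k₀, hk₀s, hck⟩ := hcU
  let k : s := ⟨k₀, hk₀s⟩
  let pk : Spec Γ(X, k.1.1) ⟶ X := k.1.2.fromSpec
  have hrange : Set.range a₁ ⊆ Set.range pk := by
    rw [k.1.2.range_fromSpec]
    rintro _ ⟨w, rfl⟩
    exact ((specializes_closedPoint (R := W) w).map a₁.continuous).mem_open k.1.1.isOpen hck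
  let a₂ : Spec Wc ⟶ Spec Γ(X, k.1.1) := IsOpenImmersion.lift pk a₁ hrange
  have ha₂ : a₂ ≫ pk = a₁ := IsOpenImmersion.lift_fac _ _ _
  let α : Γ(X, k.1.1) ⟶ Wc := Spec.preimage a₂
  let β : Ac ⟶ Wc := Spec.preimage b₁
  have hα : Spec.map α = a₂ := Spec.map_preimage _
  have hβ : Spec.map β = b₁ := Spec.map_preimage _
  have hcompat : f.appLE U k.1.1 (hle k) ≫ α = am ≫ β := by
    apply Spec.map_injective
    rw [Spec.map_comp, Spec.map_comp, hα, hβ, ← cancel_mono j, Category.assoc, Category.assoc,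
      ← hab, ← ha₂, Category.assoc]
    congr 1
    exact IsAffineOpen.SpecMap_appLE_fromSpec f hU k.1.2 (hle k)
  refine ⟨k, W, hWr, inferInstance, α.hom, β.hom, ?_, ?_, ?_⟩
  · rw [← CommRingCat.hom_comp, hcompat]; rfl
  · rw [RingHom.injective_iff_ker_eq_bot]
    have h1 : b₁ (⟨⊥, Ideal.isPrime_bot⟩ : PrimeSpectrum W) = ηA := by
      change p₂ (l _) = _
      rw [hlg, hz'2]
    rw [← hβ] at h1
    exact congrArg PrimeSpectrum.asIdeal h1
  · intro x hx
    have h1 : b₁ c = qA := by
      change p₂ (l _) = _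
      rw [hlc, hz2]
    rw [← hβ] at h1
    have h2 : x ∈ qA.asIdeal := hx
    rw [← h1] at h2
    exact h2

/-- Let f : X ⟶ Y be a quasi-compact morphism of schemes. Then every base change of f has the lifting
property for ordered pairs of points if and only if, for every integer n ≥ 1, the base change X ×_Y
𝔸ⁿ_Y ⟶ 𝔸ⁿ_Y has it. (The published statement is about universally subtrusive morphisms f, with the
condition that f be universally submersive for the constructible topologies added on both sides, and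
does not assume f quasi-compact; this row states the quasi-compact case, where that condition is
automatic once f is surjective.) -/
theorem result {X Y : Scheme.{u}} (f : X ⟶ Y) [QuasiCompact f] :
    Subtr.UnivSSubtrusive f ↔
      ∀ n : ℕ, 0 < n →
        Subtr.IsSSubtrusive (pullback.snd f (AffineSpace (ULift.{u} (Fin n)) Y ↘ Y)) := by
  constructor
  · intro h n hn
    exact h (pullback.fst f _) (AffineSpace _ Y ↘ Y) (pullback.snd f _)
      (IsPullback.of_hasPullback f _).flip
  · intro H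
    rw [Groth.Agent.S14769.result]
    intro V _ _ _ g
    obtain ⟨U, hU, hyU, -⟩ := TopologicalSpace.Opens.isBasis_iff_nbhd.mp Y.isBasis_affineOpens
      (show g (IsLocalRing.closedPoint V) ∈ (⊤ : Y.Opens) from trivial)
    let j : Spec Γ(Y, U) ⟶ Y := hU.fromSpec
    have hrange : Set.range g ⊆ Set.range j := by
      rw [hU.range_fromSpec]
      rintro _ ⟨v, rfl⟩
      exact ((IsLocalRing.specializes_closedPoint (R := V) v).map g.continuous).mem_open
        U.isOpen hyU
    let g₀ : Spec (CommRingCat.of V) ⟶ Spec Γ(Y, U) := IsOpenImmersion.lift j g hrange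
    have hg₀ : g₀ ≫ j = g := IsOpenImmersion.lift_fac _ _ _
    let φ : Γ(Y, U) ⟶ CommRingCat.of V := Spec.preimage g₀
    have hφ : Spec.map φ = g₀ := Spec.map_preimage _
    letI : Algebra Γ(Y, U) V := φ.hom.toAlgebra
    have hc : IsCompact (f ⁻¹ᵁ U : Set X) := f.isCompact_preimage hU.isCompact
    obtain ⟨s, hsf, hs⟩ := isCompact_iff_finite_and_eq_biUnion_affineOpens.mp hc
    haveI : Finite s := hsf
    have hle : ∀ k : s, k.1.1 ≤ f ⁻¹ᵁ U := by
      intro k
      rw [hs]
      exact le_iSup₂ (f := fun (i : X.affineOpens) (_ : i ∈ s) => (i : X.Opens)) k.1 k.2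
    letI : ∀ k : s, Algebra Γ(Y, U) Γ(X, k.1.1) := fun k =>
      (f.appLE U k.1.1 (hle k)).hom.toAlgebra
    obtain ⟨k, W, hWr, hWd, hWv, α, β, hcompat, hinj, hloc⟩ :=
      exists_valuationRing_lift (R := Γ(Y, U)) (V := V) (fun k : s => Γ(X, k.1.1))
        (fun A hA => exists_local_lift f H hU s hs hle A hA)
    let Wc : CommRingCat.{u} := CommRingCat.of W
    let αc : Γ(X, k.1.1) ⟶ Wc := CommRingCat.ofHom α
    let βc : CommRingCat.of V ⟶ Wc := CommRingCat.ofHom β
    have hcompat' : f.appLE U k.1.1 (hle k) ≫ αc = φ ≫ βc := by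
      ext r
      exact congr($hcompat r)
    refine ⟨W, hWr, hWd, hWv, Spec.map αc ≫ k.1.2.fromSpec, Spec.map βc, ?_, ?_⟩
    · haveI : IsLocalHom β := hloc
      exact ⟨comap_surjective_of_valuationRing β hinj⟩
    · rw [Category.assoc, ← IsAffineOpen.SpecMap_appLE_fromSpec f hU k.1.2 (hle k),
        ← Spec.map_comp_assoc, hcompat', Spec.map_comp_assoc, hφ, hg₀]

end Groth.Agent.S14772
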