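import Groth.Statements.S14770
import Mathlib
import Groth.Agent.S14772
import Groth.Agent.S13731

set_option autoImplicit false
universe u
open CategoryTheory CategoryTheory.Limits AlgebraicGeometry
open Subtr

namespace Groth.Agent.S14770


/-- For a quasi-compact morphism, the image of a closed set is closed as soon as it is stable under
specialization. -/
lemma isClosed_image_of_stableUnderSpecialization {X Y : Scheme.{u}} (f : X ⟶ Y) [QuasiCompact f]
    (T : Set X) (hT : IsClosed T) (hs : StableUnderSpecialization (f '' T)) :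
    IsClosed (f '' T) := by
  rw [← closure_subset_iff_isClosed]
  intro y hy
  obtain ⟨U, hU, hyU, -⟩ := TopologicalSpace.Opens.isBasis_iff_nbhd.mp Y.isBasis_affineOpens
    (show y ∈ (⊤ : Y.Opens) from trivial)
  let j := hU.fromSpec
  have hj : Topology.IsOpenEmbedding j := hU.fromSpec.isOpenEmbedding
  obtain ⟨R, g, hg⟩ := isCompact_iff_exists.mp (f.isCompact_preimage hU.isCompact)
  have hgU : ∀ w, f (g w) ∈ U := by
    intro w
    have h1 : g w ∈ Set.range g := ⟨w, rfl⟩
    rw [hg] at h1
    exact h1
  have hrange : Set.range (g ≫ f) ⊆ Set.range j := by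
    rw [hU.range_fromSpec]
    rintro _ ⟨w, rfl⟩
    exact hgU w
  let h₀ := IsOpenImmersion.lift j (g ≫ f) hrange
  have hh₀ : h₀ ≫ j = g ≫ f := IsOpenImmersion.lift_fac _ _ _
  obtain ⟨φ, hφ⟩ : ∃ φ, Spec.map φ = h₀ := ⟨Spec.preimage h₀, Spec.map_preimage _⟩
  have hpt : ∀ w, j (PrimeSpectrum.comap φ.hom w) = f (g w) := by
    intro w
    have : (h₀ ≫ j) w = (g ≫ f) w := by rw [hh₀]
    rw [← hφ] at this
    exact this
  let T' : Set (PrimeSpectrum R) := g ⁻¹' T
  let Z' : Set (PrimeSpectrum Γ(Y, U)) := j ⁻¹' (f '' T)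
  have hT' : IsClosed T' := hT.preimage g.continuous
  have hZ's : StableUnderSpecialization Z' := hs.preimage j.continuous
  have hset : Z' = PrimeSpectrum.comap φ.hom '' T' := by
    ext y₀
    constructor
    · rintro ⟨t, ht, hty⟩
      have htU : t ∈ (f ⁻¹ᵁ U : Set X) := by
        change f t ∈ (U : Set Y)
        rw [hty, ← hU.range_fromSpec]
        exact ⟨y₀, rfl⟩
      rw [← hg] at htU
      obtain ⟨w, rfl⟩ := htU
      refine ⟨w, ht, hj.injective ?_⟩
      rw [hpt, hty]
    · rintro ⟨w, hw, rfl⟩
      exact ⟨g w, hw, (hpt w).symm⟩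
  have hcl : IsClosed Z' := by
    rw [hset]
    exact PrimeSpectrum.isClosed_image_of_stableUnderSpecialization φ.hom T' hT' (hset ▸ hZ's)
  have hcl' : IsClosed (j ⁻¹' (f '' T)) := hcl
  obtain ⟨y₀, rfl⟩ : y ∈ Set.range j := by rw [hU.range_fromSpec]; exact hyU
  have hy₀ : y₀ ∈ closure (j ⁻¹' (f '' T)) := by
    rw [hj.isInducing.closure_eq_preimage_closure_image]
    change j y₀ ∈ closure (j '' (j ⁻¹' (f '' T)))
    rw [Set.image_preimage_eq_inter_range, hU.range_fromSpec]
    rw [mem_closure_iff] at hy ⊢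
    intro o ho hxo
    obtain ⟨w, hw1, hw2⟩ := hy (o ∩ U) (ho.inter U.isOpen) ⟨hxo, hyU⟩
    exact ⟨w, hw1.1, hw2, hw1.2⟩
  rw [hcl'.closure_eq] at hy₀
  exact hy₀

/-- A quasi-compact S-subtrusive morphism is a quotient map. -/
lemma isQuotientMap_of_isSSubtrusive {X Y : Scheme.{u}} (f : X ⟶ Y) [QuasiCompact f]
    (h : Subtr.IsSSubtrusive f) : Topology.IsQuotientMap f := by
  have hsurj : Function.Surjective f := fun y => by
    obtain ⟨x, _, _, hx, _⟩ := h (specializes_refl y)
    exact ⟨x, hx⟩
  rw [Topology.isQuotientMap_iff_isClosed]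
  refine ⟨hsurj, fun Z => ⟨fun hZ => hZ.preimage f.continuous, fun hZ => ?_⟩⟩
  have himg : f '' (f ⁻¹' Z) = Z := Set.image_preimage_eq Z hsurj
  rw [← himg]
  apply isClosed_image_of_stableUnderSpecialization f _ hZ
  rw [himg]
  intro z y hzy hz
  obtain ⟨x, x', hx'x, hx, hx'⟩ := h hzy
  have h1 : x' ∈ f ⁻¹' Z := by
    change f x' ∈ Z
    rw [hx']; exact hz
  have h2 : x ∈ f ⁻¹' Z := hx'x.mem_closed hZ h1
  rw [← hx]; exact h2

/-- Quasi-compact universally S-subtrusive morphisms are universally submersive. -/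
theorem univSubmersive_of_univSSubtrusive {X Y : Scheme.{u}} (f : X ⟶ Y) [QuasiCompact f]
    (h : Subtr.UnivSSubtrusive f) : SGA1.UnivSubmersive f := by
  intro X' Y' i₁ i₂ f' hpb
  haveI : QuasiCompact f' :=
    MorphismProperty.of_isPullback (P := @QuasiCompact) hpb.flip inferInstance
  have h' : Subtr.IsSSubtrusive f' := h i₁ i₂ f' hpb
  exact isQuotientMap_of_isSSubtrusive f' h'

/-- Over a locally Noetherian base, quasi-compact universally submersive morphisms are
universally S-subtrusive. -/
theorem univSSubtrusive_of_univSubmersive {X Y : Scheme.{u}} [IsLocallyNoetherian Y] (f : X ⟶ Y)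
    [QuasiCompact f] (hf : SGA1.UnivSubmersive f) : Subtr.UnivSSubtrusive f := by
  rw [Groth.Agent.S14772.result]
  intro n hn
  let q := AffineSpace (ULift.{u} (Fin n)) Y ↘ Y
  haveI : IsLocallyNoetherian (AffineSpace (ULift.{u} (Fin n)) Y) :=
    LocallyOfFiniteType.isLocallyNoetherian q
  have hp : SGA1.UnivSubmersive (pullback.snd f q) :=
    MorphismProperty.pullback_snd (P := MorphismProperty.universally _) f q hf
  intro y y' h
  obtain ⟨t', t, ht, h1, h2⟩ :=
    Groth.Agent.S13731.exists_specializes_lift (pullback.snd f q) hp y' y h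
  exact ⟨t, t', ht, h1, h2⟩

/-- Let Y be a locally Noetherian scheme and f : X ⟶ Y a quasi-compact morphism. Then f is universally
submersive if and only if every base change of f has the lifting property for ordered pairs of
points. (The published statement assumes f universally submersive for the constructible topologies
rather than quasi-compact; for quasi-compact morphisms both sides force surjectivity and that
condition follows.) -/
theorem result {X Y : Scheme.{u}}
    [IsLocallyNoetherian Y] (f : X ⟶ Y) [QuasiCompact f] :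
    SGA1.UnivSubmersive f ↔ Subtr.UnivSSubtrusive f := by
  exact ⟨univSSubtrusive_of_univSubmersive f, univSubmersive_of_univSSubtrusive f⟩

end Groth.Agent.S14770
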