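import Groth.Statements.S14771
import Mathlib
import Groth.Agent.S14772
import Groth.Agent.S14770
import Groth.Agent.S13731
import Groth.Agent.Lib.Helper12.Subtr
import Groth.Agent.Lib.Helper50.DvrSpec

set_option autoImplicit false
universe u
open CategoryTheory CategoryTheory.Limits AlgebraicGeometry
open Subtr

namespace Groth.Agent.S14771


open Groth.Agent.Lib.Helper12

/-- In a locally Noetherian scheme, a proper specialization is realised by a discrete valuation
ring. -/
lemma exists_dvr_hits {X : Scheme.{u}} [IsLocallyNoetherian X] (η x : X) (h : η ⤳ x)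
    (hne : x ≠ η) :
    ∃ (A : Type u) (_ : CommRing A) (_ : IsDomain A) (_ : IsDiscreteValuationRing A)
      (l : Spec (CommRingCat.of A) ⟶ X), l (IsLocalRing.closedPoint A) = x ∧
        l (⟨⊥, Ideal.isPrime_bot⟩ : PrimeSpectrum A) = η := by
  have h' : (𝟙 X : X ⟶ X) η ⤳ x := h
  obtain ⟨A, hA, hdvr, hcl, hgen⟩ :=
    Groth.Agent.Lib.Helper50.exists_dvr_through_specialization (𝟙 X) η x h' hne
  refine ⟨A, inferInstance, inferInstance, hdvr, hA, hcl, ?_⟩
  let K : CommRingCat.{u} := CommRingCat.of (X.residueField η)
  let z : Spec K := IsLocalRing.closedPoint (X.residueField η)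
  have h1 : (Spec.map (CommRingCat.ofHom A.subtype)) z =
      (⟨⊥, Ideal.isPrime_bot⟩ : PrimeSpectrum A) := by
    apply PrimeSpectrum.ext
    change Ideal.comap A.subtype (IsLocalRing.maximalIdeal (X.residueField η)) = ⊥
    rw [IsLocalRing.maximalIdeal_eq_bot]
    exact (RingHom.injective_iff_ker_eq_bot _).mp Subtype.val_injective
  have h2 := congrArg (fun m : Spec K ⟶ X => m z) hgen
  simp only [Scheme.Hom.comp_apply] at h2
  rw [h1] at h2
  rw [h2]
  exact Scheme.fromSpecResidueField_apply η z

/-- (i) ⟹ (iii). -/
theorem dvr_lift_of_univSubmersive {X Y : Scheme.{u}} [IsLocallyNoetherian Y]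
    (f : X ⟶ Y) [LocallyOfFiniteType f] (hf : SGA1.UnivSubmersive f)
    (D : Type u) [CommRing D] [IsDomain D] [IsDiscreteValuationRing D]
    (g : Spec (CommRingCat.of D) ⟶ Y) :
    ∃ (D' : Type u) (_ : CommRing D') (_ : IsDomain D') (_ : IsDiscreteValuationRing D')
      (a : Spec (CommRingCat.of D') ⟶ X) (b : Spec (CommRingCat.of D') ⟶ Spec (CommRingCat.of D)),
      Surjective b ∧ a ≫ f = b ≫ g := by
  let p := pullback.snd f g
  have hp : SGA1.UnivSubmersive p :=
    MorphismProperty.pullback_snd (P := MorphismProperty.universally _) f g hf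
  haveI : IsLocallyNoetherian (Spec (CommRingCat.of D)) := inferInstance
  haveI : IsLocallyNoetherian (pullback f g) := LocallyOfFiniteType.isLocallyNoetherian p
  let c : Spec (CommRingCat.of D) := IsLocalRing.closedPoint D
  let η' : Spec (CommRingCat.of D) := (⟨⊥, Ideal.isPrime_bot⟩ : PrimeSpectrum D)
  have hη'c : η' ≠ c := by
    intro he
    have h1 : (⊥ : Ideal D) = IsLocalRing.maximalIdeal D := congrArg PrimeSpectrum.asIdeal he
    exact IsDiscreteValuationRing.not_a_field D h1.symm
  have hsp : η' ⤳ c := by
    have h1 : (⟨⊥, Ideal.isPrime_bot⟩ : PrimeSpectrum D) ≤ IsLocalRing.closedPoint D :=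
      show (⊥ : Ideal D) ≤ _ from bot_le
    exact (PrimeSpectrum.le_iff_specializes _ _).mp h1
  obtain ⟨t', t, ht, h1, h2⟩ := Groth.Agent.S13731.exists_specializes_lift p hp η' c hsp
  have hne : t ≠ t' := by
    intro he
    apply hη'c
    rw [← h1, ← h2, he]
  obtain ⟨D', hD'r, hD'd, hD'v, l, hlc, hlg⟩ := exists_dvr_hits t' t ht hne
  refine ⟨D', hD'r, hD'd, hD'v, l ≫ pullback.fst f g, l ≫ p, ?_, ?_⟩
  · apply surjective_of_valuationRing
    · rw [Scheme.Hom.comp_apply, hlc, h1]
    · rw [Scheme.Hom.comp_apply, hlg, h2]
  · rw [Category.assoc, Category.assoc, pullback.condition]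

/-- (iii) ⟹ (ii). -/
theorem univSSubtrusive_of_dvr_lift {X Y : Scheme.{u}} [IsLocallyNoetherian Y]
    (f : X ⟶ Y) [QuasiCompact f]
    (H : ∀ (D : Type u) [CommRing D] [IsDomain D] [IsDiscreteValuationRing D]
      (g : Spec (CommRingCat.of D) ⟶ Y),
      ∃ (D' : Type u) (_ : CommRing D') (_ : IsDomain D') (_ : IsDiscreteValuationRing D')
        (a : Spec (CommRingCat.of D') ⟶ X)
        (b : Spec (CommRingCat.of D') ⟶ Spec (CommRingCat.of D)),
        Surjective b ∧ a ≫ f = b ≫ g) : Subtr.UnivSSubtrusive f := by
  rw [Groth.Agent.S14772.result]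
  intro n hn
  let q := AffineSpace (ULift.{u} (Fin n)) Y ↘ Y
  haveI : IsLocallyNoetherian (AffineSpace (ULift.{u} (Fin n)) Y) :=
    LocallyOfFiniteType.isLocallyNoetherian q
  intro y y' hy'y
  by_cases hne : y = y'
  · subst hne
    -- use a power series ring over the residue field
    let k := (AffineSpace (ULift.{u} (Fin n)) Y).residueField y
    let D := PowerSeries k
    let l : Spec (CommRingCat.of D) ⟶ AffineSpace (ULift.{u} (Fin n)) Y :=
      Spec.map (CommRingCat.ofHom (PowerSeries.C (R := k))) ≫
        (AffineSpace (ULift.{u} (Fin n)) Y).fromSpecResidueField y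
    obtain ⟨D', hD'r, hD'd, hD'v, a, b, hb, hab⟩ := H D (l ≫ q)
    let L : Spec (CommRingCat.of D') ⟶ pullback f q :=
      pullback.lift a (b ≫ l) (by rw [Category.assoc]; exact hab)
    have hL : L ≫ pullback.snd f q = b ≫ l := pullback.lift_snd _ _ _
    let v : Spec (CommRingCat.of D') := IsLocalRing.closedPoint D'
    have hv : pullback.snd f q (L v) = y := by
      rw [← Scheme.Hom.comp_apply, hL]
      simp only [l, Scheme.Hom.comp_apply]
      exact Scheme.fromSpecResidueField_apply y _
    exact ⟨L v, L v, specializes_rfl, hv, hv⟩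
  · obtain ⟨D, hDr, hDd, hDv, l, hlc, hlg⟩ := exists_dvr_hits y' y hy'y hne
    obtain ⟨D', hD'r, hD'd, hD'v, a, b, hb, hab⟩ := H D (l ≫ q)
    let L : Spec (CommRingCat.of D') ⟶ pullback f q :=
      pullback.lift a (b ≫ l) (by rw [Category.assoc]; exact hab)
    have hL : L ≫ pullback.snd f q = b ≫ l := pullback.lift_snd _ _ _
    obtain ⟨v, hv⟩ := hb.surj (IsLocalRing.closedPoint D)
    obtain ⟨v', hv'⟩ := hb.surj (⟨⊥, Ideal.isPrime_bot⟩ : PrimeSpectrum D)
    have e1 : pullback.snd f q (L v) = y := by
      rw [← Scheme.Hom.comp_apply, hL, Scheme.Hom.comp_apply, hv, hlc]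
    have e2 : pullback.snd f q (L v') = y' := by
      rw [← Scheme.Hom.comp_apply, hL, Scheme.Hom.comp_apply, hv', hlg]
    rcases specializes_total_of_valuationRing (V := D') v' v with hvv | hvv
    · exact ⟨L v, L v', hvv.map L.continuous, e1, e2⟩
    · exfalso
      have h1 : y ⤳ y' := by
        have := hvv.map (L ≫ pullback.snd f q).continuous
        simp only [Scheme.Hom.comp_apply] at this
        rwa [e1, e2] at this
      exact hne (h1.antisymm hy'y).eq

/-- Let Y be locally Noetherian and f : X ⟶ Y quasi-compact and locally of finite type. The following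
are equivalent: (i) f is universally submersive; (ii) every base change of f has the lifting
property for ordered pairs of points; (iii) for every discrete valuation ring D and morphism g :
Spec D ⟶ Y there are a discrete valuation ring D', a morphism a : Spec D' ⟶ X and a surjective
morphism b : Spec D' ⟶ Spec D with a ≫ f = b ≫ g. (The published statement assumes f only locally of
finite type. Quasi-compactness cannot be dropped: over the local ring of a regular surface at a
closed point s, the disjoint union of the punctured surface, a regular curve C through s and, for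
every n ≥ 1, the n-fold blow-up along successive points of the strict transform of C with the n-th
such point removed, satisfies (iii) with D' = D, while (ii) fails at a valuation ring of rank two
whose centres are exactly the removed points; the limit argument behind the published proof uses
quasi-compactness of the fibres.) -/
theorem result {X Y : Scheme.{u}} [IsLocallyNoetherian Y]
    (f : X ⟶ Y) [LocallyOfFiniteType f] [QuasiCompact f] :
    List.TFAE [
      SGA1.UnivSubmersive f,
      Subtr.UnivSSubtrusive f,
      ∀ (D : Type u) [CommRing D] [IsDomain D] [IsDiscreteValuationRing D] (g : Spec (CommRingCat.of D) ⟶ Y),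
        ∃ (D' : Type u) (_ : CommRing D') (_ : IsDomain D') (_ : IsDiscreteValuationRing D')
          (a : Spec (CommRingCat.of D') ⟶ X) (b : Spec (CommRingCat.of D') ⟶ Spec (CommRingCat.of D)),
          Surjective b ∧ a ≫ f = b ≫ g] := by
  tfae_have 1 ↔ 2 := Groth.Agent.S14770.result f
  tfae_have 1 → 3 := fun hf D _ _ _ g => dvr_lift_of_univSubmersive f hf D g
  tfae_have 3 → 2 := fun H => univSSubtrusive_of_dvr_lift f H
  tfae_finish

end Groth.Agent.S14771
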