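import Groth.Statements.S13736
import Groth.Agent.S13731
import Groth.Agent.Lib.Helper22.UnivSubm

set_option autoImplicit false
universe u
open HTop

namespace Groth.Agent.S13736

open CategoryTheory CategoryTheory.Limits AlgebraicGeometry in
/-- Let X be a separated irreducible Noetherian scheme whose local rings are all geometrically
unibranch, and {p_i : U_i → X} a finite family of separated quasi-finite morphisms of finite type
with every U_i irreducible. Then the induced morphism from the disjoint union of the U_i to X is
universally submersive (a qfh-covering) if and only if the dominant members p_i are jointly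
surjective onto X; in that case the induced morphism from the disjoint union of the dominant members
alone is already universally submersive. (The published statement does not require the U_i
irreducible; for the affine line X over a field and the single member U = (X minus a closed point) ⊔
(that point) → X, which is dominant and surjective, the quotient property fails, and the published
proof uses that every irreducible component of a dominant member dominates X, so the members are
taken irreducible here.) -/
theorem result {X : Scheme.{u}} [IsNoetherian X] [X.IsSeparated] [IrreducibleSpace ↥X] (hX : ∀ x : X, CAlg2.IsGeomUnibranch (X.presheaf.stalk x)) (E : PreZeroHypercover.{u} X) [Finite E.I₀] [∀ i, LocallyOfFiniteType (E.f i)] [∀ i, QuasiCompact (E.f i)] [∀ i, LocallyQuasiFinite (E.f i)] [∀ i, IsSeparated (E.f i)] [∀ i, IrreducibleSpace ↥(E.X i)] : (SGA1.UnivSubmersive (Sigma.desc E.f) ↔ ∀ x : X, ∃ (i : E.I₀) (u : E.X i), IsDominant (E.f i) ∧ E.f i u = x) ∧ ((∀ x : X, ∃ (i : E.I₀) (u : E.X i), IsDominant (E.f i) ∧ E.f i u = x) → SGA1.UnivSubmersive (Sigma.desc fun j : {i : E.I₀ // IsDominant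 (E.f i)} => E.f j.1)) := by
  open Groth.Agent.Lib.Helper22.UnivSubm in
  have key : (∀ x : X, ∃ (i : E.I₀) (u : E.X i), IsDominant (E.f i) ∧ E.f i u = x) →
      SGA1.UnivSubmersive (Sigma.desc fun j : {i : E.I₀ // IsDominant (E.f i)} => E.f j.1) := by
    intro hcov
    have : ∀ j : {i : E.I₀ // IsDominant (E.f i)}, UniversallyOpen (E.f j.1) := fun j => by
      have := j.2
      exact universallyOpen_of_dominant_locallyQuasiFinite hX (E.f j.1)
    have : UniversallyOpen (Sigma.desc fun j : {i : E.I₀ // IsDominant (E.f i)} => E.f j.1) :=
      IsZariskiLocalAtSource.sigmaDesc (P := @UniversallyOpen) (fun j => inferInstance)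
    have : Surjective (Sigma.desc fun j : {i : E.I₀ // IsDominant (E.f i)} => E.f j.1) := by
      refine ⟨fun x => ?_⟩
      obtain ⟨i, u, hdom, hu⟩ := hcov x
      refine ⟨Sigma.ι (fun j : {i : E.I₀ // IsDominant (E.f i)} => E.X j.1) ⟨i, hdom⟩ u, ?_⟩
      rw [← Scheme.Hom.comp_apply, Sigma.ι_desc]
      exact hu
    exact univSubmersive_of_universallyOpen_surjective _
  refine ⟨⟨?_, ?_⟩, key⟩
  · intro hE x
    obtain ⟨i, ξ, u, -, hu, hcl⟩ := Groth.Agent.S13731.result E hE x
    refine ⟨i, u, ⟨?_⟩, hu⟩
    rw [irreducibleComponents_eq_singleton, Set.mem_singleton_iff] at hcl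
    rw [DenseRange, dense_iff_closure_eq, Set.eq_univ_iff_forall]
    intro y
    have hy : y ∈ closure ({E.f i ξ} : Set X) := by rw [hcl]; trivial
    have hsub : ({E.f i ξ} : Set X) ⊆ Set.range (E.f i) :=
      Set.singleton_subset_iff.mpr (Set.mem_range_self ξ)
    exact closure_mono hsub hy
  · intro hcov
    have h1 := key hcov
    let h : (∐ fun j : {i : E.I₀ // IsDominant (E.f i)} => E.X j.1) ⟶ ∐ E.X :=
      Sigma.desc fun j => Sigma.ι E.X j.1
    have hfac : h ≫ Sigma.desc E.f =
        Sigma.desc fun j : {i : E.I₀ // IsDominant (E.f i)} => E.f j.1 := by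
      apply Sigma.hom_ext
      intro j
      simp [h]
    rw [← hfac] at h1
    exact univSubmersive_of_comp h _ h1

end Groth.Agent.S13736
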