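import Groth.Statements.S13737
import Mathlib
import Groth.Agent.S14770
import Groth.Agent.S1681
import Groth.Agent.S1682

set_option autoImplicit false
universe u
open HTop

namespace Groth.Agent.S13737


open CategoryTheory CategoryTheory.Limits AlgebraicGeometry

/-- Every point of a scheme has a maximal generization. -/
lemma exists_maximal_generization {Z : Scheme.{u}} (z : Z) :
    ∃ η : Z, η ⤳ z ∧ ∀ y : Z, y ⤳ η → y = η := by
  let S : Set Z := irreducibleComponent z
  have hSirr : IsIrreducible S := isIrreducible_irreducibleComponent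
  have hScl : IsClosed S := isClosed_irreducibleComponent
  let η : Z := hSirr.genericPoint
  have hη : IsGenericPoint η S := hSirr.isGenericPoint_genericPoint hScl
  refine ⟨η, ?_, ?_⟩
  · rw [specializes_iff_mem_closure, hη.def]
    exact mem_irreducibleComponent
  · intro y hy
    have h1 : S ⊆ closure {y} := by
      rw [← hη.def]
      exact (specializes_iff_closure_subset).mp hy
    have h2 : IsIrreducible (closure ({y} : Set Z)) := isIrreducible_singleton.closure
    have h3 : closure ({y} : Set Z) ⊆ S := by
      have hmax := irreducibleComponent_mem_irreducibleComponents z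
      exact hmax.2 h2 h1
    have h4 : IsGenericPoint y S := le_antisymm h3 h1
    exact h4.eq hη

/-- Two morphisms into `X'` that agree after composing with `b` and land in the locus where `b`
is an isomorphism are equal. -/
lemma eq_of_mem_iso_locus {X X' T : Scheme.{u}} (b : X' ⟶ X) (V : X.Opens) [IsIso (b ∣_ V)]
    (α β : T ⟶ X') (h : α ≫ b = β ≫ b) (hα : ∀ t, b (α t) ∈ V) (hβ : ∀ t, b (β t) ∈ V) :
    α = β := by
  let W : X'.Opens := b ⁻¹ᵁ V
  have hrα : Set.range α ⊆ Set.range W.ι := by
    rw [Scheme.Opens.range_ι]
    rintro _ ⟨t, rfl⟩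
    exact hα t
  have hrβ : Set.range β ⊆ Set.range W.ι := by
    rw [Scheme.Opens.range_ι]
    rintro _ ⟨t, rfl⟩
    exact hβ t
  let α' : T ⟶ W := IsOpenImmersion.lift W.ι α hrα
  let β' : T ⟶ W := IsOpenImmersion.lift W.ι β hrβ
  have hα' : α' ≫ W.ι = α := IsOpenImmersion.lift_fac _ _ _
  have hβ' : β' ≫ W.ι = β := IsOpenImmersion.lift_fac _ _ _
  have hr : (b ∣_ V) ≫ V.ι = W.ι ≫ b := morphismRestrict_ι b V
  have h1 : (α' ≫ (b ∣_ V)) ≫ V.ι = (β' ≫ (b ∣_ V)) ≫ V.ι := by
    rw [Category.assoc, Category.assoc, hr, ← Category.assoc, ← Category.assoc, hα', hβ', h]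
  have h2 : α' ≫ (b ∣_ V) = β' ≫ (b ∣_ V) := (cancel_mono V.ι).mp h1
  have h3 : α' = β' := (cancel_mono (b ∣_ V)).mp h2
  rw [← hα', ← hβ', h3]

open CategoryTheory CategoryTheory.Limits AlgebraicGeometry in
/-- Let X be a separated integral Noetherian scheme, b : X' → X a blow-up of X in a quasi-coherent sheaf
of ideals (characterised by the universal property of blowing up), with X' separated and b of finite
type, and let U be an open subscheme of X' whose composite U → X' → X is universally submersive (an
h-covering). Then U = X'. (The published statement takes X only integral; its proof applies the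
surjectivity of dominating components for Noetherian schemes, so this row takes X Noetherian.) -/
theorem result {X X' : Scheme.{u}} [IsNoetherian X] [X.IsSeparated] [IsIntegral X] [X'.IsSeparated] (𝓘 : X.IdealSheafData) (b : X' ⟶ X) [LocallyOfFiniteType b] [QuasiCompact b] (hb : BlowUp.IsBlowUp b 𝓘) (U : X'.Opens) (hU : SGA1.UnivSubmersive (U.ι ≫ b)) : U = ⊤ := by
  haveI : IsLocallyNoetherian X' := LocallyOfFiniteType.isLocallyNoetherian b
  let f : (U : Scheme.{u}) ⟶ X := U.ι ≫ b
  haveI : QuasiCompact f := inferInstanceAs (QuasiCompact (U.ι ≫ b))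
  have hsub : Subtr.UnivSSubtrusive f := (Groth.Agent.S14770.result f).mp hU
  let p : pullback f b ⟶ X' := pullback.snd f b
  let q : pullback f b ⟶ X' := pullback.fst f b ≫ U.ι
  have hp : Subtr.IsSSubtrusive p :=
    hsub (pullback.fst f b) b (pullback.snd f b) (IsPullback.of_hasPullback f b).flip
  have hqp : q ≫ b = p ≫ b := by
    simp only [q, p, Category.assoc]
    exact pullback.condition
  let V : X.Opens := 𝓘.support.compl
  haveI : IsIso (b ∣_ V) := Groth.Agent.S1682.result 𝓘 b hb
  rw [eq_top_iff]
  intro x' _
  obtain ⟨η', hη'x', hmax⟩ := exists_maximal_generization x'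
  have hbη' : b η' ∈ V := by
    have h1 := (Groth.Agent.S1681.result 𝓘 b hb).mapsTo (show η' ∈ {x' : ↥X' | ∀ y : ↥X', y ⤳ x' → y = x'} from hmax)
    exact h1.2
  obtain ⟨w, w', hw'w, hw, hw'⟩ := hp hη'x'
  -- the equalizer of `q` and `p`
  let ι := equalizer.ι q p
  have hcl : IsClosed (Set.range ι) := ι.isClosedEmbedding.isClosed_range
  have hpt : ∀ z : ↥(pullback f b), b (q z) = b (p z) := by
    intro z
    have := congrArg (fun m : pullback f b ⟶ X => m z) hqp
    simpa only [Scheme.Hom.comp_apply] using this
  have hw'mem : w' ∈ Set.range ι := by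
    let r := (pullback f b).fromSpecResidueField w'
    have hr : r ≫ q = r ≫ p := by
      apply eq_of_mem_iso_locus b V
      · calc (r ≫ q) ≫ b = r ≫ (q ≫ b) := Category.assoc _ _ _
          _ = r ≫ (p ≫ b) := by rw [hqp]
          _ = (r ≫ p) ≫ b := (Category.assoc _ _ _).symm
      · intro t
        rw [Scheme.Hom.comp_apply, Scheme.fromSpecResidueField_apply, hpt, hw']
        exact hbη'
      · intro t
        rw [Scheme.Hom.comp_apply, Scheme.fromSpecResidueField_apply, hw']
        exact hbη'
    let t₀ : Spec ((pullback f b).residueField w') :=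
      IsLocalRing.closedPoint ((pullback f b).residueField w')
    refine ⟨equalizer.lift r hr t₀, ?_⟩
    rw [← Scheme.Hom.comp_apply, equalizer.lift_ι]
    exact Scheme.fromSpecResidueField_apply w' t₀
  have hwmem : w ∈ Set.range ι := hw'w.mem_closed hcl hw'mem
  obtain ⟨e, he⟩ := hwmem
  have hqw : q w = p w := by
    have := congrArg (fun m : equalizer q p ⟶ X' => m e) (equalizer.condition q p)
    simp only [Scheme.Hom.comp_apply] at this
    rw [he] at this
    exact this
  have hx' : x' = U.ι (pullback.fst f b w) := by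
    rw [← hw, ← hqw]
    rfl
  rw [hx']
  exact (pullback.fst f b w).2

end Groth.Agent.S13737
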