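import Groth.Statements.S13738
import Groth.Agent.Lib.Helper62.GeomPoint

set_option autoImplicit false
universe u
open SGA1

namespace Groth.Agent.S13738

open CategoryTheory CategoryTheory.Limits AlgebraicGeometry in
/-- Let S be a separated irreducible Noetherian scheme, q : X → S finite and surjective with X
separated, and G a finite group acting on X by S-automorphisms, transitively on the geometric points
of X over every geometric point of S. Then every irreducible component of X maps onto S and G acts
transitively on the set of irreducible components of X. -/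
theorem result {X S : Scheme.{u}} [IsNoetherian S] [S.IsSeparated] [X.IsSeparated] [IrreducibleSpace ↥S] (q : X ⟶ S) [IsFinite q] [Surjective q] {G : Type u} [Group G] [Finite G] (ρ : G →* Aut X) (hρ : ∀ g : G, (ρ g).hom ≫ q = q) (htrans : ∀ (Ω : Type u) [Field Ω] [IsAlgClosed Ω] (τ₁ τ₂ : Spec (CommRingCat.of Ω) ⟶ X), τ₁ ≫ q = τ₂ ≫ q → ∃ g : G, τ₁ ≫ (ρ g).hom = τ₂) : (∀ T ∈ irreducibleComponents ↥X, Set.image (fun x => q x) T = Set.univ) ∧ ∀ T₁ ∈ irreducibleComponents ↥X, ∀ T₂ ∈ irreducibleComponents ↥X, ∃ g : G, Set.image (fun x => (ρ g).hom x) T₁ = T₂ := by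
  classical
  have hpt := Groth.Agent.Lib.Helper62.point_transitive q ρ htrans
  -- X is Noetherian
  have : IsLocallyNoetherian X := LocallyOfFiniteType.isLocallyNoetherian q
  have : CompactSpace X := QuasiCompact.compactSpace_of_compactSpace q
  have : IsNoetherian X := {}
  have hfin : (irreducibleComponents ↥X).Finite :=
    TopologicalSpace.NoetherianSpace.finite_irreducibleComponents
  -- the action on points
  have hq : ∀ (g : G) (x : X), q ((ρ g).hom x) = q x := fun g x => by
    have := congrArg (fun f : X ⟶ S => f x) (hρ g)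
    simpa using this
  have hcl : ∀ (g : G) (T : Set X), IsClosed T → IsClosed (Set.image (fun x => (ρ g).hom x) T) := by
    intro g T hT
    have : Set.image (fun x => (ρ g).hom x) T = (fun x => (ρ g⁻¹).hom x) ⁻¹' T := by
      ext x
      constructor
      · rintro ⟨y, hy, rfl⟩
        change (ρ g⁻¹).hom ((ρ g).hom y) ∈ T
        rw [Groth.Agent.Lib.Helper62.act_inv_act]
        exact hy
      · intro hx
        exact ⟨(ρ g⁻¹).hom x, hx, Groth.Agent.Lib.Helper62.act_act_inv ρ g x⟩
    rw [this]
    exact hT.preimage (ρ g⁻¹).hom.continuous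
  -- a component dominating S
  obtain ⟨T₀, hT₀, hT₀univ⟩ : ∃ T₀ ∈ irreducibleComponents ↥X,
      Set.image (fun x => q x) T₀ = Set.univ := by
    have hirr : IsIrreducible (Set.univ : Set S) := IrreducibleSpace.isIrreducible_univ S
    have hclosedmap : IsClosedMap (fun x : X => q x) := q.isClosedMap
    have := isIrreducible_iff_sUnion_isClosed.mp hirr
      (hfin.toFinset.image (fun T => Set.image (fun x => q x) T)) (by
        intro z hz
        simp only [Finset.mem_image, Set.Finite.mem_toFinset] at hz
        obtain ⟨T, hT, rfl⟩ := hz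
        exact hclosedmap _ (isClosed_of_mem_irreducibleComponents T hT)) (by
        intro s _
        obtain ⟨x, rfl⟩ := q.surjective s
        have hx : x ∈ ⋃₀ irreducibleComponents ↥X := by
          rw [sUnion_irreducibleComponents]; trivial
        obtain ⟨T, hT, hxT⟩ := hx
        refine ⟨Set.image (fun x => q x) T, ?_, ⟨x, hxT, rfl⟩⟩
        simp only [Finset.coe_image, Set.Finite.coe_toFinset]
        exact ⟨T, hT, rfl⟩)
    obtain ⟨z, hz, hzuniv⟩ := this
    simp only [Finset.mem_image, Set.Finite.mem_toFinset] at hz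
    obtain ⟨T, hT, rfl⟩ := hz
    exact ⟨T, hT, Set.eq_univ_of_univ_subset hzuniv⟩
  -- every component is a translate of T₀
  have hkey : ∀ T ∈ irreducibleComponents ↥X, ∃ g : G, Set.image (fun x => (ρ g).hom x) T₀ = T := by
    intro T hT
    have hTirr : IsIrreducible T := hT.1
    have : Fintype G := Fintype.ofFinite G
    have := isIrreducible_iff_sUnion_isClosed.mp hTirr
      (Finset.univ.image (fun g : G => Set.image (fun x => (ρ g).hom x) T₀)) (by
        intro z hz
        simp only [Finset.mem_image, Finset.mem_univ, true_and] at hz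
        obtain ⟨g, rfl⟩ := hz
        exact hcl g T₀ (isClosed_of_mem_irreducibleComponents T₀ hT₀)) (by
        intro x _
        have : q x ∈ Set.image (fun x => q x) T₀ := by rw [hT₀univ]; trivial
        obtain ⟨y, hy, hyx⟩ := this
        obtain ⟨g, hg⟩ := hpt y x hyx
        refine ⟨Set.image (fun x => (ρ g).hom x) T₀, ?_, ⟨y, hy, hg⟩⟩
        simp only [Finset.coe_image, Finset.coe_univ, Set.image_univ]
        exact ⟨g, rfl⟩)
    obtain ⟨z, hz, hTz⟩ := this
    simp only [Finset.mem_image, Finset.mem_univ, true_and] at hz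
    obtain ⟨g, rfl⟩ := hz
    refine ⟨g, ?_⟩
    have hirr' : IsIrreducible (Set.image (fun x => (ρ g).hom x) T₀) :=
      hT₀.1.image _ (ρ g).hom.continuous.continuousOn
    exact (hT.2 hirr' hTz).antisymm hTz |>.symm ▸ rfl
  refine ⟨?_, ?_⟩
  · intro T hT
    obtain ⟨g, rfl⟩ := hkey T hT
    rw [Set.image_image]
    simp only [hq]
    exact hT₀univ
  · intro T₁ hT₁ T₂ hT₂
    obtain ⟨g₁, rfl⟩ := hkey T₁ hT₁
    obtain ⟨g₂, rfl⟩ := hkey T₂ hT₂
    refine ⟨g₂ * g₁⁻¹, ?_⟩
    rw [Set.image_image]
    congr 1
    ext x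
    change (ρ (g₂ * g₁⁻¹)).hom ((ρ g₁).hom x) = (ρ g₂).hom x
    rw [Groth.Agent.Lib.Helper62.act_mul, Groth.Agent.Lib.Helper62.act_inv_act]

end Groth.Agent.S13738
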