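import Groth.Statements.S13739
import Groth.Agent.Lib.Helper62.GeomPoint
import Groth.Agent.Lib.Helper62.SigmaFinite

set_option autoImplicit false
universe u
open SGA1

namespace Groth.Agent.S13739

open CategoryTheory CategoryTheory.Limits AlgebraicGeometry in
/-- Let S be a separated Noetherian scheme, q : X → S finite surjective with X separated, G a finite
group acting on X by S-automorphisms and transitively on the geometric points of X over every
geometric point of S, and r : Y → X a morphism with Y separated. If υ is the morphism from the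
disjoint union of G copies of Y to Y ×_S X (Y over S through r ≫ q) whose σ-th component is (id_Y, r
≫ σ), then υ is finite and surjective. -/
theorem result {X S Y : Scheme.{u}} [IsNoetherian S] [S.IsSeparated] [X.IsSeparated] [Y.IsSeparated] (q : X ⟶ S) [IsFinite q] [Surjective q] {G : Type u} [Group G] [Finite G] (ρ : G →* Aut X) (hρ : ∀ g : G, (ρ g).hom ≫ q = q) (htrans : ∀ (Ω : Type u) [Field Ω] [IsAlgClosed Ω] (τ₁ τ₂ : Spec (CommRingCat.of Ω) ⟶ X), τ₁ ≫ q = τ₂ ≫ q → ∃ g : G, τ₁ ≫ (ρ g).hom = τ₂) (r : Y ⟶ X) (υ : (∐ fun _ : G => Y) ⟶ pullback (r ≫ q) q) (hυ₁ : ∀ σ : G, Sigma.ι (fun _ : G => Y) σ ≫ υ ≫ pullback.fst (r ≫ q) q = 𝟙 Y) (hυ₂ : ∀ σ : G, Sigma.ι (fun _ : G => Y) σ ≫ υ ≫ pullback.snd (r ≫ q) q = r ≫ (ρ σ).hom) : IsFinite υ ∧ Surjective υ := by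
  refine ⟨?_, ?_⟩
  · have h1 : υ ≫ pullback.fst (r ≫ q) q = Limits.Sigma.desc (fun _ : G => 𝟙 Y) := by
      apply Limits.Sigma.hom_ext
      intro σ
      rw [hυ₁ σ]
      simp
    have h2 : IsFinite (υ ≫ pullback.fst (r ≫ q) q) := by
      rw [h1]
      exact Groth.Agent.Lib.Helper62.isFinite_sigmaDesc G _ _ (fun _ => inferInstance)
    exact IsFinite.of_comp υ (pullback.fst (r ≫ q) q)
  · refine ⟨fun z => ?_⟩
    obtain ⟨Ω, _, _, τ, hτ⟩ := Groth.Agent.Lib.Helper62.exists_geometric_point z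
    obtain ⟨g, hg⟩ := htrans Ω (τ ≫ pullback.fst (r ≫ q) q ≫ r) (τ ≫ pullback.snd (r ≫ q) q)
      (by simp only [Category.assoc]; rw [pullback.condition])
    have key : (τ ≫ pullback.fst (r ≫ q) q) ≫ Limits.Sigma.ι (fun _ : G => Y) g ≫ υ = τ := by
      apply pullback.hom_ext
      · simp only [Category.assoc]
        rw [hυ₁ g, Category.comp_id]
      · simp only [Category.assoc]
        rw [hυ₂ g]
        simpa only [Category.assoc] using hg
    refine ⟨Limits.Sigma.ι (fun _ : G => Y) g ((τ ≫ pullback.fst (r ≫ q) q)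
      (IsLocalRing.closedPoint Ω)), ?_⟩
    rw [← hτ]
    exact congrArg (fun f : Spec (CommRingCat.of Ω) ⟶ pullback (r ≫ q) q =>
      f (IsLocalRing.closedPoint Ω)) key

end Groth.Agent.S13739
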