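import Groth.Statements.S1374
import Mathlib
import Groth.Agent.Lib.Helper80.SpecFib.PartE

set_option autoImplicit false
universe u
open FlatMor

namespace Groth.Agent.S1374

open AlgebraicGeometry CategoryTheory Limits
open Groth.Agent.Lib.Helper73 Groth.Agent.Lib.Helper80.SpecFib

theorem main {X S : Scheme.{u}} (f : X ⟶ S) [LocallyOfFiniteType f] (x x' : X) (hsp : x ⤳ x')
    (hne : f x ≠ f x') (hcl : IsClosed (Subtype.val ⁻¹' {x'} : Set ↑(f ⁻¹' {f x'})))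
    (O : Set X) (hO : IsOpen O) (hxO : x ∈ O) :
    ∃ x₁ : X, x₁ ∈ O ∧ f x₁ = f x ∧ IsClosed (Subtype.val ⁻¹' {x₁} : Set ↑(f ⁻¹' {f x})) ∧
      x ⤳ x₁ ∧ x₁ ⤳ x' := by
  classical
  obtain ⟨V, hV, hfx'V, -⟩ := TopologicalSpace.Opens.isBasis_iff_nbhd.mp S.isBasis_affineOpens
    (show f x' ∈ (⊤ : S.Opens) from trivial)
  obtain ⟨U, hU, hx'U, e⟩ := TopologicalSpace.Opens.isBasis_iff_nbhd.mp X.isBasis_affineOpens
    (show x' ∈ f ⁻¹ᵁ V from hfx'V)
  have hxU : x ∈ U := hsp.mem_open U.isOpen hx'U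
  let _ : Algebra Γ(S, V) Γ(X, U) := (f.appLE V U e).hom.toAlgebra
  have halgmap : algebraMap Γ(S, V) Γ(X, U) = (f.appLE V U e).hom := rfl
  have : Algebra.FiniteType Γ(S, V) Γ(X, U) := f.finiteType_appLE hV hU e
  -- injectivity of primeIdealOf
  have hinjU : ∀ a b : U, hU.primeIdealOf a = hU.primeIdealOf b → a = b := by
    intro a b h
    apply Subtype.ext
    rw [← hU.fromSpec_primeIdealOf a, ← hU.fromSpec_primeIdealOf b, h]
  have hinjV : ∀ a b : V, hV.primeIdealOf a = hV.primeIdealOf b → a = b := by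
    intro a b h
    apply Subtype.ext
    rw [← hV.fromSpec_primeIdealOf a, ← hV.fromSpec_primeIdealOf b, h]
  have hcomapU : ∀ (y : X) (hy : y ∈ U),
      (hU.primeIdealOf ⟨y, hy⟩).asIdeal.comap (algebraMap Γ(S, V) Γ(X, U)) =
      (hV.primeIdealOf ⟨f y, e hy⟩).asIdeal := by
    intro y hy
    have := IsAffineOpen.comap_primeIdealOf_appLE (f := f) V hV U hU e hy
    rw [← this]
    rfl
  have hle : (hU.primeIdealOf ⟨x, hxU⟩).asIdeal ≤ (hU.primeIdealOf ⟨x', hx'U⟩).asIdeal := by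
    have h1 : (⟨x, hxU⟩ : U) ⤳ ⟨x', hx'U⟩ := (subtype_specializes_iff _ _).mpr hsp
    have h2 := h1.map hU.isoSpec.hom.continuous
    exact (PrimeSpectrum.le_iff_specializes _ _).mpr h2
  have hne' : (hU.primeIdealOf ⟨x, hxU⟩).asIdeal.comap (algebraMap Γ(S, V) Γ(X, U)) ≠
      (hU.primeIdealOf ⟨x', hx'U⟩).asIdeal.comap (algebraMap Γ(S, V) Γ(X, U)) := by
    rw [hcomapU, hcomapU]
    intro h
    have := hinjV _ _ (PrimeSpectrum.ext h)
    exact hne (congrArg Subtype.val this)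
  have halg := (resTrdegNat_eq_zero_iff_chart f hU hV e halgmap x' hx'U).mp
    (resTrdegNat_eq_zero_of_isClosed_fibre' f x' hcl)
  obtain ⟨g, hgO, hxg⟩ := hU.exists_basicOpen_le (V := ⟨O, hO⟩) ⟨x, hxO⟩ hxU
  have hmem_basic : ∀ y : Spec Γ(X, U), hU.fromSpec y ∈ X.basicOpen g ↔ g ∉ y.asIdeal := by
    intro y
    have : y ∈ hU.fromSpec ⁻¹ᵁ X.basicOpen g ↔ y ∈ PrimeSpectrum.basicOpen g := by
      rw [hU.fromSpec_preimage_basicOpen]; exact Iff.rfl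
    exact this
  have hg : g ∉ (hU.primeIdealOf ⟨x, hxU⟩).asIdeal := by
    rw [← hmem_basic, hU.fromSpec_primeIdealOf]
    exact hxg
  obtain ⟨𝔮₁, h𝔮₁, hle₁, hle₂, hcomap, hg₁, halg₁⟩ := core_ring
    (hU.primeIdealOf ⟨x, hxU⟩).asIdeal (hU.primeIdealOf ⟨x', hx'U⟩).asIdeal hle hne' halg g hg
  let y₁ : Spec Γ(X, U) := ⟨𝔮₁, h𝔮₁⟩
  have hx₁U : hU.fromSpec y₁ ∈ U := by
    have : hU.fromSpec y₁ ∈ Set.range hU.fromSpec := ⟨y₁, rfl⟩
    rwa [hU.range_fromSpec] at this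
  have hy₁ : hU.primeIdealOf ⟨hU.fromSpec y₁, hx₁U⟩ = y₁ := by
    apply hU.fromSpec.isOpenEmbedding.injective
    rw [hU.fromSpec_primeIdealOf]
  have hfx₁ : f (hU.fromSpec y₁) = f x := by
    have h1 := hcomapU _ hx₁U
    rw [hy₁] at h1
    have h2 := hcomapU _ hxU
    have h3 : (hV.primeIdealOf ⟨f (hU.fromSpec y₁), e hx₁U⟩) = hV.primeIdealOf ⟨f x, e hxU⟩ := by
      apply PrimeSpectrum.ext
      rw [← h1, ← h2]
      exact hcomap
    exact congrArg Subtype.val (hinjV _ _ h3)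
  refine ⟨hU.fromSpec y₁, ?_, hfx₁, ?_, ?_, ?_⟩
  · exact hgO ((hmem_basic y₁).mpr hg₁)
  · apply isClosed_fibre_of_resTrdegNat_eq_zero f _ _ hfx₁
    rw [resTrdegNat_eq_zero_iff_chart f hU hV e halgmap _ hx₁U, hy₁]
    show ∀ b : Γ(X, U), ∃ P : Polynomial Γ(S, V),
      (∃ i, P.coeff i ∉ 𝔮₁.comap (algebraMap Γ(S, V) Γ(X, U))) ∧ Polynomial.aeval b P ∈ 𝔮₁
    rw [hcomap]
    exact halg₁
  · have h1 : hU.primeIdealOf ⟨x, hxU⟩ ⤳ y₁ := (PrimeSpectrum.le_iff_specializes _ _).mp hle₁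
    have h2 := h1.map hU.fromSpec.continuous
    rwa [hU.fromSpec_primeIdealOf] at h2
  · have h1 : y₁ ⤳ hU.primeIdealOf ⟨x', hx'U⟩ := (PrimeSpectrum.le_iff_specializes _ _).mp hle₂
    have h2 := h1.map hU.fromSpec.continuous
    rwa [hU.fromSpec_primeIdealOf] at h2

open AlgebraicGeometry CategoryTheory Limits in
/-- Let f : X ⟶ S be locally of finite type and x ⤳ x' a specialization of points of X, with x' a closed
point of its fibre f⁻¹(f(x')) and f(x) ≠ f(x'). Then the points x₁ with f(x₁) = f(x) which are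
closed in the fibre f⁻¹(f(x)) and satisfy x ⤳ x₁ ⤳ x' are dense in the closure of {x} intersected
with the fibre f⁻¹(f(x)) (fibres taken as subspaces of X). (The published statement omits the
condition f(x) ≠ f(x'), but the claim fails without it; it is stated here with that condition.) -/
theorem result {X S : Scheme.{u}} (f : X ⟶ S) [LocallyOfFiniteType f] (x x' : X) (hsp : x ⤳ x') (hne : f x ≠ f x')
    (hcl : IsClosed (Subtype.val ⁻¹' {x'} : Set ↑(f ⁻¹' {f x'}))) :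
    Dense (Subtype.val ⁻¹' {x₁ : ↑X | f x₁ = f x ∧ IsClosed (Subtype.val ⁻¹' {x₁} : Set ↑(f ⁻¹' {f x})) ∧ x ⤳ x₁ ∧ x₁ ⤳ x'} :
      Set ↑(closure {x} ∩ f ⁻¹' {f x})) := by
  rw [dense_iff_inter_open]
  rintro O' hO' ⟨z, hz⟩
  obtain ⟨O, hO, rfl⟩ := isOpen_induced_iff.mp hO'
  have hxz : x ⤳ z.1 := specializes_iff_mem_closure.mpr z.2.1
  have hxO : x ∈ O := hxz.mem_open hO hz
  obtain ⟨x₁, hx₁O, hfx₁, hcl₁, hxx₁, hx₁x'⟩ := main f x x' hsp hne hcl O hO hxO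
  exact ⟨⟨x₁, specializes_iff_mem_closure.mp hxx₁, hfx₁⟩, hx₁O, hfx₁, hcl₁, hxx₁, hx₁x'⟩

end Groth.Agent.S1374
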