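import Groth.Statements.S13740
import Groth.Agent.Lib.Helper62.QfhGalois

set_option autoImplicit false
universe w u
open SGA1

namespace Groth.Agent.S13740

open CategoryTheory CategoryTheory.Limits AlgebraicGeometry in
/-- Let S be a separated Noetherian scheme, π : X → S finite and surjective with X separated, G a finite
group acting on X by S-automorphisms and transitively on the geometric points of X over every
geometric point of S, and F a presheaf of sets on schemes satisfying the sheaf condition for every
finite family of quasi-finite morphisms of finite type whose induced morphism from the disjoint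
union is universally submersive (a qfh-sheaf). Then pulling back along π identifies F(S) with the
G-invariant elements of F(X): F(π) is injective with image the invariants. (The published statement
takes F a qfh-sheaf on Noetherian schemes over S; this row takes a presheaf on all schemes with the
sheaf property for every such family, a stronger hypothesis.) -/
theorem result {X S : Scheme.{u}} [IsNoetherian S] [S.IsSeparated] [X.IsSeparated] (q : X ⟶ S) [IsFinite q] [Surjective q] {G : Type u} [Group G] [Finite G] (ρ : G →* Aut X) (hρ : ∀ g : G, (ρ g).hom ≫ q = q) (htrans : ∀ (Ω : Type u) [Field Ω] [IsAlgClosed Ω] (τ₁ τ₂ : Spec (CommRingCat.of Ω) ⟶ X), τ₁ ≫ q = τ₂ ≫ q → ∃ g : G, τ₁ ≫ (ρ g).hom = τ₂) (F : Scheme.{u}ᵒᵖ ⥤ Type w) (hF : ∀ ⦃T : Scheme.{u}⦄ (E : PreZeroHypercover.{u} T), Finite E.I₀ → (∀ i, LocallyOfFiniteType (E.f i)) → (∀ i, QuasiCompact (E.f i)) → (∀ i, LocallyQuasiFinite (E.f i)) → SGA1.UnivSubmersive (Sigma.desc E.f) → Presieve.IsSheafFor F E.presieve₀) : Function.Injective (F.map q.op) ∧ Set.range (F.map q.op) = {f : F.obj (Opposite.op X)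 | ∀ g : G, F.map (ρ g).hom.op f = f} := by
  -- the cover of `S` by `q`
  have hS : Presieve.IsSheafFor F (PreZeroHypercover.singleton q).presieve₀ := by
    refine hF (PreZeroHypercover.singleton q) (inferInstanceAs (Finite PUnit))
      (fun _ => (inferInstance : LocallyOfFiniteType q))
      (fun _ => (inferInstance : QuasiCompact q))
      (fun _ => (inferInstance : LocallyQuasiFinite q)) ?_
    refine Groth.Agent.Lib.Helper62.univSubmersive_sigmaDesc_of_isFinite _ _ _
      (fun _ => (inferInstance : IsFinite q)) ?_
    refine ⟨fun s => ?_⟩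
    obtain ⟨x, rfl⟩ := q.surjective s
    refine ⟨Limits.Sigma.ι (PreZeroHypercover.singleton q).X PUnit.unit x, ?_⟩
    rw [← Scheme.Hom.comp_apply, Limits.Sigma.ι_desc]
    rfl
  -- the cover of `X ×_S X` by the graphs of the translations
  let γ : G → (X ⟶ pullback q q) := fun g =>
    pullback.lift (𝟙 X) (ρ g).hom (by rw [hρ g, Category.id_comp])
  let E₂ : PreZeroHypercover.{u} (pullback q q) := { I₀ := G, X := fun _ => X, f := γ }
  have hγ₁ : ∀ g, γ g ≫ pullback.fst q q = 𝟙 X := fun g => pullback.lift_fst _ _ _
  have hγ₂ : ∀ g, γ g ≫ pullback.snd q q = (ρ g).hom := fun g => pullback.lift_snd _ _ _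
  have hfs := Groth.Agent.Lib.Helper62.finite_surjective_graphs q ρ htrans (𝟙 X) q
    (Category.id_comp q) (Limits.Sigma.desc γ)
    (fun σ => by rw [← Category.assoc, Limits.Sigma.ι_desc, hγ₁])
    (fun σ => by rw [← Category.assoc, Limits.Sigma.ι_desc, hγ₂, Category.id_comp])
  have hγfin : ∀ g, IsFinite (γ g) := fun g => by
    have : IsFinite (γ g ≫ pullback.fst q q) := by rw [hγ₁]; infer_instance
    exact IsFinite.of_comp (γ g) (pullback.fst q q)
  have hT : Presieve.IsSheafFor F E₂.presieve₀ := by
    refine hF E₂ (inferInstanceAs (Finite G))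
      (fun g => (by have := hγfin g; infer_instance : LocallyOfFiniteType (γ g)))
      (fun g => (by have := hγfin g; infer_instance : QuasiCompact (γ g)))
      (fun g => (by have := hγfin g; infer_instance : LocallyQuasiFinite (γ g))) ?_
    have := hfs.1
    have := hfs.2
    exact Groth.Agent.Lib.Helper62.univSubmersive_of_universallyClosed_surjective _
  have hmap : ∀ {A B C : Scheme.{u}} (a : A ⟶ B) (b : B ⟶ C) (t : F.obj (Opposite.op C)),
      F.map (a ≫ b).op t = F.map a.op (F.map b.op t) := by
    intro A B C a b t
    rw [op_comp, Functor.map_comp_apply]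
  refine ⟨?_, ?_⟩
  · intro t₁ t₂ h
    refine hS.isSeparatedFor.ext ?_
    rintro Y f ⟨i⟩
    exact h
  · ext f
    simp only [Set.mem_range, Set.mem_ofPred_eq]
    constructor
    · rintro ⟨t, rfl⟩ g
      rw [← hmap, hρ g]
    · intro hinv
      have hpb : F.map (pullback.fst q q).op f = F.map (pullback.snd q q).op f := by
        refine hT.isSeparatedFor.ext ?_
        rintro Y h ⟨g⟩
        change F.map (γ g).op _ = F.map (γ g).op _
        rw [← hmap, ← hmap, hγ₁, hγ₂, hinv g]
        simp
      have key : ∀ (Z : Scheme.{u}) (gi gj : Z ⟶ X), gi ≫ q = gj ≫ q →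
          F.map gi.op f = F.map gj.op f := by
        intro Z gi gj hij
        obtain ⟨h, h1, h2⟩ : ∃ h : Z ⟶ pullback q q,
            h ≫ pullback.fst q q = gi ∧ h ≫ pullback.snd q q = gj :=
          ⟨pullback.lift gi gj hij, pullback.lift_fst _ _ _, pullback.lift_snd _ _ _⟩
        rw [← h1, ← h2, hmap, hmap, hpb]
      have hcompat : Presieve.Arrows.Compatible F (PreZeroHypercover.singleton q).f
          (fun _ => f) := fun i j Z gi gj hij => key Z gi gj hij
      obtain ⟨t, ht, -⟩ := (Presieve.isSheafFor_arrows_iff _ _).mp hS _ hcompat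
      exact ⟨t, ht PUnit.unit⟩

end Groth.Agent.S13740
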