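import Groth.Statements.S13741
-- import your own Groth.Agent.* helpers here

set_option autoImplicit false
universe u
open SGA1

namespace Groth.Agent.S13741

open CategoryTheory CategoryTheory.Limits AlgebraicGeometry in
theorem exists_ringEquiv_of_normal {F K Ω : Type u} [Field F] [Field K] [Field Ω] (i : F →+* K)
    (hN : @Normal F K _ _ i.toAlgebra) (φ₁ φ₂ : K →+* Ω) (h : φ₁.comp i = φ₂.comp i) :
    ∃ σ : K ≃+* K, (σ : K →+* K).comp i = i ∧ φ₁.comp (σ : K →+* K) = φ₂ := by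
  letI := i.toAlgebra
  letI := φ₁.toAlgebra
  letI : Algebra F Ω := (φ₁.comp i).toAlgebra
  have : IsScalarTower F K Ω := IsScalarTower.of_algebraMap_eq (fun _ => rfl)
  let φ₂' : K →ₐ[F] Ω := { φ₂ with commutes' := fun r => (RingHom.congr_fun h r).symm }
  let σ := Normal.algHomEquivAut F Ω K φ₂'
  have hσ := (Normal.algHomEquivAut F Ω K).left_inv φ₂'
  refine ⟨σ.toRingEquiv, ?_, ?_⟩
  · ext r
    exact σ.commutes r
  · ext r
    exact DFunLike.congr_fun hσ r

open CategoryTheory CategoryTheory.Limits AlgebraicGeometry in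
theorem same_point {X S : Scheme.{u}} (q : X ⟶ S) {G : Type u} [Group G] (ρ : G →* Aut X)
    (h2 : ∀ x : X, @Normal (S.residueField (q x)) (X.residueField x) _ _ (q.residueFieldMap x).hom.toAlgebra)
    (h3 : ∀ (x : X) (σ : X.residueField x ≅ X.residueField x), q.residueFieldMap x ≫ σ.hom = q.residueFieldMap x → ∃ g : G, X.fromSpecResidueField x ≫ (ρ g).hom = Spec.map σ.hom ≫ X.fromSpecResidueField x)
    (Ω : Type u) [Field Ω] (x : X) (φ₁ φ₂ : X.residueField x ⟶ CommRingCat.of Ω)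
    (h : q.residueFieldMap x ≫ φ₁ = q.residueFieldMap x ≫ φ₂) :
    ∃ g : G, (Spec.map φ₁ ≫ X.fromSpecResidueField x) ≫ (ρ g).hom =
      Spec.map φ₂ ≫ X.fromSpecResidueField x := by
  obtain ⟨σ, hσ1, hσ2⟩ := exists_ringEquiv_of_normal (q.residueFieldMap x).hom (h2 x) φ₁.hom φ₂.hom
    (by simpa using congrArg CommRingCat.Hom.hom h)
  obtain ⟨g, hg⟩ := h3 x σ.toCommRingCatIso (by
    ext r
    exact RingHom.congr_fun hσ1 r)
  refine ⟨g, ?_⟩
  rw [Category.assoc, hg, ← Category.assoc, ← Spec.map_comp]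
  congr 2
  ext r
  exact RingHom.congr_fun hσ2 r

open CategoryTheory CategoryTheory.Limits AlgebraicGeometry in
/-- Let S be a separated Noetherian scheme, q : X → S finite and surjective with X separated, and G a
finite group acting on X by S-automorphisms. Assume that G acts transitively on every fibre of q,
that each residue field extension k(x)/k(q x) is normal, and that for each x every k(q
x)-automorphism of k(x) is induced by an element of G fixing x. Then for every algebraically closed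
field Ω, any two Ω-points of X with the same composite to S are conjugate under G. -/
theorem result {X S : Scheme.{u}} [IsNoetherian S] [S.IsSeparated] [X.IsSeparated] (q : X ⟶ S) [IsFinite q] [Surjective q] {G : Type u} [Group G] [Finite G] (ρ : G →* Aut X) (hρ : ∀ g : G, (ρ g).hom ≫ q = q) (h1 : ∀ x y : X, q x = q y → ∃ g : G, (ρ g).hom x = y) (h2 : ∀ x : X, @Normal (S.residueField (q x)) (X.residueField x) _ _ (q.residueFieldMap x).hom.toAlgebra) (h3 : ∀ (x : X) (σ : X.residueField x ≅ X.residueField x), q.residueFieldMap x ≫ σ.hom = q.residueFieldMap x → ∃ g : G, X.fromSpecResidueField x ≫ (ρ g).hom = Spec.map σ.hom ≫ X.fromSpecResidueField x) (Ω : Type u) [Field Ω] [IsAlgClosed Ω] (τ₁ τ₂ : Spec (CommRingCat.of Ω) ⟶ X) (hτ : τ₁ ≫ q = τ₂ ≫ q) : ∃ g : G, τ₁ ≫ (ρ g).hom = τ₂ := by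
  obtain ⟨⟨x₁, φ₁⟩, rfl⟩ := (Scheme.SpecToEquivOfField Ω X).symm.surjective τ₁
  obtain ⟨⟨x₂, φ₂⟩, rfl⟩ := (Scheme.SpecToEquivOfField Ω X).symm.surjective τ₂
  simp only [Scheme.SpecToEquivOfField_symm_apply] at hτ ⊢
  have hx : q x₁ = q x₂ := by
    have := congrArg (fun f : Spec (CommRingCat.of Ω) ⟶ S => f (IsLocalRing.closedPoint Ω)) hτ
    simpa using this
  obtain ⟨g₁, hg₁⟩ := h1 x₁ x₂ hx
  subst hg₁
  have key : (Spec.map φ₁ ≫ X.fromSpecResidueField x₁) ≫ (ρ g₁).hom =
      Spec.map ((ρ g₁).hom.residueFieldMap x₁ ≫ φ₁) ≫ X.fromSpecResidueField ((ρ g₁).hom x₁) := by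
    rw [Category.assoc, ← Scheme.Hom.SpecMap_residueFieldMap_fromSpecResidueField, Spec.map_comp,
      Category.assoc]
  have hcomp : q.residueFieldMap ((ρ g₁).hom x₁) ≫ ((ρ g₁).hom.residueFieldMap x₁ ≫ φ₁) =
      q.residueFieldMap ((ρ g₁).hom x₁) ≫ φ₂ := by
    apply Spec.map_injective
    rw [← cancel_mono (S.fromSpecResidueField (q ((ρ g₁).hom x₁)))]
    calc Spec.map (q.residueFieldMap ((ρ g₁).hom x₁) ≫ (ρ g₁).hom.residueFieldMap x₁ ≫ φ₁) ≫
          S.fromSpecResidueField (q ((ρ g₁).hom x₁))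
        = Spec.map ((ρ g₁).hom.residueFieldMap x₁ ≫ φ₁) ≫
            (Spec.map (q.residueFieldMap ((ρ g₁).hom x₁)) ≫
              S.fromSpecResidueField (q ((ρ g₁).hom x₁))) := by
          rw [Spec.map_comp, Category.assoc]
      _ = (Spec.map ((ρ g₁).hom.residueFieldMap x₁ ≫ φ₁) ≫
            X.fromSpecResidueField ((ρ g₁).hom x₁)) ≫ q := by
          rw [Scheme.Hom.SpecMap_residueFieldMap_fromSpecResidueField, Category.assoc]
      _ = (Spec.map φ₁ ≫ X.fromSpecResidueField x₁) ≫ q := by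
          rw [← key, Category.assoc, hρ g₁]
      _ = (Spec.map φ₂ ≫ X.fromSpecResidueField ((ρ g₁).hom x₁)) ≫ q := hτ
      _ = Spec.map φ₂ ≫ (Spec.map (q.residueFieldMap ((ρ g₁).hom x₁)) ≫
              S.fromSpecResidueField (q ((ρ g₁).hom x₁))) := by
          rw [Scheme.Hom.SpecMap_residueFieldMap_fromSpecResidueField, Category.assoc]
      _ = Spec.map (q.residueFieldMap ((ρ g₁).hom x₁) ≫ φ₂) ≫
            S.fromSpecResidueField (q ((ρ g₁).hom x₁)) := by
          rw [Spec.map_comp, Category.assoc]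
  obtain ⟨g₂, hg₂⟩ := same_point q ρ h2 h3 Ω ((ρ g₁).hom x₁) _ φ₂ hcomp
  refine ⟨g₂ * g₁, ?_⟩
  rw [map_mul, Aut.Aut_mul_def, Iso.trans_hom, ← Category.assoc, key, hg₂]

end Groth.Agent.S13741
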