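import Groth.Statements.S13746
-- import your own Groth.Agent.* helpers here
import Groth.Agent.Lib.Helper58.DVRGen
import Groth.Agent.Lib.Helper72.DvrFibre
import Groth.Agent.Lib.Helper41.FlatGenIso
import Groth.Agent.S2422

set_option autoImplicit false
universe u
open CategoryTheory AlgebraicGeometry
open SemiFact

namespace Groth.Agent.S13746

open Groth.Agent.Lib.Helper72.DvrFibre TopologicalSpace Opposite

section Gen

variable {R : Type u} [CommRing R] {X Y : Scheme.{u}} (p : X ⟶ Spec (CommRingCat.of R)) (π : Y ⟶ X)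

theorem res_res {Z : Scheme.{u}} {U V W : Z.Opens} (s : Γ(Z, U)) (i : V ⟶ U) (j : W ⟶ V)
    (k : W ⟶ U) :
    (Z.presheaf.map j.op) ((Z.presheaf.map i.op) s) = (Z.presheaf.map k.op) s := by
  rw [← CommRingCat.comp_apply, ← Functor.map_comp]
  rfl

theorem res_secMap {V V' : X.Opens} (h : V' ≤ V) (r : R) :
    X.presheaf.map (homOfLE h).op ((secMap p V).hom r) = (secMap p V').hom r := by
  unfold secMap
  rw [CommRingCat.comp_apply, CommRingCat.comp_apply, ← CommRingCat.comp_apply (p.appLE ⊤ V le_top),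
    Scheme.Hom.appLE_map]

theorem app_secMap (V : X.Opens) (r : R) :
    (π.app V).hom ((secMap p V).hom r) = (secMap (π ≫ p) (π ⁻¹ᵁ V)).hom r := by
  unfold secMap
  rw [CommRingCat.comp_apply, CommRingCat.comp_apply]
  rw [Scheme.Hom.comp_appLE]
  rw [CommRingCat.comp_apply]
  rw [Scheme.Hom.appLE, CommRingCat.comp_apply]
  have h1 := π.naturality (homOfLE (le_top : V ≤ p ⁻¹ᵁ ⊤)).op
  have h2 := ConcreteCategory.congr_hom h1 (p.app ⊤ ((Scheme.ΓSpecIso (CommRingCat.of R)).inv r))
  rw [CommRingCat.comp_apply, CommRingCat.comp_apply] at h2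
  erw [h2]
  rfl

/-- Sections of a flat `R`-scheme over any open have no `ϖ`-torsion. -/
theorem eq_zero_of_secMap_mul_eq_zero [IsDomain R] [Flat p] (ϖ : R) (hϖ : ϖ ≠ 0) (V : X.Opens)
    (a : Γ(X, V)) (h : (secMap p V).hom ϖ * a = 0) : a = 0 := by
  refine X.IsSheaf.section_ext fun x hx ↦ ?_
  obtain ⟨_, ⟨V', hV', rfl⟩, hxV', hV'V : V' ≤ V⟩ :=
    X.isBasis_affineOpens.exists_subset_of_mem_open hx V.isOpen
  refine ⟨V', hV'V, hxV', ?_⟩
  rw [map_zero]
  have h1 := congrArg (X.presheaf.map (homOfLE hV'V).op) h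
  rw [map_mul, map_zero, res_secMap] at h1
  let _ := (secMap p V').hom.toAlgebra
  have : Module.Flat R Γ(X, V') := flat_secMap p hV'
  have h2 : IsSMulRegular Γ(X, V') ϖ :=
    Module.Flat.isSMulRegular_of_nonZeroDivisors (mem_nonZeroDivisors_of_ne_zero hϖ)
  apply h2
  show ϖ • _ = ϖ • (0 : Γ(X, V'))
  rw [smul_zero, Algebra.smul_def]
  exact h1

theorem eq_zero_of_secMap_pow_mul_eq_zero [IsDomain R] [Flat p] (ϖ : R) (hϖ : ϖ ≠ 0) (V : X.Opens)
    (n : ℕ) (a : Γ(X, V)) (h : (secMap p V).hom ϖ ^ n * a = 0) : a = 0 := by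
  induction n with
  | zero => simpa using h
  | succ n ih =>
    apply ih
    apply eq_zero_of_secMap_mul_eq_zero p ϖ hϖ V
    rw [← mul_assoc, ← pow_succ']
    exact h

end Gen

section Alg

theorem exists_eq_of_mul_eq {A B : Type*} [CommRing A] [CommRing B] (φ : A →+* B) (t : A)
    (hinj : Function.Injective φ) (hint : φ.IsIntegral)
    (hrad : (Ideal.span {t}).IsRadical)
    (htors : ∀ b : B, φ t * b = 0 → b = 0) (b : B) (a : A) (hba : φ t * b = φ a) :
    ∃ a₁ : A, b = φ a₁ := by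
  obtain ⟨P, hP, hPb⟩ := hint b
  have h2 := Polynomial.scaleRoots_eval₂_mul (p := P) φ b t
  rw [hPb, mul_zero, hba, Polynomial.eval₂_at_apply] at h2
  have h3 : (P.scaleRoots t).eval a = 0 := (injective_iff_map_eq_zero φ).mp hinj _ h2
  have hmem : a ∈ Ideal.span {t} := by
    by_cases htop : Ideal.span {t} = ⊤
    · rw [htop]; trivial
    · have : Nontrivial (A ⧸ Ideal.span {t}) := Ideal.Quotient.nontrivial_iff.mpr htop
      let q := Ideal.Quotient.mk (Ideal.span {t})
      have hqt : q t = 0 := Ideal.Quotient.eq_zero_iff_mem.mpr (Ideal.mem_span_singleton_self t)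
      have h4 : ((P.scaleRoots t).map q).eval (q a) = 0 := by
        rw [Polynomial.eval_map, Polynomial.eval₂_at_apply, h3, map_zero]
      rw [Polynomial.map_scaleRoots P t q (by rw [hP.leadingCoeff, map_one]; exact one_ne_zero),
        hqt, Polynomial.scaleRoots_zero, (hP.map q).leadingCoeff, one_smul,
        Polynomial.eval_pow, Polynomial.eval_X, ← map_pow] at h4
      exact hrad ⟨_, Ideal.Quotient.eq_zero_iff_mem.mp h4⟩
  obtain ⟨a₁, rfl⟩ := Ideal.mem_span_singleton.mp hmem
  refine ⟨a₁, ?_⟩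
  rw [← sub_eq_zero]
  apply htors
  rw [mul_sub, hba, map_mul, sub_self]

theorem surjective_of_integral {A B : Type*} [CommRing A] [CommRing B] (φ : A →+* B) (t : A)
    (hinj : Function.Injective φ) (hint : φ.IsIntegral)
    (hrad : (Ideal.span {t}).IsRadical)
    (htors : ∀ b : B, φ t * b = 0 → b = 0)
    (hgen : ∀ b : B, ∃ (n : ℕ) (a : A), φ t ^ n * b = φ a) : Function.Surjective φ := by
  have key : ∀ (n : ℕ) (b : B) (a : A), φ t ^ n * b = φ a → ∃ a₁ : A, b = φ a₁ := by
    intro n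
    induction n with
    | zero => intro b a h; exact ⟨a, by simpa using h⟩
    | succ n ih =>
      intro b a h
      rw [pow_succ', mul_assoc] at h
      obtain ⟨a₁, ha₁⟩ := exists_eq_of_mul_eq φ t hinj hint hrad htors _ a h
      exact ih b a₁ ha₁
  intro b
  obtain ⟨n, a, h⟩ := hgen b
  obtain ⟨a₁, ha₁⟩ := key n b a h
  exact ⟨a₁, ha₁.symm⟩

end Alg

section Aff

variable {R : Type u} [CommRing R] [IsDomain R] {X Y : Scheme.{u}}
  (p : X ⟶ Spec (CommRingCat.of R)) [Flat p] (π : Y ⟶ X) [IsProper π] [Flat (π ≫ p)]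
  (ϖ : R) (hϖ : ϖ ≠ 0) (hiso : IsIso (π ∣_ (p ⁻¹ᵁ (PrimeSpectrum.basicOpen ϖ))))

include hiso in
theorem isIso_app_basicOpen (V : X.Opens) :
    IsIso (π.app (X.basicOpen ((secMap p V).hom ϖ))) :=
  Groth.Agent.Lib.Helper41.isIso_app_of_isIso_morphismRestrict π _ _
    (by rw [basicOpen_secMap]; exact inf_le_right) hiso

theorem app_res {V V' : X.Opens} (h : V' ≤ V) (a : Γ(X, V)) :
    (π.app V').hom (X.presheaf.map (homOfLE h).op a) =
      Y.presheaf.map (homOfLE (π.preimage_mono h)).op ((π.app V).hom a) := by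
  have h1 := ConcreteCategory.congr_hom (π.naturality (homOfLE h).op) a
  rw [CommRingCat.comp_apply, CommRingCat.comp_apply] at h1
  exact h1

include hϖ hiso in
theorem app_injective_of_affine (V : X.Opens) (hV : IsAffineOpen V) :
    Function.Injective (π.app V).hom := by
  rw [injective_iff_map_eq_zero]
  intro a ha
  set t := (secMap p V).hom ϖ with ht
  have hW := isIso_app_basicOpen p π ϖ hiso V
  have hres : (X.presheaf.map (homOfLE (X.basicOpen_le t)).op) a = 0 := by
    have hinj := (ConcreteCategory.bijective_of_isIso (π.app (X.basicOpen t))).1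
    apply hinj
    rw [map_zero]
    have := app_res π (X.basicOpen_le t) a
    rw [ha, map_zero] at this
    exact this
  have hloc := hV.isLocalization_basicOpen t
  obtain ⟨⟨_, n, rfl⟩, hn⟩ := (IsLocalization.map_eq_zero_iff (Submonoid.powers t) _ a).1 hres
  exact eq_zero_of_secMap_pow_mul_eq_zero p ϖ hϖ V n a hn

theorem res_eq_zero_of_eq {Z : Scheme.{u}} {U W W' : Z.Opens} (h : W = W') (hW : W ≤ U)
    (hW' : W' ≤ U) (x : Γ(Z, U))
    (hx : Z.presheaf.map (homOfLE hW).op x = 0) : Z.presheaf.map (homOfLE hW').op x = 0 := by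
  subst h; exact hx

include hϖ hiso in
theorem exists_pow_mul_eq (V : X.Opens) (hV : IsAffineOpen V) (b : Γ(Y, π ⁻¹ᵁ V)) :
    ∃ (n : ℕ) (a : Γ(X, V)), (π.app V).hom ((secMap p V).hom ϖ) ^ n * b = (π.app V).hom a := by
  set t := (secMap p V).hom ϖ with ht
  have hW := isIso_app_basicOpen p π ϖ hiso V
  obtain ⟨a', ha'⟩ := (ConcreteCategory.bijective_of_isIso (π.app (X.basicOpen t))).2
    (Y.presheaf.map (homOfLE (π.preimage_mono (X.basicOpen_le t))).op b)
  have hloc := hV.isLocalization_basicOpen t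
  obtain ⟨⟨a, ⟨_, n, rfl⟩⟩, hn⟩ := IsLocalization.surj (Submonoid.powers t) a'
  refine ⟨n, a, ?_⟩
  -- hn : a' * res (t ^ n) = res a
  have hn' : a' * X.presheaf.map (homOfLE (X.basicOpen_le t)).op (t ^ n) =
      X.presheaf.map (homOfLE (X.basicOpen_le t)).op a := hn
  have h1 := congrArg (π.app (X.basicOpen t)).hom hn'
  rw [map_mul, app_res, app_res] at h1
  erw [ha'] at h1
  rw [← map_mul, ← sub_eq_zero, ← map_sub] at h1
  have hcomp : IsCompact ((π ⁻¹ᵁ V : Y.Opens) : Set Y) :=
    QuasiCompact.isCompact_preimage (f := π) _ V.2 hV.isCompact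
  have h2 := res_eq_zero_of_eq (Scheme.preimage_basicOpen π t) _
    (Y.basicOpen_le ((π.app V).hom t)) _ h1
  obtain ⟨k, hk⟩ := exists_pow_mul_eq_zero_of_res_basicOpen_eq_zero_of_isCompact Y hcomp _
    ((π.app V).hom t) h2
  rw [app_secMap] at hk
  have h3 := eq_zero_of_secMap_pow_mul_eq_zero (π ≫ p) ϖ hϖ (π ⁻¹ᵁ V) k _ hk
  rw [sub_eq_zero, map_pow] at h3
  rw [← h3, mul_comm]

end Aff

section Main

variable {R : Type u} [CommRing R] [IsDomain R] [IsDiscreteValuationRing R] {X Y : Scheme.{u}}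
  (p : X ⟶ Spec (CommRingCat.of R)) [Flat p] (π : Y ⟶ X) [IsProper π] [Flat (π ≫ p)]
  {ϖ : R} (hϖ : Irreducible ϖ) (hiso : IsIso (π ∣_ (p ⁻¹ᵁ (PrimeSpectrum.basicOpen ϖ))))
  [IsReduced (p.fiber (IsLocalRing.closedPoint R))]

include hϖ hiso in
theorem app_bijective_of_affine (V : X.Opens) (hV : IsAffineOpen V) :
    Function.Bijective (π.app V).hom := by
  have hinj := app_injective_of_affine p π ϖ hϖ.ne_zero hiso V hV
  refine ⟨hinj, ?_⟩
  apply surjective_of_integral (π.app V).hom ((secMap p V).hom ϖ) hinj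
    (Groth.Agent.S2422.isIntegral_app_of_isAffineOpen π hV)
  · rw [Ideal.isRadical_iff_quotient_reduced]
    exact isReduced_quotient p hϖ hV
  · intro b hb
    rw [app_secMap] at hb
    exact eq_zero_of_secMap_mul_eq_zero (π ≫ p) ϖ hϖ.ne_zero _ b hb
  · exact exists_pow_mul_eq p π ϖ hϖ.ne_zero hiso V hV

theorem app_res' {V V' : X.Opens} (i : V' ⟶ V) (a : Γ(X, V)) :
    (π.app V').hom (X.presheaf.map i.op a) =
      Y.presheaf.map ((Opens.map π.base).map i).op ((π.app V).hom a) := by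
  have h1 := ConcreteCategory.congr_hom (π.naturality i.op) a
  rw [CommRingCat.comp_apply, CommRingCat.comp_apply] at h1
  exact h1

include hϖ hiso in
theorem app_injective (V : X.Opens) : Function.Injective (π.app V).hom := by
  rw [injective_iff_map_eq_zero]
  intro a ha
  refine X.IsSheaf.section_ext fun x hx ↦ ?_
  obtain ⟨_, ⟨V', hV', rfl⟩, hxV', hV'V : V' ≤ V⟩ :=
    X.isBasis_affineOpens.exists_subset_of_mem_open hx V.isOpen
  refine ⟨V', hV'V, hxV', ?_⟩
  rw [map_zero]
  apply (app_bijective_of_affine p π hϖ hiso V' hV').1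
  rw [map_zero]
  have := app_res' π (homOfLE hV'V) a
  rw [ha, map_zero] at this
  exact this

include hϖ hiso in
theorem app_surjective (V : X.Opens) : Function.Surjective (π.app V).hom := by
  intro b
  have hcov : ∀ x : V, ∃ V' : X.Opens, IsAffineOpen V' ∧ x.1 ∈ V' ∧ V' ≤ V := by
    intro x
    obtain ⟨_, ⟨V', hV', rfl⟩, hxV', hV'V⟩ :=
      X.isBasis_affineOpens.exists_subset_of_mem_open x.2 V.isOpen
    exact ⟨V', hV', hxV', hV'V⟩
  choose Vf hVf hxVf hle using hcov
  have hbij := fun x => app_bijective_of_affine p π hϖ hiso (Vf x) (hVf x)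
  choose af haf using fun x => (hbij x).2
    (Y.presheaf.map ((Opens.map π.base).map (homOfLE (hle x))).op b)
  have hcompat : TopCat.Presheaf.IsCompatible X.presheaf Vf af := by
    intro x y
    apply app_injective p π hϖ hiso (Vf x ⊓ Vf y)
    rw [app_res', app_res', haf, haf]
    rw [res_res _ _ _ ((Opens.map π.base).map (homOfLE (inf_le_left.trans (hle x)))),
      res_res _ _ _ ((Opens.map π.base).map (homOfLE (inf_le_left.trans (hle x))))]
  have hcover : V ≤ iSup Vf := fun x hx => Opens.mem_iSup.2 ⟨⟨x, hx⟩, hxVf ⟨x, hx⟩⟩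
  obtain ⟨a, ha, -⟩ := X.sheaf.existsUnique_gluing' Vf V (fun x => homOfLE (hle x)) hcover af
    hcompat
  refine ⟨a, ?_⟩
  have hcover' : π ⁻¹ᵁ V ≤ iSup (fun x : V => π ⁻¹ᵁ Vf x) := by
    intro y hy
    exact Opens.mem_iSup.2 ⟨⟨π y, hy⟩, hxVf ⟨π y, hy⟩⟩
  apply Y.sheaf.eq_of_locally_eq' (fun x : V => π ⁻¹ᵁ Vf x) (π ⁻¹ᵁ V)
    (fun x => (Opens.map π.base).map (homOfLE (hle x))) hcover'
  intro x
  have h1 := app_res' π (homOfLE (hle x)) a
  have h2 : (X.presheaf.map (homOfLE (hle x)).op) a = af x := ha x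
  rw [h2, haf] at h1
  exact h1.symm

end Main

/-- Let R be a discrete valuation ring with fraction field K, let X and Y be schemes flat over Spec R
and let π : Y → X be a proper morphism over Spec R whose base change along Spec K → Spec R is an
isomorphism. If the fibre of X over the closed point of Spec R is reduced, then the canonical map
O_X → π_* O_Y is an isomorphism: for every open V ⊆ X the ring map O_X(V) → O_Y(π⁻¹ V) is bijective. -/
theorem result
    (R : Type u) [CommRing R] [IsDomain R] [IsDiscreteValuationRing R]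
    (X Y : Over (Spec (CommRingCat.of R))) [Flat X.hom] [Flat Y.hom]
    (π : Y ⟶ X) [IsProper π.left]
    (hgen : IsIso ((Neron.genericFibre R).map π))
    [IsReduced (X.hom.fiber (IsLocalRing.closedPoint R))] :
    ∀ V : X.left.Opens, IsIso (π.left.app V) := by
  obtain ⟨ϖ, hϖ⟩ := IsDiscreteValuationRing.exists_irreducible R
  have hiso := Groth.Agent.Lib.Helper58.DVRGen.isIso_morphismRestrict_of_isIso_genericFibre R ϖ hϖ
    X Y π hgen
  have : Flat (π.left ≫ X.hom) := by rw [Over.w π]; infer_instance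
  intro V
  rw [ConcreteCategory.isIso_iff_bijective]
  exact ⟨app_injective X.hom π.left hϖ hiso V, app_surjective X.hom π.left hϖ hiso V⟩

end Groth.Agent.S13746
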