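import Groth.Statements.S13750
import Groth.Agent.Lib.Helper50.NeronLoc3

set_option autoImplicit false
universe u
open CategoryTheory AlgebraicGeometry
open Neron

namespace Groth.Agent.S13750

/-- Let S be a locally Noetherian scheme, U ⊆ S an open subscheme and N → S a smooth separated morphism
of finite type having the Néron mapping property with respect to U: for every smooth S-scheme Y,
restriction to U is a bijection from S-morphisms Y → N onto U-morphisms Y ×_S U → N ×_S U. Let s be
a point of S and S̃ = Spec O_{S,s} → S the canonical morphism. Then N ×_S S̃ → S̃ has the Néron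
mapping property with respect to the preimage Ũ of U: for every smooth S̃-scheme Ỹ, restriction to Ũ
is a bijection from S̃-morphisms Ỹ → N ×_S S̃ onto Ũ-morphisms. (The published statement is for N an
algebraic space which is a Néron model of an abelian scheme over U and also covers the strict
henselisation at a geometric point; this row is the localisation case for a scheme N, with no
abelian-scheme hypothesis.) -/
theorem result
    {S : Scheme.{u}} [IsLocallyNoetherian S] (U : S.Opens)
    (N : Over S) [Smooth N.hom] [IsSeparated N.hom] [QuasiCompact N.hom]
    (hN : ∀ Y : Over S, Smooth Y.hom →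
      Function.Bijective (fun f : Y ⟶ N => (Over.pullback U.ι).map f))
    (s : S) (Y' : Over (Spec (S.presheaf.stalk s))) [Smooth Y'.hom] :
    Function.Bijective (fun f : Y' ⟶ (Over.pullback (S.fromSpecStalk s)).obj N =>
      (Over.pullback ((S.fromSpecStalk s) ⁻¹ᵁ U).ι).map f) := by
  haveI : LocallyOfFinitePresentation N.hom := inferInstance
  have hN' : ∀ (Y : Scheme.{u}) (y : Y ⟶ S), Smooth y →
      Groth.Agent.Lib.Helper50.NeronLoc.NMP N.hom U y := by
    intro Y y hy
    exact Groth.Agent.Lib.Helper50.NeronLoc.nmp_of_bijective U N (Over.mk y) (hN (Over.mk y) hy)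
  have h := Groth.Agent.Lib.Helper50.NeronLoc.nmp_stalk N.hom U hN' s Y'.hom
  exact Groth.Agent.Lib.Helper50.NeronLoc.bijective_of_nmp (S.fromSpecStalk s) U N Y' h

end Groth.Agent.S13750
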