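import Groth.Statements.S13757
import Mathlib.Tactic

set_option autoImplicit false
universe u
open LabGraph

namespace Groth.Agent.S13757

/-- Let G be a finite connected multigraph (loops and multiple edges allowed) with vertex set V, edge
set E, endpoint map E → V × V and a labelling of the edges by positive integers l. A vertex
labelling φ : V → ℤ is Cartier when l(e) divides the difference of the values of φ at the two
endpoints of every edge e; its multidegree is the vertex labelling whose value at v is the sum, over
the edge-ends at v, of (value of φ at the other endpoint − φ(v)) / l(e). Then the Cartier vertex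
labellings of multidegree zero are exactly the constant ones: the kernel of the multidegree operator
on Cartier labellings is ℤ, embedded as the constants. -/
theorem result
    {V E : Type u} [Fintype V] [Fintype E] [DecidableEq V] [DecidableEq E]
    (ends : E → V × V) (l : E → ℕ) (hl : ∀ e, 0 < l e) (hconn : LabGraph.Connected ends)
    (φ : V → ℤ) (hφ : LabGraph.IsCartier ends l φ) :
    (∀ v : V, LabGraph.mdeg ends l φ v = 0) ↔ ∀ v w : V, φ v = φ w := by
  classical
  constructor
  · intro hm
    obtain ⟨hne, hc⟩ := hconn
    obtain ⟨v0⟩ := hne
    obtain ⟨vM, -, hM⟩ := Finset.exists_max_image Finset.univ φ ⟨v0, Finset.mem_univ v0⟩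
    have hM' : ∀ v, φ v ≤ φ vM := fun v => hM v (Finset.mem_univ v)
    have hterm : ∀ v, φ v = φ vM → ∀ e : E,
        (if (ends e).1 = v then (φ (ends e).2 - φ (ends e).1) / (l e : ℤ) else 0) ≤ 0 ∧
        (if (ends e).2 = v then (φ (ends e).1 - φ (ends e).2) / (l e : ℤ) else 0) ≤ 0 := by
      intro v hv e
      have hl : (0 : ℤ) < (l e : ℤ) := by exact_mod_cast hl e
      constructor
      · split_ifs with h
        · apply Int.ediv_nonpos_of_nonpos_of_neg _ hl
          rw [h, hv]
          linarith [hM' (ends e).2]
        · exact le_refl 0
      · split_ifs with h
        · apply Int.ediv_nonpos_of_nonpos_of_neg _ hl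
          rw [h, hv]
          linarith [hM' (ends e).1]
        · exact le_refl 0
    have hstep : ∀ v w, φ v = φ vM → LabGraph.Adj ends v w → φ w = φ vM := by
      intro v w hv ⟨e, he⟩
      have h0 := hm v
      unfold LabGraph.mdeg at h0
      rw [Finset.sum_eq_zero_iff_of_nonpos
        (fun e _ => add_nonpos (hterm v hv e).1 (hterm v hv e).2)] at h0
      have h1 := h0 e (Finset.mem_univ e)
      have hl : (0 : ℤ) < (l e : ℤ) := by exact_mod_cast hl e
      have h2 := (hterm v hv e).1
      have h3 := (hterm v hv e).2
      by_contra hw
      have hw' : φ w < φ vM := lt_of_le_of_ne (hM' w) hw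
      rcases he with he | he
      · have : (if (ends e).1 = v then (φ (ends e).2 - φ (ends e).1) / (l e : ℤ) else 0) < 0 := by
          rw [he]
          simp only [if_true]
          apply Int.ediv_neg_of_neg_of_pos _ hl
          rw [hv]
          linarith
        linarith
      · have : (if (ends e).2 = v then (φ (ends e).1 - φ (ends e).2) / (l e : ℤ) else 0) < 0 := by
          rw [he]
          simp only [if_true]
          apply Int.ediv_neg_of_neg_of_pos _ hl
          rw [hv]
          linarith
        linarith
    have hall : ∀ w, φ w = φ vM := by
      intro w
      have := hc vM w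
      induction this with
      | refl => rfl
      | tail _ hab ih => exact hstep _ _ ih hab
    intro v w
    rw [hall v, hall w]
  · intro hconst v
    unfold LabGraph.mdeg
    apply Finset.sum_eq_zero
    intro e _
    rw [hconst (ends e).2 (ends e).1]
    simp

end Groth.Agent.S13757
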