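import Groth.Statements.S13759
import Mathlib

set_option autoImplicit false
universe u
open LabGraph

namespace Groth.Agent.S13759

section
variable {V E : Type u} [Fintype V] [Fintype E] [DecidableEq V] [DecidableEq E]

theorem pathVert_zero (ends : E → V × V) (l : E → ℕ) (e : E) :
    pathVert ends l e 0 = Sum.inl (ends e).1 := by
  simp [pathVert]

theorem pathVert_mid (ends : E → V × V) (l : E → ℕ) (e : E) (j : ℕ) (h0 : j ≠ 0) (h : j < l e) :
    pathVert ends l e j = Sum.inr ⟨e, ⟨j - 1, by omega⟩⟩ := by
  simp [pathVert, h0, h]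

theorem pathVert_last (ends : E → V × V) (l : E → ℕ) (e : E) (j : ℕ) (h0 : j ≠ 0) (h : l e ≤ j) :
    pathVert ends l e j = Sum.inl (ends e).2 := by
  have : ¬ j < l e := by omega
  simp [pathVert, h0, this]

/-- mdeg of the blow-up at a vertex, as a double sum -/
theorem mdeg_bl (ends : E → V × V) (l : E → ℕ) (ψ : BlVert V E l → ℤ) (w : BlVert V E l) :
    mdeg (blEnds ends l) (fun _ => 1) ψ w =
      ∑ e : E, ∑ k : Fin (l e),
        ((if pathVert ends l e k.val = w then
            ψ (pathVert ends l e (k.val + 1)) - ψ (pathVert ends l e k.val) else 0) +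
         (if pathVert ends l e (k.val + 1) = w then
            ψ (pathVert ends l e k.val) - ψ (pathVert ends l e (k.val + 1)) else 0)) := by
  unfold mdeg
  rw [Fintype.sum_sigma]
  simp [blEnds]

end

section
variable {V E : Type u} [Fintype V] [Fintype E] [DecidableEq V] [DecidableEq E]

theorem pathVert_eq_inr_iff (ends : E → V × V) (l : E → ℕ) (e e' : E) (k j : ℕ) (h0 : j ≠ 0)
    (h : j < l e) :
    pathVert ends l e' k = Sum.inr ⟨e, ⟨j - 1, by omega⟩⟩ ↔ e' = e ∧ k = j := by
  constructor
  · intro hk
    unfold pathVert at hk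
    split_ifs at hk with h1 h2
    · have := Sum.inr.inj hk
      have he : e' = e := congrArg Sigma.fst this
      subst he
      have h3 := eq_of_heq (Sigma.mk.inj this).2
      have h4 := congrArg Fin.val h3
      simp only at h4
      exact ⟨rfl, by omega⟩
  · rintro ⟨rfl, rfl⟩
    exact pathVert_mid ends l e' k h0 h

theorem pathVert_eq_inl_iff (ends : E → V × V) (l : E → ℕ) (e : E) (k : ℕ) (v : V) :
    pathVert ends l e k = Sum.inl v ↔
      (k = 0 ∧ (ends e).1 = v) ∨ (k ≠ 0 ∧ l e ≤ k ∧ (ends e).2 = v) := by
  unfold pathVert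
  split_ifs with h1 h2
  · simp [h1]
  · simp [h1]; omega
  · simp [h1]; omega

end

section
variable {V E : Type u} [Fintype V] [Fintype E] [DecidableEq V] [DecidableEq E]

/-- harmonic at interior vertices -/
theorem harmonic_step (ends : E → V × V) (l : E → ℕ) (ψ : BlVert V E l → ℤ)
    (e : E) (j : ℕ) (h0 : j ≠ 0) (h : j < l e)
    (hψ : mdeg (blEnds ends l) (fun _ => 1) ψ (Sum.inr ⟨e, ⟨j - 1, by omega⟩⟩) = 0) :
    ψ (pathVert ends l e (j + 1)) - ψ (pathVert ends l e j) =
      ψ (pathVert ends l e j) - ψ (pathVert ends l e (j - 1)) := by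
  rw [mdeg_bl] at hψ
  rw [Finset.sum_eq_single e] at hψ
  · -- inner sum
    have hsum : ∀ f g : ℕ → ℤ, ∑ k : Fin (l e),
        ((if pathVert ends l e k.val = Sum.inr ⟨e, ⟨j - 1, by omega⟩⟩ then f k.val else 0) +
         (if pathVert ends l e (k.val + 1) = Sum.inr ⟨e, ⟨j - 1, by omega⟩⟩ then g k.val else 0)) =
        f j + g (j - 1) := by
      intro f g
      rw [Fin.sum_univ_eq_sum_range (fun k => ((if pathVert ends l e k = Sum.inr ⟨e, ⟨j - 1, by omega⟩⟩ then f k else 0) +
         (if pathVert ends l e (k + 1) = Sum.inr ⟨e, ⟨j - 1, by omega⟩⟩ then g k else 0))) (l e)]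
      rw [Finset.sum_add_distrib]
      congr 1
      · rw [Finset.sum_eq_single j]
        · rw [if_pos ((pathVert_eq_inr_iff ends l e e j j h0 h).mpr ⟨rfl, rfl⟩)]
        · intro k _ hk
          rw [if_neg]
          intro h'
          exact hk ((pathVert_eq_inr_iff ends l e e k j h0 h).mp h').2
        · intro h'
          exact absurd (Finset.mem_range.mpr h) h'
      · rw [Finset.sum_eq_single (j - 1)]
        · rw [if_pos ((pathVert_eq_inr_iff ends l e e (j - 1 + 1) j h0 h).mpr ⟨rfl, by omega⟩)]
        · intro k _ hk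
          rw [if_neg]
          intro h'
          have := ((pathVert_eq_inr_iff ends l e e (k + 1) j h0 h).mp h').2
          omega
        · intro h'
          exact absurd (Finset.mem_range.mpr (by omega)) h'
    rw [hsum (fun k => ψ (pathVert ends l e (k + 1)) - ψ (pathVert ends l e k))
      (fun k => ψ (pathVert ends l e k) - ψ (pathVert ends l e (k + 1)))] at hψ
    have hj : j - 1 + 1 = j := by omega
    rw [hj] at hψ
    linarith
  · intro e' _ he'
    refine Finset.sum_eq_zero fun k _ => ?_
    rw [if_neg, if_neg, add_zero]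
    · intro h'
      exact he' ((pathVert_eq_inr_iff ends l e e' _ j h0 h).mp h').1
    · intro h'
      exact he' ((pathVert_eq_inr_iff ends l e e' _ j h0 h).mp h').1
  · intro h'
    exact absurd (Finset.mem_univ e) h'

end

section
variable {V E : Type u} [Fintype V] [Fintype E] [DecidableEq V] [DecidableEq E]

/-- mdeg of blow-up at an old vertex -/
theorem mdeg_bl_old (ends : E → V × V) (l : E → ℕ) (hl : ∀ e, 0 < l e) (ψ : BlVert V E l → ℤ) (v : V) :
    mdeg (blEnds ends l) (fun _ => 1) ψ (Sum.inl v) =
      ∑ e : E, ((if (ends e).1 = v then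
          ψ (pathVert ends l e 1) - ψ (pathVert ends l e 0) else 0) +
        (if (ends e).2 = v then
          ψ (pathVert ends l e (l e - 1)) - ψ (pathVert ends l e (l e)) else 0)) := by
  rw [mdeg_bl]
  refine Finset.sum_congr rfl fun e _ => ?_
  rw [Fin.sum_univ_eq_sum_range (fun k => ((if pathVert ends l e k = Sum.inl v then
            ψ (pathVert ends l e (k + 1)) - ψ (pathVert ends l e k) else 0) +
         (if pathVert ends l e (k + 1) = Sum.inl v then
            ψ (pathVert ends l e k) - ψ (pathVert ends l e (k + 1)) else 0))) (l e)]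
  rw [Finset.sum_add_distrib]
  have hle := hl e
  congr 1
  · rw [Finset.sum_eq_single 0]
    · by_cases hv : (ends e).1 = v
      · rw [if_pos hv, if_pos ((pathVert_eq_inl_iff ends l e 0 v).mpr (Or.inl ⟨rfl, hv⟩))]
      · rw [if_neg hv, if_neg]
        rw [pathVert_eq_inl_iff]
        rintro (⟨_, h2⟩ | ⟨h1, _⟩)
        · exact hv h2
        · exact h1 rfl
    · intro k hk hk0
      rw [if_neg]
      rw [pathVert_eq_inl_iff]
      have := Finset.mem_range.mp hk
      rintro (⟨h1, _⟩ | ⟨_, h2, _⟩)
      · exact hk0 h1
      · omega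
    · intro h'
      exact absurd (Finset.mem_range.mpr hle) h'
  · rw [Finset.sum_eq_single (l e - 1)]
    · have hj : l e - 1 + 1 = l e := by omega
      rw [hj]
      by_cases hv : (ends e).2 = v
      · rw [if_pos hv, if_pos ((pathVert_eq_inl_iff ends l e (l e) v).mpr (Or.inr ⟨by omega, le_refl _, hv⟩))]
      · rw [if_neg hv, if_neg]
        rw [pathVert_eq_inl_iff]
        rintro (⟨h1, _⟩ | ⟨_, _, h2⟩)
        · omega
        · exact hv h2
    · intro k hk hk0
      rw [if_neg]
      rw [pathVert_eq_inl_iff]
      have := Finset.mem_range.mp hk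
      rintro (⟨h1, _⟩ | ⟨_, h2, _⟩)
      · omega
      · omega
    · intro h'
      exact absurd (Finset.mem_range.mpr (by omega)) h'

end

/-- Let G be a finite connected multigraph with vertex set V, edge set E, endpoint map E → V × V and
positive integer edge labels l, and let G̃ be its total blow-up graph: every edge e is replaced by a
path of l(e) edges through l(e) − 1 new vertices, all new edges labelled 1 (so every vertex
labelling of G̃ is Cartier and its multidegree is the sum over edge-ends of the differences of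
values). Let H, resp. H̃, be the cokernel of the multidegree operator from Cartier vertex labellings
of G to ℤ^V, resp. of G̃ to ℤ^Ṽ, and ε : H → H̃ the map induced by extending vertex labellings of G
by zero on the new vertices. Then ε is injective: if a vertex labelling α of G, extended by zero, is
the multidegree of some vertex labelling of G̃, then α is the multidegree of some Cartier vertex
labelling of G. -/
theorem result
    {V E : Type u} [Fintype V] [Fintype E] [DecidableEq V] [DecidableEq E]
    (ends : E → V × V) (l : E → ℕ) (hl : ∀ e, 0 < l e) (hconn : LabGraph.Connected ends)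
    (α : V → ℤ) (ψ : LabGraph.BlVert V E l → ℤ)
    (hψ : ∀ w : LabGraph.BlVert V E l,
      LabGraph.mdeg (LabGraph.blEnds ends l) (fun _ => 1) ψ w = Sum.elim α (fun _ => (0 : ℤ)) w) :
    ∃ φ : V → ℤ, LabGraph.IsCartier ends l φ ∧ ∀ v : V, LabGraph.mdeg ends l φ v = α v := by
  -- arithmetic progression along each path
  have hlin : ∀ (e : E) (j : ℕ), j ≤ l e →
      ψ (pathVert ends l e j) = ψ (pathVert ends l e 0) +
        (j : ℤ) * (ψ (pathVert ends l e 1) - ψ (pathVert ends l e 0)) := by
    intro e j
    induction j using Nat.strong_induction_on with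
    | _ j ih =>
      intro hj
      rcases Nat.lt_or_ge j 2 with h2 | h2
      · interval_cases j
        · simp
        · simp
      · have h1 := ih (j - 1) (by omega) (by omega)
        have h0 := ih (j - 2) (by omega) (by omega)
        have hstep := harmonic_step ends l ψ e (j - 1) (by omega) (by omega)
          (by rw [hψ]; rfl)
        have e1 : j - 1 + 1 = j := by omega
        have e2 : j - 1 - 1 = j - 2 := by omega
        rw [e1, e2] at hstep
        have c1 : ((j - 1 : ℕ) : ℤ) = (j : ℤ) - 1 := by omega
        have c2 : ((j - 2 : ℕ) : ℤ) = (j : ℤ) - 2 := by omega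
        rw [c1] at h1
        rw [c2] at h0
        linarith
  refine ⟨fun v => ψ (Sum.inl v), fun e => ?_, fun v => ?_⟩
  · have h := hlin e (l e) le_rfl
    rw [pathVert_zero, pathVert_last ends l e (l e) (by have := hl e; omega) le_rfl] at h
    refine ⟨-(ψ (pathVert ends l e 1) - ψ (Sum.inl (ends e).1)), ?_⟩
    simp only
    rw [h]; ring
  · rw [← Sum.elim_inl α (fun _ => (0 : ℤ)) v, ← hψ, mdeg_bl_old ends l hl]
    unfold mdeg
    refine Finset.sum_congr rfl fun e _ => ?_
    have hle := hl e
    have hne : (l e : ℤ) ≠ 0 := by exact_mod_cast hle.ne'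
    have h := hlin e (l e) le_rfl
    have h' := hlin e (l e - 1) (by omega)
    have c1 : ((l e - 1 : ℕ) : ℤ) = (l e : ℤ) - 1 := by omega
    rw [c1] at h'
    rw [pathVert_zero, pathVert_last ends l e (l e) (by omega) le_rfl] at h
    rw [pathVert_zero] at h'
    simp only
    have q1 : (ψ (Sum.inl (ends e).2) - ψ (Sum.inl (ends e).1)) / (l e : ℤ) =
        ψ (pathVert ends l e 1) - ψ (Sum.inl (ends e).1) := by
      rw [h, add_sub_cancel_left, Int.mul_ediv_cancel_left _ hne]
    have q2 : (ψ (Sum.inl (ends e).1) - ψ (Sum.inl (ends e).2)) / (l e : ℤ) =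
        -(ψ (pathVert ends l e 1) - ψ (Sum.inl (ends e).1)) := by
      rw [h, sub_add_cancel_left, ← mul_neg, Int.mul_ediv_cancel_left _ hne]
    rw [q1, q2, pathVert_zero, pathVert_last ends l e (l e) (by omega) le_rfl, h', h]
    congr 1
    congr 1
    ring

end Groth.Agent.S13759
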