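import Groth.Statements.S1376
import Groth.Agent.Lib.Helper41.FiniteExtend

set_option autoImplicit false
universe u
open FlatMor

namespace Groth.Agent.S1376

open AlgebraicGeometry CategoryTheory Limits in
/-- Let S be quasi-compact and quasi-separated, U a quasi-compact open of S and V → U a surjective
finite morphism. Then there is a surjective finite morphism V' → S whose base change to U is V (V is
the fibre product of V' and U over S). -/
theorem result {S V : Scheme.{u}} [CompactSpace ↑S] [QuasiSeparatedSpace ↑S] (U : S.Opens) (hU : IsCompact (U : Set ↑S))
    (v : V ⟶ (U : Scheme.{u})) [IsFinite v] [Surjective v] :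
    ∃ (V' : Scheme.{u}) (π : V' ⟶ S) (i : V ⟶ V'), Surjective π ∧ IsFinite π ∧ IsPullback i v π U.ι := by
  exact Groth.Agent.Lib.Helper41.FiniteExtend.exists_finite_extension U hU v

end Groth.Agent.S1376
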