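import Groth.Statements.S13774
import Groth.Agent.Lib.Helper66.JacobsonThm

set_option autoImplicit false
universe u v w
open PLie

namespace Groth.Agent.S13774

/-- Let R be a commutative ring of prime characteristic p and L a Lie algebra over R, free as an
R-module with basis b indexed by ι, whose bracket is ⁅x, y⁆ = f x y • v for some vector v of L and
some R-bilinear form f on L. Then L carries a p-mapping φ with φ (b i) = (f (b i) v) ^ (p - 1) • b i
for every i; in particular L is restrictable. (The published statement is made over a base scheme,
where the Lie algebra is a vector bundle of finite rank whose derived algebra is a subbundle of rank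
one, and concludes that p-mappings exist Zariski-locally; this row is the case of a free module over
a ring, of any rank, with bracket of the displayed shape.) -/
theorem result (R : Type u) [CommRing R] (p : ℕ) [Fact p.Prime] [CharP R p]
    (L : Type v) [LieRing L] [LieAlgebra R L] {ι : Type w} (b : Module.Basis ι R L) (v : L)
    (f : L →ₗ[R] L →ₗ[R] R) (hf : ∀ x y : L, ⁅x, y⁆ = f x y • v) :
    ∃ φ : PLie.PMap R p L, ∀ i : ι, φ (b i) = (f (b i) v) ^ (p - 1) • b i := by
  have hpow : ∀ (x z : L) (n : ℕ), ((LieAlgebra.ad R L x) ^ (n + 1)) z = (f x v) ^ n • ⁅x, z⁆ := by
    intro x z n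
    induction n with
    | zero => simp
    | succ n ih =>
      rw [pow_succ', Module.End.mul_apply, ih, map_smul, LieAlgebra.ad_apply, hf x z, lie_smul, hf x v,
        smul_smul, smul_smul, smul_smul]
      congr 1
      ring
  apply Groth.Agent.Lib.Helper66.JacobsonThm.exists_pmap_of_basis b
  intro i
  have hp : p - 1 + 1 = p := by have := (Fact.out : p.Prime).pos; omega
  refine LinearMap.ext fun z => ?_
  rw [← hp, hpow, map_smul, LinearMap.smul_apply, LieAlgebra.ad_apply]
  simp

end Groth.Agent.S13774
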