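import Groth.Statements.S13775


set_option autoImplicit false
universe u v
open PLie

namespace Groth.Agent.S13775

/-- Let R be a commutative ring of prime characteristic p and L a Lie algebra over R, free as a module
with basis x = bs 0, y = bs 1, z = bs 2 and brackets [x,y] = y, [x,z] = y + z, [y,z] = 0. Then L
carries no p-mapping. (The published statement is the corresponding entry of the classification
table of three-dimensional Lie algebras over an algebraically closed field of characteristic p; this
row states it over every commutative ring of characteristic p.) -/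
theorem result (R : Type u) [CommRing R] (p : ℕ) [Fact p.Prime] [CharP R p]
    (L : Type v) [LieRing L] [LieAlgebra R L] (bs : Module.Basis (Fin 3) R L)
    (hxy : ⁅bs 0, bs 1⁆ = bs 1) (hxz : ⁅bs 0, bs 2⁆ = bs 1 + bs 2) (hyz : ⁅bs 1, bs 2⁆ = 0) :
    IsEmpty (PLie.PMap R p L) := by
  refine ⟨fun γ => ?_⟩
  haveI : Nontrivial R := CharP.nontrivial_of_char_ne_one (v := p) (Fact.out : p.Prime).ne_one
  have hpow1 : ∀ n : ℕ, (LieAlgebra.ad R L (bs 0) ^ n) (bs 1) = bs 1 := by
    intro n
    induction n with
    | zero => simp
    | succ n ih => rw [pow_succ', Module.End.mul_apply, ih, LieAlgebra.ad_apply, hxy]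
  have hpow2 : ∀ n : ℕ, (LieAlgebra.ad R L (bs 0) ^ n) (bs 2) = (n : R) • bs 1 + bs 2 := by
    intro n
    induction n with
    | zero => simp
    | succ n ih =>
      rw [pow_succ', Module.End.mul_apply, ih, LieAlgebra.ad_apply, lie_add, lie_smul, hxy, hxz]
      push_cast
      rw [add_smul, one_smul]; abel
  have h1 := LinearMap.congr_fun (γ.ad_map (bs 0)) (bs 1)
  have h2 := LinearMap.congr_fun (γ.ad_map (bs 0)) (bs 2)
  rw [hpow1, LieAlgebra.ad_apply] at h1
  rw [hpow2, LieAlgebra.ad_apply, CharP.cast_eq_zero, zero_smul, zero_add] at h2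
  set w := γ.toFun (bs 0) with hw
  have hsum := bs.sum_repr w
  rw [Fin.sum_univ_three] at hsum
  have hzy : ⁅bs 2, bs 1⁆ = 0 := by rw [← lie_skew, hyz, neg_zero]
  rw [← hsum] at h1 h2
  simp only [add_lie, smul_lie, hxy, hxz, hyz, hzy, lie_self, smul_zero, add_zero] at h1 h2
  rw [smul_add, h1] at h2
  have := congrArg (fun v => bs.repr v 1) h2
  simp only [map_add, map_smul, Module.Basis.repr_self, Finsupp.add_apply, Finsupp.smul_apply,
    Finsupp.single_apply] at this
  simp at this

end Groth.Agent.S13775
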