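import Groth.Statements.S13776
import Groth.Agent.Lib.Helper66.JacobsonThm

set_option autoImplicit false
universe u v
open PLie

namespace Groth.Agent.S13776

theorem ad_sq_pow_zero {R : Type u} [CommRing R] {L : Type v} [LieRing L] [LieAlgebra R L]
    (x : L) (h : (LieAlgebra.ad R L x) ^ 2 = 0) (p : ℕ) (hp : 2 ≤ p) :
    (LieAlgebra.ad R L x) ^ p = LieAlgebra.ad R L 0 := by
  obtain ⟨k, rfl⟩ : ∃ k, p = 2 + k := ⟨p - 2, by omega⟩
  rw [pow_add, h, zero_mul, map_zero]

theorem basis3_ext {R : Type u} [CommRing R] {L : Type v} [AddCommGroup L] [Module R L]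
    (bs : Module.Basis (Fin 3) R L) {f g : Module.End R L}
    (h0 : f (bs 0) = g (bs 0)) (h1 : f (bs 1) = g (bs 1)) (h2 : f (bs 2) = g (bs 2)) : f = g := by
  refine bs.ext fun j => ?_
  fin_cases j
  · exact h0
  · exact h1
  · exact h2

/-- Let R be a commutative ring of prime characteristic p, t ∈ R, and L a Lie algebra over R, free as a
module with basis x = bs 0, y = bs 1, z = bs 2 and brackets [x,y] = y, [x,z] = t • z, [y,z] = 0.
Then L carries a p-mapping if and only if t ^ p = t. (The published statement is the corresponding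
entry of the classification table over an algebraically closed field of characteristic p, where the
condition reads: t lies in the prime field; this row states it over every commutative ring of
characteristic p.) -/
theorem result (R : Type u) [CommRing R] (p : ℕ) [Fact p.Prime] [CharP R p] (t : R)
    (L : Type v) [LieRing L] [LieAlgebra R L] (bs : Module.Basis (Fin 3) R L)
    (hxy : ⁅bs 0, bs 1⁆ = bs 1) (hxz : ⁅bs 0, bs 2⁆ = t • bs 2) (hyz : ⁅bs 1, bs 2⁆ = 0) :
    Nonempty (PLie.PMap R p L) ↔ t ^ p = t := by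
  haveI : Nontrivial R := CharP.nontrivial_of_char_ne_one (v := p) (Fact.out : p.Prime).ne_one
  have hp2 : 2 ≤ p := (Fact.out : p.Prime).two_le
  have hyx : ⁅bs 1, bs 0⁆ = -bs 1 := by rw [← lie_skew, hxy]
  have hzx : ⁅bs 2, bs 0⁆ = -(t • bs 2) := by rw [← lie_skew, hxz]
  have hzy : ⁅bs 2, bs 1⁆ = 0 := by rw [← lie_skew, hyz, neg_zero]
  have hpow1 : ∀ n : ℕ, (LieAlgebra.ad R L (bs 0) ^ n) (bs 1) = bs 1 := by
    intro n
    induction n with
    | zero => simp
    | succ n ih => rw [pow_succ', Module.End.mul_apply, ih, LieAlgebra.ad_apply, hxy]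
  have hpow2 : ∀ n : ℕ, (LieAlgebra.ad R L (bs 0) ^ n) (bs 2) = t ^ n • bs 2 := by
    intro n
    induction n with
    | zero => simp
    | succ n ih =>
      rw [pow_succ', Module.End.mul_apply, ih, map_smul, LieAlgebra.ad_apply, hxz, smul_smul, pow_succ]
  have hpow0 : ∀ n : ℕ, 0 < n → (LieAlgebra.ad R L (bs 0) ^ n) (bs 0) = 0 := by
    intro n hn
    obtain ⟨k, rfl⟩ : ∃ k, n = k + 1 := ⟨n - 1, by omega⟩
    rw [pow_succ, Module.End.mul_apply, LieAlgebra.ad_apply, lie_self, map_zero]
  constructor
  · rintro ⟨γ⟩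
    have h1 := LinearMap.congr_fun (γ.ad_map (bs 0)) (bs 1)
    have h2 := LinearMap.congr_fun (γ.ad_map (bs 0)) (bs 2)
    rw [hpow1, LieAlgebra.ad_apply] at h1
    rw [hpow2, LieAlgebra.ad_apply] at h2
    set w := γ.toFun (bs 0) with hw
    have hsum := bs.sum_repr w
    rw [Fin.sum_univ_three] at hsum
    rw [← hsum] at h1 h2
    simp only [add_lie, smul_lie, hxy, hxz, hyz, hzy, lie_self, smul_zero, add_zero] at h1 h2
    have ha := congrArg (fun v => bs.repr v 1) h1
    simp only [map_smul, Module.Basis.repr_self, Finsupp.smul_apply, Finsupp.single_apply] at ha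
    simp at ha
    rw [ha, one_smul] at h2
    have hb := congrArg (fun v => bs.repr v 2) h2
    simp only [map_smul, Module.Basis.repr_self, Finsupp.smul_apply, Finsupp.single_apply] at hb
    simp at hb
    exact hb.symm
  · intro ht
    let y : Fin 3 → L := ![bs 0, 0, 0]
    obtain ⟨φ, -⟩ := Groth.Agent.Lib.Helper66.JacobsonThm.exists_pmap_of_basis (p := p) bs y (by
      intro i
      fin_cases i
      · -- x
        change LieAlgebra.ad R L (bs 0) ^ p = LieAlgebra.ad R L (bs 0)
        apply basis3_ext bs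
        · rw [hpow0 p (by omega), LieAlgebra.ad_apply, lie_self]
        · rw [hpow1, LieAlgebra.ad_apply, hxy]
        · rw [hpow2, LieAlgebra.ad_apply, hxz, ht]
      · change LieAlgebra.ad R L (bs 1) ^ p = LieAlgebra.ad R L 0
        apply ad_sq_pow_zero _ _ p hp2
        apply basis3_ext bs
        · rw [pow_two, Module.End.mul_apply, LieAlgebra.ad_apply, LieAlgebra.ad_apply, hyx, lie_neg, lie_self,
            neg_zero]; rfl
        · rw [pow_two, Module.End.mul_apply, LieAlgebra.ad_apply, LieAlgebra.ad_apply, lie_self, lie_zero]; rfl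
        · rw [pow_two, Module.End.mul_apply, LieAlgebra.ad_apply, LieAlgebra.ad_apply, hyz, lie_zero]; rfl
      · change LieAlgebra.ad R L (bs 2) ^ p = LieAlgebra.ad R L 0
        apply ad_sq_pow_zero _ _ p hp2
        apply basis3_ext bs
        · rw [pow_two, Module.End.mul_apply, LieAlgebra.ad_apply, LieAlgebra.ad_apply, hzx, lie_neg, lie_smul,
            lie_self, smul_zero, neg_zero]; rfl
        · rw [pow_two, Module.End.mul_apply, LieAlgebra.ad_apply, LieAlgebra.ad_apply, hzy, lie_zero]; rfl
        · rw [pow_two, Module.End.mul_apply, LieAlgebra.ad_apply, LieAlgebra.ad_apply, lie_self, lie_zero]; rfl)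
    exact ⟨φ⟩

end Groth.Agent.S13776
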