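import Groth.Statements.S13779
import Groth.Agent.Lib.Helper66.JacobsonThm

set_option autoImplicit false
universe u v
open PLie

namespace Groth.Agent.S13779

theorem ad_sq_pow_zero {R : Type u} [CommRing R] {L : Type v} [LieRing L] [LieAlgebra R L]
    (x : L) (h : (LieAlgebra.ad R L x) ^ 2 = 0) (p : ℕ) (hp : 2 ≤ p) :
    (LieAlgebra.ad R L x) ^ p = LieAlgebra.ad R L 0 := by
  obtain ⟨k, rfl⟩ : ∃ k, p = 2 + k := ⟨p - 2, by omega⟩
  rw [pow_add, h, zero_mul, map_zero]

theorem basis3_ext {R : Type u} [CommRing R] {L : Type v} [AddCommGroup L] [Module R L]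
    (bs : Module.Basis (Fin 3) R L) {f g : Module.End R L}
    (h0 : f (bs 0) = g (bs 0)) (h1 : f (bs 1) = g (bs 1)) (h2 : f (bs 2) = g (bs 2)) : f = g := by
  refine bs.ext fun j => ?_
  fin_cases j
  · exact h0
  · exact h1
  · exact h2

/-- Let p be an odd prime, R a commutative ring of characteristic p, t ∈ R, and L a Lie algebra over R,
free as a module with basis x = bs 0, y = bs 1, z = bs 2 and brackets [x,y] = z, [x,z] = t • y,
[y,z] = 0. Then L carries a p-mapping φ with φ x = t ^ ((p - 1) / 2) • x, φ y = 0 and φ z = 0. (The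
published statement concerns the Lie algebra with these brackets over a field of Laurent series
k((t)), k algebraically closed of odd characteristic, t the variable; this row states its
restrictability over every commutative ring of odd prime characteristic and every t.) -/
theorem result (R : Type u) [CommRing R] (p : ℕ) [Fact p.Prime] [CharP R p] (hp : p ≠ 2)
    (t : R) (L : Type v) [LieRing L] [LieAlgebra R L] (bs : Module.Basis (Fin 3) R L)
    (hxy : ⁅bs 0, bs 1⁆ = bs 2) (hxz : ⁅bs 0, bs 2⁆ = t • bs 1) (hyz : ⁅bs 1, bs 2⁆ = 0) :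
    ∃ φ : PLie.PMap R p L, φ (bs 0) = t ^ ((p - 1) / 2) • bs 0 ∧ φ (bs 1) = 0 ∧ φ (bs 2) = 0 := by
  have hp2 : 2 ≤ p := (Fact.out : p.Prime).two_le
  have hodd : p = 2 * ((p - 1) / 2) + 1 := by
    rcases (Fact.out : p.Prime).eq_two_or_odd with h | h
    · exact absurd h hp
    · omega
  have hyx : ⁅bs 1, bs 0⁆ = -bs 2 := by rw [← lie_skew, hxy]
  have hzx : ⁅bs 2, bs 0⁆ = -(t • bs 1) := by rw [← lie_skew, hxz]
  have hzy : ⁅bs 2, bs 1⁆ = 0 := by rw [← lie_skew, hyz, neg_zero]
  -- (ad x)^3 = t • ad x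
  have hcube : LieAlgebra.ad R L (bs 0) ^ 3 = t • LieAlgebra.ad R L (bs 0) := by
    apply basis3_ext bs
    · simp only [pow_succ, pow_zero, one_mul, Module.End.mul_apply, LieAlgebra.ad_apply, lie_self, lie_zero,
        LinearMap.smul_apply, smul_zero]
    · simp only [pow_succ, pow_zero, one_mul, Module.End.mul_apply, LieAlgebra.ad_apply, hxy, hxz, lie_smul,
        LinearMap.smul_apply]
    · simp only [pow_succ, pow_zero, one_mul, Module.End.mul_apply, LieAlgebra.ad_apply, hxy, hxz, lie_smul,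
        LinearMap.smul_apply]
  have hpow : ∀ k : ℕ, LieAlgebra.ad R L (bs 0) ^ (2 * k + 1) = t ^ k • LieAlgebra.ad R L (bs 0) := by
    intro k
    induction k with
    | zero => simp
    | succ k ih =>
      have : 2 * (k + 1) + 1 = 2 + (2 * k + 1) := by ring
      rw [this, pow_add, ih, mul_smul_comm, ← pow_succ, hcube, smul_smul, pow_succ]
  let y : Fin 3 → L := ![t ^ ((p - 1) / 2) • bs 0, 0, 0]
  obtain ⟨φ, hφ⟩ := Groth.Agent.Lib.Helper66.JacobsonThm.exists_pmap_of_basis (p := p) bs y (by
    intro i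
    fin_cases i
    · change LieAlgebra.ad R L (bs 0) ^ p = LieAlgebra.ad R L (t ^ ((p - 1) / 2) • bs 0)
      rw [map_smul]
      conv_lhs => rw [hodd]
      exact hpow _
    · change LieAlgebra.ad R L (bs 1) ^ p = LieAlgebra.ad R L 0
      apply ad_sq_pow_zero _ _ p hp2
      apply basis3_ext bs
      · rw [pow_two, Module.End.mul_apply, LieAlgebra.ad_apply, LieAlgebra.ad_apply, hyx, lie_neg, hyz,
          neg_zero]; rfl
      · rw [pow_two, Module.End.mul_apply, LieAlgebra.ad_apply, LieAlgebra.ad_apply, lie_self, lie_zero]; rfl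
      · rw [pow_two, Module.End.mul_apply, LieAlgebra.ad_apply, LieAlgebra.ad_apply, hyz, lie_zero]; rfl
    · change LieAlgebra.ad R L (bs 2) ^ p = LieAlgebra.ad R L 0
      apply ad_sq_pow_zero _ _ p hp2
      apply basis3_ext bs
      · rw [pow_two, Module.End.mul_apply, LieAlgebra.ad_apply, LieAlgebra.ad_apply, hzx, lie_neg, lie_smul,
          hzy, smul_zero, neg_zero]; rfl
      · rw [pow_two, Module.End.mul_apply, LieAlgebra.ad_apply, LieAlgebra.ad_apply, hzy, lie_zero]; rfl
      · rw [pow_two, Module.End.mul_apply, LieAlgebra.ad_apply, LieAlgebra.ad_apply, lie_self, lie_zero]; rfl)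
  exact ⟨φ, hφ 0, hφ 1, hφ 2⟩

end Groth.Agent.S13779
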