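import Groth.Statements.S13780


set_option autoImplicit false
universe u v w
open PLie

namespace Groth.Agent.S13780

theorem ad_pow_map {R : Type u} [CommRing R]
    {L : Type v} [LieRing L] [LieAlgebra R L] {L' : Type w} [LieRing L'] [LieAlgebra R L']
    (f : L →ₗ⁅R⁆ L') (x y : L) (n : ℕ) :
    (LieAlgebra.ad R L' (f x) ^ n) (f y) = f ((LieAlgebra.ad R L x ^ n) y) := by
  induction n with
  | zero => simp
  | succ n ih =>
    rw [pow_succ', pow_succ', Module.End.mul_apply, Module.End.mul_apply, ih, LieAlgebra.ad_apply,
      LieAlgebra.ad_apply, LieHom.map_lie]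

/-- Let R be a commutative ring of prime characteristic p, L and L' Lie algebras over R with p-mappings
γ and γ', the centre of L' being zero, and φ : L ≃ L' an isomorphism of Lie algebras over R. Then φ
(γ x) = γ' (φ x) for every x: φ is an isomorphism of p-Lie algebras. (The published statement is the
case L' = L of a centreless restrictable Lie algebra over a field with its unique p-mapping and a
Lie algebra automorphism; this row allows two algebras and any commutative base ring of
characteristic p.) -/
theorem result (R : Type u) [CommRing R] (p : ℕ) [Fact p.Prime] [CharP R p]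
    (L : Type v) [LieRing L] [LieAlgebra R L] (L' : Type w) [LieRing L'] [LieAlgebra R L']
    (γ : PLie.PMap R p L) (γ' : PLie.PMap R p L') (hZ : LieAlgebra.center R L' = ⊥) (φ : L ≃ₗ⁅R⁆ L') :
    PLie.IsPHom γ γ' φ.toLieHom := by
  intro x
  have hmem : φ.toLieHom (γ x) - γ' (φ.toLieHom x) ∈ LieAlgebra.center R L' := by
    rw [LieAlgebra.center, LieModule.mem_maxTrivSubmodule]
    intro y'
    obtain ⟨y, rfl⟩ := φ.surjective y'
    have h1 := LinearMap.congr_fun (γ'.ad_map (φ.toLieHom x)) (φ.toLieHom y)
    have h2 := LinearMap.congr_fun (γ.ad_map x) y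
    rw [LieAlgebra.ad_apply] at h1 h2
    rw [ad_pow_map] at h1
    rw [← lie_skew, sub_lie, h1, ← h2]
    change -(⁅φ.toLieHom (γ.toFun x), φ.toLieHom y⁆ - φ.toLieHom ⁅γ.toFun x, y⁆) = 0
    rw [LieHom.map_lie, sub_self, neg_zero]
  rw [hZ] at hmem
  exact sub_eq_zero.mp ((LieSubmodule.mem_bot _).mp hmem)

end Groth.Agent.S13780
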