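import Groth.Statements.S13782
import Mathlib
import Groth.Agent.Lib.Helper30.SmoothReduced

set_option autoImplicit false
universe u
open CAlg

namespace Groth.Agent.S13782

open KaehlerDifferential

/-- An irreducible element of a smooth algebra over a field is a nonzerodivisor. -/
theorem nzd (k A : Type u) [Field k] [CommRing A] [Algebra k A]
    [Algebra.Smooth k A] (s : A) (hs : Irreducible s) (x : A) (hx : x * s = 0) : x = 0 := by
  have hred : IsReduced A := Groth.Agent.Lib.Helper30.SmoothReduced.isReduced_of_smooth k A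
  have hft : Algebra.FiniteType k A := inferInstance
  have hjac : IsJacobsonRing A := isJacobsonRing_of_finiteType (A := k)
  have hmem : x ∈ (⊥ : Ideal A).jacobson := by
    rw [Ideal.mem_jacobson_bot]
    intro y
    have h1 : s = s * (x * y + 1) := by linear_combination (-y) * hx
    rcases hs.isUnit_or_isUnit h1 with h | h
    · exact absurd h hs.not_isUnit
    · exact h
  rw [IsJacobsonRing.out' _ Ideal.isRadical_bot] at hmem
  exact hmem

/-- If `A` and `A/(s)` are smooth over a field and `s` is irreducible, there is a linear functional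
on differentials sending `ds` to `1` modulo `s`. -/
theorem exists_functional (k A : Type u) [Field k] [CommRing A] [Algebra k A]
    [Algebra.Smooth k A] (s : A) (hs : Irreducible s)
    [Algebra.FormallySmooth k (A ⧸ Ideal.span {s})] :
    ∃ (ν : Ω[A⁄k] →ₗ[A] A) (a : A), ν (D k A s) = 1 + a * s := by
  let C := A ⧸ Ideal.span {s}
  have hsurj : Function.Surjective (algebraMap A C) := Ideal.Quotient.mk_surjective
  let I := RingHom.ker (algebraMap A C)
  obtain ⟨l, hl⟩ := (Algebra.FormallySmooth.iff_split_injection (R := k) (P := A) (A := C) hsurj).mp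
    inferInstance
  have hIs : I = Ideal.span {s} := Ideal.mk_ker
  have hsI : s ∈ I := by rw [hIs]; exact Ideal.mem_span_singleton_self s
  -- the isomorphism `A ≃ I`
  let e0 : A →ₗ[A] I := LinearMap.toSpanSingleton A I ⟨s, hsI⟩
  have he0 : Function.Bijective e0 := by
    constructor
    · rw [injective_iff_map_eq_zero]
      intro r hr
      have : r * s = 0 := by
        have := congrArg Subtype.val hr
        simpa [e0] using this
      exact nzd k A s hs r this
    · rintro ⟨x, hx⟩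
      rw [hIs, Ideal.mem_span_singleton'] at hx
      obtain ⟨r, rfl⟩ := hx
      exact ⟨r, by ext; simp [e0]⟩
  let e : A ≃ₗ[A] I := LinearEquiv.ofBijective e0 he0
  let ρ0 : I →ₗ[A] C := (Algebra.linearMap A C) ∘ₗ e.symm.toLinearMap
  have hρ0 : (I • ⊤ : Submodule A I) ≤ LinearMap.ker ρ0 := by
    rw [Submodule.smul_le]
    intro a ha y _
    rw [LinearMap.mem_ker, map_smul]
    rw [Algebra.smul_def, show algebraMap A C a = 0 from ha, zero_mul]
  let ρ : I.Cotangent →ₗ[A] C := Submodule.liftQ _ ρ0 hρ0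
  have hρ : ρ (I.toCotangent ⟨s, hsI⟩) = 1 := by
    change ρ0 ⟨s, hsI⟩ = 1
    have : e.symm ⟨s, hsI⟩ = 1 := by
      rw [LinearEquiv.symm_apply_eq]
      ext; simp [e, e0]
    simp [ρ0, this]
  let νbar : Ω[A⁄k] →ₗ[A] C := ρ ∘ₗ l ∘ₗ (TensorProduct.mk A C Ω[A⁄k] 1)
  have hνbar : νbar (D k A s) = 1 := by
    have h1 : (kerCotangentToTensor k A C) (I.toCotangent ⟨s, hsI⟩) = 1 ⊗ₜ D k A s :=
      kerCotangentToTensor_toCotangent k A C ⟨s, hsI⟩
    have h2 : l ((1 : C) ⊗ₜ[A] D k A s) = I.toCotangent ⟨s, hsI⟩ := by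
      rw [← h1]
      exact LinearMap.congr_fun hl (I.toCotangent ⟨s, hsI⟩)
    change ρ (l ((1 : C) ⊗ₜ[A] D k A s)) = 1
    rw [h2, hρ]
  obtain ⟨ν, hν⟩ := Module.projective_lifting_property (Algebra.linearMap A C) νbar hsurj
  have h3 : algebraMap A C (ν (D k A s) - 1) = 0 := by
    have := congrArg (fun f => f (D k A s)) hν
    simp only [LinearMap.comp_apply, Algebra.linearMap_apply] at this
    rw [map_sub, this, hνbar, map_one, sub_self]
  have h4 : ν (D k A s) - 1 ∈ Ideal.span {s} := by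
    rw [← hIs]; exact h3
  obtain ⟨a, ha⟩ := Ideal.mem_span_singleton'.mp h4
  exact ⟨ν, a, by linear_combination -ha⟩


theorem add_pow_succ_of_sq_zero {T : Type*} [CommRing T] (x j : T) (hj : j * j = 0) (n : ℕ) :
    (x + j) ^ (n + 1) = x ^ (n + 1) + (n + 1 : ℕ) * x ^ n * j := by
  induction n with
  | zero => simp
  | succ n ih =>
    rw [pow_succ, ih]
    push_cast
    linear_combination ((n : T) + 1) * x ^ n * hj

open Polynomial in
theorem forward (k A : Type u) [Field k] [CommRing A] [Algebra k A]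
    [Algebra.Smooth k A] (s : A) (e : ℕ) (he : 2 ≤ e)
    (h : Algebra.Smooth k (AdjoinRoot (Polynomial.X ^ e - Polynomial.C s))) :
    Algebra.Smooth k (A ⧸ Ideal.span {s}) := by
  set g : A[X] := Polynomial.X ^ e - Polynomial.C s with hg
  have hfp : Algebra.FinitePresentation k (A ⧸ Ideal.span {s}) :=
    Algebra.FinitePresentation.quotient ⟨{s}, by simp⟩
  refine ⟨?_, hfp⟩
  apply Algebra.FormallySmooth.of_comp_surjective
  intro T _ _ J hJ fbar
  have hev : g.eval₂ (Ideal.Quotient.mkₐ k (Ideal.span {s}) : A →+* A ⧸ Ideal.span {s}) 0 = 0 := by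
    have h0 : (0 : A ⧸ Ideal.span {s}) ^ e = 0 := zero_pow (by omega)
    have h1 : (Ideal.Quotient.mk (Ideal.span {s})) s = 0 :=
      Ideal.Quotient.eq_zero_iff_mem.mpr (Ideal.mem_span_singleton_self s)
    simp [hg, eval₂_sub, eval₂_pow, h0, h1]
  let β : AdjoinRoot g →ₐ[k] (A ⧸ Ideal.span {s}) :=
    AdjoinRoot.liftAlgHom g (Ideal.Quotient.mkₐ k (Ideal.span {s})) 0 hev
  obtain ⟨φ, hφ⟩ := Algebra.FormallySmooth.comp_surjective k (AdjoinRoot g) J hJ (fbar.comp β)
  have hφ' : ∀ y, Ideal.Quotient.mk J (φ y) = fbar (β y) := fun y => AlgHom.congr_fun hφ y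
  have hroot : φ (AdjoinRoot.root g) ∈ J := by
    rw [← Ideal.Quotient.eq_zero_iff_mem, hφ']
    simp [β]
  have hsq : φ (AdjoinRoot.root g) * φ (AdjoinRoot.root g) = 0 := by
    have : φ (AdjoinRoot.root g) * φ (AdjoinRoot.root g) ∈ J ^ 2 := by
      rw [pow_two]; exact Ideal.mul_mem_mul hroot hroot
    rwa [hJ] at this
  have hrs : (AdjoinRoot.root g) ^ e = AdjoinRoot.of g s := by
    have := AdjoinRoot.eval₂_root g
    simp only [hg, eval₂_sub, eval₂_pow, eval₂_X, eval₂_C] at this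
    exact sub_eq_zero.mp this
  have hs0 : φ (AdjoinRoot.of g s) = 0 := by
    rw [← hrs, map_pow]
    obtain ⟨m, rfl⟩ : ∃ m, e = m + 2 := ⟨e - 2, by omega⟩
    rw [pow_add, pow_two, hsq, mul_zero]
  let ψ : A →ₐ[k] T := φ.comp (AdjoinRoot.ofAlgHom k g)
  have hψs : ∀ a ∈ Ideal.span {s}, ψ a = 0 := by
    intro a ha
    obtain ⟨b, rfl⟩ := Ideal.mem_span_singleton'.mp ha
    change φ (AdjoinRoot.of g (b * s)) = 0
    rw [map_mul, map_mul, hs0, mul_zero]
  refine ⟨Ideal.Quotient.liftₐ (Ideal.span {s}) ψ hψs, ?_⟩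
  apply Ideal.Quotient.algHom_ext
  ext x
  change Ideal.Quotient.mk J (φ (AdjoinRoot.of g x)) = fbar (Ideal.Quotient.mk _ x)
  rw [hφ']
  simp [β]


open Polynomial in
theorem backward (k A : Type u) [Field k] [CommRing A] [Algebra k A]
    [Algebra.Smooth k A] (s : A) (hs : Irreducible s) (e : ℕ) (he : 2 ≤ e) (hek : (e : k) ≠ 0)
    (h : Algebra.Smooth k (A ⧸ Ideal.span {s})) :
    Algebra.Smooth k (AdjoinRoot (Polynomial.X ^ e - Polynomial.C s)) := by
  set g : A[X] := Polynomial.X ^ e - Polynomial.C s with hg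
  have hfp : Algebra.FinitePresentation k (AdjoinRoot g) :=
    (Algebra.FinitePresentation.quotient (R := k) (A := A[X]) (I := Ideal.span {g}) ⟨{g}, by simp⟩ :)
  refine ⟨?_, hfp⟩
  obtain ⟨ν, a, hν⟩ := exists_functional k A s hs
  have hrs : (AdjoinRoot.root g) ^ e = AdjoinRoot.of g s := by
    have := AdjoinRoot.eval₂_root g
    simp only [hg, eval₂_sub, eval₂_pow, eval₂_X, eval₂_C] at this
    exact sub_eq_zero.mp this
  apply Algebra.FormallySmooth.of_comp_surjective
  intro T _ _ J hJ φbar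
  obtain ⟨ψ0, hψ0⟩ := Algebra.FormallySmooth.comp_surjective k A J hJ
    (φbar.comp (AdjoinRoot.ofAlgHom k g))
  have hψ0' : ∀ x, Ideal.Quotient.mk J (ψ0 x) = φbar (AdjoinRoot.of g x) :=
    fun x => AlgHom.congr_fun hψ0 x
  obtain ⟨τ0, hτ0⟩ := Ideal.Quotient.mk_surjective (φbar (AdjoinRoot.root g))
  have hsqJ : ∀ x ∈ J, ∀ y ∈ J, x * y = 0 := by
    intro x hx y hy
    have : x * y ∈ J ^ 2 := by rw [pow_two]; exact Ideal.mul_mem_mul hx hy
    rwa [hJ] at this
  obtain ⟨δ, hδdef⟩ : ∃ δ, δ = τ0 ^ e - ψ0 s := ⟨_, rfl⟩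
  have hδ : δ ∈ J := by
    rw [← Ideal.Quotient.eq_zero_iff_mem, hδdef, map_sub, map_pow, hτ0, hψ0', ← map_pow, hrs,
      sub_self]
  let _ : Algebra A T := ψ0.toRingHom.toAlgebra
  have htower : IsScalarTower k A T := IsScalarTower.of_algebraMap_eq (fun r => (ψ0.commutes r).symm)
  have halg : ∀ x : A, algebraMap A T x = ψ0 x := fun x => rfl
  let Dd : Derivation k A J :=
    ((LinearMap.toSpanSingleton A J ⟨δ, hδ⟩) ∘ₗ ν).compDer (KaehlerDifferential.D k A)
  have hDd : ∀ x : A, ((Dd x : J) : T) = ψ0 (ν (KaehlerDifferential.D k A x)) * δ := by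
    intro x
    change ((ν (KaehlerDifferential.D k A x) • (⟨δ, hδ⟩ : J) : J) : T) = _
    rw [Submodule.coe_smul_of_tower, Algebra.smul_def, halg]
  let ψ : A →ₐ[k] T := liftOfDerivationToSquareZero J hJ Dd
  have hψ : ∀ x : A, ψ x = ψ0 (ν (KaehlerDifferential.D k A x)) * δ + ψ0 x := by
    intro x
    change ((Dd x : J) : T) + algebraMap A T x = _
    rw [hDd, halg]
  obtain ⟨j, hjdef⟩ : ∃ j, j = algebraMap k T ((e : k)⁻¹) * ψ0 a * τ0 * δ := ⟨_, rfl⟩
  have hj : j ∈ J := by rw [hjdef]; exact J.mul_mem_left _ hδ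
  have hee : (e : T) * algebraMap k T ((e : k)⁻¹) = 1 := by
    rw [← map_natCast (algebraMap k T) e, ← map_mul, mul_inv_cancel₀ hek, map_one]
  have hδδ : δ * δ = 0 := hsqJ δ hδ δ hδ
  have hjj : j * j = 0 := hsqJ j hj j hj
  have hev : g.eval₂ (ψ : A →+* T) (τ0 + j) = 0 := by
    obtain ⟨m, rfl⟩ : ∃ m, e = m + 1 := ⟨e - 1, by omega⟩
    have hψs : ψ s = ψ0 (1 + a * s) * δ + ψ0 s := by rw [hψ, hν]
    have hψ0s : ψ0 s = τ0 ^ (m + 1) - δ := by rw [hδdef]; ring
    simp only [hg, eval₂_sub, eval₂_pow, eval₂_X, eval₂_C]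
    change (τ0 + j) ^ (m + 1) - ψ s = 0
    rw [add_pow_succ_of_sq_zero τ0 j hjj m, hψs, map_add, map_one, map_mul, hψ0s, hjdef]
    linear_combination (ψ0 a * τ0 ^ (m + 1) * δ) * hee + (ψ0 a) * hδδ
  refine ⟨AdjoinRoot.liftAlgHom g ψ (τ0 + j) hev, ?_⟩
  apply AdjoinRoot.algHom_ext'
  · ext x
    change Ideal.Quotient.mk J (AdjoinRoot.liftAlgHom g ψ (τ0 + j) hev (AdjoinRoot.of g x)) =
      φbar (AdjoinRoot.of g x)
    rw [AdjoinRoot.liftAlgHom_of, hψ, map_add, hψ0', map_mul,
      Ideal.Quotient.eq_zero_iff_mem.mpr hδ, mul_zero, zero_add]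
  · change Ideal.Quotient.mk J (AdjoinRoot.liftAlgHom g ψ (τ0 + j) hev (AdjoinRoot.root g)) =
      φbar (AdjoinRoot.root g)
    rw [AdjoinRoot.liftAlgHom_root, map_add, hτ0, Ideal.Quotient.eq_zero_iff_mem.mpr hj, add_zero]

/-- Let k be a field, A a smooth k-algebra, s an irreducible element of A and e an integer, at least 2,
that is invertible in k. Then the k-algebra A[t]/(t^e - s) is smooth exactly when the quotient ring
A/(s) is a smooth k-algebra. (Smooth over k means formally smooth and of finite presentation over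
k.) -/
theorem result (k A : Type u) [Field k] [CommRing A] [Algebra k A]
    [Algebra.Smooth k A] (s : A) (hs : Irreducible s) (e : ℕ) (he : 2 ≤ e) (hek : (e : k) ≠ 0) :
    Algebra.Smooth k (AdjoinRoot (Polynomial.X ^ e - Polynomial.C s)) ↔
      Algebra.Smooth k (A ⧸ Ideal.span {s}) := by
  exact ⟨forward k A s e he, backward k A s hs e he hek⟩

end Groth.Agent.S13782
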