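import Groth.Statements.S13784
import Mathlib.Tactic
import Mathlib.RingTheory.IntegralDomain
import Mathlib.RingTheory.LocalRing.ResidueField.Basic
import Mathlib.Algebra.Ring.GeomSum

set_option autoImplicit false
universe u
open CAlg

namespace Groth.Agent.S13784

/-- Let A be a commutative local ring and G a finite subgroup of Aˣ. If the order of G is invertible in
A, then G is cyclic. -/
theorem result {A : Type u} [CommRing A] [IsLocalRing A]
    (G : Subgroup Aˣ) [Finite G] (hG : IsUnit ((Nat.card G : ℕ) : A)) : IsCyclic G := by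
  classical
  let k := IsLocalRing.ResidueField A
  let π : A →+* k := IsLocalRing.residue A
  let ψ : G →* k := (Units.coeHom k).comp ((Units.map π.toMonoidHom).comp G.subtype)
  have hψ : ∀ u : G, ψ u = π ((u : Aˣ) : A) := fun u => rfl
  apply isCyclic_of_injective_ringHom ψ
  rw [injective_iff_map_eq_one]
  intro u hu
  rw [hψ] at hu
  set a : A := ((u : Aˣ) : A) with ha
  have hpow : a ^ Nat.card G = 1 := by
    have h1 : u ^ Nat.card G = 1 := pow_card_eq_one'
    have h2 : (((u ^ Nat.card G : G) : Aˣ) : A) = ((1 : G) : Aˣ) := by rw [h1]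
    rw [Subgroup.coe_pow, Units.val_pow_eq_pow_val, Subgroup.coe_one, Units.val_one] at h2
    exact h2
  have hgeom := mul_geom_sum a (Nat.card G)
  rw [hpow, sub_self] at hgeom
  have hS : IsUnit (∑ i ∈ Finset.range (Nat.card G), a ^ i) := by
    have : IsUnit (π (∑ i ∈ Finset.range (Nat.card G), a ^ i)) := by
      rw [map_sum]
      simp only [map_pow, hu, one_pow, Finset.sum_const, Finset.card_range, nsmul_eq_mul, mul_one]
      have := hG.map π
      simpa using this
    exact (isUnit_map_iff π _).mp this
  have hx : a - 1 = 0 := by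
    rcases hS with ⟨w, hw⟩
    rw [← hw] at hgeom
    exact (Units.mul_left_eq_zero w).mp hgeom
  have ha1 : a = 1 := sub_eq_zero.mp hx
  ext
  exact ha1

end Groth.Agent.S13784
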