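import Groth.Statements.S13785
import Mathlib.Tactic
import Mathlib.LinearAlgebra.Matrix.Charpoly.Coeff
import Mathlib.Algebra.Polynomial.RingDivision

set_option autoImplicit false
universe u
open CAlg

namespace Groth.Agent.S13785

/-- For any commutative ring A, the determinant of the generic n × n matrix is a nonzerodivisor of the
polynomial ring over A in the n² matrix entries. -/
theorem result (A : Type u) [CommRing A] (n : ℕ) :
    (Matrix.mvPolynomialX (Fin n) (Fin n) A).det ∈ nonZeroDivisors (MvPolynomial (Fin n × Fin n) A) := by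
  classical
  let φ : MvPolynomial (Fin n × Fin n) A →ₐ[A] Polynomial (MvPolynomial (Fin n × Fin n) A) :=
    MvPolynomial.aeval (fun ij : Fin n × Fin n =>
      Polynomial.C (MvPolynomial.X ij) + if ij.1 = ij.2 then Polynomial.X else 0)
  have hφX : ∀ ij : Fin n × Fin n, φ (MvPolynomial.X ij) =
      Polynomial.C (MvPolynomial.X ij) + if ij.1 = ij.2 then Polynomial.X else 0 := by
    intro ij
    exact MvPolynomial.aeval_X _ ij
  have hφC : ∀ a : A, φ (MvPolynomial.C a) = Polynomial.C (MvPolynomial.C a) := by
    intro a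
    exact (MvPolynomial.aeval_C _ a)
  let ψ : Polynomial (MvPolynomial (Fin n × Fin n) A) →+* MvPolynomial (Fin n × Fin n) A :=
    Polynomial.evalRingHom 0
  have hψφ : ∀ g : MvPolynomial (Fin n × Fin n) A, ψ (φ g) = g := by
    intro g
    have : (ψ.comp φ.toRingHom) = RingHom.id (MvPolynomial (Fin n × Fin n) A) := by
      apply MvPolynomial.ringHom_ext
      · intro a
        change ψ (φ (MvPolynomial.C a)) = MvPolynomial.C a
        rw [hφC]
        simp [ψ]
      · intro ij
        change ψ (φ (MvPolynomial.X ij)) = MvPolynomial.X ij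
        rw [hφX]
        split_ifs <;> simp [ψ]
    exact congrArg (fun h : MvPolynomial (Fin n × Fin n) A →+* MvPolynomial (Fin n × Fin n) A =>
      h g) this
  have hdet : φ (Matrix.mvPolynomialX (Fin n) (Fin n) A).det =
      (-(Matrix.mvPolynomialX (Fin n) (Fin n) A)).charpoly := by
    rw [AlgHom.map_det, Matrix.charpoly]
    congr 1
    ext1 i j
    rw [AlgHom.mapMatrix_apply, Matrix.map_apply, Matrix.mvPolynomialX_apply, hφX,
      Matrix.charmatrix_apply, Matrix.neg_apply, map_neg, sub_neg_eq_add,
      Matrix.diagonal_apply, Matrix.mvPolynomialX_apply, add_comm]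
  rw [mem_nonZeroDivisors_iff_right]
  intro g hg
  have h1 : φ g * (-(Matrix.mvPolynomialX (Fin n) (Fin n) A)).charpoly = 0 := by
    rw [← hdet, ← map_mul, hg, map_zero]
  have h2 : φ g = 0 :=
    (mem_nonZeroDivisors_iff_right.mp
      (Matrix.charpoly_monic (-(Matrix.mvPolynomialX (Fin n) (Fin n) A))).mem_nonZeroDivisors) _ h1
  rw [← hψφ g, h2, map_zero]

end Groth.Agent.S13785
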