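import Groth.Statements.S13786
import Groth.Agent.Lib.Helper91.GroebnerStd
import Groth.Agent.Lib.Helper91.GroebnerFin9

set_option autoImplicit false
universe u
open CAlg


namespace Groth.Agent.S13786Aux

open MvPolynomial Groth.Agent.Lib.Helper91.Groebner Groth.Agent.Lib.Helper91.GroebnerFin9

variable {n : ℕ}

/-- row-major lexicographic order on the entries of a square matrix -/
noncomputable def ord (n : ℕ) : MonomialOrder (Fin n × Fin n) :=
  comapOrder (MonomialOrder.lex : MonomialOrder (Fin (n * n))) finProdFinEquiv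

theorem ord_lt_of {ν μ : (Fin n × Fin n) →₀ ℕ} (p0 : Fin n × Fin n)
    (h : ∀ p, finProdFinEquiv p < finProdFinEquiv p0 → ν p = μ p) (h0 : ν p0 < μ p0) :
    (ord n).toSyn ν < (ord n).toSyn μ := by
  show MonomialOrder.lex.toSyn (Finsupp.domCongr finProdFinEquiv ν)
    < MonomialOrder.lex.toSyn (Finsupp.domCongr finProdFinEquiv μ)
  rw [MonomialOrder.lex_lt_iff, Finsupp.Lex.lt_iff]
  refine ⟨finProdFinEquiv p0, fun k hk => ?_, ?_⟩
  · have := h (finProdFinEquiv.symm k) (by rw [Equiv.apply_symm_apply]; exact hk)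
    simpa [Finsupp.domCongr_apply] using this
  · simpa [Finsupp.domCongr_apply] using h0

theorem e_lt {i j i0 j0 : Fin n}
    (h : (finProdFinEquiv (i, j) : Fin (n * n)) < finProdFinEquiv (i0, j0)) :
    i < i0 ∨ (i = i0 ∧ j < j0) := by
  rw [Fin.lt_def] at h
  simp only [finProdFinEquiv_apply_val] at h
  rcases lt_trichotomy i i0 with hlt | heq | hgt
  · exact Or.inl hlt
  · right
    refine ⟨heq, ?_⟩
    subst heq
    rw [Fin.lt_def]
    omega
  · exfalso
    have h1 : (i0 : ℕ) + 1 ≤ i := hgt
    have h2 : n * ((i0 : ℕ) + 1) ≤ n * i := Nat.mul_le_mul_left _ h1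
    have h3 := j0.isLt
    rw [Nat.mul_succ] at h2
    omega

/-- exponent vector of the term of the determinant attached to a permutation -/
noncomputable def νσ (σ : Equiv.Perm (Fin n)) : (Fin n × Fin n) →₀ ℕ :=
  ∑ i, Finsupp.single (σ i, i) 1

theorem νσ_apply (σ : Equiv.Perm (Fin n)) (a b : Fin n) :
    νσ σ (a, b) = if σ b = a then 1 else 0 := by
  classical
  rw [νσ, Finsupp.finsetSum_apply]
  rw [Finset.sum_eq_single b]
  · rw [Finsupp.single_apply]
    by_cases h : σ b = a
    · rw [if_pos h, if_pos (by rw [h])]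
    · rw [if_neg h, if_neg (fun h' => h (congrArg Prod.fst h'))]
  · intro i _ hi
    rw [Finsupp.single_apply, if_neg]
    intro h'
    exact hi (congrArg Prod.snd h')
  · intro h; exact absurd (Finset.mem_univ b) h

theorem νσ_lt (σ : Equiv.Perm (Fin n)) (hσ : σ ≠ 1) :
    (ord n).toSyn (νσ σ) < (ord n).toSyn (νσ 1) := by
  classical
  have hex : ∃ i, σ i ≠ i := by
    by_contra hcon
    push Not at hcon
    exact hσ (Equiv.ext hcon)
  -- minimal moved index
  obtain ⟨i0, hi0, hmin⟩ : ∃ i0, σ i0 ≠ i0 ∧ ∀ j, j < i0 → σ j = j := by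
    have hne : (Finset.univ.filter fun i => σ i ≠ i).Nonempty := by
      obtain ⟨i, hi⟩ := hex
      exact ⟨i, by simp [hi]⟩
    refine ⟨(Finset.univ.filter fun i => σ i ≠ i).min' hne, ?_, ?_⟩
    · have := Finset.min'_mem _ hne
      simpa using this
    · intro j hj
      by_contra hcon
      have hmem : j ∈ Finset.univ.filter fun i => σ i ≠ i := by simp [hcon]
      have := Finset.min'_le _ j hmem
      exact absurd hj (not_lt.mpr this)
  refine ord_lt_of (i0, i0) ?_ ?_
  · rintro ⟨a, b⟩ hlt
    rw [νσ_apply, νσ_apply]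
    simp only [Equiv.Perm.coe_one, id_eq]
    rcases e_lt hlt with ha | ⟨ha, hb⟩
    · -- a < i0: σ a = a
      have hfix := hmin a ha
      by_cases hba : b = a
      · subst hba
        rw [if_pos hfix, if_pos rfl]
      · rw [if_neg hba, if_neg]
        intro h
        apply hba
        exact σ.injective (by rw [h, hfix])
    · subst ha
      have hfix := hmin b hb
      rw [if_neg, if_neg]
      · exact fun h => absurd hb (by rw [h]; exact lt_irrefl _)
      · rw [hfix]
        exact fun h => absurd hb (by rw [h]; exact lt_irrefl _)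
  · rw [νσ_apply, νσ_apply]
    simp only [Equiv.Perm.coe_one, id_eq]
    rw [if_neg hi0]
    simp

end Groth.Agent.S13786Aux

namespace Groth.Agent.S13786

/-- For a commutative ring A and n ≥ 1, with det the determinant of the generic n × n matrix in the
polynomial ring A[X] in n² indeterminates, the A-algebra A[X]/(det) is faithfully flat over A. (For
n = 0 the determinant is 1 and the quotient is the zero ring, so n ≥ 1 is required.) -/
theorem result (A : Type u) [CommRing A] (n : ℕ) (hn : 0 < n) :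
    Module.FaithfullyFlat A
      (MvPolynomial (Fin n × Fin n) A ⧸ Ideal.span {(Matrix.mvPolynomialX (Fin n) (Fin n) A).det}) := by
  classical
  open MvPolynomial Groth.Agent.Lib.Helper91.Groebner Groth.Agent.S13786Aux in
  have hexp : (Matrix.mvPolynomialX (Fin n) (Fin n) A).det =
      ∑ σ : Equiv.Perm (Fin n), monomial (νσ σ) (((Equiv.Perm.sign σ : ℤˣ) : ℤ) : A) := by
    rw [Matrix.det_apply']
    refine Finset.sum_congr rfl fun σ _ => ?_
    have h1 : (∏ i, Matrix.mvPolynomialX (Fin n) (Fin n) A (σ i) i) = monomial (νσ σ) (1 : A) := by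
      rw [νσ, monomial_sum_one]
      rfl
    have h2 : ((((Equiv.Perm.sign σ : ℤˣ) : ℤ)) : MvPolynomial (Fin n × Fin n) A) =
        C ((((Equiv.Perm.sign σ : ℤˣ) : ℤ)) : A) := by
      rw [map_intCast]
    rw [h1, h2, C_mul_monomial, mul_one]
  open MvPolynomial Groth.Agent.Lib.Helper91.Groebner Groth.Agent.S13786Aux in
  have hG : (Matrix.mvPolynomialX (Fin n) (Fin n) A).det = monomial (νσ 1) (1 : A) +
      ∑ σ ∈ Finset.univ.erase (1 : Equiv.Perm (Fin n)),
        monomial (νσ σ) (((Equiv.Perm.sign σ : ℤˣ) : ℤ) : A) := by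
    rw [hexp, ← Finset.add_sum_erase _ _ (Finset.mem_univ (1 : Equiv.Perm (Fin n)))]
    simp
  open MvPolynomial Groth.Agent.Lib.Helper91.Groebner Groth.Agent.S13786Aux in
  have hr : ∀ ν ∈ (∑ σ ∈ Finset.univ.erase (1 : Equiv.Perm (Fin n)),
        monomial (νσ σ) (((Equiv.Perm.sign σ : ℤˣ) : ℤ) : A)).support,
      (ord n).toSyn ν < (ord n).toSyn (νσ 1) := by
    intro ν hν
    have h1 := MvPolynomial.support_sum hν
    rw [Finset.mem_biUnion] at h1
    obtain ⟨σ, hσ, hνσ⟩ := h1
    have h2 := MvPolynomial.support_monomial_subset hνσ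
    rw [Finset.mem_singleton] at h2
    rw [h2]
    exact νσ_lt σ (Finset.ne_of_mem_erase hσ)
  open MvPolynomial Groth.Agent.Lib.Helper91.Groebner Groth.Agent.S13786Aux in
  let D := ofSingle (ord n) _ _ _ hG hr
  have hI : Ideal.span {(Matrix.mvPolynomialX (Fin n) (Fin n) A).det} = D.ideal :=
    (Groth.Agent.Lib.Helper91.Groebner.ofSingle_ideal (Groth.Agent.S13786Aux.ord n) _ _ _ hG hr).symm
  rw [hI]
  have hfree : Module.Free A (MvPolynomial (Fin n × Fin n) A ⧸ D.ideal) := D.free_quotient
  rcases subsingleton_or_nontrivial A with hA | hA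
  · refine ⟨fun m hm => ?_⟩
    exact absurd (Subsingleton.elim m ⊤) hm.ne_top
  · have hμ : ∀ k, D.μ k ≠ 0 := by
      intro k h
      have h' : Groth.Agent.S13786Aux.νσ (1 : Equiv.Perm (Fin n)) = 0 := h
      have := DFunLike.congr_fun h' ((⟨0, hn⟩ : Fin n), (⟨0, hn⟩ : Fin n))
      rw [Groth.Agent.S13786Aux.νσ_apply] at this
      simp at this
    have hnt : Nontrivial (MvPolynomial (Fin n × Fin n) A ⧸ D.ideal) :=
      Ideal.Quotient.nontrivial_iff.mpr ((Ideal.ne_top_iff_one _).mpr (D.one_notMem hμ))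
    infer_instance

end Groth.Agent.S13786
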