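import Groth.Statements.S13787
import Mathlib.Tactic
import Groth.Agent.S13785

set_option autoImplicit false
universe u
open CAlg

namespace Groth.Agent.S13787

theorem key (A : Type u) [CommRing A] [Nontrivial A] (n : ℕ) (hn : 0 < n) (a a' : Aˣ) (k : ℕ)
    (h : algebraMap A (Localization.Away (Matrix.mvPolynomialX (Fin n) (Fin n) A).det) a *
      algebraMap (MvPolynomial (Fin n × Fin n) A)
        (Localization.Away (Matrix.mvPolynomialX (Fin n) (Fin n) A).det)
        ((Matrix.mvPolynomialX (Fin n) (Fin n) A).det) ^ k =
      algebraMap A (Localization.Away (Matrix.mvPolynomialX (Fin n) (Fin n) A).det) a') :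
    k = 0 ∧ a = a' := by
  classical
  have hinj : Function.Injective (algebraMap (MvPolynomial (Fin n × Fin n) A)
      (Localization.Away (Matrix.mvPolynomialX (Fin n) (Fin n) A).det)) :=
    IsLocalization.injective _
      (M := Submonoid.powers (Matrix.mvPolynomialX (Fin n) (Fin n) A).det)
      (Submonoid.powers_le.mpr (Groth.Agent.S13785.result A n))
  have h2 : MvPolynomial.C (a : A) * (Matrix.mvPolynomialX (Fin n) (Fin n) A).det ^ k =
      MvPolynomial.C (a' : A) := by
    apply hinj
    rw [map_mul, map_pow]
    rw [IsScalarTower.algebraMap_apply A (MvPolynomial (Fin n × Fin n) A), MvPolynomial.algebraMap_eq,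
      IsScalarTower.algebraMap_apply A (MvPolynomial (Fin n × Fin n) A) _ (a' : A),
      MvPolynomial.algebraMap_eq] at h
    exact h
  have hdet0 : MvPolynomial.eval (fun _ : Fin n × Fin n => (0 : A))
      (Matrix.mvPolynomialX (Fin n) (Fin n) A).det = 0 := by
    rw [Matrix.eval_det_mvPolynomialX]
    haveI : Nonempty (Fin n) := ⟨⟨0, hn⟩⟩
    exact Matrix.det_zero
  have h3 := congrArg (MvPolynomial.eval (fun _ : Fin n × Fin n => (0 : A))) h2
  rw [map_mul, map_pow, hdet0, MvPolynomial.eval_C, MvPolynomial.eval_C] at h3
  have hk : k = 0 := by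
    by_contra hk
    rw [zero_pow hk, mul_zero] at h3
    exact a'.ne_zero h3.symm
  refine ⟨hk, ?_⟩
  rw [hk, pow_zero, mul_one] at h3
  exact Units.ext h3

/-- Let A be a nonzero commutative ring and n ≥ 1, let det be the determinant of the generic n × n
matrix in the polynomial ring A[X] in its n² entries, and let A[X, 1/det] be the localization at det
(the coordinate ring of GL_n over A). The homomorphism Aˣ × ℤ → (A[X, 1/det])ˣ sending (a, e) to a ·
det^e is injective. (The published statement takes the exponent in the group of locally constant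
ℤ-valued functions on Spec A, which also covers A = 0; with integer exponents as here, A must be
nonzero and n ≥ 1.) -/
theorem result (A : Type u) [CommRing A] [Nontrivial A] (n : ℕ) (hn : 0 < n) :
    Function.Injective (fun p : Aˣ × ℤ =>
        Units.map (algebraMap A (Localization.Away (Matrix.mvPolynomialX (Fin n) (Fin n) A).det)).toMonoidHom p.1 *
          (IsLocalization.Away.algebraMap_isUnit (S := Localization.Away (Matrix.mvPolynomialX (Fin n) (Fin n) A).det)
            (Matrix.mvPolynomialX (Fin n) (Fin n) A).det).unit ^ p.2) := by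
  classical
  set u := (IsLocalization.Away.algebraMap_isUnit
    (S := Localization.Away (Matrix.mvPolynomialX (Fin n) (Fin n) A).det)
    (Matrix.mvPolynomialX (Fin n) (Fin n) A).det).unit with hu
  have hu_val : (u : Localization.Away (Matrix.mvPolynomialX (Fin n) (Fin n) A).det) =
      algebraMap _ _ (Matrix.mvPolynomialX (Fin n) (Fin n) A).det := IsUnit.unit_spec _
  have keyN : ∀ (a a' : Aˣ) (k : ℕ),
      Units.map (algebraMap A (Localization.Away
        (Matrix.mvPolynomialX (Fin n) (Fin n) A).det)).toMonoidHom a * u ^ k =
      Units.map (algebraMap A (Localization.Away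
        (Matrix.mvPolynomialX (Fin n) (Fin n) A).det)).toMonoidHom a' → k = 0 ∧ a = a' := by
    intro a a' k h
    apply key A n hn a a' k
    have := congrArg Units.val h
    simpa [hu_val] using this
  rintro ⟨a, e⟩ ⟨a', e'⟩ h
  simp only at h
  rcases le_total e' e with hle | hle
  · obtain ⟨k, hk⟩ := Int.eq_ofNat_of_zero_le (sub_nonneg.mpr hle)
    have h2 : Units.map (algebraMap A (Localization.Away
        (Matrix.mvPolynomialX (Fin n) (Fin n) A).det)).toMonoidHom a * u ^ k =
      Units.map (algebraMap A (Localization.Away
        (Matrix.mvPolynomialX (Fin n) (Fin n) A).det)).toMonoidHom a' := by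
      rw [← zpow_natCast, ← hk, zpow_sub, ← mul_assoc, h, mul_inv_cancel_right]
    obtain ⟨hk0, haa⟩ := keyN a a' k h2
    rw [hk0] at hk
    have : e = e' := by omega
    rw [haa, this]
  · obtain ⟨k, hk⟩ := Int.eq_ofNat_of_zero_le (sub_nonneg.mpr hle)
    have h2 : Units.map (algebraMap A (Localization.Away
        (Matrix.mvPolynomialX (Fin n) (Fin n) A).det)).toMonoidHom a' * u ^ k =
      Units.map (algebraMap A (Localization.Away
        (Matrix.mvPolynomialX (Fin n) (Fin n) A).det)).toMonoidHom a := by
      rw [← zpow_natCast, ← hk, zpow_sub, ← mul_assoc, ← h, mul_inv_cancel_right]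
    obtain ⟨hk0, haa⟩ := keyN a' a k h2
    rw [hk0] at hk
    have : e = e' := by omega
    rw [haa, this]

end Groth.Agent.S13787
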