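import Groth.Statements.S1379
import Mathlib
import Groth.Agent.S1353
import Groth.Agent.Lib.Helper15.QFCover

set_option autoImplicit false
universe u
open FlatMor

namespace Groth.Agent.S1379

open AlgebraicGeometry CategoryTheory Limits

open AlgebraicGeometry CategoryTheory Limits in
/-- Let S₁ → S be flat, locally of finite presentation and surjective (an fppf cover by one morphism).
Then for every point s of S there are an étale morphism S' → S whose image contains s and a
surjective, finite, flat morphism of finite presentation V → S' such that V → S factors through S₁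
Zariski locally on V. -/
theorem result {S₁ S : Scheme.{u}} (g : S₁ ⟶ S) [Flat g] [LocallyOfFinitePresentation g] [Surjective g] (s : S) :
    ∃ (S' V : Scheme.{u}) (e : S' ⟶ S) (π : V ⟶ S'), Etale e ∧ s ∈ Set.range ⇑e ∧ Surjective π ∧ IsFinite π ∧ Flat π ∧ LocallyOfFinitePresentation π ∧
      ∀ v : ↑V, ∃ (W : V.Opens) (r : ↑W ⟶ S₁), v ∈ W ∧ r ≫ g = W.ι ≫ π ≫ e := by
  obtain ⟨x₀, hx₀⟩ := g.surjective s
  obtain ⟨Z, k, hZ, hfl, hfp, hqf, ⟨z, hz⟩⟩ :=
    Groth.Agent.Lib.Helper15.QFCover.exists_affine_qf_flat_over g x₀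
  rw [hx₀] at hz
  have := hfl
  have := hfp
  have := hqf
  set f := k ≫ g with hf
  have hqfz : f.QuasiFiniteAt z := f.quasiFiniteAt z
  obtain ⟨U, e, u, ⟨het, heu, -⟩, V, v, hvV, hfin, hvu, -, -, -⟩ :=
    Groth.Agent.S1353.result f z hqfz
  have := het
  have := hfin
  set π₀ := V.ι ≫ pullback.snd f e with hπ₀
  have : Flat π₀ := by rw [hπ₀]; infer_instance
  have : LocallyOfFinitePresentation π₀ := by rw [hπ₀]; infer_instance
  have hopen : IsOpen (Set.range π₀) := π₀.isOpenMap.isOpen_range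
  let O : U.Opens := ⟨Set.range π₀, hopen⟩
  have hrange : Set.range π₀ ⊆ Set.range O.ι := by
    rw [Scheme.Opens.range_ι]; exact subset_rfl
  let π : (V : Scheme.{u}) ⟶ (O : Scheme.{u}) := IsOpenImmersion.lift O.ι π₀ hrange
  have hπ : π ≫ O.ι = π₀ := IsOpenImmersion.lift_fac _ _ _
  have sq : IsPullback (𝟙 (V : Scheme.{u})) π π₀ O.ι :=
    IsPullback.of_horiz_isIso_mono ⟨by rw [Category.id_comp, hπ]⟩
  have huO : u ∈ O := ⟨⟨v, hvV⟩, by rw [hπ₀, Scheme.Hom.comp_apply]; exact hvu⟩
  refine ⟨O, V, O.ι ≫ e, π, inferInstance, ⟨⟨u, huO⟩, ?_⟩, ?_, ?_, ?_, ?_, ?_⟩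
  · rw [Scheme.Hom.comp_apply]
    change e u = s
    exact heu.trans hz
  · constructor
    intro p
    obtain ⟨w, hw⟩ := p.2
    refine ⟨w, ?_⟩
    apply O.ι.isOpenEmbedding.injective
    rw [← Scheme.Hom.comp_apply, hπ]
    exact hw
  · exact MorphismProperty.of_isPullback (P := @IsFinite) sq hfin
  · exact MorphismProperty.of_isPullback (P := @Flat) sq inferInstance
  · exact MorphismProperty.of_isPullback (P := @LocallyOfFinitePresentation) sq inferInstance
  · intro v'
    refine ⟨⊤, (⊤ : (V : Scheme.{u}).Opens).ι ≫ V.ι ≫ pullback.fst f e ≫ k, trivial, ?_⟩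
    simp only [Category.assoc]
    rw [← hf, pullback.condition, ← Category.assoc V.ι, ← hπ₀, ← hπ]
    simp only [Category.assoc]

end Groth.Agent.S1379
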