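import Groth.Statements.S13792
import Groth.Agent.Lib.Helper73.DimFormula.QuasiFiniteTrdeg

set_option autoImplicit false
universe u
open CategoryTheory AlgebraicGeometry
open Curves

namespace Groth.Agent.S13792

/-- Let k be a field and E an integral k-scheme of finite type whose underlying space has dimension 1,
and let ι : G → E be a closed immersion. Then either ι is an isomorphism or G is finite over k. (The
published statement is about a closed subgroup scheme of an elliptic curve and its proof states this
fact for E geometrically integral; this row assumes only that E is integral.) -/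
theorem result {k : Type u} [Field k]
    {E G : Scheme.{u}} (f : E ⟶ Spec (CommRingCat.of k)) [LocallyOfFiniteType f] [QuasiCompact f]
    [IsIntegral E] (hdim : topologicalKrullDim ↥E = 1) (ι : G ⟶ E) [IsClosedImmersion ι] :
    IsIso ι ∨ IsFinite (ι ≫ f) := by
  open Groth.Agent.Lib.Helper73 in
  by_cases hs : Function.Surjective ι
  · left
    have : Surjective ι := ⟨hs⟩
    exact isIso_of_isClosedImmersion_of_surjective ι
  · right
    have hδ := isDimFun_trdegNat f
    have hgen : trdegNat f (genericPoint E) = 1 := by
      have := topologicalKrullDim_eq_trdegNat_genericPoint f
      rw [hdim] at this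
      exact_mod_cast this.symm
    have hne : ∀ g : G, genericPoint E ≠ ι g := by
      intro g he
      apply hs
      rw [← Set.range_eq_univ, ← Set.univ_subset_iff,
        ← (genericPoint_spec E : closure {genericPoint E} = Set.univ)]
      exact closure_minimal (by rw [Set.singleton_subset_iff, he]; exact ⟨g, rfl⟩)
        ι.isClosedEmbedding.isClosed_range
    have h0 : ∀ g : G, resTrdegNat (ι ≫ f) g = 0 := by
      intro g
      rw [resTrdegNat_comp_of_isPreimmersion, ← trdegNat_eq_resTrdegNat]
      have := hδ.strictMono (hδ.lt_of_specializes_of_ne (genericPoint_specializes (ι g)) (hne g))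
      omega
    have := locallyQuasiFinite_of_forall_resTrdegNat_eq_zero (ι ≫ f) h0
    exact IsFinite.of_locallyQuasiFinite (ι ≫ f)

end Groth.Agent.S13792
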