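import Groth.Statements.S13794
import Mathlib.Tactic
-- import your own Groth.Agent.* helpers here

set_option autoImplicit false
universe u
open Polynomial
open Curves

namespace Groth.Agent.S13794

/-- Let k be a field of characteristic not 3 and β ∈ k. If a line ax + by + c = 0 with a³ ≠ b³ is the
tangent line at a flex point of the affine cubic x³ + y³ + β = 3xy, then β is a cube in k. Here the
line is normalised to b ≠ 0 (the roles of x and y are symmetric) and the flex-tangency is expressed
by the restriction of the cubic to the line being λ (x − x₀)³. -/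
theorem result {k : Type u} [Field k] (h3 : (3 : k) ≠ 0)
    (β a b c : k) (hb : b ≠ 0) (hab : a ^ 3 ≠ b ^ 3) (lam x₀ : k)
    (hflex : (X : k[X]) ^ 3 + (C (-a / b) * X + C (-c / b)) ^ 3 + C β - 3 * X * (C (-a / b) * X + C (-c / b)) =
      C lam * (X - C x₀) ^ 3) :
    ∃ γ : k, β = γ ^ 3 := by
  obtain ⟨m, hm⟩ : ∃ m : k, m = -a / b := ⟨_, rfl⟩
  obtain ⟨q, hq⟩ : ∃ q : k, q = -c / b := ⟨_, rfl⟩
  rw [← hm, ← hq] at hflex
  have hL : (X : k[X]) ^ 3 + (C m * X + C q) ^ 3 + C β - 3 * X * (C m * X + C q) =
      C (1 + m ^ 3) * X ^ 3 + C (3 * m ^ 2 * q - 3 * m) * X ^ 2 + C (3 * m * q ^ 2 - 3 * q) * X +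
        C (q ^ 3 + β) := by
    simp only [map_add, map_sub, map_mul, map_pow, map_one, map_ofNat]
    ring
  have hR : C lam * ((X : k[X]) - C x₀) ^ 3 =
      C lam * X ^ 3 + C (-3 * lam * x₀) * X ^ 2 + C (3 * lam * x₀ ^ 2) * X +
        C (-lam * x₀ ^ 3) := by
    simp only [map_neg, map_mul, map_pow, map_ofNat]
    ring
  rw [hL, hR] at hflex
  have e3 : 1 + m ^ 3 = lam := by
    have := congrArg (fun p => p.coeff 3) hflex
    simp only [coeff_add, coeff_C_mul, coeff_X_pow, coeff_X, coeff_C] at this
    norm_num at this
    linear_combination this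
  have e2 : 3 * m ^ 2 * q - 3 * m = -3 * lam * x₀ := by
    have := congrArg (fun p => p.coeff 2) hflex
    simp only [coeff_add, coeff_C_mul, coeff_X_pow, coeff_X, coeff_C] at this
    norm_num at this
    linear_combination this
  have e1 : 3 * m * q ^ 2 - 3 * q = 3 * lam * x₀ ^ 2 := by
    have := congrArg (fun p => p.coeff 1) hflex
    simp only [coeff_add, coeff_C_mul, coeff_X_pow, coeff_X, coeff_C] at this
    norm_num at this
    linear_combination this
  have e0 : q ^ 3 + β = -lam * x₀ ^ 3 := by
    have := congrArg (fun p => p.coeff 0) hflex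
    simp only [coeff_add, coeff_C_mul, coeff_X_pow, coeff_X, coeff_C] at this
    norm_num at this
    linear_combination this
  have hlam : lam ≠ 0 := by
    intro h0
    apply hab
    have h1 : m ^ 3 = -1 := by rw [h0] at e3; linear_combination e3
    have h2 : m ^ 3 = -(a ^ 3) / b ^ 3 := by rw [hm, div_pow]; ring
    rw [h2] at h1
    field_simp at h1
    linear_combination -h1
  by_cases hw : m * q - 1 = 0
  · have hx0 : x₀ = 0 := by
      have h1 : 3 * (lam * x₀) = 0 := by
        have : 3 * (lam * x₀) = -(3 * m * (m * q - 1)) := by linear_combination e2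
        rw [this, hw]; ring
      rcases mul_eq_zero.mp h1 with h | h
      · exact absurd h h3
      · rcases mul_eq_zero.mp h with h | h
        · exact absurd h hlam
        · exact h
    refine ⟨-q, ?_⟩
    rw [hx0] at e0
    linear_combination e0
  · have hq' : q + x₀ * m = 0 := by
      have h1 : 3 * ((q + x₀ * m) * (m * q - 1)) = 0 := by linear_combination e1 + x₀ * e2
      rcases mul_eq_zero.mp h1 with h | h
      · exact absurd h h3
      · rcases mul_eq_zero.mp h with h | h
        · exact h
        · exact absurd h hw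
    have hq'' : q = -(x₀ * m) := by linear_combination hq'
    have hmx : m = x₀ := by
      have h1 : 3 * (m - x₀) = 0 := by
        rw [hq'', ← e3] at e2
        linear_combination -e2
      rcases mul_eq_zero.mp h1 with h | h
      · exact absurd h h3
      · linear_combination h
    refine ⟨-m, ?_⟩
    rw [hq'', ← e3, ← hmx] at e0
    linear_combination e0

end Groth.Agent.S13794
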