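import Groth.Statements.S13797
import Groth.Agent.Lib.Helper3.PicPow
import Groth.Agent.Lib.Helper3.EndIso
import Mathlib.LinearAlgebra.Matrix.ToLin
import Mathlib.LinearAlgebra.TensorProduct.Pi
-- import your own Groth.Agent.* helpers here

set_option autoImplicit false
universe u
open scoped TensorProduct
open Brauer

namespace Groth.Agent.S13797

section helpers
open Groth.Agent.Lib.Helper3
open TensorProduct

variable (A : Type u) [CommRing A] (n : ℕ)
  (α : Matrix (Fin n) (Fin n) A ≃ₐ[A] Matrix (Fin n) (Fin n) A)

/-- the module of liftings -/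
abbrev K : Submodule A (Matrix (Fin n) (Fin n) A) :=
  LinearMap.ker (LinearMap.mul A (Matrix (Fin n) (Fin n) A) -
    (LinearMap.lcomp A (Matrix (Fin n) (Fin n) A) α.toLinearMap).comp
      (LinearMap.mul A (Matrix (Fin n) (Fin n) A)).flip)

lemma mem_K (M : Matrix (Fin n) (Fin n) A) :
    M ∈ K A n α ↔ ∀ N : Matrix (Fin n) (Fin n) A, M * N = α N * M := by
  rw [LinearMap.mem_ker]
  constructor
  · intro h N
    have := LinearMap.congr_fun h N
    simpa [sub_eq_zero] using this
  · intro h
    ext1 N
    simp [h N]

/-- the automorphism of `End (A^n)` -/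
noncomputable def phiE : Module.End A (Fin n → A) ≃ₐ[A] Module.End A (Fin n → A) :=
  Matrix.toLinAlgEquiv'.symm.trans (α.trans Matrix.toLinAlgEquiv')

lemma phiE_toLin (N : Matrix (Fin n) (Fin n) A) :
    phiE A n α (Matrix.toLinAlgEquiv' N) = Matrix.toLinAlgEquiv' (α N) := by
  simp [phiE]

lemma toLin_mem (M : Matrix (Fin n) (Fin n) A) (hM : M ∈ K A n α) :
    (Matrix.toLinAlgEquiv' M : Module.End A (Fin n → A)) ∈ EndIso.Lmod (phiE A n α) := by
  intro f
  obtain ⟨N, rfl⟩ := (Matrix.toLinAlgEquiv' (R := A) (n := Fin n)).surjective f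
  rw [phiE_toLin]
  have h := (mem_K A n α M).mp hM N
  have h2 := congrArg (Matrix.toLinAlgEquiv' (R := A) (n := Fin n)) h
  rw [map_mul, map_mul] at h2
  exact h2

/-- `K ≃ Lmod φE`. -/
noncomputable def KEquiv : K A n α ≃ₗ[A] EndIso.Lmod (phiE A n α) :=
  LinearEquiv.ofBijective
    (LinearMap.codRestrict (EndIso.Lmod (phiE A n α))
      ((Matrix.toLinAlgEquiv' (R := A) (n := Fin n)).toLinearMap ∘ₗ (K A n α).subtype)
      (fun M => toLin_mem A n α M.1 M.2))
    (by
      constructor
      · intro M M' h
        apply Subtype.ext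
        have := congrArg Subtype.val h
        exact (Matrix.toLinAlgEquiv' (R := A) (n := Fin n)).injective this
      · intro ℓ
        obtain ⟨M, hM⟩ := (Matrix.toLinAlgEquiv' (R := A) (n := Fin n)).surjective ℓ.1
        refine ⟨⟨M, ?_⟩, Subtype.ext hM⟩
        rw [mem_K]
        intro N
        apply (Matrix.toLinAlgEquiv' (R := A) (n := Fin n)).injective
        rw [map_mul, map_mul, hM, ← phiE_toLin]
        exact ℓ.2 (Matrix.toLinAlgEquiv' N))

theorem main (hn : 0 < n) :
    Module.Invertible A (K A n α) ∧ Nonempty ((⨂[A] _ : Fin n, K A n α) ≃ₗ[A] A) := by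
  classical
  rcases subsingleton_or_nontrivial A with hA | hA
  · haveI : Subsingleton (K A n α) := Module.subsingleton A _
    haveI : Subsingleton (⨂[A] _ : Fin n, K A n α) := Module.subsingleton A _
    exact ⟨Module.Invertible.congr (LinearEquiv.ofSubsingleton A (K A n α)),
      ⟨LinearEquiv.ofSubsingleton _ _⟩⟩
  · haveI : Nonempty (Fin n) := ⟨⟨0, hn⟩⟩
    haveI hinvL : Module.Invertible A (EndIso.Lmod (phiE A n α)) := EndIso.invertible_Lmod _
    haveI hinv : Module.Invertible A (K A n α) := Module.Invertible.congr (KEquiv A n α).symm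
    refine ⟨hinv, ?_⟩
    let e : (Fin n → K A n α) ≃ₗ[A] (Fin n → A) :=
      (TensorProduct.piScalarRight A A (K A n α) (Fin n)).symm ≪≫ₗ
        TensorProduct.comm A (K A n α) (Fin n → A) ≪≫ₗ
        TensorProduct.congr (LinearEquiv.refl A (Fin n → A)) (KEquiv A n α) ≪≫ₗ
        EndIso.xiEquiv (phiE A n α)
    exact PicPow.piTensor_equiv_of_pi_equiv (K A n α) e


end helpers

/-- In the case of an affine scheme — let A be a commutative ring, n ≥ 1 and α an A-algebra automorphism
of the n × n matrix algebra over A. The A-module L of matrices M with M N = α(N) M for every matrix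
N (the module of sections of the line bundle attached to the torsor of liftings of α to GL_n) is
invertible, and its class in the Picard group of A is n-torsion: the n-fold tensor power of L is
isomorphic to A (existence of an isomorphism only). (The published statement is for an automorphism
of End(O^n) on any locally ringed site, in the form: the sheaf of liftings is a 𝔾_m-torsor whose
class in Pic is n-torsion; this row is the affine case.) -/
theorem result (A : Type u) [CommRing A] (n : ℕ) (hn : 0 < n)
    (α : Matrix (Fin n) (Fin n) A ≃ₐ[A] Matrix (Fin n) (Fin n) A) :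
    Module.Invertible A
        (LinearMap.ker (LinearMap.mul A (Matrix (Fin n) (Fin n) A) -
          (LinearMap.lcomp A (Matrix (Fin n) (Fin n) A) α.toLinearMap).comp (LinearMap.mul A (Matrix (Fin n) (Fin n) A)).flip)) ∧
      Nonempty ((⨂[A] _ : Fin n,
          LinearMap.ker (LinearMap.mul A (Matrix (Fin n) (Fin n) A) -
            (LinearMap.lcomp A (Matrix (Fin n) (Fin n) A) α.toLinearMap).comp (LinearMap.mul A (Matrix (Fin n) (Fin n) A)).flip)) ≃ₗ[A] A) := by
  exact main A n α hn

end Groth.Agent.S13797
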