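import Mathlib
import Groth.Statements.S1380
import Groth.Agent.Lib.Helper9.PInsepSplit3

set_option autoImplicit false
universe u
open FlatMor

namespace Groth.Agent.S1380

open TensorProduct in
/-- Let R → S be integral and p a prime of R with only finitely many primes of S above it, such that for
each of them the separable closure of κ(p) in its residue field is finite over κ(p). Then there are
an étale R-algebra R' and a prime p' of R' over p such that R' ⊗ S is a finite product of
R'-algebras, each integral over R' with exactly one prime over p', whose residue field is purely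
inseparable over κ(p'). -/
theorem result {R S : Type u} [CommRing R] [CommRing S] [Algebra R S] [Algebra.IsIntegral R S]
    (p : Ideal R) [p.IsPrime] (hfin : {q : PrimeSpectrum S | q.asIdeal.comap (algebraMap R S) = p}.Finite)
    (hsep : ∀ (q : PrimeSpectrum S) (hq : q.asIdeal.comap (algebraMap R S) = p),
      letI := (Ideal.ResidueField.map p q.asIdeal (algebraMap R S) hq.symm).toAlgebra
      Module.Finite p.ResidueField (separableClosure p.ResidueField q.asIdeal.ResidueField)) :
    ∃ (R' : Type u) (_ : CommRing R') (_ : Algebra R R') (p' : PrimeSpectrum R'), Algebra.Etale R R' ∧ p'.asIdeal.comap (algebraMap R R') = p ∧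
      ∃ (m : ℕ) (A : Fin m → Type u) (_ : ∀ j, CommRing (A j)) (_ : ∀ j, Algebra R' (A j)) (e : R' ⊗[R] S ≃ₐ[R'] (Π j, A j)),
        ∀ j, Algebra.IsIntegral R' (A j) ∧ ∃ (r : PrimeSpectrum (A j)) (hr : r.asIdeal.comap (algebraMap R' (A j)) = p'.asIdeal),
          (∀ r' : PrimeSpectrum (A j), r'.asIdeal.comap (algebraMap R' (A j)) = p'.asIdeal → r' = r) ∧
          letI := (Ideal.ResidueField.map p'.asIdeal r.asIdeal (algebraMap R' (A j)) hr.symm).toAlgebra
          IsPurelyInseparable p'.asIdeal.ResidueField r.asIdeal.ResidueField := by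
  classical
  -- Step 1: the separable polynomials
  have hpoly : ∀ (q : PrimeSpectrum S) (hq : q.asIdeal.comap (algebraMap R S) = p),
      ∃ Pq : Polynomial p.ResidueField, Pq.Separable ∧
        ∀ {K Ω : Type u} [Field K] [Field Ω] [Algebra K Ω] (μ : p.ResidueField →+* K)
          (φ : q.asIdeal.ResidueField →+* Ω),
          φ.comp (Ideal.ResidueField.map p q.asIdeal (algebraMap R S) hq.symm) =
            (algebraMap K Ω).comp μ → (Pq.map μ).Splits →
          ∀ y, φ y ∈ perfectClosure K Ω := by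
    intro q hq
    letI := (Ideal.ResidueField.map p q.asIdeal (algebraMap R S) hq.symm).toAlgebra
    haveI : Algebra.IsAlgebraic p.ResidueField q.asIdeal.ResidueField :=
      Groth.Agent.Lib.Helper9.PInsepSplit.isAlgebraic_residueField p q.asIdeal hq.symm
    haveI := hsep q hq
    exact Groth.Agent.Lib.Helper9.PInsepSplit.exists_separable_poly
  -- Step 2: etale neighbourhood splitting them
  let ι := {q : PrimeSpectrum S // q.asIdeal.comap (algebraMap R S) = p}
  haveI : Finite ι := hfin.to_subtype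
  obtain ⟨R₁, _, _, _, p₁, _, h₁, hs₁⟩ :=
    Groth.Agent.Lib.Helper57.EtRes.exists_etale_splits_family (ι := ι) p
      (fun i => (hpoly i.1 i.2).choose) (fun i => (hpoly i.1 i.2).choose_spec.1)
  haveI hp₁l : p₁.LiesOver p := ⟨h₁⟩
  -- Step 3: finitely many primes over p₁
  have hfin0 : (p.primesOver S).Finite := by
    refine (hfin.image PrimeSpectrum.asIdeal).subset ?_
    rintro Q ⟨hQ1, hQ2⟩
    exact ⟨⟨Q, hQ1⟩, hQ2.over.symm, rfl⟩
  have hfin₁ : (p₁.primesOver (R₁ ⊗[R] S)).Finite :=
    Groth.Agent.Lib.Helper9.PInsepSplit.finite_primesOver_tensor p p₁ hfin0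
  -- Step 4: split
  obtain ⟨R₂, _, _, _, P₂, _, _, m, ε, hε, huniq⟩ :=
    Groth.Agent.Lib.Helper9.PInsepSplit.exists_etale_split_integral (R := R₁)
      (S := R₁ ⊗[R] S) p₁ hfin₁
  -- Step 5: composite etale neighbourhood and transport of the idempotents
  letI : Algebra R R₂ := ((algebraMap R₁ R₂).comp (algebraMap R R₁)).toAlgebra
  haveI : IsScalarTower R R₁ R₂ := IsScalarTower.of_algebraMap_eq' rfl
  haveI : Algebra.Etale R R₂ := Algebra.Etale.comp R R₁ R₂
  haveI hP₂l : P₂.LiesOver p := Ideal.LiesOver.trans P₂ p₁ p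
  let cb : R₂ ⊗[R₁] (R₁ ⊗[R] S) ≃ₐ[R₂] R₂ ⊗[R] S :=
    Algebra.TensorProduct.cancelBaseChange R R₁ R₂ R₂ S
  let ε' : Fin m → R₂ ⊗[R] S := fun j => cb (ε j)
  have hε' : CompleteOrthogonalIdempotents ε' := hε.map cb.toAlgHom.toRingHom
  let A : Fin m → Type u := fun j => (R₂ ⊗[R] S) ⧸ Ideal.span {1 - ε' j}
  let e : R₂ ⊗[R] S ≃ₐ[R₂] (∀ j, A j) :=
    AlgEquiv.ofBijective (Pi.algHom R₂ A (fun j => Ideal.Quotient.mkₐ R₂ _)) hε'.bijective_pi
  refine ⟨R₂, inferInstance, inferInstance, ⟨P₂, inferInstance⟩, inferInstance,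
    hP₂l.over.symm, m, A, fun j => inferInstance, fun j => inferInstance, e, fun j => ?_⟩
  -- Step 6: analysis of the `j`-th factor
  let I_j : Ideal (R₂ ⊗[R] S) := Ideal.span {1 - ε' j}
  let mk : (R₂ ⊗[R] S) →+* (R₂ ⊗[R] S) ⧸ I_j := Ideal.Quotient.mk I_j
  have hmk_surj : Function.Surjective mk := Ideal.Quotient.mk_surjective
  have hint₂ : Algebra.IsIntegral R₂ (R₂ ⊗[R] S) := inferInstance
  have hintA : Algebra.IsIntegral R₂ ((R₂ ⊗[R] S) ⧸ I_j) :=
    Algebra.IsIntegral.of_surjective (Ideal.Quotient.mkₐ R₂ I_j) (Ideal.Quotient.mkₐ_surjective R₂ I_j)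
  have halg : algebraMap R₂ ((R₂ ⊗[R] S) ⧸ I_j) = mk.comp (algebraMap R₂ (R₂ ⊗[R] S)) := rfl
  obtain ⟨Q, ⟨hQp, hQl, hQε⟩, hQu⟩ := huniq j
  let Q' : Ideal (R₂ ⊗[R] S) := Q.comap cb.symm.toAlgHom
  have hQ'p : Q'.IsPrime := Ideal.comap_isPrime _ _
  have hQ'l : Q'.LiesOver P₂ := inferInstance
  have hQ'ε : ε' j ∉ Q' := by
    intro h
    apply hQε
    have h2 : cb.symm (ε' j) ∈ Q := h
    simpa [ε'] using h2
  have hidem : IsIdempotentElem (ε' j) := hε'.idem j
  have h1ε : ∀ Q'' : Ideal (R₂ ⊗[R] S), Q''.IsPrime → (1 - ε' j ∈ Q'' ↔ ε' j ∉ Q'') := by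
    intro Q'' hQ''
    constructor
    · intro h1 h2
      exact hQ''.ne_top ((Ideal.eq_top_iff_one _).mpr (by
        have := Q''.add_mem h1 h2
        simpa using this))
    · intro h2
      have h3 : ε' j * (1 - ε' j) ∈ Q'' := by
        rw [mul_sub, mul_one, hidem.eq, sub_self]
        exact Q''.zero_mem
      exact (hQ''.mem_or_mem h3).resolve_left h2
  have hkerle : RingHom.ker mk ≤ Q' := by
    rw [Ideal.mk_ker, Ideal.span_le, Set.singleton_subset_iff]
    exact (h1ε Q' hQ'p).mpr hQ'ε
  let r : Ideal ((R₂ ⊗[R] S) ⧸ I_j) := Q'.map mk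
  have hrp : r.IsPrime := Ideal.map_isPrime_of_surjective hmk_surj hkerle
  have hrc : r.comap mk = Q' := by
    rw [Ideal.comap_map_of_surjective mk hmk_surj, ← RingHom.ker_eq_comap_bot]
    exact sup_eq_left.mpr hkerle
  have hr : r.comap (algebraMap R₂ ((R₂ ⊗[R] S) ⧸ I_j)) = P₂ := by
    rw [halg, ← Ideal.comap_comap, hrc]
    exact hQ'l.over.symm
  refine ⟨hintA, ⟨r, hrp⟩, hr, ?_, ?_⟩
  · -- uniqueness
    intro r' hr'
    have hQ''p : (r'.asIdeal.comap mk).IsPrime := Ideal.comap_isPrime _ _
    have hQ''l : (r'.asIdeal.comap mk).LiesOver P₂ := ⟨by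
      rw [Ideal.under_def, Ideal.comap_comap, ← halg]
      exact hr'.symm⟩
    have hQ''1 : 1 - ε' j ∈ r'.asIdeal.comap mk := by
      rw [Ideal.mem_comap]
      have : mk (1 - ε' j) = 0 :=
        Ideal.Quotient.eq_zero_iff_mem.mpr (Ideal.subset_span rfl)
      rw [this]
      exact Ideal.zero_mem _
    have hQ''ε : ε' j ∉ r'.asIdeal.comap mk := (h1ε _ hQ''p).mp hQ''1
    have hcbp : ((r'.asIdeal.comap mk).comap cb.toAlgHom).IsPrime := Ideal.comap_isPrime _ _
    have hcbl : ((r'.asIdeal.comap mk).comap cb.toAlgHom).LiesOver P₂ := inferInstance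
    have hcbε : ε j ∉ (r'.asIdeal.comap mk).comap cb.toAlgHom := hQ''ε
    have hQeq := hQu _ hcbp hcbl hcbε
    have hQ''Q' : r'.asIdeal.comap mk = Q' := by
      ext x
      have hx : cb (cb.symm x) = x := cb.apply_symm_apply x
      constructor
      · intro h
        show cb.symm x ∈ Q
        rw [← hQeq]
        show cb (cb.symm x) ∈ r'.asIdeal.comap mk
        rw [hx]
        exact h
      · intro h
        have h2 : cb.symm x ∈ Q := h
        rw [← hQeq] at h2
        have h3 : cb (cb.symm x) ∈ r'.asIdeal.comap mk := h2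
        rw [hx] at h3
        exact h3
    apply PrimeSpectrum.ext
    show r'.asIdeal = r
    rw [← Ideal.map_comap_of_surjective mk hmk_surj r'.asIdeal, hQ''Q']
  · -- purely inseparable residue field
    letI algK : Algebra P₂.ResidueField r.ResidueField :=
      (Ideal.ResidueField.map P₂ r (algebraMap R₂ ((R₂ ⊗[R] S) ⧸ I_j)) hr.symm).toAlgebra
    show IsPurelyInseparable P₂.ResidueField r.ResidueField
    let g : R₂ ⊗[R] S →+* r.ResidueField :=
      (algebraMap ((R₂ ⊗[R] S) ⧸ I_j) r.ResidueField).comp mk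
    apply Groth.Agent.Lib.Helper9.PInsepSplit.isPurelyInseparable_of_tensor g
    · intro ω
      obtain ⟨a, b, -, rfl⟩ :=
        IsFractionRing.div_surjective (A := ((R₂ ⊗[R] S) ⧸ I_j) ⧸ r) ω
      obtain ⟨a, rfl⟩ := Ideal.Quotient.mk_surjective a
      obtain ⟨b, rfl⟩ := Ideal.Quotient.mk_surjective b
      obtain ⟨a, rfl⟩ := hmk_surj a
      obtain ⟨b, rfl⟩ := hmk_surj b
      refine ⟨a, b, ?_⟩
      have h : ∀ x, algebraMap (((R₂ ⊗[R] S) ⧸ I_j) ⧸ r) r.ResidueField
          (Ideal.Quotient.mk r x) = algebraMap _ r.ResidueField x := fun x =>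
        Ideal.algebraMap_quotient_residueField_mk r x
      rw [h, h]
      rfl
    · intro a
      have h : g (a ⊗ₜ 1) = algebraMap P₂.ResidueField r.ResidueField
          (algebraMap R₂ P₂.ResidueField a) := by
        rw [RingHom.algebraMap_toAlgebra, Ideal.ResidueField.map_algebraMap]
        rfl
      rw [h]
      exact IntermediateField.algebraMap_mem _ _
    · intro s
      let fS : S →+* (R₂ ⊗[R] S) ⧸ I_j :=
        mk.comp (Algebra.TensorProduct.includeRight : S →ₐ[R] R₂ ⊗[R] S).toRingHom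
      have hfeq : fS.comp (algebraMap R S) =
          (algebraMap R₂ ((R₂ ⊗[R] S) ⧸ I_j)).comp (algebraMap R R₂) := by
        ext x
        simp only [RingHom.comp_apply, fS, halg]
        congr 1
        show (1 : R₂) ⊗ₜ[R] (algebraMap R S x) = algebraMap R₂ (R₂ ⊗[R] S) (algebraMap R R₂ x)
        rw [Algebra.TensorProduct.algebraMap_apply, Algebra.algebraMap_self, RingHom.id_apply,
          Algebra.algebraMap_eq_smul_one, Algebra.algebraMap_eq_smul_one (A := R₂),
          TensorProduct.smul_tmul]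
      let q : Ideal S := r.comap fS
      have hqp : q.IsPrime := Ideal.comap_isPrime _ _
      have hq : q.comap (algebraMap R S) = p := by
        rw [Ideal.comap_comap, hfeq, ← Ideal.comap_comap, hr]
        exact hP₂l.over.symm
      let qS : PrimeSpectrum S := ⟨q, hqp⟩
      let μ : p.ResidueField →+* P₂.ResidueField :=
        Ideal.ResidueField.map p P₂ (algebraMap R R₂) hP₂l.over
      let φ : q.ResidueField →+* r.ResidueField := Ideal.ResidueField.map q r fS rfl
      have h3 : p = r.comap (fS.comp (algebraMap R S)) := by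
        rw [← Ideal.comap_comap]; exact hq.symm
      have h3' : p = r.comap ((algebraMap R₂ ((R₂ ⊗[R] S) ⧸ I_j)).comp (algebraMap R R₂)) := by
        rw [← hfeq]; exact h3
      have hcomp : φ.comp (Ideal.ResidueField.map p q (algebraMap R S) hq.symm) =
          (algebraMap P₂.ResidueField r.ResidueField).comp μ := by
        rw [RingHom.algebraMap_toAlgebra,
          Groth.Agent.Lib.Helper57.EtRes.residueField_map_comp (algebraMap R S) fS p q r
            hq.symm rfl h3,
          Groth.Agent.Lib.Helper57.EtRes.residueField_map_comp (algebraMap R R₂)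
            (algebraMap R₂ ((R₂ ⊗[R] S) ⧸ I_j)) p P₂ r hP₂l.over hr.symm h3']
        exact Groth.Agent.Lib.Helper9.PInsepSplit.residueField_map_congr _ _ hfeq p r h3 h3'
      have hsplit : ((hpoly qS hq).choose.map μ).Splits := by
        have h4 : p = P₂.comap ((algebraMap R₁ R₂).comp (algebraMap R R₁)) := hP₂l.over
        have hμ : μ = (Ideal.ResidueField.map p₁ P₂ (algebraMap R₁ R₂) (P₂.over_def p₁)).comp
            (Ideal.ResidueField.map p p₁ (algebraMap R R₁) h₁) := by
          rw [Groth.Agent.Lib.Helper57.EtRes.residueField_map_comp (algebraMap R R₁)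
            (algebraMap R₁ R₂) p p₁ P₂ h₁ (P₂.over_def p₁) h4]
          exact Groth.Agent.Lib.Helper9.PInsepSplit.residueField_map_congr _ _ rfl p P₂ _ _
        rw [hμ, ← Polynomial.map_map]
        exact (hs₁ ⟨qS, hq⟩).map _
      have key := (hpoly qS hq).choose_spec.2 (K := P₂.ResidueField) (Ω := r.ResidueField)
        μ φ hcomp hsplit (algebraMap S q.ResidueField s)
      have hg : g (1 ⊗ₜ s) = φ (algebraMap S q.ResidueField s) := by
        rw [Ideal.ResidueField.map_algebraMap]
        rfl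
      rw [hg]
      exact key

end Groth.Agent.S1380
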