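import Groth.Statements.S13801
import Mathlib.Data.Nat.Factorial.BigOperators
import Mathlib.Tactic
-- import your own Groth.Agent.* helpers here

set_option autoImplicit false
open ChowMon

namespace Groth.Agent.S13801


theorem padic_prod {ι : Type} (p : ℕ) [Fact p.Prime] (s : Finset ι) (f : ι → ℕ)
    (hf : ∀ i ∈ s, f i ≠ 0) :
    padicValNat p (∏ i ∈ s, f i) = ∑ i ∈ s, padicValNat p (f i) := by
  classical
  induction s using Finset.induction_on with
  | empty => simp
  | insert a s ha ih =>
    rw [Finset.prod_insert ha, Finset.sum_insert ha,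
      padicValNat.mul (hf a (Finset.mem_insert_self a s))
        (Finset.prod_ne_zero_iff.mpr fun i hi => hf i (Finset.mem_insert_of_mem hi)),
      ih (fun i hi => hf i (Finset.mem_insert_of_mem hi))]

theorem padic_le_of_dvd (p : ℕ) [Fact p.Prime] {x y : ℕ} (hy : y ≠ 0) (h : x ∣ y) :
    padicValNat p x ≤ padicValNat p y := by
  obtain ⟨c, rfl⟩ := h
  have hx : x ≠ 0 := left_ne_zero_of_mul hy
  have hc : c ≠ 0 := right_ne_zero_of_mul hy
  rw [padicValNat.mul hx hc]
  omega

/-- For a prime p and positive natural numbers a_1, ..., a_k with sum n one has v_p(a_1!) + ... +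
v_p(a_k!) ≤ v_p(n!), and the inequality is strict whenever some a_i is not divisible by p^(v_p(n)). -/
theorem result {k : ℕ} (p : ℕ) [Fact p.Prime]
    (a : Fin k → ℕ) (ha : ∀ i, 0 < a i) :
    (∑ i, padicValNat p (a i).factorial ≤ padicValNat p (∑ i, a i).factorial) ∧
      ((∃ i, ¬ p ^ padicValNat p (∑ j, a j) ∣ a i) →
        ∑ i, padicValNat p (a i).factorial < padicValNat p (∑ i, a i).factorial) := by
  classical
  have hprod : padicValNat p (∏ i, (a i).factorial) = ∑ i, padicValNat p (a i).factorial :=
    padic_prod p Finset.univ (fun i => (a i).factorial) (fun i _ => Nat.factorial_ne_zero _)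
  refine ⟨?_, ?_⟩
  · rw [← hprod]
    exact padic_le_of_dvd p (Nat.factorial_ne_zero _)
      (Nat.prod_factorial_dvd_factorial_sum Finset.univ a)
  · rintro ⟨i, hi⟩
    rw [← hprod]
    set R := ∑ j ∈ Finset.univ.erase i, a j with hR
    set Q := ∏ j ∈ Finset.univ.erase i, (a j).factorial with hQ
    have hn : ∑ j, a j = a i + R := (Finset.add_sum_erase Finset.univ a (Finset.mem_univ i)).symm
    have hP : ∏ j, (a j).factorial = (a i).factorial * Q :=
      (Finset.mul_prod_erase Finset.univ (fun j => (a j).factorial) (Finset.mem_univ i)).symm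
    obtain ⟨A', hA'⟩ : ∃ A', a i = A' + 1 := ⟨a i - 1, by have := ha i; omega⟩
    rw [hn, hA'] at hi
    rw [hn, hP, hA']
    have hQR : Q ∣ R.factorial := Nat.prod_factorial_dvd_factorial_sum _ a
    have h1 : A'.factorial * Q ∣ (A' + R).factorial :=
      (Nat.mul_dvd_mul_left _ hQR).trans (Nat.factorial_mul_factorial_dvd_factorial_add A' R)
    obtain ⟨D, hD⟩ := h1
    have hD0 : D ≠ 0 := by
      rintro rfl
      exact Nat.factorial_ne_zero _ (by rw [hD, mul_zero])
    have hQ0 : Q ≠ 0 := Finset.prod_ne_zero_iff.mpr fun j _ => Nat.factorial_ne_zero _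
    have hkey : (A' + 1) * (A' + 1 + R).factorial =
        (A' + 1 + R) * D * ((A' + 1).factorial * Q) := by
      have e1 : A' + 1 + R = (A' + R) + 1 := by ring
      rw [e1, Nat.factorial_succ (A' + R), hD, Nat.factorial_succ A']
      ring
    have hv := congrArg (padicValNat p) hkey
    rw [padicValNat.mul (by omega) (Nat.factorial_ne_zero _),
      padicValNat.mul (mul_ne_zero (by omega) hD0)
        (mul_ne_zero (Nat.factorial_ne_zero _) hQ0),
      padicValNat.mul (by omega) hD0] at hv
    have hlt : padicValNat p (A' + 1) < padicValNat p (A' + 1 + R) := by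
      by_contra hle
      rw [not_lt] at hle
      exact hi ((padicValNat_dvd_iff_le (by omega)).mpr hle)
    omega

end Groth.Agent.S13801
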