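import Groth.Statements.S13827
import Mathlib
import Groth.Agent.Lib.Helper66.EtaPt

set_option autoImplicit false
universe u
open EtaPt

namespace Groth.Agent.S13827

open Groth.Agent.Lib.Helper66.EtaPt

section aux
variable (η : EtaPt.FieldEndo.{u})

theorem eq_zero_of_forall_minimalPrimes {A : Type u} [CommRing A] (x : η.M A)
    (h : ∀ p : PrimeSpectrum A, p.asIdeal ∈ minimalPrimes A → evalM η p x = 0) : x = 0 := by
  apply M_ext
  intro 𝔮
  obtain ⟨I, hI, hIq⟩ := Ideal.exists_minimalPrimes_le (J := 𝔮.asIdeal) bot_le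
  rw [map_zero]
  exact evalM_eq_zero_of_le η x ⟨I, hI.1.1⟩ 𝔮 hIq (h ⟨I, hI.1.1⟩ hI)

theorem isReduced_of_isNormalRing {A : Type u} [CommRing A] (hn : EGA4.IsNormalRing A) :
    IsReduced A := by
  constructor
  intro a ha
  apply eq_zero_of_localization
  intro J hJ
  have := (hn J).1
  exact (ha.map (algebraMap A (Localization.AtPrime J))).eq_zero

theorem exists_denominator {A : Type u} [CommRing A] (hn : EGA4.IsNormalRing A)
    (hA : (minimalPrimes A).Finite)
    (hη : ∀ p : PrimeSpectrum A, p.asIdeal ∈ minimalPrimes A →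
      Function.Bijective (η.eta p.asIdeal.ResidueField))
    (x : η.M A) (P : Ideal A) [hP : P.IsPrime] :
    ∃ s : A, s ∉ P ∧ ∃ a : A, η.q A s * x = η.q A a := by
  obtain ⟨hdom, hic⟩ := hn P
  let L := Localization.AtPrime P
  let K := FractionRing L
  let γ : A →+* K := (algebraMap L K).comp (algebraMap A L)
  have hinjLK : Function.Injective (algebraMap L K) := IsFractionRing.injective L K
  have hker_le : ∀ 𝔮 : Ideal A, 𝔮.IsPrime → 𝔮 ≤ P → RingHom.ker γ ≤ 𝔮 := by
    intro 𝔮 h𝔮 h𝔮P a ha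
    have h1 : algebraMap A L a = 0 := hinjLK (by rw [map_zero]; exact ha)
    obtain ⟨m, hm⟩ := (IsLocalization.map_eq_zero_iff P.primeCompl L a).mp h1
    have : (m : A) * a ∈ 𝔮 := by rw [hm]; exact zero_mem _
    exact (h𝔮.mem_or_mem this).resolve_left (fun h => m.2 (h𝔮P h))
  obtain ⟨𝔭, h𝔭⟩ : ∃ 𝔭 : PrimeSpectrum A, 𝔭.asIdeal = RingHom.ker γ :=
    ⟨⟨RingHom.ker γ, RingHom.ker_isPrime γ⟩, rfl⟩
  have hker_le' : ∀ 𝔮 : Ideal A, 𝔮.IsPrime → 𝔮 ≤ P → 𝔭.asIdeal ≤ 𝔮 := by
    rw [h𝔭]; exact hker_le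
  have h𝔭P : 𝔭.asIdeal ≤ P := hker_le' P hP le_rfl
  have hmin : 𝔭.asIdeal ∈ minimalPrimes A :=
    ⟨⟨𝔭.2, bot_le⟩, fun 𝔮 h𝔮 h𝔮le => hker_le' 𝔮 h𝔮.1 (h𝔮le.trans h𝔭P)⟩
  obtain ⟨z, hz⟩ := (hη 𝔭 hmin).2 (evalM η 𝔭 x)
  let ι : 𝔭.asIdeal.ResidueField →+* K := Ideal.ResidueField.lift 𝔭.asIdeal γ h𝔭.le (by
    intro y hy
    simp only [Submonoid.mem_comap, IsUnit.mem_submonoid_iff]
    rw [isUnit_iff_ne_zero]
    intro h
    apply hy
    change y ∈ 𝔭.asIdeal
    rw [h𝔭]; exact h)
  have hι : ∀ a, ι (algebraMap A _ a) = γ a := fun a =>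
    Ideal.ResidueField.lift_algebraMap _ _ _ _ a
  obtain ⟨Pz, hPz1, hPz2⟩ := isIntegralElem_phi η x.2 𝔭
  have hzint : Polynomial.eval₂ (algebraMap A 𝔭.asIdeal.ResidueField) z Pz = 0 := by
    apply (η.eta 𝔭.asIdeal.ResidueField).injective
    rw [map_zero, Polynomial.hom_eval₂, hz]
    exact hPz2
  have hιz : IsIntegral L (ι z) := by
    refine ⟨Pz.map (algebraMap A L), hPz1.map _, ?_⟩
    rw [Polynomial.eval₂_map]
    have : (algebraMap L K).comp (algebraMap A L) = ι.comp (algebraMap A _) := by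
      ext a; exact (hι a).symm
    rw [this, ← Polynomial.hom_eval₂, hzint, map_zero]
  obtain ⟨l, hl⟩ := IsIntegrallyClosed.isIntegral_iff.mp hιz
  obtain ⟨⟨a, s⟩, rfl⟩ := IsLocalization.mk'_surjective P.primeCompl l
  have hzs : z * algebraMap A _ (s : A) = algebraMap A _ a := by
    apply ι.injective
    rw [map_mul, hι, hι, ← hl]
    change algebraMap L K _ * algebraMap L K (algebraMap A L s) = algebraMap L K (algebraMap A L a)
    rw [← map_mul, IsLocalization.mk'_spec]
  have h𝔭0 : evalM η 𝔭 (η.q A s * x - η.q A a) = 0 := by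
    rw [map_sub, map_mul, evalM_q, evalM_q, ← hz, phi_apply, phi_apply, ← map_mul, mul_comm, hzs,
      sub_self]
  -- other minimal primes
  have hu : ∀ I : Ideal A, ∃ u : A, u ∉ P ∧ (I ∈ minimalPrimes A → I ≠ 𝔭.asIdeal → u ∈ I) := by
    intro I
    by_cases hI : I ∈ minimalPrimes A ∧ I ≠ 𝔭.asIdeal
    · have hnle : ¬ I ≤ P := by
        intro hIP
        have h1 : 𝔭.asIdeal ≤ I := hker_le' I hI.1.1.1 hIP
        exact hI.2 (le_antisymm (hI.1.2 ⟨𝔭.2, bot_le⟩ h1) h1)
      obtain ⟨u, huI, huP⟩ := Set.not_subset.mp hnle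
      exact ⟨u, huP, fun _ _ => huI⟩
    · exact ⟨1, fun h => hP.ne_top ((Ideal.eq_top_iff_one _).mpr h),
        fun h1 h2 => (hI ⟨h1, h2⟩).elim⟩
  choose u hu1 hu2 using hu
  let U : A := ∏ I ∈ hA.toFinset, u I
  have hUP : U ∉ P := by
    intro h
    obtain ⟨I, -, hI⟩ := (Ideal.IsPrime.prod_mem_iff).mp h
    exact hu1 I hI
  have hy : η.q A U * (η.q A s * x - η.q A a) = 0 := by
    apply eq_zero_of_forall_minimalPrimes
    intro p hp
    rw [map_mul]
    by_cases hp𝔭 : p = 𝔭
    · rw [hp𝔭, h𝔭0, mul_zero]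
    · have hUp : U ∈ p.asIdeal := by
        have h1 : u p.asIdeal ∈ p.asIdeal :=
          hu2 p.asIdeal hp (fun h => hp𝔭 (PrimeSpectrum.ext h))
        exact Ideal.mem_of_dvd _ (Finset.dvd_prod_of_mem u (hA.mem_toFinset.mpr hp)) h1
      rw [evalM_q, (phi_eq_zero_iff η p U).mpr hUp, zero_mul]
  refine ⟨U * s, fun h => ?_, U * a, ?_⟩
  · exact (hP.mem_or_mem h).elim hUP s.2
  · rw [mul_sub, sub_eq_zero] at hy
    rw [map_mul, map_mul, mul_assoc, hy]

theorem bijective_q_of_isNormalRing (A : Type u) [CommRing A] (hn : EGA4.IsNormalRing A)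
    (hA : (minimalPrimes A).Finite)
    (hη : ∀ p : PrimeSpectrum A, p.asIdeal ∈ minimalPrimes A →
      Function.Bijective (η.eta p.asIdeal.ResidueField)) :
    Function.Bijective (η.q A) := by
  have hred := isReduced_of_isNormalRing hn
  refine ⟨q_injective η A, fun x => ?_⟩
  let I : Ideal A :=
    { carrier := {s | ∃ a : A, η.q A s * x = η.q A a}
      add_mem' := by
        rintro s s' ⟨a, ha⟩ ⟨a', ha'⟩
        exact ⟨a + a', by rw [map_add, add_mul, ha, ha', map_add]⟩
      zero_mem' := ⟨0, by rw [map_zero, zero_mul]⟩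
      smul_mem' := by
        rintro c s ⟨a, ha⟩
        exact ⟨c * a, by rw [smul_eq_mul, map_mul, mul_assoc, ha, map_mul]⟩ }
  have hI : I = ⊤ := by
    by_contra hne
    obtain ⟨m, hm, hIm⟩ := Ideal.exists_le_maximal I hne
    have := hm.isPrime
    obtain ⟨s, hs, a, ha⟩ := exists_denominator η hn hA hη x m
    exact hs (hIm ⟨a, ha⟩)
  have h1 : (1 : A) ∈ I := by rw [hI]; exact Submodule.mem_top
  obtain ⟨a, ha⟩ := h1
  exact ⟨a, by rw [map_one, one_mul] at ha; exact ha.symm⟩

end aux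


/-- For a normal ring A (every localization at a prime is an integrally closed domain) with finitely
many minimal prime ideals such that η is bijective at the residue field of every minimal prime, q_A
: A → M_η(A) is bijective. Here η is a natural transformation from the identity of the category of
fields to an endofunctor F with F(η_K) bijective and η_K purely inseparable for every field K,
N_η(A) is the product of the F(k(p)) over the primes p of A with diagonal map t_A, and M_η(A) ⊆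
N_η(A) is the subring of elements sent into the range of t_R by every ring map from A to a valuation
ring R at whose fraction field η is bijective; q_A : A → M_η(A) is the corestriction of t_A. -/
theorem result (η : EtaPt.FieldEndo.{u}) (A : Type u) [CommRing A] (hn : EGA4.IsNormalRing A)
    (hA : (minimalPrimes A).Finite)
    (hη : ∀ p : PrimeSpectrum A, p.asIdeal ∈ minimalPrimes A → Function.Bijective (η.eta p.asIdeal.ResidueField)) :
    Function.Bijective (η.q A) := by
  exact bijective_q_of_isNormalRing η A hn hA hη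

end Groth.Agent.S13827
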