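import Groth.Statements.S13835
import Mathlib.Tactic
import Mathlib.AlgebraicGeometry.Gluing
import Mathlib.AlgebraicGeometry.Morphisms.Separated

set_option autoImplicit false
universe u
open AlgebraicGeometry CategoryTheory
open ChowMon

namespace Groth.Agent.S13835

/-- Let p : T' → T be a universal homeomorphism of separated schemes with T reduced and f' : T' → Y a
morphism (Y separated); if T has an open cover by affine opens U_i such that each restriction of f'
to p⁻¹(U_i) factors through p⁻¹(U_i) → U_i, then f' factors through p. -/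
theorem result {T' T Y : Scheme.{u}} (p : T' ⟶ T) (hp : FlatMor.IsUnivHomeo p) [IsReduced T]
    [T.IsSeparated] [T'.IsSeparated] [Y.IsSeparated] (f' : T' ⟶ Y)
    {ι : Type u} (U : ι → T.affineOpens) (hU : ⨆ i, (U i : T.Opens) = ⊤)
    (hloc : ∀ i, ∃ fi : ((U i : T.Opens) : Scheme.{u}) ⟶ Y, (p ⁻¹ᵁ (U i : T.Opens)).ι ≫ f' = (p ∣_ (U i : T.Opens)) ≫ fi) :
    ∃ f : T ⟶ Y, p ≫ f = f' := by
  choose fi hfi using hloc
  have hU0 : TopologicalSpace.IsOpenCover (fun i => (U i : T.Opens)) := TopologicalSpace.IsOpenCover.mk hU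
  have hsurj : ∀ {Z : Scheme.{u}} (g : Z ⟶ T),
      Function.Surjective (Limits.pullback.snd p g) := by
    intro Z g
    have h : IsHomeomorph (Limits.pullback.snd p g) :=
      hp _ _ _ (IsPullback.of_hasPullback p g).flip
    exact h.surjective
  have compat : ∀ i j,
      Limits.pullback.fst ((T.openCoverOfIsOpenCover (fun i => (U i : T.Opens)) hU0).f i)
        ((T.openCoverOfIsOpenCover (fun i => (U i : T.Opens)) hU0).f j) ≫ fi i =
      Limits.pullback.snd ((T.openCoverOfIsOpenCover (fun i => (U i : T.Opens)) hU0).f i)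
        ((T.openCoverOfIsOpenCover (fun i => (U i : T.Opens)) hU0).f j) ≫ fi j := by
    intro i j
    change Limits.pullback.fst (U i : T.Opens).ι (U j : T.Opens).ι ≫ fi i =
      Limits.pullback.snd (U i : T.Opens).ι (U j : T.Opens).ι ≫ fi j
    haveI : IsReduced (Limits.pullback (U i : T.Opens).ι (U j : T.Opens).ι) :=
      isReduced_of_isOpenImmersion
        (Limits.pullback.fst (U i : T.Opens).ι (U j : T.Opens).ι ≫ (U i : T.Opens).ι)
    haveI : Surjective (Limits.pullback.snd p
        (Limits.pullback.fst (U i : T.Opens).ι (U j : T.Opens).ι ≫ (U i : T.Opens).ι)) :=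
      ⟨hsurj _⟩
    refine ext_of_isDominant (Limits.pullback.snd p
        (Limits.pullback.fst (U i : T.Opens).ι (U j : T.Opens).ι ≫ (U i : T.Opens).ι)) ?_
    have h1 : Limits.pullback.snd p
          (Limits.pullback.fst (U i : T.Opens).ι (U j : T.Opens).ι ≫ (U i : T.Opens).ι) ≫
        Limits.pullback.fst (U i : T.Opens).ι (U j : T.Opens).ι ≫ fi i =
        Limits.pullback.fst p
          (Limits.pullback.fst (U i : T.Opens).ι (U j : T.Opens).ι ≫ (U i : T.Opens).ι) ≫ f' := by
      have hw : (Limits.pullback.snd p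
          (Limits.pullback.fst (U i : T.Opens).ι (U j : T.Opens).ι ≫ (U i : T.Opens).ι) ≫
          Limits.pullback.fst (U i : T.Opens).ι (U j : T.Opens).ι) ≫ (U i : T.Opens).ι =
          Limits.pullback.fst p
          (Limits.pullback.fst (U i : T.Opens).ι (U j : T.Opens).ι ≫ (U i : T.Opens).ι) ≫ p := by
        rw [Category.assoc, ← Limits.pullback.condition]
      have e1 := (isPullback_morphismRestrict p (U i : T.Opens)).lift_fst _ _ hw
      have e2 := (isPullback_morphismRestrict p (U i : T.Opens)).lift_snd _ _ hw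
      rw [← Category.assoc, ← e1, Category.assoc, ← hfi i, ← Category.assoc, e2]
    have h2 : Limits.pullback.snd p
          (Limits.pullback.fst (U i : T.Opens).ι (U j : T.Opens).ι ≫ (U i : T.Opens).ι) ≫
        Limits.pullback.snd (U i : T.Opens).ι (U j : T.Opens).ι ≫ fi j =
        Limits.pullback.fst p
          (Limits.pullback.fst (U i : T.Opens).ι (U j : T.Opens).ι ≫ (U i : T.Opens).ι) ≫ f' := by
      have hw : (Limits.pullback.snd p
          (Limits.pullback.fst (U i : T.Opens).ι (U j : T.Opens).ι ≫ (U i : T.Opens).ι) ≫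
          Limits.pullback.snd (U i : T.Opens).ι (U j : T.Opens).ι) ≫ (U j : T.Opens).ι =
          Limits.pullback.fst p
          (Limits.pullback.fst (U i : T.Opens).ι (U j : T.Opens).ι ≫ (U i : T.Opens).ι) ≫ p := by
        rw [Category.assoc, ← Limits.pullback.condition (f := (U i : T.Opens).ι),
          ← Limits.pullback.condition]
      have e1 := (isPullback_morphismRestrict p (U j : T.Opens)).lift_fst _ _ hw
      have e2 := (isPullback_morphismRestrict p (U j : T.Opens)).lift_snd _ _ hw
      rw [← Category.assoc, ← e1, Category.assoc, ← hfi j, ← Category.assoc, e2]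
    rw [h1, h2]
  refine ⟨(T.openCoverOfIsOpenCover (fun i => (U i : T.Opens)) hU0).glueMorphisms fi compat, ?_⟩
  have hU' : TopologicalSpace.IsOpenCover (fun i => p ⁻¹ᵁ (U i : T.Opens)) :=
    TopologicalSpace.IsOpenCover.comap hU0 ⟨p.base, p.continuous⟩
  refine Scheme.Cover.hom_ext (T'.openCoverOfIsOpenCover _ hU') _ _ fun i => ?_
  change (p ⁻¹ᵁ (U i : T.Opens)).ι ≫ p ≫ _ = (p ⁻¹ᵁ (U i : T.Opens)).ι ≫ f'
  rw [hfi i, ← morphismRestrict_ι_assoc]
  congr 1
  exact Scheme.Cover.ι_glueMorphisms (T.openCoverOfIsOpenCover (fun i => (U i : T.Opens)) hU0)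
    fi compat i

end Groth.Agent.S13835
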