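import Groth.Statements.S13838
import Groth.Agent.Lib.Helper55.SpecResidue
import Mathlib.AlgebraicGeometry.Morphisms.UniversallyInjective
import Mathlib.FieldTheory.PurelyInseparable.Basic

set_option autoImplicit false
universe u
open AlgebraicGeometry
open HTop

namespace Groth.Agent.S13838

open CategoryTheory in
lemma universallyInjective_of_isUnivHomeo {X Y : Scheme.{u}} (f : X ⟶ Y)
    (h : FlatMor.IsUnivHomeo f) : UniversallyInjective f := by
  constructor
  exact MorphismProperty.universally_mono (fun _ _ g hg => hg.injective) _ h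

lemma key {A C B : Type*} [CommRing A] [CommRing C] [CommRing B] (f : A →+* C) (g : C →+* B)
    (gf : A →+* B) (hgf : gf = g.comp f)
    (P : Ideal A) [P.IsPrime] (Rr : Ideal C) [Rr.IsPrime] (Q : Ideal B) [Q.IsPrime]
    (h1 : P = Rr.comap f) (h2 : Rr = Q.comap g) (h3 : P = Q.comap gf) (e : ℕ)
    (hpi : ∀ z : Rr.ResidueField, ∃ n, z ^ e ^ n ∈ Set.range (Ideal.ResidueField.map P Rr f h1))
    (hcl : ∀ x : Q.ResidueField,
      (∃ n, x ^ e ^ n ∈ Set.range (Ideal.ResidueField.map P Q gf h3)) →
        x ∈ Set.range (Ideal.ResidueField.map P Q gf h3)) :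
    Function.Surjective (Ideal.ResidueField.map P Rr f h1) := by
  subst hgf
  have hcomp : Ideal.ResidueField.map P Q (g.comp f) h3 =
      (Ideal.ResidueField.map Rr Q g h2).comp (Ideal.ResidueField.map P Rr f h1) := by
    apply Ideal.ResidueField.ringHom_ext
    ext a
    simp [Ideal.ResidueField.map_algebraMap]
  intro z
  obtain ⟨n, w, hw⟩ := hpi z
  have hx : ∃ n, (Ideal.ResidueField.map Rr Q g h2 z) ^ e ^ n ∈
      Set.range (Ideal.ResidueField.map P Q (g.comp f) h3) :=
    ⟨n, w, by rw [hcomp, RingHom.comp_apply, hw, map_pow]⟩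
  obtain ⟨w', hw'⟩ := hcl _ hx
  refine ⟨w', ?_⟩
  apply (Ideal.ResidueField.map Rr Q g h2).injective
  rw [← hw', hcomp]
  rfl

lemma transfer {K K' L L' : Type u} [Field K] [Field K'] [Field L] [Field L'] (m : K →+* L)
    (m' : K' →+* L') (a : K' →+* K) (b : L →+* L') (ha : Function.Surjective a)
    (hb : Function.Surjective b) (h : m' = (b.comp m).comp a) (hm : m.IsPurelyInseparable)
    (z : L') : ∃ n, z ^ (ringExpChar K') ^ n ∈ Set.range m' := by
  algebraize [m]
  haveI : ExpChar K (ringExpChar K') := expChar_of_injective_ringHom a.injective _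
  obtain ⟨z₀, rfl⟩ := hb z
  obtain ⟨n, y, hy⟩ := IsPurelyInseparable.pow_mem K (ringExpChar K') z₀
  obtain ⟨y', rfl⟩ := ha y
  refine ⟨n, y', ?_⟩
  rw [h, RingHom.comp_apply, RingHom.comp_apply, ← map_pow]
  congr 1

open CategoryTheory in
set_option backward.isDefEq.respectTransparency.types false in
theorem main (A B : Type u) [CommRing A] [CommRing B] [Algebra A B]
    (hpi : ∀ p : PrimeSpectrum A, ∃ q : PrimeSpectrum B, ∃ hq : p.asIdeal = Ideal.comap (algebraMap A B) q.asIdeal,
      ∀ x : q.asIdeal.ResidueField,
        (∃ n : ℕ, x ^ ringExpChar p.asIdeal.ResidueField ^ n ∈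
            Set.range (Ideal.ResidueField.map p.asIdeal q.asIdeal (algebraMap A B) hq)) →
        x ∈ Set.range (Ideal.ResidueField.map p.asIdeal q.asIdeal (algebraMap A B) hq)) :
    ∀ C : Subalgebra A B, FlatMor.IsUnivHomeo (Spec.map (CommRingCat.ofHom (algebraMap A C))) →
      HTop.ResidueFieldsIso (Spec.map (CommRingCat.ofHom (algebraMap A C))) := by
  intro C hC r
  have hUI := universallyInjective_of_isUnivHomeo _ hC
  have hinj := (Spec.map (CommRingCat.ofHom (algebraMap A C))).injective
  have h02 : UniversallyInjective (Spec.map (CommRingCat.ofHom (algebraMap A C))) ↔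
      (Function.Injective (Spec.map (CommRingCat.ofHom (algebraMap A C))) ∧
        ∀ x, ((Spec.map (CommRingCat.ofHom (algebraMap A C))).residueFieldMap x).hom.IsPurelyInseparable) :=
    (tfae_universallyInjective (Spec.map (CommRingCat.ofHom (algebraMap A C)))).out 0 2
  have hpurely := (h02.1 hUI).2 r
  obtain ⟨q, hq, hcl⟩ := hpi ((Spec.map (CommRingCat.ofHom (algebraMap A C))) r)
  have hr : r = PrimeSpectrum.comap C.val.toRingHom q := by
    apply hinj
    apply PrimeSpectrum.ext
    rw [hq]
    rfl
  have hN := Groth.Agent.Lib.Helper55.residueFieldMap_SpecMap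
    (CommRingCat.ofHom (algebraMap A C)) r
  have hsurj : Function.Surjective (Ideal.ResidueField.map
      ((Spec.map (CommRingCat.ofHom (algebraMap A C))) r).asIdeal r.asIdeal
      (algebraMap A C) rfl) := by
    refine key (algebraMap A C) C.val.toRingHom (algebraMap A B) (RingHom.ext fun _ => rfl)
      _ r.asIdeal q.asIdeal rfl (congrArg PrimeSpectrum.asIdeal hr) hq
      (ringExpChar ((Spec.map (CommRingCat.ofHom (algebraMap A C))) r).asIdeal.ResidueField)
      ?_ hcl
    intro z
    exact transfer _ _ _ _
      (fun x => ⟨(Scheme.Spec.residueFieldIso _ _).hom.hom x, by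
        show ((Scheme.Spec.residueFieldIso _ _).hom ≫ (Scheme.Spec.residueFieldIso _ _).inv).hom x = x
        rw [Iso.hom_inv_id]; rfl⟩)
      (fun x => ⟨(Scheme.Spec.residueFieldIso _ _).inv.hom x, by
        show ((Scheme.Spec.residueFieldIso _ _).inv ≫ (Scheme.Spec.residueFieldIso _ _).hom).hom x = x
        rw [Iso.inv_hom_id]; rfl⟩)
      (congrArg CommRingCat.Hom.hom hN).symm hpurely z
  have hbij : Function.Bijective (Ideal.ResidueField.map
      ((Spec.map (CommRingCat.ofHom (algebraMap A C))) r).asIdeal r.asIdeal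
      (algebraMap A C) rfl) := ⟨RingHom.injective _, hsurj⟩
  have hiso : IsIso (CommRingCat.ofHom (Ideal.ResidueField.map
      ((Spec.map (CommRingCat.ofHom (algebraMap A C))) r).asIdeal r.asIdeal
      (algebraMap A C) rfl)) :=
    (ConcreteCategory.isIso_iff_bijective _).2 hbij
  rw [← hN] at hiso
  have h2 : IsIso ((Spec.map (CommRingCat.ofHom (algebraMap A C))).residueFieldMap r ≫
      (Scheme.Spec.residueFieldIso _ r).hom) := IsIso.of_isIso_comp_left
        (Scheme.Spec.residueFieldIso _ _).inv _
  exact IsIso.of_isIso_comp_right _ (Scheme.Spec.residueFieldIso _ r).hom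

/-- Let A ⊆ B be an integral ring extension where A and B have finitely many minimal prime ideals, such
that every prime p of A has a prime q of B above it for which k(p) is closed under extracting
p-power roots inside k(q) (the purely inseparable closure of k(p) in k(q) is k(p)); then the semi-
and weak normalizations of A in B coincide: every A-subalgebra C of B with Spec C → Spec A a
universal homeomorphism already induces isomorphisms on residue fields. -/
theorem result (A B : Type u) [CommRing A] [CommRing B] [Algebra A B] (hinj : Function.Injective (algebraMap A B))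
    [Algebra.IsIntegral A B] (hA : (minimalPrimes A).Finite) (hB : (minimalPrimes B).Finite)
    (hpi : ∀ p : PrimeSpectrum A, ∃ q : PrimeSpectrum B, ∃ hq : p.asIdeal = Ideal.comap (algebraMap A B) q.asIdeal,
      ∀ x : q.asIdeal.ResidueField,
        (∃ n : ℕ, x ^ ringExpChar p.asIdeal.ResidueField ^ n ∈
            Set.range (Ideal.ResidueField.map p.asIdeal q.asIdeal (algebraMap A B) hq)) →
        x ∈ Set.range (Ideal.ResidueField.map p.asIdeal q.asIdeal (algebraMap A B) hq)) :
    ∀ C : Subalgebra A B, FlatMor.IsUnivHomeo (Spec.map (CommRingCat.ofHom (algebraMap A C))) →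
      HTop.ResidueFieldsIso (Spec.map (CommRingCat.ofHom (algebraMap A C))) := by
  exact main A B hpi

end Groth.Agent.S13838
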