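import Groth.Statements.S13839
import Groth.Agent.Lib.Helper32.ChowGlue
import Groth.Agent.Lib.Helper66.EtaSN
import Groth.Agent.S7421

set_option autoImplicit false
universe u
open AlgebraicGeometry
open scoped TensorProduct
open ChowMon

namespace Groth.Agent.S13839

/-- Let C be a Noetherian seminormal A-algebra, g : C → C' an A-algebra map with C' reduced such that
Spec C' → Spec C is a finite universal homeomorphism, and d ≥ 1 an integer divisible by every
residue degree [k(q) : k(g⁻¹q)]; let B be a flat A-algebra and φ : B → C' an A-algebra map. Then for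
every symmetric tensor x ∈ TS^d_A(B) the element φ(m_d(x)) of C', m_d : B^{⊗d} → B the
multiplication, lies in the image of C. (The published statement does not assume C' reduced and is
false without it: take A = C = k a field, C' = k[ε]/(ε²), d = 1, B = k[t] and φ(t) = ε; then ε is
not in k.) -/
theorem result (A C C' B : Type u) [CommRing A] [CommRing C] [CommRing C'] [CommRing B]
    [Algebra A C] [Algebra A C'] [Algebra A B] [IsNoetherianRing C] (hC : HTop.IsSeminormalRing C)
    (g : C →ₐ[A] C') [IsReduced C'] (hfin : g.toRingHom.Finite)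
    (hg : FlatMor.IsUnivHomeo (Spec.map (CommRingCat.ofHom g.toRingHom)))
    (d : ℕ) (hd : 0 < d)
    (hdeg : ∀ q : PrimeSpectrum C',
      @Module.finrank (PrimeSpectrum.comap g.toRingHom q).asIdeal.ResidueField q.asIdeal.ResidueField _ _
          (Ideal.ResidueField.map (PrimeSpectrum.comap g.toRingHom q).asIdeal q.asIdeal g.toRingHom
            rfl).toAlgebra.toModule ∣ d)
    [Module.Flat A B] (φ : B →ₐ[A] C') (x : ⨂[A] _ : Fin d, B) (hx : x ∈ SymTen.TS A B d) :
    φ (PiTensorProduct.lift (MultilinearMap.mkPiAlgebra A (Fin d) B) x) ∈ g.range := by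
  have hCred : IsReduced C := (Groth.Agent.S7421.result).1 C hC
  have hbij : Function.Bijective (PrimeSpectrum.comap g.toRingHom) := by
    have h1 : IsHomeomorph (Spec.map (CommRingCat.ofHom g.toRingHom)) :=
      CategoryTheory.MorphismProperty.universally_le _ _ hg
    exact h1.bijective
  have hui : UniversallyInjective (Spec.map (CommRingCat.ofHom g.toRingHom)) :=
    ⟨CategoryTheory.MorphismProperty.universally_mono (fun X Y f hf => hf.injective) _ hg⟩
  have hpi' := ((tfae_universallyInjective (Spec.map (CommRingCat.ofHom g.toRingHom))).out 0 2).mp hui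
  have hpi : ∀ Q : PrimeSpectrum C',
      (Ideal.ResidueField.map (PrimeSpectrum.comap g.toRingHom Q).asIdeal Q.asIdeal g.toRingHom
        rfl).IsPurelyInseparable := by
    intro Q
    have h := Groth.Agent.Lib.Helper66.EtaSN.residueFieldMap_spec (CommRingCat.ofHom g.toRingHom) Q
    have h' := congrArg CommRingCat.Hom.hom h
    have h2 : Ideal.ResidueField.map (PrimeSpectrum.comap g.toRingHom Q).asIdeal Q.asIdeal
        g.toRingHom rfl =
        ((Scheme.Spec.residueFieldIso (CommRingCat.of C') Q).hom.hom.comp
          ((Spec.map (CommRingCat.ofHom g.toRingHom)).residueFieldMap Q).hom).comp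
          (Scheme.Spec.residueFieldIso (CommRingCat.of C)
            ((Spec.map (CommRingCat.ofHom g.toRingHom)) Q)).inv.hom := h'.symm
    rw [h2]
    refine RingHom.IsPurelyInseparable.comp ?_ (RingHom.IsPurelyInseparable.comp (hpi'.2 Q) ?_)
    · exact Groth.Agent.Lib.Helper66.EtaSN.isPurelyInseparable_of_bijective _
        ((CategoryTheory.ConcreteCategory.isIso_iff_bijective _).mp inferInstance)
    · exact Groth.Agent.Lib.Helper66.EtaSN.isPurelyInseparable_of_bijective _
        ((CategoryTheory.ConcreteCategory.isIso_iff_bijective _).mp inferInstance)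
  have := Groth.Agent.Lib.Helper32.ChowGlue.mem_range_ring A C C' B hC hCred g hfin hbij hpi d hd
    hdeg φ x hx
  rw [Groth.Agent.Lib.Helper32.PolLawChow.mdAlg_apply] at this
  exact this

end Groth.Agent.S13839
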