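import Groth.Statements.S13843
import Groth.Agent.Lib.Helper28.GalResCores
import Groth.Agent.Lib.Helper28.EtHpullTrans
import Groth.Agent.Lib.Helper28.SylowField
import Groth.Agent.Lib.Helper4.EtStalk

set_option autoImplicit false
universe u
open CategoryTheory CategoryTheory.Limits AlgebraicGeometry
open GalCoh

namespace Groth.Agent.S13843

/-- Let K be a field, F an abelian sheaf on the small étale site of Spec K, i > 0 and α a class in
H^i(Spec K, F) which pulls back to zero over some finite separable field extension L of K. If p is a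
prime not dividing the order of α, then there is a finite separable field extension L' of K whose
degree is not divisible by p and over which α pulls back to zero. Hence the period and the index of
α have the same prime factors. (Exactness of pullback of abelian sheaves, which always holds, is
carried as an instance hypothesis, in the conclusion for every such instance.) -/
theorem result (K : Type u) [Field K] (F : EtCoh.Ab (Spec (CommRingCat.of K))) (i : ℕ)
    (hi : 0 < i) (α : EtCoh.H (Spec (CommRingCat.of K)) F i) (L : Type u) [Field L] [Algebra K L] [FiniteDimensional K L]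
    [Algebra.IsSeparable K L] [PreservesFiniteLimits (EtCoh.pull (Spec.map (CommRingCat.ofHom (algebraMap K L))))]
    (hα : EtCore.Hpull (Spec.map (CommRingCat.ofHom (algebraMap K L))) F i α = 0) (p : ℕ) (hp : p.Prime) (hpα : ¬ p ∣ addOrderOf α) :
    ∃ (L' : Type u) (_ : Field L') (_ : Algebra K L') (_ : FiniteDimensional K L') (_ : Algebra.IsSeparable K L'),
      ¬ p ∣ Module.finrank K L' ∧
        ∀ [PreservesFiniteLimits (EtCoh.pull (Spec.map (CommRingCat.ofHom (algebraMap K L'))))],
          EtCore.Hpull (Spec.map (CommRingCat.ofHom (algebraMap K L'))) F i α = 0 := by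
  obtain ⟨i', rfl⟩ : ∃ i', i = i' + 1 := ⟨i - 1, by omega⟩
  obtain ⟨M, _, _, _, _, ⟨e⟩⟩ := Groth.Agent.Lib.Helper28.GalTors.exists_galois_closure (k := K) L
  obtain ⟨L', hdeg, a, ha⟩ := Groth.Agent.Lib.Helper28.SylowField.exists_sylow_fixedField K M p hp
  refine ⟨L', inferInstance, inferInstance, inferInstance, inferInstance, hdeg, ?_⟩
  intro inst
  have instM : PreservesFiniteLimits (EtCoh.pull (Groth.Agent.Lib.Helper28.GalResCores.j K M)) :=
    Groth.Agent.Lib.Helper4.EtStalk.preservesFiniteLimits_pull _
  have instk : PreservesFiniteLimits (EtCoh.pull (Groth.Agent.Lib.Helper28.GalResCores.j L' M)) :=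
    Groth.Agent.Lib.Helper4.EtStalk.preservesFiniteLimits_pull _
  have w1 : Spec.map (CommRingCat.ofHom e.toRingHom) ≫ Groth.Agent.Lib.Helper28.GalResCores.j K L =
      Groth.Agent.Lib.Helper28.GalResCores.j K M := by
    rw [← Spec.map_comp, ← CommRingCat.ofHom_comp]
    congr 2
    exact e.comp_algebraMap
  have hM : EtCore.Hpull (Groth.Agent.Lib.Helper28.GalResCores.j K M) F (i' + 1) α = 0 :=
    Groth.Agent.Lib.Helper28.EtHpullTrans.Hpull_eq_zero_of_factor _
      (Groth.Agent.Lib.Helper28.GalResCores.j K L) (Groth.Agent.Lib.Helper28.GalResCores.j K M)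
      w1 F _ α hα
  have w2 : Groth.Agent.Lib.Helper28.GalResCores.j L' M ≫
      Groth.Agent.Lib.Helper28.GalResCores.j K L' = Groth.Agent.Lib.Helper28.GalResCores.j K M := by
    rw [← Spec.map_comp, ← CommRingCat.ofHom_comp]
    rfl
  have h2 := Groth.Agent.Lib.Helper28.EtHpullTrans.Hpull_Hpull_eq_zero
    (Groth.Agent.Lib.Helper28.GalResCores.j L' M) (Groth.Agent.Lib.Helper28.GalResCores.j K L')
    (Groth.Agent.Lib.Helper28.GalResCores.j K M) w2 F _ α hM
  have h3 := Groth.Agent.Lib.Helper28.GalResCores.finrank_nsmul_eq_zero L' M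
    ((EtCoh.pull (Groth.Agent.Lib.Helper28.GalResCores.j K L')).obj F) i'
    (EtCore.Hpull (Groth.Agent.Lib.Helper28.GalResCores.j K L') F (i' + 1) α) h2
  rw [ha] at h3
  have h4 : addOrderOf α • EtCore.Hpull (Groth.Agent.Lib.Helper28.GalResCores.j K L') F (i' + 1) α
      = 0 := by
    rw [← map_nsmul, addOrderOf_nsmul_eq_zero, map_zero]
  have d1 := addOrderOf_dvd_of_nsmul_eq_zero h3
  have d2 := addOrderOf_dvd_of_nsmul_eq_zero h4
  have hc : Nat.Coprime (p ^ a) (addOrderOf α) :=
    Nat.Coprime.pow_left a ((Nat.Prime.coprime_iff_not_dvd hp).2 hpα)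
  have h5 := Nat.eq_one_of_dvd_coprimes hc d1 d2
  exact AddMonoid.addOrderOf_eq_one_iff.1 h5

end Groth.Agent.S13843
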