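import Groth.Statements.S13844
import Mathlib
import Groth.Agent.Lib.Helper51.SmoothStalk
-- import your own Groth.Agent.* helpers here

set_option autoImplicit false
universe u
open CategoryTheory CategoryTheory.Limits AlgebraicGeometry
attribute [local instance] Curv2.resAlgebra
open Curves

namespace Groth.Agent.S13844
set_option linter.style.haveILetI false
open Groth.Agent.Lib.Helper51 IsLocalRing

theorem isRegularLocalRing_of_isIntegrallyClosed_of_dim_le_one (R : Type u) [CommRing R]
    [IsDomain R] [IsNoetherianRing R] [IsLocalRing R] [IsIntegrallyClosed R]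
    (h : ringKrullDim R ≤ 1) : IsRegularLocalRing R := by
  have : Ring.KrullDimLE 1 R := Ring.krullDimLE_iff.mpr h
  have h3 : IsIntegrallyClosed R ∧ ∀ P : Ideal R, P ≠ ⊥ → P.IsPrime → P = maximalIdeal R :=
    ⟨inferInstance, fun P hP hP' => eq_maximalIdeal (hP'.isMaximal_of_ne_bot hP)⟩
  have : IsPrincipalIdealRing R :=
    ((tfae_of_isNoetherianRing_of_isLocalRing_of_isDomain R).out 3 0).mp h3
  infer_instance

theorem ringKrullDim_stalk_le {X : Scheme.{u}} (n : ℕ∞) (hdim : topologicalKrullDim X ≤ n) (x : X) :
    ringKrullDim (X.presheaf.stalk x) ≤ n := by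
  obtain ⟨_, ⟨U, hU, rfl⟩, hxU, -⟩ :=
    X.isBasis_affineOpens.exists_subset_of_mem_open (Set.mem_univ x) isOpen_univ
  have h1 : ringKrullDim Γ(X, U) ≤ n := by
    rw [← PrimeSpectrum.topologicalKrullDim_eq_ringKrullDim]
    have h1 : topologicalKrullDim (PrimeSpectrum Γ(X, U)) = topologicalKrullDim ↥(U : Set X) :=
      ((Scheme.homeoOfIso hU.isoSpec).symm.isHomeomorph.topologicalKrullDim_eq _)
    rw [h1]
    exact (topologicalKrullDim_subspace_le X (U : Set X)).trans hdim
  letI := X.presheaf.algebra_section_stalk ⟨x, hxU⟩
  haveI := hU.isLocalization_stalk ⟨x, hxU⟩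
  rw [IsLocalization.AtPrime.ringKrullDim_eq_height (hU.primeIdealOf ⟨x, hxU⟩).asIdeal]
  exact (Ideal.height_le_ringKrullDim_of_ne_top (Ideal.IsPrime.ne_top inferInstance)).trans h1


/-- Let K be a field and C a normal curve over K, namely an integral normal separated K-scheme of finite
type of dimension one, and let S be a set of closed points of C whose residue fields are separable
over K. If the structure morphism of C is smooth at every point outside S, then it is smooth. (The
published statement takes S to be a closed subscheme finite étale over K, that is finitely many such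
points; this row allows any set of closed points with separable residue fields.) -/
theorem result (K : Type u) [Field K] (C : Scheme.{u}) [C.Over (Spec (CommRingCat.of K))]
    [IsIntegral C] [IsSeparated (C ↘ (Spec (CommRingCat.of K)))] [LocallyOfFinitePresentation (C ↘ (Spec (CommRingCat.of K)))]
    [QuasiCompact (C ↘ (Spec (CommRingCat.of K)))] (hN : ∀ x : C, IsIntegrallyClosed (C.presheaf.stalk x))
    (hdim : topologicalKrullDim C = 1) (S : Set C)
    (hS : ∀ x ∈ S, IsClosed ({x} : Set C) ∧ Algebra.IsSeparable K (C.residueField x))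
    (hsm : ∀ x : C, x ∉ S → x ∈ (C ↘ (Spec (CommRingCat.of K))).smoothLocus) :
    AlgebraicGeometry.Smooth (C ↘ (Spec (CommRingCat.of K))) := by
  haveI : IsLocallyNoetherian C :=
    LocallyOfFiniteType.isLocallyNoetherian (C ↘ (Spec (CommRingCat.of K)))
  rw [← Scheme.Hom.smoothLocus_eq_top_iff]
  ext x
  simp only [TopologicalSpace.Opens.coe_top, Set.mem_univ, iff_true, SetLike.mem_coe]
  by_cases hx : x ∈ S
  · obtain ⟨hxcl, hxsep⟩ := hS x hx
    haveI := hN x
    have hdim1 : ringKrullDim (C.presheaf.stalk x) ≤ 1 :=
      ringKrullDim_stalk_le 1 hdim.le x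
    haveI : IsRegularLocalRing (C.presheaf.stalk x) :=
      isRegularLocalRing_of_isIntegrallyClosed_of_dim_le_one _ hdim1
    refine mem_smoothLocus_of_isRegularLocalRing_stalk (C ↘ (Spec (CommRingCat.of K))) x ?_
    haveI : Algebra.FormallyEtale K (C.residueField x) := Algebra.FormallyEtale.of_isSeparable K _
    have h1 : (algebraMap K (C.residueField x)).FormallySmooth :=
      RingHom.formallySmooth_algebraMap.mpr inferInstance
    letI := stalkAlg (C ↘ (Spec (CommRingCat.of K))) x
    rw [← RingHom.formallySmooth_algebraMap]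
    exact h1
  · exact hsm x hx


end Groth.Agent.S13844
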