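import Groth.Statements.S13860
import Mathlib.GroupTheory.Index
import Mathlib.Tactic
-- import your own Groth.Agent.* helpers here

set_option autoImplicit false
universe u v w
open ModRep

namespace Groth.Agent.S13860

/-- For k a field of characteristic p > 0, G a finite group and P a Sylow p-subgroup of G, a short exact
sequence of k[G]-modules has a k[G]-linear splitting exactly when it has a k[P]-linear one. Stated
here for the surjection of the sequence: a G-equivariant k-linear map g : B → C between k-linear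
representations of G admits a G-equivariant k-linear section if and only if it admits a
P-equivariant k-linear section. -/
theorem result {k : Type u} [Field k] (p : ℕ) [Fact p.Prime]
    [CharP k p] {G : Type v} [Group G] [Finite G] (P : Sylow p G)
    {B C : Type w} [AddCommGroup B] [Module k B] [AddCommGroup C] [Module k C]
    (ρB : Representation k G B) (ρC : Representation k G C)
    (g : B →ₗ[k] C) (hg : ∀ x : G, g ∘ₗ ρB x = ρC x ∘ₗ g) :
    (∃ s : C →ₗ[k] B, g ∘ₗ s = LinearMap.id ∧ ∀ x : G, s ∘ₗ ρC x = ρB x ∘ₗ s) ↔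
      (∃ s : C →ₗ[k] B, g ∘ₗ s = LinearMap.id ∧ ∀ x : G, x ∈ P → s ∘ₗ ρC x = ρB x ∘ₗ s) := by
  classical
  constructor
  · rintro ⟨s, hs, hs'⟩
    exact ⟨s, hs, fun x _ => hs' x⟩
  · rintro ⟨s, hs, hs'⟩
    have : Fintype (G ⧸ (P : Subgroup G)) := Fintype.ofFinite _
    let T : G → (C →ₗ[k] B) := fun x => ρB x ∘ₗ s ∘ₗ ρC x⁻¹
    have hTP : ∀ (x : G) (y : G), y ∈ (P : Subgroup G) → T (x * y) = T x := by
      intro x y hy
      simp only [T]
      rw [mul_inv_rev, map_mul, map_mul]
      have h1 : ρB y ∘ₗ s ∘ₗ ρC y⁻¹ = s := by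
        rw [← LinearMap.comp_assoc, ← hs' y hy, LinearMap.comp_assoc, ← Module.End.mul_eq_comp,
          ← map_mul, mul_inv_cancel, map_one]
        rfl
      calc (ρB x * ρB y) ∘ₗ s ∘ₗ (ρC y⁻¹ * ρC x⁻¹)
          = ρB x ∘ₗ (ρB y ∘ₗ s ∘ₗ ρC y⁻¹) ∘ₗ ρC x⁻¹ := by
            simp only [Module.End.mul_eq_comp, LinearMap.comp_assoc]
        _ = ρB x ∘ₗ s ∘ₗ ρC x⁻¹ := by rw [h1]
    let Tq : G ⧸ (P : Subgroup G) → (C →ₗ[k] B) := fun q =>
      Quotient.liftOn' q T (fun a b hab => by
        have hab' : a⁻¹ * b ∈ (P : Subgroup G) := QuotientGroup.leftRel_apply.mp hab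
        have : b = a * (a⁻¹ * b) := by group
        rw [this, hTP a _ hab'])
    have hTq : ∀ x : G, Tq (QuotientGroup.mk x) = T x := fun x => rfl
    have hgT : ∀ x : G, g ∘ₗ T x = LinearMap.id := by
      intro x
      ext c
      have h1 : g (ρB x (s (ρC x⁻¹ c))) = ρC x (g (s (ρC x⁻¹ c))) := LinearMap.congr_fun (hg x) _
      have h2 : g (s (ρC x⁻¹ c)) = ρC x⁻¹ c := LinearMap.congr_fun hs _
      simp only [T, LinearMap.comp_apply, LinearMap.id_apply]
      rw [h1, h2, ← Module.End.mul_apply, ← map_mul, mul_inv_cancel, map_one]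
      rfl
    have hconj : ∀ y x : G, ρB y ∘ₗ T x ∘ₗ ρC y⁻¹ = T (y * x) := by
      intro y x
      simp only [T]
      rw [mul_inv_rev, map_mul, map_mul]
      simp only [Module.End.mul_eq_comp, LinearMap.comp_assoc]
    let m : ℕ := Fintype.card (G ⧸ (P : Subgroup G))
    have hm : (m : k) ≠ 0 := by
      have h1 : m = (P : Subgroup G).index := by
        rw [Subgroup.index_eq_card, Nat.card_eq_fintype_card]
      intro h0
      rw [h1, CharP.cast_eq_zero_iff k p] at h0
      exact P.not_dvd_index h0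
    let S : C →ₗ[k] B := ∑ q, Tq q
    refine ⟨(m : k)⁻¹ • S, ?_, ?_⟩
    · rw [LinearMap.comp_smul]
      have : g ∘ₗ S = (m : k) • LinearMap.id := by
        have hS1 : g ∘ₗ S = ∑ q, g ∘ₗ Tq q := by
          ext c
          simp [S, LinearMap.sum_apply, map_sum]
        rw [hS1]
        have : ∀ q, g ∘ₗ Tq q = LinearMap.id := by
          intro q
          induction q using QuotientGroup.induction_on with
          | H x => rw [hTq, hgT]
        simp only [this, Finset.sum_const, Finset.card_univ, m]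
        rw [Nat.cast_smul_eq_nsmul]
      rw [this, smul_smul, inv_mul_cancel₀ hm, one_smul]
    · intro y
      have h1 : ρB y ∘ₗ S ∘ₗ ρC y⁻¹ = S := by
        have hS2 : ρB y ∘ₗ S ∘ₗ ρC y⁻¹ = ∑ q, ρB y ∘ₗ Tq q ∘ₗ ρC y⁻¹ := by
          ext c
          simp [S, LinearMap.sum_apply, map_sum]
        rw [hS2]
        have h2 : ∀ q, ρB y ∘ₗ Tq q ∘ₗ ρC y⁻¹ = Tq (y • q) := by
          intro q
          induction q using QuotientGroup.induction_on with
          | H x =>
            rw [hTq, hconj]
            rfl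
        simp only [h2]
        exact Fintype.sum_equiv (MulAction.toPerm y) _ _ (fun q => rfl)
      have h3 : S ∘ₗ ρC y = ρB y ∘ₗ S := by
        conv_lhs => rw [← h1]
        rw [LinearMap.comp_assoc, LinearMap.comp_assoc, ← Module.End.mul_eq_comp (ρC y⁻¹),
          ← map_mul, inv_mul_cancel, map_one]
        rfl
      rw [LinearMap.smul_comp, LinearMap.comp_smul, h3]

end Groth.Agent.S13860
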