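import Groth.Statements.S13874
import Groth.Agent.Lib.Helper32.PolLawTSLift
import Groth.Agent.Lib.Helper66.EtaSN
import Groth.Agent.S13398

set_option autoImplicit false
universe u
open scoped TensorProduct
open AlgebraicGeometry
open ZeroCyc

namespace Groth.Agent.S13874

/-- Affine form. Let A be a commutative ring, B an A-algebra and d ≥ 1; let (C, γ) be the degree-d
divided power algebra Γ^d_A(B) with its universal multiplicative law γ : B → C of degree d (every
multiplicative law of degree d out of B factors uniquely through γ), and let φ : Γ^d_A(B) →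
TS^d_A(B) be the canonical homomorphism to the symmetric tensors, taken as data characterised by:
after any base change S, φ ∘ γ sends Σ_j s_j ⊗ b_j to Σ_{c : [d] → [n]} (∏_i s_{c(i)}) ⊗ (b_{c(1)} ⊗
⋯ ⊗ b_{c(d)}), i.e. φ corresponds to the law x ↦ x ⊗ ⋯ ⊗ x. Then the morphism Spec TS^d_A(B) → Spec
Γ^d_A(B) induced by φ (the comparison map from the d-th symmetric product of Spec B over Spec A to
the scheme of degree-d divided powers) is a universal homeomorphism inducing an isomorphism on every
residue field. (The published statement is for a separated algebraic space X over an algebraic space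
S; this row is its content for X = Spec B over S = Spec A. The second assertion of the published
statement, that the map is an isomorphism when B is flat over A or A contains the rationals, is not
part of this row.) -/
theorem result {A B C : Type u} [CommRing A] [CommRing B] [Algebra A B] [CommRing C] [Algebra A C] (d : ℕ) (hd : 0 < d)
    (γ : PolLaw.MulLaw A B C d) (hγ : PolLaw.IsGammaD γ) (φ : C →ₐ[A] SymTen.TS A B d)
    (hφ : ∀ (S : Type u) [CommSemiring S] [Algebra A S] (n : ℕ) (s : Fin n → S) (b : Fin n → B),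
      ((SymTen.TS A B d).val.comp φ).toLinearMap.lTensor S (γ.law.toFun' S (∑ j, s j ⊗ₜ[A] b j)) =
        ∑ c : Fin d → Fin n, (∏ i, s (c i)) ⊗ₜ[A] PiTensorProduct.tprod A (fun i => b (c i))) :
    FlatMor.IsUnivHomeo (Spec.map (CommRingCat.ofHom φ.toRingHom)) ∧
      ∀ x : ↥(Spec (CommRingCat.of (SymTen.TS A B d))),
        Function.Surjective ((Spec.map (CommRingCat.ofHom φ.toRingHom)).residueFieldMap x).hom := by
  obtain ⟨hker, hpow⟩ := Groth.Agent.S13398.result d γ hγ φ hφ
  have hfac : 0 < d.factorial := Nat.factorial_pos d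
  have hint : φ.toRingHom.IsIntegral := by
    intro y
    have h1 : φ.toRingHom.IsIntegralElem (y ^ d.factorial) := by
      obtain ⟨c, hc⟩ := hpow y
      rw [← hc]
      exact φ.toRingHom.isIntegralElem_map
    letI := φ.toRingHom.toAlgebra
    exact IsIntegral.of_pow hfac h1
  have hmem : ∀ (Q1 Q2 : PrimeSpectrum (SymTen.TS A B d)),
      PrimeSpectrum.comap φ.toRingHom Q1 = PrimeSpectrum.comap φ.toRingHom Q2 →
      ∀ y, y ∈ Q1.asIdeal → y ∈ Q2.asIdeal := by
    intro Q1 Q2 h y hy
    obtain ⟨c, hc⟩ := hpow y
    replace hc : φ c = y ^ d.factorial := hc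
    have h1 : c ∈ (PrimeSpectrum.comap φ.toRingHom Q1).asIdeal := by
      show φ c ∈ Q1.asIdeal
      rw [hc]
      exact Ideal.pow_mem_of_mem _ hy _ hfac
    rw [h] at h1
    have h2 : φ c ∈ Q2.asIdeal := h1
    rw [hc] at h2
    exact Q2.isPrime.mem_of_pow_mem _ h2
  have hinj : Function.Injective (PrimeSpectrum.comap φ.toRingHom) := by
    intro Q1 Q2 h
    apply PrimeSpectrum.ext
    apply le_antisymm
    · exact fun y hy => hmem Q1 Q2 h y hy
    · exact fun y hy => hmem Q2 Q1 h.symm y hy
  have hsurj : Function.Surjective (PrimeSpectrum.comap φ.toRingHom) := by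
    intro P
    letI := φ.toRingHom.toAlgebra
    haveI : Algebra.IsIntegral C (SymTen.TS A B d) := ⟨hint⟩
    haveI := P.isPrime
    obtain ⟨Q, -, hQ, hQP⟩ := Ideal.exists_ideal_over_prime_of_isIntegral P.asIdeal
      (⊥ : Ideal (SymTen.TS A B d)) (by
        intro x hx
        have hx0 : φ x = 0 := hx
        exact P.isPrime.mem_of_pow_mem _ (by rw [hker x hx0]; exact zero_mem _))
    exact ⟨⟨Q, hQ⟩, PrimeSpectrum.ext hQP⟩
  have hres : ∀ Q : PrimeSpectrum (SymTen.TS A B d), Function.Bijective
      (Ideal.ResidueField.map (PrimeSpectrum.comap φ.toRingHom Q).asIdeal Q.asIdeal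
        φ.toRingHom rfl) := by
    intro Q
    set P := PrimeSpectrum.comap φ.toRingHom Q with hP
    letI : Algebra A P.asIdeal.ResidueField :=
      ((algebraMap C P.asIdeal.ResidueField).comp (algebraMap A C)).toAlgebra
    let χ : C →ₐ[A] P.asIdeal.ResidueField :=
      { algebraMap C P.asIdeal.ResidueField with commutes' := fun a => rfl }
    obtain ⟨ψ, hψ⟩ := Groth.Agent.Lib.Helper32.PolLawTSLift.exists_lift γ
      ((SymTen.TS A B d).val.comp φ).toLinearMap hφ hγ χ φ (fun c => rfl)
    have hψ' : ∀ c, ψ (φ c) = algebraMap C P.asIdeal.ResidueField c :=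
      fun c => DFunLike.congr_fun hψ c
    have hkerprime : (RingHom.ker ψ.toRingHom).IsPrime := RingHom.ker_isPrime _
    have hcomap : PrimeSpectrum.comap φ.toRingHom ⟨RingHom.ker ψ.toRingHom, hkerprime⟩ = P := by
      apply PrimeSpectrum.ext
      ext c
      show ψ (φ c) = 0 ↔ c ∈ P.asIdeal
      rw [hψ', Ideal.algebraMap_residueField_eq_zero]
    have hQ : RingHom.ker ψ.toRingHom = Q.asIdeal :=
      congrArg PrimeSpectrum.asIdeal (hinj hcomap)
    let ψb : Q.asIdeal.ResidueField →+* P.asIdeal.ResidueField :=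
      Ideal.ResidueField.lift Q.asIdeal ψ.toRingHom (le_of_eq hQ.symm) (by
        intro y hy
        show IsUnit (ψ y)
        rw [isUnit_iff_ne_zero]
        intro h0
        exact hy (hQ ▸ (show y ∈ RingHom.ker ψ.toRingHom from h0)))
    have hcomp : ψb.comp (Ideal.ResidueField.map P.asIdeal Q.asIdeal φ.toRingHom rfl) =
        RingHom.id _ := by
      apply Ideal.ResidueField.ringHom_ext
      ext c
      show ψb (Ideal.ResidueField.map P.asIdeal Q.asIdeal φ.toRingHom rfl
        (algebraMap C P.asIdeal.ResidueField c)) = algebraMap C P.asIdeal.ResidueField c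
      rw [Ideal.ResidueField.map_algebraMap, Ideal.ResidueField.lift_algebraMap]
      exact hψ' c
    refine ⟨RingHom.injective _, fun x => ⟨ψb x, ?_⟩⟩
    apply ψb.injective
    exact DFunLike.congr_fun hcomp (ψb x)
  obtain ⟨h1, h2⟩ := Groth.Agent.Lib.Helper66.EtaSN.isUnivHomeo_and_residueFieldsIso_of
    φ.toRingHom hint ⟨hinj, hsurj⟩ hres
  refine ⟨h1, fun x => ?_⟩
  have h3 := h2 x
  exact ((CategoryTheory.ConcreteCategory.isIso_iff_bijective _).mp h3).2

end Groth.Agent.S13874
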