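import Groth.Statements.S13877
import Groth.Agent.Lib.Helper16.DiscrLength

set_option autoImplicit false
universe u v
open Crimp

namespace Groth.Agent.S13877

/-- Over R = k⟦t⟧ with k an algebraically closed field of characteristic zero, let S' be a commutative
R-algebra with an R-basis of size d whose discriminant generates the ideal (t ^ a) (a finite cover
of the formal disk of degree d, unramified over the punctured disk, with branch divisor (t ^ a)),
and let S be an R-subalgebra of S' with an R-basis of size d whose discriminant generates (t ^ b) (a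
crimp with branch divisor (t ^ b)). Then t ^ b annihilates S' / S and twice the R-length of S' / S
plus a equals b. (The published statement is for a family of such subalgebras over a k-scheme T and
also asserts T-flatness of the quotient; this row is its restriction to T a point.) -/
theorem result {k : Type u} [Field k] [IsAlgClosed k] [CharZero k]
    {St : Type v} [CommRing St] [Algebra (PowerSeries k) St] (d a b : ℕ)
    (bt : Module.Basis (Fin d) (PowerSeries k) St)
    (ha : Ideal.span {Algebra.discr (PowerSeries k) ⇑bt} = Ideal.span {(PowerSeries.X : PowerSeries k) ^ a})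
    (S : Subalgebra (PowerSeries k) St) (bS : Module.Basis (Fin d) (PowerSeries k) S)
    (hb : Ideal.span {Algebra.discr (PowerSeries k) ⇑bS} = Ideal.span {(PowerSeries.X : PowerSeries k) ^ b}) :
    (∀ q : St ⧸ Subalgebra.toSubmodule S, ((PowerSeries.X : PowerSeries k) ^ b) • q = 0) ∧
    2 * Module.length (PowerSeries k) (St ⧸ Subalgebra.toSubmodule S) + (a : ℕ∞) = (b : ℕ∞) := by
  classical
  obtain ⟨α, hα0, ⟨e⟩, u, hu, hdisc⟩ :=
    Groth.Agent.Lib.Helper16.DiscrLength.exists_smith bt S bS
  have hX : Irreducible (PowerSeries.X : PowerSeries k) := PowerSeries.X_irreducible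
  have hXnz : (PowerSeries.X : PowerSeries k) ∈ nonZeroDivisors (PowerSeries k) :=
    mem_nonZeroDivisors_of_ne_zero hX.ne_zero
  have hordX : ∀ n : ℕ, Ring.ord (PowerSeries k) ((PowerSeries.X : PowerSeries k) ^ n) = (n : ℕ∞) := by
    intro n
    rw [Ring.ord_pow hXnz, Ring.ord_of_irreducible hX, nsmul_one]
  have hassb : Associated (Algebra.discr (PowerSeries k) ⇑bS) ((PowerSeries.X : PowerSeries k) ^ b) :=
    Ideal.span_singleton_eq_span_singleton.mp hb
  have hassa : Associated (Algebra.discr (PowerSeries k) ⇑bt) ((PowerSeries.X : PowerSeries k) ^ a) :=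
    Ideal.span_singleton_eq_span_singleton.mp ha
  have hordb : Ring.ord (PowerSeries k) (Algebra.discr (PowerSeries k) ⇑bS) = (b : ℕ∞) := by
    rw [Ring.ord_eq_of_associated hassb, hordX]
  have horda : Ring.ord (PowerSeries k) (Algebra.discr (PowerSeries k) ⇑bt) = (a : ℕ∞) := by
    rw [Ring.ord_eq_of_associated hassa, hordX]
  have hdt0 : Algebra.discr (PowerSeries k) ⇑bt ≠ 0 := by
    intro h0
    rw [h0] at hassa
    exact pow_ne_zero a hX.ne_zero ((Associated.comm.mp hassa).eq_zero_iff.mpr rfl |> fun h => h)
  have hprod : Ring.ord (PowerSeries k) (∏ i, α i) = ∑ i, Ring.ord (PowerSeries k) (α i) := by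
    have : ∀ s : Finset (Fin d), Ring.ord (PowerSeries k) (∏ i ∈ s, α i) =
        ∑ i ∈ s, Ring.ord (PowerSeries k) (α i) := by
      intro s
      induction s using Finset.induction_on with
      | empty => simp
      | insert j s hj ih =>
        rw [Finset.prod_insert hj, Finset.sum_insert hj,
          Ring.ord_mul' _ (mem_nonZeroDivisors_of_ne_zero (hα0 j)), ih]
    exact this Finset.univ
  have hP0 : (∏ i, α i) ≠ 0 := Finset.prod_ne_zero_iff.mpr fun i _ => hα0 i
  have hlen : Module.length (PowerSeries k) (St ⧸ Subalgebra.toSubmodule S) =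
      ∑ i, Ring.ord (PowerSeries k) (α i) := by
    rw [e.length_eq, Module.length_pi_of_fintype]
    rfl
  have hord : (b : ℕ∞) = 2 * ∑ i, Ring.ord (PowerSeries k) (α i) + (a : ℕ∞) := by
    rw [← hordb, hdisc, Ring.ord_mul_of_isUnit_left hu,
      Ring.ord_mul _ (mem_nonZeroDivisors_of_ne_zero hdt0), horda,
      Ring.ord_pow (mem_nonZeroDivisors_of_ne_zero hP0), hprod, nsmul_eq_mul]
    rfl
  refine ⟨?_, ?_⟩
  · intro q
    apply e.injective
    rw [map_smul, map_zero]
    funext i
    rw [Pi.smul_apply, Pi.zero_apply]
    obtain ⟨y, hy⟩ := Ideal.Quotient.mk_surjective (e q i)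
    rw [← hy]
    have hdvd : α i ∣ (PowerSeries.X : PowerSeries k) ^ b := by
      have h1 : α i ∣ ∏ j, α j := Finset.dvd_prod_of_mem α (Finset.mem_univ i)
      have h2 : (∏ j, α j) ∣ Algebra.discr (PowerSeries k) ⇑bS := by
        rw [hdisc]
        exact ⟨u * (∏ j, α j) * Algebra.discr (PowerSeries k) ⇑bt, by ring⟩
      exact (h1.trans h2).trans hassb.dvd
    have hmem : (PowerSeries.X : PowerSeries k) ^ b * y ∈ Ideal.span {α i} :=
      Ideal.mem_span_singleton.mpr (hdvd.mul_right y)
    have := Ideal.Quotient.eq_zero_iff_mem.mpr hmem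
    rw [← this, map_mul, Algebra.smul_def]
    rfl
  · rw [hlen, hord]

end Groth.Agent.S13877
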