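import Groth.Statements.S13878
import Mathlib.RingTheory.PowerSeries.Inverse
import Mathlib.Tactic.LinearCombination
import Mathlib.Tactic.FinCases
import Mathlib.Tactic.Ring

set_option autoImplicit false
universe u
open Crimp

namespace Groth.Agent.S13878

section general

variable {A : Type*} [CommRing A]

theorem smul_quot_eq_zero (I : Ideal A) {r : A} (hr : r ∈ I) (z : A ⧸ I) : r • z = 0 := by
  rw [Algebra.smul_def, Ideal.Quotient.algebraMap_eq, Ideal.Quotient.eq_zero_iff_mem.mpr hr,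
    zero_mul]

theorem decomp (y : Fin 3 → A) :
    y = y 0 • (1 : Fin 3 → A) + (y 1 - y 0) • ![0, 1, 0] + (y 2 - y 0) • ![0, 0, 1] := by
  funext i; fin_cases i <;> simp [Matrix.vecHead, Matrix.vecTail]

theorem q_formula (I J : Ideal A) (q : (Fin 3 → A) →ₗ[A] (A ⧸ I) × (A ⧸ J)) (h1 : q 1 = 0)
    (a1 a2 b1 b2 : A)
    (he1 : q ![0, 1, 0] = (Ideal.Quotient.mk I a1, Ideal.Quotient.mk J b1))
    (he2 : q ![0, 0, 1] = (Ideal.Quotient.mk I a2, Ideal.Quotient.mk J b2)) (y : Fin 3 → A) :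
    q y = (Ideal.Quotient.mk I ((y 1 - y 0) * a1 + (y 2 - y 0) * a2),
      Ideal.Quotient.mk J ((y 1 - y 0) * b1 + (y 2 - y 0) * b2)) := by
  conv_lhs => rw [decomp y]
  rw [map_add, map_add, map_smul, map_smul, map_smul, h1, he1, he2, smul_zero, zero_add]
  ext
  · simp [Algebra.smul_def]
  · simp [Algebra.smul_def]

theorem dvd_of_mem_span_smul_top (t : A) {w : Fin 3 → A}
    (hw : w ∈ Ideal.span {t} • (⊤ : Submodule A (Fin 3 → A))) (i : Fin 3) : t ∣ w i := by
  induction hw using Submodule.smul_induction_on' with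
  | smul r hr n _ =>
    obtain ⟨c, rfl⟩ := Ideal.mem_span_singleton'.mp hr
    exact ⟨c * n i, by simp [Pi.smul_apply, smul_eq_mul]; ring⟩
  | add x _ y _ hx hy => exact dvd_add hx hy

theorem key (t : A) (m n : ℕ) (a1 a2 b1 b2 ε : A) (hε : ε * (a1 * b2 - a2 * b1) = 1)
    (s : Fin 3 → A)
    (ha : t ^ m ∣ (s 1 - s 0) * a1 + (s 2 - s 0) * a2)
    (hb : t ^ n ∣ (s 1 - s 0) * b1 + (s 2 - s 0) * b2) :
    s ∈ Submodule.span A {(1 : Fin 3 → A), (t ^ m) • ![0, b2, -b1]} ⊔
        Ideal.span {t ^ n} • (⊤ : Submodule A (Fin 3 → A)) := by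
  obtain ⟨α, hα⟩ := ha
  obtain ⟨β, hβ⟩ := hb
  have hs : s = (s 0 • (1 : Fin 3 → A) + (ε * α) • (t ^ m • ![0, b2, -b1])) +
      t ^ n • ((ε * β) • ![0, -a2, a1]) := by
    funext i
    fin_cases i
    · simp [Matrix.vecHead, Matrix.vecTail]
    · simp [Matrix.vecHead, Matrix.vecTail]
      linear_combination (-(s 1 - s 0)) * hε + ε * b2 * hα - ε * a2 * hβ
    · simp [Matrix.vecHead, Matrix.vecTail]
      linear_combination (-(s 2 - s 0)) * hε - ε * b1 * hα + ε * a1 * hβ
  rw [hs]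
  refine Submodule.add_mem_sup (Submodule.add_mem _
    (Submodule.smul_mem _ _ (Submodule.subset_span (by simp)))
    (Submodule.smul_mem _ _ (Submodule.subset_span (by simp))))
    (Submodule.smul_mem_smul (Ideal.mem_span_singleton_self _) Submodule.mem_top)

theorem not_mem_of_not_dvd (t : A) (c1 c2 : A) (h : ¬ (t ∣ c1 ∧ t ∣ c2)) :
    (![0, c2, -c1] : Fin 3 → A) ∉ Submodule.span A {(1 : Fin 3 → A)} ⊔
      Ideal.span {t} • (⊤ : Submodule A (Fin 3 → A)) := by
  intro hf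
  obtain ⟨u, hu, w, hw, huw⟩ := Submodule.mem_sup.mp hf
  obtain ⟨α, rfl⟩ := Submodule.mem_span_singleton.mp hu
  have hw' := dvd_of_mem_span_smul_top t hw
  have h0 : α + w 0 = 0 := by
    have := congrFun huw 0
    simpa using this
  have h1 : α + w 1 = c2 := by
    have := congrFun huw 1
    simpa using this
  have h2 : α + w 2 = -c1 := by
    have := congrFun huw 2
    simpa using this
  have hα : t ∣ α := by
    have : α = -w 0 := by linear_combination h0
    rw [this]; exact (dvd_neg).mpr (hw' 0)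
  apply h
  constructor
  · have : c1 = -(α + w 2) := by linear_combination h2
    rw [this]; exact (dvd_neg).mpr (dvd_add hα (hw' 2))
  · rw [← h1]; exact dvd_add hα (hw' 1)

end general


/-- Over R = k⟦t⟧ with k an algebraically closed field of characteristic zero, let S' = R × R × R (the
unramified triple cover of the formal disk) and let S be an R-submodule of S' containing 1 such that
S' / S is isomorphic to R / (t ^ m) ⊕ R / (t ^ n) with m ≤ n. Then t ^ n S' is contained in S, and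
there is f in S', not lying in R·1 + t S', such that S = R·1 + R·(t ^ m f) + t ^ n S'. -/
theorem result {k : Type u} [Field k] [IsAlgClosed k] [CharZero k] (m n : ℕ) (hmn : m ≤ n)
    (S : Submodule (PowerSeries k) (Fin 3 → PowerSeries k))
    (h1 : (1 : (Fin 3 → PowerSeries k)) ∈ S)
    (e : ((Fin 3 → PowerSeries k) ⧸ S) ≃ₗ[PowerSeries k]
      ((PowerSeries k ⧸ Ideal.span {(PowerSeries.X : PowerSeries k) ^ m}) × (PowerSeries k ⧸ Ideal.span {(PowerSeries.X : PowerSeries k) ^ n}))) :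
    Ideal.span {(PowerSeries.X : PowerSeries k) ^ n} • (⊤ : Submodule (PowerSeries k) (Fin 3 → PowerSeries k)) ≤ S ∧
    ∃ f : (Fin 3 → PowerSeries k),
      f ∉ Submodule.span (PowerSeries k) {(1 : (Fin 3 → PowerSeries k))} ⊔ Ideal.span {(PowerSeries.X : PowerSeries k)} • (⊤ : Submodule (PowerSeries k) (Fin 3 → PowerSeries k)) ∧
      S = Submodule.span (PowerSeries k) {(1 : (Fin 3 → PowerSeries k)), ((PowerSeries.X : PowerSeries k) ^ m) • f} ⊔
        Ideal.span {(PowerSeries.X : PowerSeries k) ^ n} • (⊤ : Submodule (PowerSeries k) (Fin 3 → PowerSeries k)) := by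
  classical
  have hcc_of_dvd : ∀ {j : ℕ} {u : PowerSeries k}, 1 ≤ j → (PowerSeries.X : PowerSeries k) ^ j ∣ u →
      PowerSeries.constantCoeff u = 0 := by
    intro j u hj hu
    exact PowerSeries.X_dvd_iff.mp ((dvd_pow_self _ (by omega)).trans hu)
  -- the quotient map
  let q : (Fin 3 → PowerSeries k) →ₗ[PowerSeries k] _ := e.toLinearMap ∘ₗ S.mkQ
  have hq_ker : ∀ y, q y = 0 ↔ y ∈ S := by
    intro y
    simp only [q, LinearMap.comp_apply, LinearEquiv.coe_coe, LinearEquiv.map_eq_zero_iff,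
      Submodule.mkQ_apply, Submodule.Quotient.mk_eq_zero]
  have hq1 : q 1 = 0 := (hq_ker 1).mpr h1
  have hq_surj : Function.Surjective q := e.surjective.comp (Submodule.mkQ_surjective S)
  obtain ⟨a1, ha1⟩ := Ideal.Quotient.mk_surjective (q ![0, 1, 0]).1
  obtain ⟨b1, hb1⟩ := Ideal.Quotient.mk_surjective (q ![0, 1, 0]).2
  obtain ⟨a2, ha2⟩ := Ideal.Quotient.mk_surjective (q ![0, 0, 1]).1
  obtain ⟨b2, hb2⟩ := Ideal.Quotient.mk_surjective (q ![0, 0, 1]).2
  have he1 : q ![0, 1, 0] = (Ideal.Quotient.mk _ a1, Ideal.Quotient.mk _ b1) := by rw [ha1, hb1]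
  have he2 : q ![0, 0, 1] = (Ideal.Quotient.mk _ a2, Ideal.Quotient.mk _ b2) := by rw [ha2, hb2]
  have hqf := q_formula _ _ q hq1 a1 a2 b1 b2 he1 he2
  have hmem : ∀ y, y ∈ S ↔
      ((PowerSeries.X : PowerSeries k) ^ m ∣ (y 1 - y 0) * a1 + (y 2 - y 0) * a2) ∧
      ((PowerSeries.X : PowerSeries k) ^ n ∣ (y 1 - y 0) * b1 + (y 2 - y 0) * b2) := by
    intro y
    rw [← hq_ker, hqf, Prod.mk_eq_zero, Ideal.Quotient.eq_zero_iff_mem,
      Ideal.Quotient.eq_zero_iff_mem, Ideal.mem_span_singleton, Ideal.mem_span_singleton]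
  have hG1 : Ideal.span {(PowerSeries.X : PowerSeries k) ^ n} •
      (⊤ : Submodule (PowerSeries k) (Fin 3 → PowerSeries k)) ≤ S := by
    intro w hw
    rw [hmem]
    have hd := fun i => dvd_of_mem_span_smul_top ((PowerSeries.X : PowerSeries k) ^ n) hw i
    have h2 : (PowerSeries.X : PowerSeries k) ^ n ∣ (w 1 - w 0) * b1 + (w 2 - w 0) * b2 :=
      dvd_add (Dvd.dvd.mul_right (dvd_sub (hd 1) (hd 0)) _)
        (Dvd.dvd.mul_right (dvd_sub (hd 2) (hd 0)) _)
    have h3 : (PowerSeries.X : PowerSeries k) ^ n ∣ (w 1 - w 0) * a1 + (w 2 - w 0) * a2 :=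
      dvd_add (Dvd.dvd.mul_right (dvd_sub (hd 1) (hd 0)) _)
        (Dvd.dvd.mul_right (dvd_sub (hd 2) (hd 0)) _)
    exact ⟨(pow_dvd_pow _ hmn).trans h3, h2⟩
  refine ⟨hG1, ?_⟩
  rcases Nat.eq_zero_or_pos n with hn0 | hnpos
  · -- n = 0: S = ⊤
    subst hn0
    have hm0 : m = 0 := Nat.le_zero.mp hmn
    subst hm0
    have htop : Ideal.span {(PowerSeries.X : PowerSeries k) ^ 0} •
        (⊤ : Submodule (PowerSeries k) (Fin 3 → PowerSeries k)) = ⊤ := by
      rw [pow_zero, Ideal.span_singleton_one, Submodule.top_smul]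
    have hS : S = ⊤ := top_le_iff.mp (htop ▸ hG1)
    refine ⟨![0, 1, -0], not_mem_of_not_dvd _ 0 1 ?_, ?_⟩
    · rintro ⟨-, h⟩
      have := PowerSeries.X_dvd_iff.mp h
      simp at this
    · rw [hS, htop, sup_top_eq]
  -- n ≥ 1
  suffices h : ∃ a1' a2' ε : PowerSeries k, ε * (a1' * b2 - a2' * b1) = 1 ∧
      ∀ s ∈ S, (PowerSeries.X : PowerSeries k) ^ m ∣ (s 1 - s 0) * a1' + (s 2 - s 0) * a2' by
    obtain ⟨a1', a2', ε, hε, hdiv⟩ := h
    refine ⟨![0, b2, -b1], not_mem_of_not_dvd _ b1 b2 ?_, ?_⟩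
    · rintro ⟨⟨c1, hc1⟩, ⟨c2, hc2⟩⟩
      have h5 : (PowerSeries.X : PowerSeries k) ∣ 1 := by
        rw [← hε, hc1, hc2]
        exact ⟨ε * (a1' * c2 - a2' * c1), by ring⟩
      have := PowerSeries.X_dvd_iff.mp h5
      simp at this
    · apply le_antisymm
      · intro s hs
        exact key _ m n a1' a2' b1 b2 ε hε s (hdiv s hs) ((hmem s).mp hs).2
      · refine sup_le (Submodule.span_le.mpr (Set.insert_subset_iff.mpr
          ⟨h1, Set.singleton_subset_iff.mpr ?_⟩)) hG1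
        rw [SetLike.mem_coe, hmem]
        constructor
        · refine ⟨b2 * a1 - b1 * a2, ?_⟩
          simp
          ring
        · refine ⟨0, ?_⟩
          simp
          ring
  rcases Nat.eq_zero_or_pos m with hm0 | hmpos
  · -- m = 0
    subst hm0
    obtain ⟨y', hy'⟩ := hq_surj (0, 1)
    rw [hqf] at hy'
    have h6 := (Prod.mk.inj hy').2
    rw [← map_one (Ideal.Quotient.mk _), Ideal.Quotient.eq, Ideal.mem_span_singleton] at h6
    have h7 := hcc_of_dvd hnpos h6
    rw [map_sub, map_one, map_add, map_mul, map_mul, sub_eq_zero] at h7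
    by_cases hb1 : PowerSeries.constantCoeff b1 = 0
    · have hb2 : PowerSeries.constantCoeff b2 ≠ 0 := by
        intro hb2
        rw [hb1, hb2, mul_zero, mul_zero, add_zero] at h7
        exact zero_ne_one h7
      obtain ⟨ε, hε⟩ := (PowerSeries.isUnit_iff_constantCoeff.mpr
        (isUnit_iff_ne_zero.mpr hb2)).exists_left_inv
      refine ⟨1, 0, ε, by rw [one_mul, zero_mul, sub_zero]; exact hε, fun s _ => ?_⟩
      rw [pow_zero]; exact one_dvd _
    · obtain ⟨ε, hε⟩ := (PowerSeries.isUnit_iff_constantCoeff.mpr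
        (isUnit_iff_ne_zero.mpr hb1)).exists_left_inv
      refine ⟨0, -1, ε, by rw [zero_mul, zero_sub, neg_mul, neg_neg, one_mul]; exact hε,
        fun s _ => ?_⟩
      rw [pow_zero]; exact one_dvd _
  · -- m ≥ 1
    obtain ⟨y, hy⟩ := hq_surj (1, 0)
    obtain ⟨y', hy'⟩ := hq_surj (0, 1)
    rw [hqf] at hy hy'
    have h6a := (Prod.mk.inj hy).1
    have h6b := (Prod.mk.inj hy).2
    have h6c := (Prod.mk.inj hy').1
    have h6d := (Prod.mk.inj hy').2
    rw [← map_one (Ideal.Quotient.mk _), Ideal.Quotient.eq, Ideal.mem_span_singleton] at h6a h6d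
    rw [Ideal.Quotient.eq_zero_iff_mem, Ideal.mem_span_singleton] at h6b h6c
    have h7a := hcc_of_dvd hmpos h6a
    have h7b := hcc_of_dvd hnpos h6b
    have h7c := hcc_of_dvd hmpos h6c
    have h7d := hcc_of_dvd hnpos h6d
    rw [map_sub, map_one, sub_eq_zero] at h7a h7d
    have hid : ((y 1 - y 0) * a1 + (y 2 - y 0) * a2) * ((y' 1 - y' 0) * b1 + (y' 2 - y' 0) * b2) -
        ((y' 1 - y' 0) * a1 + (y' 2 - y' 0) * a2) * ((y 1 - y 0) * b1 + (y 2 - y 0) * b2) =
        (a1 * b2 - a2 * b1) * ((y 1 - y 0) * (y' 2 - y' 0) - (y 2 - y 0) * (y' 1 - y' 0)) := by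
      ring
    have hcc := congrArg PowerSeries.constantCoeff hid
    rw [map_sub, map_mul, map_mul, h7a, h7b, h7c, h7d, map_mul] at hcc
    have hδ : PowerSeries.constantCoeff (a1 * b2 - a2 * b1) ≠ 0 := by
      intro h0
      rw [h0] at hcc
      simp at hcc
    obtain ⟨ε, hε⟩ := (PowerSeries.isUnit_iff_constantCoeff.mpr
      (isUnit_iff_ne_zero.mpr hδ)).exists_left_inv
    exact ⟨a1, a2, ε, hε, fun s hs => ((hmem s).mp hs).1⟩

end Groth.Agent.S13878
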