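import Groth.Statements.S13879
import Mathlib

set_option autoImplicit false
universe u
open Crimp

namespace Groth.Agent.S13879

section
variable {R : Type u} [CommRing R] {ι : Type} 

theorem mul_mem_smul_top (I : Ideal R) (x y : ι → R)
    (hx : x ∈ I • (⊤ : Submodule R (ι → R))) : x * y ∈ I • (⊤ : Submodule R (ι → R)) := by
  refine Submodule.smul_induction_on (p := fun x => x * y ∈ I • (⊤ : Submodule R (ι → R))) hx ?_ ?_
  · intro r hr z _
    rw [smul_mul_assoc]
    exact Submodule.smul_mem_smul hr trivial
  · intro a b ha hb
    rw [add_mul]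
    exact Submodule.add_mem _ ha hb

theorem mul_closed_of_gen (I : Ideal R) (a : ι → R)
    (S : Submodule R (ι → R))
    (hS : S = Submodule.span R {(1 : ι → R), a} ⊔ I • (⊤ : Submodule R (ι → R)))
    (haa : a * a ∈ S) : ∀ x ∈ S, ∀ y ∈ S, x * y ∈ S := by
  have hT : I • (⊤ : Submodule R (ι → R)) ≤ S := by rw [hS]; exact le_sup_right
  have hspan : Submodule.span R {(1 : ι → R), a} ≤ S := by rw [hS]; exact le_sup_left
  have h1 : (1 : ι → R) ∈ S := hspan (Submodule.subset_span (by simp))
  have ha : a ∈ S := hspan (Submodule.subset_span (by simp))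
  have key : ∀ y ∈ S, a * y ∈ S := by
    intro y hy
    rw [hS] at hy
    obtain ⟨y₁, hy₁, y₂, hy₂, rfl⟩ := Submodule.mem_sup.mp hy
    clear hy
    rw [mul_add]
    refine Submodule.add_mem _ ?_ ?_
    · induction hy₁ using Submodule.span_induction with
      | mem z hz =>
        rcases hz with rfl | rfl
        · rw [mul_one]; exact ha
        · exact haa
      | zero => rw [mul_zero]; exact Submodule.zero_mem _
      | add u v _ _ hu hv => rw [mul_add]; exact Submodule.add_mem _ hu hv
      | smul r u _ hu => rw [mul_smul_comm]; exact Submodule.smul_mem _ _ hu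
    · rw [mul_comm]
      exact hT (mul_mem_smul_top I y₂ a hy₂)
  intro x hx y hy
  rw [hS] at hx
  obtain ⟨x₁, hx₁, x₂, hx₂, rfl⟩ := Submodule.mem_sup.mp hx
  clear hx
  rw [add_mul]
  refine Submodule.add_mem _ ?_ ?_
  · induction hx₁ using Submodule.span_induction with
    | mem z hz =>
      rcases hz with rfl | rfl
      · rw [one_mul]; exact hy
      · exact key y hy
    | zero => rw [zero_mul]; exact Submodule.zero_mem _
    | add u v _ _ hu hv => rw [add_mul]; exact Submodule.add_mem _ hu hv
    | smul r u _ hu => rw [smul_mul_assoc]; exact Submodule.smul_mem _ _ hu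
  · exact hT (mul_mem_smul_top I x₂ y hx₂)

end


/-- Over R = k⟦t⟧ with k an algebraically closed field of characteristic zero, let S' = R × R × R and
let S be the R-submodule R·1 + R·(t ^ m f) + t ^ n S' of S' for some f in S' and natural numbers m,
n. Then S is closed under multiplication (equivalently, is an R-subalgebra of S') if and only if t ^
(2m) f ^ 2 lies in S. (The published statement has m ≤ n and S' / S isomorphic to R / (t ^ m) ⊕ R /
(t ^ n), under which S has this shape; this row states the criterion for every submodule of this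
shape.) -/
theorem result {k : Type u} [Field k] [IsAlgClosed k] [CharZero k] (m n : ℕ) (f : (Fin 3 → PowerSeries k))
    (S : Submodule (PowerSeries k) (Fin 3 → PowerSeries k))
    (hS : S = Submodule.span (PowerSeries k) {(1 : (Fin 3 → PowerSeries k)), ((PowerSeries.X : PowerSeries k) ^ m) • f} ⊔
        Ideal.span {(PowerSeries.X : PowerSeries k) ^ n} • (⊤ : Submodule (PowerSeries k) (Fin 3 → PowerSeries k))) :
    (∀ x ∈ S, ∀ y ∈ S, x * y ∈ S) ↔ ((PowerSeries.X : PowerSeries k) ^ (2 * m)) • (f * f) ∈ S := by
  constructor
  · intro h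
    have hmem : ((PowerSeries.X : PowerSeries k) ^ m) • f ∈ S := by
      rw [hS]
      exact Submodule.mem_sup_left (Submodule.subset_span (by simp))
    have := h _ hmem _ hmem
    rwa [smul_mul_smul_comm, ← pow_add, ← two_mul] at this
  · intro h
    refine mul_closed_of_gen _ (((PowerSeries.X : PowerSeries k) ^ m) • f) S hS ?_
    rwa [smul_mul_smul_comm, ← pow_add, ← two_mul]

end Groth.Agent.S13879
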