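import Groth.Statements.S13880
import Groth.Agent.Lib.Helper84.CrimpDouble

set_option autoImplicit false
universe u
open Crimp

namespace Groth.Agent.S13880


open Groth.Agent.Lib.Helper84.CrimpDouble in
/-- coordinates `x ↦ (x 1, x 0 - x 1)` on `R × R`. -/
noncomputable def E (R : Type u) [CommRing R] : (Fin 2 → R) ≃ₗ[R] (Fin 2 → R) where
  toFun x := ![x 1, x 0 - x 1]
  invFun y := ![y 0 + y 1, y 0]
  map_add' x y := by
    ext i; fin_cases i <;> simp <;> ring
  map_smul' c x := by
    ext i; fin_cases i <;> simp <;> ring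
  left_inv x := by
    ext i; fin_cases i <;> simp
  right_inv y := by
    ext i; fin_cases i <;> simp

/-- The basis `(1,1), (1,0)` of `R × R`. -/
noncomputable def Bb (R : Type u) [CommRing R] : Module.Basis (Fin 2) R (Fin 2 → R) :=
  Module.Basis.ofEquivFun (E R)

theorem Bb_zero (R : Type u) [CommRing R] : Bb R 0 = 1 := by
  rw [Bb, Module.Basis.coe_ofEquivFun]
  ext i
  fin_cases i <;> simp [E]

theorem Bb_one (R : Type u) [CommRing R] : Bb R 1 = ![1, 0] := by
  rw [Bb, Module.Basis.coe_ofEquivFun]
  ext i
  fin_cases i <;> simp [E]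

open Groth.Agent.Lib.Helper84.CrimpDouble in
theorem π_Bb (R : Type u) [CommRing R] (x : Fin 2 → R) : π (Bb R) x = x 0 - x 1 := by
  simp [π, Bb, Module.Basis.coord_apply, E]

open Groth.Agent.Lib.Helper84.CrimpDouble in
theorem ρ_Bb (R : Type u) [CommRing R] (x : Fin 2 → R) : ρ (Bb R) x = x 1 := by
  simp [ρ, Bb, Module.Basis.coord_apply, E]

/-- Over R = k⟦t⟧ with k an algebraically closed field of characteristic zero, let S' = R × R, the
trivial double cover of the formal disk (branch divisor (t ^ 0)). An R-subalgebra S of S' admits an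
R-basis of size 2 whose discriminant generates (t ^ b), that is, S is a crimp with branch divisor (t
^ b), if and only if b = 2n for some n and S = R·1 + t ^ n S'. So there is exactly one such crimp
when b is even and none when b is odd; moreover the subalgebra R·1 + t ^ n S' is isomorphic as an
R-algebra to R[y] / (y ^ 2 - t ^ (2n)) (existence of an isomorphism; y ↦ (t ^ n, -t ^ n)). (The
published statement also gives the space of crimps its reduced one-point scheme structure; this row
classifies its k-points.) -/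
theorem result {k : Type u} [Field k] [IsAlgClosed k] [CharZero k] (b : ℕ) (S : Subalgebra (PowerSeries k) (Fin 2 → PowerSeries k)) :
    ((∃ bS : Module.Basis (Fin 2) (PowerSeries k) S,
      Ideal.span {Algebra.discr (PowerSeries k) ⇑bS} = Ideal.span {(PowerSeries.X : PowerSeries k) ^ b}) ↔
    ∃ n : ℕ, b = 2 * n ∧
      Subalgebra.toSubmodule S = Submodule.span (PowerSeries k) {(1 : (Fin 2 → PowerSeries k))} ⊔
        Ideal.span {(PowerSeries.X : PowerSeries k) ^ n} • (⊤ : Submodule (PowerSeries k) (Fin 2 → PowerSeries k))) ∧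
    (∀ n : ℕ, Subalgebra.toSubmodule S = Submodule.span (PowerSeries k) {(1 : (Fin 2 → PowerSeries k))} ⊔
        Ideal.span {(PowerSeries.X : PowerSeries k) ^ n} • (⊤ : Submodule (PowerSeries k) (Fin 2 → PowerSeries k)) →
      Nonempty (S ≃ₐ[PowerSeries k] AdjoinRoot (Polynomial.X ^ 2 - Polynomial.C ((PowerSeries.X : PowerSeries k) ^ (2 * n))))) := by
  open Groth.Agent.Lib.Helper84.CrimpDouble in
  have hB0 := Bb_zero (PowerSeries k)
  have hα : α (Bb (PowerSeries k)) = 0 := by
    simp [α, ρ_Bb, Bb_one]
  have hβ : β (Bb (PowerSeries k)) = 1 := by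
    simp [β, π_Bb, Bb_one]
  refine ⟨?_, ?_⟩
  · rw [exists_basis_iff (Bb (PowerSeries k)) S hB0, hα, hβ]
    constructor
    · rintro ⟨n, h1, h2⟩
      refine ⟨n, ?_, h2⟩
      have h3 : (PowerSeries.X : PowerSeries k) ^ n * PowerSeries.X ^ n * (4 * 0 + 1 * 1) =
          PowerSeries.X ^ (2 * n) * 1 := by ring
      rw [h3] at h1
      exact (X_pow_eq_of_span_eq isUnit_one h1).symm
    · rintro ⟨n, rfl, h2⟩
      refine ⟨n, ?_, h2⟩
      congr 2
      ring
  · intro n hT
    have hD : Data (Bb (PowerSeries k)) S ((PowerSeries.X : PowerSeries k) ^ n) :=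
      data_of_toSubmodule_eq _ S hB0 n hT
    have h2C : (2 : PowerSeries k) = PowerSeries.C (2 : k) := (map_ofNat PowerSeries.C 2).symm
    have h2 : (2 : PowerSeries k) ≠ 0 := by
      rw [h2C, Ne, map_eq_zero_iff _ PowerSeries.C_injective]
      exact two_ne_zero
    have hhalf : (2 : PowerSeries k) * PowerSeries.C (2⁻¹ : k) = 1 := by
      rw [h2C, ← map_mul, mul_inv_cancel₀ (two_ne_zero), map_one]
    have hymem : ![(PowerSeries.X : PowerSeries k) ^ n, -PowerSeries.X ^ n] ∈ S := by
      rw [hD.hS, π_Bb]
      refine ⟨2, ?_⟩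
      simp
      ring
    refine nonempty_algEquiv_adjoinRoot (S := S) ⟨_, hymem⟩
      ((PowerSeries.X : PowerSeries k) ^ (2 * n)) ?_ ?_ ?_
    · apply Subtype.ext
      funext i
      fin_cases i
      · simp
        ring
      · simp
        ring
    · intro a b hab
      have hab' := congrArg Subtype.val hab
      have e0 := congrFun hab' 0
      have e1 := congrFun hab' 1
      simp at e0 e1
      have ha : (2 : PowerSeries k) * a = 0 := by linear_combination e0 + e1
      have ha0 : a = 0 := (mul_eq_zero.1 ha).resolve_left h2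
      rw [ha0, zero_add] at e0
      have hb0 : b = 0 := (mul_eq_zero.1 e0).resolve_right
        (pow_ne_zero _ PowerSeries.X_ne_zero)
      exact ⟨ha0, hb0⟩
    · rintro ⟨s, hs⟩
      obtain ⟨c, hc⟩ := (hD.hS s).1 hs
      rw [π_Bb] at hc
      refine ⟨s 1 + PowerSeries.X ^ n * (PowerSeries.C (2⁻¹ : k) * c),
        PowerSeries.C (2⁻¹ : k) * c, ?_⟩
      apply Subtype.ext
      funext i
      fin_cases i
      · simp
        linear_combination hc - (PowerSeries.X ^ n * c) * hhalf
      · simp
        ring

end Groth.Agent.S13880
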