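import Groth.Statements.S13881
import Groth.Agent.Lib.Helper84.CrimpDouble

set_option autoImplicit false
universe u
open Crimp

namespace Groth.Agent.S13881


section aux

variable (R : Type u) [CommRing R] [Nontrivial R] (a : R)

open Polynomial in
theorem monic_f : (X ^ 2 - C a : R[X]).Monic := monic_X_pow_sub_C a two_ne_zero

open Polynomial in
theorem natDegree_f : (X ^ 2 - C a : R[X]).natDegree = 2 := natDegree_X_pow_sub_C

open Polynomial in
/-- The basis `1, x` of `R[x]/(x^2 - a)`. -/
noncomputable def Bb : Module.Basis (Fin 2) R (AdjoinRoot (X ^ 2 - C a : R[X])) :=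
  (AdjoinRoot.powerBasis' (monic_f R a)).basis.reindex (finCongr (natDegree_f R a))

open Polynomial in
theorem Bb_apply (i : Fin 2) : Bb R a i = AdjoinRoot.root (X ^ 2 - C a : R[X]) ^ (i : ℕ) := by
  rw [Bb, Module.Basis.reindex_apply, PowerBasis.basis_eq_pow]
  rfl

open Polynomial in
theorem Bb_zero : Bb R a 0 = 1 := by
  rw [Bb_apply]; simp

open Polynomial in
theorem Bb_one : Bb R a 1 = AdjoinRoot.root (X ^ 2 - C a : R[X]) := by
  rw [Bb_apply]; simp

open Polynomial in
theorem root_sq : AdjoinRoot.root (X ^ 2 - C a : R[X]) * AdjoinRoot.root (X ^ 2 - C a : R[X]) =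
    a • (1 : AdjoinRoot (X ^ 2 - C a : R[X])) := by
  have h := AdjoinRoot.eval₂_root (X ^ 2 - C a : R[X])
  rw [eval₂_sub, eval₂_pow, eval₂_X, eval₂_C, sub_eq_zero] at h
  rw [← pow_two, h, Algebra.smul_def, mul_one]
  rfl

end aux

/-- Over R = k⟦t⟧ with k an algebraically closed field of characteristic zero, let S' = R[x] / (x ^ 2 -
t), the ramified smooth double cover of the formal disk (branch divisor (t)). An R-subalgebra S of
S' admits an R-basis of size 2 whose discriminant generates (t ^ b), that is, S is a crimp with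
branch divisor (t ^ b), if and only if b = 2n + 1 for some n and S = R·1 + t ^ n S'. So there is
exactly one such crimp when b is odd and none when b is even; moreover the subalgebra R·1 + t ^ n S'
is isomorphic as an R-algebra to R[y] / (y ^ 2 - t ^ (2n+1)) (existence of an isomorphism; y ↦ t ^ n
x). (The published statement describes this algebra as R[y] / (y ^ 2 - t ^ (b - a)) with a = 1, that
is R[y] / (y ^ 2 - t ^ (2n)); that algebra has discriminant ideal (t ^ (b - 1)), not (t ^ b), so
this row uses R[y] / (y ^ 2 - t ^ b) = R[y] / (y ^ 2 - t ^ (2n+1)), which is the algebra R·1 + t ^ n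
S'. The published statement also gives the space of crimps its reduced one-point scheme structure;
this row classifies its k-points.) -/
theorem result {k : Type u} [Field k] [IsAlgClosed k] [CharZero k] (b : ℕ)
    (S : Subalgebra (PowerSeries k) (AdjoinRoot (Polynomial.X ^ 2 - Polynomial.C (PowerSeries.X : PowerSeries k)))) :
    ((∃ bS : Module.Basis (Fin 2) (PowerSeries k) S,
      Ideal.span {Algebra.discr (PowerSeries k) ⇑bS} = Ideal.span {(PowerSeries.X : PowerSeries k) ^ b}) ↔
    ∃ n : ℕ, b = 2 * n + 1 ∧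
      Subalgebra.toSubmodule S = Submodule.span (PowerSeries k) {(1 : (AdjoinRoot (Polynomial.X ^ 2 - Polynomial.C (PowerSeries.X : PowerSeries k))))} ⊔
        Ideal.span {(PowerSeries.X : PowerSeries k) ^ n} • (⊤ : Submodule (PowerSeries k) (AdjoinRoot (Polynomial.X ^ 2 - Polynomial.C (PowerSeries.X : PowerSeries k))))) ∧
    (∀ n : ℕ, Subalgebra.toSubmodule S = Submodule.span (PowerSeries k) {(1 : (AdjoinRoot (Polynomial.X ^ 2 - Polynomial.C (PowerSeries.X : PowerSeries k))))} ⊔
        Ideal.span {(PowerSeries.X : PowerSeries k) ^ n} • (⊤ : Submodule (PowerSeries k) (AdjoinRoot (Polynomial.X ^ 2 - Polynomial.C (PowerSeries.X : PowerSeries k)))) →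
      Nonempty (S ≃ₐ[PowerSeries k] AdjoinRoot (Polynomial.X ^ 2 - Polynomial.C ((PowerSeries.X : PowerSeries k) ^ (2 * n + 1))))) := by
  open Groth.Agent.Lib.Helper84.CrimpDouble in
  have hB0 := Bb_zero (PowerSeries k) (PowerSeries.X : PowerSeries k)
  have hB1 := Bb_one (PowerSeries k) (PowerSeries.X : PowerSeries k)
  have hsq := root_sq (PowerSeries k) (PowerSeries.X : PowerSeries k)
  set B := Bb (PowerSeries k) (PowerSeries.X : PowerSeries k) with hB
  have hα : α B = PowerSeries.X := by
    rw [α, hB1, hsq, map_smul, ρ_one B hB0]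
    simp
  have hβ : β B = 0 := by
    rw [β, hB1, hsq, map_smul, π_one B hB0]
    simp
  have h4C : (4 : PowerSeries k) = PowerSeries.C (4 : k) := (map_ofNat PowerSeries.C 4).symm
  have h4 : IsUnit (4 : PowerSeries k) := by
    rw [h4C]
    exact (IsUnit.mk0 (4 : k) (by exact_mod_cast (show ((4 : ℕ) : k) ≠ 0 from Nat.cast_ne_zero.2 (by norm_num)))).map PowerSeries.C
  refine ⟨?_, ?_⟩
  · rw [exists_basis_iff B S hB0, hα, hβ]
    constructor
    · rintro ⟨n, h1, h2⟩
      refine ⟨n, ?_, h2⟩
      have h3 : (PowerSeries.X : PowerSeries k) ^ n * PowerSeries.X ^ n *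
          (4 * PowerSeries.X + 0 * 0) = PowerSeries.X ^ (2 * n + 1) * 4 := by ring
      rw [h3] at h1
      exact (X_pow_eq_of_span_eq h4 h1).symm
    · rintro ⟨n, rfl, h2⟩
      refine ⟨n, ?_, h2⟩
      have h3 : (PowerSeries.X : PowerSeries k) ^ n * PowerSeries.X ^ n *
          (4 * PowerSeries.X + 0 * 0) = PowerSeries.X ^ (2 * n + 1) * 4 := by ring
      rw [h3]
      exact Ideal.span_singleton_mul_right_unit h4 _
  · intro n hT
    have hD : Data B S ((PowerSeries.X : PowerSeries k) ^ n) :=
      data_of_toSubmodule_eq _ S hB0 n hT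
    refine nonempty_algEquiv_adjoinRoot (S := S) ⟨_, ge_mem hD⟩
      ((PowerSeries.X : PowerSeries k) ^ (2 * n + 1)) ?_ ?_ ?_
    · apply Subtype.ext
      simp only [Subalgebra.coe_mul, Subalgebra.coe_algebraMap]
      rw [smul_mul_smul_comm, hB1, hsq, smul_smul, Algebra.smul_def, mul_one]
      congr 1
      ring
    · intro a b hab
      have hab' := congrArg Subtype.val hab
      simp only [Subalgebra.coe_add, Subalgebra.coe_smul, Subalgebra.coe_one,
        Subalgebra.coe_zero, smul_smul] at hab'
      have e0 := congrArg (ρ B) hab'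
      have e1 := congrArg (π B) hab'
      rw [ρ_comb B hB0, map_zero] at e0
      rw [π_comb B hB0, map_zero] at e1
      exact ⟨e0, (mul_eq_zero.1 e1).resolve_right (pow_ne_zero _ PowerSeries.X_ne_zero)⟩
    · rintro ⟨s, hs⟩
      obtain ⟨c, hc⟩ := (hD.hS s).1 hs
      refine ⟨ρ B s, c, ?_⟩
      apply Subtype.ext
      simp only [Subalgebra.coe_add, Subalgebra.coe_smul, Subalgebra.coe_one, smul_smul]
      rw [mul_comm c, ← hc]
      exact decomp B hB0 s

end Groth.Agent.S13881
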