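import Groth.Statements.S13882
import Mathlib.Tactic
import Mathlib.RingTheory.FiniteType
import Mathlib.Algebra.MvPolynomial.Eval
import Mathlib.RingTheory.Ideal.Quotient.Operations

set_option autoImplicit false
universe u
open FinCov

namespace Groth.Agent.S13882

open MvPolynomial W4c1hurwitzcpt

abbrev Idx (d : ℕ) := (Fin d × Fin d × Fin d) ⊕ Fin d

noncomputable def cX (K : Type u) [Field K] (d : ℕ) (i j k : Fin d) : MvPolynomial (Idx d) K :=
  X (Sum.inl (i, j, k))

noncomputable def uX (K : Type u) [Field K] (d : ℕ) (i : Fin d) : MvPolynomial (Idx d) K :=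
  X (Sum.inr i)

def rels (K : Type u) [Field K] (d : ℕ) : Set (MvPolynomial (Idx d) K) :=
  {p | (∃ i j k, p = cX K d i j k - cX K d j i k) ∨
       (∃ i j l m, p = (∑ k, cX K d i j k * cX K d k l m) - ∑ k, cX K d j l k * cX K d i k m) ∨
       (∃ j m, p = (∑ i, uX K d i * cX K d i j m) - if j = m then 1 else 0)}

abbrev BB (K : Type u) [Field K] (d : ℕ) := MvPolynomial (Idx d) K ⧸ Ideal.span (rels K d)

noncomputable def ev {d : ℕ} {A : Type u} [CommRing A] (s : BasedAlg d A) : Idx d → A :=
  Sum.elim (fun t => s.c t.1 t.2.1 t.2.2) s.u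

lemma aeval_cX (K : Type u) [Field K] {d : ℕ} {A : Type u} [CommRing A] [Algebra K A]
    (s : BasedAlg d A) (i j k : Fin d) : aeval (ev s) (cX K d i j k) = s.c i j k := by
  simp [cX, ev]

lemma aeval_uX (K : Type u) [Field K] {d : ℕ} {A : Type u} [CommRing A] [Algebra K A]
    (s : BasedAlg d A) (i : Fin d) : aeval (ev s) (uX K d i) = s.u i := by
  simp [uX, ev]

lemma aeval_rels (K : Type u) [Field K] {d : ℕ} {A : Type u} [CommRing A] [Algebra K A]
    (s : BasedAlg d A) : ∀ p ∈ Ideal.span (rels K d), aeval (ev s) p = 0 := by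
  intro p hp
  have hle : Ideal.span (rels K d) ≤ RingHom.ker (aeval (R := K) (ev s)).toRingHom := by
    rw [Ideal.span_le]
    rintro q (⟨i, j, k, rfl⟩ | ⟨i, j, l, m, rfl⟩ | ⟨j, m, rfl⟩)
    · show aeval (ev s) _ = 0
      rw [map_sub, aeval_cX, aeval_cX, s.comm, sub_self]
    · show aeval (ev s) _ = 0
      simp only [map_sub, map_sum, map_mul, aeval_cX]
      rw [s.assoc, sub_self]
    · show aeval (ev s) _ = 0
      simp only [map_sub, map_sum, map_mul, aeval_cX, aeval_uX]
      rw [s.unit]
      split_ifs <;> simp
  exact hle hp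

noncomputable def toBased (K : Type u) [Field K] (d : ℕ) (A : Type u) [CommRing A] [Algebra K A]
    (g : BB K d →ₐ[K] A) : BasedAlg d A where
  c i j k := g (Ideal.Quotient.mk _ (cX K d i j k))
  u i := g (Ideal.Quotient.mk _ (uX K d i))
  comm i j k := by
    congr 1
    rw [Ideal.Quotient.eq]
    exact Ideal.subset_span (Or.inl ⟨i, j, k, rfl⟩)
  assoc i j l m := by
    have h : Ideal.Quotient.mk (Ideal.span (rels K d)) (∑ k, cX K d i j k * cX K d k l m) =
        Ideal.Quotient.mk (Ideal.span (rels K d)) (∑ k, cX K d j l k * cX K d i k m) := by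
      rw [Ideal.Quotient.eq]
      exact Ideal.subset_span (Or.inr (Or.inl ⟨i, j, l, m, rfl⟩))
    have h2 := congrArg g h
    simpa only [map_sum, map_mul] using h2
  unit j m := by
    have h : Ideal.Quotient.mk (Ideal.span (rels K d)) (∑ i, uX K d i * cX K d i j m) =
        Ideal.Quotient.mk (Ideal.span (rels K d)) (if j = m then 1 else 0) := by
      rw [Ideal.Quotient.eq]
      exact Ideal.subset_span (Or.inr (Or.inr ⟨j, m, rfl⟩))
    have h2 := congrArg g h
    simp only [map_sum, map_mul] at h2
    rw [h2]
    split_ifs <;> simp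

noncomputable def ofBased (K : Type u) [Field K] (d : ℕ) (A : Type u) [CommRing A] [Algebra K A]
    (s : BasedAlg d A) : BB K d →ₐ[K] A :=
  Ideal.Quotient.liftₐ _ (aeval (ev s)) (aeval_rels K s)

noncomputable def eta (K : Type u) [Field K] (d : ℕ) (A : Type u) [CommRing A] [Algebra K A] :
    (BB K d →ₐ[K] A) ≃ BasedAlg d A where
  toFun := toBased K d A
  invFun := ofBased K d A
  left_inv g := by
    apply Ideal.Quotient.algHom_ext
    apply MvPolynomial.algHom_ext
    rintro (⟨i, j, k⟩ | i)
    · simp [ofBased, toBased, ev, cX]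
    · simp [ofBased, toBased, ev, uX]
  right_inv s := by
    ext
    · simp [ofBased, toBased, aeval_cX]
    · simp [ofBased, toBased, aeval_uX]

/-- Over a field K of characteristic zero, the functor that sends a K-scheme S to the set of isomorphism
classes of pairs (A, τ) of an O_S-algebra A and an O_S-module isomorphism τ from A to the free
module of rank d, equivalently to the set of commutative unital algebra structures on the rank-d
free module with its standard basis, is represented by an affine K-scheme of finite type. Stated on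
affine K-schemes in one universe: there is a finitely generated commutative K-algebra B with
bijections between K-algebra maps B → A and based algebra structures of rank d over A, natural in
the commutative K-algebra A. -/
theorem result (K : Type u) [Field K] [CharZero K] (d : ℕ) :
    ∃ (B : Type u) (_ : CommRing B) (_ : Algebra K B) (_ : Algebra.FiniteType K B)
      (η : ∀ (A : Type u) [CommRing A] [Algebra K A], (B →ₐ[K] A) ≃ W4c1hurwitzcpt.BasedAlg d A),
      ∀ (A A' : Type u) [CommRing A] [Algebra K A] [CommRing A'] [Algebra K A']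
        (f : A →ₐ[K] A') (g : B →ₐ[K] A),
        η A' (f.comp g) = (η A g).map f.toRingHom := by
  refine ⟨BB K d, inferInstance, inferInstance, ?_, fun A _ _ => eta K d A, ?_⟩
  · exact Algebra.FiniteType.of_surjective (Ideal.Quotient.mkₐ K _)
      (Ideal.Quotient.mkₐ_surjective K _)
  · intro A A' _ _ _ _ f g
    ext
    · simp [eta, toBased, BasedAlg.map]
    · simp [eta, toBased, BasedAlg.map]

end Groth.Agent.S13882
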