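import Groth.Statements.S13884
import Groth.Agent.Lib.Helper84.RootDiskLib

set_option autoImplicit false
universe u
open Crimp

namespace Groth.Agent.S13884

/-- Over R = k⟦t⟧ with k an algebraically closed field of characteristic zero, let S' = k⟦x⟧ regarded as
an R-algebra through t ↦ x ^ 3, that is S' = R[x] / (x ^ 3 - t), the smooth totally ramified triple
cover of the formal disk. If M is an R-submodule of S' which is free of rank 3, then M has an
R-basis consisting of three power series whose x-adic valuations are pairwise distinct modulo 3.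
(Items (2) and (3) of the published proposition, on the base change of M to R[s] / (s ^ 3 - t), are
not restated.) -/
theorem result {k : Type u} [Field k] [IsAlgClosed k] [CharZero k]
    (M : Submodule (PowerSeries k) (W4c1hurwitzcpt.RootDisk 3 k))
    (bM : Module.Basis (Fin 3) (PowerSeries k) M) :
    ∃ g : Module.Basis (Fin 3) (PowerSeries k) M, ∀ i j : Fin 3, i ≠ j →
      ¬ Nat.ModEq 3 (PowerSeries.order (W4c1hurwitzcpt.RootDisk.val (((g i : M) : (W4c1hurwitzcpt.RootDisk 3 k)) : W4c1hurwitzcpt.RootDisk 3 k))).toNat
        (PowerSeries.order (W4c1hurwitzcpt.RootDisk.val (((g j : M) : (W4c1hurwitzcpt.RootDisk 3 k)) : W4c1hurwitzcpt.RootDisk 3 k))).toNat := by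
  classical
  have hfin : Module.finrank (PowerSeries k) M =
      Module.finrank (PowerSeries k) (W4c1hurwitzcpt.RootDisk 3 k) := by
    rw [Groth.Agent.Lib.Helper84.RootDiskLib.finrank_eq, Module.finrank_eq_card_basis bM,
      Fintype.card_fin]
  obtain ⟨e, he⟩ := Groth.Agent.Lib.Helper84.RootDiskLib.exists_pow_smul_mem
    (Groth.Agent.Lib.Helper84.RootDiskLib.basis 3 k) M hfin
  obtain ⟨g, v, hgM, hgord, hv, hspan⟩ :=
    Groth.Agent.Lib.Helper84.RootDiskLib.exists_gens (M := M) (3 * e)
      (Groth.Agent.Lib.Helper84.RootDiskLib.mem_of_coeff_eq_zero M he)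
  let g' : Fin 3 → M := fun c => ⟨g c, hgM c⟩
  have hmap : Submodule.map M.subtype (Submodule.span (PowerSeries k) (Set.range g')) =
      Submodule.span (PowerSeries k) (Set.range g) := by
    rw [Submodule.map_span, ← Set.range_comp]
    rfl
  have htop : ⊤ ≤ Submodule.span (PowerSeries k) (Set.range g') := by
    rw [← Submodule.map_le_map_iff_of_injective M.injective_subtype, hmap, hspan,
      Submodule.map_subtype_top]
  have hcard : Fintype.card (Fin 3) = Module.finrank (PowerSeries k) M := by
    rw [Module.finrank_eq_card_basis bM]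
  refine ⟨basisOfTopLeSpanOfCardEqFinrank g' htop hcard, fun i j hij hmod => ?_⟩
  rw [coe_basisOfTopLeSpanOfCardEqFinrank] at hmod
  have hi : (PowerSeries.order (W4c1hurwitzcpt.RootDisk.val (g i))).toNat = v i := by
    rw [(hgord i).order_eq]; rfl
  have hj : (PowerSeries.order (W4c1hurwitzcpt.RootDisk.val (g j))).toNat = v j := by
    rw [(hgord j).order_eq]; rfl
  change Nat.ModEq 3 (PowerSeries.order (W4c1hurwitzcpt.RootDisk.val (g i))).toNat
    (PowerSeries.order (W4c1hurwitzcpt.RootDisk.val (g j))).toNat at hmod
  rw [hi, hj] at hmod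
  apply hij
  apply Fin.ext
  have := hmod
  unfold Nat.ModEq at this
  rw [hv i, hv j] at this
  exact this

end Groth.Agent.S13884
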