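import Groth.Statements.S13885
import Groth.Agent.Lib.Helper84.RootDiskLib

set_option autoImplicit false
universe u
open Crimp

namespace Groth.Agent.S13885

/-- Over R = k⟦t⟧ with k an algebraically closed field of characteristic zero, let S' = k⟦x⟧ × R, where
k⟦x⟧ is regarded as an R-algebra through t ↦ x ^ 2, that is S' = R[x] / (x ^ 2 - t) ⊕ R, the smooth
simply ramified triple cover of the formal disk, with R embedded diagonally. If M is an R-submodule
of S' containing 1 which is free of rank 3, then M is spanned by 1, (f₁, 0) and (f₂, 0) for some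
power series f₁, f₂ whose x-adic valuations are distinct modulo 2. (Items (2) and (3) of the
published proposition, on the base change of M to R[s] / (s ^ 2 - t), are not restated.) -/
theorem result {k : Type u} [Field k] [IsAlgClosed k] [CharZero k]
    (M : Submodule (PowerSeries k) (W4c1hurwitzcpt.RootDisk 2 k × PowerSeries k))
    (h1 : (1 : (W4c1hurwitzcpt.RootDisk 2 k × PowerSeries k)) ∈ M)
    (bM : Module.Basis (Fin 3) (PowerSeries k) M) :
    ∃ f₁ f₂ : W4c1hurwitzcpt.RootDisk 2 k,
      ¬ Nat.ModEq 2 (PowerSeries.order (W4c1hurwitzcpt.RootDisk.val (f₁ : W4c1hurwitzcpt.RootDisk 2 k))).toNat (PowerSeries.order (W4c1hurwitzcpt.RootDisk.val (f₂ : W4c1hurwitzcpt.RootDisk 2 k))).toNat ∧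
      M = Submodule.span (PowerSeries k) {(1 : (W4c1hurwitzcpt.RootDisk 2 k × PowerSeries k)), (f₁, 0), (f₂, 0)} := by
  classical
  have hfin : Module.finrank (PowerSeries k) M =
      Module.finrank (PowerSeries k) (W4c1hurwitzcpt.RootDisk 2 k × PowerSeries k) := by
    rw [Module.finrank_prod, Groth.Agent.Lib.Helper84.RootDiskLib.finrank_eq,
      Module.finrank_self, Module.finrank_eq_card_basis bM, Fintype.card_fin]
  obtain ⟨e, he⟩ := Groth.Agent.Lib.Helper84.RootDiskLib.exists_pow_smul_mem
    ((Groth.Agent.Lib.Helper84.RootDiskLib.basis 2 k).prod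
      (Module.Basis.singleton Unit (PowerSeries k))) M hfin
  let M₀ : Submodule (PowerSeries k) (W4c1hurwitzcpt.RootDisk 2 k) :=
    M.comap (LinearMap.inl (PowerSeries k) (W4c1hurwitzcpt.RootDisk 2 k) (PowerSeries k))
  have he₀ : ∀ f : W4c1hurwitzcpt.RootDisk 2 k, (PowerSeries.X ^ e : PowerSeries k) • f ∈ M₀ := by
    intro f
    show ((PowerSeries.X ^ e : PowerSeries k) • f, (0 : PowerSeries k)) ∈ M
    have := he (f, 0)
    rwa [Prod.smul_mk, smul_zero] at this
  obtain ⟨g, v, hgM, hgord, hv, hspan⟩ :=
    Groth.Agent.Lib.Helper84.RootDiskLib.exists_gens (M := M₀) (2 * e)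
      (Groth.Agent.Lib.Helper84.RootDiskLib.mem_of_coeff_eq_zero M₀ he₀)
  refine ⟨g 0, g 1, ?_, ?_⟩
  · intro hmod
    have h0 : (PowerSeries.order (W4c1hurwitzcpt.RootDisk.val (g 0))).toNat = v 0 := by
      rw [(hgord 0).order_eq]; rfl
    have h1' : (PowerSeries.order (W4c1hurwitzcpt.RootDisk.val (g 1))).toNat = v 1 := by
      rw [(hgord 1).order_eq]; rfl
    rw [h0, h1'] at hmod
    unfold Nat.ModEq at hmod
    rw [hv 0, hv 1] at hmod
    exact absurd hmod (by decide)
  · set T : Submodule (PowerSeries k) (W4c1hurwitzcpt.RootDisk 2 k × PowerSeries k) :=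
      Submodule.span (PowerSeries k) {(1 : (W4c1hurwitzcpt.RootDisk 2 k × PowerSeries k)),
        (g 0, 0), (g 1, 0)} with hT
    have hT1 : (1 : (W4c1hurwitzcpt.RootDisk 2 k × PowerSeries k)) ∈ T :=
      Submodule.subset_span (by simp)
    have hTg : ∀ c : Fin 2, (g c, (0 : PowerSeries k)) ∈ T := by
      intro c
      fin_cases c
      · exact Submodule.subset_span (by simp)
      · exact Submodule.subset_span (by simp)
    apply le_antisymm
    · rintro ⟨f, r⟩ hfr
      have h2 : (f - r • (1 : W4c1hurwitzcpt.RootDisk 2 k), (0 : PowerSeries k)) ∈ M := by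
        have := M.sub_mem hfr (M.smul_mem r h1)
        have e2 : ((f, r) : W4c1hurwitzcpt.RootDisk 2 k × PowerSeries k) -
            r • (1 : (W4c1hurwitzcpt.RootDisk 2 k × PowerSeries k)) =
            (f - r • (1 : W4c1hurwitzcpt.RootDisk 2 k), 0) := by
          ext <;> simp
        rwa [e2] at this
      have h3 : f - r • (1 : W4c1hurwitzcpt.RootDisk 2 k) ∈ M₀ := h2
      rw [← hspan] at h3
      have h4 : (f - r • (1 : W4c1hurwitzcpt.RootDisk 2 k), (0 : PowerSeries k)) ∈ T := by
        have hle : Submodule.span (PowerSeries k) (Set.range g) ≤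
            T.comap (LinearMap.inl (PowerSeries k) (W4c1hurwitzcpt.RootDisk 2 k) (PowerSeries k)) := by
          rw [Submodule.span_le]
          rintro _ ⟨c, rfl⟩
          exact hTg c
        exact hle h3
      have e3 : ((f, r) : W4c1hurwitzcpt.RootDisk 2 k × PowerSeries k) =
          r • (1 : (W4c1hurwitzcpt.RootDisk 2 k × PowerSeries k)) +
            (f - r • (1 : W4c1hurwitzcpt.RootDisk 2 k), 0) := by
        ext <;> simp
      rw [e3]
      exact T.add_mem (T.smul_mem r hT1) h4
    · rw [hT, Submodule.span_le]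
      intro x hx
      simp only [Set.mem_insert_iff, Set.mem_singleton_iff] at hx
      rcases hx with rfl | rfl | rfl
      · exact h1
      · exact hgM 0
      · exact hgM 1

end Groth.Agent.S13885
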