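import Groth.Statements.S13886
import Mathlib

set_option autoImplicit false
universe u
open Crimp

namespace Groth.Agent.S13886


open PowerSeries

variable {k : Type u} [Field k]

theorem mem_S_iff (m n : ℕ) (f v : Fin 3 → PowerSeries k) :
    v ∈ Submodule.span (PowerSeries k) {(1 : (Fin 3 → PowerSeries k)), ((X : PowerSeries k) ^ m) • f} ⊔
        Ideal.span {(X : PowerSeries k) ^ n} • (⊤ : Submodule (PowerSeries k) (Fin 3 → PowerSeries k)) ↔
    ∃ (a b : PowerSeries k) (w : Fin 3 → PowerSeries k),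
      v = a • 1 + b • (((X : PowerSeries k) ^ m) • f) + ((X : PowerSeries k) ^ n) • w := by
  rw [Submodule.mem_sup]
  constructor
  · rintro ⟨y, hy, z, hz, rfl⟩
    rw [Submodule.mem_span_pair] at hy
    obtain ⟨a, b, rfl⟩ := hy
    rw [Submodule.ideal_span_singleton_smul, Submodule.mem_smul_pointwise_iff_exists] at hz
    obtain ⟨w, -, rfl⟩ := hz
    exact ⟨a, b, w, rfl⟩
  · rintro ⟨a, b, w, rfl⟩
    refine ⟨a • 1 + b • (((X : PowerSeries k) ^ m) • f), ?_, ((X : PowerSeries k) ^ n) • w, ?_, rfl⟩
    · rw [Submodule.mem_span_pair]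
      exact ⟨a, b, rfl⟩
    · rw [Submodule.ideal_span_singleton_smul, Submodule.mem_smul_pointwise_iff_exists]
      exact ⟨w, trivial, rfl⟩

theorem exists_ne_cc (f : (Fin 3 → PowerSeries k))
    (hf : f ∉ Submodule.span (PowerSeries k) {(1 : (Fin 3 → PowerSeries k))} ⊔
      Ideal.span {(X : PowerSeries k)} • (⊤ : Submodule (PowerSeries k) (Fin 3 → PowerSeries k))) :
    ∃ i j : Fin 3, constantCoeff (f i) ≠ constantCoeff (f j) := by
  by_contra hcon
  push Not at hcon
  apply hf
  have hdiv : ∀ x : Fin 3, (X : PowerSeries k) ∣ f x - C (constantCoeff (f 0)) := by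
    intro x
    rw [X_dvd_iff, map_sub, constantCoeff_C, hcon x 0, sub_self]
  choose w hw using hdiv
  rw [Submodule.mem_sup]
  refine ⟨C (constantCoeff (f 0)) • 1, ?_, (X : PowerSeries k) • w, ?_, ?_⟩
  · exact Submodule.smul_mem _ _ (Submodule.subset_span rfl)
  · rw [Submodule.ideal_span_singleton_smul, Submodule.mem_smul_pointwise_iff_exists]
    exact ⟨w, trivial, rfl⟩
  · funext x
    simp only [Pi.add_apply, Pi.smul_apply, Pi.one_apply, smul_eq_mul, mul_one]
    rw [← hw x]
    ring

theorem third : ∀ i j : Fin 3, i ≠ j → ∃ l, l ≠ i ∧ l ≠ j ∧ ∀ x, x = i ∨ x = j ∨ x = l := by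
  decide

theorem mul_closed (m n : ℕ) (hn : n ≤ 2 * m) (f x y : Fin 3 → PowerSeries k)
    (hx : ∃ (a b : PowerSeries k) (w : Fin 3 → PowerSeries k),
      x = a • 1 + b • (((X : PowerSeries k) ^ m) • f) + ((X : PowerSeries k) ^ n) • w)
    (hy : ∃ (a b : PowerSeries k) (w : Fin 3 → PowerSeries k),
      y = a • 1 + b • (((X : PowerSeries k) ^ m) • f) + ((X : PowerSeries k) ^ n) • w) :
    ∃ (a b : PowerSeries k) (w : Fin 3 → PowerSeries k),
      x * y = a • 1 + b • (((X : PowerSeries k) ^ m) • f) + ((X : PowerSeries k) ^ n) • w := by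
  obtain ⟨a, b, u, rfl⟩ := hx
  obtain ⟨a', b', u', rfl⟩ := hy
  obtain ⟨d, hd⟩ : ∃ d, 2 * m = n + d := ⟨2 * m - n, by omega⟩
  have hpow : (X : PowerSeries k) ^ m * X ^ m = X ^ n * X ^ d := by
    rw [← pow_add, ← pow_add]
    congr 1
    omega
  refine ⟨a * a', a * b' + a' * b, a • u' + a' • u + (b * b' * X ^ d) • (f * f) +
    b • ((((X : PowerSeries k) ^ m) • f) * u') + b' • (u * (((X : PowerSeries k) ^ m) • f)) +
    ((X : PowerSeries k) ^ n) • (u * u'), ?_⟩
  funext t
  simp only [Pi.add_apply, Pi.smul_apply, Pi.one_apply, Pi.mul_apply, smul_eq_mul, mul_one]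
  linear_combination (b * b' * f t * f t) * hpow

theorem quot_iso (m n : ℕ) (hmn : m ≤ n) (f : Fin 3 → PowerSeries k) (i j l : Fin 3)
    (hij : i ≠ j) (hli : l ≠ i) (hlj : l ≠ j) (hall : ∀ x, x = i ∨ x = j ∨ x = l)
    (u : PowerSeries k) (hu : u * (f i - f j) = 1)
    (S : Submodule (PowerSeries k) (Fin 3 → PowerSeries k))
    (hS : ∀ v, v ∈ S ↔ ∃ (a b : PowerSeries k) (w : Fin 3 → PowerSeries k),
      v = a • 1 + b • (((X : PowerSeries k) ^ m) • f) + ((X : PowerSeries k) ^ n) • w) :
    Nonempty (((Fin 3 → PowerSeries k) ⧸ S) ≃ₗ[PowerSeries k]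
      ((PowerSeries k ⧸ Ideal.span {(X : PowerSeries k) ^ m}) ×
        (PowerSeries k ⧸ Ideal.span {(X : PowerSeries k) ^ n}))) := by
  classical
  let pr : Fin 3 → ((Fin 3 → PowerSeries k) →ₗ[PowerSeries k] PowerSeries k) := fun x =>
    LinearMap.proj x
  let β : (Fin 3 → PowerSeries k) →ₗ[PowerSeries k] PowerSeries k := u • (pr i - pr j)
  let α : (Fin 3 → PowerSeries k) →ₗ[PowerSeries k] PowerSeries k := pr i - (f i) • β
  let γ : (Fin 3 → PowerSeries k) →ₗ[PowerSeries k] PowerSeries k := pr l - α - (f l) • β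
  have hβ : ∀ v, β v = u * (v i - v j) := fun v => rfl
  have hα : ∀ v, α v = v i - f i * (u * (v i - v j)) := fun v => rfl
  have hγ : ∀ v, γ v = v l - (v i - f i * (u * (v i - v j))) - f l * (u * (v i - v j)) := fun v => rfl
  let ψ : (Fin 3 → PowerSeries k) →ₗ[PowerSeries k]
      ((PowerSeries k ⧸ Ideal.span {(X : PowerSeries k) ^ m}) ×
        (PowerSeries k ⧸ Ideal.span {(X : PowerSeries k) ^ n})) :=
    LinearMap.prod ((Submodule.mkQ (Ideal.span {(X : PowerSeries k) ^ m})).comp β)
      ((Submodule.mkQ (Ideal.span {(X : PowerSeries k) ^ n})).comp γ)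
  have hψ : ∀ v, ψ v = (Submodule.Quotient.mk (β v), Submodule.Quotient.mk (γ v)) := fun v => rfl
  have hsurj : Function.Surjective ψ := by
    rintro ⟨b, c⟩
    obtain ⟨b, rfl⟩ := Submodule.Quotient.mk_surjective _ b
    obtain ⟨c, rfl⟩ := Submodule.Quotient.mk_surjective _ c
    refine ⟨b • f + c • Pi.single l 1, ?_⟩
    rw [hψ]
    have e1 : β (b • f + c • Pi.single l 1) = b := by
      rw [hβ]
      simp only [Pi.add_apply, Pi.smul_apply, smul_eq_mul, Pi.single_apply, if_neg hij,
        if_neg hli.symm, if_neg hlj.symm]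
      linear_combination b * hu
    have e2 : γ (b • f + c • Pi.single l 1) = c := by
      rw [hγ]
      simp only [Pi.add_apply, Pi.smul_apply, smul_eq_mul, Pi.single_apply, if_neg hij,
        if_neg hli.symm, if_neg hlj.symm, if_true]
      linear_combination (b * f i - b * f l) * hu
    rw [e1, e2]
  have hker : S = LinearMap.ker ψ := by
    ext v
    rw [LinearMap.mem_ker, hψ, Prod.mk_eq_zero, Submodule.Quotient.mk_eq_zero,
      Submodule.Quotient.mk_eq_zero, Ideal.mem_span_singleton, Ideal.mem_span_singleton, hS]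
    constructor
    · rintro ⟨a, b, w, rfl⟩
      constructor
      · refine ⟨b + X ^ (n - m) * β w, ?_⟩
        have hp : (X : PowerSeries k) ^ n = X ^ m * X ^ (n - m) := by
          rw [← pow_add]
          congr 1
          omega
        rw [hβ, hβ, hp]
        simp only [Pi.add_apply, Pi.smul_apply, Pi.one_apply, smul_eq_mul]
        linear_combination (b * X ^ m) * hu
      · refine ⟨γ w, ?_⟩
        rw [hγ, hγ]
        simp only [Pi.add_apply, Pi.smul_apply, Pi.one_apply, smul_eq_mul]
        linear_combination (b * X ^ m * (f i - f l)) * hu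
    · rintro ⟨⟨b, hb⟩, ⟨c, hc⟩⟩
      refine ⟨α v, b, c • Pi.single l 1, ?_⟩
      have hrec : v = α v • 1 + β v • f + γ v • Pi.single l 1 := by
        funext x
        rw [hα, hβ, hγ]
        simp only [Pi.add_apply, Pi.smul_apply, Pi.one_apply, smul_eq_mul, Pi.single_apply]
        rcases hall x with rfl | rfl | rfl
        · rw [if_neg hli.symm]
          ring
        · rw [if_neg hlj.symm]
          linear_combination (v i - v x) * hu
        · rw [if_pos rfl]
          ring
      conv_lhs => rw [hrec, hb, hc]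
      funext x
      simp only [Pi.add_apply, Pi.smul_apply, Pi.one_apply, smul_eq_mul, Pi.single_apply]
      ring
  exact ⟨(Submodule.quotEquivOfEq S (LinearMap.ker ψ) hker).trans
    (ψ.quotKerEquivOfSurjective hsurj)⟩


/-- Over R = k⟦t⟧ with k an algebraically closed field of characteristic zero, let S' = R × R × R be the
unramified triple cover of the formal disk and let m ≤ n ≤ 2m be natural numbers. For every f in S'
not lying in R·1 + t S', the R-submodule S = R·1 + R·(t ^ m f) + t ^ n S' is closed under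
multiplication, hence an R-subalgebra (a crimp), and S' / S is isomorphic to R / (t ^ m) ⊕ R / (t ^
n) (so the crimp has μ-invariant n - m and branch divisor (t ^ (2(m+n)))). Together with the
structure result for submodules with this quotient, this identifies the k-points of the space of
crimps of splitting type (m, n), 2m ≥ n, with the submodules of this shape. (The published statement
moreover asserts that this stratum is an irreducible variety of dimension n - m; that part is not
restated.) -/
theorem result {k : Type u} [Field k] [IsAlgClosed k] [CharZero k]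
    (m n : ℕ) (hmn : m ≤ n) (hn : n ≤ 2 * m)
    (f : (Fin 3 → PowerSeries k)) (hf : f ∉ Submodule.span (PowerSeries k) {(1 : (Fin 3 → PowerSeries k))} ⊔ Ideal.span {(PowerSeries.X : PowerSeries k)} • (⊤ : Submodule (PowerSeries k) (Fin 3 → PowerSeries k)))
    (S : Submodule (PowerSeries k) (Fin 3 → PowerSeries k))
    (hS : S = Submodule.span (PowerSeries k) {(1 : (Fin 3 → PowerSeries k)), ((PowerSeries.X : PowerSeries k) ^ m) • f} ⊔
        Ideal.span {(PowerSeries.X : PowerSeries k) ^ n} • (⊤ : Submodule (PowerSeries k) (Fin 3 → PowerSeries k))) :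
    (∀ x ∈ S, ∀ y ∈ S, x * y ∈ S) ∧
    Nonempty (((Fin 3 → PowerSeries k) ⧸ S) ≃ₗ[PowerSeries k]
      ((PowerSeries k ⧸ Ideal.span {(PowerSeries.X : PowerSeries k) ^ m}) × (PowerSeries k ⧸ Ideal.span {(PowerSeries.X : PowerSeries k) ^ n}))) := by
  have hSmem : ∀ v, v ∈ S ↔ ∃ (a b : PowerSeries k) (w : Fin 3 → PowerSeries k),
      v = a • 1 + b • (((PowerSeries.X : PowerSeries k) ^ m) • f) +
        ((PowerSeries.X : PowerSeries k) ^ n) • w := by
    intro v
    rw [hS]
    exact mem_S_iff m n f v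
  refine ⟨?_, ?_⟩
  · intro x hx y hy
    rw [hSmem] at hx hy ⊢
    exact mul_closed m n hn f x y hx hy
  · obtain ⟨i, j, hij⟩ := exists_ne_cc f hf
    have hne : i ≠ j := by
      rintro rfl
      exact hij rfl
    obtain ⟨l, hli, hlj, hall⟩ := third i j hne
    have hunit : IsUnit (f i - f j) := by
      rw [PowerSeries.isUnit_iff_constantCoeff, map_sub, isUnit_iff_ne_zero]
      exact sub_ne_zero.mpr hij
    obtain ⟨u, hu⟩ := hunit.exists_left_inv
    exact quot_iso m n hmn f i j l hne hli hlj hall u hu S hSmem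

end Groth.Agent.S13886
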