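import Groth.Statements.S13888
-- import your own Groth.Agent.* helpers here

set_option autoImplicit false
universe u
open CategoryTheory CategoryTheory.Limits MonoidalCategory
attribute [local instance] HasDerivedCategory.standard
open DTen

namespace Groth.Agent.S13888

section Helpers
variable {A : Type u} [CommRing A] [DTen.HasLTen A] [DTen.HasLTen₃ A]
    [DTen.IsSymMonoidal A] [DTen.HasRHom A]

lemma associator_naturality_left {T R : Dual.D A} (f : T ⟶ R) (K L : Dual.D A) :
    (LTen₂ A).map (Prod.mkHom ((LTen₂ A).map (Prod.mkHom f (𝟙 K))) (𝟙 L)) ≫ (associator R K L).hom =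
      (associator T K L).hom ≫ (LTen₂ A).map (Prod.mkHom f (𝟙 ((LTen₂ A).obj (K, L)))) := by
  rw [← cancel_mono ((assocR A).app (R, (K, L)))]
  have hL := (assocL A).naturality (X := (T, (K, L))) (Y := (R, (K, L)))
    (Prod.mkHom f (Prod.mkHom (𝟙 K) (𝟙 L)))
  have hR := (assocR A).naturality (X := (T, (K, L))) (Y := (R, (K, L)))
    (Prod.mkHom f (Prod.mkHom (𝟙 K) (𝟙 L)))
  have e1 : (LTenR A).map (X := (T, (K, L))) (Y := (R, (K, L)))
      (Prod.mkHom f (Prod.mkHom (𝟙 K) (𝟙 L))) =
      (LTen₂ A).map (Prod.mkHom f (𝟙 ((LTen₂ A).obj (K, L)))) := by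
    dsimp [LTenR]
    congr 1
    have : Prod.mkHom (𝟙 K) (𝟙 L) = 𝟙 ((K, L) : Dual.D A × Dual.D A) := rfl
    rw [this, CategoryTheory.Functor.map_id]
  have e2 : (LTenL A).map (X := (T, (K, L))) (Y := (R, (K, L)))
      (Prod.mkHom f (Prod.mkHom (𝟙 K) (𝟙 L))) =
      (LTen₂ A).map (Prod.mkHom ((LTen₂ A).map (Prod.mkHom f (𝟙 K))) (𝟙 L)) := rfl
  rw [e1] at hR
  rw [e2] at hL
  rw [Category.assoc, Category.assoc]
  have h1 : (LTen₂ A).map (Prod.mkHom ((LTen₂ A).map (Prod.mkHom f (𝟙 K))) (𝟙 L)) ≫
      (associator R K L).hom ≫ (assocR A).app (R, (K, L)) =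
      (assocL A).app (T, (K, L)) ≫ (LTen₃ A).map (X := (T, (K, L))) (Y := (R, (K, L)))
        (Prod.mkHom f (Prod.mkHom (𝟙 K) (𝟙 L))) :=
    (congrArg (fun z => (LTen₂ A).map (Prod.mkHom ((LTen₂ A).map (Prod.mkHom f (𝟙 K))) (𝟙 L)) ≫ z)
      (associator_hom_assocR R K L)).trans hL
  have h2 : (associator T K L).hom ≫ (LTen₂ A).map (Prod.mkHom f (𝟙 ((LTen₂ A).obj (K, L)))) ≫
      (assocR A).app (R, (K, L)) =
      (assocL A).app (T, (K, L)) ≫ (LTen₃ A).map (X := (T, (K, L))) (Y := (R, (K, L)))
        (Prod.mkHom f (Prod.mkHom (𝟙 K) (𝟙 L))) :=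
    (congrArg (fun z => (associator T K L).hom ≫ z) hR).trans
      (associator_hom_assocR_assoc T K L _)
  exact h1.trans h2.symm

end Helpers

/-- For a commutative ring `A` (assuming the derived tensor product on `D(A)` with its triple version
exists, that its symmetry, unit and associativity maps are isomorphisms, and that every `- ⊗^L L`
has a right adjoint `RHom(L, -)`) and objects `K`, `L`, `M` of `D(A)`, the canonical morphism
`RHom(K ⊗^L L, M) ⟶ RHom(K, RHom(L, M))`, namely the double adjunct of the associativity isomorphism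
followed by evaluation at `K ⊗^L L`, is an isomorphism. (Functoriality in the three objects is built
into the construction; the identification on `H^0` with the hom bijection of the adjunction is not
part of this row.) -/
theorem result (A : Type u) [CommRing A] [DTen.HasLTen A] [DTen.HasLTen₃ A]
    [DTen.IsSymMonoidal A] [DTen.HasRHom A] (K L M : Dual.D A) :
    IsIso (DTen.curryHom K L M) := by
  refine isIso_of_yoneda_map_bijective _ (fun T => ?_)
  let e : (T ⟶ (RHomR A ((LTen₂ A).obj (K, L))).obj M) ≃ (T ⟶ (RHomR A K).obj ((RHomR A L).obj M)) :=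
    ((rhomHomEquiv T ((LTen₂ A).obj (K, L)) M).symm.trans
      ((associator T K L).symm.homFromEquiv)).trans
      ((rhomHomEquiv ((LTen₂ A).obj (T, K)) L M).trans (rhomHomEquiv T K ((RHomR A L).obj M)))
  have he : ∀ x : T ⟶ (RHomR A ((LTen₂ A).obj (K, L))).obj M, x ≫ curryHom K L M = e x := by
    intro x
    have h1 : x ≫ curryHom K L M =
        rhomHomEquiv T K ((RHomR A L).obj M)
          ((tensorRightD A K).map x ≫ rhomHomEquiv _ _ _ (curryHomAux K L M)) :=
      ((rhomAdj A K).homEquiv_naturality_left x _).symm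
    have h2 : (tensorRightD A K).map x ≫ rhomHomEquiv _ _ _ (curryHomAux K L M) =
        rhomHomEquiv ((LTen₂ A).obj (T, K)) L M
          ((tensorRightD A L).map ((tensorRightD A K).map x) ≫ curryHomAux K L M) :=
      ((rhomAdj A L).homEquiv_naturality_left _ _).symm
    have h3 : (tensorRightD A L).map ((tensorRightD A K).map x) ≫ curryHomAux K L M =
        (associator T K L).hom ≫ (rhomHomEquiv T ((LTen₂ A).obj (K, L)) M).symm x := by
      have h4 : (rhomHomEquiv T ((LTen₂ A).obj (K, L)) M).symm x =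
          (tensorRightD A ((LTen₂ A).obj (K, L))).map x ≫ ev ((LTen₂ A).obj (K, L)) M :=
        (rhomAdj A ((LTen₂ A).obj (K, L))).homEquiv_counit _ _ _
      rw [h4]
      have h5 := associator_naturality_left x K L
      dsimp only [curryHomAux]
      exact (reassoc_of% h5) (ev ((LTen₂ A).obj (K, L)) M)
    rw [h1, h2, h3]
    rfl
  have : (fun x : T ⟶ (RHomR A ((LTen₂ A).obj (K, L))).obj M => x ≫ curryHom K L M) = e := funext he
  rw [this]
  exact e.bijective

end Groth.Agent.S13888
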