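import Groth.Statements.S1389
-- import your own Groth.Agent.* helpers here

set_option autoImplicit false
universe u
open FlatMor

namespace Groth.Agent.S1389

open AlgebraicGeometry CategoryTheory Limits in
/-- Let (U, u) and (U', u') be étale neighbourhoods of a point s of S and h₁, h₂ two S-morphisms U → U'
sending u to u' which induce the same map of residue fields κ(u') → κ(u). Then there is an étale
neighbourhood (U'', u'') of s with an S-morphism h : U'' → U sending u'' to u and with h followed by
h₁ equal to h followed by h₂. -/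
theorem result {S U U' : Scheme.{u}} (s : S) (g : U ⟶ S) (g' : U' ⟶ S) [Etale g] [Etale g'] (u : U) (u' : U')
    (hu : g u = s) (hu' : g' u' = s) (h₁ h₂ : U ⟶ U') (w₁ : h₁ ≫ g' = g) (w₂ : h₂ ≫ g' = g) (e₁ : h₁ u = u') (e₂ : h₂ u = u')
    (hres : (U'.residueFieldCongr e₁).inv ≫ h₁.residueFieldMap u = (U'.residueFieldCongr e₂).inv ≫ h₂.residueFieldMap u) :
    ∃ (U'' : Scheme.{u}) (g'' : U'' ⟶ S) (u'' : U'') (h : U'' ⟶ U), Etale g'' ∧ g'' u'' = s ∧ h ≫ g = g'' ∧ h u'' = u ∧ h ≫ h₁ = h ≫ h₂ := by
  have hw : h₁ ≫ g' = h₂ ≫ g' := w₁.trans w₂.symm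
  set φ : U ⟶ pullback g' g' := pullback.lift h₁ h₂ hw with hφ
  set Δ : U' ⟶ pullback g' g' := pullback.diagonal g' with hΔ
  have hι₁ : U.fromSpecResidueField u ≫ h₁ =
      Spec.map ((U'.residueFieldCongr e₁).inv ≫ h₁.residueFieldMap u) ≫
        U'.fromSpecResidueField u' := by
    rw [Spec.map_comp, Category.assoc, Scheme.residueFieldCongr_inv,
      Scheme.residueFieldCongr_fromSpecResidueField,
      Scheme.Hom.SpecMap_residueFieldMap_fromSpecResidueField]
  have hι₂ : U.fromSpecResidueField u ≫ h₂ =
      Spec.map ((U'.residueFieldCongr e₂).inv ≫ h₂.residueFieldMap u) ≫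
        U'.fromSpecResidueField u' := by
    rw [Spec.map_comp, Category.assoc, Scheme.residueFieldCongr_inv,
      Scheme.residueFieldCongr_fromSpecResidueField,
      Scheme.Hom.SpecMap_residueFieldMap_fromSpecResidueField]
  have hι : U.fromSpecResidueField u ≫ h₁ = U.fromSpecResidueField u ≫ h₂ := by
    rw [hι₁, hι₂, hres]
  have hfac : U.fromSpecResidueField u ≫ φ = (U.fromSpecResidueField u ≫ h₁) ≫ Δ := by
    apply pullback.hom_ext
    · rw [Category.assoc, Category.assoc, hφ, pullback.lift_fst, hΔ, pullback.diagonal_fst,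
        Category.comp_id]
    · rw [Category.assoc, Category.assoc, hφ, pullback.lift_snd, hΔ, pullback.diagonal_snd,
        Category.comp_id, hι]
  have hmem : u ∈ Set.range (pullback.fst φ Δ) := by
    rw [Scheme.Pullback.range_fst]
    obtain ⟨pt⟩ : Nonempty (Spec (U.residueField u)) := inferInstance
    refine ⟨(U.fromSpecResidueField u ≫ h₁) pt, ?_⟩
    have := congrArg (fun k : Spec (U.residueField u) ⟶ pullback g' g' => k pt) hfac
    simp only [Scheme.Hom.comp_apply, Scheme.fromSpecResidueField_apply] at this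
    simp only [Scheme.Hom.comp_apply, Scheme.fromSpecResidueField_apply]
    exact this.symm
  obtain ⟨u'', hu''⟩ := hmem
  refine ⟨pullback φ Δ, pullback.fst φ Δ ≫ g, u'', pullback.fst φ Δ, inferInstance, ?_, rfl, hu'', ?_⟩
  · rw [Scheme.Hom.comp_apply, hu'', hu]
  · have e1 : pullback.fst φ Δ ≫ h₁ = pullback.snd φ Δ := by
      have : h₁ = φ ≫ pullback.fst g' g' := (pullback.lift_fst _ _ _).symm
      rw [this, ← Category.assoc, pullback.condition, Category.assoc, hΔ, pullback.diagonal_fst,
        Category.comp_id]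
    have e2 : pullback.fst φ Δ ≫ h₂ = pullback.snd φ Δ := by
      have : h₂ = φ ≫ pullback.snd g' g' := (pullback.lift_snd _ _ _).symm
      rw [this, ← Category.assoc, pullback.condition, Category.assoc, hΔ, pullback.diagonal_snd,
        Category.comp_id]
    rw [e1, e2]

end Groth.Agent.S1389
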