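import Groth.Statements.S1390
import Groth.Agent.Lib.Helper57.SplitAlg2

set_option autoImplicit false
universe u
open FlatMor

namespace Groth.Agent.S1390

open AlgebraicGeometry CategoryTheory Limits in
/-- Let (U, u) be an étale neighbourhood of (S, s), i.e. U → S étale with u over s. Then there are an
affine open neighbourhood V of s and a surjective, finite, flat morphism of finite presentation π :
T → V such that every point t of T over s has an open neighbourhood W_t with an S-morphism W_t → U
sending t to u. -/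
theorem result {U S : Scheme.{u}} (e : U ⟶ S) [Etale e] (u : U) (s : S) (hu : e u = s) :
    ∃ (V : S.Opens) (T : Scheme.{u}) (π : T ⟶ (V : Scheme.{u})), s ∈ V ∧ IsAffineOpen V ∧ Surjective π ∧ IsFinite π ∧ Flat π ∧ LocallyOfFinitePresentation π ∧
      ∀ t : T, V.ι (π t) = s → ∃ (W : T.Opens) (h : (W : Scheme.{u}) ⟶ U), t ∈ W ∧ h ≫ e = W.ι ≫ π ≫ V.ι ∧ ∀ ht : t ∈ W, h ⟨t, ht⟩ = u := by
  classical
  subst hu
  obtain ⟨V, hV, hsV, -⟩ := exists_isAffineOpen_mem_and_subset (x := e u) (U := ⊤) trivial
  obtain ⟨B, _, _, hstd, j, b, hj, hjb, hje⟩ :=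
    Groth.Agent.Lib.Helper57.SplitAlg.exists_standardEtale_nbhd e u hV hsV
  obtain ⟨PP⟩ := hstd.nonempty_standardEtalePresentation
  obtain ⟨R', _, _, m, hfree, hfin, hinj, hm⟩ :=
    Groth.Agent.Lib.Helper57.SplitAlg.exists_splitting PP.f.natDegree Γ(S, V) PP.f PP.monic_f le_rfl
  let ρ : Γ(S, V) ⟶ CommRingCat.of R' := CommRingCat.ofHom (algebraMap Γ(S, V) R')
  let β : Γ(S, V) ⟶ CommRingCat.of B := CommRingCat.ofHom (algebraMap Γ(S, V) B)
  let T := Spec (CommRingCat.of R')
  let π : T ⟶ (V : Scheme.{u}) := Spec.map ρ ≫ hV.isoSpec.inv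
  have hπι : π ≫ V.ι = Spec.map ρ ≫ hV.fromSpec := by
    simp only [π, Category.assoc]; rfl
  refine ⟨V, T, π, hsV, hV, ?_, ?_, ?_, ?_, ?_⟩
  · -- surjective
    constructor
    intro v
    let y : Spec Γ(S, V) := hV.isoSpec.hom v
    obtain ⟨Q, -, hQp, hQ⟩ := Ideal.exists_ideal_over_prime_of_isIntegral (S := R') y.asIdeal ⊥ (by
      intro r hr
      have : algebraMap Γ(S, V) R' r = 0 := by simpa using hr
      rw [(injective_iff_map_eq_zero _).mp hinj r this]
      exact Ideal.zero_mem _)
    refine ⟨(⟨Q, hQp⟩ : Spec (CommRingCat.of R')), ?_⟩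
    have h1 : Spec.map ρ (⟨Q, hQp⟩ : Spec (CommRingCat.of R')) = y := PrimeSpectrum.ext hQ
    show (Spec.map ρ ≫ hV.isoSpec.inv) _ = v
    rw [Scheme.Hom.comp_apply, h1]
    show (hV.isoSpec.hom ≫ hV.isoSpec.inv) v = v
    rw [Iso.hom_inv_id]; rfl
  · -- finite
    haveI : IsFinite (Spec.map ρ) :=
      (IsFinite.SpecMap_iff ρ).mpr (RingHom.finite_algebraMap.mpr hfin)
    infer_instance
  · haveI : Flat (Spec.map ρ) :=
      (HasRingHomProperty.Spec_iff (P := @Flat)).mpr (RingHom.flat_algebraMap_iff.mpr inferInstance)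
    infer_instance
  · haveI : Module.FinitePresentation Γ(S, V) R' := Module.finitePresentation_of_projective _ _
    haveI : LocallyOfFinitePresentation (Spec.map ρ) :=
      (HasRingHomProperty.Spec_iff (P := @LocallyOfFinitePresentation)).mpr
        (RingHom.finitePresentation_algebraMap.mpr inferInstance)
    infer_instance
  · intro t ht
    -- compatibility of the primes
    have hcomp : Spec.map ρ t = Spec.map β b := by
      apply hV.fromSpec.isOpenEmbedding.injective
      have e1 : hV.fromSpec (Spec.map ρ t) = e u := by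
        rw [← Scheme.Hom.comp_apply, ← hπι, Scheme.Hom.comp_apply]; exact ht
      have e2 : hV.fromSpec (Spec.map β b) = e u := by
        rw [← Scheme.Hom.comp_apply]
        show (Spec.map β ≫ hV.fromSpec) b = _
        rw [← hje, Scheme.Hom.comp_apply, hjb]
      rw [e1, e2]
    have htb : t.asIdeal.comap (algebraMap Γ(S, V) R') = b.asIdeal.comap (algebraMap Γ(S, V) B) :=
      congrArg PrimeSpectrum.asIdeal hcomp
    obtain ⟨r, hr, hg, H⟩ := Groth.Agent.Lib.Helper57.SplitAlg.exists_root_of_primes PP m hm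
      t.asIdeal b.asIdeal htb
    let gr : R' := Polynomial.aeval r PP.g
    let R'' := Localization.Away gr
    let ι' : Spec (CommRingCat.of R'') ⟶ T :=
      Spec.map (CommRingCat.ofHom (algebraMap R' R''))
    let W : T.Opens := PrimeSpectrum.basicOpen gr
    have hrange : Set.range W.ι = Set.range ι' := by
      simp only [Scheme.Opens.range_ι]
      exact (PrimeSpectrum.localization_away_comap_range _ _).symm
    let iso := IsOpenImmersion.isoOfRangeEq W.ι ι' hrange
    have hiso : iso.hom ≫ ι' = W.ι := IsOpenImmersion.isoOfRangeEq_hom_fac _ _ _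
    have hmap : PP.HasMap (algebraMap R' R'' r) := by
      refine ⟨?_, ?_⟩
      · rw [Polynomial.aeval_algebraMap_apply]
        have : Polynomial.aeval r PP.f = 0 := by
          rw [← Polynomial.eval_map_algebraMap, hm, Polynomial.eval_multiset_prod]
          apply Multiset.prod_eq_zero
          rw [Multiset.map_map]
          exact Multiset.mem_map.mpr ⟨r, hr, by simp⟩
        rw [this, map_zero]
      · rw [Polynomial.aeval_algebraMap_apply]
        exact IsLocalization.Away.algebraMap_isUnit gr
    let θ : B →ₐ[Γ(S, V)] R'' := (PP.lift _ hmap).comp PP.equivRing.toAlgHom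
    have hθ : θ PP.x = algebraMap R' R'' r := by
      simp [θ]
    let θc : CommRingCat.of B ⟶ CommRingCat.of R'' := CommRingCat.ofHom θ.toRingHom
    refine ⟨W, iso.hom ≫ Spec.map θc ≫ j, hg, ?_, ?_⟩
    · rw [Category.assoc, Category.assoc, hje, hπι, ← hiso, Category.assoc,
        ← Spec.map_comp_assoc, ← Spec.map_comp_assoc]
      congr 3
      ext x
      exact θ.commutes x
    · intro htW
      let t'' : Spec (CommRingCat.of R'') := iso.hom ⟨t, htW⟩
      have ht'' : ι' t'' = t := by
        show (iso.hom ≫ ι') ⟨t, htW⟩ = t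
        rw [hiso]; rfl
      have hz' : t''.asIdeal.comap (algebraMap R' R'') = t.asIdeal :=
        congrArg PrimeSpectrum.asIdeal ht''
      have := H R'' θ hθ t''.asIdeal hz'
      have hb : Spec.map θc t'' = b := PrimeSpectrum.ext this
      rw [Scheme.Hom.comp_apply, Scheme.Hom.comp_apply]
      show j (Spec.map θc t'') = u
      rw [hb, hjb]

end Groth.Agent.S1390
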