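import Groth.Statements.S13906
import Mathlib
import Groth.Agent.Lib.Helper93.ProjOverFib

set_option autoImplicit false
universe u
open P1Fin

namespace Groth.Agent.S13906

open AlgebraicGeometry CategoryTheory CategoryTheory.Limits in
/-- Let S be a scheme and g : X → P^1_S a finite, flat, locally finitely presented morphism. An open and
closed subset W of X that contains every point of X lying over the zero section of P^1_S → S is all
of X. (In the published corollary W is the locus over which a given equivariant etale morphism T → X
of constant rank is a torsor under a finite group, an open and closed subset of X; that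
open-and-closed locus is taken as the hypothesis here, and the conclusion W = X is the corollary's
content.) -/
theorem result (S X : Scheme.{u})
    (g : X ⟶ CohB1.ProjSpaceOver 1 S) [IsFinite g] [Flat g] [LocallyOfFinitePresentation g]
    (W : Set X) (hW : IsClopen W)
    (h0 : ∀ x : X, g x ∈ Set.range (P1.sect S 0) → x ∈ W) : W = Set.univ := by
  by_contra hne
  obtain ⟨x, hx⟩ : ∃ x, x ∉ W := by
    by_contra hcon
    push Not at hcon
    exact hne (Set.eq_univ_of_forall hcon)
  -- the image of the complement is clopen
  have hclopen : IsClopen (g '' Wᶜ) :=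
    ⟨g.isClosedMap _ hW.compl.isClosed, g.isOpenMap _ hW.compl.isOpen⟩
  let s : S := CohB1.ProjSpaceOver.toBase 1 S (g x)
  have hpre := Groth.Agent.Lib.Helper93.ProjOverIso.isPreconnected_preimage_singleton 1 S s
  have hsub : (CohB1.ProjSpaceOver.toBase 1 S).base ⁻¹' {s} ⊆ g '' Wᶜ :=
    hpre.subset_isClopen hclopen ⟨g x, rfl, x, hx, rfl⟩
  have hsect : P1.sect S 0 ≫ CohB1.ProjSpaceOver.toBase 1 S = 𝟙 S := by
    unfold P1.sect CohB1.ProjSpaceOver.toBase
    exact pullback.lift_snd _ _ _
  have hmem : P1.sect S 0 s ∈ (CohB1.ProjSpaceOver.toBase 1 S).base ⁻¹' {s} := by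
    show (CohB1.ProjSpaceOver.toBase 1 S) (P1.sect S 0 s) = s
    rw [← Scheme.Hom.comp_apply, hsect]
    rfl
  obtain ⟨x', hx', hgx'⟩ := hsub hmem
  exact hx' (h0 x' ⟨s, hgx'.symm⟩)

end Groth.Agent.S13906
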