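import Groth.Statements.S13901
import Mathlib
import Groth.Agent.S13906
import Groth.Agent.Lib.Helper1.CompSurj

set_option autoImplicit false
universe u
open P1Fin

namespace Groth.Agent.S13901

open AlgebraicGeometry CategoryTheory in
/-- Let S be a scheme with preconnected underlying space and f : X → P^1_S a finite, flat, locally
finitely presented morphism (finite locally free). Then f restricted to any connected component of X
is surjective onto P^1_S. (The published statement allows an arbitrary base S; over a base with two
points and X a copy of the projective line over one of them, mapped identically into P^1_S, the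
connected X misses the other fibre, so the base is taken connected here.) -/
theorem result (S X : Scheme.{u}) [PreconnectedSpace S]
    (f : X ⟶ CohB1.ProjSpaceOver 1 S) [IsFinite f] [Flat f] [LocallyOfFinitePresentation f]
    (x : X) (p : CohB1.ProjSpaceOver 1 S) : ∃ y ∈ connectedComponent x, f y = p := by
  have hY : PreconnectedSpace (CohB1.ProjSpaceOver 1 S) := by
    rw [preconnectedSpace_iff_clopen]
    intro W hW
    have hpre : IsClopen ((P1.sect S 0).base ⁻¹' W) := hW.preimage (P1.sect S 0).continuous
    rcases isClopen_iff.mp hpre with h | h
    · left
      have h1 := Groth.Agent.S13906.result S _ (𝟙 (CohB1.ProjSpaceOver 1 S)) Wᶜ hW.compl (by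
        rintro y ⟨s, hs⟩ hyW
        have hs' : (P1.sect S 0).base s = y := hs
        have : s ∈ (P1.sect S 0).base ⁻¹' W := by
          rw [Set.mem_preimage, hs']; exact hyW
        rw [h] at this
        exact this)
      exact Set.compl_univ_iff.mp h1
    · right
      exact Groth.Agent.S13906.result S _ (𝟙 (CohB1.ProjSpaceOver 1 S)) W hW (by
        rintro y ⟨s, hs⟩
        have hs' : (P1.sect S 0).base s = y := hs
        have : s ∈ (P1.sect S 0).base ⁻¹' W := by rw [h]; exact Set.mem_univ s
        rw [Set.mem_preimage, hs'] at this
        exact this)
  exact Groth.Agent.Lib.Helper1.CompSurj.exists_mem_connectedComponent f.base f.isOpenMap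
    f.isClosedMap (fun y => f.finite_preimage_singleton y) x p

end Groth.Agent.S13901
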