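import Groth.Statements.S13904
import Mathlib

set_option autoImplicit false
universe u
open CAlg

namespace Groth.Agent.S13904

theorem krullDim_quotient_le_of_integral {P A : Type u} [CommRing P] [CommRing A] [Algebra P A]
    [Algebra.IsIntegral P A] (p : Ideal A) :
    ringKrullDim (A ⧸ p) ≤ ringKrullDim (P ⧸ p.comap (algebraMap P A)) := by
  rw [ringKrullDim_quotient, ringKrullDim_quotient]
  let F : PrimeSpectrum.zeroLocus (R := A) p →
      PrimeSpectrum.zeroLocus (R := P) (p.comap (algebraMap P A)) :=
    fun Q => ⟨⟨Q.1.asIdeal.comap (algebraMap P A), inferInstance⟩,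
      fun x hx => by
        have hQ : (p : Set A) ⊆ Q.1.asIdeal := Q.2
        exact hQ hx⟩
  refine Order.krullDim_le_of_strictMono F ?_
  intro Q₁ Q₂ h
  have h' : Q₁.1.asIdeal < Q₂.1.asIdeal := h
  exact Ideal.IsIntegral.comap_lt_comap (R := P) h'


/-- Let k be a field, A a commutative k-algebra and φ : k[x_1, …, x_r] → A a finite k-algebra map such
that A/p has Krull dimension r for every minimal prime p of A (an equidimensional affine scheme of
dimension r, finite over affine r-space). Then for every minimal prime p of A and every prime q of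
k[x_1, …, x_r] there is a prime P ⊇ p of A with φ⁻¹(P) = q: the finite map restricted to each
irreducible component of Spec A is surjective onto affine r-space. (The published statement is over
an algebraically closed field with φ a Noether normalisation; this row allows any field and any
finite k-algebra map φ.) -/
theorem result (k : Type u) [Field k] (r : ℕ)
    (A : Type u) [CommRing A] [Algebra k A] (φ : MvPolynomial (Fin r) k →ₐ[k] A)
    (hφ : φ.toRingHom.Finite)
    (hdim : ∀ p ∈ minimalPrimes A, ringKrullDim (A ⧸ p) = r)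
    (p : Ideal A) (hp : p ∈ minimalPrimes A)
    (q : Ideal (MvPolynomial (Fin r) k)) [q.IsPrime] :
    ∃ P : Ideal A, P.IsPrime ∧ p ≤ P ∧ P.comap φ.toRingHom = q := by
  letI : Algebra (MvPolynomial (Fin r) k) A := φ.toRingHom.toAlgebra
  haveI : Module.Finite (MvPolynomial (Fin r) k) A := hφ
  haveI : Algebra.IsIntegral (MvPolynomial (Fin r) k) A := Algebra.IsIntegral.of_finite _ _
  haveI hpp : p.IsPrime := hp.1.1
  have hdimP : ringKrullDim (MvPolynomial (Fin r) k) = r := by
    rw [MvPolynomial.ringKrullDim_of_isNoetherianRing, ringKrullDim_eq_zero_of_field]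
    simp
  have hbot : p.comap (algebraMap (MvPolynomial (Fin r) k) A) = ⊥ := by
    by_contra hne
    obtain ⟨x, hx, hx0⟩ := Submodule.exists_mem_ne_zero_of_ne_bot hne
    have hxnzd : x ∈ nonZeroDivisors (MvPolynomial (Fin r) k) := mem_nonZeroDivisors_of_ne_zero hx0
    have h1 := ringKrullDim_quotient_succ_le_of_nonZeroDivisor hxnzd
    have hle : Ideal.span {x} ≤ p.comap (algebraMap (MvPolynomial (Fin r) k) A) :=
      (Ideal.span_singleton_le_iff_mem _).mpr hx
    have h2 : ringKrullDim (MvPolynomial (Fin r) k ⧸ p.comap (algebraMap (MvPolynomial (Fin r) k) A))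
        ≤ ringKrullDim (MvPolynomial (Fin r) k ⧸ Ideal.span {x}) :=
      ringKrullDim_le_of_surjective (Ideal.Quotient.factor hle) (Ideal.Quotient.factor_surjective hle)
    have h3 := krullDim_quotient_le_of_integral (P := MvPolynomial (Fin r) k) p
    rw [hdim p hp] at h3
    rw [hdimP] at h1
    have h4 : ((r : WithBot ℕ∞) + 1) ≤ r :=
      le_trans (add_le_add_left (h3.trans h2) 1) h1
    have h5 : ((r : ℕ∞) + 1 : WithBot ℕ∞) ≤ (r : ℕ∞) := h4
    rw [← WithBot.coe_one, ← WithBot.coe_add, WithBot.coe_le_coe] at h5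
    have h6 : ((r + 1 : ℕ) : ℕ∞) ≤ (r : ℕ) := by exact_mod_cast h5
    have := Nat.cast_le.mp h6
    omega
  obtain ⟨Q, hQp, hQprime, hQ⟩ := Ideal.exists_ideal_over_prime_of_isIntegral q p (by rw [hbot]; exact bot_le)
  exact ⟨Q, hQprime, hQp, hQ⟩

end Groth.Agent.S13904
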