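import Groth.Statements.S13905
import Mathlib.Tactic
import Mathlib.LinearAlgebra.FiniteDimensional.Lemmas
import Mathlib.LinearAlgebra.Dimension.Constructions

set_option autoImplicit false
universe u
open ProjGeom

namespace Groth.Agent.S13905

open W4c1etcurveeff3b in
/-- Hyperplanes of projective n-space in general position, in linear-algebra form (V of dimension n + 1
over a field k, hyperplanes as n-dimensional subspaces, points as nonzero vectors): if S is a finite
set of hyperplanes in general position with at least n members and H is a hyperplane containing none
of the lines cut out by n members of S, then S with H added is again in general position. (The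
published statement is for hyperplanes of P^n_k and closed points; a closed point lying on n + 1
members is automatically one of the rational points cut out by n of them, so the condition on
nonzero vectors of V is the same condition.) -/
theorem result (k V : Type u) [Field k]
    [AddCommGroup V] [Module k V] [DecidableEq (Submodule k V)] (n : ℕ) (S : Finset (Submodule k V))
    (hS : InGeneralPosition k V n S) (hn : n ≤ S.card) (H : Submodule k V)
    (hH : Module.finrank k H = n)
    (havoid : ∀ T ⊆ S, T.card = n → ¬ (T.inf id ≤ H)) :
    InGeneralPosition k V n (insert H S) := by
  obtain ⟨hV, hSn, hSinf, hSpt⟩ := hS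
  haveI : FiniteDimensional k V := Module.finite_of_finrank_pos (by rw [hV]; omega)
  have hnotle : ∀ T' ⊆ S, T'.card < n → ¬ (T'.inf id ≤ H) := by
    intro T' hT' hcard hle
    obtain ⟨T'', h1, h2, h3⟩ := Finset.exists_subsuperset_card_eq hT' hcard.le hn
    exact havoid T'' h2 h3 (le_trans (Finset.inf_mono h1) hle)
  refine ⟨hV, ?_, ?_, ?_⟩
  · intro H' hH'
    rcases Finset.mem_insert.mp hH' with rfl | h
    · exact hH
    · exact hSn H' h
  · intro T hT hcard
    by_cases hHT : H ∈ T
    · have hT' : T.erase H ⊆ S := Finset.subset_insert_iff.mp hT
      have hc : (T.erase H).card + 1 = T.card := Finset.card_erase_add_one hHT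
      have hW := hSinf (T.erase H) hT' (by omega)
      have hnl := hnotle (T.erase H) hT' (by omega)
      have hTe : T.inf id = H ⊓ (T.erase H).inf id := by
        conv_lhs => rw [← Finset.insert_erase hHT]
        rw [Finset.inf_insert]
        rfl
      rw [hTe]
      have hdim := Submodule.finrank_sup_add_finrank_inf_eq H ((T.erase H).inf id)
      have hsup : Module.finrank k ↥(H ⊔ (T.erase H).inf id) = n + 1 := by
        have h1 : Module.finrank k ↥(H ⊔ (T.erase H).inf id) ≤ n + 1 := by
          rw [← hV]; exact Submodule.finrank_le _
        have h2 : n < Module.finrank k ↥(H ⊔ (T.erase H).inf id) := by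
          rw [← hH]
          have hlt : H < H ⊔ (T.erase H).inf id := by
            refine lt_of_le_of_ne le_sup_left (fun heq => hnl ?_)
            have hr : (T.erase H).inf id ≤ H ⊔ (T.erase H).inf id := le_sup_right
            rw [← heq] at hr
            exact hr
          exact Submodule.finrank_lt_finrank_of_lt hlt
        omega
      omega
    · have hT' : T ⊆ S := by
        intro x hx
        rcases Finset.mem_insert.mp (hT hx) with rfl | h
        · exact (hHT hx).elim
        · exact h
      exact hSinf T hT' hcard
  · intro v hv T hT hvT
    by_cases hHT : H ∈ T
    · have hT' : T.erase H ⊆ S := Finset.subset_insert_iff.mp hT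
      have hc : (T.erase H).card + 1 = T.card := Finset.card_erase_add_one hHT
      have hle := hSpt v hv (T.erase H) hT' (fun H' hH' => hvT H' (Finset.mem_of_mem_erase hH'))
      by_contra hcon
      have hcn : (T.erase H).card = n := by omega
      have hW := hSinf (T.erase H) hT' hcn.le
      have hW1 : Module.finrank k ↥((T.erase H).inf id) = 1 := by omega
      have hvW : v ∈ (T.erase H).inf id := by
        rw [Submodule.mem_finsetInf]
        intro H' hH'
        exact hvT H' (Finset.mem_of_mem_erase hH')
      apply havoid (T.erase H) hT' hcn
      intro w hw
      have h1 := (finrank_eq_one_iff_of_nonzero' (⟨v, hvW⟩ : ↥((T.erase H).inf id))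
        (by intro h0; apply hv; exact congrArg Subtype.val h0)).mp hW1 ⟨w, hw⟩
      obtain ⟨c, hc'⟩ := h1
      have : w = c • v := by
        have := congrArg Subtype.val hc'
        simpa using this.symm
      rw [this]
      exact H.smul_mem c (hvT H hHT)
    · have hT' : T ⊆ S := by
        intro x hx
        rcases Finset.mem_insert.mp (hT hx) with rfl | h
        · exact (hHT hx).elim
        · exact h
      exact hSpt v hv T hT' hvT

end Groth.Agent.S13905
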