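import Groth.Statements.S13907
import Mathlib
import Groth.Agent.Lib.Helper93.ProjDimE

set_option autoImplicit false
universe u
open ProjGeom

namespace Groth.Agent.S13907

open Groth.Agent.Lib.Helper93.ProjDim

/-- Over an algebraically closed field k, let C be a nonempty irreducible closed subset of the
underlying space of projective n-space with homogeneous coordinates x_0, …, x_n, and for i ≤ n let
L_i be the linear subspace where x_1, …, x_i vanish. Then there is an index i ≤ n with C ∩ L_i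
nonempty and of topological Krull dimension zero. -/
theorem result (k : Type u) [Field k]
    [IsAlgClosed k] (n : ℕ) (C : Set (ProjectiveSpectrum (CohB1.polyGrading n k)))
    (hC : IsClosed C) (hirr : IsIrreducible C) :
    ∃ i : ℕ, i ≤ n ∧
      (C ∩ ProjectiveSpectrum.zeroLocus (CohB1.polyGrading n k)
          ((fun j : Fin (n + 1) => (MvPolynomial.X j : MvPolynomial (Fin (n + 1)) k)) ''
            {j : Fin (n + 1) | 1 ≤ j.val ∧ j.val ≤ i})).Nonempty ∧
      topologicalKrullDim ↥(C ∩ ProjectiveSpectrum.zeroLocus (CohB1.polyGrading n k)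
          ((fun j : Fin (n + 1) => (MvPolynomial.X j : MvPolynomial (Fin (n + 1)) k)) ''
            {j : Fin (n + 1) | 1 ≤ j.val ∧ j.val ≤ i})) = 0 := by
  classical
  have hmax := irrelevant_isMaximal n k
  -- membership in the linear subspaces
  have hmemL : ∀ (i : ℕ) (y : ProjectiveSpectrum (CohB1.polyGrading n k)),
      y ∈ ProjectiveSpectrum.zeroLocus (CohB1.polyGrading n k)
          ((fun j : Fin (n + 1) => (MvPolynomial.X j : MvPolynomial (Fin (n + 1)) k)) ''
            {j : Fin (n + 1) | 1 ≤ j.val ∧ j.val ≤ i}) ↔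
        ∀ j : Fin (n + 1), 1 ≤ j.val → j.val ≤ i →
          (MvPolynomial.X j : MvPolynomial (Fin (n + 1)) k) ∈ y.asHomogeneousIdeal.toIdeal := by
    intro i y
    rw [mem_zeroLocus_iff_le]
    constructor
    · intro h j h1 h2
      exact h ⟨j, ⟨h1, h2⟩, rfl⟩
    · rintro h _ ⟨j, ⟨h1, h2⟩, rfl⟩
      exact h j h1 h2
  -- the property "all points have pdim zero"
  let Q : ℕ → Prop := fun i => ∀ y ∈ C ∩ ProjectiveSpectrum.zeroLocus (CohB1.polyGrading n k)
          ((fun j : Fin (n + 1) => (MvPolynomial.X j : MvPolynomial (Fin (n + 1)) k)) ''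
            {j : Fin (n + 1) | 1 ≤ j.val ∧ j.val ≤ i}), pdim y = 0
  have hQn : Q n := by
    intro y hy
    by_contra hne
    obtain ⟨y', hlt, -⟩ := pdim_step n k y hne
    have hyL := (hmemL n y).mp hy.2
    have h1 : ∀ j : Fin (n + 1), j ≠ 0 →
        (MvPolynomial.X j : MvPolynomial (Fin (n + 1)) k) ∈ y.asHomogeneousIdeal.toIdeal := by
      intro j hj
      have hj' : j.val ≠ 0 := fun h => hj (Fin.ext h)
      exact hyL j (by omega) (by have := j.2; omega)
    have h2 : ∀ j : Fin (n + 1), j ≠ 0 →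
        (MvPolynomial.X j : MvPolynomial (Fin (n + 1)) k) ∈ y'.asHomogeneousIdeal.toIdeal :=
      fun j hj => le_iff_toIdeal_le.mp hlt.le (h1 j hj)
    exact hlt.ne (eq_of_X_mem n k y y' h1 h2)
  obtain ⟨i₀, hQ, hmin⟩ : ∃ i₀, Q i₀ ∧ ∀ i < i₀, ¬ Q i :=
    ⟨Nat.find ⟨n, hQn⟩, Nat.find_spec ⟨n, hQn⟩, fun i hi => Nat.find_min ⟨n, hQn⟩ hi⟩
  have hi₀n : i₀ ≤ n := by
    by_contra h
    exact hmin n (by omega) hQn
  have hne : (C ∩ ProjectiveSpectrum.zeroLocus (CohB1.polyGrading n k)
          ((fun j : Fin (n + 1) => (MvPolynomial.X j : MvPolynomial (Fin (n + 1)) k)) ''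
            {j : Fin (n + 1) | 1 ≤ j.val ∧ j.val ≤ i₀})).Nonempty := by
    rcases Nat.eq_zero_or_pos i₀ with h0 | hpos
    · obtain ⟨c0, hc0⟩ := hirr.nonempty
      refine ⟨c0, hc0, (hmemL i₀ c0).mpr ?_⟩
      intro j h1 h2
      omega
    · obtain ⟨i, rfl⟩ : ∃ i, i₀ = i + 1 := ⟨i₀ - 1, by omega⟩
      have hnQ := hmin i (by omega)
      simp only [Q] at hnQ
      push Not at hnQ
      obtain ⟨y, hyT, hy0⟩ := hnQ
      have hyL := (hmemL i y).mp hyT.2
      let j0 : Fin (n + 1) := ⟨i + 1, by omega⟩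
      by_cases hj0 : (MvPolynomial.X j0 : MvPolynomial (Fin (n + 1)) k) ∈
          y.asHomogeneousIdeal.toIdeal
      · refine ⟨y, hyT.1, (hmemL (i + 1) y).mpr ?_⟩
        intro j h1 h2
        by_cases hj : j.val ≤ i
        · exact hyL j h1 hj
        · have : j = j0 := Fin.ext (by simp only [j0]; omega)
          rw [this]; exact hj0
      · obtain ⟨y', hlt, hy'1, -⟩ := exists_gt_of_pdim_ne_zero (k := k) hmax
          (X_isHomogeneousElem n k j0) (X_mem_irrelevant n k j0) hj0 hy0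
        have hy'C : y' ∈ C := (specializes_iff_le.mpr hlt.le).mem_closed hC hyT.1
        refine ⟨y', hy'C, (hmemL (i + 1) y').mpr ?_⟩
        intro j h1 h2
        by_cases hj : j.val ≤ i
        · exact le_iff_toIdeal_le.mp hlt.le (hyL j h1 hj)
        · have : j = j0 := Fin.ext (by simp only [j0]; omega)
          rw [this]; exact hy'1
  refine ⟨i₀, hi₀n, hne, ?_⟩
  have hW : IsClosed (C ∩ ProjectiveSpectrum.zeroLocus (CohB1.polyGrading n k)
          ((fun j : Fin (n + 1) => (MvPolynomial.X j : MvPolynomial (Fin (n + 1)) k)) ''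
            {j : Fin (n + 1) | 1 ≤ j.val ∧ j.val ≤ i₀})) :=
    hC.inter (ProjectiveSpectrum.isClosed_zeroLocus _ _)
  rw [topologicalKrullDim_closed_eq_iSup pdim (pdim_anti n k) (pdim_step n k) hW]
  obtain ⟨y0, hy0⟩ := hne
  apply le_antisymm
  · refine iSup_le fun y => ?_
    rw [hQ y.1 y.2]
    rfl
  · refine le_trans ?_ (le_iSup (fun y : ↥(C ∩ ProjectiveSpectrum.zeroLocus (CohB1.polyGrading n k)
          ((fun j : Fin (n + 1) => (MvPolynomial.X j : MvPolynomial (Fin (n + 1)) k)) ''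
            {j : Fin (n + 1) | 1 ≤ j.val ∧ j.val ≤ i₀})) => ((pdim y.1 : ℕ) : WithBot ℕ∞)) ⟨y0, hy0⟩)
    rw [hQ y0 hy0]
    rfl

end Groth.Agent.S13907
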