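import Groth.Statements.S13911
import Groth.Agent.Lib.Helper18.ConicClass

set_option autoImplicit false
universe u
open PlaneConic

namespace Groth.Agent.S13911


open Groth.Agent.Lib.Helper18.ConicClass


/-- For an algebraically closed field k of characteristic zero, a nonzero symmetric 3 × 3 matrix Q over
k and the ternary quadratic form f = Σ Q_ij X_i X_j in k[X_0, X_1, X_2] (the equation of a plane
conic): (1) f is irreducible iff det Q ≠ 0; (2) the conic has a singular point, that is a nonzero
vector at which all partial derivatives of f vanish, iff det Q = 0 (so smooth conics are exactly the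
irreducible ones); (3) f is the product of two linearly independent linear forms (two distinct
lines) iff rank Q = 2; (4) f is the square of a linear form (a double line) iff rank Q = 1. -/
theorem result (k : Type u) [Field k] [IsAlgClosed k] [CharZero k]
    (Q : Matrix (Fin 3) (Fin 3) k) (hQ : Q.IsSymm) (hQ0 : Q ≠ 0) (f : MvPolynomial (Fin 3) k)
    (hf : f = ∑ i : Fin 3, ∑ j : Fin 3, Q i j • (MvPolynomial.X i * MvPolynomial.X j)) :
    (Irreducible f ↔ Q.det ≠ 0) ∧
    ((∃ u : Fin 3 → k, u ≠ 0 ∧ ∀ i : Fin 3, MvPolynomial.eval u (MvPolynomial.pderiv i f) = 0) ↔ Q.det = 0) ∧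
    ((∃ a b : Fin 3 → k, LinearIndependent k ![a, b] ∧
        f = (∑ i : Fin 3, a i • MvPolynomial.X i) * (∑ i : Fin 3, b i • MvPolynomial.X i)) ↔ Q.rank = 2) ∧
    ((∃ a : Fin 3 → k, f = (∑ i : Fin 3, a i • MvPolynomial.X i) ^ 2) ↔ Q.rank = 1) := by
  have hfq : f = quad Q := hf
  have hlin : ∀ a : Fin 3 → k, (∑ i : Fin 3, a i • MvPolynomial.X i) = lin a := fun a => rfl
  simp only [hlin]
  subst hfq
  have hf0 := quad_ne_zero Q hQ hQ0
  have hdetrank : Q.det ≠ 0 → Q.rank = 3 := by
    intro hdet
    have := Matrix.rank_of_isUnit Q ((Matrix.isUnit_iff_isUnit_det Q).mpr (isUnit_iff_ne_zero.mpr hdet))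
    simpa using this
  refine ⟨?_, ?_, ?_, ?_⟩
  · constructor
    · intro hirr hdet
      obtain ⟨a, b, hab⟩ := exists_factor_of_det_eq_zero Q hQ hdet
      rcases hirr.isUnit_or_isUnit hab with h | h
      · exact not_isUnit_lin a h
      · exact not_isUnit_lin b h
    · intro hdet
      by_contra hirr
      obtain ⟨a, b, hab⟩ := exists_lin_factor Q hQ hQ0 hirr
      exact hdet (det_eq_zero_of_sym Q a b (bilin_of_eval Q hQ a b hab))
  · rw [← Matrix.exists_mulVec_eq_zero_iff]
    constructor
    · rintro ⟨u, hu0, hu⟩
      refine ⟨u, hu0, ?_⟩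
      funext i
      have := hu i
      rw [eval_pderiv_quad Q hQ u i] at this
      exact (mul_eq_zero.mp this).resolve_left two_ne_zero
    · rintro ⟨u, hu0, hu⟩
      refine ⟨u, hu0, ?_⟩
      intro i
      rw [eval_pderiv_quad Q hQ u i, hu]
      simp
  · constructor
    · rintro ⟨a, b, hli, hab⟩
      exact rank_eq_two Q a b (bilin_of_eval Q hQ a b hab) hli
    · intro hr
      have hdet : Q.det = 0 := by
        by_contra hdet
        have := hdetrank hdet
        omega
      obtain ⟨a, b, hab⟩ := exists_factor_of_det_eq_zero Q hQ hdet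
      refine ⟨a, b, ?_, hab⟩
      by_contra hli
      have := rank_le_one_of_dep Q a b (bilin_of_eval Q hQ a b hab) hli
      omega
  · constructor
    · rintro ⟨a, ha⟩
      have hab : quad Q = lin a * lin a := by rw [ha, pow_two]
      have hnl : ¬ LinearIndependent k ![a, a] := by
        rw [LinearIndependent.pair_iff]
        push Not
        refine ⟨1, -1, by simp, by simp⟩
      have h1 := rank_le_one_of_dep Q a a (bilin_of_eval Q hQ a a hab) hnl
      have h0 := rank_ne_zero Q hQ0
      omega
    · intro hr
      have hdet : Q.det = 0 := by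
        by_contra hdet
        have := hdetrank hdet
        omega
      obtain ⟨a, b, hab⟩ := exists_factor_of_det_eq_zero Q hQ hdet
      have hli : ¬ LinearIndependent k ![a, b] := by
        intro hli
        have := rank_eq_two Q a b (bilin_of_eval Q hQ a b hab) hli
        omega
      have ha0 : a ≠ 0 := by
        rintro rfl
        apply hf0
        rw [hab, (lin_eq_zero_iff 0).mpr rfl, zero_mul]
      rcases dep_cases a b hli with ⟨c, rfl⟩ | h
      · obtain ⟨d, hd⟩ := IsAlgClosed.exists_pow_nat_eq c (n := 2) (by norm_num)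
        refine ⟨d • a, ?_⟩
        rw [hab, lin_smul, lin_smul, smul_pow, hd, pow_two, mul_smul_comm]
      · exact absurd h ha0

end Groth.Agent.S13911
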