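import Groth.Statements.S13912
import Mathlib

set_option autoImplicit false
universe u
open PlaneConic

set_option linter.unusedSectionVars false

namespace Groth.Agent.S13912Aux

open MvPolynomial

variable {k : Type u} [Field k]

/-- coefficient of `X j` -/
noncomputable def lc (f : MvPolynomial (Fin 3) k) (j : Fin 3) : k := f.coeff (Finsupp.single j 1)

theorem lin_expand (f : MvPolynomial (Fin 3) k) (hf : f.IsHomogeneous 1) :
    f = ∑ j : Fin 3, C (lc f j) * X j := by
  ext m
  rw [coeff_sum]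
  simp only [coeff_C_mul, coeff_X]
  by_cases hm : m.degree = 1
  · -- m = single j 1
    have : ∃ j, m = Finsupp.single j 1 := by
      rw [Finsupp.degree_eq_sum] at hm
      rw [Fin.sum_univ_three] at hm
      have h0 : m 0 ≤ 1 := by omega
      rcases Nat.eq_zero_or_pos (m 0) with h00 | h00
      · rcases Nat.eq_zero_or_pos (m 1) with h10 | h10
        · refine ⟨2, ?_⟩
          ext i
          fin_cases i <;> simp [h00, h10] <;> omega
        · refine ⟨1, ?_⟩
          ext i
          fin_cases i <;> simp [h00] <;> omega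
      · refine ⟨0, ?_⟩
        ext i
        fin_cases i <;> simp <;> omega
    obtain ⟨j, rfl⟩ := this
    rw [Finset.sum_eq_single j]
    · simp [lc]
    · intro i _ hij
      rw [if_neg, mul_zero]
      intro h
      apply hij
      have := Finsupp.single_left_injective (one_ne_zero) h
      exact this
    · intro h; exact absurd (Finset.mem_univ j) h
  · have h1 : coeff m f = 0 := by
      by_contra hne
      exact hm (by
        have := hf hne
        rw [Finsupp.degree_eq_weight_one]
        exact this)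
    rw [h1]
    symm
    apply Finset.sum_eq_zero
    intro j _
    rw [if_neg, mul_zero]
    intro h
    apply hm
    rw [← h]
    simp


theorem lin_totalDegree (f : MvPolynomial (Fin 3) k) (hf : f.IsHomogeneous 1) (h0 : f ≠ 0) :
    f.totalDegree = 1 := hf.totalDegree h0

theorem lin_prime (l : MvPolynomial (Fin 3) k) (hl : l.IsHomogeneous 1) (h0 : l ≠ 0) :
    Prime l := by
  rw [← UniqueFactorizationMonoid.irreducible_iff_prime]
  have hdeg := lin_totalDegree l hl h0
  constructor
  · intro hu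
    obtain ⟨u, hu⟩ := hu
    have h1 : l * (↑u⁻¹ : MvPolynomial (Fin 3) k) = 1 := by rw [← hu]; exact u.mul_inv
    have h2 : (↑u⁻¹ : MvPolynomial (Fin 3) k) ≠ 0 := u⁻¹.ne_zero
    have h3 := totalDegree_mul_of_isDomain h0 h2
    rw [h1, totalDegree_one, hdeg] at h3
    omega
  · intro f g hfg
    have hf0 : f ≠ 0 := by rintro rfl; exact h0 (by rw [hfg, zero_mul])
    have hg0 : g ≠ 0 := by rintro rfl; exact h0 (by rw [hfg, mul_zero])
    have h3 := totalDegree_mul_of_isDomain hf0 hg0
    rw [← hfg, hdeg] at h3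
    rcases Nat.eq_zero_or_pos f.totalDegree with hf1 | hf1
    · left
      rw [totalDegree_eq_zero_iff_eq_C] at hf1
      rw [hf1]
      apply IsUnit.map
      apply IsUnit.mk0
      intro hc
      apply hf0
      rw [hf1, hc, map_zero]
    · right
      have hg1 : g.totalDegree = 0 := by omega
      rw [totalDegree_eq_zero_iff_eq_C] at hg1
      rw [hg1]
      apply IsUnit.map
      apply IsUnit.mk0
      intro hc
      apply hg0
      rw [hg1, hc, map_zero]

theorem lin_dvd (a b : MvPolynomial (Fin 3) k) (ha : a.IsHomogeneous 1) (hb : b.IsHomogeneous 1)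
    (ha0 : a ≠ 0) (hab : a ∣ b) : ∃ μ : k, b = C μ * a := by
  obtain ⟨q, rfl⟩ := hab
  by_cases hq : q = 0
  · exact ⟨0, by rw [hq, map_zero, mul_zero, zero_mul]⟩
  · have h3 := totalDegree_mul_of_isDomain ha0 hq
    rw [lin_totalDegree _ hb (mul_ne_zero ha0 hq), lin_totalDegree a ha ha0] at h3
    have hq0 : q.totalDegree = 0 := by omega
    rw [totalDegree_eq_zero_iff_eq_C] at hq0
    exact ⟨coeff 0 q, by rw [← hq0, mul_comm]⟩

/-- rank ≤ 1 matrices of linear forms have a constant row or column relation -/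
theorem rank_one (a b c d : MvPolynomial (Fin 3) k) (ha : a.IsHomogeneous 1)
    (hb : b.IsHomogeneous 1) (hc : c.IsHomogeneous 1) (hd : d.IsHomogeneous 1)
    (h : a * d = b * c) :
    (∃ r₀ r₁ : k, (r₀ ≠ 0 ∨ r₁ ≠ 0) ∧ C r₀ * a + C r₁ * c = 0 ∧ C r₀ * b + C r₁ * d = 0) ∨
    (∃ c₀ c₁ : k, (c₀ ≠ 0 ∨ c₁ ≠ 0) ∧ a * C c₀ + b * C c₁ = 0 ∧ c * C c₀ + d * C c₁ = 0) := by
  by_cases ha0 : a = 0
  · subst ha0
    rw [zero_mul] at h
    rcases mul_eq_zero.mp h.symm with hb0 | hc0
    · left
      refine ⟨1, 0, Or.inl one_ne_zero, ?_, ?_⟩ <;> simp [hb0]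
    · right
      refine ⟨1, 0, Or.inl one_ne_zero, ?_, ?_⟩ <;> simp [hc0]
  · have hp := lin_prime a ha ha0
    have hdvd : a ∣ b * c := ⟨d, h.symm⟩
    rcases hp.dvd_or_dvd hdvd with hab | hac
    · obtain ⟨μ, rfl⟩ := lin_dvd a b ha hb ha0 hab
      have hd' : d = C μ * c := by
        have : a * d = a * (C μ * c) := by rw [h]; ring
        exact mul_left_cancel₀ ha0 this
      right
      refine ⟨-μ, 1, Or.inr one_ne_zero, ?_, ?_⟩
      · simp only [map_neg, map_one]; ring
      · rw [hd']; simp only [map_neg, map_one]; ring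
    · obtain ⟨μ, rfl⟩ := lin_dvd a c ha hc ha0 hac
      have hd' : d = C μ * b := by
        have : a * d = a * (C μ * b) := by rw [h]; ring
        exact mul_left_cancel₀ ha0 this
      left
      refine ⟨-μ, 1, Or.inr one_ne_zero, ?_, ?_⟩
      · simp only [map_neg, map_one]; ring
      · rw [hd']; simp only [map_neg, map_one]; ring

/-- substitution killing the linear form `l` -/
noncomputable def psi (l : MvPolynomial (Fin 3) k) (i : Fin 3) :
    MvPolynomial (Fin 3) k →ₐ[k] MvPolynomial (Fin 3) k :=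
  aeval (Function.update (X : Fin 3 → MvPolynomial (Fin 3) k) i (X i - C (lc l i)⁻¹ * l))

theorem psi_sum (l : MvPolynomial (Fin 3) k) (i : Fin 3) (c : Fin 3 → k) :
    psi l i (∑ j, C (c j) * X j) = (∑ j, C (c j) * X j) - C (c i * (lc l i)⁻¹) * l := by
  unfold psi
  simp only [map_sum, map_mul, aeval_C, aeval_X, algebraMap_eq]
  rw [Fin.sum_univ_three, Fin.sum_univ_three]
  fin_cases i <;> simp [Function.update] <;> ring

theorem psi_lin (l : MvPolynomial (Fin 3) k) (i : Fin 3) (f : MvPolynomial (Fin 3) k)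
    (hf : f.IsHomogeneous 1) : psi l i f = f - C (lc f i * (lc l i)⁻¹) * l := by
  have e := lin_expand f hf
  calc psi l i f = psi l i (∑ j, C (lc f j) * X j) := by rw [← e]
    _ = (∑ j, C (lc f j) * X j) - C (lc f i * (lc l i)⁻¹) * l := psi_sum l i (lc f)
    _ = f - C (lc f i * (lc l i)⁻¹) * l := by rw [← e]

theorem psi_self (l : MvPolynomial (Fin 3) k) (i : Fin 3) (hl : l.IsHomogeneous 1)
    (hi : lc l i ≠ 0) : psi l i l = 0 := by
  rw [psi_lin l i l hl, mul_inv_cancel₀ hi, map_one, one_mul, sub_self]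

theorem psi_homog (l : MvPolynomial (Fin 3) k) (i : Fin 3) (hl : l.IsHomogeneous 1)
    (f : MvPolynomial (Fin 3) k) (hf : f.IsHomogeneous 1) : (psi l i f).IsHomogeneous 1 := by
  rw [psi_lin l i f hf]
  apply IsHomogeneous.sub hf
  have := (isHomogeneous_C (Fin 3) (lc f i * (lc l i)⁻¹)).mul hl
  simpa using this

theorem psi_eq_zero (l : MvPolynomial (Fin 3) k) (i : Fin 3) (f : MvPolynomial (Fin 3) k)
    (hf : f.IsHomogeneous 1) (h : psi l i f = 0) : ∃ μ : k, f = C μ * l := by
  rw [psi_lin l i f hf] at h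
  exact ⟨_, sub_eq_zero.mp h⟩

theorem exists_lc_ne_zero (l : MvPolynomial (Fin 3) k) (hl : l.IsHomogeneous 1) (h0 : l ≠ 0) :
    ∃ i, lc l i ≠ 0 := by
  by_contra hcon
  push Not at hcon
  apply h0
  rw [lin_expand l hl]
  apply Finset.sum_eq_zero
  intro j _
  rw [hcon j, map_zero, zero_mul]

/-- building `g`, `h` from a row and a column vector -/
theorem build (M : Matrix (Fin 2) (Fin 2) (MvPolynomial (Fin 3) k)) (r₀ r₁ c₀ c₁ : k)
    (hr : r₀ ≠ 0 ∨ r₁ ≠ 0) (hc : c₀ ≠ 0 ∨ c₁ ≠ 0)
    (h : (C r₀ * M 0 0 + C r₁ * M 1 0) * C c₀ + (C r₀ * M 0 1 + C r₁ * M 1 1) * C c₁ = 0) :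
    ∃ g h : GL (Fin 2) k,
      ((MvPolynomial.C : k →+* MvPolynomial (Fin 3) k).mapMatrix g.val * M *
        (MvPolynomial.C : k →+* MvPolynomial (Fin 3) k).mapMatrix h.val) 0 1 = 0 := by
  have hg : ∃ g : GL (Fin 2) k, g.val 0 0 = r₀ ∧ g.val 0 1 = r₁ := by
    by_cases h0 : r₀ = 0
    · have h1 : r₁ ≠ 0 := by tauto
      refine ⟨Matrix.GeneralLinearGroup.mkOfDetNeZero !![r₀, r₁; 1, 0] ?_, rfl, rfl⟩
      rw [Matrix.det_fin_two_of]
      simpa using h1
    · refine ⟨Matrix.GeneralLinearGroup.mkOfDetNeZero !![r₀, r₁; 0, 1] ?_, rfl, rfl⟩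
      rw [Matrix.det_fin_two_of]
      simpa using h0
  have hh : ∃ g : GL (Fin 2) k, g.val 0 1 = c₀ ∧ g.val 1 1 = c₁ := by
    by_cases h0 : c₀ = 0
    · have h1 : c₁ ≠ 0 := by tauto
      refine ⟨Matrix.GeneralLinearGroup.mkOfDetNeZero !![1, c₀; 0, c₁] ?_, rfl, rfl⟩
      rw [Matrix.det_fin_two_of]
      simpa using h1
    · refine ⟨Matrix.GeneralLinearGroup.mkOfDetNeZero !![0, c₀; 1, c₁] ?_, rfl, rfl⟩
      rw [Matrix.det_fin_two_of]
      simpa using h0
  obtain ⟨g, hg0, hg1⟩ := hg
  obtain ⟨h', hh0, hh1⟩ := hh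
  refine ⟨g, h', ?_⟩
  rw [Matrix.mul_apply, Fin.sum_univ_two, Matrix.mul_apply, Matrix.mul_apply, Fin.sum_univ_two,
    Fin.sum_univ_two]
  simp only [RingHom.mapMatrix_apply, Matrix.map_apply, hg0, hg1, hh0, hh1]
  linear_combination h

end Groth.Agent.S13912Aux

namespace Groth.Agent.S13912

/-- Over an algebraically closed field k of characteristic zero, for a 2 × 2 matrix M of linear forms in
k[X_0, X_1, X_2] (entries homogeneous of degree 1, zero allowed), det M is a product of two linear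
forms if and only if M can be brought by invertible scalar row and column operations g M h, with g,
h in GL_2(k), to a matrix with zero upper-right entry. (The published statement concerns matrices
with nonzero determinant; this row also allows determinant zero, where both sides hold.) -/
theorem result (k : Type u) [Field k] [IsAlgClosed k] [CharZero k]
    (M : Matrix (Fin 2) (Fin 2) (MvPolynomial (Fin 3) k)) (hM : ∀ a b : Fin 2, (M a b).IsHomogeneous 1) :
    (∃ l₁ l₂ : MvPolynomial (Fin 3) k, l₁.IsHomogeneous 1 ∧ l₂.IsHomogeneous 1 ∧ M.det = l₁ * l₂) ↔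
    ∃ g h : GL (Fin 2) k,
      ((MvPolynomial.C : k →+* MvPolynomial (Fin 3) k).mapMatrix g.val * M *
        (MvPolynomial.C : k →+* MvPolynomial (Fin 3) k).mapMatrix h.val) 0 1 = 0 := by
  constructor
  · rintro ⟨l₁, l₂, hl₁, hl₂, hdet⟩
    rw [Matrix.det_fin_two] at hdet
    by_cases h0 : l₁ = 0
    · -- determinant zero
      have had : M 0 0 * M 1 1 = M 0 1 * M 1 0 := by
        rw [h0, zero_mul] at hdet
        exact sub_eq_zero.mp hdet
      rcases Groth.Agent.S13912Aux.rank_one (M 0 0) (M 0 1) (M 1 0) (M 1 1) (hM 0 0) (hM 0 1)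
        (hM 1 0) (hM 1 1) had with ⟨r₀, r₁, hr, e1, e2⟩ | ⟨c₀, c₁, hc, e1, e2⟩
      · apply Groth.Agent.S13912Aux.build M r₀ r₁ 1 0 hr (Or.inl one_ne_zero)
        rw [e1, e2]
        simp
      · apply Groth.Agent.S13912Aux.build M 1 0 c₀ c₁ (Or.inl one_ne_zero) hc
        simp only [map_one, map_zero, one_mul, zero_mul, add_zero]
        linear_combination e1
    · obtain ⟨i, hi⟩ := Groth.Agent.S13912Aux.exists_lc_ne_zero l₁ hl₁ h0
      have hψ : Groth.Agent.S13912Aux.psi l₁ i (M 0 0) * Groth.Agent.S13912Aux.psi l₁ i (M 1 1) =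
          Groth.Agent.S13912Aux.psi l₁ i (M 0 1) * Groth.Agent.S13912Aux.psi l₁ i (M 1 0) := by
        have := congrArg (Groth.Agent.S13912Aux.psi l₁ i) hdet
        rw [map_sub, map_mul, map_mul, map_mul, Groth.Agent.S13912Aux.psi_self l₁ i hl₁ hi,
          zero_mul] at this
        exact sub_eq_zero.mp this
      rcases Groth.Agent.S13912Aux.rank_one _ _ _ _
        (Groth.Agent.S13912Aux.psi_homog l₁ i hl₁ _ (hM 0 0))
        (Groth.Agent.S13912Aux.psi_homog l₁ i hl₁ _ (hM 0 1))
        (Groth.Agent.S13912Aux.psi_homog l₁ i hl₁ _ (hM 1 0))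
        (Groth.Agent.S13912Aux.psi_homog l₁ i hl₁ _ (hM 1 1)) hψ with
        ⟨r₀, r₁, hr, e1, e2⟩ | ⟨c₀, c₁, hc, e1, e2⟩
      · -- row relation mod l₁
        have hf1 : (MvPolynomial.C r₀ * M 0 0 + MvPolynomial.C r₁ * M 1 0).IsHomogeneous 1 := by
          apply MvPolynomial.IsHomogeneous.add
          · simpa using (MvPolynomial.isHomogeneous_C (Fin 3) r₀).mul (hM 0 0)
          · simpa using (MvPolynomial.isHomogeneous_C (Fin 3) r₁).mul (hM 1 0)
        have hf2 : (MvPolynomial.C r₀ * M 0 1 + MvPolynomial.C r₁ * M 1 1).IsHomogeneous 1 := by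
          apply MvPolynomial.IsHomogeneous.add
          · simpa using (MvPolynomial.isHomogeneous_C (Fin 3) r₀).mul (hM 0 1)
          · simpa using (MvPolynomial.isHomogeneous_C (Fin 3) r₁).mul (hM 1 1)
        obtain ⟨μ₁, hμ₁⟩ := Groth.Agent.S13912Aux.psi_eq_zero l₁ i _ hf1 (by
          rw [map_add, map_mul, map_mul, MvPolynomial.algHom_C, MvPolynomial.algHom_C]
          exact e1)
        obtain ⟨μ₂, hμ₂⟩ := Groth.Agent.S13912Aux.psi_eq_zero l₁ i _ hf2 (by
          rw [map_add, map_mul, map_mul, MvPolynomial.algHom_C, MvPolynomial.algHom_C]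
          exact e2)
        by_cases hμ : μ₁ = 0 ∧ μ₂ = 0
        · apply Groth.Agent.S13912Aux.build M r₀ r₁ 1 0 hr (Or.inl one_ne_zero)
          rw [hμ₁, hμ₂, hμ.1, hμ.2]
          simp
        · apply Groth.Agent.S13912Aux.build M r₀ r₁ μ₂ (-μ₁) hr (by
            by_contra hcon
            push Not at hcon
            exact hμ ⟨neg_eq_zero.mp hcon.2, hcon.1⟩)
          rw [hμ₁, hμ₂, map_neg]
          ring
      · -- column relation mod l₁
        have hf1 : (M 0 0 * MvPolynomial.C c₀ + M 0 1 * MvPolynomial.C c₁).IsHomogeneous 1 := by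
          apply MvPolynomial.IsHomogeneous.add
          · simpa using (hM 0 0).mul (MvPolynomial.isHomogeneous_C (Fin 3) c₀)
          · simpa using (hM 0 1).mul (MvPolynomial.isHomogeneous_C (Fin 3) c₁)
        have hf2 : (M 1 0 * MvPolynomial.C c₀ + M 1 1 * MvPolynomial.C c₁).IsHomogeneous 1 := by
          apply MvPolynomial.IsHomogeneous.add
          · simpa using (hM 1 0).mul (MvPolynomial.isHomogeneous_C (Fin 3) c₀)
          · simpa using (hM 1 1).mul (MvPolynomial.isHomogeneous_C (Fin 3) c₁)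
        obtain ⟨μ₁, hμ₁⟩ := Groth.Agent.S13912Aux.psi_eq_zero l₁ i _ hf1 (by
          rw [map_add, map_mul, map_mul, MvPolynomial.algHom_C, MvPolynomial.algHom_C]
          exact e1)
        obtain ⟨μ₂, hμ₂⟩ := Groth.Agent.S13912Aux.psi_eq_zero l₁ i _ hf2 (by
          rw [map_add, map_mul, map_mul, MvPolynomial.algHom_C, MvPolynomial.algHom_C]
          exact e2)
        by_cases hμ : μ₁ = 0 ∧ μ₂ = 0
        · apply Groth.Agent.S13912Aux.build M 1 0 c₀ c₁ (Or.inl one_ne_zero) hc
          simp only [map_one, map_zero, one_mul, zero_mul, add_zero]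
          rw [hμ.1, map_zero, zero_mul] at hμ₁
          linear_combination hμ₁
        · apply Groth.Agent.S13912Aux.build M μ₂ (-μ₁) c₀ c₁ (by
            by_contra hcon
            push Not at hcon
            exact hμ ⟨neg_eq_zero.mp hcon.2, hcon.1⟩) hc
          rw [map_neg]
          linear_combination (MvPolynomial.C μ₂) * hμ₁ - (MvPolynomial.C μ₁) * hμ₂
  · rintro ⟨g, h, hgh⟩
    set E := (MvPolynomial.C : k →+* MvPolynomial (Fin 3) k).mapMatrix g.val * M *
        (MvPolynomial.C : k →+* MvPolynomial (Fin 3) k).mapMatrix h.val with hE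
    have hEhom : ∀ a b : Fin 2, (E a b).IsHomogeneous 1 := by
      intro a b
      rw [hE, Matrix.mul_apply]
      apply MvPolynomial.IsHomogeneous.sum
      intro j _
      rw [Matrix.mul_apply]
      have h1 : (∑ x : Fin 2, (MvPolynomial.C : k →+* MvPolynomial (Fin 3) k).mapMatrix g.val a x *
          M x j).IsHomogeneous 1 := by
        apply MvPolynomial.IsHomogeneous.sum
        intro x _
        simpa using (MvPolynomial.isHomogeneous_C (Fin 3) (g.val a x)).mul (hM x j)
      simpa using h1.mul (MvPolynomial.isHomogeneous_C (Fin 3) (h.val j b))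
    have hdetE : E.det = MvPolynomial.C (g.val.det * h.val.det) * M.det := by
      rw [hE, Matrix.det_mul, Matrix.det_mul, ← RingHom.map_det, ← RingHom.map_det, map_mul]
      ring
    have hdetE2 : E.det = E 0 0 * E 1 1 := by
      rw [Matrix.det_fin_two, hgh, zero_mul, sub_zero]
    have hgdet : g.val.det * h.val.det ≠ 0 := by
      apply mul_ne_zero
      · exact (Matrix.isUnits_det_units g).ne_zero
      · exact (Matrix.isUnits_det_units h).ne_zero
    refine ⟨MvPolynomial.C (g.val.det * h.val.det)⁻¹ * E 0 0, E 1 1, ?_, hEhom 1 1, ?_⟩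
    · simpa using (MvPolynomial.isHomogeneous_C (Fin 3) (g.val.det * h.val.det)⁻¹).mul (hEhom 0 0)
    · rw [mul_assoc, ← hdetE2, hdetE, ← mul_assoc, ← map_mul, inv_mul_cancel₀ hgdet, map_one,
        one_mul]

end Groth.Agent.S13912
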