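import Groth.Statements.S13913
import Mathlib

set_option autoImplicit false
universe u
open PlaneCubic

namespace Groth.Agent.S13913

open MvPolynomial in
theorem pderiv_eq_C {k : Type u} [Field k] (z : MvPolynomial (Fin 3) k) (hz : z.IsHomogeneous 1)
    (i : Fin 3) (p : Fin 3 → k) : pderiv i z = C (eval p (pderiv i z)) := by
  have h0 : (pderiv i z).IsHomogeneous 0 := hz.pderiv
  have h1 : (pderiv i z).totalDegree = 0 := Nat.le_zero.mp h0.totalDegree_le
  have h2 := totalDegree_eq_zero_iff_eq_C.mp h1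
  rw [h2]
  simp

open MvPolynomial in
theorem comb_eq_zero {k : Type u} [Field k] (z₁ z₂ : MvPolynomial (Fin 3) k)
    (hz₁ : z₁.IsHomogeneous 1) (hz₂ : z₂.IsHomogeneous 1) (p : Fin 3 → k) (s t : k)
    (h : ∀ i : Fin 3, eval p (pderiv i z₁) * s - eval p (pderiv i z₂) * t = 0) :
    s • z₁ + (-t) • z₂ = 0 := by
  have hhom : (s • z₁ + (-t) • z₂).IsHomogeneous 1 := by
    rw [smul_eq_C_mul, smul_eq_C_mul]
    exact (hz₁.C_mul s).add (hz₂.C_mul (-t))
  have heuler := hhom.sum_X_mul_pderiv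
  rw [one_smul] at heuler
  rw [← heuler]
  apply Finset.sum_eq_zero
  intro i _
  have hi := h i
  have : pderiv i (s • z₁ + (-t) • z₂) = 0 := by
    rw [map_add, Derivation.map_smul, Derivation.map_smul, pderiv_eq_C z₁ hz₁ i p,
      pderiv_eq_C z₂ hz₂ i p, smul_eq_C_mul, smul_eq_C_mul,
      ← map_mul, ← map_mul, ← map_add]
    have : s * eval p (pderiv i z₁) + -t * eval p (pderiv i z₂) = 0 := by
      rw [← hi]; ring
    rw [this, map_zero]
  rw [this, mul_zero]


/-- Over an algebraically closed field of characteristic zero, for linearly independent linear forms z₁,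
z₂ and quadratic forms q₁, q₂ in three variables and a nonzero common zero p of z₁ and z₂, the point
p is a singular point of the plane cubic z₁q₂ − z₂q₁ = 0 (all three partial derivatives vanish at p)
if and only if q₁ and q₂ both vanish at p. -/
theorem result (k : Type u) [Field k] [IsAlgClosed k] [CharZero k]
    (z₁ z₂ q₁ q₂ : MvPolynomial (Fin 3) k) (hz₁ : z₁.IsHomogeneous 1) (hz₂ : z₂.IsHomogeneous 1)
    (hq₁ : q₁.IsHomogeneous 2) (hq₂ : q₂.IsHomogeneous 2) (hind : LinearIndependent k ![z₁, z₂])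
    (p : Fin 3 → k) (hp : p ≠ 0) (hp₁ : MvPolynomial.eval p z₁ = 0) (hp₂ : MvPolynomial.eval p z₂ = 0) :
    (∀ i : Fin 3, MvPolynomial.eval p (MvPolynomial.pderiv i (z₁ * q₂ - z₂ * q₁)) = 0) ↔
      (MvPolynomial.eval p q₁ = 0 ∧ MvPolynomial.eval p q₂ = 0) := by
  have hexp : ∀ i : Fin 3, MvPolynomial.eval p (MvPolynomial.pderiv i (z₁ * q₂ - z₂ * q₁)) =
      MvPolynomial.eval p (MvPolynomial.pderiv i z₁) * MvPolynomial.eval p q₂ -
        MvPolynomial.eval p (MvPolynomial.pderiv i z₂) * MvPolynomial.eval p q₁ := by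
    intro i
    simp only [map_sub, Derivation.leibniz, smul_eq_mul, map_add, map_mul, hp₁, hp₂]
    ring
  constructor
  · intro h
    have hw := comb_eq_zero z₁ z₂ hz₁ hz₂ p (MvPolynomial.eval p q₂) (MvPolynomial.eval p q₁)
      (fun i => by rw [← hexp i]; exact h i)
    have := LinearIndependent.pair_iff.mp hind _ _ hw
    exact ⟨neg_eq_zero.mp this.2, this.1⟩
  · rintro ⟨h1, h2⟩ i
    rw [hexp i, h1, h2, mul_zero, mul_zero, sub_zero]

end Groth.Agent.S13913
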