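import Groth.Statements.S13916
import Mathlib

set_option autoImplicit false
universe u
open PlaneConic

namespace Groth.Agent.S13916


/-- Over an algebraically closed field k of characteristic zero, with u_0, u_1, u_2 the coordinate
linear forms of k[X_0, X_1, X_2] and 2 × 2 matrices of linear forms compared up to M ↦ g M h with g,
h invertible scalar matrices: (1) the matrices with rows (u_1, 0), (u_0, u_2) and (u_2, 0), (u_0,
u_1) are not equivalent; (2) for α ≠ 0 the matrix with rows (u_1, 0), (αu_0 + βu_1 + γu_2, u_2) is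
equivalent to the one with rows (u_1, 0), (u_0, u_2). -/
theorem result (k : Type u) [Field k] [IsAlgClosed k] [CharZero k] :
    (¬ ∃ g h : GL (Fin 2) k,
      (MvPolynomial.C : k →+* MvPolynomial (Fin 3) k).mapMatrix g.val *
          !![MvPolynomial.X 1, 0; MvPolynomial.X 0, MvPolynomial.X 2] *
        (MvPolynomial.C : k →+* MvPolynomial (Fin 3) k).mapMatrix h.val =
      !![MvPolynomial.X 2, 0; MvPolynomial.X 0, MvPolynomial.X 1]) ∧
    (∀ α β γ : k, α ≠ 0 → ∃ g h : GL (Fin 2) k,
      (MvPolynomial.C : k →+* MvPolynomial (Fin 3) k).mapMatrix g.val *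
          !![MvPolynomial.X 1, 0;
             MvPolynomial.C α * MvPolynomial.X 0 + MvPolynomial.C β * MvPolynomial.X 1 + MvPolynomial.C γ * MvPolynomial.X 2,
             MvPolynomial.X 2] *
        (MvPolynomial.C : k →+* MvPolynomial (Fin 3) k).mapMatrix h.val =
      !![MvPolynomial.X 1, 0; MvPolynomial.X 0, MvPolynomial.X 2]) := by
  constructor
  · rintro ⟨g, h, hgh⟩
    have e11 := congrArg (fun N : Matrix (Fin 2) (Fin 2) (MvPolynomial (Fin 3) k) => N 1 1) hgh
    have e10 := congrArg (fun N : Matrix (Fin 2) (Fin 2) (MvPolynomial (Fin 3) k) => N 1 0) hgh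
    simp only [Matrix.mul_apply, Fin.sum_univ_two, RingHom.mapMatrix_apply, Matrix.map_apply,
      Matrix.of_apply, Matrix.cons_val', Matrix.cons_val_zero, Matrix.cons_val_one,
      Matrix.cons_val_fin_one] at e11 e10
    have a1 := congrArg (MvPolynomial.eval (![1, 0, 0] : Fin 3 → k)) e11
    have a2 := congrArg (MvPolynomial.eval (![0, 1, 0] : Fin 3 → k)) e11
    have a3 := congrArg (MvPolynomial.eval (![1, 0, 0] : Fin 3 → k)) e10
    simp at a1 a2 a3
    rcases a1 with a1 | a1
    · rw [a1, zero_mul] at a3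
      exact zero_ne_one a3
    · rw [a1, mul_zero] at a2
      exact zero_ne_one a2
  · intro α β γ hα
    refine ⟨Matrix.GeneralLinearGroup.mkOfDetNeZero !![1, 0; -β / α, 1 / α] ?_,
      Matrix.GeneralLinearGroup.mkOfDetNeZero !![1, 0; -γ, α] ?_, ?_⟩
    · rw [Matrix.det_fin_two_of]
      simp [hα]
    · rw [Matrix.det_fin_two_of]
      simp [hα]
    · have hc : (MvPolynomial.C α⁻¹ : MvPolynomial (Fin 3) k) * MvPolynomial.C α = 1 := by
        rw [← map_mul, inv_mul_cancel₀ hα, map_one]
      apply Matrix.ext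
      intro i j
      fin_cases i <;> fin_cases j <;>
        simp [Matrix.mul_apply, Fin.sum_univ_two, Matrix.GeneralLinearGroup.mkOfDetNeZero, div_eq_mul_inv]
      · linear_combination (MvPolynomial.X 0) * hc
      · linear_combination (MvPolynomial.X 2) * hc

end Groth.Agent.S13916
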