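import Groth.Statements.S13925
import Mathlib

set_option autoImplicit false
universe u v w x
open W4c1limliniiii

namespace Groth.Agent.S13925

theorem iSupIndep_three {k : Type u} [Field k] {E : Type w} [AddCommGroup E] [Module k E]
    (A B C : Submodule k E) (h1 : Disjoint A (B ⊔ C)) (h2 : Disjoint B (A ⊔ C))
    (h3 : Disjoint C (A ⊔ B)) : iSupIndep ![A, B, C] := by
  intro i
  have huniv : ∀ j : Fin 3, j = 0 ∨ j = 1 ∨ j = 2 := by decide
  fin_cases i
  · refine h1.mono_right (iSup₂_le fun j hj => ?_)
    rcases huniv j with rfl | rfl | rfl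
    · exact absurd rfl hj
    · exact le_sup_left
    · exact le_sup_right
  · refine h2.mono_right (iSup₂_le fun j hj => ?_)
    rcases huniv j with rfl | rfl | rfl
    · exact le_sup_left
    · exact absurd rfl hj
    · exact le_sup_right
  · refine h3.mono_right (iSup₂_le fun j hj => ?_)
    rcases huniv j with rfl | rfl | rfl
    · exact le_sup_left
    · exact le_sup_right
    · exact absurd rfl hj


/-- Let k be a field and U, E, W vector spaces over k with linear maps f : U → E, g' : E → U, f₂ : E → W
and g : W → E such that g' ∘ f = 0, the kernel of f₂ is contained in the image of g, and the image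
of g meets the kernel of g' only in 0 — the conditions holding at a point of a linked Grassmannian
at which the linking scalar vanishes. Let V₁ ≤ U and V₂ ≤ E be subspaces and let C' ≤ V₂ be a
subspace contained in the kernel of g' and meeting f(V₁) only in 0. Then the subspaces f(V₁), ker f₂
∩ V₂ and C' of E are independent: their sum is direct. (The published statement is for two
consecutive members V_{i-1}, V_i of a point of a linked Grassmannian at which the linking scalar
vanishes and adds the decomposition V_i = f(V_{i-1}) ⊕ (ker f_i ∩ V_i) ⊕ C with C ⊇ C'; this row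
states the independence, with only the three conditions the argument uses.) -/
theorem result (k : Type u) [Field k]
    (U : Type v) (E : Type w) (W : Type x) [AddCommGroup U] [Module k U] [AddCommGroup E]
    [Module k E] [AddCommGroup W] [Module k W]
    (f : U →ₗ[k] E) (g' : E →ₗ[k] U) (f₂ : E →ₗ[k] W) (g : W →ₗ[k] E)
    (hgf : g'.comp f = 0) (hII : LinearMap.ker f₂ ≤ LinearMap.range g)
    (hIII : LinearMap.range g ⊓ LinearMap.ker g' = ⊥)
    (V₁ : Submodule k U) (V₂ : Submodule k E) (C' : Submodule k E) (hC : C' ≤ V₂)
    (hCg : C' ≤ LinearMap.ker g') (hCf : Submodule.map f V₁ ⊓ C' = ⊥) :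
    iSupIndep ![Submodule.map f V₁, LinearMap.ker f₂ ⊓ V₂, C'] := by
  have hA : Submodule.map f V₁ ≤ LinearMap.ker g' := by
    rintro _ ⟨u, -, rfl⟩
    exact LinearMap.congr_fun hgf u
  have hB : LinearMap.ker f₂ ⊓ V₂ ≤ LinearMap.range g := inf_le_left.trans hII
  have hzero : ∀ b ∈ LinearMap.range g, b ∈ LinearMap.ker g' → b = 0 := by
    intro b hb hb'
    have : b ∈ LinearMap.range g ⊓ LinearMap.ker g' := ⟨hb, hb'⟩
    rw [hIII] at this
    exact this
  have hAC : ∀ a ∈ Submodule.map f V₁, a ∈ C' → a = 0 := by
    intro a ha ha'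
    have : a ∈ Submodule.map f V₁ ⊓ C' := ⟨ha, ha'⟩
    rw [hCf] at this
    exact this
  apply iSupIndep_three
  · rw [Submodule.disjoint_def]
    intro a ha habc
    obtain ⟨b, hb, c, hc, rfl⟩ := Submodule.mem_sup.mp habc
    have hb0 : b = 0 := by
      apply hzero b (hB hb)
      have : b = (b + c) - c := by abel
      rw [this]
      exact Submodule.sub_mem _ (hA ha) (hCg hc)
    subst hb0
    rw [zero_add] at ha ⊢
    exact hAC c ha hc
  · rw [Submodule.disjoint_def]
    intro b hb hbac
    obtain ⟨a, ha, c, hc, rfl⟩ := Submodule.mem_sup.mp hbac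
    exact hzero _ (hB hb) (Submodule.add_mem _ (hA ha) (hCg hc))
  · rw [Submodule.disjoint_def]
    intro c hc hcab
    obtain ⟨a, ha, b, hb, rfl⟩ := Submodule.mem_sup.mp hcab
    have hb0 : b = 0 := by
      apply hzero b (hB hb)
      have : b = (a + b) - a := by abel
      rw [this]
      exact Submodule.sub_mem _ (hCg hc) (hA ha)
    subst hb0
    rw [add_zero] at hc ⊢
    exact hAC a ha hc

end Groth.Agent.S13925
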