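import Groth.Statements.S13926
import Mathlib

set_option autoImplicit false
universe u v w
open W4c1limliniiii

namespace Groth.Agent.S13926

open Module in
theorem exists_between {k : Type u} [Field k] {E : Type w} [AddCommGroup E] [Module k E]
    [FiniteDimensional k E] (B : Submodule k E) (d : ℕ) (hd : d ≤ finrank k B) :
    ∀ (n : ℕ) (A : Submodule k E), A ≤ B → finrank k A + n = d →
      ∃ V : Submodule k E, A ≤ V ∧ V ≤ B ∧ finrank k V = d := by
  intro n
  induction n with
  | zero =>
    intro A hAB hA
    exact ⟨A, le_rfl, hAB, by simpa using hA⟩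
  | succ n ih =>
    intro A hAB hA
    have hlt : A < B := by
      refine lt_of_le_of_ne hAB ?_
      rintro rfl
      omega
    obtain ⟨x, hxB, hxA⟩ := SetLike.exists_of_lt hlt
    have hx0 : x ≠ 0 := by
      rintro rfl
      exact hxA (Submodule.zero_mem _)
    have hdisj : Disjoint A (k ∙ x) := (Submodule.disjoint_span_singleton' hx0).mpr hxA
    have hfr : finrank k ↥(A ⊔ k ∙ x) = finrank k A + 1 := by
      have h1 := Submodule.finrank_sup_add_finrank_inf_eq A (k ∙ x)
      rw [disjoint_iff.mp hdisj, finrank_bot, add_zero, finrank_span_singleton hx0] at h1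
      exact h1
    have hle : A ⊔ k ∙ x ≤ B :=
      sup_le hAB ((Submodule.span_singleton_le_iff_mem x B).mpr hxB)
    obtain ⟨V, hV1, hV2, hV3⟩ := ih (A ⊔ k ∙ x) hle (by omega)
    exact ⟨V, le_sup_left.trans hV1, hV2, hV3⟩

open Module in
theorem finrank_comap_ge {k : Type u} [Field k] {E₁ : Type v} {E₂ : Type w}
    [AddCommGroup E₁] [Module k E₁] [FiniteDimensional k E₁]
    [AddCommGroup E₂] [Module k E₂] [FiniteDimensional k E₂]
    (hdim : finrank k E₁ = finrank k E₂) (g : E₂ →ₗ[k] E₁) (V₁ : Submodule k E₁) :
    finrank k V₁ ≤ finrank k (V₁.comap g) := by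
  let q : (E₂ ⧸ V₁.comap g) →ₗ[k] (E₁ ⧸ V₁) := (V₁.comap g).mapQ V₁ g le_rfl
  have hq : Function.Injective q := by
    rw [← LinearMap.ker_eq_bot, Submodule.ker_mapQ]
    simp
  have h1 := LinearMap.finrank_le_finrank_of_injective hq
  have h2 := Submodule.finrank_quotient_add_finrank (V₁.comap g)
  have h3 := Submodule.finrank_quotient_add_finrank V₁
  omega


/-- Let k be a field, E₁ and E₂ finite-dimensional vector spaces over k of the same dimension, f : E₁ →
E₂ and g : E₂ → E₁ linear maps whose composite g ∘ f is multiplication by a scalar s, and V₁ a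
subspace of E₁. Then there is a subspace V₂ of E₂ of the same dimension as V₁ with f(V₁) ≤ V₂ and
g(V₂) ≤ V₁. (The published statement is the surjectivity of the truncation morphisms of a linked
Grassmannian, with a further assertion on lifting families; this row is the lifting step over a
field — over a point the chain of linked subspaces V_1, …, V_{n'} extends one index at a time — and
assumes only g ∘ f = s.) -/
theorem result (k : Type u) [Field k]
    (E₁ : Type v) (E₂ : Type w) [AddCommGroup E₁] [Module k E₁] [FiniteDimensional k E₁]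
    [AddCommGroup E₂] [Module k E₂] [FiniteDimensional k E₂]
    (hdim : Module.finrank k E₁ = Module.finrank k E₂)
    (f : E₁ →ₗ[k] E₂) (g : E₂ →ₗ[k] E₁) (s : k) (hgf : g.comp f = s • LinearMap.id)
    (V₁ : Submodule k E₁) :
    ∃ V₂ : Submodule k E₂, Module.finrank k V₂ = Module.finrank k V₁ ∧
      Submodule.map f V₁ ≤ V₂ ∧ Submodule.map g V₂ ≤ V₁ := by
  have hAB : Submodule.map f V₁ ≤ V₁.comap g := by
    rintro _ ⟨v, hv, rfl⟩
    rw [Submodule.mem_comap]
    have : g (f v) = s • v := LinearMap.congr_fun hgf v
    rw [this]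
    exact V₁.smul_mem s hv
  have h1 : Module.finrank k (Submodule.map f V₁) ≤ Module.finrank k V₁ :=
    Submodule.finrank_map_le f V₁
  have h2 := finrank_comap_ge hdim g V₁
  obtain ⟨V, hV1, hV2, hV3⟩ := exists_between (V₁.comap g) (Module.finrank k V₁) h2
    (Module.finrank k V₁ - Module.finrank k (Submodule.map f V₁)) (Submodule.map f V₁) hAB (by omega)
  exact ⟨V, hV3, hV1, Submodule.map_le_iff_le_comap.mpr hV2⟩

end Groth.Agent.S13926
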