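import Groth.Statements.S13936
import Mathlib.RingTheory.Ideal.Operations
import Mathlib.RingTheory.Ideal.Quotient.Operations

set_option autoImplicit false
universe u
open W4c1limliniiii

namespace Groth.Agent.S13936

section Helpers

open TensorProduct

variable (R : Type u) {SX : Type u} [CommRing R] [CommRing SX] [Algebra R SX]

def Dmap (x : SX) : SX ⊗[R] SX := (1 : SX) ⊗ₜ[R] x - x ⊗ₜ[R] (1 : SX)

lemma Dmap_mem (x : SX) : Dmap R x ∈ KaehlerDifferential.ideal R SX :=
  KaehlerDifferential.one_smul_sub_smul_one_mem_ideal R x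

lemma Dmap_add (x y : SX) : Dmap R (x + y) = Dmap R x + Dmap R y := by
  simp only [Dmap, TensorProduct.tmul_add, TensorProduct.add_tmul]
  abel

lemma Dmap_zero : Dmap R (0 : SX) = 0 := by
  simp [Dmap]

lemma Dmap_algebraMap (r : R) : Dmap R (algebraMap R SX r) = 0 := by
  simp only [Dmap, Algebra.algebraMap_eq_smul_one, TensorProduct.tmul_smul, TensorProduct.smul_tmul',
    sub_self]

lemma Dmap_mul (i x : SX) :
    Dmap R (i * x) = Dmap R i * Dmap R x + (i ⊗ₜ[R] (1 : SX)) * Dmap R x +
      Dmap R i * (x ⊗ₜ[R] (1 : SX)) := by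
  simp only [Dmap, mul_sub, sub_mul, Algebra.TensorProduct.tmul_mul_tmul, one_mul, mul_one]
  abel

noncomputable abbrev IJ (I : Ideal SX) : Ideal (SX ⊗[R] SX) :=
  (I.map (Algebra.TensorProduct.includeLeft (R := R) (S := R) (A := SX) (B := SX)).toRingHom) *
    KaehlerDifferential.ideal R SX

lemma Dmap_mem_of_mem_pow (I : Ideal SX) (m : ℕ) (hm : 1 ≤ m) (x : SX) (hx : x ∈ I ^ m) :
    Dmap R x ∈ IJ R I ⊔ KaehlerDifferential.ideal R SX ^ m := by
  induction m, hm using Nat.le_induction generalizing x with
  | base =>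
    rw [pow_one]
    exact Ideal.mem_sup_right (Dmap_mem R x)
  | succ m hm ih =>
    rw [pow_succ'] at hx
    refine Submodule.mul_induction_on hx ?_ ?_
    · intro i hi x' hx'
      have h1 := ih x' hx'
      have hx'I : x' ∈ I := Ideal.pow_le_self (by omega) hx'
      rw [Dmap_mul]
      refine add_mem (add_mem ?_ ?_) ?_
      · have : Dmap R i * Dmap R x' ∈ KaehlerDifferential.ideal R SX *
            (IJ R I ⊔ KaehlerDifferential.ideal R SX ^ m) :=
          Ideal.mul_mem_mul (Dmap_mem R i) h1
        rw [Ideal.mul_sup] at this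
        have hle : KaehlerDifferential.ideal R SX * IJ R I ⊔
            KaehlerDifferential.ideal R SX * KaehlerDifferential.ideal R SX ^ m ≤
            IJ R I ⊔ KaehlerDifferential.ideal R SX ^ (m + 1) := by
          refine sup_le_sup ?_ ?_
          · exact Ideal.mul_le_right (I := KaehlerDifferential.ideal R SX) (J := IJ R I)
          · rw [pow_succ']
        exact hle this
      · refine Ideal.mem_sup_left (Ideal.mul_mem_mul ?_ (Dmap_mem R x'))
        exact Ideal.mem_map_of_mem _ hi
      · rw [mul_comm]
        refine Ideal.mem_sup_left (Ideal.mul_mem_mul ?_ (Dmap_mem R i))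
        exact Ideal.mem_map_of_mem _ hx'I
    · intro a b ha hb
      rw [Dmap_add]
      exact add_mem ha hb

end Helpers

section Main

open TensorProduct

variable (R SY SX : Type u) [CommRing R] [CommRing SY] [CommRing SX] [Algebra R SY] [Algebra R SX]
  [Algebra SY SX] [IsScalarTower R SY SX] (σ : SX →ₐ[R] R) (n : ℕ)

noncomputable abbrev Kid : Ideal (PP16.P n R SX) :=
  ((RingHom.ker σ.toRingHom).map (algebraMap SX (PP16.P n R SX))) * PP16.augIdeal n R SX

lemma Kid_le (z : PP16.P n R SX) (hz : z ∈ Kid R SX σ n) :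
    z ∈ RingHom.ker σ.toRingHom • (PP16.augIdeal n R SX).restrictScalars SX := by
  refine Submodule.mul_induction_on hz ?_ ?_
  · intro a ha t ht
    have key : ∀ t ∈ PP16.augIdeal n R SX, a * t ∈
        RingHom.ker σ.toRingHom • (PP16.augIdeal n R SX).restrictScalars SX := by
      unfold Ideal.map at ha
      induction ha using Submodule.span_induction with
      | mem a ha =>
        obtain ⟨i, hi, rfl⟩ := ha
        intro t ht
        rw [← Algebra.smul_def]
        exact Submodule.smul_mem_smul hi ht
      | zero =>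
        intro t ht
        rw [zero_mul]
        exact zero_mem _
      | add a b _ _ ha hb =>
        intro t ht
        rw [add_mul]
        exact add_mem (ha t ht) (hb t ht)
      | smul w a _ ha =>
        intro t ht
        rw [smul_eq_mul, mul_assoc, mul_comm w, mul_assoc]
        exact ha _ (Ideal.mul_mem_right _ _ ht)
    exact key t ht
  · intro a b ha hb
    exact add_mem ha hb

noncomputable def rho0 : SX ⊗[R] SX →ₐ[R] SX :=
  Algebra.TensorProduct.lift ((Algebra.ofId R SX).comp σ) (AlgHom.id R SX)
    (fun _ _ => Commute.all _ _)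

lemma rho0_tmul (a c : SX) : rho0 R SX σ (a ⊗ₜ[R] c) = algebraMap R SX (σ a) * c := by
  simp [rho0, Algebra.ofId_apply]

lemma rho0_Dmap (x : SX) : rho0 R SX σ (Dmap R x) = x - algebraMap R SX (σ x) := by
  simp [Dmap, rho0_tmul]

lemma map_rho0_le :
    (KaehlerDifferential.ideal R SX).map (rho0 R SX σ).toRingHom ≤ RingHom.ker σ.toRingHom := by
  rw [← KaehlerDifferential.span_range_eq_ideal, Ideal.map_span, Ideal.span_le]
  rintro _ ⟨_, ⟨x, rfl⟩, rfl⟩
  show σ (rho0 R SX σ (Dmap R x)) = 0
  rw [rho0_Dmap, map_sub, AlgHom.commutes]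
  simp

noncomputable def rho : PP16.P n R SX →+* SX ⧸ (RingHom.ker σ.toRingHom) ^ (n + 1) :=
  Ideal.Quotient.lift _
    ((Ideal.Quotient.mk ((RingHom.ker σ.toRingHom) ^ (n + 1))).comp (rho0 R SX σ).toRingHom)
    (fun a ha => by
      rw [RingHom.comp_apply, Ideal.Quotient.eq_zero_iff_mem]
      have h := Ideal.pow_right_mono (map_rho0_le R SX σ) (n + 1)
      rw [← Ideal.map_pow] at h
      exact h (Ideal.mem_map_of_mem _ ha))

lemma rho_mk (x : SX ⊗[R] SX) :
    rho R SX σ n (Ideal.Quotient.mk _ x) = Ideal.Quotient.mk _ (rho0 R SX σ x) := rfl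

lemma rho_eq_zero (z : PP16.P n R SX)
    (hz : z ∈ RingHom.ker σ.toRingHom • (PP16.augIdeal n R SX).restrictScalars SX) :
    rho R SX σ n z = 0 := by
  refine Submodule.smul_induction_on hz ?_ ?_
  · intro i hi t _
    rw [Algebra.smul_def, map_mul]
    have : algebraMap SX (PP16.P n R SX) i = Ideal.Quotient.mk _ (i ⊗ₜ[R] (1 : SX)) := rfl
    have hi' : σ i = 0 := hi
    rw [this, rho_mk, rho0_tmul, hi', map_zero, zero_mul, map_zero, zero_mul]
  · intro a b ha hb
    rw [map_add, ha, hb, add_zero]

lemma tensorMap_Dmap (b : SY) :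
    PP16.tensorMap R SY R SX (Dmap R b) = Dmap R (algebraMap SY SX b) := by
  simp [Dmap, PP16.tensorMap_tmul]

lemma map_mk_Dmap (b : SY) :
    PP16.map n R SY R SX (Ideal.Quotient.mk _ (Dmap R b)) =
      Ideal.Quotient.mk _ (Dmap R (algebraMap SY SX b)) := by
  rw [PP16.map_mk, tensorMap_Dmap]

theorem main :
    (∀ y ∈ PP16.augIdeal n R SY,
        PP16.map n R SY R SX y ∈
          RingHom.ker σ.toRingHom • (PP16.augIdeal n R SX).restrictScalars SX) ↔
      (∀ b : SY, algebraMap SY SX b ∈ RingHom.ker σ.toRingHom →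
        algebraMap SY SX b ∈ RingHom.ker σ.toRingHom ^ (n + 1)) := by
  constructor
  · intro hL b hb
    have hy : Ideal.Quotient.mk _ (Dmap R b) ∈ PP16.augIdeal n R SY :=
      Ideal.mem_map_of_mem _ (Dmap_mem R b)
    have h1 := rho_eq_zero R SX σ n _ (hL _ hy)
    rw [map_mk_Dmap, rho_mk, rho0_Dmap] at h1
    have hb' : σ (algebraMap SY SX b) = 0 := hb
    rw [hb', map_zero, sub_zero] at h1
    exact Ideal.Quotient.eq_zero_iff_mem.1 h1
  · intro hR
    have hle : PP16.augIdeal n R SY ≤ (Kid R SX σ n).comap (PP16.map n R SY R SX).toRingHom := by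
      unfold PP16.augIdeal
      rw [Ideal.map_le_iff_le_comap]
      conv_lhs => rw [← KaehlerDifferential.span_range_eq_ideal]
      rw [Ideal.span_le]
      rintro _ ⟨b, rfl⟩
      show PP16.map n R SY R SX (Ideal.Quotient.mk _ (Dmap R b)) ∈ Kid R SX σ n
      rw [map_mk_Dmap]
      set r : R := σ (algebraMap SY SX b) with hr
      have hx : algebraMap SY SX (b - algebraMap R SY r) ∈ RingHom.ker σ.toRingHom := by
        show σ (algebraMap SY SX (b - algebraMap R SY r)) = 0
        rw [map_sub, map_sub, ← IsScalarTower.algebraMap_apply, AlgHom.commutes]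
        simp [hr]
      have hx' := hR _ hx
      have hD : Dmap R (algebraMap SY SX b) = Dmap R (algebraMap SY SX (b - algebraMap R SY r)) := by
        rw [map_sub, ← IsScalarTower.algebraMap_apply, sub_eq_add_neg, Dmap_add]
        have : Dmap R (-(algebraMap R SX r)) = 0 := by
          rw [← map_neg, Dmap_algebraMap]
        rw [this, add_zero]
      rw [hD]
      have h2 := Dmap_mem_of_mem_pow R (RingHom.ker σ.toRingHom) (n + 1) (by omega) _ hx'
      have h3 := Ideal.mem_map_of_mem
        (Ideal.Quotient.mk (KaehlerDifferential.ideal R SX ^ (n + 1))) h2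
      rw [Ideal.map_sup, Ideal.map_mul, Ideal.map_quotient_self, sup_bot_eq, Ideal.map_map] at h3
      exact h3
    intro y hy
    exact Kid_le R SX σ n _ (hle hy)

end Main

/-- Let R be a commutative ring, S_Y → S_X a homomorphism of R-algebras (an affine piece of a morphism f
: X → Y of schemes over Spec R) and σ : S_X → R an R-algebra retraction (a section of X over the
base) with kernel I. For e ≥ 1 write T^{e−1} for the augmentation ideal of the ring of principal
parts of order e − 1 (the kernel of P^{e−1} → the algebra; for e = 2 this is the module of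
differentials). Then the natural map T^{e−1}(S_Y/R) → T^{e−1}(S_X/R) takes values in I ·
T^{e−1}(S_X/R) — that is, the induced map f^*T^{e−1}_Y → T^{e−1}_X vanishes at the section σ — if
and only if every element of S_Y whose image in S_X lies in I has image in I^e, which says that the
fibre of f through σ contains the e-th order thickening of σ. (The published statement is for a
morphism of separated schemes over a base and sections over an arbitrary base change; this row is
the affine computation it reduces to.) -/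
theorem result (R SY SX : Type u)
    [CommRing R] [CommRing SY] [CommRing SX] [Algebra R SY] [Algebra R SX] [Algebra SY SX]
    [IsScalarTower R SY SX] (σ : SX →ₐ[R] R) (e : ℕ) (he : 1 ≤ e) :
    (∀ y ∈ PP16.augIdeal (e - 1) R SY,
        PP16.map (e - 1) R SY R SX y ∈
          RingHom.ker σ.toRingHom • (PP16.augIdeal (e - 1) R SX).restrictScalars SX) ↔
      (∀ b : SY, algebraMap SY SX b ∈ RingHom.ker σ.toRingHom →
        algebraMap SY SX b ∈ RingHom.ker σ.toRingHom ^ e) := by
  obtain ⟨n, rfl⟩ : ∃ n, e = n + 1 := ⟨e - 1, by omega⟩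
  exact main R SY SX σ n

end Groth.Agent.S13936
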