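import Groth.Statements.S13951
import Groth.Agent.Lib.Helper38.ConnFiniteSection

set_option autoImplicit false
universe u
open TateLoc

namespace Groth.Agent.S13951

open CategoryTheory AlgebraicGeometry CategoryTheory.Limits in
/-- Let S be a reduced scheme and I a finite locally free commutative S-group scheme (finite, flat, of
finite presentation) whose fibres over all points of S are connected. Then the restriction of the
sheaf of points of I from the big fppf site of S to the small etale site of S is the zero sheaf. -/
theorem result (S : Scheme.{u}) [IsReduced S]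
    (I : Over S) [GrpObj I] [IsCommMonObj I] [IsFinite I.hom] [Flat I.hom] [LocallyOfFinitePresentation I.hom]
    (hconn : ∀ s : S, ConnectedSpace ↥(I.hom.fiber s)) :
    IsZero ((BigSite.resEt Scheme.fppfPrecoverage S).obj (CGrpSh.pts Scheme.fppfPrecoverage I)) := by
  apply IsZero.of_full_of_faithful_of_isZero (sheafToPresheaf _ _)
  apply Functor.isZero
  intro U
  haveI : Etale (U.unop.hom) := U.unop.prop
  haveI : IsReduced U.unop.left :=
    Groth.Agent.Lib.Helper30.SmoothReduced.isReduced_of_smooth_scheme (Y := S) U.unop.hom
  have he : (MonObj.one : MonoidalCategoryStruct.tensorUnit (Over S) ⟶ I).left ≫ I.hom = 𝟙 S := Over.w (MonObj.one : MonoidalCategoryStruct.tensorUnit (Over S) ⟶ I)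
  have key : ∀ σ : (EtFppf.a S).obj U.unop ⟶ I,
      σ.left = U.unop.hom ≫ (MonObj.one : MonoidalCategoryStruct.tensorUnit (Over S) ⟶ I).left := by
    intro σ
    haveI : IsReduced ((EtFppf.a S).obj U.unop).left := ‹IsReduced U.unop.left›
    have h := Groth.Agent.Lib.Helper38.ConnFiniteSection.eq_comp_section I.hom
      (MonObj.one : MonoidalCategoryStruct.tensorUnit (Over S) ⟶ I).left he hconn σ.left
    have hw : σ.left ≫ I.hom = U.unop.hom := Over.w σ
    rw [hw] at h
    exact h
  show IsZero ((CGrpSh.ptsPre I).obj (Opposite.op ((EtFppf.a S).obj U.unop)))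
  haveI : Subsingleton ↑((CGrpSh.ptsPre I).obj (Opposite.op ((EtFppf.a S).obj U.unop))) := by
    constructor
    intro (x : ULift.{u + 1} (Additive ((EtFppf.a S).obj U.unop ⟶ I)))
      (y : ULift.{u + 1} (Additive ((EtFppf.a S).obj U.unop ⟶ I)))
    show x = y
    apply ULift.ext
    apply Additive.toMul.injective
    apply Over.OverMorphism.ext
    rw [key (Additive.toMul x.down), key (Additive.toMul y.down)]
  exact AddCommGrpCat.isZero_of_subsingleton _

end Groth.Agent.S13951
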