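import Groth.Statements.S13953
import Mathlib

set_option autoImplicit false
universe u
open TateLoc

namespace Groth.Agent.S13953


/-- Let (R_i) be a family of local commutative rings and R = ∏ R_i. Any open cover of Spec R can be
refined by one coming from a finite partition of the index set: there is a map c from the index set
to a finite set such that, for each value m, the basic open subset of Spec R defined by the
idempotent which is 1 at the indices with c i = m and 0 elsewhere (this open is the spectrum of the
product of the R_i over that class) is contained in some member of the cover. -/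
theorem result {ι : Type u} (R : ι → Type u)
    [∀ i, CommRing (R i)] [∀ i, IsLocalRing (R i)] {J : Type u}
    (U : J → TopologicalSpace.Opens (PrimeSpectrum (∀ i, R i))) (hU : ⨆ j, U j = ⊤) :
    ∃ (n : ℕ) (c : ι → Fin n), ∀ m : Fin n, ∃ j : J,
      PrimeSpectrum.basicOpen (fun i => if c i = m then (1 : R i) else 0) ≤ U j := by
  classical
  let T : Set (∀ i, R i) := {f | ∃ j, PrimeSpectrum.basicOpen f ≤ U j}
  have hT : Ideal.span T = ⊤ := by
    by_contra hne
    obtain ⟨M, hM, hle⟩ := Ideal.exists_le_maximal _ hne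
    let x : PrimeSpectrum (∀ i, R i) := ⟨M, hM.isPrime⟩
    have hx : x ∈ (⨆ j, U j) := by rw [hU]; trivial
    rw [TopologicalSpace.Opens.mem_iSup] at hx
    obtain ⟨j, hj⟩ := hx
    obtain ⟨_, ⟨r, rfl⟩, hxr, hrU⟩ :=
      PrimeSpectrum.isTopologicalBasis_basic_opens.exists_subset_of_mem_open hj (U j).isOpen
    have hrT : r ∈ T := ⟨j, hrU⟩
    exact hxr (hle (Ideal.subset_span hrT))
  obtain ⟨s, hsT, hs⟩ := (Ideal.span_eq_top_iff_finite T).mp hT
  have h1 : (1 : ∀ i, R i) ∈ Ideal.span (s : Set (∀ i, R i)) := by rw [hs]; trivial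
  obtain ⟨a, -, ha⟩ := Submodule.mem_span_finset.mp h1
  have hunit : ∀ i : ι, ∃ r ∈ s, IsUnit (r i) := by
    intro i
    by_contra hcon
    simp only [not_exists, not_and] at hcon
    have h2 := congrFun ha i
    rw [Finset.sum_apply] at h2
    have h3 : (∑ r ∈ s, (a r • r) i) ∈ IsLocalRing.maximalIdeal (R i) := by
      refine Ideal.sum_mem _ fun r hr => ?_
      change a r i * r i ∈ _
      exact Ideal.mul_mem_left _ _ (hcon r hr)
    rw [h2] at h3
    exact (IsLocalRing.maximalIdeal (R i)).ne_top_iff_one.mp (IsLocalRing.maximalIdeal.isMaximal (R i)).ne_top h3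
  choose r hrs hru using hunit
  let e : s ≃ Fin s.card := s.equivFin
  refine ⟨s.card, fun i => e ⟨r i, hrs i⟩, fun m => ?_⟩
  obtain ⟨j, hj⟩ := hsT (e.symm m).2
  refine ⟨j, le_trans ?_ hj⟩
  let w : ∀ i, R i := fun i => if e ⟨r i, hrs i⟩ = m then Ring.inverse (r i i) else 0
  have hw : (fun i => if e ⟨r i, hrs i⟩ = m then (1 : R i) else 0) = ((e.symm m : s) : ∀ i, R i) * w := by
    funext i
    simp only [Pi.mul_apply, w]
    split_ifs with h
    · have : ((e.symm m : s) : ∀ i, R i) = r i := by
        rw [← h, Equiv.symm_apply_apply]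
      rw [this, Ring.mul_inverse_cancel _ (hru i)]
    · rw [mul_zero]
  rw [hw]
  exact PrimeSpectrum.basicOpen_mul_le_left _ _

end Groth.Agent.S13953
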