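import Groth.Statements.S13959
import Groth.Agent.Lib.Lead.Infinitesimal

set_option autoImplicit false
universe u
open TateLoc

namespace Groth.Agent.S13959

open CategoryTheory AlgebraicGeometry in
/-- Let k be a field, L an extension field of k which is separable over k in the sense that L ⊗_k L is
reduced (not necessarily algebraic), and I an infinitesimal k-group scheme (finite over k with
one-point underlying space). If a k-scheme E with an action of I is an fppf torsor under I and
acquires a point over L, then E already has a k-point. (The published statement is the injectivity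
of H^1(k, I) → H^1(L, I); this row is its torsor form.) -/
theorem result (k : Type u) [Field k] (L : Type u) [Field L] [Algebra k L]
    [IsReduced (TensorProduct k L L)]
    (I E : Over (Spec (CommRingCat.of k))) [GrpObj I] [IsFinite I.hom] [Subsingleton ↥(I.left)]
    (a : AlgGrp.Action I E) (hE : NonAbH1.IsTorsorFor Scheme.fppfPrecoverage a)
    (hL : NonAbH1.HasSectionOver E (Spec.map (CommRingCat.ofHom (algebraMap k L)))) :
    NonAbH1.HasSectionOver E (𝟙 (Spec (CommRingCat.of k))) := by
  obtain ⟨x, hx⟩ := hL
  haveI : IsAffineHom I.hom := inferInstance
  haveI : IsAffine I.left := isAffine_of_isAffineHom I.hom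
  haveI : Surjective (Spec.map (CommRingCat.ofHom (algebraMap k L))) :=
    Groth.Agent.Lib.Lead.TorsorPush.surjective_of_nonempty_of_field
      (K := CommRingCat.of k) (Field.toIsField k) _
  haveI : IsReduced (Limits.pullback (Spec.map (CommRingCat.ofHom (algebraMap k L)))
      (Spec.map (CommRingCat.ofHom (algebraMap k L)))) :=
    isReduced_of_isOpenImmersion (pullbackSpecIso k L L).hom
  exact Groth.Agent.Lib.Lead.Infinitesimal.exists_section_descent a hE.1
    (Spec.map (CommRingCat.ofHom (algebraMap k L))) x hx

end Groth.Agent.S13959
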