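import Groth.Statements.S1396
-- no extra imports

set_option autoImplicit false
set_option linter.style.haveILetI false
universe u
open FlatMor

namespace Groth.Agent.S1396

open AlgebraicGeometry CategoryTheory Limits TopologicalSpace

/-- transfer of quasi-affineness along open immersions with comparable images. -/
lemma isQuasiAffine_of_range_le {A B X : Scheme.{u}} (a : A ⟶ X) (b : B ⟶ X)
    [IsOpenImmersion a] [IsOpenImmersion b] (h : a.opensRange ≤ b.opensRange)
    [B.IsQuasiAffine] [CompactSpace A] : A.IsQuasiAffine := by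
  have hr : Set.range a ⊆ Set.range b := h
  let l : A ⟶ B := IsOpenImmersion.lift b a hr
  have hl : l ≫ b = a := IsOpenImmersion.lift_fac b a hr
  haveI : IsOpenImmersion (l ≫ b) := by rw [hl]; infer_instance
  haveI : IsOpenImmersion l := IsOpenImmersion.of_comp l b
  exact Scheme.IsQuasiAffine.of_isImmersion l

lemma opensRange_ι_comp {X : Scheme.{u}} (P : X.Opens) (O : P.toScheme.Opens) :
    (O.ι ≫ P.ι).opensRange = P.ι ''ᵁ O := by
  rw [Scheme.Hom.opensRange_comp, Scheme.Opens.opensRange_ι]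

theorem result' {X Y : Scheme.{u}} (f : X ⟶ Y) :
    MoreMor.IsIndQuasiAffineHom f ↔ ∀ (V : Y.Opens), IsCompact (V : Set ↑Y) →
      IsQuasiSeparated (V : Set ↑Y) →
      ∀ (U : X.Opens) (hUV : U ≤ f ⁻¹ᵁ V), IsCompact (U : Set ↑X) →
        MoreMor.IsQuasiAffineHom (f.resLE V U hUV) := by
  constructor
  · intro hf V hVc hVs U hUV hUc
    haveI : CompactSpace U.toScheme := isCompact_iff_compactSpace.mp hUc
    haveI : QuasiSeparatedSpace V.toScheme := (isQuasiSeparated_iff_quasiSeparatedSpace _ V.2).mp hVs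
    haveI hqc : QuasiCompact (f.resLE V U hUV) := inferInstance
    refine ⟨hqc, fun W hW => ?_⟩
    set g := f.resLE V U hUV with hg
    let W' : Y.Opens := V.ι ''ᵁ W
    have hW' : IsAffineOpen W' := hW.image_of_isOpenImmersion V.ι
    have hind := hf W' hW'
    -- the open of `f⁻¹ W'`
    let O : (f ⁻¹ᵁ W').toScheme.Opens := (f ⁻¹ᵁ W').ι ⁻¹ᵁ (U.ι ''ᵁ (g ⁻¹ᵁ W))
    have hle : U.ι ''ᵁ (g ⁻¹ᵁ W) ≤ f ⁻¹ᵁ W' := by
      rw [hg, Scheme.Hom.resLE_preimage, Scheme.Hom.image_preimage_eq_opensRange_inf]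
      exact inf_le_right
    have hOimg : (f ⁻¹ᵁ W').ι ''ᵁ O = U.ι ''ᵁ (g ⁻¹ᵁ W) := by
      rw [Scheme.Hom.image_preimage_eq_opensRange_inf, Scheme.Opens.opensRange_ι]
      exact inf_eq_right.mpr hle
    have hcW : IsCompact ((g ⁻¹ᵁ W : U.toScheme.Opens) : Set U.toScheme) :=
      QuasiCompact.isCompact_preimage (f := g) _ W.2 hW.isCompact
    have hcO : IsCompact (O : Set (f ⁻¹ᵁ W').toScheme) := by
      have h1 : IsCompact ((U.ι ''ᵁ (g ⁻¹ᵁ W) : X.Opens) : Set X) := hcW.image U.ι.continuous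
      have := (f ⁻¹ᵁ W').ι.isOpenEmbedding.isInducing.isCompact_preimage_iff (K := ((U.ι ''ᵁ (g ⁻¹ᵁ W) : X.Opens) : Set X)) ?_
      · exact this.mpr h1
      · rw [Scheme.Opens.range_ι]; exact hle
    haveI : Scheme.IsQuasiAffine O.toScheme := hind O hcO
    haveI : CompactSpace (g ⁻¹ᵁ W).toScheme := isCompact_iff_compactSpace.mp hcW
    refine isQuasiAffine_of_range_le ((g ⁻¹ᵁ W).ι ≫ U.ι) (O.ι ≫ (f ⁻¹ᵁ W').ι) ?_
    rw [opensRange_ι_comp, opensRange_ι_comp, hOimg]
  · intro h V hV O hO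
    let U : X.Opens := (f ⁻¹ᵁ V).ι ''ᵁ O
    have hUV : U ≤ f ⁻¹ᵁ V := (f ⁻¹ᵁ V).ι_image_le O
    have hUc : IsCompact (U : Set X) := hO.image (f ⁻¹ᵁ V).ι.continuous
    have hq := h V hV.isCompact hV.isQuasiSeparated U hUV hUc
    haveI : IsAffine V.toScheme := hV
    haveI : Scheme.IsQuasiAffine ((f.resLE V U hUV) ⁻¹ᵁ ⊤).toScheme := hq.2 ⊤ (isAffineOpen_top _)
    haveI : CompactSpace O.toScheme := isCompact_iff_compactSpace.mp hO
    refine isQuasiAffine_of_range_le (O.ι ≫ (f ⁻¹ᵁ V).ι) (((f.resLE V U hUV) ⁻¹ᵁ ⊤).ι ≫ U.ι) ?_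
    rw [opensRange_ι_comp, opensRange_ι_comp]
    show U ≤ _
    rw [Scheme.Hom.preimage_top, Scheme.Hom.image_top_eq_opensRange, Scheme.Opens.opensRange_ι]


open AlgebraicGeometry CategoryTheory Limits in
/-- (1) ⇔ (4): a morphism f : X → Y is ind-quasi-affine (the preimage of every affine open is a scheme
all of whose quasi-compact opens are quasi-affine) if and only if for every quasi-compact
quasi-separated open V of Y and every quasi-compact open U of the preimage of V, the induced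
morphism U → V is quasi-affine (quasi-compact with quasi-affine preimages of affine opens). -/
theorem result {X Y : Scheme.{u}} (f : X ⟶ Y) :
    MoreMor.IsIndQuasiAffineHom f ↔ ∀ (V : Y.Opens), IsCompact (V : Set ↑Y) → IsQuasiSeparated (V : Set ↑Y) →
      ∀ (U : X.Opens) (hUV : U ≤ f ⁻¹ᵁ V), IsCompact (U : Set ↑X) → MoreMor.IsQuasiAffineHom (f.resLE V U hUV) := by
  exact result' f

end Groth.Agent.S1396
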