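import Groth.Statements.S13972
import Groth.Agent.Lib.Helper75.Kz5
import Groth.Agent.Lib.Helper75.Kz6

set_option autoImplicit false
universe u
open LCI

namespace Groth.Agent.S13972

/-- Let A' be an Artinian local ring, I a proper ideal of A', A = A'/I, R' a Noetherian A'-algebra flat
over A' and R = R'/IR'. Let f₁, …, f_r ∈ R be a Koszul-regular sequence (its Koszul complex is
acyclic in nonzero degrees) such that R/(f₁, …, f_r) is flat over A. Then: (1) for every choice of
lifts f'₁, …, f'_r ∈ R' of the f_i, the quotient R'/(f'₁, …, f'_r) is flat over A' and f'₁, …, f'_r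
is a Koszul-regular sequence in R'; (2) if J' ⊆ R' is an ideal with R'/J' flat over A' whose image
in R is the ideal (f₁, …, f_r), then J' is generated by any lifts f'₁, …, f'_r ∈ J' of the f_i. (The
published statement takes R' = R₀ ⊗_Λ A' for a flat Λ-algebra R₀ and a surjection A' → A of Artinian
local Λ-algebras; this row assumes only that R' is Noetherian and flat over A' and that I is a
proper ideal, which is what its proof uses. Regularity of a sequence is taken there in every
localization at a prime containing the ideal it generates, which over a Noetherian ring is the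
Koszul-acyclicity used in the proof and stated here.) -/
theorem result
    {A' : Type u} [CommRing A'] [IsLocalRing A'] [IsArtinianRing A'] (I : Ideal A') (hI : I ≠ ⊤)
    {R' : Type u} [CommRing R'] [Algebra A' R'] [IsNoetherianRing R'] [Module.Flat A' R']
    (r : ℕ) (f : Fin r → R' ⧸ I.map (algebraMap A' R'))
    (hf : LCI.IsKoszulRegularSeq (R' ⧸ I.map (algebraMap A' R')) (List.ofFn f))
    [Module.Flat (A' ⧸ I) ((R' ⧸ I.map (algebraMap A' R')) ⧸ Ideal.span (Set.range f))] :
    (∀ f' : Fin r → R', (∀ i, Ideal.Quotient.mk (I.map (algebraMap A' R')) (f' i) = f i) →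
        Module.Flat A' (R' ⧸ Ideal.span (Set.range f')) ∧ LCI.IsKoszulRegularSeq R' (List.ofFn f')) ∧
    (∀ (J' : Ideal R'), Module.Flat A' (R' ⧸ J') →
        J'.map (Ideal.Quotient.mk (I.map (algebraMap A' R'))) = Ideal.span (Set.range f) →
        ∀ f' : Fin r → R', (∀ i, f' i ∈ J') →
          (∀ i, Ideal.Quotient.mk (I.map (algebraMap A' R')) (f' i) = f i) →
          J' = Ideal.span (Set.range f')) := by
  have hspan : ∀ f' : Fin r → R', Ideal.ofList (List.ofFn f') = Ideal.span (Set.range f') := by
    intro f'
    unfold Ideal.ofList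
    congr 1
    ext x
    rw [Set.mem_ofPred_eq, List.mem_ofFn]
    rfl
  have hmapspan : ∀ f' : Fin r → R',
      (∀ i, Ideal.Quotient.mk (I.map (algebraMap A' R')) (f' i) = f i) →
      Ideal.span (Set.range f) =
        (Ideal.span (Set.range f')).map (Ideal.Quotient.mk (I.map (algebraMap A' R'))) := by
    intro f' hf'
    rw [Ideal.map_span, ← Set.range_comp]
    congr 2
    ext i
    exact (hf' i).symm
  refine ⟨fun f' hf' => ?_, fun J' hJ' hmap f' hmem hf' => ?_⟩
  · have hl : (List.ofFn f').map (Ideal.Quotient.mk (I.map (algebraMap A' R'))) = List.ofFn f := by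
      rw [List.map_ofFn]
      congr 1
      ext i
      exact hf' i
    have hreg : ∀ i : ℤ, i ≠ 0 → CategoryTheory.Limits.IsZero
        ((Koszul.koszul (R' ⧸ I.map (algebraMap A' R'))
          ((List.ofFn f').map (Ideal.Quotient.mk (I.map (algebraMap A' R'))))).homology i) := by
      rw [hl]
      exact hf
    have hF : Ideal.span (Set.range f) = (Ideal.ofList (List.ofFn f')).map
        (Ideal.Quotient.mk (I.map (algebraMap A' R'))) := by
      rw [hspan f']
      exact hmapspan f' hf'
    obtain ⟨h1, h2⟩ := Groth.Agent.Lib.Helper75.Kz.flat_and_regular_of_lift I hI (List.ofFn f')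
      hreg (Ideal.span (Set.range f)) hF
    refine ⟨?_, h2⟩
    rw [← hspan f']
    exact h1
  · refine Groth.Agent.Lib.Helper75.Kz.eq_of_flat_of_map_eq I hI J' (Ideal.span (Set.range f'))
      (Ideal.span_le.mpr ?_) ?_
    · rintro _ ⟨i, rfl⟩
      exact hmem i
    · rw [hmap]
      exact hmapspan f' hf'

end Groth.Agent.S13972
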