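import Groth.Statements.S13978
import Mathlib.LinearAlgebra.TensorProduct.Basis
import Mathlib.LinearAlgebra.Basis.VectorSpace
import Mathlib.RingTheory.Ideal.Quotient.Operations

set_option autoImplicit false
universe u v
open CategoryTheory
open scoped TensorProduct
open ArtFun ArtFun.ObsTheory

namespace Groth.Agent.S13978


lemma mem_range_rTensor_of_coord {k : Type u} [Field k] {V J : Type u} [AddCommGroup V] [Module k V]
    [AddCommGroup J] [Module k J] (Ω : Submodule k V) (ω : V ⊗[k] J)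
    (h : ∀ l : J →ₗ[k] k, Function.Surjective l →
      TensorProduct.rid k V (LinearMap.lTensor V l ω) ∈ Ω) :
    ω ∈ LinearMap.range (LinearMap.rTensor J Ω.subtype) := by
  classical
  let b := Module.Basis.ofVectorSpace k J
  let e := TensorProduct.equivFinsuppOfBasisRight (M := V) b
  have hω : ω = e.symm (e ω) := (e.symm_apply_apply ω).symm
  rw [hω, TensorProduct.equivFinsuppOfBasisRight_symm_apply]
  refine Submodule.sum_mem _ fun i _ => ?_
  have hi : e ω i ∈ Ω := by
    rw [TensorProduct.equivFinsuppOfBasisRight_apply]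
    refine h _ fun c => ⟨c • b i, ?_⟩
    simp
  exact ⟨⟨e ω i, hi⟩ ⊗ₜ b i, by simp⟩


section Main

variable {k : Type u} [Field k] {C' C : ArtFun.Art k k} (p : C' ⟶ C)

lemma ker_le_maximalIdeal : RingHom.ker p.toAlgHom ≤ IsLocalRing.maximalIdeal C' := by
  intro x hx
  rw [Art.mem_maximalIdeal_iff, ← Art.res_app p x]
  have h0 : p x = 0 := hx
  rw [h0, map_zero]

variable (hp : ArtFun.Art.IsSemismallExt p)

include hp in
lemma mul_eq_algebraMap_res_mul (c j : C') (hj : j ∈ RingHom.ker p.toAlgHom) :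
    c * j = algebraMap k C' (C'.res c) * j := by
  have h1 : c - algebraMap k C' (C'.res c) ∈ IsLocalRing.maximalIdeal C' := by
    rw [Art.mem_maximalIdeal_iff, map_sub, AlgHom.commutes]
    simp
  have h2 := Ideal.mul_mem_mul h1 hj
  rw [hp.2, Ideal.mem_bot, sub_mul, sub_eq_zero] at h2
  exact h2

include hp in
lemma coe_mul_eq_res_smul (c : C') (x : ↥(RingHom.ker p.toAlgHom)) :
    c * (x : C') = ((C'.res c • x : ↥(RingHom.ker p.toAlgHom)) : C') := by
  rw [Submodule.coe_smul_of_tower, Algebra.smul_def]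
  exact mul_eq_algebraMap_res_mul p hp c x x.2

/-- the ideal of elements of the kernel killed by a linear functional -/
def kerIdeal (l : ↥(RingHom.ker p.toAlgHom) →ₗ[k] k) : Ideal C' where
  carrier := {x | ∃ h : x ∈ RingHom.ker p.toAlgHom, l ⟨x, h⟩ = 0}
  add_mem' := by
    rintro a b ⟨ha, ha'⟩ ⟨hb, hb'⟩
    refine ⟨Ideal.add_mem _ ha hb, ?_⟩
    have h0 : (⟨a + b, Ideal.add_mem _ ha hb⟩ : ↥(RingHom.ker p.toAlgHom)) = ⟨a, ha⟩ + ⟨b, hb⟩ := rfl
    rw [h0, map_add, ha', hb', add_zero]
  zero_mem' := ⟨Ideal.zero_mem _, by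
    have h0 : (⟨0, Ideal.zero_mem _⟩ : ↥(RingHom.ker p.toAlgHom)) = 0 := rfl
    rw [h0, map_zero]⟩
  smul_mem' := by
    rintro c x ⟨hx, hx'⟩
    refine ⟨Ideal.mul_mem_left _ c hx, ?_⟩
    have h0 : (⟨c • x, Ideal.mul_mem_left _ c hx⟩ : ↥(RingHom.ker p.toAlgHom)) =
        (C'.res c) • ⟨x, hx⟩ := Subtype.ext (coe_mul_eq_res_smul p hp c ⟨x, hx⟩)
    rw [h0, map_smul, hx', smul_zero]

end Main


section Main2

variable {k : Type u} [Field k] {C' C : ArtFun.Art k k} (p : C' ⟶ C)
  (hp : ArtFun.Art.IsSemismallExt p)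

lemma gen_of_surjective {F : ArtFun.Art k k ⥤ Type v} {V : Type u} [AddCommGroup V] [Module k V]
    (T : ArtFun.ObsTheory F V) (u : F.obj C)
    (l : ↥(RingHom.ker p.toAlgHom) →ₗ[k] k) (hl : Function.Surjective l) :
    ∃ (B' B : ArtFun.Art k k) (t : B' ⟶ B) (ht : ArtFun.Art.IsSmallExt t)
      (w : F.obj B) (φ : ↥(RingHom.ker t.toAlgHom) ≃ₗ[k] k),
      TensorProduct.rid k V (LinearMap.lTensor V l (T.obs p hp u)) =
        TensorProduct.rid k V (LinearMap.lTensor V φ.toLinearMap (T.obs t ht.isSemismallExt w)) := by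
  obtain ⟨j₀, hj₀⟩ := hl 1
  have hKJ : kerIdeal p hp l ≤ RingHom.ker p.toAlgHom := fun x hx => hx.1
  have hK : kerIdeal p hp l ≤ IsLocalRing.maximalIdeal C' := hKJ.trans (ker_le_maximalIdeal p)
  -- the quotient map, typed in the quotient object
  let q : C' →ₐ[k] (Art.quot C' (kerIdeal p hp l) hK) := (Art.quotMk C' (kerIdeal p hp l) hK).toAlgHom
  have hq_surj : Function.Surjective q := Art.quotMk_surjective C' (kerIdeal p hp l) hK
  have hq_zero : ∀ x : C', q x = 0 ↔ x ∈ kerIdeal p hp l := fun x =>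
    Ideal.Quotient.eq_zero_iff_mem
  -- key congruence
  have key : ∀ x : ↥(RingHom.ker p.toAlgHom),
      q (x : C') = q (algebraMap k C' (l x) * (j₀ : C')) := by
    intro x
    rw [← sub_eq_zero, ← map_sub, hq_zero]
    have hmem : (x : C') - algebraMap k C' (l x) * (j₀ : C') ∈ RingHom.ker p.toAlgHom :=
      Ideal.sub_mem _ x.2 (Ideal.mul_mem_left _ _ j₀.2)
    refine ⟨hmem, ?_⟩
    have h0 : (⟨(x : C') - algebraMap k C' (l x) * (j₀ : C'), hmem⟩ : ↥(RingHom.ker p.toAlgHom)) =
        x - (l x) • j₀ := by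
      apply Subtype.ext
      rw [Submodule.coe_sub, Submodule.coe_smul_of_tower, Algebra.smul_def]
    rw [h0, map_sub, map_smul, hj₀, smul_eq_mul, mul_one, sub_self]
  have hj₀K : (j₀ : C') ∉ kerIdeal p hp l := by
    rintro ⟨h, h'⟩
    have h1 : l j₀ = 0 := h'
    rw [hj₀] at h1
    exact one_ne_zero h1
  -- the factored map
  have ht_ker : ∀ y : Art.quot C' (kerIdeal p hp l) hK,
      y ∈ RingHom.ker (Art.quotFactor hK p hKJ).toAlgHom →
        ∃ x : ↥(RingHom.ker p.toAlgHom), q (x : C') = y := by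
    intro y hy
    obtain ⟨x, rfl⟩ := hq_surj y
    exact ⟨⟨x, hy⟩, rfl⟩
  have hgen_mem : q (j₀ : C') ∈ RingHom.ker (Art.quotFactor hK p hKJ).toAlgHom := j₀.2
  have hgen_ne : q (j₀ : C') ≠ 0 := by
    rw [Ne, hq_zero]
    exact hj₀K
  have ht : Art.IsSmallExt (Art.quotFactor hK p hKJ) := by
    refine ⟨?_, ?_, ?_, ?_⟩
    · intro c
      obtain ⟨x, hx⟩ := hp.1 c
      exact ⟨q x, hx⟩
    · intro hbot
      rw [hbot, Ideal.mem_bot] at hgen_mem
      exact hgen_ne hgen_mem
    · refine ⟨⟨q (j₀ : C'), ?_⟩⟩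
      apply le_antisymm
      · intro y hy
        obtain ⟨x, rfl⟩ := ht_ker y hy
        rw [key x, map_mul]
        exact Ideal.mul_mem_left _ _ (Ideal.subset_span rfl)
      · rw [Ideal.submodule_span_eq, Ideal.span_le, Set.singleton_subset_iff]
        exact hgen_mem
    · rw [eq_bot_iff, Ideal.mul_le]
      intro a ha y hy
      obtain ⟨x, rfl⟩ := ht_ker y hy
      obtain ⟨a', rfl⟩ := hq_surj a
      have ha' : a' ∈ IsLocalRing.maximalIdeal C' := by
        rw [Art.mem_maximalIdeal_iff] at ha ⊢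
        exact ha
      have h2 := Ideal.mul_mem_mul ha' x.2
      rw [hp.2, Ideal.mem_bot] at h2
      rw [Ideal.mem_bot, ← map_mul, h2, map_zero]
  -- the identification of the kernel with k
  let ψ : k →ₗ[k] ↥(RingHom.ker (Art.quotFactor hK p hKJ).toAlgHom) :=
    LinearMap.toSpanSingleton k _ ⟨q (j₀ : C'), hgen_mem⟩
  have hκ : ∀ x : ↥(RingHom.ker p.toAlgHom), Art.kerToQuot hK p hKJ x = ψ (l x) := by
    intro x
    apply Subtype.ext
    change q (x : C') = (((l x) • (⟨q (j₀ : C'), hgen_mem⟩ :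
      ↥(RingHom.ker (Art.quotFactor hK p hKJ).toAlgHom)) :
      ↥(RingHom.ker (Art.quotFactor hK p hKJ).toAlgHom)) : Art.quot C' (kerIdeal p hp l) hK)
    rw [Submodule.coe_smul_of_tower, Algebra.smul_def, key x, map_mul, AlgHom.commutes]
  have hψ_inj : Function.Injective ψ := by
    rw [← LinearMap.ker_eq_bot, LinearMap.ker_eq_bot']
    intro c hc
    have hc' : c • (⟨q (j₀ : C'), hgen_mem⟩ :
      ↥(RingHom.ker (Art.quotFactor hK p hKJ).toAlgHom)) = 0 := hc
    rcases smul_eq_zero.1 hc' with h | h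
    · exact h
    · exact absurd (congrArg Subtype.val h) hgen_ne
  have hψ_surj : Function.Surjective ψ := by
    rintro ⟨y, hy⟩
    obtain ⟨x, hx⟩ := ht_ker y hy
    refine ⟨l x, ?_⟩
    rw [← hκ x]
    exact Subtype.ext hx
  let e : k ≃ₗ[k] ↥(RingHom.ker (Art.quotFactor hK p hKJ).toAlgHom) :=
    LinearEquiv.ofBijective ψ ⟨hψ_inj, hψ_surj⟩
  have hcomp : e.symm.toLinearMap ∘ₗ (Art.kerToQuot hK p hKJ).restrictScalars k = l := by
    apply LinearMap.ext
    intro x
    change e.symm (Art.kerToQuot hK p hKJ x) = l x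
    rw [hκ x]
    exact e.symm_apply_apply (l x)
  refine ⟨_, _, Art.quotFactor hK p hKJ, ht, u, e.symm, ?_⟩
  rw [T.obs_quot p hp _ hK hKJ ht.isSemismallExt u, ← LinearMap.lTensor_comp_apply, hcomp]

end Main2

/-- For obstruction theories of functors in the vector-space form, let k be a field, F a functor on
Artinian local k-algebras with residue field k and (V, ω) an obstruction theory for F — for each
surjection p : C' → C whose kernel J is killed by the maximal ideal and each u ∈ F(C) an obstruction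
ω(p, u) ∈ V ⊗_k J, zero exactly when u lifts, and compatible with replacing C' → C by C'/K → C for
ideals K ≤ J. Let Ω ⊆ V be the subspace spanned by the obstructions along tiny extensions (those p
whose kernel is one-dimensional), transported into V by the isomorphisms V ⊗ J ≅ V coming from
linear isomorphisms J ≅ k. Then for every p and u the obstruction ω(p, u) lies in the image of Ω ⊗_k
J → V ⊗_k J. (The published statement is for deformation categories and obstruction theories
functorial along all morphisms of extensions; this row assumes functoriality along quotients C'/K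
only, which is all its proof uses, and no condition on F.) -/
theorem result {k : Type u} [Field k]
    {F : ArtFun.Art k k ⥤ Type v} {V : Type u} [AddCommGroup V] [Module k V]
    (T : ArtFun.ObsTheory F V) {C' C : ArtFun.Art k k} (p : C' ⟶ C) (hp : ArtFun.Art.IsSemismallExt p)
    (u : F.obj C) :
    T.obs p hp u ∈ LinearMap.range (LinearMap.rTensor (↥(RingHom.ker p.toAlgHom))
      (Submodule.span k {v : V | ∃ (B' B : ArtFun.Art k k) (t : B' ⟶ B) (ht : ArtFun.Art.IsSmallExt t)
          (w : F.obj B) (φ : ↥(RingHom.ker t.toAlgHom) ≃ₗ[k] k),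
          v = TensorProduct.rid k V (LinearMap.lTensor V φ.toLinearMap (T.obs t ht.isSemismallExt w))}).subtype) := by
  apply mem_range_rTensor_of_coord
  intro l hl
  apply Submodule.subset_span
  exact gen_of_surjective p hp T u l hl

end Groth.Agent.S13978
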