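import Groth.Statements.S13987
import Groth.Agent.Lib.Helper21.RestrictIso
import Groth.Agent.Lib.Helper21.HomExtend2
import Groth.Agent.Lib.Helper21.SerreCoh
import Mathlib

set_option autoImplicit false
universe u
open CategoryTheory CategoryTheory.Limits AlgebraicGeometry
open CohGab

namespace Groth.Agent.S13987

section
open MorphismProperty

theorem isLocalization_of_fractions {C D : Type*} [Category C] [Category D] (L : C ⥤ D)
    [L.EssSurj]
    (h1 : ∀ ⦃A B : C⦄ (f₁ f₂ : A ⟶ B), L.map f₁ = L.map f₂ →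
      ∃ (A' : C) (t : A' ⟶ A), IsIso (L.map t) ∧ t ≫ f₁ = t ≫ f₂)
    (h2 : ∀ ⦃A B : C⦄ (h : L.obj A ⟶ L.obj B),
      ∃ (A' : C) (t : A' ⟶ A) (ψ : A' ⟶ B), IsIso (L.map t) ∧ L.map ψ = L.map t ≫ h) :
    L.IsLocalization ((MorphismProperty.isomorphisms D).inverseImage L) := by
  set W : MorphismProperty C := (MorphismProperty.isomorphisms D).inverseImage L with hWdef
  have hL : W.IsInvertedBy L := fun _ _ f hf => hf
  have hWm : W.IsMultiplicative := by rw [hWdef]; infer_instance
  have hcalc : W.HasRightCalculusOfFractions :=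
    { exists_rightFraction := fun X Y φ => by
        have hs : IsIso (L.map φ.s) := φ.hs
        obtain ⟨X', t, ψ, ht, hψ⟩ := h2 (L.map φ.f ≫ inv (L.map φ.s))
        have heq : L.map (t ≫ φ.f) = L.map (ψ ≫ φ.s) := by
          rw [L.map_comp, L.map_comp, hψ]
          simp
        obtain ⟨X'', t', ht', hcomp⟩ := h1 _ _ heq
        have hW : W (t' ≫ t) := by
          change IsIso (L.map (t' ≫ t))
          rw [L.map_comp]
          infer_instance
        refine ⟨RightFraction.mk (t' ≫ t) hW (t' ≫ ψ), ?_⟩
        simpa using hcomp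
      ext := fun X Y Y' f₁ f₂ s hs hfs => by
        have hs' : IsIso (L.map s) := hs
        have heq : L.map f₁ = L.map f₂ := by
          rw [← cancel_mono (L.map s), ← L.map_comp, ← L.map_comp, hfs]
        obtain ⟨X', t, ht, hcomp⟩ := h1 _ _ heq
        exact ⟨X', t, ht, hcomp⟩ }
  let G := Localization.lift L hL W.Q
  let e : W.Q ⋙ G ≅ L := Localization.fac L hL W.Q
  have hQe : W.Q.EssSurj := Localization.essSurj W.Q W
  have hfull : G.Full := by
    refine G.full_of_comp_essSurj W.Q (fun X₁ X₂ φ => ?_)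
    obtain ⟨X', t, ψ, ht, hψ⟩ := h2 (e.inv.app X₁ ≫ φ ≫ e.hom.app X₂)
    have hWt : W t := ht
    have hQt : IsIso (W.Q.map t) := Localization.inverts W.Q W t hWt
    refine ⟨inv (W.Q.map t) ≫ W.Q.map ψ, ?_⟩
    have n1 : G.map (W.Q.map t) = e.hom.app X' ≫ L.map t ≫ e.inv.app X₁ := by
      have := e.hom.naturality t
      simp only [Functor.comp_map] at this
      rw [← Category.assoc, ← this]
      simp
    have n2 : G.map (W.Q.map ψ) = e.hom.app X' ≫ L.map ψ ≫ e.inv.app X₂ := by
      have := e.hom.naturality ψ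
      simp only [Functor.comp_map] at this
      rw [← Category.assoc, ← this]
      simp
    rw [G.map_comp, Functor.map_inv, IsIso.inv_comp_eq, n1, n2, hψ]
    simp
  have hkey : ∀ ⦃X₁ X₂ : C⦄ (f g : X₁ ⟶ X₂), G.map (W.Q.map f) = G.map (W.Q.map g) →
      W.Q.map f = W.Q.map g := by
    intro X₁ X₂ f g hfg
    have n1 : ∀ k : X₁ ⟶ X₂, L.map k = e.inv.app X₁ ≫ G.map (W.Q.map k) ≫ e.hom.app X₂ := by
      intro k
      have := e.hom.naturality k
      simp only [Functor.comp_map] at this
      rw [this]
      simp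
    have heq : L.map f = L.map g := by rw [n1 f, n1 g, hfg]
    obtain ⟨X', t, ht, hcomp⟩ := h1 _ _ heq
    have hWt : W t := ht
    have hQt : IsIso (W.Q.map t) := Localization.inverts W.Q W t hWt
    rw [← cancel_epi (W.Q.map t), ← W.Q.map_comp, ← W.Q.map_comp, hcomp]
  have hfaithop : G.op.Faithful := by
    refine Functor.faithful_of_comp_of_hasLeftCalculusOfFractions W.Q.op W.op G.op ?_
    intro X₁ X₂ f g hfg
    have h' : G.map (W.Q.map f.unop) = G.map (W.Q.map g.unop) := by
      have := congrArg Quiver.Hom.unop hfg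
      simpa using this
    have := hkey _ _ h'
    change (W.Q.map f.unop).op = (W.Q.map g.unop).op
    rw [this]
  have hfaith : G.Faithful := by
    constructor
    intro X Y a b hab
    have : G.op.map a.op = G.op.map b.op := by
      change (G.map a).op = (G.map b).op
      rw [hab]
    exact Quiver.Hom.op_inj (G.op.map_injective this)
  have hGe : G.EssSurj :=
    ⟨fun Y => ⟨W.Q.obj (L.objPreimage Y), ⟨e.app _ ≪≫ L.objObjPreimageIso Y⟩⟩⟩
  have hGeq : G.IsEquivalence := { }
  exact Functor.IsLocalization.of_equivalence_target W.Q W L G.asEquivalence e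
end

section
open Groth.Agent.Lib.Helper78.ModStalk Groth.Agent.Lib.Helper78.ModStalkExact
  Groth.Agent.Lib.Helper21.StalkLen Groth.Agent.Lib.Helper21.CohStalkLocal
  Groth.Agent.Lib.Helper2.DCohFlat

variable {X : Scheme.{u}}

theorem stalk_bijective_of_supp {A B : X.Modules} (f : A ⟶ B) (x : X)
    (hk : x ∉ CohB1.support (kernel f)) (hc : x ∉ CohB1.support (cokernel f)) :
    Function.Bijective (stalkMap f x) := by
  have hk' : Subsingleton ((kernel f).presheaf.stalk x) := not_not.mp hk
  have hc' : Subsingleton ((cokernel f).presheaf.stalk x) := not_not.mp hc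
  constructor
  · rw [injective_iff_map_eq_zero]
    intro a ha
    have hfac : Abelian.coimage.π f ≫ Abelian.factorThruCoimage f = f := Abelian.coimage.fac f
    have h1 : stalkMap (Abelian.factorThruCoimage f) x (stalkMap (Abelian.coimage.π f) x a) = 0 := by
      rw [← stalkMap_comp, hfac]
      exact ha
    have h2 : stalkMap (Abelian.coimage.π f) x a = 0 := by
      apply stalkMap_injective_of_mono (Abelian.factorThruCoimage f) x
      rw [h1, map_zero]
    have hex := stalk_function_exact (kerSeq f) (kerSeq_shortExact f) x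
    obtain ⟨k, rfl⟩ := (hex a).mp h2
    have hk0 : k = 0 := @Subsingleton.elim _ hk' k 0
    rw [hk0, map_zero]
    rfl
  · intro b
    have h1 : stalkMap (cokernel.π f) x b = 0 := @Subsingleton.elim _ hc' _ _
    have hex := stalk_function_exact (cokerSeq f) (cokerSeq_shortExact f) x
    obtain ⟨c, rfl⟩ := (hex b).mp h1
    obtain ⟨a, rfl⟩ := stalkMap_surjective_of_epi (Abelian.factorThruImage f) x c
    refine ⟨a, ?_⟩
    have hfac : Abelian.factorThruImage f ≫ Abelian.image.ι f = f := Abelian.image.fac f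
    have : stalkMap f x a = stalkMap (Abelian.image.ι f) x (stalkMap (Abelian.factorThruImage f) x a) := by
      rw [← stalkMap_comp, hfac]
    rw [this]
    rfl

theorem supp_iff_isIso {A B : X.Modules} (f : A ⟶ B) (U : X.Opens) :
    (CohB1.support (kernel f) ⊆ (↑U : Set X)ᶜ ∧ CohB1.support (cokernel f) ⊆ (↑U : Set X)ᶜ) ↔
      IsIso ((Scheme.Modules.restrictFunctor U.ι).map f) := by
  constructor
  · rintro ⟨h1, h2⟩
    refine Groth.Agent.Lib.Helper21.RestrictIso.isIso_restrict_of_stalkMap_bijective f U
      (fun x hx => stalk_bijective_of_supp f x (fun h => h1 h hx) (fun h => h2 h hx))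
  · intro h
    have hb := fun x hx =>
      Groth.Agent.Lib.Helper21.HomExtend.stalkMap_bijective_of_isIso_restrict f U h x hx
    constructor
    · intro x hx hxU
      exact hx (subsingleton_stalk_kernel f x (hb x hxU).1)
    · intro x hx hxU
      exact hx (subsingleton_stalk_cokernel f x (hb x hxU).2)

end

section
open Groth.Agent.Lib.Helper78.ModStalk Groth.Agent.Lib.Helper78.ModStalkExact
  Groth.Agent.Lib.Helper21.StalkLen Groth.Agent.Lib.Helper21.CohStalkLocal
  Groth.Agent.Lib.Helper2.DCohFlat

variable {X : Scheme.{u}}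

theorem exists_equalizing [IsNoetherian X] (U : X.Opens) {A B : X.Modules} (hA : Coh.IsCoh A)
    (hB : Coh.IsCoh B) (f₁ f₂ : A ⟶ B)
    (h : (Scheme.Modules.restrictFunctor U.ι).map f₁ = (Scheme.Modules.restrictFunctor U.ι).map f₂) :
    ∃ (A' : X.Modules) (t : A' ⟶ A), Coh.IsCoh A' ∧
      IsIso ((Scheme.Modules.restrictFunctor U.ι).map t) ∧ t ≫ f₁ = t ≫ f₂ := by
  have h0 : (Scheme.Modules.restrictFunctor U.ι).map (f₁ - f₂) = 0 := by
    rw [Functor.map_sub, h, sub_self]
  refine ⟨kernel (f₁ - f₂), kernel.ι (f₁ - f₂),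
    Groth.Agent.Lib.Helper21.Devissage.isCoh_kernel _ hA hB, ?_, ?_⟩
  · refine Groth.Agent.Lib.Helper21.RestrictIso.isIso_restrict_of_stalkMap_bijective _ U
      (fun x hx => ⟨stalkMap_injective_of_mono _ x, ?_⟩)
    exact Groth.Agent.Lib.Helper21.PowFactor.stalkMap_kernelι_surjective_of_zero _ x
      (Groth.Agent.Lib.Helper21.PowFactor.stalkMap_eq_zero_of_restrict_eq_zero _ U h0 x hx)
  · have := kernel.condition (f₁ - f₂)
    rw [Preadditive.comp_sub, sub_eq_zero] at this
    exact this

theorem exists_fraction [IsNoetherian X] (U : X.Opens) {A B : X.Modules} (hA : Coh.IsCoh A)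
    (hB : Coh.IsCoh B)
    (h : (Scheme.Modules.restrictFunctor U.ι).obj A ⟶ (Scheme.Modules.restrictFunctor U.ι).obj B) :
    ∃ (A' : X.Modules) (t : A' ⟶ A) (ψ : A' ⟶ B), Coh.IsCoh A' ∧
      IsIso ((Scheme.Modules.restrictFunctor U.ι).map t) ∧
      (Scheme.Modules.restrictFunctor U.ι).map ψ = (Scheme.Modules.restrictFunctor U.ι).map t ≫ h := by
  have : B.IsQuasicoherent := hB.1
  let Z : TopologicalSpace.Closeds X := ⟨(U : Set X)ᶜ, U.isOpen.isClosed_compl⟩
  let I := Scheme.IdealSheafData.vanishingIdeal Z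
  have hsupp : (I.support : Set X) = (U : Set X)ᶜ :=
    Scheme.IdealSheafData.coe_support_vanishingIdeal Z
  obtain ⟨m, ψ, hψ⟩ := Groth.Agent.Lib.Helper21.HomExtend.exists_pow_hom_extension B A hA I U
    (by rw [hsupp, compl_compl]) h
  have hiso : IsIso ((Scheme.Modules.restrictFunctor U.ι).map (Dual3.idealMulι (I ^ m) A)) :=
    Groth.Agent.Lib.Helper21.RestrictIso.isIso_restrict_idealMulι (I ^ m) A U (fun x hx =>
      Groth.Agent.Lib.Helper21.HomExtend.notMem_support_pow I m x (by rw [hsupp]; exact fun h => h hx))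
  exact ⟨(Dual3.idealMul (I ^ m)).obj A, Dual3.idealMulι (I ^ m) A, ψ,
    Groth.Agent.Lib.Helper21.SerreCoh.isCoh_idealMul _ hA, hiso, hψ⟩

theorem exists_extension [IsNoetherian X] (U : X.Opens) (N : (U : Scheme.{u}).Modules)
    (hN : Coh.IsCoh N) :
    ∃ (M : X.Modules), Coh.IsCoh M ∧ Nonempty ((Scheme.Modules.restrictFunctor U.ι).obj M ≅ N) := by
  have : N.IsQuasicoherent := hN.1
  let F : X.Modules := (Scheme.Modules.pushforward U.ι).obj N
  have hF : F.IsQuasicoherent :=
    Groth.Agent.Lib.Helper2.KerSec.isQuasicoherent_pushforward_of_qcqs U.ι N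
  let i : N ⟶ F.restrict U.ι := (Scheme.Modules.restrictFunctorAdjCounitIso U.ι).inv.app N
  have hi : Mono i := inferInstance
  obtain ⟨G', i', e, -, hG', -⟩ :=
    Groth.Agent.Lib.Helper21.CohExtend.exists_coh_extension U F N i hN.2
  exact ⟨G', hG', ⟨e⟩⟩

end

section

variable {X : Scheme.{u}}

theorem main (X : Scheme.{u}) [IsNoetherian X]
    (U : X.Opens)
    (hres : ∀ M : X.Modules, Coh.IsCoh M → Coh.IsCoh ((Scheme.Modules.restrictFunctor U.ι).obj M)) :
    (ObjectProperty.lift (fun N : (↑U : Scheme.{u}).Modules => Coh.IsCoh N)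
        (ObjectProperty.ι (fun M : X.Modules => Coh.IsCoh M) ⋙ Scheme.Modules.restrictFunctor U.ι)
        (fun M => hres M.obj M.property)).IsLocalization
      (fun (A B : ObjectProperty.FullSubcategory (fun M : X.Modules => Coh.IsCoh M)) (f : A ⟶ B) =>
        CohB1.support (kernel f.hom) ⊆ (↑U : Set X)ᶜ ∧
          CohB1.support (cokernel f.hom) ⊆ (↑U : Set X)ᶜ) := by
  set L := ObjectProperty.lift (fun N : (↑U : Scheme.{u}).Modules => Coh.IsCoh N)
        (ObjectProperty.ι (fun M : X.Modules => Coh.IsCoh M) ⋙ Scheme.Modules.restrictFunctor U.ι)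
        (fun M => hres M.obj M.property) with hLdef
  have hmap : ∀ {A B : ObjectProperty.FullSubcategory (fun M : X.Modules => Coh.IsCoh M)}
      (f : A ⟶ B), (L.map f).hom = (Scheme.Modules.restrictFunctor U.ι).map f.hom := fun f => rfl
  have hiso : ∀ {A B : ObjectProperty.FullSubcategory (fun M : X.Modules => Coh.IsCoh M)}
      (f : A ⟶ B), IsIso (L.map f) ↔ IsIso ((Scheme.Modules.restrictFunctor U.ι).map f.hom) := by
    intro A B f
    rw [← hmap f]
    exact (isIso_iff_of_reflects_iso (L.map f)
      (ObjectProperty.ι (fun N : (↑U : Scheme.{u}).Modules => Coh.IsCoh N))).symm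
  have hW : (fun (A B : ObjectProperty.FullSubcategory (fun M : X.Modules => Coh.IsCoh M))
      (f : A ⟶ B) => CohB1.support (kernel f.hom) ⊆ (↑U : Set X)ᶜ ∧
          CohB1.support (cokernel f.hom) ⊆ (↑U : Set X)ᶜ) =
      (MorphismProperty.isomorphisms _).inverseImage L := by
    funext A B f
    apply propext
    rw [supp_iff_isIso]
    exact (hiso f).symm
  rw [hW]
  have hess : L.EssSurj := by
    constructor
    intro N
    obtain ⟨M, hM, ⟨e⟩⟩ := exists_extension U N.obj N.property
    exact ⟨⟨M, hM⟩, ⟨ObjectProperty.isoMk _ e⟩⟩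
  refine isLocalization_of_fractions L ?_ ?_
  · intro A B f₁ f₂ h
    have h' : (Scheme.Modules.restrictFunctor U.ι).map f₁.hom =
        (Scheme.Modules.restrictFunctor U.ι).map f₂.hom := by
      rw [← hmap, ← hmap, h]
    obtain ⟨A', t, hA', ht, hcomp⟩ := exists_equalizing U A.property B.property f₁.hom f₂.hom h'
    refine ⟨⟨A', hA'⟩, ObjectProperty.homMk t, (hiso _).mpr ht, ?_⟩
    ext1
    exact hcomp
  · intro A B h
    obtain ⟨A', t, ψ, hA', ht, hψ⟩ := exists_fraction U A.property B.property h.hom
    refine ⟨⟨A', hA'⟩, ObjectProperty.homMk t, ObjectProperty.homMk ψ, (hiso _).mpr ht, ?_⟩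
    ext1
    exact hψ

end

/-- Let X be a Noetherian scheme, Z ⊆ X a closed subset and U = X ∖ Z. Then restriction to U induces an
equivalence between the quotient abelian category Coh(X)/Coh_Z(X) (coherent modules modulo those
supported in Z) and Coh(U): the restriction functor Coh(X) ⥤ Coh(U) is a localization functor for
the class of morphisms of coherent O_X-modules whose kernel and cokernel (taken in O_X-modules) have
support contained in Z. The hypothesis that restriction to U preserves coherence always holds and is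
carried only to form the functor between the full subcategories. (The published statement is about
coherent sheaves twisted by a class in the second etale cohomology group of the units of the
structure sheaf; this row is its case of the trivial class, ordinary coherent sheaves.) -/
theorem result (X : Scheme.{u}) [IsNoetherian X]
    (U : X.Opens)
    (hres : ∀ M : X.Modules, Coh.IsCoh M → Coh.IsCoh ((Scheme.Modules.restrictFunctor U.ι).obj M)) :
    (ObjectProperty.lift (fun N : (↑U : Scheme.{u}).Modules => Coh.IsCoh N)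
        (ObjectProperty.ι (fun M : X.Modules => Coh.IsCoh M) ⋙ Scheme.Modules.restrictFunctor U.ι)
        (fun M => hres M.obj M.property)).IsLocalization
      (fun (A B : ObjectProperty.FullSubcategory (fun M : X.Modules => Coh.IsCoh M)) (f : A ⟶ B) =>
        CohB1.support (kernel f.hom) ⊆ (↑U : Set X)ᶜ ∧
          CohB1.support (cokernel f.hom) ⊆ (↑U : Set X)ᶜ) := by
  exact Groth.Agent.S13987.main X U hres

end Groth.Agent.S13987
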