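import Groth.Statements.S13989
import Mathlib

set_option autoImplicit false
universe v u v' u' v'' u''
open CategoryTheory CategoryTheory.Limits
open CohGab

namespace Groth.Agent.S13989

section aux

variable {A A' : Type u} [Category.{v} A] [Abelian A] [Category.{v} A'] [Abelian A']
  (i : A' ⥤ A) [i.Full] [i.Faithful] [PreservesFiniteLimits i] [PreservesFiniteColimits i]
  (J : ObjectProperty A) [J.IsSerreClass] [(J.inverseImage i).IsSerreClass]

/-- (F2) a morphism from an object of `J` to `i.obj Y` is killed by a `W'`-quotient of `Y`. -/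
lemma exists_quot
    (hsub : ∀ (M : A') (N : A) (f : N ⟶ i.obj M), Mono f → J N → i.essImage N)
    {Y : A'} {K : A} (k : K ⟶ i.obj Y) (hK : J K) :
    ∃ (Y₁ : A') (t : Y ⟶ Y₁), (J.inverseImage i).isoModSerre t ∧ k ≫ i.map t = 0 := by
  have hI : J (Abelian.image k) := J.prop_of_epi (Abelian.factorThruImage k) hK
  obtain ⟨M, ⟨eM⟩⟩ := hsub Y (Abelian.image k) (Abelian.image.ι k) inferInstance hI
  obtain ⟨m, hm⟩ : ∃ m : M ⟶ Y, i.map m = eM.hom ≫ Abelian.image.ι k :=
    ⟨i.preimage _, i.map_preimage _⟩
  haveI : Mono (i.map m) := by rw [hm]; infer_instance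
  haveI : Mono m := i.mono_of_mono_map inferInstance
  refine ⟨cokernel m, cokernel.π m, ?_, ?_⟩
  · apply ObjectProperty.isoModSerre_of_epi
    rw [ObjectProperty.monoModSerre_iff]
    have hS : (ShortComplex.mk m (cokernel.π m) (cokernel.condition m)).ShortExact :=
      { exact := ShortComplex.exact_cokernel m }
    let e1 : kernel (cokernel.π m) ≅ M :=
      IsLimit.conePointUniqueUpToIso (kernelIsKernel (cokernel.π m)) hS.fIsKernel
    have hM : (J.inverseImage i) M := by
      change J (i.obj M)
      exact J.prop_of_iso eM.symm hI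
    exact (J.inverseImage i).prop_of_iso e1.symm hM
  · rw [← Abelian.image.fac k, Category.assoc]
    have : Abelian.image.ι k = eM.inv ≫ i.map m := by rw [hm, Iso.inv_hom_id_assoc]
    rw [this, Category.assoc, ← i.map_comp, cokernel.condition, i.map_zero, comp_zero, comp_zero]

/-- (F1) a `W`-morphism into `i.obj X` is dominated by a `W'`-subobject of `X`. -/
lemma exists_sub
    (hquot : ∀ (M : A') (N : A) (p : i.obj M ⟶ N), Epi p → J N → i.essImage N)
    {X : A'} {N : A} (s : N ⟶ i.obj X) (hs : J.isoModSerre s) :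
    ∃ (M : A') (s₁ : M ⟶ X) (π : N ⟶ i.obj M),
      (J.inverseImage i).isoModSerre s₁ ∧ Epi π ∧ π ≫ i.map s₁ = s ∧ Mono s₁ := by
  obtain ⟨C', ⟨eC⟩⟩ := hquot X (cokernel s) (cokernel.π s) inferInstance hs.2
  obtain ⟨c, hc⟩ : ∃ c : X ⟶ C', i.map c = cokernel.π s ≫ eC.inv :=
    ⟨i.preimage _, i.map_preimage _⟩
  haveI : Epi (i.map c) := by rw [hc]; infer_instance
  haveI : Epi c := i.epi_of_epi_map inferInstance
  have hsc : s ≫ i.map c = 0 := by rw [hc, cokernel.condition_assoc, zero_comp]
  refine ⟨kernel c, kernel.ι c, kernel.lift (i.map c) s hsc ≫ (PreservesKernel.iso i c).inv,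
    ?_, ?_, ?_, inferInstance⟩
  · apply ObjectProperty.isoModSerre_of_mono
    rw [ObjectProperty.epiModSerre_iff]
    have hS : (ShortComplex.mk (kernel.ι c) c (kernel.condition c)).ShortExact :=
      { exact := ShortComplex.exact_kernel c }
    let e1 : cokernel (kernel.ι c) ≅ C' :=
      IsColimit.coconePointUniqueUpToIso (cokernelIsCokernel (kernel.ι c)) hS.gIsCokernel
    have hC : (J.inverseImage i) C' := by
      change J (i.obj C')
      exact J.prop_of_iso eC.symm hs.2
    exact (J.inverseImage i).prop_of_iso e1.symm hC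
  · have hex : (ShortComplex.mk s (i.map c) hsc).Exact := by
      have h0 := ShortComplex.exact_cokernel s
      let eS : ShortComplex.mk s (cokernel.π s) (cokernel.condition s) ≅
          ShortComplex.mk s (i.map c) hsc :=
        ShortComplex.isoMk (Iso.refl _) (Iso.refl _) eC.symm (by simp) (by
          dsimp
          rw [hc, Category.id_comp])
      exact (ShortComplex.exact_iff_of_iso eS).1 h0
    haveI : Epi (kernel.lift (i.map c) s hsc) := by
      have := (ShortComplex.exact_iff_epi_kernel_lift _).1 hex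
      exact this
    infer_instance
  · rw [Category.assoc, PreservesKernel.iso_inv_ι, kernel.lift_ι]

/-- `i` maps `W'` into `W`. -/
lemma isoModSerre_map {X Y : A'} (f : X ⟶ Y) (hf : (J.inverseImage i).isoModSerre f) :
    J.isoModSerre (i.map f) :=
  ⟨J.prop_of_iso (PreservesKernel.iso i f) hf.1, J.prop_of_iso (PreservesCokernel.iso i f) hf.2⟩

end aux

/-- Let A be an abelian category, A' a full abelian subcategory (given as a fully faithful exact functor
i : A' ⥤ A) and J a Serre subcategory of A, with J' = J ∩ A' (the preimage of J under i, a Serre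
subcategory of A'). Assume that every subobject and every quotient object, in A, of an object of A'
which belongs to J belongs to A' (lies in the essential image of i). Then the functor A'/J' ⥤ A/J
induced between the quotient categories is fully faithful: for L : A ⥤ Q and L' : A' ⥤ Q'
localization functors at the morphisms whose kernel and cokernel lie in J, resp. J', every functor Φ
: Q' ⥤ Q with L' ⋙ Φ ≅ i ⋙ L is full and faithful. -/
theorem result
    {A A' : Type u} [Category.{v} A] [Abelian A] [Category.{v} A'] [Abelian A']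
    (i : A' ⥤ A) [i.Full] [i.Faithful] [PreservesFiniteLimits i] [PreservesFiniteColimits i]
    (J : ObjectProperty A) [J.IsSerreClass] [(J.inverseImage i).IsSerreClass]
    (hsub : ∀ (M : A') (N : A) (f : N ⟶ i.obj M), Mono f → J N → i.essImage N)
    (hquot : ∀ (M : A') (N : A) (p : i.obj M ⟶ N), Epi p → J N → i.essImage N)
    {Q : Type u'} [Category.{v'} Q] (L : A ⥤ Q) [L.IsLocalization J.isoModSerre]
    {Q' : Type u''} [Category.{v''} Q'] (L' : A' ⥤ Q') [L'.IsLocalization (J.inverseImage i).isoModSerre]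
    (Φ : Q' ⥤ Q) (e : L' ⋙ Φ ≅ i ⋙ L) : Φ.Full ∧ Φ.Faithful := by
  classical
  haveI : L'.EssSurj := Localization.essSurj L' (J.inverseImage i).isoModSerre
  have hnat : ∀ {X Y : A'} (f : X ⟶ Y),
      Φ.map (L'.map f) = e.hom.app X ≫ L.map (i.map f) ≫ e.inv.app Y := by
    intro X Y f
    have h := e.hom.naturality f
    simp only [Functor.comp_map] at h
    rw [← Category.assoc, ← h, Category.assoc, Iso.hom_inv_id_app, Category.comp_id]
  refine ⟨?_, ?_⟩
  · -- full
    apply Functor.full_of_comp_essSurj Φ L'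
    intro X Y φ
    obtain ⟨ρ, hρ⟩ := Localization.exists_rightFraction L J.isoModSerre
      (e.inv.app X ≫ φ ≫ e.hom.app Y)
    obtain ⟨Y₁, t, ht, hkt⟩ := exists_quot i J hsub (kernel.ι ρ.s ≫ ρ.f) ρ.hs.1
    obtain ⟨M, s₁, π, hs₁, hπ, fac, hs₁m⟩ := exists_sub i J hquot ρ.s ρ.hs
    have hWs₁ : J.isoModSerre (i.map s₁) := isoModSerre_map i J s₁ hs₁
    have hWt : J.isoModSerre (i.map t) := isoModSerre_map i J t ht
    have hWπ : J.isoModSerre π := by
      apply J.isoModSerre.of_postcomp π (i.map s₁) hWs₁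
      rw [fac]
      exact ρ.hs
    -- factor `ρ.f ≫ i.map t` through `π`
    have hex : (ShortComplex.mk (kernel.ι π) π (kernel.condition π)).Exact :=
      ShortComplex.exact_kernel π
    have hw : kernel.ι π ≫ ρ.f ≫ i.map t = 0 := by
      have h1 : kernel.ι π ≫ ρ.s = 0 := by
        rw [← fac, kernel.condition_assoc, zero_comp]
      have h2 : kernel.ι π = kernel.lift ρ.s (kernel.ι π) h1 ≫ kernel.ι ρ.s := by
        rw [kernel.lift_ι]
      rw [h2, Category.assoc]
      rw [Category.assoc] at hkt
      rw [hkt, comp_zero]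
    obtain ⟨ā, hā⟩ : ∃ ā : i.obj M ⟶ i.obj Y₁, π ≫ ā = ρ.f ≫ i.map t :=
      ⟨hex.desc (ρ.f ≫ i.map t) hw, hex.g_desc _ _⟩
    obtain ⟨a₁, ha₁⟩ : ∃ a₁ : M ⟶ Y₁, i.map a₁ = ā := ⟨i.preimage ā, i.map_preimage ā⟩
    haveI : IsIso (L'.map s₁) := Localization.inverts L' _ _ hs₁
    haveI : IsIso (L'.map t) := Localization.inverts L' _ _ ht
    haveI : IsIso (L.map π) := Localization.inverts L _ _ hWπ
    haveI : IsIso (L.map ρ.s) := Localization.inverts L _ _ ρ.hs
    refine ⟨inv (L'.map s₁) ≫ L'.map a₁ ≫ inv (L'.map t), ?_⟩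
    rw [← cancel_epi (Φ.map (L'.map s₁)), ← cancel_mono (Φ.map (L'.map t))]
    simp only [Functor.map_comp, Functor.map_inv, Category.assoc, IsIso.inv_hom_id,
      Category.comp_id, IsIso.hom_inv_id_assoc]
    rw [hnat a₁, hnat s₁, hnat t]
    have hφ : φ = e.hom.app X ≫ (e.inv.app X ≫ φ ≫ e.hom.app Y) ≫ e.inv.app Y := by
      simp
    rw [hφ, hρ]
    simp only [Category.assoc, Iso.inv_hom_id_app_assoc]
    congr 1
    simp only [← Category.assoc]
    congr 1
    simp only [Category.assoc]
    rw [← cancel_epi (L.map π)]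
    have h3 : L.map π ≫ L.map (i.map s₁) = L.map ρ.s := by rw [← L.map_comp, fac]
    rw [reassoc_of% h3]
    dsimp [MorphismProperty.RightFraction.map]
    simp only [Category.assoc]
    rw [IsIso.hom_inv_id_assoc, ← L.map_comp, ← L.map_comp, ← hā, ha₁]
  · -- faithful
    apply Functor.faithful_of_comp_of_hasLeftCalculusOfFractions L' (J.inverseImage i).isoModSerre Φ
    intro X₁ X₂ f g hfg
    have h1 : L.map (i.map f) = L.map (i.map g) := by
      rw [hnat f, hnat g] at hfg
      exact (cancel_mono (e.inv.app X₂)).1 ((cancel_epi (e.hom.app X₁)).1 hfg)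
    obtain ⟨Z, t, ht, fac⟩ := (MorphismProperty.map_eq_iff_postcomp L J.isoModSerre _ _).1 h1
    obtain ⟨Y₁, q, hq, hkq⟩ := exists_quot i J hsub (kernel.ι t) ht.1
    apply (MorphismProperty.map_eq_iff_postcomp L' (J.inverseImage i).isoModSerre _ _).2
    refine ⟨Y₁, q, hq, ?_⟩
    haveI : i.Additive := Functor.additive_of_preserves_binary_products i
    apply i.map_injective
    rw [← sub_eq_zero, ← i.map_sub, ← Preadditive.sub_comp, i.map_comp]
    have h0 : i.map (f - g) ≫ t = 0 := by
      rw [i.map_sub, Preadditive.sub_comp, fac, sub_self]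
    have h2 : i.map (f - g) = kernel.lift t (i.map (f - g)) h0 ≫ kernel.ι t := by
      rw [kernel.lift_ι]
    rw [h2, Category.assoc, hkq, comp_zero]

end Groth.Agent.S13989
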