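import Groth.Statements.S13991
import Groth.Agent.Lib.Helper21.SerreCoh

set_option autoImplicit false
universe u
open CategoryTheory AlgebraicGeometry
open CohGab

namespace Groth.Agent.S13991

/-- Let X be a Noetherian scheme and Z ⊆ X a closed subset. Then Z is irreducible (or empty) if and only
if Coh_Z(X), the coherent O_X-modules supported in Z, is an irreducible Serre subcategory of Coh(X),
i.e. it is not generated as a Serre subcategory by two Serre subcategories properly contained in it:
whenever J₁, J₂ are Serre classes on coherent modules (middle term of a short exact sequence of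
coherent modules belongs iff both outer terms do), both contained in Coh_Z, such that every Serre
class on coherent modules containing J₁ and J₂ contains Coh_Z, then J₁ or J₂ contains Coh_Z.
Consequently the points of X correspond to the irreducible Serre subcategories of finite type other
than the zero subcategory. (The published statement says 'Z is irreducible iff Coh_Z is irreducible'
and deduces a bijection between the points of X and all irreducible Serre subcategories of finite
type; the zero subcategory Coh_∅ is irreducible in this sense while ∅ is not an irreducible space,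
so irreducibility of Z is read here as 'irreducible or empty'. The published statement is also about
coherent sheaves twisted by a class in the second etale cohomology group of the units of the
structure sheaf; this row is its case of the trivial class.) -/
theorem result (X : Scheme.{u}) [IsNoetherian X]
    (Z : TopologicalSpace.Closeds X) :
    IsPreirreducible (↑Z : Set X) ↔
    ∀ J₁ J₂ : ObjectProperty X.Modules, (∀ S : ShortComplex X.Modules, S.ShortExact → Coh.IsCoh S.X₁ → Coh.IsCoh S.X₂ →
        Coh.IsCoh S.X₃ → (J₁ S.X₂ ↔ J₁ S.X₁ ∧ J₁ S.X₃)) → (∀ S : ShortComplex X.Modules, S.ShortExact → Coh.IsCoh S.X₁ → Coh.IsCoh S.X₂ →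
        Coh.IsCoh S.X₃ → (J₂ S.X₂ ↔ J₂ S.X₁ ∧ J₂ S.X₃)) →
      (∀ M : X.Modules, Coh.IsCoh M → J₁ M → CohB1.support M ⊆ (↑Z : Set X)) →
      (∀ M : X.Modules, Coh.IsCoh M → J₂ M → CohB1.support M ⊆ (↑Z : Set X)) →
      (∀ Q : ObjectProperty X.Modules, (∀ S : ShortComplex X.Modules, S.ShortExact → Coh.IsCoh S.X₁ → Coh.IsCoh S.X₂ →
        Coh.IsCoh S.X₃ → (Q S.X₂ ↔ Q S.X₁ ∧ Q S.X₃)) →
        (∀ M : X.Modules, Coh.IsCoh M → J₁ M → Q M) → (∀ M : X.Modules, Coh.IsCoh M → J₂ M → Q M) →
        ∀ M : X.Modules, Coh.IsCoh M → CohB1.support M ⊆ (↑Z : Set X) → Q M) →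
      (∀ M : X.Modules, Coh.IsCoh M → CohB1.support M ⊆ (↑Z : Set X) → J₁ M) ∨
        (∀ M : X.Modules, Coh.IsCoh M → CohB1.support M ⊆ (↑Z : Set X) → J₂ M) := by
  have hclS : ∀ {M : X.Modules}, Coh.IsCoh M → IsClosed (CohB1.support M) :=
    fun hM => Groth.Agent.Lib.Helper21.Devissage.isClosed_support_of_isCoh hM
  constructor
  · intro hpre J₁ J₂ hJ₁ hJ₂ hsub₁ hsub₂ hgen
    -- the point of `Z` to be caught, if any
    have main : ∀ (good : X.Modules → Prop),
        (∀ M : X.Modules, Coh.IsCoh M → good M →
          ∀ E : X.Modules, Coh.IsCoh E → CohB1.support E ⊆ (↑Z : Set X) →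
            CohB1.support E ⊆ CohB1.support M) →
        (∃ M : X.Modules, Coh.IsCoh M ∧ good M ∧ (J₁ M ∨ J₂ M)) →
        (∀ M : X.Modules, Coh.IsCoh M → CohB1.support M ⊆ (↑Z : Set X) → J₁ M) ∨
          (∀ M : X.Modules, Coh.IsCoh M → CohB1.support M ⊆ (↑Z : Set X) → J₂ M) := by
      rintro good hgood ⟨M₀, hM₀, hg, h | h⟩
      · exact Or.inl fun M hM hs =>
          Groth.Agent.Lib.Helper21.SerreCoh.IsSerre.of_support_subset hJ₁ hM₀ hM h
            (hgood M₀ hM₀ hg M hM hs)
      · exact Or.inr fun M hM hs =>
          Groth.Agent.Lib.Helper21.SerreCoh.IsSerre.of_support_subset hJ₂ hM₀ hM h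
            (hgood M₀ hM₀ hg M hM hs)
    rcases (↑Z : Set X).eq_empty_or_nonempty with hemp | hne
    · refine main (fun _ => True) (fun M _ _ E _ hE => ?_) ?_
      · rw [hemp] at hE
        exact hE.trans (Set.empty_subset _)
      · by_contra hcon
        push Not at hcon
        obtain ⟨Z0, hZ0⟩ := Limits.HasZeroObject.zero (C := X.Modules)
        have hZ0c := Groth.Agent.Lib.Helper21.Devissage.isCoh_of_isZero hZ0
        refine hgen (fun _ => False) (fun S _ _ _ _ => by simp)
          (fun M hM h1 => (hcon M hM trivial).1 h1) (fun M hM h2 => (hcon M hM trivial).2 h2)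
          Z0 hZ0c ?_
        intro x hx
        exfalso
        apply hx
        refine ⟨fun s t => ?_⟩
        have h0 : ∀ s : Z0.presheaf.stalk x, s = 0 := by
          intro s
          obtain ⟨U, hxU, s', rfl⟩ := TopCat.Presheaf.exists_germ_eq Z0.presheaf s
          haveI := Groth.Agent.Lib.Helper21.Devissage.subsingleton_sections_of_isZero hZ0 U
          have : s' = 0 := Subsingleton.elim _ _
          rw [this, map_zero]
        rw [h0 s, h0 t]
    · have hirr : IsIrreducible (↑Z : Set X) := ⟨hne, hpre⟩
      have hξ : closure {hirr.genericPoint} = (↑Z : Set X) := by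
        have := hirr.isGenericPoint_genericPoint_closure
        rw [Z.isClosed.closure_eq] at this
        exact this.def
      have hξZ : hirr.genericPoint ∈ (↑Z : Set X) := by
        have hmem : hirr.genericPoint ∈ closure {hirr.genericPoint} :=
          subset_closure (Set.mem_singleton _)
        generalize hirr.genericPoint = y at hmem hξ
        rw [hξ] at hmem
        exact hmem
      refine main (fun M => hirr.genericPoint ∈ CohB1.support M) (fun M hM hg E _ hE => ?_) ?_
      · refine hE.trans ?_
        rw [← hξ]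
        exact (hclS hM).closure_subset_iff.mpr (Set.singleton_subset_iff.mpr hg)
      · by_contra hcon
        push Not at hcon
        have h1 := hgen (fun M : X.Modules => CohB1.support M ⊆ (↑Z : Set X) ∧
            hirr.genericPoint ∉ CohB1.support M)
          (Groth.Agent.Lib.Helper21.SerreCoh.isSerre_support_and_notMem _ _)
          (fun M hM h1 => ⟨hsub₁ M hM h1, fun hg => (hcon M hM hg).1 h1⟩)
          (fun M hM h2 => ⟨hsub₂ M hM h2, fun hg => (hcon M hM hg).2 h2⟩)
          (Groth.Agent.Lib.Helper21.SerreCoh.quotO Z)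
          (Groth.Agent.Lib.Helper21.SerreCoh.isCoh_quotO Z)
          (Groth.Agent.Lib.Helper21.SerreCoh.support_quotO Z).le
        apply h1.2
        rw [Groth.Agent.Lib.Helper21.SerreCoh.support_quotO Z]
        exact hξZ
  · intro h
    rw [isPreirreducible_iff_isClosed_union_isClosed]
    intro z₁ z₂ hz₁ hz₂ hsub
    by_contra hcon
    push Not at hcon
    obtain ⟨hn₁, hn₂⟩ := hcon
    have hQO := Groth.Agent.Lib.Helper21.SerreCoh.support_quotO Z
    have hQc := Groth.Agent.Lib.Helper21.SerreCoh.isCoh_quotO Z
    have hgen' : ∀ Q : ObjectProperty X.Modules, (∀ S : ShortComplex X.Modules, S.ShortExact →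
        Coh.IsCoh S.X₁ → Coh.IsCoh S.X₂ → Coh.IsCoh S.X₃ → (Q S.X₂ ↔ Q S.X₁ ∧ Q S.X₃)) →
        (∀ M : X.Modules, Coh.IsCoh M → CohB1.support M ⊆ (↑Z : Set X) ∩ z₁ → Q M) →
        (∀ M : X.Modules, Coh.IsCoh M → CohB1.support M ⊆ (↑Z : Set X) ∩ z₂ → Q M) →
        ∀ M : X.Modules, Coh.IsCoh M → CohB1.support M ⊆ (↑Z : Set X) → Q M := by
      intro Q hQ hQ₁ hQ₂ M hM hMs
      obtain ⟨S, hS, ⟨e⟩, hS₁, hS₃, hs₁, hs₃⟩ := Groth.Agent.S0049.result X M hM
        (CohB1.support M ∩ z₁) (CohB1.support M ∩ z₂) ((hclS hM).inter hz₁)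
        ((hclS hM).inter hz₂) (by
          rw [← Set.inter_union_distrib_left]
          exact (Set.inter_eq_left.mpr (hMs.trans hsub)).symm)
      have hS₂ : Coh.IsCoh S.X₂ := Groth.Agent.Lib.Helper21.Devissage.isCoh_of_iso e.symm hM
      have hQ2 : Q S.X₂ := (hQ S hS hS₁ hS₂ hS₃).mpr
        ⟨hQ₂ _ hS₁ (hs₁.trans (Set.inter_subset_inter_left _ hMs)),
          hQ₁ _ hS₃ (hs₃.trans (Set.inter_subset_inter_left _ hMs))⟩
      exact Groth.Agent.Lib.Helper21.SerreCoh.IsSerre.of_iso hQ e hS₂ hM hQ2
    rcases h (fun M : X.Modules => CohB1.support M ⊆ (↑Z : Set X) ∩ z₁)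
      (fun M : X.Modules => CohB1.support M ⊆ (↑Z : Set X) ∩ z₂)
      (Groth.Agent.Lib.Helper21.SerreCoh.isSerre_support _)
      (Groth.Agent.Lib.Helper21.SerreCoh.isSerre_support _)
      (fun M _ hM => hM.trans Set.inter_subset_left)
      (fun M _ hM => hM.trans Set.inter_subset_left) hgen' with h1 | h2
    · have := h1 _ hQc hQO.le
      rw [hQO] at this
      exact hn₁ (this.trans Set.inter_subset_right)
    · have := h2 _ hQc hQO.le
      rw [hQO] at this
      exact hn₂ (this.trans Set.inter_subset_right)

end Groth.Agent.S13991
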