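import Mathlib
-- Template for statement S13992 (row 13991; see the milestone table for weights).
-- Copy to Groth/Agent/S13992.lean and replace the sorry. The statement below is byte-identical to the frozen
-- statement CAlg.GrothFrozen.S13992 (Groth/Statements/S13992.lean; the theorem CAlg.ext_two_subsingleton_planar_of_annihilators);
-- the grader kernel-checks Groth.Agent.S13992.result against that frozen type. Keep the theorem IN THIS FILE
-- (a `result` declared elsewhere and merely imported here is not credited); helpers may live anywhere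
-- under Groth/Agent/.
import Groth.Statements.S13992
import Groth.Agent.Lib.Helper68.TorMod
import Groth.Agent.Lib.Helper76.RegularLocalGlDim

set_option autoImplicit false
universe u
section Helpers
open CategoryTheory Abelian
namespace Groth.Agent.S13992

open Groth.Agent.Lib.Helper68 Groth.Agent.Lib.Helper76

section StepC
variable {S : Type u} [CommRing S]

/-- the `x`-trick: `Ext²_S(M,N) = 0`. -/
theorem ext_two_subsingleton (M N : Type u) [AddCommGroup M] [Module S M] [AddCommGroup N]
    [Module S N]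
    (hpd : ∀ (Q : Type u) [AddCommGroup Q] [Module S Q],
      HasProjectiveDimensionLT (ModuleCat.of S Q) 3)
    (x : S) (hx : IsSMulRegular M x) (n : ℕ) (I J : Ideal S)
    (hI : ∀ i ∈ I, ∀ m : M, i • m = 0) (hJ : ∀ j ∈ J, ∀ y : N, j • y = 0)
    (hxn : x ^ n ∈ I ⊔ J) :
    Subsingleton (Ext (ModuleCat.of S M) (ModuleCat.of S N) 2) := by
  let F : M →ₗ[S] M := x • LinearMap.id
  have hF : Function.Injective F := hx
  have hS := TorMod.sc_shortExact F (LinearMap.range F).mkQ (LinearMap.exact_map_mkQ_range F) hF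
    (Submodule.mkQ_surjective _)
  have hFx : ModuleCat.ofHom F = x • 𝟙 (ModuleCat.of S M) := by
    ext m
    rfl
  have hsurj : ∀ α : Ext (ModuleCat.of S M) (ModuleCat.of S N) 2, ∃ β : Ext (ModuleCat.of S M) (ModuleCat.of S N) 2, x • β = α := by
    intro α
    have := hpd (M ⧸ LinearMap.range F)
    obtain ⟨β, hβ⟩ := Ext.contravariant_sequence_exact₁ hS (ModuleCat.of S N) α (n₁ := 3) rfl
      (Ext.eq_zero_of_hasProjectiveDimensionLT _ 3 le_rfl)
    refine ⟨β, ?_⟩
    rw [← hβ]
    change x • β = (Ext.mk₀ (ModuleCat.ofHom F)).comp β _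
    rw [hFx, Ext.mk₀_smul, Ext.smul_comp, Ext.mk₀_id_comp]
  have hkillI : ∀ i ∈ I, ∀ α : Ext (ModuleCat.of S M) (ModuleCat.of S N) 2, i • α = 0 := by
    intro i hi α
    have h0 : i • 𝟙 (ModuleCat.of S M) = 0 := by
      ext m
      exact hI i hi m
    calc i • α = (Ext.mk₀ (i • 𝟙 _)).comp α (zero_add 2) := by
          rw [Ext.mk₀_smul, Ext.smul_comp, Ext.mk₀_id_comp]
      _ = 0 := by rw [h0, Ext.mk₀_zero, Ext.zero_comp]
  have hkillJ : ∀ j ∈ J, ∀ α : Ext (ModuleCat.of S M) (ModuleCat.of S N) 2, j • α = 0 := by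
    intro j hj α
    have h0 : j • 𝟙 (ModuleCat.of S N) = 0 := by
      ext m
      exact hJ j hj m
    rw [Ext.smul_eq_comp_mk₀, h0, Ext.mk₀_zero, Ext.comp_zero]
  have hkill : ∀ α : Ext (ModuleCat.of S M) (ModuleCat.of S N) 2, x ^ n • α = 0 := by
    intro α
    obtain ⟨i, hi, j, hj, e⟩ := Submodule.mem_sup.mp hxn
    rw [← e, add_smul, hkillI i hi, hkillJ j hj, add_zero]
  have hsurjn : ∀ k : ℕ, ∀ α : Ext (ModuleCat.of S M) (ModuleCat.of S N) 2,
      ∃ β : Ext (ModuleCat.of S M) (ModuleCat.of S N) 2, x ^ k • β = α := by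
    intro k
    induction k with
    | zero => intro α; exact ⟨α, by rw [pow_zero, one_smul]⟩
    | succ k ih =>
      intro α
      obtain ⟨β, rfl⟩ := ih α
      obtain ⟨γ, rfl⟩ := hsurj β
      exact ⟨γ, by rw [pow_succ, mul_smul]⟩
  refine ⟨fun a b => ?_⟩
  obtain ⟨a', rfl⟩ := hsurjn n a
  obtain ⟨b', rfl⟩ := hsurjn n b
  rw [hkill, hkill]

/-- lifting through an `S`-extension by `N` from the first syzygy of `M`. -/
theorem exists_lift (M N : Type u) [AddCommGroup M] [Module S M] [AddCommGroup N] [Module S N]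
    (hE2 : Subsingleton (Ext (ModuleCat.of S M) (ModuleCat.of S N) 2))
    {FS : Type u} [AddCommGroup FS] [Module S FS] [Module.Projective S FS] (q : FS →ₗ[S] M)
    (hq : Function.Surjective q)
    {X K : Type u} [AddCommGroup X] [Module S X] [AddCommGroup K] [Module S K]
    (a : N →ₗ[S] X) (b : X →ₗ[S] K) (ha : Function.Injective a) (hb : Function.Surjective b)
    (hab : Function.Exact a b) (θ : LinearMap.ker q →ₗ[S] K) :
    ∃ τ : LinearMap.ker q →ₗ[S] X, b ∘ₗ τ = θ := by
  have hS1 := TorMod.sc_shortExact (LinearMap.ker q).subtype q (LinearMap.exact_subtype_ker_map q)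
    (Submodule.subtype_injective _) hq
  have hE1 : ∀ α : Ext (ModuleCat.of S (LinearMap.ker q)) (ModuleCat.of S N) 1, α = 0 := by
    intro α
    obtain ⟨β, hβ⟩ := Ext.contravariant_sequence_exact₁ hS1 (ModuleCat.of S N) α (n₁ := 2) rfl
      (Subsingleton.elim _ _)
    have hP : Projective (ModuleCat.of S FS) := (IsProjective.iff_projective _).mp inferInstance
    have : β = 0 := Ext.eq_zero_of_projective β
    rw [← hβ, this, Ext.comp_zero]
  have hS2 := TorMod.sc_shortExact a b hab ha hb
  obtain ⟨x₂, hx₂⟩ := Ext.covariant_sequence_exact₃ (ModuleCat.of S (LinearMap.ker q)) hS2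
    (Ext.mk₀ (ModuleCat.ofHom θ)) (n₁ := 1) rfl (hE1 _)
  obtain ⟨τ', rfl⟩ := (Ext.mk₀_bijective _ _).2 x₂
  refine ⟨τ'.hom, ?_⟩
  rw [Ext.mk₀_comp_mk₀] at hx₂
  have := (Ext.mk₀_bijective _ _).1 hx₂
  have h2 := congrArg ModuleCat.Hom.hom this
  exact h2

end StepC



section StepD
variable {S R : Type u} [CommRing S] [CommRing R] [Algebra S R]
    {M N X : Type u} [AddCommGroup M] [Module S M] [Module R M] [IsScalarTower S R M]
    [AddCommGroup N] [Module S N] [Module R N] [IsScalarTower S R N]
    [AddCommGroup X] [Module S X] [Module R X] [IsScalarTower S R X]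

local notation "qS" => Finsupp.linearCombination S (id : M → M)
local notation "qR" => Finsupp.linearCombination R (id : M → M)
local notation "Φ" => (Finsupp.mapRange.linearMap (Algebra.linearMap S R) : (M →₀ S) →ₗ[S] (M →₀ R))

theorem exists_section (hπ : Function.Surjective (algebraMap S R)) (f : S)
    (hker : RingHom.ker (algebraMap S R) = Ideal.span {f})
    (y : S) (hy : IsSMulRegular N y) (n : ℕ) (I J : Ideal S)
    (hI : ∀ i ∈ I, ∀ m : M, i • m = 0) (hJ : ∀ j ∈ J, ∀ ν : N, j • ν = 0)
    (hyn : y ^ n ∈ I ⊔ J)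
    (a : N →ₗ[R] X) (b : X →ₗ[R] LinearMap.ker (Finsupp.linearCombination R (id : M → M)))
    (ha : Function.Injective a) (hab : Function.Exact a b)
    (τ : LinearMap.ker (Finsupp.linearCombination S (id : M → M)) →ₗ[S] X)
    (hτ : ∀ k, (b (τ k) : M →₀ R) =
      Finsupp.mapRange.linearMap (Algebra.linearMap S R) (k : M →₀ S)) :
    ∃ s : LinearMap.ker (Finsupp.linearCombination R (id : M → M)) →ₗ[R] X,
      b ∘ₗ s = LinearMap.id := by
  classical
  have hf0 : algebraMap S R f = 0 := by
    have : f ∈ RingHom.ker (algebraMap S R) := by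
      rw [hker]; exact Ideal.mem_span_singleton_self f
    exact RingHom.mem_ker.mp this
  have hfX : ∀ ξ : X, f • ξ = 0 := by
    intro ξ
    rw [← algebraMap_smul R f ξ, hf0, zero_smul]
  have hΦq : ∀ u : M →₀ S, qR (Φ u) = qS u := by
    intro u
    induction u using Finsupp.induction_linear with
    | zero => simp
    | add u v hu hv => rw [map_add, map_add, map_add, hu, hv]
    | single m s =>
      rw [Finsupp.mapRange.linearMap_apply, Finsupp.mapRange_single,
        Finsupp.linearCombination_single, Finsupp.linearCombination_single]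
      exact algebraMap_smul R s m
  have hΦf : ∀ u : M →₀ S, Φ (f • u) = 0 := by
    intro u
    rw [map_smul, ← algebraMap_smul R f (Φ u), hf0, zero_smul]
  have fmem : ∀ u : M →₀ S, f • u ∈ LinearMap.ker qS := by
    intro u
    rw [LinearMap.mem_ker, ← hΦq, hΦf, map_zero]
  -- key claim
  have key : ∀ u : M →₀ S, τ ⟨f • u, fmem u⟩ = 0 := by
    intro u
    set ξ := τ ⟨f • u, fmem u⟩ with hξ
    have hbξ : b ξ = 0 := by
      apply Subtype.ext
      rw [hτ]
      exact hΦf u
    obtain ⟨ν, hν⟩ := (hab ξ).mp hbξ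
    have h1 : ∀ i ∈ I, i • ξ = 0 := by
      intro i hi
      have hiu : i • u ∈ LinearMap.ker qS := by
        rw [LinearMap.mem_ker, map_smul]
        exact hI i hi _
      have : i • (⟨f • u, fmem u⟩ : LinearMap.ker qS) = f • ⟨i • u, hiu⟩ := by
        apply Subtype.ext
        change i • f • u = f • i • u
        rw [smul_comm]
      rw [hξ, ← map_smul, this, map_smul, hfX]
    have h2 : ∀ j ∈ J, j • ξ = 0 := by
      intro j hj
      rw [← hν, ← algebraMap_smul R j (a ν), ← map_smul, algebraMap_smul, hJ j hj, map_zero]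
    have h3 : y ^ n • ξ = 0 := by
      obtain ⟨i, hi, j, hj, e⟩ := Submodule.mem_sup.mp hyn
      rw [← e, add_smul, h1 i hi, h2 j hj, add_zero]
    have h4 : y ^ n • ν = 0 := by
      apply ha
      rw [map_zero, ← algebraMap_smul R (y ^ n) ν, map_smul, algebraMap_smul, hν, h3]
    have h5 : ν = 0 := by
      apply hy.pow n
      change y ^ n • ν = y ^ n • 0
      rw [h4, smul_zero]
    rw [← hν, h5, map_zero]
  -- surjectivity of Φ on kernels
  have hθ : ∀ k' : LinearMap.ker qR, ∃ k : LinearMap.ker qS, Φ (k : M →₀ S) = (k' : M →₀ R) := by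
    intro k'
    let g' : R → S := fun r => if r = 0 then 0 else Function.surjInv hπ r
    have hg'0 : g' 0 = 0 := if_pos rfl
    have hg' : ∀ r, algebraMap S R (g' r) = r := by
      intro r
      by_cases hr : r = 0
      · simp [g', hr]
      · simp only [g', if_neg hr]
        exact Function.surjInv_eq hπ r
    let u : M →₀ S := Finsupp.mapRange g' hg'0 (k' : M →₀ R)
    have hu : Φ u = (k' : M →₀ R) := by
      ext m
      simp only [Finsupp.mapRange.linearMap_apply, Finsupp.mapRange_apply, u,
        Algebra.linearMap_apply]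
      exact hg' _
    have huk : u ∈ LinearMap.ker qS := by
      rw [LinearMap.mem_ker, ← hΦq, hu]
      exact k'.2
    exact ⟨⟨u, huk⟩, hu⟩
  have hkerθ : ∀ k : LinearMap.ker qS, Φ (k : M →₀ S) = 0 → τ k = 0 := by
    intro k hΦk
    -- k = f • u
    let g : S → S := fun s => if h : s ∈ Ideal.span {f} ∧ s ≠ 0 then
      Classical.choose (Ideal.mem_span_singleton'.mp h.1) else 0
    have hg0 : g 0 = 0 := by
      simp [g]
    have hg : ∀ s, s ∈ Ideal.span {f} → f * g s = s := by
      intro s hs
      by_cases h0 : s = 0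
      · rw [h0, hg0, mul_zero]
      · have h : s ∈ Ideal.span {f} ∧ s ≠ 0 := ⟨hs, h0⟩
        simp only [g, dif_pos h]
        rw [mul_comm]
        exact Classical.choose_spec (Ideal.mem_span_singleton'.mp hs)
    let u : M →₀ S := Finsupp.mapRange g hg0 (k : M →₀ S)
    have hku : (k : M →₀ S) = f • u := by
      ext m
      have hm : (k : M →₀ S) m ∈ Ideal.span {f} := by
        rw [← hker, RingHom.mem_ker]
        have := DFunLike.congr_fun hΦk m
        simpa using this
      simp only [Finsupp.smul_apply, u, Finsupp.mapRange_apply, smul_eq_mul]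
      exact (hg _ hm).symm
    have : k = ⟨f • u, fmem u⟩ := Subtype.ext hku
    rw [this]
    exact key u
  have huniq : ∀ (k : LinearMap.ker qS) (k' : LinearMap.ker qR),
      Φ (k : M →₀ S) = (k' : M →₀ R) → τ (Classical.choose (hθ k')) = τ k := by
    intro k k' hk
    have h1 : Φ ((Classical.choose (hθ k') - k : LinearMap.ker qS) : M →₀ S) = 0 := by
      rw [Submodule.coe_sub, map_sub, Classical.choose_spec (hθ k'), hk, sub_self]
    have h2 := hkerθ _ h1
    have h3 := map_sub τ (Classical.choose (hθ k')) k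
    rw [h2] at h3
    exact (sub_eq_zero.mp h3.symm)
  let s : LinearMap.ker qR →ₗ[R] X :=
    { toFun := fun k' => τ (Classical.choose (hθ k'))
      map_add' := by
        intro k₁ k₂
        have := huniq (Classical.choose (hθ k₁) + Classical.choose (hθ k₂)) (k₁ + k₂) (by
          rw [Submodule.coe_add, map_add, Classical.choose_spec (hθ k₁),
            Classical.choose_spec (hθ k₂), Submodule.coe_add])
        rw [this]
        exact map_add τ _ _
      map_smul' := by
        intro r k'
        obtain ⟨t, rfl⟩ := hπ r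
        have e0 : Φ ((t • Classical.choose (hθ k') : LinearMap.ker qS) : M →₀ S) =
            (((algebraMap S R t) • k' : LinearMap.ker qR) : M →₀ R) := by
          rw [Submodule.coe_smul, map_smul, Classical.choose_spec (hθ k'), Submodule.coe_smul]
          exact (algebraMap_smul R t (k' : M →₀ R)).symm
        have := huniq (t • Classical.choose (hθ k')) ((algebraMap S R t) • k') e0
        rw [this]
        have h4 := map_smul τ t (Classical.choose (hθ k'))
        rw [h4, RingHom.id_apply]
        exact (algebraMap_smul R t _).symm }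
  refine ⟨s, ?_⟩
  ext1 k'
  change b (τ (Classical.choose (hθ k'))) = k'
  apply Subtype.ext
  rw [hτ]
  exact Classical.choose_spec (hθ k')

end StepD


open Groth.Agent.Lib.Helper68

section StepA
variable {R : Type u} [CommRing R]

/-- If every extension of `K` by `N` splits then `Ext¹(K,N) = 0`. -/
theorem ext_one_eq_zero_of_split (K N : Type u) [AddCommGroup K] [Module R K] [AddCommGroup N]
    [Module R N]
    (hsplit : ∀ (X : Type u) [AddCommGroup X] [Module R X] (a : N →ₗ[R] X) (b : X →ₗ[R] K),
      Function.Injective a → Function.Surjective b → Function.Exact a b →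
      ∃ s : K →ₗ[R] X, b ∘ₗ s = LinearMap.id)
    (α : Ext (ModuleCat.of R K) (ModuleCat.of R N) 1) : α = 0 := by
  let ρ : (K →₀ R) →ₗ[R] K := Finsupp.linearCombination R id
  have hρ : Function.Surjective ρ := Finsupp.linearCombination_id_surjective R K
  let ι : LinearMap.ker ρ →ₗ[R] (K →₀ R) := (LinearMap.ker ρ).subtype
  have hS := TorMod.sc_shortExact (A := LinearMap.ker ρ) ι ρ (LinearMap.exact_subtype_ker_map ρ)
    (Submodule.subtype_injective _) hρ
  have hP : Projective (ModuleCat.of R (K →₀ R)) := (IsProjective.iff_projective _).mp inferInstance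
  obtain ⟨x₁, hx₁⟩ := Ext.contravariant_sequence_exact₃ hS (ModuleCat.of R N) α
    (Ext.eq_zero_of_projective _) (n₀ := 0) rfl
  obtain ⟨φ', rfl⟩ := (Ext.mk₀_bijective _ _).2 x₁
  let φ : LinearMap.ker ρ →ₗ[R] N := φ'.hom
  -- pushout
  let D : Submodule R (N × (K →₀ R)) := LinearMap.range (LinearMap.prod φ (-ι))
  let a : N →ₗ[R] (N × (K →₀ R)) ⧸ D := D.mkQ ∘ₗ LinearMap.inl R N (K →₀ R)
  let ψ : (K →₀ R) →ₗ[R] (N × (K →₀ R)) ⧸ D := D.mkQ ∘ₗ LinearMap.inr R N (K →₀ R)
  have hD : D ≤ LinearMap.ker (ρ ∘ₗ LinearMap.snd R N (K →₀ R)) := by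
    rintro _ ⟨k, rfl⟩
    rw [LinearMap.mem_ker]
    change ρ (-(k : K →₀ R)) = 0
    rw [map_neg, neg_eq_zero]
    exact k.2
  let b : (N × (K →₀ R)) ⧸ D →ₗ[R] K := D.liftQ (ρ ∘ₗ LinearMap.snd R N (K →₀ R)) hD
  have hbmk : ∀ (ν : N) (u : K →₀ R), b (D.mkQ (ν, u)) = ρ u := fun ν u => rfl
  have ha : Function.Injective a := by
    rw [injective_iff_map_eq_zero]
    intro ν hν
    change D.mkQ (ν, 0) = 0 at hν
    rw [Submodule.mkQ_apply, Submodule.Quotient.mk_eq_zero] at hν
    obtain ⟨k, hk⟩ := hν
    have h1 : φ k = ν := congrArg Prod.fst hk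
    have h2 : -(k : K →₀ R) = 0 := congrArg Prod.snd hk
    have h3 : k = 0 := Subtype.ext (neg_eq_zero.mp h2)
    rw [← h1, h3, map_zero]
  have hb : Function.Surjective b := by
    intro k
    obtain ⟨u, rfl⟩ := hρ k
    exact ⟨D.mkQ (0, u), hbmk 0 u⟩
  have hab : Function.Exact a b := by
    intro ξ
    constructor
    · intro hξ
      obtain ⟨⟨ν, u⟩, rfl⟩ := D.mkQ_surjective ξ
      have hu : u ∈ LinearMap.ker ρ := by
        rw [LinearMap.mem_ker]; exact hξ
      refine ⟨ν + φ ⟨u, hu⟩, ?_⟩
      change D.mkQ (ν + φ ⟨u, hu⟩, 0) = D.mkQ (ν, u)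
      rw [← sub_eq_zero, ← map_sub, Submodule.mkQ_apply, Submodule.Quotient.mk_eq_zero]
      refine ⟨⟨u, hu⟩, ?_⟩
      change (φ ⟨u, hu⟩, -u) = (ν + φ ⟨u, hu⟩, 0) - (ν, u)
      ext <;> simp
    · rintro ⟨ν, rfl⟩
      exact (hbmk ν 0).trans (map_zero ρ)
  have hS' := TorMod.sc_shortExact a b hab ha hb
  -- morphism of short complexes
  have comm1 : ψ ∘ₗ ι = a ∘ₗ φ := by
    ext k
    change D.mkQ (0, (k : K →₀ R)) = D.mkQ (φ k, 0)
    rw [eq_comm, ← sub_eq_zero, ← map_sub, Submodule.mkQ_apply, Submodule.Quotient.mk_eq_zero]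
    refine ⟨k, ?_⟩
    change (φ k, -(k : K →₀ R)) = (φ k, 0) - (0, (k : K →₀ R))
    ext <;> simp
  let fm : TorMod.sc (A := LinearMap.ker ρ) ι ρ (LinearMap.exact_subtype_ker_map ρ) ⟶
      TorMod.sc a b hab :=
    ShortComplex.homMk (ModuleCat.ofHom φ) (ModuleCat.ofHom ψ) (𝟙 _) (by
      apply ModuleCat.hom_ext
      apply LinearMap.ext
      intro k
      exact (LinearMap.congr_fun comm1 k).symm) (by
      apply ModuleCat.hom_ext
      apply LinearMap.ext
      intro u
      rfl)
  have hnat := ShortComplex.ShortExact.extClass_naturality hS hS' fm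
  obtain ⟨s, hs⟩ := hsplit _ a b ha hb hab
  have hzero : hS'.extClass = 0 := by
    have h1 : ModuleCat.ofHom s ≫ ModuleCat.ofHom b = 𝟙 (ModuleCat.of R K) := by
      ext k
      exact LinearMap.congr_fun hs k
    have h2 := Ext.mk₀_id_comp hS'.extClass
    rw [← h2, ← h1, ← Ext.mk₀_comp_mk₀_assoc]
    change (Ext.mk₀ (ModuleCat.ofHom s)).comp
      ((Ext.mk₀ (TorMod.sc a b hab).g).comp hS'.extClass (zero_add 1)) (zero_add 1) = 0
    rw [ShortComplex.ShortExact.comp_extClass, Ext.comp_zero]
  rw [← hx₁]
  have h4 : fm.τ₁ = φ' := rfl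
  have h5 : fm.τ₃ = 𝟙 _ := rfl
  rw [h4, h5, Ext.mk₀_id_comp, hzero] at hnat
  exact hnat

/-- dimension shift: `Ext¹(ker q, N) = 0` gives `Ext²(M,N) = 0`. -/
theorem ext_two_subsingleton_of_syzygy (M N : Type u) [AddCommGroup M] [Module R M] [AddCommGroup N]
    [Module R N]
    (h1 : ∀ α : Ext (ModuleCat.of R (LinearMap.ker (Finsupp.linearCombination R (id : M → M))))
      (ModuleCat.of R N) 1, α = 0) :
    Subsingleton (Ext (ModuleCat.of R M) (ModuleCat.of R N) 2) := by
  let q : (M →₀ R) →ₗ[R] M := Finsupp.linearCombination R id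
  have hq : Function.Surjective q := Finsupp.linearCombination_id_surjective R M
  have hS := TorMod.sc_shortExact (A := LinearMap.ker q) (LinearMap.ker q).subtype q
    (LinearMap.exact_subtype_ker_map q) (Submodule.subtype_injective _) hq
  have hP : Projective (ModuleCat.of R (M →₀ R)) := (IsProjective.iff_projective _).mp inferInstance
  have h0 : ∀ α : Ext (ModuleCat.of R M) (ModuleCat.of R N) 2, α = 0 := by
    intro α
    obtain ⟨x₁, hx₁⟩ := Ext.contravariant_sequence_exact₃ hS (ModuleCat.of R N) α
      (Ext.eq_zero_of_projective _) (n₀ := 1) rfl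
    rw [← hx₁, h1 x₁, Ext.comp_zero]
  exact ⟨fun a b => by rw [h0 a, h0 b]⟩

end StepA


section Main
open Groth.Agent.Lib.Helper68 Groth.Agent.Lib.Helper76

theorem pow_mem_comap_sup {S R : Type u} [CommRing S] [CommRing R] [IsLocalRing R] (π : S →+* R)
    (hπ : Function.Surjective π) (I J : Ideal R) (n : ℕ)
    (hIJ : IsLocalRing.maximalIdeal R ^ n ≤ I ⊔ J) (xS : S)
    (hx : π xS ∈ IsLocalRing.maximalIdeal R) : xS ^ n ∈ I.comap π ⊔ J.comap π := by
  have h1 : π xS ^ n ∈ I ⊔ J := hIJ (Ideal.pow_mem_pow hx n)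
  obtain ⟨i, hi, k, hk, e⟩ := Submodule.mem_sup.mp h1
  obtain ⟨iS, rfl⟩ := hπ i
  obtain ⟨kS, rfl⟩ := hπ k
  have h2 : xS ^ n - iS - kS + iS ∈ I.comap π := by
    rw [Ideal.mem_comap]
    have : π (xS ^ n - iS - kS + iS) = π iS := by
      rw [map_add, map_sub, map_sub, map_pow, ← e]; ring
    rw [this]; exact hi
  have h3 : kS ∈ J.comap π := hk
  have := Submodule.add_mem_sup h2 h3
  convert this using 1
  ring

theorem main (S : Type u) [CommRing S] [IsRegularLocalRing S] (hS : ringKrullDim S = 2) (f : S)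
    (R : Type u) [CommRing R] [IsLocalRing R] (π : S →+* R)
    (hπ : Function.Surjective π) (hker : RingHom.ker π = Ideal.span {f}) (I J : Ideal R) (n : ℕ)
    (hIJ : IsLocalRing.maximalIdeal R ^ n ≤ I ⊔ J) (M N : Type u) [AddCommGroup M] [Module R M]
    [AddCommGroup N] [Module R N]
    (hI : I ≤ Module.annihilator R M) (hJ : J ≤ Module.annihilator R N) (x : R)
    (hx : x ∈ IsLocalRing.maximalIdeal R) (hxM : IsSMulRegular M x) (y : R)
    (hy : y ∈ IsLocalRing.maximalIdeal R) (hyN : IsSMulRegular N y) :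
    Subsingleton (Ext (ModuleCat.of R M) (ModuleCat.of R N) 2) := by
  let _ : Algebra S R := π.toAlgebra
  let _ : Module S M := Module.compHom M π
  have : IsScalarTower S R M := IsScalarTower.of_algebraMap_smul fun _ _ => rfl
  let _ : Module S N := Module.compHom N π
  have : IsScalarTower S R N := IsScalarTower.of_algebraMap_smul fun _ _ => rfl
  have hπ' : Function.Surjective (algebraMap S R) := hπ
  have hker' : RingHom.ker (algebraMap S R) = Ideal.span {f} := hker
  obtain ⟨xS, rfl⟩ := hπ x
  obtain ⟨yS, rfl⟩ := hπ y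
  have hxn := pow_mem_comap_sup π hπ I J n hIJ xS hx
  have hyn := pow_mem_comap_sup π hπ I J n hIJ yS hy
  have hIS : ∀ i ∈ I.comap π, ∀ m : M, i • m = 0 := fun i hi m =>
    Module.mem_annihilator.mp (hI hi) m
  have hJS : ∀ j ∈ J.comap π, ∀ ν : N, j • ν = 0 := fun j hj ν =>
    Module.mem_annihilator.mp (hJ hj) ν
  have hE2S : Subsingleton (Ext (ModuleCat.of S M) (ModuleCat.of S N) 2) :=
    ext_two_subsingleton M N
      (fun Q _ _ => hasProjectiveDimensionLT_of_isRegularLocalRing S 2 hS Q) xS hxM n _ _ hIS hJS hxn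
  apply ext_two_subsingleton_of_syzygy
  apply ext_one_eq_zero_of_split
  intro X _ _ a b ha hb hab
  let _ : Module S X := Module.compHom X π
  have : IsScalarTower S R X := IsScalarTower.of_algebraMap_smul fun _ _ => rfl
  let qS : (M →₀ S) →ₗ[S] M := Finsupp.linearCombination S (id : M → M)
  have hqS : Function.Surjective qS := Finsupp.linearCombination_id_surjective S M
  let Φ : (M →₀ S) →ₗ[S] (M →₀ R) := Finsupp.mapRange.linearMap (Algebra.linearMap S R)
  have hΦq : ∀ u : M →₀ S, Finsupp.linearCombination R (id : M → M) (Φ u) = qS u := by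
    intro u
    induction u using Finsupp.induction_linear with
    | zero => simp
    | add u v hu hv => rw [map_add, map_add, map_add, hu, hv]
    | single m s =>
      rw [Finsupp.mapRange.linearMap_apply, Finsupp.mapRange_single,
        Finsupp.linearCombination_single, Finsupp.linearCombination_single]
      exact algebraMap_smul R s m
  let θ : LinearMap.ker qS →ₗ[S] LinearMap.ker (Finsupp.linearCombination R (id : M → M)) :=
    { toFun := fun k => ⟨Φ (k : M →₀ S), by
        rw [LinearMap.mem_ker, hΦq]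
        exact k.2⟩
      map_add' := fun k₁ k₂ => Subtype.ext (by
        change Φ ((k₁ : M →₀ S) + (k₂ : M →₀ S)) = Φ (k₁ : M →₀ S) + Φ (k₂ : M →₀ S)
        rw [map_add])
      map_smul' := fun t k => Subtype.ext (by
        change Φ (t • (k : M →₀ S)) = t • Φ (k : M →₀ S)
        rw [map_smul]) }
  let aS : N →ₗ[S] X := a.restrictScalars S
  let bS : X →ₗ[S] LinearMap.ker (Finsupp.linearCombination R (id : M → M)) := b.restrictScalars S
  have haS : Function.Injective aS := ha
  have hbS : Function.Surjective bS := hb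
  have habS : Function.Exact aS bS := hab
  obtain ⟨τ, hτ⟩ := exists_lift M N hE2S qS hqS (X := X)
    (K := LinearMap.ker (Finsupp.linearCombination R (id : M → M))) aS bS haS hbS habS θ
  refine exists_section hπ' f hker' yS hyN n _ _ hIS hJS hyn a b ha hab τ ?_
  intro k
  have := LinearMap.congr_fun hτ k
  exact congrArg Subtype.val this

end Main

end Groth.Agent.S13992
end Helpers

open CategoryTheory
open CAlg

namespace Groth.Agent.S13992

/-- Let S be a regular local ring of Krull dimension two, f a non-zero element of S and R the quotient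
of S by f, assumed reduced (the local ring of a reduced planar curve singularity). Let M and N be
finitely generated R-modules, each admitting a non-zero-divisor in the maximal ideal of R,
annihilated by ideals I and J respectively, where I + J contains a power of the maximal ideal. Then
Ext²_R(M, N) = 0. (The published statement is global: Ext²(F, F') = 0 for torsion-free coherent
sheaves F and F' on a reduced projective curve over a characteristic-zero algebraically closed
field, supported on subcurves with no common irreducible component that meet only at points with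
planar singularities; this row is the vanishing on stalks to which it reduces, stated over an
arbitrary two-dimensional regular local ring.) -/
theorem result (S : Type u) [CommRing S] [IsRegularLocalRing S] (hS : ringKrullDim S = 2) (f : S) (hf : f ≠ 0) (R : Type u) [CommRing R] [IsLocalRing R] [IsReduced R] (π : S →+* R) (hπ : Function.Surjective π) (hker : RingHom.ker π = Ideal.span {f}) (I J : Ideal R) (n : ℕ) (hIJ : IsLocalRing.maximalIdeal R ^ n ≤ I ⊔ J) (M N : Type u) [AddCommGroup M] [Module R M] [Module.Finite R M] [AddCommGroup N] [Module R N] [Module.Finite R N] (hI : I ≤ Module.annihilator R M) (hJ : J ≤ Module.annihilator R N) (x : R) (hx : x ∈ IsLocalRing.maximalIdeal R) (hxM : IsSMulRegular M x) (y : R) (hy : y ∈ IsLocalRing.maximalIdeal R) (hyN : IsSMulRegular N y) : Subsingleton (Abelian.Ext (ModuleCat.of R M) (ModuleCat.of R N) 2) := by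
  exact main S hS f R π hπ hker I J n hIJ M N hI hJ x hx hxM y hy hyN

end Groth.Agent.S13992
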