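import Groth.Statements.S13993
import Mathlib.Algebra.Homology.DerivedCategory.Ext.ExactSequences
import Mathlib.Algebra.Homology.DerivedCategory.Ext.EnoughProjectives
import Mathlib.Algebra.Category.ModuleCat.Projective
import Mathlib.Algebra.Homology.ShortComplex.ModuleCat
import Mathlib.Tactic.LinearCombination
import Mathlib.Tactic.Ring
import Mathlib.RingTheory.MvPowerSeries.NoZeroDivisors
import Mathlib.LinearAlgebra.FiniteDimensional.Basic

set_option autoImplicit false
universe u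
open CategoryTheory
open CAlg

namespace Groth.Agent.S13993

section Helpers

variable {k A : Type u} [Field k] [CommRing A] [Algebra k A] (x y : A)

noncomputable def phi (hxy : y * x = 0) : (A ⧸ Ideal.span {x}) →ₗ[A] A :=
  Submodule.liftQ (Ideal.span {x}) (LinearMap.mulLeft A y) (by
    intro a ha
    rw [Ideal.mem_span_singleton'] at ha
    obtain ⟨b, rfl⟩ := ha
    simp only [LinearMap.mem_ker, LinearMap.mulLeft_apply]
    rw [mul_comm b x, ← mul_assoc, hxy, zero_mul])

theorem phi_mk (hxy : y * x = 0) (a : A) :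
    phi x y hxy (Ideal.Quotient.mk (Ideal.span {x}) a) = y * a := rfl

theorem comp_zero' (hxy : y * x = 0) :
    (Submodule.mkQ (Ideal.span {y})).comp (phi x y hxy) = 0 := by
  apply LinearMap.ext
  intro a
  obtain ⟨a, rfl⟩ := Ideal.Quotient.mk_surjective a
  rw [LinearMap.comp_apply, phi_mk]
  change Ideal.Quotient.mk (Ideal.span {y}) (y * a) = 0
  rw [Ideal.Quotient.eq_zero_iff_mem]
  exact Ideal.mul_mem_right _ _ (Ideal.mem_span_singleton_self y)

noncomputable def sc (hxy : y * x = 0) : ShortComplex (ModuleCat.{u} A) :=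
  ShortComplex.mk (X₁ := ModuleCat.of A (A ⧸ Ideal.span {x})) (X₂ := ModuleCat.of A A)
    (X₃ := ModuleCat.of A (A ⧸ Ideal.span {y}))
    (ModuleCat.ofHom (phi x y hxy))
    (ModuleCat.ofHom (Submodule.mkQ (Ideal.span {y}))) (by
      rw [← ModuleCat.ofHom_comp, comp_zero']
      rfl)

theorem phi_exact (hxy : y * x = 0) :
    Function.Exact (phi x y hxy) (Submodule.mkQ (Ideal.span {y})) := by
  intro b
  constructor
  · intro hb
    change Ideal.Quotient.mk (Ideal.span {y}) b = 0 at hb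
    rw [Ideal.Quotient.eq_zero_iff_mem, Ideal.mem_span_singleton'] at hb
    obtain ⟨c, rfl⟩ := hb
    refine ⟨Ideal.Quotient.mk _ c, ?_⟩
    rw [phi_mk, mul_comm]
  · rintro ⟨a, rfl⟩
    obtain ⟨a, rfl⟩ := Ideal.Quotient.mk_surjective a
    change Ideal.Quotient.mk (Ideal.span {y}) (phi x y hxy _) = 0
    rw [phi_mk, Ideal.Quotient.eq_zero_iff_mem]
    exact Ideal.mul_mem_right _ _ (Ideal.mem_span_singleton_self y)

theorem phi_injective (hxy : y * x = 0) (hann : ∀ a : A, y * a = 0 → a ∈ Ideal.span {x}) :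
    Function.Injective (phi x y hxy) := by
  rw [injective_iff_map_eq_zero]
  intro a ha
  obtain ⟨a, rfl⟩ := Ideal.Quotient.mk_surjective a
  rw [phi_mk] at ha
  exact (Ideal.Quotient.eq_zero_iff_mem).mpr (hann a ha)

theorem sc_shortExact (hxy : y * x = 0) (hann : ∀ a : A, y * a = 0 → a ∈ Ideal.span {x}) :
    (sc x y hxy).ShortExact :=
  ModuleCat.shortComplex_shortExact _ (phi_exact x y hxy) (phi_injective x y hxy hann)
    (Submodule.mkQ_surjective _)

theorem smul_id_apply (X : ModuleCat.{u} A) (c : k) (n : X) :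
    (c • 𝟙 X : X ⟶ X).hom n = algebraMap k A c • n := by
  rfl

open Abelian in
theorem finrank_ext_abstract {C : Type (u + 1)} [Category.{u} C] [Abelian C] [Linear k C]
    [HasExt.{u} C] {S : ShortComplex C} (hS : S.ShortExact) [Projective S.X₂]
    (ha : ∀ f : S.X₁ ⟶ S.X₁, ∃ (c : k) (g : S.X₂ ⟶ S.X₁), f = c • 𝟙 S.X₁ + S.f ≫ g)
    (hb : ∀ g : S.X₂ ⟶ S.X₁, S.f ≫ g ≠ 𝟙 S.X₁) :
    Module.finrank k (Ext S.X₃ S.X₁ 1) = 1 := by
  let v : Ext S.X₃ S.X₁ 1 := hS.extClass.comp (Ext.mk₀ (𝟙 S.X₁)) (add_zero 1)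
  have hv : v ≠ 0 := by
    intro h0
    obtain ⟨z₂, hz₂⟩ := Ext.contravariant_sequence_exact₁ hS S.X₁ (Ext.mk₀ (𝟙 S.X₁)) (add_zero 1) h0
    obtain ⟨g, rfl⟩ := (Ext.mk₀_bijective _ _).2 z₂
    rw [Ext.mk₀_comp_mk₀] at hz₂
    exact hb g ((Ext.mk₀_bijective _ _).1 hz₂)
  rw [finrank_eq_one_iff_of_nonzero' v hv]
  intro w
  have hw0 : (Ext.mk₀ S.g).comp w (zero_add 1) = 0 := Ext.eq_zero_of_projective _
  obtain ⟨z, rfl⟩ := Ext.contravariant_sequence_exact₃ hS S.X₁ w hw0 (add_zero 1)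
  obtain ⟨f, rfl⟩ := (Ext.mk₀_bijective _ _).2 z
  obtain ⟨c, g, hf⟩ := ha f
  refine ⟨c, ?_⟩
  rw [hf, Ext.mk₀_add, Ext.comp_add, Ext.mk₀_smul, Ext.comp_smul, ← Ext.mk₀_comp_mk₀,
    ← Ext.comp_assoc (h₁₂ := add_zero 1) (h₂₃ := add_zero 0) (h := add_zero 1),
    hS.extClass_comp, Ext.zero_comp, add_zero]

theorem finrank_ext (hxy : y * x = 0) (hann : ∀ a : A, y * a = 0 → a ∈ Ideal.span {x})
    (hdec : ∀ a : A, ∃ (c : k) (p q : A), a = algebraMap k A c + x * p + y * q)
    (hne : ∀ p q : A, x * p + y * q ≠ 1) :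
    Module.finrank k (Abelian.Ext (ModuleCat.of A (A ⧸ Ideal.span {y}))
      (ModuleCat.of A (A ⧸ Ideal.span {x})) 1) = 1 := by
  have hS := sc_shortExact x y hxy hann
  have : Projective (sc x y hxy).X₂ := inferInstanceAs (Projective (ModuleCat.of A A))
  refine finrank_ext_abstract (k := k) hS ?_ ?_
  · intro f
    let f' : (A ⧸ Ideal.span {x}) →ₗ[A] (A ⧸ Ideal.span {x}) := f.hom
    obtain ⟨a, ha⟩ := Ideal.Quotient.mk_surjective
      (f' (Ideal.Quotient.mk (Ideal.span {x}) (1 : A)))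
    obtain ⟨c, p, q, hdec⟩ := hdec a
    refine ⟨c, ModuleCat.ofHom (LinearMap.toSpanSingleton A (A ⧸ Ideal.span {x})
      (Ideal.Quotient.mk (Ideal.span {x}) q)), ?_⟩
    apply ModuleCat.hom_ext
    apply LinearMap.ext
    intro n
    change A ⧸ Ideal.span {x} at n
    change f' n = (algebraMap k A c • n +
      (LinearMap.toSpanSingleton A (A ⧸ Ideal.span {x})
        (Ideal.Quotient.mk (Ideal.span {x}) q)) (phi x y hxy n) : A ⧸ Ideal.span {x})
    obtain ⟨b, rfl⟩ := Ideal.Quotient.mk_surjective n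
    have e1 : f' (Ideal.Quotient.mk (Ideal.span {x}) b) =
        b • f' (Ideal.Quotient.mk (Ideal.span {x}) (1 : A)) := by
      rw [← map_smul]
      congr 1
      change _ = Ideal.Quotient.mk (Ideal.span {x}) (b • (1 : A))
      rw [smul_eq_mul, mul_one]
    rw [e1, ← ha, hdec, phi_mk, LinearMap.toSpanSingleton_apply]
    change Ideal.Quotient.mk (Ideal.span {x}) (b * (algebraMap k A c + x * p + y * q)) =
      Ideal.Quotient.mk (Ideal.span {x}) (algebraMap k A c * b) +
        Ideal.Quotient.mk (Ideal.span {x}) ((y * b) * q)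
    rw [← map_add, Ideal.Quotient.eq, Ideal.mem_span_singleton']
    refine ⟨b * p, ?_⟩
    ring
  · intro g h1
    let g' : A →ₗ[A] (A ⧸ Ideal.span {x}) := g.hom
    have h2 := LinearMap.congr_fun (congrArg ModuleCat.Hom.hom h1)
      (Ideal.Quotient.mk (Ideal.span {x}) (1 : A))
    change g' (phi x y hxy (Ideal.Quotient.mk (Ideal.span {x}) (1 : A))) =
      Ideal.Quotient.mk (Ideal.span {x}) (1 : A) at h2
    obtain ⟨q, hq⟩ := Ideal.Quotient.mk_surjective (g' (1 : A))
    rw [phi_mk] at h2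
    have h3 : g' (y * 1 : A) = y • g' (1 : A) := g'.map_smul y (1 : A)
    rw [h3, ← hq] at h2
    change Ideal.Quotient.mk (Ideal.span {x}) (y * q) = Ideal.Quotient.mk (Ideal.span {x}) 1 at h2
    rw [Ideal.Quotient.eq, Ideal.mem_span_singleton'] at h2
    obtain ⟨p, hp⟩ := h2
    refine hne (-p) q ?_
    linear_combination (-1 : A) * hp

section Concrete

variable (k : Type u) [Field k]

open MvPowerSeries in
theorem ps_decomp (P : MvPowerSeries (Fin 2) k) :
    ∃ (c : k) (Q0 Q1 : MvPowerSeries (Fin 2) k),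
      P = MvPowerSeries.C c + MvPowerSeries.X 0 * Q0 + MvPowerSeries.X 1 * Q1 := by
  classical
  let P0 : MvPowerSeries (Fin 2) k := fun d => if d 0 = 0 then coeff d P else 0
  have hP0 : ∀ d, coeff d P0 = if d 0 = 0 then coeff d P else 0 := fun d => rfl
  have h0 : (X 0 : MvPowerSeries (Fin 2) k) ∣ P - P0 := by
    rw [X_dvd_iff]
    intro m hm
    rw [map_sub, hP0, if_pos hm, sub_self]
  have h1 : (X 1 : MvPowerSeries (Fin 2) k) ∣ P0 - C (coeff 0 P) := by
    rw [X_dvd_iff]
    intro m hm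
    rw [map_sub, hP0, coeff_C]
    by_cases hm0 : m 0 = 0
    · have : m = 0 := by
        ext i
        fin_cases i
        · exact hm0
        · exact hm
      subst this
      simp
    · have : m ≠ 0 := by
        rintro rfl
        exact hm0 rfl
      rw [if_neg hm0, if_neg this, sub_zero]
  obtain ⟨Q0, hQ0⟩ := h0
  obtain ⟨Q1, hQ1⟩ := h1
  refine ⟨coeff 0 P, Q0, Q1, ?_⟩
  rw [← hQ0, ← hQ1]
  ring

end Concrete

end Helpers

/-- Let k be a field and A = k[[x,y]]/(xy) the complete local ring of a node, with branch rings A/(y)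
and A/(x) viewed as A-modules. Then the first Ext group Ext¹_A(A/(y), A/(x)) has dimension one over
k. (The published statement is for the local ring at a node of a reduced curve over an algebraically
closed field of characteristic zero, a node being a point whose complete local ring is A; this row
states the case of the complete local ring A itself, over an arbitrary field.) -/
theorem result (k : Type u) [Field k] : Module.finrank k (Abelian.Ext (ModuleCat.of (MvPowerSeries (Fin 2) k ⧸ Ideal.span {(MvPowerSeries.X (0 : Fin 2) : MvPowerSeries (Fin 2) k) * MvPowerSeries.X (1 : Fin 2)}) ((MvPowerSeries (Fin 2) k ⧸ Ideal.span {(MvPowerSeries.X (0 : Fin 2) : MvPowerSeries (Fin 2) k) * MvPowerSeries.X (1 : Fin 2)}) ⧸ Ideal.span {Ideal.Quotient.mk (Ideal.span {(MvPowerSeries.X (0 : Fin 2) : MvPowerSeries (Fin 2) k) * MvPowerSeries.X (1 : Fin 2)}) (MvPowerSeries.X (1 : Fin 2))})) (ModuleCat.of (MvPowerSeries (Fin 2) k ⧸ Ideal.span {(MvPowerSeries.X (0 : Fin 2) : MvPowerSeries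 (Fin 2) k) * MvPowerSeries.X (1 : Fin 2)}) ((MvPowerSeries (Fin 2) k ⧸ Ideal.span {(MvPowerSeries.X (0 : Fin 2) : MvPowerSeries (Fin 2) k) * MvPowerSeries.X (1 : Fin 2)}) ⧸ Ideal.span {Ideal.Quotient.mk (Ideal.span {(MvPowerSeries.X (0 : Fin 2) : MvPowerSeries (Fin 2) k) * MvPowerSeries.X (1 : Fin 2)}) (MvPowerSeries.X (0 : Fin 2))})) 1) = 1 := by
  have hX1 : (MvPowerSeries.X (1 : Fin 2) : MvPowerSeries (Fin 2) k) ≠ 0 := by
    intro h
    have h1 := congrArg (MvPowerSeries.coeff (Finsupp.single (1 : Fin 2) 1)) h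
    rw [MvPowerSeries.coeff_index_single_self_X, map_zero] at h1
    exact one_ne_zero h1
  refine finrank_ext (k := k) _ _ ?_ ?_ ?_ ?_
  · rw [← map_mul, Ideal.Quotient.eq_zero_iff_mem, mul_comm]
    exact Ideal.mem_span_singleton_self _
  · intro a ha
    obtain ⟨P, rfl⟩ := Ideal.Quotient.mk_surjective a
    rw [← map_mul, Ideal.Quotient.eq_zero_iff_mem, Ideal.mem_span_singleton'] at ha
    obtain ⟨r, hr⟩ := ha
    have hP : P = MvPowerSeries.X 0 * r := by
      apply mul_left_cancel₀ hX1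
      rw [← hr]
      ring
    rw [hP, map_mul]
    exact Ideal.mul_mem_right _ _ (Ideal.mem_span_singleton_self _)
  · intro a
    obtain ⟨P, rfl⟩ := Ideal.Quotient.mk_surjective a
    obtain ⟨c, Q0, Q1, hP⟩ := ps_decomp k P
    refine ⟨c, Ideal.Quotient.mk _ Q0, Ideal.Quotient.mk _ Q1, ?_⟩
    rw [hP, map_add, map_add, map_mul, map_mul]
    rfl
  · intro p q h
    obtain ⟨P, rfl⟩ := Ideal.Quotient.mk_surjective p
    obtain ⟨Q, rfl⟩ := Ideal.Quotient.mk_surjective q
    rw [← map_mul, ← map_mul, ← map_add, ← map_one (Ideal.Quotient.mk _), Ideal.Quotient.eq,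
      Ideal.mem_span_singleton'] at h
    obtain ⟨r, hr⟩ := h
    have := congrArg (MvPowerSeries.constantCoeff (σ := Fin 2) (R := k)) hr
    simp only [map_mul, map_sub, map_add, map_one, MvPowerSeries.constantCoeff_X, zero_mul,
      mul_zero, add_zero, zero_sub] at this
    exact one_ne_zero (neg_eq_zero.mp this.symm)

end Groth.Agent.S13993
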