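import Mathlib
-- Template for statement S13994 (row 13993; see the milestone table for weights).
-- Copy to Groth/Agent/S13994.lean and replace the sorry. The statement below is byte-identical to the frozen
-- statement CAlg.GrothFrozen.S13994 (Groth/Statements/S13994.lean; the theorem CAlg.tor_one_dual_isZero_planar_of_annihilators);
-- the grader kernel-checks Groth.Agent.S13994.result against that frozen type. Keep the theorem IN THIS FILE
-- (a `result` declared elsewhere and merely imported here is not credited); helpers may live anywhere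
-- under Groth/Agent/.
import Groth.Statements.S13994
import Groth.Agent.Lib.Helper68.TorMod
import Groth.Agent.Lib.Helper76.RegularLocalGlDim

set_option autoImplicit false
universe u
section Helpers
open TensorProduct CategoryTheory
namespace Groth.Agent.S13994

section LemmaA
variable {S : Type u} [CommRing S] {M P N' : Type u} [AddCommGroup M] [Module S M]
  [AddCommGroup P] [Module S P] [AddCommGroup N'] [Module S N']

/-- elementary `Tor₁^S(M, N') = 0`. -/
theorem lTensor_ker_injective (p : P →ₗ[S] N') [Module.Flat S (LinearMap.ker p)]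
    (x : S) (hx : IsSMulRegular M x) (n : ℕ)
    (I J : Ideal S) (hI : ∀ i ∈ I, ∀ m : M, i • m = 0) (hJ : ∀ j ∈ J, ∀ y : N', j • y = 0)
    (hxn : x ^ n ∈ I ⊔ J) :
    Function.Injective ((LinearMap.ker p).subtype.lTensor M) := by
  rw [injective_iff_map_eq_zero]
  intro t ht
  have h1 : ∀ i ∈ I, ∀ t : M ⊗[S] (LinearMap.ker p), i • t = 0 := by
    intro i hi t
    induction t using TensorProduct.induction_on with
    | zero => simp
    | tmul m k => rw [TensorProduct.smul_tmul', hI i hi, zero_tmul]
    | add a b ha hb => rw [smul_add, ha, hb, add_zero]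
  have h2 : ∀ j ∈ J, j • t = 0 := by
    intro j hj
    let h : P →ₗ[S] LinearMap.ker p :=
      LinearMap.codRestrict (LinearMap.ker p) (j • LinearMap.id) (by
        intro u
        rw [LinearMap.mem_ker, LinearMap.smul_apply, LinearMap.id_apply, map_smul, hJ j hj])
    have hcomp : h ∘ₗ (LinearMap.ker p).subtype = j • LinearMap.id := by
      ext k
      rfl
    have : (h.lTensor M) ((LinearMap.ker p).subtype.lTensor M t) = j • t := by
      rw [← LinearMap.comp_apply, ← LinearMap.lTensor_comp, hcomp, LinearMap.lTensor_smul,
        LinearMap.lTensor_id, LinearMap.smul_apply, LinearMap.id_apply]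
    rw [← this, ht, map_zero]
  have h3 : x ^ n • t = 0 := by
    obtain ⟨i, hi, j, hj, e⟩ := Submodule.mem_sup.mp hxn
    rw [← e, add_smul, h1 i hi, h2 j hj, add_zero]
  have h4 : IsSMulRegular (M ⊗[S] LinearMap.ker p) x := by
    have hinj := Module.Flat.rTensor_preserves_injective_linearMap (M := LinearMap.ker p)
      (LinearMap.lsmul S M x) hx
    have heq : (LinearMap.lsmul S M x) = x • LinearMap.id := by
      ext m; rfl
    rw [heq, LinearMap.rTensor_smul, LinearMap.rTensor_id] at hinj
    intro a b hab
    exact hinj hab
  have h5 := h4.pow n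
  apply h5
  change x ^ n • t = x ^ n • 0
  rw [h3, smul_zero]

end LemmaA

section LemmaB
variable {S R : Type u} [CommRing S] [CommRing R] [Algebra S R]
  {M P N' : Type u} [AddCommGroup M] [Module S M] [Module R M] [IsScalarTower S R M]
  [AddCommGroup P] [Module S P] [AddCommGroup N'] [Module S N'] [Module R N'] [IsScalarTower S R N']

/-- change of rings for the elementary `Tor₁`. -/
theorem lTensor_ker_injective_baseChange (hπ : Function.Surjective (algebraMap S R))
    (p : P →ₗ[S] N')
    (h : Function.Injective ((LinearMap.ker p).subtype.lTensor M)) :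
    Function.Injective ((LinearMap.ker (LinearMap.liftBaseChange R p)).subtype.lTensor M) := by
  set pR : R ⊗[S] P →ₗ[R] N' := LinearMap.liftBaseChange R p with hpR
  -- every element of R ⊗ P is 1 ⊗ u
  have hone : ∀ z : R ⊗[S] P, ∃ u : P, z = (1 : R) ⊗ₜ[S] u := by
    intro z
    induction z using TensorProduct.induction_on with
    | zero => exact ⟨0, by simp⟩
    | tmul r u =>
      obtain ⟨s, rfl⟩ := hπ r
      refine ⟨s • u, ?_⟩
      rw [TensorProduct.tmul_smul, TensorProduct.smul_tmul', Algebra.smul_def, mul_one]
    | add a b ha hb =>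
      obtain ⟨u, rfl⟩ := ha
      obtain ⟨v, rfl⟩ := hb
      exact ⟨u + v, by rw [TensorProduct.tmul_add]⟩
  let θ : LinearMap.ker p →ₗ[S] LinearMap.ker pR :=
    LinearMap.codRestrict ((LinearMap.ker pR).restrictScalars S)
      ((TensorProduct.mk S R P 1) ∘ₗ (LinearMap.ker p).subtype) (by
        intro k
        change pR ((1 : R) ⊗ₜ[S] (k : P)) = 0
        rw [hpR, LinearMap.liftBaseChange_tmul, one_smul]
        exact k.2)
  have hθ : Function.Surjective θ := by
    intro z
    obtain ⟨u, hu⟩ := hone z.1
    have hu0 : p u = 0 := by
      have := z.2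
      rw [LinearMap.mem_ker, hu, hpR, LinearMap.liftBaseChange_tmul, one_smul] at this
      exact this
    exact ⟨⟨u, hu0⟩, Subtype.ext hu.symm⟩
  let Θ : M ⊗[S] (LinearMap.ker p) →ₗ[S] M ⊗[R] (LinearMap.ker pR) :=
    (TensorProduct.mapOfCompatibleSMul R S S M (LinearMap.ker pR)) ∘ₗ (θ.lTensor M)
  have hΘ : Function.Surjective Θ :=
    (TensorProduct.mapOfCompatibleSMul_surjective R S S M (LinearMap.ker pR)).comp
      (LinearMap.lTensor_surjective M hθ)
  let e := TensorProduct.AlgebraTensorModule.cancelBaseChange S R R M P
  have hsq : ∀ t : M ⊗[S] (LinearMap.ker p),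
      e ((LinearMap.ker pR).subtype.lTensor M (Θ t)) = (LinearMap.ker p).subtype.lTensor M t := by
    intro t
    induction t using TensorProduct.induction_on with
    | zero => simp
    | tmul m k =>
      change e (m ⊗ₜ[R] ((1 : R) ⊗ₜ[S] (k : P))) = m ⊗ₜ[S] (k : P)
      rw [TensorProduct.AlgebraTensorModule.cancelBaseChange_tmul, one_smul]
    | add a b ha hb => simp only [map_add, ha, hb]
  rw [injective_iff_map_eq_zero]
  intro t ht
  obtain ⟨t', rfl⟩ := hΘ t
  have h0 : (LinearMap.ker p).subtype.lTensor M t' = 0 := by
    rw [← hsq t', ht, map_zero]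
  rw [(injective_iff_map_eq_zero _).mp h t' h0, map_zero]

end LemmaB

section LemmaC
open Groth.Agent.Lib.Helper68 Groth.Agent.Lib.Helper76
variable {S R : Type u} [CommRing S] [CommRing R] [Algebra S R]

theorem hasProjDimLT_two_pi [IsDomain S] (f : S) (hf : f ≠ 0)
    (hπ : Function.Surjective (algebraMap S R))
    (hker : RingHom.ker (algebraMap S R) = Ideal.span {f}) (c : ℕ) :
    HasProjectiveDimensionLT (ModuleCat.of S (Fin c → R)) 2 := by
  let F : (Fin c → S) →ₗ[S] (Fin c → S) := f • LinearMap.id
  let G : (Fin c → S) →ₗ[S] (Fin c → R) := (Algebra.linearMap S R).compLeft (Fin c)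
  have hF : Function.Injective F := by
    intro a b hab
    funext i
    have := congrFun hab i
    exact mul_left_cancel₀ hf this
  have hG : Function.Surjective G := by
    intro v
    choose w hw using fun i => hπ (v i)
    exact ⟨w, funext hw⟩
  have hfker : algebraMap S R f = 0 := by
    have : f ∈ RingHom.ker (algebraMap S R) := by
      rw [hker]; exact Ideal.mem_span_singleton_self f
    exact RingHom.mem_ker.mp this
  have hex : Function.Exact F G := by
    intro v
    constructor
    · intro hv
      have : ∀ i, ∃ w, f * w = v i := by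
        intro i
        have h1 : v i ∈ RingHom.ker (algebraMap S R) := congrFun hv i
        rw [hker, Ideal.mem_span_singleton'] at h1
        obtain ⟨w, hw⟩ := h1
        exact ⟨w, by rw [mul_comm]; exact hw⟩
      choose w hw using this
      exact ⟨w, funext hw⟩
    · rintro ⟨w, rfl⟩
      funext i
      change algebraMap S R (f * w i) = 0
      rw [map_mul, hfker, zero_mul]
  have hS := TorMod.sc_shortExact F G hex hF hG
  have h1 : HasProjectiveDimensionLT (ModuleCat.of S (Fin c → S)) 1 := by
    rw [← projective_iff_hasProjectiveDimensionLT_one]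
    exact (IsProjective.iff_projective _).mp inferInstance
  exact hS.hasProjectiveDimensionLT_X₃ 1 h1 (hasProjectiveDimensionLT_of_ge _ 1 2 (by omega))

theorem projective_ker [IsRegularLocalRing S] (hdim : ringKrullDim S = 2) (f : S) (hf : f ≠ 0)
    (hπ : Function.Surjective (algebraMap S R))
    (hker : RingHom.ker (algebraMap S R) = Ideal.span {f})
    {N' : Type u} [AddCommGroup N'] [Module S N'] [Module R N'] [IsScalarTower S R N']
    (c : ℕ) (j : N' →ₗ[R] (Fin c → R)) (hj : Function.Injective j)
    {P : Type u} [AddCommGroup P] [Module S P] [Module.Projective S P] (p : P →ₗ[S] N')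
    (hp : Function.Surjective p) :
    Module.Projective S (LinearMap.ker p) := by
  have : IsDomain S := isDomain_of_isRegularLocalRing S
  let jS : N' →ₗ[S] (Fin c → R) := j.restrictScalars S
  have hjS : Function.Injective jS := hj
  have hS1 := TorMod.sc_shortExact jS (LinearMap.range jS).mkQ (LinearMap.exact_map_mkQ_range jS) hjS
    (Submodule.mkQ_surjective _)
  have hE := hasProjDimLT_two_pi (R := R) f hf hπ hker c
  have hQ : HasProjectiveDimensionLT (ModuleCat.of S ((Fin c → R) ⧸ LinearMap.range jS)) (2 + 1) :=
    hasProjectiveDimensionLT_of_isRegularLocalRing S 2 hdim _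
  have hN : HasProjectiveDimensionLT (ModuleCat.of S N') 2 :=
    hS1.hasProjectiveDimensionLT_X₁ 2 hE hQ
  have hS2 := TorMod.sc_shortExact (LinearMap.ker p).subtype p (LinearMap.exact_subtype_ker_map p)
    (Submodule.subtype_injective _) hp
  have hP : HasProjectiveDimensionLT (ModuleCat.of S P) 1 := by
    rw [← projective_iff_hasProjectiveDimensionLT_one]
    exact (IsProjective.iff_projective _).mp inferInstance
  have hK : HasProjectiveDimensionLT (ModuleCat.of S (LinearMap.ker p)) 1 :=
    hS2.hasProjectiveDimensionLT_X₁ 1 hP hN
  rw [← projective_iff_hasProjectiveDimensionLT_one] at hK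
  exact (IsProjective.iff_projective _).mpr hK

end LemmaC

section Main
open Groth.Agent.Lib.Helper68 Limits

theorem main (S : Type u) [CommRing S] [IsRegularLocalRing S] (hS : ringKrullDim S = 2) (f : S)
    (hf : f ≠ 0) (R : Type u) [CommRing R] [IsLocalRing R] (π : S →+* R)
    (hπ : Function.Surjective π) (hker : RingHom.ker π = Ideal.span {f}) (I J : Ideal R) (n : ℕ)
    (hIJ : IsLocalRing.maximalIdeal R ^ n ≤ I ⊔ J) (M N : Type u) [AddCommGroup M] [Module R M]
    [AddCommGroup N] [Module R N] [Module.Finite R N]
    (hI : I ≤ Module.annihilator R M) (hJ : J ≤ Module.annihilator R N) (x : R)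
    (hx : x ∈ IsLocalRing.maximalIdeal R) (hxM : IsSMulRegular M x) :
    IsZero (((Tor (ModuleCat.{u} R) 1).obj (ModuleCat.of R M)).obj
      (ModuleCat.of R (Module.Dual R N))) := by
  let _ : Algebra S R := π.toAlgebra
  let _ : Module S M := Module.compHom M π
  have : IsScalarTower S R M := IsScalarTower.of_algebraMap_smul fun _ _ => rfl
  let _ : Module S (Module.Dual R N) := Module.compHom (Module.Dual R N) π
  have : IsScalarTower S R (Module.Dual R N) := IsScalarTower.of_algebraMap_smul fun _ _ => rfl
  have hπ' : Function.Surjective (algebraMap S R) := hπ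
  have hker' : RingHom.ker (algebraMap S R) = Ideal.span {f} := hker
  obtain ⟨c, g, hg⟩ := Module.Finite.exists_fin' R N
  let j : Module.Dual R N →ₗ[R] (Fin c → R) :=
    LinearMap.pi fun i => LinearMap.applyₗ (g (Pi.single i 1))
  have hj : Function.Injective j := by
    rw [injective_iff_map_eq_zero]
    intro φ hφ
    have h1 : φ ∘ₗ g = 0 := by
      apply LinearMap.pi_ext'
      intro i
      ext
      have := congrFun hφ i
      simpa [j] using this
    ext y
    obtain ⟨v, rfl⟩ := hg y
    exact LinearMap.congr_fun h1 v
  let p : (Module.Dual R N →₀ S) →ₗ[S] Module.Dual R N :=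
    Finsupp.linearCombination S (id : Module.Dual R N → Module.Dual R N)
  have hp : Function.Surjective p := Finsupp.linearCombination_id_surjective S _
  have hproj : Module.Projective S (LinearMap.ker p) :=
    projective_ker hS f hf hπ' hker' c j hj p hp
  obtain ⟨xS, rfl⟩ := hπ x
  have hxn : xS ^ n ∈ I.comap π ⊔ J.comap π := by
    have h1 : π xS ^ n ∈ I ⊔ J := hIJ (Ideal.pow_mem_pow hx n)
    obtain ⟨i, hi, k, hk, e⟩ := Submodule.mem_sup.mp h1
    obtain ⟨iS, rfl⟩ := hπ i
    obtain ⟨kS, rfl⟩ := hπ k
    have h2 : xS ^ n - iS - kS + iS ∈ I.comap π := by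
      rw [Ideal.mem_comap]
      have : π (xS ^ n - iS - kS + iS) = π iS := by
        rw [map_add, map_sub, map_sub, map_pow, ← e]; ring
      rw [this]; exact hi
    have h3 : kS ∈ J.comap π := hk
    have := Submodule.add_mem_sup h2 h3
    convert this using 1
    ring
  have hA : Function.Injective ((LinearMap.ker p).subtype.lTensor M) := by
    refine lTensor_ker_injective p xS hxM n (I.comap π) (J.comap π) ?_ ?_ hxn
    · intro i hi m
      exact Module.mem_annihilator.mp (hI hi) m
    · intro k hk φ
      ext y
      change π k • φ y = 0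
      rw [← map_smul, Module.mem_annihilator.mp (hJ hk) y, map_zero]
  have hB := lTensor_ker_injective_baseChange (R := R) (M := M) hπ' p hA
  have hsurj : Function.Surjective (LinearMap.liftBaseChange R p) := by
    intro φ
    obtain ⟨u, rfl⟩ := hp φ
    exact ⟨(1 : R) ⊗ₜ[S] u, by rw [LinearMap.liftBaseChange_tmul, one_smul]⟩
  exact TorMod.isZero_tor_one_of_injective (A := LinearMap.ker (LinearMap.liftBaseChange R p))
    (B := R ⊗[S] (Module.Dual R N →₀ S)) (C := Module.Dual R N) (ModuleCat.of R M)
    (LinearMap.ker (LinearMap.liftBaseChange R p)).subtype (LinearMap.liftBaseChange R p)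
    (LinearMap.exact_subtype_ker_map _) (Submodule.subtype_injective _) hsurj
    (TorMod.isZero_tor_succ_of_projective (ModuleCat.of R M) (R ⊗[S] (Module.Dual R N →₀ S)) 0) hB

end Main

end Groth.Agent.S13994
end Helpers

open CategoryTheory
open CAlg

namespace Groth.Agent.S13994

/-- Let S be a regular local ring of Krull dimension two, f a non-zero element of S and R the quotient
of S by f, assumed reduced. Let M and N be finitely generated R-modules, each admitting a
non-zero-divisor in the maximal ideal of R, annihilated by ideals I and J respectively, where I + J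
contains a power of the maximal ideal. Then Tor₁^R(M, Hom_R(N, R)) = 0. (The published claim is made
for the stalks at a common point of two subcurves without common component of a reduced projective
curve over a characteristic-zero algebraically closed field, the point being a planar singularity,
and the stalks of torsion-free sheaves supported on them; this row states it over an arbitrary
two-dimensional regular local ring. Tor is computed by resolving the second argument.) -/
theorem result (S : Type u) [CommRing S] [IsRegularLocalRing S] (hS : ringKrullDim S = 2) (f : S) (hf : f ≠ 0) (R : Type u) [CommRing R] [IsLocalRing R] [IsReduced R] (π : S →+* R) (hπ : Function.Surjective π) (hker : RingHom.ker π = Ideal.span {f}) (I J : Ideal R) (n : ℕ) (hIJ : IsLocalRing.maximalIdeal R ^ n ≤ I ⊔ J) (M N : Type u) [AddCommGroup M] [Module R M] [Module.Finite R M] [AddCommGroup N] [Module R N] [Module.Finite R N] (hI : I ≤ Module.annihilator R M) (hJ : J ≤ Module.annihilator R N) (x : R) (hx : x ∈ IsLocalRing.maximalIdeal R) (hxM : IsSMulRegular M x) (y : R) (hy : y ∈ IsLocalRing.maximalIdeal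 R) (hyN : IsSMulRegular N y) : Limits.IsZero (((Tor (ModuleCat.{u} R) 1).obj (ModuleCat.of R M)).obj (ModuleCat.of R (Module.Dual R N))) := by
  exact main S hS f hf R π hπ hker I J n hIJ M N hI hJ x hx hxM

end Groth.Agent.S13994
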