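import Groth.Statements.S13995
import Mathlib

set_option autoImplicit false
universe u
open CAlg

namespace Groth.Agent.S13995

theorem inj_of_surj {K V W : Type*} [Field K] [AddCommGroup V] [Module K V] [AddCommGroup W]
    [Module K W] [Module.Finite K V] [Nontrivial W] (f : V →ₗ[K] W)
    (hf : Function.Surjective f) (h1 : Module.finrank K V = 1) : Function.Injective f := by
  have h2 := LinearMap.finrank_range_add_finrank_ker f
  have h3 : LinearMap.range f = ⊤ := LinearMap.range_eq_top.mpr hf
  have : Module.Finite K W := Module.Finite.of_surjective f hf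
  have h4 : 0 < Module.finrank K W := Module.finrank_pos
  rw [h3, finrank_top] at h2
  have h5 : Module.finrank K (LinearMap.ker f) = 0 := by omega
  have h6 : LinearMap.ker f = ⊥ := Submodule.finrank_eq_zero.mp h5
  exact LinearMap.ker_eq_bot.mp h6

theorem result (R : Type u) [CommRing R] [IsNoetherianRing R] [IsReduced R] (M : Type u) [AddCommGroup M] [Module R M] [Module.Finite R M] (hM : associatedPrimes R M ⊆ minimalPrimes R) (hrk : ∀ p : PrimeSpectrum R, p.asIdeal ∈ minimalPrimes R → Module.finrank (Localization.AtPrime p.asIdeal) (LocalizedModule p.asIdeal.primeCompl M) = 1) (Q : Type u) [AddCommGroup Q] [Module R Q] [Module.Finite R Q] (hQ : associatedPrimes R Q ⊆ minimalPrimes R) (g : M →ₗ[R] Q) (hg : Function.Surjective g) : LinearMap.ker g = ⨅ p ∈ {p : PrimeSpectrum R | p.asIdeal ∈ minimalPrimes R ∧ p ∈ Module.support R Q}, LinearMap.ker (LocalizedModule.mkLinearMap p.asIdeal.primeCompl M) := by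
  apply le_antisymm
  · intro m hm
    rw [LinearMap.mem_ker] at hm
    simp only [Submodule.mem_iInf, LinearMap.mem_ker]
    rintro p ⟨hp, hpQ⟩
    have hprime := hp.1.1
    have : Ring.KrullDimLE 0 (Localization.AtPrime p.asIdeal) := .of_isLocalization _ hp _
    let _ : Field (Localization.AtPrime p.asIdeal) := Ring.KrullDimLE.isField_of_isReduced.toField
    let gp := LocalizedModule.map p.asIdeal.primeCompl g
    have hsurj : Function.Surjective gp := LocalizedModule.map_surjective _ g hg
    have hnt : Nontrivial (LocalizedModule p.asIdeal.primeCompl Q) :=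
      Module.mem_support_iff.mp hpQ
    have hinj : Function.Injective gp := inj_of_surj gp hsurj (hrk p hp)
    apply hinj
    rw [LocalizedModule.mkLinearMap_apply, LocalizedModule.map_mk, hm, LocalizedModule.zero_mk,
      map_zero]
  · intro m hm
    simp only [Submodule.mem_iInf, LinearMap.mem_ker] at hm
    rw [LinearMap.mem_ker]
    by_contra hq
    obtain ⟨P, hP, hle⟩ := exists_le_isAssociatedPrime_of_isNoetherianRing R (g m) hq
    have hPmin : P ∈ minimalPrimes R := hQ hP
    have hPprime : P.IsPrime := hP.isPrime
    have hPsupp : (⟨P, hPprime⟩ : PrimeSpectrum R) ∈ Module.support R Q := by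
      rw [Module.mem_support_iff_of_finite]
      have := hP.annihilator_le
      rwa [Submodule.annihilator_top] at this
    have h0 := hm ⟨P, hPprime⟩ ⟨hPmin, hPsupp⟩
    rw [IsLocalizedModule.eq_zero_iff P.primeCompl] at h0
    obtain ⟨s, hs⟩ := h0
    have h1 : (s : R) ∈ (⊥ : Submodule R Q).colon {g m} := by
      rw [Submodule.mem_colon_singleton, Submodule.mem_bot, ← map_smul]
      have : (s : R) • m = 0 := hs
      rw [this, map_zero]
    exact s.2 (hle h1)

end Groth.Agent.S13995
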