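import Groth.Statements.S13996
import Mathlib

set_option autoImplicit false
universe u
open CAlg

namespace Groth.Agent.S13996

theorem regular_of_notMem_minimalPrimes (R : Type u) [CommRing R] [IsReduced R] (r : R)
    (h : ∀ p ∈ minimalPrimes R, r ∉ p) : IsSMulRegular R r := by
  rw [isSMulRegular_iff_right_eq_zero_of_smul]
  intro s hs
  have hs' : s ∈ sInf (minimalPrimes R) := by
    rw [Ideal.mem_sInf]
    intro p hp
    have hp' : p.IsPrime := hp.1.1
    have : r * s ∈ p := by
      rw [smul_eq_mul] at hs
      rw [hs]; exact p.zero_mem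
    exact (hp'.mem_or_mem this).resolve_left (h p hp)
  have h2 : sInf (minimalPrimes R) = (⊥ : Ideal R).radical := Ideal.sInf_minimalPrimes
  rw [h2] at hs'
  have h3 : (⊥ : Ideal R).radical = ⊥ := by
    have := nilradical_eq_zero R
    simpa [nilradical] using this
  rw [h3] at hs'
  simpa using hs'

theorem result (R : Type u) [CommRing R] [IsLocalRing R] [IsNoetherianRing R] [IsReduced R] (hdim : ringKrullDim R = 1) (M : Type u) [AddCommGroup M] [Module R M] [Module.Finite R M] [Nontrivial M] : (∀ r : R, r ∈ IsLocalRing.maximalIdeal R → IsSMulRegular R r → IsSMulRegular M r) ↔ (∃ x : R, x ∈ IsLocalRing.maximalIdeal R ∧ IsSMulRegular M x) := by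
  have hm_ht : (IsLocalRing.maximalIdeal R).height = 1 := by
    have := IsLocalRing.maximalIdeal_height_eq_ringKrullDim (R := R)
    rw [hdim] at this
    exact_mod_cast this
  have hm_fin : (IsLocalRing.maximalIdeal R).FiniteHeight := by
    rw [Ideal.finiteHeight_iff]
    right
    rw [hm_ht]
    exact ENat.one_ne_top
  have hprime : ∀ p : Ideal R, p.IsPrime →
      p ∈ minimalPrimes R ∨ p = IsLocalRing.maximalIdeal R := by
    intro p hp
    by_cases hne : p = IsLocalRing.maximalIdeal R
    · right; exact hne
    · left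
      have hlt : p < IsLocalRing.maximalIdeal R :=
        lt_of_le_of_ne (IsLocalRing.le_maximalIdeal hp.ne_top) hne
      have := Ideal.height_strict_mono_of_isPrime_of_isPrime hlt
      rw [hm_ht] at this
      apply Ideal.height_eq_zero_iff.mp
      exact Order.lt_one_iff.mp this
  have hm_not_min : IsLocalRing.maximalIdeal R ∉ minimalPrimes R := by
    intro h
    have := Ideal.height_eq_zero_iff.mpr h
    rw [hm_ht] at this
    exact one_ne_zero this
  constructor
  · intro h
    have hfin := minimalPrimes.finite_of_isNoetherianRing R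
    have hnot : ¬ ((IsLocalRing.maximalIdeal R : Set R) ⊆ ⋃ p ∈ minimalPrimes R, (id p : Ideal R)) := by
      rw [Ideal.subset_union_prime_finite hfin (f := id) 0 0 (fun p hp _ _ => hp.1.1)]
      rintro ⟨p, hp, hle⟩
      have hp' : p.IsPrime := hp.1.1
      have : p = IsLocalRing.maximalIdeal R :=
        le_antisymm (IsLocalRing.le_maximalIdeal hp'.ne_top) hle
      exact hm_not_min (this ▸ hp)
    rw [Set.not_subset] at hnot
    obtain ⟨r, hr, hr'⟩ := hnot
    refine ⟨r, hr, h r hr ?_⟩
    apply regular_of_notMem_minimalPrimes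
    intro p hp hrp
    apply hr'
    simp only [id, Set.mem_iUnion, SetLike.mem_coe, exists_prop]
    exact ⟨p, hp, hrp⟩
  · rintro ⟨x, hx, hxM⟩ r hr hrR
    by_contra hcon
    have hmem : r ∈ ({ r : R | IsSMulRegular M r }ᶜ : Set R) := hcon
    rw [← biUnion_associatedPrimes_eq_compl_regular R M] at hmem
    simp only [Set.mem_iUnion, SetLike.mem_coe, exists_prop] at hmem
    obtain ⟨p, hp, hrp⟩ := hmem
    have hp' : p.IsPrime := hp.isPrime
    rcases hprime p hp' with hmin | hmax
    · have hnzd : r ∈ nonZeroDivisors R := by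
        rw [mem_nonZeroDivisors_iff_left]
        intro y hy
        exact (isSMulRegular_iff_right_eq_zero_of_smul.mp hrR) y hy
      exact notMem_nonZeroDivisors_of_mem_mem_minimalPrimes hrp hmin hnzd
    · have hxp : x ∈ (⋃ p ∈ associatedPrimes R M, (p : Set R)) := by
        simp only [Set.mem_iUnion, SetLike.mem_coe, exists_prop]
        exact ⟨p, hp, hmax ▸ hx⟩
      rw [biUnion_associatedPrimes_eq_compl_regular R M] at hxp
      exact hxp hxM

end Groth.Agent.S13996
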