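import Groth.Statements.S14000
import Mathlib

set_option autoImplicit false
universe u
open Perf

namespace Groth.Agent.S14000

theorem step {R : Type u} [CommRing R] {M1 M2 M3 : Type u} [AddCommGroup M1] [Module R M1]
    [AddCommGroup M2] [Module R M2] [AddCommGroup M3] [Module R M3]
    (f : M1 →ₗ[R] M2) (g : M2 →ₗ[R] M3) (hex : Function.Exact f g)
    (hK : Module.Projective R (LinearMap.ker g)) :
    Nonempty (M1 ≃ₗ[R] (LinearMap.ker f) × (LinearMap.ker g)) := by
  let g' : M1 →ₗ[R] LinearMap.ker g := f.codRestrict (LinearMap.ker g)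
    (fun x => hex.apply_apply_eq_zero x)
  have hsurj : Function.Surjective g' := by
    rintro ⟨y, hy⟩
    obtain ⟨x, hx⟩ := (hex y).mp hy
    exact ⟨x, Subtype.ext hx⟩
  obtain ⟨l, hl⟩ := Module.projective_lifting_property g' LinearMap.id hsurj
  have hker : LinearMap.ker g' = LinearMap.ker f := LinearMap.ker_codRestrict _ _ _
  have hex' : Function.Exact (LinearMap.ker f).subtype g' := by
    rw [LinearMap.exact_iff, hker, Submodule.range_subtype]
  exact ⟨(hex'.splitSurjectiveEquiv (Submodule.subtype_injective _) ⟨l, hl⟩).1⟩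

theorem step2 {R : Type u} [CommRing R] [IsLocalRing R] {M1 M2 M3 : Type u}
    [AddCommGroup M1] [Module R M1]
    [AddCommGroup M2] [Module R M2] [AddCommGroup M3] [Module R M3]
    [Module.Finite R M1] [Module.Projective R M1]
    (f : M1 →ₗ[R] M2) (g : M2 →ₗ[R] M3) (hex : Function.Exact f g)
    (hK : Module.Projective R (LinearMap.ker g)) (hK' : Module.Finite R (LinearMap.ker g)) :
    Module.Projective R (LinearMap.ker f) ∧ Module.Finite R (LinearMap.ker f) ∧
      Module.finrank R M1 = Module.finrank R (LinearMap.ker f) + Module.finrank R (LinearMap.ker g) := by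
  obtain ⟨e⟩ := step f g hex hK
  have h1 : Module.Projective R ((LinearMap.ker f) × (LinearMap.ker g)) :=
    Module.Projective.of_equiv e
  have h2 : Module.Finite R ((LinearMap.ker f) × (LinearMap.ker g)) :=
    Module.Finite.equiv e
  have hP : Module.Projective R (LinearMap.ker f) :=
    Module.Projective.of_split (LinearMap.inl R _ (LinearMap.ker g)) (LinearMap.fst R _ _)
      (by ext; simp)
  have hF : Module.Finite R (LinearMap.ker f) :=
    Module.Finite.of_surjective (LinearMap.fst R (LinearMap.ker f) (LinearMap.ker g))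
      LinearMap.fst_surjective
  refine ⟨hP, hF, ?_⟩
  have : Module.Free R (LinearMap.ker f) := Module.free_of_flat_of_isLocalRing
  have : Module.Free R (LinearMap.ker g) := Module.free_of_flat_of_isLocalRing
  rw [e.finrank_eq, Module.finrank_prod]

theorem telescope (z : ℤ → ℕ) (s : Finset ℤ) (hz : ∀ i, i ∉ s → z i = 0)
    (r : ℤ → ℕ) (hr : ∀ i, r i = z i + z (i + 1)) (hr0 : ∀ i, i ∉ s → r i = 0) :
    ∑ i ∈ s, ((i.negOnePow : ℤˣ) : ℤ) * (r i : ℤ) = 0 := by
  let w : ℤ → ℤ := fun i => ((i.negOnePow : ℤˣ) : ℤ) * (z i : ℤ)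
  have hw : (Function.support w).Finite := by
    apply s.finite_toSet.subset
    intro i hi
    by_contra hcon
    apply hi
    simp [w, hz i hcon]
  have hw' : (Function.support (fun i => w (i + 1))).Finite := by
    have : Function.support (fun i => w (i + 1)) = (Equiv.addRight (1 : ℤ)) ⁻¹' (Function.support w) := by
      ext i; simp
    rw [this]
    exact hw.preimage (Equiv.injective _).injOn
  have h1 : ∑ i ∈ s, ((i.negOnePow : ℤˣ) : ℤ) * (r i : ℤ) =
      ∑ᶠ i, ((i.negOnePow : ℤˣ) : ℤ) * (r i : ℤ) := by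
    rw [finsum_eq_sum_of_support_subset]
    intro i hi
    by_contra hcon
    apply hi
    simp [hr0 i hcon]
  have h2 : ∀ i : ℤ, ((i.negOnePow : ℤˣ) : ℤ) * (r i : ℤ) = w i - w (i + 1) := by
    intro i
    simp only [w, hr i, Int.negOnePow_succ]
    push_cast
    ring
  rw [h1]
  simp_rw [h2]
  rw [finsum_sub_distrib hw hw']
  rw [sub_eq_zero]
  exact (finsum_comp_equiv (Equiv.addRight (1 : ℤ)) (f := w)).symm


theorem euler_zero {R : Type u} [CommRing R] [IsLocalRing R] (M : ℤ → Type u)
    [∀ i, AddCommGroup (M i)] [∀ i, Module R (M i)]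
    (hfin : ∀ i, Module.Finite R (M i)) (hproj : ∀ i, Module.Projective R (M i))
    (δ : ∀ i j, M i →ₗ[R] M j)
    (hex : ∀ i j k : ℤ, i + 1 = j → j + 1 = k → Function.Exact (δ i j) (δ j k))
    (s : Finset ℤ) (hs : ∀ i, i ∉ s → Subsingleton (M i)) :
    ∑ i ∈ s, ((i.negOnePow : ℤˣ) : ℤ) * (Module.finrank R (M i) : ℤ) = 0 := by
  let Q : ℤ → Prop := fun j => Module.Projective R (LinearMap.ker (δ j (j + 1))) ∧
    Module.Finite R (LinearMap.ker (δ j (j + 1)))
  have hstep : ∀ j, Q (j + 1) → Q j := by
    intro j hj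
    have := step2 (δ j (j + 1)) (δ (j + 1) (j + 1 + 1)) (hex j (j + 1) (j + 1 + 1) rfl rfl) hj.1 hj.2
    exact ⟨this.1, this.2.1⟩
  have hsub : ∀ j, j ∉ s → Q j := by
    intro j hj
    have := hs j hj
    exact ⟨inferInstance, inferInstance⟩
  obtain ⟨b, hb⟩ : ∃ b : ℤ, ∀ i ∈ s, i < b := by
    obtain ⟨b, hb⟩ := s.bddAbove
    exact ⟨b + 1, fun i hi => by have := hb hi; omega⟩
  have hQ : ∀ j, Q j := by
    intro j
    by_cases hj : j ≤ b
    · refine Int.leInductionDown (motive := fun n _ => Q n) ?_ ?_ j hj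
      · exact hsub b (fun h => lt_irrefl _ (hb b h))
      · intro n _ hn
        apply hstep
        have : n - 1 + 1 = n := by ring
        rw [this]
        exact hn
    · exact hsub j (fun h => hj (hb j h).le)
  apply telescope (fun i => Module.finrank R (LinearMap.ker (δ i (i + 1)))) s
  · intro i hi
    have := hs i hi
    exact Module.finrank_zero_of_subsingleton
  · intro i
    exact (step2 (δ i (i + 1)) (δ (i + 1) (i + 1 + 1)) (hex i (i + 1) (i + 1 + 1) rfl rfl)
      (hQ (i + 1)).1 (hQ (i + 1)).2).2.2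
  · intro i hi
    have := hs i hi
    exact Module.finrank_zero_of_subsingleton


theorem loc_exact {A : Type u} [CommRing A] (S : Submonoid A) {X Y Z : Type u}
    [AddCommGroup X] [Module A X] [AddCommGroup Y] [Module A Y] [AddCommGroup Z] [Module A Z]
    (f : X →ₗ[A] Y) (g : Y →ₗ[A] Z) (hgf : ∀ x, g (f x) = 0)
    (hH : ∀ y, g y = 0 → ∃ s ∈ S, ∃ x, f x = s • y) :
    Function.Exact (LocalizedModule.map S f) (LocalizedModule.map S g) := by
  intro y
  constructor
  · induction y using LocalizedModule.induction_on with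
    | h m s =>
      intro hy
      rw [LocalizedModule.map_mk, ← LocalizedModule.zero_mk s, LocalizedModule.mk_eq] at hy
      obtain ⟨a, ha⟩ := hy
      simp only [Submonoid.smul_def, smul_zero] at ha
      have h0 : g (((a : A) * (s : A)) • m) = 0 := by
        rw [map_smul, mul_smul, ha]
      obtain ⟨t, ht, x, hx⟩ := hH _ h0
      refine ⟨LocalizedModule.mk x (⟨t, ht⟩ * (a * s) * s), ?_⟩
      rw [LocalizedModule.map_mk, hx, LocalizedModule.mk_eq]
      refine ⟨1, ?_⟩
      simp only [one_smul, Submonoid.smul_def, Submonoid.coe_mul, smul_smul]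
      congr 1
      ring
  · rintro ⟨x, rfl⟩
    induction x using LocalizedModule.induction_on with
    | h m s => rw [LocalizedModule.map_mk, LocalizedModule.map_mk, hgf, LocalizedModule.zero_mk]

open CategoryTheory in
theorem homology_cond {A : Type u} [CommRing A] (S : Submonoid A)
    (Sc : ShortComplex (ModuleCat.{u} A))
    (h : Subsingleton (LocalizedModule S Sc.homology)) :
    ∀ y, Sc.g.hom y = 0 → ∃ s ∈ S, ∃ x, Sc.f.hom x = s • y := by
  intro y hy
  let E : Sc.homology ≃ₗ[A] (LinearMap.ker Sc.g.hom ⧸ LinearMap.range Sc.moduleCatToCycles) :=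
    Sc.moduleCatHomologyIso.toLinearEquiv
  let y' : LinearMap.ker Sc.g.hom := ⟨y, hy⟩
  let ybar : LinearMap.ker Sc.g.hom ⧸ LinearMap.range Sc.moduleCatToCycles :=
    (LinearMap.range Sc.moduleCatToCycles).mkQ y'
  let hh : Sc.homology := E.symm ybar
  have h1 : LocalizedModule.mk hh (1 : S) = LocalizedModule.mk 0 (1 : S) := Subsingleton.elim _ _
  rw [LocalizedModule.mk_eq] at h1
  obtain ⟨u, hu⟩ := h1
  simp only [one_smul, smul_zero] at hu
  have h2 : E (u • hh) = 0 := by rw [hu, map_zero]
  have h3 : E hh = ybar := E.apply_symm_apply ybar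
  rw [Submonoid.smul_def, map_smul, h3] at h2
  have h4 : (u : A) • y' ∈ LinearMap.range Sc.moduleCatToCycles := by
    rw [← Submodule.Quotient.mk_eq_zero, Submodule.Quotient.mk_smul]
    exact h2
  obtain ⟨x, hx⟩ := h4
  refine ⟨u, u.2, x, ?_⟩
  exact congrArg Subtype.val hx


open CategoryTheory CategoryTheory.Limits in
theorem result {A : Type u} [CommRing A]
    (P : CochainComplex (ModuleCat.{u} A) ℤ) (s : Finset ℤ)
    (hP : ∀ i : ℤ, Module.Finite A (P.X i) ∧ Module.Projective A (P.X i))
    (hs : ∀ i : ℤ, i ∉ s → IsZero (P.X i))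
    (hsupp : ∀ q : PrimeSpectrum A, q.asIdeal ∈ minimalPrimes A →
      ∀ i : ℤ, Subsingleton (LocalizedModule q.asIdeal.primeCompl (P.homology i))) :
    ∀ x : PrimeSpectrum A,
      (s.sum fun i => ((i.negOnePow : ℤˣ) : ℤ) * (Module.rankAtStalk (R := A) (P.X i) x : ℤ)) = 0 := by
  intro x
  obtain ⟨q, hq, hqx⟩ := Ideal.exists_minimalPrimes_le (bot_le : (⊥ : Ideal A) ≤ x.asIdeal)
  have hqp : q.IsPrime := hq.1.1
  let q' : PrimeSpectrum A := ⟨q, hqp⟩
  have hrank : ∀ i, Module.rankAtStalk (R := A) (P.X i) x =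
      Module.rankAtStalk (R := A) (P.X i) q' := by
    intro i
    have := (hP i).1
    have := (hP i).2
    have : Module.FinitePresentation A (P.X i) := Module.finitePresentation_of_projective A _
    have hlc := Module.isLocallyConstant_rankAtStalk (R := A) (M := P.X i)
    have hspec : q' ⤳ x := (PrimeSpectrum.le_iff_specializes q' x).mp hqx
    exact ((hspec.map hlc.continuous).eq).symm
  simp_rw [hrank]
  have hfin : ∀ i, Module.Finite (Localization.AtPrime q) (LocalizedModule q.primeCompl (P.X i)) := by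
    intro i
    have := (hP i).1
    infer_instance
  have hproj : ∀ i, Module.Projective (Localization.AtPrime q)
      (LocalizedModule q.primeCompl (P.X i)) := by
    intro i
    have := (hP i).2
    infer_instance
  have hex : ∀ i j k : ℤ, i + 1 = j → j + 1 = k →
      Function.Exact (LocalizedModule.map q.primeCompl (P.d i j).hom)
        (LocalizedModule.map q.primeCompl (P.d j k).hom) := by
    intro i j k hij hjk
    have hi : (ComplexShape.up ℤ).prev j = i := by
      rw [← hij]; simp
    have hk : (ComplexShape.up ℤ).next j = k := by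
      rw [← hjk]; simp
    subst hi
    subst hk
    apply loc_exact
    · intro y
      have := (P.sc j).moduleCat_zero_apply y
      exact this
    · exact homology_cond q.primeCompl (P.sc j) (hsupp q' hq j)
  have hs' : ∀ i, i ∉ s → Subsingleton (LocalizedModule q.primeCompl (P.X i)) := by
    intro i hi
    have : Subsingleton (P.X i) := ModuleCat.subsingleton_of_isZero (hs i hi)
    refine ⟨fun a b => ?_⟩
    induction a using LocalizedModule.induction_on with
    | h m s =>
      induction b using LocalizedModule.induction_on with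
      | h m' s' =>
        rw [Subsingleton.elim m 0, Subsingleton.elim m' 0, LocalizedModule.zero_mk,
          LocalizedModule.zero_mk]
  exact euler_zero (R := Localization.AtPrime q) (fun i => LocalizedModule q.primeCompl (P.X i))
    hfin hproj (fun i j => LocalizedModule.map q.primeCompl (P.d i j).hom) hex s hs'

end Groth.Agent.S14000
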