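import Groth.Statements.S14003
import Groth.Agent.Lib.Helper21.K0Sub
import Groth.Agent.Lib.Helper21.Devissage

set_option autoImplicit false
universe u
open CategoryTheory AlgebraicGeometry
open KZero

namespace Groth.Agent.S14003

/-- Let X be a Noetherian scheme and Y' a closed subset; write K_0 for the Grothendieck group of the
abelian category of coherent O_X-modules with support in Y' (free abelian group on its objects
modulo the relations of short exact sequences). Let (F_a) be a family of such modules such that for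
every irreducible closed subset Z ⊆ Y' with generic point ζ there is an index a with the support of
F_a contained in Z and the stalk of F_a at ζ of length one over the local ring (a one-dimensional
vector space over the residue field). Then the classes of the F_a generate K_0. (The published
statement omits the condition that the support of F_a lie in Z; without it the claim fails already
for the spectrum of a product of two fields, where the modules k_1 ⊕ k_2 ⊕ k_2 and k_1 ⊕ k_1 ⊕ k_2
have one-dimensional stalks at the two points but their classes generate a subgroup of index 3 in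
K_0 = ℤ².) -/
theorem result (X : Scheme.{u}) [IsNoetherian X]
    (Y' : Set X) (hY' : IsClosed Y') {ι : Type u} (F : ι → X.Modules)
    (hF : ∀ a : ι, Coh.IsCoh (F a) ∧ CohB1.support (F a) ⊆ Y')
    (hgen : ∀ (Z : Set X), IsClosed Z → IsIrreducible Z → Z ⊆ Y' → ∀ y : X, closure ({y} : Set X) = Z →
      ∃ a : ι, CohB1.support (F a) ⊆ Z ∧ Module.length (X.presheaf.stalk y) ((F a).presheaf.stalk y) = 1) :
    AddSubgroup.closure (Set.range fun a : ι =>
        KZero.clSub (fun G : X.Modules => Coh.IsCoh G ∧ CohB1.support G ⊆ Y') (F a)) = ⊤ := by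
  classical
  have hzeroPr : ∀ M : X.Modules, Limits.IsZero M →
      (Coh.IsCoh M ∧ CohB1.support M ⊆ Y') := by
    intro M hM
    refine ⟨Groth.Agent.Lib.Helper21.Devissage.isCoh_of_isZero hM, ?_⟩
    intro x hx
    exfalso
    apply hx
    refine ⟨fun s t => ?_⟩
    have h0 : ∀ s : M.presheaf.stalk x, s = 0 := by
      intro s
      obtain ⟨U, hxU, s', rfl⟩ := TopCat.Presheaf.exists_germ_eq M.presheaf s
      haveI := Groth.Agent.Lib.Helper21.Devissage.subsingleton_sections_of_isZero hM U
      have : s' = 0 := Subsingleton.elim _ _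
      rw [this, map_zero]
    rw [h0 s, h0 t]
  refine Groth.Agent.Lib.Helper21.K0Sub.eq_top_of_forall _ _ ?_
  rintro M ⟨hM, hMs⟩
  -- the predicate for dévissage
  let Pr : ObjectProperty X.Modules := fun G => Coh.IsCoh G ∧ CohB1.support G ⊆ Y'
  let H : AddSubgroup (K0sub Pr) :=
    AddSubgroup.closure (Set.range fun a : ι => KZero.clSub Pr (F a))
  change KZero.clSub Pr M ∈ H
  let P : X.Modules → Prop := fun M => KZero.clSub Pr M ∈ H
  have hadd : ∀ S : ShortComplex X.Modules, S.ShortExact → Coh.IsCoh S.X₁ → Coh.IsCoh S.X₂ →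
      Coh.IsCoh S.X₃ → CohB1.support S.X₂ ⊆ Y' →
      KZero.clSub Pr S.X₂ = KZero.clSub Pr S.X₁ + KZero.clSub Pr S.X₃ := by
    intro S hS h1 h2 h3 hs
    have := hS.mono_f
    have := hS.epi_g
    exact Groth.Agent.Lib.Helper21.K0Sub.clSub_add Pr S hS
      ⟨h1, (Groth.Agent.Lib.Helper21.StalkLen.support_of_mono S.f).trans hs⟩ ⟨h2, hs⟩
      ⟨h3, (Groth.Agent.Lib.Helper21.StalkLen.support_of_epi S.g).trans hs⟩
  obtain ⟨Z, hZ⟩ := Limits.HasZeroObject.zero (C := X.Modules)
  have hP : ∀ M N : X.Modules, Nonempty (M ≅ N) → P M → P N := by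
    rintro M N ⟨e⟩ hPM
    by_cases hN : Pr N
    · have hMr : Pr M := ⟨Groth.Agent.Lib.Helper21.Devissage.isCoh_of_iso e.symm hN.1, by
        rw [Groth.Agent.Lib.Helper21.StalkLen.support_eq_of_iso e]; exact hN.2⟩
      change KZero.clSub Pr N ∈ H
      rw [Groth.Agent.Lib.Helper21.K0Sub.clSub_iso Pr e hMr hN Z hZ (hzeroPr Z hZ)]
      exact hPM
    · change KZero.clSub Pr N ∈ H
      have : KZero.clSub Pr N = 0 := dif_neg hN
      rw [this]
      exact H.zero_mem
  have hzero : ∀ M : X.Modules, Limits.IsZero M → P M := by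
    intro M hM
    change KZero.clSub Pr M ∈ H
    rw [Groth.Agent.Lib.Helper21.K0Sub.clSub_eq_zero_of_isZero Pr M hM]
    exact H.zero_mem
  have h23 : ∀ S : ShortComplex X.Modules, S.ShortExact → Coh.IsCoh S.X₁ → Coh.IsCoh S.X₂ →
      Coh.IsCoh S.X₃ → CohB1.support S.X₂ ⊆ Y' →
      (P S.X₁ → P S.X₂ → P S.X₃) ∧ (P S.X₁ → P S.X₃ → P S.X₂) ∧ (P S.X₂ → P S.X₃ → P S.X₁) := by
    intro S hS h1 h2 h3 hs
    have e := hadd S hS h1 h2 h3 hs
    refine ⟨fun p1 p2 => ?_, fun p1 p3 => ?_, fun p2 p3 => ?_⟩
    · change KZero.clSub Pr S.X₃ ∈ H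
      have : KZero.clSub Pr S.X₃ = KZero.clSub Pr S.X₂ - KZero.clSub Pr S.X₁ := by
        rw [e]; abel
      rw [this]
      exact H.sub_mem p2 p1
    · change KZero.clSub Pr S.X₂ ∈ H
      rw [e]
      exact H.add_mem p1 p3
    · change KZero.clSub Pr S.X₁ ∈ H
      have : KZero.clSub Pr S.X₁ = KZero.clSub Pr S.X₂ - KZero.clSub Pr S.X₃ := by
        rw [e]; abel
      rw [this]
      exact H.sub_mem p2 p3
  refine Groth.Agent.Lib.Helper21.Devissage.noetherian_induction Y' P hP hzero
    (fun S hS h1 h2 h3 hs p1 p3 => (h23 S hS h1 h2 h3 hs).2.1 p1 p3) ?_ M hM hMs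
  intro Z₀ hZ₀ hirr hZY IH G hG hGs
  have hξ : closure {hirr.genericPoint} = Z₀ := by
    have := hirr.isGenericPoint_genericPoint_closure
    rw [hZ₀.closure_eq] at this
    exact this.def
  obtain ⟨a, has, hlen⟩ := hgen Z₀ hZ₀ hirr hZY hirr.genericPoint hξ
  refine Groth.Agent.Lib.Helper21.Devissage.two_of_three_step Z₀ P hP
    (fun S hS h1 h2 h3 hs => h23 S hS h1 h2 h3 (hs.trans hZY)) hirr.genericPoint hξ ?_
    (F a) (hF a).1 has (Module.length_eq_one_iff.mp hlen)
    (AddSubgroup.subset_closure ⟨a, rfl⟩) G hG hGs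
  intro F' hF' hs' hnot
  refine IH F' hF' hs' (fun h => hnot ?_)
  have hmem : hirr.genericPoint ∈ closure {hirr.genericPoint} :=
    subset_closure (Set.mem_singleton _)
  have hmem' : hirr.genericPoint ∈ Z₀ := by
    generalize hirr.genericPoint = y at hmem hξ
    rw [hξ] at hmem
    exact hmem
  rw [h]
  exact hmem'

end Groth.Agent.S14003
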