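import Groth.Statements.S14004
import Groth.Agent.Lib.Helper54.FSchThick
import Groth.Agent.S14008

set_option autoImplicit false
universe u
open CategoryTheory AlgebraicGeometry
open FSch

namespace Groth.Agent.S14004

open AlgebraicGeometry CategoryTheory CategoryTheory.Limits
open Groth.Agent.Lib.Helper54.FSchSpf

theorem surjective_toX' {𝔖 : FSch.Sys.{u}} (h𝔖 : 𝔖.IsFormal) (n : ℕ) :
    Function.Surjective (𝔖.toX n) := by
  induction n with
  | zero => exact fun x => ⟨x, rfl⟩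
  | succ n ih =>
    show Function.Surjective (𝔖.toX n ≫ 𝔖.ι n)
    rw [Scheme.Hom.comp_base, TopCat.coe_comp]
    exact (h𝔖 n).2.comp ih

/-- the residue field map of a closed immersion is an isomorphism -/
theorem isIso_residueFieldMap_of_isClosedImmersion {X Y : Scheme.{u}} (g : X ⟶ Y)
    [IsClosedImmersion g] (x : X) : IsIso (g.residueFieldMap x) := by
  rw [ConcreteCategory.isIso_iff_bijective]
  constructor
  · exact RingHom.injective _
  · intro t
    obtain ⟨t, rfl⟩ := IsLocalRing.residue_surjective t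
    obtain ⟨s, rfl⟩ := g.stalkMap_surjective x t
    exact ⟨IsLocalRing.residue _ s, rfl⟩

theorem nilpotent_ker_toX {𝔖 : FSch.Sys.{u}} (hF : 𝔖.IsFormal) (hA : 𝔖.IsAdic) (n : ℕ)
    (U : (𝔖.X n).affineOpens) : IsNilpotent ((𝔖.toX n).ker.ideal U) := by
  refine ⟨n + 1, ?_⟩
  have := congrArg (fun K : (𝔖.X n).IdealSheafData => K.ideal U) (ker_toX_pow_eq_bot hF hA n)
  simpa using this

set_option backward.isDefEq.respectTransparency false in
theorem smooth_of_isPullback_of_isIso {P X Y Z : Scheme.{u}} {fst : P ⟶ X} {snd : P ⟶ Y}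
    {f : X ⟶ Z} {g : Y ⟶ Z} (h : IsPullback fst snd f g) [IsIso g]
    [AlgebraicGeometry.Smooth snd] : AlgebraicGeometry.Smooth f := by
  have : IsIso fst := h.isIso_fst_of_isIso
  have h1 : AlgebraicGeometry.Smooth (fst ≫ f) := by
    rw [h.w]
    exact (MorphismProperty.cancel_right_of_respectsIso (P := @AlgebraicGeometry.Smooth)
      snd g).mpr inferInstance
  exact (MorphismProperty.cancel_left_of_respectsIso (P := @AlgebraicGeometry.Smooth) fst f).mp h1

set_option backward.isDefEq.respectTransparency false in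
theorem smooth_level (𝔛 𝔜 : FSch.Sys.{u})
    (h𝔛 : 𝔛.IsLocNoethFormal) (h𝔜 : 𝔜.IsLocNoethFormal) (f : 𝔛 ⟶ 𝔜) (hf : FSch.IsAdicHom f)
    (hflat : ∀ n : ℕ, Flat ((f : FSch.Hom 𝔛 𝔜).app n))
    (h0 : AlgebraicGeometry.Smooth ((f : FSch.Hom 𝔛 𝔜).app 0)) (n : ℕ) :
    AlgebraicGeometry.Smooth ((f : FSch.Hom 𝔛 𝔜).app n) := by
  have hpb := isPullback_toX f hf n
  have ciX : IsClosedImmersion (𝔛.toX n) := isClosedImmersion_toX h𝔛.1 n
  have ciY : IsClosedImmersion (𝔜.toX n) := isClosedImmersion_toX h𝔜.1 n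
  have hnX : IsLocallyNoetherian (𝔛.X n) := h𝔛.2.2 n
  have hnY : IsLocallyNoetherian (𝔜.X n) := h𝔜.2.2 n
  have hflatn : Flat ((f : FSch.Hom 𝔛 𝔜).app n) := hflat n
  -- locally of finite presentation
  have hlfp : LocallyOfFinitePresentation ((f : FSch.Hom 𝔛 𝔜).app n) := by
    have h0' : LocallyOfFinitePresentation ((f : FSch.Hom 𝔛 𝔜).app 0) := inferInstance
    refine (Groth.Agent.S14008.result ((f : FSch.Hom 𝔛 𝔜).app n) ((f : FSch.Hom 𝔛 𝔜).app 0)
      (𝔛.toX n) (𝔜.toX n) ⟨ciX, ⟨surjective_toX' h𝔛.1 n⟩⟩ ⟨ciY, ⟨surjective_toX' h𝔜.1 n⟩⟩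
      (nilpotent_ker_toX h𝔛.1 h𝔛.2.1 n) (nilpotent_ker_toX h𝔜.1 h𝔜.2.1 n) ?_ hpb.w.symm).mpr h0'
    intro U
    have : IsNoetherianRing Γ(𝔛.X n, U.1) := IsLocallyNoetherian.component_noetherian U
    exact IsNoetherian.noetherian _
  apply Smooth.of_smooth_fiberToSpecResidueField
  intro y
  obtain ⟨y0, rfl⟩ := surjective_toX' h𝔜.1 n y
  have hfib := isPullback_fiberToSpecResidueField_of_isPullback hpb y0
  have hiso : IsIso (Spec.map ((𝔜.toX n).residueFieldMap y0)) := by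
    have := isIso_residueFieldMap_of_isClosedImmersion (𝔜.toX n) y0
    infer_instance
  have hsm0 : AlgebraicGeometry.Smooth (((f : FSch.Hom 𝔛 𝔜).app 0).fiberToSpecResidueField y0) :=
    MorphismProperty.pullback_snd (P := @AlgebraicGeometry.Smooth) _ _ h0
  exact smooth_of_isPullback_of_isIso hfib


/-- Formal schemes are modelled as ℕ-indexed systems of thickenings. Let 𝔛 and 𝔜 be locally Noetherian
adic formal systems and f : 𝔛 ⟶ 𝔜 an adic morphism (every square X_n → X_{n+1}, Y_n → Y_{n+1}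
cartesian) all of whose levels f_n : X_n ⟶ Y_n are flat. Then f is smooth, in the sense that every
level f_n is smooth, if and only if the bottom level f_0 is smooth. -/
theorem result (𝔛 𝔜 : FSch.Sys.{u})
    (h𝔛 : 𝔛.IsLocNoethFormal) (h𝔜 : 𝔜.IsLocNoethFormal) (f : 𝔛 ⟶ 𝔜) (hf : FSch.IsAdicHom f)
    (hflat : ∀ n : ℕ, Flat ((f : FSch.Hom 𝔛 𝔜).app n)) :
    (∀ n : ℕ, AlgebraicGeometry.Smooth ((f : FSch.Hom 𝔛 𝔜).app n)) ↔
      AlgebraicGeometry.Smooth ((f : FSch.Hom 𝔛 𝔜).app 0) := by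
  exact ⟨fun h => h 0, fun h0 n => smooth_level 𝔛 𝔜 h𝔛 h𝔜 f hf hflat h0 n⟩

end Groth.Agent.S14004
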