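import Groth.Statements.S14005
import Mathlib

set_option autoImplicit false
universe u
open CategoryTheory AlgebraicGeometry
open CohTop

namespace Groth.Agent.S14005

open TopologicalSpace in
theorem top_lemma {X : Type*} [TopologicalSpace X] [QuasiSober X] (x : X) (U : Opens X)
    (hxU : x ∈ U) [NoetherianSpace U] (Z : Set X)
    (hZ : IsClosed ((↑) ⁻¹' Z : Set U))
    (h : ∀ y, y ⤳ x → y ∈ Z → y ∈ U → y = x) :
    ∃ W : Opens X, W ≤ U ∧ x ∈ W ∧ ∀ w ∈ W, w ∈ Z → w ∈ closure ({x} : Set X) := by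
  obtain ⟨S, hSf, hSc, hSi, hSU⟩ := NoetherianSpace.exists_finite_set_isClosed_irreducible hZ
  haveI : QuasiSober U := U.isOpenEmbedding'.quasiSober
  let x' : U := ⟨x, hxU⟩
  let T : Set U := ⋃ C ∈ {C ∈ S | x' ∉ C}, C
  have hT : IsClosed T := by
    apply Set.Finite.isClosed_biUnion
    · exact hSf.subset (fun C hC => hC.1)
    · intro C hC
      exact hSc C hC.1
  have hW : IsOpen (Subtype.val '' Tᶜ : Set X) :=
    U.isOpen.isOpenMap_subtype_val _ hT.isOpen_compl
  refine ⟨⟨Subtype.val '' Tᶜ, hW⟩, ?_, ?_, ?_⟩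
  · rintro _ ⟨w, -, rfl⟩
    exact w.2
  · refine ⟨x', ?_, rfl⟩
    simp only [T, Set.mem_compl_iff, Set.mem_iUnion, not_exists]
    intro C hC hx
    exact hC.2 hx
  · rintro _ ⟨w, hw, rfl⟩ hwZ
    have hw' : w ∈ ((↑) ⁻¹' Z : Set U) := hwZ
    rw [hSU] at hw'
    obtain ⟨C, hC, hwC⟩ := hw'
    have hxC : x' ∈ C := by
      by_contra hcon
      apply hw
      simp only [T, Set.mem_iUnion]
      exact ⟨C, ⟨hC, hcon⟩, hwC⟩
    have hgen := (hSi C hC).isGenericPoint_genericPoint (hSc C hC)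
    set η := (hSi C hC).genericPoint
    have h1 : η ⤳ x' := hgen.specializes hxC
    have h2 : (η : X) ⤳ x := h1.map continuous_subtype_val
    have h3 : (η : X) ∈ Z := by
      have : η ∈ ((↑) ⁻¹' Z : Set U) := by
        rw [hSU]
        exact ⟨C, hC, hgen.mem⟩
      exact this
    have h4 : (η : X) = x := h _ h2 h3 η.2
    have h5 : η ⤳ w := hgen.specializes hwC
    have h6 : (η : X) ⤳ (w : X) := h5.map continuous_subtype_val
    rw [h4] at h6
    exact specializes_iff_mem_closure.mp h6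

theorem germ_zero_nhds {X : Scheme.{u}} (F : TopCat.Sheaf AddCommGrpCat.{u} X.carrier)
    (U : X.Opens) (t : F.presheaf.obj (Opposite.op U)) (u : X) (hu : u ∈ U)
    (h : F.presheaf.germ U u hu t = 0) :
    ∃ W : X.Opens, W ≤ U ∧ u ∈ W ∧ ∀ (w : X) (hw : w ∈ U), w ∈ W → F.presheaf.germ U w hw t = 0 := by
  have h' : F.presheaf.germ U u hu t = F.presheaf.germ U u hu 0 := by
    rw [h, map_zero]
  obtain ⟨W, hW, iU, iV, e⟩ := F.presheaf.germ_eq u hu hu t 0 h'
  refine ⟨W, iU.le, hW, ?_⟩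
  intro w hw hwW
  rw [← F.presheaf.germ_res_apply iU w hwW t, e, map_zero, map_zero]

theorem result {X : Scheme.{u}}
    (hX : ∀ x : X, ∃ U : X.Opens, x ∈ U ∧ TopologicalSpace.NoetherianSpace U)
    (F : TopCat.Sheaf AddCommGrpCat.{u} X.carrier) (x : X) (s : F.presheaf.stalk x) :
    (∃ (U : X.Opens) (hx : x ∈ U) (t : F.presheaf.obj (Opposite.op U)),
        F.presheaf.germ U x hx t = s ∧
          ∀ (u : X) (hu : u ∈ U), F.presheaf.germ U u hu t ≠ 0 → u ∈ closure ({x} : Set X)) ↔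
      ∀ (y : X) (h : y ⤳ x), y ≠ x → F.presheaf.stalkSpecializes h s = 0 := by
  constructor
  · rintro ⟨U, hx, t, rfl, ht⟩ y h hne
    have hy : y ∈ U := h.mem_open U.isOpen hx
    have : F.presheaf.stalkSpecializes h (F.presheaf.germ U x hx t) = F.presheaf.germ U y hy t :=
      TopCat.Presheaf.germ_stalkSpecializes_apply F.presheaf hx h t
    rw [this]
    by_contra hcon
    have h1 := ht y hy hcon
    have h2 : x ⤳ y := specializes_iff_mem_closure.mpr h1
    exact hne ((h.antisymm h2).eq)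
  · intro hs
    obtain ⟨U0, hx0, t0, rfl⟩ := F.presheaf.exists_germ_eq s
    obtain ⟨V, hxV, hV⟩ := hX x
    let U1 : X.Opens := U0 ⊓ V
    have hxU1 : x ∈ U1 := ⟨hx0, hxV⟩
    haveI hV' : TopologicalSpace.NoetherianSpace ((V : Set X) : Type u) := hV
    haveI : TopologicalSpace.NoetherianSpace U1 :=
      TopologicalSpace.NoetherianSpace.of_subset (W := (V : Set X)) (V := (U1 : Set X))
        Set.inter_subset_right
    let t1 : F.presheaf.obj (Opposite.op U1) := F.presheaf.map (homOfLE inf_le_left).op t0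
    have ht1 : ∀ (u : X) (hu : u ∈ U1), F.presheaf.germ U1 u hu t1 = F.presheaf.germ U0 u hu.1 t0 := by
      intro u hu
      exact F.presheaf.germ_res_apply (homOfLE inf_le_left) u hu t0
    let Z : Set X := {u | ∃ hu : u ∈ U1, F.presheaf.germ U1 u hu t1 ≠ 0}
    have hZ : IsClosed ((Subtype.val : U1 → X) ⁻¹' Z : Set U1) := by
      rw [← isOpen_compl_iff, isOpen_iff_forall_mem_open]
      intro u hu
      have hu0 : F.presheaf.germ U1 u.1 u.2 t1 = 0 := by
        by_contra hcon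
        exact hu ⟨u.2, hcon⟩
      obtain ⟨W, hWU, huW, hW⟩ := germ_zero_nhds F U1 t1 u.1 u.2 hu0
      refine ⟨(Subtype.val : U1 → X) ⁻¹' (W : Set X), ?_, W.isOpen.preimage continuous_subtype_val, huW⟩
      intro w hw hwZ
      obtain ⟨hw1, hw2⟩ := hwZ
      exact hw2 (hW w.1 hw1 hw)
    have hcond : ∀ y, y ⤳ x → y ∈ Z → y ∈ U1 → y = x := by
      intro y hy hyZ hyU
      by_contra hne
      have h0 := hs y hy hne
      have : F.presheaf.stalkSpecializes hy (F.presheaf.germ U0 x hx0 t0) =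
          F.presheaf.germ U0 y hyU.1 t0 :=
        TopCat.Presheaf.germ_stalkSpecializes_apply F.presheaf hx0 hy t0
      rw [this, ← ht1 y hyU] at h0
      obtain ⟨_, hyZ'⟩ := hyZ
      exact hyZ' h0
    have hN : TopologicalSpace.NoetherianSpace U1 := this
    obtain ⟨W, hWU, hxW, hW⟩ := @top_lemma _ _ _ x U1 hxU1 hN Z hZ hcond
    refine ⟨W, hxW, F.presheaf.map (homOfLE hWU).op t1, ?_, ?_⟩
    · rw [F.presheaf.germ_res_apply (homOfLE hWU) x hxW t1, ht1]
    · intro u hu hne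
      apply hW u hu
      refine ⟨hWU hu, ?_⟩
      rwa [F.presheaf.germ_res_apply (homOfLE hWU) u hu t1] at hne

end Groth.Agent.S14005
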