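import Groth.Statements.S3862
import Groth.Agent.Lib.Helper54.FSchComap
-- import your own Groth.Agent.* helpers here

set_option autoImplicit false
universe u
open FCompl

namespace Groth.Agent.S3862

open AlgebraicGeometry CategoryTheory CategoryTheory.Limits
open Groth.Agent.Lib.Helper54.FSchSpf

section aux
variable {X Y : Scheme.{u}} (f : X ⟶ Y) (𝓚 : Y.IdealSheafData)
    (h : FSch.PowCompat f (𝓚.comap f) 𝓚)

theorem part1 (n : ℕ) : IsPullback (FSch.completionToX X (𝓚.comap f) n)
    ((FSch.completionMap f (𝓚.comap f) 𝓚 h : FSch.Hom _ _).app n) f (FSch.completionToX Y 𝓚 n) := by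
  have i1 : IsClosedImmersion (FSch.completionToX X (𝓚.comap f) n) :=
    inferInstanceAs (IsClosedImmersion ((𝓚.comap f) ^ (n + 1)).subschemeι)
  have i2 : IsClosedImmersion (FSch.completionToX Y 𝓚 n) :=
    inferInstanceAs (IsClosedImmersion (𝓚 ^ (n + 1)).subschemeι)
  refine isPullback_of_isClosedImmersion _ _ _ _ ?_ ?_
  · rw [FSch.completionMap_app]
    exact (Scheme.IdealSheafData.subschemeMap_subschemeι _ _ _ _).symm
  · have e1 : (FSch.completionToX Y 𝓚 n).ker = 𝓚 ^ (n + 1) :=
      Scheme.IdealSheafData.ker_subschemeι _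
    have e2 : (FSch.completionToX X (𝓚.comap f) n).ker = (𝓚.comap f) ^ (n + 1) :=
      Scheme.IdealSheafData.ker_subschemeι _
    rw [e1, e2, comap_pow]

theorem part2 : FSch.IsAdicHom (FSch.completionMap f (𝓚.comap f) 𝓚 h) := by
  intro n
  have h1 := part1 f 𝓚 h n
  have h2 := part1 f 𝓚 h (n + 1)
  have eX : (FSch.completionAlong X (𝓚.comap f)).ι n ≫ FSch.completionToX X (𝓚.comap f) (n + 1) =
      FSch.completionToX X (𝓚.comap f) n :=
    Scheme.IdealSheafData.inclusion_subschemeι _
  have eY : (FSch.completionAlong Y 𝓚).ι n ≫ FSch.completionToX Y 𝓚 (n + 1) =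
      FSch.completionToX Y 𝓚 n :=
    Scheme.IdealSheafData.inclusion_subschemeι _
  rw [← eX, ← eY] at h1
  exact IsPullback.of_right h1 ((FSch.completionMap f (𝓚.comap f) 𝓚 h : FSch.Hom _ _).comm n).symm h2

end aux

open AlgebraicGeometry in
open CategoryTheory in
/-- Completions are presented by the closed subschemes cut out by the powers of an ideal sheaf 𝓚 on Y
and by the powers of its inverse image ideal on X. For a morphism of schemes f : X → Y, the
completion X̂ of X along the inverse image ideal is X ×_Y Ŷ: at every level n the square formed by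
the inclusion X'_n → X, the completed morphism X'_n → Y'_n, f and the inclusion Y'_n → Y is
cartesian, and the completed morphism X̂ → Ŷ is adic (each square X'_n → X'_(n+1), Y'_n → Y'_(n+1)
is cartesian). The compatibility of f with the powers of the two ideals (the inverse image of
𝓚^(n+1) is contained in the (n+1)-st power of the inverse image ideal of 𝓚), needed to define the
completed morphism, holds for inverse image ideals and is carried as the hypothesis h. -/
theorem result {X Y : Scheme.{u}} (f : X ⟶ Y) (𝓚 : Y.IdealSheafData)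
    (h : FSch.PowCompat f (𝓚.comap f) 𝓚) :
    (∀ n : ℕ, IsPullback (FSch.completionToX X (𝓚.comap f) n)
        ((FSch.completionMap f (𝓚.comap f) 𝓚 h : FSch.Hom _ _).app n) f (FSch.completionToX Y 𝓚 n)) ∧
      FSch.IsAdicHom (FSch.completionMap f (𝓚.comap f) 𝓚 h) := by
  exact ⟨part1 f 𝓚 h, part2 f 𝓚 h⟩

end Groth.Agent.S3862
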