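import Groth.Statements.S14006
import Groth.Agent.Lib.Helper54.SmoothLift2
import Groth.Agent.Lib.Helper54.FSchCompl
import Groth.Agent.Lib.Helper54.FSchNoeth
import Groth.Agent.S3862

set_option autoImplicit false
universe u
open CategoryTheory AlgebraicGeometry
open FSch

namespace Groth.Agent.S14006

open CategoryTheory.Limits
open Groth.Agent.Lib.Helper54.FSchSpf Groth.Agent.Lib.Helper54.SmoothLift

section Tower

variable {R B : Type u} [CommRing R] [CommRing B] [Algebra R B] [Algebra.FormallySmooth R B]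
  (𝔘 : FSch.Sys.{u}) (haff : ∀ n, IsAffine (𝔘.X n))
  (hsurj : ∀ n, Function.Surjective (𝔘.ι n).appTop.hom)
  (hnil : ∀ n, IsNilpotent (RingHom.ker (𝔘.ι n).appTop.hom))
  (β : ∀ n, 𝔘.X n ⟶ Spec (CommRingCat.of R)) (hβ : ∀ n, 𝔘.ι n ≫ β (n + 1) = β n)
  (α₀ : 𝔘.X 0 ⟶ Spec (CommRingCat.of B))
  (h₀ : α₀ ≫ Spec.map (CommRingCat.ofHom (algebraMap R B)) = β 0)

include haff hsurj hnil hβ in
theorem exists_step (n : ℕ) (α : 𝔘.X n ⟶ Spec (CommRingCat.of B))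
    (hα : α ≫ Spec.map (CommRingCat.ofHom (algebraMap R B)) = β n) :
    ∃ α' : 𝔘.X (n + 1) ⟶ Spec (CommRingCat.of B), 𝔘.ι n ≫ α' = α ∧
      α' ≫ Spec.map (CommRingCat.ofHom (algebraMap R B)) = β (n + 1) := by
  have := haff n
  have := haff (n + 1)
  exact exists_lift_of_isAffine (𝔘.ι n) (hsurj n) (hnil n) α (β (n + 1)) (by rw [hβ n, hα])

/-- the recursively chosen compatible lifts -/
noncomputable def liftSeq : ∀ n, {α : 𝔘.X n ⟶ Spec (CommRingCat.of B) //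
    α ≫ Spec.map (CommRingCat.ofHom (algebraMap R B)) = β n}
  | 0 => ⟨α₀, h₀⟩
  | n + 1 => ⟨(exists_step 𝔘 haff hsurj hnil β hβ n (liftSeq n).1 (liftSeq n).2).choose,
      (exists_step 𝔘 haff hsurj hnil β hβ n (liftSeq n).1 (liftSeq n).2).choose_spec.2⟩

theorem liftSeq_zero : (liftSeq 𝔘 haff hsurj hnil β hβ α₀ h₀ 0).1 = α₀ := rfl

theorem liftSeq_succ (n : ℕ) : 𝔘.ι n ≫ (liftSeq 𝔘 haff hsurj hnil β hβ α₀ h₀ (n + 1)).1 =
    (liftSeq 𝔘 haff hsurj hnil β hβ α₀ h₀ n).1 :=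
  (exists_step 𝔘 haff hsurj hnil β hβ n (liftSeq 𝔘 haff hsurj hnil β hβ α₀ h₀ n).1
    (liftSeq 𝔘 haff hsurj hnil β hβ α₀ h₀ n).2).choose_spec.1

include haff hsurj hnil hβ h₀ in
theorem exists_tower : ∃ α : ∀ n, 𝔘.X n ⟶ Spec (CommRingCat.of B), α 0 = α₀ ∧
    (∀ n, 𝔘.ι n ≫ α (n + 1) = α n) ∧
    ∀ n, α n ≫ Spec.map (CommRingCat.ofHom (algebraMap R B)) = β n :=
  ⟨fun n => (liftSeq 𝔘 haff hsurj hnil β hβ α₀ h₀ n).1, liftSeq_zero 𝔘 haff hsurj hnil β hβ α₀ h₀,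
    liftSeq_succ 𝔘 haff hsurj hnil β hβ α₀ h₀,
    fun n => (liftSeq 𝔘 haff hsurj hnil β hβ α₀ h₀ n).2⟩

end Tower

section ComplAffine

theorem ker_ι_sq {𝔛 : FSch.Sys.{u}} (hF : 𝔛.IsFormal) (hA : 𝔛.IsAdic) (n : ℕ) :
    (𝔛.ι n).ker ^ 2 = ⊥ := by
  rw [hA n, ← pow_mul, show (n + 1) * 2 = (n + 1 + 1) + n by ring, pow_add,
    ker_toX_pow_eq_bot hF hA (n + 1)]
  exact zero_mul _

theorem nilpotent_of_sq_eq_bot {X : Scheme.{u}} (I : X.IdealSheafData) (h : I ^ 2 = ⊥)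
    (U : X.affineOpens) : IsNilpotent (I.ideal U) := by
  refine ⟨2, ?_⟩
  have := congrArg (fun K : X.IdealSheafData => K.ideal U) h
  simpa using this

variable (U : Scheme.{u}) [IsAffine U] (𝓘 : U.IdealSheafData)

theorem isAffine_level (n : ℕ) : IsAffine ((FSch.completionAlong U 𝓘).X n) := by
  show IsAffine (𝓘 ^ (n + 1)).subscheme
  exact isAffine_of_isAffineHom (𝓘 ^ (n + 1)).subschemeι

theorem surjective_ι (n : ℕ) :
    Function.Surjective ((FSch.completionAlong U 𝓘).ι n).appTop.hom := by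
  have i1 : IsAffine ((FSch.completionAlong U 𝓘).X (n + 1)) := isAffine_level U 𝓘 (n + 1)
  have i2 : IsClosedImmersion ((FSch.completionAlong U 𝓘).ι n) :=
    (isFormal_completionAlong U 𝓘 n).1
  exact (IsClosedImmersion.isAffine_surjective_of_isAffine ((FSch.completionAlong U 𝓘).ι n)).2

theorem nilpotent_ι (n : ℕ) :
    IsNilpotent (RingHom.ker ((FSch.completionAlong U 𝓘).ι n).appTop.hom) := by
  have hsq : ((FSch.completionAlong U 𝓘).ι n).ker ^ 2 = ⊥ :=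
    ker_ι_sq (isFormal_completionAlong U 𝓘) (isAdic_completionAlong U 𝓘) n
  have i1 : IsAffine ((FSch.completionAlong U 𝓘).X (n + 1)) := isAffine_level U 𝓘 (n + 1)
  have : IsClosedImmersion ((FSch.completionAlong U 𝓘).ι n) := (isFormal_completionAlong U 𝓘 n).1
  have h := nilpotent_of_sq_eq_bot _ hsq ⟨⊤, isAffineOpen_top _⟩
  rwa [Scheme.Hom.ker_apply] at h

end ComplAffine

section Chart

variable {S : Scheme.{u}} (𝒥 : S.IdealSheafData) {V : Scheme.{u}} (g : V ⟶ S)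

theorem powCompat_comap : FSch.PowCompat g (𝒥.comap g) 𝒥 :=
  fun n => le_of_eq (comap_pow g 𝒥 (n + 1))

/-- the morphism of completions induced by `g`, the source completed along the pulled back ideal -/
noncomputable def chartHom : FSch.completionAlong V (𝒥.comap g) ⟶ FSch.completionAlong S 𝒥 :=
  FSch.completionMap g (𝒥.comap g) 𝒥 (powCompat_comap 𝒥 g)

theorem chart_sq (n : ℕ) : IsPullback (FSch.completionToX V (𝒥.comap g) n)
    ((chartHom 𝒥 g : FSch.Hom _ _).app n) g (FSch.completionToX S 𝒥 n) :=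
  (Groth.Agent.S3862.result g 𝒥 (powCompat_comap 𝒥 g)).1 n

theorem chart_adic : FSch.IsAdicHom (chartHom 𝒥 g) :=
  (Groth.Agent.S3862.result g 𝒥 (powCompat_comap 𝒥 g)).2

theorem chart_smooth [Smooth g] (n : ℕ) : Smooth ((chartHom 𝒥 g : FSch.Hom _ _).app n) :=
  MorphismProperty.of_isPullback (chart_sq 𝒥 g n) inferInstance

theorem smooth_chart {W : S.Opens} (hW : IsAffineOpen W) (B : Type u) [CommRing B]
    [Algebra Γ(S, W) B] [Algebra.Smooth Γ(S, W) B] :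
    Smooth (Spec.map (CommRingCat.ofHom (algebraMap Γ(S, W) B)) ≫ hW.fromSpec) := by
  have : Smooth (Spec.map (CommRingCat.ofHom (algebraMap Γ(S, W) B))) := by
    rw [HasRingHomProperty.Spec_iff (P := @Smooth)]
    exact RingHom.smooth_algebraMap.mpr inferInstance
  infer_instance

end Chart


/-- Formal schemes are modelled as ℕ-indexed systems of thickenings. Let S be a locally Noetherian
scheme, 𝒥 a quasi-coherent ideal of O_S, 𝔖 the completion of S along 𝒥 (the system of the closed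
subschemes defined by the powers 𝒥^{n+1}) and S₀ its bottom level. Let X₀ and Y₀ be schemes smooth
over S₀ via a and b, f : X₀ ⟶ Y₀ a morphism with f ≫ b = a, and x a point of X₀. Then there are an
open neighbourhood U₀ of x and an open V₀ of Y₀ with f(U₀) ⊆ V₀, systems 𝔘 and 𝔙 with adic morphisms
p : 𝔘 ⟶ 𝔖 and q : 𝔙 ⟶ 𝔖 (all squares cartesian) all of whose levels are smooth, a morphism Φ : 𝔘 ⟶ 𝔙
with Φ ≫ q = p, and isomorphisms of the bottom levels of 𝔘 and 𝔙 with U₀ and V₀, compatible with the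
maps to S₀, under which the bottom level of Φ is the restriction U₀ ⟶ V₀ of f. In words: locally on
X₀ the morphism f has a smooth formal lifting over 𝔖. -/
theorem result (S : Scheme.{u}) [IsLocallyNoetherian S]
    (𝒥 : S.IdealSheafData) {X₀ Y₀ : Scheme.{u}}
    (a : X₀ ⟶ (FSch.completionAlong S 𝒥).X 0) (b : Y₀ ⟶ (FSch.completionAlong S 𝒥).X 0)
    [AlgebraicGeometry.Smooth a] [AlgebraicGeometry.Smooth b] (f : X₀ ⟶ Y₀) (w : f ≫ b = a) (x : X₀) :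
    ∃ (U₀ : X₀.Opens) (V₀ : Y₀.Opens) (hU : x ∈ U₀) (hUV : U₀ ≤ f ⁻¹ᵁ V₀)
      (𝔘 𝔙 : FSch.Sys.{u}) (p : 𝔘 ⟶ FSch.completionAlong S 𝒥) (q : 𝔙 ⟶ FSch.completionAlong S 𝒥)
      (Φ : 𝔘 ⟶ 𝔙) (eU : 𝔘.X 0 ≅ U₀.toScheme) (eV : 𝔙.X 0 ≅ V₀.toScheme),
      Φ ≫ q = p ∧ FSch.IsAdicHom p ∧ FSch.IsAdicHom q ∧
      (∀ n : ℕ, AlgebraicGeometry.Smooth ((p : FSch.Hom 𝔘 _).app n)) ∧
      (∀ n : ℕ, AlgebraicGeometry.Smooth ((q : FSch.Hom 𝔙 _).app n)) ∧
      eU.hom ≫ U₀.ι ≫ a = (p : FSch.Hom 𝔘 _).app 0 ∧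
      eV.hom ≫ V₀.ι ≫ b = (q : FSch.Hom 𝔙 _).app 0 ∧
      (Φ : FSch.Hom 𝔘 𝔙).app 0 ≫ eV.hom = eU.hom ≫ f.resLE V₀ U₀ hUV := by
  let i : (FSch.completionAlong S 𝒥).X 0 ⟶ S := FSch.completionToX S 𝒥 0
  have hi : IsClosedImmersion i := by
    show IsClosedImmersion (𝒥 ^ (0 + 1)).subschemeι
    infer_instance
  obtain ⟨W, hW, hxW, -⟩ := exists_isAffineOpen_mem_and_subset (x := i (a x)) (U := ⊤) trivial
  have hy : i (b (f x)) ∈ W := by
    have hbf : b (f x) = a x := by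
      rw [← w]
      rfl
    rw [hbf]
    exact hxW
  obtain ⟨V₀, hV₀, hyV₀, -, B, iB1, iB2, iB3, jV, sqLV⟩ :=
    exists_local_lift i W hW b (f x) hy ⊤ trivial
  obtain ⟨U₀, hU₀, hxU₀, hUV, C, iC1, iC2, iC3, jU, sqLU⟩ :=
    exists_local_lift i W hW a x hxW (f ⁻¹ᵁ V₀) hyV₀
  -- the charts
  let gV : Spec (CommRingCat.of B) ⟶ S :=
    Spec.map (CommRingCat.ofHom (algebraMap Γ(S, W) B)) ≫ hW.fromSpec
  let gU : Spec (CommRingCat.of C) ⟶ S :=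
    Spec.map (CommRingCat.ofHom (algebraMap Γ(S, W) C)) ≫ hW.fromSpec
  have hgV : Smooth gV := smooth_chart hW B
  have hgU : Smooth gU := smooth_chart hW C
  let 𝔙 : FSch.Sys.{u} := FSch.completionAlong (Spec (CommRingCat.of B)) (𝒥.comap gV)
  let 𝔘 : FSch.Sys.{u} := FSch.completionAlong (Spec (CommRingCat.of C)) (𝒥.comap gU)
  let q : 𝔙 ⟶ FSch.completionAlong S 𝒥 := chartHom 𝒥 gV
  let p : 𝔘 ⟶ FSch.completionAlong S 𝒥 := chartHom 𝒥 gU
  -- identification of the bottom levels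
  let eV : 𝔙.X 0 ≅ V₀.toScheme := (chart_sq 𝒥 gV 0).isoIsPullback _ _ sqLV
  let eU : 𝔘.X 0 ≅ U₀.toScheme := (chart_sq 𝒥 gU 0).isoIsPullback _ _ sqLU
  have heV1 : eV.hom ≫ jV = FSch.completionToX _ (𝒥.comap gV) 0 :=
    IsPullback.isoIsPullback_hom_fst _ _ _ _
  have heV2 : eV.hom ≫ V₀.ι ≫ b = (q : FSch.Hom _ _).app 0 :=
    IsPullback.isoIsPullback_hom_snd _ _ _ _
  have heU1 : eU.hom ≫ jU = FSch.completionToX _ (𝒥.comap gU) 0 :=
    IsPullback.isoIsPullback_hom_fst _ _ _ _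
  have heU2 : eU.hom ≫ U₀.ι ≫ a = (p : FSch.Hom _ _).app 0 :=
    IsPullback.isoIsPullback_hom_snd _ _ _ _
  -- the tower of lifts
  let β : ∀ n, 𝔘.X n ⟶ Spec (CommRingCat.of Γ(S, W)) := fun n =>
    FSch.completionToX _ (𝒥.comap gU) n ≫ Spec.map (CommRingCat.ofHom (algebraMap Γ(S, W) C))
  have hβ : ∀ n, 𝔘.ι n ≫ β (n + 1) = β n := fun n => by
    show Scheme.IdealSheafData.inclusion _ ≫ _ ≫ _ = _
    rw [Scheme.IdealSheafData.inclusion_subschemeι_assoc]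
    rfl
  let α₀ : 𝔘.X 0 ⟶ Spec (CommRingCat.of B) := eU.hom ≫ f.resLE V₀ U₀ hUV ≫ jV
  have hres : f.resLE V₀ U₀ hUV ≫ V₀.ι ≫ b = U₀.ι ≫ a := by
    rw [← Category.assoc, Scheme.Hom.resLE_comp_ι, Category.assoc, w]
  have h₀ : α₀ ≫ Spec.map (CommRingCat.ofHom (algebraMap Γ(S, W) B)) = β 0 := by
    rw [← cancel_mono hW.fromSpec]
    show (eU.hom ≫ f.resLE V₀ U₀ hUV ≫ jV) ≫ gV = FSch.completionToX _ (𝒥.comap gU) 0 ≫ gU
    rw [(chart_sq 𝒥 gU 0).w, Category.assoc, Category.assoc, sqLV.w, ← heU2]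
    simp only [Category.assoc]
    rw [reassoc_of% hres]
  obtain ⟨α, hα0, hαs, hαβ⟩ := exists_tower 𝔘 (isAffine_level _ _) (surjective_ι _ _)
    (nilpotent_ι _ _) β hβ α₀ h₀
  have hαg : ∀ n, α n ≫ gV = (p : FSch.Hom _ _).app n ≫ FSch.completionToX S 𝒥 n := fun n => by
    show α n ≫ _ ≫ hW.fromSpec = _
    rw [← Category.assoc, hαβ n, ← (chart_sq 𝒥 gU n).w]
    simp only [β, gU, Category.assoc]
  let Φapp : ∀ n, 𝔘.X n ⟶ 𝔙.X n := fun n =>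
    (chart_sq 𝒥 gV n).lift (α n) ((p : FSch.Hom _ _).app n) (hαg n)
  have hΦ1 : ∀ n, Φapp n ≫ FSch.completionToX _ (𝒥.comap gV) n = α n := fun n =>
    (chart_sq 𝒥 gV n).lift_fst _ _ _
  have hΦ2 : ∀ n, Φapp n ≫ (q : FSch.Hom _ _).app n = (p : FSch.Hom _ _).app n := fun n =>
    (chart_sq 𝒥 gV n).lift_snd _ _ _
  have hΦcomm : ∀ n, Φapp n ≫ 𝔙.ι n = 𝔘.ι n ≫ Φapp (n + 1) := fun n => by
    apply (chart_sq 𝒥 gV (n + 1)).hom_ext
    · rw [Category.assoc, Category.assoc, hΦ1 (n + 1), hαs n]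
      have : 𝔙.ι n ≫ FSch.completionToX _ (𝒥.comap gV) (n + 1) =
          FSch.completionToX _ (𝒥.comap gV) n :=
        Scheme.IdealSheafData.inclusion_subschemeι _
      rw [this, hΦ1 n]
    · rw [Category.assoc, Category.assoc, hΦ2 (n + 1), ← (q : FSch.Hom _ _).comm n,
        ← Category.assoc, hΦ2 n, (p : FSch.Hom _ _).comm n]
  let Φ : 𝔘 ⟶ 𝔙 := (⟨Φapp, hΦcomm⟩ : FSch.Hom 𝔘 𝔙)
  refine ⟨U₀, V₀, hxU₀, hUV, 𝔘, 𝔙, p, q, Φ, eU, eV, ?_, chart_adic 𝒥 gU, chart_adic 𝒥 gV,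
    fun n => chart_smooth 𝒥 gU n, fun n => chart_smooth 𝒥 gV n, heU2, heV2, ?_⟩
  · exact FSch.Hom.ext (funext fun n => hΦ2 n)
  · apply sqLV.hom_ext
    · rw [Category.assoc, heV1, Category.assoc]
      show Φapp 0 ≫ _ = _
      rw [hΦ1 0, hα0]
    · rw [Category.assoc, heV2, Category.assoc, hres, heU2]
      exact hΦ2 0

end Groth.Agent.S14006
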