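import Groth.Statements.S1401
import Groth.Agent.S1127
import Groth.Agent.Lib.Helper20.QuasiAffine
import Groth.Agent.Lib.Helper7.QuasiAffine

set_option autoImplicit false
universe u
open FlatMor

namespace Groth.Agent.S1401

open AlgebraicGeometry CategoryTheory Limits in
/-- Let S' → S be flat, surjective and quasi-compact and let f' be the base change of f : X → S to S'.
If f' is ind-quasi-affine then so is f. -/
theorem result {X S X' S' : Scheme.{u}} (f : X ⟶ S) (f' : X' ⟶ S') (g' : X' ⟶ X) (g : S' ⟶ S)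
    [Flat g] [Surjective g] [QuasiCompact g] (hc : IsPullback g' f' f g) (hf' : MoreMor.IsIndQuasiAffineHom f') : MoreMor.IsIndQuasiAffineHom f := by
  intro V hV U hU
  haveI : IsAffine V.toScheme := hV
  -- the image of `U` in `X`
  let W : X.Opens := (f ⁻¹ᵁ V).ι ''ᵁ U
  have hWV : W ≤ f ⁻¹ᵁ V := by
    rintro _ ⟨y, -, rfl⟩
    exact y.2
  have hWc : IsCompact (W : Set X) := by
    change IsCompact ((f ⁻¹ᵁ V).ι '' (U : Set _))
    exact hU.image (f ⁻¹ᵁ V).ι.continuous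
  haveI : CompactSpace W.toScheme := isCompact_iff_compactSpace.mp hWc
  let W' : X'.Opens := g' ⁻¹ᵁ W ⊓ f' ⁻¹ᵁ (g ⁻¹ᵁ V)
  have sq := Scheme.Hom.isPullback_resLE hc (US := V) (UT := g ⁻¹ᵁ V) (UX := W) le_rfl hWV
    (UY := W') rfl
  set k : W.toScheme ⟶ V.toScheme := f.resLE V W hWV with hk
  set gV : (g ⁻¹ᵁ V).toScheme ⟶ V.toScheme := g.resLE V (g ⁻¹ᵁ V) le_rfl with hgV
  set m : W'.toScheme ⟶ (g ⁻¹ᵁ V).toScheme := f'.resLE (g ⁻¹ᵁ V) W' (by simp [W']) with hm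
  -- `gV` is an fpqc morphism
  have hgVeq : gV = g ∣_ V := Scheme.Hom.resLE_eq_morphismRestrict g
  have hsqg : IsPullback (g ⁻¹ᵁ V).ι (g ∣_ V) g V.ι := (isPullback_morphismRestrict g V).flip
  have hQ : (@Surjective ⊓ @Flat ⊓ @QuasiCompact : MorphismProperty Scheme.{u}) gV := by
    rw [hgVeq]
    exact ⟨⟨MorphismProperty.of_isPullback hsqg ‹Surjective g›,
      MorphismProperty.of_isPullback hsqg ‹Flat g›⟩,
      MorphismProperty.of_isPullback hsqg ‹QuasiCompact g›⟩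
  -- `m` is quasi-affine
  haveI hkqc : QuasiCompact k := inferInstance
  haveI hmqc : QuasiCompact m := MorphismProperty.of_isPullback sq hkqc
  have hmι : m ≫ (g ⁻¹ᵁ V).ι = W'.ι ≫ f' := Scheme.Hom.resLE_comp_ι _ _
  have hP : Mor2.IsQuasiAffine m := by
    refine ⟨hmqc, fun O hO => ?_⟩
    let O' : S'.Opens := (g ⁻¹ᵁ V).ι ''ᵁ O
    have hO' : IsAffineOpen O' := hO.image_of_isOpenImmersion (g ⁻¹ᵁ V).ι
    haveI : CompactSpace (m ⁻¹ᵁ O).toScheme :=
      isCompact_iff_compactSpace.mp (m.isCompact_preimage hO.isCompact)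
    refine Groth.Agent.Lib.Helper20.QuasiAffine.isQuasiAffine_of_le (f' ⁻¹ᵁ O') (hf' O' hO')
      ((m ⁻¹ᵁ O).ι ≫ W'.ι) ?_
    rintro _ ⟨q, rfl⟩
    change f' (((m ⁻¹ᵁ O).ι ≫ W'.ι) q) ∈ O'
    rw [← Scheme.Hom.comp_apply, Category.assoc, ← hmι, ← Category.assoc, Scheme.Hom.comp_apply]
    exact ⟨_, q.2, rfl⟩
  have hPk : Mor2.IsQuasiAffine k :=
    (Groth.Agent.S1127.result.{u}).of_isPullback sq.flip hQ hP
  haveI : W.toScheme.IsQuasiAffine := Groth.Agent.Lib.Helper7.QA.isQuasiAffine_of_QAffHom k hPk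
  -- transfer to `U`
  have hr : Set.range (U.ι ≫ (f ⁻¹ᵁ V).ι) ⊆ Set.range W.ι := by
    rw [Scheme.Opens.range_ι]
    rintro _ ⟨y, rfl⟩
    exact ⟨U.ι y, y.2, rfl⟩
  let j : U.toScheme ⟶ W.toScheme := IsOpenImmersion.lift W.ι (U.ι ≫ (f ⁻¹ᵁ V).ι) hr
  have hfac : j ≫ W.ι = U.ι ≫ (f ⁻¹ᵁ V).ι := IsOpenImmersion.lift_fac _ _ _
  haveI : IsOpenImmersion (j ≫ W.ι) := by rw [hfac]; infer_instance
  haveI : IsOpenImmersion j := IsOpenImmersion.of_comp j W.ι
  haveI : CompactSpace U.toScheme := isCompact_iff_compactSpace.mp hU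
  exact Scheme.IsQuasiAffine.of_isImmersion j

end Groth.Agent.S1401
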