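import Groth.Statements.S14018
import Mathlib

set_option autoImplicit false
open CategoryTheory CategoryTheory.Limits Opposite
universe w v u
open CohSite

namespace Groth.Agent.S14018

theorem hom_eq_nat {a b : ℕᵒᵖ} (f g : a ⟶ b) : f = g :=
  Quiver.Hom.unop_inj (Subsingleton.elim _ _)

theorem map_eq (F : ℕᵒᵖ ⥤ Type w) {a b : ℕᵒᵖ} (f g : a ⟶ b) (x : F.obj a) :
    F.map f x = F.map g x := by
  rw [hom_eq_nat f g]

theorem map_map' (F : ℕᵒᵖ ⥤ Type w) {a b c : ℕᵒᵖ} (f : a ⟶ b) (g : b ⟶ c) (h : a ⟶ c)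
    (x : F.obj a) : F.map g (F.map f x) = F.map h x := by
  rw [← Functor.map_comp_apply]
  exact map_eq F _ _ x

theorem map_self (F : ℕᵒᵖ ⥤ Type w) {a : ℕᵒᵖ} (f : a ⟶ a) (x : F.obj a) : F.map f x = x := by
  rw [hom_eq_nat f (𝟙 a), Functor.map_id_apply]

theorem surj_π {F : ℕᵒᵖ ⥤ Type w} {c : Cone F} (hc : IsLimit c)
    (hF : ∀ n, Function.Surjective (F.map (homOfLE (Nat.le_succ n)).op)) (n : ℕ) :
    Function.Surjective (c.π.app (op n)) := by
  intro a
  let y : (k : ℕ) → F.obj (op (n + k)) := fun k =>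
    Nat.rec (motive := fun k => F.obj (op (n + k))) a (fun k yk => (hF (n + k) yk).choose) k
  have hy : ∀ k, F.map (homOfLE (Nat.le_succ (n + k))).op (y (k + 1)) = y k := by
    intro k
    exact (hF (n + k) (y k)).choose_spec
  let x : (m : ℕ) → F.obj (op m) := fun m => F.map (homOfLE (Nat.le_add_left m n)).op (y m)
  have hx : ∀ m, F.map (homOfLE (Nat.le_succ m)).op (x (m + 1)) = x m := by
    intro m
    simp only [x]
    rw [← hy m, map_map' F _ _ (homOfLE (by omega : m ≤ n + (m + 1))).op,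
      map_map' F _ _ (homOfLE (by omega : m ≤ n + (m + 1))).op]
  have hxn : ∀ k, F.map (homOfLE (Nat.le_add_right n k)).op (y k) = a := by
    intro k
    induction k with
    | zero => exact map_self F _ _
    | succ k ih =>
      rw [← ih, ← hy k, map_map' F _ _ (homOfLE (by omega : n ≤ n + (k + 1))).op]
  have hsec : (fun j : ℕᵒᵖ => x j.unop) ∈ F.sections := by
    intro j j' f
    obtain ⟨m⟩ := j
    obtain ⟨m'⟩ := j'
    have h : m' ≤ m := leOfHom f.unop
    have hf : f = (homOfLE h).op := hom_eq_nat _ _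
    subst hf
    simp only
    induction h with
    | refl => exact map_self F _ _
    | @step p h ih =>
      rw [← ih, ← hx p, map_map' F _ _ (homOfLE (Nat.le.step h)).op]
  refine ⟨(Types.isLimitEquivSections hc).symm ⟨_, hsec⟩, ?_⟩
  rw [Types.isLimitEquivSections_symm_apply]
  simp only [x]
  rw [← hxn n]


theorem result
    {C : Type u} [Category.{v} C] (J : GrothendieckTopology C)
    (hwc : ∀ V : C, ∃ S : Sieve V, S ∈ J V ∧ ∀ ⦃W : C⦄ (f : W ⟶ V), S.arrows f →
      ∃ (U : C) (g : W ⟶ U) (h : U ⟶ V), (∀ (A B : Sheaf J (Type w)) (ψ : A ⟶ B), Epi ψ → Function.Surjective (ψ.hom.app (op U))) ∧ g ≫ h = f)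
    (F : ℕᵒᵖ ⥤ Sheaf J (Type w))
    (hF : ∀ n : ℕ, Epi (F.map (homOfLE (Nat.le_succ n)).op))
    (c : Cone F) (hc : IsLimit c) (n : ℕ) :
    Epi (c.π.app (op n)) := by
  have : Sheaf.IsLocallySurjective (c.π.app (op n)) := by
    constructor
    intro V s
    obtain ⟨S, hS, hS'⟩ := hwc V
    apply J.superset_covering _ hS
    intro W f hf
    obtain ⟨U, g, h, hU, rfl⟩ := hS' f hf
    let G : Sheaf J (Type w) ⥤ Type w :=
      sheafToPresheaf J (Type w) ⋙ (evaluation Cᵒᵖ (Type w)).obj (op U)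
    have hlim : IsLimit (G.mapCone c) := isLimitOfPreserves G hc
    have hsurj : Function.Surjective ((G.mapCone c).π.app (op n)) :=
      surj_π hlim (fun m => hU _ _ _ (hF m)) n
    obtain ⟨t', ht'⟩ := hsurj ((F.obj (op n)).obj.map h.op s)
    refine ⟨(c.pt).obj.map g.op t', ?_⟩
    have hnat : (c.π.app (op n)).hom.app (op W) ((c.pt).obj.map g.op t') =
        (F.obj (op n)).obj.map g.op ((c.π.app (op n)).hom.app (op U) t') :=
      NatTrans.naturality_apply (c.π.app (op n)).hom g.op t'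
    have h2 : (c.π.app (op n)).hom.app (op U) t' = (F.obj (op n)).obj.map h.op s := ht'
    show (c.π.app (op n)).hom.app (op W) ((c.pt).obj.map g.op t') =
      (F.obj (op n)).obj.map (g ≫ h).op s
    rw [hnat, h2, op_comp, Functor.map_comp_apply]
  infer_instance

end Groth.Agent.S14018
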