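import Groth.Statements.S1402
import Mathlib

set_option autoImplicit false
universe u
open FlatMor

namespace Groth.Agent.S1402

open AlgebraicGeometry CategoryTheory Limits in
/-- A separated, locally quasi-finite morphism is ind-quasi-affine. -/
theorem result {X Y : Scheme.{u}} (f : X ⟶ Y) [IsSeparated f] [LocallyQuasiFinite f] [LocallyOfFiniteType f] :
    MoreMor.IsIndQuasiAffineHom f := by
  intro V hV U hU
  have : IsAffine V.toScheme := hV
  have hcomp : CompactSpace U.toScheme := isCompact_iff_compactSpace.mp hU
  let h : U.toScheme ⟶ V.toScheme := U.ι ≫ (f ∣_ V)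
  have h1 : IsSeparated h := inferInstance
  have h2 : LocallyQuasiFinite h := inferInstance
  have h3 : LocallyOfFiniteType h := inferInstance
  have h4 : QuasiCompact h := (HasAffineProperty.iff_of_isAffine (P := @QuasiCompact)).mpr hcomp
  have h5 : IsOpenImmersion h.toNormalization := inferInstance
  have h6 : IsAffineHom h.fromNormalization := inferInstance
  have h7 : IsAffine h.normalization := isAffine_of_isAffineHom h.fromNormalization
  exact Scheme.IsQuasiAffine.of_isImmersion h.toNormalization

end Groth.Agent.S1402
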