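import Groth.Statements.S14020
import Mathlib

set_option autoImplicit false
universe u
open CAlg

namespace Groth.Agent.S14020

theorem aux (R : Type u) [CommRing R] (I : Ideal R) [IsArtinianRing (R ⧸ I)]
    (M : Type u) [AddCommGroup M] [Module R M] [Module.Finite R M]
    (h : ∀ a ∈ I, ∀ m : M, a • m = 0) : IsArtinian R M := by
  have hM : Module.IsTorsionBySet R M (I : Set R) := by
    intro m a
    exact h a.1 a.2 m
  letI := hM.module
  have : IsScalarTower R (R ⧸ I) M := hM.isScalarTower
  have : Module.Finite (R ⧸ I) M := Module.Finite.of_restrictScalars_finite R (R ⧸ I) M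
  have : IsArtinian (R ⧸ I) M := inferInstance
  exact isArtinian_of_surjective_algebraMap (S := R) (R := R ⧸ I) Ideal.Quotient.mk_surjective

theorem aux2 (R : Type u) [CommRing R] (I : Ideal R) (hI : I.FG) [IsArtinianRing (R ⧸ I)] (n : ℕ) :
    IsArtinian R (R ⧸ I ^ n) := by
  induction n with
  | zero =>
    have : Subsingleton (R ⧸ I ^ 0) := by
      rw [pow_zero, Ideal.one_eq_top]
      exact Ideal.Quotient.subsingleton_iff.mpr rfl
    exact isArtinian_of_finite
  | succ n ih =>
    let f : ↥(I ^ n) →ₗ[R] R ⧸ I ^ (n + 1) := (Submodule.mkQ (I ^ (n + 1))) ∘ₗ (Submodule.subtype (I ^ n))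
    rw [isArtinian_iff_submodule_quotient (LinearMap.range f)]
    constructor
    · have : Module.Finite R ↥(I ^ n) := Module.Finite.iff_fg.mpr hI.pow
      have : Module.Finite R (LinearMap.range f) := Module.Finite.range f
      apply aux R I
      rintro a ha ⟨_, ⟨x, rfl⟩⟩
      ext
      simp only [Submodule.coe_smul, ZeroMemClass.coe_zero]
      rw [← map_smul]
      simp only [f, LinearMap.comp_apply, Submodule.subtype_apply, Submodule.mkQ_apply]
      rw [Submodule.Quotient.mk_eq_zero]
      simp only [Submodule.coe_smul, smul_eq_mul]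
      rw [pow_succ']
      exact Ideal.mul_mem_mul ha x.2
    · let g : (R ⧸ I ^ n) →ₗ[R] (R ⧸ I ^ (n + 1)) ⧸ LinearMap.range f :=
        Submodule.liftQ (I ^ n) ((LinearMap.range f).mkQ ∘ₗ (Submodule.mkQ (I ^ (n + 1)))) (by
          intro x hx
          simp only [LinearMap.mem_ker, LinearMap.comp_apply, Submodule.mkQ_apply]
          rw [Submodule.Quotient.mk_eq_zero]
          exact ⟨⟨x, hx⟩, rfl⟩)
      refine isArtinian_of_surjective (R ⧸ I ^ n) g ?_
      rw [← LinearMap.range_eq_top, Submodule.range_liftQ, LinearMap.range_eq_top]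
      exact (Submodule.mkQ_surjective _).comp (Submodule.mkQ_surjective _)

/-- Let R be a commutative ring and I a finitely generated ideal such that the quotient ring R/I is
artinian. Then R/I^n is artinian for every n. -/
theorem result
    (R : Type u) [CommRing R] (I : Ideal R) (hI : I.FG) [IsArtinianRing (R ⧸ I)] (n : ℕ) :
    IsArtinianRing (R ⧸ I ^ n) := by
  have := aux2 R I hI n
  exact isArtinian_of_tower R inferInstance

end Groth.Agent.S14020
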