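import Groth.Statements.S14022
import Groth.Agent.S13612
import Groth.Agent.Lib.Helper57.ProEtLisse

set_option autoImplicit false
open CategoryTheory CategoryTheory.Limits AlgebraicGeometry Opposite
universe u
open EtModW

namespace Groth.Agent.S14022

/-- Let X be a Noetherian scheme, Λ a Noetherian commutative ring, I an ideal of Λ and F an I-adic
pro-étale sheaf of Λ-modules on X, given with its tower of quotient maps F ⟶ Q_n modulo I^(n+1)
(each Q_n isomorphic to the pro-étale pullback of a constructible étale sheaf of Λ-modules, and F ⟶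
lim_n Q_n an isomorphism). Then there is a dense open subscheme U of X on which F is lisse: for
every n the pullback of Q_n to the small pro-étale site of U is isomorphic to the pro-étale pullback
of a finite-type locally constant sheaf of Λ-modules on the small étale site of U. (Continuity of
the inclusions of étale into pro-étale sites and of the base-change functors between pro-étale sites
is carried as binders.) -/
theorem result
    (Λ : Type (u + 1)) [CommRing Λ] [IsNoetherianRing Λ] (I : Ideal Λ)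
    (X : Scheme.{u}) [IsNoetherian X] [∀ T : Scheme.{u}, ProEtS.EpsCont T]
    [∀ (T : Scheme.{u}) (g : T ⟶ X), ProEtS.PCont g]
    (F : EtModW.ModP Λ X) (Q : ℕᵒᵖ ⥤ EtModW.ModP Λ X) (p : (Functor.const ℕᵒᵖ).obj F ⟶ Q)
    (hQ : ∀ n : ℕ, ARSys.IsQuot (I ^ (n + 1)) (p.app (op n)))
    (hc : ∀ n : ℕ, ∃ E : EtModW.Mod Λ X, EtModW.IsConstructible Λ E ∧
      Nonempty ((EtModW.epsPullMod Λ X).obj E ≅ Q.obj (op n)))
    (hlim : IsIso (limit.lift Q (Cone.mk F p))) :
    ∃ U : X.Opens, Dense (U : Set X) ∧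
      ∀ n : ℕ, ∃ E : EtModW.Mod Λ (↑U), EtModW.IsFTLocConst Λ E ∧
          Nonempty ((EtModW.epsPullMod Λ (↑U)).obj E ≅ (((ProEtS.bcP U.ι).sheafPullback (ModuleCat.{u + 1} Λ) (Scheme.ProEt.topology X) (Scheme.ProEt.topology (↑U)))).obj (Q.obj (op n))) := by
  classical
  choose E hEc hEe using hc
  let e : ∀ n, (EtModW.epsPullMod Λ X).obj (E n) ≅ Q.obj (op n) := fun n => (hEe n).some
  obtain ⟨Fs, α, hFs⟩ := Groth.Agent.Lib.Helper57.ProEtLisse.exists_descend
    (EtModW.epsPullMod Λ X) (Groth.Agent.Lib.Helper57.ProEtLisse.epsFF Λ X) Q E e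
  have hcons : ∀ n, EtModW.IsConstructible Λ (Fs.obj (op n)) := fun n => by
    rw [hFs n]
    exact hEc n
  have hadic : ARSys.IsAdic I Fs := by
    refine ⟨fun n => ?_, fun n m h => ?_⟩
    · apply Groth.Agent.Lib.Helper57.ProEtLisse.killedBy_reflect (EtModW.epsPullMod Λ X)
        (Groth.Agent.Lib.Helper57.ProEtLisse.epsFF Λ X)
      exact Groth.Agent.Lib.Helper57.ProEtLisse.killedBy_of_iso (α.app (op n)).symm (hQ n).1
    · apply Groth.Agent.Lib.Helper57.ProEtLisse.isQuot_reflect (EtModW.epsPullMod Λ X)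
        (Groth.Agent.Lib.Helper57.ProEtLisse.epsFF Λ X)
      have hq : ARSys.IsQuot (I ^ (n + 1)) (Q.map (homOfLE h).op) :=
        Groth.Agent.Lib.Helper57.ProEtLisse.isQuot_cancel (hQ m) (hQ n)
          ((p.naturality (homOfLE h).op).symm.trans (Category.id_comp _))
      have hnat := α.hom.naturality (homOfLE h).op
      have key : (EtModW.epsPullMod Λ X).map (ARSys.tr Fs h) =
          (α.app (op m)).hom ≫ Q.map (homOfLE h).op ≫ (α.app (op n)).symm.hom := by
        rw [Iso.symm_hom, ← Category.assoc, Iso.eq_comp_inv]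
        exact hnat
      rw [key]
      exact Groth.Agent.Lib.Helper57.ProEtLisse.isQuot_of_iso (α.app (op m)) (α.app (op n)).symm hq
  obtain ⟨U, hU, hflc⟩ := Groth.Agent.S13612.result Λ I X Fs hadic hcons
  refine ⟨U, hU, fun n => ⟨(EtModW.pull Λ U.ι).obj (Fs.obj (op n)), hflc n, ⟨?_⟩⟩⟩
  exact (Groth.Agent.Lib.Helper57.ProEtLisse.pullEpsIso Λ U.ι).app (Fs.obj (op n)) ≪≫
    (Groth.Agent.Lib.Helper57.ProEtLisse.pullPM Λ U.ι).mapIso (α.app (op n))

end Groth.Agent.S14022
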