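import Groth.Statements.S14023
import Mathlib

set_option autoImplicit false
open CategoryTheory CategoryTheory.Limits Opposite
universe v u
open ARSys

namespace Groth.Agent.S14023

theorem homSub (a b : ℕᵒᵖ) : Subsingleton (a ⟶ b) :=
  ⟨fun _ _ => Quiver.Hom.unop_inj (Subsingleton.elim _ _)⟩

attribute [local instance] homSub

section
variable (A : Type u) [Category.{v} A] [Abelian A]

attribute [local instance] Abelian.hasFiniteBiproducts

theorem presMono (c : ℕᵒᵖ) : (evaluationLeftAdjoint A c).PreservesMonomorphisms := by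
  constructor
  intro X Y f hf
  have key : ∀ t : ℕᵒᵖ, Mono (((evaluationLeftAdjoint A c).map f).app t) := by
    intro t
    have : ((evaluationLeftAdjoint A c).map f).app t =
        (Limits.Sigma.map (fun _ : c ⟶ t => f) :
          (∐ fun _ : c ⟶ t => X) ⟶ ∐ fun _ : c ⟶ t => Y) := by
      rw [evaluationLeftAdjoint_map_app]
      apply Limits.Sigma.hom_ext
      intro h
      rw [Sigma.ι_desc, Sigma.ι_map]
    rw [this]
    have : HasBiproduct (fun _ : c ⟶ t => X) := inferInstance
    have : HasBiproduct (fun _ : c ⟶ t => Y) := inferInstance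
    have : ∀ j : c ⟶ t, Mono ((fun _ : c ⟶ t => f) j) := fun _ => hf
    exact Limits.Sigma.map_mono _
  exact NatTrans.mono_of_mono_app _

theorem forward [EnoughInjectives (ℕᵒᵖ ⥤ A)] : EnoughInjectives A := by
  constructor
  intro X
  obtain ⟨P⟩ := EnoughInjectives.presentation ((Functor.const ℕᵒᵖ).obj X)
  have := P.injective
  have := P.mono
  have := presMono A (op 0)
  refine ⟨⟨P.J.obj (op 0), ?_, P.f.app (op 0), ?_⟩⟩
  · exact Injective.injective_of_adjoint (evaluationAdjunctionRight A (op 0)) P.J
  · exact (NatTrans.mono_iff_mono_app' A P.f).mp inferInstance (op 0)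


theorem hasProduct_of_isZero (Z : ℕ → A) (s : Finset ℕ) (hZ : ∀ n, n ∉ s → IsZero (Z n)) :
    HasProduct Z := by
  classical
  let P : A := ∏ᶜ (fun i : s => Z i.1)
  let π : ∀ n, P ⟶ Z n := fun n =>
    if h : n ∈ s then Pi.π (fun i : s => Z i.1) ⟨n, h⟩ else 0
  refine ⟨⟨⟨Fan.mk P π, mkFanLimit _ (fun t => Pi.lift (fun i : s => t.proj i.1)) ?_ ?_⟩⟩⟩
  · intro t n
    by_cases h : n ∈ s
    · simp only [Fan.mk_pt, Fan.proj, Fan.mk_π_app, π, dif_pos h]
      exact Pi.lift_π _ _
    · exact (hZ n h).eq_of_tgt _ _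
  · intro t m hm
    refine Pi.hom_ext (f := fun i : s => Z i.1) _ _ ?_
    intro i
    rw [Pi.lift_π]
    have := hm i.1
    simp only [Fan.mk_pt, Fan.proj, Fan.mk_π_app, π, dif_pos i.2] at this
    exact this

theorem isZero_pi_empty {ι : Type} [IsEmpty ι] (f : ι → A) [HasProduct f] : IsZero (∏ᶜ f) := by
  rw [IsZero.iff_id_eq_zero]
  apply Pi.hom_ext
  intro i
  exact isEmptyElim i

theorem backward [EnoughInjectives A] : EnoughInjectives (ℕᵒᵖ ⥤ A) := by
  constructor
  intro X
  let P : ∀ n : ℕ, InjectivePresentation (X.obj (op n)) :=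
    fun n => (EnoughInjectives.presentation (X.obj (op n))).some
  let I : ℕ → A := fun n => (P n).J
  let f : ∀ n, X.obj (op n) ⟶ I n := fun n => (P n).f
  have : ∀ n, Injective (I n) := fun n => (P n).injective
  have : ∀ n, Mono (f n) := fun n => (P n).mono
  let R : ℕ → (ℕᵒᵖ ⥤ A) := fun n => (evaluationRightAdjoint A (op n)).obj (I n)
  have : ∀ n, Injective (R n) := fun n =>
    Injective.injective_of_adjoint (evaluationAdjunctionLeft A (op n)) (I n)
  have : HasProduct R := by
    have hk : ∀ k : ℕᵒᵖ, HasLimit ((Discrete.functor R).flip.obj k) := by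
      intro k
      have : HasProduct (fun n => (R n).obj k) := by
        apply hasProduct_of_isZero A _ (Finset.range (k.unop + 1))
        intro n hn
        have : IsEmpty (k ⟶ op n) := by
          constructor
          intro g
          have : n ≤ k.unop := leOfHom g.unop
          simp only [Finset.mem_range] at hn
          omega
        exact isZero_pi_empty A _
      have h' : HasLimit (Discrete.functor (((Discrete.functor R).flip.obj k).obj ∘ Discrete.mk)) :=
        this
      exact hasLimit_of_iso (Discrete.natIsoFunctor (F := (Discrete.functor R).flip.obj k)).symm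
    exact functorCategoryHasLimit _
  let g : ∀ n, X ⟶ R n := fun n => (evaluationAdjunctionLeft A (op n)).homEquiv X (I n) (f n)
  refine ⟨⟨∏ᶜ R, inferInstance, Pi.lift g, ?_⟩⟩
  have key : ∀ c : ℕᵒᵖ, Mono ((Pi.lift g).app c) := by
    intro c
    obtain ⟨m⟩ := c
    have h0 : (Pi.lift g).app (op m) ≫ (Pi.π R m).app (op m) = (g m).app (op m) := by
      rw [← NatTrans.comp_app, Pi.lift_π]
    let q : (R m).obj (op m) ⟶ I m := Pi.π (fun _ : op m ⟶ op m => I m) (𝟙 (op m))
    have h2 : (g m).app (op m) ≫ q = f m := by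
      have := ((evaluationAdjunctionLeft A (op m)).homEquiv X (I m)).symm_apply_apply (f m)
      rw [Adjunction.homEquiv_counit] at this
      simpa [evaluationAdjunctionLeft_counit_app] using this
    have h1 : (Pi.lift g).app (op m) ≫ ((Pi.π R m).app (op m) ≫ q) = f m := by
      rw [← Category.assoc, h0, h2]
    exact mono_of_mono_fac h1
  exact NatTrans.mono_of_mono_app _

end

theorem result
    (A : Type u) [Category.{v} A] [Abelian A] :
    EnoughInjectives (ℕᵒᵖ ⥤ A) ↔ EnoughInjectives A :=
  ⟨fun _ => forward A, fun _ => backward A⟩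

end Groth.Agent.S14023
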