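import Groth.Statements.S14024
import Groth.Agent.Lib.Helper57.FTLCML2

set_option autoImplicit false
open CategoryTheory CategoryTheory.Limits AlgebraicGeometry Opposite
universe u
open EtModW

namespace Groth.Agent.S14024

/-- Let X be a Noetherian scheme, Λ a Noetherian commutative ring and I an ideal of Λ such that Λ/I is
artinian. Let (F_n) be an inverse system indexed by ℕ of sheaves of Λ-modules on the small étale
site of X with I^(n+1) F_n = 0 for every n and every F_n locally constant of finite type (on some
étale covering isomorphic to constant sheaves with finitely generated values). Then the system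
(ε⁻¹F_n) of pro-étale pullbacks satisfies the Mittag-Leffler condition: for each n, the image
subobjects of ε⁻¹F_(n+s) ⟶ ε⁻¹F_n are the same for all sufficiently large s. (Continuity of the
inclusion of the étale site into the pro-étale site is carried as a binder.) -/
theorem result
    (Λ : Type (u + 1)) [CommRing Λ] [IsNoetherianRing Λ] (I : Ideal Λ) [IsArtinianRing (Λ ⧸ I)]
    (X : Scheme.{u}) [IsNoetherian X] [ProEtS.EpsCont X]
    (F : ARSys.PS (EtModW.Mod Λ X)) (hk : ARSys.TermKilled I F)
    (hF : ∀ n : ℕ, EtModW.IsFTLocConst Λ (F.obj (op n))) :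
    ARSys.IsML (F ⋙ EtModW.epsPullMod Λ X) := by
  intro n
  obtain ⟨r, hr⟩ := Groth.Agent.Lib.Helper57.FTLCML.ml_etale Λ I F hk hF n
  refine ⟨r, fun s hs => ?_⟩
  exact Groth.Agent.Lib.Helper57.FTLCML.imageSubobject_map_eq (EtModW.epsPullMod Λ X)
    (ARSys.tr F (Nat.le_add_right n r)) (ARSys.tr F (Nat.le_add_right n s))
    (ARSys.tr F (Nat.add_le_add_left hs n))
    (Groth.Agent.Lib.Helper57.FTLCML.tr_comp Λ F (Nat.le_add_right n r)
      (Nat.add_le_add_left hs n)) (hr s hs)

end Groth.Agent.S14024
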