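import Groth.Statements.S14026
import Mathlib

set_option autoImplicit false
open CategoryTheory CategoryTheory.Limits Opposite
universe w' w v u
open CohSite

namespace Groth.Agent.S14026

theorem full_forget {C : Type u} [Category.{v} C] (U : C) (hU : ∀ V : C, Subsingleton (V ⟶ U)) :
    (Over.forget U).Full := by
  constructor
  intro X Y f
  exact ⟨Over.homMk f (Subsingleton.elim (h := hU _) _ _), rfl⟩

theorem unit_iso_generic {C : Type u} [Category.{v} C] (J : GrothendieckTopology C) (U : C)
    (hU : ∀ V : C, Subsingleton (V ⟶ U)) (A : Type w) [Category.{w'} A]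
    [HasWeakSheafify J A]
    [∀ (P : (Over U)ᵒᵖ ⥤ A), (Over.forget U).op.HasLeftKanExtension P]
    [∀ (P : (Over U)ᵒᵖ ⥤ A), (Over.forget U).op.HasPointwiseRightKanExtension P]
    (F : Sheaf (J.over U) A) :
    IsIso (((Over.forget U).sheafAdjunctionContinuous A (J.over U) J).unit.app F) := by
  have := full_forget U hU
  let t : Adjunction.Triple ((Over.forget U).sheafPullback A (J.over U) J)
      ((Over.forget U).sheafPushforwardContinuous A (J.over U) J)
      ((Over.forget U).sheafPushforwardCocontinuous A (J.over U) J) :=
    ⟨(Over.forget U).sheafAdjunctionContinuous A (J.over U) J,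
      (Over.forget U).sheafAdjunctionCocontinuous A (J.over U) J⟩
  have h2 : IsIso t.adj₂.counit := by
    have : ∀ G, IsIso (t.adj₂.counit.app G) := by
      intro G
      have : (Over.forget U).op.Full := inferInstance
      have : (Over.forget U).op.Faithful := inferInstance
      have key : IsIso (((Over.forget U).op.ranAdjunction A).counit.app G.obj) := inferInstance
      have h3 : IsIso ((sheafToPresheaf _ _).map (t.adj₂.counit.app G)) := by
        have := (Over.forget U).sheafAdjunctionCocontinuous_counit_app_hom A (J.over U) J G
        show IsIso (t.adj₂.counit.app G).hom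
        rw [show (t.adj₂.counit.app G).hom = _ from this]
        exact key
      exact isIso_of_reflects_iso _ (sheafToPresheaf _ _)
    exact NatIso.isIso_of_isIso_app _
  have h1 : IsIso t.adj₁.unit := t.isIso_unit_iff_isIso_counit.mpr h2
  exact (inferInstance : IsIso (t.adj₁.unit.app F))


theorem result
    {C : Type u} [Category.{v} C] (J : GrothendieckTopology C) (U : C)
    (hU : ∀ V : C, Subsingleton (V ⟶ U))
    [HasWeakSheafify J (Type (max u v))]
    [∀ (P : (Over U)ᵒᵖ ⥤ (Type (max u v))), (Over.forget U).op.HasLeftKanExtension P]
    (F : Sheaf (J.over U) (Type (max u v))) :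
    IsIso (((Over.forget U).sheafAdjunctionContinuous (Type (max u v)) (J.over U) J).unit.app F) := by
  have : ∀ (P : (Over U)ᵒᵖ ⥤ (Type (max u v))),
      (Over.forget U).op.HasPointwiseRightKanExtension P := by
    intro P
    infer_instance
  exact unit_iso_generic J U hU (Type (max u v)) F

end Groth.Agent.S14026
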