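import Groth.Statements.S14029
import Groth.Agent.S14026
import Mathlib

set_option autoImplicit false
open CategoryTheory CategoryTheory.Limits Opposite
universe v u
open CohSite

namespace Groth.Agent.S14029

theorem result
    {C : Type u} [Category.{v} C] (J : GrothendieckTopology C) (U : C)
    (hU : ∀ W : C, Subsingleton (W ⟶ U))
    [HasWeakSheafify J (Type (max u v))]
    [∀ (P : (Over U)ᵒᵖ ⥤ Type (max u v)), (Over.forget U).op.HasLeftKanExtension P]
    (V : C) (hV : (∀ (A B : Sheaf J (Type (max u v))) (ψ : A ⟶ B), Epi ψ → Function.Surjective (ψ.hom.app (op V)))) (a : V ⟶ U) :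
    ∀ (A B : Sheaf (J.over U) (Type (max u v))) (ψ : A ⟶ B), Epi ψ →
      Function.Surjective (ψ.hom.app (op (Over.mk a))) := by
  intro A B ψ hψ
  let adj := (Over.forget U).sheafAdjunctionContinuous (Type (max u v)) (J.over U) J
  let L := (Over.forget U).sheafPullback (Type (max u v)) (J.over U) J
  let R := (Over.forget U).sheafPushforwardContinuous (Type (max u v)) (J.over U) J
  have hLepi : Epi (L.map ψ) := by
    have : L.IsLeftAdjoint := adj.isLeftAdjoint
    infer_instance
  have hsurj : Function.Surjective ((L.map ψ).hom.app (op V)) := hV _ _ _ hLepi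
  have hA : IsIso (adj.unit.app A) := Groth.Agent.S14026.result J U hU A
  have hB : IsIso (adj.unit.app B) := Groth.Agent.S14026.result J U hU B
  have hbij : ∀ (G : Sheaf (J.over U) (Type (max u v))), IsIso (adj.unit.app G) →
      Function.Bijective ((adj.unit.app G).hom.app (op (Over.mk a))) := by
    intro G hG
    have h1 : IsIso ((sheafToPresheaf _ _).map (adj.unit.app G)) := inferInstance
    have h2 : IsIso (((sheafToPresheaf _ _).map (adj.unit.app G)).app (op (Over.mk a))) :=
      inferInstance
    exact (isIso_iff_bijective _).mp h2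
  have hnat := adj.unit.naturality ψ
  have hnat' : ∀ x, (adj.unit.app B).hom.app (op (Over.mk a)) (ψ.hom.app (op (Over.mk a)) x) =
      (L.map ψ).hom.app (op V) ((adj.unit.app A).hom.app (op (Over.mk a)) x) := by
    intro x
    have := congrArg (fun f => f.hom.app (op (Over.mk a)) x) hnat
    exact this
  intro b
  obtain ⟨a', ha'⟩ := hsurj ((adj.unit.app B).hom.app (op (Over.mk a)) b)
  obtain ⟨a0, ha0⟩ := (hbij A hA).2 a'
  refine ⟨a0, (hbij B hB).1 ?_⟩
  rw [hnat', ha0, ha']

end Groth.Agent.S14029
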