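import Groth.Statements.S14032
import Mathlib.LinearAlgebra.TensorProduct.Quotient
import Mathlib.RingTheory.Noetherian.Nilpotent
import Mathlib.LinearAlgebra.Basis.Basic
import Mathlib.RingTheory.Ideal.Operations
import Mathlib.LinearAlgebra.TensorProduct.Tower

set_option autoImplicit false
universe u v
open W4c1frobunstiva

namespace Groth.Agent.S14032


open TensorProduct

section
variable {R : Type u} [CommRing R] {M : Type v} [AddCommGroup M] [Module R M]

theorem eq_top_of_sup_smul_top_of_isNilpotent (I : Ideal R) (hI : IsNilpotent I)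
    (N : Submodule R M) (h : (⊤ : Submodule R M) ≤ N ⊔ I • ⊤) : N = ⊤ := by
  obtain ⟨k, hk⟩ := hI
  have key : ∀ k : ℕ, (⊤ : Submodule R M) ≤ N ⊔ (I ^ k) • ⊤ := by
    intro k
    induction k with
    | zero => simp [Ideal.one_eq_top]
    | succ k ih =>
      calc (⊤ : Submodule R M) ≤ N ⊔ I • ⊤ := h
        _ ≤ N ⊔ I • (N ⊔ (I ^ k) • ⊤) := sup_le_sup_left (Submodule.smul_mono le_rfl ih) _
        _ = N ⊔ (I • N ⊔ I • (I ^ k) • ⊤) := by rw [Submodule.smul_sup]
        _ ≤ N ⊔ (I ^ (k + 1)) • ⊤ := by
          rw [← Submodule.mul_smul, ← pow_succ']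
          refine sup_le le_sup_left (sup_le ?_ le_sup_right)
          exact le_trans Submodule.smul_le_right le_sup_left
  have := key k
  rw [hk] at this
  simpa using this

theorem one_tmul_sum {r : ℕ} (a : Fin r → R) (e : Fin r → M) :
    ((1 : R ⧸ nilradical R) ⊗ₜ[R] (∑ i, a i • e i) : (R ⧸ nilradical R) ⊗[R] M) =
      ∑ i, (Ideal.Quotient.mk (nilradical R) (a i)) • ((1 : R ⧸ nilradical R) ⊗ₜ[R] e i) := by
  rw [TensorProduct.tmul_sum]
  refine Finset.sum_congr rfl fun i _ => ?_
  rw [TensorProduct.smul_tmul', TensorProduct.tmul_smul, ← TensorProduct.smul_tmul']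
  congr 1

theorem one_tmul_eq_zero_iff (x : M) :
    ((1 : R ⧸ nilradical R) ⊗ₜ[R] x : (R ⧸ nilradical R) ⊗[R] M) = 0 ↔
      x ∈ (nilradical R • ⊤ : Submodule R M) := by
  rw [← (TensorProduct.quotTensorEquivQuotSMul M (nilradical R)).map_eq_zero_iff,
    TensorProduct.quotTensorEquivQuotSMul_mk_one_tmul, Submodule.Quotient.mk_eq_zero]

theorem exists_one_tmul (t : (R ⧸ nilradical R) ⊗[R] M) :
    ∃ x : M, (1 : R ⧸ nilradical R) ⊗ₜ[R] x = t := by
  obtain ⟨x, hx⟩ := Submodule.Quotient.mk_surjective _
    (TensorProduct.quotTensorEquivQuotSMul M (nilradical R) t)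
  refine ⟨x, (TensorProduct.quotTensorEquivQuotSMul M (nilradical R)).injective ?_⟩
  rw [TensorProduct.quotTensorEquivQuotSMul_mk_one_tmul, hx]

end

open TensorProduct in
/-- Let R be a commutative Noetherian ring with nilradical n, M an R-module and r a natural number. Then
M is NR-free of rank r — generated by r elements such that every linear relation among them has
nilpotent coefficients — if and only if (R/n) ⊗_R M is free of rank r over R/n, in the sense of
admitting a basis indexed by r elements. (The published statement assumes M finitely generated and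
also gives the converse when R is local; over a Noetherian ring the nilradical is nilpotent, the
case used here, and finite generation is not needed.) -/
theorem result (R : Type u) [CommRing R]
    [IsNoetherianRing R] (M : Type v) [AddCommGroup M] [Module R M] (r : ℕ) :
    W4c1frobunstiva.IsNRFree R M r ↔
      Nonempty (Module.Basis (Fin r) (R ⧸ nilradical R) ((R ⧸ nilradical R) ⊗[R] M)) := by
  constructor
  · rintro ⟨e, he, hrel⟩
    have hli : LinearIndependent (R ⧸ nilradical R)
        (fun i => ((1 : R ⧸ nilradical R) ⊗ₜ[R] e i : (R ⧸ nilradical R) ⊗[R] M)) := by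
      rw [Fintype.linearIndependent_iff]
      intro g hg
      have hsurj := Ideal.Quotient.mk_surjective (I := nilradical R)
      choose a ha using fun i => hsurj (g i)
      have h1 : ((1 : R ⧸ nilradical R) ⊗ₜ[R] (∑ i, a i • e i) : (R ⧸ nilradical R) ⊗[R] M) = 0 := by
        rw [one_tmul_sum, ← hg]
        exact Finset.sum_congr rfl fun i _ => by rw [ha i]
      rw [one_tmul_eq_zero_iff] at h1
      have h2 : (∑ i, a i • e i) ∈ nilradical R • Submodule.span R (Set.range e) := by
        rw [he]; exact h1
      rw [Submodule.mem_ideal_smul_span_iff_exists_sum] at h2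
      obtain ⟨c, hc, hsum⟩ := h2
      rw [Finsupp.sum_fintype c (fun i c => c • e i) (fun i => zero_smul _ _)] at hsum
      have h3 : ∑ i, (a i - c i) • e i = 0 := by
        simp only [sub_smul, Finset.sum_sub_distrib, hsum, sub_self]
      intro i
      have h4 := hrel _ h3 i
      rw [← ha i]
      have h5 : a i ∈ nilradical R := by
        have : a i = (a i - c i) + c i := by ring
        rw [this]
        exact Ideal.add_mem _ (mem_nilradical.2 h4) (hc i)
      exact Ideal.Quotient.eq_zero_iff_mem.2 h5
    refine ⟨Module.Basis.mk hli ?_⟩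
    intro t _
    obtain ⟨x, rfl⟩ := exists_one_tmul t
    have hx : x ∈ Submodule.span R (Set.range e) := he ▸ Submodule.mem_top
    rw [Submodule.mem_span_range_iff_exists_fun] at hx
    obtain ⟨a, rfl⟩ := hx
    rw [one_tmul_sum]
    exact Submodule.sum_mem _ fun i _ =>
      Submodule.smul_mem _ _ (Submodule.subset_span ⟨i, rfl⟩)
  · rintro ⟨b⟩
    choose m hm using fun i => exists_one_tmul (b i)
    refine ⟨m, ?_, ?_⟩
    · apply eq_top_of_sup_smul_top_of_isNilpotent (nilradical R)
        (IsNoetherianRing.isNilpotent_nilradical R)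
      intro x _
      have hx : ((1 : R ⧸ nilradical R) ⊗ₜ[R] x : (R ⧸ nilradical R) ⊗[R] M) ∈
          Submodule.span (R ⧸ nilradical R) (Set.range b) := by
        rw [b.span_eq]; exact Submodule.mem_top
      rw [Submodule.mem_span_range_iff_exists_fun] at hx
      obtain ⟨g, hg⟩ := hx
      have hsurj := Ideal.Quotient.mk_surjective (I := nilradical R)
      choose a ha using fun i => hsurj (g i)
      have h1 : ((1 : R ⧸ nilradical R) ⊗ₜ[R] (x - ∑ i, a i • m i) :
          (R ⧸ nilradical R) ⊗[R] M) = 0 := by
        rw [TensorProduct.tmul_sub, one_tmul_sum, ← hg, sub_eq_zero]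
        exact Finset.sum_congr rfl fun i _ => by rw [ha i, hm i]
      rw [one_tmul_eq_zero_iff] at h1
      have : x = (∑ i, a i • m i) + (x - ∑ i, a i • m i) := by abel
      rw [this]
      refine Submodule.add_mem_sup ?_ h1
      exact Submodule.sum_mem _ fun i _ =>
        Submodule.smul_mem _ _ (Submodule.subset_span ⟨i, rfl⟩)
    · intro a hsum i
      have h1 : ∑ i, (Ideal.Quotient.mk (nilradical R) (a i)) • b i = 0 := by
        have := one_tmul_sum a m
        rw [hsum, TensorProduct.tmul_zero] at this
        rw [this]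
        exact Finset.sum_congr rfl fun i _ => by rw [hm i]
      have h2 := Fintype.linearIndependent_iff.1 b.linearIndependent _ h1 i
      exact mem_nilradical.1 (Ideal.Quotient.eq_zero_iff_mem.1 h2)

end Groth.Agent.S14032
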