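import Groth.Statements.S14033
import Mathlib

set_option autoImplicit false
universe u v
open W4c1frobunstiva

namespace Groth.Agent.S14033

open DualNumber TrivSqZeroExt Pointwise Module

section
variable (R : Type u) [CommRing R] (M : Type v) [AddCommGroup M] [Module R[ε] M] [Module R M]
  [IsScalarTower R R[ε] M]

theorem mem_epsM (m : M) :
    m ∈ ((ε : R[ε]) • (⊤ : Submodule R[ε] M)) ↔ ∃ m' : M, (ε : R[ε]) • m' = m := by
  rw [Submodule.mem_smul_pointwise_iff_exists]
  simp

theorem eps_eps (m : M) : (ε : R[ε]) • ((ε : R[ε]) • m) = 0 := by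
  rw [smul_smul, eps_mul_eps, zero_smul]

theorem inl_smul' (a : R) (m : M) : (inl a : R[ε]) • m = a • m := by
  rw [← algebraMap_smul R[ε] a m]
  rfl

theorem smul_decomp (g : R[ε]) (m : M) :
    g • m = g.fst • m + g.snd • ((ε : R[ε]) • m) := by
  conv_lhs => rw [← inl_fst_add_inr_snd_eq g]
  rw [add_smul, inl_smul', inr_eq_smul_eps, smul_assoc]

theorem eps_quot (x : M ⧸ ((ε : R[ε]) • (⊤ : Submodule R[ε] M))) : (ε : R[ε]) • x = 0 := by
  obtain ⟨m, rfl⟩ := Submodule.Quotient.mk_surjective _ x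
  rw [← Submodule.Quotient.mk_smul, Submodule.Quotient.mk_eq_zero, mem_epsM]
  exact ⟨m, rfl⟩

theorem smul_quot (g : R[ε]) (x : M ⧸ ((ε : R[ε]) • (⊤ : Submodule R[ε] M))) :
    g • x = g.fst • x := by
  rw [smul_decomp, eps_quot, smul_zero, add_zero]

end


section
variable (R : Type u) [CommRing R] (M : Type v) [AddCommGroup M] [Module R[ε] M] [Module R M]
  [IsScalarTower R R[ε] M]

theorem backward [Nontrivial R] (r : ℕ)
    (c : Basis (Fin r) R (M ⧸ ((ε : R[ε]) • (⊤ : Submodule R[ε] M))))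
    (d : Basis (Fin r) R (((ε : R[ε]) • (⊤ : Submodule R[ε] M)).restrictScalars R)) :
    Nonempty (Basis (Fin r) R[ε] M) := by
  have hsurj := Submodule.mkQ_surjective ((ε : R[ε]) • (⊤ : Submodule R[ε] M))
  choose e he using fun i => hsurj (c i)
  have F1 : ∀ m : M, ∃ a : Fin r → R, ∃ m' : M, m = ∑ i, a i • e i + (ε : R[ε]) • m' := by
    intro m
    let a := c.repr (Submodule.mkQ _ m)
    have h1 : Submodule.mkQ ((ε : R[ε]) • (⊤ : Submodule R[ε] M)) m = ∑ i, a i • c i :=
      (c.sum_repr _).symm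
    have h2 : Submodule.mkQ ((ε : R[ε]) • (⊤ : Submodule R[ε] M)) (m - ∑ i, a i • e i) = 0 := by
      rw [map_sub, h1, map_sum, sub_eq_zero]
      refine Finset.sum_congr rfl (fun i _ => ?_)
      rw [← he i]
      rfl
    rw [Submodule.mkQ_apply, Submodule.Quotient.mk_eq_zero, mem_epsM] at h2
    obtain ⟨m', hm'⟩ := h2
    exact ⟨a, m', by rw [hm']; abel⟩
  have F2 : ∀ m : M, ∃ a : Fin r → R, (ε : R[ε]) • m = ∑ i, a i • ((ε : R[ε]) • e i) := by
    intro m
    obtain ⟨a, m', h⟩ := F1 m
    refine ⟨a, ?_⟩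
    conv_lhs => rw [h]
    rw [smul_add, eps_eps, add_zero, Finset.smul_sum]
    refine Finset.sum_congr rfl (fun i _ => ?_)
    rw [smul_comm]
  let w : Fin r → (((ε : R[ε]) • (⊤ : Submodule R[ε] M)).restrictScalars R) :=
    fun i => ⟨(ε : R[ε]) • e i, (mem_epsM R M _).mpr ⟨e i, rfl⟩⟩
  have hw_span : ⊤ ≤ Submodule.span R (Set.range w) := by
    rintro ⟨x, hx⟩ -
    obtain ⟨m, rfl⟩ := (mem_epsM R M x).mp hx
    obtain ⟨a, ha⟩ := F2 m
    have h3 : (⟨(ε : R[ε]) • m, hx⟩ : ((ε : R[ε]) • (⊤ : Submodule R[ε] M)).restrictScalars R) =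
        ∑ i, a i • w i := by
      apply Subtype.ext
      rw [Submodule.coe_sum]
      simp only [Submodule.coe_smul, w]
      exact ha
    rw [h3]
    exact Submodule.sum_mem _ (fun i _ => Submodule.smul_mem _ _ (Submodule.subset_span ⟨i, rfl⟩))
  have hw_li : LinearIndependent R w :=
    linearIndependent_of_top_le_span_of_card_eq_finrank hw_span
      (by rw [Module.finrank_eq_card_basis d])
  refine ⟨Basis.mk (v := e) ?_ ?_⟩
  · rw [Fintype.linearIndependent_iff]
    intro g hg
    have h1 : ∑ i, (g i).fst • c i = 0 := by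
      have h := congrArg (Submodule.mkQ ((ε : R[ε]) • (⊤ : Submodule R[ε] M))) hg
      rw [map_sum, map_zero] at h
      rw [← h]
      refine Finset.sum_congr rfl (fun i _ => ?_)
      rw [map_smul, he i, smul_quot]
    have h2 : ∀ i, (g i).fst = 0 := Fintype.linearIndependent_iff.mp c.linearIndependent _ h1
    have h3 : ∑ i, (g i).snd • w i = 0 := by
      apply Subtype.ext
      rw [Submodule.coe_sum]
      simp only [Submodule.coe_smul, w, ZeroMemClass.coe_zero]
      rw [← hg]
      refine Finset.sum_congr rfl (fun i _ => ?_)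
      rw [smul_decomp R M (g i), h2 i, zero_smul, zero_add]
    have h4 : ∀ i, (g i).snd = 0 := Fintype.linearIndependent_iff.mp hw_li _ h3
    intro i
    exact TrivSqZeroExt.ext (h2 i) (h4 i)
  · intro m _
    obtain ⟨a, m', h⟩ := F1 m
    obtain ⟨a', h'⟩ := F2 m'
    have h5 : m = ∑ i, (inl (a i) + inr (a' i) : R[ε]) • e i := by
      rw [h, h', ← Finset.sum_add_distrib]
      refine Finset.sum_congr rfl (fun i _ => ?_)
      rw [add_smul, inl_smul', inr_eq_smul_eps, smul_assoc]
    rw [h5]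
    exact Submodule.sum_mem _ (fun i _ => Submodule.smul_mem _ _ (Submodule.subset_span ⟨i, rfl⟩))

end


section
variable (R : Type u) [CommRing R] (M : Type v) [AddCommGroup M] [Module R[ε] M] [Module R M]
  [IsScalarTower R R[ε] M]

theorem forward1 (r : ℕ) (b : Basis (Fin r) R[ε] M) :
    Nonempty (Basis (Fin r) R (M ⧸ ((ε : R[ε]) • (⊤ : Submodule R[ε] M)))) := by
  let v : Fin r → (M ⧸ ((ε : R[ε]) • (⊤ : Submodule R[ε] M))) :=
    fun i => Submodule.mkQ _ (b i)
  refine ⟨Basis.mk (v := v) ?_ ?_⟩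
  · rw [Fintype.linearIndependent_iff]
    intro a ha
    have h1 : Submodule.mkQ ((ε : R[ε]) • (⊤ : Submodule R[ε] M)) (∑ i, a i • b i) = 0 := by
      rw [map_sum, ← ha]
      rfl
    rw [Submodule.mkQ_apply, Submodule.Quotient.mk_eq_zero, mem_epsM] at h1
    obtain ⟨m', hm'⟩ := h1
    have h2 : ∑ i, ((inl (a i) : R[ε]) - ε * b.repr m' i) • b i = 0 := by
      simp_rw [sub_smul, Finset.sum_sub_distrib, inl_smul', mul_smul]
      rw [← Finset.smul_sum, b.sum_repr, hm', sub_self]
    have h3 := Fintype.linearIndependent_iff.mp b.linearIndependent _ h2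
    intro i
    have h4 := congrArg TrivSqZeroExt.fst (h3 i)
    simpa using h4
  · rintro x -
    obtain ⟨m, rfl⟩ := Submodule.Quotient.mk_surjective _ x
    have h1 : (Submodule.Quotient.mk m : M ⧸ ((ε : R[ε]) • (⊤ : Submodule R[ε] M))) =
        ∑ i, (b.repr m i).fst • v i := by
      conv_lhs => rw [← b.sum_repr m]
      rw [← Submodule.mkQ_apply, map_sum]
      refine Finset.sum_congr rfl (fun i _ => ?_)
      rw [map_smul, smul_quot]
    rw [h1]
    exact Submodule.sum_mem _ (fun i _ => Submodule.smul_mem _ _ (Submodule.subset_span ⟨i, rfl⟩))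

theorem forward2 (r : ℕ) (b : Basis (Fin r) R[ε] M) :
    Nonempty (Basis (Fin r) R (((ε : R[ε]) • (⊤ : Submodule R[ε] M)).restrictScalars R)) := by
  let w : Fin r → (((ε : R[ε]) • (⊤ : Submodule R[ε] M)).restrictScalars R) :=
    fun i => ⟨(ε : R[ε]) • b i, (mem_epsM R M _).mpr ⟨b i, rfl⟩⟩
  refine ⟨Basis.mk (v := w) ?_ ?_⟩
  · rw [Fintype.linearIndependent_iff]
    intro a ha
    have h1 : ∑ i, a i • ((ε : R[ε]) • b i) = 0 := by
      have := congrArg Subtype.val ha
      rw [Submodule.coe_sum] at this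
      simpa [w] using this
    have h2 : ∑ i, (a i • (ε : R[ε])) • b i = 0 := by
      rw [← h1]
      refine Finset.sum_congr rfl (fun i _ => ?_)
      rw [smul_assoc]
    have h3 := Fintype.linearIndependent_iff.mp b.linearIndependent _ h2
    intro i
    have h4 := congrArg TrivSqZeroExt.snd (h3 i)
    simpa using h4
  · rintro ⟨x, hx⟩ -
    obtain ⟨m, rfl⟩ := (mem_epsM R M x).mp hx
    have h3 : (⟨(ε : R[ε]) • m, hx⟩ : ((ε : R[ε]) • (⊤ : Submodule R[ε] M)).restrictScalars R) =
        ∑ i, (b.repr m i).fst • w i := by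
      apply Subtype.ext
      rw [Submodule.coe_sum]
      simp only [Submodule.coe_smul, w]
      conv_lhs => rw [← b.sum_repr m]
      rw [Finset.smul_sum]
      refine Finset.sum_congr rfl (fun i _ => ?_)
      rw [smul_decomp R M (b.repr m i), smul_add, smul_comm, smul_comm (ε : R[ε]) (b.repr m i).snd,
        eps_eps, smul_zero, add_zero]
    rw [h3]
    exact Submodule.sum_mem _ (fun i _ => Submodule.smul_mem _ _ (Submodule.subset_span ⟨i, rfl⟩))

end


theorem basis_of_subsingleton (S : Type*) [Semiring S] [Subsingleton S] (N : Type*)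
    [AddCommMonoid N] [Module S N] (ι : Type*) : Nonempty (Basis ι S N) := by
  have : Subsingleton N := Module.subsingleton S N
  have : Subsingleton (ι →₀ S) := Module.subsingleton S _
  exact ⟨Basis.ofRepr (LinearEquiv.ofSubsingleton N (ι →₀ S))⟩

open DualNumber Pointwise in
theorem result (R : Type u) [CommRing R] (M : Type v)
    [AddCommGroup M] [Module R[ε] M] [Module R M] [IsScalarTower R R[ε] M] (r : ℕ) :
    Nonempty (Module.Basis (Fin r) R[ε] M) ↔
      (Nonempty (Module.Basis (Fin r) R (M ⧸ ((ε : R[ε]) • (⊤ : Submodule R[ε] M)))) ∧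
        Nonempty (Module.Basis (Fin r) R (((ε : R[ε]) • (⊤ : Submodule R[ε] M)).restrictScalars R))) := by
  rcases subsingleton_or_nontrivial R with hR | hR
  · have : Subsingleton R[ε] := by
      refine ⟨fun x y => ?_⟩
      exact TrivSqZeroExt.ext (Subsingleton.elim _ _) (Subsingleton.elim _ _)
    exact ⟨fun _ => ⟨basis_of_subsingleton R _ _, basis_of_subsingleton R _ _⟩,
      fun _ => basis_of_subsingleton R[ε] _ _⟩
  · constructor
    · rintro ⟨b⟩
      exact ⟨forward1 R M r b, forward2 R M r b⟩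
    · rintro ⟨⟨c⟩, ⟨d⟩⟩
      exact backward R M r c d

end Groth.Agent.S14033
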