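import Groth.Statements.S14034
import Mathlib.RingTheory.LocalRing.Module
import Mathlib.Algebra.Module.Projective
import Mathlib.LinearAlgebra.Dimension.Constructions
import Mathlib.LinearAlgebra.Dimension.Free
import Mathlib.LinearAlgebra.Finsupp.LinearCombination
import Mathlib.RingTheory.Nilpotent.Lemmas
import Mathlib.RingTheory.Nilpotent.Basic

set_option autoImplicit false
universe u
open W4c1frobunstiva

namespace Groth.Agent.S14034


section
variable {R : Type u} [CommRing R]

theorem isNilpotent_of_linear {l : ℕ} (lam : (Fin l → R) →ₗ[R] R) (c : Fin l → R)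
    (hc : ∀ i, IsNilpotent (c i)) : IsNilpotent (lam c) := by
  classical
  have h1 : c = ∑ i, c i • (Pi.single i (1 : R) : Fin l → R) := by
    ext j
    simp [Finset.sum_apply, Pi.single_apply]
  rw [h1, map_sum, ← mem_nilradical]
  refine Ideal.sum_mem _ fun i _ => ?_
  rw [map_smul, smul_eq_mul]
  exact Ideal.mul_mem_right _ _ (mem_nilradical.2 (hc i))

variable [IsLocalRing R]

theorem main (r s l : ℕ) (v : Fin l → (Fin s → R))
    (hv : ∀ c : Fin l → R, (∑ i, c i • v i) = 0 → ∀ i, IsNilpotent (c i))
    (φ : (Fin r → R) →ₗ[R] ((Fin s → R) ⧸ Submodule.span R (Set.range v)))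
    (hφ : Function.Surjective φ) :
    ∃ m : Fin (r + l - s) → LinearMap.ker φ, Submodule.span R (Set.range m) = ⊤ ∧
      ∀ a : Fin (r + l - s) → R, (∑ j, a j • m j) = 0 →
        (∀ j, IsNilpotent (a j)) ∧ (l = 0 → ∀ j, a j = 0) := by
  classical
  obtain ⟨Φ, hΦ⟩ := Module.projective_lifting_property (Submodule.span R (Set.range v)).mkQ φ
    (Submodule.mkQ_surjective _)
  set ι : (Fin l → R) →ₗ[R] (Fin s → R) := Fintype.linearCombination R v with hι
  have hιrange : LinearMap.range ι = Submodule.span R (Set.range v) :=
    Fintype.range_linearCombination R v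
  set Ψ : ((Fin r → R) × (Fin l → R)) →ₗ[R] (Fin s → R) := Φ.coprod ι with hΨ
  have hΨsurj : Function.Surjective Ψ := by
    intro y
    obtain ⟨a, ha⟩ := hφ ((Submodule.span R (Set.range v)).mkQ y)
    have h1 : y - Φ a ∈ Submodule.span R (Set.range v) := by
      rw [← Submodule.Quotient.mk_eq_zero, Submodule.Quotient.mk_sub, sub_eq_zero]
      have := LinearMap.congr_fun hΦ a
      rw [LinearMap.comp_apply] at this
      exact (this.trans ha).symm
    rw [← hιrange] at h1
    obtain ⟨c, hc⟩ := h1
    refine ⟨(a, c), ?_⟩
    rw [hΨ, LinearMap.coprod_apply, hc]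
    abel
  obtain ⟨σ, hσ⟩ := Module.projective_lifting_property Ψ LinearMap.id hΨsurj
  have hσ' : ∀ y, Ψ (σ y) = y := fun y => LinearMap.congr_fun hσ y
  set P := LinearMap.ker Ψ with hP
  set ρ : ((Fin r → R) × (Fin l → R)) →ₗ[R] P :=
    (LinearMap.id - σ.comp Ψ).codRestrict P (fun x => by
      rw [hP, LinearMap.mem_ker, LinearMap.sub_apply, map_sub, LinearMap.comp_apply, hσ',
        LinearMap.id_apply, sub_self]) with hρ
  have hρP : ∀ p : P, ρ p.1 = p := by
    intro p
    apply Subtype.ext
    have : Ψ p.1 = 0 := p.2
    simp [hρ, this]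
  have hρsurj : Function.Surjective ρ := fun p => ⟨p.1, hρP p⟩
  have hfinP : Module.Finite R P := Module.Finite.of_surjective ρ hρsurj
  have hprojP : Module.Projective R P :=
    Module.Projective.of_split P.subtype ρ (LinearMap.ext fun p => hρP p)
  have hfreeP : Module.Free R P := Module.free_of_flat_of_isLocalRing
  -- the rank
  let E : ((Fin r → R) × (Fin l → R)) ≃ₗ[R] (P × (Fin s → R)) :=
    LinearEquiv.ofLinearMap (ρ.prod Ψ) (P.subtype.coprod σ)
      (by
        apply LinearMap.ext
        rintro ⟨p, y⟩
        have hp : Ψ p.1 = 0 := p.2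
        apply Prod.ext
        · apply Subtype.ext
          simp [hρ, hp, hσ']
        · simp [hp, hσ'])
      (by
        apply LinearMap.ext
        intro x
        simp [hρ])
  have hrank : Module.finrank R P = r + l - s := by
    have h1 := E.finrank_eq
    rw [Module.finrank_prod, Module.finrank_prod, Module.finrank_fin_fun, Module.finrank_fin_fun,
      Module.finrank_fin_fun] at h1
    omega
  let b : Module.Basis (Fin (r + l - s)) R P := Module.finBasisOfFinrankEq R P hrank
  have hker : ∀ p : P, p.1.1 ∈ LinearMap.ker φ := by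
    intro p
    have hp : Ψ p.1 = 0 := p.2
    rw [hΨ, LinearMap.coprod_apply] at hp
    rw [LinearMap.mem_ker, ← hΦ, LinearMap.comp_apply, eq_neg_of_add_eq_zero_left hp, map_neg,
      neg_eq_zero, Submodule.mkQ_apply, Submodule.Quotient.mk_eq_zero, ← hιrange]
    exact ⟨_, rfl⟩
  refine ⟨fun j => ⟨(b j).1.1, hker (b j)⟩, ?_, ?_⟩
  · rw [Submodule.eq_top_iff']
    rintro ⟨a, ha⟩
    have h1 : Φ a ∈ Submodule.span R (Set.range v) := by
      rw [← Submodule.Quotient.mk_eq_zero, ← Submodule.mkQ_apply, ← LinearMap.comp_apply, hΦ]
      exact ha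
    rw [← hιrange] at h1
    obtain ⟨c, hc⟩ := h1
    have hp : ((a, -c) : (Fin r → R) × (Fin l → R)) ∈ P := by
      rw [hP, LinearMap.mem_ker, hΨ, LinearMap.coprod_apply, map_neg, hc]
      abel
    rw [Submodule.mem_span_range_iff_exists_fun]
    refine ⟨fun j => b.repr ⟨_, hp⟩ j, Subtype.ext ?_⟩
    have h2 := b.sum_repr ⟨_, hp⟩
    have h3 := congrArg (fun q : P => q.1.1) h2
    simp only [Submodule.coe_sum, Submodule.coe_smul, Prod.fst_sum, Prod.smul_fst] at h3
    simp only [Submodule.coe_sum, Submodule.coe_smul]
    exact h3
  · intro a ha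
    set p : P := ∑ j, a j • b j with hp
    have hp1 : p.1.1 = 0 := by
      have := congrArg (fun q : LinearMap.ker φ => q.1) ha
      simp only [Submodule.coe_sum, Submodule.coe_smul, ZeroMemClass.coe_zero] at this
      simp only [hp, Submodule.coe_sum, Submodule.coe_smul, Prod.fst_sum, Prod.smul_fst]
      exact this
    have hpeq : p.1 = LinearMap.inr R (Fin r → R) (Fin l → R) p.1.2 := by
      apply Prod.ext
      · simpa using hp1
      · simp
    have hpΨ : Ψ p.1 = 0 := p.2
    have hιc : ι p.1.2 = 0 := by
      rw [hpeq, hΨ, LinearMap.coprod_apply] at hpΨ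
      simpa using hpΨ
    have hcnil : ∀ i, IsNilpotent (p.1.2 i) := by
      apply hv
      rw [← Fintype.linearCombination_apply]
      exact hιc
    have haj : ∀ j, a j = b.repr p j := by
      intro j
      rw [hp, b.repr_sum_self]
    have hpρ : p = ρ (LinearMap.inr R (Fin r → R) (Fin l → R) p.1.2) := by
      rw [← hpeq, hρP]
    refine ⟨fun j => ?_, fun hl j => ?_⟩
    · rw [haj j, hpρ]
      exact isNilpotent_of_linear
        ((Finsupp.lapply j).comp (b.repr.toLinearMap.comp
          (ρ.comp (LinearMap.inr R (Fin r → R) (Fin l → R))))) p.1.2 hcnil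
    · subst hl
      have : p.1.2 = 0 := Subsingleton.elim _ _
      rw [haj j, hpρ, this, map_zero, map_zero, map_zero]
      rfl

end

/-- Let R be a Noetherian local ring and f an element of R whose annihilator consists of nilpotent
elements (a f = 0 forces a nilpotent), r, s and l ≤ s natural numbers, N the quotient of the free
module R^s by the submodule spanned by f e_1, …, f e_l (e_i the standard basis vectors), and φ : R^r
→ N a surjective linear map. Then the kernel of φ is NR-free of rank r + l − s: it is generated by r
+ l − s elements every linear relation among which has nilpotent coefficients; and when l = 0 the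
kernel is free of rank r − s. (The published statement takes R Noetherian with irreducible spectrum
and R_red a domain, not necessarily local, and f arbitrary. Over the coordinate ring of the real
2-sphere the kernel of (x, y, z) : R³ → R is not free, and over k[x, y]/(y², xy) localised at (x, y)
with f = y the kernel of R → R/(y) is spanned by y with the non-nilpotent relation x·y = 0. The
published argument uses that the kernel of a surjection of free modules is free, true over a local
ring, and that a f = 0 forces a nilpotent, which is the hypothesis taken here; it holds when R_red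
is a domain and f is not nilpotent, and also for f = ε in A[ε] with A a domain, so primality of the
nilradical is not assumed.) -/
theorem result (R : Type u)
    [CommRing R] [IsNoetherianRing R] [IsLocalRing R] (f : R)
    (hann : ∀ a : R, a * f = 0 → IsNilpotent a) (r s l : ℕ) (hls : l ≤ s)
    (φ : (Fin r → R) →ₗ[R]
      ((Fin s → R) ⧸ Submodule.span R (Set.range fun i : Fin l => (Pi.single (Fin.castLE hls i) f : Fin s → R))))
    (hφ : Function.Surjective φ) :
    W4c1frobunstiva.IsNRFree R (LinearMap.ker φ) (r + l - s) ∧
      (l = 0 → Nonempty (Module.Basis (Fin (r - s)) R (LinearMap.ker φ))) := by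
  classical
  have hv : ∀ c : Fin l → R,
      (∑ i, c i • (fun i : Fin l => (Pi.single (Fin.castLE hls i) f : Fin s → R)) i) = 0 →
        ∀ i, IsNilpotent (c i) := by
    intro c hc i
    apply hann
    have := congrFun hc (Fin.castLE hls i)
    rw [Finset.sum_apply] at this
    simp only [Pi.smul_apply, Pi.single_apply, smul_eq_mul, Pi.zero_apply] at this
    rw [Finset.sum_eq_single i] at this
    · simpa using this
    · intro j _ hj
      have : Fin.castLE hls i ≠ Fin.castLE hls j := fun h => hj (Fin.castLE_injective hls h).symm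
      simp [this]
    · simp
  obtain ⟨m, hspan, hrel⟩ := main r s l _ hv φ hφ
  refine ⟨⟨m, hspan, fun a ha => (hrel a ha).1⟩, fun hl => ?_⟩
  subst hl
  have hli : LinearIndependent R m := by
    rw [Fintype.linearIndependent_iff]
    exact fun a ha => (hrel a ha).2 rfl
  exact ⟨Module.Basis.mk hli hspan.ge⟩

end Groth.Agent.S14034
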