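import Groth.Statements.S14035
import Mathlib

set_option autoImplicit false
universe u v
open W4c1frobunstiva

namespace Groth.Agent.S14035

open TensorProduct in
theorem nilp_image (A : Type u) (B : Type v) [CommRing A] [CommRing B] [Algebra A B]
    (K : Type*) [CommRing K] [Algebra A K]
    (z : K ⊗[A] (nilradical B)) :
    IsNilpotent ((((nilradical B).subtype).restrictScalars A).lTensor K z) := by
  induction z with
  | zero => simp
  | add x y hx hy =>
    rw [map_add]
    exact Commute.isNilpotent_add (Commute.all _ _) hx hy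
  | tmul a n =>
    simp only [LinearMap.lTensor_tmul, LinearMap.coe_restrictScalars, Submodule.subtype_apply]
    obtain ⟨k, hk⟩ := n.2
    refine ⟨k, ?_⟩
    rw [Algebra.TensorProduct.tmul_pow, hk, TensorProduct.tmul_zero]

open TensorProduct in
theorem fibre_zero (A : Type u) (B : Type v)
    [CommRing A] [CommRing B] [Algebra A B]
    [Module.Flat A (B ⧸ nilradical B)]
    (K : Type*) [CommRing K] [Algebra A K] (hK : IsReduced (K ⊗[A] B)) :
    Subsingleton (K ⊗[A] (nilradical B)) := by
  let g : (nilradical B) →ₗ[A] B := ((nilradical B).subtype).restrictScalars A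
  let f : B →ₗ[A] (B ⧸ nilradical B) := ((nilradical B).mkQ).restrictScalars A
  have hf : Function.Surjective f := Submodule.mkQ_surjective _
  have hg : Function.Injective g := Submodule.subtype_injective _
  have H : Function.Exact g f := by
    intro b
    simp only [f, g, LinearMap.coe_restrictScalars, Submodule.mkQ_apply,
      Submodule.Quotient.mk_eq_zero, Set.mem_range, Submodule.subtype_apply]
    constructor
    · intro hb; exact ⟨⟨b, hb⟩, rfl⟩
    · rintro ⟨x, rfl⟩; exact x.2
  have hinj := LinearMap.lTensor_injective_of_exact_of_flat f hf g hg H K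
  refine ⟨fun x y => hinj ?_⟩
  have hx := nilp_image A B K x
  have hy := nilp_image A B K y
  rw [isNilpotent_iff_eq_zero] at hx hy
  exact hx.trans hy.symm

open TensorProduct in
theorem result (A : Type u) (B : Type v)
    [CommRing A] [CommRing B] [Algebra A B] [IsNoetherianRing B]
    [Module.Flat A (B ⧸ nilradical B)]
    (hfib : ∀ p : PrimeSpectrum A, IsReduced (p.asIdeal.ResidueField ⊗[A] B)) :
    IsReduced B := by
  rw [← nilradical_eq_bot_iff, ← Submodule.subsingleton_iff_eq_bot, ← Module.support_eq_empty_iff (R := B),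
    Set.eq_empty_iff_forall_notMem]
  intro q hq
  rw [Module.mem_support_iff_nontrivial_residueField_tensorProduct] at hq
  let p : PrimeSpectrum A := q.comap (algebraMap A B)
  have h0 := fibre_zero A B p.asIdeal.ResidueField (hfib p)
  let ι : p.asIdeal.ResidueField →ₐ[A] q.asIdeal.ResidueField :=
    Ideal.ResidueField.mapₐ p.asIdeal q.asIdeal (Algebra.ofId A B) rfl
  let φ : p.asIdeal.ResidueField ⊗[A] (nilradical B) →ₗ[A]
      q.asIdeal.ResidueField ⊗[B] (nilradical B) :=
    (TensorProduct.mapOfCompatibleSMul B A A q.asIdeal.ResidueField (nilradical B)) ∘ₗ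
      (ι.toLinearMap.rTensor (nilradical B))
  have h1 : ∀ n : nilradical B, (1 : q.asIdeal.ResidueField) ⊗ₜ[B] n = 0 := by
    intro n
    have : φ ((1 : p.asIdeal.ResidueField) ⊗ₜ[A] n) = (1 : q.asIdeal.ResidueField) ⊗ₜ[B] n := by
      simp [φ]
    rw [← this, Subsingleton.elim ((1 : p.asIdeal.ResidueField) ⊗ₜ[A] n) 0, map_zero]
  have h2 : ∀ z : q.asIdeal.ResidueField ⊗[B] (nilradical B), z = 0 := by
    intro z
    induction z with
    | zero => rfl
    | add x y hx hy => rw [hx, hy, add_zero]
    | tmul a n =>
      have : a ⊗ₜ[B] n = a • ((1 : q.asIdeal.ResidueField) ⊗ₜ[B] n) := by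
        rw [TensorProduct.smul_tmul', smul_eq_mul, mul_one]
      rw [this, h1, smul_zero]
  obtain ⟨x, y, hxy⟩ := hq
  exact hxy ((h2 x).trans (h2 y).symm)

end Groth.Agent.S14035
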