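import Groth.Statements.S14039
import Mathlib.RingTheory.PowerSeries.WellKnown
import Mathlib.Algebra.Ring.GeomSum
import Mathlib.Data.Nat.Choose.Sum

set_option autoImplicit false
open W4c1frobunstiva

set_option linter.unusedSectionVars false

namespace Groth.Agent.S14039Aux
open PowerSeries

/-- generating series of one exponent -/
noncomputable def G (p : ℕ) : ℤ⟦X⟧ := ∑ j : Fin p, if 1 ≤ (j : ℕ) then (X : ℤ⟦X⟧) ^ (j : ℕ) else 0

lemma count_eq (p n s : ℕ) :
    (Fintype.card {e : Fin n → Fin p // (∀ i, 1 ≤ (e i : ℕ)) ∧ ∑ i, (e i : ℕ) = s} : ℤ) =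
      coeff s (G p ^ n) := by
  have h1 : G p ^ n = ∑ e : Fin n → Fin p,
      ∏ i : Fin n, (if 1 ≤ (e i : ℕ) then (X : ℤ⟦X⟧) ^ (e i : ℕ) else 0) := by
    unfold G
    rw [← Fin.prod_const, Finset.prod_univ_sum]
    simp
  rw [h1, map_sum]
  have h2 : ∀ e : Fin n → Fin p,
      coeff s (∏ i : Fin n, (if 1 ≤ (e i : ℕ) then (X : ℤ⟦X⟧) ^ (e i : ℕ) else 0)) =
        if ((∀ i, 1 ≤ (e i : ℕ)) ∧ ∑ i, (e i : ℕ) = s) then (1 : ℤ) else 0 := by
    intro e
    rw [Finset.prod_ite_zero, Finset.prod_pow_eq_pow_sum]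
    by_cases h : ∀ i, 1 ≤ (e i : ℕ)
    · have h' : ∀ i ∈ (Finset.univ : Finset (Fin n)), 1 ≤ (e i : ℕ) := fun i _ => h i
      rw [if_pos h', coeff_X_pow]
      by_cases hs : s = ∑ i, (e i : ℕ)
      · rw [if_pos hs, if_pos ⟨h, hs.symm⟩]
      · rw [if_neg hs, if_neg (fun hh => hs hh.2.symm)]
    · have h' : ¬ ∀ i ∈ (Finset.univ : Finset (Fin n)), 1 ≤ (e i : ℕ) := fun hh => h fun i => hh i (Finset.mem_univ i)
      rw [if_neg h']
      simp [h]
  simp_rw [h2]
  rw [Finset.sum_boole, Fintype.card_subtype]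

lemma G_mul (p : ℕ) : G p * (1 - X) = X * (1 - X ^ (p - 1)) := by
  cases p with
  | zero => simp [G]
  | succ q =>
    have : G (q + 1) = X * ∑ j ∈ Finset.range q, (X : ℤ⟦X⟧) ^ j := by
      unfold G
      rw [Fin.sum_univ_eq_sum_range (fun j => if 1 ≤ j then (X : ℤ⟦X⟧) ^ j else 0) (q + 1),
        Finset.sum_range_succ', Finset.mul_sum]
      simp [pow_succ, mul_comm]
    rw [this, mul_assoc, geom_sum_mul_neg]
    simp

lemma G_pow (p d : ℕ) :
    G p ^ (d + 1) = X ^ (d + 1) * (1 - X ^ (p - 1)) ^ (d + 1) *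
      (mk fun m => ((Nat.choose (d + m) d : ℕ) : ℤ)) := by
  have hM := mk_add_choose_mul_one_sub_pow_eq_one ℤ d
  calc G p ^ (d + 1) = G p ^ (d + 1) * ((mk fun m => ((Nat.choose (d + m) d : ℕ) : ℤ)) * (1 - X) ^ (d + 1)) := by
        rw [hM, mul_one]
    _ = (G p * (1 - X)) ^ (d + 1) * (mk fun m => ((Nat.choose (d + m) d : ℕ) : ℤ)) := by
        rw [mul_pow]; ring
    _ = _ := by rw [G_mul, mul_pow]

lemma one_sub_pow (q n : ℕ) : (1 - (X : ℤ⟦X⟧) ^ q) ^ n =
    ∑ i ∈ Finset.range (n + 1), C (((-1 : ℤ) ^ i * (n.choose i : ℤ))) * X ^ (q * i) := by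
  rw [sub_eq_add_neg, add_comm, add_pow]
  refine Finset.sum_congr rfl fun i _ => ?_
  rw [one_pow, mul_one, neg_pow, ← pow_mul]
  simp only [map_mul, map_pow, map_neg, map_one, map_natCast]
  ring

end Groth.Agent.S14039Aux

namespace Groth.Agent.S14039

/-- For natural numbers p, n ≥ 1 and s, the number of monomials of degree s in n variables in which
every variable occurs with a positive exponent strictly less than p — that is, of exponent vectors
(e_1, …, e_n) with sum s and 1 ≤ e_i ≤ p − 1 — equals the inclusion–exclusion sum over i from 0 to n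
of (−1)^i · C(n, i) · C(s − i(p − 1) − 1, n − 1), the last factor counting monomials of degree s −
i(p − 1) − n in n variables and read as 0 when s < i(p − 1) + n. (A companion count, by how many
exponents lie below p/2, and a remark on polynomiality in s and p are not part of this row.) -/
theorem result (p n s : ℕ)
    (hn : 1 ≤ n) :
    (Fintype.card {e : Fin n → Fin p // (∀ i, 1 ≤ (e i : ℕ)) ∧ ∑ i, (e i : ℕ) = s} : ℤ) =
      ∑ i ∈ Finset.range (n + 1),
        (-1 : ℤ) ^ i * (n.choose i : ℤ) *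
          (if i * (p - 1) + n ≤ s then (((s - i * (p - 1) - 1).choose (n - 1) : ℕ) : ℤ) else 0) := by
  obtain ⟨d, rfl⟩ : ∃ d, n = d + 1 := ⟨n - 1, by omega⟩
  rw [Groth.Agent.S14039Aux.count_eq, Groth.Agent.S14039Aux.G_pow, Groth.Agent.S14039Aux.one_sub_pow,
    Finset.mul_sum, Finset.sum_mul, map_sum]
  refine Finset.sum_congr rfl fun i _ => ?_
  have : (PowerSeries.X : PowerSeries ℤ) ^ (d + 1) * (PowerSeries.C ((-1 : ℤ) ^ i * ((d + 1).choose i : ℤ)) *
      PowerSeries.X ^ ((p - 1) * i)) * (PowerSeries.mk fun m => ((Nat.choose (d + m) d : ℕ) : ℤ)) =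
      PowerSeries.C ((-1 : ℤ) ^ i * ((d + 1).choose i : ℤ)) *
        (PowerSeries.X ^ (i * (p - 1) + (d + 1)) * (PowerSeries.mk fun m => ((Nat.choose (d + m) d : ℕ) : ℤ))) := by
    rw [pow_add, mul_comm i (p - 1)]; ring
  rw [this, PowerSeries.coeff_C_mul, PowerSeries.coeff_X_pow_mul']
  congr 1
  by_cases h : i * (p - 1) + (d + 1) ≤ s
  · rw [if_pos h, if_pos h, PowerSeries.coeff_mk]
    have e1 : d + (s - (i * (p - 1) + (d + 1))) = s - i * (p - 1) - 1 := by omega
    rw [e1]; simp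
  · rw [if_neg h, if_neg h]

end Groth.Agent.S14039
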