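import Groth.Statements.S14040
import Groth.Agent.S14035
import Mathlib

set_option autoImplicit false
universe u v
open W4c1frobunstiva

namespace Groth.Agent.S14040

open TensorProduct in
theorem result (A : Type u) [CommRing A]
    [IsDomain A] [IsDiscreteValuationRing A] (B : Type v) [CommRing B] [Algebra A B]
    [IsNoetherianRing B] (hirr : (nilradical B).IsPrime)
    (hdom : (nilradical B).comap (algebraMap A B) = ⊥)
    (hfib : ∀ p : PrimeSpectrum A, IsReduced (p.asIdeal.ResidueField ⊗[A] B)) :
    IsReduced B ∧ Module.Flat A B := by
  haveI : IsDomain (B ⧸ nilradical B) := Ideal.Quotient.isDomain _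
  have hinj : Function.Injective (algebraMap A (B ⧸ nilradical B)) := by
    rw [injective_iff_map_eq_zero]
    intro a ha
    have : a ∈ (nilradical B).comap (algebraMap A B) := by
      rw [Ideal.mem_comap]
      rw [IsScalarTower.algebraMap_apply A B (B ⧸ nilradical B)] at ha
      exact Ideal.Quotient.eq_zero_iff_mem.mp ha
    rw [hdom] at this
    simpa using this
  haveI : Module.IsTorsionFree A (B ⧸ nilradical B) := ⟨by
    intro r hr
    have hr0 : r ≠ 0 := hr.ne_zero
    have hr1 : algebraMap A (B ⧸ nilradical B) r ≠ 0 := by
      intro h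
      exact hr0 (hinj (h.trans (map_zero _).symm))
    intro x y hxy
    simp only [Algebra.smul_def] at hxy
    exact mul_left_cancel₀ hr1 hxy⟩
  haveI : Module.Flat A (B ⧸ nilradical B) := inferInstance
  have hred : IsReduced B := Groth.Agent.S14035.result A B hfib
  refine ⟨hred, ?_⟩
  have h0 : nilradical B = ⊥ := nilradical_eq_bot_iff.mpr hred
  exact Module.Flat.of_linearEquiv
    ((Submodule.quotEquivOfEqBot (nilradical B) h0).symm.restrictScalars A)

end Groth.Agent.S14040
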