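import Groth.Statements.S14041
import Groth.Agent.Lib.Helper70.GenFinSch
import Groth.Agent.Lib.Helper70.GenFinFib

set_option linter.style.haveILetI false

set_option autoImplicit false
universe u
open CategoryTheory CategoryTheory.Limits AlgebraicGeometry
open W4c1frobunstiva

namespace Groth.Agent.S14041

/-- Let k be a field, X and Y integral schemes of finite type over k of the same (topological Krull)
dimension, and f : X → Y a dominant k-morphism, so that f sends the generic point ξ of X to the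
generic point of Y. Then κ(ξ) is a finite extension of the residue field at f(ξ), say of degree d,
and there is a non-empty open subset U of Y such that for every point y of U the fibre X_y = X ×_Y
Spec κ(y) is finite over κ(y) and its ring of global sections has dimension exactly d over κ(y).
(The published statement speaks of the length of X_y; the κ(y)-dimension of Γ(X_y, O) is the
invariant for which the equality holds on U, including at the generic point.) -/
theorem result (k : Type u) [Field k] {X Y : Scheme.{u}}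
    [X.Over (Spec (CommRingCat.of k))] [Y.Over (Spec (CommRingCat.of k))]
    [LocallyOfFiniteType (X ↘ Spec (CommRingCat.of k))] [QuasiCompact (X ↘ Spec (CommRingCat.of k))]
    [LocallyOfFiniteType (Y ↘ Spec (CommRingCat.of k))] [QuasiCompact (Y ↘ Spec (CommRingCat.of k))]
    [IsIntegral X] [IsIntegral Y] (f : X ⟶ Y) [IsDominant f]
    (hf : f ≫ (Y ↘ Spec (CommRingCat.of k)) = X ↘ Spec (CommRingCat.of k))
    (hdim : topologicalKrullDim ↥X = topologicalKrullDim ↥Y) :
    (letI := (f.residueFieldMap (genericPoint ↥X)).hom.toAlgebra;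
      Module.Finite (Y.residueField (f.base (genericPoint ↥X))) (X.residueField (genericPoint ↥X))) ∧
    ∃ U : Y.Opens, Nonempty ↥U ∧ ∀ y : Y, y ∈ U →
      IsFinite (pullback.snd f (Y.fromSpecResidueField y)) ∧
        (letI := ((Scheme.ΓSpecIso (CommRingCat.of (Y.residueField y))).inv ≫
            (pullback.snd f (Y.fromSpecResidueField y)).appTop).hom.toAlgebra;
          Module.finrank (Y.residueField y) ↑(Γ(pullback f (Y.fromSpecResidueField y), ⊤))) =
        (letI := (f.residueFieldMap (genericPoint ↥X)).hom.toAlgebra;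
          Module.finrank (Y.residueField (f.base (genericPoint ↥X))) (X.residueField (genericPoint ↥X))) := by
  classical
  have hdom : DenseRange f.base := f.denseRange
  haveI : LocallyOfFiniteType f := by
    have : LocallyOfFiniteType (f ≫ (Y ↘ Spec (CommRingCat.of k))) := by rw [hf]; infer_instance
    exact locallyOfFiniteType_of_comp f (Y ↘ Spec (CommRingCat.of k))
  have hfin := Groth.Agent.Lib.Helper70.GenFinSch.finite_residueField_genericPoint k
    (X ↘ Spec (CommRingCat.of k)) (Y ↘ Spec (CommRingCat.of k)) f hdom hf hdim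
  refine ⟨hfin, ?_⟩
  haveI : IsLocallyNoetherian X :=
    LocallyOfFiniteType.isLocallyNoetherian (X ↘ Spec (CommRingCat.of k))
  haveI : CompactSpace X := QuasiCompact.compactSpace_of_compactSpace (X ↘ Spec (CommRingCat.of k))
  haveI : IsNoetherian X := {}
  -- charts
  obtain ⟨V, hV, hzV, -⟩ := TopologicalSpace.Opens.isBasis_iff_nbhd.mp Y.isBasis_affineOpens
    (show f (genericPoint X) ∈ (⊤ : Y.Opens) from trivial)
  haveI : Nonempty V := ⟨⟨_, hzV⟩⟩
  have hcomp : IsCompact ((f ⁻¹ᵁ V : X.Opens) : Set X) :=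
    TopologicalSpace.NoetherianSpace.isCompact _
  obtain ⟨S, hSfin, hS⟩ := isCompact_and_isOpen_iff_finite_and_eq_biUnion_affineOpens.mp
    ⟨hcomp, (f ⁻¹ᵁ V).isOpen⟩
  have hSle : ∀ W ∈ S, (W : X.Opens) ≤ f ⁻¹ᵁ V := by
    intro W hW x hx
    have : x ∈ ((f ⁻¹ᵁ V : X.Opens) : Set X) := by
      rw [hS]; exact Set.mem_biUnion hW hx
    exact this
  have hSmem : ∀ x : X, f x ∈ V → ∃ W ∈ S, x ∈ (W : X.Opens) := by
    intro x hx
    have : x ∈ ((f ⁻¹ᵁ V : X.Opens) : Set X) := hx
    rw [hS] at this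
    simpa using this
  obtain ⟨W₁, hW₁S, hξW₁⟩ := hSmem (genericPoint X) hzV
  have e₁ := hSle W₁ hW₁S
  obtain ⟨g, hg0, hg⟩ := Groth.Agent.Lib.Helper70.GenFinSch.chart_generic_finrank f hdom hfin hV
    W₁.2 e₁ hξW₁
  -- the bad loci
  have hbad : ∀ W ∈ S, ∃ a : Γ(Y, V), a ≠ 0 ∧
      ∀ x : X, x ∈ (W : X.Opens) → f x ∈ Y.basicOpen a → x ∈ (W₁ : X.Opens) := by
    intro W hW
    by_cases hξW : genericPoint X ∈ (W : X.Opens)
    · obtain ⟨b, hb1, hb2⟩ := W.2.exists_basicOpen_le (V := W₁) ⟨genericPoint X, hξW₁⟩ hξW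
      have hb0 : b ≠ 0 := by
        rintro rfl
        rw [Scheme.basicOpen_zero] at hb2
        exact hb2
      obtain ⟨a, ha0, c, hc⟩ := Groth.Agent.Lib.Helper70.GenFinSch.chart_exists_dvd f hdom hfin hV
        W.2 (hSle W hW) hξW b hb0
      refine ⟨a, ha0, fun x hxW hfx => hb1 ?_⟩
      rw [← Scheme.evaluation_ne_zero_iff_mem_basicOpen Y (f x) (hSle W hW hxW)] at hfx
      rw [← Scheme.evaluation_ne_zero_iff_mem_basicOpen X x hxW]
      intro h0
      apply hfx
      have h1 := congrArg (fun φ => φ.hom a)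
        (Groth.Agent.Lib.Helper70.OmegaMonoSch.appLE_evaluation f (hSle W hW) x hxW)
      simp only [CommRingCat.hom_comp, RingHom.comp_apply] at h1
      rw [hc, map_mul, h0, zero_mul] at h1
      exact (map_eq_zero_iff _ (f.residueFieldMap x).hom.injective).mp h1.symm
    · refine ⟨1, one_ne_zero, fun x hxW _ => absurd ?_ hξW⟩
      exact ((genericPoint_spec X).mem_open_set_iff (W : X.Opens).isOpen).mpr
        ⟨x, trivial, hxW⟩
  choose! a ha0 ha using hbad
  set G : Γ(Y, V) := g * ∏ W ∈ hSfin.toFinset, a W with hG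
  have hG0 : G ≠ 0 := mul_ne_zero hg0 (Finset.prod_ne_zero_iff.mpr fun W hW =>
    ha0 W (hSfin.mem_toFinset.mp hW))
  refine ⟨Y.basicOpen G, ?_, ?_⟩
  · have : Y.basicOpen G ≠ ⊥ := fun h => hG0 ((basicOpen_eq_bot_iff G).mp h)
    obtain ⟨y, hy⟩ := (TopologicalSpace.Opens.ne_bot_iff_nonempty _).mp this
    exact ⟨⟨y, hy⟩⟩
  intro y hy
  have hyV : y ∈ V := Y.basicOpen_le G hy
  have hρG : (Y.evaluation V y hyV).hom G ≠ 0 :=
    (Scheme.evaluation_ne_zero_iff_mem_basicOpen Y y hyV G).mpr hy
  rw [hG, map_mul, map_prod] at hρG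
  have hρg : (Y.evaluation V y hyV).hom g ≠ 0 := left_ne_zero_of_mul hρG
  have hρa : ∀ W ∈ S, (Y.evaluation V y hyV).hom (a W) ≠ 0 := fun W hW =>
    Finset.prod_ne_zero_iff.mp (right_ne_zero_of_mul hρG) W (hSfin.mem_toFinset.mpr hW)
  have hfib : ∀ x : X, f x = y → x ∈ (W₁ : X.Opens) := by
    intro x hx
    obtain ⟨W, hWS, hxW⟩ := hSmem x (hx ▸ hyV)
    refine ha W hWS x hxW ?_
    rw [hx]
    exact (Scheme.evaluation_ne_zero_iff_mem_basicOpen Y y hyV (a W)).mp (hρa W hWS)
  obtain ⟨haff, ⟨eqv⟩⟩ := Groth.Agent.Lib.Helper70.GenFinFib.fibre_affine_equiv f y hV hyV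
    W₁.2 e₁ hfib
  obtain ⟨hfin1, hrk⟩ := hg (Y.residueField y) (Y.evaluation V y hyV).hom hρg
  letI a1 : Algebra Γ(Y, V) Γ(X, W₁) := (f.appLE V W₁ e₁).hom.toAlgebra
  letI a2 : Algebra Γ(Y, V) (Y.residueField y) := (Y.evaluation V y hyV).hom.toAlgebra
  letI a3 : Algebra (Y.residueField y) Γ(pullback f (Y.fromSpecResidueField y), ⊤) :=
    ((Scheme.ΓSpecIso (CommRingCat.of (Y.residueField y))).inv ≫
        (pullback.snd f (Y.fromSpecResidueField y)).appTop).hom.toAlgebra
  haveI hfin2 : Module.Finite (Y.residueField y) Γ(pullback f (Y.fromSpecResidueField y), ⊤) :=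
    Module.Finite.equiv eqv
  refine ⟨?_, ?_⟩
  · refine (HasAffineProperty.iff_of_isAffine (P := @IsFinite)).mpr ⟨haff, ?_⟩
    have h1 : ((Scheme.ΓSpecIso (CommRingCat.of (Y.residueField y))).inv ≫
        (pullback.snd f (Y.fromSpecResidueField y)).appTop).hom.Finite := hfin2
    have h2 : (pullback.snd f (Y.fromSpecResidueField y)).appTop =
        (Scheme.ΓSpecIso (CommRingCat.of (Y.residueField y))).hom ≫
          ((Scheme.ΓSpecIso (CommRingCat.of (Y.residueField y))).inv ≫
            (pullback.snd f (Y.fromSpecResidueField y)).appTop) := by simp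
    rw [h2, CommRingCat.hom_comp]
    refine RingHom.Finite.comp h1 (RingHom.Finite.of_surjective _ ?_)
    exact (ConcreteCategory.bijective_of_isIso
      (Scheme.ΓSpecIso (CommRingCat.of (Y.residueField y))).hom).2
  · rw [← eqv.finrank_eq]
    exact hrk

end Groth.Agent.S14041
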