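import Groth.Statements.S14042
import Mathlib
import Groth.Agent.S1449
import Groth.Agent.S14041
import Groth.Agent.Lib.Helper22.AbVarIsogeny2
-- import your own Groth.Agent.* helpers here

set_option autoImplicit false
universe u
open CategoryTheory CategoryTheory.Limits AlgebraicGeometry
open W4c1frobunstiva

namespace Groth.Agent.S14042
open CategoryTheory CategoryTheory.Limits AlgebraicGeometry
open Groth.Agent.Lib.Helper73
open Groth.Agent.Lib.Helper22
open Groth.Agent.Lib.Helper22.AbVarIsogeny

theorem isUniversallyCatenary_of_regular (R : Type u) [CommRing R] [IsRegularLocalRing R] :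
    CAlg.IsUniversallyCatenary R := by
  haveI : LocCoh.IsCohenMacaulayLocalRing R :=
    Groth.Agent.Lib.Helper77.RegularCM.isCohenMacaulayLocalRing _
  haveI : LocCoh.IsCohenMacaulayRing R :=
    { isCohenMacaulayLocalRing_localization := fun p _ =>
        Groth.Agent.Lib.Helper11.CMLocalize.localization_CM _ p }
  exact Groth.Agent.S0603.result _

/-- miracle flatness for regular schemes -/
theorem flat_of_locallyQuasiFinite_of_regular {X Y : Scheme.{u}} [IsLocallyNoetherian Y]
    [IrreducibleSpace X] (f : X ⟶ Y) [LocallyOfFiniteType f] [LocallyQuasiFinite f]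
    (hX : ∀ x : X, IsRegularLocalRing (X.presheaf.stalk x))
    (hY : ∀ y : Y, IsRegularLocalRing (Y.presheaf.stalk y))
    (hgen : ∀ y : Y, f (genericPoint X) ⤳ y) : Flat f := by
  have hres : ∀ x : X, resTrdeg f x = 0 := by
    intro x
    have h1 := (quasiFiniteAt_iff_fibreDimAt_le_zero f x).mp (f.quasiFiniteAt x)
    have h2 := (resTrdegNat_le_fibreDimAt f x).trans h1
    have h3 : resTrdegNat f x ≤ 0 := by exact_mod_cast h2
    rw [resTrdeg_eq_resTrdegNat]
    have : resTrdegNat f x = 0 := by omega
    rw [this]; rfl
  apply Flat.of_stalkMap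
  intro x
  obtain ⟨a, b, ha, hb, hab⟩ := stalk_dim_add_trdeg_eq f
    (fun y => by haveI := hY y; exact isUniversallyCatenary_of_regular _) hgen x
  rw [hres, hres, add_zero, add_zero] at hab
  have hab' : a = b := by exact_mod_cast hab
  haveI := hY (f x)
  haveI := hX x
  haveI : LocCoh.IsCohenMacaulayLocalRing (X.presheaf.stalk x) :=
    Groth.Agent.Lib.Helper77.RegularCM.isCohenMacaulayLocalRing _
  have hqf : (f.stalkMap x).hom.QuasiFinite := f.quasiFiniteAt x
  algebraize [(f.stalkMap x).hom]
  haveI : IsLocalHom (algebraMap (Y.presheaf.stalk (f x)) (X.presheaf.stalk x)) := by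
    rw [RingHom.algebraMap_toAlgebra]; infer_instance
  exact flat_of_quasiFinite_of_ringKrullDim_eq (by rw [ha, hb, hab'])


theorem rank_eq_of_iso {Z Z' : Scheme.{u}} (j : Z' ⟶ Z) [IsIso j] (K : Type u) [Field K]
    (s : Z ⟶ Spec (CommRingCat.of K)) (s' : Z' ⟶ Spec (CommRingCat.of K)) (h : j ≫ s = s') :
    (letI := ((Scheme.ΓSpecIso (CommRingCat.of K)).inv ≫ s'.appTop).hom.toAlgebra
     Module.rank K Γ(Z', ⊤)) =
    (letI := ((Scheme.ΓSpecIso (CommRingCat.of K)).inv ≫ s.appTop).hom.toAlgebra
     Module.rank K Γ(Z, ⊤)) := by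
  subst h
  letI a := ((Scheme.ΓSpecIso (CommRingCat.of K)).inv ≫ s.appTop).hom.toAlgebra
  letI a' := ((Scheme.ΓSpecIso (CommRingCat.of K)).inv ≫ (j ≫ s).appTop).hom.toAlgebra
  haveI : IsIso j.appTop := by
    show IsIso (Scheme.Γ.map j.op)
    infer_instance
  let e : Γ(Z, ⊤) ≃+* Γ(Z', ⊤) := (asIso j.appTop).commRingCatIsoToRingEquiv
  have hcomm : ∀ c : K, e (algebraMap K Γ(Z, ⊤) c) = algebraMap K Γ(Z', ⊤) c := by
    intro c
    simp only [RingHom.algebraMap_toAlgebra, e]
    simp [Scheme.Hom.appTop]
    rfl
  let el : Γ(Z, ⊤) ≃ₗ[K] Γ(Z', ⊤) :=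
    { e with
      map_smul' := by
        intro c x
        simp only [Algebra.smul_def, RingHom.id_apply]
        show e (_ * x) = _
        rw [map_mul, hcomm]
        rfl }
  exact el.rank_eq.symm


theorem exists_iso_pullback {X Y T : Scheme.{u}} (f : X ⟶ Y) (g : T ⟶ Y) (U : X.Opens)
    (hU : ∀ z : ↑(pullback f g), pullback.fst f g z ∈ U) :
    ∃ (j : pullback (U.ι ≫ f) g ⟶ pullback f g), IsIso j ∧
      j ≫ pullback.snd f g = pullback.snd (U.ι ≫ f) g := by
  let i := pullbackRightPullbackFstIso f g U.ι
  haveI : IsIso (pullback.snd U.ι (pullback.fst f g)) := by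
    haveI : Epi (pullback.snd U.ι (pullback.fst f g)).base := by
      rw [TopCat.epi_iff_surjective]
      intro z
      have : z ∈ Set.range (pullback.snd U.ι (pullback.fst f g)) := by
        rw [Scheme.Pullback.range_snd]
        simp only [Set.mem_preimage, Scheme.Opens.range_ι]
        exact hU z
      exact this
    exact IsOpenImmersion.isIso _
  refine ⟨i.inv ≫ pullback.snd U.ι (pullback.fst f g), inferInstance, ?_⟩
  rw [Category.assoc, pullbackRightPullbackFstIso_inv_snd_snd]


theorem mem_quasiFiniteLocus_of_isFinite {X Y : Scheme.{u}} (f : X ⟶ Y) [LocallyOfFiniteType f]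
    (x : X) (h : IsFinite (pullback.snd f (Y.fromSpecResidueField (f x)))) :
    x ∈ f.quasiFiniteLocus := by
  rw [Scheme.Hom.mem_quasiFiniteLocus, Scheme.Hom.quasiFiniteAt_iff_isOpen_singleton_asFiber]
  haveI : IsFinite (f.fiberToSpecResidueField (f x)) := h
  haveI : IsLocallyArtinian (f.fiber (f x)) :=
    IsLocallyArtinian.of_locallyQuasiFinite (f.fiberToSpecResidueField (f x))
  exact isOpen_discrete _

theorem finite_of_isFinite {Z : Scheme.{u}} (K : Type u) [Field K]
    (s : Z ⟶ Spec (CommRingCat.of K)) [IsFinite s] :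
    letI := ((Scheme.ΓSpecIso (CommRingCat.of K)).inv ≫ s.appTop).hom.toAlgebra
    Module.Finite K Γ(Z, ⊤) := by
  have h1 : (s.app ⊤).hom.Finite := s.finite_app ⊤ (isAffineOpen_top _)
  have h2 : ((Scheme.ΓSpecIso (CommRingCat.of K)).inv).hom.Finite :=
    RingHom.Finite.of_surjective _
      (ConcreteCategory.bijective_of_isIso (Scheme.ΓSpecIso (CommRingCat.of K)).inv).2
  exact RingHom.Finite.comp h1 h2

theorem subsingleton_of_isEmpty {Z : Scheme.{u}} [IsEmpty Z] : Subsingleton Γ(Z, ⊤) := by
  have : (⊤ : Z.Opens) = ⊥ := by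
    ext z; exact isEmptyElim z
  rw [this]
  infer_instance


/-- Let k be a field, X and Y integral schemes of finite type over k of the same dimension whose local
rings are all regular, and f : X → Y a dominant and separated k-morphism; let d be the degree of the
residue field of the generic point of X over that of the generic point of Y, a finite extension.
Then for every point y of Y, either the fibre X_y has positive dimension — it is not finite over
κ(y) — or its ring of global sections has dimension at most d over κ(y). (The published statement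
speaks of length; the κ(y)-rank used here is at least the length, so this form implies the printed
one. The published statement does not mention separatedness: for the affine line with doubled origin
mapping to the affine line — regular, dominant, degree 1 — the fibre over the origin is two reduced
points, of rank 2; the étale-local splitting of a quasi-finite morphism used in the published proof
needs f separated, so f is taken separated here.) -/
theorem result (k : Type u) [Field k] {X Y : Scheme.{u}}
    [X.Over (Spec (CommRingCat.of k))] [Y.Over (Spec (CommRingCat.of k))]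
    [LocallyOfFiniteType (X ↘ Spec (CommRingCat.of k))] [QuasiCompact (X ↘ Spec (CommRingCat.of k))]
    [LocallyOfFiniteType (Y ↘ Spec (CommRingCat.of k))] [QuasiCompact (Y ↘ Spec (CommRingCat.of k))]
    [IsIntegral X] [IsIntegral Y] (f : X ⟶ Y) [IsDominant f]
    (hf : f ≫ (Y ↘ Spec (CommRingCat.of k)) = X ↘ Spec (CommRingCat.of k))
    (hdim : topologicalKrullDim ↥X = topologicalKrullDim ↥Y)
    [IsSeparated f] (hX : ∀ x : X, IsRegularLocalRing (X.presheaf.stalk x))
    (hY : ∀ y : Y, IsRegularLocalRing (Y.presheaf.stalk y)) (y : Y)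
    (hy : IsFinite (pullback.snd f (Y.fromSpecResidueField y))) :
    (letI := ((Scheme.ΓSpecIso (CommRingCat.of (Y.residueField y))).inv ≫
            (pullback.snd f (Y.fromSpecResidueField y)).appTop).hom.toAlgebra;
          Module.finrank (Y.residueField y) ↑(Γ(pullback f (Y.fromSpecResidueField y), ⊤))) ≤
      (letI := (f.residueFieldMap (genericPoint ↥X)).hom.toAlgebra;
          Module.finrank (Y.residueField (f.base (genericPoint ↥X))) (X.residueField (genericPoint ↥X))) := by
  classical
  haveI : LocallyOfFiniteType f := by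
    have : LocallyOfFiniteType (f ≫ (Y ↘ Spec (CommRingCat.of k))) := by rw [hf]; infer_instance
    exact locallyOfFiniteType_of_comp f (Y ↘ Spec (CommRingCat.of k))
  haveI : IsLocallyNoetherian Y :=
    LocallyOfFiniteType.isLocallyNoetherian (Y ↘ Spec (CommRingCat.of k))
  by_cases hemp : IsEmpty ↥(pullback f (Y.fromSpecResidueField y))
  · haveI := hemp
    haveI := subsingleton_of_isEmpty (Z := pullback f (Y.fromSpecResidueField y))
    letI := ((Scheme.ΓSpecIso (CommRingCat.of (Y.residueField y))).inv ≫
      (pullback.snd f (Y.fromSpecResidueField y)).appTop).hom.toAlgebra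
    rw [Module.finrank_zero_of_subsingleton]
    exact Nat.zero_le _
  rw [not_isEmpty_iff] at hemp
  obtain ⟨z0⟩ := hemp
  set X' := f.quasiFiniteLocus with hX'
  have hfy : ∀ (y' : Y) (z : ↑(pullback f (Y.fromSpecResidueField y'))),
      f (pullback.fst f (Y.fromSpecResidueField y') z) = y' := by
    intro y' z
    have h1 : f (pullback.fst f _ z) = (Y.fromSpecResidueField y') (pullback.snd f _ z) := by
      have := congrArg (fun φ => φ.base z)
        (pullback.condition (f := f) (g := Y.fromSpecResidueField y'))
      simpa using this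
    rw [h1]; exact Scheme.fromSpecResidueField_apply y' _
  have hmem : ∀ (y' : Y), IsFinite (pullback.snd f (Y.fromSpecResidueField y')) →
      ∀ z : ↑(pullback f (Y.fromSpecResidueField y')),
        pullback.fst f (Y.fromSpecResidueField y') z ∈ X' := by
    intro y' hfin z
    apply mem_quasiFiniteLocus_of_isFinite
    rw [hfy y' z]; exact hfin
  haveI : Nonempty X' := ⟨⟨_, hmem y hy z0⟩⟩
  set f' := X'.ι ≫ f with hf'
  haveI : LocallyQuasiFinite f' := inferInstance
  haveI : LocallyOfFinitePresentation f' :=
    LocallyOfFinitePresentation.iff_locallyOfFiniteType.mpr inferInstance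
  haveI : IsSeparated f' := inferInstance
  haveI : Flat f' := by
    apply flat_of_locallyQuasiFinite_of_regular f'
    · intro x
      haveI := hX (X'.ι x)
      exact IsRegularLocalRing.of_ringEquiv (asIso (X'.ι.stalkMap x)).commRingCatIsoToRingEquiv
    · exact hY
    · intro y'
      have : f' (genericPoint X') = genericPoint Y := by
        show f (X'.ι (genericPoint X')) = _
        rw [genericPoint_eq_of_isOpenImmersion X'.ι]
        exact Groth.Agent.Lib.Helper70.OmegaMonoSch.map_genericPoint_of_denseRange f f.denseRange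
      rw [this]; exact genericPoint_specializes y'
  obtain ⟨U, hUanti, hU0, hUP⟩ := Groth.Agent.S1449.result f'
  obtain ⟨hfin, V, hVne, hV⟩ := Groth.Agent.S14041.result k f hf hdim
  have key : ∀ (y' : Y) (hfin' : IsFinite (pullback.snd f (Y.fromSpecResidueField y'))),
      (letI := ((Scheme.ΓSpecIso (CommRingCat.of (Y.residueField y'))).inv ≫
          (pullback.snd f' (Y.fromSpecResidueField y')).appTop).hom.toAlgebra
       Module.rank (Y.residueField y') Γ(pullback f' (Y.fromSpecResidueField y'), ⊤)) =
      ((letI := ((Scheme.ΓSpecIso (CommRingCat.of (Y.residueField y'))).inv ≫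
          (pullback.snd f (Y.fromSpecResidueField y')).appTop).hom.toAlgebra
       Module.finrank (Y.residueField y') Γ(pullback f (Y.fromSpecResidueField y'), ⊤) : ℕ) :
        Cardinal.{u}) := by
    intro y' hfin'
    obtain ⟨j, hj, hjs⟩ := exists_iso_pullback f (Y.fromSpecResidueField y') X' (hmem y' hfin')
    rw [rank_eq_of_iso j (Y.residueField y') _ _ hjs]
    haveI := hfin'
    letI := ((Scheme.ΓSpecIso (CommRingCat.of (Y.residueField y'))).inv ≫
          (pullback.snd f (Y.fromSpecResidueField y')).appTop).hom.toAlgebra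
    haveI := finite_of_isFinite (Y.residueField y') (pullback.snd f (Y.fromSpecResidueField y'))
    exact (Module.finrank_eq_rank _ _).symm
  have hyU : ∀ (y' : Y) (d : ℕ), y' ∈ U d ↔
      (d : Cardinal.{u}) ≤ (letI := ((Scheme.ΓSpecIso (CommRingCat.of (Y.residueField y'))).inv ≫
          (pullback.snd f' (Y.fromSpecResidueField y')).appTop).hom.toAlgebra
       Module.rank (Y.residueField y') Γ(pullback f' (Y.fromSpecResidueField y'), ⊤)) := by
    intro y' d
    rw [← hUP (Y.residueField y') (Y.fromSpecResidueField y') d, Scheme.range_fromSpecResidueField]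
    simp
  have h1 : y ∈ U (letI := ((Scheme.ΓSpecIso (CommRingCat.of (Y.residueField y))).inv ≫
          (pullback.snd f (Y.fromSpecResidueField y)).appTop).hom.toAlgebra
       Module.finrank (Y.residueField y) Γ(pullback f (Y.fromSpecResidueField y), ⊤)) := by
    rw [hyU, key y hy]
  obtain ⟨y', hy'U, hy'V⟩ : ∃ y' : Y, y' ∈ U (letI := ((Scheme.ΓSpecIso (CommRingCat.of (Y.residueField y))).inv ≫
          (pullback.snd f (Y.fromSpecResidueField y)).appTop).hom.toAlgebra
       Module.finrank (Y.residueField y) Γ(pullback f (Y.fromSpecResidueField y), ⊤)) ∧ y' ∈ V := by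
    obtain ⟨⟨v, hv⟩⟩ := hVne
    have := nonempty_preirreducible_inter (U _).isOpen V.isOpen ⟨y, h1⟩ ⟨v, hv⟩
    obtain ⟨w, hw1, hw2⟩ := this
    exact ⟨w, hw1, hw2⟩
  obtain ⟨hfin', hrank'⟩ := hV y' hy'V
  have h3 := (hyU y' _).mp hy'U
  rw [key y' hfin', hrank'] at h3
  exact_mod_cast h3


end Groth.Agent.S14042
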