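import Groth.Statements.S14043
import Mathlib.LinearAlgebra.Matrix.NonsingularInverse
import Mathlib.LinearAlgebra.Matrix.Determinant.Basic
import Mathlib.RingTheory.Nilpotent.Lemmas
import Mathlib.RingTheory.Nilpotent.Basic
import Mathlib.RingTheory.Ideal.Quotient.Operations
import Mathlib.RingTheory.Nilpotent.Defs
import Mathlib.LinearAlgebra.Finsupp.LinearCombination

set_option autoImplicit false
universe u v
open W4c1frobunstiva

namespace Groth.Agent.S14043


theorem comp_sum {R : Type u} [CommRing R] {M : Type v} [AddCommGroup M] [Module R M] {r : ℕ}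
    (A B : Matrix (Fin r) (Fin r) R) (e : Fin r → M) (i : Fin r) :
    ∑ k, A i k • ∑ j, B k j • e j = ∑ j, (A * B) i j • e j := by
  simp only [Matrix.mul_apply, Finset.smul_sum, Finset.sum_smul, mul_smul]
  rw [Finset.sum_comm]

theorem isUnit_of_sub_one_nilpotent {R : Type u} [CommRing R] {r : ℕ}
    (C : Matrix (Fin r) (Fin r) R) (hC : ∀ i j, IsNilpotent ((C - 1) i j)) : IsUnit C.det := by
  have h1 : (Ideal.Quotient.mk (nilradical R)).mapMatrix C = 1 := by
    ext i j
    have := hC i j
    rw [← mem_nilradical, ← Ideal.Quotient.eq_zero_iff_mem] at this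
    simp only [Matrix.sub_apply, map_sub] at this
    rw [sub_eq_zero] at this
    simp only [RingHom.mapMatrix_apply, Matrix.map_apply]
    rw [this]
    by_cases hij : i = j
    · subst hij; simp
    · simp [hij]
  have h2 : Ideal.Quotient.mk (nilradical R) C.det = 1 := by
    rw [RingHom.map_det, h1, Matrix.det_one]
  have h3 : IsNilpotent (C.det - 1) := by
    rw [← mem_nilradical, ← Ideal.Quotient.eq_zero_iff_mem, map_sub, h2, map_one, sub_self]
  have : C.det = 1 + (C.det - 1) := by ring
  rw [this]
  exact h3.isUnit_one_add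

theorem key {R : Type u} [CommRing R] {M : Type v} [AddCommGroup M] [Module R M] {r : ℕ}
    (e : Fin r → M) (he : Submodule.span R (Set.range e) = ⊤)
    (hrel : ∀ a : Fin r → R, (∑ i, a i • e i) = 0 → ∀ i, IsNilpotent (a i))
    (m : Fin r → M) (hm : Submodule.span R (Set.range m) = ⊤) :
    ∃ B : Matrix (Fin r) (Fin r) R, IsUnit B ∧ ∀ k, m k = ∑ j, B k j • e j := by
  have h1 : ∀ i, ∃ a : Fin r → R, e i = ∑ k, a k • m k := by
    intro i
    have : e i ∈ Submodule.span R (Set.range m) := hm ▸ Submodule.mem_top
    rw [Submodule.mem_span_range_iff_exists_fun] at this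
    obtain ⟨a, ha⟩ := this
    exact ⟨a, ha.symm⟩
  have h2 : ∀ k, ∃ b : Fin r → R, m k = ∑ j, b j • e j := by
    intro k
    have : m k ∈ Submodule.span R (Set.range e) := he ▸ Submodule.mem_top
    rw [Submodule.mem_span_range_iff_exists_fun] at this
    obtain ⟨a, ha⟩ := this
    exact ⟨a, ha.symm⟩
  choose A hA using h1
  choose B hB using h2
  refine ⟨Matrix.of B, ?_, fun k => by simpa using hB k⟩
  have h3 : ∀ i, e i = ∑ j, ((Matrix.of A) * (Matrix.of B)) i j • e j := by
    intro i
    rw [← comp_sum]
    conv_lhs => rw [hA i]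
    refine Finset.sum_congr rfl fun k _ => ?_
    rw [Matrix.of_apply]
    congr 1
    exact hB k
  have h4 : ∀ i j, IsNilpotent (((Matrix.of A) * (Matrix.of B) - 1) i j) := by
    intro i j
    refine hrel (fun j => ((Matrix.of A) * (Matrix.of B) - 1) i j) ?_ j
    simp only [Matrix.sub_apply, sub_smul, Finset.sum_sub_distrib]
    rw [← h3 i]
    simp [Matrix.one_apply, ite_smul]
  have h5 := isUnit_of_sub_one_nilpotent _ h4
  rw [Matrix.det_mul] at h5
  rw [Matrix.isUnit_iff_isUnit_det]
  exact isUnit_of_mul_isUnit_right h5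

/-- Let R be a commutative Noetherian ring, M an R-module that is NR-free of rank r — generated by some
r elements all of whose linear relations have nilpotent coefficients — and m, m' two generating
families of M, each indexed by the same finite set of size r. Then some invertible r × r matrix T
over R expresses m' in terms of m, m'_j = Σ_i T_{ji} m_i; reducing modulo the nilradical n, such a T
induces the change-of-basis matrix between the bases of M/nM given by the images of m and m' (an
r-element generating family of M is itself an NR-basis), so only the existence of an invertible T is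
asserted here. (T is not unique.) -/
theorem result (R : Type u) [CommRing R]
    [IsNoetherianRing R] (M : Type v) [AddCommGroup M] [Module R M] (r : ℕ)
    (hM : W4c1frobunstiva.IsNRFree R M r) (m m' : Fin r → M)
    (hm : Submodule.span R (Set.range m) = ⊤) (hm' : Submodule.span R (Set.range m') = ⊤) :
    ∃ T : Matrix (Fin r) (Fin r) R, IsUnit T ∧ ∀ j, m' j = ∑ i, T j i • m i := by
  obtain ⟨e, he, hrel⟩ := hM
  obtain ⟨B, hBu, hB⟩ := key e he hrel m hm
  obtain ⟨B', hBu', hB'⟩ := key e he hrel m' hm'
  have hBinv : B⁻¹ * B = 1 := Matrix.nonsing_inv_mul _ ((Matrix.isUnit_iff_isUnit_det _).1 hBu)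
  have he' : ∀ k, e k = ∑ i, B⁻¹ k i • m i := by
    intro k
    have : ∑ i, B⁻¹ k i • m i = ∑ i, B⁻¹ k i • ∑ j, B i j • e j :=
      Finset.sum_congr rfl fun i _ => by rw [hB i]
    rw [this, comp_sum, hBinv]
    simp [Matrix.one_apply, ite_smul]
  refine ⟨B' * B⁻¹, ?_, fun j => ?_⟩
  · rw [Matrix.isUnit_iff_isUnit_det, Matrix.det_mul]
    refine IsUnit.mul ((Matrix.isUnit_iff_isUnit_det _).1 hBu') ?_
    rw [← Matrix.isUnit_iff_isUnit_det]
    exact (Matrix.isUnit_nonsing_inv_iff).2 hBu
  · rw [← comp_sum, hB' j]
    exact Finset.sum_congr rfl fun k _ => by rw [he' k]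

end Groth.Agent.S14043
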