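import Groth.Statements.S14046
import Mathlib.RingTheory.Flat.Equalizer
import Mathlib.Tactic

set_option autoImplicit false
universe u v w
open W4c1frobunstiva

namespace Groth.Agent.S14046

open TensorProduct in
theorem result (R : Type u) (A : Type v)
    [CommRing R] [CommRing A] [Algebra R A] (I J : Ideal A) (hIJ : I ⊓ J = ⊥)
    [Module.Flat R (A ⧸ (I ⊔ J))] (R' : Type w) [CommRing R'] [Algebra R R'] :
    I.map (Algebra.TensorProduct.includeRight : A →ₐ[R] R' ⊗[R] A) ⊓
      J.map (Algebra.TensorProduct.includeRight : A →ₐ[R] R' ⊗[R] A) = ⊥ := by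
  let mI : A →ₗ[R] A ⧸ I := (Ideal.Quotient.mkₐ R I).toLinearMap
  let mJ : A →ₗ[R] A ⧸ J := (Ideal.Quotient.mkₐ R J).toLinearMap
  let fI : (A ⧸ I) →ₗ[R] A ⧸ (I ⊔ J) := (Ideal.Quotient.factorₐ R (le_sup_left : I ≤ I ⊔ J)).toLinearMap
  let fJ : (A ⧸ J) →ₗ[R] A ⧸ (I ⊔ J) := (Ideal.Quotient.factorₐ R (le_sup_right : J ≤ I ⊔ J)).toLinearMap
  let g : A →ₗ[R] (A ⧸ I) × (A ⧸ J) :=
    (LinearMap.inl R (A ⧸ I) (A ⧸ J)).comp mI + (LinearMap.inr R (A ⧸ I) (A ⧸ J)).comp mJ
  let f : (A ⧸ I) × (A ⧸ J) →ₗ[R] A ⧸ (I ⊔ J) :=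
    fI.comp (LinearMap.fst R _ _) - fJ.comp (LinearMap.snd R _ _)
  have hg_apply : ∀ a, g a = (Ideal.Quotient.mk I a, Ideal.Quotient.mk J a) := by
    intro a
    simp [g, mI, mJ]
  have hf_apply : ∀ x y, f (x, y) = Ideal.Quotient.factor (le_sup_left : I ≤ I ⊔ J) x -
      Ideal.Quotient.factor (le_sup_right : J ≤ I ⊔ J) y := by
    intro x y
    simp [f, fI, fJ]
  have hf : Function.Surjective f := by
    intro z
    obtain ⟨a, rfl⟩ := Ideal.Quotient.mk_surjective z
    refine ⟨(Ideal.Quotient.mk I a, 0), ?_⟩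
    rw [hf_apply]
    simp
  have hg : Function.Injective g := by
    rw [injective_iff_map_eq_zero]
    intro a ha
    rw [hg_apply, Prod.mk_eq_zero, Ideal.Quotient.eq_zero_iff_mem, Ideal.Quotient.eq_zero_iff_mem] at ha
    have : a ∈ I ⊓ J := ⟨ha.1, ha.2⟩
    rw [hIJ] at this
    exact this
  have H : Function.Exact g f := by
    intro p
    constructor
    · obtain ⟨x, y⟩ := p
      obtain ⟨a, rfl⟩ := Ideal.Quotient.mk_surjective x
      obtain ⟨b, rfl⟩ := Ideal.Quotient.mk_surjective y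
      intro h
      rw [hf_apply, Ideal.Quotient.factor_mk, Ideal.Quotient.factor_mk, ← map_sub,
        Ideal.Quotient.eq_zero_iff_mem, Submodule.mem_sup] at h
      obtain ⟨i, hi, j, hj, hij⟩ := h
      refine ⟨a - i, ?_⟩
      rw [hg_apply, Prod.mk.injEq]
      constructor
      · rw [Ideal.Quotient.eq]
        simpa using I.neg_mem hi
      · rw [Ideal.Quotient.eq]
        have : a - i - b = j := by linear_combination -hij
        rw [this]
        exact hj
    · rintro ⟨a, rfl⟩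
      rw [hg_apply, hf_apply, Ideal.Quotient.factor_mk, Ideal.Quotient.factor_mk, sub_self]
  have hinj := LinearMap.lTensor_injective_of_exact_of_flat f hf g hg H R'
  have hkI : I.map (Algebra.TensorProduct.includeRight : A →ₐ[R] R' ⊗[R] A) =
      RingHom.ker (Algebra.TensorProduct.map (AlgHom.id R R') (Ideal.Quotient.mkₐ R I)) := by
    rw [Algebra.TensorProduct.lTensor_ker _ (Ideal.Quotient.mkₐ_surjective R I)]
    congr 1
    ext x
    simp [RingHom.mem_ker, Ideal.Quotient.eq_zero_iff_mem]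
  have hkJ : J.map (Algebra.TensorProduct.includeRight : A →ₐ[R] R' ⊗[R] A) =
      RingHom.ker (Algebra.TensorProduct.map (AlgHom.id R R') (Ideal.Quotient.mkₐ R J)) := by
    rw [Algebra.TensorProduct.lTensor_ker _ (Ideal.Quotient.mkₐ_surjective R J)]
    congr 1
    ext x
    simp [RingHom.mem_ker, Ideal.Quotient.eq_zero_iff_mem]
  rw [eq_bot_iff]
  intro z hz
  rw [Ideal.mem_inf, hkI, hkJ, RingHom.mem_ker, RingHom.mem_ker] at hz
  have h1 : mI.lTensor R' z = 0 := hz.1
  have h2 : mJ.lTensor R' z = 0 := hz.2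
  have h3 : g.lTensor R' z = 0 := by
    simp only [g, LinearMap.lTensor_add, LinearMap.lTensor_comp, LinearMap.add_apply,
      LinearMap.comp_apply, h1, h2, map_zero, add_zero]
  have : z = 0 := hinj (by rw [h3, map_zero])
  rw [this]
  exact Submodule.zero_mem _

end Groth.Agent.S14046
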