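import Groth.Statements.S14048
import Mathlib.RingTheory.Localization.BaseChange
import Mathlib.RingTheory.Localization.FractionRing
import Mathlib.RingTheory.Finiteness.Basic
import Mathlib.Algebra.Polynomial.Div
import Mathlib.Data.Nat.Prime.Infinite
import Mathlib.Tactic

set_option autoImplicit false
universe u
open TensorProduct
open CAlg

namespace Groth.Agent.S14048

open Polynomial

variable {A : Type u} [CommRing A]

theorem tmul_one_eq_zero_iff (a : A) :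
    ((1 : ℚ) ⊗ₜ[ℤ] a : ℚ ⊗[ℤ] A) = 0 ↔ ∃ n : ℤ, n ≠ 0 ∧ n • a = 0 := by
  have := IsLocalizedModule.eq_zero_iff (nonZeroDivisors ℤ) (TensorProduct.mk ℤ ℚ A 1) (m := a)
  rw [TensorProduct.mk_apply] at this
  rw [this]
  constructor
  · rintro ⟨s, hs⟩
    exact ⟨s.1, nonZeroDivisors.ne_zero s.2, hs⟩
  · rintro ⟨n, hn, h⟩
    exact ⟨⟨n, mem_nonZeroDivisors_of_ne_zero hn⟩, h⟩

theorem exists_smul_eq_tmul (y : ℚ ⊗[ℤ] A) : ∃ (n : ℕ) (a : A), n ≠ 0 ∧ n • y = (1 : ℚ) ⊗ₜ[ℤ] a := by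
  obtain ⟨⟨a, s⟩, h⟩ := IsLocalizedModule.surj (nonZeroDivisors ℤ) (TensorProduct.mk ℤ ℚ A 1) y
  have hs : (s : ℤ) ≠ 0 := nonZeroDivisors.ne_zero s.2
  have h' : (s : ℤ) • y = (1 : ℚ) ⊗ₜ[ℤ] a := h
  rcases Int.natAbs_eq (s : ℤ) with h1 | h1
  · refine ⟨(s : ℤ).natAbs, a, by simpa using hs, ?_⟩
    rw [← h', h1]
    simp
  · refine ⟨(s : ℤ).natAbs, -a, by simpa using hs, ?_⟩
    rw [TensorProduct.tmul_neg, ← h']
    conv_rhs => rw [h1]
    simp

variable (t : A) (h1 : Function.Bijective (Polynomial.aeval (R := ℚ) ((1 : ℚ) ⊗ₜ[ℤ] t : ℚ ⊗[ℤ] A)))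

noncomputable def e : ℚ[X] ≃ₐ[ℚ] ℚ ⊗[ℤ] A := AlgEquiv.ofBijective _ h1

noncomputable def φ : A →+* ℚ[X] :=
  ((e t h1).symm : (ℚ ⊗[ℤ] A) →+* ℚ[X]).comp
    (Algebra.TensorProduct.includeRight : A →ₐ[ℤ] ℚ ⊗[ℤ] A).toRingHom

theorem φ_apply (a : A) : φ t h1 a = (e t h1).symm ((1 : ℚ) ⊗ₜ[ℤ] a) := rfl

theorem e_X : e t h1 X = (1 : ℚ) ⊗ₜ[ℤ] t := by
  simp [e]

theorem φ_t : φ t h1 t = X := by
  rw [φ_apply, ← e_X t h1, AlgEquiv.symm_apply_apply]

theorem φ_inj [IsDomain A] : Function.Injective (φ t h1) := by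
  rw [injective_iff_map_eq_zero]
  intro a ha
  rw [φ_apply, map_eq_zero_iff _ (e t h1).symm.injective, tmul_one_eq_zero_iff] at ha
  obtain ⟨n, hn, hna⟩ := ha
  rw [zsmul_eq_mul, mul_eq_zero] at hna
  rcases hna with hna | hna
  · exfalso
    have h1' : ((1 : ℚ) ⊗ₜ[ℤ] (1 : A) : ℚ ⊗[ℤ] A) = 0 := by
      rw [tmul_one_eq_zero_iff]
      exact ⟨n, hn, by rw [zsmul_eq_mul, mul_one, hna]⟩
    have h2 : (1 : ℚ ⊗[ℤ] A) = 0 := h1'
    have h3 : (e t h1).symm 1 = (e t h1).symm 0 := by rw [h2]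
    rw [map_one, map_zero] at h3
    exact one_ne_zero h3
  · exact hna

theorem φ_surj (f : ℚ[X]) : ∃ (n : ℕ) (a : A), n ≠ 0 ∧ φ t h1 a = (n : ℚ[X]) * f := by
  obtain ⟨n, a, hn, h⟩ := exists_smul_eq_tmul (e t h1 f)
  refine ⟨n, a, hn, ?_⟩
  rw [φ_apply, ← h, map_nsmul, AlgEquiv.symm_apply_apply, nsmul_eq_mul]

include h1 in
theorem hom_ext (u v : A →+* ℚ) (huv : u t = v t) : u = v := by
  let U : ℚ ⊗[ℤ] A →ₐ[ℚ] ℚ := Algebra.TensorProduct.lift (AlgHom.id ℚ ℚ) u.toIntAlgHom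
    (fun _ _ => Commute.all _ _)
  let V : ℚ ⊗[ℤ] A →ₐ[ℚ] ℚ := Algebra.TensorProduct.lift (AlgHom.id ℚ ℚ) v.toIntAlgHom
    (fun _ _ => Commute.all _ _)
  have hUV : U.comp (e t h1 : ℚ[X] →ₐ[ℚ] ℚ ⊗[ℤ] A) = V.comp (e t h1 : ℚ[X] →ₐ[ℚ] ℚ ⊗[ℤ] A) := by
    apply Polynomial.algHom_ext
    have hX : (e t h1 : ℚ[X] →ₐ[ℚ] ℚ ⊗[ℤ] A) X = (1 : ℚ) ⊗ₜ[ℤ] t := e_X t h1
    rw [AlgHom.comp_apply, AlgHom.comp_apply, hX]
    simp [U, V, huv]
  ext a
  have hU : u a = U ((1 : ℚ) ⊗ₜ[ℤ] a) := by simp [U]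
  have hV : v a = V ((1 : ℚ) ⊗ₜ[ℤ] a) := by simp [V]
  rw [hU, hV]
  obtain ⟨f, hf⟩ := (e t h1).surjective ((1 : ℚ) ⊗ₜ[ℤ] a)
  rw [← hf]
  exact congrArg (fun w => w f) hUV


variable (s : A →+* Localization.Away (2 : ℤ)) (hs : s t = 1)

noncomputable def ι : Localization.Away (2 : ℤ) →+* ℚ :=
  IsLocalization.Away.lift (2 : ℤ) (g := Int.castRingHom ℚ) (by simp)

include hs in
theorem eval_eq (a : A) : (φ t h1 a).eval 1 = ι (s a) := by
  have := hom_ext t h1 ((Polynomial.evalRingHom (1 : ℚ)).comp (φ t h1)) (ι.comp s)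
    (by simp [φ_t, hs])
  exact congrArg (fun w => w a) this

include h1 hs in
theorem ker_s [IsDomain A] (x : A) (hx : s x = 0) :
    ∃ (n : ℕ) (y : A), n ≠ 0 ∧ (n : A) * x = (t - 1) * y := by
  have h0 : (φ t h1 x).eval 1 = 0 := by rw [eval_eq t h1 s hs, hx, map_zero]
  have hdvd : (X - C (1 : ℚ)) ∣ φ t h1 x := Polynomial.dvd_iff_isRoot.mpr h0
  obtain ⟨g, hg⟩ := hdvd
  obtain ⟨n, y, hn, hy⟩ := φ_surj t h1 g
  refine ⟨n, y, hn, ?_⟩
  apply φ_inj t h1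
  rw [map_mul, map_mul, map_sub, map_natCast, map_one, φ_t, hy, hg]
  simp only [map_one]
  ring

include h1 hs in
theorem uniform_N [IsDomain A] [IsNoetherianRing A] :
    ∃ N : ℕ, N ≠ 0 ∧ ∀ x, s x = 0 → ∃ y, (N : A) * x = (t - 1) * y := by
  have hfg : (RingHom.ker s).FG := IsNoetherian.noetherian _
  have key : ∀ (M : Ideal A), M.FG → M ≤ RingHom.ker s →
      ∃ N : ℕ, N ≠ 0 ∧ ∀ x ∈ M, ∃ y, (N : A) * x = (t - 1) * y := by
    intro M hM
    refine Submodule.fg_induction (motive := fun M _ => M ≤ RingHom.ker s →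
      ∃ N : ℕ, N ≠ 0 ∧ ∀ x ∈ M, ∃ y, (N : A) * x = (t - 1) * y) ?_ ?_ M hM
    · intro x hx
      have hx' : s x = 0 := hx (Submodule.mem_span_singleton_self x)
      obtain ⟨n, y, hn, hy⟩ := ker_s t h1 s hs x hx'
      refine ⟨n, hn, ?_⟩
      intro z hz
      obtain ⟨a, rfl⟩ := Submodule.mem_span_singleton.mp hz
      refine ⟨a * y, ?_⟩
      rw [smul_eq_mul]
      linear_combination a * hy
    · intro M₁ M₂ _ _ h₁ h₂ hle
      obtain ⟨N₁, hN₁, H₁⟩ := h₁ (le_trans le_sup_left hle)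
      obtain ⟨N₂, hN₂, H₂⟩ := h₂ (le_trans le_sup_right hle)
      refine ⟨N₁ * N₂, Nat.mul_ne_zero hN₁ hN₂, ?_⟩
      intro x hx
      obtain ⟨x₁, hx₁, x₂, hx₂, rfl⟩ := Submodule.mem_sup.mp hx
      obtain ⟨y₁, hy₁⟩ := H₁ x₁ hx₁
      obtain ⟨y₂, hy₂⟩ := H₂ x₂ hx₂
      refine ⟨N₂ * y₁ + N₁ * y₂, ?_⟩
      push_cast
      linear_combination (N₂ : A) * hy₁ + (N₁ : A) * hy₂
  obtain ⟨N, hN, H⟩ := key _ hfg le_rfl
  exact ⟨N, hN, fun x hx => H x hx⟩

include h1 in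
theorem integrality [IsDomain A] (N : ℕ) (hN : ∀ x, s x = 0 → ∃ y, (N : A) * x = (t - 1) * y)
    (p : ℕ) (hp : p.Prime) (hpN : ¬ p ∣ N) (hp2 : p ≠ 2) :
    ∀ d : ℕ, ∀ a : A, (φ t h1 a).natDegree < d →
      ∃ c : ℕ, ¬ p ∣ c ∧ ∃ g : ℤ[X], (c : ℚ[X]) * φ t h1 a = g.map (Int.castRingHom ℚ) := by
  intro d
  induction d with
  | zero => intro a ha; omega
  | succ d ih =>
    intro a ha
    obtain ⟨k, m, hkm⟩ := IsLocalization.Away.surj (2 : ℤ) (s a)
    have hx : s (a * 2 ^ k - (m : A)) = 0 := by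
      rw [map_sub, map_mul, map_pow, map_ofNat, map_intCast]
      rw [eq_intCast, eq_intCast] at hkm
      rw [← hkm]
      simp
    obtain ⟨y, hy⟩ := hN _ hx
    have hy' : (N : ℚ[X]) * (φ t h1 a * 2 ^ k - (m : ℚ[X])) = (X - 1) * φ t h1 y := by
      have := congrArg (φ t h1) hy
      simpa [φ_t, map_ofNat] using this
    have h2k : ¬ p ∣ 2 ^ k := by
      intro h
      have := hp.dvd_of_dvd_pow h
      exact hp2 ((Nat.prime_dvd_prime_iff_eq hp Nat.prime_two).mp this)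
    have hN2k : ¬ p ∣ N * 2 ^ k := by
      intro h
      rcases hp.dvd_mul.mp h with h | h
      · exact hpN h
      · exact h2k h
    by_cases hy0 : φ t h1 y = 0
    · refine ⟨N * 2 ^ k, hN2k, (N : ℤ[X]) * (m : ℤ[X]), ?_⟩
      rw [hy0, mul_zero] at hy'
      simp only [Polynomial.map_mul, Polynomial.map_natCast, Polynomial.map_intCast]
      push_cast
      linear_combination hy'
    · have hdeg : (φ t h1 y).natDegree < d := by
        have e1 : ((X - 1) * φ t h1 y).natDegree = 1 + (φ t h1 y).natDegree := by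
          have hX1 : (X - 1 : ℚ[X]) = X - C 1 := by simp
          rw [hX1, natDegree_mul (X_sub_C_ne_zero 1) hy0, natDegree_X_sub_C]
        have e2 : ((N : ℚ[X]) * (φ t h1 a * 2 ^ k - (m : ℚ[X]))).natDegree ≤
            (φ t h1 a).natDegree := by
          have r1 : ((N : ℚ[X]) * (φ t h1 a * 2 ^ k - (m : ℚ[X]))) =
              C (N : ℚ) * (φ t h1 a * C ((2 : ℚ) ^ k) - C (m : ℚ)) := by
            simp [Polynomial.C_ofNat]
          rw [r1]
          refine le_trans (natDegree_C_mul_le _ _) ?_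
          refine le_trans (natDegree_sub_le _ _) ?_
          rw [natDegree_C]
          simp only [zero_le, sup_of_le_left]
          exact natDegree_mul_C_le _ _
        rw [hy'] at e2
        omega
      obtain ⟨c', hc', g', hg'⟩ := ih y hdeg
      refine ⟨c' * (N * 2 ^ k), ?_, (c' : ℤ[X]) * (N : ℤ[X]) * (m : ℤ[X]) + (X - 1) * g', ?_⟩
      · intro h
        rcases hp.dvd_mul.mp h with h | h
        · exact hc' h
        · exact hN2k h
      · simp only [Polynomial.map_add, Polynomial.map_mul, Polynomial.map_natCast,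
          Polynomial.map_intCast, Polynomial.map_sub, Polynomial.map_X, Polynomial.map_one]
        rw [← hg']
        push_cast
        linear_combination (c' : ℚ[X]) * hy'


/-- Let A be an integral domain in which 2 is invertible and let t be an element of A, so that Spec A is
a scheme over the affine line Spec ℤ[1/2][t]. Assume that (1) the ℚ-algebra map ℚ[X] → ℚ ⊗_ℤ A
sending X to 1 ⊗ t is bijective (the map Spec A → Spec ℤ[1/2][t] becomes an isomorphism after base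
change to ℚ); (2) every prime number is invertible in A/(t) (the fibre over t = 0 is of pure
characteristic zero); and (3) there is a ring homomorphism s : A → ℤ[1/2] with s(t) = 1 (the fibre
over t = 1 admits a section). Then A is not Noetherian. -/
theorem result (A : Type u) [CommRing A]
    [IsDomain A] (h2 : IsUnit (2 : A)) (t : A)
    (h1 : Function.Bijective (Polynomial.aeval (R := ℚ) ((1 : ℚ) ⊗ₜ[ℤ] t : ℚ ⊗[ℤ] A)))
    (h0 : ∀ p : ℕ, p.Prime → IsUnit ((p : ℕ) : A ⧸ Ideal.span ({t} : Set A)))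
    (s : A →+* Localization.Away (2 : ℤ)) (hs : s t = 1) :
    ¬ IsNoetherianRing A := by
  intro hnoeth
  obtain ⟨N, hN0, hN⟩ := uniform_N t h1 s hs
  obtain ⟨p, hpge, hp⟩ := Nat.exists_infinite_primes (N + 3)
  have hpN : ¬ p ∣ N := by
    intro h
    have := Nat.le_of_dvd (Nat.pos_of_ne_zero hN0) h
    omega
  have hp2 : p ≠ 2 := by omega
  obtain ⟨u, hu⟩ := (h0 p hp).exists_right_inv
  obtain ⟨a₀, rfl⟩ := Ideal.Quotient.mk_surjective u
  have hmem : (p : A) * a₀ - 1 ∈ Ideal.span ({t} : Set A) := by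
    rw [← Ideal.Quotient.eq_zero_iff_mem, map_sub, map_mul, map_natCast, map_one, hu, sub_self]
  obtain ⟨b₀, hb₀⟩ := Ideal.mem_span_singleton'.mp hmem
  obtain ⟨c, hc, g, hg⟩ := integrality t h1 s N hN p hp hpN hp2 _ a₀ (Nat.lt_succ_self _)
  have hφ : φ t h1 b₀ * X = (p : ℚ[X]) * φ t h1 a₀ - 1 := by
    have := congrArg (φ t h1) hb₀
    simpa [φ_t] using this
  have h3 : ((c : ℚ[X]) * φ t h1 b₀) * X = (p : ℚ[X]) * g.map (Int.castRingHom ℚ) - (c : ℚ[X]) := by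
    rw [← hg]
    linear_combination (c : ℚ[X]) * hφ
  have h4 := congrArg (fun f => Polynomial.coeff f 0) h3
  simp only [Polynomial.coeff_mul_X_zero, Polynomial.coeff_sub, Polynomial.coeff_natCast_mul,
    Polynomial.coeff_map, eq_intCast, Polynomial.coeff_natCast_ite, if_true, Nat.cast_ite] at h4
  have h5 : (c : ℤ) = (p : ℤ) * g.coeff 0 := by
    have : ((c : ℤ) : ℚ) = (((p : ℤ) * g.coeff 0 : ℤ) : ℚ) := by
      push_cast
      linarith
    exact_mod_cast this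
  apply hc
  have : (p : ℤ) ∣ (c : ℤ) := ⟨_, h5⟩
  exact_mod_cast this


end Groth.Agent.S14048
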