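import Groth.Statements.S14049
import Mathlib
import Groth.Agent.Lib.Helper6.ThickIsAffine

set_option autoImplicit false
universe u
open CategoryTheory AlgebraicGeometry
open LocStr

namespace Groth.Agent.S14049

section helpers

theorem surj_of_nilpotent {A B C : Type*} [CommRing A] [CommRing B] [CommRing C]
    (φ : B →+* A) (ψ : A →+* C) (J : Ideal A) (n : ℕ) (hJ : J ^ n = ⊥)
    (hker : RingHom.ker ψ = J ^ 2) (hsurj : Function.Surjective (ψ.comp φ)) :
    Function.Surjective φ := by
  have Q2 : ∀ a, ∃ b, a - φ b ∈ J ^ 2 := by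
    intro a
    obtain ⟨b, hb⟩ := hsurj (ψ a)
    refine ⟨b, ?_⟩
    rw [← hker, RingHom.mem_ker, map_sub, ← hb]
    simp
  have Q : ∀ k, 2 ≤ k → ∀ a, ∃ b, a - φ b ∈ J ^ k := by
    intro k hk
    induction k, hk using Nat.le_induction with
    | base => exact Q2
    | succ k hk ih =>
      intro a
      obtain ⟨b, hb⟩ := ih a
      have key : ∃ b', (a - φ b) - φ b' ∈ J ^ (k + 1) := by
        have he : a - φ b ∈ J * J ^ (k - 1) := by
          rwa [← pow_succ', Nat.sub_add_cancel (by omega)]
        refine Submodule.mul_induction_on he ?_ ?_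
        · intro x hx y hy
          obtain ⟨b₁, h₁⟩ := Q2 x
          obtain ⟨b₂, h₂⟩ := ih y
          refine ⟨b₁ * b₂, ?_⟩
          have e1 : x * y - φ (b₁ * b₂) = (x - φ b₁) * y + φ b₁ * (y - φ b₂) := by
            rw [map_mul]; ring
          rw [e1]
          refine Ideal.add_mem _ ?_ ?_
          · have := Ideal.mul_mem_mul h₁ hy
            rwa [← pow_add, show 2 + (k - 1) = k + 1 by omega] at this
          · have hφ : φ b₁ ∈ J := by
              have : φ b₁ = x - (x - φ b₁) := by ring
              rw [this]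
              exact Ideal.sub_mem _ hx (Ideal.pow_le_self two_ne_zero h₁)
            have := Ideal.mul_mem_mul hφ h₂
            rwa [← pow_succ'] at this
        · rintro x y ⟨b₁, h₁⟩ ⟨b₂, h₂⟩
          refine ⟨b₁ + b₂, ?_⟩
          have : x + y - φ (b₁ + b₂) = (x - φ b₁) + (y - φ b₂) := by rw [map_add]; ring
          rw [this]
          exact Ideal.add_mem _ h₁ h₂
      obtain ⟨b', hb'⟩ := key
      refine ⟨b + b', ?_⟩
      have : a - φ (b + b') = a - φ b - φ b' := by rw [map_add]; ring
      rw [this]
      exact hb'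
  intro a
  obtain ⟨b, hb⟩ := Q (max n 2) (le_max_right _ _) a
  have h0 : J ^ (max n 2) = ⊥ := by
    rw [eq_bot_iff, ← hJ]
    exact Ideal.pow_le_pow_right (le_max_left _ _)
  rw [h0, Ideal.mem_bot, sub_eq_zero] at hb
  exact ⟨b, hb.symm⟩



end helpers

/-- For schemes. Let f : X → Y be a morphism of schemes and let I be a quasi-coherent sheaf of ideals on
X which is nilpotent (some power of I is zero). Let X₁ ⊆ X be the closed subscheme defined by I².
Then f is a closed immersion as soon as the composite X₁ → X → Y is one. (The published statement is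
the same assertion for a morphism of algebraic stacks; it is stated here for schemes.) -/
theorem result (X Y : Scheme.{u}) (f : X ⟶ Y)
    (I : X.IdealSheafData) (hI : IsNilpotent I)
    (h : IsClosedImmersion ((I ^ 2).subschemeι ≫ f)) :
    IsClosedImmersion f := by
  obtain ⟨n, hn⟩ := hI
  have hsupp : (I ^ 2).support = ⊤ := by
    rcases Nat.eq_zero_or_pos n with rfl | hpos
    · have h1 : (⊤ : X.IdealSheafData) = ⊥ := by
        rw [pow_zero] at hn
        exact hn
      have h2 : I ^ 2 = ⊥ := le_bot_iff.mp (h1 ▸ le_top)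
      rw [h2, Scheme.IdealSheafData.support_bot]
    · have h2 : (I ^ 2) ^ n = ⊥ := by
        rw [← pow_mul, mul_comm, pow_mul, hn, zero_pow two_ne_zero]
        rfl
      rw [← Scheme.IdealSheafData.support_pow (I ^ 2) n hpos.ne', h2,
        Scheme.IdealSheafData.support_bot]
  have hιsurj : Function.Surjective (I ^ 2).subschemeι := by
    rw [← Set.range_eq_univ, Scheme.IdealSheafData.range_subschemeι, hsupp]
    rfl
  rw [isClosedImmersion_iff_isAffineHom] at h ⊢
  obtain ⟨haff, hsur⟩ := h
  have hU : ∀ V : Y.Opens, IsAffineOpen V → IsAffineOpen (f ⁻¹ᵁ V) := fun V hV =>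
    Groth.Agent.Lib.Helper6.ThickIsAffine.isAffineOpen_of_thickening (I ^ 2).subschemeι hιsurj
      (f ⁻¹ᵁ V) (hV.preimage ((I ^ 2).subschemeι ≫ f))
  refine ⟨⟨hU⟩, fun V hV => ?_⟩
  let U : X.affineOpens := ⟨f ⁻¹ᵁ V, hU V hV⟩
  apply surj_of_nilpotent (f.app V).hom ((I ^ 2).subschemeι.app U).hom (I.ideal U) n ?_ ?_ ?_
  · have := congrArg (fun K : X.IdealSheafData => K.ideal U) hn
    simpa using this
  · rw [Scheme.IdealSheafData.ker_subschemeι_app]
    rfl
  · have := hsur V hV
    rw [Scheme.Hom.comp_app] at this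
    exact this

end Groth.Agent.S14049
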