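import Groth.Statements.S1405
import Groth.Agent.Lib.Helper55.NoethDescent
import Groth.Agent.Lib.Helper55.NoethBaseChange

set_option autoImplicit false
universe u
open FlatMor

namespace Groth.Agent.S1405

open AlgebraicGeometry CategoryTheory Limits in
lemma descent_aux {W' W A B : Scheme.{u}} {m : W' ⟶ W} {p' : W' ⟶ A} {p : W ⟶ B} {q : A ⟶ B}
    (hp : IsPullback m p' p q) [Flat q] [Surjective q] [UniversallyOpen q]
    [IsLocallyNoetherian W'] : IsLocallyNoetherian W := by
  have h1 : Flat m := MorphismProperty.of_isPullback (P := @Flat) hp.flip inferInstance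
  have h2 : Surjective m := MorphismProperty.of_isPullback (P := @Surjective) hp.flip inferInstance
  have h3 : UniversallyOpen m :=
    MorphismProperty.of_isPullback (P := @UniversallyOpen) hp.flip inferInstance
  exact Groth.Agent.Lib.Helper55.isLocallyNoetherian_of_flat_surjective_open m m.isOpenMap

open AlgebraicGeometry CategoryTheory Limits in
/-- Let Y' → Y be flat, locally of finite presentation and surjective and f' the base change of f : X →
Y. Then all fibres of f are locally Noetherian if and only if all fibres of f' are. -/
theorem result {X Y X' Y' : Scheme.{u}} (f : X ⟶ Y) (f' : X' ⟶ Y') (g' : X' ⟶ X) (g : Y' ⟶ Y) [Flat g] [LocallyOfFinitePresentation g] [Surjective g]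
    (hc : IsPullback g' f' f g) :
    (∀ y : Y, IsLocallyNoetherian (f.fiber y)) ↔ ∀ y' : Y', IsLocallyNoetherian (f'.fiber y') := by
  constructor
  · intro h y'
    have hp := isPullback_fiberToSpecResidueField_of_isPullback hc y'
    have hess : (g.residueFieldMap y').hom.EssFiniteType :=
      RingHom.EssFiniteType.residueFieldMap (LocallyOfFiniteType.stalkMap g y')
    have hn : IsLocallyNoetherian (pullback f (Y.fromSpecResidueField (g y'))) := h (g y')
    exact Groth.Agent.Lib.Helper55.isLocallyNoetherian_of_isPullback_of_essFiniteType
      (g.residueFieldMap y') hess hp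
  · intro h y
    obtain ⟨y', rfl⟩ := g.surjective y
    have hp := isPullback_fiberToSpecResidueField_of_isPullback hc y'
    have := h y'
    have hn : IsLocallyNoetherian (pullback f' (Y'.fromSpecResidueField y')) := h y'
    have hsurj : Surjective (Spec.map (g.residueFieldMap y')) := by
      refine ⟨fun x => ⟨IsLocalRing.closedPoint _, Subsingleton.elim (α := PrimeSpectrum _) _ _⟩⟩
    exact descent_aux hp

end Groth.Agent.S1405
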