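import Groth.Statements.S14051

set_option autoImplicit false
universe u
open CAlg

namespace Groth.Agent.S14051

theorem mul_of_gen {R : Type u} [CommRing R] {A : Type u} [CommRing A] [Algebra R A]
    (𝒜 : ℕ → Submodule R A) [GradedAlgebra 𝒜]
    (hA : ∀ n : ℕ, 𝒜 (n + 1) = 𝒜 1 * 𝒜 n) (a b : ℕ) : 𝒜 (a + b) = 𝒜 a * 𝒜 b := by
  induction a with
  | zero =>
    rw [zero_add]
    apply le_antisymm
    · intro x hx
      have h1 : (1 : A) ∈ 𝒜 0 := SetLike.GradedOne.one_mem
      have := Submodule.mul_mem_mul h1 hx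
      rwa [one_mul] at this
    · rw [Submodule.mul_le]
      intro x hx y hy
      have := SetLike.GradedMul.mul_mem hx hy
      rwa [zero_add] at this
  | succ a ih =>
    rw [show a + 1 + b = (a + b) + 1 by ring, hA, ih, hA a, mul_assoc]

theorem indep_eq_of_le_of_iSup_eq_top {ι : Type*} {L : Type*} [CompleteLattice L] [IsModularLattice L]
    (T N : ι → L) (hN : iSupIndep N) (hle : ∀ i, T i ≤ N i) (htop : ⨆ i, T i = ⊤) (j : ι) :
    T j = N j := by
  apply le_antisymm (hle j)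
  have h1 : (⨆ i, T i) = T j ⊔ ⨆ (i) (_ : i ≠ j), T i := iSup_split_single T j
  have h2 : (T j ⊔ ⨆ (i) (_ : i ≠ j), T i) ⊓ N j = T j ⊔ (⨆ (i) (_ : i ≠ j), T i) ⊓ N j :=
    sup_inf_assoc_of_le _ (hle j)
  have h3 : (⨆ (i) (_ : i ≠ j), T i) ⊓ N j ≤ ⊥ := by
    have := hN j
    rw [disjoint_iff_inf_le] at this
    refine le_trans ?_ this
    rw [inf_comm]
    apply inf_le_inf_left
    exact iSup₂_mono fun i _ => hle i
  calc N j = ⊤ ⊓ N j := by simp
    _ = (T j ⊔ ⨆ (i) (_ : i ≠ j), T i) ⊓ N j := by rw [← h1, htop]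
    _ = T j ⊔ (⨆ (i) (_ : i ≠ j), T i) ⊓ N j := h2
    _ ≤ T j ⊔ ⊥ := sup_le_sup_left h3 _
    _ = T j := by simp

theorem mul_smul_sub {R : Type u} [CommRing R] {A : Type u} [CommRing A] [Algebra R A]
    {M : Type u} [AddCommGroup M] [Module R M] [Module A M] [IsScalarTower R A M]
    (I J : Submodule R A) (N : Submodule R M) : (I * J) • N = I • J • N := by
  rw [← Submodule.smul_assoc]
  rfl

theorem smul_le_of_graded {R : Type u} [CommRing R] {A : Type u} [CommRing A] [Algebra R A]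
    (𝒜 : ℕ → Submodule R A)
    {M : Type u} [AddCommGroup M] [Module R M] [Module A M] [IsScalarTower R A M]
    (ℳ : ℕ → Submodule R M) [SetLike.GradedSMul 𝒜 ℳ] (i j : ℕ) : 𝒜 i • ℳ j ≤ ℳ (i + j) := by
  rw [Submodule.smul_le]
  intro a ha m hm
  exact SetLike.GradedSMul.smul_mem ha hm

theorem result
    (R : Type u) [CommRing R] (A : Type u) [CommRing A] [Algebra R A]
    (𝒜 : ℕ → Submodule R A) [GradedAlgebra 𝒜]
    (hA : ∀ n : ℕ, 𝒜 (n + 1) = 𝒜 1 * 𝒜 n)
    (M : Type u) [AddCommGroup M] [Module R M] [Module A M] [IsScalarTower R A M]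
    (ℳ : ℕ → Submodule R M) [DirectSum.Decomposition ℳ] [SetLike.GradedSMul 𝒜 ℳ]
    (s : Set M) (n₀ : ℕ) (hs : ∀ y ∈ s, ∃ d : ℕ, d ≤ n₀ ∧ y ∈ ℳ d)
    (hspan : Submodule.span A s = ⊤)
    (n k : ℕ) (hn : n₀ ≤ n) :
    ℳ (n + k) = 𝒜 k • ℳ n := by
  have hmul := mul_of_gen 𝒜 hA
  have hsm := smul_le_of_graded 𝒜 ℳ
  let T : ℕ → Submodule R M := fun j => if n ≤ j then 𝒜 (j - n) • ℳ n else ℳ j
  have hT1 : ∀ j, n ≤ j → T j = 𝒜 (j - n) • ℳ n := fun j hj => if_pos hj
  have hT2 : ∀ j, ¬ n ≤ j → T j = ℳ j := fun j hj => if_neg hj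
  have hle : ∀ j, T j ≤ ℳ j := by
    intro j
    by_cases hj : n ≤ j
    · rw [hT1 j hj]
      have := hsm (j - n) n
      rwa [Nat.sub_add_cancel hj] at this
    · rw [hT2 j hj]
  have hstep : ∀ i j, 𝒜 i • T j ≤ T (i + j) := by
    intro i j
    by_cases hj : n ≤ j
    · rw [hT1 j hj, hT1 (i + j) (by omega), ← mul_smul_sub, ← hmul,
        show i + (j - n) = i + j - n by omega]
    · rw [hT2 j hj]
      by_cases hij : n ≤ i + j
      · rw [hT1 _ hij, show i = (i + j - n) + (n - j) by omega, hmul, mul_smul_sub,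
          show (i + j - n) + (n - j) + j - n = i + j - n by omega]
        have := hsm (n - j) j
        rw [show n - j + j = n by omega] at this
        exact Submodule.smul_mono le_rfl this
      · rw [hT2 _ hij]
        exact hsm i j
  have hAtop : (⨆ i, 𝒜 i) = ⊤ := (DirectSum.Decomposition.isInternal 𝒜).submodule_iSup_eq_top
  have hclosed : ∀ (a : A) (x : M), x ∈ ⨆ j, T j → a • x ∈ ⨆ j, T j := by
    intro a x hx
    have ha : a ∈ ⨆ i, 𝒜 i := by rw [hAtop]; trivial
    have h1 : a • x ∈ (⨆ i, 𝒜 i) • ⨆ j, T j := Submodule.smul_mem_smul ha hx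
    have h2 : (⨆ i, 𝒜 i) • (⨆ j, T j) ≤ ⨆ j, T j := by
      rw [Submodule.iSup_smul]
      apply iSup_le
      intro i
      rw [Submodule.smul_iSup]
      apply iSup_le
      intro j
      exact le_trans (hstep i j) (le_iSup T (i + j))
    exact h2 h1
  let N : Submodule A M :=
    { carrier := ((⨆ j, T j : Submodule R M) : Set M)
      add_mem' := fun ha hb => add_mem ha hb
      zero_mem' := zero_mem _
      smul_mem' := fun a x hx => hclosed a x hx }
  have hsN : s ⊆ N := by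
    intro y hy
    obtain ⟨d, hd, hyd⟩ := hs y hy
    change y ∈ ⨆ j, T j
    by_cases hdn : n ≤ d
    · have hdn' : d = n := by omega
      subst hdn'
      apply Submodule.mem_iSup_of_mem d
      rw [hT1 d le_rfl, Nat.sub_self]
      have h1 : (1 : A) ∈ 𝒜 0 := SetLike.GradedOne.one_mem
      have := Submodule.smul_mem_smul h1 hyd
      rwa [one_smul] at this
    · apply Submodule.mem_iSup_of_mem d
      rwa [hT2 d hdn]
  have hNtop : N = ⊤ := by
    apply top_le_iff.mp
    rw [← hspan]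
    exact Submodule.span_le.mpr hsN
  have htop : (⨆ j, T j) = ⊤ := by
    apply top_le_iff.mp
    intro x _
    have : x ∈ N := by rw [hNtop]; trivial
    exact this
  have hind : iSupIndep ℳ := (DirectSum.Decomposition.isInternal ℳ).submodule_iSupIndep
  have := indep_eq_of_le_of_iSup_eq_top T ℳ hind hle htop (n + k)
  rw [← this, hT1 _ (by omega), show n + k - n = k by omega]

end Groth.Agent.S14051
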