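import Groth.Statements.S14052
import Groth.Agent.S14051

set_option autoImplicit false
universe u
open CAlg

namespace Groth.Agent.S14052

theorem result
    (R : Type u) [CommRing R] (A : Type u) [CommRing A] [Algebra R A]
    (𝒜 : ℕ → Submodule R A) [GradedAlgebra 𝒜] (hA : ∀ n : ℕ, 𝒜 (n + 1) = 𝒜 1 * 𝒜 n)
    (S : Type u) [CommRing S] [Algebra R S] [Algebra A S] [IsScalarTower R A S]
    (𝒮 : ℕ → Submodule R S) [GradedAlgebra 𝒮]
    (hAS : ∀ (i : ℕ) (a : A), a ∈ 𝒜 i → algebraMap A S a ∈ 𝒮 i)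
    [Module.Finite A S]
    (s : Set S) (hsfin : s.Finite) (n₀ : ℕ) (hn₀ : 0 < n₀)
    (hs : ∀ y ∈ s, ∃ d : ℕ, d ≤ n₀ ∧ y ∈ 𝒮 d) (hspan : Submodule.span A s = ⊤) :
    (∀ n k : ℕ, n₀ ≤ n → 𝒮 (n + k) = 𝒮 k * 𝒮 n) ∧
      (∀ d : ℕ, n₀ ≤ d → ∀ m : ℕ, 0 < m → 𝒮 (m * d) = 𝒮 d ^ m) := by
  have : SetLike.GradedSMul 𝒜 𝒮 :=
    ⟨fun {i j} a b ha hb => by
      rw [Algebra.smul_def]
      exact SetLike.GradedMul.mul_mem (hAS i a ha) hb⟩
  have hmulle : ∀ i j, 𝒮 i * 𝒮 j ≤ 𝒮 (i + j) := by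
    intro i j
    rw [Submodule.mul_le]
    intro x hx y hy
    exact SetLike.GradedMul.mul_mem hx hy
  have h1 : ∀ n k : ℕ, n₀ ≤ n → 𝒮 (n + k) = 𝒮 k * 𝒮 n := by
    intro n k hn
    have key := Groth.Agent.S14051.result R A 𝒜 hA S 𝒮 s n₀ hs hspan n k hn
    apply le_antisymm
    · rw [key, Submodule.smul_le]
      intro a ha x hx
      rw [Algebra.smul_def]
      exact Submodule.mul_mem_mul (hAS k a ha) hx
    · have := hmulle k n
      rwa [add_comm] at this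
  refine ⟨h1, ?_⟩
  intro d hd m hm
  induction m with
  | zero => omega
  | succ m ih =>
    by_cases hm0 : m = 0
    · subst hm0
      simp
    · have hm' : 0 < m := Nat.pos_of_ne_zero hm0
      have h2 := h1 (m * d) d (le_trans hd (Nat.le_mul_of_pos_left d hm'))
      rw [show (m + 1) * d = m * d + d by ring, h2, ih hm', pow_succ, mul_comm]

end Groth.Agent.S14052
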