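import Groth.Statements.S14053
import Mathlib.Algebra.MvPolynomial.Eval
import Mathlib.LinearAlgebra.Dimension.Free
import Mathlib.Algebra.DirectSum.Decomposition
import Mathlib.Tactic

set_option autoImplicit false
universe u
open CAlg

namespace Groth.Agent.S14053

theorem indep_eq_of_le_of_iSup_eq_top {ι : Type*} {L : Type*} [CompleteLattice L] [IsModularLattice L]
    (T N : ι → L) (hN : iSupIndep N) (hle : ∀ i, T i ≤ N i) (htop : ⨆ i, T i = ⊤) (j : ι) :
    T j = N j := by
  apply le_antisymm (hle j)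
  have h1 : (⨆ i, T i) = T j ⊔ ⨆ (i) (_ : i ≠ j), T i := iSup_split_single T j
  have h2 : (T j ⊔ ⨆ (i) (_ : i ≠ j), T i) ⊓ N j = T j ⊔ (⨆ (i) (_ : i ≠ j), T i) ⊓ N j :=
    sup_inf_assoc_of_le _ (hle j)
  have h3 : (⨆ (i) (_ : i ≠ j), T i) ⊓ N j ≤ ⊥ := by
    have := hN j
    rw [disjoint_iff_inf_le] at this
    refine le_trans ?_ this
    rw [inf_comm]
    apply inf_le_inf_left
    exact iSup₂_mono fun i _ => hle i
  calc N j = ⊤ ⊓ N j := by simp
    _ = (T j ⊔ ⨆ (i) (_ : i ≠ j), T i) ⊓ N j := by rw [← h1, htop]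
    _ = T j ⊔ (⨆ (i) (_ : i ≠ j), T i) ⊓ N j := h2
    _ ≤ T j ⊔ ⊥ := sup_le_sup_left h3 _
    _ = T j := by simp

/-- sub-sum lemma -/
theorem exists_le_sum_eq {ι : Type*} [Fintype ι] (q : ι → ℕ) (e : ℕ) (h : e ≤ ∑ i, q i) :
    ∃ q' : ι → ℕ, (∀ i, q' i ≤ q i) ∧ ∑ i, q' i = e := by
  classical
  induction e with
  | zero => exact ⟨fun _ => 0, fun i => Nat.zero_le _, by simp⟩
  | succ e ih =>
    obtain ⟨q', hq', hs⟩ := ih (by omega)
    have : ∃ i, q' i < q i := by
      by_contra hcon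
      simp only [not_exists, not_lt] at hcon
      have : ∑ i, q i ≤ ∑ i, q' i := Finset.sum_le_sum fun i _ => hcon i
      omega
    obtain ⟨i, hi⟩ := this
    refine ⟨q' + Pi.single i 1, ?_, ?_⟩
    · intro j
      by_cases hj : j = i
      · subst hj; simp; omega
      · simp [Pi.single_eq_of_ne hj]; exact hq' j
    · simp [Finset.sum_add_distrib, hs]

/-- combinatorial key -/
theorem key_comb {ι : Type*} [Fintype ι] (deg : ι → ℕ) (hdeg : ∀ i, deg i ∣ 6)
    (e : ℕ) (he : ∑ i, (6 - deg i) ≤ e) (c : ι → ℕ) (hc : 12 * e ≤ ∑ i, c i * deg i) :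
    ∃ c₁ : ι → ℕ, (∀ i, c₁ i ≤ c i) ∧ ∑ i, c₁ i * deg i = 6 * e := by
  have hpos : ∀ i, 0 < deg i := fun i => Nat.pos_of_dvd_of_pos (hdeg i) (by norm_num)
  let p : ι → ℕ := fun i => 6 / deg i
  have hp : ∀ i, p i * deg i = 6 := fun i => Nat.div_mul_cancel (hdeg i)
  have hppos : ∀ i, 0 < p i := fun i => Nat.div_pos (Nat.le_of_dvd (by norm_num) (hdeg i)) (hpos i)
  let q : ι → ℕ := fun i => c i / p i
  let r : ι → ℕ := fun i => c i % p i
  have hcqr : ∀ i, c i = p i * q i + r i := fun i => (Nat.div_add_mod (c i) (p i)).symm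
  have hr : ∀ i, r i * deg i ≤ 6 - deg i := by
    intro i
    have h1 : r i < p i := Nat.mod_lt _ (hppos i)
    have h2 : r i + 1 ≤ p i := h1
    have h3 : (r i + 1) * deg i ≤ p i * deg i := Nat.mul_le_mul_right _ h2
    rw [hp i] at h3
    have : (r i + 1) * deg i = r i * deg i + deg i := by ring
    omega
  have hsum : ∑ i, c i * deg i = 6 * ∑ i, q i + ∑ i, r i * deg i := by
    rw [Finset.mul_sum, ← Finset.sum_add_distrib]
    apply Finset.sum_congr rfl
    intro i _
    have := hp i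
    have h4 : c i * deg i = (p i * deg i) * q i + r i * deg i := by
      conv_lhs => rw [hcqr i]
      ring
    rw [h4, this]
  have hrsum : ∑ i, r i * deg i ≤ e := le_trans (Finset.sum_le_sum fun i _ => hr i) he
  have hq : e ≤ ∑ i, q i := by omega
  obtain ⟨q', hq', hq's⟩ := exists_le_sum_eq q e hq
  refine ⟨fun i => p i * q' i, ?_, ?_⟩
  · intro i
    calc p i * q' i ≤ p i * q i := Nat.mul_le_mul_left _ (hq' i)
      _ ≤ c i := by rw [hcqr i]; omega
  · rw [← hq's, Finset.mul_sum]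
    apply Finset.sum_congr rfl
    intro i _
    have := hp i
    calc p i * q' i * deg i = (p i * deg i) * q' i := by ring
      _ = 6 * q' i := by rw [this]

section alg

variable {k : Type u} [Field k] {R : Type u} [CommRing R] [Algebra k R]
  (ℛ : ℕ → Submodule k R) [GradedAlgebra ℛ]
  {ι : Type} [Fintype ι] (deg : ι → ℕ) (f : ι → R)

/-- monomial -/
noncomputable def mon (c : ι → ℕ) : R := ∏ i, f i ^ c i

/-- weight -/
def wt (c : ι → ℕ) : ℕ := ∑ i, c i * deg i

theorem mon_add (c c' : ι → ℕ) : mon f (c + c') = mon f c * mon f c' := by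
  simp [mon, pow_add, Finset.prod_mul_distrib]

theorem wt_add (c c' : ι → ℕ) : wt deg (c + c') = wt deg c + wt deg c' := by
  simp [wt, add_mul, Finset.sum_add_distrib]

variable (hf : ∀ i, f i ∈ ℛ (deg i))

include hf in
theorem mon_mem (c : ι → ℕ) : mon f c ∈ ℛ (wt deg c) := by
  have := SetLike.prod_pow_mem_graded ℛ deg f c (F := Finset.univ) (fun i _ => hf i)
  simpa [mon, wt] using this

theorem span_mon_eq_top (hgen : Algebra.adjoin k (Set.range f) = ⊤) :
    Submodule.span k (Set.range (mon f)) = ⊤ := by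
  rw [eq_top_iff]
  intro x _
  have hx : x ∈ Algebra.adjoin k (Set.range f) := by rw [hgen]; trivial
  rw [Algebra.adjoin_range_eq_range_aeval] at hx
  obtain ⟨P, rfl⟩ := hx
  rw [P.as_sum, map_sum]
  apply Submodule.sum_mem
  intro c _
  have : (MvPolynomial.aeval f) (MvPolynomial.monomial c (MvPolynomial.coeff c P)) =
      (MvPolynomial.coeff c P) • mon f (fun i => c i) := by
    rw [MvPolynomial.aeval_monomial, Finsupp.prod_fintype _ _ (fun i => pow_zero _),
      Algebra.smul_def]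
    rfl
  change (MvPolynomial.aeval f) ((MvPolynomial.monomial c) (MvPolynomial.coeff c P)) ∈ _
  rw [this]
  exact Submodule.smul_mem _ _ (Submodule.subset_span ⟨_, rfl⟩)

include hf in
theorem graded_le_span (hgen : Algebra.adjoin k (Set.range f) = ⊤) (n : ℕ) :
    ℛ n = Submodule.span k {x | ∃ c, wt deg c = n ∧ mon f c = x} := by
  let T : ℕ → Submodule k R := fun n => Submodule.span k {x | ∃ c, wt deg c = n ∧ mon f c = x}
  have hle : ∀ n, T n ≤ ℛ n := by
    intro n
    apply Submodule.span_le.mpr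
    rintro x ⟨c, hc, rfl⟩
    rw [← hc]
    exact mon_mem ℛ deg f hf c
  have htop : (⨆ n, T n) = ⊤ := by
    rw [eq_top_iff, ← span_mon_eq_top f hgen]
    apply Submodule.span_le.mpr
    rintro x ⟨c, rfl⟩
    exact Submodule.mem_iSup_of_mem (wt deg c) (Submodule.subset_span ⟨c, rfl, rfl⟩)
  have hind : iSupIndep ℛ := (DirectSum.Decomposition.isInternal ℛ).submodule_iSupIndep
  exact (indep_eq_of_le_of_iSup_eq_top T ℛ hind hle htop n).symm

include hf in
theorem mon_mem_pow (hdeg : ∀ i, deg i ∣ 6) (e : ℕ) (he : ∑ i, (6 - deg i) ≤ e) :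
    ∀ m : ℕ, 0 < m → ∀ c : ι → ℕ, wt deg c = m * (6 * e) → mon f c ∈ ℛ (6 * e) ^ m := by
  intro m
  induction m with
  | zero => intro h; omega
  | succ m ih =>
    intro _ c hc
    by_cases hm : m = 0
    · subst hm
      rw [zero_add, one_mul] at hc
      rw [zero_add, pow_one, ← hc]
      exact mon_mem ℛ deg f hf c
    · have hm' : 0 < m := Nat.pos_of_ne_zero hm
      have h12 : 12 * e ≤ ∑ i, c i * deg i := by
        change 12 * e ≤ wt deg c
        rw [hc]
        have : 2 ≤ m + 1 := by omega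
        nlinarith
      obtain ⟨c₁, hc₁, hw₁⟩ := key_comb deg hdeg e he c h12
      let c₂ : ι → ℕ := fun i => c i - c₁ i
      have hcc : c = c₁ + c₂ := by
        funext i
        simp only [Pi.add_apply, c₂]
        have := hc₁ i
        omega
      have hw₂ : wt deg c₂ = m * (6 * e) := by
        have h1 := wt_add deg c₁ c₂
        rw [← hcc, hc] at h1
        have h2 : wt deg c₁ = 6 * e := hw₁
        rw [h2] at h1
        have : (m + 1) * (6 * e) = m * (6 * e) + 6 * e := by ring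
        omega
      rw [hcc, mon_add, pow_succ, mul_comm (mon f c₁)]
      apply Submodule.mul_mem_mul
      · exact ih hm' c₂ hw₂
      · have := mon_mem ℛ deg f hf c₁
        rwa [show wt deg c₁ = 6 * e from hw₁] at this

include hf in
theorem abstract_main (hdeg : ∀ i, deg i ∣ 6) (hgen : Algebra.adjoin k (Set.range f) = ⊤)
    (e : ℕ) (he : ∑ i, (6 - deg i) ≤ e) (m : ℕ) (hm : 0 < m) :
    ℛ (m * (6 * e)) = ℛ (6 * e) ^ m := by
  apply le_antisymm
  · rw [graded_le_span ℛ deg f hf hgen (m * (6 * e))]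
    apply Submodule.span_le.mpr
    rintro x ⟨c, hc, rfl⟩
    exact mon_mem_pow ℛ deg f hf hdeg e he m hm c hc
  · clear hm
    induction m with
    | zero =>
      rw [zero_mul, pow_zero, Submodule.one_le]
      exact SetLike.GradedOne.one_mem
    | succ m ih =>
      rw [pow_succ, Submodule.mul_le]
      intro x hx y hy
      have := SetLike.GradedMul.mul_mem (ih hx) hy
      rwa [show m * (6 * e) + 6 * e = (m + 1) * (6 * e) by ring] at this

end alg


/-- Let k be a field and R a commutative ℕ-graded k-algebra with R_0 = k · 1 which is generated as a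
k-algebra by R_1, R_2 and R_3, each a finite-dimensional k-vector space, of dimensions d_1, d_2,
d_3. Then for every natural number e ≥ 5 d_1 + 4 d_2 + 3 d_3 the (6e)-th Veronese subring of R is
generated in degree one over k: R_{6em} = (R_{6e})^m for every m > 0. -/
theorem result
    (k : Type u) [Field k] (R : Type u) [CommRing R] [Algebra k R]
    (ℛ : ℕ → Submodule k R) [GradedAlgebra ℛ]
    (h0 : ℛ 0 = 1)
    (hgen : Algebra.adjoin k ((ℛ 1 : Set R) ∪ (ℛ 2 : Set R) ∪ (ℛ 3 : Set R)) = ⊤)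
    [Module.Finite k (ℛ 1)] [Module.Finite k (ℛ 2)] [Module.Finite k (ℛ 3)]
    (e : ℕ) (he : 5 * Module.finrank k (ℛ 1) + 4 * Module.finrank k (ℛ 2) + 3 * Module.finrank k (ℛ 3) ≤ e)
    (m : ℕ) (hm : 0 < m) :
    ℛ (m * (6 * e)) = ℛ (6 * e) ^ m := by
  let b₁ := Module.finBasis k (ℛ 1)
  let b₂ := Module.finBasis k (ℛ 2)
  let b₃ := Module.finBasis k (ℛ 3)
  let f : (Fin (Module.finrank k (ℛ 1)) ⊕ (Fin (Module.finrank k (ℛ 2)) ⊕ Fin (Module.finrank k (ℛ 3)))) → R :=
    Sum.elim (fun i => (b₁ i : R)) (Sum.elim (fun i => (b₂ i : R)) (fun i => (b₃ i : R)))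
  let deg : (Fin (Module.finrank k (ℛ 1)) ⊕ (Fin (Module.finrank k (ℛ 2)) ⊕ Fin (Module.finrank k (ℛ 3)))) → ℕ :=
    Sum.elim (fun _ => 1) (Sum.elim (fun _ => 2) (fun _ => 3))
  have hf : ∀ i, f i ∈ ℛ (deg i) := by
    rintro (i | i | i)
    · exact (b₁ i).2
    · exact (b₂ i).2
    · exact (b₃ i).2
  have hdeg : ∀ i, deg i ∣ 6 := by
    rintro (i | i | i)
    · exact ⟨6, rfl⟩
    · exact ⟨3, rfl⟩
    · exact ⟨2, rfl⟩
  have he' : ∑ i, (6 - deg i) ≤ e := by
    rw [Fintype.sum_sum_type, Fintype.sum_sum_type]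
    simp only [deg, Sum.elim_inl, Sum.elim_inr, Finset.sum_const, Finset.card_univ, Fintype.card_fin,
      smul_eq_mul]
    omega
  have hmem : ∀ (j : ℕ) (bj : Module.Basis (Fin (Module.finrank k (ℛ j))) k (ℛ j)),
      (∀ i, (bj i : R) ∈ Set.range f) → ∀ x ∈ ℛ j, x ∈ Algebra.adjoin k (Set.range f) := by
    intro j bj hbj x hx
    have h1 := bj.sum_repr ⟨x, hx⟩
    have h2 : x = ∑ i, (bj.repr ⟨x, hx⟩ i) • (bj i : R) := by
      have h3 := congrArg (Subtype.val) h1
      rw [AddSubmonoidClass.coe_finset_sum] at h3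
      simp only [SetLike.val_smul] at h3
      exact h3.symm
    rw [h2]
    apply Subalgebra.sum_mem
    intro i _
    exact Subalgebra.smul_mem _ (Algebra.subset_adjoin (hbj i)) _
  have hgen' : Algebra.adjoin k (Set.range f) = ⊤ := by
    rw [eq_top_iff, ← hgen]
    apply Algebra.adjoin_le
    rintro x ((hx | hx) | hx)
    · exact hmem 1 b₁ (fun i => ⟨Sum.inl i, rfl⟩) x hx
    · exact hmem 2 b₂ (fun i => ⟨Sum.inr (Sum.inl i), rfl⟩) x hx
    · exact hmem 3 b₃ (fun i => ⟨Sum.inr (Sum.inr i), rfl⟩) x hx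
  exact abstract_main ℛ deg f hf hdeg hgen' e he' m hm


end Groth.Agent.S14053
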