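import Groth.Statements.S14060
import Mathlib.Algebra.Homology.DerivedCategory.Ext.ExactSequences
import Mathlib.Tactic

set_option autoImplicit false
universe u
open CategoryTheory CategoryTheory.Limits TopologicalSpace
open CohTop

namespace Groth.Agent.S14060

universe w v

open Abelian

variable {𝒜 : Type u} [Category.{v} 𝒜] [Abelian 𝒜] [HasExt.{w} 𝒜]

/-- shifted objects -/
noncomputable def F' (F : ℕ → 𝒜) (d : ∀ j, F (j + 1) ⟶ F j) : ℕ → 𝒜
  | 0 => kernel (d 0)
  | (j + 1) => F (j + 2)

noncomputable def d' (F : ℕ → 𝒜) (d : ∀ j, F (j + 1) ⟶ F j) (h0 : ∀ j, d (j + 1) ≫ d j = 0) :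
    ∀ j, F' F d (j + 1) ⟶ F' F d j
  | 0 => kernel.lift (d 0) (d 1) (h0 0)
  | (j + 1) => d (j + 2)

theorem key (Z : 𝒜) : ∀ (r : ℕ), 1 ≤ r → ∀ (s : ℕ) (F : ℕ → 𝒜) (d : ∀ j, F (j + 1) ⟶ F j)
    (h0 : ∀ j, d (j + 1) ≫ d j = 0)
    (_ : Mono (d (r - 1))) (_ : Epi (d 0))
    (_ : ∀ j, j + 1 < r → (ShortComplex.mk (d (j + 1)) (d j) (h0 j)).Exact)
    (_ : ∀ j n, 2 ≤ j → j ≤ r → n + 1 = j + s → ∀ x : Ext Z (F j) n, x = 0),
    ∀ x₀ : Ext Z (F 0) s, ∃ x₁ : Ext Z (F 1) s, x₁.comp (Ext.mk₀ (d 0)) (add_zero s) = x₀ := by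
  intro r
  induction r with
  | zero => intro h; omega
  | succ r ih =>
    intro _ s F d h0 hmono hepi hex hvan x₀
    by_cases hr : r = 0
    · subst hr
      have hmono' : Mono (d 0) := hmono
      have : IsIso (d 0) := isIso_of_mono_of_epi _
      refine ⟨x₀.comp (Ext.mk₀ (inv (d 0))) (add_zero s), ?_⟩
      rw [Ext.comp_assoc_of_third_deg_zero, Ext.mk₀_comp_mk₀, IsIso.inv_hom_id, Ext.comp_mk₀_id]
    · have hr1 : 1 ≤ r := Nat.one_le_iff_ne_zero.mpr hr
      -- the short exact sequence 0 → K → F 1 → F 0 → 0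
      let S : ShortComplex 𝒜 := ShortComplex.mk (kernel.ι (d 0)) (d 0) (kernel.condition _)
      have hS : S.ShortExact :=
        { exact := ShortComplex.exact_of_f_is_kernel _ (kernelIsKernel (d 0))
          mono_f := by dsimp [S]; infer_instance
          epi_g := hepi }
      -- all of Ext Z K (s+1) vanish
      have hK : ∀ y : Ext Z (kernel (d 0)) (s + 1), y = 0 := by
        intro y
        have h0' : ∀ j, d' F d h0 (j + 1) ≫ d' F d h0 j = 0 := by
          intro j
          cases j with
          | zero =>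
            apply (cancel_mono (kernel.ι (d 0))).mp
            change (d 2 ≫ kernel.lift (d 0) (d 1) (h0 0)) ≫ kernel.ι (d 0) = 0 ≫ kernel.ι (d 0)
            rw [Category.assoc, kernel.lift_ι, zero_comp]
            exact h0 1
          | succ j => exact h0 (j + 2)
        have := ih hr1 (s + 1) (F' F d) (d' F d h0) h0' ?_ ?_ ?_ ?_ y
        · obtain ⟨x₁, hx₁⟩ := this
          have hx₁0 : x₁ = 0 := hvan 2 (s + 1) le_rfl (by omega) (by omega) x₁
          rw [← hx₁, hx₁0]
          exact Ext.zero_comp Z (s + 1) (Ext.mk₀ (d' F d h0 0)) (s + 1) (add_zero (s + 1))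
        · -- mono
          obtain ⟨k, rfl⟩ : ∃ k, r = k + 1 := ⟨r - 1, by omega⟩
          cases k with
          | zero =>
            have hm1 : Mono (d 1) := hmono
            change Mono (kernel.lift (d 0) (d 1) (h0 0))
            exact mono_of_mono_fac (kernel.lift_ι (d 0) (d 1) (h0 0))
          | succ k =>
            have hm1 : Mono (d (k + 2)) := hmono
            exact hm1
        · -- epi
          have := hex 0 (by omega)
          exact (ShortComplex.exact_iff_epi_kernel_lift _).mp this
        · -- exactness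
          intro j hj
          cases j with
          | zero =>
            have hex1 := hex 1 (by omega)
            let S₁ : ShortComplex 𝒜 :=
              ShortComplex.mk (d 2) (kernel.lift (d 0) (d 1) (h0 0)) (h0' 0)
            let S₂ : ShortComplex 𝒜 := ShortComplex.mk (d 2) (d 1) (h0 1)
            let φ : S₁ ⟶ S₂ :=
              { τ₁ := 𝟙 (F 3)
                τ₂ := 𝟙 (F 2)
                τ₃ := kernel.ι (d 0)
                comm₁₂ := by simp [S₁, S₂]
                comm₂₃ := by simp [S₁, S₂] }
            have : Epi φ.τ₁ := by change Epi (𝟙 (F 3)); infer_instance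
            have : IsIso φ.τ₂ := by change IsIso (𝟙 (F 2)); infer_instance
            have : Mono φ.τ₃ := by change Mono (kernel.ι (d 0)); infer_instance
            exact (ShortComplex.exact_iff_of_epi_of_isIso_of_mono φ).mpr hex1
          | succ j => exact hex (j + 2) (by omega)
        · -- vanishing
          intro j n hj hjr hn x
          obtain ⟨j', rfl⟩ : ∃ j', j = j' + 1 := ⟨j - 1, by omega⟩
          exact hvan (j' + 2) n (by omega) (by omega) (by omega) x
      have hδ : x₀.comp hS.extClass rfl = 0 := hK _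
      obtain ⟨x₂, hx₂⟩ := Ext.covariant_sequence_exact₃ Z hS x₀ rfl hδ
      exact ⟨x₂, hx₂⟩


/-- Let X be a topological space, r ≥ 1 an integer and 0 → F_r → ⋯ → F_2 → F_1 → F_0 → 0 an exact
sequence of sheaves of abelian groups on X, presented as a chain complex F of abelian sheaves
indexed by the natural numbers whose differential F_r → F_{r−1} is a monomorphism, whose
differential F_1 → F_0 is an epimorphism of sheaves, and which is exact at F_j for 1 ≤ j ≤ r − 1
(for r = 1 the single map F_1 → F_0 is mono and epi). Assume the sheaf cohomology groups H^{j−1}(X,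
F_j) vanish for 2 ≤ j ≤ r. Then the map on global sections F_1(X) → F_0(X) is surjective. (The
instance hypothesis that the category of abelian sheaves on X has Ext groups in the universe of X
holds for every X, abelian sheaves on a space forming a Grothendieck abelian category; it is the
setting in which sheaf cohomology is defined.) -/
theorem result (X : TopCat.{u})
    [HasExt.{u} (Sheaf (Opens.grothendieckTopology X) AddCommGrpCat.{u})]
    (r : ℕ) (hr : 1 ≤ r)
    (F : ChainComplex (Sheaf (Opens.grothendieckTopology X) AddCommGrpCat.{u}) ℕ)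
    (hmono : Mono (F.d r (r - 1))) (hepi : Epi (F.d 1 0))
    (hex : ∀ j : ℕ, 1 ≤ j → j < r → F.ExactAt j)
    (hvan : ∀ j : ℕ, 2 ≤ j → j ≤ r → Subsingleton (Sheaf.H (F.X j) (j - 1))) :
    Function.Surjective ((F.d 1 0).hom.app (Opposite.op ⊤)) := by
  have hT : Limits.IsTerminal (⊤ : Opens X) := Limits.isTerminalTop
  have hkey := key ((constantSheaf (Opens.grothendieckTopology X) AddCommGrpCat.{u}).obj
      (AddCommGrpCat.of (ULift ℤ))) r hr 0 (fun j => F.X j) (fun j => F.d (j + 1) j)
    (fun j => F.d_comp_d _ _ _) ?_ hepi ?_ ?_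
  · intro y
    obtain ⟨x₁, hx₁⟩ := hkey ((Sheaf.H.equiv₀ (F.X 0) hT).symm y)
    refine ⟨Sheaf.H.equiv₀ (F.X 1) hT x₁, ?_⟩
    rw [Sheaf.H.equiv₀_naturality, Sheaf.H.map_apply, hx₁, AddEquiv.apply_symm_apply]
  · obtain ⟨k, rfl⟩ : ∃ k, r = k + 1 := ⟨r - 1, by omega⟩
    exact hmono
  · intro j hj
    have := hex (j + 1) (by omega) hj
    rw [HomologicalComplex.exactAt_iff' F (j + 2) (j + 1) j (by simp) (by simp)] at this
    exact this
  · intro j n hj hjr hn x
    obtain rfl : j = n + 1 := by omega
    have hsub : Subsingleton (Sheaf.H (F.X (n + 1)) n) := hvan (n + 1) hj hjr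
    exact hsub.elim _ _


end Groth.Agent.S14060
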