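import Groth.Statements.S14064
import Groth.Agent.Lib.Helper35.IntegralSec
import Groth.Agent.Lib.Helper35.TensorInv
import Groth.Agent.Lib.Helper35.Ample1
import Groth.Agent.Lib.Lead.Inv6

set_option autoImplicit false
universe u
open CategoryTheory CategoryTheory.Limits AlgebraicGeometry TopologicalSpace
open Surf

namespace Groth.Agent.S14064

/-- Fix a field k, an integral proper k-scheme X, and an invertible O_X-module L with tensor inverse M.
Suppose that L^{⊗j} has a nonzero global section for every j ≥ 4 and that no tensor power L^{⊗j}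
with j ≥ 1 is isomorphic to O_X. Then H⁰(X, M^{⊗i}) = 0 for every i ≥ 1: the negative powers of L
have no nonzero global sections. (The published statement is for the canonical module of a minimal
surface of general type over an algebraically closed field, where the fourth and higher powers are
globally generated by a deep result quoted without proof, and non-triviality of the positive powers
comes from bigness; the published deduction of this part uses exactly the two hypotheses carried
here, on an integral proper X.) -/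
theorem result (k : Type u) [Field k]
    (X : Scheme.{u}) [X.Over (Spec (CommRingCat.of k))] [IsProper (X ↘ (Spec (CommRingCat.of k)))] [IsIntegral X]
    (L M : X.Modules) (hL : PicF.IsInvertible L) (hM : ClSub.IsInverseOf M L)
    (hsec : ∀ j : ℕ, 4 ≤ j → Nontrivial (Coh.HH X (CohB1.tensorPow L j) 0))
    (hnt : ∀ j : ℕ, 1 ≤ j → IsEmpty (CohB1.tensorPow L j ≅ Coh.structureModule X))
    (i : ℕ) (hi : 1 ≤ i) :
    Subsingleton (Coh.HH X (CohB1.tensorPow M i) 0) := by
  classical
  obtain ⟨eML⟩ := hM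
  have hMinv : PicF.IsInvertible M :=
    Groth.Agent.Lib.Helper35.TensorInv.isInvertible_of_tensor_iso M L eML
  have hfield : IsField (Γ(X, ⊤) : Type u) :=
    isField_of_universallyClosed k (X ↘ Spec (CommRingCat.of k))
  -- `H⁰` and global sections
  have hsecEx : ∀ F : X.Modules, Nontrivial (Coh.HH X F 0) →
      ∃ s : Coh.structureModule X ⟶ F, s ≠ 0 := by
    intro F hF
    obtain ⟨x, hx⟩ := exists_ne (0 : Coh.HH X F 0)
    let E := Sheaf.H.equiv₀ (Coh.toAb F) isTerminalTop
    have hne : E x ≠ 0 := fun h => hx (E.injective (h.trans (map_zero E).symm))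
    refine ⟨Groth.Agent.Lib.Helper35.GlobGen.secHom F (E x), fun h0 => hne ?_⟩
    have h1 := Groth.Agent.Lib.Lead.Inv.val_secHom (M := F) (E x) ⊤
    rw [h0] at h1
    have h2 : F.presheaf.map (homOfLE (le_top : (⊤ : X.Opens) ≤ ⊤)).op (E x) = E x := by
      have : (homOfLE (le_top : (⊤ : X.Opens) ≤ ⊤)).op = 𝟙 _ := rfl
      rw [this, CategoryTheory.Functor.map_id]
      rfl
    rw [h2] at h1
    exact h1.symm
  by_contra hns
  rw [not_subsingleton_iff_nontrivial] at hns
  obtain ⟨t, ht⟩ := hsecEx _ hns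
  obtain ⟨s, hs⟩ := hsecEx _ (hsec (i * 4) (by omega))
  have hMi := Groth.Agent.Lib.Lead.Inv.isInvertible_tensorPow hMinv i
  have hLn := Groth.Agent.Lib.Lead.Inv.isInvertible_tensorPow hL (i * 4)
  have hMi4 := Groth.Agent.Lib.Lead.Inv.isInvertible_tensorPow hMi 4
  have ht4 := Groth.Agent.Lib.Helper35.IntegralSec.secPow_ne_zero hMi t ht 4
  have hP := Groth.Agent.Lib.Helper35.IntegralSec.secMul_ne_zero hLn hMi4 s
    (Groth.Agent.Lib.Lead.Inv.secPow t 4) hs ht4
  obtain ⟨e1⟩ := Groth.Agent.Lib.Lead.Inv.nonempty_tensorPow_mul hMinv i 4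
  obtain ⟨e2⟩ := Groth.Agent.Lib.Lead.Inv.nonempty_tensorPow_tensorMod hL hMinv (i * 4)
  obtain ⟨c⟩ := Groth.Agent.Lib.Lead.Inv.nonempty_comm L M
  have e3 := Groth.Agent.Lib.Helper35.Ample.tensorPowIso (c ≪≫ eML) (i * 4)
  have e4 : ∀ n : ℕ, Nonempty (CohB1.tensorPow (Coh.structureModule X) n ≅ Coh.structureModule X) := by
    intro n
    induction n with
    | zero => exact ⟨Iso.refl _⟩
    | succ n ih =>
      obtain ⟨e⟩ := ih
      obtain ⟨e'⟩ := Groth.Agent.Lib.Lead.Inv.nonempty_unit_right
        (CohB1.tensorPow (Coh.structureModule X) n)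
      exact ⟨e' ≪≫ e⟩
  obtain ⟨e4'⟩ := e4 (i * 4)
  let φ : CohB1.tensorMod (CohB1.tensorPow L (i * 4)) (CohB1.tensorPow (CohB1.tensorPow M i) 4) ≅
      Coh.structureModule X :=
    Groth.Agent.Lib.Helper60.TensorLib.tensorModCongrRight _ e1 ≪≫ e2.symm ≪≫ e3 ≪≫ e4'
  have hw : Groth.Agent.Lib.Lead.Inv.secMul s (Groth.Agent.Lib.Lead.Inv.secPow t 4) ≫ φ.hom ≠ 0 := by
    intro h
    apply hP
    rw [← cancel_mono φ.hom, h, Limits.zero_comp]
  have hg := Groth.Agent.Lib.Helper35.IntegralSec.genLocus_eq_top_of_ne_zero hfield _ hw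
  rw [Groth.Agent.Lib.Lead.Inv.genLocus_comp_iso,
    Groth.Agent.Lib.Lead.Inv.genLocus_secMul hLn hMi4] at hg
  have hs_top : CohB1.genLocus _ s = ⊤ := by
    apply top_le_iff.mp
    rw [← hg]
    exact inf_le_left
  exact (hnt (i * 4) (by omega)).false
    (Groth.Agent.Lib.Helper35.IntegralSec.nonempty_iso_of_genLocus_eq_top s hs_top).some

end Groth.Agent.S14064
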