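import Groth.Statements.S14066
import Mathlib
import Groth.Agent.Lib.Helper5.ProjClosed
import Groth.Agent.Lib.Helper74.RelProjMap
import Groth.Agent.Lib.Helper93.ProjOverIso

set_option autoImplicit false
set_option linter.style.haveILetI false
universe u
open CategoryTheory CategoryTheory.Limits AlgebraicGeometry TopologicalSpace
open Variety

namespace Groth.Agent.S14066


section coprod

lemma isClosedImmersion_coprod_desc {X Y Z : Scheme.{u}} (f : X ⟶ Z) (g : Y ⟶ Z)
    [IsClosedImmersion f] [IsClosedImmersion g]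
    (hd : Disjoint (Set.range f.base) (Set.range g.base)) :
    IsClosedImmersion (coprod.desc f g) := by
  rw [IsClosedImmersion.eq_inf]
  constructor
  · -- closed embedding
    change Topology.IsClosedEmbedding (coprod.desc f g).base
    have h1 : (coprod.desc f g).base ∘ (coprodMk X Y) = Sum.elim f.base g.base := by
      ext (x | y)
      · simp only [Function.comp_apply, coprodMk_inl, Sum.elim_inl]
        rw [← Scheme.Hom.comp_apply, coprod.inl_desc]
      · simp only [Function.comp_apply, coprodMk_inr, Sum.elim_inr]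
        rw [← Scheme.Hom.comp_apply, coprod.inr_desc]
    have h2 : Topology.IsClosedEmbedding (Sum.elim f.base g.base) := by
      refine Topology.IsClosedEmbedding.sumElim f.isClosedEmbedding g.isClosedEmbedding ?_
      rintro (a | a) (b | b) hab
      · simp only [Sum.elim_inl] at hab
        rw [f.isClosedEmbedding.injective hab]
      · simp only [Sum.elim_inl, Sum.elim_inr] at hab
        exact (Set.disjoint_iff_forall_ne.mp hd ⟨a, rfl⟩ ⟨b, rfl⟩ hab).elim
      · simp only [Sum.elim_inl, Sum.elim_inr] at hab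
        exact (Set.disjoint_iff_forall_ne.mp hd ⟨b, rfl⟩ ⟨a, rfl⟩ hab.symm).elim
      · simp only [Sum.elim_inr] at hab
        rw [g.isClosedEmbedding.injective hab]
    have h3 : (coprod.desc f g).base = Sum.elim f.base g.base ∘ (coprodMk X Y).symm := by
      rw [← h1]; ext x; simp
    rw [h3]
    exact h2.comp (coprodMk X Y).symm.isClosedEmbedding
  · -- surjective on stalks
    rw [IsZariskiLocalAtSource.iff_of_openCover (P := @SurjectiveOnStalks) (coprodOpenCover.{_, 0} X Y)]
    rintro (⟨⟨⟩⟩ | ⟨⟨⟩⟩)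
    · change SurjectiveOnStalks ((coprod.inl : X ⟶ X ⨿ Y) ≫ coprod.desc f g)
      rw [coprod.inl_desc]; infer_instance
    · change SurjectiveOnStalks ((coprod.inr : Y ⟶ X ⨿ Y) ≫ coprod.desc f g)
      rw [coprod.inr_desc]; infer_instance

end coprod

section graded

variable {σ τ : Type u} {A B : Type u} [CommRing A] [SetLike σ A] [AddSubgroupClass σ A]
  [CommRing B] [SetLike τ B] [AddSubgroupClass τ B]
variable {𝒜 : ℕ → σ} {ℬ : ℕ → τ} [GradedRing 𝒜] [GradedRing ℬ]

lemma irrelevant_le_map_of_surjective (φ : 𝒜 →+*ᵍ ℬ) (hsurj : Function.Surjective φ) :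
    HomogeneousIdeal.irrelevant ℬ ≤ (HomogeneousIdeal.irrelevant 𝒜).map φ := by
  intro b hb
  change b ∈ ((HomogeneousIdeal.irrelevant 𝒜).map φ).toIdeal
  rw [HomogeneousIdeal.toIdeal_map]
  obtain ⟨a, rfl⟩ := hsurj b
  have hb0 : GradedRing.proj ℬ 0 (φ a) = 0 := (HomogeneousIdeal.mem_irrelevant_iff ℬ _).mp hb
  have h1 : φ ((DirectSum.decompose 𝒜 a 0 : A)) = 0 := by
    rw [GradedRingHom.map_directSumDecompose 𝒜 ℬ φ]
    rwa [GradedRing.proj_apply] at hb0
  have h2 : φ a = φ (a - (DirectSum.decompose 𝒜 a 0 : A)) := by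
    rw [map_sub, h1, sub_zero]
  rw [h2]
  apply Ideal.mem_map_of_mem
  change _ ∈ HomogeneousIdeal.irrelevant 𝒜
  rw [HomogeneousIdeal.mem_irrelevant_iff, GradedRing.proj_apply, DirectSum.decompose_sub,
    DirectSum.sub_apply, DirectSum.decompose_coe, DirectSum.of_eq_same, sub_self]
  simp

end graded

section linear

open MvPolynomial

variable (k : Type u) [CommRing k] {n N : ℕ}

/-- images of the variables -/
noncomputable def varImg (r : Fin (N + 1) → Option (Fin (n + 1))) (i : Fin (N + 1)) :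
    MvPolynomial (Fin (n + 1)) k :=
  (r i).elim 0 X

lemma varImg_isHomogeneous (r : Fin (N + 1) → Option (Fin (n + 1))) (i : Fin (N + 1)) :
    (varImg k r i).IsHomogeneous 1 := by
  unfold varImg
  cases r i
  · exact isHomogeneous_zero _ _ _
  · exact isHomogeneous_X _ _

noncomputable def linGr (r : Fin (N + 1) → Option (Fin (n + 1))) :
    CohB1.polyGrading N k →+*ᵍ CohB1.polyGrading n k :=
  { (aeval (varImg k r) : MvPolynomial (Fin (N + 1)) k →ₐ[k] MvPolynomial (Fin (n + 1)) k).toRingHom with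
    map_mem := fun {i x} hx => by
      have hx' : x.IsHomogeneous i := (mem_homogeneousSubmodule i x).mp hx
      have := hx'.aeval (varImg k r) (varImg_isHomogeneous k r)
      rw [one_mul] at this
      exact (mem_homogeneousSubmodule i _).mpr this }

lemma linGr_apply (r : Fin (N + 1) → Option (Fin (n + 1))) (p : MvPolynomial (Fin (N + 1)) k) :
    linGr k r p = aeval (varImg k r) p := rfl

lemma linGr_X_none (r : Fin (N + 1) → Option (Fin (n + 1))) (i : Fin (N + 1)) (hi : r i = none) :
    linGr k r (X i) = 0 := by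
  rw [linGr_apply, aeval_X, varImg, hi]; rfl

lemma linGr_surjective (r : Fin (N + 1) → Option (Fin (n + 1))) (ι : Fin (n + 1) → Fin (N + 1))
    (hr : ∀ j, r (ι j) = some j) : Function.Surjective (linGr k r) := by
  intro p
  refine ⟨rename ι p, ?_⟩
  rw [linGr_apply, aeval_rename]
  have : varImg k r ∘ ι = X := by
    ext j
    simp [varImg, hr]
  rw [this, aeval_X_left_apply]

lemma linGr_zero_comp (r : Fin (N + 1) → Option (Fin (n + 1))) :
    CommRingCat.ofHom (algebraMap k (CohB1.polyGrading N k 0)) ≫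
      CommRingCat.ofHom (linGr k r).gradedZeroRingHom =
    CommRingCat.ofHom (algebraMap k (CohB1.polyGrading n k 0)) := by
  refine CommRingCat.hom_ext (RingHom.ext fun c => Subtype.ext ?_)
  change linGr k r (algebraMap k (MvPolynomial (Fin (N + 1)) k) c) = algebraMap k (MvPolynomial (Fin (n + 1)) k) c
  rw [linGr_apply]
  simp

/-- the linear embedding `P^n ⟶ P^N` -/
noncomputable def linEmb (r : Fin (N + 1) → Option (Fin (n + 1))) (ι : Fin (n + 1) → Fin (N + 1))
    (hr : ∀ j, r (ι j) = some j) : CohB1.ProjSpace n k ⟶ CohB1.ProjSpace N k :=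
  Proj.map (linGr k r) (irrelevant_le_map_of_surjective _ (linGr_surjective k r ι hr))

instance linEmb_isClosedImmersion (r : Fin (N + 1) → Option (Fin (n + 1)))
    (ι : Fin (n + 1) → Fin (N + 1)) (hr : ∀ j, r (ι j) = some j) :
    IsClosedImmersion (linEmb k r ι hr) :=
  Groth.Agent.Lib.Helper5.isClosedImmersion_map _ (linGr_surjective k r ι hr) _

lemma linEmb_toSpec (r : Fin (N + 1) → Option (Fin (n + 1)))
    (ι : Fin (n + 1) → Fin (N + 1)) (hr : ∀ j, r (ι j) = some j) :
    linEmb k r ι hr ≫ CohB1.ProjSpace.toSpec N k = CohB1.ProjSpace.toSpec n k := by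
  change (Proj.map (linGr k r) (irrelevant_le_map_of_surjective _ (linGr_surjective k r ι hr)) :
      Proj (CohB1.polyGrading n k) ⟶ Proj (CohB1.polyGrading N k)) ≫
      (Proj.toSpecZero (CohB1.polyGrading N k) ≫
        Spec.map (CommRingCat.ofHom (algebraMap k (CohB1.polyGrading N k 0)))) =
    Proj.toSpecZero (CohB1.polyGrading n k) ≫
      Spec.map (CommRingCat.ofHom (algebraMap k (CohB1.polyGrading n k 0)))
  rw [← Category.assoc, Groth.Agent.Lib.Helper74.RelProjLib.map_toSpecZero, Category.assoc,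
    ← Spec.map_comp, linGr_zero_comp]

lemma linEmb_notMem_basicOpen (r : Fin (N + 1) → Option (Fin (n + 1)))
    (ι : Fin (n + 1) → Fin (N + 1)) (hr : ∀ j, r (ι j) = some j) (i : Fin (N + 1))
    (hi : r i = none) (p : CohB1.ProjSpace n k) :
    (linEmb k r ι hr).base p ∉ Proj.basicOpen (CohB1.polyGrading N k) (X i) := by
  intro hp
  have h1 : (show Proj (CohB1.polyGrading n k) from p) ∈
      (Proj.map (linGr k r) (irrelevant_le_map_of_surjective _ (linGr_surjective k r ι hr)) :
        Proj (CohB1.polyGrading n k) ⟶ Proj (CohB1.polyGrading N k)) ⁻¹ᵁ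
        Proj.basicOpen (CohB1.polyGrading N k) (X i) := hp
  rw [Proj.map_preimage_basicOpen, linGr_X_none k r i hi, Proj.basicOpen_zero] at h1
  exact h1

lemma exists_mem_basicOpen_X (P : CohB1.ProjSpace N k) :
    ∃ i : Fin (N + 1), P ∈ Proj.basicOpen (CohB1.polyGrading N k) (X i) := by
  have h := (Groth.Agent.Lib.Helper5.iSup_basicOpen_eq_top_iff (CohB1.polyGrading N k)
    (fun i : Fin (N + 1) => (X i : MvPolynomial (Fin (N + 1)) k))
    (fun i => ⟨1, (mem_homogeneousSubmodule 1 _).mpr (isHomogeneous_X _ _)⟩)).mpr ?_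
  · have hP : P ∈ (⨆ i, Proj.basicOpen (CohB1.polyGrading N k) (X i : MvPolynomial (Fin (N + 1)) k)) := by
      rw [h]; trivial
    exact TopologicalSpace.Opens.mem_iSup.mp hP
  · refine (Groth.Agent.Lib.Helper93.ProjOverIso.irrelevant_le_span_X N k).trans ?_
    rw [Set.image_univ]
    exact Ideal.le_radical

end linear


/-- Let k be a field, and let X₁ and X₂ be k-schemes with closed immersions i₁ : X₁ → P^n_k and i₂ : X₂
→ P^m_k over k. Then there is a closed immersion of the disjoint union X₁ ⨿ X₂ into P^{n+m+1}_k over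
k, that is, compatible with the structure morphism of the coproduct induced by those of X₁ and X₂.
(Stated as the step of the published proof showing that a disjoint union of two projective k-schemes
is projective.) -/
theorem result (k : Type u) [Field k] (n m : ℕ)
    (X₁ X₂ : Scheme.{u}) [X₁.Over (Spec (CommRingCat.of k))] [X₂.Over (Spec (CommRingCat.of k))]
    (i₁ : X₁ ⟶ CohB1.ProjSpace n k) [IsClosedImmersion i₁] (h₁ : i₁ ≫ CohB1.ProjSpace.toSpec n k = X₁ ↘ (Spec (CommRingCat.of k)))
    (i₂ : X₂ ⟶ CohB1.ProjSpace m k) [IsClosedImmersion i₂] (h₂ : i₂ ≫ CohB1.ProjSpace.toSpec m k = X₂ ↘ (Spec (CommRingCat.of k))) :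
    ∃ j : X₁ ⨿ X₂ ⟶ CohB1.ProjSpace (n + m + 1) k, IsClosedImmersion j ∧
      j ≫ CohB1.ProjSpace.toSpec (n + m + 1) k = coprod.desc (X₁ ↘ (Spec (CommRingCat.of k))) (X₂ ↘ (Spec (CommRingCat.of k))) := by
  -- the two coordinate projections
  let r₁ : Fin (n + m + 1 + 1) → Option (Fin (n + 1)) :=
    fun i => if h : i.val < n + 1 then some ⟨i.val, h⟩ else none
  let ι₁ : Fin (n + 1) → Fin (n + m + 1 + 1) := fun j => ⟨j.val, by omega⟩
  have hr₁ : ∀ j, r₁ (ι₁ j) = some j := by
    intro j
    simp only [r₁, ι₁]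
    rw [dif_pos j.isLt]
  let r₂ : Fin (n + m + 1 + 1) → Option (Fin (m + 1)) :=
    fun i => if h : n + 1 ≤ i.val then some ⟨i.val - (n + 1), by omega⟩ else none
  let ι₂ : Fin (m + 1) → Fin (n + m + 1 + 1) := fun j => ⟨n + 1 + j.val, by omega⟩
  have hr₂ : ∀ j, r₂ (ι₂ j) = some j := by
    intro j
    simp only [r₂, ι₂]
    rw [dif_pos (by omega)]
    congr 1
    apply Fin.ext
    simp
  let e₁ := linEmb k r₁ ι₁ hr₁
  let e₂ := linEmb k r₂ ι₂ hr₂
  have hdis : Disjoint (Set.range (i₁ ≫ e₁).base) (Set.range (i₂ ≫ e₂).base) := by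
    rw [Set.disjoint_iff_forall_ne]
    rintro _ ⟨a, rfl⟩ _ ⟨b, rfl⟩ hab
    obtain ⟨i, hi⟩ := exists_mem_basicOpen_X k ((i₁ ≫ e₁).base a)
    by_cases hlt : i.val < n + 1
    · -- then r₂ i = none
      have hr : r₂ i = none := by
        simp only [r₂]
        rw [dif_neg (by omega)]
      rw [hab] at hi
      exact linEmb_notMem_basicOpen k r₂ ι₂ hr₂ i hr (i₂.base b) hi
    · have hr : r₁ i = none := by
        simp only [r₁]
        rw [dif_neg hlt]
      exact linEmb_notMem_basicOpen k r₁ ι₁ hr₁ i hr (i₁.base a) hi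
  refine ⟨coprod.desc (i₁ ≫ e₁) (i₂ ≫ e₂), isClosedImmersion_coprod_desc _ _ hdis, ?_⟩
  apply coprod.hom_ext
  · rw [coprod.inl_desc_assoc, coprod.inl_desc, Category.assoc, linEmb_toSpec, h₁]
  · rw [coprod.inr_desc_assoc, coprod.inr_desc, Category.assoc, linEmb_toSpec, h₂]

end Groth.Agent.S14066
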