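import Groth.Statements.S14068
-- import your own Groth.Agent.* helpers here
import Groth.Agent.Lib.Helper51.MS2Main
import Groth.Agent.Lib.Helper54.MS2MA

set_option autoImplicit false
universe u
open CategoryTheory AlgebraicGeometry
open FamCyc

namespace Groth.Agent.S14068

/-- Let g : S' ⟶ S be a smooth morphism and q : B' ⟶ S' a flat morphism locally of finite presentation.
Then the family of base changes Z ×_{S'} B' ⟶ B' of all immersions j : Z ⟶ S' with Z étale over S is
schematically dominant: a section of the structure sheaf of B' over an open V whose pullback along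
every member of the family is zero is itself zero. -/
theorem result {S S' B' : Scheme.{u}} (g : S' ⟶ S) [Smooth g]
    (q : B' ⟶ S') [Flat q] [LocallyOfFinitePresentation q] (V : B'.Opens) (t : Γ(B', V))
    (h : ∀ (Z : Scheme.{u}) (j : Z ⟶ S'), IsImmersion j → Etale (j ≫ g) →
      (Limits.pullback.snd j q).app V t = 0) : t = 0 := by
  exact Groth.Agent.Lib.Helper51.MS2.eq_zero_of_forall_baseChange
    (fun t ht => Groth.Agent.Lib.Helper51.MS2.concl_general_aux
      Groth.Agent.Lib.Helper54.MS2MA.exists_premodel t ht) g q V t h

end Groth.Agent.S14068
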