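import Groth.Statements.S3386
import Groth.Agent.Lib.Helper73.DimFormula.AffineSpaceQF

set_option autoImplicit false
open CategoryTheory AlgebraicGeometry
universe u
open EGA43

namespace Groth.Agent.S3386

open CategoryTheory.Limits in
/-- Conditions a) and b): let f : X ⟶ Y be locally of finite type and fix a point x of X. Condition a)
is equidimensionality of f at x (the definition used here); condition b): there are a natural number
e, an open neighbourhood U of x and a Y-morphism g from U to the affine space of dimension e over Y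
which is locally quasi-finite and sends the generic point of every irreducible component of U to the
generic point of an irreducible component of the affine space. Then a) implies b); and b) implies a)
when Y is locally Noetherian. (The source states the equivalence over an arbitrary base; the
implication b) ⟹ a) uses that irreducible components are locally finite and fails without some such
hypothesis.) -/
theorem result {X Y : Scheme.{u}}
    (f : X ⟶ Y) [LocallyOfFiniteType f] (x : X) :
    (EGA43.IsEquidimAt f x → (∃ (e : ℕ) (U : X.Opens) (g : (U : Scheme.{u}) ⟶ 𝔸(ULift.{u} (Fin e); Y)),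
        x ∈ U ∧ g ≫ (𝔸(ULift.{u} (Fin e); Y) ↘ Y) = U.ι ≫ f ∧ LocallyQuasiFinite g ∧
        ∀ Z ∈ irreducibleComponents (↥U : Type u),
          closure (g.base '' Z) ∈ irreducibleComponents (↥𝔸(ULift.{u} (Fin e); Y) : Type u))) ∧
    (IsLocallyNoetherian Y → (∃ (e : ℕ) (U : X.Opens) (g : (U : Scheme.{u}) ⟶ 𝔸(ULift.{u} (Fin e); Y)),
        x ∈ U ∧ g ≫ (𝔸(ULift.{u} (Fin e); Y) ↘ Y) = U.ι ≫ f ∧ LocallyQuasiFinite g ∧
        ∀ Z ∈ irreducibleComponents (↥U : Type u),
          closure (g.base '' Z) ∈ irreducibleComponents (↥𝔸(ULift.{u} (Fin e); Y) : Type u)) → EGA43.IsEquidimAt f x) := by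
  open Groth.Agent.Lib.Helper73 in
  constructor
  · intro h
    obtain ⟨e, U₀, hxU₀, hA, hB⟩ := (isEquidimAt_iff f x).mp h
    have hfd : FlatMor.fibreDimAt f x = ((e : ℕ) : WithBot ℕ∞) :=
      fibreDimAt_eq_of_forall_maximal f x e
        (fun ζ hζx _ hζmax => hB ζ (hζx.mem_open U₀.isOpen hxU₀) hζmax)
    obtain ⟨U, g, hxU, hUU₀, hgover, hgQF⟩ :=
      exists_locallyQuasiFinite_toAffineSpace f x e hfd.le U₀ hxU₀
    refine ⟨e, U, g, hxU, hgover, hgQF, ?_⟩
    intro Z hZ
    have hglft : LocallyOfFiniteType g := by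
      have : LocallyOfFiniteType (g ≫ (𝔸(ULift.{u} (Fin e); Y) ↘ Y)) := by
        rw [hgover]; infer_instance
      exact locallyOfFiniteType_of_comp g (𝔸(ULift.{u} (Fin e); Y) ↘ Y)
    let Z' : Set ↥(U : Scheme.{u}) := Z
    have hZ' : Z' ∈ irreducibleComponents ↥(U : Scheme.{u}) := hZ
    obtain ⟨ξ', hξ'Z, hξ'max⟩ := exists_maximal_of_mem_irreducibleComponents Z' hZ'
    have hξmax : ∀ t : X, t ⤳ U.ι ξ' → t = U.ι ξ' := by
      intro t ht
      have htU : t ∈ Set.range U.ι := ht.mem_open U.ι.isOpenEmbedding.isOpen_range ⟨ξ', rfl⟩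
      obtain ⟨t', rfl⟩ := htU
      rw [hξ'max t' (U.ι.isOpenEmbedding.isInducing.specializes_iff.mp ht)]
    have hξU₀ : U.ι ξ' ∈ U₀ := hUU₀ ξ'.2
    obtain ⟨hηmax, -⟩ := hA _ hξU₀ hξmax
    have hr : resTrdegNat f (U.ι ξ') = e := hB _ hξU₀ (fun t ht _ => hξmax t ht)
    have h1 : resTrdegNat (U.ι ≫ f) ξ' = e := by
      rw [resTrdegNat_comp_of_isOpenImmersion]; exact hr
    have h2 : resTrdegNat (𝔸(ULift.{u} (Fin e); Y) ↘ Y) (g ξ') = Nat.card (ULift.{u} (Fin e)) := by
      have := resTrdegNat_comp g (𝔸(ULift.{u} (Fin e); Y) ↘ Y) ξ'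
      rw [resTrdegNat_eq_zero_of_locallyQuasiFinite g ξ', add_zero,
        resTrdegNat_congr hgover, h1] at this
      rw [natCard_ulift_fin]
      exact this.symm
    have h3 := maximal_fiber_of_resTrdegNat_affineSpace_eq _ Y (g ξ') h2
    have h4 : (𝔸(ULift.{u} (Fin e); Y) ↘ Y) (g ξ') = f (U.ι ξ') := by
      rw [← Scheme.Hom.comp_apply, hgover, Scheme.Hom.comp_apply]
    have h5 := maximal_affineSpace_of_maximal_fiber _ Y (g ξ') h3 (by rw [h4]; exact hηmax)
    have h6 : closure (g.base '' Z) = closure ({g ξ'} : Set ↥𝔸(ULift.{u} (Fin e); Y)) := by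
      change closure (g '' Z') = _
      rw [← hξ'Z]
      exact closure_image_closure_singleton g ξ'
    rw [h6]
    exact closure_singleton_mem_irreducibleComponents_of_maximal _ h5
  · rintro hLN ⟨e, U, g, hxU, hgover, hgQF, hcomp⟩
    have hglft : LocallyOfFiniteType g := by
      have : LocallyOfFiniteType (g ≫ (𝔸(ULift.{u} (Fin e); Y) ↘ Y)) := by
        rw [hgover]; infer_instance
      exact locallyOfFiniteType_of_comp g (𝔸(ULift.{u} (Fin e); Y) ↘ Y)
    apply isEquidimAt_of_forall_maximal f x e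
    · have h1 := fibreDimAt_comp_le g (𝔸(ULift.{u} (Fin e); Y) ↘ Y) 0 e
        (fun w => by
          have := resTrdegNat_affineSpace_le (ULift.{u} (Fin e)) Y w
          rwa [natCard_ulift_fin] at this) ⟨x, hxU⟩
        (fun η _ => by
          have := (quasiFiniteAt_iff_fibreDimAt_le_zero g η).mp (g.quasiFiniteAt η)
          exact_mod_cast this)
      rw [zero_add] at h1
      have h2 := fibreDimAt_eq_of_isOpenImmersion_square U.ι (𝟙 Y) (U.ι ≫ f) f
        (by rw [Category.comp_id]) ⟨x, hxU⟩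
      have h3 : FlatMor.fibreDimAt (U.ι ≫ f) ⟨x, hxU⟩ =
          FlatMor.fibreDimAt (g ≫ (𝔸(ULift.{u} (Fin e); Y) ↘ Y)) ⟨x, hxU⟩ := by
        congr 1
        exact hgover.symm
      change FlatMor.fibreDimAt f (U.ι ⟨x, hxU⟩) ≤ _
      rw [← h2, h3]
      exact h1
    · intro ξ hξx hξmax
      have hξU : ξ ∈ U := hξx.mem_open U.isOpen hxU
      let ξ' : ↥(U : Scheme.{u}) := ⟨ξ, hξU⟩
      have hξ'max : ∀ t : ↥(U : Scheme.{u}), t ⤳ ξ' → t = ξ' := by
        intro t ht
        apply U.ι.isOpenEmbedding.injective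
        exact hξmax _ (ht.map U.ι.continuous)
      have h1 := hcomp _ (closure_singleton_mem_irreducibleComponents_of_maximal ξ' hξ'max)
      obtain ⟨-, hθmax⟩ := maximal_image_of_closure_image_mem_irreducibleComponents g ξ' _ h1 rfl
      have h4 : (𝔸(ULift.{u} (Fin e); Y) ↘ Y) (g ξ') = f ξ := by
        rw [← Scheme.Hom.comp_apply, hgover, Scheme.Hom.comp_apply]
        rfl
      refine ⟨?_, ?_⟩
      · rw [← h4]
        exact maximal_image_of_maximal_affineSpace _ Y (g ξ') hθmax
      · have h5 := resTrdegNat_affineSpace_eq_of_maximal (ULift.{u} (Fin e)) Y (g ξ')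
          (fun t ht _ => hθmax t ht)
        rw [natCard_ulift_fin] at h5
        have h6 := resTrdegNat_comp g (𝔸(ULift.{u} (Fin e); Y) ↘ Y) ξ'
        rw [resTrdegNat_eq_zero_of_locallyQuasiFinite g ξ', add_zero,
          resTrdegNat_congr hgover, resTrdegNat_comp_of_isOpenImmersion, h5] at h6
        exact h6

end Groth.Agent.S3386
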