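import Groth.Statements.S14070
import Groth.Agent.Lib.Helper22.ChevalleyNN
import Groth.Agent.Lib.Helper73.DimFormula.EquidimAt
import Groth.Agent.Lib.Helper73.DimFormula.GenericFibre
import Groth.Agent.Lib.Helper73.DimFormula.QuasiSection
import Groth.Agent.S3386

set_option autoImplicit false
open CategoryTheory AlgebraicGeometry
universe u
open FamCyc

namespace Groth.Agent.S14070

open Groth.Agent.Lib.Helper22.ChevalleyNN Groth.Agent.Lib.Helper87 Groth.Agent.Lib.Helper73

/-- Let S be a scheme all of whose local rings are geometrically unibranch and which has only finitely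
many irreducible components, and let f : X ⟶ S be a morphism locally of finite type such that every
point x of X lies on an irreducible component W of X (given its reduced subscheme structure) with W
⟶ S equidimensional at x. Then f is universally open. (No Noetherian hypothesis on S: finiteness of
its set of irreducible components is what is used, and the statement fails without it.) -/
theorem result {X S : Scheme.{u}}
    (hS : ∀ s : S, CAlg2.IsGeomUnibranch (S.presheaf.stalk s))
    (hfin : (irreducibleComponents (S : Type u)).Finite)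
    (f : X ⟶ S) [LocallyOfFiniteType f]
    (hT : ∀ x : X, ∃ W : TopologicalSpace.Closeds X, (W : Set X) ∈ irreducibleComponents (X : Type u) ∧
      ∃ w : ↥((Scheme.IdealSheafData.vanishingIdeal W).subscheme),
        (Scheme.IdealSheafData.vanishingIdeal W).subschemeι.base w = x ∧
        EGA43.IsEquidimAt ((Scheme.IdealSheafData.vanishingIdeal W).subschemeι ≫ f) w) :
    UniversallyOpen f := by
  apply UnivOpenAtSpecialize.universallyOpen_of_forall_isUnivOpenAt
  intro x
  obtain ⟨W, hW, w, hwx, heq⟩ := hT x
  let I := Scheme.IdealSheafData.vanishingIdeal W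
  have hrange : Set.range I.subschemeι = (W : Set X) := by
    rw [Scheme.IdealSheafData.range_subschemeι, Scheme.IdealSheafData.coe_support_vanishingIdeal]
  -- the generic point of W
  have hWirr : IsIrreducible (W : Set X) := hW.1
  have hη := hWirr.isGenericPoint_genericPoint_closure
  rw [W.isClosed.closure_eq] at hη
  obtain ⟨ξ, hξ⟩ : hWirr.genericPoint ∈ Set.range I.subschemeι := by
    rw [hrange]; exact hη.mem
  have hξsp : ∀ t : I.subscheme, ξ ⤳ t := by
    intro t
    rw [← I.subschemeι.isEmbedding.isInducing.specializes_iff, hξ, specializes_iff_mem_closure,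
      hη.def, ← hrange]
    exact ⟨t, rfl⟩
  obtain ⟨e, U, g, hwU, hgover, hgqf, hcomp⟩ :=
    (Groth.Agent.S3386.result (I.subschemeι ≫ f) w).1 heq
  haveI := hgqf
  haveI : LocallyOfFiniteType g := by
    have : LocallyOfFiniteType (g ≫ (𝔸(ULift.{u} (Fin e); S) ↘ S)) := by
      rw [hgover]; infer_instance
    exact locallyOfFiniteType_of_comp g (𝔸(ULift.{u} (Fin e); S) ↘ S)
  have hξU : ξ ∈ U := (hξsp w).mem_open U.isOpen hwU
  haveI : IrreducibleSpace ↥(U : Scheme.{u}) := by
    apply irreducibleSpace_of_forall_specializes (W := ↥(U : Scheme.{u}))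
      (⟨ξ, hξU⟩ : ↥(U : Scheme.{u}))
    intro t
    exact (U.ι.isOpenEmbedding.isInducing.specializes_iff
      (x := (⟨ξ, hξU⟩ : ↥(U : Scheme.{u}))) (y := t)).mp (hξsp t.1)
  have hgen : ∀ ζ : ↥(U : Scheme.{u}), (∀ t : ↥(U : Scheme.{u}), t ⤳ ζ → t = ζ) →
      ∀ t : 𝔸(ULift.{u} (Fin e); S), t ⤳ g ζ → t = g ζ := by
    intro ζ hζ t ht
    have h1 := hcomp _ (closure_singleton_mem_irreducibleComponents_of_maximal ζ hζ)
    rw [closure_image_closure_singleton g ζ] at h1
    exact UnivOpenAtChart.eq_of_mem_genericPoints h1 ht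
  let wU : ↥(U : Scheme.{u}) := ⟨w, hwU⟩
  obtain ⟨V, hV, hsV, hVirr⟩ := exists_irreducible_affine_nhd hS hfin (f x)
  have hwV : (𝔸(ULift.{u} (Fin e); S) ↘ S) (g wU) ∈ V := by
    rw [← Scheme.Hom.comp_apply, hgover, Scheme.Hom.comp_apply, Scheme.Hom.comp_apply]
    show f (I.subschemeι w) ∈ V
    rw [hwx]; exact hsV
  have key := isUnivOpenAt_of_chart hS (ULift.{u} (Fin e)) g hgen wU hV hVirr hwV
  have h2 : EGA43.IsUnivOpenAt (g ≫ (𝔸(ULift.{u} (Fin e); S) ↘ S)) wU :=
    Groth.Agent.S4925.result g _ _ key (UnivOpenAtChart.isUnivOpenAt_of_universallyOpen _ _)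
  rw [hgover, ← Category.assoc] at h2
  have h3 := Groth.Agent.S4926.result (U.ι ≫ I.subschemeι) f wU h2
  have h4 : (U.ι ≫ I.subschemeι) wU = x := by
    rw [Scheme.Hom.comp_apply]; exact hwx
  rwa [h4] at h3

end Groth.Agent.S14070
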