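import Groth.Statements.S14074
import Groth.Agent.Lib.Helper2.SmoothTor
import Groth.Agent.Lib.Helper12.StalkTor

set_option autoImplicit false
open CategoryTheory AlgebraicGeometry
universe u
attribute [local instance] HasDerivedCategory.standard
open FamCyc

namespace Groth.Agent.S14074

open Groth.Agent.Lib.Helper2.SmoothTor Groth.Agent.Lib.Helper12.StalkTor
  Groth.Agent.Lib.Helper84.FlatAmp DRing

/-- the complex of stalks of a module placed in degree `0` is the stalk placed in degree `0` -/
noncomputable def stalkSingleIso {X B : Scheme.{u}} (φ : X ⟶ B) (x : X) (F : X.Modules) :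
    DRing.toD ((DerSch.stalkCxOver φ x).obj
      ((HomologicalComplex.single X.Modules (ComplexShape.up ℤ) 0).obj F)) ≅
      (DerivedCategory.singleFunctor (ModuleCat.{u} (B.presheaf.stalk (φ.base x))) 0).obj
        ((DerSch.stalkOver φ x).obj F) :=
  DerivedCategory.Q.mapIso ((HomologicalComplex.singleMapHomologicalComplex
    (DerSch.stalkOver φ x) (ComplexShape.up ℤ) 0).app F) ≪≫
    ((DerivedCategory.singleFunctorIsoCompQ _ 0).app _).symm

theorem germ_square {B S : Scheme.{u}} (h : B ⟶ S) (W : S.Opens) (V : B.Opens)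
    (e : V ≤ h ⁻¹ᵁ W) (y : B) (hyV : y ∈ V) :
    (h.stalkMap y).hom.comp (S.presheaf.germ W (h.base y) (e hyV)).hom =
      (B.presheaf.germ V y hyV).hom.comp (h.appLE W V e).hom := by
  rw [← CommRingCat.hom_comp, ← CommRingCat.hom_comp, Scheme.Hom.germ_stalkMap,
    Scheme.Hom.appLE, Category.assoc, B.presheaf.germ_res]


/-- Let h : B ⟶ S be a smooth morphism, φ : X ⟶ B a morphism locally of finite type and F a
quasi-coherent O_X-module of pointwise finite tor dimension over S, i.e. at every point x of X the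
stalk F_x is, over the local ring of S below x, isomorphic in the derived category to a bounded
complex of flat modules. Then F has finite tor dimension over B pointwise in the same sense. -/
theorem result {X B S : Scheme.{u}} (h : B ⟶ S) [Smooth h]
    (φ : X ⟶ B) [LocallyOfFiniteType φ] (F : X.Modules) (hF : Coh.IsQCoh F)
    (hS : ∀ x : X, ∃ a b : ℤ,
      DerSch.HasTorAmplitudeAt (φ ≫ h) a b ((HomologicalComplex.single X.Modules (ComplexShape.up ℤ) 0).obj F) x) :
    ∀ x : X, ∃ a b : ℤ,
      DerSch.HasTorAmplitudeAt φ a b ((HomologicalComplex.single X.Modules (ComplexShape.up ℤ) 0).obj F) x := by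
  intro x
  obtain ⟨a, b, hab⟩ := hS x
  obtain ⟨W, hW, V, hV, hyV, e, hst⟩ := Smooth.exists_isStandardSmooth h (φ.base x)
  obtain ⟨n, hn⟩ := exists_torAmp_of_standardSmooth_local _ hst
  have h1 := torAmp_of_iso hab (stalkSingleIso (φ ≫ h) x F)
  have h2 := torAmp_of_iso h1 ((DerivedCategory.singleFunctor _ 0).mapIso
    ((stalkOverCompIso φ h x).app F).symm)
  obtain ⟨d, hd⟩ := exists_torAmp_neg _ a b h2
  have hloc := hV.isLocalization_stalk ⟨φ.base x, hyV⟩
  have hlocW := hW.isLocalization_stalk ⟨h.base (φ.base x), e hyV⟩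
  have hflat : (S.presheaf.germ W (h.base (φ.base x)) (e hyV)).hom.Flat := by
    letI := TopCat.Presheaf.algebra_section_stalk S.presheaf
      (⟨h.base (φ.base x), e hyV⟩ : W)
    haveI := hlocW
    exact IsLocalization.flat _ (hW.primeIdealOf ⟨h.base (φ.base x), e hyV⟩).asIdeal.primeCompl
  have h3 := hn (S.presheaf.germ W (h.base (φ.base x)) (e hyV)).hom
    (B.presheaf.germ V (φ.base x) hyV).hom (h.stalkMap (φ.base x)).hom
    (germ_square h W V e (φ.base x) hyV) hflat _ hloc ((DerSch.stalkOver φ x).obj F) d hd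
  exact ⟨_, _, torAmp_of_iso h3 (stalkSingleIso φ x F).symm⟩

end Groth.Agent.S14074
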