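import Groth.Statements.S14079
import Groth.Agent.Lib.Helper73.DimFormula.IrrEq

set_option autoImplicit false
open CategoryTheory AlgebraicGeometry
universe u
open FamCyc

namespace Groth.Agent.S14079

/-- (iv) ⇒ (iii): let f : X ⟶ S be locally of finite type. Suppose that every point x of X which is a
maximal point of its fibre (no other point of the fibre over f x specializes to x) lies on an
irreducible component W of X, given its reduced subscheme structure, with W ⟶ S equidimensional at
x. Then every point of X lies on such an irreducible component. -/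
theorem result {X S : Scheme.{u}} (f : X ⟶ S) [LocallyOfFiniteType f]
    (h : ∀ x : X, (∀ x' : X, f.base x' = f.base x → x ∈ closure ({x'} : Set X) → x' = x) →
      ∃ W : TopologicalSpace.Closeds X, (W : Set X) ∈ irreducibleComponents (X : Type u) ∧
      ∃ w : ↥((Scheme.IdealSheafData.vanishingIdeal W).subscheme),
        (Scheme.IdealSheafData.vanishingIdeal W).subschemeι.base w = x ∧
        EGA43.IsEquidimAt ((Scheme.IdealSheafData.vanishingIdeal W).subschemeι ≫ f) w)
    (x : X) :
    ∃ W : TopologicalSpace.Closeds X, (W : Set X) ∈ irreducibleComponents (X : Type u) ∧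
      ∃ w : ↥((Scheme.IdealSheafData.vanishingIdeal W).subscheme),
        (Scheme.IdealSheafData.vanishingIdeal W).subschemeι.base w = x ∧
        EGA43.IsEquidimAt ((Scheme.IdealSheafData.vanishingIdeal W).subschemeι ≫ f) w := by
  open Groth.Agent.Lib.Helper73 in
  obtain ⟨z, hzx, hfz, hzmax, hd⟩ := exists_maximal_fiber_resTrdegNat_eq_fibreDimAt f x
  obtain ⟨W, hW, wz, hwz, hEz⟩ := h z (fun x' hfx' hcl =>
    hzmax x' (specializes_iff_mem_closure.mpr hcl) hfx')
  obtain ⟨ξ, hξW, hξmax⟩ := exists_maximal_of_mem_irreducibleComponents (W : Set X) hW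
  have hrange : Set.range (Scheme.IdealSheafData.vanishingIdeal W).subschemeι
      = closure ({ξ} : Set X) := by
    rw [Scheme.IdealSheafData.range_subschemeι, hξW]
    exact Scheme.IdealSheafData.coe_support_vanishingIdeal W
  obtain ⟨ξ'', hξ'', hgen⟩ := exists_generic_of_range_eq_closure _ ξ hrange
  have hxr : x ∈ Set.range (Scheme.IdealSheafData.vanishingIdeal W).subschemeι := by
    rw [hrange]
    have : ξ ⤳ z := by
      rw [← hξ'', ← hwz]
      exact (hgen wz).map (Scheme.Hom.continuous _)
    exact specializes_iff_mem_closure.mp (this.trans hzx)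
  obtain ⟨wx, hwx⟩ := hxr
  refine ⟨W, hW, wx, hwx, ?_⟩
  apply isEquidimAt_comp_of_fibreDimAt_le _ f ξ'' hgen wz wx hEz
  rw [hwx, hwz, hd]

end Groth.Agent.S14079
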