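import Groth.Statements.S14075
import Groth.Agent.S14079
import Groth.Agent.Lib.Helper22.UnivOpenDim
import Groth.Agent.Lib.Helper87.UnivOpenAtChart

set_option autoImplicit false
open CategoryTheory AlgebraicGeometry
universe u
open FamCyc

namespace Groth.Agent.S14075

open Groth.Agent.Lib.Helper73 Groth.Agent.Lib.Helper22.UnivOpenDim in
set_option backward.isDefEq.respectTransparency false in
/-- Let f : X ⟶ S be locally of finite type and universally open. Then every point x of X lies on an
irreducible component W of X, given its reduced subscheme structure, such that W ⟶ S is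
equidimensional at x. -/
theorem result {X S : Scheme.{u}} (f : X ⟶ S) [LocallyOfFiniteType f]
    [UniversallyOpen f] (x : X) :
    ∃ W : TopologicalSpace.Closeds X, (W : Set X) ∈ irreducibleComponents (X : Type u) ∧
      ∃ w : ↥((Scheme.IdealSheafData.vanishingIdeal W).subscheme),
        (Scheme.IdealSheafData.vanishingIdeal W).subschemeι.base w = x ∧
        EGA43.IsEquidimAt ((Scheme.IdealSheafData.vanishingIdeal W).subschemeι ≫ f) w := by
  refine Groth.Agent.S14079.result f ?_ x
  intro x hmax
  have hopen : EGA43.IsUnivOpenAt f x :=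
    Groth.Agent.Lib.Helper87.UnivOpenAtChart.isUnivOpenAt_of_universallyOpen f x
  have hb' : ∀ U : X.Opens, x ∈ U → ∀ y' : S, y' ⤳ f.base x →
      FlatMor.fibreDimAt f x ≤ topologicalKrullDim ↥((U : Set X) ∩ f.base ⁻¹' {y'}) :=
    fun U hxU y' hy' => fibreDimAt_le_dim_inter_fibre_of_isUnivOpenAt f x hmax hopen U hxU y' hy'
  obtain ⟨Z, hZ, hxZ, hcl, hdim⟩ := exists_component_of_dim_bound f x hmax hb'
    (irreducibleComponent (f.base x)) (irreducibleComponent_mem_irreducibleComponents _)
    mem_irreducibleComponent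
  have hZc : IsClosed Z := isClosed_of_mem_irreducibleComponents Z hZ
  let W : TopologicalSpace.Closeds X := ⟨Z, hZc⟩
  obtain ⟨ξ, hξZ, hξmax⟩ := exists_maximal_of_mem_irreducibleComponents Z hZ
  have hrange : Set.range (Scheme.IdealSheafData.vanishingIdeal W).subschemeι
      = closure ({ξ} : Set X) := by
    rw [Scheme.IdealSheafData.range_subschemeι, hξZ]
    exact Scheme.IdealSheafData.coe_support_vanishingIdeal W
  obtain ⟨ξ'', hξ'', hgen⟩ := exists_generic_of_range_eq_closure _ ξ hrange
  have hxr : x ∈ Set.range (Scheme.IdealSheafData.vanishingIdeal W).subschemeι := by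
    rw [hrange, hξZ]; exact hxZ
  obtain ⟨w, hw⟩ := hxr
  refine ⟨W, hZ, w, hw, ?_⟩
  rw [isEquidimAt_iff_of_generic _ ξ'' hgen w]
  have hcl' : closure (f '' closure ({ξ} : Set X)) = irreducibleComponent (f.base x) := by
    rw [hξZ]; exact hcl
  obtain ⟨hη, hηmax⟩ := maximal_image_of_closure_image_mem_irreducibleComponents f ξ _
    (irreducibleComponent_mem_irreducibleComponents _) hcl'
  have hfξ'' : ((Scheme.IdealSheafData.vanishingIdeal W).subschemeι ≫ f) ξ'' = f ξ := by
    rw [← hξ'']; rfl
  constructor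
  · rw [hfξ'']; exact hηmax
  · obtain ⟨h1, h2⟩ := hdim (f ξ) hη
    calc FlatMor.fibreDimAt ((Scheme.IdealSheafData.vanishingIdeal W).subschemeι ≫ f) w
        ≤ FlatMor.fibreDimAt f ((Scheme.IdealSheafData.vanishingIdeal W).subschemeι w) :=
          fibreDimAt_comp_le_of_isPreimmersion _ f w
      _ = FlatMor.fibreDimAt f x := by rw [hw]
      _ = topologicalKrullDim ↥(Z ∩ f.base ⁻¹' {f ξ}) := h1.trans h2
      _ ≤ _ := ?_
    have h3 := dim_fibre_inter_eq_iSup f (f ξ) Set.univ Z isOpen_univ hZc
    rw [Set.univ_inter, Set.inter_comm] at h3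
    rw [h3]
    refine iSup_le fun z => ?_
    have hz1 : z.1.1 ∈ Z := z.2.2
    have hz2 : f.base z.1.1 = f ξ := z.1.2
    have h6 : ξ ⤳ z.1.1 := specializes_iff_mem_closure.mpr (hξZ ▸ hz1)
    have h7 := resTrdegNat_le_of_specializes_fiber f z.1.1 ξ h6 hz2.symm
    rw [resTrdegNat_comp_of_isPreimmersion, hξ'']
    exact_mod_cast h7

end Groth.Agent.S14075
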