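import Groth.Statements.S14076
import Groth.Agent.Lib.Helper73.DimFormula.IrrEq

set_option autoImplicit false
open CategoryTheory AlgebraicGeometry
universe u
open FamCyc

namespace Groth.Agent.S14076

/-- Let f : X ⟶ S be locally of finite type and equidimensional at every point of X. Then every point x
of X lies on an irreducible component W of X, given its reduced subscheme structure, such that W ⟶ S
is equidimensional at x. -/
theorem result {X S : Scheme.{u}} (f : X ⟶ S) [LocallyOfFiniteType f]
    (h : ∀ x : X, EGA43.IsEquidimAt f x) (x : X) :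
    ∃ W : TopologicalSpace.Closeds X, (W : Set X) ∈ irreducibleComponents (X : Type u) ∧
      ∃ w : ↥((Scheme.IdealSheafData.vanishingIdeal W).subscheme),
        (Scheme.IdealSheafData.vanishingIdeal W).subschemeι.base w = x ∧
        EGA43.IsEquidimAt ((Scheme.IdealSheafData.vanishingIdeal W).subschemeι ≫ f) w := by
  open Groth.Agent.Lib.Helper73 in
  obtain ⟨ξ, hξx, hξmax⟩ := exists_maximal_specializes x
  let W : TopologicalSpace.Closeds X := ⟨closure {ξ}, isClosed_closure⟩
  have hrange : Set.range (Scheme.IdealSheafData.vanishingIdeal W).subschemeι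
      = closure ({ξ} : Set X) := by
    rw [Scheme.IdealSheafData.range_subschemeι]
    exact Scheme.IdealSheafData.coe_support_vanishingIdeal W
  have hxr : x ∈ Set.range (Scheme.IdealSheafData.vanishingIdeal W).subschemeι := by
    rw [hrange]; exact specializes_iff_mem_closure.mp hξx
  obtain ⟨w, hw⟩ := hxr
  refine ⟨W, closure_singleton_mem_irreducibleComponents_of_maximal ξ hξmax, w, hw, ?_⟩
  apply isEquidimAt_comp_of_maximal _ f ξ hrange hξmax
  rw [hw]
  exact h x

end Groth.Agent.S14076
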