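import Groth.Statements.S14078
import Groth.Agent.Lib.Helper57.EtQF5

set_option autoImplicit false
open CategoryTheory CategoryTheory.Limits AlgebraicGeometry
universe u
open FamCyc

namespace Groth.Agent.S14078

/-- Let f : X ⟶ S be a morphism of schemes locally of finite type, i : Z ⟶ X an immersion such that Z ⟶
S is locally quasi-finite, and z a point of Z. Then there are an étale morphism g : T ⟶ S and an
open subscheme U of X ×_S T such that the preimage U ×_X Z of Z in U is finite over T and contains a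
point u over z whose residue field extension κ(z) → κ(u) is an isomorphism, u being moreover the
only point of U ×_X Z in its fibre over T. (The published statement covers algebraic spaces X, with
U ⟶ X ×_S T étale in general and an open subspace when X is a scheme; this row is the scheme case.) -/
theorem result {Z X S : Scheme.{u}} (f : X ⟶ S)
    [LocallyOfFiniteType f] (i : Z ⟶ X) [IsImmersion i] [LocallyQuasiFinite (i ≫ f)] (z : Z) :
    ∃ (T : Scheme.{u}) (g : T ⟶ S) (U : (pullback f g).Opens)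
      (u : ↥(pullback (U.ι ≫ pullback.fst f g) i)),
      Etale g ∧
      IsFinite (pullback.fst (U.ι ≫ pullback.fst f g) i ≫ U.ι ≫ pullback.snd f g) ∧
      (pullback.snd (U.ι ≫ pullback.fst f g) i).base u = z ∧
      IsIso ((pullback.snd (U.ι ≫ pullback.fst f g) i).residueFieldMap u) ∧
      ∀ u' : ↥(pullback (U.ι ≫ pullback.fst f g) i),
        (pullback.fst (U.ι ≫ pullback.fst f g) i ≫ U.ι ≫ pullback.snd f g).base u' =
          (pullback.fst (U.ι ≫ pullback.fst f g) i ≫ U.ι ≫ pullback.snd f g).base u → u' = u := by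
  classical
  have hq : (i ≫ f).QuasiFiniteAt z := (i ≫ f).quasiFiniteAt z
  obtain ⟨T, g, t, hg, ht, hiso, W, w, hWfin, hwW, hwz, hwt, hWuniq⟩ :=
    Groth.Agent.Lib.Helper57.EtQF.exists_etale_nbhd_split' (i ≫ f) z hq
  -- base change of `i`
  let iT : pullback (i ≫ f) g ⟶ pullback f g :=
    pullback.map (i ≫ f) g f g i (𝟙 T) (𝟙 S) (by simp) (by simp)
  have hiT1 : iT ≫ pullback.fst f g = pullback.fst (i ≫ f) g ≫ i :=
    pullback.lift_fst _ _ _
  have hiT2 : iT ≫ pullback.snd f g = pullback.snd (i ≫ f) g :=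
    (pullback.lift_snd _ _ _).trans (Category.comp_id _)
  have sqi : IsPullback iT (pullback.fst (i ≫ f) g) (pullback.fst f g) i := by
    refine IsPullback.of_right ?_ hiT1 (IsPullback.of_hasPullback f g).flip
    rw [hiT2]
    exact (IsPullback.of_hasPullback (i ≫ f) g).flip
  have hiTimm : IsImmersion iT :=
    MorphismProperty.of_isPullback (P := @IsImmersion) sqi.flip inferInstance
  obtain ⟨U₀, hU₀, hU₀W⟩ := iT.isEmbedding.isInducing.isOpen_iff.mp W.2
  let U : (pullback f g).Opens := ⟨U₀, hU₀⟩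
  have hUW : iT ⁻¹ᵁ U = W := TopologicalSpace.Opens.ext hU₀W
  subst hUW
  have sq1 : IsPullback (iT ∣_ U) (iT ⁻¹ᵁ U).ι U.ι iT := isPullback_morphismRestrict iT U
  have sq : IsPullback (iT ∣_ U) ((iT ⁻¹ᵁ U).ι ≫ pullback.fst (i ≫ f) g)
      (U.ι ≫ pullback.fst f g) i := sq1.paste_vert sqi
  have hθ1 : sq.isoPullback.hom ≫ pullback.fst (U.ι ≫ pullback.fst f g) i = iT ∣_ U :=
    sq.isoPullback_hom_fst
  have hθ2 : sq.isoPullback.hom ≫ pullback.snd (U.ι ≫ pullback.fst f g) i =
      (iT ⁻¹ᵁ U).ι ≫ pullback.fst (i ≫ f) g := sq.isoPullback_hom_snd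
  have hρ : sq.isoPullback.hom ≫ pullback.fst (U.ι ≫ pullback.fst f g) i ≫ U.ι ≫
      pullback.snd f g = (iT ⁻¹ᵁ U).ι ≫ pullback.snd (i ≫ f) g := by
    rw [← Category.assoc, hθ1, ← Category.assoc, morphismRestrict_ι, Category.assoc, hiT2]
  let w' : ↥(iT ⁻¹ᵁ U) := ⟨w, hwW⟩
  have hw'ι : (iT ⁻¹ᵁ U).ι w' = w := rfl
  refine ⟨T, g, U, sq.isoPullback.hom w', hg, ?_, ?_, ?_, ?_⟩
  · rw [← MorphismProperty.cancel_left_of_respectsIso @IsFinite sq.isoPullback.hom, hρ]
    exact hWfin
  · show pullback.snd (U.ι ≫ pullback.fst f g) i (sq.isoPullback.hom w') = z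
    rw [← Scheme.Hom.comp_apply, hθ2, Scheme.Hom.comp_apply, hw'ι, hwz]
  · have h1 : IsIso (((iT ⁻¹ᵁ U).ι ≫ pullback.fst (i ≫ f) g).residueFieldMap w') := by
      rw [Scheme.residueFieldMap_comp]
      have h2 : IsIso ((pullback.fst (i ≫ f) g).residueFieldMap ((iT ⁻¹ᵁ U).ι w')) := by
        rw [hw'ι]
        have : IsIso (g.residueFieldMap (pullback.snd (i ≫ f) g w)) := by rw [hwt]; exact hiso
        have hsurj := Groth.Agent.Lib.Helper57.EtQF.residueFieldMap_fst_surjective
          (f := i ≫ f) (g := g) w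
        rw [ConcreteCategory.isIso_iff_bijective]
        exact ⟨((pullback.fst (i ≫ f) g).residueFieldMap w).hom.injective, hsurj⟩
      exact IsIso.comp_isIso' h2 inferInstance
    have key : ∀ {A B : Scheme.{u}} (φ ψ : A ⟶ B) (_ : φ = ψ) (a : A),
        IsIso (φ.residueFieldMap a) → IsIso (ψ.residueFieldMap a) := by
      rintro A B φ _ rfl a h; exact h
    have h1' := key _ _ hθ2.symm w' h1
    rw [Scheme.residueFieldMap_comp] at h1'
    have h5 : IsIso (sq.isoPullback.hom.residueFieldMap w') := inferInstance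
    exact @IsIso.of_isIso_comp_right _ _ _ _ _ _ (sq.isoPullback.hom.residueFieldMap w') h5 h1'
  · intro u' hu'
    let y : ↥(iT ⁻¹ᵁ U) := sq.isoPullback.inv u'
    have hy : sq.isoPullback.hom y = u' := by
      show sq.isoPullback.hom (sq.isoPullback.inv u') = u'
      rw [← Scheme.Hom.comp_apply, Iso.inv_hom_id]; rfl
    have h1 : ((iT ⁻¹ᵁ U).ι ≫ pullback.snd (i ≫ f) g) y =
        ((iT ⁻¹ᵁ U).ι ≫ pullback.snd (i ≫ f) g) w' := by
      rw [← hρ, Scheme.Hom.comp_apply, Scheme.Hom.comp_apply, hy]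
      exact hu'
    have h2 : y.1 = w := by
      apply hWuniq y.1 y.2
      have h3 : pullback.snd (i ≫ f) g y.1 = pullback.snd (i ≫ f) g w := h1
      rw [h3, hwt]
    have h4 : y = w' := Subtype.ext h2
    rw [← hy, h4]

end Groth.Agent.S14078
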