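import Groth.Statements.S14085
import Groth.Agent.Lib.Helper85.Flat
import Mathlib.RingTheory.Flat.Stability

set_option autoImplicit false
universe u
open FlatMor

namespace Groth.Agent.S14085

open Groth.Agent.Lib.Helper85

theorem result (R A B : Type u) [CommRing R] [CommRing A] [CommRing B]
    [Algebra R A] [Algebra R B] [Module.Flat R A] [Module.Flat R B] (I : Ideal A)
    [Algebra B (A ⧸ I)] [IsScalarTower R B (A ⧸ I)] [Module.Finite B (A ⧸ I)] [Module.Flat B (A ⧸ I)]
    (hinj : Function.Injective (algebraMap B (A ⧸ I))) :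
    Module.Flat R ↥(AlgHom.equalizer ((IsScalarTower.toAlgHom R B (A ⧸ I)).comp (AlgHom.fst R B A))
          ((Ideal.Quotient.mkₐ R I).comp (AlgHom.snd R B A))) := by
  have hQ : Module.Flat R (A ⧸ I) := Module.Flat.trans R B (A ⧸ I)
  have hF : Module.Flat R (B × A) := flat_prod R B A
  let f1 : B × A →ₐ[R] A ⧸ I := (IsScalarTower.toAlgHom R B (A ⧸ I)).comp (AlgHom.fst R B A)
  let f2 : B × A →ₐ[R] A ⧸ I := (Ideal.Quotient.mkₐ R I).comp (AlgHom.snd R B A)
  let d : B × A →ₗ[R] A ⧸ I := f1.toLinearMap - f2.toLinearMap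
  let g : ↥(AlgHom.equalizer f1 f2) →ₗ[R] B × A := (AlgHom.equalizer f1 f2).val.toLinearMap
  have hd : Function.Surjective d := by
    intro z
    obtain ⟨a, rfl⟩ := Ideal.Quotient.mk_surjective z
    refine ⟨(0, -a), ?_⟩
    simp [d, f1, f2]
  have hg : Function.Injective g := Subtype.val_injective
  have H : Function.Exact g d := by
    intro x
    constructor
    · intro hx
      have : f1 x = f2 x := by
        have : f1 x - f2 x = 0 := hx
        exact sub_eq_zero.mp this
      exact ⟨⟨x, this⟩, rfl⟩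
    · rintro ⟨⟨y, hy⟩, rfl⟩
      have : f1 y = f2 y := hy
      change f1 y - f2 y = 0
      rw [this, sub_self]
  exact flat_of_exact_of_flat g d hg hd H

end Groth.Agent.S14085
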