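import Groth.Statements.S14086
import Groth.Agent.Lib.Helper85.Flat
import Mathlib.RingTheory.Flat.Stability

set_option autoImplicit false
universe u
open FlatMor

namespace Groth.Agent.S14086

open Groth.Agent.Lib.Helper85

theorem result (R A B R' : Type u) [CommRing R] [CommRing A]
    [CommRing B] [CommRing R'] [Algebra R A] [Algebra R B] [Algebra R R'] [Module.Flat R A] [Module.Flat R B]
    (I : Ideal A) [Algebra B (A ⧸ I)] [IsScalarTower R B (A ⧸ I)] [Module.Finite B (A ⧸ I)] [Module.Flat B (A ⧸ I)]
    (hinj : Function.Injective (algebraMap B (A ⧸ I))) :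
    Function.Injective (Algebra.TensorProduct.map (AlgHom.id R' R')
        ((AlgHom.snd R B A).comp (AlgHom.equalizer ((IsScalarTower.toAlgHom R B (A ⧸ I)).comp (AlgHom.fst R B A))
          ((Ideal.Quotient.mkₐ R I).comp (AlgHom.snd R B A))).val)) ∧
    ∀ (b : TensorProduct R R' B) (a : TensorProduct R R' A),
      Algebra.TensorProduct.map (AlgHom.id R' R') (IsScalarTower.toAlgHom R B (A ⧸ I)) b =
        Algebra.TensorProduct.map (AlgHom.id R' R') (Ideal.Quotient.mkₐ R I) a →
      ∃ x : TensorProduct R R' ↥(AlgHom.equalizer ((IsScalarTower.toAlgHom R B (A ⧸ I)).comp (AlgHom.fst R B A))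
          ((Ideal.Quotient.mkₐ R I).comp (AlgHom.snd R B A))),
        Algebra.TensorProduct.map (AlgHom.id R' R') ((AlgHom.fst R B A).comp (AlgHom.equalizer ((IsScalarTower.toAlgHom R B (A ⧸ I)).comp (AlgHom.fst R B A))
          ((Ideal.Quotient.mkₐ R I).comp (AlgHom.snd R B A))).val) x = b ∧
        Algebra.TensorProduct.map (AlgHom.id R' R') ((AlgHom.snd R B A).comp (AlgHom.equalizer ((IsScalarTower.toAlgHom R B (A ⧸ I)).comp (AlgHom.fst R B A))
          ((Ideal.Quotient.mkₐ R I).comp (AlgHom.snd R B A))).val) x = a := by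
  have hQ : Module.Flat R (A ⧸ I) := Module.Flat.trans R B (A ⧸ I)
  have hFF : Module.FaithfullyFlat B (A ⧸ I) := faithfullyFlat_of_finite_flat_injective B (A ⧸ I) hinj
  let j : B →ₗ[R] A ⧸ I := (IsScalarTower.toAlgHom R B (A ⧸ I)).toLinearMap
  let mk : A →ₗ[R] A ⧸ I := (Ideal.Quotient.mkₐ R I).toLinearMap
  let f1 : B × A →ₐ[R] A ⧸ I := (IsScalarTower.toAlgHom R B (A ⧸ I)).comp (AlgHom.fst R B A)
  let f2 : B × A →ₐ[R] A ⧸ I := (Ideal.Quotient.mkₐ R I).comp (AlgHom.snd R B A)
  let pfst : B × A →ₗ[R] B := LinearMap.fst R B A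
  let psnd : B × A →ₗ[R] A := LinearMap.snd R B A
  let iinl : B →ₗ[R] B × A := LinearMap.inl R B A
  let iinr : A →ₗ[R] B × A := LinearMap.inr R B A
  let d : B × A →ₗ[R] A ⧸ I := j ∘ₗ pfst - mk ∘ₗ psnd
  let g : ↥(AlgHom.equalizer f1 f2) →ₗ[R] B × A := (AlgHom.equalizer f1 f2).val.toLinearMap
  have hjinj : Function.Injective (LinearMap.lTensor R' j) :=
    lTensor_injective_of_faithfullyFlat R B (A ⧸ I) R'
  have hd : Function.Surjective d := by
    intro z
    obtain ⟨a, rfl⟩ := Ideal.Quotient.mk_surjective z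
    refine ⟨(0, -a), ?_⟩
    simp [d, j, mk, pfst, psnd]
  have hg : Function.Injective g := Subtype.val_injective
  have H : Function.Exact g d := by
    intro x
    constructor
    · intro hx
      have : f1 x = f2 x := by
        have : f1 x - f2 x = 0 := hx
        exact sub_eq_zero.mp this
      exact ⟨⟨x, this⟩, rfl⟩
    · rintro ⟨⟨y, hy⟩, rfl⟩
      have : f1 y = f2 y := hy
      change f1 y - f2 y = 0
      rw [this, sub_self]
  have hginj : Function.Injective (LinearMap.lTensor R' g) :=
    LinearMap.lTensor_injective_of_exact_of_flat d hd g hg H R'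
  have Hex : Function.Exact (LinearMap.lTensor R' g) (LinearMap.lTensor R' d) :=
    lTensor_exact R' H hd
  have hdecomp : ∀ y : TensorProduct R R' (B × A),
      y = LinearMap.lTensor R' iinl (LinearMap.lTensor R' pfst y) +
        LinearMap.lTensor R' iinr (LinearMap.lTensor R' psnd y) := by
    intro y
    have h0 : iinl ∘ₗ pfst + iinr ∘ₗ psnd = LinearMap.id := by
      apply LinearMap.ext
      rintro ⟨b, a⟩
      simp [iinl, iinr, pfst, psnd]
    have : LinearMap.lTensor R' (iinl ∘ₗ pfst + iinr ∘ₗ psnd) y = y := by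
      rw [h0, LinearMap.lTensor_id, LinearMap.id_apply]
    rw [LinearMap.lTensor_add, LinearMap.add_apply, LinearMap.lTensor_comp, LinearMap.lTensor_comp,
      LinearMap.comp_apply, LinearMap.comp_apply] at this
    exact this.symm
  have hdy : ∀ y : TensorProduct R R' (B × A), LinearMap.lTensor R' d y =
      LinearMap.lTensor R' j (LinearMap.lTensor R' pfst y) -
        LinearMap.lTensor R' mk (LinearMap.lTensor R' psnd y) := by
    intro y
    simp only [d, LinearMap.lTensor_sub, LinearMap.sub_apply, LinearMap.lTensor_comp,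
      LinearMap.comp_apply]
  constructor
  · rw [injective_iff_map_eq_zero]
    intro x hx
    have hx' : LinearMap.lTensor R' (psnd ∘ₗ g) x = 0 := hx
    rw [LinearMap.lTensor_comp, LinearMap.comp_apply] at hx'
    set y := LinearMap.lTensor R' g x with hy
    have h1 : LinearMap.lTensor R' d y = 0 := Hex.apply_apply_eq_zero x
    rw [hdy, hx', map_zero, sub_zero] at h1
    have h2 : LinearMap.lTensor R' pfst y = 0 := hjinj (by rw [h1, map_zero])
    have h3 : y = 0 := by
      rw [hdecomp y, h2, hx', map_zero, map_zero, add_zero]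
    exact hginj (by rw [← hy, h3, map_zero])
  · intro b a hba
    have hba' : LinearMap.lTensor R' j b = LinearMap.lTensor R' mk a := hba
    set y := LinearMap.lTensor R' iinl b + LinearMap.lTensor R' iinr a with hy
    have e1 : LinearMap.lTensor R' pfst y = b := by
      rw [hy, map_add, ← LinearMap.comp_apply, ← LinearMap.comp_apply, ← LinearMap.lTensor_comp,
        ← LinearMap.lTensor_comp]
      have h1 : pfst ∘ₗ iinl = LinearMap.id := by
        apply LinearMap.ext; intro b; simp [pfst, iinl]
      have h2 : pfst ∘ₗ iinr = 0 := by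
        apply LinearMap.ext; intro b; simp [pfst, iinr]
      rw [h1, h2, LinearMap.lTensor_id, LinearMap.lTensor_zero]
      simp
    have e2 : LinearMap.lTensor R' psnd y = a := by
      rw [hy, map_add, ← LinearMap.comp_apply, ← LinearMap.comp_apply, ← LinearMap.lTensor_comp,
        ← LinearMap.lTensor_comp]
      have h1 : psnd ∘ₗ iinl = 0 := by
        apply LinearMap.ext; intro b; simp [psnd, iinl]
      have h2 : psnd ∘ₗ iinr = LinearMap.id := by
        apply LinearMap.ext; intro b; simp [psnd, iinr]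
      rw [h1, h2, LinearMap.lTensor_id, LinearMap.lTensor_zero]
      simp
    have h1 : LinearMap.lTensor R' d y = 0 := by
      rw [hdy, e1, e2, hba', sub_self]
    obtain ⟨x, hx⟩ := (Hex y).mp h1
    refine ⟨x, ?_, ?_⟩
    · change LinearMap.lTensor R' (pfst ∘ₗ g) x = b
      rw [LinearMap.lTensor_comp, LinearMap.comp_apply, hx, e1]
    · change LinearMap.lTensor R' (psnd ∘ₗ g) x = a
      rw [LinearMap.lTensor_comp, LinearMap.comp_apply, hx, e2]

end Groth.Agent.S14086
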