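import Groth.Statements.S14087
import Mathlib.RingTheory.Flat.FaithfullyFlat.Algebra
import Mathlib.RingTheory.PrincipalIdealDomain
import Mathlib.RingTheory.Nilpotent.Basic
import Mathlib.RingTheory.Adjoin.Polynomial.Basic
import Mathlib.RingTheory.Polynomial.UniqueFactorization
import Mathlib.Tactic

set_option autoImplicit false
universe u
open ArSing

namespace Groth.Agent.S14087

section part1

variable {k : Type u} [Field k] {B : Type u} [CommRing B] [Algebra k B]
    (ε : B →ₐ[k] k) (N : ℕ) (hK : (RingHom.ker ε) ^ N = ⊥)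
    (A : Subalgebra k B)

include hK in
theorem pow_eq_zero_of_eps (b : B) (hb : ε b = 0) : b ^ N = 0 := by
  have h1 : b ∈ RingHom.ker ε := hb
  have h2 := Ideal.pow_mem_pow h1 N
  rw [hK] at h2
  exact h2

include hK in
theorem isUnit_of_eps_ne_zero' (x : B) (hx : ε x ≠ 0) : IsUnit x := by
  have hu : IsUnit (algebraMap k B (ε x)) := (IsUnit.mk0 _ hx).map _
  have hn : IsNilpotent (x - algebraMap k B (ε x)) := by
    refine ⟨N, ?_⟩
    apply pow_eq_zero_of_eps ε N hK
    simp
  have := hn.isUnit_add_left_of_commute hu (Commute.all _ _)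
  simpa using this

include hK in
theorem isUnit_of_eps_ne_zero (x : A) (hx : ε x ≠ 0) : IsUnit x := by
  have hu : IsUnit (algebraMap k A (ε x)) := (IsUnit.mk0 _ hx).map _
  have hn : IsNilpotent (x - algebraMap k A (ε x)) := by
    refine ⟨N, ?_⟩
    apply Subtype.ext
    rw [SubmonoidClass.coe_pow]
    apply pow_eq_zero_of_eps ε N hK
    simp
  have := hn.isUnit_add_left_of_commute hu (Commute.all _ _)
  simpa using this

include hK in
theorem faithfullyFlat [Module.Flat A B] : Module.FaithfullyFlat A B := by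
  refine ⟨?_⟩
  intro m hm htop
  have hle : ∀ x ∈ m, ε (x : B) = 0 := by
    intro x hx
    by_contra hne
    have := isUnit_of_eps_ne_zero ε N hK A x hne
    exact hm.ne_top (Ideal.eq_top_of_isUnit_mem m hx this)
  have h1 : (1 : B) ∈ m • (⊤ : Submodule A B) := by rw [htop]; trivial
  have h2 : ∀ b ∈ m • (⊤ : Submodule A B), ε b = 0 := by
    intro b hb
    refine Submodule.smul_induction_on (p := fun b => ε b = 0) hb ?_ ?_
    · intro r hr n _
      rw [Algebra.smul_def, map_mul]
      have : ε (algebraMap A B r) = 0 := hle r hr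
      rw [this, zero_mul]
    · intro x y hx hy
      rw [map_add, hx, hy, add_zero]
  have := h2 1 h1
  rw [map_one] at this
  exact one_ne_zero this

include hK in
theorem exists_gen [IsPrincipalIdealRing B] :
    ∃ a : A, ε a = 0 ∧
      Ideal.map (algebraMap A B) (RingHom.ker (ε.comp A.val)) = Ideal.span {(a : B)} := by
  set mA : Ideal A := RingHom.ker (ε.comp A.val) with hmA
  set I : Ideal B := Ideal.map (algebraMap A B) mA with hI
  obtain ⟨b₀, hb₀⟩ := (IsPrincipalIdealRing.principal I).principal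
  change I = Ideal.span {b₀} at hb₀
  by_cases h : ∃ a ∈ mA, ∃ c, (a : B) = b₀ * c ∧ ε c ≠ 0
  · obtain ⟨a, ha, c, hac, hc⟩ := h
    refine ⟨a, ha, ?_⟩
    rw [hb₀, hac]
    exact (Ideal.span_singleton_mul_right_unit (isUnit_of_eps_ne_zero' ε N hK c hc) b₀).symm
  · push Not at h
    have hIK : I ≤ I * RingHom.ker ε := by
      refine Ideal.map_le_iff_le_comap.mpr ?_
      intro a ha
      have h1 : algebraMap A B a ∈ I := Ideal.mem_map_of_mem _ ha
      rw [hb₀] at h1
      obtain ⟨c, hc⟩ := Ideal.mem_span_singleton'.mp h1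
      have hac : (a : B) = b₀ * c := by rw [mul_comm]; exact hc.symm
      have hc0 : ε c = 0 := h a ha c hac
      have hb₀I : b₀ ∈ I := by rw [hb₀]; exact Ideal.mem_span_singleton_self b₀
      rw [Ideal.mem_comap]
      change (a : B) ∈ I * RingHom.ker ε
      rw [hac]
      exact Ideal.mul_mem_mul hb₀I hc0
    have hIKj : ∀ j : ℕ, I ≤ I * (RingHom.ker ε) ^ j := by
      intro j
      induction j with
      | zero => simp
      | succ j ih =>
        calc I ≤ I * RingHom.ker ε := hIK
          _ ≤ (I * (RingHom.ker ε) ^ j) * RingHom.ker ε := Ideal.mul_mono_left ih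
          _ = I * (RingHom.ker ε) ^ (j + 1) := by rw [mul_assoc, pow_succ]
    have hI0 : I = ⊥ := by
      have := hIKj N
      rw [hK, Ideal.mul_bot] at this
      exact le_bot_iff.mp this
    refine ⟨0, by simp, ?_⟩
    rw [hI0]
    simp

include hK in
theorem ker_eq_span [IsPrincipalIdealRing B] [Module.Flat A B] :
    ∃ a : A, ε a = 0 ∧ RingHom.ker (ε.comp A.val) = Ideal.span {a} := by
  obtain ⟨a, ha, h⟩ := exists_gen ε N hK A
  refine ⟨a, ha, ?_⟩
  have := faithfullyFlat ε N hK A
  have h1 := Ideal.comap_map_eq_self_of_faithfullyFlat (A := A) (B := B) (RingHom.ker (ε.comp A.val))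
  have h2 := Ideal.comap_map_eq_self_of_faithfullyFlat (A := A) (B := B) (Ideal.span {a})
  rw [← h1, h, ← h2, Ideal.map_span, Set.image_singleton]
  rfl

include hK in
theorem part1 [IsPrincipalIdealRing B] [Module.Flat A B] :
    ∃ a : A, ε a = 0 ∧ ∀ x : A, x ∈ Algebra.adjoin k {a} := by
  obtain ⟨a, ha, hker⟩ := ker_eq_span ε N hK A
  refine ⟨a, ha, ?_⟩
  have haN : a ^ N = 0 := by
    apply Subtype.ext
    rw [SubmonoidClass.coe_pow]
    exact pow_eq_zero_of_eps ε N hK _ ha
  have key : ∀ j : ℕ, ∀ x : A, ∃ p ∈ Algebra.adjoin k {a}, ∃ z : A, x = p + a ^ j * z := by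
    intro j
    induction j with
    | zero => intro x; exact ⟨0, Subalgebra.zero_mem _, x, by simp⟩
    | succ j ih =>
      intro x
      obtain ⟨p, hp, z, hz⟩ := ih x
      have hz' : z - algebraMap k A (ε z) ∈ RingHom.ker (ε.comp A.val) := by
        rw [RingHom.mem_ker]
        simp
      rw [hker] at hz'
      obtain ⟨w, hw⟩ := Ideal.mem_span_singleton'.mp hz'
      refine ⟨p + a ^ j * algebraMap k A (ε z), ?_, w, ?_⟩
      · apply Subalgebra.add_mem _ hp
        apply Subalgebra.mul_mem
        · exact Subalgebra.pow_mem _ (Algebra.self_mem_adjoin_singleton k a) j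
        · exact Subalgebra.algebraMap_mem _ _
      · rw [hz, pow_succ]
        linear_combination (a ^ j) * hw.symm
  intro x
  obtain ⟨p, hp, z, hz⟩ := key N x
  rw [haN, zero_mul, add_zero] at hz
  rw [hz]
  exact hp

end part1

section part2

open Polynomial

variable {k : Type u} [Field k] {B : Type u} [CommRing B] [Algebra k B] (A : Subalgebra k B)

theorem part2 (a : A) (N : ℕ) (haN : a ^ N = 0) (hgen : ∀ x : A, x ∈ Algebra.adjoin k {a}) :
    ∃ m : ℕ, Nonempty (A ≃ₐ[k] (Polynomial k ⧸ Ideal.span {(X : Polynomial k) ^ m})) := by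
  let φ : k[X] →ₐ[k] A := Polynomial.aeval a
  have hφ : Function.Surjective φ := by
    intro x
    have hx := hgen x
    rw [Algebra.adjoin_singleton_eq_range_aeval] at hx
    exact hx
  obtain ⟨g, hg⟩ := (IsPrincipalIdealRing.principal (RingHom.ker φ.toRingHom)).principal
  change RingHom.ker φ.toRingHom = Ideal.span {g} at hg
  have hXN : (X : k[X]) ^ N ∈ RingHom.ker φ.toRingHom := by
    rw [RingHom.mem_ker]
    change φ (X ^ N) = 0
    rw [map_pow]
    simp [φ, haN]
  rw [hg, Ideal.mem_span_singleton] at hXN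
  obtain ⟨i, _, hi⟩ := (dvd_prime_pow Polynomial.prime_X N).mp hXN
  have hker : RingHom.ker φ.toRingHom = Ideal.span {(X : k[X]) ^ i} := by
    rw [hg]
    exact Ideal.span_singleton_eq_span_singleton.mpr hi
  refine ⟨i, ⟨?_⟩⟩
  exact (Ideal.quotientKerAlgEquivOfSurjective hφ).symm.trans (Ideal.quotientEquivAlgOfEq k hker)

end part2

section concrete

open Polynomial

variable (k : Type u) [Field k] (n : ℕ)

/-- augmentation -/
noncomputable def eps (hn : 0 < n) : (Polynomial k ⧸ Ideal.span {(X : Polynomial k) ^ n}) →ₐ[k] k :=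
  Ideal.Quotient.liftₐ (Ideal.span {(X : Polynomial k) ^ n}) (Polynomial.aeval (0 : k))
    (by
      intro p hp
      obtain ⟨q, rfl⟩ := Ideal.mem_span_singleton.mp hp
      simp [zero_pow (Nat.pos_iff_ne_zero.mp hn)])

theorem eps_mk (hn : 0 < n) (p : k[X]) :
    eps k n hn (Ideal.Quotient.mk _ p) = p.eval 0 := by
  simp [eps, Polynomial.aeval_def, Polynomial.eval₂_eq_eval_map]

theorem ker_eps (hn : 0 < n) :
    RingHom.ker (eps k n hn) = Ideal.span {Ideal.Quotient.mk (Ideal.span {(X : k[X]) ^ n}) X} := by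
  apply le_antisymm
  · intro b hb
    obtain ⟨p, rfl⟩ := Ideal.Quotient.mk_surjective b
    rw [RingHom.mem_ker, eps_mk] at hb
    have : X ∣ p := by
      rw [Polynomial.X_dvd_iff, Polynomial.coeff_zero_eq_eval_zero, hb]
    obtain ⟨q, rfl⟩ := this
    rw [map_mul]
    exact Ideal.mul_mem_right _ _ (Ideal.mem_span_singleton_self _)
  · rw [Ideal.span_le, Set.singleton_subset_iff, SetLike.mem_coe, RingHom.mem_ker, eps_mk]
    simp

theorem ker_eps_pow (hn : 0 < n) : (RingHom.ker (eps k n hn)) ^ n = ⊥ := by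
  rw [ker_eps, Ideal.span_singleton_pow, ← map_pow]
  have : Ideal.Quotient.mk (Ideal.span {(X : k[X]) ^ n}) (X ^ n) = 0 :=
    Ideal.Quotient.eq_zero_iff_mem.mpr (Ideal.mem_span_singleton_self _)
  rw [this]
  simp


open Polynomial in
/-- Over an algebraically closed field k, if B = k[t]/(t^n) with n ≥ 1 is flat over a k-subalgebra A ⊆ B
(a finite flat extension of pointed finite algebras with curvilinear top), then A is curvilinear
too: A is isomorphic as a k-algebra to k[t]/(t^m) for some m. -/
theorem result (k : Type u) [Field k] [IsAlgClosed k]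
    (n : ℕ) (hn : 0 < n)
    (A : Subalgebra k (Polynomial k ⧸ Ideal.span {(X : Polynomial k) ^ n}))
    [Module.Flat A (Polynomial k ⧸ Ideal.span {(X : Polynomial k) ^ n})] :
    ∃ m : ℕ, Nonempty (A ≃ₐ[k] (Polynomial k ⧸ Ideal.span {(X : Polynomial k) ^ m})) := by
  have : IsPrincipalIdealRing (Polynomial k ⧸ Ideal.span {(X : Polynomial k) ^ n}) :=
    IsPrincipalIdealRing.of_surjective (Ideal.Quotient.mk _) Ideal.Quotient.mk_surjective
  obtain ⟨a, ha, hgen⟩ := part1 (eps k n hn) n (ker_eps_pow k n hn) A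
  have haN : a ^ n = 0 := by
    apply Subtype.ext
    rw [SubmonoidClass.coe_pow]
    exact pow_eq_zero_of_eps (eps k n hn) n (ker_eps_pow k n hn) _ ha
  exact part2 A a n haN hgen

end concrete


end Groth.Agent.S14087
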