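import Groth.Statements.S14088
import Mathlib.Tactic

set_option autoImplicit false
universe u
open ArSing

namespace Groth.Agent.S14088

variable {A : Type u} [CommRing A]

noncomputable def P (h τ : A) (k : ℕ) : A := ∏ i ∈ Finset.range k, (h + (i : A) * τ)

theorem P_succ (h τ : A) (k : ℕ) : P h τ (k + 1) = P h τ k * (h + (k : A) * τ) :=
  Finset.prod_range_succ _ _

theorem choose_cast (m s : ℕ) : ((s : A) + 1) * (Nat.choose m (s + 1) : A) =
    (Nat.choose m s : A) * ((m : A) - (s : A)) := by
  by_cases hs : s ≤ m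
  · have := Nat.choose_succ_right_eq m s
    have h2 : ((Nat.choose m (s + 1) * (s + 1) : ℕ) : A) = ((Nat.choose m s * (m - s) : ℕ) : A) := by
      rw [this]
    push_cast [Nat.cast_sub hs] at h2
    linear_combination h2
  · push_neg at hs
    rw [Nat.choose_eq_zero_of_lt hs, Nat.choose_eq_zero_of_lt (by omega)]
    simp

theorem key (h τ : A) (m : ℕ) : ∀ n : ℕ, P h τ n * P h τ m =
    ∑ s ∈ Finset.range (n + 1), (-1 : A) ^ s * (Nat.factorial s : A) * (Nat.choose n s : A) *
      (Nat.choose m s : A) * τ ^ s * P h τ (m + n - s) := by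
  intro n
  induction n with
  | zero => simp [P]
  | succ n ih =>
    have h1 : P h τ (n + 1) * P h τ m = (h + (n : A) * τ) * (P h τ n * P h τ m) := by
      rw [P_succ]; ring
    rw [h1, ih, Finset.mul_sum]
    have hterm : ∀ s ∈ Finset.range (n + 1),
        (h + (n : A) * τ) * ((-1 : A) ^ s * (Nat.factorial s : A) * (Nat.choose n s : A) *
          (Nat.choose m s : A) * τ ^ s * P h τ (m + n - s)) =
        (-1 : A) ^ s * (Nat.factorial s : A) * (Nat.choose n s : A) *
          (Nat.choose m s : A) * τ ^ s * P h τ (m + n + 1 - s) +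
        (-1 : A) ^ s * (Nat.factorial s : A) * (Nat.choose n s : A) *
          (Nat.choose m s : A) * ((s : A) - (m : A)) * τ ^ (s + 1) * P h τ (m + n - s) := by
      intro s hs
      rw [Finset.mem_range] at hs
      have e1 : m + n + 1 - s = (m + n - s) + 1 := by omega
      have e2 : ((m + n - s : ℕ) : A) = (m : A) + (n : A) - (s : A) := by
        rw [Nat.cast_sub (by omega)]; push_cast; ring
      rw [e1, P_succ, e2]
      ring
    rw [Finset.sum_congr rfl hterm, Finset.sum_add_distrib]
    rw [Finset.sum_range_succ' (fun s => (-1 : A) ^ s * (Nat.factorial s : A) * (Nat.choose n s : A) *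
          (Nat.choose m s : A) * τ ^ s * P h τ (m + n + 1 - s)) n]
    have hlast : (∑ s ∈ Finset.range n, (-1 : A) ^ (s + 1) * (Nat.factorial (s + 1) : A) *
          (Nat.choose n (s + 1) : A) * (Nat.choose m (s + 1) : A) * τ ^ (s + 1) *
          P h τ (m + n + 1 - (s + 1))) =
        ∑ s ∈ Finset.range (n + 1), (-1 : A) ^ (s + 1) * (Nat.factorial (s + 1) : A) *
          (Nat.choose n (s + 1) : A) * (Nat.choose m (s + 1) : A) * τ ^ (s + 1) *
          P h τ (m + n + 1 - (s + 1)) := by
      rw [Finset.sum_range_succ, Nat.choose_succ_self]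
      simp
    rw [hlast]
    rw [Finset.sum_range_succ' _ (n + 1)]
    have h0 : (-1 : A) ^ 0 * (Nat.factorial 0 : A) * (Nat.choose n 0 : A) * (Nat.choose m 0 : A) * τ ^ 0 *
        P h τ (m + n + 1 - 0) = (-1 : A) ^ 0 * (Nat.factorial 0 : A) * (Nat.choose (n + 1) 0 : A) *
        (Nat.choose m 0 : A) * τ ^ 0 * P h τ (m + (n + 1) - 0) := by
      simp [add_assoc]
    rw [← h0]
    have hsum : ∀ s ∈ Finset.range (n + 1),
        (-1 : A) ^ (s + 1) * (Nat.factorial (s + 1) : A) *
          (Nat.choose n (s + 1) : A) * (Nat.choose m (s + 1) : A) * τ ^ (s + 1) *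
          P h τ (m + n + 1 - (s + 1)) +
        (-1 : A) ^ s * (Nat.factorial s : A) * (Nat.choose n s : A) *
          (Nat.choose m s : A) * ((s : A) - (m : A)) * τ ^ (s + 1) * P h τ (m + n - s) =
        (-1 : A) ^ (s + 1) * (Nat.factorial (s + 1) : A) * (Nat.choose (n + 1) (s + 1) : A) *
          (Nat.choose m (s + 1) : A) * τ ^ (s + 1) * P h τ (m + (n + 1) - (s + 1)) := by
      intro s _
      have e1 : m + n + 1 - (s + 1) = m + n - s := by omega
      have e2 : m + (n + 1) - (s + 1) = m + n - s := by omega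
      rw [e1, e2]
      push_cast [Nat.factorial_succ, Nat.choose_succ_succ]
      linear_combination ((-1 : A) ^ s * (Nat.factorial s : A) * (Nat.choose n s : A) * τ ^ (s + 1) *
        P h τ (m + n - s)) * choose_cast (A := A) m s
    rw [← Finset.sum_congr rfl hsum, Finset.sum_add_distrib]
    ring

theorem result (A : Type u) [CommRing A] (h τ : A) (n m : ℕ) (hnm : n ≤ m) :
    (∏ i ∈ Finset.range n, (h + (i : A) * τ) ^ 2) * ∏ i ∈ Finset.Ico n m, (h + (i : A) * τ) =
      ∑ s ∈ Finset.range (n + 1), (-1 : A) ^ s * (Nat.factorial s : A) * (Nat.choose n s : A) *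
        (Nat.choose m s : A) * τ ^ s * ∏ i ∈ Finset.range (m + n - s), (h + (i : A) * τ) := by
  have := key h τ m n
  unfold P at this
  rw [← this, Finset.prod_pow, sq, mul_assoc, Finset.prod_range_mul_prod_Ico _ hnm]

end Groth.Agent.S14088
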