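import Groth.Statements.S14090
import Groth.Agent.Lib.Helper82.EffCartier

set_option autoImplicit false
universe u
open CategoryTheory AlgebraicGeometry
open BlowUp

namespace Groth.Agent.S14090

section alg

variable {A B C : Type*} [CommRing A] [CommRing B] [CommRing C] [Algebra A B]

/-- Pure algebra: if `A ⊆ B`, `I` is an ideal of `A` which is also an ideal of `B`, and `φ : A → C`
makes `I C` principal generated by a nonzerodivisor, then `φ` extends uniquely to `B`. -/
theorem alg_lift (hinj : Function.Injective (algebraMap A B)) (I : Ideal A)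
    (hIB : (Ideal.map (algebraMap A B) I : Set B) ⊆ algebraMap A B '' (I : Set A))
    (φ : A →+* C) (c : C) (hc : c ∈ nonZeroDivisors C) (hgen : I.map φ = Ideal.span {c}) :
    ∃! ρ : B →+* C, ρ.comp (algebraMap A B) = φ := by
  -- m b x : the element of I representing b * x
  have hm : ∀ (b : B) (x : A), x ∈ I → ∃ a' ∈ I, algebraMap A B a' = b * algebraMap A B x := by
    intro b x hx
    have : b * algebraMap A B x ∈ Ideal.map (algebraMap A B) I :=
      Ideal.mul_mem_left _ _ (Ideal.mem_map_of_mem _ hx)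
    obtain ⟨a', ha', h⟩ := hIB this
    exact ⟨a', ha', h⟩
  -- uniqueness principle
  have huniq : ∀ u u' : C, (∀ x ∈ I, u * φ x = u' * φ x) → u = u' := by
    intro u u' h
    have hc' : c ∈ I.map φ := by rw [hgen]; exact Ideal.mem_span_singleton_self c
    have h2 : ∀ z ∈ I.map φ, u * z = u' * z := by
      intro z hz
      refine Submodule.span_induction (p := fun z _ => u * z = u' * z) ?_ ?_ ?_ ?_ hz
      · rintro _ ⟨x, hx, rfl⟩
        exact h x hx
      · simp
      · intro a b _ _ ha hb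
        rw [mul_add, mul_add, ha, hb]
      · intro r a _ ha
        rw [smul_eq_mul, mul_left_comm, ha, mul_left_comm]
    have h3 := h2 c hc'
    have h4 : (u - u') * c = 0 := by rw [sub_mul, h3, sub_self]
    exact sub_eq_zero.mp ((mem_nonZeroDivisors_iff_right.mp hc) _ h4)
  -- existence of the value
  have hex : ∀ b : B, ∃ u : C, ∀ x ∈ I, ∀ a' ∈ I, algebraMap A B a' = b * algebraMap A B x →
      φ a' = u * φ x := by
    intro b
    have hc' : c ∈ I.map φ := by rw [hgen]; exact Ideal.mem_span_singleton_self c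
    -- the set of z ∈ I.map φ for which there is w with: ∀ x a', ... z * φ a' = w * c * φ x ... 
    have key : ∀ z ∈ I.map φ, ∃ w : C, ∀ x ∈ I, ∀ a' ∈ I,
        algebraMap A B a' = b * algebraMap A B x → z * φ a' = c * w * φ x := by
      intro z hz
      refine Submodule.span_induction (p := fun z _ => ∃ w : C, ∀ x ∈ I, ∀ a' ∈ I,
        algebraMap A B a' = b * algebraMap A B x → z * φ a' = c * w * φ x) ?_ ?_ ?_ ?_ hz
      · rintro _ ⟨y, hy, rfl⟩
        obtain ⟨y', hy', hyy⟩ := hm b y hy
        have : φ y' ∈ Ideal.span {c} := by rw [← hgen]; exact Ideal.mem_map_of_mem _ hy'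
        obtain ⟨w, hw⟩ := Ideal.mem_span_singleton'.mp this
        refine ⟨w, fun x hx a' ha' h => ?_⟩
        have e : y * a' = y' * x := by
          apply hinj
          rw [map_mul, map_mul, h, hyy]; ring
        change φ y * φ a' = c * w * φ x
        rw [← map_mul, e, map_mul, ← hw]; ring
      · exact ⟨0, fun x _ a' _ _ => by simp⟩
      · rintro z1 z2 _ _ ⟨w1, h1⟩ ⟨w2, h2⟩
        refine ⟨w1 + w2, fun x hx a' ha' h => ?_⟩
        rw [add_mul, h1 x hx a' ha' h, h2 x hx a' ha' h]; ring
      · rintro r z _ ⟨w, h1⟩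
        refine ⟨r * w, fun x hx a' ha' h => ?_⟩
        rw [smul_eq_mul, mul_assoc, h1 x hx a' ha' h]; ring
    obtain ⟨w, hw⟩ := key c hc'
    refine ⟨w, fun x hx a' ha' h => ?_⟩
    have h1 := hw x hx a' ha' h
    have h2 : (φ a' - w * φ x) * c = 0 := by rw [sub_mul]; linear_combination h1
    exact sub_eq_zero.mp ((mem_nonZeroDivisors_iff_right.mp hc) _ h2)
  choose ρ0 hρ0 using hex
  -- characterisation
  have hchar : ∀ (b : B) (u : C), (∀ x ∈ I, ∀ a' ∈ I, algebraMap A B a' = b * algebraMap A B x →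
      φ a' = u * φ x) → ρ0 b = u := by
    intro b u hu
    apply huniq
    intro x hx
    obtain ⟨a', ha', h⟩ := hm b x hx
    rw [← hρ0 b x hx a' ha' h, ← hu x hx a' ha' h]
  let ρ : B →+* C :=
    { toFun := ρ0
      map_one' := by
        apply hchar
        intro x hx a' ha' h
        rw [one_mul] at h
        rw [hinj h, one_mul]
      map_mul' := by
        intro b b'
        apply hchar
        intro x hx a' ha' h
        obtain ⟨y', hy', hyy⟩ := hm b' x hx
        have h1 : algebraMap A B a' = b * algebraMap A B y' := by rw [h, hyy, mul_assoc]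
        rw [hρ0 b y' hy' a' ha' h1, hρ0 b' x hx y' hy' hyy, mul_assoc]
      map_zero' := by
        apply hchar
        intro x hx a' ha' h
        rw [zero_mul] at h
        have : a' = 0 := hinj (by rw [h, map_zero])
        rw [this, map_zero, zero_mul]
      map_add' := by
        intro b b'
        apply hchar
        intro x hx a' ha' h
        obtain ⟨y, hy, hyy⟩ := hm b x hx
        obtain ⟨y', hy', hyy'⟩ := hm b' x hx
        have : a' = y + y' := hinj (by rw [h, map_add, hyy, hyy', add_mul])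
        rw [this, map_add, hρ0 b x hx y hy hyy, hρ0 b' x hx y' hy' hyy', add_mul] }
  refine ⟨ρ, ?_, ?_⟩
  · ext a
    change ρ0 (algebraMap A B a) = φ a
    apply hchar
    intro x hx a' ha' h
    have : a' = a * x := hinj (by rw [h, map_mul])
    rw [this, map_mul]
  · intro ρ' hρ'
    ext b
    change ρ' b = ρ0 b
    symm
    apply hchar
    intro x hx a' ha' h
    have h1 : ∀ a, ρ' (algebraMap A B a) = φ a := fun a => by rw [← hρ']; rfl
    rw [← h1 a', h, map_mul, h1]

end alg

section geom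

open Groth.Agent.Lib.Helper82 CategoryTheory.Limits

variable {A B : Type u} [CommRing A] [CommRing B] [Algebra A B]

theorem ideal_top (I : Ideal A) :
    (Curv2.idealSheaf A I).ideal ⟨⊤, isAffineOpen_top _⟩ =
      I.map (Scheme.ΓSpecIso (CommRingCat.of A)).inv.hom := by
  simp [Curv2.idealSheaf]

/-- the ring map `A → Γ(Y, V)` induced by `g : Y ⟶ Spec A`. -/
noncomputable def gam {Y : Scheme.{u}} (g : Y ⟶ Spec (CommRingCat.of A)) (V : Y.Opens) :
    A →+* Γ(Y, V) :=
  (g.appLE ⊤ V (by simp)).hom.comp (Scheme.ΓSpecIso (CommRingCat.of A)).inv.hom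

theorem ideal_comap_eq (I : Ideal A) {Y : Scheme.{u}} (g : Y ⟶ Spec (CommRingCat.of A))
    (V : Y.affineOpens) :
    ((Curv2.idealSheaf A I).comap g).ideal V = I.map (gam g V.1) := by
  obtain ⟨V, hV⟩ := V
  rw [ideal_comap_of_le g _ V hV ⊤ (isAffineOpen_top _) (by simp), ideal_top, Ideal.map_map]
  rfl

theorem local_lift (hinj : Function.Injective (algebraMap A B)) (I : Ideal A)
    (hIB : (Ideal.map (algebraMap A B) I : Set B) ⊆ algebraMap A B '' (I : Set A))
    {Y : Scheme.{u}} (g : Y ⟶ Spec (CommRingCat.of A)) (V : Y.affineOpens)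
    (hV : IsPrincipalNZD (((Curv2.idealSheaf A I).comap g).ideal V)) :
    ∃! ρ : B →+* Γ(Y, V.1), ρ.comp (algebraMap A B) = gam g V.1 := by
  obtain ⟨c, hc, hgen⟩ := hV
  rw [ideal_comap_eq] at hgen
  exact alg_lift hinj I hIB (gam g V.1) c hc hgen

theorem gam_comp {Y : Scheme.{u}} (h : Y ⟶ Spec (CommRingCat.of B)) (V : Y.Opens) :
    gam (h ≫ Spec.map (CommRingCat.ofHom (algebraMap A B))) V =
      (gam h V).comp (algebraMap A B) := by
  unfold gam
  rw [Scheme.Hom.comp_appLE]
  ext a
  simp only [RingHom.comp_apply, CommRingCat.hom_comp]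
  congr 1
  have := Scheme.ΓSpecIso_inv_naturality (CommRingCat.ofHom (algebraMap A B))
  have h2 := congrArg (fun k => k.hom a) this
  exact h2.symm

theorem lift_unique (hinj : Function.Injective (algebraMap A B)) (I : Ideal A)
    (hIB : (Ideal.map (algebraMap A B) I : Set B) ⊆ algebraMap A B '' (I : Set A))
    {Y : Scheme.{u}} (g : Y ⟶ Spec (CommRingCat.of A))
    (hg : IsEffCartierIdeal ((Curv2.idealSheaf A I).comap g))
    (h₁ h₂ : Y ⟶ Spec (CommRingCat.of B))
    (e₁ : h₁ ≫ Spec.map (CommRingCat.ofHom (algebraMap A B)) = g)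
    (e₂ : h₂ ≫ Spec.map (CommRingCat.ofHom (algebraMap A B)) = g) : h₁ = h₂ := by
  apply ext_to_Spec
  ext t
  refine Y.IsSheaf.section_ext (fun y hy => ?_)
  obtain ⟨V, hyV, hV⟩ := hg y
  refine ⟨V.1, le_top, hyV, ?_⟩
  obtain ⟨ρ, -, hρ⟩ := local_lift hinj I hIB g V hV
  have k1 : gam h₁ V.1 = ρ :=
    hρ _ (by show (gam h₁ V.1).comp (algebraMap A B) = _; rw [← gam_comp, e₁])
  have k2 : gam h₂ V.1 = ρ :=
    hρ _ (by show (gam h₂ V.1).comp (algebraMap A B) = _; rw [← gam_comp, e₂])
  have := congrArg (fun r => r t) (k1.trans k2.symm)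
  exact this

theorem gam_top {R : Type u} [CommRing R] {Z : Scheme.{u}} (k : Z ⟶ Spec (CommRingCat.of R)) :
    CommRingCat.ofHom (gam k ⊤) = (Scheme.ΓSpecIso (CommRingCat.of R)).inv ≫ k.appTop := by
  ext a
  simp [gam, Scheme.Hom.appLE, Scheme.Hom.appTop]

theorem gam_toSpecΓ {Z : Scheme.{u}} (ρ : B →+* Γ(Z, ⊤)) :
    gam (Z.toSpecΓ ≫ Spec.map (CommRingCat.ofHom ρ)) ⊤ = ρ := by
  have h1 := gam_top (Z.toSpecΓ ≫ Spec.map (CommRingCat.ofHom ρ))
  rw [Scheme.Hom.comp_appTop, Scheme.toSpecΓ_appTop, ← Category.assoc,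
    ← Scheme.ΓSpecIso_inv_naturality, Category.assoc, Iso.inv_hom_id, Category.comp_id] at h1
  exact congrArg CommRingCat.Hom.hom h1

theorem hom_ext_gam {R : Type u} [CommRing R] {Z : Scheme.{u}}
    {k₁ k₂ : Z ⟶ Spec (CommRingCat.of R)} (h : gam k₁ ⊤ = gam k₂ ⊤) : k₁ = k₂ := by
  apply ext_to_Spec
  have h1 := gam_top k₁
  have h2 := gam_top k₂
  rw [h] at h1
  exact h1.symm.trans h2

theorem lift_exists_affine (hinj : Function.Injective (algebraMap A B)) (I : Ideal A)
    (hIB : (Ideal.map (algebraMap A B) I : Set B) ⊆ algebraMap A B '' (I : Set A))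
    {Z : Scheme.{u}} [IsAffine Z] (g : Z ⟶ Spec (CommRingCat.of A))
    (hg : IsPrincipalNZD (((Curv2.idealSheaf A I).comap g).ideal ⟨⊤, isAffineOpen_top Z⟩)) :
    ∃ h : Z ⟶ Spec (CommRingCat.of B), h ≫ Spec.map (CommRingCat.ofHom (algebraMap A B)) = g := by
  obtain ⟨ρ, hρ, -⟩ := local_lift hinj I hIB g ⟨⊤, isAffineOpen_top Z⟩ hg
  refine ⟨Z.toSpecΓ ≫ Spec.map (CommRingCat.ofHom ρ), ?_⟩
  apply hom_ext_gam
  rw [gam_comp, gam_toSpecΓ]
  exact hρ

theorem lift_exists (hinj : Function.Injective (algebraMap A B)) (I : Ideal A)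
    (hIB : (Ideal.map (algebraMap A B) I : Set B) ⊆ algebraMap A B '' (I : Set A))
    {Y : Scheme.{u}} (g : Y ⟶ Spec (CommRingCat.of A))
    (hg : IsEffCartierIdeal ((Curv2.idealSheaf A I).comap g)) :
    ∃ h : Y ⟶ Spec (CommRingCat.of B), h ≫ Spec.map (CommRingCat.ofHom (algebraMap A B)) = g := by
  have hg' := hg
  choose V hyV hV using hg'
  let 𝒰 : Y.OpenCover := {
    I₀ := Y, X i := (V i).1, f i := (V i).1.ι,
    mem₀ := by
      rw [Scheme.presieve₀_mem_precoverage_iff]
      refine ⟨fun x ↦ ⟨x, by simpa using hyV x⟩, inferInstance⟩ }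
  have hl : ∀ y : Y, ∃ h : ((V y).1 : Scheme) ⟶ Spec (CommRingCat.of B),
      h ≫ Spec.map (CommRingCat.ofHom (algebraMap A B)) = (V y).1.ι ≫ g := by
    intro y
    have : IsAffine (V y).1 := (V y).2
    apply lift_exists_affine hinj I hIB
    rw [Scheme.IdealSheafData.comap_comp]
    exact (isPrincipalNZD_iff_comap_ι _ _ (V y).2).1 (hV y)
  choose hl hle using hl
  refine ⟨𝒰.glueMorphisms hl ?_, ?_⟩
  · intro x y
    apply lift_unique hinj I hIB (pullback.fst (𝒰.f x) (𝒰.f y) ≫ 𝒰.f x ≫ g)
    · rw [Scheme.IdealSheafData.comap_comp, Scheme.IdealSheafData.comap_comp]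
      apply isEffCartierIdeal_comap_of_flat
      apply isEffCartierIdeal_comap_of_flat
      exact hg
    · rw [Category.assoc, hle]
    · rw [Category.assoc, hle, pullback.condition_assoc]
  · apply 𝒰.hom_ext
    intro y
    rw [Scheme.Cover.ι_glueMorphisms_assoc, hle]

theorem gam_id (R : Type u) [CommRing R] :
    gam (𝟙 (Spec (CommRingCat.of R))) ⊤ = (Scheme.ΓSpecIso (CommRingCat.of R)).inv.hom := by
  have h1 := gam_top (𝟙 (Spec (CommRingCat.of R)))
  rw [Scheme.Hom.id_appTop, Category.comp_id] at h1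
  exact congrArg CommRingCat.Hom.hom h1

theorem part1 (I : Ideal A) (f : B) (hf : f ∈ nonZeroDivisors B)
    (hgen : Ideal.map (algebraMap A B) I = Ideal.span {f}) :
    IsEffCartierIdeal ((Curv2.idealSheaf A I).comap
      (Spec.map (CommRingCat.ofHom (algebraMap A B)))) := by
  intro x
  refine ⟨⟨⊤, isAffineOpen_top _⟩, trivial, ?_⟩
  change IsPrincipalNZD _
  rw [ideal_comap_eq]
  have h1 : gam (Spec.map (CommRingCat.ofHom (algebraMap A B))) ⊤ =
      ((Scheme.ΓSpecIso (CommRingCat.of B)).inv.hom).comp (algebraMap A B) := by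
    have := gam_comp (A := A) (𝟙 (Spec (CommRingCat.of B))) ⊤
    rw [Category.id_comp, gam_id] at this
    exact this
  change IsPrincipalNZD (I.map (gam (Spec.map (CommRingCat.ofHom (algebraMap A B))) ⊤))
  rw [h1, ← Ideal.map_map, hgen]
  have h2 : IsPrincipalNZD (Ideal.span {f}) := ⟨f, hf, rfl⟩
  exact h2.map_equiv (Scheme.ΓSpecIso (CommRingCat.of B)).symm.commRingCatIsoToRingEquiv

end geom


/-- Let A → B be an injective ring homomorphism and I an ideal of A such that the ideal I·B of B is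
contained in the image of I (so I is an ideal of B as well) and I·B is generated by one
nonzerodivisor of B (I is free of rank one over B). Then Spec B → Spec A is a blowing up of Spec A
in I. (This is the affine statement behind recovering a pair (X̃, D̃), D̃ an effective Cartier
divisor finite flat over D, as the blow-up of the pushout X̃ ⨿_D̃ D along D.) -/
theorem result (A B : Type u) [CommRing A] [CommRing B] [Algebra A B]
    (hinj : Function.Injective (algebraMap A B)) (I : Ideal A)
    (hIB : (Ideal.map (algebraMap A B) I : Set B) ⊆ algebraMap A B '' (I : Set A))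
    (f : B) (hf : f ∈ nonZeroDivisors B) (hgen : Ideal.map (algebraMap A B) I = Ideal.span {f}) :
    BlowUp.IsBlowUp (Spec.map (CommRingCat.ofHom (algebraMap A B))) (Curv2.idealSheaf A I) := by
  refine ⟨part1 I f hf hgen, fun Y g hg => ?_⟩
  obtain ⟨h, hh⟩ := lift_exists hinj I hIB g hg
  exact ⟨h, hh, fun h' hh' => lift_unique hinj I hIB g hg h' h hh' hh⟩

end Groth.Agent.S14090
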