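import Groth.Statements.S14091
import Mathlib

set_option autoImplicit false
universe u
open ArSing

namespace Groth.Agent.S14091

open Polynomial in
/-- Over an algebraically closed field k, a finite local k-algebra B whose cotangent space m/m^2 has
dimension at most one over the residue field is isomorphic, as a k-algebra, to k[t]/(t^n) with n =
dim_k B (curvilinear pointed algebras of degree n have a single isomorphism class). -/
theorem result (k B : Type u) [Field k] [IsAlgClosed k]
    [CommRing B] [IsLocalRing B] [Algebra k B] [Module.Finite k B]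
    (hcurv : Module.finrank (IsLocalRing.ResidueField B) (IsLocalRing.CotangentSpace B) ≤ 1) :
    Nonempty (B ≃ₐ[k] (Polynomial k ⧸ Ideal.span {(X : Polynomial k) ^ Module.finrank k B})) := by
  classical
  haveI : IsNoetherianRing B := IsNoetherianRing.of_finite k B
  haveI : IsArtinianRing B := IsArtinianRing.of_finite k B
  obtain ⟨t, ht⟩ := (IsLocalRing.finrank_cotangentSpace_le_one_iff.mp hcurv).principal
  rw [Ideal.submodule_span_eq] at ht
  have htm : t ∈ IsLocalRing.maximalIdeal B := by rw [ht]; exact Ideal.mem_span_singleton_self t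
  obtain ⟨N, hN⟩ : IsNilpotent t := by
    obtain ⟨N, hN⟩ := (isArtinianRing_iff_isNilpotent_maximalIdeal B).mp inferInstance
    refine ⟨N, ?_⟩
    have := Ideal.pow_mem_pow htm N
    rwa [hN] at this
  haveI : Module.Finite k (IsLocalRing.ResidueField B) :=
    Module.Finite.of_surjective (IsScalarTower.toAlgHom k B (IsLocalRing.ResidueField B)).toLinearMap
      Ideal.Quotient.mk_surjective
  have hres : Function.Surjective (algebraMap k (IsLocalRing.ResidueField B)) :=
    (IsAlgClosed.algebraMap_bijective_of_isIntegral).2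
  let φ : Polynomial k →ₐ[k] B := Polynomial.aeval t
  have hstep : ∀ j : ℕ, ∀ b : B, ∃ p : Polynomial k, ∃ c : B, b = φ p + t ^ j * c := by
    intro j
    induction j with
    | zero => intro b; exact ⟨0, b, by simp⟩
    | succ j ih =>
      intro b
      obtain ⟨p, c, rfl⟩ := ih b
      obtain ⟨a, ha⟩ := hres (IsLocalRing.residue B c)
      have hmem : c - algebraMap k B a ∈ IsLocalRing.maximalIdeal B := by
        rw [← Ideal.Quotient.eq]
        rw [IsScalarTower.algebraMap_apply k B (IsLocalRing.ResidueField B)] at ha
        exact ha.symm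
      rw [ht, Ideal.mem_span_singleton'] at hmem
      obtain ⟨c', hc'⟩ := hmem
      refine ⟨p + Polynomial.C a * Polynomial.X ^ j, c', ?_⟩
      have hc : c = algebraMap k B a + c' * t := by rw [hc']; ring
      rw [hc, map_add, map_mul, map_pow]
      simp only [φ, Polynomial.aeval_C, Polynomial.aeval_X]
      ring
  have hsurj : Function.Surjective φ := fun b => by
    obtain ⟨p, c, h⟩ := hstep N b
    exact ⟨p, by rw [h, hN, zero_mul, add_zero]⟩
  have hXN : (Polynomial.X : Polynomial k) ^ N ∈ RingHom.ker φ := by
    rw [RingHom.mem_ker, map_pow]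
    simp only [φ, Polynomial.aeval_X, hN]
  obtain ⟨g, hg⟩ : Submodule.IsPrincipal (RingHom.ker φ) := inferInstance
  rw [Ideal.submodule_span_eq] at hg
  have hdvd : g ∣ Polynomial.X ^ N := by
    rw [hg, Ideal.mem_span_singleton] at hXN
    exact hXN
  obtain ⟨j, -, hj⟩ := (dvd_prime_pow Polynomial.prime_X N).mp hdvd
  have hker : RingHom.ker φ = Ideal.span {(Polynomial.X : Polynomial k) ^ j} := by
    rw [hg, Ideal.span_singleton_eq_span_singleton]
    exact hj
  let e : (Polynomial k ⧸ RingHom.ker φ) ≃ₐ[k] B := Ideal.quotientKerAlgEquivOfSurjective hsurj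
  let e₂ : (Polynomial k ⧸ RingHom.ker φ) ≃ₐ[k]
      (Polynomial k ⧸ Ideal.span {(Polynomial.X : Polynomial k) ^ j}) :=
    Ideal.quotientEquivAlgOfEq k hker
  have hfr : Module.finrank k B = j := by
    rw [← (e.symm.trans e₂).toLinearEquiv.finrank_eq.symm, finrank_quotient_span_eq_natDegree,
      Polynomial.natDegree_X_pow]
  rw [hfr]
  exact ⟨e.symm.trans e₂⟩

end Groth.Agent.S14091
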