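import Groth.Statements.S14097
-- import your own Groth.Agent.* helpers here

set_option autoImplicit false
universe u
open ArSing

namespace Groth.Agent.S14097

theorem esymm_cons_succ {R : Type u} [CommSemiring R] (a : R) (s : Multiset R) (n : ℕ) :
    (a ::ₘ s).esymm (n + 1) = s.esymm (n + 1) + a * s.esymm n := by
  simp only [Multiset.esymm, Multiset.powersetCard_cons, Multiset.map_add, Multiset.sum_add,
    Multiset.map_map]
  congr 1
  rw [← Multiset.sum_map_mul_left]
  simp [Function.comp]

theorem esymm_zero' {R : Type u} [CommSemiring R] (s : Multiset R) : s.esymm 0 = 1 := by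
  simp [Multiset.esymm]

theorem esymm_card' {R : Type u} [CommSemiring R] (s : Multiset R) : s.esymm (Multiset.card s) = s.prod := by
  simp [Multiset.esymm]

noncomputable def E {A : Type u} [CommRing A] (τ : A) (h : ℕ → A) (m : ℕ) : A :=
  ∑ j ∈ Finset.range (m + 1), τ ^ (m - j) * (((Finset.range (m + 1)).val.map h).esymm j)

theorem E_succ {A : Type u} [CommRing A] (τ : A) (h : ℕ → A) (m : ℕ) :
    E τ h (m + 1) = (τ + h (m + 1)) * E τ h m + ∏ i ∈ Finset.range (m + 1), h i := by
  have hS : (Finset.range (m + 1 + 1)).val.map h = h (m + 1) ::ₘ ((Finset.range (m + 1)).val.map h) := by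
    simp [Finset.range_val, Multiset.range_succ]
  have hcard : Multiset.card ((Finset.range (m + 1)).val.map h) = m + 1 := by simp
  have hprod : ((Finset.range (m + 1)).val.map h).esymm (m + 1) = ∏ i ∈ Finset.range (m + 1), h i := by
    have := esymm_card' ((Finset.range (m + 1)).val.map h)
    rw [hcard] at this
    rw [this]
    rfl
  unfold E
  rw [hS]
  set S := (Finset.range (m + 1)).val.map h with hSdef
  rw [Finset.sum_range_succ' (fun j => τ ^ (m + 1 - j) * (h (m + 1) ::ₘ S).esymm j)]
  simp only [esymm_cons_succ, esymm_zero', Nat.add_sub_add_right, Nat.sub_zero, mul_one]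
  rw [← hprod]
  have h1 : ∑ j ∈ Finset.range (m + 1), τ ^ (m - j) * S.esymm (j + 1) + τ ^ (m + 1)
      = τ * ∑ j ∈ Finset.range (m + 1), τ ^ (m - j) * S.esymm j + S.esymm (m + 1) := by
    rw [Finset.sum_range_succ (fun j => τ ^ (m - j) * S.esymm (j + 1))]
    rw [Finset.sum_range_succ' (fun j => τ ^ (m - j) * S.esymm j)]
    simp only [esymm_zero', Nat.sub_self, pow_zero, one_mul, Nat.sub_zero, mul_one]
    rw [mul_add, Finset.mul_sum]
    have : ∀ j ∈ Finset.range m, τ * (τ ^ (m - (j + 1)) * S.esymm (j + 1)) = τ ^ (m - j) * S.esymm (j + 1) := by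
      intro j hj
      have hj' : j < m := Finset.mem_range.mp hj
      have : m - j = (m - (j + 1)) + 1 := by omega
      rw [this, pow_succ]
      ring
    rw [Finset.sum_congr rfl this]
    rw [pow_succ]
    ring
  calc ∑ x ∈ Finset.range (m + 1), τ ^ (m - x) * (S.esymm (x + 1) + h (m + 1) * S.esymm x) + τ ^ (m + 1)
      = (∑ j ∈ Finset.range (m + 1), τ ^ (m - j) * S.esymm (j + 1) + τ ^ (m + 1))
        + h (m + 1) * ∑ j ∈ Finset.range (m + 1), τ ^ (m - j) * S.esymm j := by
        rw [Finset.mul_sum, add_right_comm, ← Finset.sum_add_distrib]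
        congr 1
        apply Finset.sum_congr rfl
        intro j _
        ring
    _ = _ := by rw [h1]; ring

theorem main {A : Type u} [CommRing A] (τ : A) (h : ℕ → A) (m : ℕ)
    (hrel : ∀ i, i < m + 1 → h i ^ 2 + τ * h i = 0) :
    ∏ i ∈ Finset.range m, (h i + h (i + 1) + τ) = E τ h m ∧
    h m * ∏ i ∈ Finset.range m, (h i + h (i + 1) + τ) = ∏ i ∈ Finset.range (m + 1), h i := by
  induction m with
  | zero =>
    refine ⟨?_, ?_⟩
    · simp [E, esymm_zero']
    · simp
  | succ m ih =>
    obtain ⟨ih1, ih2⟩ := ih (fun i hi => hrel i (by omega))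
    have hr := hrel (m + 1) (by omega)
    have hb : h (m + 1) * ∏ i ∈ Finset.range (m + 1), (h i + h (i + 1) + τ)
        = ∏ i ∈ Finset.range (m + 1 + 1), h i := by
      rw [Finset.prod_range_succ, Finset.prod_range_succ _ (m + 1), ← ih2]
      have : h (m + 1) * (h m + h (m + 1) + τ) = h (m + 1) * h m + (h (m + 1) ^ 2 + τ * h (m + 1)) := by ring
      calc h (m + 1) * ((∏ x ∈ Finset.range m, (h x + h (x + 1) + τ)) * (h m + h (m + 1) + τ))
          = (h (m + 1) * (h m + h (m + 1) + τ)) * ∏ x ∈ Finset.range m, (h x + h (x + 1) + τ) := by ring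
        _ = _ := by rw [this, hr]; ring
    refine ⟨?_, hb⟩
    rw [E_succ, Finset.prod_range_succ, ← ih1, ← ih2]
    ring

/-- In any commutative ring, if h_0, …, h_(k-1) (k ≥ 2) and τ satisfy h_i^2 + τ h_i = 0, then ∏_(i ≤
k-2) (h_i + h_(i+1) + τ) = Σ_(j ≤ k-1) τ^(k-1-j) e_j(h), e_j the elementary symmetric functions.
(The published statement is the resulting formula for the class of the small diagonal in the Chow
ring of (P^1)^k, where the h_i are the hyperplane classes of the factors and satisfy these
relations; only the ring identity is asserted here.) -/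
theorem result (A : Type u) [CommRing A] (k : ℕ) (hk : 2 ≤ k) (τ : A)
    (h : ℕ → A) (hrel : ∀ i, i < k → h i ^ 2 + τ * h i = 0) :
    ∏ i ∈ Finset.range (k - 1), (h i + h (i + 1) + τ) =
      ∑ j ∈ Finset.range k, τ ^ (k - 1 - j) * (((Finset.range k).val.map h).esymm j) := by
  obtain ⟨m, rfl⟩ : ∃ m, k = m + 1 := ⟨k - 1, by omega⟩
  have := (main τ h m hrel).1
  simpa [E] using this

end Groth.Agent.S14097
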