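import Groth.Statements.S14102
import Groth.Agent.Lib.Helper84.ARDer3

set_option autoImplicit false
universe w u
open DCoh

namespace Groth.Agent.S14102

open CategoryTheory MonoidalCategory in
/-- Affine form — let A be a Noetherian commutative ring, K a bounded cochain complex of finitely
generated projective A-modules and J an ideal of A that annihilates every cohomology module of K.
Then for some natural number n and every positive integer m, the map J^(n+m) ⊗_A K → J^m ⊗_A K
induced by the inclusion of ideals is zero in the derived category of A-modules. (The published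
statement is for a perfect complex on a noetherian scheme or formal scheme with the derived tensor
product; over an affine scheme a perfect complex is represented by a bounded complex of finitely
generated projective modules, for which the derived tensor product with J^m is the termwise tensor
product used here.) -/
theorem result
    (A : Type u) [CommRing A] [IsNoetherianRing A] [HasDerivedCategory.{w} (ModuleCat.{u} A)]
    (K : CochainComplex (ModuleCat.{u} A) ℤ) (a b : ℤ)
    (hK : ∀ q : ℤ, q < a ∨ b < q → Limits.IsZero (K.X q))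
    (hfin : ∀ q : ℤ, Module.Finite A (K.X q)) (hproj : ∀ q : ℤ, Module.Projective A (K.X q))
    (J : Ideal A) (hJ : ∀ q : ℤ, ∀ x ∈ J, ∀ c : ↑(K.homology q), x • c = 0) :
    ∃ n : ℕ, ∀ m : ℕ, 0 < m →
      DerivedCategory.Q.map
        ((NatTrans.mapHomologicalComplex
          ((curriedTensor (ModuleCat.{u} A)).map
            (ModuleCat.ofHom (Submodule.inclusion (p := J ^ (n + m)) (p' := J ^ m)
              (Ideal.pow_le_pow_right (Nat.le_add_left m n)))))
          (ComplexShape.up ℤ)).app K) = 0 := by
  classical
  obtain ⟨c, hc⟩ := Groth.Agent.Lib.Helper84.ARDer.exists_uniform J K a b hK hfin hproj hJ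
  refine ⟨c * ((b - a).toNat + 1), fun m _ => ?_⟩
  let N : ℕ := (b - a).toNat
  let e : ℕ → ℕ := fun i => c * (N + 1 - i) + m
  have he : Antitone e := fun i j hij => by
    dsimp [e]
    exact Nat.add_le_add_right (Nat.mul_le_mul_left c (Nat.sub_le_sub_left hij (N + 1))) m
  let F := Groth.Agent.Lib.Helper84.ARDer.chain J K e he
  have hT : ∀ p : ℕ, (DerivedCategory.Q.obj (Groth.Agent.Lib.Helper84.ARDer.T J K p)).IsGE a ∧
      (DerivedCategory.Q.obj (Groth.Agent.Lib.Helper84.ARDer.T J K p)).IsLE (a + N) := by
    intro p
    have h1 : (Groth.Agent.Lib.Helper84.ARDer.T J K p).IsStrictlyGE a := by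
      rw [CochainComplex.isStrictlyGE_iff]
      intro q hq
      exact Groth.Agent.Lib.Helper84.ARDer.isZero_T_X J K p q (hK q (Or.inl hq))
    have h2 : (Groth.Agent.Lib.Helper84.ARDer.T J K p).IsStrictlyLE (a + N) := by
      rw [CochainComplex.isStrictlyLE_iff]
      intro q hq
      refine Groth.Agent.Lib.Helper84.ARDer.isZero_T_X J K p q (hK q (Or.inr ?_))
      have : b - a ≤ (N : ℤ) := Int.self_le_toNat (b - a)
      omega
    exact ⟨inferInstance, inferInstance⟩
  have key := Groth.Agent.S14100.result (ModuleCat.{u} A) a N F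
    (fun i _ => (hT (e i)).1) (fun i _ => (hT (e i)).2)
    (fun i hi q => by
      apply Groth.Agent.Lib.Helper84.ARDer.homologyFunctor_map_Q_eq_zero
      have h : c + e (i + 1) ≤ e i := by
        dsimp [e]
        have : N + 1 - i = (N + 1 - (i + 1)) + 1 := by omega
        rw [this, Nat.mul_add]
        omega
      exact hc q (e i) (e (i + 1)) h)
  have gen : ∀ (n₁ m₁ : ℕ) (h₁ : m₁ ≤ n₁) (n₂ m₂ : ℕ) (h₂ : m₂ ≤ n₂), n₁ = n₂ → m₁ = m₂ →
      DerivedCategory.Q.map (Groth.Agent.Lib.Helper84.ARDer.ι J K h₁) = 0 →
      DerivedCategory.Q.map (Groth.Agent.Lib.Helper84.ARDer.ι J K h₂) = 0 := by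
    intro n₁ m₁ h₁ n₂ m₂ h₂ hn hm h
    subst hn
    subst hm
    exact h
  exact gen (e 0) (e (N + 1)) (he (Nat.zero_le _)) (c * ((b - a).toNat + 1) + m) m
    (Nat.le_add_left m _) rfl (by simp [e]) key

end Groth.Agent.S14102
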