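import Groth.Statements.S14103
-- import your own Groth.Agent.* helpers here

set_option autoImplicit false
universe u
open CategoryTheory CategoryTheory.Limits AlgebraicGeometry Opposite TopologicalSpace
open CInt

namespace Groth.Agent.S14103

section helpers

theorem dim_le_aux {X : Scheme.{u}} (R : CommRingCat.{u}) (x x' : X) (e : x' = x)
    (φ : X.presheaf.stalk x' ⟶ R) (hφ : Function.Surjective φ.hom) :
    ringKrullDim R ≤ ringKrullDim (X.presheaf.stalk x) := by
  subst e
  exact ringKrullDim_le_of_surjective φ.hom hφ

theorem dim_le {X S : Scheme.{u}} (f : X ⟶ S) (x : X) :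
    ringKrullDim (CInt.fiberStalk f x) ≤ ringKrullDim (X.presheaf.stalk x) := by
  have hsurj := (inferInstance : IsPreimmersion (f.fiberι (f x))).stalkMap_surjective (f.asFiber x)
  exact dim_le_aux _ x _ (f.fiberι_asFiber x) _ hsurj

end helpers


/-- Let f : X → S be a morphism of locally Noetherian schemes and Y a closed subset of X. The
codimension of Y in X relative to f, namely the infimum over the points y of Y of the Krull
dimension of the local ring at y of the fibre of f through y, is at most the codimension of Y in X,
the infimum over y ∈ Y of the Krull dimension of O_{X,y}. -/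
theorem result {X S : Scheme.{u}} [IsLocallyNoetherian X] [IsLocallyNoetherian S]
    (f : X ⟶ S) (Y : Set ↥X) (hY : IsClosed Y) :
    (⨅ y : Y, ringKrullDim ↑(CInt.fiberStalk f y.1)) ≤ ⨅ y : Y, ringKrullDim ↑(X.presheaf.stalk y.1) := by
  exact iInf_mono (fun y => dim_le f y.1)

end Groth.Agent.S14103
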