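import Groth.Statements.S14105
import Groth.Agent.Lib.Helper73.DimFormula.FiberStalkBC

set_option autoImplicit false
universe u
open CategoryTheory CategoryTheory.Limits AlgebraicGeometry Opposite TopologicalSpace
open CInt

namespace Groth.Agent.S14105

/-- Let f : X → S be a morphism and g : S' → S a base change, with X, S, S' and X' = X ×_S S' locally
Noetherian, and let Y be a closed subset of X with preimage Y' under the projection X' → X. Writing
the codimension of a closed subset relative to a morphism as the infimum, over its points, of the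
Krull dimension of the local ring of the fibre through that point: the codimension of Y' relative to
X' → S' is at least the codimension of Y relative to f, and the two are equal when the projection X'
→ X maps Y' onto Y. -/
theorem result {X S S' : Scheme.{u}} (f : X ⟶ S) (g : S' ⟶ S)
    [IsLocallyNoetherian X] [IsLocallyNoetherian S] [IsLocallyNoetherian S']
    [IsLocallyNoetherian (pullback f g)] (Y : Set ↥X) (hY : IsClosed Y) :
    ((⨅ y : Y, ringKrullDim ↑(CInt.fiberStalk f y.1)) ≤
      ⨅ y' : (fun x' => (pullback.fst f g) x') ⁻¹' Y,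
        ringKrullDim ↑(CInt.fiberStalk (pullback.snd f g) y'.1)) ∧
    (Y ⊆ Set.range (pullback.fst f g).base →
      (⨅ y' : (fun x' => (pullback.fst f g) x') ⁻¹' Y,
        ringKrullDim ↑(CInt.fiberStalk (pullback.snd f g) y'.1)) =
        ⨅ y : Y, ringKrullDim ↑(CInt.fiberStalk f y.1)) := by
  open Groth.Agent.Lib.Helper73 in
  have hsq : IsPullback (pullback.fst f g) (pullback.snd f g) f g := IsPullback.of_hasPullback f g
  have ha : (⨅ y : Y, ringKrullDim ↑(CInt.fiberStalk f y.1)) ≤
      ⨅ y' : (fun x' => (pullback.fst f g) x') ⁻¹' Y,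
        ringKrullDim ↑(CInt.fiberStalk (pullback.snd f g) y'.1) := by
    refine le_iInf fun y' => ?_
    exact (iInf_le _ (⟨pullback.fst f g y'.1, y'.2⟩ : Y)).trans
      (ringKrullDim_fiberStalk_le_of_isPullback f g _ _ hsq y'.1)
  refine ⟨ha, fun hsub => le_antisymm ?_ ha⟩
  refine le_iInf fun y => ?_
  obtain ⟨y'', hy''⟩ := hsub y.2
  obtain ⟨y', h1, h2⟩ := exists_ringKrullDim_fiberStalk_le_of_isPullback f g _ _ hsq y''
  have hmem : y' ∈ (fun x' => (pullback.fst f g) x') ⁻¹' Y := by
    show pullback.fst f g y' ∈ Y
    rw [h1, hy'']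
    exact y.2
  refine iInf_le_of_le ⟨y', hmem⟩ ?_
  rw [hy''] at h2
  exact h2

end Groth.Agent.S14105
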