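import Groth.Statements.S14106
import Groth.Agent.Lib.Helper73.DimFormula.SmoothCodim

set_option autoImplicit false
universe u
open CategoryTheory CategoryTheory.Limits AlgebraicGeometry Opposite TopologicalSpace
open CInt

namespace Groth.Agent.S14106

/-- Let S be a locally Noetherian scheme, f : X → S a smooth morphism and i : Y → X a closed immersion
whose composite with f is smooth. Then the codimension of the image of i relative to f (the infimum
over its points y of the Krull dimension of the local ring at y of the fibre of f through y) equals
its codimension in X (the infimum over the same points of the Krull dimension of O_{X,y}). -/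
theorem result {X Y S : Scheme.{u}} [IsLocallyNoetherian X]
    [IsLocallyNoetherian S] (f : X ⟶ S) [Smooth f] (i : Y ⟶ X) [IsClosedImmersion i] [Smooth (i ≫ f)] :
    (⨅ y : Set.range i.base, ringKrullDim ↑(CInt.fiberStalk f y.1)) =
      ⨅ y : Set.range i.base, ringKrullDim ↑(X.presheaf.stalk y.1) := by
  open Groth.Agent.Lib.Helper73 in
  apply le_antisymm
  · exact iInf_mono fun y => ringKrullDim_fiberStalk_le_stalk f y.1
  · refine le_iInf fun y => ?_
    obtain ⟨y0, hy0⟩ := y.2
    obtain ⟨y0', hy0'y0, hmax⟩ := exists_maximal_specializes y0
    refine iInf_le_of_le ⟨i y0', y0', rfl⟩ ?_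
    show ringKrullDim (X.presheaf.stalk (i y0')) ≤ ringKrullDim (CInt.fiberStalk f y.1)
    rw [← hy0]
    exact ringKrullDim_stalk_le_fiberStalk_of_smooth f i y0 y0' hy0'y0 hmax

end Groth.Agent.S14106
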