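import Groth.Statements.S14109
import Mathlib
import Groth.Agent.Lib.Helper67.FiberStalk4

set_option autoImplicit false
universe u
open CategoryTheory CategoryTheory.Limits AlgebraicGeometry Opposite TopologicalSpace
open CInt

namespace Groth.Agent.S14109

open Groth.Agent.Lib.Helper67.FiberTower Groth.Agent.Lib.Helper67.FiberStalk IsLocalRing

section Ring

/-- `dim S ≤ dim R + dim S/m_R S` for a local homomorphism of Noetherian local rings -/
theorem ringKrullDim_le_add_fibre {R S : Type u} [CommRing R] [CommRing S] [IsLocalRing R]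
    [IsLocalRing S] [IsNoetherianRing R] [IsNoetherianRing S] [Algebra R S]
    [IsLocalHom (algebraMap R S)] :
    ringKrullDim S ≤ ringKrullDim R +
      ringKrullDim (S ⧸ (maximalIdeal R).map (algebraMap R S)) := by
  have hne : (maximalIdeal R).map (algebraMap R S) ≠ ⊤ :=
    (IsLocalRing.map_maximalIdeal_lt_top (algebraMap R S)).ne
  have : Nontrivial (S ⧸ (maximalIdeal R).map (algebraMap R S)) :=
    Ideal.Quotient.nontrivial_iff.mpr hne
  have : IsLocalRing (S ⧸ (maximalIdeal R).map (algebraMap R S)) :=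
    IsLocalRing.of_surjective' (Ideal.Quotient.mk _) Ideal.Quotient.mk_surjective
  have h := Ideal.height_le_height_add_of_liesOver (maximalIdeal R) (maximalIdeal S)
  rw [← IsLocalRing.maximalIdeal_height_eq_ringKrullDim (R := S),
    ← IsLocalRing.maximalIdeal_height_eq_ringKrullDim (R := R),
    ← IsLocalRing.maximalIdeal_height_eq_ringKrullDim
      (R := S ⧸ (maximalIdeal R).map (algebraMap R S)),
    Groth.Agent.Lib.Helper67.maximalIdeal_quotient_eq_map _ hne]
  rw [← WithBot.coe_add]
  exact WithBot.coe_le_coe.2 h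

variable {C A B : Type u} [CommRing C] [CommRing A] [CommRing B] [IsLocalRing C] [IsLocalRing A]
  [IsLocalRing B] (γ : C →+* A) (φ : A →+* B)

theorem ringKrullDim_tower_le_add [IsLocalHom γ] [IsLocalHom φ]
    [IsNoetherianRing (A ⧸ IA γ)] [IsNoetherianRing (B ⧸ IB γ φ)] :
    ringKrullDim (B ⧸ IB γ φ) ≤ ringKrullDim (A ⧸ IA γ) + ringKrullDim (B ⧸ JB φ) := by
  let _ : Algebra (A ⧸ IA γ) (B ⧸ IB γ φ) := (φ' γ φ).toAlgebra
  have : IsLocalHom (algebraMap (A ⧸ IA γ) (B ⧸ IB γ φ)) := isLocalHom_φ' γ φ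
  have h := ringKrullDim_le_add_fibre (R := A ⧸ IA γ) (S := B ⧸ IB γ φ)
  refine h.trans (le_of_eq ?_)
  congr 1
  exact ringKrullDim_eq_of_ringEquiv (fibreEquiv γ φ)

end Ring

section Scheme

variable {X Y Z : Scheme.{u}} (f : X ⟶ Y) (g : Y ⟶ Z)

theorem ringKrullDim_fiberStalk_comp_le [IsLocallyNoetherian X] [IsLocallyNoetherian Y] (x : X) :
    ringKrullDim (CInt.fiberStalk (f ≫ g) x) ≤
      ringKrullDim (CInt.fiberStalk g (f x)) + ringKrullDim (Q f x) := by
  rw [ringKrullDim_fiberStalk, ringKrullDim_fiberStalk,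
    ringKrullDim_eq_of_ringEquiv (qCompEquiv f g x)]
  have : IsNoetherianRing (Y.presheaf.stalk (f x) ⧸ IA (g.stalkMap (f x)).hom) :=
    isNoetherianRing_Q_of_isLocallyNoetherian g (f x)
  have : IsNoetherianRing
      (X.presheaf.stalk x ⧸ IB (g.stalkMap (f x)).hom (f.stalkMap x).hom) :=
    isNoetherianRing_of_ringEquiv _ (qCompEquiv f g x)
  exact ringKrullDim_tower_le_add (g.stalkMap (f x)).hom (f.stalkMap x).hom

/-- a nonempty scheme has a point without proper generizations -/
theorem exists_isMax (W : Scheme.{u}) [Nonempty W] : ∃ η : W, IsMax η := by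
  obtain ⟨w⟩ := ‹Nonempty W›
  have hirr : IsIrreducible (irreducibleComponent w) := isIrreducible_irreducibleComponent
  have hcl : IsClosed (irreducibleComponent w) := isClosed_irreducibleComponent
  refine ⟨hirr.genericPoint, ?_⟩
  have hgen : closure ({hirr.genericPoint} : Set W) = irreducibleComponent w :=
    hirr.closure_genericPoint hcl
  intro η' hη'
  -- `hη' : genericPoint ≤ η'`, i.e. `η' ⤳ genericPoint`
  have hsp : η' ⤳ hirr.genericPoint := hη'
  have h1 : closure ({hirr.genericPoint} : Set W) ⊆ closure ({η'} : Set W) :=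
    closure_minimal (Set.singleton_subset_iff.2 hsp.mem_closure) isClosed_closure
  have h2 : closure ({η'} : Set W) = irreducibleComponent w :=
    eq_irreducibleComponent (isIrreducible_singleton.closure).isPreirreducible (hgen ▸ h1)
  have h3 : η' ∈ closure ({hirr.genericPoint} : Set W) := by
    rw [hgen, ← h2]; exact subset_closure rfl
  exact specializes_iff_mem_closure.2 h3

theorem ringKrullDim_stalk_eq_zero_of_isMax (W : Scheme.{u}) (η : W) (h : IsMax η) :
    ringKrullDim (W.presheaf.stalk η) = 0 := by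
  rw [ringKrullDim_stalk_eq_coheight, Order.coheight_eq_zero.2 h]
  rfl

theorem ringKrullDim_Q_eq (y : Y) (η : f.fiber y) (x : X) (hx : f.fiberι y η = x) (hy : f x = y) :
    ringKrullDim (Q f x) = ringKrullDim ((f.fiber y).presheaf.stalk η) := by
  subst hy
  exact (ringKrullDim_eq_of_ringEquiv (stalkEquiv f x η hx)).symm

end Scheme

/-- Let f : X → S and g : X' → X be morphisms of locally Noetherian schemes with g surjective, Y a
closed subset of X and Y' its preimage under g. Then the codimension of Y' relative to the composite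
X' → S (the infimum over y' ∈ Y' of the Krull dimension of the local ring at y' of the fibre of that
composite through y') is at most the codimension of Y relative to f (the same infimum over y ∈ Y for
the fibres of f). -/
theorem result {X X' S : Scheme.{u}} [IsLocallyNoetherian X]
    [IsLocallyNoetherian X'] [IsLocallyNoetherian S] (f : X ⟶ S) (g : X' ⟶ X) [Surjective g]
    (Y : Set ↥X) (hY : IsClosed Y) :
    (⨅ y' : (fun x' => g x') ⁻¹' Y, ringKrullDim ↑(CInt.fiberStalk (g ≫ f) y'.1)) ≤
      ⨅ y : Y, ringKrullDim ↑(CInt.fiberStalk f y.1) := by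
  refine le_iInf fun y => ?_
  obtain ⟨x₀, hx₀⟩ := g.surjective y.1
  have hne : Nonempty (g.fiber y.1) := by
    have h1 : x₀ ∈ Set.range (g.fiberι y.1) := by
      rw [Scheme.Hom.range_fiberι]; exact hx₀
    obtain ⟨η, _⟩ := h1
    exact ⟨η⟩
  obtain ⟨η, hη⟩ := exists_isMax (g.fiber y.1)
  have hgx : g (g.fiberι y.1 η) = y.1 := by
    have h1 : g.fiberι y.1 η ∈ Set.range (g.fiberι y.1) := ⟨η, rfl⟩
    rw [Scheme.Hom.range_fiberι] at h1
    exact h1
  have hmem : g.fiberι y.1 η ∈ (fun x' => g x') ⁻¹' Y := by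
    change g (g.fiberι y.1 η) ∈ Y
    rw [hgx]; exact y.2
  refine iInf_le_of_le ⟨g.fiberι y.1 η, hmem⟩ ?_
  have h1 := ringKrullDim_fiberStalk_comp_le g f (g.fiberι y.1 η)
  have h2 : ringKrullDim (Q g (g.fiberι y.1 η)) = 0 := by
    rw [ringKrullDim_Q_eq g y.1 η _ rfl hgx]
    exact ringKrullDim_stalk_eq_zero_of_isMax _ η hη
  rw [h2, add_zero, hgx] at h1
  exact h1

end Groth.Agent.S14109
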