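import Groth.Statements.S1411
import Mathlib
import Groth.Agent.S9779

set_option autoImplicit false
universe u
open FlatMor

namespace Groth.Agent.S1411

open AlgebraicGeometry CategoryTheory Limits in
/-- Let f : X → S be locally of finite type with S locally Noetherian, x a point closed in its fibre,
and U an open of X containing a point x' specializing to x with f x' ≠ f x. Then there is a closed
subscheme Z of X passing through x such that Z → S is quasi-finite at x and Z contains a point z ∈ U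
with z ⤳ x and f z ≠ f x. -/
theorem result {X S : Scheme.{u}} (f : X ⟶ S) [LocallyOfFiniteType f] [IsLocallyNoetherian S] (x : X)
    (hcl : IsClosed (Subtype.val ⁻¹' {x} : Set ↑(f ⁻¹' {f x}))) (U : X.Opens) (hx' : ∃ x' : X, x' ∈ U ∧ x' ⤳ x ∧ f x' ≠ f x) :
    ∃ (I : X.IdealSheafData) (z₀ x₀ : ↑I.subscheme), I.subschemeι x₀ = x ∧ (I.subschemeι ≫ f).QuasiFiniteAt x₀ ∧
      I.subschemeι z₀ ∈ U ∧ I.subschemeι z₀ ⤳ x ∧ f (I.subschemeι z₀) ≠ f x := by
  obtain ⟨x', hx'U, hsp, hne⟩ := hx'
  -- the open `W = f⁻¹ ((closure {f x})ᶜ)`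
  let W₀ : S.Opens := ⟨(closure {f x})ᶜ, isClosed_closure.isOpen_compl⟩
  let U' : X.Opens := U ⊓ f ⁻¹ᵁ W₀
  have hx'W : f x' ∈ W₀ := by
    change f x' ∉ closure {f x}
    intro hmem
    have h1 : f x ⤳ f x' := specializes_iff_mem_closure.mpr hmem
    have h2 : f x' ⤳ f x := hsp.map f.continuous
    exact hne (h2.antisymm h1).eq
  have hx'U' : x' ∈ U' := ⟨hx'U, hx'W⟩
  have hU' : ∀ y ∈ U', f y ≠ f x := by
    intro y hy hfy
    have : f y ∈ W₀ := hy.2
    rw [hfy] at this
    exact this (subset_closure rfl)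
  have hxcl : x ∈ closure (U' : Set ↑X) := by
    have : x ∈ closure ({x'} : Set ↑X) := specializes_iff_mem_closure.mp hsp
    exact closure_mono (Set.singleton_subset_iff.mpr hx'U') this
  obtain ⟨I, z₀, x₀, h1, h2, h3, h4, h5⟩ := Groth.Agent.S9779.result f x hcl U' hU' hxcl
  exact ⟨I, z₀, x₀, h1, h2, h3.1, h4, h5⟩

end Groth.Agent.S1411
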