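import Groth.Statements.S14112
import Groth.Agent.Lib.Helper53.AffKSpec
import Groth.Agent.Lib.Helper31.AffKTB12
import Groth.Agent.Lib.Helper2.RankSections
import Groth.Agent.Lib.Helper93.AffKTA
import Groth.Agent.Lib.Helper71.AffKTB3
import Groth.Agent.Lib.Helper71.AffKTB4

set_option autoImplicit false
universe u
open CategoryTheory CategoryTheory.Limits AlgebraicGeometry Opposite TopologicalSpace
attribute [local instance] HasDerivedCategory.standard
open DCoh

namespace Groth.Agent.S14112

/-- Let X be an affine scheme, E a bounded above cochain complex of finite locally free O_X-modules (a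
strictly pseudo-coherent complex) and F a cochain complex of quasi-coherent O_X-modules. Then the
canonical map from morphisms E → F in the homotopy category K(O_X) to morphisms E → F in the derived
category D(O_X) is bijective. (The published statement allows F to be any complex of O_X-modules
with quasi-coherent cohomology sheaves; that is false already for E = O_X on the affine line over a
field, taking for F the two-term complex given by multiplication by x - 1 on the extension by zero
of the structure sheaf of the complement of the origin, whose only cohomology sheaf is the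
skyscraper at the point 1 while it has no nonzero global sections; the published proof first
replaces F by a complex of quasi-coherent modules, and this row takes F of that form.) -/
theorem result {X : Scheme.{u}} [IsAffine X]
    (E F : CochainComplex X.Modules ℤ) (b : ℤ) (hEb : ∀ i : ℤ, b < i → IsZero (E.X i))
    (hE : ∀ i : ℤ, FlatMod.IsFinLocFree (E.X i)) (hF : ∀ i : ℤ, Coh.IsQCoh (F.X i)) :
    Function.Bijective (fun φ : (HomotopyCategory.quotient X.Modules (ComplexShape.up ℤ)).obj E ⟶
        (HomotopyCategory.quotient X.Modules (ComplexShape.up ℤ)).obj F =>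
      (DerivedCategory.Qh (C := X.Modules)).map φ) := by
  haveI : PreservesFiniteColimits (Scheme.Modules.pushforward X.isoSpec.hom) :=
    Groth.Agent.Lib.Helper31.AffKTB12.preservesFiniteColimits_pushforward_of_isIso _
  haveI : PreservesFiniteColimits (Scheme.Modules.pushforward X.isoSpec.inv) :=
    Groth.Agent.Lib.Helper31.AffKTB12.preservesFiniteColimits_pushforward_of_isIso _
  haveI : PreservesFiniteLimits (Scheme.Modules.pushforward X.isoSpec.hom) :=
    Groth.Agent.Lib.Helper31.AffKTB12.preservesFiniteLimits_pushforward_of_isIso _
  haveI : PreservesFiniteLimits (Scheme.Modules.pushforward X.isoSpec.inv) :=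
    Groth.Agent.Lib.Helper31.AffKTB12.preservesFiniteLimits_pushforward_of_isIso _
  refine Groth.Agent.Lib.Helper93.AffKTA.bijective_Qh_of_retract
    (Scheme.Modules.pushforward X.isoSpec.hom)
    (Scheme.Modules.pushforward X.isoSpec.inv)
    (Groth.Agent.Lib.Helper31.AffKTB12.unitIso X.isoSpec) E F ?_
  refine Groth.Agent.Lib.Helper53.AffKSpec.spec_case Γ(X, ⊤) _ _ b ?_ ?_ ?_ ?_
  · intro i hi
    exact (Scheme.Modules.pushforward X.isoSpec.hom).map_isZero (hEb i hi)
  · intro i
    exact Groth.Agent.Lib.Helper71.AffKTB3.isQCoh_pushforward_of_isIso _ (E.X i)
      (Groth.Agent.Lib.Helper2.RankSections.isQuasicoherent_of_isFinLocFree (E.X i) (hE i))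
  · intro i
    exact Groth.Agent.Lib.Helper71.AffKTB4.projective_Γ_pushforward_isoSpec (E.X i) (hE i)
  · intro i
    exact Groth.Agent.Lib.Helper71.AffKTB3.isQCoh_pushforward_of_isIso _ (F.X i) (hF i)

end Groth.Agent.S14112
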