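import Groth.Statements.S19613
import Mathlib
import Groth.Agent.Lib.Helper6.ThickIsAffine

set_option autoImplicit false
universe u
open CategoryTheory AlgebraicGeometry TopologicalSpace
open CartMod

set_option linter.unusedSectionVars false

namespace Groth.Agent.S19613Aux

open Opposite

set_option backward.isDefEq.respectTransparency.types false



/-- Epi between quasi-coherent modules on `Spec R` is surjective on global sections. -/
theorem surjective_top_of_epi_spec {R : CommRingCat.{u}} {M N : (Spec R).Modules}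
    [M.IsQuasicoherent] [N.IsQuasicoherent] (φ : M ⟶ N) [Epi φ] :
    Function.Surjective (φ.app ⊤) := by
  have hnat := (Scheme.Modules.fromTildeΓNatTrans (R := R)).naturality φ
  have h1 : Epi ((moduleSpecΓFunctor (R := R) ⋙ tilde.functor (R := R)).map φ) := by
    have hE : Epi ((moduleSpecΓFunctor (R := R) ⋙ tilde.functor (R := R)).map φ ≫
        (Scheme.Modules.fromTildeΓNatTrans (R := R)).app N) := by
      rw [hnat]
      haveI : IsIso ((Scheme.Modules.fromTildeΓNatTrans (R := R)).app M) :=
        inferInstanceAs (IsIso M.fromTildeΓ)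
      exact epi_comp _ _
    haveI : IsIso ((Scheme.Modules.fromTildeΓNatTrans (R := R)).app N) :=
        inferInstanceAs (IsIso N.fromTildeΓ)
    exact (epi_comp_iff_of_isIso _ _).1 hE
  have h2 : Epi ((moduleSpecΓFunctor (R := R)).map φ) :=
    (tilde.functor R).epi_of_epi_map h1
  rw [ModuleCat.epi_iff_surjective] at h2
  exact h2





/-- Epi between quasi-coherent modules on a scheme is surjective on sections over affine opens. -/
theorem surjective_app_of_epi {X : Scheme.{u}} {M N : X.Modules}
    [M.IsQuasicoherent] [N.IsQuasicoherent] (φ : M ⟶ N) [Epi φ] (W : X.Opens)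
    (hW : IsAffineOpen W) : Function.Surjective (φ.app W) := by
  haveI : Epi ((Scheme.Modules.restrictFunctor hW.fromSpec).map φ) := inferInstance
  have h1 := surjective_top_of_epi_spec ((Scheme.Modules.restrictFunctor hW.fromSpec).map φ)
  have hW' : hW.fromSpec ''ᵁ ⊤ = W := by
    rw [Scheme.Hom.image_top_eq_opensRange, hW.opensRange_fromSpec]
  have h2 : Function.Surjective (φ.app (hW.fromSpec ''ᵁ ⊤)) := h1
  clear h1
  revert h2
  generalize hW.fromSpec ''ᵁ ⊤ = W' at hW'
  subst hW'
  exact id




theorem surjective_of_nil {T Tc : Scheme.{u}} (i : T ⟶ Tc) [IsClosedImmersion i]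
    (hnil : ∃ n : ℕ, ∀ V : Tc.affineOpens, i.ker.ideal V ^ n = ⊥) :
    Function.Surjective i := by
  obtain ⟨n, hn⟩ := hnil
  have hsupp : ∀ x : Tc, x ∈ i.ker.support := by
    intro x
    rw [Scheme.IdealSheafData.mem_support_iff]
    intro V
    rw [Scheme.mem_zeroLocus_iff]
    intro f hf
    have hfn : f ^ n = 0 := by
      have : f ^ n ∈ i.ker.ideal V ^ n := Ideal.pow_mem_pow hf n
      rw [hn V] at this
      exact this
    have hb : Tc.basicOpen f = ⊥ := by
      rcases Nat.eq_zero_or_pos n with h0 | hpos
      · subst h0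
        rw [pow_zero] at hfn
        have : f = 0 := by
          calc f = f * 1 := (mul_one f).symm
            _ = 0 := by rw [hfn, mul_zero]
        rw [this, Scheme.basicOpen_zero]
      · rw [← Scheme.basicOpen_pow Tc f hpos, hfn, Scheme.basicOpen_zero]
    rw [hb]
    exact fun h => h
  intro x
  have h1 : x ∈ (i.ker.support : Set Tc) := hsupp x
  rw [Scheme.Hom.support_ker] at h1
  have hcl : IsClosed (Set.range i) := i.isClosedEmbedding.isClosed_range
  have h2 : x ∈ closure (Set.range i) := h1
  rw [hcl.closure_eq] at h2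
  exact h2

theorem isAffineOpen_preimage {T Tc U : Scheme.{u}} (i : T ⟶ Tc) [IsClosedImmersion i]
    (hnil : ∃ n : ℕ, ∀ V : Tc.affineOpens, i.ker.ideal V ^ n = ⊥)
    (u : T ⟶ U) [IsAffineHom u] (g : Tc.carrier ⟶ U.carrier) (hg : i.base ≫ g = u.base)
    (V : U.Opens) (hV : IsAffineOpen V) : IsAffineOpen ((Opens.map g).obj V : Tc.Opens) := by
  apply Groth.Agent.Lib.Helper6.ThickIsAffine.isAffineOpen_of_thickening i (surjective_of_nil i hnil)
  have : i ⁻¹ᵁ ((Opens.map g).obj V : Tc.Opens) = u ⁻¹ᵁ V := by
    ext x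
    have hx : g (i x) = u x := by
      have := congrArg (fun f => f x) hg
      exact this
    change g (i x) ∈ V ↔ u x ∈ V
    rw [hx]
  rw [this]
  exact hV.preimage u

theorem main {T Tc U : Scheme.{u}} (i : T ⟶ Tc) [IsClosedImmersion i]
    (hnil : ∃ n : ℕ, ∀ V : Tc.affineOpens, i.ker.ideal V ^ n = ⊥)
    (u : T ⟶ U) [IsAffineHom u] (g : Tc.carrier ⟶ U.carrier) (hg : i.base ≫ g = u.base)
    (M N : Tc.Modules) [M.IsQuasicoherent] [N.IsQuasicoherent] (φ : M ⟶ N) [Epi φ] :
    Epi ((SheafOfModules.pushforward (F := Opens.map g) (R := Tc.ringCatSheaf)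
      (𝟙 (((Opens.map g).sheafPushforwardContinuous RingCat.{u} (Opens.grothendieckTopology U)
        (Opens.grothendieckTopology Tc)).obj Tc.ringCatSheaf))).map φ) := by
  apply (SheafOfModules.toSheaf _).epi_of_epi_map
  refine (TopCat.Sheaf.isLocallySurjective_iff_epi (X := U.carrier) (C := AddCommGrpCat.{u}) _).1 ?_
  rw [TopCat.Presheaf.isLocallySurjective_iff]
  intro V t x hx
  obtain ⟨V', hV', hxV', hV'V⟩ := Opens.isBasis_iff_nbhd.mp U.isBasis_affineOpens hx
  have haff := isAffineOpen_preimage i hnil u g hg V' hV'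
  obtain ⟨s, hs⟩ := surjective_app_of_epi φ _ haff (N.presheaf.map (homOfLE ((Opens.map g).monotone hV'V)).op t)
  refine ⟨V', hV'V, ⟨s, ?_⟩, hxV'⟩
  exact hs


end Groth.Agent.S19613Aux

namespace Groth.Agent.S19613

/-- Let u : T → U be an affine morphism of schemes and i : T → T♮ a nilpotent closed immersion (its
ideal has a vanishing power), so that |T♮| = |T|; let g : |T♮| → |U| be the continuous map
underlying u, and v : (T♮, O_{T♮}) → (U, g_*O_{T♮}) the induced morphism of ringed spaces (identity
on structure rings), with direct image v_* (sections over g⁻¹ of an open) and inverse image v^* its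
left adjoint. Then the restriction of v_* to quasi-coherent O_{T♮}-modules is exact; since v_* is a
right adjoint, the content is that v_* of an epimorphism between quasi-coherent O_{T♮}-modules is an
epimorphism of sheaves of g_*O_{T♮}-modules on U, which is what is stated. -/
theorem result
    {T Tc U : Scheme.{u}} (i : T ⟶ Tc) [IsClosedImmersion i]
    (hnil : ∃ n : ℕ, ∀ V : Tc.affineOpens, i.ker.ideal V ^ n = ⊥)
    (u : T ⟶ U) [IsAffineHom u] (g : Tc.carrier ⟶ U.carrier) (hg : i.base ≫ g = u.base)
    (M N : Tc.Modules) [M.IsQuasicoherent] [N.IsQuasicoherent] (φ : M ⟶ N) [Epi φ] :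
    Epi ((SheafOfModules.pushforward (F := Opens.map g) (R := Tc.ringCatSheaf)
      (𝟙 (((Opens.map g).sheafPushforwardContinuous RingCat.{u} (Opens.grothendieckTopology U)
        (Opens.grothendieckTopology Tc)).obj Tc.ringCatSheaf))).map φ) := by
  exact Groth.Agent.S19613Aux.main i hnil u g hg M N φ

end Groth.Agent.S19613
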