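import Groth.Statements.S14113
import Mathlib
import Groth.Agent.S19613
import Groth.Agent.Lib.Helper2.FinLocFreeAff
import Groth.Agent.Lib.Helper2.DCohSummand
import Groth.Agent.Lib.Helper2.RankSections

set_option autoImplicit false
universe u
open CategoryTheory CategoryTheory.Limits AlgebraicGeometry Opposite TopologicalSpace
attribute [local instance] HasDerivedCategory.standard
open DCoh

set_option linter.unusedSectionVars false

namespace Groth.Agent.S14113Aux

open Scheme.Modules

set_option backward.isDefEq.respectTransparency.types false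

theorem isFinLocFree_of_isZero {X : Scheme.{u}} (A : X.Modules) (hA : IsZero A) :
    FlatMod.IsFinLocFree A := by
  intro x
  refine ⟨⊤, 0, trivial, ⟨IsZero.iso ?_ ?_⟩⟩
  · exact (restrictFunctor (⊤ : X.Opens).ι).map_isZero hA
  · exact (IsZero.iff_id_eq_zero _).2 (Sigma.hom_ext _ _ (fun j => j.elim0))

/-- restriction along an isomorphism of schemes is an equivalence of categories -/
noncomputable def restrictEquivalence {X Y : Scheme.{u}} (e : X ≅ Y) : Y.Modules ≌ X.Modules :=
  CategoryTheory.Equivalence.mk (restrictFunctor e.hom) (restrictFunctor e.inv)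
    (restrictFunctorId.symm ≪≫ restrictFunctorCongr (e.inv_hom_id).symm ≪≫
      restrictFunctorComp e.inv e.hom)
    ((restrictFunctorComp e.hom e.inv).symm ≪≫ restrictFunctorCongr e.hom_inv_id ≪≫
      restrictFunctorId)

theorem split_spec {R : CommRingCat.{u}} {A B : (Spec R).Modules}
    [A.IsQuasicoherent] [B.IsQuasicoherent] (π : A ⟶ B) [Epi π]
    (hB : Projective ((moduleSpecΓFunctor (R := R)).obj B)) : ∃ s : B ⟶ A, s ≫ π = 𝟙 B := by
  have hepi : Epi ((moduleSpecΓFunctor (R := R)).map π) := by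
    rw [ModuleCat.epi_iff_surjective]
    exact Groth.Agent.S19613Aux.surjective_top_of_epi_spec π
  let σ := Projective.factorThru (𝟙 _) ((moduleSpecΓFunctor (R := R)).map π)
  have hσ : σ ≫ (moduleSpecΓFunctor (R := R)).map π = 𝟙 _ := Projective.factorThru_comp _ _
  haveI hiA : IsIso ((Scheme.Modules.fromTildeΓNatTrans (R := R)).app A) :=
    Scheme.Modules.isIso_fromTildeΓ_of_isQuasicoherent A
  haveI hiB : IsIso ((Scheme.Modules.fromTildeΓNatTrans (R := R)).app B) :=
    Scheme.Modules.isIso_fromTildeΓ_of_isQuasicoherent B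
  refine ⟨inv ((Scheme.Modules.fromTildeΓNatTrans (R := R)).app B) ≫ (tilde.functor R).map σ ≫
    (Scheme.Modules.fromTildeΓNatTrans (R := R)).app A, ?_⟩
  have hnat := (Scheme.Modules.fromTildeΓNatTrans (R := R)).naturality π
  have hnat' : (tilde.functor R).map ((moduleSpecΓFunctor (R := R)).map π) ≫
      (Scheme.Modules.fromTildeΓNatTrans (R := R)).app B =
      (Scheme.Modules.fromTildeΓNatTrans (R := R)).app A ≫ π := hnat
  rw [Category.assoc, Category.assoc, ← hnat', ← Functor.map_comp_assoc, hσ, (tilde.functor R).map_id,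
    Category.id_comp, IsIso.inv_hom_id]

theorem split_affine {X : Scheme.{u}} [IsAffine X] {A B : X.Modules} (π : A ⟶ B) (hπ : Epi π)
    (hA : FlatMod.IsFinLocFree A) (hB : FlatMod.IsFinLocFree B) :
    ∃ s : B ⟶ A, s ≫ π = 𝟙 B := by
  haveI := Groth.Agent.Lib.Helper2.RankSections.isQuasicoherent_of_isFinLocFree A hA
  haveI := Groth.Agent.Lib.Helper2.RankSections.isQuasicoherent_of_isFinLocFree B hB
  let F := restrictFunctor X.isoSpec.inv
  haveI : F.IsEquivalence := (restrictEquivalence X.isoSpec.symm).isEquivalence_functor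
  have hFB : FlatMod.IsFinLocFree (F.obj B) :=
    Groth.Agent.Lib.Helper2.DCohBase.isFinLocFree_restrict _ B hB
  have hproj : Module.Projective Γ(Spec Γ(X, ⊤), ⊤) Γ(F.obj B, ⊤) :=
    Groth.Agent.Lib.Helper2.FinLocFreeAff.projective_sections_of_isFinLocFree (F.obj B) hFB
      (isAffineOpen_top _)
  have hproj' : Module.Projective Γ(X, ⊤) ((moduleSpecΓFunctor (R := Γ(X, ⊤))).obj (F.obj B)) :=
    Module.Projective.of_equiv (Groth.Agent.Lib.Helper2.FinLocFreeAff.specΓEquiv (F.obj B)).symm
  have hproj'' : Projective ((moduleSpecΓFunctor (R := Γ(X, ⊤))).obj (F.obj B)) :=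
    (IsProjective.iff_projective (R := Γ(X, ⊤))
      ((moduleSpecΓFunctor (R := Γ(X, ⊤))).obj (F.obj B))).1 hproj'
  haveI : Epi (F.map π) := inferInstance
  obtain ⟨s', hs'⟩ := split_spec (F.map π) hproj''
  refine ⟨F.preimage s', F.map_injective ?_⟩
  rw [F.map_comp, F.map_preimage, hs', F.map_id]

section Abstract

variable {C : Type*} [Category C] [Abelian C]

lemma epi_toCycles_of_exactAt (E : CochainComplex C ℤ) (i j : ℤ) (hij : i + 1 = j)
    (h : E.ExactAt j) : Epi (E.toCycles i j) := by
  have hz : IsZero (E.homology j) := h.isZero_homology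
  have hc := E.homologyIsCokernel i j (by simp [← hij])
  exact Preadditive.epi_of_isZero_cokernel' _ hc hz

/-- Abstract form: an acyclic bounded-above complex whose terms lie in a class `P` (containing zero objects,
closed under retracts, epis between whose members split) is contractible. -/
theorem nullHomotopic_of_acyclic (P : C → Prop)
    (hzero : ∀ A : C, IsZero A → P A)
    (hretr : ∀ (A B : C) (i : A ⟶ B) (r : B ⟶ A), i ≫ r = 𝟙 A → P B → P A)
    (hsplit : ∀ (A B : C) (π : A ⟶ B), Epi π → P A → P B → ∃ s : B ⟶ A, s ≫ π = 𝟙 B)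
    (E : CochainComplex C ℤ) (b : ℤ) (hEb : ∀ i, b < i → IsZero (E.X i)) (hE : ∀ i, P (E.X i))
    (hac : E.Acyclic) : Nonempty (Homotopy (𝟙 E) 0) := by
  -- the retraction step
  have step : ∀ i : ℤ, P (E.cycles (i + 1)) →
      ∀ s : E.cycles (i + 1) ⟶ E.X i, s ≫ E.toCycles i (i + 1) = 𝟙 _ →
      ∃ r : E.X i ⟶ E.cycles i, r ≫ E.iCycles i = 𝟙 _ - E.toCycles i (i + 1) ≫ s ∧
        E.iCycles i ≫ r = 𝟙 _ := by
    intro i _ s hs
    have he : (𝟙 (E.X i) - E.toCycles i (i + 1) ≫ s) ≫ E.d i (i + 1) = 0 := by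
      rw [Preadditive.sub_comp, Category.id_comp, Category.assoc, ← E.toCycles_i i (i + 1),
        reassoc_of% hs, sub_self]
    refine ⟨E.liftCycles _ (i + 1) (by simp) he, E.liftCycles_i _ _ _ _, ?_⟩
    rw [← cancel_mono (E.iCycles i), Category.assoc, E.liftCycles_i, Category.id_comp,
      Preadditive.comp_sub, Category.comp_id]
    have : E.iCycles i ≫ E.toCycles i (i + 1) = 0 := by
      rw [← cancel_mono (E.iCycles (i + 1)), Category.assoc, E.toCycles_i, zero_comp]
      exact E.iCycles_d i (i + 1)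
    rw [reassoc_of% this, zero_comp, sub_zero]
  have hepi : ∀ i : ℤ, Epi (E.toCycles i (i + 1)) := fun i =>
    epi_toCycles_of_exactAt E i (i + 1) rfl (hac (i + 1))
  -- all cycles are in `P`
  have hcyc : ∀ (n : ℕ) (i : ℤ), b + 1 ≤ i + n → P (E.cycles i) := by
    intro n
    induction n with
    | zero =>
      intro i hi
      apply hzero
      have hz : IsZero (E.X i) := hEb i (by omega)
      exact IsZero.of_mono (E.iCycles i) hz
    | succ n ih =>
      intro i hi
      have h1 : P (E.cycles (i + 1)) := ih (i + 1) (by push_cast at hi ⊢; omega)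
      obtain ⟨s, hs⟩ := hsplit _ _ (E.toCycles i (i + 1)) (hepi i) (hE i) h1
      obtain ⟨r, hr1, hr2⟩ := step i h1 s hs
      exact hretr _ _ (E.iCycles i) r hr2 (hE i)
  have hcyc' : ∀ i : ℤ, P (E.cycles i) := by
    intro i
    by_cases h : b + 1 ≤ i
    · exact hcyc 0 i (by simpa using h)
    · exact hcyc (b + 1 - i).toNat i (by
        have : ((b + 1 - i).toNat : ℤ) = b + 1 - i := Int.toNat_of_nonneg (by omega)
        omega)
  -- choose sections
  have hsec : ∀ i : ℤ, ∃ s : E.cycles (i + 1) ⟶ E.X i, s ≫ E.toCycles i (i + 1) = 𝟙 _ :=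
    fun i => hsplit _ _ (E.toCycles i (i + 1)) (hepi i) (hE i) (hcyc' (i + 1))
  choose sec hsec' using hsec
  have hr : ∀ i : ℤ, ∃ r : E.X i ⟶ E.cycles i,
      r ≫ E.iCycles i = 𝟙 _ - E.toCycles i (i + 1) ≫ sec i ∧ E.iCycles i ≫ r = 𝟙 _ :=
    fun i => step i (hcyc' (i + 1)) (sec i) (hsec' i)
  choose r hr1 hr2 using hr
  -- sections indexed by pairs
  let secc : ∀ i j : ℤ, E.cycles j ⟶ E.X i := fun i j =>
    if h : i + 1 = j then (by subst h; exact sec i) else 0
  have hsecc : ∀ i : ℤ, secc i (i + 1) = sec i := by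
    intro i
    simp [secc]
  have hsecc0 : ∀ i j : ℤ, ¬ i + 1 = j → secc i j = 0 := by
    intro i j h
    simp [secc, h]
  refine ⟨{ hom := fun i j => r i ≫ secc j i, zero := ?_, comm := ?_ }⟩
  · intro i j hij
    have : ¬ j + 1 = i := hij
    rw [hsecc0 j i this, comp_zero]
  · intro i
    have h1 : (ComplexShape.up ℤ).Rel i (i + 1) := rfl
    have h2 : (ComplexShape.up ℤ).Rel (i - 1) i := by simp
    rw [dNext_eq _ h1, prevD_eq _ h2]
    simp only [HomologicalComplex.id_f, HomologicalComplex.zero_f, add_zero]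
    have e1 : E.d i (i + 1) ≫ r (i + 1) ≫ secc i (i + 1) = E.toCycles i (i + 1) ≫ sec i := by
      rw [hsecc, ← E.toCycles_i i (i + 1), Category.assoc, reassoc_of% (hr2 (i + 1))]
    have e2 : (r i ≫ secc (i - 1) i) ≫ E.d (i - 1) i = 𝟙 _ - E.toCycles i (i + 1) ≫ sec i := by
      have key : secc (i - 1) i ≫ E.toCycles (i - 1) i = 𝟙 _ := by
        obtain ⟨k, rfl⟩ : ∃ k, i = k + 1 := ⟨i - 1, by omega⟩
        have : k + 1 - 1 = k := by omega
        rw [this, hsecc]
        exact hsec' k
      rw [← E.toCycles_i (i - 1) i, Category.assoc, reassoc_of% key, hr1]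
    rw [e1, e2]
    abel


end Abstract

theorem main {X : Scheme.{u}} [IsAffine X]
    (E : CochainComplex X.Modules ℤ) (b : ℤ) (hEb : ∀ i : ℤ, b < i → IsZero (E.X i))
    (hE : ∀ i : ℤ, FlatMod.IsFinLocFree (E.X i)) :
    E.Acyclic ↔ Nonempty (Homotopy (𝟙 E) 0) := by
  constructor
  · intro hac
    exact nullHomotopic_of_acyclic (fun A : X.Modules => FlatMod.IsFinLocFree A)
      isFinLocFree_of_isZero
      (fun A B i r h hB => Groth.Agent.Lib.Helper2.DCohSummand.isFinLocFree_of_retract i r h hB)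
      (fun A B π hπ hA hB => split_affine π hπ hA hB)
      E b hEb hE hac
  · rintro ⟨h⟩ i
    rw [HomologicalComplex.exactAt_iff_isZero_homology, IsZero.iff_id_eq_zero]
    have h1 := h.homologyMap_eq i
    rw [HomologicalComplex.homologyMap_id, HomologicalComplex.homologyMap_zero] at h1
    exact h1

end Groth.Agent.S14113Aux

namespace Groth.Agent.S14113

/-- Let X be an affine scheme and E a bounded above cochain complex of finite locally free O_X-modules
(a strictly pseudo-coherent complex). Then E is acyclic if and only if the identity of E is null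
homotopic. -/
theorem result {X : Scheme.{u}} [IsAffine X]
    (E : CochainComplex X.Modules ℤ) (b : ℤ) (hEb : ∀ i : ℤ, b < i → IsZero (E.X i))
    (hE : ∀ i : ℤ, FlatMod.IsFinLocFree (E.X i)) :
    E.Acyclic ↔ Nonempty (Homotopy (𝟙 E) 0) := by
  exact Groth.Agent.S14113Aux.main E b hEb hE

end Groth.Agent.S14113
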