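import Groth.Statements.S14115
import Mathlib.Tactic.NoncommRing
-- import your own Groth.Agent.* helpers here

set_option autoImplicit false
universe u v
open SuperComm

namespace Groth.Agent.S14115

theorem aux {R : Type u} {S : Type v} [CommRing R] [Ring S] [Algebra R S] (n : ℕ) :
    ∀ (x : S) (y : Fin (n + 1) → S) (r : Fin (n + 1) → R)
      (_ : ∀ i : Fin (n + 1), x * y i + y i * x = algebraMap R S (r i)),
      x * (List.ofFn y).prod + (-1 : S) ^ n * ((List.ofFn y).prod * x) =
        ∑ p : Fin (n + 1), (-1 : S) ^ (p : ℕ) *
          (r p • (List.ofFn (fun q : Fin n => y (p.succAbove q))).prod) := by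
  induction n with
  | zero =>
    intro x y r h
    simp [h 0, Algebra.algebraMap_eq_smul_one]
  | succ n ih =>
    intro x y r h
    have IH := ih x (fun i => y i.succ) (fun i => r i.succ) (fun i => h i.succ)
    set Y' := (List.ofFn fun i : Fin (n + 1) => y i.succ).prod with hY'
    have hL : (List.ofFn y).prod = y 0 * Y' := by rw [List.ofFn_succ, List.prod_cons]
    have hP : ∀ p : Fin (n + 1),
        (List.ofFn (fun q : Fin (n + 1) => y (p.succ.succAbove q))).prod
          = y 0 * (List.ofFn fun q : Fin n => y (p.succAbove q).succ).prod := by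
      intro p
      rw [List.ofFn_succ, List.prod_cons]
      simp only [Fin.succ_succAbove_zero, Fin.succ_succAbove_succ]
    have h00 : (List.ofFn (fun q : Fin (n + 1) => y ((0 : Fin (n + 2)).succAbove q))).prod = Y' := by
      simp only [Fin.zero_succAbove, hY']
    rw [Fin.sum_univ_succ, hL, h00]
    simp only [hP, Fin.val_zero, Fin.val_succ, pow_zero, one_mul]
    have hterm : ∀ p : Fin (n + 1),
        (-1 : S) ^ ((p : ℕ) + 1) * (r p.succ • (y 0 * (List.ofFn fun q : Fin n => y (p.succAbove q).succ).prod))
        = - (y 0 * ((-1 : S) ^ (p : ℕ) * (r p.succ • (List.ofFn fun q : Fin n => y (p.succAbove q).succ).prod))) := by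
      intro p
      rcases neg_one_pow_eq_or S (p : ℕ) with hp | hp <;> simp [pow_succ, hp]
    rw [Finset.sum_congr rfl (fun p _ => hterm p), Finset.sum_neg_distrib, ← Finset.mul_sum, ← IH]
    have h0 : x * y 0 = algebraMap R S (r 0) - y 0 * x := eq_sub_of_add_eq (h 0)
    have hc : algebraMap R S (r 0) * Y' = r 0 • Y' := by rw [Algebra.smul_def]
    rw [← hc]
    have key : ∀ e : S, (e = 1 ∨ e = -1) →
        x * (y 0 * Y') + (e * -1) * (y 0 * Y' * x)
          = algebraMap R S (r 0) * Y' + -(y 0 * (x * Y' + e * (Y' * x))) := by
      rintro e (rfl | rfl)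
      · rw [← mul_assoc x, h0]; noncomm_ring
      · rw [← mul_assoc x, h0]; noncomm_ring
    rw [pow_succ]
    exact key _ (neg_one_pow_eq_or S n)

/-- Let S be an associative unital algebra over a commutative ring R, x an element and y_0, …, y_n
elements such that the anticommutator x y_i + y_i x equals r_i · 1 for scalars r_i ∈ R. Then the
graded commutator of x with the ordered product y_0 ⋯ y_n, namely x (y_0 ⋯ y_n) + (-1)^n (y_0 ⋯ y_n)
x, equals the sum over p of (-1)^p r_p times the ordered product of the y_q with q ≠ p. (The
published statement takes x homogeneous of degree 1 and the y_i homogeneous of degree -1 in a graded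
algebra with unit in degree 0, the signs being those of the supercommutator; this row states the
identity for arbitrary elements satisfying the anticommutation relations, which is what the
computation proves.) -/
theorem result {R : Type u} {S : Type v} [CommRing R] [Ring S]
    [Algebra R S] (n : ℕ) (x : S) (y : Fin (n + 1) → S) (r : Fin (n + 1) → R)
    (h : ∀ i : Fin (n + 1), x * y i + y i * x = algebraMap R S (r i)) :
    x * (List.ofFn y).prod + (-1 : S) ^ n * ((List.ofFn y).prod * x) =
      ∑ p : Fin (n + 1), (-1 : S) ^ (p : ℕ) * (r p • (List.ofFn (fun q : Fin n => y (p.succAbove q))).prod) := by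
  exact aux n x y r h

end Groth.Agent.S14115
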