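import Groth.Statements.S14118
-- import your own Groth.Agent.* helpers here

set_option autoImplicit false
universe u v w
open SuperComm

namespace Groth.Agent.S14118

section
variable {R : Type u} [CommRing R] {ι : Type v} [Fintype ι] [DecidableEq ι]
    (M : ι → Type w) [∀ i, AddCommGroup (M i)] [∀ i, Module R (M i)]
    [∀ i, Module.Free R (M i)] [∀ i, Module.Finite R (M i)]

theorem sum_comp' (f : ι → ((Π k, M k) →ₗ[R] (Π k, M k)))
    (g : (Π k, M k) →ₗ[R] (Π k, M k)) :
    (∑ i, f i) ∘ₗ g = ∑ i, (f i ∘ₗ g) := by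
  refine LinearMap.ext fun x => ?_
  simp only [LinearMap.comp_apply, LinearMap.sum_apply]

theorem str_eq (s : ι → R) (χ : (Π k, M k) →ₗ[R] (Π k, M k)) :
    LinearMap.trace R (Π k, M k) ((∑ i : ι, (LinearMap.single R M i) ∘ₗ
        (s i • (LinearMap.proj i : (Π k, M k) →ₗ[R] M i))) ∘ₗ χ)
      = ∑ i, s i * LinearMap.trace R (M i) (LinearMap.proj i ∘ₗ χ ∘ₗ LinearMap.single R M i) := by
  rw [sum_comp', map_sum]
  apply Finset.sum_congr rfl
  intro i _
  rw [LinearMap.comp_assoc, LinearMap.trace_comp_comm', LinearMap.smul_comp, LinearMap.smul_comp,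
    map_smul, LinearMap.comp_assoc, smul_eq_mul]

theorem block_comp (φ ψ : (Π k, M k) →ₗ[R] (Π k, M k)) (i : ι) :
    LinearMap.proj i ∘ₗ (φ ∘ₗ ψ) ∘ₗ LinearMap.single R M i
      = ∑ j, (LinearMap.proj i ∘ₗ φ ∘ₗ LinearMap.single R M j) ∘ₗ
          (LinearMap.proj j ∘ₗ ψ ∘ₗ LinearMap.single R M i) := by
  refine LinearMap.ext fun x => ?_
  simp only [LinearMap.comp_apply, LinearMap.sum_apply, LinearMap.proj_apply,
    LinearMap.coe_single]
  rw [← Finset.sum_apply, ← map_sum, Finset.univ_sum_single]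

theorem sgn_rel (p q a b : ℤ) (h1 : p = q + a) (h2 : q = p + b) :
    ((-1 : R) ^ p.natAbs) = ((-1 : R) ^ (a * b).natAbs) * ((-1 : R) ^ q.natAbs) := by
  have hb : b = -a := by omega
  subst hb
  subst h1
  rcases Int.even_or_odd a with ha | ha <;> rcases Int.even_or_odd q with hq | hq
  · have h1 : Even (q + a).natAbs := Int.natAbs_even.mpr (hq.add ha)
    have h2 : Even (a * -a).natAbs := Int.natAbs_even.mpr (ha.mul_right _)
    have h3 : Even q.natAbs := Int.natAbs_even.mpr hq
    rw [h1.neg_one_pow, h2.neg_one_pow, h3.neg_one_pow]; ring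
  · have h1 : Odd (q + a).natAbs := Int.natAbs_odd.mpr (hq.add_even ha)
    have h2 : Even (a * -a).natAbs := Int.natAbs_even.mpr (ha.mul_right _)
    have h3 : Odd q.natAbs := Int.natAbs_odd.mpr hq
    rw [h1.neg_one_pow, h2.neg_one_pow, h3.neg_one_pow]; ring
  · have h1 : Odd (q + a).natAbs := Int.natAbs_odd.mpr (hq.add_odd ha)
    have h2 : Odd (a * -a).natAbs := Int.natAbs_odd.mpr (ha.mul ha.neg)
    have h3 : Even q.natAbs := Int.natAbs_even.mpr hq
    rw [h1.neg_one_pow, h2.neg_one_pow, h3.neg_one_pow]; ring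
  · have h1 : Even (q + a).natAbs := Int.natAbs_even.mpr (hq.add_odd ha)
    have h2 : Odd (a * -a).natAbs := Int.natAbs_odd.mpr (ha.mul ha.neg)
    have h3 : Odd q.natAbs := Int.natAbs_odd.mpr hq
    rw [h1.neg_one_pow, h2.neg_one_pow, h3.neg_one_pow]; ring

end

/-- Let R be a commutative ring and M a finitely ℤ-graded R-module with finitely many nonzero graded
pieces, each finite free, presented as a finite family of finite free R-modules M_i with integer
degrees deg i (the piece of degree n being the product of the M_i with deg i = n); an endomorphism φ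
of the total module Π_i M_i has degree a when its (i, j) block vanishes unless deg j = deg i + a;
the supertrace of an endomorphism is the trace of its composite with the grading involution ε = Σ_i
(-1)^{deg i} pr_i. If φ and ψ have degrees a and b, the supertrace of the supercommutator φψ -
(-1)^{ab} ψφ vanishes. (The published statement allows the graded pieces to be finitely generated
projective; this row takes them finite free, where the trace is the ordinary trace of a free
module.) -/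
theorem result {R : Type u} [CommRing R] {ι : Type v} [Fintype ι] [DecidableEq ι]
    (deg : ι → ℤ) (M : ι → Type w) [∀ i, AddCommGroup (M i)] [∀ i, Module R (M i)]
    [∀ i, Module.Free R (M i)] [∀ i, Module.Finite R (M i)]
    (a b : ℤ) (φ ψ : (Π k, M k) →ₗ[R] (Π k, M k))
    (hφ : ∀ i j : ι, deg j ≠ deg i + a → (LinearMap.proj j) ∘ₗ φ ∘ₗ (LinearMap.single R M i) = 0)
    (hψ : ∀ i j : ι, deg j ≠ deg i + b → (LinearMap.proj j) ∘ₗ ψ ∘ₗ (LinearMap.single R M i) = 0) :
    LinearMap.trace R (Π k, M k)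
      ((∑ i : ι, (LinearMap.single R M i) ∘ₗ (((-1 : R) ^ (deg i).natAbs) • (LinearMap.proj i : (Π k, M k) →ₗ[R] M i))) ∘ₗ (φ ∘ₗ ψ - ((-1 : R) ^ (a * b).natAbs) • (ψ ∘ₗ φ))) = 0 := by
  rw [str_eq M (fun i => (-1 : R) ^ (deg i).natAbs)]
  have hblk : ∀ i : ι, LinearMap.proj i ∘ₗ (φ ∘ₗ ψ - ((-1 : R) ^ (a * b).natAbs) • (ψ ∘ₗ φ)) ∘ₗ
      LinearMap.single R M i
      = LinearMap.proj i ∘ₗ (φ ∘ₗ ψ) ∘ₗ LinearMap.single R M i
        - ((-1 : R) ^ (a * b).natAbs) • (LinearMap.proj i ∘ₗ (ψ ∘ₗ φ) ∘ₗ LinearMap.single R M i) := by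
    intro i
    rw [LinearMap.sub_comp, LinearMap.comp_sub, LinearMap.smul_comp, LinearMap.comp_smul]
  simp only [hblk, map_sub, map_smul, block_comp, map_sum, smul_eq_mul, mul_sub, Finset.mul_sum,
    Finset.sum_sub_distrib]
  rw [sub_eq_zero]
  rw [Finset.sum_comm (f := fun i j => (-1 : R) ^ (deg i).natAbs * ((-1 : R) ^ (a * b).natAbs *
    (LinearMap.trace R (M i)) ((LinearMap.proj i ∘ₗ ψ ∘ₗ LinearMap.single R M j) ∘ₗ
      LinearMap.proj j ∘ₗ φ ∘ₗ LinearMap.single R M i)))]
  apply Finset.sum_congr rfl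
  intro i _
  apply Finset.sum_congr rfl
  intro j _
  rw [LinearMap.trace_comp_comm' (LinearMap.proj j ∘ₗ ψ ∘ₗ LinearMap.single R M i)]
  by_cases h1 : deg i = deg j + a
  · by_cases h2 : deg j = deg i + b
    · rw [sgn_rel (R := R) (deg i) (deg j) a b h1 h2]
      ring
    · rw [hψ i j h2]; simp
  · rw [hφ j i h1]; simp

end Groth.Agent.S14118
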