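import Groth.Statements.S14122
import Mathlib.LinearAlgebra.FreeModule.PID
import Mathlib.RingTheory.Localization.Module
import Mathlib.LinearAlgebra.Matrix.Basis
import Mathlib.LinearAlgebra.Matrix.ToLin

set_option autoImplicit false
universe u
open ValCrit

set_option linter.unusedSectionVars false

namespace Groth.Agent.S14122Aux
open Matrix

variable {R : Type u} [CommRing R] [IsDomain R] [IsDiscreteValuationRing R]
  {K : Type u} [Field K] [Algebra R K] [IsFractionRing R K] {N : ℕ}

/-- action of `GL_N(K)` on `K^N` -/
noncomputable def act (A : GL (Fin N) K) : (Fin N → K) →ₗ[K] (Fin N → K) := Matrix.toLin' A.val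

lemma act_mul (A B : GL (Fin N) K) : act (A * B) = act A ∘ₗ act B := by
  unfold act
  rw [Units.val_mul, Matrix.toLin'_mul]

lemma act_one : act (1 : GL (Fin N) K) = LinearMap.id := by
  unfold act
  rw [Units.val_one, Matrix.toLin'_one]

/-- the lattice generated by the orbit of the standard basis -/
noncomputable def Lat (R : Type u) [CommRing R] [Algebra R K] (g : GL (Fin N) K) (n : ℕ) :
    Submodule R (Fin N → K) :=
  Submodule.span R (Set.range fun ij : Fin n × Fin N => act (g ^ (ij.1 : ℕ)) (Pi.single ij.2 1))

lemma Lat_fg (g : GL (Fin N) K) (n : ℕ) : (Lat R g n).FG :=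
  Submodule.fg_span (Set.finite_range _)

lemma single_mem_Lat (g : GL (Fin N) K) (n : ℕ) (hn : 0 < n) (j : Fin N) :
    (Pi.single j 1 : Fin N → K) ∈ Lat R g n := by
  apply Submodule.subset_span
  refine ⟨(⟨0, hn⟩, j), ?_⟩
  simp [act_one]

lemma act_pow_mem_Lat (g : GL (Fin N) K) (n : ℕ) (hn : 0 < n) (hgn : g ^ n = 1) (k : ℕ)
    (x : Fin N → K) (hx : x ∈ Lat R g n) : act (g ^ k) x ∈ Lat R g n := by
  have : (Lat R g n).map ((act (g ^ k)).restrictScalars R) ≤ Lat R g n := by
    unfold Lat
    rw [Submodule.map_span_le]
    rintro _ ⟨⟨i, j⟩, rfl⟩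
    simp only [LinearMap.coe_restrictScalars]
    have h1 : act (g ^ k) (act (g ^ (i : ℕ)) (Pi.single j 1)) =
        act (g ^ ((k + i) % n)) (Pi.single j 1) := by
      rw [← LinearMap.comp_apply, ← act_mul, ← pow_add]
      congr 2
      conv_lhs => rw [← Nat.div_add_mod (k + i) n, pow_add, pow_mul, hgn, one_pow, one_mul]
    rw [h1]
    apply Submodule.subset_span
    exact ⟨(⟨(k + i) % n, Nat.mod_lt _ hn⟩, j), rfl⟩
  exact this (Submodule.mem_map_of_mem hx)


lemma exists_basis (L : Submodule R (Fin N → K)) (hfg : L.FG)
    (hE : ∀ j : Fin N, (Pi.single j 1 : Fin N → K) ∈ L) :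
    ∃ (B : Module.Basis (Fin N) K (Fin N → K)) (b : Module.Basis (Fin N) R L),
      ∀ i, ((b i : L) : Fin N → K) = B i := by
  have : Module.Finite R L := Module.Finite.iff_fg.mpr hfg
  have : Module.IsTorsionFree R L := by
    apply Module.IsTorsionFree.of_smul_eq_zero
    intro r m hrm
    have h1 : (algebraMap R K r) • (m : Fin N → K) = 0 := by
      have := congrArg (Subtype.val) hrm
      simpa [algebraMap_smul] using this
    rcases smul_eq_zero.mp h1 with h2 | h2
    · left
      exact (IsFractionRing.injective R K) (by rw [h2, map_zero])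
    · right
      exact Subtype.ext h2
  have : Module.Free R L := Module.free_of_finite_type_torsion_free'
  let b0 := Module.Free.chooseBasis R L
  let v : Module.Free.ChooseBasisIndex R L → (Fin N → K) := fun i => ((b0 i : L) : Fin N → K)
  have hliR : LinearIndependent R v := by
    have := b0.linearIndependent.map' L.subtype (Submodule.ker_subtype L)
    exact this
  have hli : LinearIndependent K v := (LinearIndependent.iff_fractionRing R K).mp hliR
  have hLsub : (L : Set (Fin N → K)) ⊆ Submodule.span K (Set.range v) := by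
    intro x hx
    have hx' : (⟨x, hx⟩ : L) ∈ Submodule.span R (Set.range b0) := by
      rw [b0.span_eq]; trivial
    have h2 : x ∈ Submodule.span R (Set.range v) := by
      have := Submodule.mem_map_of_mem (f := L.subtype) hx'
      rw [Submodule.map_span, ← Set.range_comp] at this
      exact this
    exact Submodule.span_le_restrictScalars R K _ h2
  have hsp : ⊤ ≤ Submodule.span K (Set.range v) := by
    rw [← (Pi.basisFun K (Fin N)).span_eq, Submodule.span_le]
    rintro _ ⟨j, rfl⟩
    apply hLsub
    simpa using hE j
  let B0 : Module.Basis (Module.Free.ChooseBasisIndex R L) K (Fin N → K) := Module.Basis.mk hli hsp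
  have hcard : Fintype.card (Module.Free.ChooseBasisIndex R L) = Fintype.card (Fin N) := by
    rw [← Module.finrank_eq_card_basis B0, ← Module.finrank_eq_card_basis (Pi.basisFun K (Fin N))]
  let e : Module.Free.ChooseBasisIndex R L ≃ Fin N := Fintype.equivOfCardEq hcard
  refine ⟨B0.reindex e, b0.reindex e, ?_⟩
  intro i
  simp [B0, v]


lemma repr_eq (L : Submodule R (Fin N → K)) (B : Module.Basis (Fin N) K (Fin N → K))
    (b : Module.Basis (Fin N) R L) (hBb : ∀ i, ((b i : L) : Fin N → K) = B i)
    (x : Fin N → K) (hx : x ∈ L) (i : Fin N) :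
    B.repr x i = algebraMap R K (b.repr ⟨x, hx⟩ i) := by
  have hsum := congrArg Subtype.val (b.sum_repr ⟨x, hx⟩)
  simp only [Submodule.coe_sum, Submodule.coe_smul, hBb] at hsum
  set c : Fin N → R := fun k => b.repr ⟨x, hx⟩ k with hc
  have h2 : x = ∑ k, (algebraMap R K (c k)) • B k := by
    rw [← hsum]
    exact Finset.sum_congr rfl fun k _ => (algebraMap_smul K _ _).symm
  have h3 : B.repr x i = B.repr (∑ k, (algebraMap R K (c k)) • B k) i := by rw [← h2]
  rw [h3, B.repr_sum_self]

/-- matrix over `R` of an operator preserving the lattice -/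
noncomputable def matR (L : Submodule R (Fin N → K)) (B : Module.Basis (Fin N) K (Fin N → K))
    (b : Module.Basis (Fin N) R L) (T : (Fin N → K) →ₗ[K] (Fin N → K))
    (hT : ∀ x ∈ L, T x ∈ L) (hB : ∀ j, B j ∈ L) : Matrix (Fin N) (Fin N) R :=
  Matrix.of fun i j => b.repr ⟨T (B j), hT _ (hB j)⟩ i

lemma matR_map (L : Submodule R (Fin N → K)) (B : Module.Basis (Fin N) K (Fin N → K))
    (b : Module.Basis (Fin N) R L) (hBb : ∀ i, ((b i : L) : Fin N → K) = B i)
    (T : (Fin N → K) →ₗ[K] (Fin N → K))
    (hT : ∀ x ∈ L, T x ∈ L) (hB : ∀ j, B j ∈ L) :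
    (matR L B b T hT hB).map (algebraMap R K) = LinearMap.toMatrix B B T := by
  refine Matrix.ext fun i j => ?_
  rw [Matrix.map_apply, LinearMap.toMatrix_apply, matR, Matrix.of_apply,
    repr_eq L B b hBb _ (hT _ (hB j)) i]


theorem main (g : GL (Fin N) K) (hg : IsOfFinOrder g) :
    ∃ (h : GL (Fin N) K) (g' : GL (Fin N) R),
      h * g * h⁻¹ = Matrix.GeneralLinearGroup.map (algebraMap R K) g' := by
  classical
  set n := orderOf g with hn_def
  have hn : 0 < n := hg.orderOf_pos
  have hgn : g ^ n = 1 := pow_orderOf_eq_one g
  set L := Lat R g n with hL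
  obtain ⟨B, b, hBb⟩ := exists_basis L (Lat_fg g n) (single_mem_Lat g n hn)
  have hB : ∀ j, B j ∈ L := fun j => hBb j ▸ (b j).2
  have stab : ∀ k, ∀ x ∈ L, act (g ^ k) x ∈ L := fun k x hx => act_pow_mem_Lat g n hn hgn k x hx
  set MR := matR L B b (act (g ^ 1)) (stab 1) hB with hMR
  set MR' := matR L B b (act (g ^ (n - 1))) (stab (n - 1)) hB with hMR'
  have hinj : Function.Injective (fun M : Matrix (Fin N) (Fin N) R => M.map (algebraMap R K)) :=
    Matrix.map_injective (IsFractionRing.injective R K)
  have hcomp : ∀ k l, LinearMap.toMatrix B B (act (g ^ k)) * LinearMap.toMatrix B B (act (g ^ l)) =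
      LinearMap.toMatrix B B (act (g ^ (k + l))) := by
    intro k l
    rw [← LinearMap.toMatrix_comp, ← act_mul, ← pow_add]
  have hone : LinearMap.toMatrix B B (act (g ^ n)) = 1 := by
    rw [hgn, act_one, LinearMap.toMatrix_id]
  have h1 : MR * MR' = 1 := by
    apply hinj
    simp only
    rw [Matrix.map_mul, hMR, hMR', matR_map L B b hBb, matR_map L B b hBb, hcomp,
      show 1 + (n - 1) = n by omega, hone, Matrix.map_one _ (map_zero _) (map_one _)]
  have h2 : MR' * MR = 1 := by
    apply hinj
    simp only
    rw [Matrix.map_mul, hMR, hMR', matR_map L B b hBb, matR_map L B b hBb, hcomp,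
      show (n - 1) + 1 = n by omega, hone, Matrix.map_one _ (map_zero _) (map_one _)]
  let E := Pi.basisFun K (Fin N)
  refine ⟨⟨B.toMatrix E, E.toMatrix B, B.toMatrix_mul_toMatrix_flip E, E.toMatrix_mul_toMatrix_flip B⟩,
    ⟨MR, MR', h1, h2⟩, ?_⟩
  apply Units.ext
  have hE : LinearMap.toMatrix E E (act g) = g.val := by
    unfold act
    rw [LinearMap.toMatrix_eq_toMatrix', LinearMap.toMatrix'_toLin']
  have := basis_toMatrix_mul_linearMap_toMatrix_mul_basis_toMatrix B E B E (act g)
  rw [hE] at this
  show B.toMatrix E * g.val * E.toMatrix B = MR.map (algebraMap R K)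
  rw [this, hMR, matR_map L B b hBb, pow_one]

end Groth.Agent.S14122Aux

namespace Groth.Agent.S14122

/-- Let `R` be a discrete valuation ring with fraction field `K` and `g ∈ GL_N(K)` an element of finite
order. Then after passing to a finite extension `K'` of `K` and a discrete valuation ring `R'` of
`K'` dominating `R`, the element `g` becomes conjugate in `GL_N(K')` to an element of `GL_N(R')`.
(The published statement is that the classifying stack of `GL_N` over the integers satisfies a
valuative condition, for discrete valuation rings essentially of finite type over the integers, on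
extending finite-order generic automorphisms along nearby modifications; since vector bundles over a
discrete valuation ring are trivial, that condition is this conjugacy statement for such rings, and
this row states it for every discrete valuation ring, as the printed argument gives.) -/
theorem result
    (R : Type u) [CommRing R] [IsDomain R] [IsDiscreteValuationRing R]
    (K : Type u) [Field K] [Algebra R K] [IsFractionRing R K]
    (N : ℕ) (g : GL (Fin N) K) (hg : IsOfFinOrder g) :
    ∃ (R' : Type u) (_ : CommRing R') (_ : IsDomain R') (_ : IsDiscreteValuationRing R')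
      (K' : Type u) (_ : Field K') (_ : Algebra R' K') (_ : IsFractionRing R' K')
      (_ : Algebra R R') (_ : Algebra K K') (_ : Algebra R K')
      (_ : IsScalarTower R R' K') (_ : IsScalarTower R K K')
      (_ : Module.Finite K K') (_ : IsLocalHom (algebraMap R R'))
      (h : GL (Fin N) K') (g' : GL (Fin N) R'),
      h * Matrix.GeneralLinearGroup.map (algebraMap K K') g * h⁻¹ =
        Matrix.GeneralLinearGroup.map (algebraMap R' K') g' := by
  obtain ⟨h, g', hh⟩ := Groth.Agent.S14122Aux.main (R := R) g hg
  refine ⟨R, inferInstance, inferInstance, inferInstance, K, inferInstance, inferInstance,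
    inferInstance, Algebra.id R, Algebra.id K, inferInstance, inferInstance, inferInstance,
    inferInstance, ?_, h, g', ?_⟩
  · exact ⟨fun a ha => ha⟩
  · have : Matrix.GeneralLinearGroup.map (algebraMap K K) g = g := by
      apply Units.ext
      ext i j
      simp
    rw [this]
    exact hh

end Groth.Agent.S14122
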