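import Groth.Statements.S14123
import Mathlib
import Groth.Agent.Lib.Helper91.RootDVR

set_option autoImplicit false
universe u v
open GmQuot

set_option linter.unusedSectionVars false

namespace Groth.Agent.S14123Aux

open Groth.Agent.Lib.Helper91.RootDVR

section X
variable {A : Type u} [CommRing A] (𝒜 : ℤ → AddSubgroup A) [GradedRing 𝒜]
  {R' : Type v} [CommRing R'] [IsDomain R'] {K' : Type v} [Field K'] [Algebra R' K']
  (hinj : Function.Injective (algebraMap R' K'))
  (φ' : A →+* R') (ϖ : R') (hϖ : ϖ ≠ 0)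

/-- the rescaled hom into the fraction field -/
noncomputable def gK : A →+* K' :=
  (DirectSum.toSemiring (fun d : ℤ =>
    ({ toFun := fun a => algebraMap R' K' (φ' (a : A)) * (algebraMap R' K' ϖ) ^ (-d)
       map_zero' := by simp
       map_add' := by intro a b; simp [add_mul] } : 𝒜 d →+ K'))
    (by
      show algebraMap R' K' (φ' ((1 : 𝒜 0) : A)) * (algebraMap R' K' ϖ) ^ (-(0:ℤ)) = 1
      simp)
    (by
      intro i j ai aj
      show algebraMap R' K' (φ' ((ai : A) * (aj : A))) * (algebraMap R' K' ϖ) ^ (-(i + j)) =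
        (algebraMap R' K' (φ' (ai : A)) * (algebraMap R' K' ϖ) ^ (-i)) *
          (algebraMap R' K' (φ' (aj : A)) * (algebraMap R' K' ϖ) ^ (-j))
      have h0 : algebraMap R' K' ϖ ≠ 0 := fun h => hϖ (hinj (by rw [h, map_zero]))
      rw [map_mul, map_mul, neg_add, zpow_add₀ h0]
      ring)).comp (DirectSum.decomposeRingEquiv 𝒜).toRingHom

theorem gK_of_mem {d : ℤ} {a : A} (ha : a ∈ 𝒜 d) :
    gK 𝒜 hinj φ' ϖ hϖ a = algebraMap R' K' (φ' a) * (algebraMap R' K' ϖ) ^ (-d) := by
  unfold gK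
  rw [RingHom.comp_apply]
  show (DirectSum.toSemiring _ _ _) (DirectSum.decompose 𝒜 a) = _
  rw [DirectSum.decompose_of_mem 𝒜 ha, DirectSum.toSemiring_of]
  rfl

/-- If `ϖ^d` divides `φ' a` for homogeneous `a` of positive degree `d`, the rescaled hom lands in
`R'`. -/
theorem gK_mem_range
    (H : ∀ (d : ℤ), 0 < d → ∀ a ∈ 𝒜 d, ϖ ^ d.toNat ∣ φ' a) (a : A) :
    gK 𝒜 hinj φ' ϖ hϖ a ∈ (algebraMap R' K').range := by
  have h0 : algebraMap R' K' ϖ ≠ 0 := fun h => hϖ (hinj (by rw [h, map_zero]))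
  induction a using DirectSum.Decomposition.inductionOn 𝒜 with
  | zero => rw [map_zero]; exact Subring.zero_mem _
  | @homogeneous d m =>
    rw [gK_of_mem 𝒜 hinj φ' ϖ hϖ m.2]
    by_cases hd : 0 < d
    · obtain ⟨r, hr⟩ := H d hd m.1 m.2
      refine ⟨r, ?_⟩
      rw [hr, map_mul, map_pow]
      have hd' : ((d.toNat : ℕ) : ℤ) = d := Int.toNat_of_nonneg hd.le
      rw [zpow_neg, ← zpow_natCast, hd']
      field_simp
    · refine ⟨φ' m.1 * ϖ ^ (-d).toNat, ?_⟩
      have hd' : (((-d).toNat : ℕ) : ℤ) = -d := Int.toNat_of_nonneg (by omega)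
      rw [map_mul, map_pow, ← zpow_natCast, hd']
  | add m m' h1 h2 => rw [map_add]; exact Subring.add_mem _ h1 h2

include hinj hϖ in
/-- The rescaled hom into `R'`. -/
theorem exists_g (H : ∀ (d : ℤ), 0 < d → ∀ a ∈ 𝒜 d, ϖ ^ d.toNat ∣ φ' a) :
    ∃ g : A →+* R', ∀ (d : ℤ) (a : A), a ∈ 𝒜 d →
      algebraMap R' K' (g a) * (algebraMap R' K' ϖ) ^ d = algebraMap R' K' (φ' a) := by
  have h0 : algebraMap R' K' ϖ ≠ 0 := fun h => hϖ (hinj (by rw [h, map_zero]))
  have hmem := gK_mem_range 𝒜 hinj φ' ϖ hϖ H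
  choose r hr using hmem
  have hr' : ∀ a, algebraMap R' K' (r a) = gK 𝒜 hinj φ' ϖ hϖ a := hr
  refine ⟨{ toFun := r
            map_one' := hinj (by rw [hr', map_one, map_one])
            map_mul' := fun a b => hinj (by rw [hr', map_mul, map_mul, hr', hr'])
            map_zero' := hinj (by rw [hr', map_zero, map_zero])
            map_add' := fun a b => hinj (by rw [hr', map_add, map_add, hr', hr']) }, ?_⟩
  intro d a ha
  show algebraMap R' K' (r a) * _ = _
  rw [hr', gK_of_mem 𝒜 hinj φ' ϖ hϖ ha, mul_assoc, ← zpow_add₀ h0, neg_add_cancel, zpow_zero,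
    mul_one]

end X

section D
variable {A : Type u} [CommRing A] (𝒜 : ℤ → AddSubgroup A) [GradedRing 𝒜]
  {R' : Type v} [CommRing R'] (φ' : A →+* R') (ϖ : R')

theorem dvd_of_generators (T : Finset A)
    (hT : ∀ t ∈ T, ∃ d : ℤ, 0 < d ∧ t ∈ 𝒜 d)
    (hspan : Ideal.span {a : A | ∃ d : ℤ, 0 < d ∧ a ∈ 𝒜 d} = Ideal.span (T : Set A))
    (hgen : ∀ t ∈ T, ∀ d : ℤ, 0 < d → t ∈ 𝒜 d → ϖ ^ d.toNat ∣ φ' t) :
    ∀ (n : ℕ) (d : ℤ), 0 < d → d.toNat = n → ∀ a ∈ 𝒜 d, ϖ ^ d.toNat ∣ φ' a := by
  classical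
  intro n
  induction n using Nat.strong_induction_on with
  | _ n ih =>
  intro d hd hdn a ha
  have hmem : a ∈ Ideal.span (T : Set A) := by
    rw [← hspan]; exact Ideal.subset_span ⟨d, hd, ha⟩
  obtain ⟨c, -, hc⟩ := Submodule.mem_span_finset.mp hmem
  -- degrees of generators
  choose! dt hdt using hT
  have hdec : a = ∑ t ∈ T, (DirectSum.decompose 𝒜 (c t) (d - dt t) : A) * t := by
    have h1 : (DirectSum.decompose 𝒜 a d : A) = a := DirectSum.decompose_of_mem_same 𝒜 ha
    rw [← h1, ← hc, DirectSum.decompose_sum, DFinsupp.finsetSum_apply,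
      AddSubmonoidClass.coe_finsetSum]
    refine Finset.sum_congr rfl fun t ht => ?_
    have := DirectSum.coe_decompose_mul_add_of_right_mem 𝒜 (i := d - dt t) (a := c t)
      (hdt t ht).2
    rw [sub_add_cancel] at this
    rw [smul_eq_mul]
    exact this
  rw [hdec, map_sum]
  refine Finset.dvd_sum fun t ht => ?_
  rw [map_mul]
  obtain ⟨hdt0, hdtm⟩ := hdt t ht
  have hgt := hgen t ht (dt t) hdt0 hdtm
  by_cases hlt : d - dt t ≤ 0
  · -- `d ≤ dt t`
    have hle : d.toNat ≤ (dt t).toNat := Int.toNat_le_toNat (by omega)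
    exact Dvd.dvd.mul_left ((pow_dvd_pow ϖ hle).trans hgt) _
  · have hpos : 0 < d - dt t := by omega
    have hlt' : (d - dt t).toNat < n := by omega
    have h1 := ih _ hlt' (d - dt t) hpos rfl _ (DirectSum.decompose 𝒜 (c t) (d - dt t)).2
    have hsum : d.toNat = (d - dt t).toNat + (dt t).toNat := by omega
    rw [hsum, pow_add]
    exact mul_dvd_mul h1 hgt

end D

section MainThm

theorem main
    {A : Type u} [CommRing A] (𝒜 : ℤ → AddSubgroup A) [GradedRing 𝒜]
    (hfg : (Ideal.span {a : A | ∃ d : ℤ, 0 < d ∧ a ∈ 𝒜 d}).FG)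
    (R : Type v) [CommRing R] [IsDomain R] [IsDiscreteValuationRing R]
    (K : Type v) [Field K] [Algebra R K] [IsFractionRing R K]
    (φ : A →+* R)
    (hle : Ideal.map φ (Ideal.span {a : A | ∃ d : ℤ, 0 < d ∧ a ∈ 𝒜 d}) ≤ IsLocalRing.maximalIdeal R)
    (hne : Ideal.map φ (Ideal.span {a : A | ∃ d : ℤ, 0 < d ∧ a ∈ 𝒜 d}) ≠ ⊥) :
    ∃ (R' : Type v) (_ : CommRing R') (_ : IsDomain R') (_ : IsDiscreteValuationRing R')
      (K' : Type v) (_ : Field K') (_ : Algebra R' K') (_ : IsFractionRing R' K')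
      (_ : Algebra R R') (_ : Algebra K K') (_ : Algebra R K')
      (_ : IsScalarTower R R' K') (_ : IsScalarTower R K K')
      (_ : Module.Finite K K') (_ : IsLocalHom (algebraMap R R'))
      (ϖ : R') (g : A →+* R'),
      ϖ ≠ 0 ∧ ϖ ∈ IsLocalRing.maximalIdeal R' ∧
      (∀ (d : ℤ) (a : A), a ∈ 𝒜 d →
        algebraMap R' K' (g a) * algebraMap R' K' ϖ ^ d = algebraMap R K' (φ a)) ∧
      Ideal.map g (Ideal.span {a : A | ∃ d : ℤ, 0 < d ∧ a ∈ 𝒜 d}) = ⊤ := by
  classical
  obtain ⟨π, hπ⟩ := IsDiscreteValuationRing.exists_irreducible R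
  obtain ⟨T, hTS, hspan⟩ := (Submodule.fg_span_iff_fg_span_finset_subset _).mp hfg
  have hspan' : Ideal.span {a : A | ∃ d : ℤ, 0 < d ∧ a ∈ 𝒜 d} = Ideal.span (T : Set A) := hspan
  have hT : ∀ t ∈ T, ∃ d : ℤ, 0 < d ∧ t ∈ 𝒜 d := fun t ht => hTS ht
  have hval : ∀ t ∈ T, φ t ≠ 0 → ∃ n : ℕ, 0 < n ∧ ∃ w : Rˣ, φ t = w * π ^ n := by
    intro t ht h0
    obtain ⟨n, w, hw⟩ := IsDiscreteValuationRing.eq_unit_mul_pow_irreducible h0 hπ
    refine ⟨n, ?_, w, hw⟩
    by_contra hn
    have hn0 : n = 0 := by omega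
    subst hn0
    have hmem : φ t ∈ IsLocalRing.maximalIdeal R :=
      hle (Ideal.mem_map_of_mem φ (Ideal.subset_span (hTS ht)))
    rw [hw, pow_zero, mul_one] at hmem
    exact (IsLocalRing.mem_maximalIdeal _).mp hmem w.isUnit
  have hex : ∃ t ∈ T, φ t ≠ 0 := by
    by_contra hcon
    push Not at hcon
    apply hne
    rw [hspan', Ideal.map_span, Ideal.span_eq_bot]
    rintro _ ⟨t, ht, rfl⟩
    exact hcon t ht
  choose! dt hdt using hT
  choose! vt hvt using hval
  -- minimise `vt / dt`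
  have hT'ne : (T.filter fun t => φ t ≠ 0).Nonempty := by
    obtain ⟨t, ht, h0⟩ := hex
    exact ⟨t, Finset.mem_filter.mpr ⟨ht, h0⟩⟩
  obtain ⟨t0, ht0, hmin⟩ := Finset.exists_min_image (T.filter fun t => φ t ≠ 0)
    (fun t => (vt t : ℚ) / ((dt t).toNat : ℚ)) hT'ne
  rw [Finset.mem_filter] at ht0
  obtain ⟨ht0T, ht0ne⟩ := ht0
  have hdpos : ∀ t ∈ T, 0 < (dt t).toNat := fun t ht => by have := (hdt t ht).1; omega
  have hcross : ∀ t ∈ T, φ t ≠ 0 → vt t0 * (dt t).toNat ≤ vt t * (dt t0).toNat := by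
    intro t ht h0
    have h1 := hmin t (Finset.mem_filter.mpr ⟨ht, h0⟩)
    have hp1 : (0 : ℚ) < ((dt t0).toNat : ℚ) := by exact_mod_cast hdpos t0 ht0T
    have hp2 : (0 : ℚ) < ((dt t).toNat : ℚ) := by exact_mod_cast hdpos t ht
    have h2 := (div_le_div_iff₀ hp1 hp2).mp h1
    exact_mod_cast h2
  -- the extension
  have he : 0 < (dt t0).toNat := hdpos t0 ht0T
  obtain ⟨hu0, w0, hw0⟩ := hvt t0 ht0T ht0ne
  let R' := Ext π (dt t0).toNat
  have hdom : IsDomain R' := isDomain hπ he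
  have hdvr : IsDiscreteValuationRing R' := isDVR hπ he
  let x : R' := AdjoinRoot.root (pol π (dt t0).toNat)
  have hx0 : x ≠ 0 := root_ne_zero hπ he
  have hxpow : ∀ r : R, ∀ n : ℕ, algebraMap R R' (r * π ^ n) =
      algebraMap R R' r * x ^ ((dt t0).toNat * n) := by
    intro r n
    rw [map_mul, map_pow, pow_mul]
    congr 2
    exact (root_pow π (dt t0).toNat).symm
  let ϖ : R' := x ^ vt t0
  have hϖ0 : ϖ ≠ 0 := pow_ne_zero _ hx0
  let φ' : A →+* R' := (algebraMap R R').comp φ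
  have hgen : ∀ t ∈ T, ∀ d : ℤ, 0 < d → t ∈ 𝒜 d → ϖ ^ d.toNat ∣ φ' t := by
    intro t ht d hd htd
    by_cases h0 : φ t = 0
    · show ϖ ^ d.toNat ∣ algebraMap R R' (φ t)
      rw [h0, map_zero]; exact dvd_zero _
    · have htne : t ≠ 0 := fun h => h0 (by rw [h, map_zero])
      have hdeq : d = dt t := DirectSum.degree_eq_of_mem_mem 𝒜 htd (hdt t ht).2 htne
      obtain ⟨-, w, hw⟩ := hvt t ht h0
      show ϖ ^ d.toNat ∣ algebraMap R R' (φ t)
      rw [hw, hxpow, hdeq, ← pow_mul]
      refine Dvd.dvd.mul_left (pow_dvd_pow x ?_) _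
      have := hcross t ht h0
      calc vt t0 * (dt t).toNat ≤ vt t * (dt t0).toNat := this
        _ = (dt t0).toNat * vt t := mul_comm _ _
  have hD := dvd_of_generators 𝒜 φ' ϖ T (fun t ht => ⟨dt t, hdt t ht⟩) hspan' hgen
  have H : ∀ (d : ℤ), 0 < d → ∀ a ∈ 𝒜 d, ϖ ^ d.toNat ∣ φ' a :=
    fun d hd a ha => hD _ d hd rfl a ha
  let K' := FractionRing R'
  have hinj : Function.Injective (algebraMap R' K') := IsFractionRing.injective R' K'
  obtain ⟨g, hg⟩ := exists_g 𝒜 hinj φ' ϖ hϖ0 H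
  -- algebra structures
  have tower1 : IsScalarTower R R' K' := inferInstance
  have hinjRR' : Function.Injective (algebraMap R R') := of_injective π he
  have hinjRK' : Function.Injective (algebraMap R K') := by
    rw [IsScalarTower.algebraMap_eq R R' K']
    exact hinj.comp hinjRR'
  let algKK' : Algebra K K' := (IsFractionRing.lift hinjRK').toAlgebra
  have tower2 : IsScalarTower R K K' :=
    IsScalarTower.of_algebraMap_eq (fun r => (IsFractionRing.lift_algebraMap hinjRK' r).symm)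
  have hfinRR' : Module.Finite R R' := finite π he
  have hfaith : FaithfulSMul R R' := (faithfulSMul_iff_algebraMap_injective R R').mpr hinjRR'
  have halg : Algebra.IsAlgebraic R R' := Algebra.IsAlgebraic.of_finite R R'
  have hfin : Module.Finite K K' := Module.Finite.of_isLocalization R R' (nonZeroDivisors R)
  have hloc : IsLocalHom (algebraMap R R') := isLocalHom hπ he
  refine ⟨R', inferInstance, hdom, hdvr, K', inferInstance, inferInstance, inferInstance,
    inferInstance, algKK', inferInstance, tower1, tower2, hfin, hloc, ϖ, g, hϖ0, ?_, ?_, ?_⟩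
  · -- `ϖ` is a non-unit
    rw [IsLocalRing.mem_maximalIdeal, mem_nonunits_iff]
    intro hunit
    have hxunit : IsUnit x := isUnit_of_dvd_unit (dvd_pow_self x hu0.ne') hunit
    have hmax := span_root_isMaximal hπ he
    exact hmax.ne_top (Ideal.eq_top_of_isUnit_mem _ (Ideal.mem_span_singleton_self x) hxunit)
  · intro d a ha
    rw [hg d a ha]
    exact (IsScalarTower.algebraMap_apply R R' K' (φ a)).symm
  · -- `g t0` is a unit
    have h1 := hg (dt t0) t0 (hdt t0 ht0T).2
    have hcast : (((dt t0).toNat : ℕ) : ℤ) = dt t0 := Int.toNat_of_nonneg (hdt t0 ht0T).1.le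
    have h2 : φ' t0 = algebraMap R R' (w0 : R) * ϖ ^ (dt t0).toNat := by
      show algebraMap R R' (φ t0) = _
      rw [hw0, hxpow, ← pow_mul, mul_comm (vt t0)]
    have h1' : algebraMap R' K' (g t0) * algebraMap R' K' ϖ ^ (((dt t0).toNat : ℕ) : ℤ) =
        algebraMap R' K' (φ' t0) := by rw [hcast]; exact h1
    rw [h2, zpow_natCast, ← map_pow, ← map_mul] at h1'
    have h3 := hinj h1'
    have h4 : g t0 = algebraMap R R' (w0 : R) :=
      mul_right_cancel₀ (pow_ne_zero _ hϖ0) h3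
    have hunit : IsUnit (g t0) := by rw [h4]; exact w0.isUnit.map _
    exact Ideal.eq_top_of_isUnit_mem _
      (Ideal.mem_map_of_mem g (Ideal.subset_span (hTS ht0T))) hunit

end MainThm

end Groth.Agent.S14123Aux

namespace Groth.Agent.S14123

/-- Let `A = ⊕_{d ∈ ℤ} A_d` be a graded commutative ring whose ideal `I₊` generated by the homogeneous
elements of positive degree is finitely generated, `R` a discrete valuation ring with fraction field
`K`, and `φ : A → R` a ring map with `φ(I₊) ≠ 0` and `φ(I₊)` inside the maximal ideal. Then after a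
finite extension `K'/K` and a discrete valuation ring `R'` of `K'` dominating `R` there are a
nonzero non-unit `ϖ ∈ R'` and a ring map `g : A → R'` with `g(a) ϖ^d = φ(a)` for every homogeneous
`a` of degree `d` (so `g` is `φ` rescaled through the grading by `ϖ`), such that `g(I₊) R' = R'`.
(The published statement is phrased for the quotient stack of `Spec A` by the multiplicative group
and its closed substack cut out by `I₊`, in a setting where `A` is Noetherian, being of finite type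
over a Noetherian base: an `R`-point whose closed point lies in that substack and whose generic
point does not admits, after a finite extension, an elementary modification avoiding the substack;
this row is the graded-ring statement the printed argument proves, assuming only that `I₊` is
finitely generated, which is all that argument uses, and with `ϖ` not required to be a uniformizer.) -/
theorem result
    {A : Type u} [CommRing A] (𝒜 : ℤ → AddSubgroup A) [GradedRing 𝒜]
    (hfg : (Ideal.span {a : A | ∃ d : ℤ, 0 < d ∧ a ∈ 𝒜 d}).FG)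
    (R : Type v) [CommRing R] [IsDomain R] [IsDiscreteValuationRing R]
    (K : Type v) [Field K] [Algebra R K] [IsFractionRing R K]
    (φ : A →+* R)
    (hle : Ideal.map φ (Ideal.span {a : A | ∃ d : ℤ, 0 < d ∧ a ∈ 𝒜 d}) ≤ IsLocalRing.maximalIdeal R)
    (hne : Ideal.map φ (Ideal.span {a : A | ∃ d : ℤ, 0 < d ∧ a ∈ 𝒜 d}) ≠ ⊥) :
    ∃ (R' : Type v) (_ : CommRing R') (_ : IsDomain R') (_ : IsDiscreteValuationRing R')
      (K' : Type v) (_ : Field K') (_ : Algebra R' K') (_ : IsFractionRing R' K')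
      (_ : Algebra R R') (_ : Algebra K K') (_ : Algebra R K')
      (_ : IsScalarTower R R' K') (_ : IsScalarTower R K K')
      (_ : Module.Finite K K') (_ : IsLocalHom (algebraMap R R'))
      (ϖ : R') (g : A →+* R'),
      ϖ ≠ 0 ∧ ϖ ∈ IsLocalRing.maximalIdeal R' ∧
      (∀ (d : ℤ) (a : A), a ∈ 𝒜 d →
        algebraMap R' K' (g a) * algebraMap R' K' ϖ ^ d = algebraMap R K' (φ a)) ∧
      Ideal.map g (Ideal.span {a : A | ∃ d : ℤ, 0 < d ∧ a ∈ 𝒜 d}) = ⊤ := by
  exact Groth.Agent.S14123Aux.main 𝒜 hfg R K φ hle hne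

end Groth.Agent.S14123
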