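import Groth.Statements.S14128
import Groth.Agent.Lib.Helper18.Acyclicity
import Groth.Agent.Lib.Helper77.RegularCM

set_option autoImplicit false
universe u
open CategoryTheory CategoryTheory.Limits
open LocAlg

namespace Groth.Agent.S14128

section Aux
open IsLocalRing CategoryTheory LocCoh


open Groth.Agent.Lib.Helper67 Groth.Agent.Lib.Helper18

section
variable {R : Type u} [CommRing R] [IsLocalRing R] [IsNoetherianRing R]
  (M : CochainComplex (ModuleCat.{u} R) ℕ)
  (hfree : ∀ i, Module.Free R (M.X i) ∧ Module.Finite R (M.X i))
  (g : ℕ) (hd : LocCoh.depth R R = g)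

include hfree hd in
theorem depth_range_ge : ∀ i, (∀ j, j < i → (M.sc' (j - 1) j (j + 1)).Exact) →
    ((g + 1 - i : ℕ) : ℕ∞) ≤
      idealDepth (maximalIdeal R) (LinearMap.range (M.d (i - 1) i).hom) := by
  intro i
  induction i with
  | zero =>
    intro _
    have h0 : M.d (0 - 1) 0 = 0 := M.shape _ _ (by simp)
    have : Subsingleton (LinearMap.range (M.d (0 - 1) 0).hom) := by
      rw [h0]
      constructor
      rintro ⟨_, a, rfl⟩ ⟨_, b, rfl⟩
      rfl
    rw [idealDepth_eq_top_of_smul_top_eq_top _ _ (Subsingleton.elim _ _)]
    exact le_top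
  | succ i ih =>
    intro hE
    have ih' := ih (fun j hj => hE j (by omega))
    have hex := hE i (by omega)
    rw [ShortComplex.moduleCat_exact_iff_range_eq_ker] at hex
    have hex' : LinearMap.range (M.d (i - 1) i).hom = LinearMap.ker (M.d i (i + 1)).hom := hex
    have := (hfree i).1
    have := (hfree i).2
    show _ ≤ idealDepth (maximalIdeal R) (LinearMap.range (M.d i (i + 1)).hom)
    have h := idealDepth_right_ge (maximalIdeal R)
      (LinearMap.ker (M.d i (i + 1)).hom) (M.X i) (LinearMap.range (M.d i (i + 1)).hom)
      (LinearMap.ker (M.d i (i + 1)).hom).subtype (M.d i (i + 1)).hom.rangeRestrict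
      Subtype.val_injective (LinearMap.surjective_rangeRestrict _) (by
        intro y
        constructor
        · intro hy
          have : (M.d i (i + 1)).hom y = 0 := congrArg Subtype.val hy
          exact ⟨⟨y, this⟩, rfl⟩
        · rintro ⟨⟨y, hy⟩, rfl⟩
          exact Subtype.ext hy)
    refine le_trans (le_min ?_ ?_) h
    · have h1 := idealDepth_free_ge (maximalIdeal R) (M.X i)
      refine le_trans ?_ h1
      change _ ≤ LocCoh.depth R R
      rw [hd]
      exact_mod_cast (by omega : g + 1 - (i + 1) ≤ g)
    · rw [← idealDepth_congr _ (LinearEquiv.ofEq _ _ hex')]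
      rcases Nat.eq_zero_or_pos (g + 1 - (i + 1)) with h0 | hpos
      · rw [h0]
        exact bot_le
      · apply ENat.le_sub_of_add_le_right ENat.one_ne_top
        refine le_trans ?_ ih'
        exact_mod_cast (by omega : g + 1 - (i + 1) + 1 ≤ g + 1 - i)

include hfree hd in
theorem exact_below (hfl : ∀ i, IsFiniteLength R (M.homology i)) : ∀ i, i < g →
    (M.sc' (i - 1) i (i + 1)).Exact := by
  intro i
  induction i using Nat.strong_induction_on with
  | _ i ih =>
    intro hlt
    have hE : ∀ j, j < i → (M.sc' (j - 1) j (j + 1)).Exact := fun j hj => ih j hj (by omega)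
    have hdep := depth_range_ge M hfree g hd i hE
    have h2 : (2 : ℕ∞) ≤
        idealDepth (maximalIdeal R) (LinearMap.range (M.d (i - 1) i).hom) := by
      refine le_trans ?_ hdep
      exact_mod_cast (by omega : 2 ≤ g + 1 - i)
    have := (hfree i).1
    have := (hfree i).2
    have h1 : (1 : ℕ∞) ≤ idealDepth (maximalIdeal R) (M.X i) := by
      refine le_trans ?_ (idealDepth_free_ge (maximalIdeal R) (M.X i))
      change _ ≤ LocCoh.depth R R
      rw [hd]
      exact_mod_cast (by omega : 1 ≤ g)
    have hprev : (ComplexShape.up ℕ).prev i = i - 1 := by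
      cases i with
      | zero => exact CochainComplex.prev_nat_zero
      | succ n => exact CochainComplex.prev_nat_succ n
    rcases (one_le_idealDepth_iff _ _).1 h1 with htop | ⟨x, hxm, hx⟩
    · have hsub : Subsingleton (M.X i) := by
        by_contra hcon
        rw [not_subsingleton_iff_nontrivial] at hcon
        exact maximalIdeal_smul_top_ne_top (R := R) (M.X i) htop
      exact ShortComplex.exact_of_isZero_X₂ _
        (show Limits.IsZero (M.X i) from ModuleCat.isZero_of_subsingleton _)
    · have hfl' : IsFiniteLength R (M.sc' (i - 1) i (i + 1)).homology :=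
        ((M.homologyIsoSc' (i - 1) i (i + 1) hprev (CochainComplex.next ℕ i)).toLinearEquiv).isFiniteLength
          (hfl i)
      have hfin : Module.Finite R (M.sc' (i - 1) i (i + 1)).X₂ := (hfree i).2
      exact exact_of_depth (M.sc' (i - 1) i (i + 1)) x hxm hx h2 hfl'

end

theorem main (R : Type u) [CommRing R]
    [IsRegularLocalRing R] (g : ℕ) (hg : ringKrullDim R = g) (M : CochainComplex (ModuleCat.{u} R) ℕ)
    (_hbd : ∀ i, g < i → Limits.IsZero (M.X i)) (hfree : ∀ i, Module.Free R (M.X i) ∧ Module.Finite R (M.X i))
    (hfl : ∀ i, IsFiniteLength R (M.homology i)) (i : ℕ) (hi : i < g) :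
    Limits.IsZero (M.homology i) := by
  have hd : LocCoh.depth R R = g := by
    have := Groth.Agent.Lib.Helper77.RegularCM.depth_eq_dim R
    rw [hg] at this
    exact_mod_cast this
  have hex := exact_below M hfree g hd hfl i hi
  have hprev : (ComplexShape.up ℕ).prev i = i - 1 := by
    cases i with
    | zero => exact CochainComplex.prev_nat_zero
    | succ n => exact CochainComplex.prev_nat_succ n
  rw [← HomologicalComplex.exactAt_iff_isZero_homology,
    HomologicalComplex.exactAt_iff' M (i - 1) i (i + 1) hprev (CochainComplex.next ℕ i)]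
  exact hex


end Aux

/-- Let R be a regular local ring of Krull dimension g and M = (M^0 → M^1 → ⋯ → M^g) a perfect complex
over R, here a cochain complex of finitely generated free R-modules indexed by ℕ with M^i = 0 for i
> g, such that every cohomology module H^i(M) has finite length. Then H^i(M) = 0 for all i < g, so
that M has cohomology at most in degree g. -/
theorem result (R : Type u) [CommRing R]
    [IsRegularLocalRing R] (g : ℕ) (hg : ringKrullDim R = g) (M : CochainComplex (ModuleCat.{u} R) ℕ)
    (hbd : ∀ i, g < i → IsZero (M.X i)) (hfree : ∀ i, Module.Free R (M.X i) ∧ Module.Finite R (M.X i))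
    (hfl : ∀ i, IsFiniteLength R (M.homology i)) (i : ℕ) (hi : i < g) :
    IsZero (M.homology i) := by
  exact main R g hg M hbd hfree hfl i hi

end Groth.Agent.S14128
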