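import Groth.Statements.S1415
import Groth.Agent.S7441
import Groth.Agent.S7434
import Mathlib

set_option autoImplicit false
universe u
open FlatMor

namespace Groth.Agent.S1415

open AlgebraicGeometry CategoryTheory Limits TopologicalSpace


theorem encard_irreducibleComponents_of_discrete (Z : Type*) [TopologicalSpace Z] [DiscreteTopology Z] :
    (irreducibleComponents Z).encard = ENat.card Z := by
  have h : irreducibleComponents Z = Set.range (fun z : Z => ({z} : Set Z)) := by
    ext S
    constructor
    · intro hS
      have hirr : IsIrreducible S := hS.1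
      obtain ⟨x, rfl⟩ := isIrreducible_iff_singleton.mp hirr
      exact ⟨x, rfl⟩
    · rintro ⟨z, rfl⟩
      refine ⟨isIrreducible_singleton, ?_⟩
      intro T hT hle
      obtain ⟨x, rfl⟩ := isIrreducible_iff_singleton.mp hT
      have hzx : z = x := by simpa using hle
      subst hzx
      exact le_rfl
  rw [h, ← Set.image_univ, Set.singleton_injective.encard_image, Set.encard_univ]

theorem card_connectedComponents_of_discrete (Z : Type*) [TopologicalSpace Z] [DiscreteTopology Z] :
    ENat.card (ConnectedComponents Z) = ENat.card Z := by
  refine ENat.card_congr (Equiv.ofBijective (ConnectedComponents.mk : Z → _) ⟨?_, ConnectedComponents.surjective_coe⟩).symm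
  intro a b hab
  rw [ConnectedComponents.coe_eq_coe'] at hab
  rw [connectedComponent_eq_singleton] at hab
  exact hab


theorem s1415_aux {X Y : Scheme.{u}} (f : X ⟶ Y) [LocallyQuasiFinite f] [LocallyOfFiniteType f] :
    (∀ y : Y, MoreMor.nGeomIrredComp f y = MoreMor.nGeomConnComp f y) ∧
      (CompactSpace ↑X → ∃ d : ℕ, ∀ y : Y, MoreMor.nGeomConnComp f y ≤ d) := by
  have hdisc : ∀ y, DiscreteTopology ↥(MoreMor.geomFiber f y) := by
    intro y
    have h1 : LocallyQuasiFinite (f.fiberToSpecResidueField y) := by
      unfold Scheme.Hom.fiberToSpecResidueField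
      exact MorphismProperty.pullback_snd f _ inferInstance
    let g := pullback.snd (f.fiberToSpecResidueField y)
      (Spec.map (CommRingCat.ofHom
        (algebraMap (Y.residueField y) (SeparableClosure (Y.residueField y)))))
    have h2 : LocallyQuasiFinite g := inferInstance
    have h := g.isDiscrete_preimage_singleton default
    have huniv : (g ⁻¹' {default}) = Set.univ := by
      ext z
      simp only [Set.mem_preimage, Set.mem_singleton_iff, Set.mem_univ, iff_true]
      exact Subsingleton.elim _ _
    rw [huniv, isDiscrete_univ_iff] at h
    exact h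
  refine ⟨fun y => ?_, fun hX => ?_⟩
  · have := hdisc y
    unfold MoreMor.nGeomIrredComp MoreMor.nGeomConnComp
    rw [encard_irreducibleComponents_of_discrete, card_connectedComponents_of_discrete]
  · obtain ⟨n, hn⟩ := Groth.Agent.S7441.result f
    refine ⟨n, fun y => ?_⟩
    have := hdisc y
    unfold MoreMor.nGeomConnComp
    rw [card_connectedComponents_of_discrete]
    let g' := Spec.map (CommRingCat.ofHom
        (algebraMap (Y.residueField y) (SeparableClosure (Y.residueField y))))
    let e : MoreMor.geomFiber f y ≅ pullback f (g' ≫ Y.fromSpecResidueField y) :=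
      pullbackLeftPullbackSndIso f (Y.fromSpecResidueField y) g'
    obtain ⟨hfin, hle⟩ := Groth.Agent.S7434.result f n hn (SeparableClosure (Y.residueField y))
      (g' ≫ Y.fromSpecResidueField y)
    have hcard : ENat.card ↥(MoreMor.geomFiber f y) =
        ENat.card ↥(pullback f (g' ≫ Y.fromSpecResidueField y)) :=
      ENat.card_congr e.hom.homeomorph.toEquiv
    rw [hcard]
    have : ENat.card ↥(pullback f (g' ≫ Y.fromSpecResidueField y)) =
        (Nat.card ↥(pullback f (g' ≫ Y.fromSpecResidueField y)) : ℕ∞) := by
      rw [ENat.card_eq_coe_natCard]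
    rw [this]
    exact_mod_cast hle

open AlgebraicGeometry CategoryTheory Limits in
/-- Let f : X → Y be locally quasi-finite. Then (1) for every y the number of irreducible components and
the number of connected components of the geometric fibre over y agree, and (2) if X is
quasi-compact these numbers are bounded by some natural number. -/
theorem result {X Y : Scheme.{u}} (f : X ⟶ Y) [LocallyQuasiFinite f] [LocallyOfFiniteType f] :
    (∀ y : Y, MoreMor.nGeomIrredComp f y = MoreMor.nGeomConnComp f y) ∧
      (CompactSpace ↑X → ∃ d : ℕ, ∀ y : Y, MoreMor.nGeomConnComp f y ≤ d) := by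
  exact s1415_aux f

end Groth.Agent.S1415
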