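import Groth.Statements.S1417
import Mathlib
import Groth.Agent.Lib.Helper65.SmallExtFT
-- import your own Groth.Agent.* helpers here

set_option autoImplicit false
universe u
open FlatMor

namespace Groth.Agent.S1417

set_option linter.style.haveILetI false

open AlgebraicGeometry CategoryTheory Limits IsLocalRing

/-- ring-level (⇐) -/
theorem ringHom_smooth_of_lift {R A : Type u} [CommRing R] [CommRing A] [IsNoetherianRing R]
    (ρ : R →+* A) (hft : ρ.FiniteType)
    (H : ∀ (B' B : Type u) [CommRing B'] [CommRing B] [IsLocalRing B'] [IsLocalRing B]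
      [IsArtinianRing B'] [IsArtinianRing B] (π : B' →+* B) (b : R →+* B'), b.FiniteType →
      Function.Surjective π →
      (∃ t : B', RingHom.ker π = Ideal.span {t} ∧ ∀ a ∈ IsLocalRing.maximalIdeal B', a * t = 0) →
      ∀ g : A →+* B, g.comp ρ = π.comp b → ∃ g' : A →+* B', π.comp g' = g ∧ g'.comp ρ = b) :
    ρ.Smooth := by
  algebraize [ρ]
  haveI : Algebra.FinitePresentation R A :=
    Algebra.FinitePresentation.of_finiteType.mp inferInstance
  change Algebra.Smooth R A
  refine Groth.Agent.Lib.Helper65.SmallExtFT.smooth_of_forall_isMaximal fun q hq => ?_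
  refine Groth.Agent.Lib.Helper65.SmallExtFT.isSmoothAt_of_lift_ft q ?_
  intro B' B _ _ _ _ _ _ _ _ π hB' hπ ht g hg
  obtain ⟨g', h1, h2⟩ := H B' B π.toRingHom (algebraMap R B')
    (by rw [RingHom.finiteType_algebraMap]; exact hB') hπ ht g.toRingHom
    (by
      ext r
      have h1 : g (algebraMap R A r) = algebraMap R B r := g.commutes r
      have h2 : π (algebraMap R B' r) = algebraMap R B r := π.commutes r
      exact h1.trans h2.symm)
  refine ⟨{ g' with commutes' := fun r => RingHom.congr_fun h2 r }, ?_⟩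
  ext x
  exact RingHom.congr_fun h1 x

/-- the spectrum of an Artinian local ring is a point -/
theorem eq_closedPoint (B : Type u) [CommRing B] [IsArtinianRing B] [IsLocalRing B]
    (x : PrimeSpectrum B) : x = closedPoint B := by
  apply PrimeSpectrum.ext
  haveI := IsArtinianRing.isMaximal_of_isPrime x.asIdeal
  exact IsLocalRing.eq_maximalIdeal this

/-- factor a morphism from an affine scheme through an affine open containing its image. -/
theorem exists_factor {X : Scheme.{u}} {V : X.Opens} (hV : IsAffineOpen V) {B : Type u}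
    [CommRing B] (γ : Spec (CommRingCat.of B) ⟶ X) (h : ∀ x, γ x ∈ V) :
    ∃ g : Γ(X, V) →+* B, γ = Spec.map (CommRingCat.ofHom g) ≫ hV.fromSpec := by
  have hr : Set.range γ ⊆ Set.range hV.fromSpec := by
    rw [hV.range_fromSpec]
    rintro _ ⟨x, rfl⟩
    exact h x
  obtain ⟨ψ, hψ⟩ := Spec.map_surjective (IsOpenImmersion.lift hV.fromSpec γ hr)
  refine ⟨ψ.hom, ?_⟩
  rw [CommRingCat.ofHom_hom, hψ, IsOpenImmersion.lift_fac]


theorem smooth_of_lifting {X S : Scheme.{u}} (f : X ⟶ S) [IsLocallyNoetherian S]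
    [LocallyOfFiniteType f]
    (H : ∀ (B B' : Type u) [CommRing B] [CommRing B'] [IsArtinianRing B] [IsArtinianRing B']
      [IsLocalRing B] [IsLocalRing B']
      (φ : B' →+* B) (ε : B'), Function.Surjective φ → RingHom.ker φ = Ideal.span {ε} →
      (∀ m ∈ IsLocalRing.maximalIdeal B', ε * m = 0) →
      ∀ (α : Spec (CommRingCat.of B) ⟶ X) (β : Spec (CommRingCat.of B') ⟶ S),
        LocallyOfFiniteType β →
        Spec.map (CommRingCat.ofHom φ) ≫ β = α ≫ f →
        ∃ γ : Spec (CommRingCat.of B') ⟶ X,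
          Spec.map (CommRingCat.ofHom φ) ≫ γ = α ∧ γ ≫ f = β) : Smooth f := by
  constructor
  intro U hU V hV e
  haveI : IsNoetherianRing Γ(S, U) := IsLocallyNoetherian.component_noetherian ⟨U, hU⟩
  refine ringHom_smooth_of_lift _ (f.finiteType_appLE hU hV e) ?_
  intro B' B _ _ _ _ _ _ π b hb hπ ht g hg
  obtain ⟨t, hker, ht⟩ := ht
  let α : Spec (CommRingCat.of B) ⟶ X := Spec.map (CommRingCat.ofHom g) ≫ hV.fromSpec
  let β : Spec (CommRingCat.of B') ⟶ S := Spec.map (CommRingCat.ofHom b) ≫ hU.fromSpec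
  have hβ : LocallyOfFiniteType β := by
    haveI : LocallyOfFiniteType (Spec.map (CommRingCat.ofHom b)) :=
      (HasRingHomProperty.Spec_iff (P := @LocallyOfFiniteType)).mpr hb
    infer_instance
  have hsq : Spec.map (CommRingCat.ofHom π) ≫ β = α ≫ f := by
    simp only [α, β, Category.assoc]
    rw [← hU.SpecMap_appLE_fromSpec f hV e, ← Spec.map_comp_assoc, ← Spec.map_comp_assoc]
    congr 2
    ext x
    exact (RingHom.congr_fun hg x).symm
  obtain ⟨γ, hγ1, hγ2⟩ := H B B' π t hπ hker
    (fun m hm => by rw [mul_comm]; exact ht m hm) α β hβ hsq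
  -- factor γ through V
  have hγV : ∀ x, γ x ∈ V := by
    intro x
    have hx : x = Spec.map (CommRingCat.ofHom π) (closedPoint B) :=
      (eq_closedPoint B' x).trans (eq_closedPoint B' _).symm
    have : γ x = α (closedPoint B) := by
      rw [hx, ← hγ1]; rfl
    rw [this]
    have : α (closedPoint B) ∈ Set.range hV.fromSpec :=
      ⟨Spec.map (CommRingCat.ofHom g) (closedPoint B), rfl⟩
    rw [hV.range_fromSpec] at this
    exact this
  obtain ⟨g', hg'⟩ := exists_factor hV γ hγV
  refine ⟨g', ?_, ?_⟩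
  · have h1 : Spec.map (CommRingCat.ofHom π) ≫ Spec.map (CommRingCat.ofHom g') ≫ hV.fromSpec =
        Spec.map (CommRingCat.ofHom g) ≫ hV.fromSpec := by
      rw [← hg', hγ1]
    rw [← Category.assoc, cancel_mono, ← Spec.map_comp] at h1
    have h2 := Spec.map_injective h1
    ext x
    exact RingHom.congr_fun (congrArg CommRingCat.Hom.hom h2) x
  · have h1 : Spec.map (CommRingCat.ofHom g') ≫ hV.fromSpec ≫ f =
        Spec.map (CommRingCat.ofHom b) ≫ hU.fromSpec := by
      rw [← Category.assoc, ← hg', hγ2]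
    rw [← hU.SpecMap_appLE_fromSpec f hV e, ← Category.assoc, cancel_mono, ← Spec.map_comp] at h1
    have h2 := Spec.map_injective h1
    ext x
    exact RingHom.congr_fun (congrArg CommRingCat.Hom.hom h2) x


/-- ring-level (⇒) -/
theorem exists_lift_of_smooth {R A B B' : Type u} [CommRing R] [CommRing A] [CommRing B]
    [CommRing B'] [IsLocalRing B'] [Nontrivial B] (ρ : R →+* A) (hρ : ρ.Smooth) (φ : B' →+* B)
    (ε : B') (hφ : Function.Surjective φ) (hker : RingHom.ker φ = Ideal.span {ε})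
    (hε : ∀ m ∈ maximalIdeal B', ε * m = 0)
    (a₀ : A →+* B) (b₀ : R →+* B') (h : φ.comp b₀ = a₀.comp ρ) :
    ∃ a' : A →+* B', φ.comp a' = a₀ ∧ a'.comp ρ = b₀ := by
  algebraize [ρ]
  letI : Algebra R B' := b₀.toAlgebra
  letI : Algebra R B := (φ.comp b₀).toAlgebra
  let φ' : B' →ₐ[R] B := { φ with commutes' := fun r => rfl }
  let a₀' : A →ₐ[R] B := { a₀ with commutes' := fun r => (RingHom.congr_fun h r).symm }
  have hεm : ε ∈ maximalIdeal B' := by
    rw [mem_maximalIdeal, mem_nonunits_iff]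
    intro hu
    have : ε ∈ RingHom.ker φ := by rw [hker]; exact Ideal.mem_span_singleton_self ε
    have h1 := hu.map φ
    rw [RingHom.mem_ker.mp this] at h1
    exact not_isUnit_zero h1
  have hnil : IsNilpotent (RingHom.ker (φ' : B' →+* B)) := by
    refine ⟨2, ?_⟩
    change RingHom.ker φ ^ 2 = ⊥
    rw [hker, Ideal.span_singleton_pow, pow_two, hε ε hεm]
    simp
  let a' := Algebra.FormallySmooth.liftOfSurjective a₀' φ' hφ hnil
  refine ⟨a'.toRingHom, ?_, ?_⟩
  · ext x
    exact Algebra.FormallySmooth.liftOfSurjective_apply a₀' φ' hφ hnil x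
  · ext r
    exact a'.commutes r

theorem lifting_of_smooth {X S : Scheme.{u}} (f : X ⟶ S) [Smooth f] (B B' : Type u)
    [CommRing B] [CommRing B'] [IsArtinianRing B] [IsArtinianRing B'] [IsLocalRing B]
    [IsLocalRing B'] (φ : B' →+* B) (ε : B') (hφ : Function.Surjective φ)
    (hker : RingHom.ker φ = Ideal.span {ε})
    (hε : ∀ m ∈ IsLocalRing.maximalIdeal B', ε * m = 0)
    (α : Spec (CommRingCat.of B) ⟶ X) (β : Spec (CommRingCat.of B') ⟶ S)
    (hsq : Spec.map (CommRingCat.ofHom φ) ≫ β = α ≫ f) :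
    ∃ γ : Spec (CommRingCat.of B') ⟶ X,
      Spec.map (CommRingCat.ofHom φ) ≫ γ = α ∧ γ ≫ f = β := by
  set x := α (closedPoint B) with hx
  obtain ⟨U, hU, hxU⟩ : ∃ U : S.Opens, IsAffineOpen U ∧ f x ∈ U := by
    obtain ⟨_, ⟨U, hU, rfl⟩, hxU, -⟩ := S.isBasis_affineOpens.exists_subset_of_mem_open
      (Set.mem_univ (f x)) isOpen_univ
    exact ⟨U, hU, hxU⟩
  obtain ⟨V, hV, hxV, e⟩ : ∃ V : X.Opens, IsAffineOpen V ∧ x ∈ V ∧ V ≤ f ⁻¹ᵁ U := by
    obtain ⟨_, ⟨V, hV, rfl⟩, hxV, hVU⟩ := X.isBasis_affineOpens.exists_subset_of_mem_open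
      (show x ∈ ((f ⁻¹ᵁ U : X.Opens) : Set X) from hxU) (f ⁻¹ᵁ U).isOpen
    exact ⟨V, hV, hxV, hVU⟩
  obtain ⟨a₀, ha₀⟩ := exists_factor hV α (fun y => by rw [eq_closedPoint B y]; exact hxV)
  obtain ⟨b₀, hb₀⟩ := exists_factor hU β (fun y => by
    have hy : y = Spec.map (CommRingCat.ofHom φ) (closedPoint B) :=
      (eq_closedPoint B' y).trans (eq_closedPoint B' _).symm
    have : β y = f x := by
      rw [hy]
      change (Spec.map (CommRingCat.ofHom φ) ≫ β) (closedPoint B) = (α ≫ f) (closedPoint B)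
      rw [hsq]
    rw [this]
    exact hxU)
  have hcomm : φ.comp b₀ = a₀.comp (f.appLE U V e).hom := by
    have h1 : Spec.map (CommRingCat.ofHom φ) ≫ Spec.map (CommRingCat.ofHom b₀) ≫ hU.fromSpec =
        Spec.map (CommRingCat.ofHom a₀) ≫ hV.fromSpec ≫ f := by
      rw [← hb₀, hsq, ha₀, Category.assoc]
    rw [← hU.SpecMap_appLE_fromSpec f hV e, ← Category.assoc, ← Category.assoc, cancel_mono,
      ← Spec.map_comp, ← Spec.map_comp] at h1
    have h2 := Spec.map_injective h1
    ext r
    exact RingHom.congr_fun (congrArg CommRingCat.Hom.hom h2) r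
  obtain ⟨a', h1, h2⟩ := exists_lift_of_smooth _ (f.smooth_appLE hU hV e) φ ε hφ hker hε a₀ b₀
    hcomm
  refine ⟨Spec.map (CommRingCat.ofHom a') ≫ hV.fromSpec, ?_, ?_⟩
  · rw [← Category.assoc, ← Spec.map_comp, ha₀]
    congr 2
    ext y
    exact RingHom.congr_fun h1 y
  · rw [Category.assoc, ← hU.SpecMap_appLE_fromSpec f hV e, ← Category.assoc, ← Spec.map_comp, hb₀]
    congr 2
    ext y
    exact RingHom.congr_fun h2 y


open AlgebraicGeometry CategoryTheory Limits in
/-- Let S be locally Noetherian and f : X → S locally of finite type. Then f is smooth if and only if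
for every small extension B' → B of Artinian local rings (a surjection whose kernel is generated by
one element annihilated by the maximal ideal), every morphism Spec B → X and every morphism Spec B'
→ S locally of finite type making the square commute, there is a lift Spec B' → X. -/
theorem result {X S : Scheme.{u}} (f : X ⟶ S) [IsLocallyNoetherian S] [LocallyOfFiniteType f] :
    Smooth f ↔ ∀ (B B' : Type u) [CommRing B] [CommRing B'] [IsArtinianRing B] [IsArtinianRing B'] [IsLocalRing B] [IsLocalRing B']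
      (φ : B' →+* B) (ε : B'), Function.Surjective φ → RingHom.ker φ = Ideal.span {ε} → (∀ m ∈ IsLocalRing.maximalIdeal B', ε * m = 0) →
      ∀ (α : Spec (CommRingCat.of B) ⟶ X) (β : Spec (CommRingCat.of B') ⟶ S), LocallyOfFiniteType β →
        Spec.map (CommRingCat.ofHom φ) ≫ β = α ≫ f →
        ∃ γ : Spec (CommRingCat.of B') ⟶ X, Spec.map (CommRingCat.ofHom φ) ≫ γ = α ∧ γ ≫ f = β := by
  constructor
  · intro hf B B' _ _ _ _ _ _ φ ε hφ hker hε α β _ hsq
    exact lifting_of_smooth f B B' φ ε hφ hker hε α β hsq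
  · intro H
    exact smooth_of_lifting f H


end Groth.Agent.S1417
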