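import Groth.Statements.S14175
-- import your own Groth.Agent.* helpers here

set_option autoImplicit false
universe u v w
open GalCoh

namespace Groth.Agent.S14175

section
variable {k : Type u} {V : Type w} [CommRing k] [AddCommGroup V] [Module k V]

def S (T : V →ₗ[k] V) (j : ℕ) (v : V) : V := ∑ i ∈ Finset.range j, (T ^ i) v

theorem S_zero (T : V →ₗ[k] V) (v : V) : S T 0 v = 0 := by simp [S]

theorem S_succ (T : V →ₗ[k] V) (j : ℕ) (v : V) : S T (j + 1) v = S T j v + (T ^ j) v := by
  simp [S, Finset.sum_range_succ]

theorem S_add (T : V →ₗ[k] V) (a b : ℕ) (v : V) :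
    S T (a + b) v = S T a v + (T ^ a) (S T b v) := by
  induction b with
  | zero => simp [S_zero]
  | succ b ih =>
    rw [← add_assoc, S_succ, ih, S_succ, map_add, pow_add, add_assoc]
    rfl

theorem pow_sub_eq (T : V →ₗ[k] V) (j : ℕ) (x : V) :
    (T ^ j) x - x = T (S T j x) - S T j x := by
  induction j with
  | zero => simp [S_zero]
  | succ j ih =>
    rw [S_succ, map_add, pow_succ']
    have : (T * T ^ j) x = T ((T ^ j) x) := rfl
    rw [this]
    have e : T ((T ^ j) x) - x = ((T ^ j) x - x) + (T ((T ^ j) x) - (T ^ j) x) := by abel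
    rw [e, ih]
    abel

theorem S_sub_eq (T : V →ₗ[k] V) (j : ℕ) (x : V) :
    S T j (T x - x) = (T ^ j) x - x := by
  induction j with
  | zero => simp [S_zero]
  | succ j ih =>
    rw [S_succ, ih, map_sub, pow_succ]
    have : (T ^ j * T) x = (T ^ j) (T x) := rfl
    rw [this]
    abel

theorem S_mul_of_pow_eq_one (T : V →ₗ[k] V) (e : ℕ) (hT : T ^ e = 1) (c : ℕ) (v : V) :
    S T (c * e) v = c • S T e v := by
  induction c with
  | zero => simp [S_zero]
  | succ c ih =>
    have h1 : T ^ (c * e) = 1 := by rw [mul_comm, pow_mul, hT, one_pow]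
    rw [Nat.succ_mul, S_add, ih, h1, succ_nsmul]
    rfl

end

/-- Let G be a finite cyclic group generated by t, let m be a natural number dividing the order of G,
and let ρ be a linear representation of G on a module V over a commutative ring k such that m·V = 0
and every element of G whose m-th power is the identity acts trivially on V. Then evaluating a
crossed homomorphism at t induces a bijection from the first cohomology of G with values in V
(crossed homomorphisms f, i.e. f(gh) = ρ(g)f(h) + f(g), modulo the principal ones g ↦ ρ(g)x − x)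
onto the coinvariants V_G (the quotient of V by the span of all ρ(g)v − v): the class of f(t) in V_G
vanishes exactly when f is principal, and every class of V_G is the class of f(t) for some crossed
homomorphism f. The bijection depends on the choice of the generator t. -/
theorem result
    {k : Type u} {G : Type v} {V : Type w} [CommRing k] [Group G] [Finite G]
    [AddCommGroup V] [Module k V] (ρ : Representation k G V)
    (t : G) (ht : ∀ g : G, g ∈ Subgroup.zpowers t)
    (m : ℕ) (hm : m ∣ Nat.card G) (htors : ∀ v : V, m • v = 0)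
    (htriv : ∀ g : G, g ^ m = 1 → ∀ v : V, ρ g v = v) :
    (∀ f : G → V, (∀ g h : G, f (g * h) = ρ g (f h) + f g) →
        (Representation.Coinvariants.mk ρ (f t) = 0 ↔ ∃ x : V, ∀ g : G, f g = ρ g x - x)) ∧
    (∀ v : V, ∃ f : G → V, (∀ g h : G, f (g * h) = ρ g (f h) + f g) ∧
        Representation.Coinvariants.mk ρ (f t) = Representation.Coinvariants.mk ρ v) := by
  classical
  set T : V →ₗ[k] V := ρ t with hT
  have hpow : ∀ j : ℕ, ρ (t ^ j) = T ^ j := fun j => map_pow ρ t j
  have hnat : ∀ g : G, ∃ j : ℕ, t ^ j = g := by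
    intro g
    have h1 := ht g
    rw [← mem_powers_iff_mem_zpowers] at h1
    exact h1
  have hN : orderOf t = Nat.card G := orderOf_eq_card_of_forall_mem_zpowers ht
  obtain ⟨e, he⟩ := hm
  have hTe : T ^ e = 1 := by
    rw [← hpow]
    refine LinearMap.ext fun v => ?_
    have : (t ^ e) ^ m = 1 := by
      rw [← pow_mul, mul_comm, ← he, ← hN, pow_orderOf_eq_one]
    exact htriv (t ^ e) this v
  have hSN : ∀ v : V, S T (Nat.card G) v = 0 := by
    intro v
    rw [he, S_mul_of_pow_eq_one T e hTe m v]
    exact htors _
  have hSNc : ∀ (c : ℕ) (v : V), S T (Nat.card G * c) v = 0 := by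
    intro c v
    have hTN : T ^ (Nat.card G) = 1 := by rw [he, mul_comm, pow_mul, hTe, one_pow]
    rw [mul_comm, S_mul_of_pow_eq_one T _ hTN c v, hSN, smul_zero]
  have hwd : ∀ (j j' : ℕ) (v : V), t ^ j = t ^ j' → S T j v = S T j' v := by
    have key : ∀ (j d : ℕ) (v : V), t ^ j = t ^ (j + d) → S T j v = S T (j + d) v := by
      intro j d v h
      have hd : t ^ d = 1 := by
        rw [pow_add] at h
        exact (mul_eq_left (a := t ^ j)).mp h.symm
      obtain ⟨c, hc⟩ := (orderOf_dvd_iff_pow_eq_one.mpr hd)
      rw [hN] at hc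
      rw [S_add, hc, hSNc, map_zero, add_zero]
    intro j j' v h
    rcases le_total j j' with hle | hle
    · obtain ⟨d, rfl⟩ := Nat.exists_eq_add_of_le hle
      exact key j d v h
    · obtain ⟨d, rfl⟩ := Nat.exists_eq_add_of_le hle
      exact (key j' d v h.symm).symm
  have hcross : ∀ f : G → V, (∀ g h : G, f (g * h) = ρ g (f h) + f g) →
      ∀ j : ℕ, f (t ^ j) = S T j (f t) := by
    intro f hf j
    have hf1 : f 1 = 0 := by
      have := hf 1 1
      simp at this
      exact this
    induction j with
    | zero => simp [hf1, S_zero]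
    | succ j ih =>
      rw [pow_succ, hf, ih, hpow, S_succ, add_comm]
  refine ⟨?_, ?_⟩
  · intro f hf
    constructor
    · intro h0
      rw [Representation.Coinvariants.mk_eq_zero] at h0
      have hrange : f t ∈ LinearMap.range (T - 1) := by
        refine (Submodule.span_le (p := LinearMap.range (T - 1))).mpr ?_ h0
        rintro _ ⟨⟨g, x⟩, rfl⟩
        obtain ⟨j, rfl⟩ := hnat g
        refine ⟨S T j x, ?_⟩
        simp only [LinearMap.sub_apply, Module.End.one_apply]
        rw [hpow, pow_sub_eq]
      obtain ⟨x, hx⟩ := hrange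
      simp only [LinearMap.sub_apply, Module.End.one_apply] at hx
      refine ⟨x, fun g => ?_⟩
      obtain ⟨j, rfl⟩ := hnat g
      rw [hcross f hf j, ← hx, S_sub_eq, hpow]
    · rintro ⟨x, hx⟩
      rw [Representation.Coinvariants.mk_eq_zero, hx t]
      exact Representation.Coinvariants.sub_mem_ker t x
  · intro v
    choose jj hjj using hnat
    refine ⟨fun g => S T (jj g) v, ?_, ?_⟩
    · intro g h
      have h1 : t ^ (jj (g * h)) = t ^ (jj g + jj h) := by
        rw [hjj, pow_add, hjj, hjj]
      show S T (jj (g * h)) v = ρ g (S T (jj h) v) + S T (jj g) v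
      rw [hwd _ _ v h1, S_add, ← hpow, hjj, add_comm]
    · have h1 : t ^ (jj t) = t ^ 1 := by rw [hjj, pow_one]
      show Representation.Coinvariants.mk ρ (S T (jj t) v) = _
      rw [hwd _ _ v h1]
      simp [S]

end Groth.Agent.S14175
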