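import Groth.Statements.S14176
import Mathlib.GroupTheory.FiniteAbelian.Duality
import Mathlib.Topology.Algebra.Group.ClosedSubgroup
import Mathlib.Topology.Algebra.Group.Quotient
import Mathlib.GroupTheory.Abelianization.Defs
import Mathlib.GroupTheory.Index

set_option autoImplicit false
universe u
open Pi1

namespace Groth.Agent.S14176


open W4c1etcurveeff2
open scoped commutatorElement

section Dual

variable (n : ℕ) [NeZero n]

theorem zpow_n (z : Multiplicative (ZMod n)) : z ^ n = 1 := by
  have h := pow_card_eq_one' (G := Multiplicative (ZMod n)) (x := z)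
  rwa [Nat.card_eq_fintype_card, Fintype.card_multiplicative, ZMod.card] at h

instance hasEnough : HasEnoughRootsOfUnity (Multiplicative (ZMod n)) n where
  prim := by
    refine ⟨Multiplicative.ofAdd 1, ?_⟩
    rw [IsPrimitiveRoot.iff_def]
    refine ⟨zpow_n n _, fun l hl => ?_⟩
    rw [← ofAdd_nsmul, ofAdd_eq_one, nsmul_eq_mul, mul_one] at hl
    exact (ZMod.natCast_eq_zero_iff l n).1 hl
  cyc := by
    have : IsCyclic (Multiplicative (ZMod n))ˣ :=
      isCyclic_of_surjective (toUnits (G := Multiplicative (ZMod n))) (toUnits.surjective)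
    infer_instance

variable {A : Type u} [CommGroup A] [Finite A] (hexp : ∀ a : A, a ^ n = 1)

include hexp

omit [Finite A] in
theorem hasEnoughExp : HasEnoughRootsOfUnity (Multiplicative (ZMod n)) (Monoid.exponent A) :=
  HasEnoughRootsOfUnity.of_dvd _ (Monoid.exponent_dvd_of_forall_pow_eq_one hexp)

theorem exists_char_ne_one {a : A} (ha : a ≠ 1) :
    ∃ ψ : A →* Multiplicative (ZMod n), ψ a ≠ 1 := by
  have := hasEnoughExp n hexp
  obtain ⟨φ, hφ⟩ := CommGroup.exists_apply_ne_one_of_hasEnoughRootsOfUnity A
    (Multiplicative (ZMod n)) ha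
  refine ⟨(Units.coeHom _).comp φ, fun h => hφ ?_⟩
  apply Units.ext
  simpa using h

theorem exists_eval (F : (A →* Multiplicative (ZMod n)) →* Multiplicative (ZMod n)) :
    ∃ a : A, ∀ ψ : A →* Multiplicative (ZMod n), F ψ = ψ a := by
  have := hasEnoughExp n hexp
  let η : (A →* (Multiplicative (ZMod n))ˣ) →* (Multiplicative (ZMod n))ˣ :=
    ((toUnits (G := Multiplicative (ZMod n))).toMonoidHom.comp F).comp
      (MonoidHom.compHom (Units.coeHom (Multiplicative (ZMod n))))
  refine ⟨CommGroup.monoidHomMonoidHomEquiv A (Multiplicative (ZMod n)) η, fun ψ => ?_⟩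
  have h := CommGroup.apply_monoidHomMonoidHomEquiv (M := Multiplicative (ZMod n))
    ((toUnits (G := Multiplicative (ZMod n))).toMonoidHom.comp ψ) η
  have h2 : η ((toUnits (G := Multiplicative (ZMod n))).toMonoidHom.comp ψ) = toUnits (F ψ) := by
    have h3 : (Units.coeHom (Multiplicative (ZMod n))).comp
        ((toUnits (G := Multiplicative (ZMod n))).toMonoidHom.comp ψ) = ψ := by
      ext a; rfl
    show toUnits (F ((Units.coeHom (Multiplicative (ZMod n))).comp
        ((toUnits (G := Multiplicative (ZMod n))).toMonoidHom.comp ψ))) = toUnits (F ψ)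
    rw [h3]
  rw [h2] at h
  exact (toUnits.injective h).symm

end Dual

section Fin

theorem finite_closure_of_comm_of_exp {Q : Type u} [Group Q] (n : ℕ) (hn : n ≠ 0)
    (hcomm : ∀ a b : Q, a * b = b * a) (hexp : ∀ a : Q, a ^ n = 1) (t : Finset Q) :
    ((Subgroup.closure (t : Set Q) : Subgroup Q) : Set Q).Finite := by
  let _ : CommGroup Q := { ‹Group Q› with mul_comm := hcomm }
  have hfg : Group.FG (Subgroup.closure (t : Set Q)) :=
    (Group.fg_iff_subgroup_fg _).2 ⟨t, rfl⟩
  have htors : IsMulTorsion (Subgroup.closure (t : Set Q)) := by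
    intro x
    rw [isOfFinOrder_iff_pow_eq_one]
    exact ⟨n, Nat.pos_of_ne_zero hn, Subtype.ext (by simpa using hexp x.1)⟩
  have : Finite (Subgroup.closure (t : Set Q)) := CommGroup.finite_of_fg_isMulTorsion _ htors
  exact Set.toFinite _

end Fin

section Top
variable {G : Type u} [Group G] [TopologicalSpace G] [IsTopologicalGroup G] (n : ℕ)

/-- the abstract subgroup generated by powers and commutators -/
def S₀ (G : Type u) [Group G] (n : ℕ) : Subgroup G :=
  Subgroup.closure (Set.range fun g : G => g ^ n) ⊔ commutator G

omit [TopologicalSpace G] [IsTopologicalGroup G] in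
theorem S₀_le_ker {B : Type*} [CommGroup B] (hB : ∀ b : B, b ^ n = 1) (θ : G →* B) :
    S₀ G n ≤ θ.ker := by
  refine sup_le ?_ (Abelianization.commutator_subset_ker θ)
  rw [Subgroup.closure_le]
  rintro _ ⟨g, rfl⟩
  simp [MonoidHom.mem_ker, hB]

theorem S_le_ker {B : Type*} [CommGroup B] (hB : ∀ b : B, b ^ n = 1) (θ : G →* B)
    (hθ : IsClosed ((θ.ker : Subgroup G) : Set G)) : powCommClosure G n ≤ θ.ker :=
  Subgroup.topologicalClosure_minimal _ (S₀_le_ker n hB θ) hθ

theorem pow_mem_S (g : G) : g ^ n ∈ powCommClosure G n :=
  Subgroup.le_topologicalClosure _ (Subgroup.mem_sup_left (Subgroup.subset_closure ⟨g, rfl⟩))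

theorem commutator_le_S : commutator G ≤ powCommClosure G n :=
  le_trans le_sup_right (Subgroup.le_topologicalClosure _)

instance normal_S : (powCommClosure G n).Normal := by
  rw [← Subgroup.commutator_top_left_le_iff]
  refine le_trans (Subgroup.commutator_mono le_rfl le_top) ?_
  rw [← commutator_def]
  exact commutator_le_S n

theorem isClosed_S : IsClosed ((powCommClosure G n : Subgroup G) : Set G) :=
  Subgroup.isClosed_topologicalClosure _

theorem quot_comm (a b : G ⧸ powCommClosure G n) : a * b = b * a := by
  induction a using QuotientGroup.induction_on with | _ a => ?_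
  induction b using QuotientGroup.induction_on with | _ b => ?_
  rw [← QuotientGroup.mk_mul, ← QuotientGroup.mk_mul, QuotientGroup.eq]
  apply commutator_le_S n
  have : (a * b)⁻¹ * (b * a) = ⁅b⁻¹, a⁻¹⁆ := by
    simp [commutatorElement_def, mul_assoc]
  rw [this]
  exact Subgroup.commutator_mem_commutator (Subgroup.mem_top _) (Subgroup.mem_top _)

theorem quot_exp (a : G ⧸ powCommClosure G n) : a ^ n = 1 := by
  induction a using QuotientGroup.induction_on with | _ a => ?_
  rw [← QuotientGroup.mk_pow, QuotientGroup.eq_one_iff]
  exact pow_mem_S n a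

theorem finite_quot [NeZero n] (s : Finset G)
    (hs : Dense ((Subgroup.closure (s : Set G) : Subgroup G) : Set G)) :
    Finite (G ⧸ powCommClosure G n) := by
  classical
  have hcl : IsClosed ((powCommClosure G n : Subgroup G) : Set G) := isClosed_S n
  have hfin := finite_closure_of_comm_of_exp n (NeZero.ne n) (quot_comm n) (quot_exp n)
    (s.image (QuotientGroup.mk' (powCommClosure G n)))
  have hdense : Dense ((Subgroup.closure
      ((s.image (QuotientGroup.mk' (powCommClosure G n)) : Finset _) : Set (G ⧸ powCommClosure G n)) :
        Subgroup _) : Set (G ⧸ powCommClosure G n)) := by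
    have h1 : (Subgroup.closure ((s.image (QuotientGroup.mk' (powCommClosure G n)) : Finset _) :
        Set (G ⧸ powCommClosure G n)) : Subgroup _) =
        (Subgroup.closure (s : Set G)).map (QuotientGroup.mk' (powCommClosure G n)) := by
      rw [MonoidHom.map_closure, Finset.coe_image]
    rw [h1, Subgroup.coe_map]
    exact (QuotientGroup.mk_surjective (s := powCommClosure G n)).denseRange.dense_image
      QuotientGroup.continuous_mk hs
  have hcl2 := hfin.isClosed
  have huniv := hdense.closure_eq
  rw [hcl2.closure_eq] at huniv
  rw [← Set.finite_univ_iff, ← huniv]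
  exact hfin

end Top

open W4c1etcurveeff2 in
/-- Let G be a topological group in which some finite subset generates a dense subgroup, let n ≥ 1, and
let S be the closure of the subgroup generated by all n-th powers and all commutators. Write D for
the group of continuous homomorphisms from G to the discrete cyclic group ℤ/n, that is,
homomorphisms with open kernel (the first cohomology of G with coefficients in the trivial module
ℤ/n), and D^∨ for its ℤ/n-dual, the group of homomorphisms D → ℤ/n. Then: S is carried onto itself
by every group automorphism of G that is a homeomorphism; an element g of G lies in S exactly when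
every element of D kills g, and every element of D^∨ is evaluation at some element of G, so that
evaluation identifies G/S with D^∨; and S is the only closed normal subgroup H of G with G/H
isomorphic to D^∨. (The published statement is for a topologically finitely generated group, calls S
characteristic and does not restrict the competing subgroups H; this row asks the automorphisms to
be homeomorphisms and H to be closed, which is what the argument uses: for the integers with the
p-adic topology times a cyclic group of prime order q ≠ p, the subgroup qℤ × ℤ/q is normal, not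
closed, and has quotient isomorphic to D^∨ ≅ ℤ/q, while S = ℤ × 0.) -/
theorem result
    {G : Type u} [Group G] [TopologicalSpace G] [IsTopologicalGroup G]
    (s : Finset G) (hs : Dense ((Subgroup.closure (s : Set G) : Subgroup G) : Set G))
    (n : ℕ) [NeZero n] (S : Subgroup G) (hS : S = powCommClosure G n) :
    (∀ φ : G ≃* G, Continuous φ → Continuous φ.symm → S.map φ.toMonoidHom = S) ∧
    (∀ g : G, g ∈ S ↔
        ∀ χ : G →* Multiplicative (ZMod n), IsOpen ((χ.ker : Subgroup G) : Set G) → χ g = 1) ∧
    (∀ F : ContChar G n →* Multiplicative (ZMod n), ∃ g : G,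
        ∀ χ : ContChar G n, F χ = (χ.1 : G →* Multiplicative (ZMod n)) g) ∧
    (∀ (H : Subgroup G) [H.Normal], IsClosed (H : Set G) →
        Nonempty (G ⧸ H ≃* (ContChar G n →* Multiplicative (ZMod n))) → H = S) := by
  subst hS
  classical
  have hfin : Finite (G ⧸ powCommClosure G n) := finite_quot n s hs
  have hcl := isClosed_S (G := G) n
  have hfi : (powCommClosure G n).FiniteIndex := Subgroup.finiteIndex_of_finite_quotient
  have hopen : IsOpen ((powCommClosure G n : Subgroup G) : Set G) :=
    Subgroup.isOpen_of_isClosed_of_finiteIndex _ hcl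
  have hZ : ∀ z : Multiplicative (ZMod n), z ^ n = 1 := zpow_n n
  have hkill : ∀ χ : G →* Multiplicative (ZMod n), IsOpen ((χ.ker : Subgroup G) : Set G) →
      powCommClosure G n ≤ χ.ker :=
    fun χ hχ => S_le_ker n hZ χ (Subgroup.isClosed_of_isOpen _ hχ)
  let _ : CommGroup (G ⧸ powCommClosure G n) :=
    { (inferInstance : Group (G ⧸ powCommClosure G n)) with mul_comm := quot_comm n }
  -- invariance under continuous automorphisms
  have hmap : ∀ φ : G ≃* G, Continuous φ →
      (powCommClosure G n).map φ.toMonoidHom ≤ powCommClosure G n := by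
    intro φ hφ
    rw [Subgroup.map_le_iff_le_comap]
    have hker : ((QuotientGroup.mk' (powCommClosure G n)).comp φ.toMonoidHom).ker =
        (powCommClosure G n).comap φ.toMonoidHom := by
      rw [← MonoidHom.comap_ker, QuotientGroup.ker_mk']
    rw [← hker]
    apply S_le_ker n (quot_exp n)
    rw [hker]
    exact hcl.preimage hφ
  have part2 : ∀ g : G, g ∈ powCommClosure G n ↔
      ∀ χ : G →* Multiplicative (ZMod n), IsOpen ((χ.ker : Subgroup G) : Set G) → χ g = 1 := by
    intro g
    refine ⟨fun hg χ hχ => hkill χ hχ hg, fun h => ?_⟩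
    by_contra hg
    have hne : (QuotientGroup.mk g : G ⧸ powCommClosure G n) ≠ 1 := by
      rwa [Ne, QuotientGroup.eq_one_iff]
    obtain ⟨ψ, hψ⟩ := exists_char_ne_one n (quot_exp n) hne
    refine hψ (h (ψ.comp (QuotientGroup.mk' _)) ?_)
    refine Subgroup.isOpen_mono (H₁ := powCommClosure G n) ?_ hopen
    intro x hx
    rw [MonoidHom.mem_ker, MonoidHom.comp_apply, QuotientGroup.mk'_apply,
      (QuotientGroup.eq_one_iff x).2 hx, map_one]
  have part3 : ∀ F : ContChar G n →* Multiplicative (ZMod n), ∃ g : G,
      ∀ χ : ContChar G n, F χ = (χ.1 : G →* Multiplicative (ZMod n)) g := by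
    intro F
    let ι : ((G ⧸ powCommClosure G n) →* Multiplicative (ZMod n)) →* ContChar G n :=
      MonoidHom.codRestrict (MonoidHom.compHom' (QuotientGroup.mk' (powCommClosure G n)))
        (ContChar G n) (fun ψ => by
          show IsOpen _
          refine Subgroup.isOpen_mono (H₁ := powCommClosure G n) ?_ hopen
          intro x hx
          rw [MonoidHom.mem_ker]
          show ψ (QuotientGroup.mk x) = 1
          rw [(QuotientGroup.eq_one_iff x).2 hx, map_one])
    obtain ⟨q, hq⟩ := exists_eval n (quot_exp n) (F.comp ι)
    obtain ⟨g, rfl⟩ := QuotientGroup.mk_surjective q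
    refine ⟨g, fun χ => ?_⟩
    have hχ : ι (QuotientGroup.lift (powCommClosure G n) χ.1 (hkill χ.1 χ.2)) = χ :=
      Subtype.ext (MonoidHom.ext fun x => rfl)
    have := hq (QuotientGroup.lift (powCommClosure G n) χ.1 (hkill χ.1 χ.2))
    rw [MonoidHom.comp_apply, hχ] at this
    rw [this]
    rfl
  refine ⟨?_, part2, part3, ?_⟩
  · intro φ hφ hφ'
    refine le_antisymm (hmap φ hφ) ?_
    intro x hx
    refine ⟨φ.symm x, hmap φ.symm hφ' ⟨x, hx, rfl⟩, ?_⟩
    simp
  · intro H _ hHcl ⟨e⟩
    have hB : ∀ F : ContChar G n →* Multiplicative (ZMod n), F ^ n = 1 := by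
      intro F
      ext χ
      rw [MonoidHom.pow_apply, hZ, MonoidHom.one_apply]
    have hker : (e.toMonoidHom.comp (QuotientGroup.mk' H)).ker = H := by
      ext x
      rw [MonoidHom.mem_ker, MonoidHom.comp_apply]
      simp
    have hle : powCommClosure G n ≤ H := by
      rw [← hker]
      apply S_le_ker n hB
      rw [hker]
      exact hHcl
    refine le_antisymm ?_ hle
    -- cardinality argument
    let ev : G →* (ContChar G n →* Multiplicative (ZMod n)) :=
      (MonoidHom.compHom' (ContChar G n).subtype).comp MonoidHom.eval
    have hev : ∀ g (χ : ContChar G n), ev g χ = χ.1 g := fun g χ => rfl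
    have hsurj : Function.Surjective ev := by
      intro F
      obtain ⟨g, hg⟩ := part3 F
      exact ⟨g, MonoidHom.ext fun χ => by rw [hev, hg]⟩
    have hevker : ev.ker = powCommClosure G n := by
      ext g
      rw [MonoidHom.mem_ker, part2 g]
      constructor
      · intro h χ hχ
        have := DFunLike.congr_fun h ⟨χ, hχ⟩
        rwa [hev] at this
      · intro h
        ext χ
        rw [hev]
        exact h χ.1 χ.2
    have hcard : (powCommClosure G n).index = H.index := by
      rw [Subgroup.index_eq_card, Subgroup.index_eq_card, ← hevker]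
      exact (Nat.card_congr (QuotientGroup.quotientKerEquivOfSurjective ev hsurj).toEquiv).trans
        (Nat.card_congr e.toEquiv).symm
    have hrel := Subgroup.relIndex_mul_index hle
    rw [hcard] at hrel
    have hne : H.index ≠ 0 := by
      rw [← hcard]; exact Subgroup.FiniteIndex.index_ne_zero
    have h1 : (powCommClosure G n).relIndex H = 1 := by
      have : (powCommClosure G n).relIndex H * H.index = 1 * H.index := by rw [hrel, one_mul]
      exact Nat.eq_of_mul_eq_mul_right (Nat.pos_of_ne_zero hne) this
    exact Subgroup.relIndex_eq_one.1 h1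

end Groth.Agent.S14176
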