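import Groth.Statements.S14178
import Mathlib.FieldTheory.KummerExtension
-- import your own Groth.Agent.* helpers here

set_option autoImplicit false
universe u v w
open scoped nonZeroDivisors
open EtAlg

namespace Groth.Agent.S14178

open Polynomial

theorem fracIdeal_eq_one_of_pow_eq_one {A : Type u} {K : Type v} [CommRing A] [IsDedekindDomain A]
    [Field K] [Algebra A K] [IsFractionRing A K]
    (z : FractionalIdeal A⁰ K) (n : ℕ) (hn : 0 < n) (hz : z ^ n = 1) : z = 1 := by
  have hle : ∀ w : FractionalIdeal A⁰ K, w ^ n = 1 → w ≤ 1 := by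
    intro w hw a ha
    have h1 : a ^ n ∈ w ^ n := by
      rw [← FractionalIdeal.mem_coe, FractionalIdeal.coe_pow]
      exact Submodule.pow_mem_pow _ ha n
    rw [hw] at h1
    rw [FractionalIdeal.mem_one_iff] at h1 ⊢
    obtain ⟨b, hb⟩ := h1
    have hint : IsIntegral A a := by
      refine ⟨X ^ n - C b, monic_X_pow_sub_C b hn.ne', ?_⟩
      simp [hb]
    exact IsIntegrallyClosed.isIntegral_iff.mp hint
  have h1 : z ≤ 1 := hle z hz
  have hz0 : z ≠ 0 := by
    rintro rfl
    simp [hn.ne'] at hz
  have h2 : z⁻¹ ≤ 1 := hle z⁻¹ (by rw [inv_pow, hz, inv_one])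
  apply le_antisymm h1
  calc (1 : FractionalIdeal A⁰ K) = z * z⁻¹ := (mul_inv_cancel₀ hz0).symm
    _ ≤ z * 1 := mul_le_mul_right h2 z
    _ = z := mul_one z

theorem prod_of_forall_mem {L : Type w} [Field L] (ζ α : L) (m : Multiset L)
    (h : ∀ r ∈ m, ∃ i : ℕ, r = ζ ^ i * α) :
    ∃ s : ℕ, m.prod = ζ ^ s * α ^ (Multiset.card m) := by
  induction m using Multiset.induction with
  | empty => exact ⟨0, by simp⟩
  | cons a m ih =>
    obtain ⟨s, hs⟩ := ih (fun r hr => h r (Multiset.mem_cons_of_mem hr))
    obtain ⟨i, hi⟩ := h a (Multiset.mem_cons_self a m)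
    refine ⟨i + s, ?_⟩
    rw [Multiset.prod_cons, hs, hi, Multiset.card_cons]
    ring

theorem pow_natDegree_minpoly_mem {K : Type v} {L : Type w} [Field K] [Field L] [Algebra K L]
    (n : ℕ) (hn : 0 < n) (ζ : K) (hζ : IsPrimitiveRoot ζ n) (f : K) (hf : f ≠ 0) (α : L)
    (hα : α ^ n = algebraMap K L f) :
    ∃ c : K, α ^ (minpoly K α).natDegree = algebraMap K L c := by
  have hfL : algebraMap K L f ≠ 0 := by simpa using hf
  have hα0 : α ≠ 0 := by
    rintro rfl
    rw [zero_pow hn.ne'] at hα
    exact hfL hα.symm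
  have hζL : IsPrimitiveRoot (algebraMap K L ζ) n :=
    hζ.map_of_injective (algebraMap K L).injective
  have hq0 : (X ^ n - C f : K[X]) ≠ 0 := X_pow_sub_C_ne_zero hn f
  have hdvd : minpoly K α ∣ X ^ n - C f := minpoly.dvd K α (by simp [hα])
  have hsplitq : ((X ^ n - C f : K[X]).map (algebraMap K L)).Splits := by
    rw [Polynomial.map_sub, Polynomial.map_pow, Polynomial.map_C, Polynomial.map_X]
    exact X_pow_sub_C_splits_of_isPrimitiveRoot hζL hα
  have hint : IsIntegral K α := ⟨X ^ n - C f, monic_X_pow_sub_C f hn.ne', by simp [hα]⟩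
  have hmonic : ((minpoly K α).map (algebraMap K L)).Monic := (minpoly.monic hint).map _
  have hsplitp : ((minpoly K α).map (algebraMap K L)).Splits :=
    hsplitq.of_dvd ((Polynomial.map_ne_zero_iff (algebraMap K L).injective).mpr hq0)
      (Polynomial.map_dvd _ hdvd)
  have hroots : ∀ r ∈ ((minpoly K α).map (algebraMap K L)).roots,
      ∃ i : ℕ, r = (algebraMap K L ζ) ^ i * α := by
    intro r hr
    have hr' : r ^ n = algebraMap K L f := by
      have h1 : ((minpoly K α).map (algebraMap K L)).IsRoot r := (Polynomial.mem_roots'.mp hr).2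
      have h2 : ((X ^ n - C f : K[X]).map (algebraMap K L)).IsRoot r := by
        obtain ⟨g, hg⟩ := hdvd
        rw [hg, Polynomial.map_mul, IsRoot, eval_mul, h1.eq_zero, zero_mul]
      simpa [sub_eq_zero] using h2
    have h3 : (r / α) ^ n = 1 := by rw [div_pow, hr', hα, div_self hfL]
    haveI : NeZero n := ⟨hn.ne'⟩
    obtain ⟨i, -, hi⟩ := hζL.eq_pow_of_pow_eq_one h3
    exact ⟨i, by rw [hi]; field_simp⟩
  obtain ⟨s, hs⟩ := prod_of_forall_mem _ α _ hroots
  have hc := hsplitp.coeff_zero_eq_prod_roots_of_monic hmonic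
  rw [hs, ← hsplitp.natDegree_eq_card_roots, natDegree_map, coeff_map] at hc
  refine ⟨(-1) ^ (minpoly K α).natDegree * (minpoly K α).coeff 0 * (ζ ^ s)⁻¹, ?_⟩
  have hζs : (algebraMap K L ζ) ^ s ≠ 0 := pow_ne_zero _ (hζL.ne_zero hn.ne')
  rw [map_mul, map_mul, hc, map_inv₀, map_pow, map_pow, map_neg, map_one]
  have hsq : ((-1 : L) ^ (minpoly K α).natDegree) * ((-1 : L) ^ (minpoly K α).natDegree) = 1 := by
    rw [← mul_pow]; simp
  calc α ^ (minpoly K α).natDegree
      = (((-1 : L) ^ (minpoly K α).natDegree) * ((-1 : L) ^ (minpoly K α).natDegree)) *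
        (α ^ (minpoly K α).natDegree * ((algebraMap K L ζ) ^ s * ((algebraMap K L ζ) ^ s)⁻¹)) := by
        rw [hsq, mul_inv_cancel₀ hζs]; ring
    _ = _ := by ring

/-- Let A be a Dedekind domain with fraction field K, let n be a natural number invertible in A such
that K contains a primitive n-th root of unity, let f be a nonzero element of K and I an invertible
fractional ideal of A with (f) = I^n whose class in the ideal class group of A has order exactly n
(the divisor of f is n times a divisor whose class has order n), and let L = K(α) be a field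
extension of K generated by a single element α with α^n = f. Then L is Galois over K of degree n
with cyclic Galois group. (The published statement is for an integral smooth curve over a perfect
field containing a primitive n-th root of unity, with the Picard group of the curve in place of the
class group; this row states it for any Dedekind domain.) -/
theorem result
    {A : Type u} {K : Type v} {L : Type w} [CommRing A] [IsDedekindDomain A]
    [Field K] [Algebra A K] [IsFractionRing A K]
    [Field L] [Algebra K L]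
    (n : ℕ) (hn : IsUnit (n : A)) (ζ : K) (hζ : IsPrimitiveRoot ζ n) (f : K) (hf : f ≠ 0)
    (I : (FractionalIdeal A⁰ K)ˣ) (hI : FractionalIdeal.spanSingleton A⁰ f = (I : FractionalIdeal A⁰ K) ^ n)
    (hord : orderOf (ClassGroup.mk K I) = n)
    (α : L) (hα : α ^ n = algebraMap K L f) (hgen : IntermediateField.adjoin K {α} = ⊤) :
    IsGalois K L ∧ IsCyclic (L ≃ₐ[K] L) ∧ Module.finrank K L = n := by
  have hA : Nontrivial A := inferInstance
  have hn0 : n ≠ 0 := by
    rintro rfl
    simp at hn
  have hnpos : 0 < n := Nat.pos_of_ne_zero hn0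
  have hinj : Function.Injective (algebraMap K L) := (algebraMap K L).injective
  have hint : IsIntegral K α := ⟨X ^ n - C f, monic_X_pow_sub_C f hn0, by simp [hα]⟩
  obtain ⟨c, hc⟩ := pow_natDegree_minpoly_mem n hnpos ζ hζ f hf α hα
  set d := (minpoly K α).natDegree with hd
  have hdpos : 0 < d := minpoly.natDegree_pos hint
  have hdle : d ≤ n := by
    have hdvd : minpoly K α ∣ X ^ n - C f := minpoly.dvd K α (by simp [hα])
    have := Polynomial.natDegree_le_of_dvd hdvd (X_pow_sub_C_ne_zero hnpos f)
    rwa [natDegree_X_pow_sub_C] at this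
  have hcf : c ^ n = f ^ d := by
    apply hinj
    rw [map_pow, map_pow, ← hc, ← hα, ← pow_mul, ← pow_mul, mul_comm]
  have hf0 : FractionalIdeal.spanSingleton A⁰ f ≠ 0 :=
    FractionalIdeal.spanSingleton_ne_zero_iff.mpr hf
  have hId : FractionalIdeal.spanSingleton A⁰ c = (I : FractionalIdeal A⁰ K) ^ d := by
    have hz : (FractionalIdeal.spanSingleton A⁰ c / (I : FractionalIdeal A⁰ K) ^ d) ^ n = 1 := by
      rw [div_pow, FractionalIdeal.spanSingleton_pow, hcf, ← pow_mul, mul_comm d n, pow_mul, ← hI,
        FractionalIdeal.spanSingleton_pow]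
      exact div_self (FractionalIdeal.spanSingleton_ne_zero_iff.mpr (pow_ne_zero d hf))
    have h1 := fracIdeal_eq_one_of_pow_eq_one _ n hnpos hz
    have hId0 : (I : FractionalIdeal A⁰ K) ^ d ≠ 0 := pow_ne_zero _ (Units.ne_zero I)
    rw [div_eq_one_iff_eq hId0] at h1
    exact h1
  have hcls : ClassGroup.mk K I ^ d = 1 := by
    rw [← map_pow, ClassGroup.mk_eq_one_iff]
    rw [Units.val_pow_eq_pow_val, ← hId]
    exact ⟨⟨c, by simp [FractionalIdeal.coe_spanSingleton]⟩⟩
  have hnd : n ∣ d := hord ▸ orderOf_dvd_of_pow_eq_one hcls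
  have hdn : d = n := le_antisymm hdle (Nat.le_of_dvd hdpos hnd)
  have hfin : Module.finrank K L = n := by
    rw [← hdn, hd, ← IntermediateField.adjoin.finrank hint, hgen, IntermediateField.finrank_top']
  have : FiniteDimensional K L := Module.finite_of_finrank_pos (by rw [hfin]; exact hnpos)
  have hK : (primitiveRoots (Module.finrank K L) K).Nonempty :=
    ⟨ζ, by rw [hfin, mem_primitiveRoots hnpos]; exact hζ⟩
  have h3 : ∃ (α : L), α ^ (Module.finrank K L) ∈ Set.range (algebraMap K L) ∧
      IntermediateField.adjoin K {α} = ⊤ := ⟨α, ⟨f, by rw [hfin]; exact hα.symm⟩, hgen⟩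
  have h1 := ((isCyclic_tfae K L hK).out 2 0).mp h3
  exact ⟨h1.1, h1.2, hfin⟩

end Groth.Agent.S14178
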