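import Groth.Statements.S14188
import Mathlib
import Groth.Agent.Lib.Helper7.FlatClosure

set_option autoImplicit false
set_option linter.style.haveILetI false
universe u
open CategoryTheory CategoryTheory.Limits AlgebraicGeometry
open FlatMor

namespace Groth.Agent.S14188

open CategoryTheory.Limits TopologicalSpace Opposite
open FlatMor
open Groth.Agent.Lib.Helper7.GenFibreDense Groth.Agent.Lib.Helper7.FlatClosure

instance subsingleton_SpecFunctionField (T : Scheme.{u}) [IsIntegral T] :
    Subsingleton ↥(Spec (T.presheaf.stalk (genericPoint T))) :=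
  inferInstanceAs (Subsingleton (PrimeSpectrum T.functionField))

lemma isAffineHom_fromSpecStalk_generic (T : Scheme.{u}) [IsIntegral T] :
    IsAffineHom (T.fromSpecStalk (genericPoint T)) := isAffineHom_of_subsingleton _

lemma schDominant_fromSpecStalk_generic (T : Scheme.{u}) [IsIntegral T] :
    IsSchemeTheoreticallyDominant (T.fromSpecStalk (genericPoint T)) := by
  haveI : IsDominant (T.fromSpecStalk (genericPoint T)) := by
    constructor
    have hmem : genericPoint T ∈ Set.range (T.fromSpecStalk (genericPoint T)) := by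
      rw [Scheme.range_fromSpecStalk]
      exact specializes_rfl
    have hd : Dense ({genericPoint T} : Set T) := by
      rw [dense_iff_closure_eq]
      exact genericPoint_spec T
    exact hd.mono (Set.singleton_subset_iff.mpr hmem)
  exact IsSchemeTheoreticallyDominant.of_isDominant _


/-- Let T be an integral scheme with generic point η, let Y and Z be schemes flat over T with Z
separated over T, and let ψ : Y_η → Z be a T-morphism from the generic fibre Y_η = Y ×_T Spec
O_{T,η} (equivalently, an η-morphism Y_η → Z_η). Let gr : Y_η → Y ×_T Z be the graph of ψ, the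
morphism whose components are the projection Y_η → Y and ψ, and let Γ ⊆ Y ×_T Z be the
scheme-theoretic image of gr (the schematic closure of the graph). Then ψ extends to a T-morphism φ
: Y → Z, meaning that the composite Y_η → Y → Z is ψ, if and only if the composite of the inclusion
Γ → Y ×_T Z with the first projection is an isomorphism Γ ≅ Y. -/
theorem result (T Y Z : Scheme.{u}) [IsIntegral T]
    (pY : Y ⟶ T) (pZ : Z ⟶ T) [Flat pY] [Flat pZ] [IsSeparated pZ]
    (ψ : pullback pY (T.fromSpecStalk (genericPoint T)) ⟶ Z)
    (hψ : ψ ≫ pZ = pullback.fst pY (T.fromSpecStalk (genericPoint T)) ≫ pY)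
    (gr : pullback pY (T.fromSpecStalk (genericPoint T)) ⟶ pullback pY pZ)
    (hgr₁ : gr ≫ pullback.fst pY pZ = pullback.fst pY (T.fromSpecStalk (genericPoint T)))
    (hgr₂ : gr ≫ pullback.snd pY pZ = ψ) :
    (∃ φ : Y ⟶ Z, φ ≫ pZ = pY ∧ pullback.fst pY (T.fromSpecStalk (genericPoint T)) ≫ φ = ψ) ↔
      IsIso (gr.imageι ≫ pullback.fst pY pZ) := by
  haveI := isAffineHom_fromSpecStalk_generic T
  haveI := schDominant_fromSpecStalk_generic T
  let d := pullback.fst pY (T.fromSpecStalk (genericPoint T))
  haveI : IsSchemeTheoreticallyDominant d := inferInstance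
  constructor
  · rintro ⟨φ, hφ₁, hφ₂⟩
    let γ : Y ⟶ pullback pY pZ := pullback.lift (𝟙 Y) φ (by rw [Category.id_comp, hφ₁])
    have hγ₁ : γ ≫ pullback.fst pY pZ = 𝟙 Y := pullback.lift_fst _ _ _
    have hγ₂ : γ ≫ pullback.snd pY pZ = φ := pullback.lift_snd _ _ _
    haveI : IsClosedImmersion γ := by
      haveI : IsClosedImmersion (γ ≫ pullback.fst pY pZ) := by rw [hγ₁]; infer_instance
      exact IsClosedImmersion.of_comp γ (pullback.fst pY pZ)
    have hgr : gr = d ≫ γ := by
      apply pullback.hom_ext
      · rw [hgr₁, Category.assoc, hγ₁, Category.comp_id]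
      · rw [hgr₂, Category.assoc, hγ₂, hφ₂]
    have hker : gr.imageι.ker = γ.ker := by
      rw [Scheme.IdealSheafData.ker_subschemeι, hgr, Scheme.Hom.ker_comp, d.ker_eq_bot,
        Scheme.IdealSheafData.map_bot]
    haveI := IsClosedImmersion.isIso_lift γ gr.imageι hker.symm
    have : gr.imageι ≫ pullback.fst pY pZ = IsClosedImmersion.lift γ gr.imageι hker.symm.le := by
      have h0 := IsClosedImmersion.lift_fac γ gr.imageι hker.symm.le
      calc gr.imageι ≫ pullback.fst pY pZ
          = (IsClosedImmersion.lift γ gr.imageι hker.symm.le ≫ γ) ≫ pullback.fst pY pZ := by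
            rw [h0]
        _ = IsClosedImmersion.lift γ gr.imageι hker.symm.le := by
            rw [Category.assoc, hγ₁, Category.comp_id]
    rw [this]
    infer_instance
  · intro hiso
    refine ⟨inv (gr.imageι ≫ pullback.fst pY pZ) ≫ gr.imageι ≫ pullback.snd pY pZ, ?_, ?_⟩
    · rw [Category.assoc, Category.assoc, ← pullback.condition, ← Category.assoc gr.imageι,
        IsIso.inv_hom_id_assoc]
    · have h1 : pullback.fst pY (T.fromSpecStalk (genericPoint T)) =
          gr.toImage ≫ (gr.imageι ≫ pullback.fst pY pZ) := by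
        rw [Scheme.Hom.toImage_imageι_assoc, hgr₁]
      rw [h1, Category.assoc, IsIso.hom_inv_id_assoc, Scheme.Hom.toImage_imageι_assoc, hgr₂]

end Groth.Agent.S14188
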