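import Groth.Statements.S15806
import Mathlib

set_option autoImplicit false
universe u
open CategoryTheory AlgebraicGeometry
open WildQuot

namespace Groth.Agent.S15806

section helpers
open CategoryTheory CategoryTheory.Limits AlgebraicGeometry


lemma ext_of_isSchemeTheoreticallyDominant_of_isSeparated {W X Y Z : Scheme.{u}} {f g : X ⟶ Y}
    (s : Y ⟶ Z) [IsSeparated s] (h : f ≫ s = g ≫ s)
    (ι : W ⟶ X) [IsSchemeTheoreticallyDominant ι] (hU : ι ≫ f = ι ≫ g) : f = g := by
  let X' : Over Z := Over.mk (f ≫ s)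
  let Y' : Over Z := Over.mk s
  let U' : Over Z := Over.mk (ι ≫ f ≫ s)
  let f' : X' ⟶ Y' := Over.homMk f
  let g' : X' ⟶ Y' := Over.homMk g (by simpa [X', Y'] using h.symm)
  let ι' : U' ⟶ X' := Over.homMk ι
  have : IsSeparated Y'.hom := ‹_›
  have hι : ι' ≫ f' = ι' ≫ g' := by ext1; exact hU
  have hk : (equalizer.ι f' g').left.ker = ⊥ := by
    rw [← le_bot_iff]
    calc (equalizer.ι f' g').left.ker
        ≤ ((equalizer.lift ι' hι).left ≫ (equalizer.ι f' g').left).ker :=
          Scheme.Hom.le_ker_comp _ _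
      _ = ι.ker := by rw [← Over.comp_left, equalizer.lift_ι]; rfl
      _ = ⊥ := ι.ker_eq_bot
  have := IsClosedImmersion.isIso_iff_ker_eq_bot.mpr hk
  rw [← cancel_epi (equalizer.ι f' g').left]
  exact congr($(equalizer.condition f' g').left)

lemma isSchemeTheoreticallyDominant_ι_of_assoc {S : Scheme.{u}} [AlgebraicGeometry.IsNoetherian S]
    (U : S.Opens)
    (hU : ∀ s : S, IsLocalRing.maximalIdeal (S.presheaf.stalk s) ∈
        associatedPrimes (S.presheaf.stalk s) (S.presheaf.stalk s) → s ∈ U) :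
    IsSchemeTheoreticallyDominant U.ι := by
  rw [isSchemeTheoreticallyDominant_iff]
  ext V : 2
  rw [Scheme.Hom.ker_apply]
  simp only [Scheme.IdealSheafData.ideal_bot, Pi.bot_apply]
  rw [← RingHom.injective_iff_ker_eq_bot, injective_iff_map_eq_zero]
  intro a ha
  by_contra ha0
  obtain ⟨V, hV⟩ := V
  haveI : IsNoetherianRing Γ(S, V) := IsLocallyNoetherian.component_noetherian ⟨V, hV⟩
  -- the kernel ideal K
  set K : Ideal Γ(S, V) := RingHom.ker (U.ι.app V).hom with hK
  have haK : a ∈ K := ha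
  haveI : Nontrivial K := ⟨⟨⟨a, haK⟩, 0, fun h => ha0 (congrArg Subtype.val h)⟩⟩
  obtain ⟨P, hP⟩ := associatedPrimes.nonempty Γ(S, V) K
  obtain ⟨hPprime, x, hx⟩ := isAssociatedPrime_iff.mp hP
  have hxK : (x : Γ(S, V)) ∈ K := x.2
  have hPx : ∀ r : Γ(S, V), r ∈ P ↔ r * (x : Γ(S, V)) = 0 := by
    intro r
    rw [hx, Submodule.mem_colon_singleton, Submodule.mem_bot]
    constructor
    · intro h; simpa using congrArg Subtype.val h
    · intro h; ext; simpa using h
  let y : PrimeSpectrum Γ(S, V) := ⟨P, hPprime⟩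
  have hs : hV.fromSpec y ∈ V := (hV.isoSpec.inv _).2
  set s : S := hV.fromSpec y with hsdef
  letI := TopCat.Presheaf.algebra_section_stalk S.presheaf ⟨s, hs⟩
  haveI : IsLocalization.AtPrime (S.presheaf.stalk s) y.asIdeal := hV.isLocalization_stalk' y hs
  set gx : S.presheaf.stalk s := algebraMap Γ(S, V) (S.presheaf.stalk s) (x : Γ(S, V)) with hgx
  have hgx' : gx = S.presheaf.germ V s hs (x : Γ(S, V)) := rfl
  have hy0 : gx ≠ 0 := by
    intro h0
    obtain ⟨m, hm⟩ := (IsLocalization.map_eq_zero_iff y.asIdeal.primeCompl _ _).mp h0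
    exact m.2 ((hPx m.1).mpr hm)
  have hcolon : IsLocalRing.maximalIdeal (S.presheaf.stalk s) =
      Submodule.colon (⊥ : Submodule (S.presheaf.stalk s) (S.presheaf.stalk s)) {gx} := by
    apply le_antisymm
    · intro r hr
      rw [Submodule.mem_colon_singleton, Submodule.mem_bot]
      obtain ⟨a', t, rfl⟩ := IsLocalization.exists_mk'_eq y.asIdeal.primeCompl r
      rw [IsLocalization.AtPrime.mk'_mem_maximal_iff (S.presheaf.stalk s) y.asIdeal] at hr
      have h1 : a' * (x : Γ(S, V)) = 0 := (hPx a').mp hr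
      rw [IsLocalization.mk'_eq_mul_mk'_one, smul_eq_mul, mul_assoc, mul_comm _ gx,
        ← mul_assoc, hgx, ← map_mul, h1, map_zero, zero_mul]
    · apply IsLocalRing.le_maximalIdeal
      intro htop
      have : (1 : S.presheaf.stalk s) ∈
          Submodule.colon (⊥ : Submodule (S.presheaf.stalk s) (S.presheaf.stalk s)) {gx} := by
        rw [htop]; trivial
      rw [Submodule.mem_colon_singleton, Submodule.mem_bot, one_smul] at this
      exact hy0 this
  have hass : IsLocalRing.maximalIdeal (S.presheaf.stalk s) ∈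
      associatedPrimes (S.presheaf.stalk s) (S.presheaf.stalk s) :=
    isAssociatedPrime_iff.mpr ⟨inferInstance, gx, hcolon⟩
  have hsU : s ∈ U := hU s hass
  apply hy0
  have hle : U.ι ''ᵁ U.ι ⁻¹ᵁ V ≤ V := by
    rw [Scheme.Hom.image_preimage_eq_opensRange_inf]; exact inf_le_right
  have hres : S.presheaf.map (homOfLE hle).op (x : Γ(S, V)) = 0 := by
    have := RingHom.mem_ker.mp hxK
    rw [Scheme.Opens.ι_app] at this
    exact this
  have hs' : s ∈ U.ι ''ᵁ U.ι ⁻¹ᵁ V := by
    rw [Scheme.Hom.image_preimage_eq_opensRange_inf, Scheme.Opens.opensRange_ι]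
    exact ⟨hsU, hs⟩
  rw [hgx', ← TopCat.Presheaf.germ_res_apply S.presheaf (homOfLE hle) s hs', hres, map_zero]

end helpers

/-- Let `S` be a Noetherian scheme, `G_1 → S` and `G_2 → S` finite flat morphisms, and `U ⊆ S` an open
subset containing every associated point of `S`, i.e. every point whose local ring has the maximal
ideal as an associated prime (for `S` Noetherian this says exactly that `U` is dense and contains
all points at which `S` does not satisfy Serre's condition `S_1`, which is the printed hypothesis).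
If two `S`-morphisms `φ, ψ : G_1 → G_2` agree on the preimage of `U`, then `φ = ψ`. -/
theorem result
    (S G₁ G₂ : Scheme.{u}) [AlgebraicGeometry.IsNoetherian S] (f₁ : G₁ ⟶ S) (f₂ : G₂ ⟶ S)
    [AlgebraicGeometry.IsFinite f₁] [AlgebraicGeometry.Flat f₁]
    [AlgebraicGeometry.IsFinite f₂] [AlgebraicGeometry.Flat f₂]
    (U : S.Opens)
    (hU : ∀ s : S, IsLocalRing.maximalIdeal (S.presheaf.stalk s) ∈
        associatedPrimes (S.presheaf.stalk s) (S.presheaf.stalk s) → s ∈ U)
    (φ ψ : G₁ ⟶ G₂) (hφ : φ ≫ f₂ = f₁) (hψ : ψ ≫ f₂ = f₁)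
    (h : (f₁ ⁻¹ᵁ U).ι ≫ φ = (f₁ ⁻¹ᵁ U).ι ≫ ψ) : φ = ψ := by
  haveI := isSchemeTheoreticallyDominant_ι_of_assoc U hU
  haveI : IsSchemeTheoreticallyDominant (f₁ ⁻¹ᵁ U).ι :=
    .of_isPullback (isPullback_morphismRestrict f₁ U)
  exact ext_of_isSchemeTheoreticallyDominant_of_isSeparated f₂ (hφ.trans hψ.symm)
    (f₁ ⁻¹ᵁ U).ι h

end Groth.Agent.S15806
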