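import Groth.Statements.S14189
import Mathlib
import Groth.Agent.S15806

set_option autoImplicit false
universe u
open CategoryTheory CategoryTheory.Limits AlgebraicGeometry
open FlatMor

namespace Groth.Agent.S14189

section helpers
open CategoryTheory CategoryTheory.Limits AlgebraicGeometry


open Groth.Agent.S15806

lemma dominant_fromSpecStalk_genericPoint (T : Scheme.{u}) [IsIntegral T] :
    IsSchemeTheoreticallyDominant (T.fromSpecStalk (genericPoint T)) := by
  haveI : IsDominant (T.fromSpecStalk (genericPoint T)) := by
    constructor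
    have h := (genericPoint_spec T).def
    rw [DenseRange, dense_iff_closure_eq, ← Set.univ_subset_iff]
    change Set.univ ⊆ _
    rw [← h]
    apply closure_mono
    rw [Set.singleton_subset_iff, Scheme.range_fromSpecStalk]
    exact specializes_rfl
  exact .of_isDominant _

lemma quasiCompact_fromSpecStalk_genericPoint (T : Scheme.{u}) [IsIntegral T] :
    QuasiCompact (T.fromSpecStalk (genericPoint T)) := by
  haveI : IsNoetherianRing (T.presheaf.stalk (genericPoint T)) :=
    inferInstanceAs (IsNoetherianRing T.functionField)
  infer_instance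

lemma core {Y Y' Yη Z T : Scheme.{u}} (G : Y' ⟶ Y) [Flat G] [Surjective G] [QuasiCompact G]
    (j : Yη ⟶ Y) [IsSchemeTheoreticallyDominant j] [QuasiCompact j]
    (pY : Y ⟶ T) (pZ : Z ⟶ T) [IsSeparated pZ] (e : Y' ⟶ Z) (heZ : e ≫ pZ = G ≫ pY)
    (ψ : Yη ⟶ Z) (hagree : pullback.fst G j ≫ e = pullback.snd G j ≫ ψ) :
    ∃ φ : Y ⟶ Z, G ≫ φ = e ∧ j ≫ φ = ψ := by
  -- general agreement lemma
  have hag : ∀ {W : Scheme.{u}} (a : W ⟶ Y') (c : W ⟶ Yη),
      a ≫ G = c ≫ j → a ≫ e = c ≫ ψ := by
    intro W a c hac
    have h1 : pullback.lift a c hac ≫ pullback.fst G j = a := pullback.lift_fst _ _ _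
    have h2 : pullback.lift a c hac ≫ pullback.snd G j = c := pullback.lift_snd _ _ _
    calc a ≫ e = (pullback.lift a c hac ≫ pullback.fst G j) ≫ e := by rw [h1]
      _ = (pullback.lift a c hac ≫ pullback.snd G j) ≫ ψ := by
        rw [Category.assoc, Category.assoc, hagree]
      _ = c ≫ ψ := by rw [h2]
  -- descent condition on the kernel pair
  have hpair : pullback.fst G G ≫ e = pullback.snd G G ≫ e := by
    have hflat : Flat (pullback.fst G G ≫ G) := inferInstance
    refine ext_of_isSchemeTheoreticallyDominant_of_isSeparated pZ ?_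
      (pullback.fst (pullback.fst G G ≫ G) j) ?_
    · rw [Category.assoc, Category.assoc, heZ, pullback.condition_assoc]
    · have e1 := hag (pullback.fst (pullback.fst G G ≫ G) j ≫ pullback.fst G G)
          (pullback.snd (pullback.fst G G ≫ G) j) (by rw [Category.assoc]; exact pullback.condition)
      have e2 := hag (pullback.fst (pullback.fst G G ≫ G) j ≫ pullback.snd G G)
          (pullback.snd (pullback.fst G G ≫ G) j)
          (by rw [Category.assoc, ← pullback.condition (f := G) (g := G)]
              exact pullback.condition)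
      rw [Category.assoc] at e1 e2
      rw [e1, e2]
  have hdesc : ∀ {W : Scheme.{u}} (a b : W ⟶ Y'), a ≫ G = b ≫ G → a ≫ e = b ≫ e := by
    intro W a b hab
    have h1 : pullback.lift a b hab ≫ pullback.fst G G = a := pullback.lift_fst _ _ _
    have h2 : pullback.lift a b hab ≫ pullback.snd G G = b := pullback.lift_snd _ _ _
    calc a ≫ e = (pullback.lift a b hab ≫ pullback.fst G G) ≫ e := by rw [h1]
      _ = (pullback.lift a b hab ≫ pullback.snd G G) ≫ e := by
        rw [Category.assoc, Category.assoc, hpair]
      _ = b ≫ e := by rw [h2]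
  refine ⟨EffectiveEpi.desc G e hdesc, EffectiveEpi.fac G e hdesc, ?_⟩
  haveI : Epi (pullback.snd G j) := by
    haveI : EffectiveEpi (pullback.snd G j) := inferInstance
    infer_instance
  rw [← cancel_epi (pullback.snd G j), ← pullback.condition_assoc, EffectiveEpi.fac]
  exact hagree

end helpers

/-- Let T be an integral scheme with generic point η, let Y and Z be schemes flat over T with Z
separated over T, and let ψ : Y_η → Z be a T-morphism from the generic fibre Y_η = Y ×_T Spec
O_{T,η}. Let g : T' → T be flat, surjective and quasi-compact, and let φ' : Y_{T'} → Z_{T'} be a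
T'-morphism which agrees with ψ over T' ×_T η, in the sense that on Y_{T'} ×_Y Y_η = Y ×_T T' ×_T
Spec O_{T,η} the composite of the first projection with φ' and with Z_{T'} → Z equals the composite
of the second projection with ψ. Then ψ extends to a T-morphism φ : Y → Z, one whose composite with
Y_η → Y is ψ. (The published statement is an equivalence and also records that an extension, when it
exists, is unique; the converse direction, that an extension over T base-changes to such a φ' over
any such T', is immediate, and this row states the existence direction only.) -/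
theorem result (T Y Z T' : Scheme.{u}) [IsIntegral T]
    (pY : Y ⟶ T) (pZ : Z ⟶ T) [Flat pY] [Flat pZ] [IsSeparated pZ]
    (ψ : pullback pY (T.fromSpecStalk (genericPoint T)) ⟶ Z)
    (hψ : ψ ≫ pZ = pullback.fst pY (T.fromSpecStalk (genericPoint T)) ≫ pY)
    (g : T' ⟶ T) [Flat g] [Surjective g] [QuasiCompact g]
    (φ' : pullback pY g ⟶ pullback pZ g) (hφ' : φ' ≫ pullback.snd pZ g = pullback.snd pY g)
    (hagree : pullback.fst (pullback.fst pY g) (pullback.fst pY (T.fromSpecStalk (genericPoint T))) ≫ φ' ≫ pullback.fst pZ g =
      pullback.snd (pullback.fst pY g) (pullback.fst pY (T.fromSpecStalk (genericPoint T))) ≫ ψ) :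
    ∃ φ : Y ⟶ Z, φ ≫ pZ = pY ∧ pullback.fst pY (T.fromSpecStalk (genericPoint T)) ≫ φ = ψ := by
  haveI := dominant_fromSpecStalk_genericPoint T
  haveI := quasiCompact_fromSpecStalk_genericPoint T
  have heZ : (φ' ≫ pullback.fst pZ g) ≫ pZ = pullback.fst pY g ≫ pY := by
    rw [Category.assoc, pullback.condition, reassoc_of% hφ', pullback.condition]
  obtain ⟨φ, h1, h2⟩ := core (pullback.fst pY g) (pullback.fst pY (T.fromSpecStalk (genericPoint T)))
    pY pZ (φ' ≫ pullback.fst pZ g) heZ ψ hagree
  refine ⟨φ, ?_, h2⟩
  rw [← cancel_epi (pullback.fst pY g), ← Category.assoc, h1, heZ]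

end Groth.Agent.S14189
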