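import Groth.Statements.S14196
import Groth.Agent.Lib.Helper14.QuotStRep
import Mathlib

set_option autoImplicit false
universe u
open CategoryTheory MonoidalCategory CartesianMonoidalCategory AlgebraicGeometry
open StackCount

namespace Groth.Agent.S14196

section
open CategoryTheory MonoidalCategory CartesianMonoidalCategory AlgebraicGeometry Opposite MonObj Limits AlgSt
open Groth.Agent.Lib.Helper14.QuotStCalc Groth.Agent.Lib.Helper14.QuotStRep

variable {S : Scheme.{u}} {G : Over S} [GrpObj G] {X : Over S} {aX : AlgGrp.Action G X}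

local notation "KE" => Scheme.etalePrecoverage

theorem exists_section_et {Ω : Type u} [Field Ω] [IsAlgClosed Ω] (t : Spec (CommRingCat.of Ω) ⟶ S)
    (A : QuotObj KE G aX) (hA : A.base = Over.mk t) :
    ∃ s : A.base ⟶ A.P, s ≫ A.π = 𝟙 A.base := by
  obtain ⟨Ab, AP, act, π, cart, loc, φ, eqv⟩ := A
  change Ab = Over.mk t at hA
  subst hA
  obtain ⟨R, hR, hsec⟩ := loc
  have hR' : R ∈ Scheme.precoverage @Etale _ := hR
  obtain ⟨T', g, hg, x', hx'⟩ := Scheme.JointlySurjective.exists_eq R hR'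
    (IsLocalRing.closedPoint Ω : Spec (CommRingCat.of Ω))
  have hP : Etale g := hR'.2 hg
  have h2 : Nonempty T' := ⟨x'⟩
  obtain ⟨σ, hσ⟩ := exists_point_of_nonempty g
  obtain ⟨s, hs⟩ := hsec g hg
  have hs' : s ≫ π.left = g := hs
  have hw : (σ ≫ s) ≫ AP.hom = t := by
    have h3 : π.left ≫ t = AP.hom := Over.w π
    rw [← h3, Category.assoc, ← Category.assoc s, hs', ← Category.assoc, hσ, Category.id_comp]
  refine ⟨Over.homMk (σ ≫ s) hw, ?_⟩
  ext
  change (σ ≫ s) ≫ π.left = 𝟙 _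
  rw [Category.assoc, hs', hσ]

theorem part1 {Ω : Type u} [Field Ω] [IsAlgClosed Ω] (t : Spec (CommRingCat.of Ω) ⟶ S)
    (A : (QuotObj.forget KE G aX).Fiber (Over.mk t)) :
    ∃ s : (Over.mk t : Over S) ⟶ A.1.P, s ≫ A.1.π = eqToHom A.2.symm := by
  obtain ⟨s, hs⟩ := exists_section_et t A.1 A.2
  refine ⟨eqToHom A.2.symm ≫ s, ?_⟩
  exact (Category.assoc _ _ _).trans
    ((congrArg (fun k => eqToHom A.2.symm ≫ k) hs).trans (Category.comp_id _))

theorem inv_base_of_eq {K : Precoverage Scheme.{u}} {A B : QuotObj K G aX} (h : A ⟶ B)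
    (hi : IsIso h) (e : A.base = B.base) (he : h.base = eqToHom e) :
    (@inv _ _ _ _ h hi).base = eqToHom e.symm := by
  have h1 := eqToHom_inv_base h hi e he
  calc (@inv _ _ _ _ h hi).base = eqToHom e.symm ≫ eqToHom e ≫ (@inv _ _ _ _ h hi).base := by simp
    _ = eqToHom e.symm := by rw [h1, Category.comp_id]

theorem iso_of_orbit (T : Over S) (A B : QuotObj KE G aX) (hA : A.base = T) (hB : B.base = T)
    (tA : T ⟶ A.P) (tB : T ⟶ B.P) (htA : tA ≫ A.π = eqToHom hA.symm)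
    (htB : tB ≫ B.π = eqToHom hB.symm) (g : T ⟶ G)
    (hg : lift g (tA ≫ A.φ) ≫ aX.act = tB ≫ B.φ) :
    Nonempty ((Functor.Fiber.mk (p := (AlgSt.QuotSt KE G aX).p) hB) ≅
      (Functor.Fiber.mk (p := (AlgSt.QuotSt KE G aX).p) hA)) := by
  subst hA
  have hsA : tA ≫ A.π = 𝟙 A.base := htA
  have hB' : B.base = A.base := hB
  let sB : B.base ⟶ B.P := eqToHom hB' ≫ tB
  have hsB : sB ≫ B.π = 𝟙 B.base := by
    change (eqToHom hB' ≫ tB) ≫ B.π = 𝟙 _
    rw [Category.assoc, htB, eqToHom_trans, eqToHom_refl]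
  let trA := triv A tA hsA
  let trB := triv B sB hsB
  have hiB : IsIso trB := by
    have : IsIso trB.base := by
      change IsIso (𝟙 B.base)
      infer_instance
    exact isIso_of_isIso_base trB
  obtain ⟨ρ, hρ⟩ := exists_rmul (K := KE) (aX := aX) g (tB ≫ B.φ) (tA ≫ A.φ) hg
  let m : (⟨B.base, ⟨sB ≫ B.φ⟩⟩ : (AlgSt.ofSch X).obj) ⟶ ⟨A.base, ⟨tB ≫ B.φ⟩⟩ :=
    ⟨eqToHom hB', by
      change (⟨eqToHom hB' ≫ tB ≫ B.φ⟩ : ULift (B.base ⟶ X)) = ⟨sB ≫ B.φ⟩
      rw [← Category.assoc]⟩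
  let ψ : B ⟶ A := inv trB ≫ (AlgSt.quotMap KE G aX).map m ≫ ρ ≫ trA
  refine fiber_iso_of_base_id B A hB rfl ψ ?_
  have h1 : (inv trB).base = eqToHom rfl := inv_base_of_eq trB hiB rfl rfl
  change (inv trB).base ≫ eqToHom hB' ≫ ρ.base ≫ 𝟙 A.base = eqToHom hB ≫ eqToHom rfl
  rw [h1, hρ, eqToHom_refl, eqToHom_refl]
  erw [Category.id_comp, Category.comp_id]
  try rfl

theorem orbit_of_hom (T : Over S) (A B : QuotObj KE G aX) (hA : A.base = T) (hB : B.base = T)
    (tA : T ⟶ A.P) (tB : T ⟶ B.P) (htA : tA ≫ A.π = eqToHom hA.symm)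
    (htB : tB ≫ B.π = eqToHom hB.symm) (h : B ⟶ A)
    (hh : h.base = eqToHom hB ≫ 𝟙 T ≫ eqToHom hA.symm) :
    ∃ g : T ⟶ G, lift g (tA ≫ A.φ) ≫ aX.act = tB ≫ B.φ := by
  have hp : (tB ≫ h.top) ≫ A.π = tA ≫ A.π := by
    rw [Category.assoc, h.cart.w, ← Category.assoc, htB, hh, htA]
    simp
  let gm : T ⟶ G ⊗ A.P := A.cart.lift (tB ≫ h.top) tA hp
  have h1 : gm ≫ A.act.act = tB ≫ h.top := A.cart.lift_fst _ _ _
  have h2 : gm ≫ snd G A.P = tA := A.cart.lift_snd _ _ _
  refine ⟨gm ≫ fst G A.P, ?_⟩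
  have h3 : lift (gm ≫ fst G A.P) (tA ≫ A.φ) = gm ≫ (G ◁ A.φ) := by
    apply CartesianMonoidalCategory.hom_ext
    · simp only [lift_fst, Category.assoc, whiskerLeft_fst]
    · simp only [lift_snd, Category.assoc, whiskerLeft_snd]
      rw [← Category.assoc, h2]
  rw [h3, Category.assoc, ← A.eqv, ← Category.assoc, h1, Category.assoc, h.wφ]

theorem part2 (T : Over S) (A B : (QuotObj.forget KE G aX).Fiber T)
    (tA : T ⟶ A.1.P) (tB : T ⟶ B.1.P) (htA : tA ≫ A.1.π = eqToHom A.2.symm)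
    (htB : tB ≫ B.1.π = eqToHom B.2.symm) :
    Nonempty (A ≅ B) ↔ ∃ g : T ⟶ G, lift g (tA ≫ A.1.φ) ≫ aX.act = tB ≫ B.1.φ := by
  constructor
  · rintro ⟨e⟩
    have hl : (QuotObj.forget KE G aX).IsHomLift (𝟙 T) e.inv.1 := e.inv.2
    exact orbit_of_hom T A.1 B.1 A.2 B.2 tA tB htA htB e.inv.1
      (IsHomLift.fac' (QuotObj.forget KE G aX) (𝟙 T) e.inv.1)
  · rintro ⟨g, hg⟩
    obtain ⟨e⟩ := iso_of_orbit T A.1 B.1 A.2 B.2 tA tB htA htB g hg
    exact ⟨e.symm⟩

theorem part3 (T : Over S) (x : T ⟶ X) :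
    ∃ (A : (QuotObj.forget KE G aX).Fiber T) (t : T ⟶ A.1.P),
      t ≫ A.1.π = eqToHom A.2.symm ∧ t ≫ A.1.φ = x := by
  refine ⟨⟨(AlgSt.quotMap KE G aX).obj (⟨T, ⟨x⟩⟩ : (AlgSt.ofSch X).obj), rfl⟩, unitSec T, ?_, ?_⟩
  · exact unitSec_snd T
  · exact unitSec_act aX x

end

open StackCount in

/-- Let k be a finite field with algebraic closure k̄, G a smooth affine algebraic group over k acting
on a variety X over k (reduced, of finite type), and [X/G] the quotient stack whose objects over a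
k-scheme T are G-torsors P → T, locally trivial for the étale topology and taken to be schemes, with
a G-equivariant morphism P → X. Write T̄ = Spec k̄ over Spec k. Then: every object of the fibre
category of [X/G] over T̄ admits a section T̄ → P of its torsor; for objects A, B over T̄ with
chosen sections t_A, t_B, A and B are isomorphic in the fibre over T̄ if and only if the k̄-points
t_B φ_B and t_A φ_A of X lie in one G(k̄)-orbit (there is g ∈ G(T̄) with g · (t_A φ_A) = t_B φ_B);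
and every k̄-point of X is of the form t φ_A. Hence the isomorphism classes of [X/G](k̄) correspond
bijectively to the G(k̄)-orbits in X(k̄). (The published statement allows any smooth algebraic group
G; this row takes G affine, so that every torsor is a scheme.) -/
theorem result (k : Type u) [Field k] [Finite k]
    (G : Over (Spec (CommRingCat.of k))) [GrpObj G] [Smooth G.hom] [IsAffineHom G.hom]
    (X : Over (Spec (CommRingCat.of k))) [LocallyOfFiniteType X.hom] [QuasiCompact X.hom]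
    [IsReduced X.left] (aX : AlgGrp.Action G X) :
    (∀ A : (AlgSt.QuotObj.forget Scheme.etalePrecoverage G aX).Fiber (Over.mk (Spec.map (CommRingCat.ofHom (algebraMap k (AlgebraicClosure k)))) : Over (Spec (CommRingCat.of k))),
        ∃ t : (Over.mk (Spec.map (CommRingCat.ofHom (algebraMap k (AlgebraicClosure k)))) : Over (Spec (CommRingCat.of k))) ⟶ A.1.P, t ≫ A.1.π = eqToHom A.2.symm) ∧
    (∀ (A B : (AlgSt.QuotObj.forget Scheme.etalePrecoverage G aX).Fiber (Over.mk (Spec.map (CommRingCat.ofHom (algebraMap k (AlgebraicClosure k)))) : Over (Spec (CommRingCat.of k))))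
        (tA : (Over.mk (Spec.map (CommRingCat.ofHom (algebraMap k (AlgebraicClosure k)))) : Over (Spec (CommRingCat.of k))) ⟶ A.1.P) (tB : (Over.mk (Spec.map (CommRingCat.ofHom (algebraMap k (AlgebraicClosure k)))) : Over (Spec (CommRingCat.of k))) ⟶ B.1.P),
        tA ≫ A.1.π = eqToHom A.2.symm → tB ≫ B.1.π = eqToHom B.2.symm →
        (Nonempty (A ≅ B) ↔
          ∃ g : (Over.mk (Spec.map (CommRingCat.ofHom (algebraMap k (AlgebraicClosure k)))) : Over (Spec (CommRingCat.of k))) ⟶ G,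
            CartesianMonoidalCategory.lift g (tA ≫ A.1.φ) ≫ aX.act = tB ≫ B.1.φ)) ∧
    (∀ x : (Over.mk (Spec.map (CommRingCat.ofHom (algebraMap k (AlgebraicClosure k)))) : Over (Spec (CommRingCat.of k))) ⟶ X,
        ∃ (A : (AlgSt.QuotObj.forget Scheme.etalePrecoverage G aX).Fiber (Over.mk (Spec.map (CommRingCat.ofHom (algebraMap k (AlgebraicClosure k)))) : Over (Spec (CommRingCat.of k)))) (t : (Over.mk (Spec.map (CommRingCat.ofHom (algebraMap k (AlgebraicClosure k)))) : Over (Spec (CommRingCat.of k))) ⟶ A.1.P),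
          t ≫ A.1.π = eqToHom A.2.symm ∧ t ≫ A.1.φ = x) := by
  exact ⟨fun A => Groth.Agent.S14196.part1 _ A,
    fun A B tA tB htA htB => Groth.Agent.S14196.part2 _ A B tA tB htA htB,
    fun x => Groth.Agent.S14196.part3 _ x⟩

end Groth.Agent.S14196
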