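import Groth.Statements.S14211
import Groth.Agent.Lib.Helper1.QuaternionCSA
import Groth.Agent.Lib.Helper1.PrimaryPart
import Groth.Agent.Lib.Helper1.IndexBrauer

set_option autoImplicit false
universe u v
open scoped TensorProduct
open Brauer

namespace Groth.Agent.S14211

/-- Let k be a field in which 2 ≠ 0 and A a finite-dimensional central simple k-algebra. Then A has
period 2 and index 2 (its Severi–Brauer variety has type (2, 2, 2m)) if and only if A is isomorphic
over k to a matrix algebra M_m(Q), m ≥ 1, over a quaternion algebra Q = (a, b)_k (the k-algebra with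
basis 1, i, j, ij, i² = a, j² = b, ij = −ji) which is a division ring; moreover such a quaternion
algebra is unique up to k-isomorphism. -/
theorem result (k : Type u) [Field k] (h2 : (2 : k) ≠ 0)
    (A : Type v) [Ring A] [Algebra k A] [Algebra.IsCentral k A] [IsSimpleRing A]
    [FiniteDimensional k A] :
    ((CSAGal.IsPeriod k A 2 ∧ CSAGal.IsIndex k A 2) ↔
      ∃ (a b : k) (m : ℕ), 0 < m ∧ (∀ x : QuaternionAlgebra k a 0 b, x ≠ 0 → IsUnit x) ∧
        Nonempty (A ≃ₐ[k] Matrix (Fin m) (Fin m) (QuaternionAlgebra k a 0 b))) ∧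
    (∀ (a b a' b' : k) (m m' : ℕ),
      (∀ x : QuaternionAlgebra k a 0 b, x ≠ 0 → IsUnit x) →
      (∀ x : QuaternionAlgebra k a' 0 b', x ≠ 0 → IsUnit x) →
      Nonempty (A ≃ₐ[k] Matrix (Fin m) (Fin m) (QuaternionAlgebra k a 0 b)) →
      Nonempty (A ≃ₐ[k] Matrix (Fin m') (Fin m') (QuaternionAlgebra k a' 0 b')) →
      Nonempty (QuaternionAlgebra k a 0 b ≃ₐ[k] QuaternionAlgebra k a' 0 b')) := by
  classical
  have hdr : ∀ (a b : k), (∀ x : QuaternionAlgebra k a 0 b, x ≠ 0 → IsUnit x) →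
      ∀ x : QuaternionAlgebra k a 0 b, IsUnit x ∨ x = 0 := by
    intro a b hQ x
    by_cases hx : x = 0
    · exact Or.inr hx
    · exact Or.inl (hQ x hx)
  refine ⟨⟨?_, ?_⟩, ?_⟩
  · rintro ⟨hper, hidx⟩
    obtain ⟨m, D, hD, hDA, hc, hf, hm, hfr, ⟨iso⟩⟩ :=
      Groth.Agent.Lib.Helper1.Factor.IsIndex.unpack hidx
    obtain ⟨a, b, ⟨θ⟩⟩ :=
      Groth.Agent.Lib.Helper1.Factor.exists_quaternion_of_finrank_four k h2 D
        (by rw [hfr]; norm_num)
    refine ⟨a, b, m, hm, ?_, ⟨iso.trans (θ.symm.mapMatrix (m := Fin m))⟩⟩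
    intro x hx
    have h1 : θ x ≠ 0 := by
      intro h0
      apply hx
      have := congrArg θ.symm h0
      rwa [θ.symm_apply_apply, map_zero] at this
    have h3 : IsUnit (θ.symm (θ x)) := (isUnit_iff_ne_zero.mpr h1).map θ.symm
    rwa [θ.symm_apply_apply] at h3
  · rintro ⟨a, b, m, hm, hQ, ⟨iso⟩⟩
    let hdiv : DivisionRing (QuaternionAlgebra k a 0 b) :=
      DivisionRing.ofIsUnitOrEqZero (hdr a b hQ)
    obtain ⟨E', hE', hA', ⟨ψ⟩⟩ :=
      @Groth.Agent.Lib.Helper1.Factor.exists_small_division k _ A _ _ _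
        (QuaternionAlgebra k a 0 b) hdiv inferInstance inferInstance
    have hfr : Module.finrank k E' = 2 ^ 2 := by
      rw [ψ.toLinearEquiv.finrank_eq, QuaternionAlgebra.finrank_eq_four]
      norm_num
    have hidx : CSAGal.IsIndex k A 2 :=
      ⟨by norm_num, m, E', hE', hA', hm, hfr, ⟨iso.trans (ψ.symm.mapMatrix (m := Fin m))⟩⟩
    refine ⟨⟨by norm_num, Groth.Agent.Lib.Helper1.Factor.IsIndex.splits_tpow hidx, ?_⟩, hidx⟩
    intro e' h0 he' hs
    have he1 : e' = 1 := by omega
    subst he1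
    have e1 : (⨂[k] _ : Fin 1, A) ≃ₐ[k] A :=
      (Groth.Agent.Lib.Helper1.PiAlg.tpowSucc k A 0).trans
        ((Algebra.TensorProduct.congr (Groth.Agent.Lib.Helper1.PiAlg.tpowZero k A)
          (AlgEquiv.refl : A ≃ₐ[k] A)).trans (Algebra.TensorProduct.lid k A))
    have hsA : Curves.Splits k A k := Groth.Agent.Lib.Helper1.CSA.Splits.of_algEquiv e1 hs
    have := Groth.Agent.Lib.Helper1.Factor.IsIndex.dvd_finrank_of_splits hidx k hsA
    rw [Module.finrank_self] at this
    omega
  · intro a b a' b' m m' hQ hQ' ⟨e⟩ ⟨e'⟩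
    let hdiv : DivisionRing (QuaternionAlgebra k a 0 b) :=
      DivisionRing.ofIsUnitOrEqZero (hdr a b hQ)
    let hdiv' : DivisionRing (QuaternionAlgebra k a' 0 b') :=
      DivisionRing.ofIsUnitOrEqZero (hdr a' b' hQ')
    have hm : NeZero m := ⟨by
      rintro rfl
      have : Subsingleton A := e.toEquiv.subsingleton
      exact not_subsingleton A this⟩
    have hm' : NeZero m' := ⟨by
      rintro rfl
      have : Subsingleton A := e'.toEquiv.subsingleton
      exact not_subsingleton A this⟩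
    exact @Groth.Agent.Lib.Helper1.CSA.nonempty_algEquiv_of_matrix_algEquiv k _
      (QuaternionAlgebra k a 0 b) hdiv inferInstance inferInstance
      (QuaternionAlgebra k a' 0 b') hdiv' inferInstance m m' hm hm' (e.symm.trans e')

end Groth.Agent.S14211
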