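import Groth.Statements.S14253
import Groth.Agent.Lib.Helper20.UnivHomeoPerf

set_option autoImplicit false
universe u
open CategoryTheory AlgebraicGeometry
open PerfSch

namespace Groth.Agent.S14253

/-- A universal homeomorphism f : X ⟶ Y between perfect schemes of prime characteristic p (on every open
of X and of Y, p = 0 in the ring of sections and the p-th power map is bijective) is an isomorphism. -/
theorem result (p : ℕ) [Fact p.Prime] {X Y : Scheme.{u}} (f : X ⟶ Y)
    (hX : PerfSch.IsPerfect p X) (hY : PerfSch.IsPerfect p Y) (hf : FlatMor.IsUnivHomeo f) : IsIso f := by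
  have haff : IsAffineHom f := by
    have := ((Groth.Agent.Lib.Helper20.UnivHomeo.isUnivHomeo_iff_scheme f).mp hf).1
    infer_instance
  rw [← MorphismProperty.isomorphisms.iff,
    IsZariskiLocalAtTarget.iff_of_iSup_eq_top (P := MorphismProperty.isomorphisms Scheme) _
      (iSup_affineOpens_eq_top Y)]
  intro W
  rw [MorphismProperty.isomorphisms.iff, isIso_morphismRestrict_iff_isIso_app _ W.2,
    ConcreteCategory.isIso_iff_bijective]
  have hUH := Groth.Agent.Lib.Helper20.UnivHomeo.isUnivHomeo_SpecMap_app f hf W.1 W.2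
  letI := (f.app W.1).hom.toAlgebra
  have hUH' : Groth.Agent.Lib.Helper20.UnivHomeo.UH Γ(Y, W.1) Γ(X, f ⁻¹ᵁ W.1) :=
    (Groth.Agent.Lib.Helper20.UnivHomeo.isUnivHomeo_iff _ _).mp hUH
  exact Groth.Agent.Lib.Helper20.UnivHomeo.bijective_of_uh_of_perfect p Fact.out
    (hY W.1).1 (hY W.1).2 (hX _).2 hUH'

end Groth.Agent.S14253
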