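import Groth.Statements.S14254
import Groth.Agent.Lib.Helper20.UnivHomeoPerf

set_option autoImplicit false
universe u
open CategoryTheory AlgebraicGeometry
open FrobAlg

namespace Groth.Agent.S14254

/-- Let p be a prime, φ : A → B a map of commutative rings of characteristic p, i : A → A' and j : B →
B' perfect closures (A' and B' are perfect rings of characteristic p, every element of A' resp. B'
has a p^n-th power in the image of i resp. j, and the kernels of i and j consist of nilpotent
elements), and φ' : A' → B' the induced map, φ' ∘ i = j ∘ φ. Then Spec φ : Spec B ⟶ Spec A is a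
universal homeomorphism if and only if φ' is bijective. (The published statement is for an arbitrary
morphism of schemes over the prime field and its perfection; this row is the case of affine schemes,
the perfection of Spec A being Spec of the perfect closure of A.) -/
theorem result (p : ℕ) [Fact p.Prime]
    {A B A' B' : Type u} [CommRing A] [CommRing B] [CommRing A'] [CommRing B']
    [CharP A p] [CharP B p] [CharP A' p] [CharP B' p] [PerfectRing A' p] [PerfectRing B' p]
    (φ : A →+* B) (i : A →+* A') (j : B →+* B') [IsPerfectClosure i p] [IsPerfectClosure j p]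
    (φ' : A' →+* B') (hφ : φ'.comp i = j.comp φ) :
    FlatMor.IsUnivHomeo (Spec.map (CommRingCat.ofHom φ)) ↔ Function.Bijective φ' := by
  letI := φ.toAlgebra
  letI := i.toAlgebra
  letI := j.toAlgebra
  letI := φ'.toAlgebra
  letI : Algebra A B' := (j.comp φ).toAlgebra
  haveI : IsScalarTower A B B' := IsScalarTower.of_algebraMap_eq (fun _ => rfl)
  haveI : IsScalarTower A A' B' := IsScalarTower.of_algebraMap_eq (fun a => (congr($hφ a)).symm)
  have hp : p.Prime := Fact.out
  have hi : Groth.Agent.Lib.Helper20.UnivHomeo.UH A A' :=
    Groth.Agent.Lib.Helper20.UnivHomeo.uh_of_isPRadical p hp (CharP.cast_eq_zero A' p)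
      (fun x => IsPRadical.pow_mem i p x)
      (fun a ha => pNilradical_le_nilradical (IsPRadical.ker_le i p ((RingHom.mem_ker).mpr ha)))
  have hj : Groth.Agent.Lib.Helper20.UnivHomeo.UH B B' :=
    Groth.Agent.Lib.Helper20.UnivHomeo.uh_of_isPRadical p hp (CharP.cast_eq_zero B' p)
      (fun x => IsPRadical.pow_mem j p x)
      (fun a ha => pNilradical_le_nilradical (IsPRadical.ker_le j p ((RingHom.mem_ker).mpr ha)))
  have e : FlatMor.IsUnivHomeo (Spec.map (CommRingCat.ofHom φ)) ↔
      Groth.Agent.Lib.Helper20.UnivHomeo.UH A B :=
    Groth.Agent.Lib.Helper20.UnivHomeo.isUnivHomeo_iff A B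
  rw [e]
  exact Groth.Agent.Lib.Helper20.UnivHomeo.uh_iff_bijective_perfection p hp
    (CharP.cast_eq_zero A' p) PerfectRing.bijective_frobenius
    PerfectRing.bijective_frobenius hi hj

end Groth.Agent.S14254
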