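import Groth.Statements.S14255
import Mathlib.RingTheory.Flat.EquationalCriterion
import Mathlib.RingTheory.RingHom.Flat
import Mathlib.FieldTheory.IsPerfectClosure
import Mathlib.Tactic

set_option autoImplicit false
universe u
open FrobAlg

namespace Groth.Agent.S14255

theorem exists_uniform (p : ℕ) [Fact p.Prime] {K L : Type u} [CommRing K] [CommRing L]
    (i : K →+* L) [IsPRadical i p] {l : ℕ} (x : Fin l → L) :
    ∃ n : ℕ, ∀ k, ∃ y : K, i y = x k ^ p ^ n := by
  have h := fun k => IsPRadical.pow_mem i p (x k)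
  choose n y hy using h
  refine ⟨Finset.univ.sup n, fun k => ⟨y k ^ p ^ (Finset.univ.sup n - n k), ?_⟩⟩
  have hk : n k ≤ Finset.univ.sup n := Finset.le_sup (Finset.mem_univ k)
  rw [map_pow, hy k, ← pow_mul, ← pow_add, Nat.add_sub_cancel' hk]

theorem exists_pow_eq_zero_of_map_eq_zero (p : ℕ) [Fact p.Prime] {K L : Type u} [CommRing K]
    [CommRing L] (j : K →+* L) [IsPRadical j p] (s : K) (hs : j s = 0) :
    ∃ m : ℕ, s ^ p ^ m = 0 := by
  have hp : p.Prime := Fact.out
  have h3 : s ∈ RingHom.ker j := hs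
  have h4 := IsPRadical.ker_le j p h3
  rw [pNilradical_prime hp] at h4
  obtain ⟨k, hk⟩ := h4
  refine ⟨k, ?_⟩
  exact pow_eq_zero_of_le (Nat.lt_pow_self hp.one_lt).le hk

/-- Let p be a prime, φ : A → B a flat map of commutative rings of characteristic p, i : A → A' and j :
B → B' perfect closures (A', B' perfect rings of characteristic p, every element of A' resp. B' has
a p^n-th power in the image of i resp. j, the kernels of i and j consist of nilpotent elements), and
φ' : A' → B' the induced map, φ' ∘ i = j ∘ φ. Then φ' is flat. (The published statement is that the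
perfection of a flat morphism of schemes over the prime field is flat; this row is its affine case,
to which the published proof reduces.) -/
theorem result (p : ℕ) [Fact p.Prime]
    {A B A' B' : Type u} [CommRing A] [CommRing B] [CommRing A'] [CommRing B']
    [CharP A p] [CharP B p] [CharP A' p] [CharP B' p] [PerfectRing A' p] [PerfectRing B' p]
    (φ : A →+* B) (hflat : φ.Flat) (i : A →+* A') (j : B →+* B') [IsPerfectClosure i p] [IsPerfectClosure j p]
    (φ' : A' →+* B') (hφ : φ'.comp i = j.comp φ) : φ'.Flat := by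
  classical
  have hp : p.Prime := Fact.out
  have hφ' : ∀ a, φ' (i a) = j (φ a) := fun a => RingHom.congr_fun hφ a
  let _ := φ.toAlgebra
  let _ := φ'.toAlgebra
  have hflat' : Module.Flat A B := hflat
  show Module.Flat A' B'
  apply Module.Flat.of_forall_isTrivialRelation
  intro l a' b' hrel
  have hrel' : ∑ k, φ' (a' k) * b' k = 0 := hrel
  obtain ⟨n₁, h₁⟩ := exists_uniform p i a'
  obtain ⟨n₂, h₂⟩ := exists_uniform p j b'
  choose a₁ ha₁ using h₁
  choose b₂ hb₂ using h₂
  have hj0 : j (∑ k, φ (a₁ k ^ p ^ n₂) * (b₂ k ^ p ^ n₁)) = 0 := by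
    rw [map_sum]
    have : ∀ k, j (φ (a₁ k ^ p ^ n₂) * (b₂ k ^ p ^ n₁)) = (φ' (a' k) * b' k) ^ p ^ (n₁ + n₂) := by
      intro k
      simp only [map_mul, map_pow]
      rw [← hφ', ha₁, hb₂]
      simp only [map_pow]
      ring
    simp only [this]
    rw [← sum_pow_char_pow, hrel', zero_pow (pow_ne_zero _ hp.ne_zero)]
  obtain ⟨m, hm⟩ := exists_pow_eq_zero_of_map_eq_zero p j _ hj0
  rw [sum_pow_char_pow] at hm
  set n := n₁ + n₂ + m with hn
  let a : Fin l → A := fun k => a₁ k ^ p ^ (n₂ + m)
  let b : Fin l → B := fun k => b₂ k ^ p ^ (n₁ + m)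
  have ha : ∀ k, i (a k) = a' k ^ p ^ n := by
    intro k
    simp only [a, map_pow, ha₁, ← pow_mul, ← pow_add, hn, add_assoc]
  have hb : ∀ k, j (b k) = b' k ^ p ^ n := by
    intro k
    simp only [b, map_pow, hb₂, ← pow_mul, ← pow_add, hn]
    congr 2; ring
  obtain ⟨κ, c, y, hy, hc⟩ := Module.Flat.isTrivialRelation_of_sum_smul_eq_zero
      (R := A) (M := B) (f := a) (x := b) (by
    rw [← hm]
    refine Finset.sum_congr rfl fun k _ => ?_
    show φ (a k) * b k = _
    simp only [a, b, map_pow, mul_pow, ← pow_mul, ← pow_add])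
  let FA := iterateFrobeniusEquiv A' p n
  let FB := iterateFrobeniusEquiv B' p n
  have hFA : ∀ z, FA z = z ^ p ^ n := fun z => iterateFrobeniusEquiv_def A' p n z
  have hFB : ∀ z, FB z = z ^ p ^ n := fun z => iterateFrobeniusEquiv_def B' p n z
  have hcomm : ∀ z, φ' (FA.symm z) = FB.symm (φ' z) := by
    intro z
    apply FB.injective
    rw [FB.apply_symm_apply, hFB, ← map_pow, ← hFA, FA.apply_symm_apply]
  refine ⟨κ, fun k t => FA.symm (i (c k t)), fun t => FB.symm (j (y t)), ?_, ?_⟩
  · intro k
    apply FB.injective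
    rw [hFB, ← hb k, hy k, map_sum, map_sum]
    refine Finset.sum_congr rfl fun t _ => ?_
    show j (φ (c k t) * y t) = FB (φ' (FA.symm (i (c k t))) * FB.symm (j (y t)))
    rw [map_mul, map_mul, FB.apply_symm_apply, hcomm, FB.apply_symm_apply, hφ']
  · intro t
    apply FA.injective
    rw [map_sum, map_zero]
    have : ∀ k, FA (a' k * FA.symm (i (c k t))) = i (a k * c k t) := by
      intro k
      rw [map_mul, FA.apply_symm_apply, hFA, ← ha k, map_mul]
    simp only [this]
    rw [← map_sum, hc t, map_zero]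

end Groth.Agent.S14255
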