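import Groth.Statements.S14256
import Mathlib.RingTheory.IntegralClosure.IsIntegralClosure.Basic
import Mathlib.FieldTheory.IsPerfectClosure
import Mathlib.Tactic

set_option autoImplicit false
universe u
open FrobAlg

namespace Groth.Agent.S14256

theorem isIntegral_of_isPRadical (p : ℕ) [Fact p.Prime] {K L : Type u} [CommRing K] [CommRing L]
    (i : K →+* L) [IsPRadical i p] : i.IsIntegral := by
  intro x
  obtain ⟨n, y, hy⟩ := IsPRadical.pow_mem i p x
  have hp : p.Prime := Fact.out
  refine ⟨Polynomial.X ^ (p ^ n) - Polynomial.C y,
    Polynomial.monic_X_pow_sub_C y (pow_ne_zero n hp.ne_zero), ?_⟩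
  simp [hy]

/-- Let p be a prime, φ : A → B a map of commutative rings of characteristic p, i : A → A' and j : B →
B' perfect closures (A', B' perfect rings of characteristic p, every element of A' resp. B' has a
p^n-th power in the image of i resp. j, the kernels of i and j consist of nilpotent elements), and
φ' : A' → B' the induced map, φ' ∘ i = j ∘ φ. Then φ is integral if and only if φ' is integral. (The
published statement is that a morphism of schemes over the prime field is integral exactly when its
perfection is; this row is its affine case, to which the published proof reduces.) -/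
theorem result (p : ℕ) [Fact p.Prime]
    {A B A' B' : Type u} [CommRing A] [CommRing B] [CommRing A'] [CommRing B']
    [CharP A p] [CharP B p] [CharP A' p] [CharP B' p] [PerfectRing A' p] [PerfectRing B' p]
    (φ : A →+* B) (i : A →+* A') (j : B →+* B') [IsPerfectClosure i p] [IsPerfectClosure j p]
    (φ' : A' →+* B') (hφ : φ'.comp i = j.comp φ) : φ.IsIntegral ↔ φ'.IsIntegral := by
  have hp : p.Prime := Fact.out
  have hi : i.IsIntegral := isIntegral_of_isPRadical p i
  have hj : j.IsIntegral := isIntegral_of_isPRadical p j
  constructor
  · intro h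
    have h1 : (j.comp φ).IsIntegral := RingHom.IsIntegral.trans _ _ h hj
    rw [← hφ] at h1
    exact RingHom.IsIntegral.tower_top _ _ h1
  · intro h
    have h1 : (φ'.comp i).IsIntegral := RingHom.IsIntegral.trans _ _ hi h
    rw [hφ] at h1
    intro b
    obtain ⟨P, hP, hPb⟩ := h1 (j b)
    have h2 : j (Polynomial.eval₂ φ b P) = 0 := by
      rw [Polynomial.hom_eval₂]; exact hPb
    have h3 : Polynomial.eval₂ φ b P ∈ RingHom.ker j := h2
    have h4 := IsPRadical.ker_le j p h3
    rw [pNilradical_prime hp] at h4
    obtain ⟨k, hk⟩ := h4
    refine ⟨P ^ k, hP.pow k, ?_⟩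
    rw [Polynomial.eval₂_pow, hk]

end Groth.Agent.S14256
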