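import Groth.Statements.S14257
import Mathlib
import Groth.Agent.Lib.Helper27.RelFrobEtale4

set_option autoImplicit false
universe u
open TensorProduct
open FrobAlg

namespace Groth.Agent.S14257

/-- Let p be a prime, A a commutative ring of characteristic p, B an etale A-algebra of characteristic
p, A → A' and B → B' perfect closures (A', B' perfect rings of characteristic p, every element of A'
resp. B' has a p^n-th power in the image of A resp. B, and the structure maps have kernels
consisting of nilpotent elements), B' viewed as an A-algebra through B, and φ' : A' → B' a map of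
A-algebras. Then the natural map A' ⊗_A B → B', a ⊗ b ↦ φ'(a) b, is bijective. (The published
statement is for an etale morphism X → Y of schemes over the prime field, where X_perf → X ×_Y
Y_perf is an isomorphism; this row is the affine case.) -/
theorem result (p : ℕ) [Fact p.Prime]
    (A B A' B' : Type u) [CommRing A] [CommRing B] [CommRing A'] [CommRing B']
    [CharP A p] [CharP B p] [CharP A' p] [CharP B' p] [PerfectRing A' p] [PerfectRing B' p]
    [Algebra A B] [Algebra.Etale A B] [Algebra A A'] [Algebra B B'] [Algebra A B'] [IsScalarTower A B B']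
    [IsPerfectClosure (algebraMap A A') p] [IsPerfectClosure (algebraMap B B') p]
    (φ' : A' →ₐ[A] B') :
    Function.Bijective (Algebra.TensorProduct.lift φ' (IsScalarTower.toAlgHom A B B')
      (fun a b => Commute.all (φ' a) (IsScalarTower.toAlgHom A B B' b))) := by
  have hpr : p.Prime := Fact.out
  haveI : Nontrivial B' := CharP.nontrivial_of_char_ne_one (R := B') hpr.ne_one
  haveI : Nontrivial (A' ⊗[A] B) :=
    (Algebra.TensorProduct.lift φ' (IsScalarTower.toAlgHom A B B')
      (fun a b => Commute.all (φ' a) (IsScalarTower.toAlgHom A B B' b))).toRingHom.domain_nontrivial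
  have hp0 : ((p : ℕ) : A' ⊗[A] B) = 0 := by
    rw [← map_natCast (algebraMap A (A' ⊗[A] B)) p, CharP.cast_eq_zero A p, map_zero]
  haveI : CharP (A' ⊗[A] B) p := (CharP.charP_iff_prime_eq_zero hpr).mpr hp0
  haveI : PerfectRing (A' ⊗[A] B) p :=
    Groth.Agent.Lib.Helper27.RelFrobEtale.perfectRing_of_etale p A' (A' ⊗[A] B)
  haveI hrad : IsPRadical
      (Algebra.TensorProduct.includeRight : B →ₐ[A] A' ⊗[A] B).toRingHom p := by
    refine ⟨?_, ?_⟩
    · intro c
      induction c using TensorProduct.induction_on with
      | zero => exact ⟨0, 0, by simp⟩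
      | tmul a' b =>
        obtain ⟨n, a, ha⟩ := IsPRadical.pow_mem (algebraMap A A') p a'
        refine ⟨n, a • b ^ p ^ n, ?_⟩
        change (1 : A') ⊗ₜ[A] (a • b ^ p ^ n) = _
        rw [Algebra.TensorProduct.tmul_pow, ← ha, ← TensorProduct.smul_tmul,
          Algebra.algebraMap_eq_smul_one]
      | add x y hx hy =>
        obtain ⟨n₁, b₁, h₁⟩ := hx
        obtain ⟨n₂, b₂, h₂⟩ := hy
        refine ⟨n₁ + n₂, b₁ ^ p ^ n₂ + b₂ ^ p ^ n₁, ?_⟩
        rw [map_add, map_pow, map_pow, h₁, h₂, add_pow_char_pow, ← pow_mul, ← pow_mul,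
          ← pow_add, ← pow_add, add_comm n₂ n₁]
    · intro b hb
      have h1 : (Algebra.TensorProduct.lift φ' (IsScalarTower.toAlgHom A B B')
          (fun a b => Commute.all (φ' a) (IsScalarTower.toAlgHom A B B' b)))
          ((1 : A') ⊗ₜ[A] b) = algebraMap B B' b := by
        rw [Algebra.TensorProduct.lift_tmul, map_one, one_mul]
        rfl
      have h2 : (1 : A') ⊗ₜ[A] b = 0 := hb
      rw [h2, map_zero] at h1
      exact IsPRadical.ker_le (algebraMap B B') p (RingHom.mem_ker.mpr h1.symm)
  have hcomp : (Algebra.TensorProduct.lift φ' (IsScalarTower.toAlgHom A B B')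
      (fun a b => Commute.all (φ' a) (IsScalarTower.toAlgHom A B B' b))).toRingHom.comp
      (Algebra.TensorProduct.includeRight : B →ₐ[A] A' ⊗[A] B).toRingHom = algebraMap B B' := by
    ext b
    change (Algebra.TensorProduct.lift φ' (IsScalarTower.toAlgHom A B B')
      (fun a b => Commute.all (φ' a) (IsScalarTower.toAlgHom A B B' b))) ((1 : A') ⊗ₜ[A] b) = _
    rw [Algebra.TensorProduct.lift_tmul, map_one, one_mul]
    rfl
  have hlift := PerfectRing.comp_lift
    (Algebra.TensorProduct.includeRight : B →ₐ[A] A' ⊗[A] B).toRingHom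
    (Algebra.TensorProduct.lift φ' (IsScalarTower.toAlgHom A B B')
      (fun a b => Commute.all (φ' a) (IsScalarTower.toAlgHom A B B' b))).toRingHom p
  rw [hcomp] at hlift
  have hbij := (IsPerfectClosure.equiv
    (Algebra.TensorProduct.includeRight : B →ₐ[A] A' ⊗[A] B).toRingHom (algebraMap B B') p).bijective
  have heq : ⇑(IsPerfectClosure.equiv
      (Algebra.TensorProduct.includeRight : B →ₐ[A] A' ⊗[A] B).toRingHom (algebraMap B B') p) =
      ⇑(Algebra.TensorProduct.lift φ' (IsScalarTower.toAlgHom A B B')
      (fun a b => Commute.all (φ' a) (IsScalarTower.toAlgHom A B B' b))) := by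
    funext x
    exact RingHom.congr_fun hlift x
  rw [← heq]
  exact hbij

end Groth.Agent.S14257
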