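import Groth.Statements.S14260
import Groth.Agent.S14255
import Groth.Agent.S14256
import Mathlib.RingTheory.RingHom.FaithfullyFlat
import Mathlib.RingTheory.Ideal.GoingUp
import Mathlib.Tactic

set_option autoImplicit false
universe u
open FrobAlg

namespace Groth.Agent.S14260

theorem comap_le_of_isPRadical (p : ℕ) [Fact p.Prime] {K L : Type u} [CommRing K] [CommRing L]
    (i : K →+* L) [IsPRadical i p] (q₁ q₂ : PrimeSpectrum L)
    (h : PrimeSpectrum.comap i q₁ = PrimeSpectrum.comap i q₂) : q₁.asIdeal ≤ q₂.asIdeal := by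
  intro x hx
  obtain ⟨n, y, hy⟩ := IsPRadical.pow_mem i p x
  have h1 : y ∈ (PrimeSpectrum.comap i q₁).asIdeal := by
    show i y ∈ q₁.asIdeal
    rw [hy]; exact Ideal.pow_mem_of_mem _ hx _ (pow_pos (Fact.out : p.Prime).pos n)
  rw [h] at h1
  have h2 : i y ∈ q₂.asIdeal := h1
  rw [hy] at h2
  exact q₂.isPrime.mem_of_pow_mem _ h2

theorem comap_injective_of_isPRadical (p : ℕ) [Fact p.Prime] {K L : Type u} [CommRing K]
    [CommRing L] (i : K →+* L) [IsPRadical i p] : Function.Injective (PrimeSpectrum.comap i) := by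
  intro q₁ q₂ h
  apply PrimeSpectrum.ext
  exact le_antisymm (comap_le_of_isPRadical p i q₁ q₂ h) (comap_le_of_isPRadical p i q₂ q₁ h.symm)

theorem comap_surjective_of_isPRadical (p : ℕ) [Fact p.Prime] {K L : Type u} [CommRing K]
    [CommRing L] (i : K →+* L) [IsPRadical i p] : Function.Surjective (PrimeSpectrum.comap i) := by
  intro P
  have hp : p.Prime := Fact.out
  let _ := i.toAlgebra
  have hint : Algebra.IsIntegral K L := ⟨Groth.Agent.S14256.isIntegral_of_isPRadical p i⟩
  have hker : (⊥ : Ideal L).comap (algebraMap K L) ≤ P.asIdeal := by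
    intro x hx
    have h3 : x ∈ RingHom.ker i := hx
    have h4 := IsPRadical.ker_le i p h3
    rw [pNilradical_prime hp] at h4
    obtain ⟨k, hk⟩ := h4
    exact P.isPrime.mem_of_pow_mem k (hk ▸ P.asIdeal.zero_mem)
  obtain ⟨Q, -, hQ, hQP⟩ := Ideal.exists_ideal_over_prime_of_isIntegral P.asIdeal ⊥ hker
  exact ⟨⟨Q, hQ⟩, PrimeSpectrum.ext hQP⟩

/-- Let p be a prime, φ : A → B a faithfully flat map of commutative rings of characteristic p, i : A →
A' and j : B → B' perfect closures (A', B' perfect rings of characteristic p, every element of A'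
resp. B' has a p^n-th power in the image of i resp. j, the kernels of i and j consist of nilpotent
elements), and φ' : A' → B' the induced map, φ' ∘ i = j ∘ φ. Then φ' is faithfully flat. (The
published statement is that the perfection of a faithfully flat morphism of schemes over the prime
field is faithfully flat; this row is its affine case, to which the published proof reduces.) -/
theorem result (p : ℕ) [Fact p.Prime]
    {A B A' B' : Type u} [CommRing A] [CommRing B] [CommRing A'] [CommRing B']
    [CharP A p] [CharP B p] [CharP A' p] [CharP B' p] [PerfectRing A' p] [PerfectRing B' p]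
    (φ : A →+* B) (hflat : φ.FaithfullyFlat) (i : A →+* A') (j : B →+* B') [IsPerfectClosure i p]
    [IsPerfectClosure j p] (φ' : A' →+* B') (hφ : φ'.comp i = j.comp φ) : φ'.FaithfullyFlat := by
  rw [RingHom.FaithfullyFlat.iff_flat_and_comap_surjective] at hflat ⊢
  obtain ⟨hfl, hsurj⟩ := hflat
  refine ⟨Groth.Agent.S14255.result p φ hfl i j φ' hφ, ?_⟩
  intro Q'
  obtain ⟨PB, hPB⟩ := hsurj (PrimeSpectrum.comap i Q')
  obtain ⟨QB, hQB⟩ := comap_surjective_of_isPRadical p j PB
  refine ⟨QB, ?_⟩
  apply comap_injective_of_isPRadical p i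
  have h1 : PrimeSpectrum.comap i (PrimeSpectrum.comap φ' QB) = PrimeSpectrum.comap (φ'.comp i) QB := rfl
  have h2 : PrimeSpectrum.comap φ (PrimeSpectrum.comap j QB) = PrimeSpectrum.comap (j.comp φ) QB := rfl
  rw [h1, hφ, ← h2, hQB, hPB]

end Groth.Agent.S14260
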