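import Groth.Statements.S14262
import Mathlib.RingTheory.Flat.EquationalCriterion
import Mathlib.FieldTheory.Perfect
import Mathlib.Tactic

set_option autoImplicit false
universe u
open FrobAlg

namespace Groth.Agent.S14262

/-- Let p be a prime, A a perfect ring of characteristic p and f ∈ A. The radical of the principal ideal
(f) — equivalently the ideal generated by all p^n-th roots of f, n ≥ 0 — is a flat A-module. -/
theorem result (p : ℕ) [Fact p.Prime] (A : Type u) [CommRing A]
    [CharP A p] [PerfectRing A p] (f : A) :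
    Module.Flat A ((Ideal.span {f}).radical) := by
  classical
  have hp : p.Prime := Fact.out
  apply Module.Flat.of_forall_isTrivialRelation
  intro l a x hx
  have h1 : ∀ i, ∃ n, (x i : A) ^ n ∈ Ideal.span {f} := fun i => (x i).2
  choose n hn using h1
  obtain ⟨N, hN⟩ : ∃ N, ∀ i, n i ≤ p ^ N := by
    refine ⟨Finset.univ.sup n, fun i => ?_⟩
    calc n i ≤ Finset.univ.sup n := Finset.le_sup (Finset.mem_univ i)
      _ ≤ p ^ (Finset.univ.sup n) := (Nat.lt_pow_self hp.one_lt).le
  have h2 : ∀ i, ∃ c, (x i : A) ^ (p ^ N) = c * f := by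
    intro i
    have : (x i : A) ^ (p ^ N) ∈ Ideal.span {f} := Ideal.pow_mem_of_pow_mem _ (hn i) (hN i)
    obtain ⟨c, hc⟩ := Ideal.mem_span_singleton'.mp this
    exact ⟨c, hc.symm⟩
  choose c hc using h2
  let y : Fin l → A := fun i => (iterateFrobeniusEquiv A p N).symm (c i)
  let g : A := (iterateFrobeniusEquiv A p N).symm f
  have hg : g ^ (p ^ N) = f := by
    have := (iterateFrobeniusEquiv A p N).apply_symm_apply f
    rwa [iterateFrobeniusEquiv_def] at this
  have hxy : ∀ i, (x i : A) = y i * g := by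
    intro i
    have h3 : (iterateFrobeniusEquiv A p N).symm ((x i : A) ^ (p ^ N)) = (x i : A) := by
      rw [← iterateFrobeniusEquiv_def]; exact (iterateFrobeniusEquiv A p N).symm_apply_apply _
    rw [← h3, hc i, map_mul]
  let h : A := (frobeniusEquiv A p).symm g
  have hh : h ^ p = g := frobeniusEquiv_symm_pow_p A p g
  have hmem : h ∈ (Ideal.span {f}).radical := by
    refine ⟨p * p ^ N, ?_⟩
    rw [pow_mul, hh, hg]
    exact Ideal.mem_span_singleton_self f
  have hs : (∑ i, a i * y i) * g = 0 := by
    have := congrArg Subtype.val hx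
    simp only [Submodule.coe_sum, Submodule.coe_smul, smul_eq_mul, ZeroMemClass.coe_zero] at this
    rw [Finset.sum_mul, ← this]
    refine Finset.sum_congr rfl fun i _ => ?_
    rw [hxy i, mul_assoc]
  have hsh : (∑ i, a i * y i) * h = 0 := by
    apply injective_pow_p A p
    rw [mul_pow, hh, zero_pow hp.ne_zero]
    obtain ⟨q, hq⟩ : ∃ q, p = q + 1 := ⟨p - 1, (Nat.sub_add_cancel hp.one_le).symm⟩
    rw [hq, pow_succ, mul_assoc, hs, mul_zero]
  obtain ⟨q, hq⟩ : ∃ q, p = q + 2 := ⟨p - 2, (Nat.sub_add_cancel hp.two_le).symm⟩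
  refine ⟨1, fun i _ => y i * h ^ (p - 1), fun _ => ⟨h, hmem⟩, ?_, ?_⟩
  · intro i
    apply Subtype.ext
    simp only [Finset.univ_unique, Finset.sum_singleton, Submodule.coe_smul, smul_eq_mul]
    rw [hxy i, mul_assoc, pow_sub_one_mul hp.ne_zero, hh]
  · intro j
    have : ∀ i, a i * (y i * h ^ (p - 1)) = (a i * y i) * h * h ^ q := by
      intro i
      have : p - 1 = q + 1 := by omega
      rw [this, pow_succ]; ring
    simp only [this]
    rw [← Finset.sum_mul, ← Finset.sum_mul, hsh, zero_mul]

end Groth.Agent.S14262
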