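import Groth.Statements.S14275
import Mathlib
import Groth.Agent.Lib.Helper63.ARExact

set_option autoImplicit false
universe u
open CAlg

namespace Groth.Agent.S14275

open RingTheory.Sequence
open Groth.Agent.Lib.Helper63.ARExact

variable {A : Type u} [CommRing A] (a : A)

def BddTors (P : Type u) [AddCommGroup P] [Module A P] : Prop :=
  ∃ N : ℕ, ∀ x : P, (∃ m : ℕ, a ^ m • x = 0) → a ^ N • x = 0

theorem mem_span_pow_smul_top_iff {N : Type u} [AddCommGroup N] [Module A N] (n : ℕ) (y : N) :
    y ∈ ((Ideal.span {a}) ^ n • ⊤ : Submodule A N) ↔ ∃ z : N, y = a ^ n • z := by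
  rw [Ideal.span_singleton_pow, Submodule.ideal_span_singleton_smul]
  constructor
  · rintro ⟨z, -, rfl⟩
    exact ⟨z, rfl⟩
  · rintro ⟨z, rfl⟩
    exact ⟨z, trivial, rfl⟩

theorem AR_of_bddTors {M N P : Type u} [AddCommGroup M] [Module A M] [AddCommGroup N] [Module A N]
    [AddCommGroup P] [Module A P] {f : M →ₗ[A] N} {g : N →ₗ[A] P}
    (hfg : Function.Exact f g) {K : ℕ}
    (hK : ∀ x : P, (∃ m : ℕ, a ^ m • x = 0) → a ^ K • x = 0) :
    ∀ n ≥ K, ((Ideal.span {a}) ^ n • ⊤ : Submodule A N) ⊓ LinearMap.range f ≤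
      (Ideal.span {a}) ^ (n - K) • LinearMap.range f := by
  rintro n hn y ⟨hy1, ⟨x', rfl⟩⟩
  obtain ⟨z, hz⟩ := (mem_span_pow_smul_top_iff a n _).mp hy1
  have h1 : a ^ n • g z = 0 := by
    rw [← map_smul, ← hz]
    exact hfg.apply_apply_eq_zero x'
  have h2 : g (a ^ K • z) = 0 := by
    rw [map_smul]; exact hK _ ⟨n, h1⟩
  obtain ⟨w, hw⟩ := (hfg _).mp h2
  have h3 : f x' = a ^ (n - K) • f w := by
    rw [hz, hw, ← mul_smul, ← pow_add, Nat.sub_add_cancel hn]
  rw [h3]
  exact Submodule.smul_mem_smul (Ideal.pow_mem_pow (Ideal.mem_span_singleton_self a) _)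
    ⟨w, rfl⟩


section linearity
variable (I : Ideal A) {M N : Type u} [AddCommGroup M] [Module A M] [AddCommGroup N] [Module A N]

theorem map_add' (f g : M →ₗ[A] N) (x : AdicCompletion I M) :
    AdicCompletion.map I (f + g) x = AdicCompletion.map I f x + AdicCompletion.map I g x := by
  apply AdicCompletion.induction_on I M x (fun c => ?_)
  rw [AdicCompletion.map_mk, AdicCompletion.map_mk, AdicCompletion.map_mk, ← map_add]
  rfl

theorem map_smul' (r : A) (f : M →ₗ[A] N) (x : AdicCompletion I M) :
    AdicCompletion.map I (r • f) x = r • AdicCompletion.map I f x := by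
  apply AdicCompletion.induction_on I M x (fun c => ?_)
  rw [AdicCompletion.map_mk, AdicCompletion.map_mk, ← map_smul]
  rfl

theorem map_sum' {ι : Type*} (s : Finset ι) (f : ι → M →ₗ[A] N) (x : AdicCompletion I M) :
    AdicCompletion.map I (∑ i ∈ s, f i) x = ∑ i ∈ s, AdicCompletion.map I (f i) x := by
  classical
  induction s using Finset.induction_on with
  | empty => simp
  | insert i s hi ih => rw [Finset.sum_insert hi, Finset.sum_insert hi, map_add', ih]

end linearity


theorem ker_map_mkQ (J : Ideal A) {n : ℕ} (gens : Fin n → A)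
    (hJ : J = Ideal.span (Set.range gens)) {K : ℕ}
    (hK : ∀ x : A ⧸ J, (∃ m : ℕ, a ^ m • x = 0) → a ^ K • x = 0) :
    LinearMap.ker (AdicCompletion.map (Ideal.span {a}) J.mkQ) =
      J.map (algebraMap A (AdicCompletion (Ideal.span {a}) A)) := by
  apply le_antisymm
  · intro y hy
    let f' : (Fin n → A) →ₗ[A] A := Fintype.linearCombination A gens
    have hex : Function.Exact f' J.mkQ := by
      rw [LinearMap.exact_iff, Submodule.ker_mkQ, Fintype.range_linearCombination, hJ]
    have hAR := AR_of_bddTors a hex hK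
    have hexc := map_exact_of_AR (Ideal.span {a}) hex (Submodule.mkQ_surjective J) hAR
    obtain ⟨c, rfl⟩ := (hexc y).mp hy
    have hf' : f' = ∑ i : Fin n, gens i • (LinearMap.proj i : (Fin n → A) →ₗ[A] A) := by
      ext j
      simp [f', Fintype.linearCombination_apply, mul_comm]
    rw [hf', map_sum']
    refine Ideal.sum_mem _ (fun i _ => ?_)
    rw [map_smul', Algebra.smul_def]
    refine Ideal.mul_mem_right _ _ (Ideal.mem_map_of_mem _ ?_)
    rw [hJ]
    exact Ideal.subset_span ⟨i, rfl⟩
  · refine (Ideal.map_le_iff_le_comap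
      (K := LinearMap.ker (AdicCompletion.map (Ideal.span {a}) J.mkQ))).mpr ?_
    intro x hx
    rw [Ideal.mem_comap]
    change AdicCompletion.map (Ideal.span {a}) J.mkQ (algebraMap A _ x) = 0
    rw [AdicCompletion.algebraMap_apply, AdicCompletion.map_of]
    have : J.mkQ x = 0 := by
      rw [Submodule.mkQ_apply, Submodule.Quotient.mk_eq_zero]; exact hx
    rw [Algebra.algebraMap_self, RingHom.id_apply, this, map_zero]

theorem map_lsmul_injective (J : Ideal A) (r : A)
    (hr : Function.Injective (LinearMap.lsmul A (A ⧸ J) r)) {K : ℕ}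
    (hK : ∀ x : A ⧸ (J ⊔ Ideal.span {r}), (∃ m : ℕ, a ^ m • x = 0) → a ^ K • x = 0) :
    Function.Injective (AdicCompletion.map (Ideal.span {a}) (LinearMap.lsmul A (A ⧸ J) r)) := by
  let f := LinearMap.lsmul A (A ⧸ J) r
  have hex : Function.Exact f (LinearMap.range f).mkQ := LinearMap.exact_map_mkQ_range f
  have hmem : ∀ t : A, (LinearMap.range f).mkQ (J.mkQ t) = 0 ↔ t ∈ J ⊔ Ideal.span {r} := by
    intro t
    rw [Submodule.mkQ_apply, Submodule.Quotient.mk_eq_zero]
    constructor
    · rintro ⟨s', hs'⟩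
      obtain ⟨s, rfl⟩ := Submodule.mkQ_surjective J s'
      have h1 : J.mkQ (r * s) = J.mkQ t := by
        rw [← hs', ← smul_eq_mul, map_smul]; rfl
      rw [Submodule.mkQ_apply, Submodule.mkQ_apply, Submodule.Quotient.eq] at h1
      have : t = (t - r * s) + r * s := by ring
      rw [this]
      refine Ideal.add_mem _ (Ideal.mem_sup_left ?_) (Ideal.mem_sup_right ?_)
      · have := J.neg_mem h1
        simpa using this
      · exact Ideal.mul_mem_right _ _ (Ideal.mem_span_singleton_self r)
    · intro ht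
      obtain ⟨j, hj, z, hz, rfl⟩ := Submodule.mem_sup.mp ht
      obtain ⟨s, rfl⟩ := Ideal.mem_span_singleton'.mp hz
      refine ⟨J.mkQ s, ?_⟩
      have hj0 : J.mkQ j = 0 := by
        rw [Submodule.mkQ_apply, Submodule.Quotient.mk_eq_zero]; exact hj
      change r • J.mkQ s = J.mkQ (j + s * r)
      rw [map_add, hj0, zero_add, ← map_smul, smul_eq_mul, mul_comm]
  have hK' : ∀ x : (A ⧸ J) ⧸ LinearMap.range f, (∃ m : ℕ, a ^ m • x = 0) → a ^ K • x = 0 := by
    intro x hx
    obtain ⟨x', rfl⟩ := Submodule.mkQ_surjective _ x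
    obtain ⟨t, rfl⟩ := Submodule.mkQ_surjective J x'
    obtain ⟨m, hm⟩ := hx
    rw [← map_smul, ← map_smul, smul_eq_mul, hmem] at hm
    have h2 : a ^ m • (Ideal.Quotient.mk (J ⊔ Ideal.span {r}) t) = 0 := by
      rw [Algebra.smul_def, Ideal.Quotient.algebraMap_eq, ← map_mul,
        Ideal.Quotient.eq_zero_iff_mem]
      exact hm
    have h3 := hK _ ⟨m, h2⟩
    rw [Algebra.smul_def, Ideal.Quotient.algebraMap_eq, ← map_mul,
      Ideal.Quotient.eq_zero_iff_mem] at h3
    rw [← map_smul, ← map_smul, smul_eq_mul, hmem]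
    exact h3
  have hAR := AR_of_bddTors a hex hK'
  exact map_injective_of_AR (Ideal.span {a}) hr hAR


theorem ker_list (l : List A) {K : ℕ}
    (hK : ∀ x : A ⧸ Ideal.ofList l, (∃ m : ℕ, a ^ m • x = 0) → a ^ K • x = 0) :
    LinearMap.ker (AdicCompletion.map (Ideal.span {a}) (Ideal.ofList l).mkQ) =
      (Ideal.ofList l).map (algebraMap A (AdicCompletion (Ideal.span {a}) A)) := by
  refine ker_map_mkQ a (Ideal.ofList l) (fun i : Fin l.length => l.get i) ?_ hK
  rw [Set.range_list_get]

theorem map_lsmul_apply (I : Ideal A) (J : Ideal A) (r : A) (z : AdicCompletion I (A ⧸ J)) :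
    AdicCompletion.map I (LinearMap.lsmul A (A ⧸ J) r) z =
      algebraMap A (AdicCompletion I A) r • z := by
  have h : LinearMap.lsmul A (A ⧸ J) r = r • (LinearMap.id : (A ⧸ J) →ₗ[A] (A ⧸ J)) := by
    ext; simp
  rw [h, map_smul', AdicCompletion.map_id, LinearMap.id_apply, algebraMap_smul]

theorem main (rs : List A) (hreg : IsWeaklyRegular A rs)
    (hbd : ∀ i ≤ rs.length, ∃ N : ℕ, ∀ x : A ⧸ Ideal.ofList (rs.take i),
      (∃ m : ℕ, a ^ m • x = 0) → a ^ N • x = 0) :
    IsWeaklyRegular (AdicCompletion (Ideal.span {a}) A)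
        (rs.map (algebraMap A (AdicCompletion (Ideal.span {a}) A))) ∧
      Function.Surjective (AdicCompletion.map (Ideal.span {a}) (Ideal.ofList rs).mkQ) ∧
      LinearMap.ker (AdicCompletion.map (Ideal.span {a}) (Ideal.ofList rs).mkQ) =
        (Ideal.ofList rs).map (algebraMap A (AdicCompletion (Ideal.span {a}) A)) := by
  refine ⟨?_, AdicCompletion.map_surjective (Ideal.span {a}) (Submodule.mkQ_surjective _), ?_⟩
  · rw [isWeaklyRegular_iff]
    intro i hi
    have hi' : i < rs.length := by simpa using hi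
    rw [isSMulRegular_quotient_iff_mem_of_smul_mem]
    intro m hm
    obtain ⟨K0, hK0⟩ := hbd i hi'.le
    obtain ⟨K1, hK1⟩ := hbd (i + 1) hi'
    have e1 : Ideal.ofList (rs.take (i + 1)) = Ideal.ofList (rs.take i) ⊔ Ideal.span {rs[i]} := by
      rw [List.take_succ_eq_append_getElem hi', Ideal.ofList_append, Ideal.ofList_singleton]
    rw [e1] at hK1
    have hker := ker_list a (rs.take i) hK0
    have hr : Function.Injective (LinearMap.lsmul A (A ⧸ Ideal.ofList (rs.take i)) rs[i]) := by
      have h0 := (isSMulRegular_quotient_iff_mem_of_smul_mem _ _).mp (hreg.regular_mod_prev i hi')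
      rw [injective_iff_map_eq_zero]
      intro x hx
      obtain ⟨t, rfl⟩ := Submodule.mkQ_surjective _ x
      have hx' : (Ideal.ofList (rs.take i)).mkQ (rs[i] • t) = 0 := by
        rw [map_smul]; exact hx
      rw [Submodule.mkQ_apply, Submodule.Quotient.mk_eq_zero] at hx' ⊢
      have h1 := h0 t (by rw [smul_eq_mul, Ideal.mul_top]; exact hx')
      rw [smul_eq_mul, Ideal.mul_top] at h1
      exact h1
    have hinj := map_lsmul_injective a (Ideal.ofList (rs.take i)) rs[i] hr hK1
    have hset : (Ideal.ofList ((rs.map (algebraMap A (AdicCompletion (Ideal.span {a}) A))).take i) • ⊤ :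
        Submodule (AdicCompletion (Ideal.span {a}) A) (AdicCompletion (Ideal.span {a}) A)) =
        LinearMap.ker (AdicCompletion.map (Ideal.span {a}) (Ideal.ofList (rs.take i)).mkQ) := by
      rw [hker, ← List.map_take, ← Ideal.map_ofList, smul_eq_mul, Ideal.mul_top]
    rw [hset] at hm ⊢
    have hm' : AdicCompletion.map (Ideal.span {a}) (Ideal.ofList (rs.take i)).mkQ
        ((rs.map (algebraMap A (AdicCompletion (Ideal.span {a}) A)))[i] • m) = 0 := hm
    change AdicCompletion.map (Ideal.span {a}) (Ideal.ofList (rs.take i)).mkQ m = 0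
    rw [List.getElem_map, map_smul, ← map_lsmul_apply] at hm'
    exact hinj (hm'.trans (map_zero _).symm)
  · obtain ⟨K, hK⟩ := hbd rs.length le_rfl
    rw [List.take_length] at hK
    exact ker_list a rs hK

open RingTheory.Sequence in
/-- Let A be a commutative ring, a an element of A with a-adic completion A^, and a_1, ..., a_n a weakly
regular sequence on A such that for each i = 0, ..., n the quotient A/(a_1, ..., a_i) has bounded
a-power torsion (some fixed power of a kills every element killed by a power of a). Then the images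
of a_1, ..., a_n form a weakly regular sequence on A^, and the canonical map from A^ to the a-adic
completion of A/(a_1, ..., a_n) is surjective with kernel the ideal generated by the images of a_1,
..., a_n. -/
theorem result (A : Type u) [CommRing A] (a : A) (rs : List A)
    (hreg : IsWeaklyRegular A rs)
    (hbd : ∀ i ≤ rs.length, ∃ N : ℕ, ∀ x : A ⧸ Ideal.ofList (rs.take i), (∃ m : ℕ, a ^ m • x = 0) → a ^ N • x = 0) :
    IsWeaklyRegular (AdicCompletion (Ideal.span {a}) A)
        (rs.map (algebraMap A (AdicCompletion (Ideal.span {a}) A))) ∧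
      Function.Surjective (AdicCompletion.map (Ideal.span {a}) (Ideal.ofList rs).mkQ) ∧
      LinearMap.ker (AdicCompletion.map (Ideal.span {a}) (Ideal.ofList rs).mkQ) =
        (Ideal.ofList rs).map (algebraMap A (AdicCompletion (Ideal.span {a}) A)) := by
  exact main a rs hreg hbd

end Groth.Agent.S14275
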