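import Groth.Statements.S18975
import Groth.Agent.Lib.Helper5.FpqcLocal
import Groth.Agent.Lib.Helper5.MagnetAux
import Groth.Agent.S0082
import Mathlib.AlgebraicGeometry.AffineSpace

set_option autoImplicit false
universe u
open CategoryTheory MonoidalCategory CartesianMonoidalCategory MonObj AlgebraicGeometry
open GIT

namespace Groth.Agent.S18975

theorem flat_codescendsAlong' :
    RingHom.CodescendsAlong RingHom.Flat RingHom.FaithfullyFlat := by
  apply RingHom.CodescendsAlong.mk _ RingHom.Flat.respectsIso
  introv h H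
  rw [RingHom.faithfullyFlat_algebraMap_iff] at h
  rw [RingHom.flat_algebraMap_iff] at H ⊢
  exact Module.Flat.of_flat_tensorProduct R T S

theorem flat_descendsAlong' :
    MorphismProperty.DescendsAlong @Flat
      (@Surjective ⊓ @Flat ⊓ @QuasiCompact : MorphismProperty Scheme.{u}) :=
  HasRingHomProperty.descendsAlong_flat flat_codescendsAlong'

/-- The affine line over `ℤ`. -/
noncomputable abbrev A1 : Scheme.{u} := Spec (CommRingCat.of (MvPolynomial PUnit.{u + 1} (ULift.{u} ℤ)))

/-- Global functions are morphisms to the affine line. -/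
noncomputable def fnEquiv (T : Scheme.{u}) : (T ⟶ A1.{u}) ≃ Γ(T, ⊤) :=
  (AffineSpace.toSpecMvPolyIntEquiv PUnit.{u + 1}).trans (Equiv.funUnique PUnit.{u + 1} _)

theorem fnEquiv_comp {T T' : Scheme.{u}} (h : T' ⟶ T) (k : T ⟶ A1.{u}) :
    fnEquiv T' (h ≫ k) = h.appTop.hom (fnEquiv T k) := rfl

/-- A section over an open, as a morphism to the affine line. -/
noncomputable def toA1 {T : Scheme.{u}} (V : T.Opens) (s : Γ(T, V)) : V.toScheme ⟶ A1.{u} :=
  (fnEquiv V.toScheme).symm (V.topIso.inv s)

theorem toA1_injective {T : Scheme.{u}} (V : T.Opens) : Function.Injective (toA1 V) := by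
  intro s t h
  have h1 := (fnEquiv V.toScheme).symm.injective h
  exact (ConcreteCategory.bijective_of_isIso V.topIso.inv).1 h1

theorem resLE_comp_toA1 {X Y : Scheme.{u}} (f : X ⟶ Y) (U : Y.Opens) (V : X.Opens) (e : V ≤ f ⁻¹ᵁ U)
    (s : Γ(Y, U)) : f.resLE U V e ≫ toA1 U s = toA1 V (f.appLE U V e s) := by
  apply (fnEquiv _).injective
  rw [fnEquiv_comp, toA1, toA1, Equiv.apply_symm_apply, Equiv.apply_symm_apply]
  have h1 : U.topIso.inv ≫ (f.resLE U V e).appTop = f.appLE U V e ≫ V.topIso.inv := by
    rw [Scheme.Hom.appTop, Scheme.Hom.resLE_app_top, Iso.inv_hom_id_assoc]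
  exact congrArg (fun ψ => ψ.hom s) h1

theorem appLE_congr_hom {X Y : Scheme.{u}} {f g : X ⟶ Y} (h : f = g) (U : Y.Opens) (V : X.Opens)
    (e : V ≤ f ⁻¹ᵁ U) : f.appLE U V e = g.appLE U V (h ▸ e) := by
  subst h; rfl

section
variable {S : Scheme.{u}} {G X Y : Over S} [GrpObj G] (a : AlgGrp.Action G X) (φ : X ⟶ Y)

/-- The trivialization square of a torsor over a section. -/
theorem isPullback_of_section (hcart : IsPullback a.act (snd G X) φ φ)
    {Y' : Scheme.{u}} (f : Y' ⟶ Y.left) (s : Y' ⟶ X.left) (hs : s ≫ φ.left = f) :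
    ∃ (top : (G ⊗ Over.mk (f ≫ Y.hom)).left ⟶ X.left),
      IsPullback top (Limits.pullback.snd G.hom (f ≫ Y.hom)) φ.left f := by
  let Y'o : Over S := Over.mk (f ≫ Y.hom)
  let sO : Y'o ⟶ X := Over.homMk s (by
    change s ≫ X.hom = f ≫ Y.hom
    rw [← hs, Category.assoc, Over.w φ])
  have sq1 := Groth.Agent.Lib.Helper5.isPullback_whiskerLeft_snd G sO
  have sq := sq1.paste_horiz hcart
  have sq' := sq.map (Over.forget S)
  refine ⟨((G ◁ sO) ≫ a.act).left, ?_⟩
  have e : ((Over.forget S).map (sO ≫ φ)) = f := by
    change s ≫ φ.left = f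
    exact hs
  rw [e] at sq'
  exact sq'

end

/-- Over an algebraically closed field k of characteristic zero, let G be an affine group scheme of
finite type over k acting on a k-scheme X, and let φ : X → Y be a morphism of k-schemes which is a
G-torsor over Y: the square formed by the action G ×_k X → X, the second projection and φ (twice) is
cartesian, and φ acquires sections on the members of some fpqc covering family of Y. Then φ is
affine and (Y, φ) is a geometric quotient: φ is invariant and surjective, G ×_k X → X ×_Y X is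
surjective, φ is universally submersive, and over every open of Y the functions on Y are exactly the
invariant functions on its preimage. (The source defines a torsor by the existence of one fpqc
morphism to Y trivialising it and defines geometric quotients with φ affine and submersive;
universal submersiveness follows because every base change of a torsor is a torsor.) -/
theorem result
    (k : Type u) [Field k] [IsAlgClosed k] [CharZero k]
    (G X Y : Over (Spec (CommRingCat.of k))) [GrpObj G] [IsAffine G.left] [LocallyOfFiniteType G.hom]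
    (a : AlgGrp.Action G X) (φ : X ⟶ Y)
    (hcart : IsPullback a.act (snd G X) φ φ)
    (hloc : NonAbH1.IsLocallyTrivialFor Scheme.fpqcPrecoverage (Over.mk φ.left : Over Y.left)) :
    IsAffineHom φ.left ∧ GIT.IsGeomQuot a φ := by
  obtain ⟨R, hR, hsec⟩ := hloc
  have hGaff : IsAffineHom G.hom := isAffineHom_of_isAffine G.hom
  have hGflat : Flat G.hom := by
    have h1 : Subsingleton (Spec (CommRingCat.of k)) := inferInstance
    have h2 : IsIntegral (Spec (CommRingCat.of k)) := inferInstance
    change Flat (Y := Spec (CommRingCat.of k)) G.hom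
    infer_instance
  have hd1 := Groth.Agent.S0082.result.{u}
  have hd2 := flat_descendsAlong'.{u}
  -- local structure
  have hlocP : ∀ (P : MorphismProperty Scheme.{u}) [P.IsStableUnderBaseChange] [IsZariskiLocalAtTarget P]
      [P.DescendsAlong (@Surjective ⊓ @Flat ⊓ @QuasiCompact)], P G.hom → P φ.left := by
    intro P _ _ _ hPG
    have : P.RespectsIso := MorphismProperty.IsStableUnderBaseChange.respectsIso
    apply Groth.Agent.Lib.Helper5.of_mem_fpqcPrecoverage P φ.left R hR
    intro Y' f hf
    obtain ⟨s, hs⟩ := hsec f hf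
    obtain ⟨top, sq⟩ := isPullback_of_section a φ hcart f s hs
    have h1 : P (Limits.pullback.snd G.hom (f ≫ Y.hom)) := P.pullback_snd _ _ hPG
    rw [← sq.isoPullback_hom_snd] at h1
    exact (P.cancel_left_of_respectsIso _ _).mp h1
  have haff : IsAffineHom φ.left := hlocP @IsAffineHom hGaff
  have hflat : Flat φ.left := hlocP @Flat hGflat
  have hsurj : Surjective φ.left := by
    refine ⟨fun y => ?_⟩
    obtain ⟨𝒰, rfl⟩ := Precoverage.mem_iff_exists_zeroHypercover.mp hR
    have h2 := 𝒰.mem₀.2
    rw [Scheme.presieve₀_mem_precoverage_iff] at h2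
    obtain ⟨i, y', hy'⟩ := h2.1 y
    obtain ⟨s, hs⟩ := hsec (𝒰.f i) (Presieve.ofArrows.mk i)
    refine ⟨s.base y', ?_⟩
    rw [← Scheme.Hom.comp_apply]
    change (s ≫ φ.left).base y' = y
    rw [show s ≫ φ.left = 𝒰.f i from hs]
    exact hy'
  refine ⟨haff, ?_⟩
  have hinv : GIT.IsInvariant a φ := hcart.w
  refine ⟨hinv, hsurj.surj, ?_, ?_, ?_⟩
  · -- orbit
    have sq : IsPullback a.act.left (snd G X).left φ.left φ.left := hcart.map (Over.forget _)
    have h1 : GIT.PsiY a φ hinv = sq.isoPullback.hom := by
      apply Limits.pullback.hom_ext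
      · rw [sq.isoPullback_hom_fst]
        exact Limits.pullback.lift_fst _ _ _
      · rw [sq.isoPullback_hom_snd]
        exact Limits.pullback.lift_snd _ _ _
    rw [h1]
    exact sq.isoPullback.hom.homeomorph.surjective
  · -- universally submersive
    intro X' Y' i₁ i₂ f' hpb
    have : Flat f' := MorphismProperty.of_isPullback (P := @Flat) hpb.flip hflat
    have : Surjective f' := MorphismProperty.of_isPullback (P := @Surjective) hpb.flip hsurj
    have : IsAffineHom f' := MorphismProperty.of_isPullback (P := @IsAffineHom) hpb.flip haff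
    exact Flat.isQuotientMap_of_surjective f'
  · -- sections
    intro U
    have sq : IsPullback a.act.left (snd G X).left φ.left φ.left := hcart.map (Over.forget _)
    let Φ := φ.left
    let XU : X.left.Opens := Φ ⁻¹ᵁ U
    let ΦU : XU.toScheme ⟶ U.toScheme := Φ.resLE U XU le_rfl
    have hΦU : ΦU = Φ ∣_ U := Scheme.Hom.resLE_eq_morphismRestrict Φ
    have hpbU := isPullback_morphismRestrict Φ U
    have : Flat ΦU := by
      rw [hΦU]; exact MorphismProperty.of_isPullback (P := @Flat) hpbU.flip hflat
    have : Surjective ΦU := by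
      rw [hΦU]; exact MorphismProperty.of_isPullback (P := @Surjective) hpbU.flip hsurj
    have : IsAffineHom ΦU := by
      rw [hΦU]; exact MorphismProperty.of_isPullback (P := @IsAffineHom) hpbU.flip haff
    have hee : EffectiveEpi ΦU := inferInstance
    have hepi : Epi ΦU := inferInstance
    have happ : ∀ h : Γ(Y.left, U), Φ.app U h = Φ.appLE U XU le_rfl h := by
      intro h; rw [Scheme.Hom.app_eq_appLE]
    have hkey : ∀ h : Γ(Y.left, U), ΦU ≫ toA1 U h = toA1 XU (Φ.app U h) := by
      intro h
      rw [happ]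
      exact resLE_comp_toA1 Φ U XU le_rfl h
    refine ⟨?_, ?_⟩
    · intro h₁ h₂ h12
      apply toA1_injective U
      rw [← cancel_epi ΦU, hkey, hkey]
      change toA1 XU (Φ.app U h₁) = toA1 XU (Φ.app U h₂)
      rw [show Φ.app U h₁ = Φ.app U h₂ from h12]
    · ext s
      constructor
      · rintro ⟨h, rfl⟩
        change a.act.left.appLE XU _ inf_le_left (Φ.app U h) =
          (snd G X).left.appLE XU _ inf_le_right (Φ.app U h)
        rw [happ]
        have e1 := congrArg (fun ψ => ψ.hom h) (Scheme.Hom.appLE_comp_appLE a.act.left Φ U XU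
          (a.act.left ⁻¹ᵁ XU ⊓ (snd G X).left ⁻¹ᵁ XU) le_rfl inf_le_left)
        have e2 := congrArg (fun ψ => ψ.hom h) (Scheme.Hom.appLE_comp_appLE (snd G X).left Φ U XU
          (a.act.left ⁻¹ᵁ XU ⊓ (snd G X).left ⁻¹ᵁ XU) le_rfl inf_le_right)
        simp only [CommRingCat.hom_comp, RingHom.comp_apply] at e1 e2
        refine e1.trans (Eq.trans ?_ e2.symm)
        rw [appLE_congr_hom hinv.left]
      · intro hs
        change a.act.left.appLE XU _ inf_le_left s = (snd G X).left.appLE XU _ inf_le_right s at hs
        let Ω : (G ⊗ X).left.Opens := a.act.left ⁻¹ᵁ XU ⊓ (snd G X).left ⁻¹ᵁ XU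
        let e : XU.toScheme ⟶ A1.{u} := toA1 XU s
        have hcompat : ∀ {Z : Scheme.{u}} (g₁ g₂ : Z ⟶ XU.toScheme), g₁ ≫ ΦU = g₂ ≫ ΦU →
            g₁ ≫ e = g₂ ≫ e := by
          intro Z g₁ g₂ hg
          have hg' : (g₁ ≫ XU.ι) ≫ Φ = (g₂ ≫ XU.ι) ≫ Φ := by
            have h1 : XU.ι ≫ Φ = ΦU ≫ U.ι := (Scheme.Hom.resLE_comp_ι Φ le_rfl).symm
            rw [Category.assoc, Category.assoc, h1, ← Category.assoc, ← Category.assoc, hg]
          let γ := sq.lift (g₁ ≫ XU.ι) (g₂ ≫ XU.ι) hg'
          have hγ1 : γ ≫ a.act.left = g₁ ≫ XU.ι := sq.lift_fst _ _ _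
          have hγ2 : γ ≫ (snd G X).left = g₂ ≫ XU.ι := sq.lift_snd _ _ _
          have hγr : Set.range γ.base ⊆ Set.range Ω.ι.base := by
            rintro _ ⟨z, rfl⟩
            rw [Scheme.Opens.range_ι]
            constructor
            · change (a.act.left.base (γ.base z)) ∈ XU
              rw [← Scheme.Hom.comp_apply, hγ1]
              exact (g₁.base z).2
            · change ((snd G X).left.base (γ.base z)) ∈ XU
              rw [← Scheme.Hom.comp_apply, hγ2]
              exact (g₂.base z).2
          let γ' := IsOpenImmersion.lift Ω.ι γ hγr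
          have hγ' : γ' ≫ Ω.ι = γ := IsOpenImmersion.lift_fac _ _ _
          have hg1 : g₁ = γ' ≫ a.act.left.resLE XU Ω inf_le_left := by
            rw [← cancel_mono XU.ι, Category.assoc, Scheme.Hom.resLE_comp_ι, ← Category.assoc, hγ', hγ1]
          have hg2 : g₂ = γ' ≫ (snd G X).left.resLE XU Ω inf_le_right := by
            rw [← cancel_mono XU.ι, Category.assoc, Scheme.Hom.resLE_comp_ι, ← Category.assoc, hγ', hγ2]
          rw [hg1, hg2, Category.assoc, Category.assoc, resLE_comp_toA1, resLE_comp_toA1, hs]
        let u := EffectiveEpi.desc ΦU e hcompat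
        have hu : ΦU ≫ u = e := EffectiveEpi.fac ΦU e hcompat
        let h : Γ(Y.left, U) := U.topIso.hom (fnEquiv _ u)
        have hh : toA1 U h = u := by
          rw [toA1]
          apply (fnEquiv _).injective
          rw [Equiv.apply_symm_apply]
          exact Iso.hom_inv_id_apply U.topIso (fnEquiv _ u)
        refine ⟨h, ?_⟩
        apply toA1_injective XU
        rw [← hkey, hh, hu]

end Groth.Agent.S18975
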