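import Groth.Statements.S14276
import Groth.Agent.S18975
import Groth.Agent.Lib.Helper51.SmoothSection
import Mathlib.AlgebraicGeometry.Morphisms.LocalFlatDescent

set_option autoImplicit false
universe u
open CategoryTheory AlgebraicGeometry
open NonAbH1

namespace Groth.Agent.S14276

/-- Let X be a scheme and G a group scheme over X which is smooth over X. Then every G-torsor for the
fppf topology is locally trivial for the étale topology on X. Here a torsor is an X-scheme with an
action of G which is a pseudo-torsor and acquires sections on the members of some fppf covering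
family of X, and the conclusion says that it acquires sections on the members of some étale covering
family of X. (The published statement is about torsors in the sense of fppf sheaves; this row states
it for torsors that are schemes.) -/
theorem result {X : Scheme.{u}}
    (G : Over X) [GrpObj G] [Smooth G.hom] (P : Over X) (a : AlgGrp.Action G P)
    (h : NonAbH1.IsTorsorFor Scheme.fppfPrecoverage a) :
    NonAbH1.IsLocallyTrivialFor Scheme.etalePrecoverage P := by
  obtain ⟨hps, R, hR, hsec⟩ := h
  have hRq : R ∈ Scheme.fpqcPrecoverage X := Scheme.fppfPrecoverage_le_fpqcPrecoverage X hR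
  -- the cartesian square
  have hprod : IsPullback (CartesianMonoidalCategory.fst P P) (CartesianMonoidalCategory.snd P P) (CartesianMonoidalCategory.toUnit P) (CartesianMonoidalCategory.toUnit P) :=
    IsPullback.of_is_product' (CartesianMonoidalCategory.tensorProductIsBinaryProduct P P) CartesianMonoidalCategory.isTerminalTensorUnit
  haveI : IsIso (CartesianMonoidalCategory.lift a.act (CartesianMonoidalCategory.snd G P)) := hps
  have hcart : IsPullback a.act (CartesianMonoidalCategory.snd G P) (CartesianMonoidalCategory.toUnit P) (CartesianMonoidalCategory.toUnit P) := by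
    refine IsPullback.of_iso hprod (asIso (CartesianMonoidalCategory.lift a.act (CartesianMonoidalCategory.snd G P))).symm (Iso.refl _) (Iso.refl _)
      (Iso.refl _) ?_ ?_ ?_ ?_
    · simp
    · simp
    · simp
    · simp
  have hφ : (CartesianMonoidalCategory.toUnit P).left = P.hom := Over.toUnit_left
  -- smoothness of P
  have hsm : Smooth P.hom := by
    apply Groth.Agent.Lib.Helper5.of_mem_fpqcPrecoverage @Smooth P.hom R hRq
    intro Y' f hf
    obtain ⟨s, hs⟩ := hsec f hf
    obtain ⟨top, sq⟩ := Groth.Agent.S18975.isPullback_of_section a (CartesianMonoidalCategory.toUnit P) hcart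
      (Y := MonoidalCategoryStruct.tensorUnit (Over X)) f s (by rw [hφ]; exact hs)
    rw [hφ] at sq
    have h1 : Smooth (Limits.pullback.snd G.hom (f ≫ (MonoidalCategoryStruct.tensorUnit (Over X)).hom)) :=
      MorphismProperty.pullback_snd (P := @Smooth) _ _ inferInstance
    rw [← sq.isoPullback_hom_snd] at h1
    exact (MorphismProperty.cancel_left_of_respectsIso @Smooth _ _).mp h1
  -- surjectivity of P
  have hsurj : ∀ x : X, ∃ p : P.left, P.hom p = x := by
    intro y
    obtain ⟨𝒰, rfl⟩ := Precoverage.mem_iff_exists_zeroHypercover.mp hRq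
    have h2 := 𝒰.mem₀.2
    rw [Scheme.presieve₀_mem_precoverage_iff] at h2
    obtain ⟨i, y', hy'⟩ := h2.1 y
    obtain ⟨s, hs⟩ := hsec (𝒰.f i) (Presieve.ofArrows.mk i)
    refine ⟨s.base y', ?_⟩
    rw [← Scheme.Hom.comp_apply]
    change (s ≫ P.hom).base y' = y
    rw [show s ≫ P.hom = 𝒰.f i from hs]
    exact hy'
  choose p hp using hsurj
  have hE := fun x : X => Groth.Agent.Lib.Helper51.SmoothSection.exists_etale_section P.hom (p x)
  choose S' g s' hg hgs l hl using hE
  refine ⟨Presieve.ofArrows S' g, ?_, ?_⟩
  · change Presieve.ofArrows S' g ∈ Scheme.precoverage @Etale X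
    rw [Scheme.ofArrows_mem_precoverage_iff]
    refine ⟨fun x => ⟨x, s' x, ?_⟩, fun x => hg x⟩
    rw [hgs, hp]
  · rintro _ _ ⟨x⟩
    exact ⟨l x, hl x⟩

end Groth.Agent.S14276
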