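import Groth.Statements.S14295
import Mathlib.Tactic

set_option autoImplicit false
universe u v
open PtDeg

namespace Groth.Agent.S14295

theorem f_zero {A : Type u} {G : Type v} [AddCommGroup A] [AddCommGroup G]
    (f : A → G) (hf : ∀ x y z : A, f (x + y + z) + f x + f y + f z = f (x + y) + f (x + z) + f (y + z)) :
    f 0 = 0 := by
  have h := hf 0 0 0
  simp only [add_zero] at h
  have h2 : f 0 + (f 0 + f 0 + f 0) = 0 + (f 0 + f 0 + f 0) :=
    calc f 0 + (f 0 + f 0 + f 0) = f 0 + f 0 + f 0 + f 0 := by abel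
      _ = f 0 + f 0 + f 0 := h
      _ = 0 + (f 0 + f 0 + f 0) := (zero_add _).symm
  exact add_right_cancel h2

theorem key {A : Type u} {G : Type v} [AddCommGroup A] [AddCommGroup G]
    (f : A → G) (hf : ∀ x y z : A, f (x + y + z) + f x + f y + f z = f (x + y) + f (x + z) + f (y + z))
    (x : A) (n : ℤ) :
    f ((n + 1) • x) + f ((n - 1) • x) = (2 : ℤ) • f (n • x) + f x + f (-x) := by
  have h := hf (n • x) x (-x)
  have e1 : n • x + x + -x = n • x := by abel
  have e2 : n • x + x = (n + 1) • x := by rw [add_smul, one_smul]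
  have e3 : n • x + -x = (n - 1) • x := by rw [sub_smul, one_smul, sub_eq_add_neg]
  have e4 : x + -x = 0 := by abel
  rw [e1, e2, e3, e4, f_zero f hf, add_zero] at h
  rw [← h]; abel

theorem T_succ (n : ℤ) : (n + 1) * (n + 1 + 1) / 2 = n * (n + 1) / 2 + (n + 1) := by
  have : (n + 1) * (n + 1 + 1) = n * (n + 1) + (n + 1) * 2 := by ring
  rw [this, Int.add_mul_ediv_right _ _ (by norm_num)]

theorem S_succ (n : ℤ) : (n + 1) * (n + 1 - 1) / 2 = n * (n - 1) / 2 + n := by
  have : (n + 1) * (n + 1 - 1) = n * (n - 1) + n * 2 := by ring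
  rw [this, Int.add_mul_ediv_right _ _ (by norm_num)]

theorem T_pred (n : ℤ) : (n - 1) * (n - 1 + 1) / 2 = n * (n + 1) / 2 - n := by
  have : (n - 1) * (n - 1 + 1) = n * (n + 1) + (-n) * 2 := by ring
  rw [this, Int.add_mul_ediv_right _ _ (by norm_num)]; ring

theorem S_pred (n : ℤ) : (n - 1) * (n - 1 - 1) / 2 = n * (n - 1) / 2 - (n - 1) := by
  have : (n - 1) * (n - 1 - 1) = n * (n - 1) + (-(n - 1)) * 2 := by ring
  rw [this, Int.add_mul_ediv_right _ _ (by norm_num)]; ring

theorem step_up {A : Type u} {G : Type v} [AddCommGroup A] [AddCommGroup G]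
    (f : A → G) (hf : ∀ x y z : A, f (x + y + z) + f x + f y + f z = f (x + y) + f (x + z) + f (y + z))
    (x : A) (m : ℤ)
    (h0 : f (m • x) = (m * (m + 1) / 2) • f x + (m * (m - 1) / 2) • f (-x))
    (h1 : f ((m + 1) • x) = ((m + 1) * (m + 1 + 1) / 2) • f x + ((m + 1) * (m + 1 - 1) / 2) • f (-x)) :
    f ((m + 1 + 1) • x) =
      ((m + 1 + 1) * (m + 1 + 1 + 1) / 2) • f x + ((m + 1 + 1) * (m + 1 + 1 - 1) / 2) • f (-x) := by
  have hk := key f hf x (m + 1)
  have e : (m + 1 - 1) • x = m • x := by congr 1; ring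
  rw [e, h0, h1] at hk
  rw [T_succ (m + 1), S_succ (m + 1), T_succ m, S_succ m]
  rw [T_succ m, S_succ m] at hk
  generalize m * (m + 1) / 2 = T at *
  generalize m * (m - 1) / 2 = S at *
  have : f ((m + 1 + 1) • x) = (2 : ℤ) • ((T + (m + 1)) • f x + (S + m) • f (-x)) + f x + f (-x) - (T • f x + S • f (-x)) := by
    rw [← hk]; abel
  rw [this]
  module

theorem step_down {A : Type u} {G : Type v} [AddCommGroup A] [AddCommGroup G]
    (f : A → G) (hf : ∀ x y z : A, f (x + y + z) + f x + f y + f z = f (x + y) + f (x + z) + f (y + z))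
    (x : A) (m : ℤ)
    (h0 : f (m • x) = (m * (m + 1) / 2) • f x + (m * (m - 1) / 2) • f (-x))
    (h1 : f ((m + 1) • x) = ((m + 1) * (m + 1 + 1) / 2) • f x + ((m + 1) * (m + 1 - 1) / 2) • f (-x)) :
    f ((m - 1) • x) =
      ((m - 1) * (m - 1 + 1) / 2) • f x + ((m - 1) * (m - 1 - 1) / 2) • f (-x) := by
  have hk := key f hf x m
  rw [h0, h1] at hk
  rw [T_pred m, S_pred m]
  rw [T_succ m, S_succ m] at hk
  generalize m * (m + 1) / 2 = T at *
  generalize m * (m - 1) / 2 = S at *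
  have : f ((m - 1) • x) = (2 : ℤ) • (T • f x + S • f (-x)) + f x + f (-x) - ((T + (m + 1)) • f x + (S + m) • f (-x)) := by
    rw [← hk]; abel
  rw [this]
  module

theorem both {A : Type u} {G : Type v} [AddCommGroup A] [AddCommGroup G]
    (f : A → G) (hf : ∀ x y z : A, f (x + y + z) + f x + f y + f z = f (x + y) + f (x + z) + f (y + z))
    (x : A) (n : ℤ) :
    f (n • x) = (n * (n + 1) / 2) • f x + (n * (n - 1) / 2) • f (-x) ∧
    f ((n + 1) • x) = ((n + 1) * (n + 1 + 1) / 2) • f x + ((n + 1) * (n + 1 - 1) / 2) • f (-x) := by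
  induction n using Int.induction_on with
  | zero =>
    refine ⟨?_, ?_⟩
    · simp [f_zero f hf]
    · norm_num
  | succ n ih =>
    obtain ⟨h0, h1⟩ := ih
    exact ⟨h1, step_up f hf x _ h0 h1⟩
  | pred n ih =>
    obtain ⟨h0, h1⟩ := ih
    have e : (-(n : ℤ) - 1 + 1) = -(n : ℤ) := by ring
    refine ⟨step_down f hf x _ h0 h1, ?_⟩
    rw [e]; exact h0

theorem result {A : Type u} {G : Type v} [AddCommGroup A] [AddCommGroup G]
    (f : A → G) (hf : ∀ x y z : A, f (x + y + z) + f x + f y + f z = f (x + y) + f (x + z) + f (y + z))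
    (n : ℤ) (x : A) :
    f (n • x) = (n * (n + 1) / 2) • f x + (n * (n - 1) / 2) • f (-x) := by
  exact (both f hf x n).1

end Groth.Agent.S14295
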