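import Groth.Statements.S14294
import Groth.Agent.S14295
import Mathlib.Tactic

set_option autoImplicit false
universe u v
open PtDeg

namespace Groth.Agent.S14294

theorem TS (n : ℤ) : n * (n + 1) / 2 = n * (n - 1) / 2 + n := by
  have : n * (n + 1) = n * (n - 1) + n * 2 := by ring
  rw [this, Int.add_mul_ediv_right _ _ (by norm_num)]

theorem T_odd (k : ℤ) : (2 * k + 1) * (2 * k + 1 + 1) / 2 = (2 * k + 1) * (k + 1) := by
  have : (2 * k + 1) * (2 * k + 1 + 1) = ((2 * k + 1) * (k + 1)) * 2 := by ring
  rw [this, Int.mul_ediv_cancel _ (by norm_num)]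

theorem S_odd (k : ℤ) : (2 * k + 1) * (2 * k + 1 - 1) / 2 = (2 * k + 1) * k := by
  have : (2 * k + 1) * (2 * k + 1 - 1) = ((2 * k + 1) * k) * 2 := by ring
  rw [this, Int.mul_ediv_cancel _ (by norm_num)]

/-- Let A and G be abelian groups, written additively, and f : A → G a map which is pointed of degree 2,
that is f(x+y+z) + f(x) + f(y) + f(z) = f(x+y) + f(x+z) + f(y+z) for all x, y, z in A. If an integer
n satisfies n·x = 0 for every x in A, then 2n·f(x) = 0 for every x in A, and if moreover n is odd
then n·f(x) = 0 for every x in A. -/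
theorem result {A : Type u} {G : Type v} [AddCommGroup A] [AddCommGroup G]
    (f : A → G) (hf : ∀ x y z : A, f (x + y + z) + f x + f y + f z = f (x + y) + f (x + z) + f (y + z))
    (n : ℤ) (hn : ∀ x : A, n • x = 0) :
    (∀ x : A, (2 * n) • f x = 0) ∧ (Odd n → ∀ x : A, n • f x = 0) := by
  have f0 : f 0 = 0 := Groth.Agent.S14295.f_zero f hf
  have A1 : ∀ x : A, (n * (n + 1) / 2) • f x + (n * (n - 1) / 2) • f (-x) = 0 := by
    intro x
    rw [← Groth.Agent.S14295.result f hf n x, hn x, f0]
  have A2 : ∀ x : A, f x = ((n + 1) * (n + 1 + 1) / 2) • f x + ((n + 1) * (n + 1 - 1) / 2) • f (-x) := by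
    intro x
    rw [← Groth.Agent.S14295.result f hf (n + 1) x, add_smul, hn x, one_smul, zero_add]
  have B1 : ∀ x : A, n • f x + n • f (-x) = 0 := by
    intro x
    have a1 := A1 x
    have a2 := A2 x
    rw [Groth.Agent.S14295.T_succ, Groth.Agent.S14295.S_succ] at a2
    generalize n * (n + 1) / 2 = T at *
    generalize n * (n - 1) / 2 = S at *
    linear_combination (norm := module) -a2 - a1
  have B2 : ∀ x : A, n • f x - n • f (-x) = 0 := by
    intro x
    have a1 := A1 x
    have a2 := A1 (-x)
    rw [neg_neg] at a2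
    rw [TS] at a1 a2
    generalize n * (n - 1) / 2 = S at *
    linear_combination (norm := module) a1 - a2
  have C : ∀ x : A, (2 * n) • f x = 0 := by
    intro x
    linear_combination (norm := module) B1 x + B2 x
  refine ⟨C, ?_⟩
  rintro ⟨k, rfl⟩ x
  have a1 := A1 x
  rw [T_odd, S_odd] at a1
  linear_combination (norm := module) a1 + k • B2 x - k • C x

end Groth.Agent.S14294
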