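import Groth.Statements.S14296
import Groth.Agent.S14295
import Mathlib.Tactic

set_option autoImplicit false
universe u v
open PtDeg

namespace Groth.Agent.S14296

theorem T_even (n : ℤ) : 2 * n * (2 * n + 1) / 2 = n * (2 * n + 1) := by
  have : 2 * n * (2 * n + 1) = (n * (2 * n + 1)) * 2 := by ring
  rw [this, Int.mul_ediv_cancel _ (by norm_num)]

theorem S_even (n : ℤ) : 2 * n * (2 * n - 1) / 2 = n * (2 * n - 1) := by
  have : 2 * n * (2 * n - 1) = (n * (2 * n - 1)) * 2 := by ring
  rw [this, Int.mul_ediv_cancel _ (by norm_num)]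

/-- Let G and H be abelian groups, written additively, n an integer such that 2n²·x = 0 for every x in
G, and d : G → H a quadratic map, meaning that d is pointed of degree 2 (d(x+y+z) + d(x) + d(y) +
d(z) = d(x+y) + d(x+z) + d(y+z) for all x, y, z) and even (d(−x) = d(x) for all x). Then d(2n·x) = 0
for every x in G. -/
theorem result {G : Type u} {H : Type v} [AddCommGroup G] [AddCommGroup H]
    (n : ℤ) (hn : ∀ x : G, (2 * n ^ 2) • x = 0)
    (d : G → H) (hd : ∀ x y z : G, d (x + y + z) + d x + d y + d z = d (x + y) + d (x + z) + d (y + z))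
    (heven : ∀ x : G, d (-x) = d x) (x : G) :
    d ((2 * n) • x) = 0 := by
  have d0 : d 0 = 0 := Groth.Agent.S14295.f_zero d hd
  have h1 := Groth.Agent.S14295.result d hd (2 * n) x
  rw [heven, T_even, S_even] at h1
  have h2 := Groth.Agent.S14295.result d hd 2 x
  rw [heven] at h2
  norm_num at h2
  let g : G →+ H := AddMonoidHom.mk' (fun y => d (y + x) - d y - d x) (by
    intro y z
    have := hd y z x
    linear_combination (norm := module) this)
  have h3 : g ((2 * n ^ 2) • x) = (2 * n ^ 2) • g x := map_zsmul g _ _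
  rw [hn x, map_zero] at h3
  have h4 : g x = d (x + x) - d x - d x := rfl
  have h5 : x + x = (2 : ℤ) • x := by rw [two_smul]
  rw [h5, h2] at h4
  rw [h4] at h3
  rw [h1]
  linear_combination (norm := module) -h3

end Groth.Agent.S14296
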