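import Groth.Statements.S14305
-- import your own Groth.Agent.* helpers here
import Mathlib.Algebra.BigOperators.Group.Finset.Powerset
import Mathlib.Algebra.Order.BigOperators.Group.Finset
import Mathlib.Tactic
-- import your own Groth.Agent.* helpers here

set_option autoImplicit false
universe u v
open PtDeg

namespace Groth.Agent.S14305

section aux

variable {A : Type u} {G : Type v} [AddCommGroup A] [AddCommGroup G]

theorem sum_powerset_split {ι : Type*} [DecidableEq ι] (s : Finset ι) (j : ι) (hj : j ∈ s)
    (F : Finset ι → G) :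
    ∑ I ∈ s.powerset, F I =
      ∑ t ∈ (s.erase j).powerset, F t + ∑ t ∈ (s.erase j).powerset, F (insert j t) := by
  conv_lhs => rw [← Finset.insert_erase hj]
  rw [Finset.sum_powerset_insert (Finset.notMem_erase j _)]

/-- full signed sum -/
def S (g : A → G) (n : ℕ) (z : Fin n → A) : G :=
  ∑ I ∈ (Finset.univ : Finset (Fin n)).powerset, ((-1 : ℤ) ^ (n + I.card)) • g (∑ i ∈ I, z i)

def P (g : A → G) (n : ℕ) (j : Fin n) (y : Fin n → A) : G :=
  ∑ t ∈ ((Finset.univ : Finset (Fin n)).erase j).powerset,
    ((-1 : ℤ) ^ (n + t.card)) • g (∑ i ∈ t, y i)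

theorem S_update (g : A → G) (n : ℕ) (j : Fin n) (y : Fin n → A) (c : A) :
    S g n (Function.update y j c) = P g n j y - P (fun w => g (c + w)) n j y := by
  classical
  unfold S P
  rw [sum_powerset_split _ j (Finset.mem_univ j), sub_eq_add_neg, ← Finset.sum_neg_distrib]
  congr 1
  · refine Finset.sum_congr rfl ?_
    intro t ht
    have hjt : j ∉ t := fun h => Finset.notMem_erase j _ (Finset.mem_powerset.1 ht h)
    congr 2
    refine Finset.sum_congr rfl ?_
    intro i hi
    rw [Function.update_of_ne]
    rintro rfl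
    exact hjt hi
  · refine Finset.sum_congr rfl ?_
    intro t ht
    have hjt : j ∉ t := fun h => Finset.notMem_erase j _ (Finset.mem_powerset.1 ht h)
    rw [Finset.card_insert_of_notMem hjt, Finset.sum_insert hjt, Function.update_self,
      ← add_assoc, pow_succ, mul_neg_one, neg_smul]
    congr 4
    refine Finset.sum_congr rfl ?_
    intro i hi
    rw [Function.update_of_ne]
    rintro rfl
    exact hjt hi

theorem univ_fin_succ (n : ℕ) :
    (Finset.univ : Finset (Fin (n + 1))) = insert 0 (Finset.univ.image Fin.succ) := by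
  ext i
  simp only [Finset.mem_univ, Finset.mem_insert, Finset.mem_image, true_and, true_iff]
  rcases Fin.eq_zero_or_eq_succ i with h | ⟨k, hk⟩
  · exact Or.inl h
  · exact Or.inr ⟨k, hk.symm⟩

theorem S_cons (g : A → G) (n : ℕ) (z : Fin n → A) (b : A) :
    S g (n + 1) (Fin.cons b z) = - S g n z + S (fun w => g (b + w)) n z := by
  classical
  unfold S
  have h0 : (0 : Fin (n + 1)) ∉ (Finset.univ : Finset (Fin n)).image Fin.succ := by
    simp [Fin.succ_ne_zero]
  rw [univ_fin_succ n, Finset.sum_powerset_insert h0, Finset.powerset_image,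
    Finset.sum_image (fun x _ y _ h => Finset.image_injective (Fin.succ_injective n) h),
    Finset.sum_image (fun x _ y _ h => Finset.image_injective (Fin.succ_injective n) h),
    ← Finset.sum_neg_distrib]
  congr 1
  · refine Finset.sum_congr rfl ?_
    intro J _
    rw [Finset.card_image_of_injective _ (Fin.succ_injective n),
      Finset.sum_image (fun x _ y _ h => Fin.succ_injective n h)]
    simp only [Fin.cons_succ]
    rw [add_right_comm, pow_succ, mul_neg_one, neg_smul]
  · refine Finset.sum_congr rfl ?_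
    intro J _
    have h0J : (0 : Fin (n + 1)) ∉ J.image Fin.succ := by
      simp [Fin.succ_ne_zero]
    rw [Finset.card_insert_of_notMem h0J, Finset.sum_insert h0J,
      Finset.card_image_of_injective _ (Fin.succ_injective n),
      Finset.sum_image (fun x _ y _ h => Fin.succ_injective n h)]
    simp only [Fin.cons_succ, Fin.cons_zero]
    have : n + 1 + (J.card + 1) = (n + J.card) + 2 := by ring
    rw [this, pow_add]
    simp

theorem dev_eq (f : A → G) (n : ℕ) (z : Fin n → A) :
    ∑ I ∈ ((Finset.univ : Finset (Fin n)).powerset.erase ∅),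
      ((-1 : ℤ) ^ (n + I.card)) • f (∑ i ∈ I, z i) = S f n z - ((-1 : ℤ) ^ n) • f 0 := by
  classical
  rw [Finset.sum_erase_eq_sub (Finset.empty_mem_powerset _)]
  simp [S]

theorem key (f : A → G) (n : ℕ) (j : Fin n) (y : Fin n → A) (a b : A) :
    ∑ I ∈ ((Finset.univ : Finset (Fin (n + 1))).powerset.erase ∅),
      ((-1 : ℤ) ^ (n + 1 + I.card)) • f (∑ i ∈ I, (Fin.cons b (Function.update y j a) : Fin (n + 1) → A) i) =
    ∑ I ∈ ((Finset.univ : Finset (Fin n)).powerset.erase ∅), ((-1 : ℤ) ^ (n + I.card)) • f (∑ i ∈ I, (Function.update y j (a + b)) i) -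
      ∑ I ∈ ((Finset.univ : Finset (Fin n)).powerset.erase ∅), ((-1 : ℤ) ^ (n + I.card)) • f (∑ i ∈ I, (Function.update y j a) i) -
      ∑ I ∈ ((Finset.univ : Finset (Fin n)).powerset.erase ∅), ((-1 : ℤ) ^ (n + I.card)) • f (∑ i ∈ I, (Function.update y j b) i) := by
  rw [dev_eq, dev_eq, dev_eq, dev_eq, S_cons, S_update, S_update, S_update, S_update]
  have h1 : P (fun w => f (b + w)) n j y = P (fun w => f (b + w)) n j y := rfl
  have h2 : P (fun w => (fun w => f (b + w)) (a + w)) n j y = P (fun w => f (a + b + w)) n j y := by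
    unfold P
    refine Finset.sum_congr rfl ?_
    intro t _
    simp only
    rw [← add_assoc, add_comm b a]
  rw [h2, pow_succ, mul_neg_one, neg_smul]
  abel

end aux

/-- Let A and G be abelian groups, written additively, f : A → G a map and n ≥ 1. For k ≥ 0 the k-th
deviation of f is the map A^k → G, (y_1, …, y_k) ↦ Σ_{∅ ≠ I ⊆ {1,…,k}} (−1)^{k+|I|} f(Σ_{i ∈ I}
y_i). Then f is pointed of degree n, meaning that its (n+1)-st deviation vanishes identically, if
and only if its n-th deviation is additive in each variable separately (with the other variables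
fixed). -/
theorem result {A : Type u} {G : Type v} [AddCommGroup A] [AddCommGroup G]
    (f : A → G) (n : ℕ) (hn : 1 ≤ n) :
    (∀ x : Fin (n + 1) → A, ∑ I ∈ ((Finset.univ : Finset (Fin (n + 1))).powerset.erase ∅), ((-1 : ℤ) ^ (n + 1 + I.card)) • f (∑ i ∈ I, x i) = 0) ↔
      (∀ (j : Fin n) (y : Fin n → A) (a b : A),
        ∑ I ∈ ((Finset.univ : Finset (Fin n)).powerset.erase ∅), ((-1 : ℤ) ^ (n + I.card)) • f (∑ i ∈ I, (Function.update y j (a + b)) i) =
          ∑ I ∈ ((Finset.univ : Finset (Fin n)).powerset.erase ∅), ((-1 : ℤ) ^ (n + I.card)) • f (∑ i ∈ I, (Function.update y j a) i) + ∑ I ∈ ((Finset.univ : Finset (Fin n)).powerset.erase ∅), ((-1 : ℤ) ^ (n + I.card)) • f (∑ i ∈ I, (Function.update y j b) i)) := by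
  constructor
  · intro H j y a b
    have h := key f n j y a b
    rw [H] at h
    have h' := h.symm
    rw [sub_sub, sub_eq_zero] at h'
    exact h'
  · intro H x
    have j : Fin n := ⟨0, hn⟩
    have hx : x = Fin.cons (x 0) (Function.update (Fin.tail x) j (Fin.tail x j)) := by
      rw [Function.update_eq_self, Fin.cons_self_tail]
    rw [hx, key f n j (Fin.tail x) (Fin.tail x j) (x 0), H j (Fin.tail x) (Fin.tail x j) (x 0)]
    abel

end Groth.Agent.S14305
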