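import Groth.Statements.S14309
-- import your own Groth.Agent.* helpers here
import Mathlib.Tactic
-- import your own Groth.Agent.* helpers here

set_option autoImplicit false
universe u v w x y
open CAlg

namespace Groth.Agent.S14309

theorem decomp {R : Type u} [CommRing R] {σ : Type y} (F : MvPolynomial (Option σ) R) :
    ∃ (F0 : MvPolynomial σ R) (F1 : MvPolynomial (Option σ) R),
      F = MvPolynomial.rename (Option.some : σ → Option σ) F0 + MvPolynomial.X none * F1 := by
  induction F using MvPolynomial.induction_on with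
  | C r => exact ⟨MvPolynomial.C r, 0, by simp⟩
  | add p q hp hq =>
    obtain ⟨p0, p1, hp⟩ := hp
    obtain ⟨q0, q1, hq⟩ := hq
    exact ⟨p0 + q0, p1 + q1, by rw [map_add, hp, hq]; ring⟩
  | mul_X p i hp =>
    obtain ⟨p0, p1, hp⟩ := hp
    cases i with
    | none =>
      exact ⟨0, MvPolynomial.rename (Option.some : σ → Option σ) p0 + MvPolynomial.X none * p1,
        by rw [map_zero, hp]; ring⟩
    | some s =>
      exact ⟨p0 * MvPolynomial.X s, p1 * MvPolynomial.X (some s),
        by rw [map_mul, MvPolynomial.rename_X, hp]; ring⟩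

theorem mul_mem_of_mem_span {S : Type*} [CommRing S] (z : S) (T : Set S) (J : Ideal S)
    (hT : ∀ t ∈ T, z * t ∈ J) (F : S) (hF : F ∈ Ideal.span T) : z * F ∈ J := by
  induction hF using Submodule.span_induction with
  | mem t ht => exact hT t ht
  | zero => rw [mul_zero]; exact J.zero_mem
  | add a b _ _ iha ihb => rw [mul_add]; exact J.add_mem iha ihb
  | smul c a _ iha =>
    rw [smul_eq_mul, mul_left_comm]
    exact J.mul_mem_left c iha

/-- Let R be a commutative ring; A, B, C commutative R-algebras; i : A → B and j : A → C jointly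
injective R-algebra maps; c a non-zero-divisor of B; u : C → B/(c) a ring map with u ∘ j equal to i
followed by reduction modulo c; ζ in A with i ζ = c and j ζ = 0; η : R[X_σ, Z] → A an R-algebra map
with η(Z) = ζ; a : R[Y_τ] → B a surjective R-algebra map; η_Z : R[X_σ, Z] → R[Y_τ] a surjective
R-algebra map with a ∘ η_Z = i ∘ η. Fix c̃ in R[Y_τ] with a(c̃) = c, a family (p_h) generating the
kernel of the composite R[X_σ] → R[X_σ, Z] → A → C, a family (q'_h) generating the kernel of a
together with lifts q_h along η_Z, a family (v_h) generating the kernel of η_Z, and elements g'_h of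
R[Y_τ] with η_Z(p_h) + g'_h c̃ in the ideal (q'_h), together with lifts g_h along η_Z. Then the
kernel of η is the ideal generated by the elements Z q_h, Z v_h and p_h + Z g_h. (The published
statement is for the rings of cycle classes, with coefficients ℤ[1/6], of a smooth quotient stack, a
smooth closed substack whose normal bundle has top Chern class c a non-zero-divisor, and the open
complement; this row states the ring-theoretic content for any such square of commutative rings in
which A embeds in B × C.) -/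
theorem result
    {R : Type u} [CommRing R] {A : Type v} {B : Type w} {C : Type x}
    [CommRing A] [CommRing B] [CommRing C] [Algebra R A] [Algebra R B] [Algebra R C]
    (i : A →ₐ[R] B) (j : A →ₐ[R] C)
    (hinj : ∀ t : A, i t = 0 → j t = 0 → t = 0)
    (c : B) (hc : c ∈ nonZeroDivisors B) (u : C →+* B ⧸ Ideal.span ({c} : Set B))
    (hu : ∀ t : A, u (j t) = Ideal.Quotient.mk (Ideal.span ({c} : Set B)) (i t))
    (ζ : A) (hiζ : i ζ = c) (hjζ : j ζ = 0)
    {σ τ ιp ιq ιv : Type y}
    (η : MvPolynomial (Option σ) R →ₐ[R] A) (hη : η (MvPolynomial.X none) = ζ)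
    (a : MvPolynomial τ R →ₐ[R] B) (ha : Function.Surjective a)
    (ηZ : MvPolynomial (Option σ) R →ₐ[R] MvPolynomial τ R)
    (hcomm : ∀ t, a (ηZ t) = i (η t)) (hηZ : Function.Surjective ηZ)
    (cZ : MvPolynomial τ R) (hcZ : a cZ = c)
    (p : ιp → MvPolynomial σ R)
    (hp : Ideal.span (Set.range p) =
      RingHom.ker ((j.comp η).comp (MvPolynomial.rename (Option.some : σ → Option σ))))
    (q' : ιq → MvPolynomial τ R) (hq' : Ideal.span (Set.range q') = RingHom.ker a)
    (q : ιq → MvPolynomial (Option σ) R) (hq : ∀ h, ηZ (q h) = q' h)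
    (v : ιv → MvPolynomial (Option σ) R) (hv : Ideal.span (Set.range v) = RingHom.ker ηZ)
    (g' : ιp → MvPolynomial τ R)
    (hg' : ∀ h, ηZ (MvPolynomial.rename (Option.some : σ → Option σ) (p h)) + g' h * cZ ∈
      Ideal.span (Set.range q'))
    (g : ιp → MvPolynomial (Option σ) R) (hg : ∀ h, ηZ (g h) = g' h) :
    RingHom.ker η = Ideal.span
      (Set.range (fun h : ιq => MvPolynomial.X none * q h) ∪
        Set.range (fun h : ιv => MvPolynomial.X none * v h) ∪
        Set.range (fun h : ιp =>
          MvPolynomial.rename (Option.some : σ → Option σ) (p h) + MvPolynomial.X none * g h)) := by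
  set Z : MvPolynomial (Option σ) R := MvPolynomial.X none with hZ
  set ρ : MvPolynomial σ R →ₐ[R] MvPolynomial (Option σ) R :=
    MvPolynomial.rename (Option.some : σ → Option σ) with hρ
  set J : Ideal (MvPolynomial (Option σ) R) := Ideal.span
      (Set.range (fun h : ιq => Z * q h) ∪
        Set.range (fun h : ιv => Z * v h) ∪
        Set.range (fun h : ιp => ρ (p h) + Z * g h)) with hJ
  have hJq : ∀ h, Z * q h ∈ J := fun h => Ideal.subset_span (Or.inl (Or.inl ⟨h, rfl⟩))
  have hJv : ∀ h, Z * v h ∈ J := fun h => Ideal.subset_span (Or.inl (Or.inr ⟨h, rfl⟩))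
  have hJp : ∀ h, ρ (p h) + Z * g h ∈ J := fun h => Ideal.subset_span (Or.inr ⟨h, rfl⟩)
  have haZ : a (ηZ Z) = c := by rw [hcomm, hη, hiζ]
  have hq'0 : ∀ h, a (q' h) = 0 := by
    intro h
    have : q' h ∈ RingHom.ker a := hq' ▸ Ideal.subset_span ⟨h, rfl⟩
    exact this
  have hv0 : ∀ h, ηZ (v h) = 0 := by
    intro h
    have : v h ∈ RingHom.ker ηZ := hv ▸ Ideal.subset_span ⟨h, rfl⟩
    exact this
  have hp0 : ∀ h, j (η (ρ (p h))) = 0 := by
    intro h
    have : p h ∈ RingHom.ker ((j.comp η).comp ρ) := hp ▸ Ideal.subset_span ⟨h, rfl⟩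
    exact this
  have hle : J ≤ RingHom.ker η := by
    rw [hJ, Ideal.span_le]
    rintro _ ((⟨h, rfl⟩ | ⟨h, rfl⟩) | ⟨h, rfl⟩)
    · show η (Z * q h) = 0
      apply hinj
      · rw [← hcomm, map_mul, map_mul, hq, hq'0, mul_zero]
      · rw [map_mul, map_mul, hη, hjζ, zero_mul]
    · show η (Z * v h) = 0
      apply hinj
      · rw [← hcomm, map_mul, map_mul, hv0, map_zero, mul_zero]
      · rw [map_mul, map_mul, hη, hjζ, zero_mul]
    · show η (ρ (p h) + Z * g h) = 0
      apply hinj
      · rw [← hcomm, map_add, map_mul, map_add, map_mul, haZ, hg]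
        have h0 : a (ηZ (ρ (p h)) + g' h * cZ) = 0 := by
          have : ηZ (ρ (p h)) + g' h * cZ ∈ RingHom.ker a := hq' ▸ hg' h
          exact this
        rw [map_add, map_mul, hcZ] at h0
        rw [← h0]
        ring
      · rw [map_add η, map_add j, map_mul η, map_mul j, hη, hjζ, zero_mul, add_zero]
        exact hp0 h
  refine le_antisymm ?_ hle
  intro F hF
  have hF0 : η F = 0 := hF
  obtain ⟨F0, F1, rfl⟩ := decomp F
  -- F0 in span p
  have hF0mem : F0 ∈ Ideal.span (Set.range p) := by
    rw [hp]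
    show j (η (ρ F0)) = 0
    have := congrArg j hF0
    rw [map_add, map_add, map_mul, map_mul, hη, hjζ, zero_mul, add_zero, map_zero] at this
    exact this
  -- claim A
  have claimA : ∀ F0 ∈ Ideal.span (Set.range p), ∃ G, ρ F0 + Z * G ∈ J := by
    intro F0 hF0
    induction hF0 using Submodule.span_induction with
    | mem t ht =>
      obtain ⟨h, rfl⟩ := ht
      exact ⟨g h, hJp h⟩
    | zero => exact ⟨0, by rw [map_zero, mul_zero, add_zero]; exact J.zero_mem⟩
    | add s t _ _ ihs iht =>
      obtain ⟨G1, h1⟩ := ihs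
      obtain ⟨G2, h2⟩ := iht
      refine ⟨G1 + G2, ?_⟩
      have := J.add_mem h1 h2
      convert this using 1
      rw [map_add]; ring
    | smul r t _ iht =>
      obtain ⟨G, h1⟩ := iht
      refine ⟨ρ r * G, ?_⟩
      have := J.mul_mem_left (ρ r) h1
      convert this using 1
      rw [smul_eq_mul, map_mul]; ring
  obtain ⟨G, hG⟩ := claimA F0 hF0mem
  have hGker : η (ρ F0 + Z * G) = 0 := hle hG
  have hrest : η (Z * (F1 - G)) = 0 := by
    have : Z * (F1 - G) = (ρ F0 + Z * F1) - (ρ F0 + Z * G) := by ring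
    rw [this, map_sub, hF0, hGker, sub_zero]
  have ha0 : a (ηZ (F1 - G)) = 0 := by
    have h1 : i (η (Z * (F1 - G))) = 0 := by rw [hrest, map_zero]
    rw [map_mul, map_mul, hη, hiζ, ← hcomm] at h1
    exact (mul_right_mem_nonZeroDivisors_eq_zero_iff hc).1 (by rw [mul_comm]; exact h1)
  -- claim B
  have hmemq' : ηZ (F1 - G) ∈ Ideal.span (Set.range q') := by
    rw [hq']; exact ha0
  have hq'map : Ideal.span (Set.range q') = Ideal.map ηZ (Ideal.span (Set.range q)) := by
    rw [Ideal.map_span]
    congr 1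
    ext t
    constructor
    · rintro ⟨h, rfl⟩
      exact ⟨q h, ⟨h, rfl⟩, hq h⟩
    · rintro ⟨_, ⟨h, rfl⟩, rfl⟩
      exact ⟨h, (hq h).symm⟩
  rw [hq'map] at hmemq'
  obtain ⟨E, hE, hEeq⟩ := (Ideal.mem_map_iff_of_surjective ηZ hηZ).1 hmemq'
  have hker : F1 - G - E ∈ Ideal.span (Set.range v) := by
    rw [hv]
    show ηZ (F1 - G - E) = 0
    rw [map_sub ηZ (F1 - G) E, hEeq, sub_self]
  have h1 : Z * E ∈ J := mul_mem_of_mem_span Z _ J (by rintro _ ⟨h, rfl⟩; exact hJq h) E hE
  have h2 : Z * (F1 - G - E) ∈ J :=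
    mul_mem_of_mem_span Z _ J (by rintro _ ⟨h, rfl⟩; exact hJv h) _ hker
  have : ρ F0 + Z * F1 = (ρ F0 + Z * G) + Z * E + Z * (F1 - G - E) := by ring
  rw [this]
  exact J.add_mem (J.add_mem hG h1) h2

end Groth.Agent.S14309
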