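import Groth.Statements.S14312
import Groth.Agent.Lib.Helper18.Quartic

set_option autoImplicit false
universe u
open Curves

namespace Groth.Agent.S14312


open MvPolynomial Groth.Agent.Lib.Helper18.Quartic in
theorem core
    {k : Type u} [Field k] [IsAlgClosed k] (f : MvPolynomial (Fin 3) k)
    (hf : f.IsHomogeneous 4) (hred : Squarefree f) :
    ∃ s : Finset (Projectivization k (Fin 3 → k)), s.card ≤ 6 ∧
      ∀ p : Projectivization k (Fin 3 → k),
        MvPolynomial.eval p.rep f = 0 →
          (∀ i : Fin 3, MvPolynomial.eval p.rep (MvPolynomial.pderiv i f) = 0) → p ∈ s := by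
  classical
  have hf0 : f ≠ 0 := hred.ne_zero
  have hfu : ¬ IsUnit f := by
    intro hu
    obtain ⟨u, hu'⟩ := hu.exists_right_inv
    have hu0 : u ≠ 0 := by
      rintro rfl
      rw [mul_zero] at hu'
      exact zero_ne_one hu'
    have := totalDegree_mul_of_isDomain hf0 hu0
    rw [hu', totalDegree_one, hf.totalDegree hf0] at this
    omega
  obtain ⟨v, hg0, hrel⟩ := exists_polar_isRelPrime f hf0 hfu hred
  have hg : (polar v f).IsHomogeneous 3 := polar_isHomogeneous v f 4 hf
  let Sing : Set (Projectivization k (Fin 3 → k)) :=
    {p | eval p.rep f = 0 ∧ ∀ i, eval p.rep (pderiv i f) = 0}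
  by_cases hcard : Sing.encard ≤ 6
  · have hfin := Set.finite_of_encard_le_coe (k := 6) hcard
    refine ⟨hfin.toFinset, ?_, fun p h1 h2 => hfin.mem_toFinset.mpr ⟨h1, h2⟩⟩
    rw [hfin.encard_eq_coe_toFinset_card] at hcard
    exact_mod_cast hcard
  · exfalso
    push Not at hcard
    have h7 : ((7 : ℕ) : ℕ∞) ≤ Sing.encard := by
      have := Order.add_one_le_of_lt hcard
      norm_num at this ⊢
      exact this
    obtain ⟨t, htS, ht7⟩ := Set.exists_subset_encard_eq h7
    have htfin : t.Finite := Set.finite_of_encard_eq_coe ht7
    have hc7 : htfin.toFinset.card = 7 := by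
      rw [htfin.encard_eq_coe_toFinset_card] at ht7
      exact_mod_cast ht7
    let e := (htfin.toFinset.equivFinOfCardEq hc7).symm
    let pt : Fin 7 → Projectivization k (Fin 3 → k) := fun i => (e i).1
    have hpt_inj : Function.Injective pt := Subtype.val_injective.comp e.injective
    have hpt_sing : ∀ i, pt i ∈ Sing := fun i => htS (htfin.mem_toFinset.mp (e i).2)
    let P : Fin 7 → Fin 3 → k := fun i => (pt i).rep
    have hP0 : ∀ i, P i ≠ 0 := fun i => (pt i).rep_nonzero
    have hP : ∀ i j, j ≠ i → P i ∉ Submodule.span k {P j} := by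
      intro i j hj hmem
      obtain ⟨a, ha⟩ := Submodule.mem_span_singleton.mp hmem
      apply hj
      apply hpt_inj
      rw [← (pt j).mk_rep, ← (pt i).mk_rep]
      exact ((Projectivization.mk_eq_mk_iff' k _ _ _ _).mpr ⟨a, ha⟩).symm
    have hw : ∀ i, ∃ w : Fin 3 → k, dP (P i) w (polar v f) = 0 ∧ w ∉ Submodule.span k {P i} :=
      fun i => exists_tangent (P i) (hP0 i) (polar v f)
    choose w hw0 hw1 using hw
    refine seven_false f (polar v f) hf hg hf0 hg0 hrel P w hP hP0 hw1 ?_
    intro i h hh
    refine vanish_on_ideal (P i) (w i) f (polar v f) (hpt_sing i).1 (hpt_sing i).2 ?_ (hw0 i) h hh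
    rw [eval_polar]
    exact dP_eq_zero_of_sing _ _ _ (hpt_sing i).2


/-- Over an algebraically closed field k, a reduced plane quartic — the zero locus in the projective
plane of a square-free homogeneous polynomial f of degree 4 in three variables — has at most 6
singular points, a singular point being a point of the projective plane at which f and its three
first partial derivatives vanish. (No hypothesis on the characteristic of k is imposed here. The
further assertions describing the quartics with exactly 5 or exactly 6 singular points are not part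
of this row.) -/
theorem result
    {k : Type u} [Field k] [IsAlgClosed k] (f : MvPolynomial (Fin 3) k)
    (hf : f.IsHomogeneous 4) (hred : Squarefree f) :
    ∃ s : Finset (Projectivization k (Fin 3 → k)), s.card ≤ 6 ∧
      ∀ p : Projectivization k (Fin 3 → k),
        MvPolynomial.eval p.rep f = 0 →
          (∀ i : Fin 3, MvPolynomial.eval p.rep (MvPolynomial.pderiv i f) = 0) → p ∈ s := by
  exact core f hf hred

end Groth.Agent.S14312
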