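import Groth.Statements.S14330
-- import your own Groth.Agent.* helpers here
import Groth.Agent.Lib.Helper64.HartogsRing
import Groth.Agent.Lib.Helper72.SchDense
import Groth.Agent.Lib.Helper77.FlatDepth2
import Groth.Agent.Lib.Helper35.Gen2

set_option autoImplicit false
universe u
open CategoryTheory CategoryTheory.Limits AlgebraicGeometry Opposite
open GrpSch

namespace Groth.Agent.S14330

open Groth.Agent.Lib.Helper35.Gen Groth.Agent.Lib.Helper35.AbSheaf

variable {X : Scheme.{u}}

theorem injective_rs_of_isGen {L : X.Modules} {U : X.Opens} {e : Γ(L, U)} (he : IsGen L U e)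
    {W W' : X.Opens} (hW : W ≤ U) (hW' : W' ≤ W)
    (h : Function.Injective (rr X hW')) : Function.Injective (rs L hW') := by
  intro s t hst
  obtain ⟨a, rfl⟩ := (he W hW).2 s
  obtain ⟨b, rfl⟩ := (he W hW).2 t
  simp only at hst ⊢
  rw [rs_smul, rs_smul, rs_rs] at hst
  have := (he W' (hW'.trans hW)).1 hst
  rw [h this]

theorem surjective_rs_of_isGen {L : X.Modules} {U : X.Opens} {e : Γ(L, U)} (he : IsGen L U e)
    {W W' : X.Opens} (hW : W ≤ U) (hW' : W' ≤ W)
    (h : Function.Surjective (rr X hW')) : Function.Surjective (rs L hW') := by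
  intro t
  obtain ⟨b, rfl⟩ := (he W' (hW'.trans hW)).2 t
  obtain ⟨a, rfl⟩ := h b
  exact ⟨a • rs L hW e, by rw [rs_smul, rs_rs]⟩

theorem injective_main {L : X.Modules} (hL : PicF.IsInvertible L) (U0 : X.Opens)
    (h : ∀ V' : X.Opens, Function.Injective (rr X (inf_le_left : V' ⊓ U0 ≤ V'))) (V : X.Opens) :
    Function.Injective (rs L (inf_le_left : V ⊓ U0 ≤ V)) := by
  intro s t hst
  choose U hxU e he using fun x : X => exists_isGen_of_isInvertible hL x
  refine ext_cover L.presheaf L.isSheaf (fun x : X => V ⊓ U x) (fun x => inf_le_left) ?_ s t ?_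
  · intro y hy
    exact TopologicalSpace.Opens.mem_iSup.mpr ⟨y, hy, hxU y⟩
  · intro x
    have hinj := injective_rs_of_isGen (he x) (W := V ⊓ U x) (W' := (V ⊓ U x) ⊓ U0)
      inf_le_right inf_le_left (h _)
    apply hinj
    have key : ∀ r : Γ(L, V), rs L (inf_le_left : (V ⊓ U x) ⊓ U0 ≤ V ⊓ U x) (rs L inf_le_left r) =
        rs L (inf_le_inf_right U0 inf_le_left : (V ⊓ U x) ⊓ U0 ≤ V ⊓ U0) (rs L inf_le_left r) := by
      intro r
      rw [rs_rs, rs_rs]
    change rs L _ (rs L _ s) = rs L _ (rs L _ t)
    rw [key s, key t, hst]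

theorem bijective_main {L : X.Modules} (hL : PicF.IsInvertible L) (U0 : X.Opens)
    (h : ∀ V' : X.Opens, Function.Bijective (rr X (inf_le_left : V' ⊓ U0 ≤ V'))) (V : X.Opens) :
    Function.Bijective (rs L (inf_le_left : V ⊓ U0 ≤ V)) := by
  choose U hxU e he using fun x : X => exists_isGen_of_isInvertible hL x
  refine bijective_res_inf_of_local L.presheaf L.isSheaf U0 U (fun x => ⟨x, hxU x⟩) ?_ V
  intro V' i hV'
  exact ⟨injective_rs_of_isGen (he i) hV' inf_le_left (h V').1,
    surjective_rs_of_isGen (he i) hV' inf_le_left (h V').2⟩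

open Groth.Agent.Lib.Helper64.HartogsRing Groth.Agent.Lib.Helper72 in

/-- Let S be a locally Noetherian scheme, f : A → S a smooth morphism, L an invertible O_A-module and V
an open subscheme of S; for an open W of S consider the restriction of sections of L from f⁻¹(W) to
f⁻¹(W) ∩ f⁻¹(V), that is the component over W of the natural map f_*L → j_*j^*(f_*L), j : V → S the
inclusion. If V is schematically dense in S, all these restrictions are injective. If V is a big
open of S, meaning that the local ring of S at every point outside V has depth at least 2, all these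
restrictions are bijective. (The published statement is for a semi-stable group scheme A; its proof
uses only the smoothness of A over S and the local freeness of L, which are the hypotheses kept
here.) -/
theorem result {S A : Scheme.{u}} [IsLocallyNoetherian S]
    (f : A ⟶ S) [Smooth f] (L : A.Modules) (hL : PicF.IsInvertible L) (V : S.Opens) :
    (CInt.IsSchematicallyDense V →
      ∀ W : S.Opens, Function.Injective (L.val.map (homOfLE (inf_le_left : f ⁻¹ᵁ W ⊓ f ⁻¹ᵁ V ≤ f ⁻¹ᵁ W)).op)) ∧
    ((∀ x : S, x ∉ V → 2 ≤ LocCoh.depth (S.presheaf.stalk x) (S.presheaf.stalk x)) →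
      ∀ W : S.Opens, Function.Bijective (L.val.map (homOfLE (inf_le_left : f ⁻¹ᵁ W ⊓ f ⁻¹ᵁ V ≤ f ⁻¹ᵁ W)).op)) := by
  haveI : Flat f := inferInstance
  haveI : LocallyOfFiniteType f := inferInstance
  haveI : IsLocallyNoetherian A := LocallyOfFiniteType.isLocallyNoetherian f
  constructor
  · intro hV W
    have hd : CInt.IsSchematicallyDense (f ⁻¹ᵁ V) := SchDense.preimage_of_flat f V hV
    exact injective_main hL (f ⁻¹ᵁ V) (fun V' => hd V') (f ⁻¹ᵁ W)
  · intro hdepth W
    have hreg : ∀ a : A, a ∉ f ⁻¹ᵁ V → HasRegPair (A.presheaf.stalk a) := by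
      intro a ha
      apply hasRegPair_of_two_le_depth
      have h2 := hdepth (f.base a) ha
      letI : Algebra (S.presheaf.stalk (f.base a)) (A.presheaf.stalk a) :=
        (f.stalkMap a).hom.toAlgebra
      haveI : IsLocalHom (algebraMap (S.presheaf.stalk (f.base a)) (A.presheaf.stalk a)) :=
        inferInstanceAs (IsLocalHom (f.stalkMap a).hom)
      haveI : Module.Flat (S.presheaf.stalk (f.base a)) (A.presheaf.stalk a) :=
        Flat.stalkMap f a
      rw [Groth.Agent.Lib.Helper77.FlatDepth.depth_ring_eq_add (S.presheaf.stalk (f.base a))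
        (A.presheaf.stalk a)]
      exact le_trans h2 le_self_add
    have hO := fun V' => bijective_res_inf (f ⁻¹ᵁ V) hreg V'
    exact bijective_main hL (f ⁻¹ᵁ V) hO (f ⁻¹ᵁ W)

end Groth.Agent.S14330
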