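import Groth.Statements.S14345
import Groth.Agent.Lib.Helper75.Fitting11

set_option autoImplicit false
universe u v
open TensorProduct
open QuotLF

namespace Groth.Agent.S14345

/-- Let R be a commutative ring, M a finitely generated R-module and k ≥ 0. If for an R-algebra A the
module A ⊗_R M admits a quotient that is finite projective of constant rank k (an A-valued point of
the Quot scheme of rank-k locally free quotients of M), then every Fitting ideal Fit_j(M) with j < k
extends to the zero ideal of A; that is, the structure map of the Quot scheme of rank-k locally free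
quotients factors through the closed subscheme cut out by Fit_{k-1}(M). -/
theorem result (R : Type u) [CommRing R]
    (M : Type v) [AddCommGroup M] [Module R M] [Module.Finite R M] (k : ℕ)
    (A : Type u) [CommRing A] [Algebra R A] (N : Module.Grassmannian A (A ⊗[R] M) k)
    (j : ℕ) (hj : j < k) :
    (Fitt.ideal R M j).map (algebraMap R A) = ⊥ := by
  rw [← Groth.Agent.Lib.Helper75.Fitting.fitt_baseChange (R' := A) (M := M) j, eq_bot_iff]
  have h1 := Groth.Agent.Lib.Helper75.Fitting.fitt_le_of_surjective
    (N.toSubmodule.mkQ) (Submodule.mkQ_surjective _) j
  have h2 := Groth.Agent.Lib.Helper75.Fitting.fitt_eq_bot_of_rankAtStalk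
    (Q := (A ⊗[R] M) ⧸ N.toSubmodule) k N.rankAtStalk_eq j hj
  rw [h2] at h1
  exact h1

end Groth.Agent.S14345
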