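import Groth.Statements.S14346
import Mathlib.RingTheory.Flat.LocallyFree
-- import your own Groth.Agent.* helpers here

set_option autoImplicit false
universe u v
open TensorProduct
open QuotLF

namespace Groth.Agent.S14346

/-- Let R be a commutative ring, M an R-module, k ≥ 0, and A an R-algebra for which A ⊗_R M is finite
projective of constant rank k, i.e. Spec A → Spec R factors through the locally closed stratum where
M is locally free of rank k. Then A ⊗_R M has exactly one rank-k locally free quotient: the zero
submodule has finite projective quotient of constant rank k, and every submodule with such a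
quotient is zero. In other words the Quot scheme of rank-k locally free quotients of M restricted to
that stratum maps isomorphically onto it. -/
theorem result (R : Type u) [CommRing R]
    (M : Type v) [AddCommGroup M] [Module R M] (k : ℕ)
    (A : Type u) [CommRing A] [Algebra R A] [Module.Finite A (A ⊗[R] M)] [Module.Projective A (A ⊗[R] M)]
    (hk : ∀ p : PrimeSpectrum A, Module.rankAtStalk (R := A) (A ⊗[R] M) p = k) :
    (∃ N : Module.Grassmannian A (A ⊗[R] M) k, N.toSubmodule = ⊥) ∧
      ∀ N : Module.Grassmannian A (A ⊗[R] M) k, N.toSubmodule = ⊥ := by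
  refine ⟨?_, ?_⟩
  · let e : ((A ⊗[R] M) ⧸ (⊥ : Submodule A (A ⊗[R] M))) ≃ₗ[A] (A ⊗[R] M) :=
      Submodule.quotEquivOfEqBot ⊥ rfl
    refine ⟨⟨⊥, Module.Finite.equiv e.symm, Module.Projective.of_equiv e.symm, ?_⟩, rfl⟩
    intro p
    rw [Module.rankAtStalk_eq_of_equiv e, hk p]
  · intro N
    have hs : Function.Surjective N.toSubmodule.mkQ := Submodule.mkQ_surjective _
    have hb : Function.Bijective N.toSubmodule.mkQ := by
      refine Module.bijective_of_surjective_of_rankAtStalk_eq hs ?_
      intro m _
      rw [hk, N.rankAtStalk_eq]
    have := LinearMap.ker_eq_bot_of_injective hb.1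
    rwa [Submodule.ker_mkQ] at this

end Groth.Agent.S14346
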