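import Groth.Statements.S14351
import Mathlib.RingTheory.Flat.FaithfullyFlat.Algebra
-- import your own Groth.Agent.* helpers here

set_option autoImplicit false
universe u
open CAlg

namespace Groth.Agent.S14351

open TensorProduct in
theorem flat_aux (A B C : Type u) [CommRing A] [CommRing B]
    [CommRing C] [Algebra A B] [Algebra B C] [Algebra A C] [IsScalarTower A B C]
    [Module.FaithfullyFlat B C] [Module.Flat A C] : Module.Flat A B := by
  rw [Module.Flat.iff_lTensor_preserves_injective_linearMap]
  intro N P _ _ _ _ f hf
  have h1 : Function.Injective (f.baseChange C) :=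
    Module.Flat.lTensor_preserves_injective_linearMap (M := C) f hf
  have h2 : Function.Injective ((f.baseChange B).baseChange C) := by
    have h : (f.baseChange B).baseChange C =
        (AlgebraTensorModule.cancelBaseChange A B C C P).symm.toLinearMap ∘ₗ f.baseChange C ∘ₗ
          (AlgebraTensorModule.cancelBaseChange A B C C N).toLinearMap := by
      ext x
      simp
    rw [h]
    exact (AlgebraTensorModule.cancelBaseChange A B C C P).symm.injective.comp
      (h1.comp (AlgebraTensorModule.cancelBaseChange A B C C N).injective)
  have h3 : Function.Injective (f.baseChange B) := by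
    rw [← Module.FaithfullyFlat.lTensor_injective_iff_injective B C]
    exact h2
  exact h3

/-- For ring maps A → B → C with C faithfully flat over B and C faithfully flat over A, the ring B is
faithfully flat over A. -/
theorem result (A B C : Type u) [CommRing A] [CommRing B]
    [CommRing C] [Algebra A B] [Algebra B C] [Algebra A C] [IsScalarTower A B C]
    [Module.FaithfullyFlat B C] [Module.FaithfullyFlat A C] : Module.FaithfullyFlat A B := by
  haveI : Module.Flat A B := flat_aux A B C
  refine Module.FaithfullyFlat.of_comap_surjective ?_
  have h := PrimeSpectrum.comap_surjective_of_faithfullyFlat (A := A) (B := C)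
  intro p
  obtain ⟨q, hq⟩ := h p
  refine ⟨PrimeSpectrum.comap (algebraMap B C) q, ?_⟩
  rw [← hq]
  ext x
  simp [IsScalarTower.algebraMap_apply A B C]

end Groth.Agent.S14351
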