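import Groth.Statements.S14352
import Mathlib

set_option autoImplicit false
universe u
open Mor

namespace Groth.Agent.S14352

section Aux
open TensorProduct CategoryTheory CategoryTheory.Limits AlgebraicGeometry

/-- Lemma U: a finite type reduced algebra with discrete spectrum over an algebraically closed
field is formally unramified. -/
theorem formallyUnramified_of_isReduced_of_discrete (K B : Type u) [Field K] [IsAlgClosed K]
    [CommRing B] [Algebra K B] [Algebra.FiniteType K B] [IsReduced B]
    [DiscreteTopology (PrimeSpectrum B)] : Algebra.FormallyUnramified K B := by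
  have hN : IsNoetherianRing B := Algebra.FiniteType.isNoetherianRing K B
  obtain ⟨_, hdim⟩ := PrimeSpectrum.discreteTopology_iff_finite_and_krullDimLE_zero.mp
    (inferInstance : DiscreteTopology (PrimeSpectrum B))
  have hA : IsArtinianRing B := isArtinianRing_iff_krullDimLE_zero.mpr hdim
  have hfin : Module.Finite K B := (Module.finite_iff_isArtinianRing K B).mpr hA
  letI (m : MaximalSpectrum B) : Field (B ⧸ m.asIdeal) := Ideal.Quotient.field m.asIdeal
  let e : B ≃ₐ[K] (∀ m : MaximalSpectrum B, B ⧸ m.asIdeal) :=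
    (IsArtinianRing.equivPi B).restrictScalars K
  have : Algebra.FormallyUnramified K (∀ m : MaximalSpectrum B, B ⧸ m.asIdeal) := by
    rw [Algebra.FormallyUnramified.pi_iff]
    intro m
    have : Module.Finite K (B ⧸ m.asIdeal) := Module.Finite.of_surjective
      (Ideal.Quotient.mkₐ K m.asIdeal).toLinearMap Ideal.Quotient.mk_surjective
    have : Algebra.IsIntegral K (B ⧸ m.asIdeal) := Algebra.IsIntegral.of_finite K _
    have hbij := IsAlgClosed.algebraMap_bijective_of_isIntegral (k := K) (K := B ⧸ m.asIdeal)
    exact Algebra.FormallyUnramified.of_surjective (Algebra.ofId K (B ⧸ m.asIdeal)) hbij.2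
  exact Algebra.FormallyUnramified.of_equiv e.symm



attribute [local instance] Algebra.TensorProduct.rightAlgebra in
/-- RL: finite type algebra all of whose geometric fibres are reduced and discrete is formally
unramified. -/
theorem formallyUnramified_of_geometric_fibres (R A : Type u) [CommRing R] [CommRing A]
    [Algebra R A] [Algebra.FiniteType R A]
    (H : ∀ (K : Type u) [Field K] [IsAlgClosed K] [Algebra R K],
      IsReduced (K ⊗[R] A) ∧ DiscreteTopology (PrimeSpectrum (K ⊗[R] A))) :
    Algebra.FormallyUnramified R A := by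
  constructor
  by_contra hΩ
  rw [not_subsingleton_iff_nontrivial] at hΩ
  obtain ⟨q, hq⟩ : (Module.support A Ω[A⁄R]).Nonempty := by
    rw [Set.nonempty_iff_ne_empty, Ne, Module.support_eq_empty_iff]
    exact not_subsingleton_iff_nontrivial.mpr hΩ
  rw [Module.mem_support_iff_nontrivial_residueField_tensorProduct] at hq
  set κ := q.asIdeal.ResidueField
  obtain ⟨x, hx⟩ := exists_ne (0 : κ ⊗[A] Ω[A⁄R])
  obtain ⟨ℓ, hℓ⟩ : ∃ ℓ : Module.Dual κ (κ ⊗[A] Ω[A⁄R]), ℓ x ≠ 0 := by
    by_contra hcon
    push Not at hcon
    exact hx ((Module.forall_dual_apply_eq_zero_iff κ x).mp hcon)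
  let g : Ω[A⁄R] →ₗ[A] κ := (ℓ.restrictScalars A) ∘ₗ (TensorProduct.mk A κ Ω[A⁄R] 1)
  obtain ⟨ω, hω⟩ : ∃ ω, g ω ≠ 0 := by
    by_contra hcon
    push Not at hcon
    have hℓ0 : ∀ z, ℓ z = 0 := by
      intro z
      induction z using TensorProduct.induction_on with
      | zero => simp
      | tmul c ω =>
        have : c ⊗ₜ[A] ω = c • ((1 : κ) ⊗ₜ[A] ω) := by
          rw [TensorProduct.smul_tmul', smul_eq_mul, mul_one]
        rw [this, map_smul]
        have h0 : ℓ ((1 : κ) ⊗ₜ[A] ω) = 0 := hcon ω
        rw [h0, smul_zero]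
      | add x y hx' hy' => rw [map_add, hx', hy', add_zero]
    exact hℓ (hℓ0 x)
  let K := AlgebraicClosure κ
  obtain ⟨hred, hdisc⟩ := H K
  have hU : Algebra.FormallyUnramified K (K ⊗[R] A) :=
    formallyUnramified_of_isReduced_of_discrete K (K ⊗[R] A)
  have hsub : Subsingleton Ω[K ⊗[R] A⁄K] := inferInstance
  have hsub2 : Subsingleton (K ⊗[R] Ω[A⁄R]) :=
    (KaehlerDifferential.tensorKaehlerEquivBase R K A (K ⊗[R] A)).toEquiv.subsingleton
  let gR : Ω[A⁄R] →ₗ[R] K :=
    (IsScalarTower.toAlgHom R κ K).toLinearMap ∘ₗ (g.restrictScalars R)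
  let T : K ⊗[R] Ω[A⁄R] →ₗ[R] K := TensorProduct.lift ((LinearMap.mul R K).compl₂ gR)
  have hT : T ((1 : K) ⊗ₜ[R] ω) = algebraMap κ K (g ω) := by
    simp [T, gR]
  have h0 : ((1 : K) ⊗ₜ[R] ω : K ⊗[R] Ω[A⁄R]) = 0 := Subsingleton.elim _ _
  rw [h0, map_zero] at hT
  exact hω ((map_eq_zero (algebraMap κ K)).mp hT.symm)



/-- Lemma D -/
theorem isReduced_and_discrete_of_formallyUnramified (K A : Type u) [Field K] [CommRing A]
    [Algebra K A] [Algebra.FiniteType K A] [Algebra.FormallyUnramified K A] :
    IsReduced A ∧ DiscreteTopology (PrimeSpectrum A) := by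
  have hfin : Module.Finite K A := Algebra.FormallyUnramified.finite_of_free K A
  have hred : IsReduced A := Algebra.FormallyUnramified.isReduced_of_field K A
  have hA : IsArtinianRing A := isArtinian_of_tower K inferInstance
  exact ⟨hred, inferInstance⟩

/-- Lemma S1 -/
theorem spec_isReduced_and_discrete (K : Type u) [Field K] (B : CommRingCat.{u})
    (h : Spec B ⟶ Spec (CommRingCat.of K)) [LocallyOfFiniteType h] [FormallyUnramified h] :
    _root_.IsReduced B ∧ DiscreteTopology (PrimeSpectrum B) := by
  obtain ⟨φ, rfl⟩ := Spec.map_surjective h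
  have h1 : RingHom.FiniteType φ.hom := (HasRingHomProperty.Spec_iff (P := @LocallyOfFiniteType)).mp
    inferInstance
  have h2 : RingHom.FormallyUnramified φ.hom :=
    (HasRingHomProperty.Spec_iff (P := @FormallyUnramified)).mp inferInstance
  letI := φ.hom.toAlgebra
  haveI : Algebra.FiniteType K B := h1
  haveI : Algebra.FormallyUnramified K B := h2
  exact isReduced_and_discrete_of_formallyUnramified K B

theorem affine_isReduced_and_discrete (K : Type u) [Field K] (Y : Scheme.{u}) [IsAffine Y]
    (h : Y ⟶ Spec (CommRingCat.of K)) [LocallyOfFiniteType h] [FormallyUnramified h] :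
    IsReduced Y ∧ DiscreteTopology ↥Y := by
  haveI : FormallyUnramified (Y.isoSpec.inv ≫ h) :=
    MorphismProperty.comp_mem @FormallyUnramified _ _ inferInstance inferInstance
  obtain ⟨h1, h2⟩ := spec_isReduced_and_discrete K Γ(Y, ⊤) (Y.isoSpec.inv ≫ h)
  refine ⟨?_, ?_⟩
  · exact isReduced_of_isAffine_isReduced Y
  · haveI : DiscreteTopology ↥(Spec Γ(Y, ⊤)) := h2
    exact Y.isoSpec.hom.isOpenEmbedding.isEmbedding.discreteTopology

theorem forward {X S : Scheme.{u}} (f : X ⟶ S) [LocallyOfFinitePresentation f]
    [FormallyUnramified f] (K : Type u) [Field K] [IsAlgClosed K]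
    (s : Spec (CommRingCat.of K) ⟶ S) :
    IsReduced (pullback f s) ∧ DiscreteTopology ↥(pullback f s) := by
  have key : ∀ i, IsReduced ((pullback f s).affineCover.X i) ∧
      DiscreteTopology ↥((pullback f s).affineCover.X i) := fun i => by
    haveI : FormallyUnramified (pullback.snd f s) :=
      MorphismProperty.pullback_snd (P := @FormallyUnramified) f s inferInstance
    haveI : FormallyUnramified ((pullback f s).affineCover.f i ≫ pullback.snd f s) :=
      MorphismProperty.comp_mem @FormallyUnramified _ _ inferInstance inferInstance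
    exact affine_isReduced_and_discrete K _
      ((pullback f s).affineCover.f i ≫ pullback.snd f s)
  refine ⟨?_, ?_⟩
  · haveI := fun i => (key i).1
    exact AlgebraicGeometry.IsReduced.of_openCover _ (pullback f s).affineCover
  · rw [discreteTopology_iff_isOpen_singleton]
    intro w
    obtain ⟨i, y, rfl⟩ := (pullback f s).affineCover.exists_eq w
    haveI := (key i).2
    have hy : IsOpen ({y} : Set ((pullback f s).affineCover.X i)) := isOpen_discrete _
    have := ((pullback f s).affineCover.f i).isOpenEmbedding.isOpenMap _ hy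
    rwa [Set.image_singleton] at this



theorem backward {X S : Scheme.{u}} (f : X ⟶ S) [LocallyOfFinitePresentation f]
    (H : ∀ (K : Type u) [Field K] [IsAlgClosed K] (s : Spec (CommRingCat.of K) ⟶ S),
        IsReduced (pullback f s) ∧ DiscreteTopology ↥(pullback f s)) :
    FormallyUnramified f := by
  rw [HasRingHomProperty.iff_appLE (P := @FormallyUnramified)]
  intro U V e
  have hfp : RingHom.FinitePresentation (f.appLE U V e).hom :=
    HasRingHomProperty.appLE (P := @LocallyOfFinitePresentation) f inferInstance U V e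
  letI : Algebra Γ(S, U.1) Γ(X, V.1) := (f.appLE U V e).hom.toAlgebra
  haveI : Algebra.FiniteType Γ(S, U.1) Γ(X, V.1) := RingHom.FiniteType.of_finitePresentation hfp
  change Algebra.FormallyUnramified Γ(S, U.1) Γ(X, V.1)
  apply formallyUnramified_of_geometric_fibres
  intro K _ _ _
  let s : Spec (CommRingCat.of K) ⟶ S :=
    Spec.map (CommRingCat.ofHom (algebraMap Γ(S, U.1) K)) ≫ U.2.fromSpec
  obtain ⟨h1, h2⟩ := H K s
  have e₁ : Spec.map (CommRingCat.ofHom (algebraMap Γ(S, U.1) K)) ≫ U.2.fromSpec =
      𝟙 _ ≫ s := by rw [Category.id_comp]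
  have e₂ : Spec.map (CommRingCat.ofHom (algebraMap Γ(S, U.1) Γ(X, V.1))) ≫ U.2.fromSpec =
      V.2.fromSpec ≫ f := IsAffineOpen.SpecMap_appLE_fromSpec f U.2 V.2 e
  let j : Spec (CommRingCat.of (K ⊗[Γ(S, U.1)] Γ(X, V.1))) ⟶ pullback f s :=
    (pullbackSpecIso Γ(S, U.1) K Γ(X, V.1)).inv ≫
      pullback.map _ _ s f (𝟙 _) V.2.fromSpec U.2.fromSpec e₁ e₂ ≫ (pullbackSymmetry s f).hom
  haveI : IsOpenImmersion j := by
    dsimp only [j]
    infer_instance
  refine ⟨?_, ?_⟩
  · haveI : IsReduced (Spec (CommRingCat.of (K ⊗[Γ(S, U.1)] Γ(X, V.1)))) :=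
      isReduced_of_isOpenImmersion j
    exact (affine_isReduced_iff (CommRingCat.of (K ⊗[Γ(S, U.1)] Γ(X, V.1)))).mp inferInstance
  · exact j.isOpenEmbedding.isEmbedding.discreteTopology


end Aux

open CategoryTheory CategoryTheory.Limits AlgebraicGeometry in
/-- A morphism of schemes f : X → S which is locally of finite presentation is unramified (formally
unramified) if and only if all its geometric fibres are reduced with discrete underlying space: for
every algebraically closed field K and every S-point Spec K → S, the fibre product X ×_S Spec K is a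
reduced scheme whose topological space is discrete. -/
theorem result {X S : Scheme.{u}} (f : X ⟶ S)
    [LocallyOfFinitePresentation f] :
    FormallyUnramified f ↔
      ∀ (K : Type u) [Field K] [IsAlgClosed K] (s : Spec (CommRingCat.of K) ⟶ S),
        IsReduced (pullback f s) ∧ DiscreteTopology ↥(pullback f s) := by
  constructor
  · intro h K _ _ s
    exact forward f K s
  · intro H
    exact backward f H

end Groth.Agent.S14352
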