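import Groth.Statements.S14355
import Mathlib

set_option autoImplicit false
universe v u
open CategoryTheory CategoryTheory.Limits
open SpSeqMor

namespace Groth.Agent.S14355

section Aux

variable {C : Type u} [Category.{v} C] [Abelian C]

section Pages
variable {r₀ : ℤ}

theorem isZero_homology_of_isZero_X {ι : Type*} {c : ComplexShape ι} (K : HomologicalComplex C c)
    (i : ι) (h : IsZero (K.X i)) : IsZero (K.homology i) := by
  rw [← HomologicalComplex.exactAt_iff_isZero_homology]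
  exact ShortComplex.exact_of_isZero_X₂ _ h

theorem homologyMap_eq_zero_of_f {ι : Type*} {c : ComplexShape ι} {K L : HomologicalComplex C c}
    (g : K ⟶ L) (i : ι) (h : g.f i = 0) : HomologicalComplex.homologyMap g i = 0 := by
  have h1 : HomologicalComplex.cyclesMap g i = 0 := by
    rw [← cancel_mono (L.iCycles i), HomologicalComplex.cyclesMap_i, h, comp_zero, zero_comp]
  rw [← cancel_epi (K.homologyπ i), HomologicalComplex.homologyπ_naturality, h1, zero_comp,
    comp_zero]

theorem isZero_page (E : CohomologicalSpectralSequence C r₀) (pq : ℤ × ℤ) (r : ℤ) (hr : r₀ ≤ r)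
    (hz : IsZero ((E.page r hr).X pq)) :
    ∀ (r' : ℤ) (hr' : r ≤ r'), IsZero ((E.page r' (hr.trans hr')).X pq) := by
  intro r' hr'
  induction r', hr' using Int.leInduction with
  | base => exact hz
  | succ s hs ih =>
    exact IsZero.of_iso (isZero_homology_of_isZero_X _ pq ih)
      (E.iso s (s + 1) pq rfl (hr.trans hs)).symm

theorem hom_page_zero {E E' : CohomologicalSpectralSequence C r₀} (φ : E ⟶ E') (pq : ℤ × ℤ)
    (r : ℤ) (hr : r₀ ≤ r) (hz : (φ.hom r hr).f pq = 0) :
    ∀ (r' : ℤ) (hr' : r ≤ r'), (φ.hom r' (hr.trans hr')).f pq = 0 := by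
  intro r' hr'
  induction r', hr' using Int.leInduction with
  | base => exact hz
  | succ s hs ih =>
    have h := φ.comm s (s + 1) pq rfl (hr.trans hs)
    rw [homologyMap_eq_zero_of_f _ pq ih, zero_comp] at h
    rw [← cancel_epi (E.iso s (s + 1) pq rfl (hr.trans hs)).hom, ← h, comp_zero]

end Pages


section Fil
variable {X : C}

theorem eq_of_isZero_grPiece (F : ℤ → Subobject X) (hF : Antitone F) (p : ℤ)
    (h : IsZero (SpSeq.grPiece F hF p)) : F (p + 1) = F p := by
  have hle : F (p + 1) ≤ F p := hF (Int.le_add_one le_rfl)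
  have hepi : Epi ((F (p + 1)).ofLE (F p) hle) :=
    Preadditive.epi_of_cokernel_zero (h.eq_of_tgt _ _)
  have : IsIso ((F (p + 1)).ofLE (F p) hle) := isIso_of_mono_of_epi _
  apply le_antisymm hle
  refine Subobject.le_of_comm (inv ((F (p + 1)).ofLE (F p) hle)) ?_
  rw [IsIso.inv_comp_eq, Subobject.ofLE_arrow]

theorem fil_eq_top (F : ℤ → Subobject X) (hF : Antitone F) (a₀ : ℤ)
    (hz : ∀ i, i < a₀ → IsZero (SpSeq.grPiece F hF i)) (htop : ∃ a, F a = ⊤) : F a₀ = ⊤ := by
  obtain ⟨a, ha⟩ := htop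
  by_cases h : a₀ ≤ a
  · exact top_le_iff.mp (ha ▸ hF h)
  · push Not at h
    have : ∀ (j : ℤ) (hj : a ≤ j), j ≤ a₀ → F j = ⊤ := by
      intro j hj
      induction j, hj using Int.leInduction with
      | base => intro _; exact ha
      | succ s hs ih =>
        intro hs'
        rw [eq_of_isZero_grPiece F hF s (hz s (by omega))]
        exact ih (by omega)
    exact this a₀ h.le le_rfl

theorem fil_eq_bot (F : ℤ → Subobject X) (hF : Antitone F) (a₀ : ℤ)
    (hz : ∀ i, a₀ < i → IsZero (SpSeq.grPiece F hF i)) (hbot : ∃ b, F b = ⊥) :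
    F (a₀ + 1) = ⊥ := by
  obtain ⟨b, hb⟩ := hbot
  by_cases h : b ≤ a₀ + 1
  · exact le_bot_iff.mp (hb ▸ hF h)
  · push Not at h
    have : ∀ (j : ℤ) (hj : a₀ + 1 ≤ j), F j = F (a₀ + 1) := by
      intro j hj
      induction j, hj using Int.leInduction with
      | base => rfl
      | succ s hs ih =>
        rw [eq_of_isZero_grPiece F hF s (hz s (by omega))]
        exact ih
    rw [← this b h.le, hb]

end Fil


section Abut
variable {E E' : E₂CohomologicalSpectralSequence C} {H H' : ℤ → C}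

theorem gr_zero (a : SpSeq.Abutment E H) (pq : ℤ × ℤ) (n : ℤ) (hn : pq.1 + pq.2 = n)
    (hz : IsZero ((E.page 2 le_rfl).X pq)) :
    IsZero (SpSeq.grPiece (a.fil n) (a.anti n) pq.1) := by
  subst hn
  exact IsZero.of_iso (isZero_page E pq 2 le_rfl hz (a.rk pq) (a.stat pq).1) (a.β pq).symm

theorem gr_hom_zero {φ : E ⟶ E'} {a : SpSeq.Abutment E H} {a' : SpSeq.Abutment E' H'}
    (f : SpSeqMor.AbutHom φ a a') (pq : ℤ × ℤ) (n : ℤ) (hn : pq.1 + pq.2 = n)
    (hφ : (φ.hom 2 le_rfl).f pq = 0) : (f.fil n).gr pq.1 = 0 := by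
  subst hn
  have hkk : a.rk pq + ((max (a.rk pq) (a'.rk pq) - a.rk pq).toNat : ℤ) =
      a'.rk pq + ((max (a.rk pq) (a'.rk pq) - a'.rk pq).toNat : ℤ) := by
    rw [Int.toNat_of_nonneg (by omega), Int.toNat_of_nonneg (by omega)]
    omega
  have h := f.comm pq _ _ hkk
  have h0 := hom_page_zero φ pq 2 le_rfl hφ
    (a'.rk pq + ((max (a.rk pq) (a'.rk pq) - a'.rk pq).toNat : ℤ))
    (SpSeqMor.page_le (a'.stat pq).1 _)
  rw [h0] at h
  simp only [zero_comp, comp_zero] at h
  exact (cancel_epi (a.β pq).hom).mp (h.trans comp_zero.symm)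

end Abut


section Final

theorem filLift_zero {K L : SpSeq.FilObj C} (g : SpSeqMor.FilLift K L) (a₀ : ℤ)
    (htop : K.fil a₀ = ⊤) (hbot : L.fil (a₀ + 1) = ⊥) (hgr : g.gr a₀ = 0) : g.hom = 0 := by
  have h1 : g.lift a₀ ≫ cokernel.π (L.stepLE (Int.le_add_one (le_refl a₀))) =
      cokernel.π (K.stepLE (Int.le_add_one (le_refl a₀))) ≫ g.gr a₀ :=
    (cokernel.π_desc _ _ _).symm
  have h1' : g.lift a₀ ≫ cokernel.π (L.stepLE (Int.le_add_one (le_refl a₀))) = 0 := by
    rw [h1, hgr]; exact comp_zero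
  have hz : IsZero (L.step (a₀ + 1)) := by
    change IsZero ((L.fil (a₀ + 1) : Subobject L.obj) : C)
    rw [hbot]
    exact IsZero.of_iso (isZero_zero C) Subobject.botCoeIsoZero
  have hmono : Mono (cokernel.π (L.stepLE (Int.le_add_one (le_refl a₀)))) :=
    (ShortComplex.cokernelSequence_exact (L.stepLE (Int.le_add_one (le_refl a₀)))).mono_g
      (hz.eq_of_src _ _)
  have h2 : g.lift a₀ = 0 := by
    rw [← cancel_mono (cokernel.π (L.stepLE (Int.le_add_one (le_refl a₀)))), h1', zero_comp]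
  have h3 := g.lift_arrow a₀
  rw [h2, zero_comp] at h3
  have : IsIso (K.fil a₀).arrow := (Subobject.isIso_arrow_iff_eq_top _).mpr htop
  rw [← cancel_epi (K.fil a₀).arrow, ← h3, comp_zero]

theorem main (E E' : E₂CohomologicalSpectralSequence C) (φ : E ⟶ E') (H H' : ℤ → C)
    (a : SpSeq.Abutment E H) (a' : SpSeq.Abutment E' H')
    (ha : ∀ n : ℤ, a.IsFinite n) (ha' : ∀ n : ℤ, a'.IsFinite n)
    (f : SpSeqMor.AbutHom φ a a') (l a₀ : ℤ)
    (hE : ∀ i : ℤ, i < a₀ → IsZero ((E.page 2 le_rfl).X (i, l - i)))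
    (hE' : ∀ i : ℤ, a₀ < i → IsZero ((E'.page 2 le_rfl).X (i, l - i)))
    (hφ : (φ.hom 2 le_rfl).f (a₀, l - a₀) = 0) :
    f.hom l = 0 := by
  apply filLift_zero (f.fil l) a₀
  · exact fil_eq_top (a.fil l) (a.anti l) a₀
      (fun i hi => gr_zero a (i, l - i) l (by simp) (hE i hi)) (ha l).1
  · exact fil_eq_bot (a'.fil l) (a'.anti l) a₀
      (fun i hi => gr_zero a' (i, l - i) l (by simp) (hE' i hi)) (ha' l).2
  · exact gr_hom_zero f (a₀, l - a₀) l (by simp) hφ

end Final


end Aux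

/-- Let φ : E ⟶ E' be a morphism of E_2-cohomological spectral sequences in an abelian category, with
abutments H and H' whose filtrations are finite in each degree, and f a morphism of abutment data
over φ. Fix integers l and a₀. If E_2^{i, l-i} = 0 for i < a₀, E'_2^{i, l-i} = 0 for i > a₀ and
φ_2^{a₀, l-a₀} = 0, then f^l : H^l ⟶ H'^l is zero. (The published statement prints the two vanishing
hypotheses at positions (i, l); the argument works on the line of total degree l, at positions (i, l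
- i), which is the form stated here.) -/
theorem result (C : Type u) [Category.{v} C] [Abelian C]
    (E E' : E₂CohomologicalSpectralSequence C) (φ : E ⟶ E') (H H' : ℤ → C)
    (a : SpSeq.Abutment E H) (a' : SpSeq.Abutment E' H')
    (ha : ∀ n : ℤ, a.IsFinite n) (ha' : ∀ n : ℤ, a'.IsFinite n)
    (f : SpSeqMor.AbutHom φ a a') (l a₀ : ℤ)
    (hE : ∀ i : ℤ, i < a₀ → IsZero ((E.page 2 le_rfl).X (i, l - i)))
    (hE' : ∀ i : ℤ, a₀ < i → IsZero ((E'.page 2 le_rfl).X (i, l - i)))
    (hφ : (φ.hom 2 le_rfl).f (a₀, l - a₀) = 0) :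
    f.hom l = 0 := by
  exact main E E' φ H H' a a' ha ha' f l a₀ hE hE' hφ

end Groth.Agent.S14355
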