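import Groth.Statements.S14357
import Groth.Agent.Lib.Helper7.ProjSpaceProper
import Mathlib.AlgebraicGeometry.Artinian
import Mathlib.AlgebraicGeometry.Morphisms.Proper
import Mathlib.Algebra.MvPolynomial.Division

set_option autoImplicit false
set_option linter.style.haveILetI false
universe u
open AlgebraicGeometry
open Proj

namespace Groth.Agent.S14357


open AlgebraicGeometry CategoryTheory CategoryTheory.Limits TopologicalSpace Opposite

lemma discrete_of_isAffine (k : Type u) [Field k] (hA : IsAffine (CohB1.ProjSpace 1 k)) :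
    DiscreteTopology (CohB1.ProjSpace 1 k) := by
  let g := CohB1.ProjSpace.toSpec 1 k
  haveI : IsProper g := inferInstance
  haveI : IsAffineHom g := inferInstance
  haveI : IsFinite g := IsFinite.iff_isProper_and_isAffineHom.mpr ⟨inferInstance, inferInstance⟩
  have hfin : (g.app ⊤).hom.Finite := IsFinite.finite_app (f := g) ⊤ (isAffineOpen_top _)
  haveI : IsArtinianRing Γ(Spec (CommRingCat.of k), ⊤) := by
    have e := (Scheme.ΓSpecIso (CommRingCat.of k)).commRingCatIsoToRingEquiv
    exact (e.symm.surjective).isArtinianRing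
  haveI : IsArtinianRing Γ(CohB1.ProjSpace 1 k, g ⁻¹ᵁ ⊤) := by
    algebraize [(g.app ⊤).hom]
    haveI : Module.Finite Γ(Spec (CommRingCat.of k), ⊤) Γ(CohB1.ProjSpace 1 k, g ⁻¹ᵁ ⊤) := hfin
    exact IsArtinianRing.of_finite Γ(Spec (CommRingCat.of k), ⊤) _
  haveI : IsLocallyArtinian (Spec Γ(CohB1.ProjSpace 1 k, ⊤)) :=
    Scheme.isLocallyArtinianScheme_Spec.mpr ‹_›
  haveI : IsLocallyArtinian (CohB1.ProjSpace 1 k) :=
    IsLocallyArtinian.of_isImmersion (CohB1.ProjSpace 1 k).isoSpec.hom
  infer_instance

open MvPolynomial in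
lemma X_mem_homog (k : Type u) [Field k] (i : Fin 2) :
    (X i : MvPolynomial (Fin (1 + 1)) k) ∈ CohB1.polyGrading 1 k 1 :=
  (MvPolynomial.mem_homogeneousSubmodule _ _).mpr (MvPolynomial.isHomogeneous_X k i)

open MvPolynomial in
theorem result' (k : Type u) [Field k] : ¬ IsAffine (CohB1.ProjSpace 1 k) := by
  intro hA
  haveI := discrete_of_isAffine k hA
  have hirr : ∀ i : Fin 2, (X i : MvPolynomial (Fin (1 + 1)) k) ∈
      HomogeneousIdeal.irrelevant (CohB1.polyGrading 1 k) := fun i =>
    HomogeneousIdeal.mem_irrelevant_of_mem _ Nat.one_pos (X_mem_homog k i)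
  let p0 : ProjectiveSpectrum (CohB1.polyGrading 1 k) :=
    ⟨⊥, Ideal.isPrime_bot, fun h => X_ne_zero (R := k) (0 : Fin 2) (by
      have := h (hirr 0)
      exact this)⟩
  let I1 : HomogeneousIdeal (CohB1.polyGrading 1 k) :=
    ⟨Ideal.span {(X 0 : MvPolynomial (Fin (1 + 1)) k)},
      Ideal.homogeneous_span _ _ (fun x hx => by
        rw [Set.mem_singleton_iff] at hx
        exact ⟨1, hx ▸ X_mem_homog k 0⟩)⟩
  let p1 : ProjectiveSpectrum (CohB1.polyGrading 1 k) :=
    ⟨I1, (Ideal.span_singleton_prime (X_ne_zero (R := k) (0 : Fin 2))).mpr (X_prime (R := k)),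
      fun h => by
        have h1 : (X 1 : MvPolynomial (Fin (1 + 1)) k) ∈ Ideal.span {(X 0 : MvPolynomial (Fin (1 + 1)) k)} :=
          h (hirr 1)
        rw [Ideal.mem_span_singleton, X_dvd_X] at h1
        exact absurd h1 (by decide)⟩
  have hle : p0 ≤ p1 := by
    rw [← ProjectiveSpectrum.as_ideal_le_as_ideal]
    exact bot_le
  have hcl : p1 ∈ closure ({p0} : Set (ProjectiveSpectrum (CohB1.polyGrading 1 k))) :=
    (ProjectiveSpectrum.le_iff_mem_closure _ p0 p1).mp hle
  have hne : p1 ≠ p0 := by
    intro h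
    have h2 : (X 0 : MvPolynomial (Fin (1 + 1)) k) ∈ p1.asHomogeneousIdeal.toIdeal :=
      Ideal.subset_span rfl
    rw [h] at h2
    exact X_ne_zero (R := k) (0 : Fin 2) h2
  have hdisc : DiscreteTopology (ProjectiveSpectrum (CohB1.polyGrading 1 k)) :=
    ‹DiscreteTopology (CohB1.ProjSpace 1 k)›
  rw [closure_discrete] at hcl
  exact hne hcl



/-- For a field k the projective line over k is not an affine scheme. (The projective line is taken here
as Proj of the polynomial ring in two variables over k with its standard grading; the book builds it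
by gluing two affine lines and identifies the two constructions later.) -/
theorem result (k : Type u) [Field k] :
    ¬ IsAffine (CohB1.ProjSpace 1 k) := by
  exact result' k

end Groth.Agent.S14357
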