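import Groth.Statements.S14359
-- import your own Groth.Agent.* helpers here
import Mathlib.RingTheory.Ideal.KrullsHeightTheorem
import Mathlib.RingTheory.IntegralClosure.IntegrallyClosed
import Mathlib.RingTheory.Localization.FractionRing
-- import your own Groth.Agent.* helpers here

set_option autoImplicit false
universe u
open CAlg

namespace Groth.Agent.S14359

/-- Let A be a Noetherian integrally closed integral domain and b a nonzero element of A. Then every
associated prime of the A-module A/(b) has height one, so that A/(b) has no embedded associated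
primes. -/
theorem result
    (A : Type u) [CommRing A] [IsDomain A] [IsNoetherianRing A] [IsIntegrallyClosed A]
    (b : A) (hb : b ≠ 0) (p : Ideal A) (hp : p ∈ associatedPrimes A (A ⧸ Ideal.span {b})) :
    p.height = 1 := by
  rw [AssociatedPrimes.mem_iff, isAssociatedPrime_iff] at hp
  obtain ⟨hprime, x, hx⟩ := hp
  obtain ⟨a, rfl⟩ := Ideal.Quotient.mk_surjective x
  have hmem : ∀ y, y ∈ p ↔ ∃ z, y * a = z * b := by
    intro y
    rw [hx, Submodule.mem_colon_singleton, Submodule.mem_bot, ← Ideal.Quotient.mk_eq_mk,
      ← Submodule.Quotient.mk_smul, Ideal.Quotient.mk_eq_mk, Ideal.Quotient.eq_zero_iff_mem,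
      Ideal.mem_span_singleton', smul_eq_mul]
    constructor
    · rintro ⟨z, hz⟩; exact ⟨z, hz.symm⟩
    · rintro ⟨z, hz⟩; exact ⟨z, hz.symm⟩
  have hbp : b ∈ p := (hmem b).2 ⟨a, mul_comm b a⟩
  have hpbot : p ≠ ⊥ := by
    intro h
    rw [h, Ideal.mem_bot] at hbp
    exact hb hbp
  have h1p : (1 : A) ∉ p := fun h => hprime.ne_top ((Ideal.eq_top_iff_one p).2 h)
  have hge : 1 ≤ p.height := by
    rw [ENat.one_le_iff_ne_zero, Ne, Ideal.height_eq_zero_iff_eq_bot]
    exact hpbot
  refine le_antisymm ?_ hge
  by_cases hcase : ∀ y ∈ p, ∀ z, y * a = z * b → z ∈ p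
  · exfalso
    let K := FractionRing A
    have hbK : algebraMap A K b ≠ 0 := by
      simpa using (IsFractionRing.injective A K).ne hb
    let t : K := algebraMap A K a / algebraMap A K b
    let N : Submodule A K := Submodule.map (Algebra.linearMap A K) p
    have hN : N ≠ ⊥ := by
      intro h
      apply hpbot
      rw [eq_bot_iff]
      intro y hy
      have hyN : algebraMap A K y ∈ N := ⟨y, hy, rfl⟩
      rw [h, Submodule.mem_bot] at hyN
      rw [Ideal.mem_bot]
      exact IsFractionRing.injective A K (by rw [hyN, map_zero])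
    have hNfg : N.FG := Submodule.FG.map _ (IsNoetherian.noetherian p)
    have hint : IsIntegral A t := by
      refine isIntegral_of_smul_mem_submodule N hN hNfg t ?_
      rintro _ ⟨y, hy, rfl⟩
      obtain ⟨z, hz⟩ := (hmem y).1 hy
      refine ⟨z, hcase y hy z hz, ?_⟩
      simp only [Algebra.linearMap_apply, smul_eq_mul, t]
      rw [div_mul_eq_mul_div, eq_div_iff hbK, ← map_mul, ← map_mul, mul_comm a y, hz]
    obtain ⟨w, hw⟩ := IsIntegrallyClosed.isIntegral_iff.1 hint
    have : a = w * b := by
      apply IsFractionRing.injective A K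
      rw [map_mul, hw]
      simp only [t]
      rw [div_mul_cancel₀ _ hbK]
    exact h1p ((hmem 1).2 ⟨w, by rw [one_mul]; exact this⟩)
  · push Not at hcase
    obtain ⟨y, hy, z, hyz, hz⟩ := hcase
    have hzp : ∀ y' ∈ p, z * y' ∈ Ideal.span {y} := by
      intro y' hy'
      obtain ⟨z', hz'⟩ := (hmem y').1 hy'
      rw [Ideal.mem_span_singleton']
      refine ⟨z', ?_⟩
      apply mul_right_cancel₀ hb
      calc z' * y * b = y * (z' * b) := by ring
        _ = y * (y' * a) := by rw [hz']
        _ = y' * (y * a) := by ring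
        _ = y' * (z * b) := by rw [hyz]
        _ = z * y' * b := by ring
    have hmin : p ∈ (Ideal.span {y}).minimalPrimes := by
      refine ⟨⟨hprime, (Ideal.span_singleton_le_iff_mem p).2 hy⟩, ?_⟩
      rintro q ⟨hq, hyq⟩ hqp y' hy'
      have : z * y' ∈ q := hyq (hzp y' hy')
      exact (hq.mem_or_mem this).resolve_left (fun h => hz (hqp h))
    exact Ideal.height_le_one_of_isPrincipal_of_mem_minimalPrimes (Ideal.span {y}) p hmin

end Groth.Agent.S14359
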