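import Groth.Statements.S14360
import Mathlib

set_option autoImplicit false
universe u
open AlgebraicGeometry
open Variety

namespace Groth.Agent.S14360
set_option maxHeartbeats 400000

open CategoryTheory AlgebraicGeometry AlgebraicGeometry.Scheme

section Key

variable {X Y Z : Scheme.{u}}

theorem image_le (φ : X.PartialMap Y) (V : Y.Opens) :
    φ.domain.ι ''ᵁ (φ.hom ⁻¹ᵁ V) ≤ φ.domain :=
  Scheme.Opens.ι_image_le _ _

/-- the map `W → V` induced by `φ` on an open `W` of the preimage of `V`. -/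
noncomputable def gam (φ : X.PartialMap Y) (V : Y.Opens) (W : X.Opens)
    (hW : W ≤ φ.domain.ι ''ᵁ (φ.hom ⁻¹ᵁ V)) : W.toScheme ⟶ V.toScheme :=
  X.homOfLE hW ≫ (φ.domain.ι.isoImage (φ.hom ⁻¹ᵁ V)).inv ≫ (φ.hom ∣_ V)

theorem gam_ι (φ : X.PartialMap Y) (V : Y.Opens) (W : X.Opens)
    (hW : W ≤ φ.domain.ι ''ᵁ (φ.hom ⁻¹ᵁ V)) :
    gam φ V W hW ≫ V.ι = X.homOfLE (hW.trans (image_le φ V)) ≫ φ.hom := by
  unfold gam
  rw [Category.assoc, Category.assoc, morphismRestrict_ι]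
  have h : X.homOfLE hW ≫ (φ.domain.ι.isoImage (φ.hom ⁻¹ᵁ V)).inv ≫
      (φ.hom ⁻¹ᵁ V).ι = X.homOfLE (hW.trans (image_le φ V)) := by
    rw [← cancel_mono φ.domain.ι]
    have h1 := Scheme.Hom.isoImage_inv_ι φ.domain.ι (φ.hom ⁻¹ᵁ V)
    rw [Category.assoc, Category.assoc, h1, Scheme.homOfLE_ι, Scheme.homOfLE_ι]
  rw [← h]
  simp only [Category.assoc]

variable [PreirreducibleSpace X] [Nonempty Y]

theorem gam_hom (φ : X.PartialMap Y) [IsDominant φ.hom] (ψ : Y.PartialMap Z) (W : X.Opens)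
    (hW : W ≤ φ.domain.ι ''ᵁ (φ.hom ⁻¹ᵁ ψ.domain)) :
    X.homOfLE (show W ≤ (φ.comp ψ).domain from hW) ≫ (φ.comp ψ).hom =
      gam φ ψ.domain W hW ≫ ψ.hom := by
  unfold gam
  rw [PartialMap.comp_hom]
  rfl

theorem exists_of_comp_eq_id (φ : X.PartialMap Y) [IsDominant φ.hom] (ψ : Y.PartialMap X)
    (h : (φ.comp ψ).toRationalMap = RationalMap.id X) :
    ∃ (W : X.Opens) (_ : Dense (W : Set X)) (hW : W ≤ φ.domain)
      (α : W.toScheme ⟶ ψ.domain.toScheme),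
      α ≫ ψ.domain.ι = X.homOfLE hW ≫ φ.hom ∧ α ≫ ψ.hom = W.ι := by
  obtain ⟨W, hWd, hWl, hWr, e⟩ := PartialMap.toRationalMap_eq_iff.mp h
  have hWl' : W ≤ φ.domain.ι ''ᵁ (φ.hom ⁻¹ᵁ ψ.domain) := hWl
  refine ⟨W, hWd, hWl'.trans (image_le φ _), gam φ ψ.domain W hWl', gam_ι _ _ _ _, ?_⟩
  rw [← gam_hom]
  rw [PartialMap.restrict_hom, PartialMap.restrict_hom] at e
  rw [e]
  exact Scheme.homOfLE_ι _ _

theorem comp_eq_id_of_exists (φ : X.PartialMap Y) [IsDominant φ.hom] (ψ : Y.PartialMap X)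
    (W : X.Opens) (hWd : Dense (W : Set X)) (hW : W ≤ φ.domain)
    (α : W.toScheme ⟶ ψ.domain.toScheme)
    (h1 : α ≫ ψ.domain.ι = X.homOfLE hW ≫ φ.hom) (h2 : α ≫ ψ.hom = W.ι) :
    (φ.comp ψ).toRationalMap = RationalMap.id X := by
  have hWl : W ≤ φ.domain.ι ''ᵁ (φ.hom ⁻¹ᵁ ψ.domain) := by
    intro x hx
    refine ⟨⟨x, hW hx⟩, ?_, rfl⟩
    show φ.hom ⟨x, hW hx⟩ ∈ ψ.domain
    have h3 : φ.hom ⟨x, hW hx⟩ = (X.homOfLE hW ≫ φ.hom) ⟨x, hx⟩ := by
      rw [Scheme.Hom.comp_apply, Scheme.homOfLE_apply']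
    rw [h3, ← h1, Scheme.Hom.comp_apply]
    exact (α ⟨x, hx⟩).2
  have hα : gam φ ψ.domain W hWl = α := by
    rw [← cancel_mono ψ.domain.ι, gam_ι, h1]
  rw [PartialMap.toRationalMap_eq_iff]
  refine ⟨W, hWd, hWl, le_top, ?_⟩
  rw [PartialMap.restrict_hom, PartialMap.restrict_hom]
  rw [gam_hom φ ψ W hWl, hα, h2]
  exact (Scheme.homOfLE_ι _ _).symm

end Key

section Forward

variable {X Y : Scheme.{u}} [IsIntegral X] [IsIntegral Y]

instance isDominant_partialIso (e : X.PartialIso Y) : IsDominant e.toPartialMap.hom := by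
  rw [PartialIso.toPartialMap_hom]
  have := Opens.isDominant_ι e.dense_target
  exact (MorphismProperty.cancel_left_of_respectsIso @IsDominant e.iso.hom e.target.ι).mpr this

theorem partialIso_comp_symm (e : X.PartialIso Y) :
    e.toRationalMap.comp e.symm.toRationalMap = RationalMap.id X := by
  rw [RationalMap.toRationalMap_comp]
  refine comp_eq_id_of_exists e.toPartialMap e.symm.toPartialMap e.source e.dense_source le_rfl
    e.iso.hom ?_ ?_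
  · have h : X.homOfLE (le_refl e.source) ≫ e.toPartialMap.hom = e.iso.hom ≫ e.target.ι := by
      rw [Scheme.homOfLE_rfl, Category.id_comp]
      rfl
    exact h.symm
  · show e.iso.hom ≫ e.iso.inv ≫ e.source.ι = e.source.ι
    rw [Iso.hom_inv_id_assoc]

end Forward

section Backward

theorem iso_of_restrict {X Y : Scheme.{u}} (W : X.Opens) (W' : Y.Opens)
    (p : W.toScheme ⟶ Y) (q : W'.toScheme ⟶ X)
    (h1 : p ∣_ W' ≫ q = (p ⁻¹ᵁ W').ι ≫ W.ι) (h2 : q ∣_ W ≫ p = (q ⁻¹ᵁ W).ι ≫ W'.ι) :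
    Nonempty ((p ⁻¹ᵁ W').toScheme ≅ (q ⁻¹ᵁ W).toScheme) := by
  have ha : Set.range (p ∣_ W') ⊆ Set.range (q ⁻¹ᵁ W).ι := by
    rintro _ ⟨t, rfl⟩
    rw [Scheme.Opens.range_ι]
    show q ((p ∣_ W') t) ∈ W
    rw [← Scheme.Hom.comp_apply, h1, Scheme.Hom.comp_apply]
    exact ((p ⁻¹ᵁ W').ι t).2
  have hb : Set.range (q ∣_ W) ⊆ Set.range (p ⁻¹ᵁ W').ι := by
    rintro _ ⟨t, rfl⟩
    rw [Scheme.Opens.range_ι]
    show p ((q ∣_ W) t) ∈ W'
    rw [← Scheme.Hom.comp_apply, h2, Scheme.Hom.comp_apply]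
    exact ((q ⁻¹ᵁ W).ι t).2
  set a' := IsOpenImmersion.lift (q ⁻¹ᵁ W).ι (p ∣_ W') ha with ha'
  set b' := IsOpenImmersion.lift (p ⁻¹ᵁ W').ι (q ∣_ W) hb with hb'
  have ea : a' ≫ (q ⁻¹ᵁ W).ι = p ∣_ W' := IsOpenImmersion.lift_fac _ _ _
  have eb : b' ≫ (p ⁻¹ᵁ W').ι = q ∣_ W := IsOpenImmersion.lift_fac _ _ _
  refine ⟨⟨a', b', ?_, ?_⟩⟩
  · rw [← cancel_mono ((p ⁻¹ᵁ W').ι ≫ W.ι)]
    rw [Category.assoc, ← Category.assoc b', eb, morphismRestrict_ι, ← Category.assoc, ea, h1,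
      Category.id_comp]
  · rw [← cancel_mono ((q ⁻¹ᵁ W).ι ≫ W'.ι)]
    rw [Category.assoc, ← Category.assoc a', ea, morphismRestrict_ι, ← Category.assoc, eb, h2,
      Category.id_comp]

theorem restrict_comp_eq {X Y : Scheme.{u}} (φ : X.PartialMap Y) (ψ : Y.PartialMap X)
    (W : X.Opens) (hW : W ≤ φ.domain) (α : W.toScheme ⟶ ψ.domain.toScheme)
    (hα1 : α ≫ ψ.domain.ι = X.homOfLE hW ≫ φ.hom) (hα2 : α ≫ ψ.hom = W.ι)
    (W' : Y.Opens) (hW' : W' ≤ ψ.domain) :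
    (X.homOfLE hW ≫ φ.hom) ∣_ W' ≫ (Y.homOfLE hW' ≫ ψ.hom) =
      ((X.homOfLE hW ≫ φ.hom) ⁻¹ᵁ W').ι ≫ W.ι := by
  have h : (X.homOfLE hW ≫ φ.hom) ∣_ W' ≫ Y.homOfLE hW' =
      ((X.homOfLE hW ≫ φ.hom) ⁻¹ᵁ W').ι ≫ α := by
    rw [← cancel_mono ψ.domain.ι, Category.assoc, Scheme.homOfLE_ι, morphismRestrict_ι,
      Category.assoc, hα1]
  rw [← Category.assoc, h, Category.assoc, hα2]

theorem nonempty_partialIso {X Y : Scheme.{u}} [IsIntegral X] [IsIntegral Y]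
    (W : X.Opens) (W' : Y.Opens) (hW' : (W' : Set Y).Nonempty) (hW : (W : Set X).Nonempty)
    (p : W.toScheme ⟶ Y) (q : W'.toScheme ⟶ X) [IsDominant p] [IsDominant q]
    (h1 : p ∣_ W' ≫ q = (p ⁻¹ᵁ W').ι ≫ W.ι) (h2 : q ∣_ W ≫ p = (q ⁻¹ᵁ W).ι ≫ W'.ι) :
    Nonempty (X.PartialIso Y) := by
  obtain ⟨i⟩ := iso_of_restrict W W' p q h1 h2
  have hT : ((p ⁻¹ᵁ W' : W.toScheme.Opens) : Set W).Nonempty := by
    obtain ⟨y, hy, t, rfl⟩ := p.denseRange.inter_open_nonempty _ W'.2 hW'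
    exact ⟨t, hy⟩
  have hT' : ((q ⁻¹ᵁ W : W'.toScheme.Opens) : Set W').Nonempty := by
    obtain ⟨y, hy, t, rfl⟩ := q.denseRange.inter_open_nonempty _ W.2 hW
    exact ⟨t, hy⟩
  refine ⟨⟨W.ι ''ᵁ (p ⁻¹ᵁ W'), ?_, W'.ι ''ᵁ (q ⁻¹ᵁ W), ?_,
    (W.ι.isoImage _).symm ≪≫ i ≪≫ W'.ι.isoImage _⟩⟩
  · refine (W.ι ''ᵁ (p ⁻¹ᵁ W')).2.dense ?_
    obtain ⟨t, ht⟩ := hT
    exact ⟨W.ι t, t, ht, rfl⟩
  · refine (W'.ι ''ᵁ (q ⁻¹ᵁ W)).2.dense ?_
    obtain ⟨t, ht⟩ := hT'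
    exact ⟨W'.ι t, t, ht, rfl⟩

end Backward

theorem main (X Y : Scheme.{u})
    [IsIntegral X] [IsIntegral Y] :
    Scheme.Birational X Y ↔
      ∃ (f : X ⤏ Y) (g : Y ⤏ X) (_ : f.IsDominant) (_ : g.IsDominant),
        f.comp g = Scheme.RationalMap.id X ∧ g.comp f = Scheme.RationalMap.id Y := by
  constructor
  · rintro ⟨e⟩
    refine ⟨e.toRationalMap, e.symm.toRationalMap, inferInstance, inferInstance,
      partialIso_comp_symm e, ?_⟩
    have := partialIso_comp_symm e.symm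
    exact this
  · rintro ⟨f, g, hf, hg, h1, h2⟩
    have e1 : (f.representative.comp g.representative).toRationalMap = RationalMap.id X := by
      rw [← RationalMap.comp_def, g.toRationalMap_representative, h1]
    have e2 : (g.representative.comp f.representative).toRationalMap = RationalMap.id Y := by
      rw [← RationalMap.comp_def, f.toRationalMap_representative, h2]
    obtain ⟨W, hWd, hW, α, hα1, hα2⟩ := exists_of_comp_eq_id _ _ e1
    obtain ⟨W', hWd', hW', β, hβ1, hβ2⟩ := exists_of_comp_eq_id _ _ e2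
    have hp : IsDominant (X.homOfLE hW ≫ f.representative.hom) :=
      PartialMap.isDominant_restrict_hom f.representative W hWd hW
    have hq : IsDominant (Y.homOfLE hW' ≫ g.representative.hom) :=
      PartialMap.isDominant_restrict_hom g.representative W' hWd' hW'
    exact nonempty_partialIso W W' hWd'.nonempty hWd.nonempty
      (X.homOfLE hW ≫ f.representative.hom) (Y.homOfLE hW' ≫ g.representative.hom)
      (restrict_comp_eq _ _ W hW α hα1 hα2 W' hW')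
      (restrict_comp_eq _ _ W' hW' β hβ1 hβ2 W hW)

end Groth.Agent.S14360

namespace Groth.Agent.S14360

/-- Let X and Y be integral schemes. Then X and Y have isomorphic dense open subschemes if and only if
they are birational in the sense of rational maps, i.e. there exist dominant rational maps f : X ⤏ Y
and g : Y ⤏ X such that the composites g ∘ f and f ∘ g are the identity rational maps of X and of Y. -/
theorem result (X Y : Scheme.{u})
    [IsIntegral X] [IsIntegral Y] :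
    Scheme.Birational X Y ↔
      ∃ (f : X ⤏ Y) (g : Y ⤏ X) (_ : f.IsDominant) (_ : g.IsDominant),
        f.comp g = Scheme.RationalMap.id X ∧ g.comp f = Scheme.RationalMap.id Y := by
  exact main X Y

end Groth.Agent.S14360
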