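import Groth.Statements.S14363
-- import your own Groth.Agent.* helpers here
import Mathlib.RingTheory.Support
-- import your own Groth.Agent.* helpers here

set_option autoImplicit false
universe u
open CAlg

namespace Groth.Agent.S14363

/-- Let A be a Noetherian ring and 0 → M' → M → M'' → 0 a short exact sequence of A-modules. If a prime
p of A is an associated prime of M'' and is not in the support of M', then p is an associated prime
of M. -/
theorem result (A : Type u) [CommRing A] [IsNoetherianRing A]
    (M' M M'' : Type u) [AddCommGroup M'] [Module A M'] [AddCommGroup M] [Module A M]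
    [AddCommGroup M''] [Module A M'']
    (f : M' →ₗ[A] M) (g : M →ₗ[A] M'') (hf : Function.Injective f) (hg : Function.Surjective g)
    (hfg : Function.Exact f g)
    (p : PrimeSpectrum A) (hp : p.asIdeal ∈ associatedPrimes A M'') (hsupp : p ∉ Module.support A M') :
    p.asIdeal ∈ associatedPrimes A M := by
  classical
  rw [AssociatedPrimes.mem_iff, isAssociatedPrime_iff] at hp ⊢
  obtain ⟨hprime, x'', hx''⟩ := hp
  obtain ⟨x, rfl⟩ := hg x''
  refine ⟨hprime, ?_⟩
  have hmem : ∀ a : A, a ∈ p.asIdeal ↔ a • g x = 0 := by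
    intro a
    rw [hx'', Submodule.mem_colon_singleton, Submodule.mem_bot]
  obtain ⟨S, hS⟩ := (IsNoetherian.noetherian p.asIdeal : p.asIdeal.FG)
  rw [Module.notMem_support_iff'] at hsupp
  have key : ∀ a ∈ p.asIdeal, ∃ r : A, r ∉ p.asIdeal ∧ r • a • x = 0 := by
    intro a ha
    have h0 : g (a • x) = 0 := by rw [map_smul]; exact (hmem a).1 ha
    obtain ⟨y, hy⟩ := (hfg (a • x)).1 h0
    obtain ⟨r, hr, hry⟩ := hsupp y
    exact ⟨r, hr, by rw [← hy, ← map_smul, hry, map_zero]⟩
  choose! r hr hrx using key
  have hs : (∏ a ∈ S, r a) ∉ p.asIdeal := by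
    rw [Ideal.IsPrime.prod_mem_iff]
    push_neg
    intro a ha
    exact hr a (hS ▸ Ideal.subset_span ha)
  refine ⟨(∏ a ∈ S, r a) • x, ?_⟩
  ext t
  rw [Submodule.mem_colon_singleton, Submodule.mem_bot]
  constructor
  · intro ht
    rw [← hS] at ht
    induction ht using Submodule.span_induction with
    | mem a ha =>
      have ha' : a ∈ p.asIdeal := hS ▸ Ideal.subset_span ha
      have := hrx a ha'
      rw [← Finset.mul_prod_erase S r ha, smul_comm, mul_comm, mul_smul]
      rw [this, smul_zero]
    | zero => simp
    | add a b _ _ iha ihb => rw [add_smul, iha, ihb, add_zero]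
    | smul c a _ iha => rw [smul_eq_mul, mul_smul, iha, smul_zero]
  · intro ht
    have h1 : (t * ∏ a ∈ S, r a) • g x = 0 := by
      rw [mul_smul, ← map_smul, ← map_smul, ht, map_zero]
    have h2 := (hmem _).2 h1
    exact (hprime.mem_or_mem h2).resolve_right hs

end Groth.Agent.S14363
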