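import Groth.Statements.S14366
import Groth.Agent.Lib.Helper12.RGZ5

set_option autoImplicit false
universe u
open CategoryTheory CategoryTheory.Limits AlgebraicGeometry
attribute [local instance] HasDerivedCategory.standard
open CxOX

namespace Groth.Agent.S14366

theorem result {X Xbar : Scheme.{u}} [IsNoetherian Xbar] [IsNoetherian X]
    (j : X ⟶ Xbar) [IsOpenImmersion j] (U : X.Opens) (U' T : Xbar.Opens)
    (hU' : (U' : Set Xbar) = (closure (j.base '' ((U : Set X)ᶜ)))ᶜ)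
    (hT : (T : Set Xbar) = (U' : Set Xbar) ∪ Set.range j.base)
    [DCoh.HasRpush j] [CxOX.HasRgammaZ T.ι] (hj : DCoh.RpushPreservesQCoh j)
    (adj : DCoh.restrictD j ⊣ DCoh.Rpush j) :
    (∀ F : DCoh.D X, DCoh.IsQCohD F → CxOX.IsSuppD U.ι F →
        CxOX.IsSuppD U'.ι ((DCoh.Rpush j).obj F) ∧ IsZero ((CxOX.RgammaZ T.ι).obj ((DCoh.Rpush j).obj F))) ∧
    (∀ F : DCoh.D X, IsIso (adj.counit.app F)) ∧
    (∀ G : DCoh.D Xbar, DCoh.IsQCohD G → CxOX.IsSuppD U'.ι G → IsZero ((CxOX.RgammaZ T.ι).obj G) →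
        IsIso (adj.unit.app G) ∧ DCoh.IsQCohD ((DCoh.restrictD j).obj G) ∧ CxOX.IsSuppD U.ι ((DCoh.restrictD j).obj G)) := by
  have hjT : Set.range j.base ⊆ (T : Set Xbar) := by
    rw [hT]
    exact Set.subset_union_right
  have hTcases : ∀ x : Xbar, x ∈ T → x ∈ U' ∨ x ∈ Set.range j.base := by
    intro x hx
    have hx' : x ∈ (T : Set Xbar) := hx
    rw [hT] at hx'
    exact hx'
  have hmemU' : ∀ x : X, j x ∈ U' → x ∈ U := by
    intro x hx
    by_contra hxU
    have hx' : j x ∈ (U' : Set Xbar) := hx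
    rw [hU'] at hx'
    exact hx' (subset_closure ⟨x, hxU, rfl⟩)
  have hUmem : ∀ x : X, x ∈ U → j x ∈ U' := by
    intro x hx
    change j x ∈ (U' : Set Xbar)
    rw [hU']
    intro hcl
    have hind : Topology.IsInducing j.base := j.isOpenEmbedding.isInducing
    have h1 : x ∈ closure ((U : Set X)ᶜ) := by
      rw [hind.closure_eq_preimage_closure_image]
      exact hcl
    rw [U.isOpen.isClosed_compl.closure_eq] at h1
    exact h1 hx
  have hsuppU : ∀ (F : DCoh.D X), CxOX.IsSuppD U.ι F → ∀ (i : ℤ) (x : X),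
      x ∈ CohB1.support (DCoh.HD F i) → x ∉ U := by
    intro F hF i x hx hxU
    exact hF i hx ⟨⟨x, hxU⟩, rfl⟩
  have hsuppU' : ∀ (G : DCoh.D Xbar), CxOX.IsSuppD U'.ι G → ∀ (i : ℤ), ∀ x ∈ U',
      x ∉ CohB1.support (DCoh.HD G i) := by
    intro G hG i x hxU' hx
    exact hG i hx ⟨⟨x, hxU'⟩, rfl⟩
  refine ⟨?_, ?_, ?_⟩
  · intro F _ hFU
    refine ⟨?_, Groth.Agent.Lib.Helper12.RGZ.isZero_RgammaZ_Rpush j T hjT F⟩
    intro i x hx
    rintro ⟨y, rfl⟩
    refine Groth.Agent.Lib.Helper12.SuppRj.not_mem_support_of_isZero_restrictD _ U' ?_ i _ y.2 hx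
    apply Groth.Agent.Lib.Helper12.RGZ.isZero_restrictD_Rpush j U'
    apply Groth.Agent.Lib.Helper12.SuppZ.isZero_restrictD_of_support
    intro i' x' hx' hx''
    exact hsuppU F hFU i' x' hx'' (hmemU' x' hx')
  · intro F
    have := Groth.Agent.Lib.Helper12.SuppRj.isIso_counit_of_adj j adj
    infer_instance
  · intro G hGq hGU' hR
    refine ⟨Groth.Agent.Lib.Helper12.RGZ.isIso_unit_of_isZero_RgammaZ j adj U' T hTcases hjT G
      (hsuppU' G hGU') hR, Groth.Agent.Lib.Helper12.RGZ.isQCohD_restrictD j G hGq, ?_⟩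
    intro i x hx
    rintro ⟨y, rfl⟩
    rw [Groth.Agent.Lib.Helper12.SuppRj.mem_support_HD_restrictD] at hx
    exact hsuppU' G hGU' i _ (hUmem _ y.2) hx

end Groth.Agent.S14366
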