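import Groth.Statements.S14368
import Groth.Agent.Lib.Helper12.SuppRj3

set_option autoImplicit false
universe u
open CategoryTheory CategoryTheory.Limits AlgebraicGeometry
attribute [local instance] HasDerivedCategory.standard
open CxOX

namespace Groth.Agent.S14368

theorem result {X Xbar : Scheme.{u}} [IsNoetherian Xbar] [IsNoetherian X]
    (j : X ⟶ Xbar) [IsOpenImmersion j] (W : Xbar.Opens) (hW : (W : Set Xbar)ᶜ ⊆ Set.range j.base)
    [DCoh.HasRpush j] [CxOX.HasRgammaZ W.ι] (hj : DCoh.RpushPreservesQCoh j)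
    (adj : DCoh.restrictD j ⊣ DCoh.Rpush j) (G : DCoh.D Xbar) (hG : DCoh.IsQCohD G) :
    IsIso (adj.unit.app ((CxOX.RgammaZ W.ι).obj G)) := by
  refine Groth.Agent.Lib.Helper12.SuppRj.isIso_unit_of_support j adj ((W : Set Xbar)ᶜ)
    W.isOpen.isClosed_compl hW _ ?_
  intro i x hx hxW
  exact Groth.Agent.Lib.Helper12.SuppRj.not_mem_support_of_isZero_restrictD _ W
    (Groth.Agent.Lib.Helper12.SuppRj.isZero_restrictD_RgammaZ W.ι G) i x hxW hx

end Groth.Agent.S14368
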