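import Groth.Statements.S14369
import Groth.Agent.Lib.Helper72.FibDimIrr

set_option autoImplicit false
universe u
open CategoryTheory CategoryTheory.Limits AlgebraicGeometry
open Variety
open Groth.Agent.Lib.Helper73 Groth.Agent.Lib.Helper72.FibDim Groth.Agent.Lib.Helper72.FibDimIrr

namespace Groth.Agent.S14369

/-- Let k be an algebraically closed field, X and Y schemes of finite type over k with Y irreducible,
and f : X → Y a k-morphism whose underlying continuous map is closed. Suppose that for some natural
number d the fibre of f over every closed point y of Y (the subspace of points mapping to y) is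
irreducible of dimension d. Then X is irreducible and dim X = d + dim Y. (The published statement is
for varieties, i.e. reduced separated schemes; this row assumes neither.) -/
theorem result (k : Type u) [Field k] [IsAlgClosed k]
    {X Y : Scheme.{u}} (qX : X ⟶ Spec (CommRingCat.of k)) (qY : Y ⟶ Spec (CommRingCat.of k))
    [LocallyOfFiniteType qX] [QuasiCompact qX] [LocallyOfFiniteType qY] [QuasiCompact qY]
    (f : X ⟶ Y) (hf : f ≫ qY = qX) [IrreducibleSpace ↥Y] (hcl : IsClosedMap f.base) (d : ℕ)
    (hirr : ∀ y : ↥Y, IsClosed ({y} : Set ↥Y) → IsIrreducible (f.base ⁻¹' {y}))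
    (hdim : ∀ y : ↥Y, IsClosed ({y} : Set ↥Y) → topologicalKrullDim ↥(f.base ⁻¹' {y}) = d) :
    IrreducibleSpace ↥X ∧ topologicalKrullDim ↥X = d + topologicalKrullDim ↥Y := by
  have hfT : LocallyOfFiniteType f := locallyOfFiniteType_of_comp_eq qX qY f hf
  have hJX : JacobsonSpace X := LocallyOfFiniteType.jacobsonSpace qX
  have hJY : JacobsonSpace Y := LocallyOfFiniteType.jacobsonSpace qY
  obtain ⟨ω₀, hω₀, hd₀, hmax₀, hall₀⟩ := exists_dominant qX qY f hf d hirr hdim
  refine irreducibleSpace_and_dim_eq qX qY f hf d ω₀ hω₀ hd₀ ?_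
  have himg : ∀ y : Y, y ∈ f.base '' closure ({ω₀} : Set X) := by
    intro y
    have h1 : IsClosed (f.base '' closure ({ω₀} : Set X)) := hcl _ isClosed_closure
    have h2 : genericPoint Y ∈ f.base '' closure ({ω₀} : Set X) := ⟨ω₀, subset_closure rfl, hω₀⟩
    exact (genericPoint_specializes y).mem_closed h1 h2
  have hcp : closedPoints X ⊆ closure ({ω₀} : Set X) := by
    intro x hx
    have hfx : IsClosed ({f x} : Set Y) := f.closePoints_subset_preimage_closedPoints hx
    obtain ⟨x', hx', hfx'⟩ := himg (f x)
    exact fibre_subset_of_good qX qY f hf d hirr hdim ω₀ hd₀ (f x) hfx ⟨x', hfx', hx'⟩ rfl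
  intro x
  rw [specializes_iff_mem_closure]
  have h3 : closure (closedPoints X) ⊆ closure ({ω₀} : Set X) :=
    closure_minimal hcp isClosed_closure
  rw [closure_closedPoints] at h3
  exact h3 (Set.mem_univ x)

end Groth.Agent.S14369
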