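import Groth.Statements.S1437
import Groth.Agent.Lib.Helper87.AffStratDim

set_option autoImplicit false
universe u
open FlatMor

namespace Groth.Agent.S1437

open AlgebraicGeometry CategoryTheory Limits in
/-- A Noetherian scheme of finite dimension d has affine stratification number at most d: it admits an
affine stratification with index set {0, …, d}. -/
theorem result (X : Scheme.{u}) [IsNoetherian X] (d : ℕ) (hd : topologicalKrullDim ↑X = d) :
    MoreMor.HasAffineStratification X d := by
  have h : topologicalKrullDim ↑X < ((d + 1 : ℕ) : WithBot ℕ∞) := by
    rw [hd]
    exact_mod_cast Nat.lt_succ_self d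
  exact Groth.Agent.Lib.Helper87.AffStratDim.hasStrat_aux (d + 1) X h

end Groth.Agent.S1437
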