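import Groth.Statements.S14370
import Groth.Agent.Lib.Helper72.FibDimIrr

set_option autoImplicit false
universe u
open CategoryTheory CategoryTheory.Limits AlgebraicGeometry
open Variety
open Groth.Agent.Lib.Helper73 Groth.Agent.Lib.Helper72.FibDim Groth.Agent.Lib.Helper72.FibDimIrr

namespace Groth.Agent.S14370

/-- Let k be an algebraically closed field, X and Y schemes of finite type over k with Y irreducible,
and f : X → Y a k-morphism. Suppose that X is pure-dimensional (every irreducible component of X has
dimension dim X) and that for some natural number d the fibre of f over every closed point y of Y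
(the subspace of points mapping to y) is irreducible of dimension d. Then X is irreducible and dim X
= d + dim Y. (The published statement is for varieties, i.e. reduced separated schemes; this row
assumes neither.) -/
theorem result (k : Type u) [Field k] [IsAlgClosed k]
    {X Y : Scheme.{u}} (qX : X ⟶ Spec (CommRingCat.of k)) (qY : Y ⟶ Spec (CommRingCat.of k))
    [LocallyOfFiniteType qX] [QuasiCompact qX] [LocallyOfFiniteType qY] [QuasiCompact qY]
    (f : X ⟶ Y) (hf : f ≫ qY = qX) [IrreducibleSpace ↥Y]
    (hpure : ∀ Z ∈ irreducibleComponents (↥X), topologicalKrullDim ↥Z = topologicalKrullDim ↥X) (d : ℕ)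
    (hirr : ∀ y : ↥Y, IsClosed ({y} : Set ↥Y) → IsIrreducible (f.base ⁻¹' {y}))
    (hdim : ∀ y : ↥Y, IsClosed ({y} : Set ↥Y) → topologicalKrullDim ↥(f.base ⁻¹' {y}) = d) :
    IrreducibleSpace ↥X ∧ topologicalKrullDim ↥X = d + topologicalKrullDim ↥Y := by
  obtain ⟨ω₀, hω₀, hd₀, hmax₀, hall₀⟩ := exists_dominant qX qY f hf d hirr hdim
  refine irreducibleSpace_and_dim_eq qX qY f hf d ω₀ hω₀ hd₀ ?_
  intro x
  obtain ⟨z, hzx, hzmax⟩ := exists_maximal_specializes x
  have hzd := good_of_maximal qX qY f hf d hirr hdim z hzmax
  have h1 := hpure _ (closure_singleton_mem_irreducibleComponents_of_maximal z hzmax)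
  have h2 := hpure _ (closure_singleton_mem_irreducibleComponents_of_maximal ω₀ hmax₀)
  rw [(isDimFun_trdegNat qX).topologicalKrullDim_closure_singleton z] at h1
  rw [(isDimFun_trdegNat qX).topologicalKrullDim_closure_singleton ω₀, ← h1] at h2
  have h3 : trdegNat qX ω₀ = trdegNat qX z := by exact_mod_cast h2
  rw [trdegNat_eq_add qX qY f hf ω₀, trdegNat_eq_add qX qY f hf z, hω₀, hd₀, hzd] at h3
  have h4 : f z = genericPoint Y := by
    by_contra hne
    have := (isDimFun_trdegNat qY).lt_of_specializes (genericPoint_specializes (f z))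
      (fun e => hne e.symm)
    omega
  exact (hall₀ z h4).trans hzx

end Groth.Agent.S14370
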