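import Groth.Statements.S14371
import Groth.Agent.S0561
import Mathlib.RingTheory.Ideal.KrullsHeightTheorem
import Mathlib.RingTheory.Ideal.Quotient.Operations
import Mathlib.Tactic

set_option autoImplicit false
universe u
open CAlg

namespace Groth.Agent.S14371

section Aux
open IsLocalRing
theorem dim_nat (R : Type u) [CommRing R] [IsLocalRing R] [IsNoetherianRing R] :
    ∃ e : ℕ, ringKrullDim R = e := by
  have hd' : ringKrullDim R ≠ ⊥ := ringKrullDim_ne_bot
  have hd'' : ringKrullDim R ≠ ⊤ := ringKrullDim_ne_top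
  cases h : ringKrullDim R with
  | bot => exact absurd h hd'
  | coe a =>
    cases a with
    | top => exact absurd h hd''
    | coe n => exact ⟨n, rfl⟩

/-- quotient by `c` elements of the jacobson radical drops dimension by at most `c` -/
theorem dim_le_quot_add (S : Type u) [CommRing S] [IsNoetherianRing S] [IsLocalRing S] (c : ℕ)
    (y : Fin c → S) (hy : ∀ i, y i ∈ maximalIdeal S) :
    ringKrullDim S ≤ ringKrullDim (S ⧸ Ideal.span (Set.range y)) + c := by
  refine le_trans (ringKrullDim_le_ringKrullDim_quotient_add_encard (Set.range y) ?_) ?_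
  · rw [IsLocalRing.ringJacobson_eq_maximalIdeal]
    rintro _ ⟨i, rfl⟩; exact hy i
  · gcongr
    have h1 : (Set.range y).encard ≤ (c : ℕ∞) := by
      rw [← Set.image_univ]
      refine le_trans (Set.encard_image_le _ _) ?_
      simp [Set.encard_univ]
    exact_mod_cast h1

theorem main {R : Type u} [CommRing R] [IsRegularLocalRing R]
    (I J : Ideal R) [IsRegularLocalRing (R ⧸ I)] [IsRegularLocalRing (R ⧸ J)] [IsLocalRing (R ⧸ (I ⊔ J))]
    (n a b : ℕ) (hn : ringKrullDim R = n) (ha : ringKrullDim (R ⧸ I) = a) (hb : ringKrullDim (R ⧸ J) = b)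
    (ht : Module.finrank (IsLocalRing.ResidueField (R ⧸ (I ⊔ J))) (IsLocalRing.CotangentSpace (R ⧸ (I ⊔ J))) + n = a + b) :
    IsRegularLocalRing (R ⧸ (I ⊔ J)) ∧ ringKrullDim (R ⧸ (I ⊔ J)) = ((a + b - n : ℕ) : WithBot ℕ∞) := by
  classical
  obtain ⟨x, c, hc, hxm, hI⟩ := Groth.Agent.S0561.result R n hn I
  have hxmem : ∀ i, x i ∈ maximalIdeal R := fun i => hxm ▸ Ideal.subset_span ⟨i, rfl⟩
  -- Step 1: a + c ≤ n
  have hac : a + c ≤ n := by
    have hle : ringKrullDim (R ⧸ I) ≤ (maximalIdeal (R ⧸ I)).spanFinrank :=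
      ringKrullDim_le_spanFinrank_maximalIdeal _
    have hmI : maximalIdeal (R ⧸ I) = Ideal.span (Set.range
        (fun i : Fin (n - c) => Ideal.Quotient.mk I (x ⟨c + i, by omega⟩))) := by
      rw [← map_maximalIdeal_of_surjective (Ideal.Quotient.mk I) Ideal.Quotient.mk_surjective, ← hxm,
        Ideal.map_span]
      apply le_antisymm
      · rw [Ideal.span_le]
        rintro _ ⟨_, ⟨i, rfl⟩, rfl⟩
        by_cases hic : (i : ℕ) < c
        · have : x i ∈ I := by
            rw [hI]
            exact Ideal.subset_span ⟨⟨i, hic⟩, by simp [Fin.castLE]⟩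
          rw [Ideal.Quotient.eq_zero_iff_mem.mpr this]
          exact Ideal.zero_mem _
        · apply Ideal.subset_span
          refine ⟨⟨i - c, by omega⟩, ?_⟩
          simp only
          congr 2
          apply Fin.ext
          simp; omega
      · apply Ideal.span_mono
        rintro _ ⟨i, rfl⟩
        exact ⟨_, ⟨_, rfl⟩, rfl⟩
    have hfin : (maximalIdeal (R ⧸ I)).spanFinrank ≤ n - c := by
      rw [hmI]
      refine le_trans (Submodule.spanFinrank_span_le_ncard_of_finite (Set.finite_range _)) ?_
      rw [← Set.image_univ]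
      refine le_trans (Set.ncard_image_le Set.finite_univ) ?_
      simp [Set.ncard_univ]
    rw [ha] at hle
    have : a ≤ (maximalIdeal (R ⧸ I)).spanFinrank := by exact_mod_cast hle
    omega
  -- Step 2: b ≤ dim R̄ + c
  have hIJ : ringKrullDim (R ⧸ J) ≤ ringKrullDim (R ⧸ (I ⊔ J)) + c := by
    let y : Fin c → R ⧸ J := fun i => Ideal.Quotient.mk J (x (Fin.castLE hc i))
    have hy : ∀ i, y i ∈ maximalIdeal (R ⧸ J) := by
      intro i
      rw [← map_maximalIdeal_of_surjective (Ideal.Quotient.mk J) Ideal.Quotient.mk_surjective]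
      exact Ideal.mem_map_of_mem _ (hxmem _)
    have h1 := dim_le_quot_add (R ⧸ J) c y hy
    have hmap : I.map (Ideal.Quotient.mk J) = Ideal.span (Set.range y) := by
      rw [hI, Ideal.map_span, ← Set.range_comp]
      rfl
    have e : ((R ⧸ J) ⧸ Ideal.span (Set.range y)) ≃+* R ⧸ (I ⊔ J) :=
      (Ideal.quotEquivOfEq hmap.symm).trans ((DoubleQuot.quotQuotEquivQuotSup J I).trans
        (Ideal.quotEquivOfEq (sup_comm J I)))
    rwa [ringKrullDim_eq_of_ringEquiv e] at h1
  -- Step 3
  have hle : ringKrullDim (R ⧸ (I ⊔ J)) ≤ (maximalIdeal (R ⧸ (I ⊔ J))).spanFinrank :=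
    ringKrullDim_le_spanFinrank_maximalIdeal _
  rw [spanFinrank_maximalIdeal_eq_finrank_cotangentSpace] at hle
  obtain ⟨e, he⟩ := dim_nat (R ⧸ (I ⊔ J))
  rw [he] at hle hIJ ⊢
  rw [hb] at hIJ
  have h1 : e ≤ Module.finrank (ResidueField (R ⧸ (I ⊔ J))) (CotangentSpace (R ⧸ (I ⊔ J))) := by
    exact_mod_cast hle
  have h2 : b ≤ e + c := by exact_mod_cast hIJ
  have h3 : e = a + b - n := by omega
  refine ⟨?_, by rw [h3]⟩
  rw [IsRegularLocalRing.iff_finrank_cotangentSpace, he]
  have : Module.finrank (ResidueField (R ⧸ (I ⊔ J))) (CotangentSpace (R ⧸ (I ⊔ J))) = e := by omega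
  rw [this]
end Aux

/-- Let R be a regular local ring of dimension n with maximal ideal m and residue field κ, and I, J
ideals of R such that R/I and R/J are regular local rings of dimensions a and b (two subvarieties
smooth at the point). Suppose the quotient R/(I + J) is local with cotangent space m/(m² + I + J) of
dimension a + b − n over κ (the tangent spaces of the two subvarieties meet in the expected
dimension, i.e. they intersect transversally at the point). Then R/(I + J) is a regular local ring
of dimension a + b − n; in particular I + J is a prime ideal. (The published statement is about the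
local rings of a smooth variety over an algebraically closed field at a point where two smooth
closed subvarieties meet transversally, and also states the resulting equalities of tangent spaces
and of ideals; this row is the local-ring form, for an arbitrary regular local ring.) -/
theorem result {R : Type u} [CommRing R] [IsRegularLocalRing R]
    (I J : Ideal R) [IsRegularLocalRing (R ⧸ I)] [IsRegularLocalRing (R ⧸ J)] [IsLocalRing (R ⧸ (I ⊔ J))]
    (n a b : ℕ) (hn : ringKrullDim R = n) (ha : ringKrullDim (R ⧸ I) = a) (hb : ringKrullDim (R ⧸ J) = b)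
    (ht : Module.finrank (IsLocalRing.ResidueField (R ⧸ (I ⊔ J))) (IsLocalRing.CotangentSpace (R ⧸ (I ⊔ J))) + n = a + b) :
    IsRegularLocalRing (R ⧸ (I ⊔ J)) ∧ ringKrullDim (R ⧸ (I ⊔ J)) = ((a + b - n : ℕ) : WithBot ℕ∞) := by
  exact main I J n a b hn ha hb ht

end Groth.Agent.S14371
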