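import Groth.Statements.S14372
import Groth.Agent.S0209
import Mathlib

set_option autoImplicit false
universe u
open Fano

namespace Groth.Agent.S14372


open MvPolynomial

theorem chain {k : Type u} [Field k] {N : ℕ} (g : Fin N → Polynomial k)
    (f : MvPolynomial (Fin N) k) :
    Polynomial.derivative (aeval g f) =
      ∑ l, aeval g (pderiv l f) * Polynomial.derivative (g l) := by
  induction f using MvPolynomial.induction_on with
  | C a => simp
  | add p q hp hq =>
    simp only [map_add, hp, hq, add_mul, Finset.sum_add_distrib]
  | mul_X p i hp =>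
    have key : ∀ l, aeval g (pderiv l (p * X i)) =
        aeval g p * (if l = i then 1 else 0) + g i * aeval g (pderiv l p) := by
      intro l
      rw [Derivation.leibniz, pderiv_X]
      simp only [smul_eq_mul, map_add, map_mul, aeval_X, Pi.single_apply]
      congr 1
      split_ifs with h1 h2 h2
      · simp
      · exact absurd h1.symm h2
      · exact absurd h2.symm h1
      · simp
    rw [map_mul, aeval_X, Polynomial.derivative_mul, hp, Finset.sum_mul]
    simp only [key, add_mul, Finset.sum_add_distrib]
    rw [add_comm]
    congr 1
    · rw [Finset.sum_eq_single i]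
      · simp
      · intro b _ hb
        simp [hb]
      · simp
    · apply Finset.sum_congr rfl
      intro l _
      ring

theorem eval_aeval {k : Type u} [Field k] {N : ℕ} (g : Fin N → Polynomial k)
    (f : MvPolynomial (Fin N) k) (s : k) :
    Polynomial.eval s (aeval g f) = eval (fun l => Polynomial.eval s (g l)) f := by
  induction f using MvPolynomial.induction_on with
  | C a => simp
  | add p q hp hq => simp [hp, hq]
  | mul_X p i hp => simp [hp]

theorem dir_zero {k : Type u} [Field k] [Infinite k] {N : ℕ} (f : MvPolynomial (Fin N) k)
    (U : Submodule k (Fin N → k)) (hU : ∀ u ∈ U, eval u f = 0) (u v : Fin N → k)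
    (hu : u ∈ U) (hv : v ∈ U) : ∑ l, v l * eval u (pderiv l f) = 0 := by
  set g : Fin N → Polynomial k := fun l => Polynomial.C (u l) + Polynomial.C (v l) * Polynomial.X
    with hg
  have hp : aeval g f = 0 := by
    apply Polynomial.funext
    intro s
    rw [eval_aeval, Polynomial.eval_zero]
    have : (fun l => Polynomial.eval s (g l)) = u + s • v := by
      ext l
      simp only [hg, Polynomial.eval_add, Polynomial.eval_C, Polynomial.eval_mul, Polynomial.eval_X,
        Pi.add_apply, Pi.smul_apply, smul_eq_mul]
      ring
    rw [this]
    exact hU _ (U.add_mem hu (U.smul_mem _ hv))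
  have h1 := congrArg (Polynomial.eval 0) (chain g f)
  rw [hp] at h1
  simp only [Polynomial.derivative_zero, Polynomial.eval_zero, Polynomial.eval_finset_sum,
    Polynomial.eval_mul, eval_aeval] at h1
  have h2 : (fun l => Polynomial.eval 0 (g l)) = u := by
    ext l
    simp [hg]
  rw [h2] at h1
  rw [h1]
  apply Finset.sum_congr rfl
  intro l _
  simp only [hg, Polynomial.derivative_add, Polynomial.derivative_C, zero_add,
    Polynomial.derivative_C_mul, Polynomial.derivative_X, mul_one, Polynomial.eval_C]
  ring


theorem eval_aeval' {k : Type u} [Field k] {N M : ℕ} (g : Fin N → MvPolynomial (Fin M) k)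
    (f : MvPolynomial (Fin N) k) (t : Fin M → k) :
    eval t (aeval g f) = eval (fun l => eval t (g l)) f := by
  induction f using MvPolynomial.induction_on with
  | C a => simp
  | add p q hp hq => simp only [map_add, hp, hq]
  | mul_X p i hp => simp only [map_mul, aeval_X, eval_X, hp]


/-- Over an algebraically closed field k of arbitrary characteristic, let f be a homogeneous form of
degree d ≥ 2 in n + 1 variables and U a linear subspace of k^(n+1) on which f vanishes, such that at
every nonzero vector of U some partial derivative of f does not vanish (the hypersurface f = 0 in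
P^n contains the r-plane P(U), r + 1 = dim U, and is smooth at every point of it). Then 2 · dim U ≤
n + 1, i.e. r ≤ (n − 1)/2. (The published statement assumes the hypersurface smooth everywhere; this
row assumes smoothness only along P(U).) -/
theorem result (k : Type u) [Field k] [IsAlgClosed k]
    (n d : ℕ) (hd : 2 ≤ d) (f : MvPolynomial (Fin (n + 1)) k) (hf : f.IsHomogeneous d)
    (U : Submodule k (Fin (n + 1) → k)) (hU : ∀ u ∈ U, MvPolynomial.eval u f = 0)
    (hsm : ∀ u ∈ U, u ≠ 0 → ∃ i : Fin (n + 1), MvPolynomial.eval u (MvPolynomial.pderiv i f) ≠ 0) :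
    2 * Module.finrank k ↥U ≤ n + 1 := by
  classical
  by_contra hlt
  push Not at hlt
  obtain ⟨W, hW⟩ := Submodule.exists_isCompl U
  have hdim : Module.finrank k U + Module.finrank k W = n + 1 := by
    have := Submodule.finrank_add_eq_of_isCompl hW
    simpa using this
  let bU := Module.finBasis k U
  let bW := Module.finBasis k W
  let lin : Fin (n + 1) → MvPolynomial (Fin (Module.finrank k U)) k :=
    fun l' => ∑ i, C ((bU i : Fin (n + 1) → k) l') * X i
  let G : Fin (Module.finrank k W) → MvPolynomial (Fin (Module.finrank k U)) k :=
    fun j => ∑ l, C ((bW j : Fin (n + 1) → k) l) * aeval lin (pderiv l f)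
  have hlin : ∀ l', (lin l').IsHomogeneous 1 := by
    intro l'
    apply IsHomogeneous.sum
    intro i _
    exact isHomogeneous_C_mul_X _ _
  have hGhom : ∀ j, (G j).IsHomogeneous (d - 1) := by
    intro j
    apply IsHomogeneous.sum
    intro l _
    apply IsHomogeneous.C_mul
    have := (hf.pderiv (i := l)).aeval lin hlin
    rwa [one_mul] at this
  have hC := Groth.Agent.S0209.result k
  obtain ⟨t, ht0, ht⟩ := hC (Module.finrank k W) (Module.finrank k U) G (fun _ => d - 1) hGhom
    (fun _ => by omega) (by simp; omega)
  set u : Fin (n + 1) → k := ((∑ i, t i • bU i : U) : Fin (n + 1) → k) with hu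
  have huU : u ∈ U := Submodule.coe_mem _
  have hu0 : u ≠ 0 := by
    intro h0
    apply ht0
    have h1 : (∑ i, t i • bU i : U) = 0 := by
      apply Subtype.ext
      exact h0
    have := Fintype.linearIndependent_iff.mp bU.linearIndependent t h1
    ext i
    exact this i
  have hevlin : (fun l => eval t (lin l)) = u := by
    ext l
    simp only [lin, hu, map_sum, map_mul, eval_C, eval_X]
    rw [Submodule.coe_sum, Finset.sum_apply]
    apply Finset.sum_congr rfl
    intro i _
    simp [mul_comm]
  let D : (Fin (n + 1) → k) →ₗ[k] k :=
    { toFun := fun v => ∑ l, v l * eval u (pderiv l f)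
      map_add' := by
        intro v w
        simp [add_mul, Finset.sum_add_distrib]
      map_smul' := by
        intro c v
        simp [Finset.mul_sum, mul_assoc] }
  have hDU : U ≤ LinearMap.ker D := by
    intro v hv
    exact dir_zero f U hU u v huU hv
  have hDW : W ≤ LinearMap.ker D := by
    have hj : ∀ j, D (bW j : Fin (n + 1) → k) = 0 := by
      intro j
      have := ht j
      simp only [G, map_sum, map_mul, eval_C, eval_aeval', hevlin] at this
      exact this
    intro w hw
    have hrep := congrArg (Subtype.val) (bW.sum_repr ⟨w, hw⟩)
    simp only [Submodule.coe_sum, Submodule.coe_smul] at hrep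
    rw [LinearMap.mem_ker, ← hrep, map_sum]
    apply Finset.sum_eq_zero
    intro j _
    rw [map_smul, hj j, smul_zero]
  have hD : LinearMap.ker D = ⊤ := by
    rw [eq_top_iff, ← hW.sup_eq_top]
    exact sup_le hDU hDW
  obtain ⟨i, hi⟩ := hsm u huU hu0
  apply hi
  have : D (Pi.single i 1) = 0 := by
    have : (Pi.single i 1 : Fin (n + 1) → k) ∈ LinearMap.ker D := by
      rw [hD]
      trivial
    exact this
  simpa [D, Pi.single_apply] using this

end Groth.Agent.S14372
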