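import Groth.Statements.S14375
import Groth.Agent.Lib.Helper51.GeomIrr

set_option autoImplicit false
universe u
open CategoryTheory CategoryTheory.Limits AlgebraicGeometry
open Variety

namespace Groth.Agent.S14375

/-- A nonempty space covered by pairwise intersecting preirreducible open subsets is
irreducible. -/
lemma irreducibleSpace_of_open_cover {X ι : Type*} [TopologicalSpace X] [Nonempty X]
    (U : ι → Set X) (hirr : ∀ i, IsPreirreducible (U i)) (hU : ∀ i, IsOpen (U i))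
    (hcov : ∀ x, ∃ i, x ∈ U i) (hint : ∀ i j, (U i ∩ U j).Nonempty) : IrreducibleSpace X := by
  have : PreirreducibleSpace X := by
    refine ⟨?_⟩
    rintro A B hA hB ⟨a, -, ha⟩ ⟨b, -, hb⟩
    obtain ⟨i, hai⟩ := hcov a
    obtain ⟨j, hbj⟩ := hcov b
    obtain ⟨c, hci, hcj⟩ := hint i j
    obtain ⟨d, -, hdA, hdj⟩ := hirr i A (U j) hA (hU j) ⟨a, hai, ha⟩ ⟨c, hci, hcj⟩
    obtain ⟨e, -, he⟩ := hirr j A B hA hB ⟨d, hdj, hdA⟩ ⟨b, hbj, hb⟩
    exact ⟨e, Set.mem_univ _, he⟩
  exact ⟨inferInstance⟩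

/-- Let k be an algebraically closed field, F an irreducible scheme of finite type over k, and f : X → Y
a k-morphism of schemes of finite type over k with Y irreducible which is locally trivial with fibre
F: every point of Y has an open neighbourhood V such that f⁻¹(V) is isomorphic over V to V ×_k F.
Then X is irreducible. (The published statement is for varieties, i.e. reduced separated schemes;
this row assumes neither.) -/
theorem result (k : Type u) [Field k] [IsAlgClosed k]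
    {X Y F : Scheme.{u}} (qX : X ⟶ Spec (CommRingCat.of k)) (qY : Y ⟶ Spec (CommRingCat.of k))
    (qF : F ⟶ Spec (CommRingCat.of k))
    [LocallyOfFiniteType qX] [QuasiCompact qX] [LocallyOfFiniteType qY] [QuasiCompact qY]
    [LocallyOfFiniteType qF] [QuasiCompact qF] [IrreducibleSpace ↥F] [IrreducibleSpace ↥Y]
    (f : X ⟶ Y) (hf : f ≫ qY = qX)
    (htriv : ∀ y : ↥Y, ∃ V : Y.Opens, y ∈ V ∧
      ∃ e : (↑(f ⁻¹ᵁ V) : Scheme.{u}) ≅ pullback (V.ι ≫ qY) qF, e.hom ≫ pullback.fst (V.ι ≫ qY) qF = f ∣_ V) :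
    IrreducibleSpace ↥X := by
  have hGI : GeometricallyIrreducible qF :=
    Groth.Agent.Lib.Helper51.geometricallyIrreducible_of_isSepClosed qF
  choose V hyV e he using htriv
  -- each `f ⁻¹ᵁ V y` is irreducible and surjects onto `V y`
  have hVirr : ∀ y : Y, IrreducibleSpace ↥(V y : Scheme.{u}) := fun y => by
    have h1 : IsIrreducible (V y : Set Y) := ⟨⟨y, hyV y⟩,
      (IrreducibleSpace.isIrreducible_univ Y).isPreirreducible.open_subset (V y).isOpen
        (Set.subset_univ _)⟩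
    exact Subtype.irreducibleSpace h1
  have hPirr : ∀ y : Y, IrreducibleSpace ↥(pullback ((V y).ι ≫ qY) qF) := fun y => by
    have := hVirr y
    infer_instance
  have hUirr : ∀ y : Y, IrreducibleSpace ↥(f ⁻¹ᵁ V y) := fun y => by
    have := hPirr y
    exact ((e y).hom.homeomorph.irreducibleSpace_iff).mpr inferInstance
  have hsurj : ∀ y : Y, ∀ v ∈ V y, ∃ x : X, f x = v := fun y v hv => by
    have h1 : Surjective (pullback.fst ((V y).ι ≫ qY) qF) := inferInstance
    obtain ⟨p, hp⟩ := h1.surj ⟨v, hv⟩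
    refine ⟨(f ⁻¹ᵁ V y).ι ((e y).inv p), ?_⟩
    have h2 : (e y).inv ≫ (f ∣_ V y) = pullback.fst ((V y).ι ≫ qY) qF := by
      rw [← he y, Iso.inv_hom_id_assoc]
    have h3 : (f ∣_ V y) ((e y).inv p) = ⟨v, hv⟩ := by
      rw [← Scheme.Hom.comp_apply, h2, hp]
    have h4 : (f ∣_ V y) ≫ (V y).ι = (f ⁻¹ᵁ V y).ι ≫ f := morphismRestrict_ι f (V y)
    rw [← Scheme.Hom.comp_apply, ← h4, Scheme.Hom.comp_apply, h3]
    rfl
  have hne : Nonempty X := by
    obtain ⟨y⟩ : Nonempty Y := inferInstance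
    obtain ⟨x, -⟩ := hsurj y y (hyV y)
    exact ⟨x⟩
  refine irreducibleSpace_of_open_cover (fun y : Y => ((f ⁻¹ᵁ V y : X.Opens) : Set X))
    (fun y => ?_) (fun y => (f ⁻¹ᵁ V y).isOpen) (fun x => ⟨f x, hyV (f x)⟩) (fun y y' => ?_)
  · have := hUirr y
    have h1 := (IrreducibleSpace.isIrreducible_univ ↥(f ⁻¹ᵁ V y)).image (f ⁻¹ᵁ V y).ι
      (f ⁻¹ᵁ V y).ι.continuous.continuousOn
    rw [Set.image_univ] at h1
    have h2 : Set.range (f ⁻¹ᵁ V y).ι = ((f ⁻¹ᵁ V y : X.Opens) : Set X) :=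
      Scheme.Opens.range_ι _
    have h3 : IsIrreducible (Set.range (f ⁻¹ᵁ V y).ι) := h1
    rw [h2] at h3
    exact h3.isPreirreducible
  · obtain ⟨v, hv, hv'⟩ : ((V y : Set Y) ∩ (V y' : Set Y)).Nonempty :=
      nonempty_preirreducible_inter (V y).isOpen (V y').isOpen ⟨y, hyV y⟩ ⟨y', hyV y'⟩
    obtain ⟨x, hx⟩ := hsurj y v hv
    refine ⟨x, ?_, ?_⟩
    · show f x ∈ V y
      rw [hx]; exact hv
    · show f x ∈ V y'
      rw [hx]; exact hv'

end Groth.Agent.S14375
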