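import Groth.Statements.S14378
import Groth.Agent.Lib.Helper72.FibDimIrr

set_option autoImplicit false
universe u
open CategoryTheory CategoryTheory.Limits AlgebraicGeometry
open Variety
open Groth.Agent.Lib.Helper73 Groth.Agent.Lib.Helper72.FibDim Groth.Agent.Lib.Helper72.FibDimIrr

namespace Groth.Agent.S14378

/-- Let k be an algebraically closed field, X and Y schemes of finite type over k with Y irreducible,
and f : X → Y a k-morphism such that for some natural number d the fibre of f over every closed
point of Y (the subspace of points mapping to it) is irreducible of dimension d. Then (i) exactly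
one irreducible component of X has dense image in Y, and (ii) each irreducible component Z of X is
made up of whole fibres — if Z meets the fibre over a closed point then it contains it — and dim Z =
d + dim f(Z)‾, the dimension of the closure of its image. (The published assertions are for
varieties, i.e. reduced separated schemes; this row assumes neither.) -/
theorem result (k : Type u) [Field k] [IsAlgClosed k]
    {X Y : Scheme.{u}} (qX : X ⟶ Spec (CommRingCat.of k)) (qY : Y ⟶ Spec (CommRingCat.of k))
    [LocallyOfFiniteType qX] [QuasiCompact qX] [LocallyOfFiniteType qY] [QuasiCompact qY]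
    (f : X ⟶ Y) (hf : f ≫ qY = qX) [IrreducibleSpace ↥Y] (d : ℕ)
    (hirr : ∀ y : ↥Y, IsClosed ({y} : Set ↥Y) → IsIrreducible (f.base ⁻¹' {y}))
    (hdim : ∀ y : ↥Y, IsClosed ({y} : Set ↥Y) → topologicalKrullDim ↥(f.base ⁻¹' {y}) = d) :
    (∃! Z : Set ↥X, Z ∈ irreducibleComponents ↥X ∧ Dense (f.base '' Z)) ∧
      ∀ Z ∈ irreducibleComponents ↥X,
        (∀ y : ↥Y, IsClosed ({y} : Set ↥Y) → (f.base ⁻¹' {y} ∩ Z).Nonempty → f.base ⁻¹' {y} ⊆ Z) ∧
        topologicalKrullDim ↥Z = d + topologicalKrullDim ↥(closure (f.base '' Z)) := by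
  obtain ⟨ω₀, hω₀, hd₀, hmax₀, hall₀⟩ := exists_dominant qX qY f hf d hirr hdim
  refine ⟨⟨closure {ω₀}, ⟨closure_singleton_mem_irreducibleComponents_of_maximal ω₀ hmax₀, ?_⟩,
    ?_⟩, ?_⟩
  · intro y
    have h1 : genericPoint Y ∈ f.base '' closure ({ω₀} : Set X) := ⟨ω₀, subset_closure rfl, hω₀⟩
    exact closure_mono (Set.singleton_subset_iff.mpr h1)
      (specializes_iff_mem_closure.mp (genericPoint_specializes y))
  · rintro Z ⟨hZ, hZd⟩
    obtain ⟨z, hzZ, hzmax⟩ := exists_maximal_of_mem_irreducibleComponents Z hZ
    have hfz : f z = genericPoint Y := by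
      apply eq_genericPoint_of_specializes
      rw [specializes_iff_mem_closure, ← closure_image_closure_singleton qX qY f hf z, hzZ]
      exact hZd _
    rw [← hzZ, hzmax ω₀ (hall₀ z hfz)]
  · intro Z hZ
    obtain ⟨z, hzZ, hzmax⟩ := exists_maximal_of_mem_irreducibleComponents Z hZ
    have hzd := good_of_maximal qX qY f hf d hirr hdim z hzmax
    subst hzZ
    exact ⟨fun y hy hne => fibre_subset_of_good qX qY f hf d hirr hdim z hzd y hy hne,
      dim_closure_eq qX qY f hf d z hzd⟩

end Groth.Agent.S14378
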