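import Groth.Statements.S14379
import Mathlib
import Groth.Agent.Lib.Helper80.NNPow

set_option autoImplicit false
open scoped TensorProduct
universe u
open CAlg

namespace Groth.Agent.S14379

open MvPolynomial Groth.Agent.Lib.Helper80.NNPow

lemma aeval_surjective_of_generators {V F R : Type u} [CommRing V] [Field F] [Algebra V F]
    [CommRing R] [Algebra V R] {m n : ℕ}
    (z : Fin m → R) (hz : Algebra.adjoin V (Set.range z) = ⊤) (c : Fin n → F ⊗[V] R)
    (h : ∀ j, (1 : F) ⊗ₜ[V] z j ∈ (aeval c : MvPolynomial (Fin n) F →ₐ[F] F ⊗[V] R).range) :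
    Function.Surjective (aeval c : MvPolynomial (Fin n) F →ₐ[F] F ⊗[V] R) := by
  have h1 : ∀ r : R, (1 : F) ⊗ₜ[V] r ∈ (aeval c : MvPolynomial (Fin n) F →ₐ[F] F ⊗[V] R).range := by
    have hle : Algebra.adjoin V (Set.range z) ≤
        ((aeval c : MvPolynomial (Fin n) F →ₐ[F] F ⊗[V] R).range.restrictScalars V).comap
          (Algebra.TensorProduct.includeRight : R →ₐ[V] F ⊗[V] R) :=
      Algebra.adjoin_le (by
        rintro _ ⟨j, rfl⟩
        exact h j)
    intro r
    have hr : r ∈ Algebra.adjoin V (Set.range z) := by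
      rw [hz]
      trivial
    exact hle hr
  intro a
  have ha : a ∈ (aeval c : MvPolynomial (Fin n) F →ₐ[F] F ⊗[V] R).range := by
    induction a using TensorProduct.induction_on with
    | zero => exact zero_mem _
    | tmul a r =>
      have h2 : a ⊗ₜ[V] r = a • ((1 : F) ⊗ₜ[V] r) := by
        rw [TensorProduct.smul_tmul', smul_eq_mul, mul_one]
      rw [h2]
      exact Subalgebra.smul_mem _ (h1 r) a
    | add x y hx hy => exact add_mem hx hy
  exact ha

/-- Let V be a discrete valuation ring with residue field k and fraction field K, let R be a flat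
V-algebra of finite type such that both fibre rings k ⊗_V R and K ⊗_V R have Krull dimension at most
d, let x_1, …, x_d be elements of R and let N ≥ 1 be an integer. Then there are elements y_1, …, y_d
of the subring of R generated by the N-th powers of elements of R such that, setting f_i = x_i +
y_i, the fibre ring k ⊗_V R is finite over the polynomial ring k[T_1, …, T_d] via T_i ↦ 1 ⊗ f_i and
K ⊗_V R is finite over K[T_1, …, T_d] via T_i ↦ 1 ⊗ f_i; in other words the morphism (f_1, …, f_d)
to affine d-space over V is finite on both fibres. -/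
theorem result (V : Type u) [CommRing V] [IsDomain V]
    [IsDiscreteValuationRing V] (R : Type u) [CommRing R] [Algebra V R] [Module.Flat V R]
    [Algebra.FiniteType V R] (d : ℕ)
    (hs : ringKrullDim (IsLocalRing.ResidueField V ⊗[V] R) ≤ d)
    (hη : ringKrullDim (FractionRing V ⊗[V] R) ≤ d)
    (x : Fin d → R) (N : ℕ) (hN : 1 ≤ N) :
    ∃ y : Fin d → R, (∀ i, y i ∈ Subring.closure (Set.range fun r : R => r ^ N)) ∧
      (MvPolynomial.aeval (fun i => (1 : IsLocalRing.ResidueField V) ⊗ₜ[V] (x i + y i)) :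
          MvPolynomial (Fin d) (IsLocalRing.ResidueField V) →ₐ[IsLocalRing.ResidueField V]
            IsLocalRing.ResidueField V ⊗[V] R).toRingHom.Finite ∧
      (MvPolynomial.aeval (fun i => (1 : FractionRing V) ⊗ₜ[V] (x i + y i)) :
          MvPolynomial (Fin d) (FractionRing V) →ₐ[FractionRing V] FractionRing V ⊗[V] R).toRingHom.Finite := by
  classical
  obtain ⟨s0, hs0⟩ := (inferInstance : Algebra.FiniteType V R).out
  let z : Fin s0.card → R := fun j => ((s0.equivFin.symm j : s0) : R)
  have hz : Algebra.adjoin V (Set.range z) = ⊤ := by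
    have hrange : Set.range z = (s0 : Set R) := by
      ext r
      constructor
      · rintro ⟨j, rfl⟩
        exact (s0.equivFin.symm j).2
      · intro hr
        exact ⟨s0.equivFin ⟨r, hr⟩, by simp [z]⟩
    rw [hrange]
    exact hs0
  let ιs : R →+* IsLocalRing.ResidueField V ⊗[V] R :=
    (Algebra.TensorProduct.includeRight : R →ₐ[V] IsLocalRing.ResidueField V ⊗[V] R).toRingHom
  let ιη : R →+* FractionRing V ⊗[V] R :=
    (Algebra.TensorProduct.includeRight : R →ₐ[V] FractionRing V ⊗[V] R).toRingHom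
  have hιs : ∀ r : R, ιs r = (1 : IsLocalRing.ResidueField V) ⊗ₜ[V] r := fun r => rfl
  have hιη : ∀ r : R, ιη r = (1 : FractionRing V) ⊗ₜ[V] r := fun r => rfl
  have hPw_le : ∀ G : Set R, ∀ a ∈ Pw G N, a ∈ Subring.closure (Set.range fun r : R => r ^ N) := by
    intro G a ha
    have hle : Pw G N ≤ (Subring.closure (Set.range fun r : R => r ^ N)).toAddSubgroup := by
      refine (AddSubgroup.closure_le _).mpr ?_
      rintro _ ⟨g, -, rfl⟩
      exact Subring.subset_closure ⟨g, rfl⟩
    exact hle ha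
  -- Step A: the special fibre
  let cA : Fin (d + s0.card) → IsLocalRing.ResidueField V ⊗[V] R :=
    Fin.append (fun i => ιs (x i)) (fun j => ιs (z j))
  have hcA_G : ∀ i : Fin (d + s0.card), d ≤ (i : ℕ) → ∃ g ∈ (Set.univ : Set R), cA i = ιs g := by
    intro i hi
    obtain ⟨j, rfl⟩ : ∃ j : Fin s0.card, i = Fin.natAdd d j :=
      ⟨⟨(i : ℕ) - d, by have := i.isLt; omega⟩, Fin.ext (by simp; omega)⟩
    exact ⟨z j, trivial, by simp only [cA, Fin.append_right]⟩
  have hcA_int : (aeval cA : MvPolynomial (Fin (d + s0.card)) (IsLocalRing.ResidueField V) →ₐ[_]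
      IsLocalRing.ResidueField V ⊗[V] R).toRingHom.IsIntegral := by
    refine RingHom.isIntegral_of_surjective _ (aeval_surjective_of_generators z hz cA (fun j => ?_))
    refine ⟨X (Fin.natAdd d j), ?_⟩
    simp only [AlgHom.toRingHom_eq_coe, RingHom.coe_coe, aeval_X, cA, Fin.append_right]
    rfl
  obtain ⟨yA, hyA, hIntA⟩ := exists_perturbation ιs Set.univ d N hN hs
    (fun _ _ _ _ => trivial) (fun _ _ _ _ => trivial) (d + s0.card) (Nat.le_add_right d _)
    cA hcA_G hcA_int
  have hcA_left : ∀ i : Fin d, cA (Fin.castLE (Nat.le_add_right d _) i) = ιs (x i) := by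
    intro i
    have h1 : Fin.castLE (Nat.le_add_right d s0.card) i = Fin.castAdd s0.card i := Fin.ext rfl
    rw [h1]
    simp only [cA, Fin.append_left]
  -- the uniformizer
  obtain ⟨ϖ, hϖ⟩ := IsDiscreteValuationRing.exists_irreducible V
  have hϖK : algebraMap V (FractionRing V) ϖ ≠ 0 := by
    intro h0
    exact hϖ.ne_zero ((IsFractionRing.injective V (FractionRing V))
      (h0.trans (map_zero _).symm))
  have hϖk : algebraMap V (IsLocalRing.ResidueField V) ϖ = 0 := by
    rw [IsLocalRing.ResidueField.algebraMap_eq, IsLocalRing.residue_eq_zero_iff,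
      IsLocalRing.mem_maximalIdeal]
    exact hϖ.not_isUnit
  -- Step B: the generic fibre
  let GB : Set R := {a | ∃ r : R, a = algebraMap V R ϖ * r}
  have hGB_mul : ∀ a ∈ GB, ∀ b ∈ GB, a * b ∈ GB := by
    rintro _ ⟨r1, rfl⟩ _ ⟨r2, rfl⟩
    exact ⟨r1 * (algebraMap V R ϖ * r2), by ring⟩
  have hGB_sub : ∀ a ∈ GB, ∀ b ∈ GB, a - b ∈ GB := by
    rintro _ ⟨r1, rfl⟩ _ ⟨r2, rfl⟩
    exact ⟨r1 - r2, by ring⟩
  let cB : Fin (d + s0.card) → FractionRing V ⊗[V] R :=
    Fin.append (fun i => ιη (x i + yA i)) (fun j => ιη (algebraMap V R ϖ * z j))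
  have hcB_G : ∀ i : Fin (d + s0.card), d ≤ (i : ℕ) → ∃ g ∈ GB, cB i = ιη g := by
    intro i hi
    obtain ⟨j, rfl⟩ : ∃ j : Fin s0.card, i = Fin.natAdd d j :=
      ⟨⟨(i : ℕ) - d, by have := i.isLt; omega⟩, Fin.ext (by simp; omega)⟩
    exact ⟨algebraMap V R ϖ * z j, ⟨z j, rfl⟩, by simp only [cB, Fin.append_right]⟩
  have hsmulη : ∀ r : R, ιη (algebraMap V R ϖ * r) =
      algebraMap V (FractionRing V) ϖ • ((1 : FractionRing V) ⊗ₜ[V] r) := by
    intro r
    rw [hιη, ← Algebra.smul_def, TensorProduct.tmul_smul, algebraMap_smul]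
  have hcB_int : (aeval cB : MvPolynomial (Fin (d + s0.card)) (FractionRing V) →ₐ[_]
      FractionRing V ⊗[V] R).toRingHom.IsIntegral := by
    refine RingHom.isIntegral_of_surjective _ (aeval_surjective_of_generators z hz cB (fun j => ?_))
    have h1 : cB (Fin.natAdd d j) ∈
        (aeval cB : MvPolynomial (Fin (d + s0.card)) (FractionRing V) →ₐ[_] _).range :=
      ⟨X (Fin.natAdd d j), by simp⟩
    have h2 : cB (Fin.natAdd d j) =
        algebraMap V (FractionRing V) ϖ • ((1 : FractionRing V) ⊗ₜ[V] z j) := by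
      simp only [cB, Fin.append_right]
      exact hsmulη _
    have h3 := Subalgebra.smul_mem _ h1 (algebraMap V (FractionRing V) ϖ)⁻¹
    rw [h2, smul_smul, inv_mul_cancel₀ hϖK, one_smul] at h3
    exact h3
  obtain ⟨yB, hyB, hIntB⟩ := exists_perturbation ιη GB d N hN hη hGB_mul hGB_sub
    (d + s0.card) (Nat.le_add_right d _) cB hcB_G hcB_int
  have hcB_left : ∀ i : Fin d, cB (Fin.castLE (Nat.le_add_right d _) i) = ιη (x i + yA i) := by
    intro i
    have h1 : Fin.castLE (Nat.le_add_right d s0.card) i = Fin.castAdd s0.card i := Fin.ext rfl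
    rw [h1]
    simp only [cB, Fin.append_left]
  -- `ιs` kills `yB`
  have hkill : ∀ a ∈ Pw GB N, ιs a = 0 := by
    intro a ha
    refine AddSubgroup.closure_induction (p := fun a _ => ιs a = 0) ?_ ?_ ?_ ?_ ha
    · rintro _ ⟨_, ⟨r, rfl⟩, rfl⟩
      have h1 : ιs (algebraMap V R ϖ * r) = 0 := by
        rw [hιs, ← Algebra.smul_def, TensorProduct.tmul_smul,
          ← algebraMap_smul (IsLocalRing.ResidueField V), hϖk, zero_smul]
      rw [map_pow, h1, zero_pow (by omega)]
    · exact map_zero _
    · intro a b _ _ ha hb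
      rw [map_add, ha, hb, add_zero]
    · intro a _ ha
      rw [map_neg, ha, neg_zero]
  refine ⟨fun i => yA i + yB i, fun i => ?_, ?_, ?_⟩
  · exact Subring.add_mem _ (hPw_le _ _ (hyA i)) (hPw_le _ _ (hyB i))
  · have hfam : (fun i => (1 : IsLocalRing.ResidueField V) ⊗ₜ[V] (x i + (yA i + yB i))) =
        fun i : Fin d => cA (Fin.castLE (Nat.le_add_right d _) i) + ιs (yA i) := by
      funext i
      rw [hcA_left, ← hιs, ← add_assoc, map_add, map_add, hkill _ (hyB i), add_zero]
    rw [hfam]
    exact hIntA.to_finite (finiteType_aeval _)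
  · have hfam : (fun i => (1 : FractionRing V) ⊗ₜ[V] (x i + (yA i + yB i))) =
        fun i : Fin d => cB (Fin.castLE (Nat.le_add_right d _) i) + ιη (yB i) := by
      funext i
      rw [hcB_left, ← hιη, ← add_assoc, map_add (ιη) (x i + yA i)]
    rw [hfam]
    exact hIntB.to_finite (finiteType_aeval _)

end Groth.Agent.S14379
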