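import Groth.Statements.S1438
-- no extra imports

set_option autoImplicit false
universe u
open FlatMor

namespace Groth.Agent.S1438

open AlgebraicGeometry CategoryTheory Limits in
/-- A separated scheme with an open covering by n + 1 affine opens has affine stratification number at
most n: it admits an affine stratification with index set {0, …, n}. -/
theorem result (X : Scheme.{u}) [X.IsSeparated] (n : ℕ) (U : Fin (n + 1) → X.Opens)
    (hU : ∀ i, IsAffineOpen (U i)) (hcov : ⨆ i, U i = ⊤) :
    MoreMor.HasAffineStratification X n := by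
  classical
  -- the index function: the largest index of a member of the cover containing the point
  let s : X → Fin (n + 1) := fun x => (Finset.univ.filter (fun i => x ∈ U i)).sup id
  have hs_le : ∀ x i, s x ≤ i ↔ ∀ j, x ∈ U j → j ≤ i := by
    intro x i
    simp only [s, Finset.sup_le_iff, Finset.mem_filter, Finset.mem_univ, true_and, id]
  have hcovx : ∀ x : X, ∃ i, x ∈ U i := by
    intro x
    have : x ∈ (⨆ i, U i : X.Opens) := by rw [hcov]; trivial
    simpa [TopologicalSpace.Opens.mem_iSup] using this
  have hs_mem : ∀ x, x ∈ U (s x) := by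
    intro x
    obtain ⟨i, hi⟩ := hcovx x
    have hne : (Finset.univ.filter (fun i => x ∈ U i)).Nonempty := ⟨i, by simp [hi]⟩
    obtain ⟨j, hj, hjs⟩ := Finset.exists_mem_eq_sup _ hne (id : Fin (n + 1) → Fin (n + 1))
    have : s x = j := hjs
    rw [this]
    simpa using hj
  have hs_eq : ∀ x i, s x = i ↔ x ∈ U i ∧ ∀ j, x ∈ U j → j ≤ i := by
    intro x i
    constructor
    · rintro rfl
      exact ⟨hs_mem x, (hs_le x _).1 le_rfl⟩
    · rintro ⟨h1, h2⟩
      exact le_antisymm ((hs_le x i).2 h2) ((hs_le x (s x)).1 le_rfl i h1)
  -- the closed sets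
  let C : Fin (n + 1) → Set X := fun i => {x | ∀ j, x ∈ U j → j ≤ i}
  have hC : ∀ i, IsClosed (C i) := by
    intro i
    have : C i = ⋂ j, {x | x ∈ U j → j ≤ i} := by
      ext x; simp [C]
    rw [this]
    refine isClosed_iInter fun j => ?_
    by_cases hji : j ≤ i
    · simp [hji]
    · have : {x : X | x ∈ U j → j ≤ i} = ((U j : Set X))ᶜ := by
        ext x; simp [hji]
      rw [this]
      exact (U j).isOpen.isClosed_compl
  refine ⟨s, ?_, ?_⟩
  · intro i
    have : {x : X | s x ≤ i} = C i := by
      ext x; exact hs_le x i
    rw [this]; exact hC i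
  · intro i
    -- closed subset of the affine scheme `U i`
    let C' : TopologicalSpace.Closeds (U i).toScheme :=
      ⟨(U i).ι ⁻¹' C i, (hC i).preimage (U i).ι.continuous⟩
    let I := Scheme.IdealSheafData.vanishingIdeal C'
    haveI : IsAffine (U i).toScheme := hU i
    haveI : IsAffineHom (U i).ι := by
      haveI : IsAffineHom ((U i).ι ≫ terminal.from X) := inferInstance
      exact IsAffineHom.of_comp (U i).ι (terminal.from X)
    refine ⟨I.subscheme, I.subschemeι ≫ (U i).ι, inferInstance, ?_, inferInstance, ?_⟩
    · exact isAffine_of_isAffineHom I.subschemeι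
    · rw [Scheme.Hom.comp_base, TopCat.coe_comp, Set.range_comp, Scheme.IdealSheafData.range_subschemeι,
        Scheme.IdealSheafData.coe_support_vanishingIdeal]
      ext x
      simp only [Set.mem_image, Set.mem_setOf_eq]
      constructor
      · rintro ⟨y, hy, rfl⟩
        have hy' : y ∈ (U i).ι ⁻¹' C i := by
          have : closure ((U i).ι ⁻¹' C i) = (U i).ι ⁻¹' C i :=
            ((hC i).preimage (U i).ι.continuous).closure_eq
          simpa [C', this] using hy
        exact (hs_eq _ i).2 ⟨y.2, hy'⟩
      · intro hx
        obtain ⟨h1, h2⟩ := (hs_eq x i).1 hx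
        refine ⟨⟨x, h1⟩, ?_, rfl⟩
        have : closure ((U i).ι ⁻¹' C i) = (U i).ι ⁻¹' C i :=
          ((hC i).preimage (U i).ι.continuous).closure_eq
        have hx' : x ∈ C i := h2
        simpa [C', this] using hx'

end Groth.Agent.S1438
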