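import Groth.Statements.S14383
import Mathlib
import Groth.Agent.Lib.Helper80.EtaEtale

set_option autoImplicit false
open scoped TensorProduct
open AlgebraicGeometry
universe u
open CAlg

namespace Groth.Agent.S14383

open Groth.Agent.Lib.Helper80

/-- `p` lies in `(ϖ)`. -/
lemma p_eq {V : Type u} [CommRing V] [IsDomain V] [IsDiscreteValuationRing V]
    (ϖ : V) (hϖ : Irreducible ϖ) (p : ℕ) [CharP (IsLocalRing.ResidueField V) p] :
    ∃ c0 : V, c0 * ϖ = (p : V) := by
  have hpmem : (p : V) ∈ IsLocalRing.maximalIdeal V := by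
    rw [← IsLocalRing.residue_eq_zero_iff, map_natCast]
    exact CharP.cast_eq_zero _ p
  rw [hϖ.maximalIdeal_eq, Ideal.mem_span_singleton'] at hpmem
  exact hpmem

theorem part1 (V : Type u) [CommRing V] [IsDomain V] [IsDiscreteValuationRing V]
    (ϖ : V) (hϖ : Irreducible ϖ) (p : ℕ) [CharP (IsLocalRing.ResidueField V) p]
    (A : Type u) [CommRing A] [Algebra V A]
    (R : Type u) [CommRing R] [Algebra V R] [Algebra.FiniteType V R] [Algebra A R]
    [IsScalarTower V A R] (a : R)
    (hcop : Ideal.span {a} ⊔ Ideal.span {algebraMap V R ϖ} = ⊤)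
    (het : ((algebraMap R (Localization.Away (a * algebraMap V R ϖ))).comp
      (algebraMap A R)).Etale) :
    ∃ n : ℕ, Ideal.span {((p : R)) ^ n} • (⊤ : Submodule R (Ω[R⁄A])) ≤
        Ideal.span {algebraMap V R ϖ * (p : R) ^ n} • (⊤ : Submodule R (Ω[R⁄A])) := by
  haveI : Algebra.FiniteType A R := Algebra.FiniteType.of_restrictScalars_finiteType V A R
  rw [← IsScalarTower.algebraMap_eq A R (Localization.Away (a * algebraMap V R ϖ))] at het
  haveI hEt : Algebra.Etale A (Localization.Away (a * algebraMap V R ϖ)) :=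
    RingHom.etale_algebraMap.mp het
  have hsub : Subsingleton (Ω[Localization.Away (a * algebraMap V R ϖ)⁄A]) := inferInstance
  have hloc := (IsLocalizedModule.subsingleton_iff (Submonoid.powers (a * algebraMap V R ϖ))
    (KaehlerDifferential.map A A R (Localization.Away (a * algebraMap V R ϖ)))).mp hsub
  obtain ⟨m, hm⟩ : ∃ m : ℕ, ∀ ω : Ω[R⁄A], (a * algebraMap V R ϖ) ^ m • ω = 0 := by
    obtain ⟨s, hs⟩ := (Module.Finite.fg_top : (⊤ : Submodule R (Ω[R⁄A])).FG)
    have hk : ∀ ω : Ω[R⁄A], ∃ k : ℕ, (a * algebraMap V R ϖ) ^ k • ω = 0 := fun ω => by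
      obtain ⟨r, ⟨k, rfl⟩, hr⟩ := hloc ω
      exact ⟨k, hr⟩
    choose k hk using hk
    refine ⟨s.sup k, fun ω => ?_⟩
    have hmem : ω ∈ Submodule.span R (s : Set (Ω[R⁄A])) := by
      rw [hs]; exact Submodule.mem_top
    refine Submodule.span_induction
      (p := fun ω _ => (a * algebraMap V R ϖ) ^ (s.sup k) • ω = 0) ?_ ?_ ?_ ?_ hmem
    · intro x hx
      have hle : k x ≤ s.sup k := Finset.le_sup hx
      rw [← Nat.sub_add_cancel hle, pow_add, mul_smul, hk x, smul_zero]
    · exact smul_zero _
    · intro x y _ _ hx hy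
      rw [smul_add, hx, hy, add_zero]
    · intro r x _ hx
      rw [smul_comm, hx, smul_zero]
  have hcop' : IsCoprime (a ^ m) (algebraMap V R ϖ) := by
    have h0 : IsCoprime a (algebraMap V R ϖ) := by
      rw [← Ideal.isCoprime_span_singleton_iff, Ideal.isCoprime_iff_sup_eq]
      exact hcop
    exact h0.pow_left
  obtain ⟨x, y, hxy⟩ := hcop'
  obtain ⟨c0, hc0⟩ := p_eq ϖ hϖ p
  have hpR : (p : R) = algebraMap V R c0 * algebraMap V R ϖ := by
    rw [← map_mul, hc0, map_natCast]
  refine ⟨m, ?_⟩
  rw [Submodule.smul_le]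
  intro r hr ω _
  rw [Ideal.mem_span_singleton'] at hr
  obtain ⟨s, rfl⟩ := hr
  have key : ((p : R)) ^ m • ω = (algebraMap V R ϖ * (p : R) ^ m) • (y • ω) := by
    have h1 : (algebraMap V R ϖ) ^ m • ω = (y * algebraMap V R ϖ ^ (m + 1)) • ω := by
      have hthis : (algebraMap V R ϖ) ^ m =
          x * (a * algebraMap V R ϖ) ^ m + y * algebraMap V R ϖ ^ (m + 1) := by
        calc (algebraMap V R ϖ) ^ m
            = (x * a ^ m + y * algebraMap V R ϖ) * (algebraMap V R ϖ) ^ m := by
              rw [hxy, one_mul]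
          _ = _ := by ring
      have e1 : (x * (a * algebraMap V R ϖ) ^ m + y * algebraMap V R ϖ ^ (m + 1)) • ω =
          (y * algebraMap V R ϖ ^ (m + 1)) • ω := by
        rw [add_smul, mul_smul x, hm ω, smul_zero, zero_add]
      rw [← e1, ← hthis]
    calc ((p : R)) ^ m • ω
        = (algebraMap V R c0 ^ m * algebraMap V R ϖ ^ m) • ω := by rw [hpR, mul_pow]
      _ = algebraMap V R c0 ^ m • ((algebraMap V R ϖ) ^ m • ω) := by rw [mul_smul]
      _ = algebraMap V R c0 ^ m • ((y * algebraMap V R ϖ ^ (m + 1)) • ω) := by rw [h1]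
      _ = (algebraMap V R ϖ * (algebraMap V R c0 * algebraMap V R ϖ) ^ m) • (y • ω) := by
            rw [← mul_smul, ← mul_smul]
            congr 1
            ring
      _ = _ := by rw [← hpR]
  rw [mul_smul, key, smul_comm]
  exact Submodule.smul_mem_smul (Ideal.mem_span_singleton_self _) Submodule.mem_top

theorem part2 (V : Type u) [CommRing V] [IsDomain V] [IsDiscreteValuationRing V] [CharZero V]
    (ϖ : V) (hϖ : Irreducible ϖ) (p : ℕ) [Fact p.Prime]
    (A : Type u) [CommRing A] [Algebra V A]
    (R : Type u) [CommRing R] [Algebra V R] [Algebra.FiniteType V R] [Algebra A R]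
    [IsScalarTower V A R] (d : ℕ)
    (hA : SmoothOfRelativeDimension d
        (Spec.map (CommRingCat.ofHom (algebraMap (FractionRing V) (FractionRing V ⊗[V] A)))))
    (hR : SmoothOfRelativeDimension d
        (Spec.map (CommRingCat.ofHom (algebraMap (FractionRing V) (FractionRing V ⊗[V] R)))))
    (n : ℕ) (hn : Ideal.span {((p : R)) ^ n} • (⊤ : Submodule R (Ω[R⁄A])) ≤
        Ideal.span {algebraMap V R ϖ * (p : R) ^ n} • (⊤ : Submodule R (Ω[R⁄A]))) :
    ∃ a : R, Ideal.span {a} ⊔ Ideal.span {algebraMap V R ϖ} = ⊤ ∧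
        ((algebraMap R (Localization.Away (a * algebraMap V R ϖ))).comp (algebraMap A R)).Etale := by
  haveI : Algebra.FiniteType A R := Algebra.FiniteType.of_restrictScalars_finiteType V A R
  have hfg : (Ideal.span {((p : R)) ^ n} • (⊤ : Submodule R (Ω[R⁄A]))).FG :=
    Submodule.FG.smul (Submodule.fg_span_singleton _) Module.Finite.fg_top
  have hle : Ideal.span {((p : R)) ^ n} • (⊤ : Submodule R (Ω[R⁄A])) ≤
      Ideal.span {algebraMap V R ϖ} •
        (Ideal.span {((p : R)) ^ n} • (⊤ : Submodule R (Ω[R⁄A]))) := by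
    rw [← Submodule.mul_smul, Ideal.span_singleton_mul_span_singleton]
    exact hn
  obtain ⟨a, ha1, ha2⟩ :=
    Submodule.exists_sub_one_mem_and_smul_eq_zero_of_fg_of_le_smul _ _ hfg hle
  refine ⟨a, ?_, ?_⟩
  · rw [Ideal.eq_top_iff_one]
    have h1 : (1 : R) = a - (a - 1) := by ring
    rw [h1]
    exact Submodule.sub_mem _ (Submodule.mem_sup_left (Ideal.mem_span_singleton_self a))
      (Submodule.mem_sup_right ha1)
  · refine EtaEtale.etale_of_kill ϖ hϖ A R a d hA hR (a * (p : R) ^ n) ?_ ?_
    · intro ω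
      rw [mul_smul]
      exact ha2 _ (Submodule.smul_mem_smul (Ideal.mem_span_singleton_self _) Submodule.mem_top)
    · have hu0 : IsUnit (algebraMap R (Localization.Away (a * algebraMap V R ϖ))
          (a * algebraMap V R ϖ)) := IsLocalization.Away.algebraMap_isUnit _
      rw [map_mul, IsUnit.mul_iff] at hu0
      have hp0 : (p : V) ≠ 0 := Nat.cast_ne_zero.mpr (Fact.out : p.Prime).ne_zero
      obtain ⟨e, u, hpu⟩ := IsDiscreteValuationRing.eq_unit_mul_pow_irreducible hp0 hϖ
      have hpR : (p : R) = algebraMap V R (u : V) * algebraMap V R ϖ ^ e := by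
        rw [← map_pow, ← map_mul, ← hpu, map_natCast]
      rw [map_mul, map_pow, hpR, map_mul, map_pow]
      refine hu0.1.mul (IsUnit.pow _ (IsUnit.mul ?_ (hu0.2.pow _)))
      exact (u.isUnit.map (algebraMap V R)).map _

/-- Let V be a discrete valuation ring of characteristic zero with uniformizer ϖ, whose residue field k
is perfect of characteristic p > 0, and let A → R be a homomorphism of V-algebras of finite type,
viewed as a morphism f : Spec R → Spec A of schemes of finite type over Spec V. Say f is η-étale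
when there is an open neighbourhood of the closed fibre of Spec R on whose generic fibre f is étale;
for affine Spec R this means: some a ∈ R with (a) + (ϖ) = R has R[1/(aϖ)] étale over A. First: if f
is η-étale then for some n ≥ 0 the submodule p^n Ω_{R/A} of the module of differentials is contained
in ϖ p^n Ω_{R/A} (that is, p^n Ω_{R/A} vanishes along the closed fibre). Conversely: if the generic
fibres Spec(K ⊗_V A) and Spec(K ⊗_V R) are both smooth over K of the same relative dimension d, K
the fraction field of V, then such an n forces f to be η-étale. (The published statement is for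
arbitrary schemes X → Y of finite type over V and also lists an intermediate equivalent condition,
that the restriction of p^n Ω_{X/Y} to the closed fibre as an abelian sheaf vanishes for some n;
this row is the case of affine schemes and states the other two conditions.) -/
theorem result (V : Type u) [CommRing V] [IsDomain V] [IsDiscreteValuationRing V] [CharZero V]
    (ϖ : V) (hϖ : Irreducible ϖ) (p : ℕ) [Fact p.Prime] [CharP (IsLocalRing.ResidueField V) p]
    [PerfectField (IsLocalRing.ResidueField V)]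
    (A : Type u) [CommRing A] [Algebra V A] [Algebra.FiniteType V A]
    (R : Type u) [CommRing R] [Algebra V R] [Algebra.FiniteType V R] [Algebra A R] [IsScalarTower V A R] :
    ((∃ a : R, Ideal.span {a} ⊔ Ideal.span {algebraMap V R ϖ} = ⊤ ∧
        ((algebraMap R (Localization.Away (a * algebraMap V R ϖ))).comp (algebraMap A R)).Etale) →
      ∃ n : ℕ, Ideal.span {((p : R)) ^ n} • (⊤ : Submodule R (Ω[R⁄A])) ≤
        Ideal.span {algebraMap V R ϖ * (p : R) ^ n} • (⊤ : Submodule R (Ω[R⁄A]))) ∧
    (∀ d : ℕ, SmoothOfRelativeDimension d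
        (Spec.map (CommRingCat.ofHom (algebraMap (FractionRing V) (FractionRing V ⊗[V] A)))) →
      SmoothOfRelativeDimension d
        (Spec.map (CommRingCat.ofHom (algebraMap (FractionRing V) (FractionRing V ⊗[V] R)))) →
      (∃ n : ℕ, Ideal.span {((p : R)) ^ n} • (⊤ : Submodule R (Ω[R⁄A])) ≤
        Ideal.span {algebraMap V R ϖ * (p : R) ^ n} • (⊤ : Submodule R (Ω[R⁄A]))) →
      ∃ a : R, Ideal.span {a} ⊔ Ideal.span {algebraMap V R ϖ} = ⊤ ∧
        ((algebraMap R (Localization.Away (a * algebraMap V R ϖ))).comp (algebraMap A R)).Etale) := by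
  refine ⟨?_, ?_⟩
  · rintro ⟨a, hcop, het⟩
    exact part1 V ϖ hϖ p A R a hcop het
  · rintro d hA hR ⟨n, hn⟩
    exact part2 V ϖ hϖ p A R d hA hR n hn

end Groth.Agent.S14383
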