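import Groth.Statements.S14385
import Mathlib
import Groth.Agent.Lib.Helper80.EtaEtale
import Groth.Agent.Lib.Helper80.EtaEtale2
import Groth.Agent.S14383
import Groth.Agent.S14384
import Groth.Agent.S14379

set_option autoImplicit false
open scoped TensorProduct
open AlgebraicGeometry
universe u
open CAlg

namespace Groth.Agent.S14385

open Groth.Agent.Lib.Helper80

theorem to_V (V : Type u) [CommRing V] [IsDomain V] [IsDiscreteValuationRing V]
    (ϖ : V) (hϖ : Irreducible ϖ) (p : ℕ) [CharP (IsLocalRing.ResidueField V) p]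
    (R : Type u) [CommRing R] [Algebra V R] [Algebra.FiniteType V R] (d : ℕ) (x : Fin d → R)
    (h : ∃ a : R, Ideal.span {a} ⊔ Ideal.span {algebraMap V R ϖ} = ⊤ ∧
        ((algebraMap R (Localization.Away (a * algebraMap V R ϖ))).comp
          (MvPolynomial.aeval x : MvPolynomial (Fin d) V →ₐ[V] R).toRingHom).Etale) :
    ∃ n : ℕ, Ideal.span {((p : R)) ^ n} • (⊤ : Submodule R (Ω[R⁄V])) ≤
      Ideal.span {algebraMap V R ϖ * (p : R) ^ n} • (⊤ : Submodule R (Ω[R⁄V])) ⊔
        Submodule.span R (Set.range fun i => KaehlerDifferential.D V R (x i)) := by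
  letI := EtaEtale2.algX (V := V) x
  haveI := EtaEtale2.tower (V := V) x
  obtain ⟨a, hcop, het⟩ := h
  obtain ⟨n, hn⟩ := Groth.Agent.S14383.part1 V ϖ hϖ p (MvPolynomial (Fin d) V) R a hcop het
  refine ⟨n, ?_⟩
  rw [EtaEtale2.smul_top_le_iff (KaehlerDifferential.map V (MvPolynomial (Fin d) V) R R)
    (KaehlerDifferential.map_surjective V (MvPolynomial (Fin d) V) R),
    EtaEtale2.ker_map_eq x] at hn
  exact hn

theorem from_V (V : Type u) [CommRing V] [IsDomain V] [IsDiscreteValuationRing V] [CharZero V]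
    (ϖ : V) (hϖ : Irreducible ϖ) (p : ℕ) [Fact p.Prime]
    (R : Type u) [CommRing R] [Algebra V R] [Algebra.FiniteType V R] (d : ℕ)
    (hsm : SmoothOfRelativeDimension d
      (Spec.map (CommRingCat.ofHom (algebraMap (FractionRing V) (FractionRing V ⊗[V] R)))))
    (x : Fin d → R) (n : ℕ)
    (h : Ideal.span {((p : R)) ^ n} • (⊤ : Submodule R (Ω[R⁄V])) ≤
      Ideal.span {algebraMap V R ϖ * (p : R) ^ n} • (⊤ : Submodule R (Ω[R⁄V])) ⊔
        Submodule.span R (Set.range fun i => KaehlerDifferential.D V R (x i))) :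
    ∃ a : R, Ideal.span {a} ⊔ Ideal.span {algebraMap V R ϖ} = ⊤ ∧
        ((algebraMap R (Localization.Away (a * algebraMap V R ϖ))).comp
          (MvPolynomial.aeval x : MvPolynomial (Fin d) V →ₐ[V] R).toRingHom).Etale := by
  letI := EtaEtale2.algX (V := V) x
  haveI := EtaEtale2.tower (V := V) x
  have hn : Ideal.span {((p : R)) ^ n} • (⊤ : Submodule R (Ω[R⁄MvPolynomial (Fin d) V])) ≤
      Ideal.span {algebraMap V R ϖ * (p : R) ^ n} •
        (⊤ : Submodule R (Ω[R⁄MvPolynomial (Fin d) V])) := by
    rw [EtaEtale2.smul_top_le_iff (KaehlerDifferential.map V (MvPolynomial (Fin d) V) R R)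
      (KaehlerDifferential.map_surjective V (MvPolynomial (Fin d) V) R),
      EtaEtale2.ker_map_eq x]
    exact h
  exact Groth.Agent.S14383.part2 V ϖ hϖ p (MvPolynomial (Fin d) V) R d
    (EtaEtale2.smooth_generic_mvPolynomial V (FractionRing V) d) hsm n hn

/-- Let V be a discrete valuation ring of characteristic zero with uniformizer ϖ, whose residue field k
is perfect of characteristic p > 0, with fraction field K; let R be a flat V-algebra of finite type
such that the generic fibre Spec(K ⊗_V R) → Spec K is smooth of relative dimension d; and suppose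
some d-tuple x' of elements of R defines a morphism f' from Spec R to affine d-space over V which is
η-étale, meaning that for some a ∈ R with (a) + (ϖ) = R the localisation R[1/(aϖ)] is étale over
V[T_1, …, T_d] via T_i ↦ x'_i (f' is étale on the generic fibre of an open neighbourhood of the
closed fibre). Then there is a d-tuple x in R whose morphism f is η-étale in the same sense and
finite on each fibre: k ⊗_V R is finite over k[T_1, …, T_d] and K ⊗_V R is finite over K[T_1, …,
T_d] via T_i ↦ 1 ⊗ x_i. -/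
theorem result (V : Type u) [CommRing V] [IsDomain V] [IsDiscreteValuationRing V] [CharZero V]
    (ϖ : V) (hϖ : Irreducible ϖ) (p : ℕ) [Fact p.Prime] [CharP (IsLocalRing.ResidueField V) p]
    [PerfectField (IsLocalRing.ResidueField V)]
    (R : Type u) [CommRing R] [Algebra V R] [Module.Flat V R] [Algebra.FiniteType V R] (d : ℕ)
    (hsm : SmoothOfRelativeDimension d
      (Spec.map (CommRingCat.ofHom (algebraMap (FractionRing V) (FractionRing V ⊗[V] R)))))
    (x' : Fin d → R) (hx' : (∃ a : R, Ideal.span {a} ⊔ Ideal.span {algebraMap V R ϖ} = ⊤ ∧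
        ((algebraMap R (Localization.Away (a * algebraMap V R ϖ))).comp
          (MvPolynomial.aeval x' : MvPolynomial (Fin d) V →ₐ[V] R).toRingHom).Etale)) :
    ∃ x : Fin d → R, (∃ a : R, Ideal.span {a} ⊔ Ideal.span {algebraMap V R ϖ} = ⊤ ∧
        ((algebraMap R (Localization.Away (a * algebraMap V R ϖ))).comp
          (MvPolynomial.aeval x : MvPolynomial (Fin d) V →ₐ[V] R).toRingHom).Etale) ∧
      (MvPolynomial.aeval (fun i => (1 : IsLocalRing.ResidueField V) ⊗ₜ[V] x i) :
          MvPolynomial (Fin d) (IsLocalRing.ResidueField V) →ₐ[IsLocalRing.ResidueField V]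
            IsLocalRing.ResidueField V ⊗[V] R).toRingHom.Finite ∧
      (MvPolynomial.aeval (fun i => (1 : FractionRing V) ⊗ₜ[V] x i) :
          MvPolynomial (Fin d) (FractionRing V) →ₐ[FractionRing V] FractionRing V ⊗[V] R).toRingHom.Finite := by
  obtain ⟨n, hn⟩ := to_V V ϖ hϖ p R d x' hx'
  have hη : ringKrullDim (FractionRing V ⊗[V] R) ≤ d := EtaEtale2.dim_le_of_smooth d hsm
  have hs : ringKrullDim (IsLocalRing.ResidueField V ⊗[V] R) ≤ d :=
    EtaEtale2.dim_special_le ϖ hϖ R d hη
  obtain ⟨y, hy, hfk, hfK⟩ := Groth.Agent.S14379.result V R d hs hη x' (p ^ (n + 1))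
    (Nat.one_le_pow _ _ (Fact.out : p.Prime).pos)
  have hn' := Groth.Agent.S14384.result V ϖ hϖ p R d n x' hn y hy
  exact ⟨fun i => x' i + y i, from_V V ϖ hϖ p R d hsm (fun i => x' i + y i) n hn', hfk, hfK⟩

end Groth.Agent.S14385
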