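import Groth.Statements.S14386
import Mathlib
import Groth.Agent.Lib.Helper80.Node.Defs
import Groth.Agent.Lib.Helper80.NodeNQF
import Groth.Agent.Lib.Helper69.NodeDES
import Groth.Agent.Lib.Helper69.NodeLOC
import Groth.Agent.Lib.Helper16.NodeKB
import Groth.Agent.Lib.Helper16.NodeGB
import Groth.Agent.Lib.Helper93.NodeC0
import Groth.Agent.Lib.Helper22.NodeET
import Groth.Agent.Lib.Helper68.NodeKQ
import Groth.Agent.Lib.Helper68.NodeGQ
import Groth.Agent.Lib.Helper56.NodeND1
import Groth.Agent.Lib.Helper56.NodeND2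
import Groth.Agent.Lib.Helper56.NodeND4

set_option autoImplicit false
universe u
open CAlg

namespace Groth.Agent.S14386

open Groth.Agent.Lib.Helper80.Node

/-- Final differential step. -/
lemma fin {V B : Type u} [CommRing V] [CommRing B] [Algebra V B] (x y f a b : B)
    (hdf : KaehlerDifferential.D V B f =
      a • KaehlerDifferential.D V B x + b • KaehlerDifferential.D V B y)
    (hb : b ∈ Ideal.span {x}) :
    KaehlerDifferential.D V (B ⧸ Ideal.span {x}) (Ideal.Quotient.mk _ f) = 0 := by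
  have h1 := congrArg (KaehlerDifferential.map V V B (B ⧸ Ideal.span {x})) hdf
  rw [KaehlerDifferential.map_D, map_add, map_smul, map_smul, KaehlerDifferential.map_D,
    KaehlerDifferential.map_D] at h1
  have hx0 : algebraMap B (B ⧸ Ideal.span {x}) x = 0 :=
    Ideal.Quotient.eq_zero_iff_mem.mpr (Ideal.mem_span_singleton_self x)
  have hb0 : algebraMap B (B ⧸ Ideal.span {x}) b = 0 := Ideal.Quotient.eq_zero_iff_mem.mpr hb
  rw [hx0, map_zero, smul_zero, zero_add, ← algebraMap_smul (B ⧸ Ideal.span {x}) b, hb0,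
    zero_smul] at h1
  exact h1

section core

variable (V : Type u) [CommRing V] [IsDomain V] [IsDiscreteValuationRing V]
  (ϖ : V) (hϖ : Irreducible ϖ) (h : Q V ϖ)
  (hh : h ∉ Ideal.span ({xq V ϖ, yq V ϖ} : Set (Q V ϖ)))

local notation "BB" => Localization.Away h
local notation "xB" => algebraMap (Q V ϖ) (Localization.Away h) (xq V ϖ)
local notation "yB" => algebraMap (Q V ϖ) (Localization.Away h) (yq V ϖ)

omit [IsDomain V] [IsDiscreteValuationRing V] in
lemma algebraMap_pi : algebraMap V BB ϖ = xB * yB := by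
  rw [IsScalarTower.algebraMap_apply V (Q V ϖ) BB, ← map_mul]
  congr 1
  show Ideal.Quotient.mk _ (MvPolynomial.C ϖ) =
    Ideal.Quotient.mk _ (MvPolynomial.X 0) * Ideal.Quotient.mk _ (MvPolynomial.X 1)
  rw [← map_mul, Ideal.Quotient.eq, Ideal.mem_span_singleton']
  exact ⟨-1, by simp [gNode]⟩

include hϖ hh in
lemma locFacts : (Ideal.span {xB}).IsPrime ∧ (Ideal.span {yB}).IsPrime ∧
      yB ∉ Ideal.span {xB} ∧ xB ∉ Ideal.span {yB} ∧
      xB ∈ nonZeroDivisors BB ∧ yB ∈ nonZeroDivisors BB ∧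
      Ideal.span ({xB, yB} : Set BB) ≠ ⊤ := by
  have hpr : Prime ϖ := hϖ.prime
  obtain ⟨hxr, hyr⟩ := Groth.Agent.Lib.Helper56.NodeND1.nd1 V ϖ hϖ.ne_zero
  obtain ⟨hx, hy, hxy, hyx⟩ := Groth.Agent.Lib.Helper56.NodeND2.nd2 V ϖ hpr
  have hm := Groth.Agent.Lib.Helper56.NodeND4.nd4 V ϖ hpr
  exact Groth.Agent.Lib.Helper69.NodeLOC.loc (B := BB) h (xq V ϖ) (yq V ϖ) hx hy hxy hyx hxr hyr hm hh

include hϖ hh in
theorem core (f : BB)
    (hf : ((algebraMap BB (Localization.Away (algebraMap V BB ϖ))).comp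
      (Polynomial.aeval f : Polynomial V →ₐ[V] BB).toRingHom).Etale) :
    ∃ a b : BB, KaehlerDifferential.D V BB f =
        a • KaehlerDifferential.D V BB xB + b • KaehlerDifferential.D V BB yB ∧
      (b ∈ Ideal.span {xB} ∨ a ∈ Ideal.span {yB}) := by
  obtain ⟨hxB, hyB, hxyB, hyxB, hxrB, hyrB, hmB⟩ := locFacts V ϖ hϖ h hh
  have hϖB := algebraMap_pi V ϖ h
  haveI : Algebra.FiniteType V BB :=
    Algebra.FiniteType.trans (inferInstance : Algebra.FiniteType V (Q V ϖ))
      (inferInstance : Algebra.FiniteType (Q V ϖ) BB)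
  obtain ⟨m, hm1⟩ := Groth.Agent.Lib.Helper22.NodeET.et (algebraMap V BB ϖ) f hf
  obtain ⟨a, b, hab⟩ := Groth.Agent.Lib.Helper16.NodeGB.gb (Submonoid.powers h) (xq V ϖ) (yq V ϖ) (Groth.Agent.Lib.Helper68.NodeGQ.gq V ϖ)
    (KaehlerDifferential.D V BB f)
  obtain ⟨c, hc⟩ := hm1 (KaehlerDifferential.D V BB xB)
  obtain ⟨c', hc'⟩ := hm1 (KaehlerDifferential.D V BB yB)
  have r1 : ((algebraMap V BB ϖ) ^ m - c * a) • KaehlerDifferential.D V BB xB +
      (-(c * b)) • KaehlerDifferential.D V BB yB = 0 := by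
    rw [sub_smul, neg_smul, hc, hab, smul_add, mul_smul, mul_smul]
    abel
  have r2 : (-(c' * a)) • KaehlerDifferential.D V BB xB +
      ((algebraMap V BB ϖ) ^ m - c' * b) • KaehlerDifferential.D V BB yB = 0 := by
    rw [sub_smul, neg_smul, hc', hab, smul_add, mul_smul, mul_smul]
    abel
  obtain ⟨e, he1, he2⟩ := Groth.Agent.Lib.Helper16.NodeKB.kb (Submonoid.powers h) (xq V ϖ) (yq V ϖ) (Groth.Agent.Lib.Helper68.NodeKQ.kq V ϖ) _ _ r1
  obtain ⟨e', he1', he2'⟩ := Groth.Agent.Lib.Helper16.NodeKB.kb (Submonoid.powers h) (xq V ϖ) (yq V ϖ) (Groth.Agent.Lib.Helper68.NodeKQ.kq V ϖ) _ _ r2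
  refine ⟨a, b, hab, ?_⟩
  rw [hϖB] at he1 he2'
  exact Groth.Agent.Lib.Helper69.NodeDES.des xB yB hxB hyB hxyB hyxB hxrB hyrB hmB a b m c c' e e' he1 he2 he1' he2'

end core

/-- Let V be a discrete valuation ring of characteristic zero with uniformizer ϖ and perfect residue
field k, let Q = V[x, y]/(xy − ϖ) be the coordinate ring of the standard semistable node over V and
P its closed point x = y = 0 of the closed fibre, let h ∈ Q with h ∉ (x, y), so that B = Q[1/h] is
the ring of an open neighbourhood of P, and let f ∈ B define a morphism to the affine line over V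
which is étale on the generic fibre: B[1/ϖ] is étale over V[T] via T ↦ f. Then df vanishes
identically on one of the two components x = 0, y = 0 of the closed fibre of Spec B: the
differential of the image of f in Ω_{(B/xB)/V} is zero or the differential of the image of f in
Ω_{(B/yB)/V} is zero. If moreover k has characteristic zero, then f contracts that component and the
morphism is not quasi-finite: V[T] → B, T ↦ f, is not a quasi-finite ring map. -/
theorem result (V : Type u) [CommRing V] [IsDomain V] [IsDiscreteValuationRing V] [CharZero V]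
    [PerfectField (IsLocalRing.ResidueField V)] (ϖ : V) (hϖ : Irreducible ϖ)
    (h : (MvPolynomial (Fin 2) V ⧸ Ideal.span {(MvPolynomial.X 0 * MvPolynomial.X 1 - MvPolynomial.C ϖ : MvPolynomial (Fin 2) V)}))
    (hh : h ∉ Ideal.span ({(Ideal.Quotient.mk (Ideal.span {(MvPolynomial.X 0 * MvPolynomial.X 1 - MvPolynomial.C ϖ : MvPolynomial (Fin 2) V)}) (MvPolynomial.X 0 : MvPolynomial (Fin 2) V)), (Ideal.Quotient.mk (Ideal.span {(MvPolynomial.X 0 * MvPolynomial.X 1 - MvPolynomial.C ϖ : MvPolynomial (Fin 2) V)}) (MvPolynomial.X 1 : MvPolynomial (Fin 2) V))} : Set (MvPolynomial (Fin 2) V ⧸ Ideal.span {(MvPolynomial.X 0 * MvPolynomial.X 1 - MvPolynomial.C ϖ : MvPolynomial (Fin 2) V)})))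
    (f : Localization.Away h)
    (hf : ((algebraMap (Localization.Away h)
        (Localization.Away (algebraMap V (Localization.Away h) ϖ))).comp
          (Polynomial.aeval f : Polynomial V →ₐ[V] Localization.Away h).toRingHom).Etale) :
    (KaehlerDifferential.D V (Localization.Away h ⧸ Ideal.span
        ({algebraMap (MvPolynomial (Fin 2) V ⧸ Ideal.span {(MvPolynomial.X 0 * MvPolynomial.X 1 - MvPolynomial.C ϖ : MvPolynomial (Fin 2) V)}) (Localization.Away h) (Ideal.Quotient.mk (Ideal.span {(MvPolynomial.X 0 * MvPolynomial.X 1 - MvPolynomial.C ϖ : MvPolynomial (Fin 2) V)}) (MvPolynomial.X 0 : MvPolynomial (Fin 2) V))} : Set (Localization.Away h)))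
        (Ideal.Quotient.mk _ f) = 0 ∨
     KaehlerDifferential.D V (Localization.Away h ⧸ Ideal.span
        ({algebraMap (MvPolynomial (Fin 2) V ⧸ Ideal.span {(MvPolynomial.X 0 * MvPolynomial.X 1 - MvPolynomial.C ϖ : MvPolynomial (Fin 2) V)}) (Localization.Away h) (Ideal.Quotient.mk (Ideal.span {(MvPolynomial.X 0 * MvPolynomial.X 1 - MvPolynomial.C ϖ : MvPolynomial (Fin 2) V)}) (MvPolynomial.X 1 : MvPolynomial (Fin 2) V))} : Set (Localization.Away h)))
        (Ideal.Quotient.mk _ f) = 0) ∧
    (CharZero (IsLocalRing.ResidueField V) →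
      ¬ (Polynomial.aeval f : Polynomial V →ₐ[V] Localization.Away h).toRingHom.QuasiFinite) := by
  obtain ⟨a, b, hab, hdisj⟩ := core V ϖ hϖ h hh f hf
  obtain ⟨hxB, hyB, hxyB, hyxB, hxrB, hyrB, hmB⟩ := locFacts V ϖ hϖ h hh
  have hϖB := algebraMap_pi V ϖ h
  have hab' : KaehlerDifferential.D V (Localization.Away h) f =
      b • KaehlerDifferential.D V (Localization.Away h)
        (algebraMap (Q V ϖ) (Localization.Away h) (yq V ϖ)) +
      a • KaehlerDifferential.D V (Localization.Away h)
        (algebraMap (Q V ϖ) (Localization.Away h) (xq V ϖ)) := by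
    rw [hab, add_comm]
  have part1 : KaehlerDifferential.D V (Localization.Away h ⧸ Ideal.span
        ({algebraMap (Q V ϖ) (Localization.Away h) (xq V ϖ)} : Set (Localization.Away h)))
        (Ideal.Quotient.mk _ f) = 0 ∨
      KaehlerDifferential.D V (Localization.Away h ⧸ Ideal.span
        ({algebraMap (Q V ϖ) (Localization.Away h) (yq V ϖ)} : Set (Localization.Away h)))
        (Ideal.Quotient.mk _ f) = 0 := by
    rcases hdisj with hb | ha
    · exact Or.inl (fin _ _ f a b hab hb)
    · exact Or.inr (fin _ _ f b a hab' ha)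
  refine ⟨part1, fun hchar => ?_⟩
  haveI : Algebra.FiniteType V (Localization.Away h) :=
    Algebra.FiniteType.trans (inferInstance : Algebra.FiniteType V (Q V ϖ))
      (inferInstance : Algebra.FiniteType (Q V ϖ) (Localization.Away h))
  -- not a field
  have key : ∀ (u v : Localization.Away h), (Ideal.span {u}).IsPrime → v ∉ Ideal.span {u} →
      Ideal.span ({u, v} : Set (Localization.Away h)) ≠ ⊤ →
      algebraMap V (Localization.Away h) ϖ ∈ Ideal.span {u} →
      KaehlerDifferential.D V (Localization.Away h ⧸ Ideal.span {u}) (Ideal.Quotient.mk _ f) = 0 →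
      ¬ (Polynomial.aeval f : Polynomial V →ₐ[V] Localization.Away h).toRingHom.QuasiFinite := by
    intro u v hu hv huv hϖu hD
    haveI := hu
    refine Groth.Agent.Lib.Helper80.NodeNQF.nqf (fun k _ _ D _ _ _ _ t ht => Groth.Agent.Lib.Helper93.NodeC0.c0 k D t ht) (Ideal.span {u}) ?_ ?_ f hD
    · rw [hϖ.maximalIdeal_eq, Ideal.span_le, Set.singleton_subset_iff]
      exact hϖu
    · intro hfield
      have hv0 : (Ideal.Quotient.mk (Ideal.span {u}) v) ≠ 0 := fun h0 =>
        hv (Ideal.Quotient.eq_zero_iff_mem.mp h0)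
      obtain ⟨z, hz⟩ := hfield.mul_inv_cancel hv0
      obtain ⟨z', rfl⟩ := Ideal.Quotient.mk_surjective z
      rw [← map_mul, ← map_one (Ideal.Quotient.mk (Ideal.span {u})), Ideal.Quotient.eq,
        Ideal.mem_span_singleton'] at hz
      obtain ⟨q, hq⟩ := hz
      apply huv
      rw [Ideal.eq_top_iff_one]
      have h1 : (1 : Localization.Away h) = v * z' - q * u := by rw [hq]; ring
      rw [h1]
      exact Ideal.sub_mem _ (Ideal.mul_mem_right _ _ (Ideal.subset_span (by simp)))
        (Ideal.mul_mem_left _ _ (Ideal.subset_span (by simp)))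
  rcases part1 with h1 | h2
  · refine key _ _ hxB hxyB hmB ?_ h1
    rw [hϖB]
    exact Ideal.mul_mem_right _ _ (Ideal.mem_span_singleton_self _)
  · refine key _ _ hyB hyxB (by rwa [Set.pair_comm]) ?_ h2
    rw [hϖB]
    exact Ideal.mul_mem_left _ _ (Ideal.mem_span_singleton_self _)

end Groth.Agent.S14386
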