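import Groth.Statements.S14388
import Mathlib
import Groth.Agent.Lib.Helper86.TruncD

set_option autoImplicit false
open CategoryTheory CategoryTheory.Limits
universe w v u
open CohDer

namespace Groth.Agent.S14388

open DerivedCategory Groth.Agent.Lib.Helper86.TruncD Groth.Agent.Lib.Helper84.DerivedT Pretriangulated

/-- Let A be an abelian category, D(A) its derived category with the canonical t-structure and
truncation functors τ_{≥a}, τ_{<b}, and write τ_[a,b] = τ_{≥a} ∘ τ_{<b+1}, so that τ_[q,q] K is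
H^q(K) placed in degree q. Let f : K → K' be a morphism in D(A) and q an integer such that the
induced maps H^(q-1)(K) → H^(q-1)(K') and H^q(K) → H^q(K') are both zero. Then there is a unique
morphism L : τ_[q,q] K → τ_[q-1,q-1] K' such that τ_[q-1,q](f) : τ_[q-1,q] K → τ_[q-1,q] K' is the
composite of the canonical projection τ_[q-1,q] K → τ_[q,q] K, the morphism L, and the canonical
inclusion τ_[q-1,q-1] K' → τ_[q-1,q] K'. (Under τ_[n,n] ≅ H^n(−)[−n] the morphism L corresponds to a
morphism L_f[−q] : H^q(K)[−q] → H^(q-1)(K')[1−q].) -/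
theorem result {C : Type u} [Category.{v} C] [Abelian C]
    [HasDerivedCategory.{w} C] {K K' : DerivedCategory C} (f : K ⟶ K') (q : ℤ)
    (h₁ : (DerivedCategory.homologyFunctor C (q - 1)).map f = 0)
    (h₂ : (DerivedCategory.homologyFunctor C q).map f = 0) :
    ∃! L : ((DerivedCategory.TStructure.t (C := C)).truncGELT q (q + 1)).obj K ⟶
        ((DerivedCategory.TStructure.t (C := C)).truncGELT (q - 1) q).obj K',
      ((DerivedCategory.TStructure.t (C := C)).truncGELT (q - 1) (q + 1)).map f =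
        ((DerivedCategory.TStructure.t (C := C)).natTransTruncGEOfLE (q - 1) q (sub_one_lt q).le).app
            (((DerivedCategory.TStructure.t (C := C)).truncLT (q + 1)).obj K) ≫ L ≫
          ((DerivedCategory.TStructure.t (C := C)).truncGE (q - 1)).map
            (((DerivedCategory.TStructure.t (C := C)).natTransTruncLTOfLE q (q + 1) (lt_add_one q).le).app K') := by
  -- notation
  let t := DerivedCategory.TStructure.t (C := C)
  let Y := (t.truncLT (q + 1)).obj K
  let Y' := (t.truncLT (q + 1)).obj K'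
  let p : (t.truncGE (q - 1)).obj Y ⟶ (t.truncGE q).obj Y :=
    (t.natTransTruncGEOfLE (q - 1) q (sub_one_lt q).le).app Y
  let j : (t.truncLT q).obj K' ⟶ Y' := (t.natTransTruncLTOfLE q (q + 1) (lt_add_one q).le).app K'
  let i : (t.truncGE (q - 1)).obj ((t.truncLT q).obj K') ⟶ (t.truncGE (q - 1)).obj Y' :=
    (t.truncGE (q - 1)).map j
  let F : (t.truncGE (q - 1)).obj Y ⟶ (t.truncGE (q - 1)).obj Y' :=
    (t.truncGE (q - 1)).map ((t.truncLT (q + 1)).map f)
  change ∃! L : (t.truncGE q).obj Y ⟶ (t.truncGE (q - 1)).obj ((t.truncLT q).obj K'),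
    F = p ≫ L ≫ i
  -- homology of F
  have hF1 : (homologyFunctor C (q - 1)).map F = 0 :=
    homologyMap_truncGE_map_eq_zero _ (q - 1) (q - 1) le_rfl
      (homologyMap_truncLT_map_eq_zero f (q + 1) (q - 1) (by lia) h₁)
  have hF2 : (homologyFunctor C q).map F = 0 :=
    homologyMap_truncGE_map_eq_zero _ (q - 1) q (by lia)
      (homologyMap_truncLT_map_eq_zero f (q + 1) q (by lia) h₂)
  -- instances
  have iA1 : ((t.truncGE q).obj Y).IsGE q := inferInstance
  have iY : Y.IsLE q := inferInstance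
  have iA2 : ((t.truncGE q).obj Y).IsLE q := inferInstance
  have iM' : ((t.truncGE (q - 1)).obj Y').IsGE (q - 1) := inferInstance
  have iB1 : ((t.truncGE (q - 1)).obj ((t.truncLT q).obj K')).IsGE (q - 1) := inferInstance
  have iB0 : ((t.truncLT q).obj K').IsLE (q - 1) := inferInstance
  have iB2 : ((t.truncGE (q - 1)).obj ((t.truncLT q).obj K')).IsLE (q - 1) := inferInstance
  -- homology of p
  have hp_iso : ∀ n : ℤ, q ≤ n → IsIso ((homologyFunctor C n).map p) := fun n hn =>
    isIso_homologyMap_natTransTruncGEOfLE (q - 1) q _ Y n hn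
  have hp_epi : ∀ n : ℤ, q - 1 ≤ n → Epi ((homologyFunctor C n).map p) := by
    intro n hn
    rcases hn.lt_or_eq with h | h
    · have := hp_iso n (by lia); infer_instance
    · subst h
      exact ⟨fun _ _ _ => (isZero_of_isGE ((t.truncGE q).obj Y) q (q - 1) (by lia)).eq_of_src _ _⟩
  have hp_mono : ∀ n : ℤ, q ≤ n → Mono ((homologyFunctor C n).map p) := by
    intro n hn
    have := hp_iso n hn; infer_instance
  -- homology of i
  have hj_iso : IsIso ((homologyFunctor C (q - 1)).map j) :=
    isIso_homologyMap_natTransTruncLTOfLE q (q + 1) _ K' (q - 1) (by lia)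
  have hi_iso : IsIso ((homologyFunctor C (q - 1)).map i) :=
    isIso_homologyMap_truncGE_map j (q - 1) (q - 1) le_rfl hj_iso
  have hi_epi : ∀ n : ℤ, n ≤ q - 1 → Epi ((homologyFunctor C n).map i) := by
    intro n hn
    rcases hn.lt_or_eq with h | h
    · exact ⟨fun _ _ _ =>
        (isZero_of_isGE ((t.truncGE (q - 1)).obj Y') (q - 1) n h).eq_of_src _ _⟩
    · subst h; infer_instance
  have hi_mono : ∀ n : ℤ, n ≤ q → Mono ((homologyFunctor C n).map i) := by
    intro n hn
    rcases lt_trichotomy n (q - 1) with h | h | h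
    · exact ⟨fun _ _ _ => (isZero_of_isGE
        ((t.truncGE (q - 1)).obj ((t.truncLT q).obj K')) (q - 1) n h).eq_of_tgt _ _⟩
    · subst h; infer_instance
    · exact ⟨fun _ _ _ => (isZero_of_isLE
        ((t.truncGE (q - 1)).obj ((t.truncLT q).obj K')) (q - 1) n h).eq_of_tgt _ _⟩
  -- triangles
  obtain ⟨W, w, δ, hT⟩ := distinguished_cocone_triangle₁ p
  obtain ⟨Z, c, δ', hT'⟩ := distinguished_cocone_triangle i
  have hW : (Triangle.mk w p δ).obj₁.IsLE (q - 1) := by
    rw [isLE_iff]
    intro n hn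
    exact isZero_homology_obj₁ _ hT (n - 1) n (by lia) (hp_epi (n - 1) (by lia)) (hp_mono n (by lia))
  have hZ : (Triangle.mk i c δ').obj₃.IsGE q := by
    rw [isGE_iff]
    intro n hn
    exact isZero_homology_obj₃ _ hT' n (n + 1) rfl (hi_epi n (by lia)) (hi_mono (n + 1) (by lia))
  -- existence
  obtain ⟨G, hG⟩ : ∃ G : (t.truncGE q).obj Y ⟶ (t.truncGE (q - 1)).obj Y', F = p ≫ G :=
    exists_fac_mor₂ _ hT (q - 1) F hF1
  have hGq : (homologyFunctor C q).map G = 0 := by
    have := hp_epi q (by lia)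
    rw [← cancel_epi ((homologyFunctor C q).map p), ← Functor.map_comp, comp_zero]
    exact (congrArg (fun x => (homologyFunctor C q).map x) hG).symm.trans hF2
  obtain ⟨L, hL⟩ : ∃ L : (t.truncGE q).obj Y ⟶ (t.truncGE (q - 1)).obj ((t.truncLT q).obj K'),
      G = L ≫ i :=
    exists_fac_mor₁ (Triangle.mk i c δ') hT' q G hGq
  refine ⟨L, ?_, ?_⟩
  · change F = p ≫ L ≫ i
    rw [hG, hL]
  · intro L₁ hL₁
    change F = p ≫ L₁ ≫ i at hL₁
    have h0 : p ≫ ((L₁ - L) ≫ i) = 0 := by
      rw [Preadditive.sub_comp, Preadditive.comp_sub, ← hL₁, hG, hL]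
      exact sub_self _
    have h1 : (L₁ - L) ≫ i = 0 :=
      eq_zero_of_mor₂_comp_eq_zero _ hT (q - 1) (q - 1) le_rfl _ h0
    have h2 : L₁ - L = 0 :=
      eq_zero_of_comp_mor₁_eq_zero _ hT' q q le_rfl _ h1
    exact sub_eq_zero.1 h2

end Groth.Agent.S14388
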