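import Groth.Statements.S14397
import Mathlib.Tactic

set_option autoImplicit false
universe u
open DualGr

namespace Groth.Agent.S14397

/-- Let (V, E) with endpoint map E → V × V be a finite multigraph (loops and parallel edges allowed; the
order of the two endpoints is an auxiliary orientation), and let D_1, …, D_n be finite sets of edges
such that every edge lies outside at least one D_i. For each i let Γ_i be the multigraph obtained by
contracting the edges of D_i, and let H₁(Γ, ℤ) → H₁(Γ_i, ℤ) be the map of cycle lattices (integer
edge vectors with zero boundary) given by restriction to the surviving edges. Then the map H₁(Γ, ℤ)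
→ ⊕_i H₁(Γ_i, ℤ) has torsion-free cokernel. (The published statement is about the connected labelled
dual graph of the closed fibre of a nodal curve, smooth outside a normal crossing divisor with
components D_1, …, D_n, over a Noetherian regular strictly local base; Γ_i is the dual graph of the
fibre over the generic point of D_i, the lattices are identified with the character groups of the
toric parts of the Picard schemes of these fibres, and the map is the generization map of character
groups; this row states the assertion about cycle lattices, for any finite multigraph, which is what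
the argument establishes.) -/
theorem result
    {V E : Type u} [Fintype V] [Fintype E] [DecidableEq V] [DecidableEq E]
    (ends : E → V × V) {n : ℕ} (D : Fin n → Finset E) (hcover : ∀ e : E, ∃ i : Fin n, e ∉ D i) :
    IsAddTorsionFree (((i : Fin n) → ↥(DualGr.cycleLattice (DualGr.ctrEnds ends (D i)))) ⧸
      LinearMap.range (LinearMap.pi fun i : Fin n => DualGr.genMap ends (D i))) := by
  constructor
  intro k hk a b hab
  obtain ⟨ga, rfl⟩ := Submodule.Quotient.mk_surjective _ a
  obtain ⟨gb, rfl⟩ := Submodule.Quotient.mk_surjective _ b
  have hab' : ((k : ℤ) • Submodule.Quotient.mk ga : (((i : Fin n) → ↥(DualGr.cycleLattice (DualGr.ctrEnds ends (D i)))) ⧸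
      LinearMap.range (LinearMap.pi fun i : Fin n => DualGr.genMap ends (D i)))) =
      (k : ℤ) • Submodule.Quotient.mk gb := by
    rw [natCast_zsmul, natCast_zsmul]; exact hab
  rw [← Submodule.Quotient.mk_smul, ← Submodule.Quotient.mk_smul, Submodule.Quotient.eq] at hab'
  rw [Submodule.Quotient.eq]
  obtain ⟨γ, hγ⟩ := hab'
  have hk' : (k : ℤ) ≠ 0 := by exact_mod_cast hk
  -- pointwise
  have hpt : ∀ (i : Fin n) (e : E) (he : e ∉ D i), γ.1 e = (k : ℤ) * ((ga i).1 ⟨e, he⟩ - (gb i).1 ⟨e, he⟩) := by
    intro i e he
    have h1 := congrFun hγ i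
    have h2 := congrArg (fun z : ↥(DualGr.cycleLattice (DualGr.ctrEnds ends (D i))) => z.1 ⟨e, he⟩) h1
    simp only [LinearMap.pi_apply, Pi.sub_apply, Pi.smul_apply] at h2
    simp only [DualGr.genMap, LinearMap.codRestrict_apply, LinearMap.comp_apply, DualGr.resE,
      LinearMap.coe_mk, AddHom.coe_mk, Submodule.subtype_apply, Submodule.coe_sub,
      Submodule.coe_smul, Pi.sub_apply, Pi.smul_apply, smul_eq_mul] at h2
    rw [h2]; ring
  choose idx hidx using hcover
  let γ' : E → ℤ := fun e => (ga (idx e)).1 ⟨e, hidx e⟩ - (gb (idx e)).1 ⟨e, hidx e⟩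
  have hγ' : γ.1 = (k : ℤ) • γ' := by
    funext e
    simp only [Pi.smul_apply, smul_eq_mul, γ']
    exact hpt (idx e) e (hidx e)
  have hcyc : γ' ∈ DualGr.cycleLattice ends := by
    have h1 : DualGr.boundaryHom ends γ.1 = 0 := γ.2
    rw [hγ', map_smul] at h1
    change DualGr.boundaryHom ends γ' = 0
    exact (smul_eq_zero.mp h1).resolve_left hk'
  refine ⟨⟨γ', hcyc⟩, ?_⟩
  funext i
  apply Subtype.ext
  funext e
  simp only [LinearMap.pi_apply, Pi.sub_apply]
  simp only [DualGr.genMap, LinearMap.codRestrict_apply, LinearMap.comp_apply, DualGr.resE,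
      LinearMap.coe_mk, AddHom.coe_mk, Submodule.subtype_apply, Submodule.coe_sub, Pi.sub_apply]
  have h1 := hpt i e.1 e.2
  have h2 := hpt (idx e.1) e.1 (hidx e.1)
  have h3 : (k : ℤ) * γ' e.1 = (k : ℤ) * ((ga i).1 e - (gb i).1 e) := by
    simp only [γ']
    rw [← h2, h1]
  exact mul_left_cancel₀ hk' h3

end Groth.Agent.S14397
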