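import Groth.Statements.S1440
import Mathlib
import Groth.Agent.Lib.Helper46.CDInd

set_option autoImplicit false
universe u
open FlatMor

namespace Groth.Agent.S1440

open AlgebraicGeometry CategoryTheory Limits in
/-- Let f : X → Y be locally of finite presentation with Y quasi-compact and quasi-separated, and assume
f is completely decomposed: every point y of Y is the image of a point x at which the residue field
extension is trivial. Then there are finitely many immersions Z_i → Y of finite presentation,
jointly surjective, such that each base change X ×_Y Z_i → Z_i admits a section. -/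
theorem result {X Y : Scheme.{u}} (f : X ⟶ Y) [LocallyOfFinitePresentation f] [CompactSpace ↑Y] [QuasiSeparatedSpace ↑Y]
    (hcd : ∀ y : Y, ∃ x : X, f x = y ∧ Function.Bijective (f.residueFieldMap x)) :
    ∃ (n : ℕ) (Z : Fin n → Scheme.{u}) (z : ∀ i, Z i ⟶ Y), (∀ y : Y, ∃ i, y ∈ Set.range ⇑(z i)) ∧
      ∀ i, IsImmersion (z i) ∧ LocallyOfFinitePresentation (z i) ∧ QuasiCompact (z i) ∧ QuasiSeparated (z i) ∧
        ∃ s : Z i ⟶ pullback f (z i), s ≫ pullback.snd f (z i) = 𝟙 (Z i) := by
  classical
  open Groth.Agent.Lib.Helper46.CD in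
  have hall : ∀ y : Y, y ∈ cdSet f := hcd
  choose Z z σ hZ hz hfp hσ hy using fun y : Y => exists_immersion_section f (hall y)
  obtain ⟨J, hJ⟩ := exists_finset_iUnion_eq_univ (fun y : Y => Set.range (z y))
    (fun y => by haveI := hfp y; exact isIndConstructible_range (z y))
    (Set.eq_univ_of_forall fun y => Set.mem_iUnion.2 ⟨y, hy y⟩)
  let e := J.equivFin
  refine ⟨J.card, fun i => Z (e.symm i).1, fun i => z (e.symm i).1, ?_, ?_⟩
  · intro y
    have : y ∈ ⋃ i ∈ J, Set.range (z i) := by rw [hJ]; trivial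
    simp only [Set.mem_iUnion] at this
    obtain ⟨y', hy'J, hy'⟩ := this
    refine ⟨e ⟨y', hy'J⟩, ?_⟩
    have h1 : e.symm (e ⟨y', hy'J⟩) = ⟨y', hy'J⟩ := e.symm_apply_apply _
    show y ∈ Set.range ⇑(z (e.symm (e ⟨y', hy'J⟩)).1)
    rw [h1]
    exact hy'
  · intro i
    haveI := hZ (e.symm i).1
    haveI := hz (e.symm i).1
    refine ⟨inferInstance, hfp _, inferInstance, inferInstance, ?_⟩
    refine ⟨pullback.lift (σ (e.symm i).1) (𝟙 _) ?_, pullback.lift_snd _ _ _⟩
    rw [hσ, Category.id_comp]

end Groth.Agent.S1440
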