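import Groth.Statements.S14400
import Groth.Agent.Lib.Helper81.GaloisQuot

set_option autoImplicit false
universe u
open CategoryTheory CategoryTheory.Limits AlgebraicGeometry
open Desc

namespace Groth.Agent.S14400

/-- Let K/k be a finite Galois extension of fields, X and Y schemes over k with base changes X_K and
Y_K, and g : X_K ⟶ Y_K a morphism over Spec K. Then g is the base change of a k-morphism f : X ⟶ Y
(that is, g followed by the projection Y_K ⟶ Y is the projection X_K ⟶ X followed by f) if and only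
if g commutes with the action of every k-automorphism σ of K on X_K and on Y_K (the identity on X,
resp. Y, and Spec σ on the factor Spec K). In other words the image of the k-morphisms X ⟶ Y among
the K-morphisms X_K ⟶ Y_K is exactly the set of Galois-invariant ones. -/
theorem result (k : Type u) [Field k] (K : Type u) [Field K]
    [Algebra k K] [FiniteDimensional k K] [IsGalois k K]
    (X Y : Scheme.{u}) [X.Over (Spec (CommRingCat.of k))] [Y.Over (Spec (CommRingCat.of k))]
    (g : Curv2.bc k X K ⟶ Curv2.bc k Y K) (hg : g ≫ Curv2.bcSnd k Y K = Curv2.bcSnd k X K) :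
    (∃ f : X ⟶ Y, f ≫ (Y ↘ Spec (CommRingCat.of k)) = X ↘ Spec (CommRingCat.of k) ∧
        g ≫ Curv2.bcFst k Y K = Curv2.bcFst k X K ≫ f) ↔
      ∀ σ : K ≃ₐ[k] K, Curv2.galAct k X K σ ≫ g = g ≫ Curv2.galAct k Y K σ := by
  have hq := Groth.Agent.Lib.Helper81.GaloisQuot.isQuot_rhoX k K X
  have : Finite (K ≃ₐ[k] K) := inferInstance
  have hepi : Epi (Curv2.bcFst k X K) := Groth.Agent.Lib.Helper81.Quot.epi hq
  constructor
  · rintro ⟨f, hf1, hf2⟩ σ
    apply pullback.hom_ext
    · have e1 : Curv2.galAct k Y K σ ≫ pullback.fst _ _ = pullback.fst _ _ :=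
        Groth.Agent.Lib.Helper81.GaloisQuot.galAct_fst k K Y σ
      have e2 : Curv2.galAct k X K σ ≫ Curv2.bcFst k X K = Curv2.bcFst k X K :=
        Groth.Agent.Lib.Helper81.GaloisQuot.galAct_fst k K X σ
      rw [Category.assoc, Category.assoc, e1]
      change Curv2.galAct k X K σ ≫ g ≫ Curv2.bcFst k Y K = g ≫ Curv2.bcFst k Y K
      rw [hf2, ← Category.assoc, e2]
    · have e1 : Curv2.galAct k Y K σ ≫ pullback.snd _ _ = Curv2.bcSnd k Y K ≫
          Groth.Agent.Lib.Helper81.GaloisQuot.aK k K σ :=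
        Groth.Agent.Lib.Helper81.GaloisQuot.galAct_snd k K Y σ
      have e2 := Groth.Agent.Lib.Helper81.GaloisQuot.galAct_snd k K X σ
      rw [Category.assoc, Category.assoc, e1]
      change Curv2.galAct k X K σ ≫ g ≫ Curv2.bcSnd k Y K = g ≫ Curv2.bcSnd k Y K ≫ _
      rw [hg, ← Category.assoc g, hg, e2]
  · intro h
    have hinv : ∀ σ : K ≃ₐ[k] K, ((Groth.Agent.Lib.Helper81.GaloisQuot.rhoX k K X) σ).hom ≫
        g ≫ Curv2.bcFst k Y K = g ≫ Curv2.bcFst k Y K := by
      intro σ
      change Curv2.galAct k X K σ⁻¹ ≫ g ≫ Curv2.bcFst k Y K = _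
      rw [← Category.assoc, h σ⁻¹, Category.assoc,
        Groth.Agent.Lib.Helper81.GaloisQuot.galAct_fst k K Y σ⁻¹]
    obtain ⟨f, hf, -⟩ := Groth.Agent.Lib.Helper81.Quot.existsUnique_desc hq Y
      (g ≫ Curv2.bcFst k Y K) hinv
    refine ⟨f, ?_, hf.symm⟩
    rw [← cancel_epi (Curv2.bcFst k X K), ← Category.assoc, hf, Category.assoc]
    have c1 : Curv2.bcFst k Y K ≫ (Y ↘ Spec (CommRingCat.of k)) = Curv2.bcSnd k Y K ≫
        Spec.map (CommRingCat.ofHom (algebraMap k K)) := pullback.condition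
    have c2 : Curv2.bcFst k X K ≫ (X ↘ Spec (CommRingCat.of k)) = Curv2.bcSnd k X K ≫
        Spec.map (CommRingCat.ofHom (algebraMap k K)) := pullback.condition
    rw [c1, c2, ← Category.assoc, hg]

end Groth.Agent.S14400
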