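import Groth.Statements.S14401
import Mathlib.AlgebraicGeometry.Stalk
import Mathlib.Topology.Sober

set_option autoImplicit false
universe u
open CategoryTheory AlgebraicGeometry
open Props

namespace Groth.Agent.S14401

theorem eq_closure_of_mem (X : Scheme.{u}) (x : X) [IsDomain (X.presheaf.stalk x)]
    (Z : Set X) (hZ : Z ∈ irreducibleComponents (X : Type u)) (hx : x ∈ Z) :
    Z = closure {(X.fromSpecStalk x).base (⟨⊥, Ideal.isPrime_bot⟩ :
      PrimeSpectrum (X.presheaf.stalk x))} := by
  have hZcl : IsClosed Z := isClosed_of_mem_irreducibleComponents Z hZ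
  obtain ⟨ζ, hζ⟩ := QuasiSober.sober hZ.1 hZcl
  have hζx : ζ ⤳ x := by
    rw [specializes_iff_mem_closure, hζ.def]
    exact hx
  have hζr : ζ ∈ Set.range (X.fromSpecStalk x) := by
    rw [Scheme.range_fromSpecStalk]
    exact hζx
  obtain ⟨q, rfl⟩ := hζr
  have hbot : (⟨⊥, Ideal.isPrime_bot⟩ : PrimeSpectrum (X.presheaf.stalk x)) ⤳ q := by
    rw [← PrimeSpectrum.le_iff_specializes]
    exact bot_le (a := q.asIdeal)
  have hsp := hbot.map (X.fromSpecStalk x).continuous
  have hsub : Z ⊆ closure {(X.fromSpecStalk x).base (⟨⊥, Ideal.isPrime_bot⟩ :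
      PrimeSpectrum (X.presheaf.stalk x))} := by
    rw [← hζ.def]
    exact closure_minimal (Set.singleton_subset_iff.mpr (specializes_iff_mem_closure.mp hsp))
      isClosed_closure
  exact le_antisymm hsub (hZ.2 isIrreducible_singleton.closure hsub)

/-- Let X be a Noetherian scheme all of whose local rings are integral domains. Then each irreducible
component of X is an open subset of X, and each point of X lies on exactly one irreducible component
(so the irreducible components of X are pairwise disjoint, open and closed, and coincide with the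
connected components). (The published statement assumes X regular and Noetherian; its argument uses
only that the local rings of X are domains, which is the hypothesis taken here.) -/
theorem result (X : Scheme.{u}) [AlgebraicGeometry.IsNoetherian X]
    (hX : ∀ x : X, IsDomain (X.presheaf.stalk x)) :
    (∀ Z ∈ irreducibleComponents (X : Type u), IsOpen Z) ∧
      ∀ x : X, ∃! Z, Z ∈ irreducibleComponents (X : Type u) ∧ x ∈ Z := by
  have huniq : ∀ x : X, ∀ Z₁ ∈ irreducibleComponents (X : Type u),
      ∀ Z₂ ∈ irreducibleComponents (X : Type u), x ∈ Z₁ → x ∈ Z₂ → Z₁ = Z₂ := by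
    intro x Z₁ h₁ Z₂ h₂ hx₁ hx₂
    have := hX x
    rw [eq_closure_of_mem X x Z₁ h₁ hx₁, eq_closure_of_mem X x Z₂ h₂ hx₂]
  refine ⟨fun Z hZ => ?_, fun x => ?_⟩
  · have hfin : (irreducibleComponents (X : Type u)).Finite :=
      TopologicalSpace.NoetherianSpace.finite_irreducibleComponents
    have hcl : IsClosed (⋃ Z' ∈ irreducibleComponents (X : Type u) \ {Z}, Z') :=
      (hfin.subset Set.sdiff_subset).isClosed_biUnion fun Z' hZ' =>
        isClosed_of_mem_irreducibleComponents Z' hZ'.1
    have heq : Z = (⋃ Z' ∈ irreducibleComponents (X : Type u) \ {Z}, Z')ᶜ := by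
      ext x
      simp only [Set.mem_compl_iff, Set.mem_iUnion, Set.mem_sdiff, Set.mem_singleton_iff,
        exists_prop, not_exists, not_and, and_imp]
      constructor
      · intro hx Z' hZ' hne hx'
        exact hne (huniq x Z' hZ' Z hZ hx' hx)
      · intro h
        by_contra hx
        refine h (irreducibleComponent x) (irreducibleComponent_mem_irreducibleComponents x) ?_
          mem_irreducibleComponent
        rintro rfl
        exact hx mem_irreducibleComponent
    rw [heq]
    exact hcl.isOpen_compl
  · refine ⟨irreducibleComponent x,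
      ⟨irreducibleComponent_mem_irreducibleComponents x, mem_irreducibleComponent⟩, ?_⟩
    rintro Z ⟨hZ, hxZ⟩
    exact huniq x Z hZ _ (irreducibleComponent_mem_irreducibleComponents x) hxZ
      mem_irreducibleComponent

end Groth.Agent.S14401
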