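import Groth.Statements.S14405
import Mathlib.Algebra.Polynomial.Degree.Lemmas
import Mathlib.Algebra.Polynomial.Coeff
import Mathlib.Tactic

set_option autoImplicit false
open Polynomial
open HilbNum

namespace Groth.Agent.S14405

noncomputable def shiftP : ℚ[X] := X + C (-1 : ℚ)

noncomputable def delta (P : ℚ[X]) : ℚ[X] := P - P.comp shiftP

theorem delta_add (P R : ℚ[X]) : delta (P + R) = delta P + delta R := by
  simp only [delta, add_comp]; ring

theorem delta_C_mul (a : ℚ) (P : ℚ[X]) : delta (C a * P) = C a * delta P := by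
  simp only [delta, mul_comp, C_comp]; ring

theorem delta_eval (P : ℚ[X]) (x : ℚ) : (delta P).eval x = P.eval x - P.eval (x - 1) := by
  simp [delta, shiftP, eval_comp, sub_eq_add_neg]

theorem delta_X_pow_coeff (n m : ℕ) (hm : n ≤ m) :
    (delta (X ^ (n + 1))).coeff m = if m = n then (n + 1 : ℚ) else 0 := by
  simp only [delta, shiftP, X_pow_comp, coeff_sub, coeff_X_pow, coeff_X_add_C_pow]
  rcases hm.eq_or_lt with rfl | hlt
  · simp
  · rcases (Nat.succ_le_of_lt hlt).eq_or_lt with h | h
    · subst h
      simp
    · have h1 : m ≠ n + 1 := by omega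
      have h2 : m ≠ n := by omega
      simp [h1, h2, Nat.choose_eq_zero_of_lt h]

theorem exists_delta_eq (n : ℕ) : ∀ Q : ℚ[X], Q.degree < n →
    ∃ P : ℚ[X], delta P = Q ∧ P.degree < (n + 1 : ℕ) := by
  induction n with
  | zero =>
    intro Q hQ
    refine ⟨0, ?_, by simp⟩
    have : Q = 0 := by
      rw [← degree_eq_bot]
      rcases h : Q.degree with _ | k
      · rfl
      · rw [h] at hQ
        exact absurd hQ (by simp)
    simp [this, delta]
  | succ n ih =>
    intro Q hQ
    set a : ℚ := Q.coeff n / (n + 1) with ha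
    set T : ℚ[X] := C a * X ^ (n + 1) with hT
    have hcoeff : ∀ m, n ≤ m → (Q - delta T).coeff m = 0 := by
      intro m hm
      rw [coeff_sub, hT, delta_C_mul, coeff_C_mul, delta_X_pow_coeff n m hm]
      rcases hm.eq_or_lt with rfl | hlt
      · simp only [if_true]
        rw [ha]
        field_simp
        ring
      · have hne : m ≠ n := by omega
        simp only [hne, if_false, mul_zero, sub_zero]
        exact (degree_lt_iff_coeff_zero Q (n + 1)).mp hQ m (by omega)
    have hdeg : (Q - delta T).degree < n := (degree_lt_iff_coeff_zero _ n).mpr hcoeff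
    obtain ⟨P₁, hP₁, hP₁deg⟩ := ih _ hdeg
    refine ⟨T + P₁, ?_, ?_⟩
    · rw [delta_add, hP₁]; ring
    · refine lt_of_le_of_lt (degree_add_le _ _) (max_lt ?_ ?_)
      · refine lt_of_le_of_lt (degree_C_mul_X_pow_le _ _) ?_
        exact_mod_cast Nat.lt_succ_self (n + 1)
      · refine lt_trans hP₁deg ?_
        exact_mod_cast Nat.lt_succ_self (n + 1)

theorem degree_delta_lt (P : ℚ[X]) (hP : 0 < P.natDegree) : (delta P).degree < P.degree := by
  have hS : shiftP.natDegree = 1 := by
    rw [shiftP]; exact natDegree_X_add_C _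
  have hSl : shiftP.leadingCoeff = 1 := by
    rw [shiftP]; exact leadingCoeff_X_add_C _
  have hP0 : P ≠ 0 := by
    rintro rfl
    simp at hP
  have hnd : (P.comp shiftP).natDegree = P.natDegree := by
    rw [natDegree_comp, hS, mul_one]
  have hlc : (P.comp shiftP).leadingCoeff = P.leadingCoeff := by
    rw [leadingCoeff_comp (by rw [hS]; exact one_ne_zero), hSl, one_pow, mul_one]
  have hc0 : P.comp shiftP ≠ 0 := by
    intro h
    rw [h, leadingCoeff_zero] at hlc
    exact hP0 (leadingCoeff_eq_zero.mp hlc.symm)
  refine degree_sub_lt_left ?_ hP0 hlc.symm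
  rw [degree_eq_natDegree hP0, degree_eq_natDegree hc0, hnd]

/-- Let φ be a function from the integers to the rationals and Q a nonzero polynomial with rational
coefficients of degree d such that φ(m) - φ(m-1) = Q(m) for every integer m. Then there is a
polynomial P with rational coefficients, of degree d + 1, such that φ(m) = P(m) for every integer m.
(The explicit form of P in the binomial basis is not part of this statement.) -/
theorem result (φ : ℤ → ℚ) (d : ℕ) (Q : ℚ[X]) (hQ : Q ≠ 0)
    (hd : Q.natDegree = d) (h : ∀ m : ℤ, φ m - φ (m - 1) = Q.eval (m : ℚ)) :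
    ∃ P : ℚ[X], P.natDegree = d + 1 ∧ ∀ m : ℤ, φ m = P.eval (m : ℚ) := by
  have hQdeg : Q.degree < (d + 1 : ℕ) := by
    rw [degree_eq_natDegree hQ, hd]
    exact_mod_cast Nat.lt_succ_self d
  obtain ⟨P₀, hP₀, hP₀deg⟩ := exists_delta_eq (d + 1) Q hQdeg
  have hupper : P₀.natDegree ≤ d + 1 := by
    by_cases h0 : P₀ = 0
    · simp [h0]
    · rw [degree_eq_natDegree h0] at hP₀deg
      have : P₀.natDegree < d + 1 + 1 := by exact_mod_cast hP₀deg
      omega
  have hlower : d + 1 ≤ P₀.natDegree := by
    by_contra hlt
    push Not at hlt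
    rcases Nat.eq_zero_or_pos P₀.natDegree with h0 | hpos
    · have hc : P₀ = C (P₀.coeff 0) := eq_C_of_natDegree_eq_zero h0
      apply hQ
      rw [← hP₀, hc, delta]
      simp
    · have h1 := degree_delta_lt P₀ hpos
      rw [hP₀, degree_eq_natDegree hQ, hd, degree_eq_natDegree (by
        rintro rfl
        simp at hpos)] at h1
      have : d < P₀.natDegree := by exact_mod_cast h1
      omega
  have hconst : ∀ m : ℤ, φ m - P₀.eval (m : ℚ) = φ 0 - P₀.eval 0 := by
    have hstep : ∀ m : ℤ, φ m - P₀.eval (m : ℚ) = φ (m - 1) - P₀.eval ((m - 1 : ℤ) : ℚ) := by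
      intro m
      have h1 := h m
      have h2 := delta_eval P₀ (m : ℚ)
      rw [hP₀] at h2
      push_cast
      linarith
    intro m
    induction m using Int.induction_on with
    | zero => simp
    | succ k ih =>
      have := hstep (k + 1)
      simp only [add_sub_cancel_right] at this
      rw [this, ih]
    | pred k ih =>
      have := hstep (-k)
      rw [← ih, this]
  refine ⟨P₀ + C (φ 0 - P₀.eval 0), ?_, fun m => ?_⟩
  · rw [natDegree_add_C]
    omega
  · rw [eval_add, eval_C, ← hconst m]
    ring

end Groth.Agent.S14405
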