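import Groth.Statements.S14410
-- import your own Groth.Agent.* helpers here

set_option autoImplicit false
universe u
open CategoryTheory TopologicalSpace
open CohTop

namespace Groth.Agent.S14410

/-- Let X be a topological space and 0 → F₁ → F₂ → F₃ → 0 a short exact sequence of sheaves of abelian
groups on X. If F₁ and F₃ are flasque (every restriction map is surjective), then F₂ is flasque.
(The published statement is for O_X-modules on a ringed space and is an equivalence; this row states
the implication from the outer terms to the middle term, for the underlying abelian sheaves.) -/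
theorem result (X : TopCat.{u})
    (S : ShortComplex (TopCat.Sheaf AddCommGrpCat.{u} X)) (hS : S.ShortExact)
    [S.X₁.IsFlasque] [S.X₃.IsFlasque] : S.X₂.IsFlasque where
  epi {U V} i := by
    refine (AddCommGrpCat.epi_iff_surjective _).mpr (fun t => ?_)
    obtain ⟨w, hw⟩ := (AddCommGrpCat.epi_iff_surjective (S.X₃.obj.map i)).mp inferInstance
      (S.g.hom.app V t)
    have hepi : Epi (S.g.hom.app (Opposite.op U.unop)) :=
      TopCat.Sheaf.IsFlasque.epi_of_shortExact hS
    obtain ⟨s, hs⟩ := (AddCommGrpCat.epi_iff_surjective _).mp hepi w
    have hnat : ∀ x, S.g.hom.app V (S.X₂.obj.map i x) = S.X₃.obj.map i (S.g.hom.app U x) := by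
      intro x
      have := S.g.hom.naturality i
      exact congrArg (fun f => f.hom x) this
    have hzero : S.g.hom.app (Opposite.op V.unop) (S.X₂.obj.map i s - t) = 0 := by
      change S.g.hom.app V (S.X₂.obj.map i s - t) = 0
      rw [map_sub, hnat, sub_eq_zero]
      change S.X₃.obj.map i (S.g.hom.app (Opposite.op U.unop) s) = _
      rw [hs, hw]
    obtain ⟨r', hr'⟩ := TopCat.Sheaf.sections_exact_of_left_exact hS.1 hS.2 _ hzero
    obtain ⟨r, hr⟩ := (AddCommGrpCat.epi_iff_surjective (S.X₁.obj.map i)).mp inferInstance r'
    have hnat' : ∀ x, S.f.hom.app V (S.X₁.obj.map i x) = S.X₂.obj.map i (S.f.hom.app U x) := by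
      intro x
      have := S.f.hom.naturality i
      exact congrArg (fun f => f.hom x) this
    refine ⟨s - S.f.hom.app U r, ?_⟩
    rw [map_sub, ← hnat', hr]
    change _ - S.f.hom.app (Opposite.op V.unop) r' = t
    rw [hr', sub_sub_cancel]

end Groth.Agent.S14410
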