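import Groth.Statements.S14412
import Mathlib

set_option autoImplicit false
universe u
open CategoryTheory
open CAlg

namespace Groth.Agent.S14412
open CategoryTheory Abelian

variable {R : Type u} [CommRing R] (S : Submonoid R)

theorem map_smul' (r : R) {M N : ModuleCat.{u} R} (f : M ⟶ N) :
    (ModuleCat.localizedModuleFunctor.{u} S).map (r • f) =
      algebraMap R (Localization S) r • (ModuleCat.localizedModuleFunctor.{u} S).map f := by
  ext x
  simp only [ModuleCat.localizedModuleFunctor, ModuleCat.localizedModuleMap, ModuleCat.hom_smul,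
    map_smul]
  exact (algebraMap_smul (Localization S) r _).symm

theorem mapExt_smul (r : R) {M N : ModuleCat.{u} R} {i : ℕ} (e : Ext M N i) :
    (r • e).mapExactFunctor (ModuleCat.localizedModuleFunctor.{u} S) =
      algebraMap R (Localization S) r • e.mapExactFunctor (ModuleCat.localizedModuleFunctor.{u} S) := by
  rw [Ext.smul_eq_comp_mk₀, Ext.mapExactFunctor_comp, Ext.mapExactFunctor_mk₀, map_smul',
    CategoryTheory.Functor.map_id, ← Ext.smul_eq_comp_mk₀]

/-- The localization property for `Ext^i(M, N)`. -/
def P (M N : ModuleCat.{u} R) (i : ℕ) : Prop :=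
  (∀ y : Ext ((ModuleCat.localizedModuleFunctor.{u} S).obj M)
      ((ModuleCat.localizedModuleFunctor.{u} S).obj N) i,
    ∃ (e : Ext M N i) (s : S), algebraMap R (Localization S) (s : R) • y =
      e.mapExactFunctor (ModuleCat.localizedModuleFunctor.{u} S)) ∧
  (∀ e : Ext M N i, e.mapExactFunctor (ModuleCat.localizedModuleFunctor.{u} S) = 0 →
    ∃ s : S, (s : R) • e = 0)

theorem step {T : ShortComplex (ModuleCat.{u} R)} (hT : T.ShortExact) [Projective T.X₂]
    (N : ModuleCat.{u} R) (i : ℕ) (h1 : P S T.X₁ N i) (h2 : P S T.X₂ N i) :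
    P S T.X₃ N (i + 1) := by
  have hFT := hT.map_of_exact (ModuleCat.localizedModuleFunctor.{u} S)
  have : Projective (T.map (ModuleCat.localizedModuleFunctor.{u} S)).X₂ :=
    (ModuleCat.localizedModuleFunctor.{u} S).projective_obj_of_projective inferInstance
  constructor
  · intro y
    obtain ⟨z, rfl⟩ := Ext.contravariant_sequence_exact₃ hFT _ y
      (Ext.eq_zero_of_projective _) (add_comm 1 i)
    obtain ⟨e, s, hes⟩ := h1.1 z
    refine ⟨hT.extClass.comp e (add_comm 1 i), s, ?_⟩
    rw [Ext.mapExactFunctor_comp, Ext.mapExactFunctor_extClass, ← hes]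
    exact (Ext.comp_smul _ _ _ _).symm
  · intro e he
    obtain ⟨z, rfl⟩ := Ext.contravariant_sequence_exact₃ hT _ e
      (Ext.eq_zero_of_projective _) (add_comm 1 i)
    rw [Ext.mapExactFunctor_comp, Ext.mapExactFunctor_extClass] at he
    obtain ⟨w, hw⟩ := Ext.contravariant_sequence_exact₁ hFT _ _ (add_comm 1 i) he
    obtain ⟨v, t, hvt⟩ := h2.1 w
    have h3 : ((t : R) • z - (Ext.mk₀ T.f).comp v (zero_add i)).mapExactFunctor
        (ModuleCat.localizedModuleFunctor.{u} S) = 0 := by
      have hsub : ∀ a b : Ext T.X₁ N i, (a - b).mapExactFunctor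
          (ModuleCat.localizedModuleFunctor.{u} S) =
          a.mapExactFunctor (ModuleCat.localizedModuleFunctor.{u} S) -
          b.mapExactFunctor (ModuleCat.localizedModuleFunctor.{u} S) := fun a b =>
        map_sub ((ModuleCat.localizedModuleFunctor.{u} S).mapExtAddHom T.X₁ N i) a b
      rw [hsub, mapExt_smul, Ext.mapExactFunctor_comp, Ext.mapExactFunctor_mk₀, ← hvt, ← hw,
        sub_eq_zero]
      exact (Ext.comp_smul _ _ _ _).symm
    obtain ⟨s, hs⟩ := h1.2 _ h3
    refine ⟨s * t, ?_⟩
    rw [smul_sub, sub_eq_zero] at hs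
    rw [Submonoid.coe_mul, ← Ext.comp_smul, mul_smul, hs, Ext.comp_smul,
      ShortComplex.ShortExact.extClass_comp_assoc, smul_zero]

theorem hom_base (M N : ModuleCat.{u} R) [Module.FinitePresentation R M] :
    (∀ g : M.localizedModule S ⟶ N.localizedModule S,
      ∃ (h : M ⟶ N) (s : S), algebraMap R (Localization S) (s : R) • g =
        ModuleCat.localizedModuleMap S h) ∧
    (∀ h : M ⟶ N, ModuleCat.localizedModuleMap S h = 0 → ∃ s : S, (s : R) • h = 0) := by
  constructor
  · intro g
    obtain ⟨⟨h, s⟩, hs⟩ := IsLocalizedModule.surj S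
      (IsLocalizedModule.map S (M.localizedModuleMkLinearMap S) (N.localizedModuleMkLinearMap S))
      (g.hom.restrictScalars R)
    refine ⟨ModuleCat.ofHom h, s, ?_⟩
    ext x
    have := LinearMap.congr_fun hs x
    simp only [ModuleCat.localizedModuleMap]
    exact (algebraMap_smul (Localization S) (s : R) (g.hom x)).trans this
  · intro h he
    have h0 : IsLocalizedModule.map S (M.localizedModuleMkLinearMap S)
        (N.localizedModuleMkLinearMap S) h.hom = IsLocalizedModule.map S
        (M.localizedModuleMkLinearMap S) (N.localizedModuleMkLinearMap S) 0 := by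
      rw [map_zero]
      ext x
      have := congrArg (fun φ => φ.hom x) he
      simp only [ModuleCat.localizedModuleMap] at this
      exact this
    obtain ⟨c, hc⟩ := IsLocalizedModule.exists_of_eq (S := S) h0
    refine ⟨c, ?_⟩
    ext x
    have := LinearMap.congr_fun hc x
    rw [smul_zero, Submonoid.smul_def] at this
    exact this


theorem base (M N : ModuleCat.{u} R) [Module.FinitePresentation R M] : P S M N 0 := by
  obtain ⟨h1, h2⟩ := hom_base S M N
  constructor
  · intro y
    obtain ⟨g, rfl⟩ := (Ext.mk₀_bijective _ _).2 y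
    obtain ⟨h, s, hs⟩ := h1 g
    refine ⟨Ext.mk₀ h, s, ?_⟩
    rw [Ext.mapExactFunctor_mk₀, ← Ext.mk₀_smul]
    exact congrArg Ext.mk₀ hs
  · intro e he
    obtain ⟨h, rfl⟩ := (Ext.mk₀_bijective _ _).2 e
    rw [Ext.mapExactFunctor_mk₀, Ext.mk₀_eq_zero_iff] at he
    obtain ⟨s, hs⟩ := h2 h he
    exact ⟨s, by rw [← Ext.mk₀_smul, hs, Ext.mk₀_zero]⟩

theorem main [IsNoetherianRing R] (N : ModuleCat.{u} R) (i : ℕ) :
    ∀ (M : ModuleCat.{u} R) [Module.Finite R M], P S M N i := by
  induction i with
  | zero =>
    intro M _
    have : Module.FinitePresentation R M := Module.finitePresentation_of_finite R M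
    exact base S M N
  | succ i ih =>
    intro M _
    obtain ⟨n, f, hf⟩ := Module.Finite.exists_fin' R M
    let T : ShortComplex (ModuleCat.{u} R) :=
      ShortComplex.mk (ModuleCat.ofHom (LinearMap.ker f).subtype) (ModuleCat.ofHom f)
        (by ext x; exact x.2)
    have hT : T.ShortExact := by
      refine ShortComplex.ShortExact.mk' ?_ ?_ ?_
      · rw [ShortComplex.ShortExact.moduleCat_exact_iff_function_exact]
        intro x
        constructor
        · intro hx; exact ⟨⟨x, hx⟩, rfl⟩
        · rintro ⟨y, rfl⟩; exact y.2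
      · exact (ModuleCat.mono_iff_injective _).mpr Subtype.val_injective
      · exact (ModuleCat.epi_iff_surjective _).mpr hf
    have : Projective T.X₂ := by
      change Projective (ModuleCat.of R (Fin n → R))
      exact (IsProjective.iff_projective _).mp inferInstance
    have : Module.Finite R T.X₁ := by
      change Module.Finite R (LinearMap.ker f)
      infer_instance
    have : Module.Finite R T.X₂ := by
      change Module.Finite R (Fin n → R)
      infer_instance
    exact step S hT N i (ih T.X₁) (ih T.X₂)

end Groth.Agent.S14412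

namespace Groth.Agent.S14412

/-- Let R be a Noetherian commutative ring, S a multiplicative subset of R, and M, N finitely generated
R-modules. For i ≥ 0 consider the map Ext^i_R(M, N) → Ext^i_{S⁻¹R}(S⁻¹M, S⁻¹N) induced on Ext groups
(computed in the categories of modules) by the exact localization functor M ↦ S⁻¹M. Then this map
exhibits its target as the localization S⁻¹ Ext^i_R(M, N): every element of the target, after
multiplication by some s ∈ S, is the image of an element of Ext^i_R(M, N), and an element of
Ext^i_R(M, N) maps to zero if and only if it is annihilated by some element of S. (Equivalently, the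
induced map identifies S⁻¹Ext^i_R(M, N) with Ext^i_{S⁻¹R}(S⁻¹M, S⁻¹N).) -/
theorem result (R : Type u) [CommRing R] [IsNoetherianRing R]
    (S : Submonoid R) (M N : ModuleCat.{u} R) [Module.Finite R M] [Module.Finite R N] (i : ℕ) :
    (∀ y : Abelian.Ext ((ModuleCat.localizedModuleFunctor.{u} S).obj M) ((ModuleCat.localizedModuleFunctor.{u} S).obj N) i,
        ∃ (e : Abelian.Ext M N i) (s : S),
          algebraMap R (Localization S) (s : R) • y = (ModuleCat.localizedModuleFunctor.{u} S).mapExtAddHom M N i e) ∧
      (∀ e : Abelian.Ext M N i,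
        (ModuleCat.localizedModuleFunctor.{u} S).mapExtAddHom M N i e = 0 ↔ ∃ s : S, (s : R) • e = 0) := by
  have hP := main S N i M
  refine ⟨hP.1, fun e => ⟨hP.2 e, ?_⟩⟩
  rintro ⟨s, hs⟩
  have h1 := congrArg (Abelian.Ext.mapExactFunctor (ModuleCat.localizedModuleFunctor.{u} S)) hs
  rw [mapExt_smul, Abelian.Ext.mapExactFunctor_zero] at h1
  have hu : IsUnit (algebraMap R (Localization S) (s : R)) := IsLocalization.map_units _ s
  exact (hu.smul_eq_zero).mp h1

end Groth.Agent.S14412
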