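import Groth.Statements.S14413
import Mathlib

set_option autoImplicit false
universe u
open CategoryTheory CategoryTheory.Limits
open CAlg

namespace Groth.Agent.S14413

section Aux

variable {C : Type*} [Category C] [Abelian C]

theorem pdLT_of_resolution {X : C} (d : ℕ) (P : ProjectiveResolution X)
    (hP : ∀ i, d < i → IsZero (P.complex.X i)) : HasProjectiveDimensionLT X (d + 1) := by
  let := HasExt.standard C
  rw [hasProjectiveDimensionLT_iff]
  intro i hi Y e
  obtain ⟨f, hf, rfl⟩ := P.extMk_surjective e (i + 1) rfl
  have : f = 0 := (hP i (by omega)).eq_of_src _ _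
  subst this
  exact P.extMk_zero _ _

/-- the augmentation with target literally `K` -/
noncomputable def π0 {K : C} (PK : ProjectiveResolution K) : PK.complex.X 0 ⟶ K := PK.π.f 0

theorem d_π0 {K : C} (PK : ProjectiveResolution K) : PK.complex.d 1 0 ≫ π0 PK = 0 :=
  PK.complex_d_comp_π_f_zero

theorem exact_π0 {K : C} (PK : ProjectiveResolution K) :
    (ShortComplex.mk _ _ (d_π0 PK)).Exact := PK.exact₀

/-- splice a projective resolution of the kernel with a projective cover -/
noncomputable def spliceComplex {K F : C} (ι : K ⟶ F) (PK : ProjectiveResolution K) :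
    ChainComplex C ℕ :=
  PK.complex.augment (π0 PK ≫ ι)
    (by rw [← Category.assoc, d_π0, zero_comp])

theorem splice_exactAt_succ {K F : C} (ι : K ⟶ F) [Mono ι] (PK : ProjectiveResolution K) (n : ℕ) :
    (spliceComplex ι PK).ExactAt (n + 1) := by
  rw [HomologicalComplex.exactAt_iff' _ (n + 1 + 1) (n + 1) n (by simp) (by simp)]
  cases n with
  | zero =>
    -- PK.X 1 → PK.X 0 → F
    have h0 := exact_π0 PK
    have w : PK.complex.d 1 0 ≫ π0 PK ≫ ι = 0 := by
      rw [← Category.assoc, d_π0, zero_comp]
    let S1 := ShortComplex.mk _ _ (d_π0 PK)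
    let S2 := ShortComplex.mk _ _ w
    let α : S1 ⟶ S2 :=
      { τ₁ := 𝟙 (PK.complex.X 1)
        τ₂ := 𝟙 (PK.complex.X 0)
        τ₃ := ι
        comm₁₂ := (Category.id_comp _).trans (Category.comp_id _).symm
        comm₂₃ := (Category.id_comp _) }
    have : Epi α.τ₁ := inferInstanceAs (Epi (𝟙 (PK.complex.X 1)))
    have : IsIso α.τ₂ := inferInstanceAs (IsIso (𝟙 (PK.complex.X 0)))
    have : Mono α.τ₃ := ‹Mono ι›
    have h2 : S2.Exact := (ShortComplex.exact_iff_of_epi_of_isIso_of_mono α).mp h0
    exact h2
  | succ n =>
    exact PK.exact_succ n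


theorem splice_d_comp {K F X : C} (ι : K ⟶ F) (p : F ⟶ X) (w : ι ≫ p = 0)
    (PK : ProjectiveResolution K) : (spliceComplex ι PK).d 1 0 ≫ p = 0 := by
  change (π0 PK ≫ ι) ≫ p = 0
  rw [Category.assoc, w, comp_zero]

/-- the augmentation map of the spliced complex -/
noncomputable def spliceπ {K F X : C} (ι : K ⟶ F) (p : F ⟶ X) (w : ι ≫ p = 0)
    (PK : ProjectiveResolution K) :
    spliceComplex ι PK ⟶ (ChainComplex.single₀ C).obj X :=
  (ChainComplex.toSingle₀Equiv _ _).symm ⟨p, splice_d_comp ι p w PK⟩

theorem splice_quasiIso {K F X : C} (ι : K ⟶ F) (p : F ⟶ X) (w : ι ≫ p = 0)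
    (hS : (ShortComplex.mk ι p w).ShortExact) (PK : ProjectiveResolution K) :
    QuasiIso (spliceπ ι p w PK) := by
  have := hS.mono_f
  have := hS.epi_g
  refine ⟨fun n => ?_⟩
  cases n with
  | zero =>
    rw [ChainComplex.quasiIsoAt₀_iff, ShortComplex.quasiIso_iff_of_zeros']
    · have w' : (π0 PK ≫ ι) ≫ p = 0 := by rw [Category.assoc, w, comp_zero]
      let S1 := ShortComplex.mk _ _ w'
      let S2 := ShortComplex.mk _ _ w
      let α : S1 ⟶ S2 :=
        { τ₁ := π0 PK
          τ₂ := 𝟙 F
          τ₃ := 𝟙 X
          comm₁₂ := (Category.comp_id (π0 PK ≫ ι)).symm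
          comm₂₃ := (Category.id_comp _).trans (Category.comp_id _).symm }
      have : Epi α.τ₁ := inferInstanceAs (Epi (PK.π.f 0))
      have : IsIso α.τ₂ := inferInstanceAs (IsIso (𝟙 F))
      have : Mono α.τ₃ := inferInstanceAs (Mono (𝟙 X))
      have h1 : S1.Exact := (ShortComplex.exact_iff_of_epi_of_isIso_of_mono α).mpr hS.exact
      have hp : (spliceπ ι p w PK).f 0 = p := by
        simp [spliceπ]
      refine ⟨?_, ?_⟩
      · refine ShortComplex.exact_of_iso ?_ h1
        exact ShortComplex.isoMk (Iso.refl _) (Iso.refl _) (Iso.refl _)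
          ((Category.id_comp _).trans (Category.comp_id _).symm)
          (by
            change 𝟙 F ≫ (spliceπ ι p w PK).f 0 = p ≫ 𝟙 X
            rw [hp, Category.id_comp, Category.comp_id])
      · change Epi ((spliceπ ι p w PK).f 0)
        rw [hp]
        exact hS.epi_g
    · rfl
    · rfl
    · rfl
  | succ n =>
    rw [quasiIsoAt_iff_exactAt']
    · exact splice_exactAt_succ ι PK n
    · apply ChainComplex.exactAt_succ_single_obj


/-- the spliced projective resolution -/
noncomputable def splice {K F X : C} (ι : K ⟶ F) (p : F ⟶ X) (w : ι ≫ p = 0)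
    (hS : (ShortComplex.mk ι p w).ShortExact) [Projective F] (PK : ProjectiveResolution K) :
    ProjectiveResolution X where
  complex := spliceComplex ι PK
  projective n := by
    cases n with
    | zero => exact ‹Projective F›
    | succ n => exact PK.projective n
  π := spliceπ ι p w PK
  quasiIso := splice_quasiIso ι p w hS PK

theorem exists_resolution [EnoughProjectives C] (d : ℕ) :
    ∀ (X : C), HasProjectiveDimensionLT X (d + 1) →
      ∃ P : ProjectiveResolution X, ∀ i : ℕ, d < i → IsZero (P.complex.X i) := by
  induction d with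
  | zero =>
    intro X hX
    have : Projective X := projective_iff_hasProjectiveDimensionLT_one.mpr hX
    refine ⟨ProjectiveResolution.self X, fun i hi => ?_⟩
    exact HomologicalComplex.isZero_single_obj_X _ _ _ _ (by omega)
  | succ d ih =>
    intro X hX
    let S : ShortComplex C := ShortComplex.mk (kernel.ι (Projective.π X)) (Projective.π X)
      (kernel.condition _)
    have hS : S.ShortExact :=
      { exact := ShortComplex.exact_of_f_is_kernel _ (kernelIsKernel _)
        mono_f := inferInstanceAs (Mono (kernel.ι (Projective.π X)))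
        epi_g := inferInstanceAs (Epi (Projective.π X)) }
    have hproj : Projective S.X₂ := inferInstanceAs (Projective (Projective.over X))
    have hK : HasProjectiveDimensionLT S.X₁ (d + 1) :=
      (hS.hasProjectiveDimensionLT_X₃_iff d hproj).mp hX
    obtain ⟨PK, hPK⟩ := ih _ hK
    refine ⟨splice S.f S.g S.zero hS PK, fun i hi => ?_⟩
    obtain ⟨j, rfl⟩ : ∃ j, i = j + 1 := ⟨i - 1, by omega⟩
    exact hPK j (by omega)


end Aux

/-- Let R be a commutative ring, M an R-module and d ≥ 0. Then M has projective dimension at most d in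
the sense that Ext^i_R(M, N) = 0 for every i > d and every R-module N (Mathlib's Ext-vanishing
definition) if and only if M has a projective resolution of length at most d, i.e. a projective
resolution P whose terms P_i are zero for all i > d (the definition of pd_R(M) ≤ d by resolutions). -/
theorem result (R : Type u) [CommRing R]
    (M : ModuleCat.{u} R) (d : ℕ) :
    HasProjectiveDimensionLE M d ↔
      ∃ P : ProjectiveResolution M, ∀ i : ℕ, d < i → IsZero (P.complex.X i) := by
  constructor
  · intro h
    exact exists_resolution d M h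
  · rintro ⟨P, hP⟩
    exact pdLT_of_resolution d P hP

end Groth.Agent.S14413
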