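import Groth.Statements.S14414
import Groth.Agent.Lib.Helper68.TorMod
import Mathlib.CategoryTheory.Abelian.Projective.Dimension

set_option autoImplicit false
universe u
open CategoryTheory CategoryTheory.Limits
open CAlg

namespace Groth.Agent.S14414

open Groth.Agent.Lib.Helper68

lemma aux (R : Type u) [CommRing R] (M : ModuleCat.{u} R) (q : ℕ) :
    ∀ (N : ModuleCat.{u} R) [HasProjectiveDimensionLT N (q + 1)] (i : ℕ), q < i →
      IsZero (((TorMod.tF M).leftDerived i).obj N) := by
  induction q with
  | zero =>
    intro N hN i hi
    obtain ⟨j, rfl⟩ : ∃ j, i = j + 1 := ⟨i - 1, by omega⟩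
    have hN' : HasProjectiveDimensionLT N 1 := hN
    have hproj : Projective N := (projective_iff_hasProjectiveDimensionLT_one (X := N)).mpr hN'
    exact isZero_Tor_succ_of_projective _ M N j
  | succ q ih =>
    intro N hN i hi
    obtain ⟨n, rfl⟩ : ∃ n, i = n + 2 := ⟨i - 2, by omega⟩
    let S : ShortComplex (ModuleCat.{u} R) :=
      ShortComplex.mk (kernel.ι (Projective.π N)) (Projective.π N) (kernel.condition _)
    have hS : S.ShortExact := { exact := ShortComplex.exact_kernel (Projective.π N) }
    have hP : Projective S.X₂ := inferInstanceAs (Projective (Projective.over N))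
    have hK : HasProjectiveDimensionLT S.X₁ (q + 1) :=
      (hS.hasProjectiveDimensionLT_X₃_iff q hP).mp hN
    have hA : IsZero (((TorMod.tF M).leftDerived (n + 1)).obj S.X₁) :=
      @ih S.X₁ hK (n + 1) (by omega)
    have hB : IsZero (((TorMod.tF M).leftDerived (n + 1 + 1)).obj S.X₂) :=
      isZero_Tor_succ_of_projective _ M S.X₂ (n + 1)
    have h1 := LeftDerivedLES.isZero_right (TorMod.tF M) hS (n + 1) hB hA
    exact h1

/-- Let R be a commutative ring and N an R-module of projective dimension at most q, in the sense that
Ext^i_R(N, N′) = 0 for all i > q and all N′ (equivalently, N has a projective resolution of length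
at most q). Then for every R-module M and every i > q, Tor_i^R(M, N) — the value at N of the i-th
left derived functor of M ⊗_R (-) — is zero. -/
theorem result (R : Type u) [CommRing R]
    (M N : ModuleCat.{u} R) (q : ℕ) [HasProjectiveDimensionLE N q] (i : ℕ) (hi : q < i) :
    IsZero (((CategoryTheory.Tor (ModuleCat.{u} R) i).obj M).obj N) := by
  exact aux R M q N i hi

end Groth.Agent.S14414
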