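import Groth.Statements.S14416
import Mathlib.RingTheory.LocalRing.Module
import Mathlib.RingTheory.Support
import Mathlib.LinearAlgebra.Dimension.FreeAndStrongRankCondition

set_option autoImplicit false
universe u
open scoped TensorProduct
open CAlg

namespace Groth.Agent.S14416

/-- Let B → A be a ring map with A a finitely generated B-module such that for every prime ideal p of B
the fibre κ(p) ⊗_B A has dimension at most one over the residue field κ(p). Then B → A is
surjective. In scheme language: a finite morphism whose degree at every point of the target is 0 or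
1 is a closed immersion. (The published statement assumes the two schemes Noetherian; that
hypothesis plays no role and is dropped here.) -/
theorem result
    (B A : Type u) [CommRing B] [CommRing A] [Algebra B A] [Module.Finite B A]
    (h : ∀ p : PrimeSpectrum B,
      Module.finrank p.asIdeal.ResidueField (p.asIdeal.ResidueField ⊗[B] A) ≤ 1) :
    Function.Surjective (algebraMap B A) := by
  classical
  let R : Submodule B A := LinearMap.range (Algebra.linearMap B A)
  have hsub : Subsingleton (A ⧸ R) := by
    rw [← Module.support_eq_empty_iff (R := B), Set.eq_empty_iff_forall_notMem]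
    intro p hp
    rw [Module.mem_support_iff_nontrivial_residueField_tensorProduct] at hp
    rw [← not_subsingleton_iff_nontrivial] at hp
    apply hp
    -- every element of κ(p) ⊗ A is a scalar multiple of 1 ⊗ 1
    have hspan : ∀ t : p.asIdeal.ResidueField ⊗[B] A, ∃ c : p.asIdeal.ResidueField,
        t = c • ((1 : p.asIdeal.ResidueField) ⊗ₜ[B] (1 : A)) := by
      obtain ⟨v, hv⟩ := (finrank_le_one_iff (K := p.asIdeal.ResidueField)
        (V := p.asIdeal.ResidueField ⊗[B] A)).1 (h p)
      obtain ⟨c₁, hc₁⟩ := hv ((1 : p.asIdeal.ResidueField) ⊗ₜ[B] (1 : A))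
      intro t
      obtain ⟨c, hc⟩ := hv t
      by_cases h0 : c₁ = 0
      · have h1 : ((1 : p.asIdeal.ResidueField) ⊗ₜ[B] (1 : A)) = 0 := by
          rw [← hc₁, h0, zero_smul]
        have : (1 : p.asIdeal.ResidueField ⊗[B] A) = 0 := h1
        refine ⟨0, ?_⟩
        rw [zero_smul, ← mul_one t, this, mul_zero]
      · refine ⟨c * c₁⁻¹, ?_⟩
        rw [← hc₁, smul_smul, mul_assoc, inv_mul_cancel₀ h0, mul_one, hc]
    have hsurj : Function.Surjective (LinearMap.lTensor p.asIdeal.ResidueField R.mkQ) :=
      LinearMap.lTensor_surjective _ R.mkQ_surjective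
    refine ⟨fun x y => ?_⟩
    have hzero : ∀ z : p.asIdeal.ResidueField ⊗[B] (A ⧸ R), z = 0 := by
      intro z
      obtain ⟨t, rfl⟩ := hsurj z
      obtain ⟨c, rfl⟩ := hspan t
      have h1 : R.mkQ (1 : A) = 0 := by
        rw [Submodule.mkQ_apply, Submodule.Quotient.mk_eq_zero]
        exact ⟨1, by simp⟩
      rw [TensorProduct.smul_tmul', LinearMap.lTensor_tmul, h1, TensorProduct.tmul_zero]
    rw [hzero x, hzero y]
  have htop : R = ⊤ := Submodule.Quotient.subsingleton_iff.1 hsub
  intro a
  have ha : a ∈ R := by rw [htop]; trivial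
  obtain ⟨b, hb⟩ := ha
  exact ⟨b, by simpa using hb⟩

end Groth.Agent.S14416
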