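import Groth.Statements.S14418
import Mathlib

set_option autoImplicit false
universe u
open CategoryTheory
open CAlg

namespace Groth.Agent.S14418

section
variable {B A : Type u} [CommRing B] [CommRing A]
    [IsNoetherianRing B] [IsLocalRing B] [IsNoetherianRing A] [IsLocalRing A] [Algebra B A]
    [IsLocalHom (algebraMap B A)] (T : ModuleCat.{u} B ⥤ ModuleCat.{u} A) [T.Additive]

theorem key
    (hlin : ∀ (N : ModuleCat.{u} B) (b : B),
      T.map (ModuleCat.ofHom (b • (LinearMap.id : N →ₗ[B] N))) =
        ModuleCat.ofHom (algebraMap B A b • (LinearMap.id : T.obj N →ₗ[A] T.obj N)))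
    (hfin : ∀ N : ModuleCat.{u} B, Module.Finite B N → Module.Finite A (T.obj N))
    (hex : ∀ S : ShortComplex (ModuleCat.{u} B), S.ShortExact → Module.Finite B S.X₁ →
      Module.Finite B S.X₂ → Module.Finite B S.X₃ → (S.map T).Exact)
    (h0 : Limits.IsZero (T.obj (ModuleCat.of B (B ⧸ IsLocalRing.maximalIdeal B)))) :
    ∀ I : Ideal B, ∀ (N : Type u) [AddCommGroup N] [Module B N] [Module.Finite B N],
      (∀ a ∈ I, ∀ x : N, a • x = 0) → Limits.IsZero (T.obj (ModuleCat.of B N)) := by
  -- half-exactness in concrete form
  have half : ∀ (N₁ : Type u) [AddCommGroup N₁] [Module B N₁] [Module.Finite B N₁]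
      (N₂ : Type u) [AddCommGroup N₂] [Module B N₂] [Module.Finite B N₂]
      (N₃ : Type u) [AddCommGroup N₃] [Module B N₃] [Module.Finite B N₃]
      (f : N₁ →ₗ[B] N₂) (g : N₂ →ₗ[B] N₃), Function.Injective f → Function.Surjective g →
      ∀ hfg : Function.Exact f g,
      ((ModuleCat.shortComplexOfCompEqZero f g hfg.linearMap_comp_eq_zero).map T).Exact := by
    intro N₁ _ _ h1 N₂ _ _ h2 N₃ _ _ h3 f g hf hg hfg
    exact hex _ (ModuleCat.shortComplex_shortExact _ hfg hf hg) h1 h2 h3
  intro I
  induction I using WellFoundedGT.induction with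
  | ind I IH =>
  intro N _ _ hN hIN
  induction hN using IsNoetherianRing.induction_on_isQuotientEquivQuotientPrime B with
  | subsingleton N' =>
    exact T.map_isZero (ModuleCat.isZero_of_subsingleton _)
  | quotient N' p e =>
    have hp : ∀ a ∈ p.1, ∀ x : N', a • x = 0 := by
      intro a ha x
      apply e.injective
      rw [map_smul, map_zero]
      obtain ⟨r, hr⟩ := Ideal.Quotient.mk_surjective (e x)
      rw [← hr, Algebra.smul_def, Ideal.Quotient.algebraMap_eq, ← map_mul,
        Ideal.Quotient.eq_zero_iff_mem]
      exact Ideal.mul_mem_right _ _ ha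
    have hIp : I ≤ p.1 := by
      intro a ha
      have h1 := hIN a ha (e.symm 1)
      rw [← map_smul, LinearEquiv.map_eq_zero_iff, Algebra.smul_def, mul_one,
        Ideal.Quotient.algebraMap_eq, Ideal.Quotient.eq_zero_iff_mem] at h1
      exact h1
    by_cases hpm : p.1 = IsLocalRing.maximalIdeal B
    · let e' : N' ≃ₗ[B] B ⧸ IsLocalRing.maximalIdeal B :=
        e.trans (Submodule.quotEquivOfEq _ _ hpm)
      exact h0.of_iso (T.mapIso e'.toModuleIso)
    · have hlt : p.1 < IsLocalRing.maximalIdeal B :=
        lt_of_le_of_ne (IsLocalRing.le_maximalIdeal p.2.ne_top) hpm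
      obtain ⟨b, hbm, hbp⟩ := SetLike.exists_of_lt hlt
      let f : N' →ₗ[B] N' := b • LinearMap.id
      have hfinj : Function.Injective f := by
        rw [injective_iff_map_eq_zero]
        intro x hx
        change b • x = 0 at hx
        have h1 : b • e x = 0 := by rw [← map_smul, hx, map_zero]
        obtain ⟨r, hr⟩ := Ideal.Quotient.mk_surjective (e x)
        rw [← hr, Algebra.smul_def, Ideal.Quotient.algebraMap_eq, ← map_mul,
          Ideal.Quotient.eq_zero_iff_mem] at h1
        have h2 : r ∈ p.1 := (p.2.mem_or_mem h1).resolve_left hbp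
        apply e.injective
        rw [map_zero, ← hr, Ideal.Quotient.eq_zero_iff_mem]
        exact h2
      let g : N' →ₗ[B] N' ⧸ LinearMap.range f := (LinearMap.range f).mkQ
      have hfg : Function.Exact f g := LinearMap.exact_map_mkQ_range f
      have hg : Function.Surjective g := Submodule.mkQ_surjective _
      have hJkill : ∀ a ∈ p.1 ⊔ Ideal.span {b}, ∀ y : N' ⧸ LinearMap.range f, a • y = 0 := by
        intro a ha y
        obtain ⟨x, rfl⟩ := hg y
        obtain ⟨a₁, ha₁, a₂, ha₂, rfl⟩ := Submodule.mem_sup.mp ha
        obtain ⟨c, rfl⟩ := Ideal.mem_span_singleton'.mp ha₂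
        rw [← map_smul, add_smul, hp a₁ ha₁, zero_add]
        change (LinearMap.range f).mkQ ((c * b) • x) = 0
        rw [Submodule.mkQ_apply, Submodule.Quotient.mk_eq_zero]
        exact ⟨c • x, by change b • c • x = _; rw [smul_smul, mul_comm]⟩
      have hIJ : I < p.1 ⊔ Ideal.span {b} := by
        refine lt_of_le_of_ne (hIp.trans le_sup_left) ?_
        intro h
        apply hbp
        apply hIp
        rw [h]
        exact Ideal.mem_sup_right (Ideal.mem_span_singleton_self b)
      have hz3 : Limits.IsZero (T.obj (ModuleCat.of B (N' ⧸ LinearMap.range f))) :=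
        IH _ hIJ _ hJkill
      have hexS := half N' N' (N' ⧸ LinearMap.range f) f g hfinj hg hfg
      have hepi : Epi (T.map (ModuleCat.ofHom f)) :=
        hexS.epi_f (hz3.eq_of_tgt _ _)
      have hlinf := hlin (ModuleCat.of B N') b
      change T.map (ModuleCat.ofHom f) = _ at hlinf
      rw [hlinf, ModuleCat.epi_iff_surjective] at hepi
      haveI : Module.Finite A (T.obj (ModuleCat.of B N')) := hfin _ ‹_›
      have hmem : algebraMap B A b ∈ IsLocalRing.maximalIdeal A := map_nonunit _ _ hbm
      have htop : (⊤ : Submodule A (T.obj (ModuleCat.of B N'))) = ⊥ := by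
        apply Submodule.eq_bot_of_le_smul_of_le_jacobson_bot (IsLocalRing.maximalIdeal A) ⊤
          Module.Finite.fg_top _ (IsLocalRing.maximalIdeal_le_jacobson _)
        intro x _
        obtain ⟨y, hy⟩ := hepi x
        rw [← hy]
        exact Submodule.smul_mem_smul hmem Submodule.mem_top
      haveI : Subsingleton (T.obj (ModuleCat.of B N')) :=
        (Submodule.subsingleton_iff A).mp (subsingleton_of_bot_eq_top htop.symm)
      exact ModuleCat.isZero_of_subsingleton _
  | exact N₁ N₂ N₃ f g hf hg hfg h₁ h₃ =>
    have k1 : ∀ a ∈ I, ∀ x : N₁, a • x = 0 := by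
      intro a ha x
      apply hf
      rw [map_smul, map_zero]
      exact hIN a ha _
    have k3 : ∀ a ∈ I, ∀ x : N₃, a • x = 0 := by
      intro a ha x
      obtain ⟨y, rfl⟩ := hg x
      rw [← map_smul, hIN a ha, map_zero]
    have hexS := half N₁ N₂ N₃ f g hf hg hfg
    exact hexS.isZero_X₂ ((h₁ k1).eq_of_src _ _) ((h₃ k3).eq_of_tgt _ _)

end

end Groth.Agent.S14418

namespace Groth.Agent.S14418

/-- Let B → A be a local homomorphism of Noetherian local rings, n the maximal ideal of B, and T an
additive functor from B-modules to A-modules which is B-linear (T applied to multiplication by b ∈ B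
is multiplication by the image of b in A), carries finitely generated B-modules to finitely
generated A-modules, and is half-exact on finitely generated modules (every short exact sequence of
finitely generated B-modules goes to a sequence exact at its middle term). If T(B/n) = 0 then T(N) =
0 for every finitely generated B-module N. (The published statement takes T defined on finitely
generated modules only; here T is defined on all B-modules while every hypothesis and the conclusion
concern finitely generated modules.) -/
theorem result {B A : Type u} [CommRing B] [CommRing A]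
    [IsNoetherianRing B] [IsLocalRing B] [IsNoetherianRing A] [IsLocalRing A] [Algebra B A]
    [IsLocalHom (algebraMap B A)] (T : ModuleCat.{u} B ⥤ ModuleCat.{u} A) [T.Additive]
    (hlin : ∀ (N : ModuleCat.{u} B) (b : B),
      T.map (ModuleCat.ofHom (b • (LinearMap.id : N →ₗ[B] N))) =
        ModuleCat.ofHom (algebraMap B A b • (LinearMap.id : T.obj N →ₗ[A] T.obj N)))
    (hfin : ∀ N : ModuleCat.{u} B, Module.Finite B N → Module.Finite A (T.obj N))
    (hex : ∀ S : ShortComplex (ModuleCat.{u} B), S.ShortExact → Module.Finite B S.X₁ →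
      Module.Finite B S.X₂ → Module.Finite B S.X₃ → (S.map T).Exact)
    (h0 : Limits.IsZero (T.obj (ModuleCat.of B (B ⧸ IsLocalRing.maximalIdeal B))))
    (N : ModuleCat.{u} B) [Module.Finite B N] : Limits.IsZero (T.obj N) := by
  exact key T hlin hfin hex h0 ⊥ N (fun a ha x => by
    rw [Ideal.mem_bot] at ha
    rw [ha, zero_smul])

end Groth.Agent.S14418
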