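import Groth.Statements.S14421
import Mathlib.Algebra.Homology.ShortComplex.ModuleCat

set_option autoImplicit false
universe u v
open CategoryTheory
open HomAlg

namespace Groth.Agent.S14421

/-- Let φ : K → J be a morphism of cochain complexes of modules over a ring which is surjective in
degree p − 1. Then the map induced on cohomology in degree p is surjective if and only if the map
induced on cocycles in degree p is surjective. (Stated for cochain complexes indexed by the
integers; the published statement is for three-term complexes in degrees p − 1, p, p + 1, which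
embed as such complexes.) -/
theorem result {R : Type u} [Ring R]
    (K J : CochainComplex (ModuleCat.{v} R) ℤ) (φ : K ⟶ J) (p : ℤ) [Epi (φ.f (p - 1))] :
    Epi (HomologicalComplex.homologyMap φ p) ↔ Epi (HomologicalComplex.cyclesMap φ p) := by
  constructor
  · intro h
    have hprev : (ComplexShape.up ℤ).prev p = p - 1 := by simp
    have hJ : (ShortComplex.mk (J.toCycles (p - 1) p) (J.homologyπ p)
        (J.toCycles_comp_homologyπ (p - 1) p)).Exact :=
      ShortComplex.exact_of_g_is_cokernel _ (J.homologyIsCokernel (p - 1) p hprev)
    rw [ModuleCat.epi_iff_surjective]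
    intro z
    have h1 : Function.Surjective (HomologicalComplex.homologyMap φ p) :=
      (ModuleCat.epi_iff_surjective _).1 h
    have h2 : Function.Surjective (K.homologyπ p) :=
      (ModuleCat.epi_iff_surjective _).1 inferInstance
    have h3 : Function.Surjective (φ.f (p - 1)) :=
      (ModuleCat.epi_iff_surjective _).1 inferInstance
    obtain ⟨hh, hh1⟩ := h1 (J.homologyπ p z)
    obtain ⟨z', hz'⟩ := h2 hh
    have e1 : J.homologyπ p (HomologicalComplex.cyclesMap φ p z' - z) = 0 := by
      rw [map_sub, ← hh1, ← hz']
      have := congrArg (fun f => f z') (congrArg ModuleCat.Hom.hom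
        (HomologicalComplex.homologyπ_naturality φ p))
      simp only [ModuleCat.hom_comp, LinearMap.comp_apply] at this
      rw [this, sub_self]
    rw [ShortComplex.moduleCat_exact_iff] at hJ
    obtain ⟨y, hy⟩ := hJ _ e1
    obtain ⟨y', hy'⟩ := h3 y
    refine ⟨z' - K.toCycles (p - 1) p y', ?_⟩
    have e2 : HomologicalComplex.cyclesMap φ p (K.toCycles (p - 1) p y') =
        J.toCycles (p - 1) p (φ.f (p - 1) y') := by
      have nat : K.toCycles (p - 1) p ≫ HomologicalComplex.cyclesMap φ p =
          φ.f (p - 1) ≫ J.toCycles (p - 1) p := by
        rw [← cancel_mono (J.iCycles p)]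
        simp
      have := congrArg (fun f => f y') (congrArg ModuleCat.Hom.hom nat)
      simpa only [ModuleCat.hom_comp, LinearMap.comp_apply] using this
    rw [map_sub, e2, hy']
    dsimp at hy
    rw [hy]
    abel
  · intro h
    have e : HomologicalComplex.cyclesMap φ p ≫ J.homologyπ p =
        K.homologyπ p ≫ HomologicalComplex.homologyMap φ p :=
      (HomologicalComplex.homologyπ_naturality φ p).symm
    have : Epi (K.homologyπ p ≫ HomologicalComplex.homologyMap φ p) := by
      rw [← e]; infer_instance
    exact epi_of_epi (K.homologyπ p) _
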