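import Groth.Statements.S14425
import Groth.Agent.Lib.Helper98.KoszulAcyclic
import Groth.Agent.Lib.Helper98.KoszulEulerPerm

set_option autoImplicit false
universe u
open LocCoh

namespace Groth.Agent.S14425

open Groth.Agent.Lib.Helper98.KoszulEuler Groth.Agent.Lib.Helper67 in

/-- Let (R, m) be a Noetherian local ring, M a nonzero finitely generated R-module and x_1, …, x_n
elements of m generating the ideal a. Then depth(a, M) = n if and only if x_1, …, x_n is an
M-regular sequence (each x_i a non-zero-divisor on M/(x_1, …, x_{i-1})M; the condition (x)M ≠ M is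
automatic here). -/
theorem result {R : Type u} [CommRing R] [IsNoetherianRing R] [IsLocalRing R]
    {M : Type u} [AddCommGroup M] [Module R M] [Module.Finite R M] [Nontrivial M]
    (xs : List R) (hxs : ∀ x ∈ xs, x ∈ IsLocalRing.maximalIdeal R) :
    LocCoh.idealDepth (Ideal.span {x | x ∈ xs}) M = xs.length ↔ RingTheory.Sequence.IsWeaklyRegular M xs := by
  have hle : Ideal.span {x | x ∈ xs} ≤ IsLocalRing.maximalIdeal R := Ideal.span_le.2 hxs
  have hIM : Ideal.span {x | x ∈ xs} • (⊤ : Submodule R M) ≠ ⊤ := by
    intro h
    apply maximalIdeal_smul_top_ne_top (R := R) M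
    have h1 : Ideal.span {x | x ∈ xs} • (⊤ : Submodule R M) ≤
        IsLocalRing.maximalIdeal R • (⊤ : Submodule R M) := Submodule.smul_mono_left hle
    rw [h] at h1
    exact top_le_iff.1 h1
  constructor
  · intro hd
    have h := (Helper98.KoszulFun.depth_sensitivity xs xs.length M hIM hd).1
    have hrev : ∀ i : ℤ, i < 0 →
        CategoryTheory.Limits.IsZero ((CohIII.koszulCx (ModuleCat.of R M) xs.reverse).homology i) := by
      intro i hi
      obtain ⟨e1⟩ := Helper98.KoszulMod.koszulCx_iso_tensor (ModuleCat.of R M) xs
      obtain ⟨e2⟩ := Helper98.KoszulMod.koszulCx_iso_tensor (ModuleCat.of R M) xs.reverse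
      obtain ⟨e3⟩ := koszul_perm (List.reverse_perm xs)
      refine CategoryTheory.Limits.IsZero.of_iso (h i (by omega))
        ((HomologicalComplex.homologyFunctor _ _ i).mapIso
          (e2.symm ≪≫ CategoryTheory.MonoidalCategory.whiskerRightIso e3 _ ≪≫ e1))
    have := weaklyRegular_of_acyclic M xs.reverse
      (fun x hx => hxs x (List.mem_reverse.1 hx)) hrev
    rwa [List.reverse_reverse] at this
  · intro hreg
    have hne := idealDepth_ne_top_of_smul_top_ne_top _ M hIM
    obtain ⟨r, hr⟩ := ENat.ne_top_iff_exists.1 hne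
    have h := Helper98.KoszulFun.depth_sensitivity xs r M hIM hr.symm
    have hz := Helper98.KoszulMod.koszulCx_of_weaklyRegular M xs hreg
    have h0 : (r : ℤ) - xs.length = 0 := by
      by_contra hne0
      exact h.2 (hz _ hne0)
    rw [← hr]
    have : r = xs.length := by omega
    rw [this]

end Groth.Agent.S14425
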