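import Groth.Statements.S14427
import Groth.Agent.Lib.Helper84.PlanePoints

set_option autoImplicit false
universe u
open CAlgX

namespace Groth.Agent.S14427

/-- Let k be a field and Λ a set of n ≥ 3 nonzero vectors of k^3 which are pairwise linearly
independent, i.e. n distinct k-rational points of the projective plane. Then the space of
homogeneous forms of degree n − 1 in k[x_0, x_1, x_2] vanishing at every point of Λ — the global
sections of I_Λ(n − 1) — has dimension C(n+1, 2) − n over k, the same for all such Λ. (The published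
statement is over an algebraically closed field; this row allows any field and k-rational points,
which is all its argument uses.) -/
theorem result (k : Type u) [Field k] (n : ℕ) (hn : 3 ≤ n)
    (Λ : Finset (Fin 3 → k)) (hcard : Λ.card = n) (h0 : ∀ v ∈ Λ, v ≠ 0)
    (hdist : ∀ v ∈ Λ, ∀ w ∈ Λ, v ≠ w → LinearIndependent k ![v, w]) :
    Module.finrank k ↥(MvPolynomial.homogeneousSubmodule (Fin 3) k (n - 1) ⊓ ⨅ v ∈ Λ, LinearMap.ker (MvPolynomial.aeval v).toLinearMap) = Nat.choose (n + 1) 2 - n := by
  classical
  have hΛ : ∀ v ∈ Λ, ∃ p : MvPolynomial (Fin 3) k, p.IsHomogeneous (n - 1) ∧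
      (∀ w ∈ Λ, w ≠ v → MvPolynomial.aeval w p = 0) ∧ MvPolynomial.aeval v p ≠ 0 := by
    intro v hv
    have hT : ∀ w ∈ Λ.erase v, v ∉ Submodule.span k {w} := by
      intro w hw hmem
      obtain ⟨c, hc⟩ := Submodule.mem_span_singleton.1 hmem
      have hli := hdist v hv w (Finset.mem_of_mem_erase hw) (Finset.ne_of_mem_erase hw).symm
      rw [LinearIndependent.pair_iff] at hli
      have := hli 1 (-c) (by rw [one_smul, neg_smul, hc, add_neg_cancel])
      exact one_ne_zero this.1
    obtain ⟨p, hp1, hp2, hp3⟩ := Groth.Agent.Lib.Helper84.exists_form_of_notMem_span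
      (Λ.erase v) v hT
    rw [Finset.card_erase_of_mem hv, hcard] at hp1
    exact ⟨p, hp1, fun w hw hwv => hp2 w (Finset.mem_erase.2 ⟨hwv, hw⟩), hp3⟩
  have h := Groth.Agent.Lib.Helper84.finrank_forms_vanishing_add_card Λ (n - 1) hΛ
  rw [Groth.Agent.Lib.Helper84.finrank_homogeneousSubmodule, hcard, Fintype.card_fin] at h
  have e : (3 + (n - 1) - 1).choose (n - 1) = (n + 1).choose 2 := by
    have : 3 + (n - 1) - 1 = n + 1 := by omega
    rw [this]
    exact Nat.choose_symm_of_eq_add (by omega)
  rw [e] at h
  omega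

end Groth.Agent.S14427
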