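import Groth.Statements.S14428
import Groth.Agent.Lib.Helper84.PlanePoints

set_option autoImplicit false
universe u
open CAlgX

namespace Groth.Agent.S14428

open MvPolynomial in
theorem half (k : Type u) [Field k] (n : ℕ)
    (Λ Λ' : Finset (Fin 3 → k)) (hcard' : Λ'.card = n)
    (hline' : ¬ ∃ ℓ : (Fin 3 → k) →ₗ[k] k, ℓ ≠ 0 ∧ ∀ v ∈ Λ', ℓ v = 0)
    (heq : (homogeneousSubmodule (Fin 3) k (n - 1) ⊓
        ⨅ v ∈ Λ, LinearMap.ker (aeval v : MvPolynomial (Fin 3) k →ₐ[k] k).toLinearMap) =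
      (homogeneousSubmodule (Fin 3) k (n - 1) ⊓
        ⨅ v ∈ Λ', LinearMap.ker (aeval v : MvPolynomial (Fin 3) k →ₐ[k] k).toLinearMap)) :
    ∀ v ∈ Λ, ∃ w ∈ Λ', ∃ c : k, v = c • w := by
  classical
  intro v hv
  by_contra hcon
  push_neg at hcon
  have hsp : ∀ w ∈ Λ', v ∉ Submodule.span k {w} := by
    intro w hw hmem
    obtain ⟨c, hc⟩ := Submodule.mem_span_singleton.1 hmem
    exact hcon w hw c hc.symm
  -- two points of Λ' whose line avoids v
  have hpair : ∃ w₁ ∈ Λ', ∃ w₂ ∈ Λ', w₁ ≠ w₂ ∧ v ∉ Submodule.span k {w₁, w₂} := by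
    by_contra hno
    push_neg at hno
    have hne : Λ'.Nonempty := by
      rw [Finset.nonempty_iff_ne_empty]
      rintro rfl
      apply hline'
      obtain ⟨ℓ, hℓ, -⟩ := Submodule.exists_le_ker_of_lt_top (⊥ : Submodule k (Fin 3 → k))
        (by
          rw [bot_lt_iff_ne_bot]
          exact top_ne_bot)
      exact ⟨ℓ, hℓ, by simp⟩
    obtain ⟨w₁, hw₁⟩ := hne
    have hlt : Submodule.span k {w₁, v} < ⊤ := by
      rw [lt_top_iff_ne_top]
      intro htop
      have h1 : Module.finrank k (Submodule.span k ({w₁, v} : Set (Fin 3 → k))) ≤ 2 := by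
        have := finrank_span_finset_le_card (R := k) ({w₁, v} : Finset (Fin 3 → k))
        have h2 : ({w₁, v} : Finset (Fin 3 → k)).card ≤ 2 := Finset.card_le_two
        unfold Set.finrank at this
        rw [Finset.coe_insert, Finset.coe_singleton] at this
        omega
      rw [htop, finrank_top, Module.finrank_fintype_fun_eq_card, Fintype.card_fin] at h1
      omega
    obtain ⟨ℓ, hℓ0, hℓ⟩ := Submodule.exists_le_ker_of_lt_top _ hlt
    have hℓw₁ : ℓ w₁ = 0 := hℓ (Submodule.subset_span (by simp))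
    have hℓv : ℓ v = 0 := hℓ (Submodule.subset_span (by simp))
    apply hline'
    refine ⟨ℓ, hℓ0, fun w₂ hw₂ => ?_⟩
    by_cases h12 : w₁ = w₂
    · rw [← h12]; exact hℓw₁
    · have hmem := hno w₁ hw₁ w₂ hw₂ h12
      obtain ⟨a, b, hab⟩ := Submodule.mem_span_pair.1 hmem
      have hb : b ≠ 0 := by
        rintro rfl
        apply hsp w₁ hw₁
        rw [Submodule.mem_span_singleton]
        exact ⟨a, by simpa using hab⟩
      have h3 := congrArg ℓ hab
      rw [map_add, map_smul, map_smul, hℓw₁, hℓv, smul_zero, zero_add, smul_eq_mul] at h3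
      exact (mul_eq_zero.1 h3).resolve_left hb
  obtain ⟨w₁, hw₁, w₂, hw₂, h12, hv12⟩ := hpair
  obtain ⟨ℓ, hℓv, hℓ⟩ := Submodule.exists_le_ker_of_notMem hv12
  have hℓw₁ : ℓ w₁ = 0 := hℓ (Submodule.subset_span (by simp))
  have hℓw₂ : ℓ w₂ = 0 := hℓ (Submodule.subset_span (by simp))
  set T := (Λ'.erase w₁).erase w₂ with hT
  obtain ⟨p, hp1, hp2, hp3⟩ := Groth.Agent.Lib.Helper84.exists_form_of_notMem_span T v
    (fun w hw => hsp w (Finset.mem_of_mem_erase (Finset.mem_of_mem_erase hw)))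
  have hTcard : T.card = n - 2 := by
    rw [hT, Finset.card_erase_of_mem (Finset.mem_erase.2 ⟨h12.symm, hw₂⟩),
      Finset.card_erase_of_mem hw₁, hcard']
    omega
  have hn2 : 2 ≤ n := by
    rw [← hcard']
    calc 2 = ({w₁, w₂} : Finset (Fin 3 → k)).card := (Finset.card_pair h12).symm
      _ ≤ Λ'.card := Finset.card_le_card (by
          intro x hx
          rcases Finset.mem_insert.1 hx with rfl | hx
          · exact hw₁
          · rw [Finset.mem_singleton.1 hx]; exact hw₂)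
  set F := Groth.Agent.Lib.Helper84.linForm ℓ * p with hF
  have hFhom : F.IsHomogeneous (n - 1) := by
    have := (Groth.Agent.Lib.Helper84.linForm_isHomogeneous ℓ).mul hp1
    rw [hTcard] at this
    have e : 1 + (n - 2) = n - 1 := by omega
    rw [e] at this
    exact this
  have hFΛ' : ∀ w ∈ Λ', aeval w F = 0 := by
    intro w hw
    rw [hF, map_mul, Groth.Agent.Lib.Helper84.aeval_linForm]
    by_cases h1 : w = w₁
    · rw [h1, hℓw₁, zero_mul]
    · by_cases h2 : w = w₂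
      · rw [h2, hℓw₂, zero_mul]
      · rw [hp2 w (Finset.mem_erase.2 ⟨h2, Finset.mem_erase.2 ⟨h1, hw⟩⟩), mul_zero]
  have hFv : aeval v F ≠ 0 := by
    rw [hF, map_mul, Groth.Agent.Lib.Helper84.aeval_linForm]
    exact mul_ne_zero hℓv hp3
  have hmem' : F ∈ (homogeneousSubmodule (Fin 3) k (n - 1) ⊓
      ⨅ v ∈ Λ', LinearMap.ker (aeval v : MvPolynomial (Fin 3) k →ₐ[k] k).toLinearMap) := by
    rw [Submodule.mem_inf]
    refine ⟨hFhom, ?_⟩
    rw [Submodule.mem_iInf]
    intro w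
    rw [Submodule.mem_iInf]
    intro hw
    exact hFΛ' w hw
  rw [← heq] at hmem'
  have := (Submodule.mem_inf.1 hmem').2
  rw [Submodule.mem_iInf] at this
  have h2 := this v
  rw [Submodule.mem_iInf] at h2
  exact hFv (h2 hv)

/-- Let k be a field, n ≥ 3, and let Λ and Λ' be two sets of n nonzero, pairwise linearly independent
vectors of k^3 (n distinct k-rational points of the projective plane each), neither lying on a line
(no nonzero linear form vanishes on all of Λ, resp. Λ'). If the spaces of homogeneous forms of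
degree n − 1 vanishing on Λ and on Λ' coincide, then Λ and Λ' define the same set of points of the
plane: the assignment Λ ↦ H^0(P^2, I_Λ(n − 1)), with values in a Grassmannian, is injective on
non-collinear sets. (The published statement is over an algebraically closed field; this row allows
any field and k-rational points, which is all its argument uses.) -/
theorem result (k : Type u) [Field k] (n : ℕ) (hn : 3 ≤ n)
    (Λ Λ' : Finset (Fin 3 → k)) (hcard : Λ.card = n) (hcard' : Λ'.card = n)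
    (h0 : ∀ v ∈ Λ, v ≠ 0) (h0' : ∀ v ∈ Λ', v ≠ 0)
    (hdist : ∀ v ∈ Λ, ∀ w ∈ Λ, v ≠ w → LinearIndependent k ![v, w])
    (hdist' : ∀ v ∈ Λ', ∀ w ∈ Λ', v ≠ w → LinearIndependent k ![v, w])
    (hline : ¬ ∃ ℓ : (Fin 3 → k) →ₗ[k] k, ℓ ≠ 0 ∧ ∀ v ∈ Λ, ℓ v = 0)
    (hline' : ¬ ∃ ℓ : (Fin 3 → k) →ₗ[k] k, ℓ ≠ 0 ∧ ∀ v ∈ Λ', ℓ v = 0)
    (heq : (MvPolynomial.homogeneousSubmodule (Fin 3) k (n - 1) ⊓ ⨅ v ∈ Λ, LinearMap.ker (MvPolynomial.aeval v).toLinearMap) = (MvPolynomial.homogeneousSubmodule (Fin 3) k (n - 1) ⊓ ⨅ v ∈ Λ', LinearMap.ker (MvPolynomial.aeval v).toLinearMap)) :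
    (∀ v ∈ Λ, ∃ w ∈ Λ', ∃ c : k, v = c • w) ∧ (∀ w ∈ Λ', ∃ v ∈ Λ, ∃ c : k, w = c • v) := by
  exact ⟨half k n Λ Λ' hcard' hline' heq, half k n Λ' Λ hcard hline heq.symm⟩

end Groth.Agent.S14428
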