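import Groth.Statements.S14434
import Groth.Agent.Lib.Helper68.TorMod

set_option autoImplicit false
universe u
open CAlg

namespace Groth.Agent.S14434

open Groth.Agent.Lib.Helper68 CategoryTheory CategoryTheory.Limits

/-- Let R be a commutative ring, M an R-module and x ∈ R a non-zero-divisor on R and on M. Then
Tor_i^R(M, R/(x)) = 0 for all i ≥ 1 (Tor computed as the left derived functors of the tensor product
on R-modules). -/
theorem result {R : Type u} [CommRing R] (M : Type u) [AddCommGroup M] [Module R M]
    (x : R) (hxR : IsSMulRegular R x) (hxM : IsSMulRegular M x) (i : ℕ) (hi : 1 ≤ i) :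
    Subsingleton (DRing.Tor R i M (R ⧸ Ideal.span {x})) := by
  let f : R →ₗ[R] R := x • LinearMap.id
  let g : R →ₗ[R] (R ⧸ Ideal.span {x}) := (Ideal.span {x}).mkQ
  have hf : Function.Injective f := by
    intro a b hab
    exact hxR (by simpa [f, smul_eq_mul] using hab)
  have hg : Function.Surjective g := Submodule.mkQ_surjective _
  have hex : Function.Exact f g := by
    intro y
    constructor
    · intro hy
      have : y ∈ Ideal.span {x} := (Submodule.Quotient.mk_eq_zero _).mp hy
      obtain ⟨a, rfl⟩ := Ideal.mem_span_singleton'.mp this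
      exact ⟨a, by simp [f, mul_comm]⟩
    · rintro ⟨a, rfl⟩
      show (Submodule.Quotient.mk (f a) : R ⧸ Ideal.span {x}) = 0
      rw [Submodule.Quotient.mk_eq_zero]
      exact Ideal.mem_span_singleton'.mpr ⟨a, by simp [f, mul_comm]⟩
  have hinj : Function.Injective (f.lTensor M) := by
    have h1 : f.lTensor M = x • LinearMap.id := by
      simp only [f, LinearMap.lTensor_smul, LinearMap.lTensor_id]
    rw [h1]
    intro a b hab
    have hab' : x • a = x • b := hab
    have h2 : x • (TensorProduct.rid R M a) = x • (TensorProduct.rid R M b) := by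
      rw [← map_smul, ← map_smul, hab']
    exact (TensorProduct.rid R M).injective (hxM h2)
  obtain ⟨j, rfl⟩ : ∃ j, i = j + 1 := ⟨i - 1, by omega⟩
  have hz : IsZero (((Tor (ModuleCat.{u} R) (j + 1)).obj (ModuleCat.of R M)).obj
      (ModuleCat.of R (R ⧸ Ideal.span {x}))) := by
    rcases j with _ | j
    · exact TorMod.isZero_tor_one_of_injective (ModuleCat.of R M) f g hex hf hg
        (TorMod.isZero_tor_succ_of_projective _ R 0) hinj
    · exact TorMod.isZero_tor_succ_succ (ModuleCat.of R M) f g hex hf hg j
        (TorMod.isZero_tor_succ_of_projective _ R (j + 1))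
        (TorMod.isZero_tor_succ_of_projective _ R j)
  exact ModuleCat.subsingleton_of_isZero hz

end Groth.Agent.S14434
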