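import Groth.Statements.S14440
import Mathlib
import Groth.Agent.Lib.Helper90.Bezout3

set_option autoImplicit false
universe u
open ProjDeg

namespace Groth.Agent.S14440

/-- Let k be an algebraically closed field and H_1, …, H_n hypersurfaces in P^n given by homogeneous
polynomials f_1, …, f_n of degrees d_1, …, d_n ≥ 1 in S = k[x_0, …, x_n], meeting in finitely many
points, i.e. S/(f_1, …, f_n) has Krull dimension one. Then the intersection multiplicities of the
H_i at the points of H_1 ∩ ⋯ ∩ H_n add up to d_1 ⋯ d_n; stated here in the form established in the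
proof: the Hilbert function of S/(f_1, …, f_n) is eventually the constant Π d_i, i.e. for all large
m, dim_k S_m − dim_k ((f_1, …, f_n) ∩ S_m) = Π d_i (this constant is the degree of O_{H_1} ⊗ ⋯ ⊗
O_{H_n}, the sum of the lengths of its stalks). -/
theorem result (k : Type u) [Field k] [IsAlgClosed k] (n : ℕ)
    (f : Fin n → MvPolynomial (Fin (n + 1)) k) (d : Fin n → ℕ) (hd : ∀ i, 1 ≤ d i)
    (hf : ∀ i, (f i).IsHomogeneous (d i))
    (hdim : ringKrullDim (MvPolynomial (Fin (n + 1)) k ⧸ Ideal.span (Set.range f)) = 1) :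
    ∃ m₀ : ℕ, ∀ m : ℕ, m₀ ≤ m →
      Module.finrank k ↥(MvPolynomial.homogeneousSubmodule (Fin (n + 1)) k m) -
        Module.finrank k ↥((Ideal.span (Set.range f)).restrictScalars k ⊓ MvPolynomial.homogeneousSubmodule (Fin (n + 1)) k m) =
      ∏ i : Fin n, d i := by
  obtain ⟨P, hdeg, hD, m₀, hm₀⟩ := Groth.Agent.Lib.Helper90.Bezout.exists_hilbPoly_ci k n n le_rfl
    f d hd hf (by
      rw [hdim]
      have h1 : n + 1 - n = 1 := by omega
      rw [h1]
      rfl)
  refine ⟨m₀, fun m hm => ?_⟩
  have hn0 : P.natDegree = 0 := by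
    rw [hdeg]
    omega
  have hPc : P = Polynomial.C (P.coeff 0) := Polynomial.eq_C_of_natDegree_eq_zero hn0
  have hlc : P.coeff 0 = ∏ i, (d i : ℚ) := by
    rw [hn0] at hD
    have h0 : P.leadingCoeff = P.coeff 0 := by
      rw [Polynomial.leadingCoeff, hn0]
    rw [← h0]
    simpa using hD
  have h1 := hm₀ m hm
  rw [hPc, Polynomial.eval_C, hlc] at h1
  have h2 : Groth.Agent.Lib.Helper90.HomogSection.hilb (Ideal.span (Set.range f)) m =
      ((∏ i, d i : ℕ) : ℤ) := by
    have h3 : ((Groth.Agent.Lib.Helper90.HomogSection.hilb (Ideal.span (Set.range f)) m : ℤ) : ℚ) =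
        (((∏ i, d i : ℕ) : ℤ) : ℚ) := by
      rw [← h1]
      push_cast
      rfl
    exact_mod_cast h3
  simp only [Groth.Agent.Lib.Helper90.HomogSection.hilb,
    Groth.Agent.Lib.Helper90.HomogSection.part] at h2
  have hle : Module.finrank k ↥((Ideal.span (Set.range f)).restrictScalars k ⊓
      MvPolynomial.homogeneousSubmodule (Fin (n + 1)) k m) ≤
      Module.finrank k ↥(MvPolynomial.homogeneousSubmodule (Fin (n + 1)) k m) :=
    Submodule.finrank_mono inf_le_right
  rw [← Nat.cast_inj (R := ℤ), Nat.cast_sub hle]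
  exact h2

end Groth.Agent.S14440
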