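import Groth.Statements.S14442
-- import your own Groth.Agent.* helpers here

set_option autoImplicit false
universe u
open GrNak

namespace Groth.Agent.S14442

/-- Let R be a commutative ℕ-graded ring with irrelevant ideal R_+ = ⊕_{i>0} R_i, M an ℕ-graded R-module
and N a graded submodule of M (closed under taking homogeneous components). If M = R_+ M + N then N
= M. (The published statement is for finitely generated ℤ-graded modules over a graded quotient of a
polynomial ring, whose degrees are then bounded below; stated here for non-negatively graded modules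
over any ℕ-graded commutative ring, where the same lowest-degree argument applies without finite
generation.) -/
theorem result {R : Type u} [CommRing R] {σ : Type u} [SetLike σ R] [AddSubmonoidClass σ R]
    (𝒜 : ℕ → σ) [GradedRing 𝒜]
    {M : Type u} [AddCommGroup M] [Module R M] {τ : Type u} [SetLike τ M] [AddSubmonoidClass τ M]
    (ℳ : ℕ → τ) [DirectSum.Decomposition ℳ] [SetLike.GradedSMul 𝒜 ℳ]
    (N : Submodule R M) (hN : ∀ x ∈ N, ∀ i : ℕ, (DirectSum.decompose ℳ x i : M) ∈ N)
    (h : (HomogeneousIdeal.irrelevant 𝒜).toIdeal • (⊤ : Submodule R M) ⊔ N = ⊤) :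
    N = ⊤ := by
  classical
  -- every homogeneous element lies in N, by strong induction on the degree
  have key : ∀ d : ℕ, ∀ x ∈ ℳ d, x ∈ N := by
    intro d
    induction d using Nat.strong_induction_on with
    | _ d ih =>
    intro x hx
    -- components of elements of `I • ⊤` in degree d lie in N
    have hsm : ∀ y ∈ (HomogeneousIdeal.irrelevant 𝒜).toIdeal • (⊤ : Submodule R M),
        (DirectSum.decompose ℳ y d : M) ∈ N := by
      intro y hy
      induction hy using Submodule.smul_induction_on' with
      | smul r hr m _ =>
        have hr0 : (DirectSum.decompose 𝒜 r 0 : R) = 0 := hr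
        have e1 : r • m = ∑ a ∈ (DirectSum.decompose 𝒜 r).support,
            ∑ b ∈ (DirectSum.decompose ℳ m).support,
              (DirectSum.decompose 𝒜 r a : R) • (DirectSum.decompose ℳ m b : M) := by
          conv_lhs => rw [← DirectSum.sum_support_decompose 𝒜 r,
            ← DirectSum.sum_support_decompose ℳ m]
          rw [Finset.sum_smul]
          refine Finset.sum_congr rfl fun a _ => ?_
          rw [Finset.smul_sum]
        rw [e1, DirectSum.decompose_sum, DFinsupp.finsetSum_apply,
          AddSubmonoidClass.coe_finsetSum]
        refine Submodule.sum_mem _ fun a _ => ?_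
        rw [DirectSum.decompose_sum, DFinsupp.finsetSum_apply,
          AddSubmonoidClass.coe_finsetSum]
        refine Submodule.sum_mem _ fun b _ => ?_
        have hmem : (DirectSum.decompose 𝒜 r a : R) • (DirectSum.decompose ℳ m b : M) ∈ ℳ (a + b) :=
          SetLike.GradedSMul.smul_mem (A := 𝒜) (B := ℳ) (i := a) (j := b)
            (SetLike.coe_mem _) (SetLike.coe_mem _)
        by_cases hab : a + b = d
        · subst hab
          rw [DirectSum.decompose_of_mem_same ℳ hmem]
          by_cases ha : a = 0
          · subst ha
            rw [hr0, zero_smul]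
            exact N.zero_mem
          · exact N.smul_mem _ (ih b (by omega) _ (SetLike.coe_mem _))
        · rw [DirectSum.decompose_of_mem_ne ℳ hmem hab]
          exact N.zero_mem
      | add y₁ _ y₂ _ h₁ h₂ =>
        rw [DirectSum.decompose_add, DirectSum.add_apply, AddMemClass.coe_add]
        exact N.add_mem h₁ h₂
    have hx' : x ∈ (HomogeneousIdeal.irrelevant 𝒜).toIdeal • (⊤ : Submodule R M) ⊔ N := by
      rw [h]; trivial
    obtain ⟨y, hy, n, hn, rfl⟩ := Submodule.mem_sup.1 hx'
    rw [← DirectSum.decompose_of_mem_same ℳ hx, DirectSum.decompose_add, DirectSum.add_apply,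
      AddMemClass.coe_add]
    exact N.add_mem (hsm y hy) (hN n hn d)
  rw [eq_top_iff]
  intro x _
  rw [← DirectSum.sum_support_decompose ℳ x]
  exact Submodule.sum_mem _ fun i _ => key i _ (SetLike.coe_mem _)

end Groth.Agent.S14442
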