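import Groth.Statements.S14445
import Groth.Statements.S14445
import Groth.Agent.Lib.Helper2.FpqcLocal

set_option autoImplicit false
universe u
open NonAbH1

namespace Groth.Agent.S14445

section Aux
open CategoryTheory MonoidalCategory CartesianMonoidalCategory AlgebraicGeometry MonObj GrpObj Limits


variable {S : Scheme.{u}} {G X : Over S} [GrpObj G] (a : AlgGrp.Action G X)

/-- pointwise action -/
noncomputable def sm {W : Over S} (g : W ⟶ G) (x : W ⟶ X) : W ⟶ X := lift g x ≫ a.act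

lemma one_sm {W : Over S} (x : W ⟶ X) : sm a 1 x = x := by
  unfold sm
  rw [Hom.one_def, ← lift_whiskerRight, Category.assoc, a.one_act, leftUnitor_hom, lift_snd]

lemma mul_sm {W : Over S} (g h : W ⟶ G) (x : W ⟶ X) : sm a (g * h) x = sm a g (sm a h x) := by
  unfold sm
  rw [Hom.mul_def, ← lift_whiskerRight, Category.assoc, a.mul_act, lift_lift_associator_hom_assoc,
    lift_whiskerLeft_assoc]

lemma lift_psi {W : Over S} (g : W ⟶ G) (x : W ⟶ X) :
    lift g x ≫ lift a.act (snd G X) = lift (sm a g x) x := by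
  rw [comp_lift, lift_snd]; rfl

lemma lift_phi {W T : Over S} (s : T ⟶ X) (g : W ⟶ G) (t : W ⟶ T) :
    lift g t ≫ lift ((G ◁ s) ≫ a.act) (snd G T) = lift (sm a g (t ≫ s)) t := by
  rw [comp_lift, lift_snd, lift_whiskerLeft_assoc]; rfl

lemma lift_eta {A B W : Over S} (p : W ⟶ A ⊗ B) : p = lift (p ≫ fst _ _) (p ≫ snd _ _) := by
  ext <;> simp

/-- pointwise characterization of `φ` iso -/
lemma phi_iff {T : Over S} (s : T ⟶ X) :
    IsIso (lift ((G ◁ s) ≫ a.act) (snd G T)) ↔
      ∀ (W : Over S) (t : W ⟶ T) (y : W ⟶ X), ∃! g : W ⟶ G, sm a g (t ≫ s) = y := by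
  rw [isIso_iff_yoneda_map_bijective]
  constructor
  · intro h W t y
    obtain ⟨p, hp⟩ := (h W).2 (lift y t)
    dsimp only at hp
    have hp0 := hp
    rw [lift_eta p, lift_phi] at hp
    have h1 := congrArg (· ≫ fst _ _) hp
    have h2 := congrArg (· ≫ snd _ _) hp
    simp only [lift_fst, lift_snd] at h1 h2
    refine ⟨p ≫ fst _ _, by rw [← h2]; exact h1, ?_⟩
    intro g' hg'
    have : lift g' t = p := by
      apply (h W).1
      dsimp only
      rw [lift_phi, hg', hp0]
    rw [← this, lift_fst]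
  · intro h W
    constructor
    · intro p q hpq
      dsimp only at hpq
      rw [lift_eta p, lift_eta q, lift_phi, lift_phi] at hpq
      have h1 := congrArg (· ≫ fst _ _) hpq
      have h2 := congrArg (· ≫ snd _ _) hpq
      simp only [lift_fst, lift_snd] at h1 h2
      rw [lift_eta p, lift_eta q, h2]
      congr 1
      rw [← h2] at h1
      exact (h W (p ≫ snd _ _) _).unique rfl h1.symm
    · intro q
      obtain ⟨g, hg, -⟩ := h W (q ≫ snd _ _) (q ≫ fst _ _)
      refine ⟨lift g (q ≫ snd _ _), ?_⟩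
      dsimp only
      rw [lift_phi, hg, ← lift_eta]

/-- pointwise characterization of `ψ` iso -/
lemma psi_iff :
    IsIso (lift a.act (snd G X)) ↔
      ∀ (W : Over S) (x y : W ⟶ X), ∃! g : W ⟶ G, sm a g x = y := by
  have := phi_iff a (𝟙 X)
  simp only [whiskerLeft_id, Category.id_comp, Category.comp_id] at this
  rw [this]


lemma phi_of_psi (h : IsIso (lift a.act (snd G X))) {T : Over S} (s : T ⟶ X) :
    IsIso (lift ((G ◁ s) ≫ a.act) (snd G T)) := by
  rw [phi_iff]; rw [psi_iff] at h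
  exact fun W t y => h W (t ≫ s) y

lemma exU_of_phi {T : Over S} (s : T ⟶ X)
    (h : ∀ (W : Over S) (t : W ⟶ T) (y : W ⟶ X), ∃! g : W ⟶ G, sm a g (t ≫ s) = y)
    {W : Over S} (t : W ⟶ T) (x y : W ⟶ X) : ∃! g : W ⟶ G, sm a g x = y := by
  obtain ⟨h0, hh0, -⟩ := h W t x
  obtain ⟨k, hk, hku⟩ := h W t y
  refine ⟨k * h0⁻¹, ?_, ?_⟩
  · change sm a (k * h0⁻¹) x = y
    rw [← hh0, ← mul_sm, inv_mul_cancel_right, hk]
  · intro g' hg'
    have : g' * h0 = k := by
      apply hku
      change sm a (g' * h0) (t ≫ s) = y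
      rw [mul_sm, hh0, hg']
    rw [← this, mul_inv_cancel_right]

lemma whisker_psi_iso {T : Over S} (s : T ⟶ X)
    (h : IsIso (lift ((G ◁ s) ≫ a.act) (snd G T))) :
    IsIso (T ◁ lift a.act (snd G X)) := by
  rw [phi_iff] at h
  rw [isIso_iff_yoneda_map_bijective]
  intro W
  have key : ∀ (t : W ⟶ T) (g : W ⟶ G) (x : W ⟶ X),
      lift t (lift g x) ≫ (T ◁ lift a.act (snd G X)) = lift t (lift (sm a g x) x) := by
    intro t g x; rw [lift_whiskerLeft, lift_psi]
  have eta3 : ∀ {A B C : Over S} (p : W ⟶ A ⊗ (B ⊗ C)),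
      p = lift (p ≫ fst _ _) (lift (p ≫ snd _ _ ≫ fst _ _) (p ≫ snd _ _ ≫ snd _ _)) := by
    intro A B C p
    ext <;> simp
  rw [Function.bijective_iff_existsUnique]
  intro q
  obtain ⟨g, hg, hgu⟩ := exU_of_phi a s h (q ≫ fst _ _) (q ≫ snd _ _ ≫ snd _ _)
    (q ≫ snd _ _ ≫ fst _ _)
  refine ⟨lift (q ≫ fst _ _) (lift g (q ≫ snd _ _ ≫ snd _ _)), ?_, ?_⟩
  · beta_reduce
    rw [key, hg, ← eta3]
  · intro p' hp'
    beta_reduce at hp'
    rw [eta3 p', key] at hp'
    have h1 := congrArg (· ≫ fst _ _) hp'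
    have h2 := congrArg (· ≫ snd _ _ ≫ fst _ _) hp'
    have h3 := congrArg (· ≫ snd _ _ ≫ snd _ _) hp'
    simp only [lift_fst, lift_snd, lift_fst_assoc, lift_snd_assoc] at h1 h2 h3
    rw [eta3 p', h1, h3]
    congr 2
    apply hgu
    rw [← h3]
    exact h2

theorem psi_of_phi (R : Presieve S) (hR : R ∈ Scheme.fpqcPrecoverage S)
    (H : ∀ ⦃S' : Scheme.{u}⦄ (f : S' ⟶ S), R f →
      ∃ s : Over.mk f ⟶ X, IsIso (lift ((G ◁ s) ≫ a.act) (snd G (Over.mk f)))) :
    IsIso (lift a.act (snd G X)) := by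
  set ψ := lift a.act (snd G X) with hψ
  suffices hl : IsIso ψ.left by
    haveI : IsIso ((Over.forget S).map ψ) := hl
    exact isIso_of_reflects_iso ψ (Over.forget S)
  have hR' := Precoverage.pullbackArrows_mem (X ⊗ X).hom hR
  refine Groth.Agent.Lib.Helper2.FpqcLocal.of_mem_fpqcPrecoverage
    (MorphismProperty.isomorphisms _) ψ.left _ hR' ?_
  rintro T' f' ⟨S', f, hf⟩
  obtain ⟨s, hs⟩ := H f hf
  have hw := whisker_psi_iso a s hs
  have hwl : IsIso ((Over.mk f) ◁ ψ).left :=
    inferInstanceAs <| IsIso ((Over.forget S).map ((Over.mk f) ◁ ψ))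
  have sq : IsPullback ((Over.mk f) ◁ ψ).left (pullback.snd f (G ⊗ X).hom)
      (pullback.snd f (X ⊗ X).hom) ψ.left := by
    have e1 : ((Over.mk f) ◁ ψ).left ≫ pullback.fst f (X ⊗ X).hom =
        pullback.fst f (G ⊗ X).hom := by
      rw [Over.whiskerLeft_left]
      exact (pullback.lift_fst _ _ _).trans (Category.comp_id _)
    have e2 : ((Over.mk f) ◁ ψ).left ≫ pullback.snd f (X ⊗ X).hom =
        pullback.snd f (G ⊗ X).hom ≫ ψ.left := by
      rw [Over.whiskerLeft_left]
      exact pullback.lift_snd _ _ _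
    refine IsPullback.of_right (h₁₂ := pullback.fst f (X ⊗ X).hom) (h₂₂ := (X ⊗ X).hom)
      (v₁₃ := f) ?_ e2 (IsPullback.of_hasPullback _ _)
    rw [e1, Over.w ψ]
    exact IsPullback.of_hasPullback _ _
  have e3 : pullback.fst (pullback.snd f (X ⊗ X).hom) ψ.left =
      sq.isoPullback.inv ≫ ((Over.mk f) ◁ ψ).left :=
    (Iso.eq_inv_comp _).mpr sq.isoPullback_hom_fst
  rw [MorphismProperty.isomorphisms.iff, e3]
  infer_instance


theorem main (a : AlgGrp.Action G X) :
    NonAbH1.IsTorsorFor Scheme.fpqcPrecoverage a ↔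
      ∃ R ∈ Scheme.fpqcPrecoverage S, ∀ ⦃S' : Scheme.{u}⦄ (f : S' ⟶ S), R f →
        ∃ s : Over.mk f ⟶ X, IsIso (lift ((G ◁ s) ≫ a.act) (snd G (Over.mk f))) := by
  constructor
  · rintro ⟨hps, R, hR, hsec⟩
    refine ⟨R, hR, fun S' f hf => ?_⟩
    obtain ⟨s, hs⟩ := hsec f hf
    exact ⟨Over.homMk s hs, phi_of_psi a hps _⟩
  · rintro ⟨R, hR, H⟩
    refine ⟨psi_of_phi a R hR H, R, hR, fun S' f hf => ?_⟩
    obtain ⟨s, -⟩ := H f hf
    exact ⟨s.left, Over.w s⟩


end Aux

open CategoryTheory MonoidalCategory CartesianMonoidalCategory AlgebraicGeometry in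
/-- Let S be a scheme, G a group scheme over S and X an S-scheme with an action of G. Then X is a
G-torsor for the fpqc topology — the morphism G ×_S X → X ×_S X, (g, x) ↦ (gx, x), is an isomorphism
and X → S acquires sections over the members of some fpqc covering family of S — if and only if
there are an fpqc covering family of S and, for each member S' → S, an S-morphism s : S' → X for
which the G-equivariant S'-morphism G ×_S S' → X ×_S S', (g, t) ↦ (g·s(t), t), is an isomorphism; in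
words, X becomes equivariantly isomorphic to the trivial torsor over each member of the covering.
(The published statement is set in any subcanonical site with fibre products, for an invariant arrow
X → Y; this row is its instance for schemes over S with the fpqc topology and Y = S.) -/
theorem result {S : Scheme.{u}} {G X : Over S} [GrpObj G]
    (a : AlgGrp.Action G X) :
    NonAbH1.IsTorsorFor Scheme.fpqcPrecoverage a ↔
      ∃ R ∈ Scheme.fpqcPrecoverage S, ∀ ⦃S' : Scheme.{u}⦄ (f : S' ⟶ S), R f →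
        ∃ s : Over.mk f ⟶ X, IsIso (lift ((G ◁ s) ≫ a.act) (snd G (Over.mk f))) := by
  exact main a

end Groth.Agent.S14445
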