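import Groth.Statements.S14447
import Mathlib.CategoryTheory.Limits.Constructions.FiniteProductsOfBinaryProducts
import Mathlib.CategoryTheory.Limits.Preserves.Shapes.BinaryProducts
import Mathlib.CategoryTheory.Limits.Preserves.Shapes.Terminal
import Mathlib.CategoryTheory.Limits.Types.Products

set_option autoImplicit false
universe w v u
open AlgGrp

namespace Groth.Agent.S14447

open CategoryTheory CategoryTheory.Limits in
theorem isIso_prodComparison {C : Type u} [Category.{v} C]
    [HasFiniteProducts C] [HasCoproducts.{w} C]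
    (h : ∀ (I : Type w) (U : C), IsIso (Sigma.desc fun i : I =>
      prod.lift (terminal.from U ≫ Sigma.ι (fun _ : I => ⊤_ C) i) (𝟙 U)))
    (I J : Type w) : IsIso (prodComparison (sigmaConst.{w}.obj (⊤_ C)) I J) := by
  let F := sigmaConst.{w}.obj (⊤_ C)
  let θ : F.obj (I ⨯ J) ⟶ ∐ (fun _ : I => F.obj J) :=
    Sigma.desc (fun p => Sigma.ι (fun _ : J => ⊤_ C) ((prod.snd : I ⨯ J ⟶ J) p) ≫
      Sigma.ι (fun _ : I => F.obj J) ((prod.fst : I ⨯ J ⟶ I) p))
  let pr : I → J → (I ⨯ J : Type w) := fun i j => (Types.binaryProductIso I J).inv (i, j)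
  have hfst : ∀ i j, (prod.fst : I ⨯ J ⟶ I) (pr i j) = i := fun i j => by
    simp [pr]
  have hsnd : ∀ i j, (prod.snd : I ⨯ J ⟶ J) (pr i j) = j := fun i j => by
    simp [pr]
  have hpr : ∀ p : (I ⨯ J : Type w), pr ((prod.fst : I ⨯ J ⟶ I) p) ((prod.snd : I ⨯ J ⟶ J) p) = p := by
    intro p
    have h1 : (Types.binaryProductIso I J).hom p =
        ((prod.fst : I ⨯ J ⟶ I) p, (prod.snd : I ⨯ J ⟶ J) p) := by
      apply Prod.ext
      · simp [← Types.binaryProductIso_hom_comp_fst_apply]
      · simp [← Types.binaryProductIso_hom_comp_snd_apply]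
    change (Types.binaryProductIso I J).inv (_, _) = p
    rw [← h1]
    simp
  let θinv : ∐ (fun _ : I => F.obj J) ⟶ F.obj (I ⨯ J) :=
    Sigma.desc (fun i => Sigma.desc (fun j => Sigma.ι (fun _ : (I ⨯ J : Type w) => ⊤_ C) (pr i j)))
  have h1 : θ ≫ θinv = 𝟙 _ := by
    apply Sigma.hom_ext
    intro p
    simp only [θ, θinv, Sigma.ι_desc_assoc, Category.assoc, Sigma.ι_desc]
    rw [hpr]
    exact (Category.comp_id _).symm
  have h2 : θinv ≫ θ = 𝟙 _ := by
    apply Sigma.hom_ext
    intro i
    apply Sigma.hom_ext
    intro j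
    simp only [θ, θinv, Sigma.ι_desc_assoc, Category.assoc, Sigma.ι_desc, Category.comp_id]
    rw [hfst, hsnd]
  have : IsIso θ := ⟨θinv, h1, h2⟩
  have := h I (F.obj J)
  have key : prodComparison F I J = θ ≫ (Sigma.desc fun i : I =>
      prod.lift (terminal.from (F.obj J) ≫ Sigma.ι (fun _ : I => ⊤_ C) i) (𝟙 (F.obj J))) := by
    apply Sigma.hom_ext
    intro p
    apply Limits.prod.hom_ext
    · simp only [θ, Category.assoc, prodComparison_fst, Sigma.ι_desc_assoc, Sigma.ι_desc,
        prod.lift_fst]
      have e : Sigma.ι (fun _ : J => ⊤_ C) ((prod.snd : I ⨯ J ⟶ J) p) ≫ terminal.from (F.obj J) =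
          𝟙 _ := Subsingleton.elim _ _
      rw [reassoc_of% e]
      simp [F]
    · simp only [θ, Category.assoc, prodComparison_snd, Sigma.ι_desc_assoc, Sigma.ι_desc]
      simp only [F, sigmaConst_obj_map, Sigma.ι_comp_map', Category.id_comp]
      erw [prod.lift_snd, Category.comp_id]
  change IsIso (prodComparison F I J)
  rw [key]
  infer_instance

open CategoryTheory CategoryTheory.Limits in
/-- Let C be a category with finite products and with all coproducts indexed by sets, and assume that
for every set I and every object U the canonical arrow ∐_{i∈I} U → (∐_{i∈I} pt) × U, whose i-th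
component pairs U → pt → ∐_{i∈I} pt (i-th coprojection) with the identity of U, is an isomorphism.
Then the discrete-object functor from sets to C, I ↦ ∐_{i∈I} pt, preserves finite products. (Sets
are the types of one fixed universe, the one indexing the coproducts. The published statement asks
only for the coproducts of copies of one object; this row assumes that C has all coproducts indexed
by sets, which Mathlib's discrete-object functor sigmaConst requires.) -/
theorem result {C : Type u} [Category.{v} C]
    [HasFiniteProducts C] [HasCoproducts.{w} C]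
    (h : ∀ (I : Type w) (U : C), IsIso (Sigma.desc fun i : I =>
      prod.lift (terminal.from U ≫ Sigma.ι (fun _ : I => ⊤_ C) i) (𝟙 U))) :
    PreservesFiniteProducts (sigmaConst.{w}.obj (⊤_ C)) := by
  haveI : ∀ {I J : Type w}, IsIso (prodComparison (sigmaConst.{w}.obj (⊤_ C)) I J) :=
    fun {I J} => isIso_prodComparison h I J
  haveI : PreservesLimitsOfShape (Discrete WalkingPair) (sigmaConst.{w}.obj (⊤_ C)) :=
    preservesBinaryProducts_of_isIso_prodComparison _
  haveI : PreservesLimitsOfShape (Discrete.{0} PEmpty) (sigmaConst.{w}.obj (⊤_ C)) := by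
    letI : Unique (⊤_ (Type w) : Type w) := Equiv.unique (Types.terminalIso.{w}).toEquiv
    let e : (sigmaConst.{w}.obj (⊤_ C)).obj (⊤_ (Type w)) ≅ ⊤_ C :=
      coproductUniqueIso (fun _ : (⊤_ (Type w) : Type w) => ⊤_ C)
    haveI : PreservesLimit (Functor.empty.{0} (Type w)) (sigmaConst.{w}.obj (⊤_ C)) :=
      preservesTerminal_of_iso _ e
    exact preservesLimitsOfShape_pempty_of_preservesTerminal _
  exact PreservesFiniteProducts.of_preserves_binary_and_terminal _

end Groth.Agent.S14447
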