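import Groth.Statements.S14448
-- import your own Groth.Agent.* helpers here

set_option autoImplicit false
universe u
open Coherent

namespace Groth.Agent.S14448

open AlgebraicGeometry CategoryTheory Scheme.Modules in
theorem conj_lemma {U V W : Scheme.{u}} (φ : U ⟶ V) (ψ : V ⟶ W) (A : W.Modules) (B : U.Modules)
    (T : A ⟶ (pushforward (φ ≫ ψ)).obj B) :
    (pullbackComp φ ψ).hom.app A ≫
      ((pullbackPushforwardAdjunction (φ ≫ ψ)).homEquiv A B).symm T =
    ((pullbackPushforwardAdjunction φ).homEquiv _ _).symm
      (((pullbackPushforwardAdjunction ψ).homEquiv _ _).symm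
        (T ≫ (pushforwardComp φ ψ).inv.app B)) := by
  have h := conjugateEquiv_counit
    ((pullbackPushforwardAdjunction ψ).comp (pullbackPushforwardAdjunction φ))
    (pullbackPushforwardAdjunction (φ ≫ ψ)) (pullbackComp φ ψ).inv B
  rw [conjugateEquiv_pullbackComp_inv] at h
  set T' := T ≫ (pushforwardComp φ ψ).inv.app B with hT'
  have hT : T = T' ≫ (pushforwardComp φ ψ).hom.app B := by
    rw [hT', Category.assoc, Iso.inv_hom_id_app, Category.comp_id]
  rw [hT]
  simp only [Adjunction.homEquiv_counit, Functor.map_comp, Category.assoc]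
  rw [h]
  have nat := (pullbackComp φ ψ).hom.naturality T'
  rw [← Category.assoc, ← Category.assoc] at ⊢
  rw [← nat]
  simp

open AlgebraicGeometry CategoryTheory Scheme.Modules in
theorem unit_lemma {X Y Z : Scheme.{u}} (f : X ⟶ Y) (g : Y ⟶ Z) (L : Z.Modules) :
    (pullbackPushforwardAdjunction (f ≫ g)).unit.app L =
      (pullbackPushforwardAdjunction g).unit.app L ≫
        (pushforward g).map ((pullbackPushforwardAdjunction f).unit.app ((pullback g).obj L)) ≫
        (pushforwardComp f g).hom.app ((pullback f).obj ((pullback g).obj L)) ≫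
        (pushforward (f ≫ g)).map ((pullbackComp f g).hom.app L) := by
  have h := unit_conjugateEquiv
    ((pullbackPushforwardAdjunction g).comp (pullbackPushforwardAdjunction f))
    (pullbackPushforwardAdjunction (f ≫ g)) (pullbackComp f g).inv L
  rw [conjugateEquiv_pullbackComp_inv] at h
  rw [Adjunction.comp_unit_app] at h
  have h2 := congrArg (fun t => t ≫ (pushforward (f ≫ g)).map ((pullbackComp f g).hom.app L)) h
  simp only [Category.assoc, ← Functor.map_comp, Iso.inv_hom_id_app] at h2
  rw [CategoryTheory.Functor.map_id] at h2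
  exact (h2.trans (Category.comp_id _)).symm

open AlgebraicGeometry CategoryTheory Scheme.Modules in
theorem coh {X Y Z U V W : Scheme.{u}} (f : X ⟶ Y) (g : Y ⟶ Z)
    (ξ : X ⟶ U) (η : Y ⟶ V) (ζ : Z ⟶ W) (φ : U ⟶ V) (ψ : V ⟶ W)
    (h₁ : f ≫ η = ξ ≫ φ) (h₂ : g ≫ ζ = η ≫ ψ) (hw : (f ≫ g) ≫ ζ = ξ ≫ (φ ≫ ψ)) (N : X.Modules) :
    (pushforward ζ).map ((pushforwardComp f g).hom.app N) ≫
      ((pushforwardComp (f ≫ g) ζ).hom.app N ≫
            (pushforwardCongr hw).hom.app N ≫
            (pushforwardComp ξ (φ ≫ ψ)).inv.app N) ≫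
        (pushforwardComp φ ψ).inv.app ((pushforward ξ).obj N) =
    ((pushforwardComp g ζ).hom.app ((pushforward f).obj N) ≫
            (pushforwardCongr h₂).hom.app ((pushforward f).obj N) ≫
            (pushforwardComp η ψ).inv.app ((pushforward f).obj N)) ≫
      (pushforward ψ).map ((pushforwardComp f η).hom.app N ≫
            (pushforwardCongr h₁).hom.app N ≫
            (pushforwardComp ξ φ).inv.app N) := by
  ext U : 2
  simp only [Hom.comp_app, pushforward_map_app, pushforwardComp_hom_app_app,
    pushforwardComp_inv_app_app, pushforwardCongr_hom_app_app]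
  refine congrArg _ ?_
  change N.presheaf.map _ = N.presheaf.map _ ≫ N.presheaf.map _
  rw [← Functor.map_comp]
  congr 1

open AlgebraicGeometry CategoryTheory Scheme.Modules in
/-- Take two commutative squares of schemes side by side, f : X → Y over φ : U → V (vertical maps ξ : X
→ U and η : Y → V, f ≫ η = ξ ≫ φ) and g : Y → Z over ψ : V → W (vertical map ζ : Z → W, g ≫ ζ = η ≫
ψ), and an O_Z-module L. For a commutative square the base change map β_{f,φ}(M) : φ^* η_* M → ξ_*
f^* M is the adjoint of η_*(unit) : η_* M → η_* f_* f^* M = φ_* ξ_* f^* M, and α denotes the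
composition isomorphisms of module pullbacks. Then the composite of α_{φ,ψ}(ζ_* L) : φ^* ψ^* ζ_* L →
(φ ≫ ψ)^* ζ_* L with β_{f ≫ g, φ ≫ ψ}(L) equals the composite of φ^* β_{g,ψ}(L), β_{f,φ}(g^* L) and
ξ_* α_{f,g}(L), as maps φ^* ψ^* ζ_* L → ξ_* (f ≫ g)^* L. No cartesian or finiteness hypothesis is
made; the outer square is used through any proof hw of its commutativity. -/
theorem result {X Y Z U V W : Scheme.{u}} (f : X ⟶ Y) (g : Y ⟶ Z)
    (ξ : X ⟶ U) (η : Y ⟶ V) (ζ : Z ⟶ W) (φ : U ⟶ V) (ψ : V ⟶ W)
    (h₁ : f ≫ η = ξ ≫ φ) (h₂ : g ≫ ζ = η ≫ ψ) (hw : (f ≫ g) ≫ ζ = ξ ≫ (φ ≫ ψ)) (L : Z.Modules) :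
    (pullbackComp φ ψ).hom.app ((pushforward ζ).obj L) ≫
        (((pullbackPushforwardAdjunction (φ ≫ ψ)).homEquiv ((pushforward ζ).obj L)
            ((pushforward ξ).obj ((pullback (f ≫ g)).obj L))).symm
          ((pushforward ζ).map ((pullbackPushforwardAdjunction (f ≫ g)).unit.app L) ≫
            (pushforwardComp (f ≫ g) ζ).hom.app ((pullback (f ≫ g)).obj L) ≫
            (pushforwardCongr hw).hom.app ((pullback (f ≫ g)).obj L) ≫
            (pushforwardComp ξ (φ ≫ ψ)).inv.app ((pullback (f ≫ g)).obj L))) =
      (pullback φ).map (((pullbackPushforwardAdjunction ψ).homEquiv ((pushforward ζ).obj L)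
            ((pushforward η).obj ((pullback g).obj L))).symm
          ((pushforward ζ).map ((pullbackPushforwardAdjunction g).unit.app L) ≫
            (pushforwardComp g ζ).hom.app ((pullback g).obj L) ≫
            (pushforwardCongr h₂).hom.app ((pullback g).obj L) ≫
            (pushforwardComp η ψ).inv.app ((pullback g).obj L))) ≫
        (((pullbackPushforwardAdjunction φ).homEquiv ((pushforward η).obj ((pullback g).obj L))
            ((pushforward ξ).obj ((pullback f).obj ((pullback g).obj L)))).symm
          ((pushforward η).map ((pullbackPushforwardAdjunction f).unit.app ((pullback g).obj L)) ≫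
            (pushforwardComp f η).hom.app ((pullback f).obj ((pullback g).obj L)) ≫
            (pushforwardCongr h₁).hom.app ((pullback f).obj ((pullback g).obj L)) ≫
            (pushforwardComp ξ φ).inv.app ((pullback f).obj ((pullback g).obj L)))) ≫
        (pushforward ξ).map ((pullbackComp f g).hom.app L) := by
  rw [conj_lemma]
  apply ((pullbackPushforwardAdjunction φ).homEquiv _ _).injective
  apply ((pullbackPushforwardAdjunction ψ).homEquiv _ _).injective
  rw [Equiv.apply_symm_apply, Equiv.apply_symm_apply]
  rw [Adjunction.homEquiv_naturality_left, Adjunction.homEquiv_naturality_right,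
    Equiv.apply_symm_apply, Adjunction.homEquiv_naturality_right, Equiv.apply_symm_apply]
  set N := (pullback f).obj ((pullback g).obj L) with hN
  have hc := coh f g ξ η ζ φ ψ h₁ h₂ hw N
  -- naturality of the three composite isomorphisms
  have n3 : (pushforward ζ).map ((pushforward (f ≫ g)).map ((pullbackComp f g).hom.app L)) ≫
      ((pushforwardComp (f ≫ g) ζ).hom.app ((pullback (f ≫ g)).obj L) ≫
          (pushforwardCongr hw).hom.app ((pullback (f ≫ g)).obj L) ≫
            (pushforwardComp ξ (φ ≫ ψ)).inv.app ((pullback (f ≫ g)).obj L)) ≫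
      (pushforwardComp φ ψ).inv.app ((pushforward ξ).obj ((pullback (f ≫ g)).obj L)) =
      (((pushforwardComp (f ≫ g) ζ).hom.app N ≫
          (pushforwardCongr hw).hom.app N ≫
            (pushforwardComp ξ (φ ≫ ψ)).inv.app N) ≫
      (pushforwardComp φ ψ).inv.app ((pushforward ξ).obj N)) ≫
      (pushforward ψ).map ((pushforward φ).map ((pushforward ξ).map
        ((pullbackComp f g).hom.app L))) := by
    have a1 := (pushforwardComp (f ≫ g) ζ).hom.naturality ((pullbackComp f g).hom.app L)
    have a2 := (pushforwardCongr hw).hom.naturality ((pullbackComp f g).hom.app L)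
    have a3 := (pushforwardComp ξ (φ ≫ ψ)).inv.naturality ((pullbackComp f g).hom.app L)
    have a4 := (pushforwardComp φ ψ).inv.naturality
      ((pushforward ξ).map ((pullbackComp f g).hom.app L))
    simp only [Functor.comp_map] at a1 a3 a4
    simp only [Category.assoc]
    rw [reassoc_of% a1, reassoc_of% a2, reassoc_of% a3, a4]
    rfl
  have n2 : ((pushforwardComp g ζ).hom.app ((pullback g).obj L) ≫
          (pushforwardCongr h₂).hom.app ((pullback g).obj L) ≫
            (pushforwardComp η ψ).inv.app ((pullback g).obj L)) ≫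
      (pushforward ψ).map ((pushforward η).map
        ((pullbackPushforwardAdjunction f).unit.app ((pullback g).obj L))) =
      (pushforward ζ).map ((pushforward g).map
        ((pullbackPushforwardAdjunction f).unit.app ((pullback g).obj L))) ≫
      ((pushforwardComp g ζ).hom.app ((pushforward f).obj N) ≫
          (pushforwardCongr h₂).hom.app ((pushforward f).obj N) ≫
            (pushforwardComp η ψ).inv.app ((pushforward f).obj N)) := by
    have a1 := (pushforwardComp g ζ).hom.naturality
      ((pullbackPushforwardAdjunction f).unit.app ((pullback g).obj L))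
    have a2 := (pushforwardCongr h₂).hom.naturality
      ((pullbackPushforwardAdjunction f).unit.app ((pullback g).obj L))
    have a3 := (pushforwardComp η ψ).inv.naturality
      ((pullbackPushforwardAdjunction f).unit.app ((pullback g).obj L))
    simp only [Functor.comp_map, Functor.id_obj, Functor.comp_obj] at a1 a2 a3
    simp only [Category.assoc]
    rw [← a3, ← reassoc_of% a2, ← reassoc_of% a1]
  rw [unit_lemma f g L]
  simp only [Functor.map_comp, Category.assoc]
  simp only [Category.assoc] at n3 n2 hc
  rw [n3, reassoc_of% n2, reassoc_of% hc]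
  simp only [Functor.map_comp, Category.assoc]
  rfl

end Groth.Agent.S14448
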