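import Groth.Statements.S14452
import Groth.Agent.Lib.Helper4.FreeRep
import Groth.Agent.Lib.Helper4.FlasqueSurj
import Groth.Agent.Lib.Helper4.PushoutGlue

set_option autoImplicit false
universe u
open CategoryTheory CategoryTheory.Limits AlgebraicGeometry Opposite
open EtCore

namespace Groth.Agent.S14452
open Groth.Agent.Lib.Helper4

theorem nat_apply {X : Scheme.{u}} {F G : EtCoh.Ab X} (φ : F ⟶ G) {A B : X.Etale} (k : A ⟶ B)
    (x : F.obj.obj (op B)) :
    φ.hom.app (op A) (F.obj.map k.op x) = G.obj.map k.op (φ.hom.app (op B) x) := by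
  have h := φ.hom.naturality k.op
  have h2 := congrArg (fun t => (ConcreteCategory.hom t) x) h
  simpa only [ConcreteCategory.comp_apply] using h2

theorem map_map_apply {X : Scheme.{u}} (F : EtCoh.Ab X) {A B C : X.Etale} (k : A ⟶ B) (l : B ⟶ C)
    (x : F.obj.obj (op C)) :
    F.obj.map k.op (F.obj.map l.op x) = F.obj.map (k ≫ l).op x := by
  rw [op_comp, Functor.map_comp]
  rfl


/-- Let X be a scheme and F an abelian sheaf on the small étale site of X such that H^q(W, F|_W) = 0 for
every étale X-scheme W and every q > 0 (F|_W the pullback of F along the structure morphism of W).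
Then for every morphism g : V ⟶ U of étale X-schemes which is an open immersion, the restriction map
F(U) → F(V) is surjective. -/
theorem result {X : Scheme.{u}}
    (F : EtCoh.Ab X)
    (hF : ∀ (W : X.Etale) (q : ℕ), 0 < q → Subsingleton (EtCoh.H W.left ((EtCoh.pull W.hom).obj F) q))
    {U V : X.Etale} (g : V ⟶ U) [IsOpenImmersion g.left] :
    Function.Surjective (F.obj.map g.op).hom := by
  let S : ShortComplex (EtCoh.Ab X) :=
    ShortComplex.mk (Injective.ι F) (cokernel.π (Injective.ι F)) (cokernel.condition _)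
  have hS : S.ShortExact :=
    { exact := ShortComplex.exact_cokernel _
      mono_f := inferInstanceAs (Mono (Injective.ι F))
      epi_g := inferInstanceAs (Epi (cokernel.π (Injective.ι F))) }
  let I : EtCoh.Ab X := Injective.under F
  let Q : EtCoh.Ab X := cokernel (Injective.ι F)
  have hsurjW : Function.Surjective (S.g.hom.app (op (PushoutGlue.W g))) :=
    FlasqueSurj.surjective_sections_of_H1 S hS (PushoutGlue.W g) (hF _ 1 one_pos)
  have hinjI : Function.Surjective ((I.obj ⋙ forget AddCommGrpCat).map g.op) :=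
    FreeRep.surjective_map_of_injective.{u+1} X.smallEtaleTopology g I
  intro c
  have hzero : ∀ (T : X.Etale) (x : F.obj.obj (op T)),
      S.g.hom.app (op T) (S.f.hom.app (op T) x) = 0 := by
    intro T x
    have h : S.f ≫ S.g = 0 := S.zero
    have h2 : S.f.hom.app (op T) ≫ S.g.hom.app (op T) = 0 :=
      congrArg (fun φ => φ.hom.app (op T)) h
    have h3 := congrArg (fun t => (ConcreteCategory.hom t) x) h2
    rw [ConcreteCategory.comp_apply] at h3
    exact h3
  obtain ⟨a00, ha0⟩ := hinjI (S.f.hom.app (op V) c)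
  let a0 : I.obj.obj (op U) := a00
  have ha0' : I.obj.map g.op a0 = S.f.hom.app (op V) c := ha0
  let q₁ : Q.obj.obj (op U) := S.g.hom.app (op U) a0
  have hq₁ : Q.obj.map g.op q₁ = 0 := by
    have h1 := nat_apply S.g g a0
    change Q.obj.map g.op (S.g.hom.app (op U) a0) = 0
    rw [← h1]
    have : S.X₂.obj.map g.op a0 = S.f.hom.app (op V) c := ha0'
    rw [this]
    exact hzero V c
  obtain ⟨q, hqL, hqR⟩ := PushoutGlue.glue g Q q₁ 0 (by
    change Q.obj.map g.op q₁ = Q.obj.map g.op 0
    rw [hq₁, map_zero])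
  have hqL' : Q.obj.map (PushoutGlue.iL g).op q = q₁ := hqL
  have hqR' : Q.obj.map (PushoutGlue.iR g).op q = 0 := hqR
  obtain ⟨i, hi⟩ := hsurjW q
  obtain ⟨a, ha⟩ := FlasqueSurj.sections_exact S hS U (a0 - I.obj.map (PushoutGlue.iL g).op i) (by
    rw [map_sub]
    have h1 := nat_apply S.g (PushoutGlue.iL g) i
    have h1' : S.g.hom.app (op U) (I.obj.map (PushoutGlue.iL g).op i) =
        Q.obj.map (PushoutGlue.iL g).op (S.g.hom.app (op (PushoutGlue.W g)) i) := h1
    rw [h1', hi, hqL']
    exact sub_self _)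
  obtain ⟨b, hb⟩ := FlasqueSurj.sections_exact S hS U (I.obj.map (PushoutGlue.iR g).op i) (by
    have h1 := nat_apply S.g (PushoutGlue.iR g) i
    have h1' : S.g.hom.app (op U) (I.obj.map (PushoutGlue.iR g).op i) =
        Q.obj.map (PushoutGlue.iR g).op (S.g.hom.app (op (PushoutGlue.W g)) i) := h1
    rw [h1', hi, hqR'])
  refine ⟨a + b, ?_⟩
  have hmono : Mono S.f := hS.mono_f
  apply FlasqueSurj.sections_injective S.f V
  have h1 := nat_apply S.f g (a + b)
  have h1' : S.f.hom.app (op V) (F.obj.map g.op (a + b)) =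
      I.obj.map g.op (S.f.hom.app (op U) (a + b)) := h1
  change S.f.hom.app (op V) (F.obj.map g.op (a + b)) = S.f.hom.app (op V) c
  rw [h1', map_add, ha, hb, map_add, map_sub, ha0', map_map_apply, map_map_apply,
    PushoutGlue.g_iL_eq]
  abel

end Groth.Agent.S14452
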