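import Groth.Statements.S14454
import Groth.Agent.Lib.Helper4.ExcisionCoh

set_option autoImplicit false
universe u
open CategoryTheory CategoryTheory.Limits AlgebraicGeometry
open EtDual

namespace Groth.Agent.S14454
open Groth.Agent.Lib.Helper4 Groth.Agent.Lib.Helper4.Excision Groth.Agent.Lib.Helper4.ExcisionCoh
open Opposite

section
variable {X X' U U' : Scheme.{u}}
    (f : X' ⟶ X) [AlgebraicGeometry.Etale f] (j : U ⟶ X) [IsOpenImmersion j]
    (j' : U' ⟶ X') [IsOpenImmersion j']

theorem ιtop_left : (ιtop j).left = pullback.fst (EtCoh.top X).hom j := by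
  simp [ιtop, EtRestr.adjSite, MorphismProperty.Over.mapPullbackAdj]

instance : IsOpenImmersion (ιtop j).left := by
  rw [ιtop_left]
  exact inferInstanceAs (IsOpenImmersion (pullback.fst (𝟙 X : X ⟶ X) j))

theorem range_ιtop : Set.range (ιtop j).left = Set.range j := by
  rw [ιtop_left]
  exact (Scheme.Pullback.range_fst (f := (𝟙 X : X ⟶ X)) (g := j)).trans rfl

noncomputable def W' : X.Etale := (EtShriek.compEtale f).obj (EtCoh.top X')

noncomputable def φ : W' f ⟶ EtCoh.top X :=
  MorphismProperty.Over.homMk f (by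
    change f ≫ 𝟙 X = 𝟙 X' ≫ f
    rw [Category.comp_id, Category.id_comp]) trivial

theorem φ_left : (φ f).left = f := rfl

noncomputable def ι' : (EtShriek.compEtale f).obj ((EtShriek.compEtale j').obj
    ((EtCoh.bc j').obj (EtCoh.top X'))) ⟶ W' f :=
  (EtShriek.compEtale f).map (ιtop j')

theorem ι'_left : (ι' f j').left = (ιtop j').left := rfl

instance : IsOpenImmersion (ι' f j').left :=
  inferInstanceAs (IsOpenImmersion (ιtop j').left)

noncomputable def restrK :
    K (ι' f j') ≅ EtShriek.restrAlong f ⋙ K (ιtop j') :=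
  NatIso.ofComponents (fun F => Iso.refl _) (by
    intro F G m
    exact (Category.comp_id _).trans (Category.id_comp _).symm)

theorem range_ι' : Set.range (ι' f j').left = Set.range j' := range_ιtop j'

instance : (EtCoh.pull f).PreservesInjectiveObjects where
  injective_obj {I} _ := InjPull.injective_pull f I

instance : PreservesFiniteLimits (EtCoh.pull f) := EtStalk.preservesFiniteLimits_pull f

instance : PreservesFiniteColimits (EtCoh.pull f) := by
  have : PreservesColimitsOfSize.{0, 0} (EtCoh.pull f) :=
    (EtCoh.pullPushAdj f).leftAdjoint_preservesColimits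
  infer_instance

end


/-- Let X be a scheme, j : U ⟶ X an open immersion with closed complement Z, f : X' ⟶ X an étale
morphism and j' : U' ⟶ X' an open immersion with image f⁻¹(U), such that f maps Z' = X' − U'
bijectively onto Z with trivial residue field extensions at the points of Z' (f restricts to an
isomorphism from (f⁻¹Z)_red onto Z_red). Then for every abelian sheaf F on the small étale site of X
and every r, the groups H^r_Z(X, F) and H^r_{Z'}(X', f⁻¹F) are isomorphic; existence of an
isomorphism only, the canonical one being restriction along f. No Noetherian hypothesis on X is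
made. -/
theorem result {X X' U U' : Scheme.{u}}
    (f : X' ⟶ X) [AlgebraicGeometry.Etale f] (j : U ⟶ X) [IsOpenImmersion j]
    (j' : U' ⟶ X') [IsOpenImmersion j']
    (hU' : Set.range j'.base = f.base ⁻¹' Set.range j.base)
    (hZ : Set.BijOn f.base (Set.range j'.base)ᶜ (Set.range j.base)ᶜ)
    (hκ : ∀ x' : ↥X', x' ∉ Set.range j'.base → Function.Surjective (f.residueFieldMap x'))
    (F : EtCoh.Ab X) (r : ℕ) :
    Nonempty ((EtDual.HY j r).obj F ≅ (EtDual.HY j' r).obj ((EtCoh.pull f).obj F)) := by
  have hr : Set.range (ι' f j' ≫ φ f).left ⊆ Set.range (ιtop j).left := by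
    rintro _ ⟨z, rfl⟩
    rw [range_ιtop]
    have hz : (ι' f j').left z ∈ Set.range j' := by
      rw [← range_ι' f j']
      exact ⟨z, rfl⟩
    have : (ι' f j').left z ∈ f.base ⁻¹' Set.range j.base := by
      rw [← hU']
      exact hz
    exact this
  obtain ⟨ψ, hψ⟩ := exists_lift (ι' f j' ≫ φ f) (ιtop j) hr
  have hV' : (φ f).left ⁻¹' Set.range (ιtop j).left ⊆ Set.range (ι' f j').left := by
    rw [range_ιtop, range_ι']
    intro x hx
    have : x ∈ f.base ⁻¹' Set.range j.base := hx
    rw [← hU'] at this
    exact this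
  have hinj : Set.InjOn (φ f).left (Set.range (ι' f j').left)ᶜ := by
    rw [range_ι']
    exact hZ.injOn
  have hsurj : (Set.range (ιtop j).left)ᶜ ⊆ Set.range (φ f).left := by
    rw [range_ιtop]
    intro x hx
    obtain ⟨y, -, hy⟩ := hZ.surjOn hx
    exact ⟨y, hy⟩
  have hκ' : ∀ a ∉ Set.range (ι' f j').left,
      Function.Surjective ((φ f).left.residueFieldMap a) := by
    intro a ha
    rw [range_ι'] at ha
    exact hκ a ha
  let α : EtDual.gammaSupp j ≅ EtCoh.pull f ⋙ EtDual.gammaSupp j' :=
    theta j ≪≫ excIso (φ f) (ιtop j) (ι' f j') ψ hψ.symm hV' hinj hsurj hκ' ≪≫ restrK f j' ≪≫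
      Functor.isoWhiskerLeft (EtShriek.restrAlong f) (theta j').symm ≪≫
      Functor.isoWhiskerRight (EtRestr.restrPullIso f) (EtDual.gammaSupp j')
  exact ⟨(Lib.Helper42.RDerComm.mapIso α r).app F ≪≫
    (Lib.Helper42.RDerComm.preCompIso (EtCoh.pull f) (EtDual.gammaSupp j') r).app F⟩

end Groth.Agent.S14454
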