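import Mathlib
-- Template for statement S14456 (row 14455; see the milestone table for weights).
-- Copy to Groth/Agent/S14456.lean and replace the sorry. The statement below is byte-identical to the frozen
-- statement CAlg.GrothFrozen.S14456 (Groth/Statements/S14456.lean; the theorem CAlg.flat_of_forall_flat_quotient_pow_smul);
-- the grader kernel-checks Groth.Agent.S14456.result against that frozen type. Keep the theorem IN THIS FILE
-- (a `result` declared elsewhere and merely imported here is not credited); helpers may live anywhere
-- under Groth/Agent/.
import Groth.Statements.S14456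
import Groth.Agent.Lib.Helper24.FlatAdic

set_option autoImplicit false
universe u
open CAlg

namespace Groth.Agent.S14456

/-- Take a local homomorphism A → B between Noetherian local rings, M a finitely generated B-module and
f an element of the maximal ideal of B. If M/f^(n+1)M is flat over A for every n ≥ 0, then M is flat
over A. -/
theorem result {A B : Type u} [CommRing A] [CommRing B]
    [IsNoetherianRing A] [IsNoetherianRing B] [IsLocalRing A] [IsLocalRing B] [Algebra A B]
    [IsLocalHom (algebraMap A B)] (M : Type u) [AddCommGroup M] [Module B M] [Module A M]
    [IsScalarTower A B M] [Module.Finite B M] (f : B) (hf : f ∈ IsLocalRing.maximalIdeal B)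
    (hflat : ∀ n : ℕ, Module.Flat A (M ⧸ (Ideal.span {f ^ (n + 1)} • (⊤ : Submodule B M)))) :
    Module.Flat A M := by
  have hI : Ideal.span {f} ≤ Ideal.jacobson (⊥ : Ideal B) := by
    refine le_trans ?_ (IsLocalRing.maximalIdeal_le_jacobson _)
    rw [Ideal.span_le, Set.singleton_subset_iff]
    exact hf
  refine Groth.Agent.Lib.Helper24.FlatAdic.flat_of_forall_flat_quotient_pow M (Ideal.span {f}) hI ?_
  intro n
  refine ⟨n + 1, Nat.le_succ n, ?_⟩
  rw [Ideal.span_singleton_pow]
  exact hflat n

end Groth.Agent.S14456
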