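import Groth.Statements.S14457
import Mathlib.RingTheory.Etale.StandardEtale
import Mathlib.RingTheory.Kaehler.Polynomial
import Mathlib.RingTheory.Norm.Defs
import Mathlib.RingTheory.Unramified.Basic

set_option autoImplicit false
universe u
open CAlg

namespace Groth.Agent.S14457

open Polynomial TensorProduct in
theorem isUnit_mk_derivative (A : Type u) [CommRing A] (f : A[X])
    [Algebra.FormallyUnramified A (A[X] ⧸ Ideal.span {f})] :
    IsUnit (Ideal.Quotient.mk (Ideal.span {f}) (derivative f)) := by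
  let S := A[X] ⧸ Ideal.span {f}
  have hsurj : Function.Surjective (algebraMap A[X] S) := Ideal.Quotient.mk_surjective
  have hex := KaehlerDifferential.exact_kerCotangentToTensor_mapBaseChange A A[X] S hsurj
  have hs : Function.Surjective (KaehlerDifferential.kerCotangentToTensor A A[X] S) := by
    intro x
    exact (hex x).1 (Subsingleton.elim _ _)
  obtain ⟨c, hc⟩ := hs ((1 : S) ⊗ₜ[A[X]] KaehlerDifferential.D A A[X] X)
  obtain ⟨⟨y, hy⟩, rfl⟩ := Ideal.toCotangent_surjective _ c
  rw [KaehlerDifferential.kerCotangentToTensor_toCotangent] at hc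
  let ψ : Ω[A[X]⁄A] →ₗ[A[X]] S :=
    (Algebra.linearMap A[X] S) ∘ₗ (KaehlerDifferential.polynomialEquiv A).toLinearMap
  let φ : S ⊗[A[X]] Ω[A[X]⁄A] →ₗ[S] S := LinearMap.liftBaseChange S ψ
  have h1 := congrArg φ hc
  have e1 : φ ((1 : S) ⊗ₜ[A[X]] KaehlerDifferential.D A A[X] y) =
      Ideal.Quotient.mk (Ideal.span {f}) (derivative y) := by
    simp [φ, ψ]
    rfl
  have e2 : φ ((1 : S) ⊗ₜ[A[X]] KaehlerDifferential.D A A[X] X) = 1 := by
    simp [φ, ψ]
  rw [e1, e2] at h1
  have hy' : y ∈ Ideal.span {f} := by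
    have : algebraMap A[X] S y = 0 := hy
    rwa [Ideal.Quotient.algebraMap_eq, Ideal.Quotient.eq_zero_iff_mem] at this
  obtain ⟨g, rfl⟩ := Ideal.mem_span_singleton'.1 hy'
  rw [derivative_mul, map_add, map_mul, map_mul] at h1
  have hf0 : Ideal.Quotient.mk (Ideal.span {f}) f = 0 :=
    Ideal.Quotient.eq_zero_iff_mem.2 (Ideal.mem_span_singleton_self f)
  rw [hf0, mul_zero, zero_add] at h1
  rw [mul_comm] at h1
  exact IsUnit.of_mul_eq_one _ h1

open Polynomial in
theorem isUnit_of_isUnit_of (A : Type u) [CommRing A] (f : A[X]) (hf : f.Monic)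
    (hdeg : f.natDegree ≠ 0) (x : A) (hx : IsUnit (AdjoinRoot.of f x)) : IsUnit x := by
  have h1 := hx.map (Algebra.norm A)
  have e : AdjoinRoot.of f x = algebraMap A (AdjoinRoot f) x := rfl
  rw [e, Algebra.norm_algebraMap_of_basis (AdjoinRoot.powerBasis' hf).basis] at h1
  rw [Fintype.card_fin] at h1
  exact (isUnit_pow_iff (by simpa using hdeg)).1 h1

open Polynomial in
theorem forward (A : Type u) [CommRing A] (a : A) (n : ℕ) (hn : 2 ≤ n)
    [Algebra.FormallyUnramified A (AdjoinRoot ((X : A[X]) ^ n - C a))] :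
    IsUnit ((n : A) * a) := by
  rcases subsingleton_or_nontrivial A with hA | hA
  · exact isUnit_of_subsingleton _
  set f : A[X] := (X : A[X]) ^ n - C a with hfdef
  have hmonic : f.Monic := monic_X_pow_sub_C a (by omega)
  have hdeg : f.natDegree = n := natDegree_X_pow_sub_C
  have : Algebra.FormallyUnramified A (A[X] ⧸ Ideal.span {f}) :=
    ‹Algebra.FormallyUnramified A (AdjoinRoot f)›
  have hU : IsUnit (AdjoinRoot.mk f (derivative f)) := isUnit_mk_derivative A f
  have hder : derivative f = C (n : A) * X ^ (n - 1) := by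
    rw [hfdef, derivative_sub, derivative_X_pow, derivative_C, sub_zero]
  rw [hder, map_mul, map_pow, AdjoinRoot.mk_X, AdjoinRoot.mk_C] at hU
  have hroot : AdjoinRoot.root f ^ n = AdjoinRoot.of f a := by
    have h0 : AdjoinRoot.mk f f = 0 := AdjoinRoot.mk_self
    rw [hfdef, map_sub, map_pow, AdjoinRoot.mk_X, AdjoinRoot.mk_C, sub_eq_zero] at h0
    exact h0
  have hn1 : IsUnit (AdjoinRoot.of f (n : A)) := isUnit_of_mul_isUnit_left hU
  have hr1 : IsUnit (AdjoinRoot.root f ^ (n - 1)) := isUnit_of_mul_isUnit_right hU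
  have hr : IsUnit (AdjoinRoot.root f) := (isUnit_pow_iff (by omega)).1 hr1
  have ha : IsUnit (AdjoinRoot.of f a) := by rw [← hroot]; exact hr.pow n
  have hna : IsUnit (AdjoinRoot.of f ((n : A) * a)) := by
    rw [map_mul]; exact hn1.mul ha
  exact isUnit_of_isUnit_of A f hmonic (by omega) _ hna

open Polynomial in
theorem backward (A : Type u) [CommRing A] (a : A) (n : ℕ) (hn : 1 ≤ n)
    (h : n = 1 ∨ IsUnit ((n : A) * a)) :
    Algebra.Etale A (AdjoinRoot ((X : A[X]) ^ n - C a)) := by
  set f : A[X] := (X : A[X]) ^ n - C a with hfdef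
  have hmonic : f.Monic := monic_X_pow_sub_C a (by omega)
  have hder : derivative f = C (n : A) * X ^ (n - 1) := by
    rw [hfdef, derivative_sub, derivative_X_pow, derivative_C, sub_zero]
  have cond : ∃ p₁ p₂ : A[X], ∃ k : ℕ, derivative f * p₁ + f * p₂ = 1 ^ k := by
    rcases h with h | h
    · subst h
      refine ⟨1, 0, 0, ?_⟩
      rw [hder]; simp
    · obtain ⟨v, hv⟩ := h.exists_right_inv
      refine ⟨C v * X, - C (v * (n : A)), 0, ?_⟩
      rw [hder, hfdef]
      have hX : (X : A[X]) ^ (n - 1) * X = X ^ n := by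
        rw [← pow_succ]; congr 1; omega
      calc C (n : A) * X ^ (n - 1) * (C v * X) + (X ^ n - C a) * -C (v * (n : A))
          = C ((n : A) * v) * (X ^ (n - 1) * X) - C (v * (n : A)) * X ^ n
              + C ((n : A) * a * v) := by
            simp only [map_mul]; ring
        _ = 1 ^ 0 := by
            rw [hX, hv, mul_comm (n : A) v]; simp
  let P : StandardEtalePair A := ⟨f, hmonic, 1, cond⟩
  let S := AdjoinRoot f
  have hM : Submonoid.powers (AdjoinRoot.mk P.f P.g) ≤ IsUnit.submonoid S := by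
    rintro x ⟨k, rfl⟩
    change IsUnit ((AdjoinRoot.mk f 1) ^ k)
    rw [map_one, one_pow]; exact isUnit_one
  let e₁ : S ≃ₐ[S] Localization.Away (AdjoinRoot.mk P.f P.g) :=
    IsLocalization.atUnits S (Submonoid.powers (AdjoinRoot.mk P.f P.g)) hM
  let e : P.Ring ≃ₐ[A] S := P.equivAwayAdjoinRoot.trans (e₁.restrictScalars A).symm
  exact Algebra.Etale.of_equiv e

open Polynomial in
/-- Let A be a commutative ring, a an element of A and n ≥ 1 an integer. The A-algebra A[T]/(T^n − a) is
etale exactly when either n = 1 or the product n·a is a unit of A. (The exponent n is a positive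
integer here; for n = 0 the quotient is (A/(1 − a))[T] and the equivalence fails.) -/
theorem result (A : Type u) [CommRing A] (a : A) (n : ℕ) (hn : 1 ≤ n) :
    Algebra.Etale A (AdjoinRoot ((X : A[X]) ^ n - C a)) ↔ n = 1 ∨ IsUnit ((n : A) * a) := by
  constructor
  · intro h
    by_cases h1 : n = 1
    · exact Or.inl h1
    · right
      exact forward A a n (by omega)
  · intro h
    exact backward A a n hn h

end Groth.Agent.S14457
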