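import Groth.Statements.S14460
import Groth.Agent.S0294
import Groth.Agent.Lib.Helper69.FEtGalois
import Mathlib.AlgebraicGeometry.Morphisms.FlatMono

set_option autoImplicit false
universe u
open CategoryTheory CategoryTheory.Limits AlgebraicGeometry
open Pi1

namespace Groth.Agent.S14460

set_option linter.style.haveILetI false
set_option linter.unusedSectionVars false
set_option backward.isDefEq.respectTransparency false
set_option backward.defeqAttrib.useBackward true

section aux

variable {X : Scheme.{u}} {Y : FEt.Cat X} {G : Type u} [Group G] (ρ : G →* Aut Y)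

lemma rho_mul_left (g h : G) :
    (ρ (g * h)).hom.left = (ρ h).hom.left ≫ (ρ g).hom.left := by
  rw [map_mul, Aut.Aut_mul_def]
  rfl

lemma rho_one_left : (ρ 1).hom.left = 𝟙 Y.left := by
  rw [map_one]
  rfl

lemma orbit_injective
    (hfree : ∀ g : G, g ≠ 1 → ∀ (K : Type u) [Field K] (y : Spec (CommRingCat.of K) ⟶ Y.left),
      y ≫ (ρ g).hom.left ≠ y)
    {K : Type u} [Field K] (s : Spec (CommRingCat.of K) ⟶ Y.left) (g h : G)
    (e : s ≫ (ρ g).hom.left = s ≫ (ρ h).hom.left) : g = h := by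
  by_contra hne
  have h1 : g⁻¹ * h ≠ 1 := by
    intro h2
    apply hne
    have := congrArg (g * ·) h2
    simpa using this.symm
  apply hfree _ h1 K s
  rw [rho_mul_left, ← Category.assoc, ← e, Category.assoc, ← rho_mul_left, inv_mul_cancel,
    rho_one_left, Category.comp_id]

/-- the orbit map into the fibre. -/
noncomputable def orbitMap {K : Type u} [Field K] (s : Spec (CommRingCat.of K) ⟶ Y.left) :
    G → FEt.fiberObj (s ≫ Y.hom) Y := fun g =>
  ⟨s ≫ (ρ g).hom.left, by rw [Category.assoc, Over.w (ρ g).hom.hom]⟩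

lemma orbitMap_injective
    (hfree : ∀ g : G, g ≠ 1 → ∀ (K : Type u) [Field K] (y : Spec (CommRingCat.of K) ⟶ Y.left),
      y ≫ (ρ g).hom.left ≠ y)
    {K : Type u} [Field K] (s : Spec (CommRingCat.of K) ⟶ Y.left) :
    Function.Injective (orbitMap ρ s) := by
  intro g h e
  exact orbit_injective ρ hfree s g h (congrArg Subtype.val e)

lemma card_le
    (hfree : ∀ g : G, g ≠ 1 → ∀ (K : Type u) [Field K] (y : Spec (CommRingCat.of K) ⟶ Y.left),
      y ≫ (ρ g).hom.left ≠ y)
    {K : Type u} [Field K] (s : Spec (CommRingCat.of K) ⟶ Y.left) :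
    Nat.card G ≤ Nat.card (FEt.fiberObj (s ≫ Y.hom) Y) := by
  haveI : Finite (FEt.fiberObj (s ≫ Y.hom) Y) := Groth.Agent.S0294.result _ Y
  exact Nat.card_le_card_of_injective _ (orbitMap_injective ρ hfree s)

/-- a geometric point at a given point. -/
lemma exists_geomPt (Z : Scheme.{u}) (z : Z) :
    ∃ (Ω : Type u) (_ : Field Ω) (_ : IsAlgClosed Ω) (s : Spec (CommRingCat.of Ω) ⟶ Z),
      ∀ p, s p = z := by
  refine ⟨AlgebraicClosure (Z.residueField z), inferInstance, inferInstance,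
    Spec.map (CommRingCat.ofHom (algebraMap (Z.residueField z) (AlgebraicClosure (Z.residueField z))))
      ≫ Z.fromSpecResidueField z, ?_⟩
  intro p
  rw [Scheme.Hom.comp_apply]
  exact Scheme.fromSpecResidueField_apply _ _

/-- field-valued points of a coproduct factor through a component. -/
lemma exists_factor_sigma {ι : Type u} (f : ι → Scheme.{u}) {K : Type u} [Field K]
    (t : Spec (CommRingCat.of K) ⟶ ∐ f) :
    ∃ (i : ι) (t' : Spec (CommRingCat.of K) ⟶ f i), t' ≫ Sigma.ι f i = t := by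
  have pt : (Spec (CommRingCat.of K)) := ⟨⊥, Ideal.isPrime_bot⟩
  obtain ⟨i, z, hz⟩ := (sigmaOpenCover f).exists_eq (t pt)
  have hr : Set.range t ⊆ Set.range (Sigma.ι f i) := by
    rintro _ ⟨q, rfl⟩
    have : q = pt := Subsingleton.elim _ _
    rw [this]
    exact ⟨z, hz⟩
  exact ⟨i, IsOpenImmersion.lift (Sigma.ι f i) t hr, IsOpenImmersion.lift_fac _ _ _⟩

/-- the graph of `ρ g`. -/
noncomputable def γ (g : G) : Y.left ⟶ pullback Y.hom Y.hom :=
  pullback.lift (𝟙 Y.left) (ρ g).hom.left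
    ((Category.id_comp Y.hom).trans (Over.w (ρ g).hom.hom).symm)

@[reassoc (attr := simp)]
lemma γ_fst (g : G) : γ ρ g ≫ pullback.fst Y.hom Y.hom = 𝟙 _ := pullback.lift_fst _ _ _

@[reassoc (attr := simp)]
lemma γ_snd (g : G) : γ ρ g ≫ pullback.snd Y.hom Y.hom = (ρ g).hom.left := pullback.lift_snd _ _ _

instance isOpenImmersion_γ (g : G) : IsOpenImmersion (γ ρ g) := by
  have hfst : FEt.prop (pullback.fst Y.hom Y.hom) := FEt.prop.pullback_fst _ _ Y.prop
  have hprop : FEt.prop (γ ρ g) :=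
    FEt.prop.of_postcomp (W' := FEt.prop) (γ ρ g) (pullback.fst Y.hom Y.hom) hfst
      (by rw [γ_fst]; exact FEt.prop.id_mem _)
  have : IsFinite (γ ρ g) := hprop.1
  have : Etale (γ ρ g) := hprop.2
  have : Mono (γ ρ g) :=
    mono_of_mono_fac (γ_fst ρ g)
  exact IsOpenImmersion.of_flat_of_mono _

lemma surj_of_isIso
    (hD : IsIso (Limits.Sigma.desc fun g : G => γ ρ g))
    {K : Type u} [Field K] (s : Spec (CommRingCat.of K) ⟶ Y.left) :
    Function.Surjective (orbitMap ρ s) := by
  intro s'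
  let t' : Spec (CommRingCat.of K) ⟶ pullback Y.hom Y.hom :=
    pullback.lift s s'.1 (by rw [s'.2])
  obtain ⟨g, t'', ht''⟩ := exists_factor_sigma (fun _ : G => Y.left)
    (t' ≫ inv (Limits.Sigma.desc fun g : G => γ ρ g))
  have h1 : t'' ≫ γ ρ g = t' := by
    have := congrArg (· ≫ (Limits.Sigma.desc fun g : G => γ ρ g)) ht''
    simpa using this
  have h2 : t'' = s := by
    have := congrArg (· ≫ pullback.fst _ _) h1
    simpa [t'] using this
  have h3 : t'' ≫ (ρ g).hom.left = s'.1 := by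
    have := congrArg (· ≫ pullback.snd _ _) h1
    simpa [t'] using this
  refine ⟨g, Subtype.ext ?_⟩
  rw [← h3, h2]
  rfl

end aux

section main

variable {X : Scheme.{u}} {Y : FEt.Cat X} {G : Type u} [Group G] (ρ : G →* Aut Y)

open scoped Function in
lemma disjoint_γ
    (hfree : ∀ g : G, g ≠ 1 → ∀ (K : Type u) [Field K] (y : Spec (CommRingCat.of K) ⟶ Y.left),
      y ≫ (ρ g).hom.left ≠ y) :
    Pairwise (Disjoint on (fun g => (γ ρ g).opensRange)) := by
  intro g h hgh
  rw [Function.onFun_apply, disjoint_iff, ← TopologicalSpace.Opens.coe_inj]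
  apply Set.eq_empty_of_forall_notMem
  rintro z ⟨⟨a, ha⟩, ⟨b, hb⟩⟩
  apply hgh
  obtain ⟨w, -, -⟩ := Scheme.Pullback.exists_preimage_pullback (f := γ ρ g) (g := γ ρ h) a b
    (ha.trans hb.symm)
  let W := pullback (γ ρ g) (γ ρ h)
  let y : Spec (CommRingCat.of (W.residueField w)) ⟶ W := W.fromSpecResidueField w
  have h0 : (y ≫ pullback.fst _ _) ≫ γ ρ g = (y ≫ pullback.snd _ _) ≫ γ ρ h := by
    rw [Category.assoc, Category.assoc, pullback.condition]
  have h1 : y ≫ pullback.fst _ _ = y ≫ pullback.snd _ _ := by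
    have := congrArg (· ≫ pullback.fst _ _) h0
    simpa using this
  have h2 : (y ≫ pullback.fst _ _) ≫ (ρ g).hom.left = (y ≫ pullback.snd _ _) ≫ (ρ h).hom.left := by
    have := congrArg (· ≫ pullback.snd _ _) h0
    simpa using this
  rw [← h1] at h2
  exact orbit_injective ρ hfree _ g h h2

lemma cover_γ
    (n : ℕ)
    (hn : ∀ (Ω : Type u) [Field Ω] [IsSepClosed Ω] (ξ : Spec (CommRingCat.of Ω) ⟶ X),
      Nat.card (FEt.fiberObj ξ Y) = n)
    (hfree : ∀ g : G, g ≠ 1 → ∀ (K : Type u) [Field K] (y : Spec (CommRingCat.of K) ⟶ Y.left),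
      y ≫ (ρ g).hom.left ≠ y)
    (hcard : Nat.card G = n) :
    ⨆ g, (γ ρ g).opensRange = ⊤ := by
  rw [eq_top_iff]
  intro z _
  obtain ⟨Ω, _, _, t', ht'⟩ := exists_geomPt (pullback Y.hom Y.hom) z
  let s : Spec (CommRingCat.of Ω) ⟶ Y.left := t' ≫ pullback.fst _ _
  let s' : FEt.fiberObj (s ≫ Y.hom) Y := ⟨t' ≫ pullback.snd _ _, by
    rw [Category.assoc, Category.assoc, pullback.condition]⟩
  haveI : Finite (FEt.fiberObj (s ≫ Y.hom) Y) := Groth.Agent.S0294.result _ Y
  have hbij : Function.Bijective (orbitMap ρ s) :=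
    (orbitMap_injective ρ hfree s).bijective_of_nat_card_le
      (by rw [hcard, hn Ω (s ≫ Y.hom)])
  obtain ⟨g, hg⟩ := hbij.2 s'
  have hg' : s ≫ (ρ g).hom.left = t' ≫ pullback.snd _ _ := congrArg Subtype.val hg
  have h1 : t' = s ≫ γ ρ g := by
    apply pullback.hom_ext
    · simp [s]
    · simp [hg']
  have pt : (Spec (CommRingCat.of Ω)) := ⟨⊥, Ideal.isPrime_bot⟩
  have h2 : z = γ ρ g (s pt) := by
    rw [← ht' pt, h1]
    rfl
  have : z ∈ (γ ρ g).opensRange := ⟨s pt, h2.symm⟩
  exact (le_iSup (fun g => (γ ρ g).opensRange) g) this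

lemma isIso_of_card_eq
    (n : ℕ)
    (hn : ∀ (Ω : Type u) [Field Ω] [IsSepClosed Ω] (ξ : Spec (CommRingCat.of Ω) ⟶ X),
      Nat.card (FEt.fiberObj ξ Y) = n)
    (hfree : ∀ g : G, g ≠ 1 → ∀ (K : Type u) [Field K] (y : Spec (CommRingCat.of K) ⟶ Y.left),
      y ≫ (ρ g).hom.left ≠ y)
    (hcard : Nat.card G = n) :
    IsIso (Limits.Sigma.desc fun g : G => γ ρ g) := by
  have h := nonempty_isColimit_cofanMk_of (fun g : G => γ ρ g) (cover_γ ρ n hn hfree hcard)
    (disjoint_γ ρ hfree)
  exact (Cofan.nonempty_isColimit_iff_isIso_sigmaDesc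
    (Cofan.mk (pullback Y.hom Y.hom) (fun g : G => γ ρ g))).mp h

end main


/-- Let Y → X be finite étale with Y nonempty and all geometric fibres of the same cardinality n, and
let a finite group G act on Y over X without fixed points (no point of Y with values in a field is
fixed by a non-identity element). Then G has at most n elements, and it has exactly n elements if
and only if the morphism from the disjoint union of copies of Y indexed by G to Y ×_X Y, given on
the copy indexed by g by the identity and g, is an isomorphism. (For Y empty the bound fails, since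
every finite group acts without fixed points on the empty cover, whose fibres have cardinality 0;
this row assumes Y nonempty.) -/
theorem result {X : Scheme.{u}} (Y : FEt.Cat X)
    [Nonempty ↥Y.left] (n : ℕ)
    (hn : ∀ (Ω : Type u) [Field Ω] [IsSepClosed Ω] (ξ : Spec (CommRingCat.of Ω) ⟶ X), Nat.card (FEt.fiberObj ξ Y) = n)
    (G : Type u) [Group G] [Finite G] (ρ : G →* Aut Y)
    (hfree : ∀ g : G, g ≠ 1 → ∀ (K : Type u) [Field K] (y : Spec (CommRingCat.of K) ⟶ Y.left),
      y ≫ (ρ g).hom.left ≠ y) :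
    Nat.card G ≤ n ∧
      (Nat.card G = n ↔ IsIso (Limits.Sigma.desc fun g : G =>
        pullback.lift (𝟙 Y.left) (ρ g).hom.left
          ((Category.id_comp Y.hom).trans (Over.w (ρ g).hom.hom).symm) : (∐ fun _ : G => Y.left) ⟶ pullback Y.hom Y.hom)) := by
  obtain ⟨y₀⟩ := ‹Nonempty ↥Y.left›
  obtain ⟨Ω, _, _, s₀, -⟩ := exists_geomPt Y.left y₀
  have hinj := orbitMap_injective ρ hfree s₀
  haveI : Finite (FEt.fiberObj (s₀ ≫ Y.hom) Y) := Groth.Agent.S0294.result _ Y
  refine ⟨?_, ?_, ?_⟩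
  · rw [← hn Ω (s₀ ≫ Y.hom)]
    exact card_le ρ hfree s₀
  · intro hcard
    exact isIso_of_card_eq ρ n hn hfree hcard
  · intro hD
    rw [← hn Ω (s₀ ≫ Y.hom)]
    exact Nat.card_eq_of_bijective _ ⟨hinj, surj_of_isIso ρ hD s₀⟩


end Groth.Agent.S14460
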