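import Groth.Statements.S14462
import Groth.Agent.Lib.Helper69.FinFlatPurity

set_option autoImplicit false
universe u
open CategoryTheory AlgebraicGeometry
open Unram

namespace Groth.Agent.S14462

/-- Let f : X → Y be finite and flat with Y locally Noetherian, and let U ⊆ Y be open with every point
of the complement having a local ring of Krull dimension at least 2. If f is étale over U, then f is
étale. -/
theorem result {X Y : Scheme.{u}} [IsLocallyNoetherian Y]
    (f : X ⟶ Y) [IsFinite f] [Flat f] (U : Y.Opens)
    (hU : ∀ y : Y, y ∉ U → (2 : WithBot ℕ∞) ≤ ringKrullDim (Y.presheaf.stalk y))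
    [Etale (f ∣_ U)] : Etale f := by
  refine Groth.Agent.Lib.Helper69.FinFlatPurity.etale_of_finite_flat f U hU fun x hx => ?_
  refine Groth.Agent.Lib.Helper19.formallyUnramified_stalkMap_of_nhd f x ⟨f ⁻¹ᵁ U, hx, ?_⟩
  rw [← morphismRestrict_ι]
  infer_instance


end Groth.Agent.S14462
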