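import Groth.Statements.S1447
import Groth.Agent.Lib.Helper87.LenWt9

set_option autoImplicit false
universe u
open FlatMor

namespace Groth.Agent.S1447

open AlgebraicGeometry CategoryTheory Limits in
/-- For a separated, flat, locally quasi-finite morphism f : X → S which is locally of finite
presentation, assume the fibres of f over all field-valued points have rank (of their ring of global
functions) at most n. Then there is a function deg : S → ℕ bounded by n with every sublevel set {deg
≤ r} closed (equivalently a chain of closed subsets ∅ ⊂ Z_0 ⊂ ... ⊂ Z_n = S with strata {deg = r})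
such that for every morphism g : T → S and every r, deg ∘ g is constant with value r exactly when
the base change of f along g is finite locally free of degree r. -/
theorem result {X S : Scheme.{u}} (f : X ⟶ S) [Flat f] [LocallyOfFinitePresentation f] [IsSeparated f] [LocallyQuasiFinite f]
    (n : ℕ) (hn : ∀ (K : Type u) [Field K] (g : Spec (CommRingCat.of K) ⟶ S), (letI := ((Scheme.ΓSpecIso (CommRingCat.of K)).inv ≫ (pullback.snd f g).appTop).hom.toAlgebra
        Module.rank K (Γ(pullback f g, ⊤) : Type u)) ≤ (n : Cardinal.{u})) :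
    ∃ deg : ↑S → ℕ, (∀ s, deg s ≤ n) ∧ (∀ r : ℕ, IsClosed {s : ↑S | deg s ≤ r}) ∧
      ∀ (T : Scheme.{u}) (g : T ⟶ S) (r : ℕ), Mor2.IsFinLocFreeOfDeg r (pullback.snd f g) ↔ ∀ t : T, deg (g t) = r := by
  have hfin : ∀ y : S, (f ⁻¹' {y}).Finite := by
    intro y
    have h := hn (S.residueField y) (S.fromSpecResidueField y)
    exact @Groth.Agent.Lib.Helper87.LenWt.finite_fibre_of_rank_le _ _ f _ y (S.residueField y) _
      ((Scheme.ΓSpecIso (CommRingCat.of (S.residueField y))).inv ≫
        (pullback.snd f (S.fromSpecResidueField y)).appTop).hom.toAlgebra n h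
  refine ⟨Groth.Agent.Lib.Helper87.LenWt.fdeg' f, ?_,
    Groth.Agent.Lib.Helper87.LenWt.isClosed_fdeg'_le f hfin,
    fun T g r => Groth.Agent.Lib.Helper87.LenWt.isFinLocFree_iff' f hfin g r⟩
  intro s
  have hs : (S.fromSpecResidueField s) (IsLocalRing.closedPoint (S.residueField s)) = s :=
    Scheme.fromSpecResidueField_apply s _
  have : IsFinite (f.fiberToSpecResidueField
      ((S.fromSpecResidueField s) (IsLocalRing.closedPoint (S.residueField s)))) :=
    Groth.Agent.Lib.Helper87.LenWt.isFinite_fiberToSpecResidueField_of_finite f _ (hfin _)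
  obtain ⟨m, hm1, hm2⟩ := Groth.Agent.Lib.Helper87.LenWt.rank_pullback_eq f
    (K := S.residueField s) (S.fromSpecResidueField s)
  have h := hn (S.residueField s) (S.fromSpecResidueField s)
  rw [hm2] at h
  have h2 : m ≤ n := by exact_mod_cast h
  rw [hs] at hm1
  have h3 : (Groth.Agent.Lib.Helper87.LenWt.fdeg' f s : ℤ) = (m : ℤ) := by
    rw [Groth.Agent.Lib.Helper87.LenWt.fdeg'_cast, hm1]
  have h4 : Groth.Agent.Lib.Helper87.LenWt.fdeg' f s = m := by exact_mod_cast h3
  omega

end Groth.Agent.S1447
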