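import Groth.Statements.S14477
import Mathlib
import Groth.Agent.Lib.Helper65.ExtPowerAnn
-- import your own Groth.Agent.* helpers here

set_option autoImplicit false
universe u
open KaehlerDifferential
open LocInt

namespace Groth.Agent.S14477
open TensorProduct KaehlerDifferential
open Groth.Agent.Lib.Helper65.ExtPowerAnn Groth.Agent.Lib.Helper65.GenericSmooth
set_option linter.style.haveILetI false

theorem smul_map_eq {R M N ι : Type*} [CommRing R] [AddCommGroup M] [Module R M]
    [AddCommGroup N] [Module R N] [Fintype ι] [DecidableEq ι]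
    (f : M [⋀^ι]→ₗ[R] N) (v : ι → M) (a : ι → R) (i : ι) :
    a i • f v = f (Function.update v i (∑ j, a j • v j)) := by
  rw [AlternatingMap.map_update_sum]
  rw [Finset.sum_eq_single i]
  · rw [AlternatingMap.map_update_smul, Function.update_eq_self]
  · intro j _ hji
    rw [AlternatingMap.map_update_smul, f.map_eq_zero_of_eq _ (i := i) (j := j) _ hji.symm,
      smul_zero]
    simp [Function.update_of_ne hji]
  · simp

/-- `⋀^{n+1}` of a finite module with all fibre dimensions `≤ n` vanishes. -/
theorem subsingleton_exteriorPower_succ {R P : Type*} [CommRing R] [AddCommGroup P] [Module R P]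
    [Module.Finite R P] (n : ℕ)
    (hrank : ∀ (m : Ideal R) [m.IsMaximal],
      Module.finrank m.ResidueField (m.ResidueField ⊗[R] P) ≤ n) :
    Subsingleton (⋀[R]^(n+1) P) := by
  classical
  set N := ⋀[R]^(n+1) P
  -- N ≤ m N for every maximal ideal m
  have key : ∀ (m : Ideal R) [m.IsMaximal], (⊤ : Submodule R N) ≤ m • (⊤ : Submodule R N) := by
    intro m _
    have htop : (⊤ : Submodule R N) = Submodule.span R (Set.range (exteriorPower.ιMulti R (n+1))) :=
      (exteriorPower.ιMulti_span R (n+1) P).symm
    conv_lhs => rw [htop]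
    rw [Submodule.span_le]
    rintro _ ⟨v, rfl⟩
    let K := m.ResidueField
    have hsurj : Function.Surjective (algebraMap R K) := m.algebraMap_residueField_surjective
    have hker : RingHom.ker (algebraMap R K) = m := m.ker_algebraMap_residueField
    have hnli : ¬ LinearIndependent K (fun k => (1 : K) ⊗ₜ[R] v k) := by
      intro hli
      have := hli.fintype_card_le_finrank
      rw [Fintype.card_fin] at this
      have h2 := hrank m
      change n + 1 ≤ Module.finrank m.ResidueField (m.ResidueField ⊗[R] P) at this
      omega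
    rw [Fintype.not_linearIndependent_iff] at hnli
    obtain ⟨g, hg, k0, hk0⟩ := hnli
    choose c hc using fun k => hsurj (g k)
    have hy : (∑ k, c k • v k) ∈ m • (⊤ : Submodule R P) := by
      rw [← hker, ← alg_one_tmul_eq_zero_iff hsurj, tmul_sum, ← hg]
      refine Finset.sum_congr rfl fun k _ => ?_
      rw [tmul_smul, ← hc k, algebraMap_smul]
    have hck0 : c k0 ∉ m := by
      rw [← hker, RingHom.mem_ker, hc]; exact hk0
    have h1 : c k0 • exteriorPower.ιMulti R (n+1) v ∈ m • (⊤ : Submodule R N) := by
      rw [smul_map_eq (exteriorPower.ιMulti R (n+1)) v c k0]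
      let L : P →ₗ[R] N := (exteriorPower.ιMulti R (n+1)).toMultilinearMap.toLinearMap v k0
      have : (m • (⊤ : Submodule R P)).map L ≤ m • (⊤ : Submodule R N) := by
        rw [Submodule.map_smul'']
        exact Submodule.smul_mono le_rfl le_top
      exact this ⟨_, hy, rfl⟩
    obtain ⟨d, i, hi, hdi⟩ := Ideal.IsMaximal.exists_inv (I := m) inferInstance hck0
    have : exteriorPower.ιMulti R (n+1) v =
        d • (c k0 • exteriorPower.ιMulti R (n+1) v) + i • exteriorPower.ιMulti R (n+1) v := by
      rw [← mul_smul, ← add_smul, hdi, one_smul]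
    rw [SetLike.mem_coe, this]
    exact Submodule.add_mem _ (Submodule.smul_mem _ _ h1)
      (Submodule.smul_mem_smul hi Submodule.mem_top)
  -- annihilator is the unit ideal
  have hann : Module.annihilator R N = ⊤ := by
    by_contra hne
    obtain ⟨m, hm, hle⟩ := Ideal.exists_le_maximal _ hne
    obtain ⟨r, hr1, hr2⟩ := Submodule.exists_sub_one_mem_and_smul_eq_zero_of_fg_of_le_smul m
      (⊤ : Submodule R N) Module.Finite.fg_top (key m)
    have hrann : r ∈ Module.annihilator R N := by
      rw [Module.mem_annihilator]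
      intro y
      exact hr2 y Submodule.mem_top
    have : (1 : R) ∈ m := by
      have h2 := m.sub_mem (hle hrann) hr1
      simpa using h2
    exact hm.ne_top ((Ideal.eq_top_iff_one _).mpr this)
  have h1 : (1 : R) ∈ Module.annihilator R N := by rw [hann]; trivial
  rw [Module.mem_annihilator] at h1
  exact ⟨fun a b => by rw [← one_smul R a, ← one_smul R b, h1 a, h1 b]⟩

theorem annihilator_le_of_surjective {R M M' : Type*} [CommRing R] [AddCommGroup M] [Module R M]
    [AddCommGroup M'] [Module R M'] (n : ℕ) (f : M →ₗ[R] M') (hf : Function.Surjective f) :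
    (⋀[R]^n M).annihilator ≤ (⋀[R]^n M').annihilator := by
  intro r hr
  rw [Module.mem_annihilator] at hr ⊢
  intro y
  obtain ⟨y₀, rfl⟩ := exteriorPower.map_surjective (n := n) hf y
  rw [← map_smul, hr y₀, map_zero]

theorem apply_mem_annihilator {R P M : Type*} [CommRing R] [AddCommGroup P] [Module R P]
    [AddCommGroup M] [Module R M] (n : ℕ) [Subsingleton (⋀[R]^(n+1) P)] (x : P)
    (π : P →ₗ[R] M) (hπ : Function.Surjective π) (hx : π x = 0) (ψ : P →ₗ[R] R) :
    ψ x ∈ (⋀[R]^n M).annihilator := by
  classical
  have key : ∀ v : Fin n → P, ψ x • ExteriorAlgebra.ιMulti R n (π ∘ v) = 0 := by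
    intro v
    have h1 : ExteriorAlgebra.ι R x * ExteriorAlgebra.ιMulti R n v = 0 := by
      have h2 : ExteriorAlgebra.ιMulti R (n+1) (Matrix.vecCons x v) =
          ExteriorAlgebra.ι R x * ExteriorAlgebra.ιMulti R n v := by
        rw [ExteriorAlgebra.ιMulti_succ_apply]
        simp
      rw [← h2, ← exteriorPower.ιMulti_apply_coe,
        Subsingleton.elim (exteriorPower.ιMulti R (n+1) (Matrix.vecCons x v)) 0]
      rfl
    have h3 := CliffordAlgebra.contractLeft_ι_mul (Q := (0 : QuadraticForm R P)) (d := ψ) x
      (ExteriorAlgebra.ιMulti R n v)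
    have h4 : ψ x • ExteriorAlgebra.ιMulti R n v =
        ExteriorAlgebra.ι R x * (CliffordAlgebra.contractLeft (Q := (0 : QuadraticForm R P)) ψ
          (ExteriorAlgebra.ιMulti R n v)) := by
      have h5 : CliffordAlgebra.contractLeft (Q := (0 : QuadraticForm R P)) ψ
          (ExteriorAlgebra.ι R x * ExteriorAlgebra.ιMulti R n v) = 0 := by
        rw [h1, map_zero]
      rw [h5] at h3
      exact (sub_eq_zero.mp h3.symm)
    have h6 := congrArg (ExteriorAlgebra.map π) h4
    rw [map_smul, ExteriorAlgebra.map_apply_ιMulti, map_mul, ExteriorAlgebra.map_apply_ι, hx,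
      map_zero, zero_mul] at h6
    exact h6
  rw [Module.mem_annihilator]
  intro y
  have hy : y ∈ (⊤ : Submodule R (⋀[R]^n M)) := trivial
  rw [← exteriorPower.ιMulti_span R n] at hy
  induction hy using Submodule.span_induction with
  | mem y hy =>
    obtain ⟨w, rfl⟩ := hy
    have : ∀ k, ∃ u : P, π u = w k := fun k => hπ (w k)
    choose v hv using this
    have hw : w = π ∘ v := by funext k; exact (hv k).symm
    apply Subtype.ext
    rw [Submodule.coe_smul, exteriorPower.ιMulti_apply_coe, hw, key v]
    rfl
  | zero => exact smul_zero _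
  | add y y' _ _ hy hy' => rw [smul_add, hy, hy', add_zero]
  | smul r y _ hy => rw [smul_comm, hy, smul_zero]

theorem annihilator_quotient_le {R P : Type*} [CommRing R] [AddCommGroup P] [Module R P]
    [Module.Finite R P] [Module.Projective R P] (n : ℕ)
    (hrank : ∀ (m : Ideal R) [m.IsMaximal],
      n ≤ Module.finrank m.ResidueField (m.ResidueField ⊗[R] P)) (x : P) :
    (⋀[R]^n (P ⧸ Submodule.span R {x})).annihilator ≤
      Ideal.span (Set.range fun ψ : P →ₗ[R] R => ψ x) := by
  classical
  set c : Ideal R := Ideal.span (Set.range fun ψ : P →ₗ[R] R => ψ x) with hc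
  intro r hr
  by_contra hrc
  let 𝔞 : Ideal R := Submodule.comap (LinearMap.toSpanSingleton R R r) c
  have h𝔞 : ∀ s, s ∈ 𝔞 ↔ s * r ∈ c := fun s => by
    simp only [𝔞, Submodule.mem_comap, LinearMap.toSpanSingleton_apply, smul_eq_mul]
  have hne : 𝔞 ≠ ⊤ := by
    intro h
    have : (1 : R) ∈ 𝔞 := by rw [h]; trivial
    rw [h𝔞, one_mul] at this
    exact hrc this
  obtain ⟨m, hm, hle⟩ := Ideal.exists_le_maximal _ hne
  haveI := hm
  have hsurj : Function.Surjective (algebraMap R m.ResidueField) :=
    m.algebraMap_residueField_surjective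
  have hker : RingHom.ker (algebraMap R m.ResidueField) = m := m.ker_algebraMap_residueField
  have hd := hrank m
  obtain ⟨f, b, hb⟩ := exists_basis_one_tmul (R := R) (M := P) (K := m.ResidueField)
  -- functionals
  let lam : Fin n → (P →ₗ[R] m.ResidueField) := fun j =>
    ((b.coord (Fin.castLE hd j)).restrictScalars R) ∘ₗ (TensorProduct.mk R m.ResidueField P 1)
  have hlift : ∀ j, ∃ ψ : P →ₗ[R] R, (Algebra.linearMap R m.ResidueField) ∘ₗ ψ = lam j :=
    fun j => Module.projective_lifting_property (Algebra.linearMap R m.ResidueField) (lam j) hsurj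
  choose ψ hψ using hlift
  let v : Fin n → P := fun k => f (Fin.castLE hd k)
  let S := R ⧸ c
  let F := P ⧸ Submodule.span R {x}
  have hψx : ∀ j, Submodule.span R {x} ≤
      LinearMap.ker ((Algebra.linearMap R S) ∘ₗ ψ j) := by
    intro j
    rw [Submodule.span_le, Set.singleton_subset_iff, SetLike.mem_coe, LinearMap.mem_ker]
    exact Ideal.Quotient.eq_zero_iff_mem.mpr (Ideal.subset_span ⟨ψ j, rfl⟩)
  let ρ : F →ₗ[R] (Fin n → S) := LinearMap.pi fun j =>
    (Submodule.span R {x}).liftQ ((Algebra.linearMap R S) ∘ₗ ψ j) (hψx j)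
  let ΔS : (Fin n → S) [⋀^Fin n]→ₗ[S] S := Matrix.detRowAlternating
  let Δ : F [⋀^Fin n]→ₗ[R] S :=
    { toMultilinearMap := (ΔS.toMultilinearMap.restrictScalars R).compLinearMap (fun _ => ρ)
      map_eq_zero_of_eq' := fun v i j hv hij => by
        refine ΔS.map_eq_zero_of_eq _ ?_ hij
        simp only [hv] }
  let G : ⋀[R]^n F →ₗ[R] S := exteriorPower.alternatingMapLinearEquiv Δ
  let w : Fin n → F := fun k => (Submodule.span R {x}).mkQ (v k)
  let Dm : Matrix (Fin n) (Fin n) R := Matrix.of fun k j => ψ j (v k)
  have hG : G (exteriorPower.ιMulti R n w) = algebraMap R S Dm.det := by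
    rw [exteriorPower.alternatingMapLinearEquiv_apply_ιMulti, RingHom.map_det]
    change Matrix.det (Matrix.of fun i => ρ (w i)) = _
    congr 1
  have h0 : r • exteriorPower.ιMulti R n w = 0 := Module.mem_annihilator.mp hr _
  have h1 := congrArg G h0
  rw [map_smul, hG, map_zero, Algebra.smul_def, ← map_mul] at h1
  have h2 : Dm.det ∈ 𝔞 := by
    rw [h𝔞, mul_comm]
    exact Ideal.Quotient.eq_zero_iff_mem.mp h1
  have h3 : algebraMap R m.ResidueField Dm.det = 0 := by
    rw [← RingHom.mem_ker, hker]; exact hle h2
  rw [RingHom.map_det] at h3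
  have h4 : (algebraMap R m.ResidueField).mapMatrix Dm = 1 := by
    ext k j
    have := LinearMap.congr_fun (hψ j) (v k)
    simp only [LinearMap.comp_apply, Algebra.linearMap_apply] at this
    simp only [RingHom.mapMatrix_apply, Matrix.map_apply, Dm, Matrix.of_apply, this, lam,
      LinearMap.comp_apply, LinearMap.restrictScalars_apply, TensorProduct.mk_apply, v, ← hb,
      Module.Basis.coord_apply, Module.Basis.repr_self, Matrix.one_apply]
    rw [Finsupp.single_apply]
    simp only [Fin.castLE_inj]
  rw [h4, Matrix.det_one] at h3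
  exact one_ne_zero h3

/-- general form -/
theorem annihilator_eq {R P M : Type*} [CommRing R] [AddCommGroup P] [Module R P]
    [AddCommGroup M] [Module R M] [Module.Finite R P] [Module.Projective R P] (n : ℕ)
    (hrank : ∀ (m : Ideal R) [m.IsMaximal],
      Module.finrank m.ResidueField (m.ResidueField ⊗[R] P) = n)
    (x : P) (π : P →ₗ[R] M) (hπ : Function.Surjective π)
    (hker : LinearMap.ker π = Submodule.span R {x}) :
    (⋀[R]^n M).annihilator = Ideal.span (Set.range fun ψ : P →ₗ[R] R => ψ x) := by
  haveI : Subsingleton (⋀[R]^(n+1) P) :=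
    subsingleton_exteriorPower_succ n (fun m _ => (hrank m).le)
  have hx : π x = 0 := by
    rw [← LinearMap.mem_ker, hker]; exact Submodule.mem_span_singleton_self x
  apply le_antisymm
  · let e : (P ⧸ Submodule.span R {x}) ≃ₗ[R] M :=
      (Submodule.quotEquivOfEq _ _ hker.symm).trans (π.quotKerEquivOfSurjective hπ)
    refine (annihilator_le_of_surjective n e.symm.toLinearMap e.symm.surjective).trans ?_
    exact annihilator_quotient_le n (fun m _ => (hrank m).ge) x
  · rw [Ideal.span_le]
    rintro _ ⟨ψ, rfl⟩
    exact apply_mem_annihilator n x π hπ hx ψ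


/-- Let A → B be a smooth ring map with Ω_{B/A} of rank n at every prime of B, g ∈ B a nonzerodivisor
and R = B/gB, a hypersurface of virtual relative dimension n - 1 over A; let J ⊆ R be the
annihilator of the n-th exterior power of Ω_{R/A} and Z = Spec R/J. Then J is the ideal of R
generated by the classes of the elements φ(dg), φ ranging over the B-linear forms on Ω_{B/A}; where
Ω_{B/A} is free on dt_1, …, dt_n this says that Z is cut out by the partial derivatives ∂g/∂t_1, …,
∂g/∂t_n. In particular every φ(dg) vanishes in R/J; since Ω_{B/A} is finite projective this says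
that dg ⊗ 1 = 0 in Ω_{B/A} ⊗_B R/J, i.e. the map from the conormal module gB/g²B ⊗ R/J to Ω_{B/A}
⊗_B R/J induced by d vanishes, and with the cotangent complex of R over A represented by the
two-term complex (gB/g²B → Ω_{B/A} ⊗_B R) this is the statement that the canonical map from L_Z =
L_1 i^* L_{R/A} to the conormal module restricted to Z is an isomorphism. (The published statement
also asserts that, for a regular immersion of any codimension into a smooth scheme, this map from
L_Z is a locally split injection; that part is not stated here. The published statement is the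
isomorphism alone, which amounts to the inclusion of the ideal generated by the φ(dg) in J; this row
states the equality, whose other inclusion is the local description of Z by the partial derivatives
given with the definition of Z.) -/
theorem result (A B R : Type u) [CommRing A] [CommRing B] [CommRing R]
    [Algebra A B] [Algebra B R] [Algebra A R] [IsScalarTower A B R] [Algebra.Smooth A B] (n : ℕ)
    (hn : ∀ p : PrimeSpectrum B, Module.rankAtStalk (Ω[B⁄A]) p = n)
    (g : B) (hg : IsSMulRegular B g) (hsurj : Function.Surjective (algebraMap B R))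
    (hker : RingHom.ker (algebraMap B R) = Ideal.span {g}) :
    (⋀[R]^n (Ω[R⁄A])).annihilator =
      Ideal.span (Set.range fun φ : Ω[B⁄A] →ₗ[B] B => algebraMap B R (φ (KaehlerDifferential.D A B g))) := by
  classical
  let P := R ⊗[B] Ω[B⁄A]
  let x : P := (1 : R) ⊗ₜ[B] D A B g
  let π : P →ₗ[R] Ω[R⁄A] := mapBaseChange A B R
  have hπ : Function.Surjective π := mapBaseChange_surjective A B R hsurj
  have hg0 : algebraMap B R g = 0 := by
    rw [← RingHom.mem_ker, hker]; exact Ideal.mem_span_singleton_self g
  have hx : π x = 0 := by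
    change mapBaseChange A B R ((1 : R) ⊗ₜ[B] D A B g) = 0
    rw [mapBaseChange_tmul, one_smul, KaehlerDifferential.map_D, hg0, map_zero]
  have hkerπ : LinearMap.ker π = Submodule.span R {x} := by
    apply le_antisymm
    · intro ξ hξ
      rw [LinearMap.mem_ker] at hξ
      obtain ⟨c, hc⟩ := (exact_kerCotangentToTensor_mapBaseChange A B R hsurj ξ).mp hξ
      obtain ⟨h, rfl⟩ := Ideal.toCotangent_surjective _ c
      rw [kerCotangentToTensor_toCotangent] at hc
      have hh : (h : B) ∈ Ideal.span {g} := hker ▸ h.2
      rw [Ideal.mem_span_singleton'] at hh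
      obtain ⟨b, hb⟩ := hh
      rw [Submodule.mem_span_singleton]
      refine ⟨algebraMap B R b, ?_⟩
      rw [← hc, ← hb, Derivation.leibniz, tmul_add, tmul_smul, tmul_smul]
      rw [algebraMap_smul, ← algebraMap_smul R g ((1 : R) ⊗ₜ[B] D A B b), hg0, zero_smul, add_zero]
    · rw [Submodule.span_le, Set.singleton_subset_iff]
      exact hx
  have hrank : ∀ (m : Ideal R) [m.IsMaximal],
      Module.finrank m.ResidueField (m.ResidueField ⊗[R] P) = n := by
    intro m _
    rw [← finrank_fiber_of_rankAtStalk (B := B) (R := R) (M := Ω[B⁄A]) n hn m]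
    exact (AlgebraTensorModule.cancelBaseChange B R m.ResidueField m.ResidueField
      Ω[B⁄A]).finrank_eq
  rw [annihilator_eq n hrank x π hπ hkerπ]
  apply le_antisymm
  · rw [Ideal.span_le]
    rintro _ ⟨ψ, rfl⟩
    let lam : Ω[B⁄A] →ₗ[B] R := (ψ.restrictScalars B) ∘ₗ (TensorProduct.mk B R Ω[B⁄A] 1)
    obtain ⟨φ, hφ⟩ := Module.projective_lifting_property (Algebra.linearMap B R) lam hsurj
    refine Ideal.subset_span ⟨φ, ?_⟩
    exact LinearMap.congr_fun hφ (D A B g)
  · rw [Ideal.span_le]
    rintro _ ⟨φ, rfl⟩
    refine Ideal.subset_span ⟨LinearMap.liftBaseChange R ((Algebra.linearMap B R) ∘ₗ φ), ?_⟩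
    change LinearMap.liftBaseChange R ((Algebra.linearMap B R) ∘ₗ φ) ((1 : R) ⊗ₜ[B] D A B g) = _
    rw [LinearMap.liftBaseChange_tmul, one_smul]
    rfl


end Groth.Agent.S14477
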