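import Groth.Statements.S14478
import Mathlib.LinearAlgebra.FiniteDimensional.Lemmas
-- import your own Groth.Agent.* helpers here

set_option autoImplicit false
universe u
open CharCyc

namespace Groth.Agent.S14478


theorem exists_compl_sup_eq_top {k V : Type u} [Field k] [AddCommGroup V] [Module k V]
    [FiniteDimensional k V] :
    ∀ (d : ℕ) (U₁ U₂ : Submodule k V), Module.finrank k U₁ + d = Module.finrank k V →
      Module.finrank k U₁ ≤ Module.finrank k U₂ →
      ∃ W : Submodule k V, IsCompl U₁ W ∧ W ⊔ U₂ = ⊤ := by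
  intro d
  induction d with
  | zero =>
    intro U₁ U₂ h1 h2
    have hU₁ : U₁ = ⊤ := Submodule.eq_top_of_finrank_eq (by omega)
    have hU₂ : U₂ = ⊤ := Submodule.eq_top_of_finrank_eq (by
      have := Submodule.finrank_le U₂; omega)
    exact ⟨⊥, by rw [hU₁]; exact isCompl_top_bot, by rw [hU₂]; simp⟩
  | succ d ih =>
    intro U₁ U₂ h1 h2
    by_cases hU₂ : U₂ = ⊤
    · obtain ⟨W, hW⟩ := Submodule.exists_isCompl U₁
      exact ⟨W, hW, by rw [hU₂]; simp⟩
    have hU₁ : U₁ ≠ ⊤ := by
      rintro rfl
      rw [finrank_top] at h1; omega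
    obtain ⟨w, hw₁, hw₂⟩ : ∃ w, w ∉ U₁ ∧ w ∉ U₂ := by
      obtain ⟨a, -, ha⟩ := SetLike.exists_of_lt (lt_top_iff_ne_top.mpr hU₁)
      obtain ⟨b, -, hb⟩ := SetLike.exists_of_lt (lt_top_iff_ne_top.mpr hU₂)
      by_cases ha₂ : a ∈ U₂
      · by_cases hb₁ : b ∈ U₁
        · refine ⟨a + b, ?_, ?_⟩
          · intro h; exact ha ((Submodule.add_mem_iff_left _ hb₁).mp h)
          · intro h; exact hb ((Submodule.add_mem_iff_right _ ha₂).mp h)
        · exact ⟨b, hb₁, hb⟩
      · exact ⟨a, ha, ha₂⟩
    obtain ⟨W', hW'₁, hW'₂⟩ := ih (U₁ ⊔ Submodule.span k {w}) (U₂ ⊔ Submodule.span k {w})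
      (by rw [Submodule.finrank_sup_span_singleton hw₁]; omega)
      (by rw [Submodule.finrank_sup_span_singleton hw₁,
            Submodule.finrank_sup_span_singleton hw₂]; omega)
    refine ⟨W' ⊔ Submodule.span k {w}, ⟨?_, ?_⟩, ?_⟩
    · rw [Submodule.disjoint_def]
      intro x hx₁ hx
      obtain ⟨y, hy, z, hz, rfl⟩ := Submodule.mem_sup.mp hx
      obtain ⟨c, rfl⟩ := Submodule.mem_span_singleton.mp hz
      have hy0 : y = 0 := by
        have hy' : y ∈ U₁ ⊔ Submodule.span k {w} := by
          have e : y = (y + c • w) - c • w := by abel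
          rw [e]
          exact Submodule.sub_mem _ (Submodule.mem_sup_left hx₁)
            (Submodule.mem_sup_right
              (Submodule.smul_mem _ _ (Submodule.mem_span_singleton_self w)))
        exact (Submodule.disjoint_def.mp hW'₁.disjoint) y hy' hy
      subst hy0
      rw [zero_add] at hx₁ ⊢
      by_cases hc : c = 0
      · simp [hc]
      · exact absurd ((Submodule.smul_mem_iff _ hc).mp hx₁) hw₁
    · rw [codisjoint_iff, sup_comm W' _, ← sup_assoc]
      exact hW'₁.sup_eq_top
    · rw [sup_assoc, sup_comm _ U₂]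
      exact hW'₂

/-- Let V be a finite-dimensional vector space over a field k, let W = V × V^∨ with V^∨ the dual space,
and let T ⊆ W be a subspace with dim T = dim V; put V₁ = V ∩ T, where V sits in W as V × 0. Then
there is a complement V₂ of V₁ in V with the following property: for every injective linear map A₁ :
V₁ → V₁^∨, the map A : V → V^∨ extending A₁ by zero along the decompositions V = V₁ ⊕ V₂ and V^∨ =
V₁^∨ ⊕ V₂^∨ (so A v = A₁(p v) ∘ p, with p : V → V₁ the projection along V₂) has graph Γ ⊆ W with Γ ∩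
T = 0. -/
theorem result (k V : Type u) [Field k] [AddCommGroup V] [Module k V]
    [FiniteDimensional k V] (T : Submodule k (V × Module.Dual k V))
    (hT : Module.finrank k T = Module.finrank k V) :
    ∃ (V₂ : Submodule k V) (h : IsCompl (T.comap (LinearMap.inl k V (Module.Dual k V))) V₂),
      ∀ A₁ : T.comap (LinearMap.inl k V (Module.Dual k V)) →ₗ[k]
          Module.Dual k (T.comap (LinearMap.inl k V (Module.Dual k V))),
        Function.Injective A₁ →
          LinearMap.graph ((Submodule.projectionOnto _ V₂ h).dualMap ∘ₗ A₁ ∘ₗ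
              Submodule.projectionOnto _ V₂ h) ⊓ T = ⊥ := by
  classical
  set V₁ := T.comap (LinearMap.inl k V (Module.Dual k V)) with hV₁
  set P := T.map (LinearMap.snd k V (Module.Dual k V)) with hP
  set K := P.dualCoannihilator with hK
  have hdim : Module.finrank k V₁ ≤ Module.finrank k K := by
    have e1 : Module.finrank k P + Module.finrank k K = Module.finrank k V :=
      Subspace.finrank_add_finrank_dualCoannihilator_eq P
    let g : T →ₗ[k] Module.Dual k V := LinearMap.snd k V (Module.Dual k V) ∘ₗ T.subtype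
    have e2 := LinearMap.finrank_range_add_finrank_ker (K := k) (V := T) (V₂ := Module.Dual k V) g
    have hr : LinearMap.range g = P := by
      rw [LinearMap.range_comp, Submodule.range_subtype]
    rw [hr] at e2
    let i : V₁ →ₗ[k] T := LinearMap.codRestrict T
      (LinearMap.inl k V (Module.Dual k V) ∘ₗ V₁.subtype) (fun v => v.2)
    have hi : Function.Injective i := by
      intro a b hab
      have := congrArg (fun t : T => (t : V × Module.Dual k V).1) hab
      exact Subtype.ext this
    have hle : LinearMap.range i ≤ LinearMap.ker g := by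
      rintro _ ⟨v, rfl⟩
      rw [LinearMap.mem_ker]
      rfl
    have e3 := LinearMap.finrank_range_of_inj hi
    have e4 := Submodule.finrank_mono hle
    omega
  obtain ⟨V₂, h, hsup⟩ := exists_compl_sup_eq_top (Module.finrank k V - Module.finrank k V₁) V₁ K
    (by have := Submodule.finrank_le V₁; omega) hdim
  refine ⟨V₂, h, ?_⟩
  intro A₁ hA₁
  rw [eq_bot_iff]
  rintro ⟨v, φ⟩ ⟨hx₁, hx₂⟩
  rw [SetLike.mem_coe, LinearMap.mem_graph_iff] at hx₁
  rw [SetLike.mem_coe] at hx₂
  simp only [LinearMap.coe_comp, Function.comp_apply] at hx₁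
  have hφP : φ ∈ P := ⟨(v, φ), hx₂, rfl⟩
  have hφ0 : φ = 0 := by
    apply LinearMap.ext
    intro x
    have hx : x ∈ V₂ ⊔ K := by rw [hsup]; trivial
    obtain ⟨y, hy, z, hz, rfl⟩ := Submodule.mem_sup.mp hx
    rw [map_add, LinearMap.zero_apply]
    have h1 : φ y = 0 := by
      rw [hx₁, LinearMap.dualMap_apply,
        (Submodule.projectionOnto_apply_eq_zero_iff h).mpr hy, map_zero]
    have h2 : φ z = 0 := (Submodule.mem_dualCoannihilator z).mp hz φ hφP
    rw [h1, h2, add_zero]
  subst hφ0
  have hpv : Submodule.projectionOnto V₁ V₂ h v = 0 := by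
    apply hA₁
    rw [map_zero]
    apply LinearMap.dualMap_injective_of_surjective (Submodule.projectionOnto_surjective h)
    rw [map_zero]
    exact hx₁.symm
  have hv₂ : v ∈ V₂ := (Submodule.projectionOnto_apply_eq_zero_iff h).mp hpv
  have hv₁ : v ∈ V₁ := hx₂
  have hv0 : v = 0 := (Submodule.disjoint_def.mp h.disjoint) v hv₁ hv₂
  rw [hv0]
  exact (Submodule.mem_bot k).mpr rfl

end Groth.Agent.S14478
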