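import Groth.Statements.S14479
import Mathlib.LinearAlgebra.Matrix.BilinearForm
import Mathlib.LinearAlgebra.Matrix.NonsingularInverse
import Mathlib.LinearAlgebra.Dimension.Free
import Mathlib.Algebra.CharP.Two
-- import your own Groth.Agent.* helpers here

set_option autoImplicit false
universe u
open CharCyc

namespace Groth.Agent.S14479


theorem aux_of_matrix {k V : Type u} [Field k] [AddCommGroup V] [Module k V]
    {ι : Type} [Fintype ι] [DecidableEq ι] (b : Module.Basis ι k V) (M : Matrix ι ι k)
    (hM : (M + M.transpose).det ≠ 0) :
    ∃ B : LinearMap.BilinForm k V, (B + B.flip).Nondegenerate := by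
  refine ⟨Matrix.toBilin b M, ?_⟩
  rw [LinearMap.BilinForm.nondegenerate_iff_det_ne_zero b]
  have : LinearMap.BilinForm.toMatrix b (Matrix.toBilin b M + (Matrix.toBilin b M).flip) =
      M + M.transpose := by
    rw [map_add, LinearMap.BilinForm.toMatrix_toBilin]
    congr 1
    ext i j
    rw [LinearMap.BilinForm.toMatrix_apply, LinearMap.BilinForm.flip_apply,
      ← LinearMap.BilinForm.toMatrix_apply, LinearMap.BilinForm.toMatrix_toBilin,
      Matrix.transpose_apply]
  rw [this]
  exact hM

/-- Let V be a finite-dimensional vector space over a field k. If dim V is even or the characteristic of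
k is different from 2, there is a bilinear form B on V such that the bilinear form (v, w) ↦ B(v, w)
+ B(w, v) (B plus its transpose, as a map V → V^∨) is nondegenerate. -/
theorem result (k V : Type u) [Field k] [AddCommGroup V] [Module k V]
    [FiniteDimensional k V] (h : Even (Module.finrank k V) ∨ ringChar k ≠ 2) :
    ∃ B : LinearMap.BilinForm k V, (B + B.flip).Nondegenerate := by
  classical
  rcases h with h | h
  · obtain ⟨m, hm⟩ := h
    let b : Module.Basis (Fin m ⊕ Fin m) k V :=
      (Module.finBasisOfFinrankEq k V hm).reindex finSumFinEquiv.symm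
    refine aux_of_matrix b (Matrix.fromBlocks 0 1 0 0) ?_
    apply Matrix.det_ne_zero_of_left_inverse (B := Matrix.fromBlocks 0 1 1 0)
    rw [Matrix.fromBlocks_transpose, Matrix.fromBlocks_add, Matrix.fromBlocks_multiply]
    simp [Matrix.fromBlocks_one]
  · refine aux_of_matrix (Module.finBasis k V) 1 ?_
    have h2 : (2 : k) ≠ 0 := Ring.two_ne_zero h
    have : (1 : Matrix (Fin (Module.finrank k V)) (Fin (Module.finrank k V)) k) +
        (1 : Matrix _ _ k).transpose = (2 : k) • 1 := by
      rw [Matrix.transpose_one, two_smul]
    rw [this, Matrix.det_smul, Matrix.det_one, mul_one]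
    exact pow_ne_zero _ h2

end Groth.Agent.S14479
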