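import Groth.Statements.S14492
import Groth.Agent.Lib.Helper62.IndCofInd

open Groth.Agent.Lib.Helper62.IndCofAbs Groth.Agent.Lib.Helper62.IndCofInd

set_option autoImplicit false
universe v
open IndCof

namespace Groth.Agent.S14492

open CategoryTheory CategoryTheory.Limits in
/-- Let C be a small abelian category all of whose objects are Artinian and killed by some power of a
prime p, and let A be an ind-object of C of cofinite type, i.e. for every n the p^n-torsion
sub-object A[p^n] (the kernel of multiplication by p^n) is isomorphic to an object of C. Then A /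
p^n A (the cokernel of multiplication by p^n) is isomorphic to an object of C for every n. -/
theorem result {C : Type v} [SmallCategory C] [Abelian C]
    (hart : ∀ X : C, IsArtinianObject X) (p : ℕ) (hp : p.Prime)
    (htor : ∀ X : C, ∃ n : ℕ, (p ^ n) • 𝟙 X = 0)
    (A : Ind C) (hA : ∀ n : ℕ, (Ind.yoneda (C := C)).essImage (kernel ((p ^ n) • 𝟙 A))) (n : ℕ) :
    (Ind.yoneda (C := C)).essImage (cokernel ((p ^ n) • 𝟙 A)) := by
  have hP := setup hart
  have hkill : ∀ X : C, ∃ m : ℕ, 0 < m ∧ m • 𝟙 X = 0 := fun X => by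
    obtain ⟨k, hk⟩ := htor X
    exact ⟨p ^ k, Nat.pow_pos hp.pos, hk⟩
  have hA' : ∀ k, PInd (tor A ((p ^ n) ^ k)) := fun k => by
    rw [← pow_mul]
    exact hA (n * k)
  have hT : ∀ X, PInd (C := C) X →
      ∃ k c : ℕ, (p ^ n) ^ k • 𝟙 X = ((p ^ n) ^ (k + 1) * c) • 𝟙 X := fun X hX => by
    obtain ⟨m, hm, h0⟩ := pInd_kill hkill hX
    exact torsion_hyp _ hm h0
  obtain ⟨e, he⟩ := exists_gen hP hA' hT
  exact he.coker hP (hA' e) (hA' (e + 1))

end Groth.Agent.S14492
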