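import Groth.Statements.S14493
import Groth.Agent.Lib.Helper62.IndCofInd

open Groth.Agent.Lib.Helper62.IndCofAbs Groth.Agent.Lib.Helper62.IndCofInd

set_option autoImplicit false
universe v
open IndCof

namespace Groth.Agent.S14493

open CategoryTheory CategoryTheory.Limits in
/-- Let C be a small abelian category all of whose objects are Artinian and killed by some power of a
prime p. The ind-objects of cofinite type (those A in Ind C with every p^n-torsion sub-object A[p^n]
isomorphic to an object of C) form an abelian subcategory of Ind C: for a morphism f : A ⟶ B between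
ind-objects of cofinite type, the kernel and the cokernel of f in Ind C are of cofinite type. -/
theorem result {C : Type v} [SmallCategory C] [Abelian C]
    (hart : ∀ X : C, IsArtinianObject X) (p : ℕ) (hp : p.Prime)
    (htor : ∀ X : C, ∃ n : ℕ, (p ^ n) • 𝟙 X = 0)
    (A B : Ind C) (hA : ∀ n : ℕ, (Ind.yoneda (C := C)).essImage (kernel ((p ^ n) • 𝟙 A))) (hB : ∀ n : ℕ, (Ind.yoneda (C := C)).essImage (kernel ((p ^ n) • 𝟙 B))) (f : A ⟶ B) :
    (∀ n : ℕ, (Ind.yoneda (C := C)).essImage (kernel ((p ^ n) • 𝟙 (kernel f)))) ∧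
      (∀ n : ℕ, (Ind.yoneda (C := C)).essImage (kernel ((p ^ n) • 𝟙 (cokernel f)))) := by
  have hP := setup hart
  have hkill : ∀ X : C, ∃ m : ℕ, 0 < m ∧ m • 𝟙 X = 0 := fun X => by
    obtain ⟨k, hk⟩ := htor X
    exact ⟨p ^ k, Nat.pow_pos hp.pos, hk⟩
  have hT : ∀ (q : ℕ) X, PInd (C := C) X →
      ∃ k c : ℕ, q ^ k • 𝟙 X = (q ^ (k + 1) * c) • 𝟙 X := fun q X hX => by
    obtain ⟨m, hm, h0⟩ := pInd_kill hkill hX
    exact torsion_hyp q hm h0
  refine ⟨fun n => tor_kernel hP f _ (hA n) (hB n), fun n => ?_⟩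
  exact tor_cokernel hP hT f (fun k => by rw [← pow_mul]; exact hA _)
    (fun k => by rw [← pow_mul]; exact hB _)

end Groth.Agent.S14493
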