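import Groth.Statements.S14496
import Groth.Agent.Lib.Helper62.IndCofInd
import Groth.Agent.Lib.Helper62.IndCofDiv

open Groth.Agent.Lib.Helper62.IndCofAbs Groth.Agent.Lib.Helper62.IndCofInd

set_option autoImplicit false
universe v
open IndCof

namespace Groth.Agent.S14496

open CategoryTheory CategoryTheory.Limits in
/-- Let C be a small abelian category all of whose objects are Artinian and killed by some power of a
prime p, and A an ind-object of C of cofinite type. Let N be such that p^n A = p^N A for all n ≥ N,
so that the divisible part A_div = ⋂ p^n A equals p^N A. Then A_div is of cofinite type and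
divisible (multiplication by p on it is an epimorphism; integers prime to p act invertibly on every
ind-object here, so this is divisibility by all positive integers); it is the largest divisible
sub-object of A; and A / A_div is the largest quotient of A lying in C: every epimorphism from A
onto an object isomorphic to an object of C vanishes on A_div. (The row takes the stabilization
index N as a hypothesis instead of forming the intersection; that A / A_div itself lies in C is the
statement about A / p^N A and is not repeated here.) -/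
theorem result {C : Type v} [SmallCategory C] [Abelian C]
    (hart : ∀ X : C, IsArtinianObject X) (p : ℕ) (hp : p.Prime)
    (htor : ∀ X : C, ∃ n : ℕ, (p ^ n) • 𝟙 X = 0)
    (A : Ind C) (hA : ∀ n : ℕ, (Ind.yoneda (C := C)).essImage (kernel ((p ^ n) • 𝟙 A))) (N : ℕ)
    (hN : ∀ n : ℕ, N ≤ n → imageSubobject ((p ^ n) • 𝟙 A) = imageSubobject ((p ^ N) • 𝟙 A)) :
    (∀ n : ℕ, (Ind.yoneda (C := C)).essImage
        (kernel ((p ^ n) • 𝟙 ((imageSubobject ((p ^ N) • 𝟙 A) : Subobject A) : Ind C)))) ∧
      Epi (p • 𝟙 ((imageSubobject ((p ^ N) • 𝟙 A) : Subobject A) : Ind C)) ∧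
      (∀ D : Subobject A, Epi (p • 𝟙 (D : Ind C)) → D ≤ imageSubobject ((p ^ N) • 𝟙 A)) ∧
      (∀ (Q : Ind C) (q : A ⟶ Q), Epi q → (Ind.yoneda (C := C)).essImage Q →
        (imageSubobject ((p ^ N) • 𝟙 A)).arrow ≫ q = 0) := by
  have hP := setup hart
  refine ⟨fun n => ?_, ?_, ?_, ?_⟩
  · exact tor_image hP A (p ^ N) (p ^ n) (by rw [← pow_add]; exact hA _) (hA n)
  · exact epi_nsmul_image A (p ^ N) p (by rw [← pow_succ]; exact (hN (N + 1) (by lia)).ge)
  · intro D hD
    exact le_image_of_epi_nsmul D (p ^ N) (epi_pow_nsmul hD N)
  · intro Q q _ hQ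
    obtain ⟨m, hm⟩ := pInd_kill_pow htor hQ
    rw [← hN (N + m) (by lia)]
    exact image_comp_eq_zero q _
      (nsmul_eq_zero_of_dvd _ hm (Dvd.intro_left _ (pow_add ..).symm))

end Groth.Agent.S14496
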