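import Groth.Statements.S14497
import Mathlib.CategoryTheory.Abelian.Exact
-- import your own Groth.Agent.* helpers here

set_option autoImplicit false
universe v u
open IndCof

namespace Groth.Agent.S14497


section aux
open CategoryTheory CategoryTheory.Limits

variable {V : Type u} [Category.{v} V] [Abelian V]

theorem imageSubobject_epi_comp' {X' X Y : V} (e : X' ⟶ X) [Epi e] (f : X ⟶ Y) :
    imageSubobject (e ≫ f) = imageSubobject f := by
  apply le_antisymm (imageSubobject_comp_le e f)
  have : IsIso (Subobject.ofLE _ _ (imageSubobject_comp_le e f)) := isIso_of_mono_of_epi _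
  exact Subobject.le_of_comm (inv (Subobject.ofLE _ _ (imageSubobject_comp_le e f))) (by simp)

theorem arrow_comp_nsmul {B : V} (D : Subobject B) (k : ℕ) :
    D.arrow ≫ (k • 𝟙 B) = (k • 𝟙 (D : V)) ≫ D.arrow := by
  simp [Preadditive.comp_nsmul, Preadditive.nsmul_comp]

theorem image_of_epi_nsmul {B : V} (D : Subobject B) (k : ℕ) (h : Epi (k • 𝟙 (D : V))) :
    imageSubobject (D.arrow ≫ (k • 𝟙 B)) = D := by
  rw [arrow_comp_nsmul, imageSubobject_epi_comp', imageSubobject_mono, Subobject.mk_arrow]

theorem epi_nsmul_of_image {B : V} (D : Subobject B) (k : ℕ)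
    (h : imageSubobject (D.arrow ≫ (k • 𝟙 B)) = D) : Epi (k • 𝟙 (D : V)) := by
  rw [arrow_comp_nsmul] at h
  have h2 : factorThruImageSubobject ((k • 𝟙 (D : V)) ≫ D.arrow) ≫ Subobject.ofLE _ _ h.le =
      k • 𝟙 (D : V) := by
    rw [← cancel_mono D.arrow, Category.assoc, Subobject.ofLE_arrow, imageSubobject_arrow_comp]
  rw [← h2]
  have : IsIso (Subobject.ofLE _ _ h.le) := ⟨Subobject.ofLE _ _ h.ge, by simp, by simp⟩
  infer_instance

theorem kernel_cokernel_arrow {B : V} (D : Subobject B) :
    kernelSubobject (cokernel.π D.arrow) = D := by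
  have hex : (ShortComplex.mk D.arrow (cokernel.π D.arrow) (cokernel.condition _)).Exact :=
    ShortComplex.exact_cokernel D.arrow
  rw [ShortComplex.exact_iff_image_eq_kernel] at hex
  dsimp at hex
  rw [← hex, imageSubobject_mono, Subobject.mk_arrow]

theorem image_nsmul_eq {B : V} (B' : Subobject B) (hdiv : ∀ k : ℕ, 0 < k → Epi (k • 𝟙 (B' : V)))
    (M : ℕ) (hM : 0 < M) (hM0 : M • 𝟙 (cokernel B'.arrow) = 0) (t : ℕ) (ht : 0 < t) :
    imageSubobject ((M * t) • 𝟙 B) = B' := by
  apply le_antisymm
  · have h0 : ((M * t) • 𝟙 B) ≫ cokernel.π B'.arrow = 0 := by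
      have : ((M * t) • 𝟙 B) ≫ cokernel.π B'.arrow =
          cokernel.π B'.arrow ≫ (t • (M • 𝟙 (cokernel B'.arrow))) := by
        simp [Preadditive.comp_nsmul, Preadditive.nsmul_comp, mul_comm M t, mul_nsmul]
        exact smul_comm M t _
      rw [this, hM0, smul_zero, comp_zero]
    have := image_le_kernel _ _ h0
    rwa [kernel_cokernel_arrow] at this
  · have h1 := image_of_epi_nsmul B' (M * t) (hdiv _ (Nat.mul_pos hM ht))
    calc B' = imageSubobject (B'.arrow ≫ ((M * t) • 𝟙 B)) := h1.symm
      _ ≤ imageSubobject ((M * t) • 𝟙 B) := imageSubobject_comp_le _ _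

end aux

open CategoryTheory CategoryTheory.Limits in
/-- Let B be an object of an abelian category and consider the inverse system, indexed by the positive
integers ordered by divisibility, with every term equal to B and transition map from the m-th to the
n-th term (n ∣ m) given by multiplication by m/n. This system is Mittag-Leffler, i.e. for every n
the images in the n-th term of the transition maps are eventually constant, if and only if B has a
divisible sub-object B' (multiplication by every positive integer is an epimorphism of B') with B/B'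
killed by some positive integer. Moreover such a B' is the largest divisible sub-object of B. -/
theorem result
    {V : Type u} [Category.{v} V] [Abelian V] (B : V) :
    ((∀ n : ℕ, 0 < n → ∃ m : ℕ, 0 < m ∧ n ∣ m ∧ ∀ m' : ℕ, 0 < m' → m ∣ m' →
        imageSubobject ((m' / n) • 𝟙 B) = imageSubobject ((m / n) • 𝟙 B)) ↔
      ∃ B' : Subobject B, (∀ k : ℕ, 0 < k → Epi (k • 𝟙 (B' : V))) ∧
        ∃ M : ℕ, 0 < M ∧ M • 𝟙 (cokernel B'.arrow) = 0) ∧
    (∀ B' : Subobject B, (∀ k : ℕ, 0 < k → Epi (k • 𝟙 (B' : V))) →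
      (∃ M : ℕ, 0 < M ∧ M • 𝟙 (cokernel B'.arrow) = 0) →
      ∀ D : Subobject B, (∀ k : ℕ, 0 < k → Epi (k • 𝟙 (D : V))) → D ≤ B') := by
  refine ⟨⟨?_, ?_⟩, ?_⟩
  · intro H
    obtain ⟨m, hm, -, hm'⟩ := H 1 Nat.one_pos
    simp only [Nat.div_one] at hm'
    refine ⟨imageSubobject (m • 𝟙 B), ?_, m, hm, ?_⟩
    · intro k hk
      apply epi_nsmul_of_image
      rw [← imageSubobject_epi_comp' (factorThruImageSubobject (m • 𝟙 B)), ← Category.assoc,
        imageSubobject_arrow_comp]
      have : (m • 𝟙 B) ≫ (k • 𝟙 B) = (m * k) • 𝟙 B := by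
        simp [Preadditive.comp_nsmul, mul_comm m k, mul_nsmul]
        exact smul_comm k m _
      rw [this]
      exact hm' (m * k) (Nat.mul_pos hm hk) (Dvd.intro k rfl)
    · rw [← cancel_epi (cokernel.π (imageSubobject (m • 𝟙 B)).arrow), comp_zero]
      have : cokernel.π (imageSubobject (m • 𝟙 B)).arrow ≫
          (m • 𝟙 (cokernel (imageSubobject (m • 𝟙 B)).arrow)) =
          factorThruImageSubobject (m • 𝟙 B) ≫ (imageSubobject (m • 𝟙 B)).arrow ≫
            cokernel.π (imageSubobject (m • 𝟙 B)).arrow := by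
        rw [← Category.assoc, imageSubobject_arrow_comp]
        simp [Preadditive.comp_nsmul, Preadditive.nsmul_comp]
      rw [this, cokernel.condition, comp_zero]
  · rintro ⟨B', hdiv, M, hM, hM0⟩ n hn
    refine ⟨n * M, Nat.mul_pos hn hM, Dvd.intro M rfl, ?_⟩
    intro m' hm'pos hm'
    obtain ⟨t, rfl⟩ := hm'
    have ht : 0 < t := by
      rcases Nat.eq_zero_or_pos t with h | h
      · subst h; simp at hm'pos
      · exact h
    rw [Nat.mul_assoc, Nat.mul_div_cancel_left _ hn, Nat.mul_div_cancel_left _ hn]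
    rw [image_nsmul_eq B' hdiv M hM hM0 t ht]
    have := image_nsmul_eq B' hdiv M hM hM0 1 Nat.one_pos
    rw [mul_one] at this
    exact this.symm
  · rintro B' hdiv ⟨M, hM, hM0⟩ D hD
    have h1 := image_of_epi_nsmul D M (hD M hM)
    have h2 := image_nsmul_eq B' hdiv M hM hM0 1 Nat.one_pos
    rw [mul_one] at h2
    calc D = imageSubobject (D.arrow ≫ (M • 𝟙 B)) := h1.symm
      _ ≤ imageSubobject (M • 𝟙 B) := imageSubobject_comp_le _ _
      _ = B' := h2

end Groth.Agent.S14497
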