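import Groth.Statements.S14498
import Mathlib.CategoryTheory.Abelian.Refinements

set_option autoImplicit false
universe v u
open AbDiag

namespace Groth.Agent.S14498

open CategoryTheory CategoryTheory.Limits in
/-- In an abelian category, let 0 → F → W → E' → 0 (maps a, b) and 0 → E → W → F' → G → G' → 0 (maps c,
d, e, g) be exact sequences such that the composite F → W → F' is a monomorphism. Then the composite
E → W → E' is a monomorphism, and there is a short exact sequence 0 → Coker(E → E') → Coker(F → F')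
→ Ker(G → G') → 0 whose first map is induced by d (through the quotient map b) and whose second map
is induced by e. -/
theorem result
    {V : Type u} [Category.{v} V] [Abelian V] {F W E' E F' G G' : V}
    (a : F ⟶ W) (b : W ⟶ E') (c : E ⟶ W) (d : W ⟶ F') (e : F' ⟶ G) (g : G ⟶ G')
    [Mono a] [Epi b] (wab : a ≫ b = 0) (hab : (ShortComplex.mk a b wab).Exact)
    [Mono c] (wcd : c ≫ d = 0) (hcd : (ShortComplex.mk c d wcd).Exact)
    (wde : d ≫ e = 0) (hde : (ShortComplex.mk d e wde).Exact)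
    (weg : e ≫ g = 0) (heg : (ShortComplex.mk e g weg).Exact) [Epi g]
    (hmono : Mono (a ≫ d)) :
    Mono (c ≫ b) ∧
      ∃ (φ : cokernel (c ≫ b) ⟶ cokernel (a ≫ d)) (ψ : cokernel (a ≫ d) ⟶ kernel g)
        (w : φ ≫ ψ = 0),
        b ≫ cokernel.π (c ≫ b) ≫ φ = d ≫ cokernel.π (a ≫ d) ∧
        cokernel.π (a ≫ d) ≫ ψ ≫ kernel.ι g = e ∧
        (ShortComplex.mk φ ψ w).ShortExact := by
  classical
  -- exactness of `a ≫ d` followed by its cokernel projection
  have hπ : (ShortComplex.mk (a ≫ d) (cokernel.π (a ≫ d)) (cokernel.condition _)).Exact :=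
    ShortComplex.exact_of_g_is_cokernel _ (cokernelIsCokernel _)
  -- Part 1
  have hmono1 : Mono (c ≫ b) := by
    rw [Preadditive.mono_iff_cancel_zero]
    intro T x hx
    rw [ShortComplex.exact_iff_exact_up_to_refinements] at hab
    obtain ⟨T', p, hp, y, hy⟩ := hab (x ≫ c) (by simpa using hx)
    dsimp at y hy
    have h1 : y ≫ (a ≫ d) = 0 := by
      rw [← Category.assoc, ← hy]; simp [wcd]
    have h2 : y = 0 := (Preadditive.mono_iff_cancel_zero (a ≫ d)).1 hmono _ y h1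
    have h3 : p ≫ x ≫ c = 0 := by rw [hy, h2, zero_comp]
    have h4 : (p ≫ x) ≫ c = 0 := by simpa using h3
    have h5 : p ≫ x = 0 := (Preadditive.mono_iff_cancel_zero c).1 inferInstance _ _ h4
    exact (cancel_epi p).1 (by rw [h5, comp_zero])
  refine ⟨hmono1, ?_⟩
  -- the map E' ⟶ coker (a ≫ d)
  have hbcok : IsColimit (CokernelCofork.ofπ b wab) := hab.gIsCokernel
  let φ₀ : E' ⟶ cokernel (a ≫ d) :=
    hbcok.desc (CokernelCofork.ofπ (d ≫ cokernel.π (a ≫ d)) (by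
      rw [← Category.assoc]; exact cokernel.condition _))
  have hφ₀ : b ≫ φ₀ = d ≫ cokernel.π (a ≫ d) :=
    hbcok.fac (CokernelCofork.ofπ (d ≫ cokernel.π (a ≫ d)) _) WalkingParallelPair.one
  have hφ₀' : (c ≫ b) ≫ φ₀ = 0 := by
    rw [Category.assoc, hφ₀, ← Category.assoc, wcd, zero_comp]
  let φ : cokernel (c ≫ b) ⟶ cokernel (a ≫ d) := cokernel.desc (c ≫ b) φ₀ hφ₀'
  have hφ : cokernel.π (c ≫ b) ≫ φ = φ₀ := cokernel.π_desc _ _ _
  let e' : F' ⟶ kernel g := kernel.lift g e weg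
  have he' : e' ≫ kernel.ι g = e := kernel.lift_ι _ _ _
  have he'0 : (a ≫ d) ≫ e' = 0 := by
    rw [← cancel_mono (kernel.ι g), Category.assoc, he', Category.assoc, wde, comp_zero, zero_comp]
  let ψ : cokernel (a ≫ d) ⟶ kernel g := cokernel.desc (a ≫ d) e' he'0
  have hψ : cokernel.π (a ≫ d) ≫ ψ = e' := cokernel.π_desc _ _ _
  have h1 : b ≫ cokernel.π (c ≫ b) ≫ φ = d ≫ cokernel.π (a ≫ d) := by rw [hφ, hφ₀]
  have h2 : cokernel.π (a ≫ d) ≫ ψ ≫ kernel.ι g = e := by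
    rw [← Category.assoc, hψ, he']
  have w : φ ≫ ψ = 0 := by
    rw [← cancel_epi (cokernel.π (c ≫ b)), ← cancel_epi b, ← cancel_mono (kernel.ι g)]
    simp only [Category.assoc, comp_zero, zero_comp]
    rw [← Category.assoc (cokernel.π (c ≫ b)), hφ, ← Category.assoc b, hφ₀, Category.assoc, h2, wde]
  refine ⟨φ, ψ, w, h1, h2, ?_⟩
  have hepi : Epi ψ := by
    have : Epi e' := by
      have := (ShortComplex.exact_iff_epi_kernel_lift (ShortComplex.mk e g weg)).1 heg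
      exact this
    have : Epi (cokernel.π (a ≫ d) ≫ ψ) := by rw [hψ]; infer_instance
    exact epi_of_epi (cokernel.π (a ≫ d)) ψ
  have hmonoφ : Mono φ := by
    rw [Preadditive.mono_iff_cancel_zero]
    intro T x hx
    obtain ⟨T₁, p₁, hp₁, w₁, hw₁⟩ :=
      (epi_iff_surjective_up_to_refinements (b ≫ cokernel.π (c ≫ b))).1 inferInstance x
    have hw₁d : (w₁ ≫ d) ≫ cokernel.π (a ≫ d) = 0 := by
      rw [Category.assoc, ← h1, ← Category.assoc, ← Category.assoc, Category.assoc w₁, ← hw₁,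
        Category.assoc, hx, comp_zero]
    rw [ShortComplex.exact_iff_exact_up_to_refinements] at hπ
    obtain ⟨T₂, p₂, hp₂, y, hy⟩ := hπ (w₁ ≫ d) hw₁d
    dsimp at y hy
    have h3 : (p₂ ≫ w₁ - y ≫ a) ≫ d = 0 := by
      rw [Preadditive.sub_comp, Category.assoc, hy, Category.assoc, sub_self]
    rw [ShortComplex.exact_iff_exact_up_to_refinements] at hcd
    obtain ⟨T₃, p₃, hp₃, z, hz⟩ := hcd (p₂ ≫ w₁ - y ≫ a) h3
    dsimp at z hz
    have h4 : p₃ ≫ p₂ ≫ w₁ ≫ b = z ≫ c ≫ b := by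
      have : p₃ ≫ p₂ ≫ w₁ = z ≫ c + p₃ ≫ y ≫ a := by
        rw [← hz, Preadditive.comp_sub]; simp
      calc p₃ ≫ p₂ ≫ w₁ ≫ b = (p₃ ≫ p₂ ≫ w₁) ≫ b := by simp
        _ = (z ≫ c + p₃ ≫ y ≫ a) ≫ b := by rw [this]
        _ = z ≫ c ≫ b := by simp [wab]
    have h5 : p₃ ≫ p₂ ≫ p₁ ≫ x = 0 := by
      calc p₃ ≫ p₂ ≫ p₁ ≫ x = p₃ ≫ p₂ ≫ w₁ ≫ b ≫ cokernel.π (c ≫ b) := by rw [hw₁]
        _ = (p₃ ≫ p₂ ≫ w₁ ≫ b) ≫ cokernel.π (c ≫ b) := by simp
        _ = (z ≫ c ≫ b) ≫ cokernel.π (c ≫ b) := by rw [h4]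
        _ = 0 := by
          rw [Category.assoc, cokernel.condition, comp_zero]
    have : Epi (p₃ ≫ p₂ ≫ p₁) := by infer_instance
    rw [← cancel_epi (p₃ ≫ p₂ ≫ p₁)]
    simpa using h5
  refine { exact := ?_, mono_f := hmonoφ, epi_g := hepi }
  rw [ShortComplex.exact_iff_exact_up_to_refinements]
  intro T x hx
  dsimp at x hx ⊢
  obtain ⟨T₁, p₁, hp₁, f, hf⟩ :=
    (epi_iff_surjective_up_to_refinements (cokernel.π (a ≫ d))).1 inferInstance x
  have hfe : f ≫ e = 0 := by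
    rw [← h2, ← Category.assoc, ← hf, Category.assoc, ← Category.assoc x, hx, zero_comp, comp_zero]
  rw [ShortComplex.exact_iff_exact_up_to_refinements] at hde
  obtain ⟨T₂, p₂, hp₂, w₂, hw₂⟩ := hde f hfe
  dsimp at w₂ hw₂
  refine ⟨T₂, p₂ ≫ p₁, inferInstance, w₂ ≫ b ≫ cokernel.π (c ≫ b), ?_⟩
  rw [Category.assoc, Category.assoc, Category.assoc, h1, ← Category.assoc w₂, ← hw₂, Category.assoc, hf]

end Groth.Agent.S14498
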