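import Groth.Statements.S14499
import Groth.Agent.Lib.Helper62.IndCofInd

open Groth.Agent.Lib.Helper62.IndCofAbs Groth.Agent.Lib.Helper62.IndCofInd

set_option autoImplicit false
universe v
open IndCof

namespace Groth.Agent.S14499

open CategoryTheory CategoryTheory.Limits in
/-- Let C be a small abelian category all of whose objects are Artinian and annihilated by a positive
integer (which need not be a prime power), and let A be an ind-object of C of cofinite type, i.e.
for every n ≥ 1 the n-torsion sub-object A[n] is isomorphic to an object of C. Then A / nA is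
isomorphic to an object of C for every n ≥ 1. -/
theorem result {C : Type v} [SmallCategory C] [Abelian C]
    (hart : ∀ X : C, IsArtinianObject X)
    (htor : ∀ X : C, ∃ n : ℕ, 0 < n ∧ n • 𝟙 X = 0)
    (A : Ind C) (hA : ∀ n : ℕ, 0 < n → (Ind.yoneda (C := C)).essImage (kernel (n • 𝟙 A))) (n : ℕ) (hn : 0 < n) :
    (Ind.yoneda (C := C)).essImage (cokernel (n • 𝟙 A)) := by
  have hP := setup hart
  have hA' : ∀ k, PInd (tor A (n ^ k)) := fun k => hA (n ^ k) (Nat.pow_pos hn)
  have hT : ∀ X, PInd (C := C) X →
      ∃ k c : ℕ, n ^ k • 𝟙 X = (n ^ (k + 1) * c) • 𝟙 X := fun X hX => by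
    obtain ⟨m, hm, h0⟩ := pInd_kill htor hX
    exact torsion_hyp _ hm h0
  obtain ⟨e, he⟩ := exists_gen hP hA' hT
  exact he.coker hP (hA' e) (hA' (e + 1))

end Groth.Agent.S14499
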