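import Groth.Statements.S14505
import Mathlib

set_option autoImplicit false
universe u
open IntTh

set_option linter.unusedSectionVars false

namespace Groth.Agent.S14505Aux
open PowerSeries

variable {R : Type u} [CommRing R]

/-- geometric series inverse of `1 + a t` -/
noncomputable def G (a : R) : PowerSeries R := PowerSeries.mk (fun m => (-a) ^ m)

theorem one_add_mul_G (a : R) : (1 + C a * X) * G a = 1 := by
  ext m
  cases m with
  | zero => simp [G]
  | succ m =>
    rw [add_mul, one_mul, mul_assoc, map_add, coeff_C_mul, coeff_succ_X_mul]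
    simp only [G, coeff_mk, coeff_one, Nat.succ_ne_zero, if_false]
    ring

/-- coefficient at `a - b`, zero when negative -/
noncomputable def cz (P : PowerSeries R) (a b : ℕ) : R := if b ≤ a then coeff (a - b) P else 0

theorem cz_shift (P : PowerSeries R) (a b : ℕ) : cz P (a + 1) (b + 1) = cz P a b := by
  unfold cz
  by_cases h : b ≤ a
  · rw [if_pos h, if_pos (by omega), Nat.add_sub_add_right]
  · rw [if_neg h, if_neg (by omega)]

theorem cz_one_add_mul (a : R) (P : PowerSeries R) (m n : ℕ) :
    cz ((1 + C a * X) * P) (m + 1) n = cz P (m + 1) n + a * cz P m n := by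
  unfold cz
  by_cases h : n ≤ m
  · rw [if_pos (by omega), if_pos (by omega), if_pos h]
    have : m + 1 - n = (m - n) + 1 := by omega
    rw [this, add_mul, one_mul, mul_assoc, map_add, coeff_C_mul, coeff_succ_X_mul]
  · by_cases h' : n = m + 1
    · subst h'
      rw [if_pos le_rfl, if_pos le_rfl, if_neg (by omega)]
      simp
    · rw [if_neg (by omega), if_neg (by omega), if_neg h]; ring

variable {d : ℕ} (α : Fin d → R)

noncomputable def Ainv (i : Fin d) : PowerSeries R :=
  ∏ l : Fin d, if l ≤ i then G (α l) else 1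

theorem Ainv_zero (i : Fin d) (hi : (i : ℕ) = 0) : (1 + C (α i) * X) * Ainv α i = 1 := by
  classical
  have : Ainv α i = G (α i) := by
    unfold Ainv
    rw [Finset.prod_eq_single i]
    · simp
    · intro l _ hl
      have : ¬ l ≤ i := by
        intro h
        apply hl
        apply Fin.ext
        have : (l : ℕ) ≤ (i : ℕ) := h
        omega
      rw [if_neg this]
    · intro h; exact absurd (Finset.mem_univ _) h
  rw [this, one_add_mul_G]

theorem Ainv_succ (i i' : Fin d) (hi : (i : ℕ) = (i' : ℕ) + 1) :
    Ainv α i' = (1 + C (α i) * X) * Ainv α i := by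
  classical
  have h1 : Ainv α i = Ainv α i' * G (α i) := by
    unfold Ainv
    have : ∀ l : Fin d, (if l ≤ i then G (α l) else 1)
        = (if l ≤ i' then G (α l) else 1) * (if l = i then G (α l) else 1) := by
      intro l
      by_cases h1 : l = i
      · subst h1
        have : ¬ l ≤ i' := by
          intro h
          have : (l : ℕ) ≤ (i' : ℕ) := h
          omega
        rw [if_pos le_rfl, if_neg this, if_pos rfl, one_mul]
      · rw [if_neg h1, mul_one]
        have hne : (l : ℕ) ≠ (i : ℕ) := fun h => h1 (Fin.ext h)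
        by_cases h2 : l ≤ i
        · have : l ≤ i' := by
            have : (l : ℕ) ≤ (i : ℕ) := h2
            show (l : ℕ) ≤ (i' : ℕ)
            omega
          rw [if_pos h2, if_pos this]
        · have : ¬ l ≤ i' := by
            intro h
            apply h2
            have : (l : ℕ) ≤ (i' : ℕ) := h
            show (l : ℕ) ≤ (i : ℕ)
            omega
          rw [if_neg h2, if_neg this]
    rw [Finset.prod_congr rfl (fun l _ => this l), Finset.prod_mul_distrib,
      Finset.prod_ite_eq' Finset.univ i (fun l => G (α l))]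
    simp
  rw [h1, mul_comm (Ainv α i'), ← mul_assoc, one_add_mul_G, one_mul]

/-- the matrix -/
noncomputable def Mat (e : ℕ) (b : PowerSeries R) : Matrix (Fin d) (Fin d) R :=
  Matrix.of fun i j => cz (b * Ainv α i) (e + (j : ℕ)) (i : ℕ)

/-- the subdiagonal shift -/
def Nmat : Matrix (Fin d) (Fin d) R := Matrix.of fun i l => if (l : ℕ) + 1 = (i : ℕ) then 1 else 0

theorem Nmat_mul (M : Matrix (Fin d) (Fin d) R) (i j : Fin d) :
    ((Nmat : Matrix (Fin d) (Fin d) R) * M) i j
      = if h : 0 < (i : ℕ) then M ⟨(i : ℕ) - 1, by omega⟩ j else 0 := by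
  classical
  rw [Matrix.mul_apply]
  by_cases h : 0 < (i : ℕ)
  · rw [dif_pos h, Finset.sum_eq_single (⟨(i : ℕ) - 1, by omega⟩ : Fin d)]
    · simp only [Nmat, Matrix.of_apply]
      rw [if_pos (by show (i : ℕ) - 1 + 1 = (i : ℕ); omega), one_mul]
    · intro l _ hl
      have : ¬ ((l : ℕ) + 1 = (i : ℕ)) := by
        intro h'
        apply hl
        apply Fin.ext
        simp only
        omega
      simp only [Nmat, Matrix.of_apply, if_neg this, zero_mul]
    · intro h'; exact absurd (Finset.mem_univ _) h'
  · rw [dif_neg h]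
    apply Finset.sum_eq_zero
    intro l _
    have : ¬ ((l : ℕ) + 1 = (i : ℕ)) := by omega
    simp only [Nmat, Matrix.of_apply, if_neg this, zero_mul]

theorem Mat_step (e : ℕ) (b : PowerSeries R) (hb : ∀ m, e < m → coeff m b = 0) (β' : R) :
    Mat α (e + 1) (b * (1 + C β' * X))
      = (Matrix.diagonal (fun i => β' - α i) + Nmat) * Mat α e b := by
  ext i j
  rw [Matrix.add_mul, Matrix.add_apply, Matrix.diagonal_mul, Nmat_mul]
  have hL : Mat α (e + 1) (b * (1 + C β' * X)) i j
      = cz (b * Ainv α i) (e + (j : ℕ) + 1) (i : ℕ) + β' * cz (b * Ainv α i) (e + (j : ℕ)) (i : ℕ) := by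
    simp only [Mat, Matrix.of_apply]
    have : b * (1 + C β' * X) * Ainv α i = (1 + C β' * X) * (b * Ainv α i) := by ring
    rw [this, show e + 1 + (j : ℕ) = e + (j : ℕ) + 1 by omega, cz_one_add_mul]
  rw [hL]
  by_cases h : 0 < (i : ℕ)
  · rw [dif_pos h]
    simp only [Mat, Matrix.of_apply]
    have hs := Ainv_succ α i ⟨(i : ℕ) - 1, by omega⟩ (by simp; omega)
    rw [hs]
    have : b * ((1 + C (α i) * X) * Ainv α i) = (1 + C (α i) * X) * (b * Ainv α i) := by ring
    rw [this]
    have h2 : cz ((1 + C (α i) * X) * (b * Ainv α i)) (e + (j : ℕ)) ((i : ℕ) - 1)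
        = cz ((1 + C (α i) * X) * (b * Ainv α i)) (e + (j : ℕ) + 1) (i : ℕ) := by
      conv_rhs => rw [show (i : ℕ) = ((i : ℕ) - 1) + 1 by omega]
      rw [cz_shift]
    rw [h2, cz_one_add_mul]
    ring
  · rw [dif_neg h]
    have hi0 : (i : ℕ) = 0 := by omega
    simp only [Mat, Matrix.of_apply]
    have h0 := Ainv_zero α i hi0
    have h3 : cz ((1 + C (α i) * X) * (b * Ainv α i)) (e + (j : ℕ) + 1) (i : ℕ) = 0 := by
      have : (1 + C (α i) * X) * (b * Ainv α i) = b := by
        rw [mul_left_comm, h0, mul_one]
      rw [this, cz, hi0, if_pos (Nat.zero_le _), Nat.sub_zero]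
      exact hb _ (by omega)
    rw [cz_one_add_mul] at h3
    linear_combination h3

theorem coeff_prod_eq_zero (e : ℕ) (β : Fin e → R) (m : ℕ) (hm : e < m) :
    coeff m (∏ j : Fin e, (1 + C (β j) * X) : PowerSeries R) = 0 := by
  induction e generalizing m with
  | zero =>
    simp only [Finset.univ_eq_empty, Finset.prod_empty, coeff_one]
    rw [if_neg (by omega)]
  | succ e ih =>
    rw [Fin.prod_univ_castSucc, mul_add, mul_one, map_add, ← mul_assoc, mul_comm _ (C _),
      mul_assoc, coeff_C_mul]
    obtain ⟨m', rfl⟩ : ∃ m', m = m' + 1 := ⟨m - 1, by omega⟩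
    rw [coeff_succ_mul_X, ih _ _ (by omega), ih _ _ (by omega)]
    ring

theorem main (e : ℕ) (β : Fin e → R) :
    ∏ i : Fin d, ∏ j : Fin e, (β j - α i)
      = (Mat α e (∏ j : Fin e, (1 + C (β j) * X))).det := by
  induction e with
  | zero =>
    simp only [Finset.univ_eq_empty, Finset.prod_empty, Finset.prod_const_one]
    rw [Matrix.det_of_isUpperTriangular]
    · symm
      apply Finset.prod_eq_one
      intro i _
      simp only [Mat, Matrix.of_apply, cz, zero_add, le_refl, if_true, Nat.sub_self, one_mul]
      unfold Ainv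
      rw [PowerSeries.coeff_zero_eq_constantCoeff_apply, map_prod]
      apply Finset.prod_eq_one
      intro l _
      split_ifs
      · simp [G]
      · simp
    · intro i j hij
      have : ¬ ((i : ℕ) ≤ 0 + (j : ℕ)) := by
        have : (j : ℕ) < (i : ℕ) := hij
        omega
      simp only [Mat, Matrix.of_apply, cz, if_neg this]
  | succ e ih =>
    rw [Fin.prod_univ_castSucc (fun j : Fin (e + 1) => (1 + C (β j) * X : PowerSeries R)),
      Mat_step α e _ (coeff_prod_eq_zero e _) (β (Fin.last e)), Matrix.det_mul, ← ih,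
      Matrix.det_of_isLowerTriangular]
    · have : ∀ i : Fin d, (Matrix.diagonal (fun i => β (Fin.last e) - α i) + Nmat :
          Matrix (Fin d) (Fin d) R) i i = β (Fin.last e) - α i := by
        intro i
        simp [Nmat]
      rw [Finset.prod_congr rfl (fun i _ => this i), ← Finset.prod_mul_distrib]
      refine Finset.prod_congr rfl fun i _ => ?_
      rw [Fin.prod_univ_castSucc, mul_comm]
    · intro i j hij
      have hlt : (i : ℕ) < (j : ℕ) := hij
      have h1 : i ≠ j := fun h => by rw [h] at hlt; omega
      have h2 : ¬ ((j : ℕ) + 1 = (i : ℕ)) := by omega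
      simp [Nmat, Matrix.diagonal_apply_ne _ h1, h2]

end Groth.Agent.S14505Aux

namespace Groth.Agent.S14505

/-- Let R be a commutative ring, α₁, …, α_d, β₁, …, β_e ∈ R, b(t) = ∏ (1 + β_j t), and for k = 1, …, d
let P_k(t) = b(t)/∏_{i ≤ k} (1 + α_i t) ∈ R⟦t⟧, each factor 1 + α_i t being inverted by its
geometric series; write (P_k)_m for the coefficient of t^m, with (P_k)_m = 0 for m < 0. Then ∏_{i,j}
(β_j − α_i) = det((P_i)_{e+j−i})_{1 ≤ i,j ≤ d}, the d × d determinant whose i-th row is built from
the coefficients of the i-th partial quotient. (Rows and columns are 0-based in the formal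
statement, which does not change j − i; the row of index i inverts the factors of index at most i.
The companion form with every row built from the full quotient b/a is stated separately.) -/
theorem result (R : Type u) [CommRing R] (d e : ℕ)
    (α : Fin d → R) (β : Fin e → R) :
    ∏ i : Fin d, ∏ j : Fin e, (β j - α i) =
      (Matrix.of fun i j : Fin d =>
        if (i : ℕ) ≤ e + (j : ℕ) then
          PowerSeries.coeff (e + (j : ℕ) - (i : ℕ))
            ((∏ j : Fin e, (1 + PowerSeries.C (β j) * PowerSeries.X)) *
              ∏ l : Fin d, if l ≤ i then PowerSeries.mk (fun m => (-α l) ^ m) else 1)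
        else 0).det := by
  exact Groth.Agent.S14505Aux.main α e β

end Groth.Agent.S14505
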