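import Groth.Statements.S14509
import Mathlib.RingTheory.PowerSeries.Derivative

set_option autoImplicit false
open IntTh

set_option linter.unusedSectionVars false

namespace Groth.Agent.S14509Aux
open PowerSeries

/-- `e^{mt}` -/
noncomputable def Rm (m : ℤ) : PowerSeries ℚ := rescale (m : ℚ) (exp ℚ)

lemma Rm_add (a b : ℤ) : Rm a * Rm b = Rm (a + b) := by
  unfold Rm
  rw [exp_mul_exp_eq_exp_add]; push_cast; rfl

lemma Rm_zero : Rm 0 = 1 := by
  unfold Rm
  ext n
  rw [coeff_rescale]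
  cases n with
  | zero => simp
  | succ n => simp

lemma Rm_one : Rm 1 = exp ℚ := by
  unfold Rm
  simp

lemma derivative_Rm_neg_one : d⁄dX ℚ (Rm (-1)) = - Rm (-1) := by
  ext n
  unfold Rm
  rw [coeff_derivative, map_neg, coeff_rescale, coeff_rescale, coeff_exp, coeff_exp]
  simp only [Algebra.algebraMap_self, RingHom.id_apply, Int.cast_neg, Int.cast_one]
  rw [Nat.factorial_succ]
  have h1 : ((n : ℚ) + 1) ≠ 0 := by exact_mod_cast Nat.succ_ne_zero n
  have h2 : ((n.factorial : ℕ) : ℚ) ≠ 0 := by exact_mod_cast Nat.factorial_ne_zero n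
  push_cast
  field_simp
  ring

variable (f : PowerSeries ℚ) (hf : f * (exp ℚ - 1) = X * exp ℚ)

include hf in
lemma hT : f * (1 - Rm (-1)) = X := by
  have h1 : Rm 1 * Rm (-1) = 1 := by rw [Rm_add]; exact Rm_zero
  rw [Rm_one] at h1
  calc f * (1 - Rm (-1)) = f * (exp ℚ - 1) * Rm (-1) := by
        rw [mul_assoc, sub_mul, h1, one_mul]
    _ = X := by rw [hf, mul_assoc, h1, mul_one]

include hf in
lemma ode : f - X * d⁄dX ℚ f = Rm (-1) * f ^ 2 := by
  have h := congrArg (d⁄dX ℚ) (hT f hf)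
  rw [Derivation.leibniz, map_sub, derivative_Rm_neg_one] at h
  simp only [smul_eq_mul, Derivation.map_one_eq_zero, zero_sub, neg_neg, derivative_X] at h
  -- h : f * Rm (-1) + (1 - Rm (-1)) * f' = 1
  have h2 := hT f hf
  have : f * (f * Rm (-1) + (1 - Rm (-1)) * d⁄dX ℚ f) = f := by rw [h, mul_one]
  calc f - X * d⁄dX ℚ f = f * (f * Rm (-1) + (1 - Rm (-1)) * d⁄dX ℚ f) - X * d⁄dX ℚ f := by rw [this]
    _ = Rm (-1) * f ^ 2 + (f * (1 - Rm (-1)) - X) * d⁄dX ℚ f := by ring
    _ = _ := by rw [h2]; ring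

/-- `a(m,n)` -/
noncomputable def a (m : ℤ) (n : ℕ) : ℚ := coeff n (Rm m * f ^ (n + 1))

include hf in
lemma a_neg_one_succ (n : ℕ) : a f (-1) (n + 1) = 0 := by
  unfold a
  have h1 : Rm (-1) * f ^ (n + 1 + 1) = f ^ (n + 1) - X * (f ^ n * d⁄dX ℚ f) := by
    calc Rm (-1) * f ^ (n + 1 + 1) = f ^ n * (Rm (-1) * f ^ 2) := by ring
      _ = f ^ n * (f - X * d⁄dX ℚ f) := by rw [ode f hf]
      _ = _ := by ring
  have h2 : d⁄dX ℚ (f ^ (n + 1)) = ((n : ℚ) + 1) • (f ^ n * d⁄dX ℚ f) := by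
    rw [Derivation.leibniz_pow]
    simp only [Nat.add_sub_cancel, smul_eq_mul, nsmul_eq_mul]
    rw [Algebra.smul_def]
    push_cast
    simp
  have h3 : coeff n (f ^ n * d⁄dX ℚ f) = coeff (n + 1) (f ^ (n + 1)) := by
    have := congrArg (coeff n) h2
    rw [coeff_derivative, coeff_smul, smul_eq_mul] at this
    have h1 : ((n : ℚ) + 1) ≠ 0 := by exact_mod_cast Nat.succ_ne_zero n
    field_simp at this ⊢
    linarith
  rw [h1, map_sub, coeff_succ_X_mul, h3, sub_self]

include hf in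
lemma a_pascal (m : ℤ) (n : ℕ) : a f m (n + 1) = a f (m - 1) (n + 1) + a f m n := by
  unfold a
  have h1 : Rm m - Rm (m - 1) = Rm m * (1 - Rm (-1)) := by
    rw [mul_sub, mul_one, Rm_add]; rfl
  have h2 : Rm m * f ^ (n + 1 + 1) - Rm (m - 1) * f ^ (n + 1 + 1) = X * (Rm m * f ^ (n + 1)) := by
    calc _ = (Rm m - Rm (m - 1)) * f ^ (n + 1 + 1) := by ring
      _ = Rm m * f ^ (n + 1) * (f * (1 - Rm (-1))) := by rw [h1]; ring
      _ = _ := by rw [hT f hf]; ring
  have h3 := congrArg (coeff (n + 1)) h2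
  rw [map_sub, coeff_succ_X_mul] at h3
  linarith

include hf in
lemma a_zero (m : ℤ) : a f m 0 = 1 := by
  unfold a
  have h0 : constantCoeff f = 1 := by
    -- compare coefficients of X^1 in hf
    have h := congrArg (coeff 1) hf
    rw [show (1 : ℕ) = 0 + 1 from rfl, coeff_succ_X_mul, coeff_mul,
      Finset.Nat.sum_antidiagonal_eq_sum_range_succ_mk] at h
    simp [Finset.sum_range_succ, coeff_exp] at h
    exact h
  rw [zero_add, pow_one, coeff_zero_eq_constantCoeff_apply, map_mul, h0, mul_one]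
  unfold Rm
  rw [← coeff_zero_eq_constantCoeff_apply, coeff_rescale]
  simp

/-- target values -/
def b (m : ℤ) (n : ℕ) : ℚ := ((Ring.choose (m + n : ℤ) n : ℤ) : ℚ)

lemma b_zero (m : ℤ) : b m 0 = 1 := by
  unfold b
  rw [Ring.choose_zero_right]; simp

lemma b_neg_one_succ (n : ℕ) : b (-1) (n + 1) = 0 := by
  unfold b
  have : (-1 + ((n + 1 : ℕ) : ℤ)) = ((n : ℕ) : ℤ) := by push_cast; ring
  rw [this, Ring.choose_natCast]
  simp

lemma b_pascal (m : ℤ) (n : ℕ) : b m (n + 1) = b (m - 1) (n + 1) + b m n := by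
  unfold b
  have h1 : (m + ((n + 1 : ℕ) : ℤ)) = (m + (n : ℤ)) + 1 := by push_cast; ring
  have h2 : (m - 1 + ((n + 1 : ℕ) : ℤ)) = (m + (n : ℤ)) := by push_cast; ring
  rw [h1, h2, Ring.choose_succ_succ]
  push_cast
  ring

include hf in
theorem main (n : ℕ) : ∀ m : ℤ, a f m n = b m n := by
  induction n with
  | zero => intro m; rw [a_zero f hf, b_zero]
  | succ n ih =>
    have hstep : ∀ m : ℤ, a f m (n + 1) - b m (n + 1) = a f (m - 1) (n + 1) - b (m - 1) (n + 1) := by
      intro m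
      rw [a_pascal f hf m n, b_pascal m n, ih m]; ring
    have hbase : a f (-1) (n + 1) - b (-1) (n + 1) = 0 := by
      rw [a_neg_one_succ f hf, b_neg_one_succ, sub_self]
    have hall : ∀ m : ℤ, a f m (n + 1) - b m (n + 1) = 0 := by
      intro m
      induction m using Int.inductionOn' (b := -1) with
      | zero => exact hbase
      | succ k _ ihk =>
        rw [hstep (k + 1), add_sub_cancel_right]; exact ihk
      | pred k _ ihk =>
        rw [← hstep k]; exact ihk
    intro m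
    exact sub_eq_zero.mp (hall m)

end Groth.Agent.S14509Aux

namespace Groth.Agent.S14509

/-- Let f(t) ∈ ℚ⟦t⟧ be the Todd series, characterised by f(t)·(e^t − 1) = t·e^t, i.e. f(t) = t/(1 −
e^(−t)). Then for every m ∈ ℤ and n ∈ ℕ the coefficient of t^n in e^(mt)·f(t)^(n+1) is the binomial
coefficient C(m+n, n), understood as the polynomial (m+n)(m+n−1)⋯(m+1)/n! in m (so for all integers
m). (The published statement is the Hirzebruch–Riemann–Roch formula χ(E) = ∫ ch(E)·td for vector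
bundles on projective n-space; this row is the identity of formal power series to which its proof
reduces it for E = O(m): the degree-n part of ch(O(m))·td(P^n) = e^(mζ)(ζ/(1 − e^(−ζ)))^(n+1)
against χ(P^n, O(m)) = C(m+n, n).) -/
theorem result (f : PowerSeries ℚ)
    (hf : f * (PowerSeries.exp ℚ - 1) = PowerSeries.X * PowerSeries.exp ℚ) (m : ℤ) (n : ℕ) :
    PowerSeries.coeff n (PowerSeries.rescale (m : ℚ) (PowerSeries.exp ℚ) * f ^ (n + 1)) =
      ((Ring.choose (m + n : ℤ) n : ℤ) : ℚ) := by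
  exact Groth.Agent.S14509Aux.main f hf n m

end Groth.Agent.S14509
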