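import Groth.Statements.S14506
import Groth.Agent.S14509
import Mathlib.NumberTheory.Bernoulli
import Mathlib.Algebra.Ring.GeomSum

set_option autoImplicit false
open IntTh

set_option linter.unusedSectionVars false

namespace Groth.Agent.S14506Aux
open PowerSeries

lemma unique (f g : PowerSeries ℚ) (hf : ∀ n : ℕ, coeff n (f ^ (n + 1)) = 1)
    (hg : ∀ n : ℕ, coeff n (g ^ (n + 1)) = 1) : f = g := by
  have hf0 : constantCoeff f = 1 := by
    have := hf 0
    rwa [zero_add, pow_one, coeff_zero_eq_constantCoeff_apply] at this
  have hg0 : constantCoeff g = 1 := by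
    have := hg 0
    rwa [zero_add, pow_one, coeff_zero_eq_constantCoeff_apply] at this
  ext n
  induction n using Nat.strong_induction_on with
  | _ n ih =>
    have hdvd : (X : PowerSeries ℚ) ^ n ∣ f - g := by
      rw [X_pow_dvd_iff]
      intro k hk
      rw [map_sub, ih k hk, sub_self]
    obtain ⟨h, hh⟩ := hdvd
    set Q := ∑ i ∈ Finset.range (n + 1), f ^ i * g ^ (n + 1 - 1 - i) with hQ
    have hfact : f ^ (n + 1) - g ^ (n + 1) = X ^ n * (h * Q) := by
      rw [← (Commute.all f g).geom_sum₂_mul (n + 1), hh]; ring
    have hQ0 : constantCoeff Q = (n : ℚ) + 1 := by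
      rw [hQ, map_sum]
      simp [hf0, hg0]
    have h1 : coeff n (f ^ (n + 1) - g ^ (n + 1)) = 0 := by rw [map_sub, hf, hg, sub_self]
    rw [hfact] at h1
    have h2 : coeff n (X ^ n * (h * Q)) = coeff 0 (h * Q) := by
      have := coeff_X_pow_mul (h * Q) n 0
      rwa [zero_add] at this
    rw [h2, coeff_zero_eq_constantCoeff_apply, map_mul, hQ0] at h1
    have h3 : ((n : ℚ) + 1) ≠ 0 := by exact_mod_cast Nat.succ_ne_zero n
    have h4 : constantCoeff h = 0 := by
      rcases mul_eq_zero.mp h1 with h5 | h5
      · exact h5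
      · exact absurd h5 h3
    have h5 : coeff n (f - g) = 0 := by
      rw [hh]
      have := coeff_X_pow_mul h n 0
      rw [zero_add] at this
      rw [this, coeff_zero_eq_constantCoeff_apply, h4]
    rw [map_sub] at h5
    exact sub_eq_zero.mp h5

lemma of_todd (f : PowerSeries ℚ) (hf : f * (exp ℚ - 1) = X * exp ℚ) (n : ℕ) :
    coeff n (f ^ (n + 1)) = 1 := by
  have h := Groth.Agent.S14509.result f hf 0 n
  have h0 : rescale ((0 : ℤ) : ℚ) (exp ℚ) = 1 := by
    ext k
    rw [coeff_rescale]
    cases k with
    | zero => simp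
    | succ k => simp
  rw [h0, one_mul] at h
  rw [h]
  have : ((0 : ℤ) + (n : ℤ)) = ((n : ℕ) : ℤ) := by simp
  rw [this, Ring.choose_natCast]
  simp

end Groth.Agent.S14506Aux

namespace Groth.Agent.S14506

/-- A formal power series f(t) ∈ ℚ⟦t⟧ satisfies, for every n ≥ 0, that the coefficient of t^n in
f(t)^(n+1) is 1, if and only if f(t)·(e^t − 1) = t·e^t, that is f(t) = t/(1 − e^(−t)) = 1 + t/2 +
t²/12 − ⋯. (The published statement is the existence and uniqueness of the Todd class of vector
bundles normalised by multiplicativity, td(O) = 1 and the Riemann–Roch identity for the structure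
sheaf of every projective space; this row is the power-series fact its proof establishes: the
normalisation forces exactly these coefficient conditions on the one-variable series.) -/
theorem result (f : PowerSeries ℚ) :
    (∀ n : ℕ, PowerSeries.coeff n (f ^ (n + 1)) = 1) ↔
      f * (PowerSeries.exp ℚ - 1) = PowerSeries.X * PowerSeries.exp ℚ := by
  constructor
  · intro h
    have hB := bernoulli'PowerSeries_mul_exp_sub_one ℚ
    have := Groth.Agent.S14506Aux.unique f (bernoulli'PowerSeries ℚ) h
      (Groth.Agent.S14506Aux.of_todd _ hB)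
    rw [this]; exact hB
  · intro h n
    exact Groth.Agent.S14506Aux.of_todd f h n

end Groth.Agent.S14506
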