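import Groth.Statements.S14511
import Mathlib.Tactic

set_option autoImplicit false
universe u
open CAlgX

namespace Groth.Agent.S14511

theorem key (R : Type u) [CommRing R] (r : ℕ) (m : Fin r →₀ ℕ) (hm : ∑ j, m j ≤ r) :
    ∑ J : Finset (Fin r), (-1 : R) ^ J.card * ∏ j, (if j ∈ J then (-1 : R) else 0) ^ m j =
      if (∑ i : Fin r, Finsupp.single i 1) = m then 1 else 0 := by
  classical
  have h1 : ∀ J : Finset (Fin r), (-1 : R) ^ J.card * ∏ j, (if j ∈ J then (-1 : R) else 0) ^ m j =
      (∏ j ∈ J, (-((-1 : R) ^ m j))) * ∏ j ∈ Finset.univ \ J, (0 : R) ^ m j := by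
    intro J
    rw [← Finset.prod_sdiff (Finset.subset_univ J), ← Finset.prod_const, mul_comm (∏ j ∈ Finset.univ \ J, _),
      ← mul_assoc, ← Finset.prod_mul_distrib]
    congr 1
    · refine Finset.prod_congr rfl fun j hj => ?_
      simp [hj]
    · refine Finset.prod_congr rfl fun j hj => ?_
      have : j ∉ J := (Finset.mem_sdiff.1 hj).2
      simp [this]
  simp_rw [h1]
  have h2 := Finset.prod_add (fun j : Fin r => -((-1 : R) ^ m j)) (fun j => (0 : R) ^ m j) Finset.univ
  rw [Finset.powerset_univ] at h2
  rw [← h2]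
  split_ifs with h
  · have hm1 : ∀ j, m j = 1 := by
      intro j
      rw [← h]
      simp [Finsupp.finset_sum_apply, Finsupp.single_apply]
    simp [hm1]
  · have hex : ∃ j, m j = 0 := by
      by_contra hcon
      push_neg at hcon
      apply h
      have hge : ∀ j ∈ (Finset.univ : Finset (Fin r)), 1 ≤ m j := fun j _ => Nat.one_le_iff_ne_zero.2 (hcon j)
      have hsum : ∑ j : Fin r, 1 = ∑ j, m j := by
        apply le_antisymm (Finset.sum_le_sum hge)
        simpa using hm
      have heq := (Finset.sum_eq_sum_iff_of_le hge).1 hsum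
      ext j
      simp [Finsupp.finset_sum_apply, Finsupp.single_apply, ← heq j (Finset.mem_univ j)]
    obtain ⟨j, hj⟩ := hex
    apply Finset.prod_eq_zero (Finset.mem_univ j)
    simp [hj]

/-- Let R be a commutative ring and P ∈ R[x_1, …, x_r] a polynomial of total degree at most r. Then the
coefficient of the monomial x_1 ⋯ x_r in P equals Σ_J (−1)^{|J|} P(δ_J), the sum over all subsets J
⊆ {1, …, r} (the empty one included), where δ_J is the point with coordinate −1 at the indices in J
and 0 at the others. -/
theorem result (R : Type u) [CommRing R] (r : ℕ)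
    (P : MvPolynomial (Fin r) R) (hP : P.totalDegree ≤ r) :
    MvPolynomial.coeff (∑ i : Fin r, Finsupp.single i 1) P =
      ∑ J : Finset (Fin r), (-1 : R) ^ J.card * MvPolynomial.eval (fun j => if j ∈ J then (-1 : R) else 0) P := by
  classical
  simp_rw [MvPolynomial.eval_eq', Finset.mul_sum]
  rw [Finset.sum_comm]
  have h1 : ∀ d ∈ P.support, ∑ J : Finset (Fin r), (-1 : R) ^ J.card *
      (MvPolynomial.coeff d P * ∏ i, (if i ∈ J then (-1 : R) else 0) ^ d i) =
      MvPolynomial.coeff d P * (if (∑ i : Fin r, Finsupp.single i 1) = d then 1 else 0) := by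
    intro d hd
    have hdeg : ∑ j, d j ≤ r := by
      have := MvPolynomial.le_totalDegree hd
      rw [Finsupp.sum_fintype _ _ (fun _ => rfl)] at this
      exact this.trans hP
    rw [← key R r d hdeg, Finset.mul_sum]
    refine Finset.sum_congr rfl fun J _ => ?_
    ring
  rw [Finset.sum_congr rfl h1]
  simp only [mul_ite, mul_one, mul_zero]
  rw [Finset.sum_ite_eq]
  split_ifs with h
  · rfl
  · exact MvPolynomial.notMem_support_iff.1 h

end Groth.Agent.S14511
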