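import Groth.Statements.S14514
import Groth.Agent.Lib.Helper72.FibDim

set_option autoImplicit false
universe u
open CategoryTheory CategoryTheory.Limits AlgebraicGeometry
open Variety
open Groth.Agent.Lib.Helper73 Groth.Agent.Lib.Helper72.FibDim

namespace Groth.Agent.S14514

/-- Let k be an algebraically closed field and f : X → Y a morphism of algebraic varieties over k (X, Y
reduced, separated and of finite type over k) such that Y is irreducible and the image f(X) is dense
in Y. Then X contains an irreducible closed subset Z with dim Z = dim Y such that f(Z) is dense in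
Y. -/
theorem result (k : Type u) [Field k] [IsAlgClosed k]
    (X Y : Scheme.{u}) [X.Over (Spec (CommRingCat.of k))] [Y.Over (Spec (CommRingCat.of k))]
    [IsReduced X] [IsSeparated (X ↘ (Spec (CommRingCat.of k)))] [LocallyOfFiniteType (X ↘ (Spec (CommRingCat.of k)))] [QuasiCompact (X ↘ (Spec (CommRingCat.of k)))]
    [IsReduced Y] [IsSeparated (Y ↘ (Spec (CommRingCat.of k)))] [LocallyOfFiniteType (Y ↘ (Spec (CommRingCat.of k)))] [QuasiCompact (Y ↘ (Spec (CommRingCat.of k)))] [IrreducibleSpace Y]
    (f : X ⟶ Y) (hf : f ≫ (Y ↘ (Spec (CommRingCat.of k))) = (X ↘ (Spec (CommRingCat.of k)))) [IsDominant f] :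
    ∃ Z : Set X, IsClosed Z ∧ IsIrreducible Z ∧ topologicalKrullDim ↥Z = topologicalKrullDim Y ∧
      Dense (f '' Z) := by
  have hfT : LocallyOfFiniteType f := locallyOfFiniteType_of_comp_eq _ _ f hf
  have hfQ : QuasiCompact f := quasiCompact_of_ft (X ↘ (Spec (CommRingCat.of k)))
    (Y ↘ (Spec (CommRingCat.of k))) f
  have hηmax : ∀ t : Y, t ⤳ genericPoint Y → t = genericPoint Y :=
    fun t ht => eq_genericPoint_of_specializes t ht
  obtain ⟨x, hx⟩ := mem_range_of_maximal (Y ↘ (Spec (CommRingCat.of k))) f
    (Scheme.Hom.denseRange f) (genericPoint Y) hηmax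
  obtain ⟨x0, hx0, -, h0⟩ := exists_resTrdeg_eq_zero f x
  rw [hx] at hx0
  have h0' : resTrdegNat f x0 = 0 := by
    rw [resTrdeg_eq_resTrdegNat] at h0
    exact_mod_cast h0
  refine ⟨closure {x0}, isClosed_closure, isIrreducible_singleton.closure, ?_, ?_⟩
  · rw [(isDimFun_trdegNat (X ↘ (Spec (CommRingCat.of k)))).topologicalKrullDim_closure_singleton x0,
      topologicalKrullDim_eq_trdegNat_genericPoint (Y ↘ (Spec (CommRingCat.of k))),
      trdegNat_eq_add _ _ f hf x0, hx0, h0', add_zero]
    rfl
  · intro y
    have h1 : genericPoint Y ∈ f '' closure {x0} := ⟨x0, subset_closure rfl, hx0⟩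
    exact closure_mono (Set.singleton_subset_iff.mpr h1)
      (specializes_iff_mem_closure.mp (genericPoint_specializes y))

end Groth.Agent.S14514
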