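import Groth.Statements.S14519
import Mathlib
import Groth.Agent.Lib.Helper93.Birat
import Groth.Agent.Lib.Helper93.PropBirat2
import Groth.Agent.Lib.Helper93.PropBirat3

set_option autoImplicit false
universe u
open CategoryTheory CategoryTheory.Limits AlgebraicGeometry
open Curves

namespace Groth.Agent.S14519

/-- Let k be an algebraically closed field and f : X → Y a birational morphism over k between smooth
curves (X, Y integral, separated, of finite type and smooth over k, of dimension one; f sends the
generic point of X to that of Y and the induced map of function fields K(Y) → K(X) is bijective).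
Then f is an open immersion. -/
theorem result (k : Type u) [Field k] [IsAlgClosed k]
    (X Y : Scheme.{u}) [X.Over (Spec (CommRingCat.of k))] [Y.Over (Spec (CommRingCat.of k))]
    [IsIntegral X] [IsSeparated (X ↘ (Spec (CommRingCat.of k)))] [LocallyOfFiniteType (X ↘ (Spec (CommRingCat.of k)))] [QuasiCompact (X ↘ (Spec (CommRingCat.of k)))] [Smooth (X ↘ (Spec (CommRingCat.of k)))] (hdimX : topologicalKrullDim X = 1)
    [IsIntegral Y] [IsSeparated (Y ↘ (Spec (CommRingCat.of k)))] [LocallyOfFiniteType (Y ↘ (Spec (CommRingCat.of k)))] [QuasiCompact (Y ↘ (Spec (CommRingCat.of k)))] [Smooth (Y ↘ (Spec (CommRingCat.of k)))] (hdimY : topologicalKrullDim Y = 1)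
    (f : X ⟶ Y) (hf : f ≫ (Y ↘ (Spec (CommRingCat.of k))) = (X ↘ (Spec (CommRingCat.of k))))
    (e : f (genericPoint X) = genericPoint Y)
    (hbir : Function.Bijective (Y.presheaf.stalkSpecializes (specializes_of_eq e) ≫ f.stalkMap (genericPoint X)).hom) :
    IsOpenImmersion f := by
  have hsep : X.IsSeparated :=
    (HasAffineProperty.iff_of_isAffine (P := @IsSeparated)
      (f := (X ↘ (Spec (CommRingCat.of k))))).mp inferInstance
  have hlfp : LocallyOfFinitePresentation f := by
    have : LocallyOfFinitePresentation (f ≫ (Y ↘ (Spec (CommRingCat.of k)))) := by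
      rw [hf]; infer_instance
    exact Groth.Agent.Lib.Helper93.Birat.locallyOfFinitePresentation_of_comp f
      (Y ↘ (Spec (CommRingCat.of k)))
  exact Groth.Agent.Lib.Helper93.PropBirat2.isOpenImmersion_of_valuationRing f e hbir
    (fun y => Groth.Agent.Lib.Helper93.PropBirat3.valuationRing_stalk_of_smooth_curve k
      (Y ↘ (Spec (CommRingCat.of k))) hdimY.le y)

end Groth.Agent.S14519
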