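import Groth.Statements.S1452
import Groth.Agent.Lib.Helper87.UnramGlobal
import Groth.Agent.Lib.Helper46.FppfSourceSm

set_option autoImplicit false
universe u
open FlatMor

namespace Groth.Agent.S1452

open AlgebraicGeometry CategoryTheory Limits in
/-- Let f : X → Y and g : Y → Z with Y integral and the local ring of Y at y = f x geometrically
unibranch; assume g ∘ f is étale on an open neighbourhood of x and some generization of x maps to
the generic point of Y. Then f is étale on an open neighbourhood of x and g is étale on an open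
neighbourhood of y. -/
theorem result {X Y Z : Scheme.{u}} (f : X ⟶ Y) (g : Y ⟶ Z) [IsIntegral Y] (x : X)
    (hY : CAlg2.IsGeomUnibranch (Y.presheaf.stalk (f x))) (het : ∃ U : X.Opens, x ∈ U ∧ Etale (U.ι ≫ f ≫ g))
    (hsp : ∃ x' : X, x' ⤳ x ∧ f x' = genericPoint ↑Y) :
    (∃ U : X.Opens, x ∈ U ∧ Etale (U.ι ≫ f)) ∧ ∃ V : Y.Opens, f x ∈ V ∧ Etale (V.ι ≫ g) := by
  obtain ⟨U, hxU, hU⟩ := het
  obtain ⟨x', hsp', hx'⟩ := hsp
  have hx'U : x' ∈ U := hsp'.mem_open U.2 hxU
  -- the restriction of `f` to `U`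
  have hE : Etale ((U.ι ≫ f) ≫ g) := by
    rw [Category.assoc]
    exact hU
  haveI := hE
  haveI : LocallyOfFiniteType (U.ι ≫ f) := locallyOfFiniteType_of_comp (U.ι ≫ f) g
  haveI : FormallyUnramified (U.ι ≫ f) := FormallyUnramified.of_comp (U.ι ≫ f) g
  have hspU : (⟨x', hx'U⟩ : U) ⤳ (⟨x, hxU⟩ : U) := by
    exact (Topology.IsInducing.subtypeVal.specializes_iff).mp hsp'
  obtain ⟨U', hxU', hU'⟩ := Groth.Agent.Lib.Helper87.UnramGlobal.exists_nhd_etale_of_generization
    (U.ι ≫ f) (⟨x, hxU⟩ : U) hY ⟨⟨x', hx'U⟩, hspU, hx'⟩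
    ⟨⊤, trivial, IsZariskiLocalAtSource.comp (inferInstance : FormallyUnramified (U.ι ≫ f)) _⟩
  haveI := hU'
  constructor
  · refine ⟨U.ι ''ᵁ U', ⟨⟨x, hxU⟩, hxU', rfl⟩, ?_⟩
    have h1 : (U.ι ''ᵁ U').ι = (U.ι.isoImage U').inv ≫ U'.ι ≫ U.ι :=
      (Scheme.Hom.isoImage_inv_ι U.ι U').symm
    rw [h1, Category.assoc, Category.assoc, MorphismProperty.cancel_left_of_respectsIso @Etale]
    exact hU'
  · -- the image of `U'` in `Y`
    set e0 : (U' : Scheme.{u}) ⟶ Y := U'.ι ≫ U.ι ≫ f with he0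
    let V : Y.Opens := ⟨Set.range e0.base, e0.isOpenMap.isOpen_range⟩
    have hrange : Set.range e0.base ⊆ Set.range V.ι.base := by
      rw [Scheme.Opens.range_ι]
      exact le_rfl
    let e : (U' : Scheme.{u}) ⟶ V := IsOpenImmersion.lift V.ι e0 hrange
    have hfac : e ≫ V.ι = e0 := IsOpenImmersion.lift_fac V.ι e0 hrange
    haveI hee : Etale e := by
      refine MorphismProperty.of_postcomp (W := @Etale) (W' := @IsOpenImmersion) e V.ι
        inferInstance ?_
      rw [hfac]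
      exact hU'
    haveI : Surjective e := by
      constructor
      rintro ⟨y, ⟨u, rfl⟩⟩
      refine ⟨u, ?_⟩
      apply V.ι.injective
      rw [← Scheme.Hom.comp_apply, hfac]
      rfl
    refine ⟨V, ⟨⟨⟨x, hxU⟩, hxU'⟩, rfl⟩, ?_⟩
    haveI : Etale (e ≫ V.ι ≫ g) := by
      rw [← Category.assoc, hfac, he0]
      have h2 : (U'.ι ≫ U.ι ≫ f) ≫ g = U'.ι ≫ (U.ι ≫ f) ≫ g := by
        simp only [Category.assoc]
      rw [h2]
      infer_instance
    exact Groth.Agent.Lib.Helper46.FppfSourceSch.etale_of_fppf_surjective_comp e (V.ι ≫ g)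

end Groth.Agent.S1452
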