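import Groth.Statements.S14547
import Groth.Statements.S14547
import Groth.Agent.Lib.Helper93.TorsorPts
import Groth.Prelude.Def_ActBC
import Mathlib.AlgebraicGeometry.Morphisms.FlatDescent

set_option autoImplicit false
universe u
open CategoryTheory MonoidalCategory CartesianMonoidalCategory MonObj GrpObj AlgebraicGeometry
open PrincBund

namespace Groth.Agent.S14547

section Aux
open CategoryTheory MonoidalCategory CartesianMonoidalCategory MonObj GrpObj AlgebraicGeometry
open PrincBund Limits


/-- descent of isomorphisms in `Over X` along an fpqc base change -/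
lemma isIso_of_isIso_pullback_map {X X' : Scheme.{u}} (f : X' ⟶ X)
    [Flat f] [Surjective f] [QuasiCompact f] {A B : Over X} (ψ : A ⟶ B)
    (h : IsIso ((Over.pullback f).map ψ)) : IsIso ψ := by
  suffices hl : IsIso ψ.left by
    haveI : IsIso ((Over.forget X).map ψ) := hl
    exact isIso_of_reflects_iso ψ (Over.forget X)
  have hl' : IsIso ((Over.pullback f).map ψ).left :=
    inferInstanceAs <| IsIso ((Over.forget X').map ((Over.pullback f).map ψ))
  have e1 : ((Over.pullback f).map ψ).left ≫ pullback.snd B.hom f = pullback.snd A.hom f :=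
    pullback.lift_snd _ _ _
  have e2 : ((Over.pullback f).map ψ).left ≫ pullback.fst B.hom f =
      pullback.fst A.hom f ≫ ψ.left := pullback.lift_fst _ _ _
  have sq : IsPullback ((Over.pullback f).map ψ).left (pullback.fst A.hom f)
      (pullback.fst B.hom f) ψ.left := by
    refine IsPullback.of_right (h₁₂ := pullback.snd B.hom f) (h₂₂ := B.hom) (v₁₃ := f) ?_ e2
      (IsPullback.of_hasPullback _ _).flip
    rw [e1, Over.w ψ]
    exact (IsPullback.of_hasPullback _ _).flip
  have hQ : (@Surjective ⊓ @Flat ⊓ @QuasiCompact : MorphismProperty Scheme.{u})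
      (pullback.fst B.hom f) := ⟨⟨inferInstance, inferInstance⟩, inferInstance⟩
  exact MorphismProperty.of_isPullback_of_descendsAlong
    (P := MorphismProperty.isomorphisms Scheme.{u})
    (Q := @Surjective ⊓ @Flat ⊓ @QuasiCompact) sq hQ hl'

theorem main {X X' : Scheme.{u}} (f : X' ⟶ X)
    [Flat f] [Surjective f] [QuasiCompact f]
    {J P : Over X} [GrpObj J] (a : AlgGrp.Action J P)
    (a' : AlgGrp.Action (Red.bc f J) (Red.bc f P))
    (ha' : Functor.LaxMonoidal.μ (Over.pullback f) J P ≫ (Over.pullback f).map a.act = a'.act) :
    NonAbH1.IsTorsorFor Scheme.fpqcPrecoverage a ↔ NonAbH1.IsTorsorFor Scheme.fpqcPrecoverage a' := by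
  have hbc : a' = a.bc f := AlgGrp.Action.ext' (by rw [AlgGrp.Action.bc_act, ha'])
  subst hbc
  constructor
  · exact NonAbH1.isTorsorFor_bc f _
  · rintro ⟨hps, hlt⟩
    constructor
    · -- pseudo-torsor descends
      have key : lift (a.bc f).act (snd _ _) ≫ Functor.LaxMonoidal.μ (Over.pullback f) P P =
          Functor.LaxMonoidal.μ (Over.pullback f) J P ≫
            (Over.pullback f).map (lift a.act (snd J P)) := by
        rw [← Functor.Monoidal.lift_μ, comp_lift_assoc, Functor.Monoidal.μ_snd,
          AlgGrp.Action.bc_act]
      have h1 : IsIso (lift (a.bc f).act (snd _ _)) := hps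
      have h2 : IsIso (Functor.LaxMonoidal.μ (Over.pullback f) J P ≫
            (Over.pullback f).map (lift a.act (snd J P))) := by
        rw [← key]; infer_instance
      have h3 : IsIso ((Over.pullback f).map (lift a.act (snd J P))) :=
        IsIso.of_isIso_comp_left (Functor.LaxMonoidal.μ (Over.pullback f) J P) _
      exact isIso_of_isIso_pullback_map f _ h3
    · -- local triviality descends
      have h₂ : NonAbH1.IsLocallyTrivialFor Scheme.fpqcPrecoverage (Over.mk f) :=
        ⟨Presieve.singleton f, f.singleton_mem_fpqcPrecoverage, by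
          rintro S' g ⟨⟩
          exact ⟨𝟙 _, Category.id_comp _⟩⟩
      have h₁ : NonAbH1.IsLocallyTrivialFor Scheme.fpqcPrecoverage (Over.mk (Red.bc f P).hom) :=
        hlt
      obtain ⟨R, hR, hs⟩ := Groth.Agent.Lib.Helper93.TorsorPts.isLocallyTrivialFor_comp
        Scheme.fpqcPrecoverage _ f h₁ h₂
      refine ⟨R, hR, fun S' g hg => ?_⟩
      obtain ⟨s, hs'⟩ := hs g hg
      refine ⟨s ≫ pullback.fst P.hom f, ?_⟩
      rw [Category.assoc, pullback.condition]
      exact hs'


end Aux

/-- Let f : X' → X be a faithfully flat quasi-compact morphism of schemes, J a group scheme affine over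
X with an action a on an X-scheme P, and a' the induced action of the base change J' = J ×_X X' on
P' = P ×_X X'. Then P with a is a J-torsor for the fpqc topology if and only if P' with a' is a
J'-torsor for the fpqc topology. (The published statement allows any morphism X' → X that is
covering for the fpqc topology, and an action of a pregroupoid; this row is the case of a faithfully
flat quasi-compact X' → X and the trivial pregroupoid.) -/
theorem result {X X' : Scheme.{u}} (f : X' ⟶ X)
    [Flat f] [Surjective f] [QuasiCompact f]
    {J P : Over X} [GrpObj J] [IsAffineHom J.hom] (a : AlgGrp.Action J P)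
    (a' : AlgGrp.Action (Red.bc f J) (Red.bc f P))
    (ha' : Functor.LaxMonoidal.μ (Over.pullback f) J P ≫ (Over.pullback f).map a.act = a'.act) :
    NonAbH1.IsTorsorFor Scheme.fpqcPrecoverage a ↔ NonAbH1.IsTorsorFor Scheme.fpqcPrecoverage a' := by
  exact main f a a' ha'

end Groth.Agent.S14547
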