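import Groth.Statements.S14577
import Mathlib

set_option autoImplicit false
universe u
open CategoryTheory MonoidalCategory CartesianMonoidalCategory MonObj GrpObj AlgebraicGeometry CategoryTheory.Limits
open AlgGrp

namespace Groth.Agent.S14577

section helpers
open CategoryTheory MonoidalCategory CartesianMonoidalCategory AlgebraicGeometry CategoryTheory.Limits


/-- two morphisms to a separated scheme agreeing on a scheme-theoretically dominant morphism. -/
theorem ext_of_std {P Z S D : Scheme.{u}} (f g : P ⟶ Z) (s : Z ⟶ S) [IsSeparated s]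
    (h : f ≫ s = g ≫ s) (d : D ⟶ P) [IsSchemeTheoreticallyDominant d] (hd : d ≫ f = d ≫ g) :
    f = g := by
  let X' : Over S := Over.mk (f ≫ s)
  let Y' : Over S := Over.mk s
  let U' : Over S := Over.mk (d ≫ f ≫ s)
  let f' : X' ⟶ Y' := Over.homMk f
  let g' : X' ⟶ Y' := Over.homMk g
  let jj : U' ⟶ X' := Over.homMk d
  have : IsSeparated Y'.hom := ‹_›
  have hlift : (equalizer.lift jj (show jj ≫ f' = jj ≫ g' by ext1; exact hd)).left ≫
      (equalizer.ι f' g').left = d := by
    rw [← Over.comp_left, equalizer.lift_ι]; rfl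
  have hker : (equalizer.ι f' g').left.ker = ⊥ := by
    rw [← le_bot_iff, ← d.ker_eq_bot, ← hlift]
    exact Scheme.Hom.le_ker_comp _ _
  have := IsClosedImmersion.isIso_iff_ker_eq_bot.mpr hker
  rw [← cancel_epi (equalizer.ι f' g').left]
  exact congr($(equalizer.condition f' g').left)


/-- two morphisms from an affine scheme to a separated scheme agreeing on a jointly
"injective" family of affine schemes are equal. -/
theorem ext_of_family {R : CommRingCat.{u}} {Z S : Scheme.{u}} (a b : Spec R ⟶ Z) (s : Z ⟶ S)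
    [IsSeparated s] (h : a ≫ s = b ≫ s) {idx : Type*} (R' : idx → CommRingCat.{u})
    (φ : ∀ n, R ⟶ R' n) (hφ : ∀ n, Spec.map (φ n) ≫ a = Spec.map (φ n) ≫ b)
    (hinj : ∀ ξ : R, (∀ n, φ n ξ = 0) → ξ = 0) : a = b := by
  let X' : Over S := Over.mk (a ≫ s)
  let Y' : Over S := Over.mk s
  let f' : X' ⟶ Y' := Over.homMk a
  let g' : X' ⟶ Y' := Over.homMk b
  have : IsSeparated Y'.hom := ‹_›
  let e := (equalizer.ι f' g').left
  have hlift : ∀ n, ∃ l : Spec (R' n) ⟶ (equalizer f' g').left, l ≫ e = Spec.map (φ n) := by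
    intro n
    let U' : Over S := Over.mk (Spec.map (φ n) ≫ a ≫ s)
    let jj : U' ⟶ X' := Over.homMk (Spec.map (φ n))
    refine ⟨(equalizer.lift jj (show jj ≫ f' = jj ≫ g' by ext1; exact hφ n)).left, ?_⟩
    rw [← Over.comp_left, equalizer.lift_ι]; rfl
  have hinj' : Function.Injective e.appTop := by
    rw [injective_iff_map_eq_zero]
    intro ξ hξ
    have h0 : ∀ n, φ n ((Scheme.ΓSpecIso R).hom ξ) = 0 := by
      intro n
      obtain ⟨l, hl⟩ := hlift n
      have h1 : (Spec.map (φ n)).appTop ξ = 0 := by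
        rw [← hl, Scheme.Hom.comp_appTop, CommRingCat.comp_apply, hξ, map_zero]
      have h2 := congrArg (fun m => m ξ) (Scheme.ΓSpecIso_naturality (φ n))
      simp only [CommRingCat.comp_apply] at h2
      rw [← h2, h1, map_zero]
    have h3 := hinj _ h0
    have h4 : Function.Injective (Scheme.ΓSpecIso R).hom :=
      (ConcreteCategory.bijective_of_isIso _).injective
    exact h4 (by rw [h3, map_zero])
  haveI : IsAffine X'.left := inferInstanceAs (IsAffine (Spec R))
  have := IsClosedImmersion.isIso_of_injective_of_isAffine (f := e) hinj'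
  rw [← cancel_epi e]
  exact congr($(equalizer.condition f' g').left)

section alg
open TensorProduct

theorem alg1_aux {k : Type u} [Field k] (B A : Type u) [CommRing B] [Algebra k B] [CommRing A]
    [Algebra k A] {idx : Type*} (J : idx → Ideal A) (hJ : ⨅ n, J n = ⊥) (ζ : A ⊗[k] B)
    (h : ∀ n, Algebra.TensorProduct.map (Ideal.Quotient.mkₐ k (J n)) (AlgHom.id k B) ζ = 0) :
    ζ = 0 := by
  let b := Module.Free.chooseBasis k B
  let β := Algebra.TensorProduct.basis A b
  have claim : ∀ (n : idx) (ζ : A ⊗[k] B) i, (Algebra.TensorProduct.basis (A ⧸ J n) b).repr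
      (Algebra.TensorProduct.map (Ideal.Quotient.mkₐ k (J n)) (AlgHom.id k B) ζ) i =
      Ideal.Quotient.mk (J n) (β.repr ζ i) := by
    intro n ζ i
    induction ζ using TensorProduct.induction_on with
    | zero => simp
    | tmul a c =>
      simp only [Algebra.TensorProduct.map_tmul, AlgHom.coe_id, id_eq, β,
        Algebra.TensorProduct.basis_repr_tmul, Finsupp.smul_apply, Finsupp.mapRange_apply,
        smul_eq_mul, map_mul, Ideal.Quotient.mkₐ_eq_mk]
      rfl
    | add x y hx hy =>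
      simp only [map_add, Finsupp.add_apply, hx, hy]
  apply β.repr.injective
  ext i
  rw [map_zero, Finsupp.zero_apply]
  have hi : β.repr ζ i ∈ ⨅ n, J n := by
    rw [Ideal.mem_iInf]
    intro n
    rw [← Ideal.Quotient.eq_zero_iff_mem, ← claim n ζ i, h n, map_zero, Finsupp.zero_apply]
  rwa [hJ, Ideal.mem_bot] at hi

theorem alg1 {k : Type u} [Field k] (B A : Type u) [CommRing B] [Algebra k B] [CommRing A]
    [Algebra k A] {idx : Type*} (J : idx → Ideal A) (hJ : ⨅ n, J n = ⊥) (ξ : B ⊗[k] A)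
    (h : ∀ n, Algebra.TensorProduct.map (AlgHom.id k B) (Ideal.Quotient.mkₐ k (J n)) ξ = 0) :
    ξ = 0 := by
  have key : ∀ (n : idx) (ξ : B ⊗[k] A),
      Algebra.TensorProduct.map (Ideal.Quotient.mkₐ k (J n)) (AlgHom.id k B)
        (Algebra.TensorProduct.comm k B A ξ) =
      Algebra.TensorProduct.comm k B (A ⧸ J n)
        (Algebra.TensorProduct.map (AlgHom.id k B) (Ideal.Quotient.mkₐ k (J n)) ξ) := by
    intro n ξ
    induction ξ using TensorProduct.induction_on with
    | zero => simp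
    | tmul a c => simp
    | add x y hx hy => simp only [map_add, hx, hy]
  have := alg1_aux B A J hJ (Algebra.TensorProduct.comm k B A ξ) (fun n => by
    rw [key, h n, map_zero])
  exact (Algebra.TensorProduct.comm k B A).injective (by rw [this, map_zero])

end alg

section chart
open TensorProduct

theorem chart_ext {k : Type u} [Field k] {B O : CommRingCat.{u}}
    (u : Spec B ⟶ Spec (CommRingCat.of k)) (v : Spec O ⟶ Spec (CommRingCat.of k))
    {idx : Type*} (J : idx → Ideal O) (hJ : ⨅ n, J n = ⊥) {Z S' : Scheme.{u}} (s : Z ⟶ S')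
    [IsSeparated s] (a b : pullback u v ⟶ Z) (h : a ≫ s = b ≫ s)
    (hn : ∀ n, pullback.map u (Spec.map (CommRingCat.ofHom (Ideal.Quotient.mk (J n))) ≫ v) u v
        (𝟙 _) (Spec.map (CommRingCat.ofHom (Ideal.Quotient.mk (J n)))) (𝟙 _)
        (by simp) (by simp) ≫ a =
      pullback.map u (Spec.map (CommRingCat.ofHom (Ideal.Quotient.mk (J n))) ≫ v) u v
        (𝟙 _) (Spec.map (CommRingCat.ofHom (Ideal.Quotient.mk (J n)))) (𝟙 _)
        (by simp) (by simp) ≫ b) : a = b := by
  obtain ⟨φB, rfl⟩ : ∃ φ, Spec.map φ = u := ⟨Spec.preimage u, Spec.map_preimage u⟩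
  obtain ⟨φO, rfl⟩ : ∃ φ, Spec.map φ = v := ⟨Spec.preimage v, Spec.map_preimage v⟩
  letI : Algebra k B := φB.hom.toAlgebra
  letI : Algebra k O := φO.hom.toAlgebra
  let e : pullback (Spec.map φB) (Spec.map φO) ≅ Spec (.of <| B ⊗[k] O) := pullbackSpecIso k B O
  rw [← cancel_epi e.inv]
  refine ext_of_family (e.inv ≫ a) (e.inv ≫ b) s (by rw [Category.assoc, Category.assoc, h])
    (fun n => CommRingCat.of (B ⊗[k] (O ⧸ J n)))
    (fun n => CommRingCat.ofHom (Algebra.TensorProduct.map (AlgHom.id k B)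
      (Ideal.Quotient.mkₐ k (J n))).toRingHom) ?_ ?_
  · intro n
    let q : O ⟶ CommRingCat.of (O ⧸ J n) := CommRingCat.ofHom (Ideal.Quotient.mk (J n))
    let en : pullback (Spec.map φB) (Spec.map (CommRingCat.ofHom (algebraMap k (O ⧸ J n)))) ≅
      Spec (.of <| B ⊗[k] (O ⧸ J n)) := pullbackSpecIso k B (O ⧸ J n)
    have hq : Spec.map (CommRingCat.ofHom (algebraMap k (O ⧸ J n))) = Spec.map q ≫ Spec.map φO := by
      rw [← Spec.map_comp]; rfl
    let θ : pullback (Spec.map φB) (Spec.map (CommRingCat.ofHom (algebraMap k (O ⧸ J n)))) ⟶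
        pullback (Spec.map φB) (Spec.map q ≫ Spec.map φO) :=
      pullback.map _ _ _ _ (𝟙 _) (𝟙 _) (𝟙 _) (by simp) (by simp [hq])
    let jn := pullback.map (Spec.map φB) (Spec.map q ≫ Spec.map φO) (Spec.map φB) (Spec.map φO)
        (𝟙 _) (Spec.map q) (𝟙 _) (by simp) (by simp)
    have e1 : e.inv ≫ pullback.fst (Spec.map φB) (Spec.map φO) =
        Spec.map (CommRingCat.ofHom Algebra.TensorProduct.includeLeftRingHom) :=
      pullbackSpecIso_inv_fst k B O
    have e2 : e.inv ≫ pullback.snd (Spec.map φB) (Spec.map φO) =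
        Spec.map (CommRingCat.ofHom (R := O) (S := B ⊗[k] O)
          (RingHomClass.toRingHom Algebra.TensorProduct.includeRight)) :=
      pullbackSpecIso_inv_snd k B O
    have e1n : en.inv ≫ pullback.fst (Spec.map φB)
        (Spec.map (CommRingCat.ofHom (algebraMap k (O ⧸ J n)))) =
        Spec.map (CommRingCat.ofHom Algebra.TensorProduct.includeLeftRingHom) :=
      pullbackSpecIso_inv_fst k B (O ⧸ J n)
    have e2n : en.inv ≫ pullback.snd (Spec.map φB)
        (Spec.map (CommRingCat.ofHom (algebraMap k (O ⧸ J n)))) =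
        Spec.map (CommRingCat.ofHom (R := (O ⧸ J n)) (S := B ⊗[k] (O ⧸ J n))
          (RingHomClass.toRingHom Algebra.TensorProduct.includeRight)) :=
      pullbackSpecIso_inv_snd k B (O ⧸ J n)
    have t1 : θ ≫ jn ≫ pullback.fst (Spec.map φB) (Spec.map φO) = pullback.fst _ _ := by
      simp only [θ, jn, pullback.map]
      rw [pullback.lift_fst, ← Category.assoc, pullback.lift_fst, Category.comp_id, Category.comp_id]
    have t2 : θ ≫ jn ≫ pullback.snd (Spec.map φB) (Spec.map φO) = pullback.snd _ _ ≫ Spec.map q := by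
      simp only [θ, jn, pullback.map]
      rw [pullback.lift_snd, ← Category.assoc, pullback.lift_snd, Category.comp_id]
    have key : Spec.map (CommRingCat.ofHom (Algebra.TensorProduct.map (AlgHom.id k B)
        (Ideal.Quotient.mkₐ k (J n))).toRingHom) ≫ e.inv = en.inv ≫ θ ≫ jn := by
      apply pullback.hom_ext
      · rw [Category.assoc, Category.assoc, Category.assoc, t1, e1, e1n, ← Spec.map_comp]
        congr 1
      · rw [Category.assoc, Category.assoc, Category.assoc, t2, e2, ← Category.assoc en.inv, e2n,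
          ← Spec.map_comp, ← Spec.map_comp]
        congr 1
    rw [← Category.assoc, ← Category.assoc, key]
    simp only [Category.assoc]
    rw [hn n]
  · intro ξ hξ
    exact alg1 B O J hJ ξ hξ

end chart

section

variable {k : Type u} [Field k]

/-- the comparison morphism `(x, y) ↦ f (x₀, y)`. -/
noncomputable def gmor (X Y Z : Over (Spec (CommRingCat.of k))) (f : X ⊗ Y ⟶ Z)
    (x₀ : 𝟙_ (Over (Spec (CommRingCat.of k))) ⟶ X) : X ⊗ Y ⟶ Z :=
  snd X Y ≫ lift (toUnit Y ≫ x₀) (𝟙 Y) ≫ f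

/-- `f` and `gmor` agree on `X × T`. -/
def Agr (X Y Z : Over (Spec (CommRingCat.of k))) (f : X ⊗ Y ⟶ Z)
    (x₀ : 𝟙_ (Over (Spec (CommRingCat.of k))) ⟶ X) {T : Over (Spec (CommRingCat.of k))}
    (t : T ⟶ Y) : Prop :=
  (X ◁ t) ≫ f = (X ◁ t) ≫ gmor X Y Z f x₀

theorem Agr.comp {X Y Z : Over (Spec (CommRingCat.of k))} {f : X ⊗ Y ⟶ Z}
    {x₀ : 𝟙_ (Over (Spec (CommRingCat.of k))) ⟶ X} {T T' : Over (Spec (CommRingCat.of k))}
    {t : T ⟶ Y} (h : Agr X Y Z f x₀ t) (s : T' ⟶ T) : Agr X Y Z f x₀ (s ≫ t) := by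
  unfold Agr at h ⊢
  rw [MonoidalCategory.whiskerLeft_comp, Category.assoc, Category.assoc, h]

theorem isIso_presheaf_map {X : Scheme.{u}} {U V : X.Opens} (h1 : U ≤ V) (h2 : V ≤ U) :
    IsIso (X.presheaf.map (homOfLE h1).op) := by
  have : IsIso (homOfLE h1) := ⟨homOfLE h2, rfl, rfl⟩
  infer_instance

/-- flat base change for global sections: if `O(X) = k` then `O(X ×_k T) = O(T)` for affine `T`. -/
theorem isIso_snd_appTop (X : Over (Spec (CommRingCat.of k))) [QuasiCompact X.hom]
    [IsSeparated X.hom] (hX : IsIso X.hom.appTop) {T : Scheme.{u}} [IsAffine T]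
    (v : T ⟶ Spec (CommRingCat.of k)) : IsIso (pullback.snd X.hom v).appTop := by
  haveI : CompactSpace X.left := QuasiCompact.compactSpace_of_compactSpace X.hom
  haveI : QuasiSeparatedSpace X.left := quasiSeparatedSpace_of_quasiSeparated X.hom
  haveI : Flat v := inferInstance
  have H : IsPullback (pullback.fst X.hom v) (pullback.snd X.hom v) X.hom v :=
    IsPullback.of_hasPullback _ _
  have hUST : (⊤ : T.Opens) ≤ v ⁻¹ᵁ ⊤ := fun _ _ => trivial
  have hUSX : (⊤ : X.left.Opens) ≤ X.hom ⁻¹ᵁ ⊤ := fun _ _ => trivial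
  have hiso := isIso_pushoutSection_of_isQuasiSeparated_of_flat_right H hUST hUSX
    (UY := pullback.fst X.hom v ⁻¹ᵁ ⊤ ⊓ pullback.snd X.hom v ⁻¹ᵁ ⊤) rfl
    (isAffineOpen_top _) (isAffineOpen_top _)
    (by rw [TopologicalSpace.Opens.coe_top]; exact isCompact_univ)
    (by rw [TopologicalSpace.Opens.coe_top]; exact isQuasiSeparated_univ)
  have hpo := (isIso_pushoutSection_iff H hUST hUSX rfl).mp hiso
  haveI : IsIso (X.hom.appLE ⊤ ⊤ hUSX) := by
    rw [Scheme.Hom.appLE]
    have h0 : IsIso (homOfLE hUSX) := ⟨homOfLE le_top, rfl, rfl⟩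
    have h1 : IsIso (homOfLE hUSX).op := inferInstance
    have h2 : IsIso (X.left.presheaf.map (homOfLE hUSX).op) := inferInstance
    have h3 : IsIso (X.hom.app ⊤) := hX
    infer_instance
  have h2 := hpo.isIso_inr_of_isIso
  rw [Scheme.Hom.appLE] at h2
  haveI h3 := isIso_presheaf_map (X := pullback X.hom v) (show
      pullback.fst X.hom v ⁻¹ᵁ ⊤ ⊓ pullback.snd X.hom v ⁻¹ᵁ ⊤ ≤ pullback.snd X.hom v ⁻¹ᵁ ⊤ from
        inf_le_right) (fun _ _ => ⟨trivial, trivial⟩)
  exact @IsIso.of_isIso_comp_right _ _ _ _ _ _ _ h3 h2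

theorem assoc4 {C : Type*} [Category C] {a b c d e : C} (B : a ⟶ b) (W : b ⟶ c) (L : c ⟶ d)
    (F : d ⟶ e) : B ≫ W ≫ L ≫ F = (B ≫ W ≫ L) ≫ F := by simp

theorem chart_comm {X Y : Over (Spec (CommRingCat.of k))} {T T' : Over (Spec (CommRingCat.of k))}
    (t : T ⟶ Y) (c : T' ⟶ T) {U : Scheme.{u}} (w : U ⟶ X.left)
    (A : pullback (w ≫ X.hom) T'.hom ⟶ pullback (w ≫ X.hom) T.hom)
    (a1 : A ≫ pullback.fst _ _ = pullback.fst _ _)
    (a2 : A ≫ pullback.snd _ _ = pullback.snd _ _ ≫ c.left) :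
    A ≫ pullback.map (w ≫ X.hom) T.hom X.hom T.hom w (𝟙 _) (𝟙 _) (by simp) (by simp) ≫
      (X ◁ t).left =
    pullback.map (w ≫ X.hom) T'.hom X.hom T'.hom w (𝟙 _) (𝟙 _) (by simp) (by simp) ≫
      (X ◁ (c ≫ t)).left := by
  apply pullback.hom_ext
  · simp only [Category.assoc, Over.whiskerLeft_left_fst, pullback.lift_fst]
    rw [← Category.assoc, a1]
  · simp only [Category.assoc, Over.whiskerLeft_left_snd, pullback.lift_snd_assoc,
      Category.id_comp, Over.comp_left]
    rw [← Category.assoc, a2, Category.assoc]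

/-- Krull step: agreement on all infinitesimal neighbourhoods of `y` implies agreement on
`Spec O_{Y,y}`. -/
theorem krull_step (X Y Z : Over (Spec (CommRingCat.of k)))
    [IsLocallyNoetherian Y.left] [IsSeparated Z.hom] (f : X ⊗ Y ⟶ Z)
    (x₀ : 𝟙_ (Over (Spec (CommRingCat.of k))) ⟶ X) (y : Y.left)
    (hn : ∀ n : ℕ, Agr X Y Z f x₀
      (T := Over.mk (Spec.map (CommRingCat.ofHom (Ideal.Quotient.mk
        (IsLocalRing.maximalIdeal (Y.left.presheaf.stalk y) ^ (n + 1)))) ≫
          Y.left.fromSpecStalk y ≫ Y.hom))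
      (Over.homMk (Spec.map (CommRingCat.ofHom (Ideal.Quotient.mk
        (IsLocalRing.maximalIdeal (Y.left.presheaf.stalk y) ^ (n + 1)))) ≫
          Y.left.fromSpecStalk y))) :
    Agr X Y Z f x₀ (T := Over.mk (Y.left.fromSpecStalk y ≫ Y.hom))
      (Over.homMk (Y.left.fromSpecStalk y)) := by
  let O := Y.left.presheaf.stalk y
  let TO : Over (Spec (CommRingCat.of k)) := Over.mk (Y.left.fromSpecStalk y ≫ Y.hom)
  let tO : TO ⟶ Y := Over.homMk (Y.left.fromSpecStalk y)
  have hJ : ⨅ n : ℕ, IsLocalRing.maximalIdeal O ^ (n + 1) = ⊥ := by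
    have h0 := Ideal.iInf_pow_eq_bot_of_isLocalRing (IsLocalRing.maximalIdeal O)
      (IsLocalRing.maximalIdeal.isMaximal O).ne_top
    rw [eq_bot_iff] at h0 ⊢
    refine le_trans ?_ h0
    refine le_iInf fun n => ?_
    rcases n with _ | n
    · simp
    · exact iInf_le _ n
  have main : ∀ i : X.left.affineCover.I₀,
      pullback.map (X.left.affineCover.f i ≫ X.hom) TO.hom X.hom TO.hom (X.left.affineCover.f i)
        (𝟙 _) (𝟙 _) (by simp) (by simp) ≫ ((X ◁ tO) ≫ f).left =
      pullback.map (X.left.affineCover.f i ≫ X.hom) TO.hom X.hom TO.hom (X.left.affineCover.f i)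
        (𝟙 _) (𝟙 _) (by simp) (by simp) ≫ ((X ◁ tO) ≫ gmor X Y Z f x₀).left := by
    intro i
    refine chart_ext (X.left.affineCover.f i ≫ X.hom) TO.hom
      (fun n : ℕ => IsLocalRing.maximalIdeal O ^ (n + 1)) hJ Z.hom _ _ ?_ ?_
    · have s1 : ((X ◁ tO) ≫ f).left ≫ Z.hom = ((X ◁ tO) ≫ gmor X Y Z f x₀).left ≫ Z.hom :=
        (Over.w _).trans (Over.w _).symm
      exact (Category.assoc _ _ _).trans ((congrArg (fun m =>
        pullback.map (X.left.affineCover.f i ≫ X.hom) TO.hom X.hom TO.hom (X.left.affineCover.f i)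
        (𝟙 _) (𝟙 _) (by simp) (by simp) ≫ m) s1).trans (Category.assoc _ _ _).symm)
    · intro n
      let q : O ⟶ CommRingCat.of (O ⧸ IsLocalRing.maximalIdeal O ^ (n + 1)) :=
        CommRingCat.ofHom (Ideal.Quotient.mk (IsLocalRing.maximalIdeal O ^ (n + 1)))
      let Tn : Over (Spec (CommRingCat.of k)) := Over.mk (Spec.map q ≫ TO.hom)
      let cn : Tn ⟶ TO := Over.homMk (Spec.map q)
      let Wn := pullback.map (X.left.affineCover.f i ≫ X.hom) Tn.hom X.hom Tn.hom
          (X.left.affineCover.f i) (𝟙 _) (𝟙 _) (by simp) (by simp)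
      let W := pullback.map (X.left.affineCover.f i ≫ X.hom) TO.hom X.hom TO.hom
          (X.left.affineCover.f i) (𝟙 _) (𝟙 _) (by simp) (by simp)
      let B := pullback.map (X.left.affineCover.f i ≫ X.hom) (Spec.map q ≫ TO.hom)
          (X.left.affineCover.f i ≫ X.hom) TO.hom (𝟙 _) (Spec.map q) (𝟙 _) (by simp) (by simp)
      have h1 : Wn ≫ ((X ◁ (cn ≫ tO)) ≫ f).left = Wn ≫ ((X ◁ (cn ≫ tO)) ≫ gmor X Y Z f x₀).left :=
        congrArg (fun m => Wn ≫ m.left) (hn n)
      have h2 : B ≫ W ≫ (X ◁ tO).left = Wn ≫ (X ◁ (cn ≫ tO)).left :=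
        chart_comm tO cn (X.left.affineCover.f i) B
          (by simp only [B]; rw [pullback.lift_fst, Category.comp_id]; rfl) (pullback.lift_snd _ _ _)
      have e1 : B ≫ W ≫ ((X ◁ tO) ≫ f).left = (Wn ≫ (X ◁ (cn ≫ tO)).left) ≫ f.left :=
        (assoc4 B W (X ◁ tO).left f.left).trans (congrArg (· ≫ f.left) h2)
      have e2 : B ≫ W ≫ ((X ◁ tO) ≫ gmor X Y Z f x₀).left =
          (Wn ≫ (X ◁ (cn ≫ tO)).left) ≫ (gmor X Y Z f x₀).left :=
        (assoc4 B W (X ◁ tO).left (gmor X Y Z f x₀).left).trans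
          (congrArg (· ≫ (gmor X Y Z f x₀).left) h2)
      have e3 : (Wn ≫ (X ◁ (cn ≫ tO)).left) ≫ f.left =
          (Wn ≫ (X ◁ (cn ≫ tO)).left) ≫ (gmor X Y Z f x₀).left :=
        (Category.assoc _ _ _).trans (h1.trans (Category.assoc _ _ _).symm)
      exact e1.trans (e3.trans e2.symm)
  unfold Agr
  apply Over.OverMorphism.ext
  let 𝒲 := Scheme.Pullback.openCoverOfLeft X.left.affineCover X.hom TO.hom
  apply 𝒲.hom_ext
  intro i
  exact main i

/-- infinitesimal step: if `T` is affine and receives the rational point `y₀` via a surjection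
`Spec k → T`, then `f` and `gmor` agree on `X × T`. -/
theorem inf_step (X Y Z : Over (Spec (CommRingCat.of k))) [QuasiCompact X.hom]
    [IsSeparated X.hom] (hX : IsIso X.hom.appTop) (f : X ⊗ Y ⟶ Z)
    (x₀ : 𝟙_ (Over (Spec (CommRingCat.of k))) ⟶ X) (y₀ : 𝟙_ (Over (Spec (CommRingCat.of k))) ⟶ Y)
    (hf : (X ◁ y₀) ≫ f = toUnit _ ≫ lift x₀ y₀ ≫ f)
    {T : Over (Spec (CommRingCat.of k))} [IsAffine T.left] (t : T ⟶ Y)
    (c : 𝟙_ (Over (Spec (CommRingCat.of k))) ⟶ T) (hc : c ≫ t = y₀) [Surjective c.left] :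
    Agr X Y Z f x₀ t := by
  unfold Agr gmor
  have e1 : (X ◁ t) ≫ snd X Y ≫ lift (toUnit Y ≫ x₀) (𝟙 Y) ≫ f =
      snd X T ≫ lift (toUnit T ≫ x₀) (𝟙 T) ≫ (X ◁ t) ≫ f := by
    rw [← Category.assoc, whiskerLeft_snd, Category.assoc]
    congr 1
    rw [← Category.assoc, ← Category.assoc]
    congr 1
    ext <;> simp
  rw [e1]
  set F : X ⊗ T ⟶ Z := (X ◁ t) ≫ f with hF
  -- surjectivity of the base change of `c`
  have sq : IsPullback (X ◁ c).left (pullback.snd X.hom (𝟙_ (Over (Spec (CommRingCat.of k)))).hom)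
      (pullback.snd X.hom T.hom) c.left := by
    refine IsPullback.of_right (h₁₂ := pullback.fst X.hom T.hom) (h₂₂ := T.hom) (v₁₃ := X.hom)
      ?_ (Over.whiskerLeft_left_snd c) (IsPullback.of_hasPullback X.hom T.hom)
    rw [Over.whiskerLeft_left_fst, Over.w]
    exact IsPullback.of_hasPullback _ _
  haveI surj : Surjective (X ◁ c).left :=
    MorphismProperty.of_isPullback (P := @Surjective) sq.flip inferInstance
  let pt₀ : Spec (CommRingCat.of k) := IsLocalRing.closedPoint k
  let z₀ : Z.left := (lift x₀ y₀ ≫ f).left pt₀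
  have hcF : (X ◁ c) ≫ F = toUnit _ ≫ lift x₀ y₀ ≫ f := by
    rw [hF, ← Category.assoc, ← MonoidalCategory.whiskerLeft_comp, hc, hf]
  have h1a : ∀ p : (X ⊗ T).left, F.left p = z₀ := by
    intro p
    obtain ⟨p₀, rfl⟩ := surj.surj p
    rw [← Scheme.Hom.comp_apply, ← Over.comp_left, hcF, Over.comp_left, Scheme.Hom.comp_apply]
    congr 1
    exact Subsingleton.elim (α := PrimeSpectrum k) _ _
  -- factor through an affine open neighbourhood of `z₀`
  obtain ⟨_, ⟨(Z' : Z.left.Opens), hZ', rfl⟩, hz₀, -⟩ :=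
    Z.left.isBasis_affineOpens.exists_subset_of_mem_open (Set.mem_univ z₀) isOpen_univ
  have hrange : Set.range ⇑F.left ⊆ Set.range ⇑Z'.ι := by
    rintro _ ⟨p, rfl⟩
    rw [Scheme.Opens.range_ι, h1a p]
    exact hz₀
  let f' : (X ⊗ T).left ⟶ Z'.toScheme := IsOpenImmersion.lift Z'.ι F.left hrange
  have hf' : f' ≫ Z'.ι = F.left := IsOpenImmersion.lift_fac _ _ _
  haveI : IsAffine Z'.toScheme := hZ'
  -- flat base change
  let π : (X ⊗ T).left ⟶ T.left := pullback.snd X.hom T.hom
  haveI hπ : IsIso π.appTop := isIso_snd_appTop X hX T.hom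
  let s : T.left ⟶ (X ⊗ T).left := (lift (toUnit T ≫ x₀) (𝟙 T)).left
  have hsπ : s ≫ π = 𝟙 _ := by
    have := congrArg (fun m => m.left) (lift_snd (toUnit T ≫ x₀) (𝟙 T))
    exact this
  have happ : s.appTop ≫ π.appTop = 𝟙 _ := by
    have h2 : π.appTop ≫ s.appTop = 𝟙 _ := by
      rw [← Scheme.Hom.comp_appTop, hsπ]; rfl
    have h3 : s.appTop = inv π.appTop := by
      rw [← cancel_epi π.appTop, h2, IsIso.hom_inv_id]
    rw [h3, IsIso.inv_hom_id]
  have hkey : f' = π ≫ s ≫ f' := by
    apply ext_of_isAffine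
    rw [Scheme.Hom.comp_appTop, Scheme.Hom.comp_appTop, Category.assoc, happ, Category.comp_id]
  apply Over.OverMorphism.ext
  change F.left = π ≫ s ≫ F.left
  rw [← hf', ← Category.assoc s, ← Category.assoc π, ← hkey]

/-- final step: agreement on the generic point implies agreement. -/
theorem final (X Y Z : Over (Spec (CommRingCat.of k)))
    [IsLocallyNoetherian Y.left] [IrreducibleSpace ↥Y.left] [IsReduced Y.left]
    [IsSeparated Z.hom] (f : X ⊗ Y ⟶ Z)
    (x₀ : 𝟙_ (Over (Spec (CommRingCat.of k))) ⟶ X)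
    (h : Agr X Y Z f x₀ (T := Over.mk (Y.left.fromSpecStalk (genericPoint Y.left) ≫ Y.hom))
      (Over.homMk (Y.left.fromSpecStalk (genericPoint Y.left)))) :
    f = gmor X Y Z f x₀ := by
  let gp := genericPoint Y.left
  let j : Spec (Y.left.presheaf.stalk gp) ⟶ Y.left := Y.left.fromSpecStalk gp
  let pr₂ : (X ⊗ Y).left ⟶ Y.left := pullback.snd X.hom Y.hom
  haveI : Flat X.hom := inferInstance
  haveI : Flat pr₂ := inferInstance
  haveI : QuasiCompact j := inferInstance
  haveI : IsDominant j := by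
    constructor
    rw [DenseRange, dense_iff_closure_eq]
    apply Set.eq_univ_of_univ_subset
    intro y _
    exact (genericPoint_specializes y).mem_closed isClosed_closure
      (subset_closure ⟨IsLocalRing.closedPoint _, Scheme.fromSpecStalk_closedPoint⟩)
  haveI : IsSchemeTheoreticallyDominant j := .of_isDominant j
  haveI : IsSchemeTheoreticallyDominant (pullback.snd j pr₂) := inferInstance
  apply Over.OverMorphism.ext
  refine ext_of_std f.left (gmor X Y Z f x₀).left Z.hom ?_ (pullback.snd j pr₂) ?_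
  · rw [Over.w, Over.w]
  · let T : Over (Spec (CommRingCat.of k)) := Over.mk (j ≫ Y.hom)
    let t : T ⟶ Y := Over.homMk j
    have hc : (pullback.snd j pr₂ ≫ pullback.fst X.hom Y.hom) ≫ X.hom =
        pullback.fst j pr₂ ≫ (j ≫ Y.hom) := by
      rw [Category.assoc, pullback.condition, ← Category.assoc, ← Category.assoc]
      congr 1
      exact (pullback.condition (f := j) (g := pr₂)).symm
    let l : pullback j pr₂ ⟶ (X ⊗ T).left := pullback.lift _ _ hc
    have hl : l ≫ (X ◁ t).left = pullback.snd j pr₂ := by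
      apply pullback.hom_ext
      · rw [Category.assoc, Over.whiskerLeft_left_fst]
        exact pullback.lift_fst _ _ _
      · rw [Category.assoc, Over.whiskerLeft_left_snd, ← Category.assoc]
        have : l ≫ pullback.snd X.hom T.hom = pullback.fst j pr₂ := pullback.lift_snd _ _ _
        rw [this]
        exact pullback.condition
    have h' := congrArg (fun m => l ≫ m.left) h
    simp only [Over.comp_left, ← Category.assoc] at h'
    rw [← hl]
    exact h'

end

theorem subsingleton_spec_quot (O : Type u) [CommRing O] [IsLocalRing O] (n : ℕ) :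
    Subsingleton (PrimeSpectrum (O ⧸ IsLocalRing.maximalIdeal O ^ (n + 1))) := by
  have key : ∀ p : PrimeSpectrum (O ⧸ IsLocalRing.maximalIdeal O ^ (n + 1)),
      Ideal.comap (Ideal.Quotient.mk (IsLocalRing.maximalIdeal O ^ (n + 1))) p.asIdeal =
        IsLocalRing.maximalIdeal O := by
    intro p
    have hprime : (Ideal.comap (Ideal.Quotient.mk (IsLocalRing.maximalIdeal O ^ (n + 1)))
      p.asIdeal).IsPrime := inferInstance
    have hle : IsLocalRing.maximalIdeal O ^ (n + 1) ≤
        Ideal.comap (Ideal.Quotient.mk (IsLocalRing.maximalIdeal O ^ (n + 1))) p.asIdeal := by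
      intro a ha
      rw [Ideal.mem_comap, Ideal.Quotient.eq_zero_iff_mem.mpr ha]
      exact p.asIdeal.zero_mem
    have hmle := (Ideal.IsPrime.pow_le_iff (Nat.succ_ne_zero n)).mp hle
    exact ((IsLocalRing.maximalIdeal.isMaximal O).eq_of_le hprime.ne_top hmle).symm
  constructor
  intro p p'
  apply PrimeSpectrum.ext
  rw [← Ideal.map_comap_of_surjective _ Ideal.Quotient.mk_surjective p.asIdeal,
    ← Ideal.map_comap_of_surjective _ Ideal.Quotient.mk_surjective p'.asIdeal, key p, key p']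

end helpers

/-- Let k be a field, X a quasi-compact separated k-scheme with O(X) = k, Y a separated, reduced and
irreducible locally Noetherian k-scheme, Z a separated k-scheme, and x₀, y₀ rational points of X, Y.
If a k-morphism f : X × Y → Z satisfies f(x, y₀) = f(x₀, y₀) identically (as morphisms from X), then
f(x, y) = f(x₀, y) identically on X × Y. (The published statement does not ask Y to be reduced; the
final density step of its proof uses that the infinitesimal neighbourhoods of y₀ are schematically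
dense in Y, which holds when Y is moreover reduced, so Y is taken reduced, hence integral, here.) -/
theorem result (k : Type u) [Field k]
    (X Y Z : Over (Spec (CommRingCat.of k))) [QuasiCompact X.hom] [IsSeparated X.hom]
    (hX : Function.Bijective ((Scheme.ΓSpecIso (CommRingCat.of k)).inv ≫ X.hom.appTop).hom)
    [IsSeparated Y.hom] [IsLocallyNoetherian Y.left] [IrreducibleSpace ↥Y.left] [IsReduced Y.left] [IsSeparated Z.hom]
    (x₀ : 𝟙_ (Over (Spec (CommRingCat.of k))) ⟶ X) (y₀ : 𝟙_ (Over (Spec (CommRingCat.of k))) ⟶ Y) (f : X ⊗ Y ⟶ Z)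
    (hf : (X ◁ y₀) ≫ f = toUnit _ ≫ lift x₀ y₀ ≫ f) :
    f = snd X Y ≫ lift (toUnit Y ≫ x₀) (𝟙 Y) ≫ f := by
  have hX' : IsIso X.hom.appTop := by
    have h1 : IsIso ((Scheme.ΓSpecIso (CommRingCat.of k)).inv ≫ X.hom.appTop) :=
      (ConcreteCategory.isIso_iff_bijective _).mpr hX
    exact IsIso.of_isIso_comp_left (Scheme.ΓSpecIso (CommRingCat.of k)).inv _
  let y : Y.left := y₀.left (IsLocalRing.closedPoint k)
  let O := Y.left.presheaf.stalk y
  let φ : O ⟶ CommRingCat.of k := Scheme.stalkClosedPointTo y₀.left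
  have hφ : Spec.map φ ≫ Y.left.fromSpecStalk y = y₀.left :=
    Scheme.Spec_stalkClosedPointTo_fromSpecStalk y₀.left
  haveI hloc : IsLocalHom φ.hom := Scheme.isLocalHom_stalkClosedPointTo' y₀.left
  have hm : IsLocalRing.maximalIdeal O ≤ RingHom.ker φ.hom := by
    intro a ha
    rw [RingHom.mem_ker]
    by_contra hne
    have hu : IsUnit (φ.hom a) := isUnit_iff_ne_zero.mpr hne
    have := (isUnit_map_iff φ.hom a).mp hu
    exact (IsLocalRing.mem_maximalIdeal a).mp ha this
  have hinf : ∀ n : ℕ, Agr X Y Z f x₀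
      (T := Over.mk (Spec.map (CommRingCat.ofHom (Ideal.Quotient.mk
        (IsLocalRing.maximalIdeal (Y.left.presheaf.stalk y) ^ (n + 1)))) ≫
          Y.left.fromSpecStalk y ≫ Y.hom))
      (Over.homMk (Spec.map (CommRingCat.ofHom (Ideal.Quotient.mk
        (IsLocalRing.maximalIdeal (Y.left.presheaf.stalk y) ^ (n + 1)))) ≫
          Y.left.fromSpecStalk y)) := by
    intro n
    let q : O ⟶ CommRingCat.of (O ⧸ IsLocalRing.maximalIdeal O ^ (n + 1)) :=
      CommRingCat.ofHom (Ideal.Quotient.mk (IsLocalRing.maximalIdeal O ^ (n + 1)))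
    let φn : CommRingCat.of (O ⧸ IsLocalRing.maximalIdeal O ^ (n + 1)) ⟶ CommRingCat.of k :=
      CommRingCat.ofHom (Ideal.Quotient.lift (IsLocalRing.maximalIdeal O ^ (n + 1)) φ.hom
        (fun a ha => hm (Ideal.pow_le_self (Nat.succ_ne_zero n) ha)))
    have hqφ : q ≫ φn = φ := by
      ext a
      rfl
    let Tn : Over (Spec (CommRingCat.of k)) :=
      Over.mk (Spec.map q ≫ Y.left.fromSpecStalk y ≫ Y.hom)
    let tn : Tn ⟶ Y := Over.homMk (Spec.map q ≫ Y.left.fromSpecStalk y)
    have hcw : Spec.map φn ≫ Tn.hom = (𝟙_ (Over (Spec (CommRingCat.of k)))).hom := by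
      change Spec.map φn ≫ Spec.map q ≫ Y.left.fromSpecStalk y ≫ Y.hom = _
      rw [← Category.assoc, ← Spec.map_comp, hqφ, ← Category.assoc, hφ]
      exact Over.w y₀
    let c : 𝟙_ (Over (Spec (CommRingCat.of k))) ⟶ Tn := Over.homMk (Spec.map φn) hcw
    have hc : c ≫ tn = y₀ := by
      apply Over.OverMorphism.ext
      change Spec.map φn ≫ Spec.map q ≫ Y.left.fromSpecStalk y = y₀.left
      rw [← Category.assoc, ← Spec.map_comp, hqφ, hφ]
    haveI : IsAffine Tn.left :=
      inferInstanceAs (IsAffine (Spec (CommRingCat.of (O ⧸ IsLocalRing.maximalIdeal O ^ (n + 1)))))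
    haveI : Surjective c.left := by
      constructor
      intro p
      haveI := subsingleton_spec_quot O n
      exact ⟨IsLocalRing.closedPoint k, Subsingleton.elim
        (α := PrimeSpectrum (O ⧸ IsLocalRing.maximalIdeal O ^ (n + 1))) _ _⟩
    exact inf_step X Y Z hX' f x₀ y₀ hf tn c hc
  have hO := krull_step X Y Z f x₀ y hinf
  let gp := genericPoint Y.left
  let TK : Over (Spec (CommRingCat.of k)) := Over.mk (Y.left.fromSpecStalk gp ≫ Y.hom)
  let TO : Over (Spec (CommRingCat.of k)) := Over.mk (Y.left.fromSpecStalk y ≫ Y.hom)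
  let sK : TK ⟶ TO := Over.homMk (Spec.map (Y.left.presheaf.stalkSpecializes
    (genericPoint_specializes y))) (by
      change Spec.map _ ≫ Y.left.fromSpecStalk y ≫ Y.hom = Y.left.fromSpecStalk gp ≫ Y.hom
      rw [← Category.assoc, Scheme.SpecMap_stalkSpecializes_fromSpecStalk])
  have hK := hO.comp sK
  have hsK : sK ≫ (Over.homMk (Y.left.fromSpecStalk y) : TO ⟶ Y) =
      (Over.homMk (Y.left.fromSpecStalk gp) : TK ⟶ Y) := by
    apply Over.OverMorphism.ext
    exact Scheme.SpecMap_stalkSpecializes_fromSpecStalk _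
  rw [hsK] at hK
  exact final X Y Z f x₀ hK

end Groth.Agent.S14577
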