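import Groth.Statements.S1458
import Mathlib.RingTheory.Finiteness.ModuleFinitePresentation
import Mathlib.RingTheory.FinitePresentation
import Mathlib.LinearAlgebra.TensorProduct.RightExactness
import Mathlib.RingTheory.TensorProduct.Basic

set_option autoImplicit false
universe u
open FlatMor

namespace Groth.Agent.S1458

section Helpers

open TensorProduct

variable {A : Type*} [CommRing A]

lemma exists_repr_tensor {n : ℕ} (A' : Type*) [CommRing A'] [Algebra A A']
    (s : (Fin n → A) ⊗[A] A') :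
    ∃ y : Fin n → A', s = ∑ l, (Pi.single l (1 : A) : Fin n → A) ⊗ₜ[A] y l := by
  induction s using TensorProduct.induction_on with
  | zero => exact ⟨0, by simp⟩
  | tmul v a =>
    refine ⟨fun l => v l • a, ?_⟩
    symm
    calc ∑ l, (Pi.single l (1 : A) : Fin n → A) ⊗ₜ[A] (v l • a)
        = ∑ l, (v l • (Pi.single l (1 : A) : Fin n → A)) ⊗ₜ[A] a := by
          refine Finset.sum_congr rfl fun l _ => ?_
          rw [TensorProduct.smul_tmul]
      _ = (∑ l, v l • (Pi.single l (1 : A) : Fin n → A)) ⊗ₜ[A] a :=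
          (TensorProduct.sum_tmul _ _ _).symm
      _ = v ⊗ₜ[A] a := by
          congr 1
          ext j
          simp [Pi.single_apply]
  | add s t hs ht =>
    obtain ⟨y1, rfl⟩ := hs
    obtain ⟨y2, rfl⟩ := ht
    exact ⟨y1 + y2, by simp [TensorProduct.tmul_add, Finset.sum_add_distrib]⟩

noncomputable def coord {n : ℕ} (A' : Type*) [CommRing A'] [Algebra A A'] (i : Fin n) :
    (Fin n → A) ⊗[A] A' →ₗ[A] A' :=
  (TensorProduct.lid A A').toLinearMap ∘ₗ (LinearMap.proj i).rTensor A'

lemma coord_tmul {n : ℕ} (A' : Type*) [CommRing A'] [Algebra A A'] (i : Fin n)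
    (v : Fin n → A) (a : A') : coord A' i (v ⊗ₜ[A] a) = v i • a := by
  simp [coord]

end Helpers

section Main

open TensorProduct

variable {A B : Type*} [CommRing A] [CommRing B] [Algebra A B] {n m : ℕ}
  (f : (Fin n → A) →ₗ[A] B) (g : (Fin m → A) →ₗ[A] (Fin n → A))

noncomputable def vec {n : ℕ} (A' : Type*) [CommRing A'] [Algebra A A'] :
    (Fin n → A') →ₗ[A] (Fin n → A) ⊗[A] A' :=
  ∑ i, (TensorProduct.mk A (Fin n → A) A' (Pi.single i 1)) ∘ₗ (LinearMap.proj i)

lemma vec_apply {n : ℕ} (A' : Type*) [CommRing A'] [Algebra A A'] (z : Fin n → A') :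
    vec (A := A) A' z = ∑ i, (Pi.single i (1 : A) : Fin n → A) ⊗ₜ[A] z i := by
  simp [vec]

lemma tmul_eq_vec {n : ℕ} (A' : Type*) [CommRing A'] [Algebra A A'] (v : Fin n → A) (a : A') :
    v ⊗ₜ[A] a = vec A' (fun i => v i • a) := by
  rw [vec_apply]
  symm
  calc ∑ l, (Pi.single l (1 : A) : Fin n → A) ⊗ₜ[A] (v l • a)
      = ∑ l, (v l • (Pi.single l (1 : A) : Fin n → A)) ⊗ₜ[A] a := by
        refine Finset.sum_congr rfl fun l _ => ?_
        rw [TensorProduct.smul_tmul]
    _ = (∑ l, v l • (Pi.single l (1 : A) : Fin n → A)) ⊗ₜ[A] a :=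
        (TensorProduct.sum_tmul _ _ _).symm
    _ = v ⊗ₜ[A] a := by
        congr 1
        ext j
        simp [Pi.single_apply]

lemma exists_eq_vec {n : ℕ} (A' : Type*) [CommRing A'] [Algebra A A']
    (s : (Fin n → A) ⊗[A] A') : ∃ y : Fin n → A', s = vec A' y := by
  induction s using TensorProduct.induction_on with
  | zero => exact ⟨0, by simp⟩
  | tmul v a => exact ⟨_, tmul_eq_vec A' v a⟩
  | add s t hs ht =>
    obtain ⟨y1, rfl⟩ := hs
    obtain ⟨y2, rfl⟩ := ht
    exact ⟨y1 + y2, by rw [map_add]⟩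

lemma coord_vec {n : ℕ} (A' : Type*) [CommRing A'] [Algebra A A'] (i : Fin n) (w : Fin n → A') :
    coord (A := A) A' i (vec A' w) = w i := by
  rw [vec_apply, map_sum]
  simp [coord_tmul, Pi.single_apply]

lemma rTensor_vec (A' : Type*) [CommRing A'] [Algebra A A'] (y : Fin m → A') :
    g.rTensor A' (vec A' y) = vec A' (fun i => ∑ l, g (Pi.single l 1) i • y l) := by
  rw [vec_apply, map_sum]
  simp only [LinearMap.rTensor_tmul]
  have : ∀ l, g (Pi.single l 1) ⊗ₜ[A] y l = vec A' (fun i => g (Pi.single l 1) i • y l) :=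
    fun l => tmul_eq_vec A' _ _
  simp only [this]
  rw [← map_sum]
  congr 1
  ext i
  simp [Finset.sum_apply]

noncomputable def elt (A' : Type*) [CommRing A'] [Algebra A A'] :
    (Fin n → A') →ₗ[A] B ⊗[A] A' :=
  f.rTensor A' ∘ₗ vec A'

lemma elt_apply (A' : Type*) [CommRing A'] [Algebra A A'] (x : Fin n → A') :
    elt f A' x = ∑ i, f (Pi.single i 1) ⊗ₜ[A] x i := by
  simp [elt, vec_apply]

lemma tmul_eq_elt (A' : Type*) [CommRing A'] [Algebra A A'] (v : Fin n → A) (a : A') :
    f v ⊗ₜ[A] a = elt f A' (fun i => v i • a) := by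
  show _ = f.rTensor A' (vec A' _)
  rw [← tmul_eq_vec, LinearMap.rTensor_tmul]

lemma exists_elt_eq (hf : Function.Surjective f) (A' : Type*) [CommRing A'] [Algebra A A']
    (e : B ⊗[A] A') : ∃ x, e = elt f A' x := by
  obtain ⟨s, rfl⟩ := LinearMap.rTensor_surjective A' hf e
  obtain ⟨x, rfl⟩ := exists_eq_vec A' s
  exact ⟨x, rfl⟩

lemma elt_rows (hex : Function.Exact g f) (A' : Type*) [CommRing A'] [Algebra A A']
    (y : Fin m → A') : elt f A' (fun i => ∑ l, g (Pi.single l 1) i • y l) = 0 := by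
  show f.rTensor A' (vec A' _) = 0
  rw [← rTensor_vec, ← LinearMap.rTensor_comp_apply, hex.linearMap_comp_eq_zero,
    LinearMap.rTensor_zero, LinearMap.zero_apply]

lemma elt_eq_zero (hex : Function.Exact g f) (hf : Function.Surjective f) (A' : Type*)
    [CommRing A'] [Algebra A A'] (z : Fin n → A') (hz : elt f A' z = 0) :
    ∃ y : Fin m → A', ∀ i, z i = ∑ l, g (Pi.single l 1) i • y l := by
  have hex' := rTensor_exact A' hex hf
  obtain ⟨s, hs⟩ := (hex' (vec A' z)).1 hz
  obtain ⟨y, rfl⟩ := exists_eq_vec A' s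
  refine ⟨y, fun i => ?_⟩
  rw [rTensor_vec] at hs
  have := congrArg (coord (A := A) A' i) hs
  rw [coord_vec, coord_vec] at this
  exact this.symm

lemma elt_mul_elt (c : Fin n → Fin n → (Fin n → A))
    (hc : ∀ i j, f (c i j) = f (Pi.single i 1) * f (Pi.single j 1))
    (A' : Type*) [CommRing A'] [Algebra A A'] (x x' : Fin n → A') :
    elt f A' x * elt f A' x' = elt f A' (fun k => ∑ i, ∑ j, c i j k • (x i * x' j)) := by
  rw [elt_apply, elt_apply, Finset.sum_mul_sum]
  simp only [Algebra.TensorProduct.tmul_mul_tmul, ← hc]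
  simp only [tmul_eq_elt]
  simp only [← map_sum]
  congr 1
  ext k
  simp [Finset.sum_apply]

end Main

open TensorProduct in
/-- Let A → B be a finite ring map of finite presentation. Then there are a finitely presented A-algebra
A_u and an idempotent e_u of B ⊗_A A_u such that for every A-algebra A' and every idempotent e of B
⊗_A A' there is an A-algebra map A_u → A' whose induced map B ⊗ A_u → B ⊗ A' sends e_u to e. -/
theorem result {A B : Type u} [CommRing A] [CommRing B] [Algebra A B] [Module.Finite A B] [Algebra.FinitePresentation A B] :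
    ∃ (Au : Type u) (_ : CommRing Au) (_ : Algebra A Au) (eu : B ⊗[A] Au), Algebra.FinitePresentation A Au ∧ IsIdempotentElem eu ∧
      ∀ (A' : Type u) [CommRing A'] [Algebra A A'] (e : B ⊗[A] A'), IsIdempotentElem e →
        ∃ φ : Au →ₐ[A] A', Algebra.TensorProduct.map (AlgHom.id A B) φ eu = e := by
  classical
  haveI : Module.FinitePresentation A B :=
    Module.FinitePresentation.of_finite_of_finitePresentation A B
  obtain ⟨n, m, f, g, hf, hex⟩ := Module.FinitePresentation.exists_fin' A B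
  have hc' : ∀ i j, ∃ c : Fin n → A, f c = f (Pi.single i 1) * f (Pi.single j 1) :=
    fun i j => hf _
  choose c hc using hc'
  let P := MvPolynomial (Fin n ⊕ Fin m) A
  let xs : Fin n → P := fun i => MvPolynomial.X (Sum.inl i)
  let ys : Fin m → P := fun l => MvPolynomial.X (Sum.inr l)
  let rel : Fin n → P := fun k =>
    (∑ i, ∑ j, c i j k • (xs i * xs j)) - xs k - ∑ l, g (Pi.single l 1) k • ys l
  let I : Ideal P := Ideal.span (Set.range rel)
  have hI : I.FG := Submodule.fg_span (Set.finite_range rel)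
  haveI : Algebra.FinitePresentation A (P ⧸ I) := Algebra.FinitePresentation.quotient hI
  let mk : P →ₐ[A] P ⧸ I := Ideal.Quotient.mkₐ A I
  let xu : Fin n → P ⧸ I := fun i => mk (xs i)
  let yu : Fin m → P ⧸ I := fun l => mk (ys l)
  refine ⟨P ⧸ I, inferInstance, inferInstance, elt f (P ⧸ I) xu, inferInstance, ?_, ?_⟩
  · show elt f _ xu * elt f _ xu = elt f _ xu
    rw [elt_mul_elt f c hc]
    have hq : (fun k => ∑ i, ∑ j, c i j k • (xu i * xu j)) =
        xu + fun k => ∑ l, g (Pi.single l 1) k • yu l := by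
      ext k
      have h0 : mk (rel k) = 0 :=
        Ideal.Quotient.eq_zero_iff_mem.2 (Ideal.subset_span ⟨k, rfl⟩)
      simp only [rel, map_sub, map_sum, map_smul, map_mul] at h0
      simp only [Pi.add_apply]
      linear_combination h0
    rw [hq, map_add, elt_rows f g hex, add_zero]
  · intro A' _ _ e he
    obtain ⟨x, rfl⟩ := exists_elt_eq f hf A' e
    have h1 : elt f A' ((fun k => ∑ i, ∑ j, c i j k • (x i * x j)) - x) = 0 := by
      rw [map_sub, ← elt_mul_elt f c hc, he.eq, sub_self]
    obtain ⟨y, hy⟩ := elt_eq_zero f g hex hf A' _ h1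
    let ψ : P →ₐ[A] A' := MvPolynomial.aeval (Sum.elim x y)
    have hx : ∀ i, ψ (xs i) = x i := fun i => MvPolynomial.aeval_X _ _
    have hyy : ∀ l, ψ (ys l) = y l := fun l => MvPolynomial.aeval_X _ _
    have hle : I ≤ RingHom.ker ψ.toRingHom := by
      rw [Ideal.span_le]
      rintro _ ⟨k, rfl⟩
      show ψ (rel k) = 0
      have := hy k
      simp only [Pi.sub_apply] at this
      simp only [rel, map_sub, map_sum, map_smul, map_mul, hx, hyy]
      rw [← this, sub_self]
    have hψ : ∀ a ∈ I, ψ a = 0 := fun a ha => hle ha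
    refine ⟨Ideal.Quotient.liftₐ I ψ hψ, ?_⟩
    rw [elt_apply, map_sum, elt_apply]
    refine Finset.sum_congr rfl fun i _ => ?_
    rw [Algebra.TensorProduct.map_tmul]
    congr 1
    exact hx i

end Groth.Agent.S1458
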