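import Groth.Statements.S14580
import Groth.Agent.Lib.Helper19.Grp.AffinizationFibre

set_option autoImplicit false
universe u
open CategoryTheory MonoidalCategory CartesianMonoidalCategory MonObj GrpObj AlgebraicGeometry CategoryTheory.Limits
open AlgGrp

namespace Groth.Agent.S14580

/-- Let k be a field, G a proper k-group scheme of finite type and N ⊆ G the kernel of the affinization
morphism G → Spec O(G), i.e. the fibre over the image of the unit section (the largest anti-affine
subgroup scheme of G). Then the image of N in G is the connected component of the identity: as N is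
smooth, N is the reduced neutral component G⁰_red, which is therefore a smooth connected algebraic
group. -/
theorem result (k : Type u) [Field k]
    (G : Over (Spec (CommRingCat.of k))) [GrpObj G] [IsProper G.hom] (t : ↥((𝟙_ (Over (Spec (CommRingCat.of k)))).left)) :
    Set.range ⇑(pullback.fst G.left.toSpecΓ (η[G].left ≫ G.left.toSpecΓ)).base = connectedComponent ((η[G]).left.base t) := by
  haveI : LocallyOfFiniteType G.hom := inferInstance
  haveI : IsLocallyNoetherian G.left := LocallyOfFiniteType.isLocallyNoetherian G.hom
  haveI : Subsingleton ↥((𝟙_ (Over (Spec (CommRingCat.of k)))).left) :=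
    inferInstanceAs (Subsingleton (PrimeSpectrum k))
  rw [Scheme.Pullback.range_fst]
  ext x
  simp only [Set.mem_preimage, Set.mem_range]
  constructor
  · rintro ⟨t', ht'⟩
    rw [Subsingleton.elim t' t, Scheme.Hom.comp_apply] at ht'
    exact Groth.Agent.Lib.Helper19.AffinizationFibre.mem_connectedComponent_of_toSpecΓ_eq
      G.left _ x ht'
  · intro hx
    refine ⟨t, ?_⟩
    rw [Scheme.Hom.comp_apply]
    exact Groth.Agent.Lib.Helper19.AffinizationFibre.toSpecΓ_eq_of_mem_connectedComponent G.hom hx

end Groth.Agent.S14580
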