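import Groth.Statements.S14596
import Mathlib

set_option autoImplicit false
universe u
open CategoryTheory MonoidalCategory CartesianMonoidalCategory MonObj GrpObj AlgebraicGeometry CategoryTheory.Limits
open AlgGrp

namespace Groth.Agent.S14596
open CategoryTheory MonoidalCategory CartesianMonoidalCategory MonObj GrpObj AlgebraicGeometry CategoryTheory.Limits
open AlgGrp
set_option backward.isDefEq.respectTransparency.types false
set_option maxHeartbeats 400000

/-- connected components of a Noetherian space are open -/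
theorem isOpen_connectedComponent_of_noetherian {α : Type*} [TopologicalSpace α]
    [TopologicalSpace.NoetherianSpace α] (x : α) : IsOpen (connectedComponent x) := by
  have hfin : (irreducibleComponents α).Finite :=
    TopologicalSpace.NoetherianSpace.finite_irreducibleComponents
  have hcompl : (connectedComponent x)ᶜ =
      ⋃ Z ∈ {Z ∈ irreducibleComponents α | Disjoint Z (connectedComponent x)}, Z := by
    ext y
    simp only [Set.mem_compl_iff, Set.mem_iUnion, exists_prop]
    constructor
    · intro hy
      obtain ⟨Z, hZ, hyZ⟩ := exists_mem_irreducibleComponents_subset_of_isIrreducible {y}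
        isIrreducible_singleton
      refine ⟨Z, ⟨hZ, ?_⟩, hyZ rfl⟩
      rw [Set.disjoint_left]
      intro z hzZ hzC
      apply hy
      have hZpre : IsPreconnected Z := hZ.1.isPreirreducible.isPreconnected
      have : Z ⊆ connectedComponent z := hZpre.subset_connectedComponent hzZ
      rw [connectedComponent_eq hzC]
      exact this (hyZ rfl)
    · rintro ⟨Z, ⟨-, hd⟩, hyZ⟩ hyC
      exact Set.disjoint_left.mp hd hyZ hyC
  rw [← isClosed_compl_iff, hcompl]
  refine Set.Finite.isClosed_biUnion (hfin.subset (fun Z hZ => hZ.1)) ?_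
  intro Z hZ
  exact isClosed_of_mem_irreducibleComponents Z hZ.1


variable {k : Type u} [Field k]

instance subsingleton_Sk : Subsingleton (Spec (CommRingCat.of k)) :=
  inferInstanceAs (Subsingleton (PrimeSpectrum k))

section General

variable {G K : Over (Spec (CommRingCat.of k))} [GrpObj G] [GrpObj K] (r : K ⟶ G)
  {X : Over (Spec (CommRingCat.of k))} (p : G ⟶ X)

/-- invariance of `p` under right translation by `K`, on points -/
theorem p_mul (hw : fst G K ≫ p = ((G ◁ r) ≫ μ[G]) ≫ p) {Y : Over (Spec (CommRingCat.of k))}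
    (a : Y ⟶ G) (b : Y ⟶ K) : (a * (b ≫ r)) ≫ p = a ≫ p := by
  have h1 : lift a b ≫ fst G K ≫ p = a ≫ p := by rw [lift_fst_assoc]
  have h2 : lift a b ≫ ((G ◁ r) ≫ μ[G]) ≫ p = (a * (b ≫ r)) ≫ p := by
    rw [← Category.assoc, ← Category.assoc, lift_whiskerLeft, Hom.mul_def]
  rw [← h2, ← hw, h1]

/-- pasting: `K ⊗ T` is the pullback of `r` along the projection `G ⊗ T ⟶ G` -/
theorem isPullback_whisker (T : Over (Spec (CommRingCat.of k))) :
    IsPullback (r ▷ T).left (fst K T).left (fst G T).left r.left := by
  have s : IsPullback ((r ▷ T).left ≫ pullback.snd G.hom T.hom) (pullback.fst K.hom T.hom) T.hom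
      (r.left ≫ G.hom) := by
    rw [Over.whiskerRight_left_snd, Over.w r]
    exact (IsPullback.of_hasPullback K.hom T.hom).flip
  exact IsPullback.of_right s (Over.whiskerRight_left_fst r) (IsPullback.of_hasPullback G.hom T.hom).flip

/-- the residue field point of `g`, as an object over `k` -/
noncomputable def Tg (g : G.left) : Over (Spec (CommRingCat.of k)) :=
  Over.mk (G.left.fromSpecResidueField g ≫ G.hom)

/-- the canonical point `Spec κ(g) ⟶ G` -/
noncomputable def gt (g : G.left) : Tg g ⟶ G := Over.homMk (G.left.fromSpecResidueField g) rfl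

theorem gt_left_apply (g : G.left) (s : (Tg g).left) : (gt g).left s = g :=
  Scheme.fromSpecResidueField_apply g s

/-- left translation by the point `g`: `(y, s) ↦ g(s) y` -/
noncomputable def mT (g : G.left) : G ⊗ Tg g ⟶ G := (snd G (Tg g) ≫ gt g) * fst G (Tg g)

noncomputable def sigT (g : G.left) : G ⊗ Tg g ⟶ G ⊗ Tg g := lift (mT g) (snd G (Tg g))

noncomputable def sigT' (g : G.left) : G ⊗ Tg g ⟶ G ⊗ Tg g :=
  lift ((snd G (Tg g) ≫ gt g)⁻¹ * fst G (Tg g)) (snd G (Tg g))

theorem sigT_sigT' (g : G.left) : sigT g ≫ sigT' g = 𝟙 _ := by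
  unfold sigT sigT' mT
  rw [CartesianMonoidalCategory.comp_lift, MonObj.comp_mul, GrpObj.comp_inv, lift_fst,
    ← Category.assoc, lift_snd, inv_mul_cancel_left, lift_fst_snd]

theorem sigT'_sigT (g : G.left) : sigT' g ≫ sigT g = 𝟙 _ := by
  unfold sigT sigT' mT
  rw [CartesianMonoidalCategory.comp_lift, MonObj.comp_mul, lift_fst,
    ← Category.assoc, lift_snd, mul_inv_cancel_left, lift_fst_snd]

theorem sigT_fst (g : G.left) : sigT g ≫ fst G (Tg g) = mT g := by
  unfold sigT
  rw [lift_fst]

theorem isOpenMap_mT (g : G.left) : IsOpenMap (mT g).left := by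
  haveI : IsIso (sigT g) := ⟨sigT' g, sigT_sigT' g, sigT'_sigT g⟩
  haveI : IsIso (sigT g).left := inferInstanceAs (IsIso ((Over.forget _).map (sigT g)))
  haveI : UniversallyOpen (Tg g).hom := inferInstance
  haveI : UniversallyOpen (fst G (Tg g)).left := by
    rw [Over.fst_left]
    infer_instance
  rw [← sigT_fst, Over.comp_left]
  exact ((fst G (Tg g)).left.isOpenMap).comp (sigT g).left.isOpenEmbedding.isOpenMap

/-- the point `(e, s)` of `G ⊗ Tg g` -/
noncomputable def z0 (g : G.left) : Tg g ⟶ G ⊗ Tg g := lift (toUnit (Tg g) ≫ η[G]) (𝟙 _)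

theorem z0_mT (g : G.left) : z0 g ≫ mT g = gt g := by
  unfold z0 mT
  rw [MonObj.comp_mul, ← Category.assoc, lift_snd, lift_fst, Category.id_comp, ← Hom.one_def,
    _root_.mul_one]

theorem whisker_mT (g : G.left) : (r ▷ Tg g) ≫ mT g = (snd K (Tg g) ≫ gt g) * (fst K (Tg g) ≫ r) := by
  unfold mT
  rw [MonObj.comp_mul, ← Category.assoc, whiskerRight_snd, whiskerRight_fst]

theorem isOpen_singleton (hw : fst G K ≫ p = ((G ◁ r) ≫ μ[G]) ≫ p) (hp : IsOpenMap p.left)
    (t : (𝟙_ (Over (Spec (CommRingCat.of k)))).left)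
    (hopen : IsOpen (Set.range r.left)) (he : (η[G]).left t ∈ Set.range r.left) (g : G.left) :
    IsOpen ({p.left g} : Set X.left) := by
  set W : Set (G ⊗ Tg g).left := (fst G (Tg g)).left ⁻¹' (Set.range r.left) with hW
  have hWo : IsOpen W := hopen.preimage (fst G (Tg g)).left.continuous
  have hV : IsOpen (p.left '' ((mT g).left '' W)) := hp _ (isOpenMap_mT g _ hWo)
  have heq : p.left '' ((mT g).left '' W) = {p.left g} := by
    apply Set.Subset.antisymm
    · rintro _ ⟨_, ⟨z, hz, rfl⟩, rfl⟩
      obtain ⟨h0, hh0⟩ := hz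
      obtain ⟨z', hz'1, -⟩ := Scheme.exists_preimage_of_isPullback (isPullback_whisker r (Tg g))
        z h0 hh0.symm
      rw [Set.mem_singleton_iff, ← hz'1]
      have e1 : (r ▷ Tg g) ≫ mT g ≫ p = snd K (Tg g) ≫ gt g ≫ p := by
        rw [← Category.assoc, whisker_mT, p_mul r p hw, Category.assoc]
      have e2 : p.left ((mT g).left ((r ▷ Tg g).left z')) = ((r ▷ Tg g) ≫ mT g ≫ p).left z' := by
        rw [Over.comp_left, Over.comp_left]
        rfl
      rw [e2, e1, Over.comp_left, Over.comp_left]
      show p.left ((gt g).left ((snd K (Tg g)).left z')) = _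
      rw [gt_left_apply]
    · rintro _ rfl
      obtain ⟨s⟩ : Nonempty (Tg g).left :=
        inferInstanceAs (Nonempty (Spec (G.left.residueField g)))
      refine ⟨(mT g).left ((z0 g).left s), ⟨(z0 g).left s, ?_, rfl⟩, ?_⟩
      · show (fst G (Tg g)).left ((z0 g).left s) ∈ Set.range r.left
        have : (fst G (Tg g)).left ((z0 g).left s) = (z0 g ≫ fst G (Tg g)).left s := by
          rw [Over.comp_left]; rfl
        rw [this]
        unfold z0
        rw [lift_fst, Over.comp_left]
        show (η[G]).left ((toUnit (Tg g)).left s) ∈ _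
        have hts : (toUnit (Tg g)).left s = t :=
          @Subsingleton.elim _ (show Subsingleton ((𝟙_ (Over (Spec (CommRingCat.of k)))).left) from
            subsingleton_Sk) _ _
        rw [hts]
        exact he
      · have : (mT g).left ((z0 g).left s) = (z0 g ≫ mT g).left s := by
          rw [Over.comp_left]; rfl
        rw [this, z0_mT, gt_left_apply]
  rw [← heq]
  exact hV

end General

theorem part1 (G G₀ : Over (Spec (CommRingCat.of k))) [GrpObj G] [GrpObj G₀]
    [LocallyOfFiniteType G.hom] [QuasiCompact G.hom]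
    (r₀ : G₀ ⟶ G) (t : ↥((𝟙_ (Over (Spec (CommRingCat.of k)))).left))
    (hr₀ : Set.range ⇑r₀.left.base = connectedComponent ((η[G]).left.base t))
    (X : Over (Spec (CommRingCat.of k))) (a : AlgGrp.Action G X)
    (o : 𝟙_ (Over (Spec (CommRingCat.of k))) ⟶ X) (hX : AGF.IsQuotient r₀ X a o) :
    IsFinite X.hom := by
  obtain ⟨hlft, hfl, hsurj, hpb⟩ := hX
  haveI : IsLocallyNoetherian G.left := LocallyOfFiniteType.isLocallyNoetherian G.hom
  haveI : CompactSpace G.left := QuasiCompact.compactSpace_of_compactSpace G.hom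
  haveI : IsNoetherian G.left := ⟨⟩
  have hopen : IsOpen (Set.range r₀.left) := by
    have : Set.range r₀.left = connectedComponent ((η[G]).left.base t) := hr₀
    rw [this]
    exact isOpen_connectedComponent_of_noetherian _
  have he : (η[G]).left t ∈ Set.range r₀.left := by
    have : Set.range r₀.left = connectedComponent ((η[G]).left.base t) := hr₀
    rw [this]
    exact mem_connectedComponent
  haveI : IsLocallyNoetherian X.left := LocallyOfFiniteType.isLocallyNoetherian X.hom
  haveI : LocallyOfFiniteType (a.orbitMap o).left := by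
    have : LocallyOfFiniteType ((a.orbitMap o).left ≫ X.hom) := by
      rw [Over.w]; infer_instance
    exact locallyOfFiniteType_of_comp (a.orbitMap o).left X.hom
  haveI : LocallyOfFinitePresentation (a.orbitMap o).left := inferInstance
  have hp : IsOpenMap (a.orbitMap o).left := (a.orbitMap o).left.isOpenMap
  have hsing : ∀ x : X.left, IsOpen ({x} : Set X.left) := by
    intro x
    obtain ⟨g, rfl⟩ := hsurj.surj x
    exact isOpen_singleton r₀ (a.orbitMap o) hpb.w hp t hopen he g
  haveI : DiscreteTopology X.left := discreteTopology_iff_isOpen_singleton.mpr hsing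
  haveI : CompactSpace X.left :=
    (hsurj.surj).compactSpace (a.orbitMap o).left.continuous
  haveI : Finite X.left := finite_of_compact_of_discrete
  haveI : LocallyQuasiFinite X.hom :=
    .of_finite_preimage_singleton _ (fun _ => Set.toFinite _)
  haveI : QuasiCompact X.hom := HasAffineProperty.iff_of_isAffine.mpr ‹CompactSpace X.left›
  haveI : IsLocallyArtinian (Spec (CommRingCat.of k)) :=
    Scheme.isLocallyArtinianScheme_Spec.mpr inferInstance
  exact IsFinite.of_locallyQuasiFinite X.hom

section Part2

variable {G : Over (Spec (CommRingCat.of k))} [GrpObj G]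
  {X : Over (Spec (CommRingCat.of k))} (a : AlgGrp.Action G X)
  (o : 𝟙_ (Over (Spec (CommRingCat.of k))) ⟶ X)

theorem unit_orbit : η[G] ≫ a.orbitMap o = o := by
  unfold AlgGrp.Action.orbitMap
  have h1 : η[G] ≫ lift (𝟙 G) (toUnit G ≫ o) = o ≫ (λ_ X).inv ≫ (η[G] ▷ X) := by
    apply CartesianMonoidalCategory.hom_ext
    · simp only [Category.assoc, lift_fst, Category.comp_id, whiskerRight_fst,
        leftUnitor_inv_fst_assoc]
      rw [← Category.assoc, toUnit_unique (o ≫ toUnit X) (𝟙 _), Category.id_comp]
    · simp only [Category.assoc, lift_snd, whiskerRight_snd, leftUnitor_inv_snd, Category.comp_id]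
      rw [← Category.assoc, toUnit_unique (η[G] ≫ toUnit G) (𝟙 _), Category.id_comp]
  rw [← Category.assoc, h1, Category.assoc, Category.assoc, a.one_act, Iso.inv_hom_id,
    Category.comp_id]

/-- a morphism from a reduced scheme landing in the rational point `o` factors through it -/
theorem factor_through_point [IsSeparated X.hom] {Y : Over (Spec (CommRingCat.of k))}
    [IsReduced Y.left] (f : Y ⟶ X)
    (t : ↥((𝟙_ (Over (Spec (CommRingCat.of k)))).left))
    (hf : ∀ y : Y.left, f.left y = o.left t) : f = toUnit Y ≫ o := by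
  haveI : IsClosedImmersion (o.left ≫ X.hom) := by
    rw [Over.w o]
    exact inferInstanceAs (IsClosedImmersion (𝟙 _))
  haveI : IsClosedImmersion o.left := IsClosedImmersion.of_comp o.left X.hom
  haveI : Surjective (pullback.fst f.left o.left) := by
    constructor
    rw [← Set.range_eq_univ, Scheme.Pullback.range_fst]
    ext y
    simp only [Set.mem_preimage, Set.mem_range, Set.mem_univ, iff_true]
    exact ⟨t, (hf y).symm⟩
  haveI : IsIso (pullback.fst f.left o.left) := isIso_of_isClosedImmersion_of_surjective _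
  have h1 : f.left = (inv (pullback.fst f.left o.left) ≫ pullback.snd f.left o.left) ≫ o.left := by
    rw [Category.assoc, ← pullback.condition, IsIso.inv_hom_id_assoc]
  have h2 : inv (pullback.fst f.left o.left) ≫ pullback.snd f.left o.left = Y.hom := by
    have h3 : f.left ≫ X.hom = Y.hom := Over.w f
    have h4 : o.left ≫ X.hom = 𝟙 _ := Over.w o
    calc inv (pullback.fst f.left o.left) ≫ pullback.snd f.left o.left
        = (inv (pullback.fst f.left o.left) ≫ pullback.snd f.left o.left) ≫ (o.left ≫ X.hom) := by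
          rw [h4]; exact (Category.comp_id _).symm
      _ = ((inv (pullback.fst f.left o.left) ≫ pullback.snd f.left o.left) ≫ o.left) ≫ X.hom :=
          (Category.assoc _ _ _).symm
      _ = f.left ≫ X.hom := by rw [← h1]
      _ = Y.hom := h3
  apply Over.OverMorphism.ext
  rw [Over.comp_left, h1, h2]
  rfl

end Part2

theorem part2 (G G₀ : Over (Spec (CommRingCat.of k))) [GrpObj G] [GrpObj G₀]
    (r₀ : G₀ ⟶ G) [IsReduced G₀.left] (t : ↥((𝟙_ (Over (Spec (CommRingCat.of k)))).left))
    (hr₀ : Set.range ⇑r₀.left.base = connectedComponent ((η[G]).left.base t))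
    (H : Over (Spec (CommRingCat.of k))) [GrpObj H] (h : H ⟶ G)
    (X : Over (Spec (CommRingCat.of k))) (a : AlgGrp.Action G X)
    (o : 𝟙_ (Over (Spec (CommRingCat.of k))) ⟶ X)
    (hX : AGF.IsQuotient h X a o) (hfin : IsFinite X.hom) : ∃ g : G₀ ⟶ H, g ≫ h = r₀ := by
  obtain ⟨-, -, -, hpb⟩ := hX
  haveI : IsLocallyArtinian (Spec (CommRingCat.of k)) :=
    Scheme.isLocallyArtinianScheme_Spec.mpr inferInstance
  haveI : IsLocallyArtinian X.left := IsLocallyArtinian.of_locallyQuasiFinite X.hom
  haveI : DiscreteTopology X.left := inferInstance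
  have hclopen : IsClopen ((a.orbitMap o).left ⁻¹' {o.left t}) :=
    (isClopen_discrete _).preimage (a.orbitMap o).left.continuous
  have he : (η[G]).left t ∈ (a.orbitMap o).left ⁻¹' {o.left t} := by
    show (a.orbitMap o).left ((η[G]).left t) = o.left t
    have : (a.orbitMap o).left ((η[G]).left t) = (η[G] ≫ a.orbitMap o).left t := by
      rw [Over.comp_left]; rfl
    rw [this, unit_orbit]
  have hsub : Set.range r₀.left ⊆ (a.orbitMap o).left ⁻¹' {o.left t} := by
    have : Set.range r₀.left = connectedComponent ((η[G]).left.base t) := hr₀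
    rw [this]
    exact hclopen.connectedComponent_subset he
  have hconst : r₀ ≫ a.orbitMap o = toUnit G₀ ≫ o := by
    apply factor_through_point o _ t
    intro y
    have : (r₀ ≫ a.orbitMap o).left y = (a.orbitMap o).left (r₀.left y) := by
      rw [Over.comp_left]; rfl
    rw [this]
    exact hsub ⟨y, rfl⟩
  have hcomm : (toUnit G₀ ≫ η[G]) ≫ a.orbitMap o = r₀ ≫ a.orbitMap o := by
    rw [Category.assoc, unit_orbit, hconst]
  obtain ⟨l, hl1, hl2⟩ := hpb.exists_lift _ _ hcomm
  refine ⟨l ≫ snd G H, ?_⟩
  have e : l ≫ (G ◁ h) = lift (l ≫ fst G H) ((l ≫ snd G H) ≫ h) := by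
    apply CartesianMonoidalCategory.hom_ext
    · simp only [Category.assoc, whiskerLeft_fst, lift_fst]
    · simp only [Category.assoc, whiskerLeft_snd, lift_snd]
  rw [← hl2, ← Category.assoc, e, ← Hom.mul_def, hl1, ← Hom.one_def, _root_.one_mul]

end Groth.Agent.S14596

namespace Groth.Agent.S14596

/-- Let k be a perfect field, G a k-group scheme of finite type and r₀ : G⁰_red → G the reduced neutral
component of G, i.e. a homomorphism and closed immersion from a reduced k-group scheme whose image
is the connected component of the identity. Then the homogeneous space G/G⁰_red is finite, and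
G⁰_red is the smallest closed subgroup scheme H of G such that G/H is finite: every such H contains
G⁰_red. -/
theorem result (k : Type u) [Field k] [PerfectField k]
    (G G₀ : Over (Spec (CommRingCat.of k))) [GrpObj G] [GrpObj G₀] [LocallyOfFiniteType G.hom] [QuasiCompact G.hom]
    [LocallyOfFiniteType G₀.hom] [QuasiCompact G₀.hom]
    (r₀ : G₀ ⟶ G) [IsMonHom r₀] [IsClosedImmersion r₀.left] [IsReduced G₀.left] (t : ↥((𝟙_ (Over (Spec (CommRingCat.of k)))).left))
    (hr₀ : Set.range ⇑r₀.left.base = connectedComponent ((η[G]).left.base t)) :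
    (∀ (X : Over (Spec (CommRingCat.of k))) (a : AlgGrp.Action G X) (o : 𝟙_ (Over (Spec (CommRingCat.of k))) ⟶ X), AGF.IsQuotient r₀ X a o → IsFinite X.hom) ∧
    ∀ (H : Over (Spec (CommRingCat.of k))) [GrpObj H] (h : H ⟶ G) [IsMonHom h] [IsClosedImmersion h.left]
      (X : Over (Spec (CommRingCat.of k))) (a : AlgGrp.Action G X) (o : 𝟙_ (Over (Spec (CommRingCat.of k))) ⟶ X),
      AGF.IsQuotient h X a o → IsFinite X.hom → ∃ g : G₀ ⟶ H, g ≫ h = r₀ := by
  exact ⟨fun X a o hX => part1 G G₀ r₀ t hr₀ X a o hX, fun H _ h _ _ X a o hX hfin => part2 G G₀ r₀ t hr₀ H h X a o hX hfin⟩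

end Groth.Agent.S14596
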