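import Groth.Statements.S14608
import Mathlib

set_option autoImplicit false
universe u v
open CAlg

namespace Groth.Agent.S14608
open TensorProduct Function

section localCase

variable {R : Type u} [CommRing R] [IsLocalRing R]
  {K' M' I' F' C' : Type*} [AddCommGroup K'] [Module R K'] [AddCommGroup M'] [Module R M']
  [AddCommGroup I'] [Module R I'] [AddCommGroup F'] [Module R F'] [AddCommGroup C'] [Module R C']
  [Module.Finite R M'] [Module.Finite R F'] [Module.Free R F']
  (ι : K' →ₗ[R] M') (q : M' →ₗ[R] I') (j : I' →ₗ[R] F') (g : F' →ₗ[R] C')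

local notation "𝕜" => IsLocalRing.ResidueField R

include ι q j g in
theorem local_a_to_c (hιq : Exact ι q) (hq : Surjective q)
    (hjg : Exact j g) (hg : Surjective g)
    (ha : Exact (LinearMap.lTensor 𝕜 ι) (LinearMap.lTensor 𝕜 (j ∘ₗ q))) :
    Module.Free R C' := by
  have : Module.Finite R I' := Module.Finite.of_surjective q hq
  refine Module.free_of_lTensor_residueField_injective j g hg hjg ?_
  rw [injective_iff_map_eq_zero]
  intro z hz
  obtain ⟨w, rfl⟩ := LinearMap.lTensor_surjective 𝕜 hq z
  have h1 : LinearMap.lTensor 𝕜 (j ∘ₗ q) w = 0 := by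
    rw [LinearMap.lTensor_comp, LinearMap.comp_apply, hz]
  obtain ⟨v, rfl⟩ := (ha w).mp h1
  rw [← LinearMap.comp_apply, ← LinearMap.lTensor_comp]
  have : q ∘ₗ ι = 0 := by
    ext x; exact (hιq (ι x)).mpr ⟨x, rfl⟩
  rw [this, LinearMap.lTensor_zero, LinearMap.zero_apply]

include ι q j g in
theorem local_c_to_b (hι : Injective ι) (hιq : Exact ι q) (hq : Surjective q)
    (hj : Injective j) (hjg : Exact j g) (hg : Surjective g) [Module.Free R C'] :
    (Exact (LinearMap.lTensor 𝕜 ι) (LinearMap.lTensor 𝕜 (j ∘ₗ q)) ∧
      Injective (LinearMap.lTensor 𝕜 ι)) ∧ Module.Free R I' := by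
  have : Module.Finite R I' := Module.Finite.of_surjective q hq
  -- retraction of `j`
  obtain ⟨ρ, hρ⟩ : ∃ ρ : F' →ₗ[R] I', ρ ∘ₗ j = LinearMap.id :=
    ((Exact.split_tfae hjg hj hg).out 0 1).mp
      (Module.projective_lifting_property g LinearMap.id hg)
  have : Module.Projective R I' := Module.Projective.of_split j ρ hρ
  obtain ⟨r, hr⟩ : ∃ r : M' →ₗ[R] K', r ∘ₗ ι = LinearMap.id :=
    ((Exact.split_tfae hιq hι hq).out 0 1).mp
      (Module.projective_lifting_property q LinearMap.id hq)
  have hinj : Injective (LinearMap.lTensor 𝕜 ι) := by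
    have : LinearMap.lTensor 𝕜 r ∘ₗ LinearMap.lTensor 𝕜 ι = LinearMap.id := by
      rw [← LinearMap.lTensor_comp, hr, LinearMap.lTensor_id]
    exact Function.HasLeftInverse.injective ⟨_, LinearMap.congr_fun this⟩
  have hinjj : Injective (LinearMap.lTensor 𝕜 j) := by
    have : LinearMap.lTensor 𝕜 ρ ∘ₗ LinearMap.lTensor 𝕜 j = LinearMap.id := by
      rw [← LinearMap.lTensor_comp, hρ, LinearMap.lTensor_id]
    exact Function.HasLeftInverse.injective ⟨_, LinearMap.congr_fun this⟩
  refine ⟨⟨?_, hinj⟩, Module.free_of_flat_of_isLocalRing⟩
  have hex := lTensor_exact 𝕜 hιq hq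
  intro w
  rw [← hex w, LinearMap.lTensor_comp, LinearMap.comp_apply]
  constructor
  · intro h
    apply hinjj
    rw [h, map_zero]
  · intro h
    rw [h, map_zero]

end localCase


section transfer

/-- transfer of exactness along bijections -/
theorem exact_iff_of_bij {X₁ Y₁ Z₁ X₂ Y₂ Z₂ : Type*} [Zero Z₁] [Zero Z₂]
    {f₁ : X₁ → Y₁} {g₁ : Y₁ → Z₁} {f₂ : X₂ → Y₂} {g₂ : Y₂ → Z₂}
    (eX : X₁ ≃ X₂) (eY : Y₁ ≃ Y₂) (eZ : Z₁ ≃ Z₂) (hZ : eZ 0 = 0)
    (h1 : ∀ x, eY (f₁ x) = f₂ (eX x)) (h2 : ∀ y, eZ (g₁ y) = g₂ (eY y)) :
    Exact f₁ g₁ ↔ Exact f₂ g₂ := by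
  constructor
  · intro h y
    obtain ⟨y, rfl⟩ := eY.surjective y
    rw [← h2, ← hZ, eZ.injective.eq_iff, h y]
    constructor
    · rintro ⟨x, rfl⟩; exact ⟨eX x, (h1 x).symm⟩
    · rintro ⟨x, hx⟩
      obtain ⟨x, rfl⟩ := eX.surjective x
      rw [← h1] at hx
      exact ⟨x, eY.injective hx⟩
  · intro h y
    rw [← eZ.injective.eq_iff, hZ, h2, h (eY y)]
    constructor
    · rintro ⟨x, hx⟩
      obtain ⟨x, rfl⟩ := eX.surjective x
      rw [← h1] at hx
      exact ⟨x, eY.injective hx⟩
    · rintro ⟨x, rfl⟩; exact ⟨eX x, (h1 x).symm⟩

variable {A : Type u} [CommRing A] (Ap : Type u) [CommRing Ap] [Algebra A Ap]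
  (κ : Type u) [Field κ] [Algebra A κ] [Algebra Ap κ] [IsScalarTower A Ap κ]
  {X Y : Type*} [AddCommGroup X] [Module A X] [AddCommGroup Y] [Module A Y]

theorem cancel_lTensor (f : X →ₗ[A] Y) (z : κ ⊗[Ap] (Ap ⊗[A] X)) :
    (AlgebraTensorModule.cancelBaseChange A Ap κ κ Y)
      (LinearMap.lTensor κ (f.baseChange Ap) z) =
    LinearMap.lTensor κ f ((AlgebraTensorModule.cancelBaseChange A Ap κ κ X) z) := by
  induction z using TensorProduct.induction_on with
  | zero => simp
  | add a b ha hb => simp only [map_add, ha, hb]
  | tmul k w =>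
    induction w using TensorProduct.induction_on with
    | zero => simp
    | add a b ha hb => simp only [TensorProduct.tmul_add, map_add, ha, hb]
    | tmul r b => simp

end transfer

section global

variable (A : Type u) [CommRing A]
    (M : Type v) (F : Type v) [AddCommGroup M] [Module A M]
    [AddCommGroup F] [Module A F]
    (δ : M →ₗ[A] F) (p : Ideal A) [p.IsPrime]

/-- exactness over `A` is equivalent to exactness of the base change to `A_p`. -/
theorem exact_iff_local :
    Exact (LinearMap.lTensor p.ResidueField (LinearMap.ker δ).subtype)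
        (LinearMap.lTensor p.ResidueField δ) ↔
    Exact (LinearMap.lTensor p.ResidueField
        ((LinearMap.ker δ).subtype.baseChange (Localization.AtPrime p)))
      (LinearMap.lTensor p.ResidueField (δ.baseChange (Localization.AtPrime p))) := by
  symm
  refine exact_iff_of_bij
    (AlgebraTensorModule.cancelBaseChange A (Localization.AtPrime p) p.ResidueField
      p.ResidueField (LinearMap.ker δ)).toEquiv
    (AlgebraTensorModule.cancelBaseChange A (Localization.AtPrime p) p.ResidueField
      p.ResidueField M).toEquiv
    (AlgebraTensorModule.cancelBaseChange A (Localization.AtPrime p) p.ResidueField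
      p.ResidueField F).toEquiv
    (map_zero (AlgebraTensorModule.cancelBaseChange A (Localization.AtPrime p) p.ResidueField
      p.ResidueField F)) ?_ ?_
  · intro x
    exact cancel_lTensor (Localization.AtPrime p) p.ResidueField _ x
  · intro x
    exact cancel_lTensor (Localization.AtPrime p) p.ResidueField _ x

theorem injective_iff_local :
    Injective (LinearMap.lTensor p.ResidueField (LinearMap.ker δ).subtype) ↔
    Injective (LinearMap.lTensor p.ResidueField
        ((LinearMap.ker δ).subtype.baseChange (Localization.AtPrime p))) := by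
  have key := cancel_lTensor (Localization.AtPrime p) p.ResidueField (LinearMap.ker δ).subtype
  set eK := AlgebraTensorModule.cancelBaseChange A (Localization.AtPrime p) p.ResidueField
      p.ResidueField (LinearMap.ker δ)
  set eM := AlgebraTensorModule.cancelBaseChange A (Localization.AtPrime p) p.ResidueField
      p.ResidueField M
  constructor
  · intro h x y hxy
    apply eK.injective
    apply h
    rw [← key, ← key, hxy]
  · intro h x y hxy
    obtain ⟨x, rfl⟩ := eK.surjective x
    obtain ⟨y, rfl⟩ := eK.surjective y
    rw [← key, ← key] at hxy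
    rw [h (eM.injective hxy)]

end global

section main

variable (A : Type u) [CommRing A] [IsNoetherianRing A]
    (M : Type v) (F : Type v) [AddCommGroup M] [Module A M] [Module.Finite A M]
    [AddCommGroup F] [Module A F] [Module.Finite A F] [Module.Free A F]
    (δ : M →ₗ[A] F) (p : Ideal A) [p.IsPrime]

theorem main :
    [ Function.Exact (LinearMap.lTensor p.ResidueField (LinearMap.ker δ).subtype)
        (LinearMap.lTensor p.ResidueField δ),
      Function.Exact (LinearMap.lTensor p.ResidueField (LinearMap.ker δ).subtype)
        (LinearMap.lTensor p.ResidueField δ) ∧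
        Function.Injective (LinearMap.lTensor p.ResidueField (LinearMap.ker δ).subtype),
      Module.Free (Localization.AtPrime p)
        (LocalizedModule p.primeCompl (F ⧸ LinearMap.range δ)) ].TFAE ∧
    (Function.Exact (LinearMap.lTensor p.ResidueField (LinearMap.ker δ).subtype)
        (LinearMap.lTensor p.ResidueField δ) →
      Module.Free (Localization.AtPrime p)
        (LocalizedModule p.primeCompl (LinearMap.range δ))) := by
  have hιq : Exact (LinearMap.ker δ).subtype δ.rangeRestrict := by
    intro x
    constructor
    · intro hx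
      have : δ x = 0 := congrArg Subtype.val hx
      exact ⟨⟨x, this⟩, rfl⟩
    · rintro ⟨y, rfl⟩
      exact Subtype.ext y.2
  have hq : Surjective δ.rangeRestrict := LinearMap.surjective_rangeRestrict δ
  have hjg : Exact (LinearMap.range δ).subtype (LinearMap.range δ).mkQ :=
    LinearMap.exact_subtype_mkQ _
  have hg : Surjective (LinearMap.range δ).mkQ := Submodule.mkQ_surjective _
  have hjq : (LinearMap.range δ).subtype ∘ₗ δ.rangeRestrict = δ :=
    LinearMap.subtype_comp_codRestrict _ _ _
  -- base change to `A_p`
  have hι' : Injective ((LinearMap.ker δ).subtype.baseChange (Localization.AtPrime p)) := by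
    rw [LinearMap.baseChange_eq_ltensor]
    exact Module.Flat.lTensor_preserves_injective_linearMap _ Subtype.val_injective
  have hιq' : Exact ((LinearMap.ker δ).subtype.baseChange (Localization.AtPrime p))
      (δ.rangeRestrict.baseChange (Localization.AtPrime p)) := by
    rw [LinearMap.baseChange_eq_ltensor, LinearMap.baseChange_eq_ltensor]
    exact lTensor_exact _ hιq hq
  have hq' : Surjective (δ.rangeRestrict.baseChange (Localization.AtPrime p)) := by
    rw [LinearMap.baseChange_eq_ltensor]
    exact LinearMap.lTensor_surjective _ hq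
  have hj' : Injective ((LinearMap.range δ).subtype.baseChange (Localization.AtPrime p)) := by
    rw [LinearMap.baseChange_eq_ltensor]
    exact Module.Flat.lTensor_preserves_injective_linearMap _ Subtype.val_injective
  have hjg' : Exact ((LinearMap.range δ).subtype.baseChange (Localization.AtPrime p))
      ((LinearMap.range δ).mkQ.baseChange (Localization.AtPrime p)) := by
    rw [LinearMap.baseChange_eq_ltensor, LinearMap.baseChange_eq_ltensor]
    exact lTensor_exact _ hjg hg
  have hg' : Surjective ((LinearMap.range δ).mkQ.baseChange (Localization.AtPrime p)) := by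
    rw [LinearMap.baseChange_eq_ltensor]
    exact LinearMap.lTensor_surjective _ hg
  have hcomp : ((LinearMap.range δ).subtype.baseChange (Localization.AtPrime p)) ∘ₗ
      (δ.rangeRestrict.baseChange (Localization.AtPrime p)) =
      δ.baseChange (Localization.AtPrime p) := by
    rw [← LinearMap.baseChange_comp, hjq]
  have key1 : Exact (LinearMap.lTensor p.ResidueField (LinearMap.ker δ).subtype)
        (LinearMap.lTensor p.ResidueField δ) →
      Module.Free (Localization.AtPrime p)
        (Localization.AtPrime p ⊗[A] (F ⧸ LinearMap.range δ)) := by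
    intro ha
    refine local_a_to_c _ _ _ _ hιq' hq' hjg' hg' ?_
    rw [hcomp]
    exact (exact_iff_local A M F δ p).mp ha
  have key2 : Module.Free (Localization.AtPrime p)
        (Localization.AtPrime p ⊗[A] (F ⧸ LinearMap.range δ)) →
      (Exact (LinearMap.lTensor p.ResidueField (LinearMap.ker δ).subtype)
        (LinearMap.lTensor p.ResidueField δ) ∧
        Injective (LinearMap.lTensor p.ResidueField (LinearMap.ker δ).subtype)) ∧
      Module.Free (Localization.AtPrime p)
        (Localization.AtPrime p ⊗[A] (LinearMap.range δ)) := by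
    intro hc
    obtain ⟨⟨h1, h2⟩, h3⟩ := local_c_to_b _ _ _ _ hι' hιq' hq' hj' hjg' hg'
    rw [hcomp] at h1
    exact ⟨⟨(exact_iff_local A M F δ p).mpr h1, (injective_iff_local A M F δ p).mpr h2⟩, h3⟩
  refine ⟨?_, ?_⟩
  · tfae_have 1 → 3 := fun ha =>
      have := key1 ha
      Module.Free.of_equiv (LocalizedModule.equivTensorProduct p.primeCompl _).symm
    tfae_have 3 → 2 := fun hc =>
      (key2 (Module.Free.of_equiv (LocalizedModule.equivTensorProduct p.primeCompl _))).1
    tfae_have 2 → 1 := fun h => h.1
    tfae_finish
  · intro ha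
    have := (key2 (key1 ha)).2
    exact Module.Free.of_equiv (LocalizedModule.equivTensorProduct p.primeCompl _).symm

end main
end Groth.Agent.S14608

namespace Groth.Agent.S14608

open TensorProduct in
/-- Let A be a Noetherian ring, M a finitely generated A-module, F a finitely generated free A-module, δ
: M → F an A-linear map and p a prime of A with residue field κ(p). The following are equivalent:
(a) the natural map (ker δ) ⊗ κ(p) → ker(δ ⊗ κ(p)) is surjective (its image is the whole kernel);
(b) that map is bijective; (c) (F / im δ) localized at p is a free module over the local ring A_p.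
Moreover, if these hold then (im δ) localized at p is free over A_p. (The published statement takes
M to be the cokernel of a map of finitely generated free modules; over a Noetherian ring this is
every finitely generated M, which is what this row takes.) -/
theorem result (A : Type u) [CommRing A] [IsNoetherianRing A]
    (M : Type v) (F : Type v) [AddCommGroup M] [Module A M] [Module.Finite A M]
    [AddCommGroup F] [Module A F] [Module.Finite A F] [Module.Free A F]
    (δ : M →ₗ[A] F) (p : Ideal A) [p.IsPrime] :
    [ Function.Exact (LinearMap.lTensor p.ResidueField (LinearMap.ker δ).subtype)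
        (LinearMap.lTensor p.ResidueField δ),
      Function.Exact (LinearMap.lTensor p.ResidueField (LinearMap.ker δ).subtype)
        (LinearMap.lTensor p.ResidueField δ) ∧
        Function.Injective (LinearMap.lTensor p.ResidueField (LinearMap.ker δ).subtype),
      Module.Free (Localization.AtPrime p)
        (LocalizedModule p.primeCompl (F ⧸ LinearMap.range δ)) ].TFAE ∧
    (Function.Exact (LinearMap.lTensor p.ResidueField (LinearMap.ker δ).subtype)
        (LinearMap.lTensor p.ResidueField δ) →
      Module.Free (Localization.AtPrime p)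
        (LocalizedModule p.primeCompl (LinearMap.range δ))) := by
  exact main A M F δ p

end Groth.Agent.S14608
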