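import Groth.Statements.S9501
import Mathlib.AlgebraicGeometry.Stalk
import Mathlib.AlgebraicGeometry.Properties

set_option autoImplicit false
set_option linter.style.haveILetI false
universe u
open SchMor

namespace Groth.Agent.S9501


open AlgebraicGeometry CategoryTheory CategoryTheory.Limits TopologicalSpace Opposite

lemma fiber_base {X S : Scheme.{u}} (f : X ⟶ S) (s : S) (y : ↥(f.fiber s)) :
    f ((f.fiberι s) y) = s := by
  have h0 : (f.fiberι s ≫ f) y = (f.fiberToSpecResidueField s ≫ S.fromSpecResidueField s) y := by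
    rw [Scheme.Hom.fiber_fac]
  rw [Scheme.Hom.comp_apply, Scheme.Hom.comp_apply, Scheme.fromSpecResidueField_apply] at h0
  exact h0

lemma app_eq_zero_of_eq {X Y : Scheme.{u}} {h h' : X ⟶ Y} (e : h = h') (V : Y.Opens)
    (b' : Γ(Y, V)) (H : h'.app V b' = 0) : h.app V b' = 0 := by
  subst e; exact H

/-- sections of `S` vanishing at `s` pull back to zero on the fibre. -/
lemma app_eq_zero {X S : Scheme.{u}} (f : X ⟶ S) (s : S) (V : S.Opens) (b' : Γ(S, V))
    (hb' : s ∉ S.basicOpen b') : (f.fiberι s ≫ f).app V b' = 0 := by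
  have h1 : (S.fromSpecResidueField s).app V b' = 0 := by
    rw [← AlgebraicGeometry.basicOpen_eq_bot_iff, ← Scheme.preimage_basicOpen, eq_bot_iff]
    intro p hp
    have hp' : (S.fromSpecResidueField s) p ∈ S.basicOpen b' := hp
    rw [Scheme.fromSpecResidueField_apply] at hp'
    exact hb' hp'
  apply app_eq_zero_of_eq (Scheme.Hom.fiber_fac f s)
  have h2 : (f.fiberToSpecResidueField s ≫ S.fromSpecResidueField s).app V b' =
      (f.fiberToSpecResidueField s).app _ ((S.fromSpecResidueField s).app V b') := rfl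
  rw [h2, h1]
  exact map_zero _

/-- the easy inclusion: `m_s O_x` dies in the fibre. -/
lemma map_le_ker {X S : Scheme.{u}} (f : X ⟶ S) (s : S) (y : ↥(f.fiber s)) :
    Ideal.map (f.stalkMap ((f.fiberι s).base y)).hom
      (IsLocalRing.maximalIdeal (S.presheaf.stalk (f.base ((f.fiberι s).base y)))) ≤
    RingHom.ker ((f.fiberι s).stalkMap y).hom := by
  rw [Ideal.map_le_iff_le_comap]
  intro b hb
  rw [Ideal.mem_comap, RingHom.mem_ker]
  have hxs := fiber_base f s y
  obtain ⟨V, hV, b', rfl⟩ := TopCat.Presheaf.exists_germ_eq S.presheaf b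
  have hb' : s ∉ S.basicOpen b' := by
    intro hs
    rw [← hxs, Scheme.mem_basicOpen _ _ _ hV] at hs
    exact hb hs
  have h2 := app_eq_zero f s V b' hb'
  have e1 := Scheme.Hom.germ_stalkMap_apply f V ((f.fiberι s) y) hV b'
  have e2 := Scheme.Hom.germ_stalkMap_apply (f.fiberι s) (f ⁻¹ᵁ V) y hV (f.app V b')
  have h3 : (f.fiberι s).app (f ⁻¹ᵁ V) (f.app V b') = (f.fiberι s ≫ f).app V b' := rfl
  rw [h3, h2] at e2
  exact (congrArg _ e1).trans (e2.trans (map_zero _))

lemma exists_lift {X S : Scheme.{u}} (f : X ⟶ S) (s : S) (x : X) (hxs : f x = s)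
    (R : CommRingCat.{u}) (q : X.presheaf.stalk x ⟶ R)
    (hq : ∀ b ∈ IsLocalRing.maximalIdeal (S.presheaf.stalk (f x)),
      q.hom ((f.stalkMap x).hom b) = 0) :
    ∃ g : Spec R ⟶ f.fiber s, g ≫ f.fiberι s = Spec.map q ≫ X.fromSpecStalk x := by
  subst hxs
  let κ' : S.residueField (f x) ⟶ R :=
    CommRingCat.ofHom (Ideal.Quotient.lift (IsLocalRing.maximalIdeal (S.presheaf.stalk (f x)))
      (f.stalkMap x ≫ q).hom (fun b hb => hq b hb))
  have hκ : S.residue (f x) ≫ κ' = f.stalkMap x ≫ q := by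
    ext b
    rfl
  have hcomm : (Spec.map q ≫ X.fromSpecStalk x) ≫ f = Spec.map κ' ≫ S.fromSpecResidueField (f x) := by
    rw [Scheme.fromSpecResidueField, ← Spec.map_comp_assoc, hκ, Spec.map_comp_assoc,
      Scheme.SpecMap_stalkMap_fromSpecStalk, Category.assoc]
  exact ⟨pullback.lift _ _ hcomm, pullback.lift_fst _ _ _⟩


set_option backward.isDefEq.respectTransparency false in
lemma aux {X Y : Scheme.{u}} (ι : Y ⟶ X) (R : CommRingCat.{u}) [IsLocalRing R]
    (g : Spec R ⟶ Y) (y : Y) (hgc : g (IsLocalRing.closedPoint R) = y) (U : X.Opens)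
    (hxU : ι y ∈ U) (a' : Γ(X, U))
    (ha : (ι.stalkMap y).hom (X.presheaf.germ U (ι y) hxU a') = 0)
    (h : Spec R ⟶ X) (hg : g ≫ ι = h) (hU : h (IsLocalRing.closedPoint R) ∈ U) :
    (Scheme.stalkClosedPointTo h).hom (X.presheaf.germ U (h (IsLocalRing.closedPoint R)) hU a') = 0 := by
  subst hg
  subst hgc
  rw [Scheme.stalkClosedPointTo_comp]
  exact (congrArg (ConcreteCategory.hom (Scheme.stalkClosedPointTo g)) ha).trans (map_zero _)

set_option backward.isDefEq.respectTransparency false in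
lemma ker_le_map {X S : Scheme.{u}} (f : X ⟶ S) (s : S) (y : ↥(f.fiber s)) :
    RingHom.ker ((f.fiberι s).stalkMap y).hom ≤
    Ideal.map (f.stalkMap ((f.fiberι s).base y)).hom
      (IsLocalRing.maximalIdeal (S.presheaf.stalk (f.base ((f.fiberι s).base y)))) := by
  intro a ha
  rw [RingHom.mem_ker] at ha
  have hxs := fiber_base f s y
  obtain ⟨x, hx⟩ : ∃ x : X, x = (f.fiberι s) y := ⟨_, rfl⟩
  obtain ⟨I, hI⟩ : ∃ I : Ideal (X.presheaf.stalk ((f.fiberι s) y)), I = Ideal.map
      (f.stalkMap ((f.fiberι s) y)).hom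
      (IsLocalRing.maximalIdeal (S.presheaf.stalk (f ((f.fiberι s) y)))) := ⟨_, rfl⟩
  have hI' : I ≤ IsLocalRing.maximalIdeal (X.presheaf.stalk ((f.fiberι s) y)) := by
    rw [hI, Ideal.map_le_iff_le_comap]
    intro b hb
    exact (IsLocalRing.mem_maximalIdeal _).mpr
      (fun hu => hb (isUnit_of_map_unit (f.stalkMap ((f.fiberι s) y)).hom b hu))
  haveI : Nontrivial (X.presheaf.stalk ((f.fiberι s) y) ⧸ I) := Ideal.Quotient.nontrivial_iff.mpr
    (fun h => (IsLocalRing.maximalIdeal.isMaximal _).ne_top (top_le_iff.mp (h ▸ hI')))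
  haveI : IsLocalRing (X.presheaf.stalk ((f.fiberι s) y) ⧸ I) :=
    IsLocalRing.of_surjective' (Ideal.Quotient.mk I) Ideal.Quotient.mk_surjective
  let R : CommRingCat.{u} := CommRingCat.of (X.presheaf.stalk ((f.fiberι s) y) ⧸ I)
  let quot : X.presheaf.stalk ((f.fiberι s) y) ⟶ R := CommRingCat.ofHom (Ideal.Quotient.mk I)
  haveI : IsLocalRing R := ‹IsLocalRing (X.presheaf.stalk ((f.fiberι s) y) ⧸ I)›
  haveI : IsLocalHom quot.hom :=
    IsLocalHom.of_surjective (Ideal.Quotient.mk I) Ideal.Quotient.mk_surjective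
  obtain ⟨g, hg⟩ := exists_lift f s ((f.fiberι s) y) hxs R quot (fun b hb =>
    Ideal.Quotient.eq_zero_iff_mem.mpr (hI ▸ Ideal.mem_map_of_mem _ hb))
  have hc : (Spec.map quot ≫ X.fromSpecStalk ((f.fiberι s) y)) (IsLocalRing.closedPoint R) =
      (f.fiberι s) y := by
    rw [Scheme.Hom.comp_apply, Spec_closedPoint, Scheme.fromSpecStalk_closedPoint]
  have hgc : g (IsLocalRing.closedPoint R) = y := by
    apply (f.fiberι s).isEmbedding.injective
    have h0 : (g ≫ f.fiberι s) (IsLocalRing.closedPoint R) =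
        (Spec.map quot ≫ X.fromSpecStalk ((f.fiberι s) y)) (IsLocalRing.closedPoint R) := by
      rw [hg]
    rw [hc] at h0
    exact h0
  obtain ⟨U, hxU, a', ha'⟩ := TopCat.Presheaf.exists_germ_eq X.presheaf a
  rw [← ha'] at ha
  have hU : (Spec.map quot ≫ X.fromSpecStalk ((f.fiberι s) y)) (IsLocalRing.closedPoint R) ∈ U := by
    rw [hc]; exact hxU
  have e1 := Scheme.germ_stalkClosedPointTo_Spec_fromSpecStalk quot U hU
  have e3 := aux (f.fiberι s) R g y hgc U hxU a' ha _ hg hU
  have e4 : (X.presheaf.germ U _ hU ≫ Scheme.stalkClosedPointTo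
      (Spec.map quot ≫ X.fromSpecStalk ((f.fiberι s) y))) a' = 0 := e3
  rw [e1] at e4
  have e5 : (Ideal.Quotient.mk I) a = 0 := by rw [← ha']; exact e4
  rw [← hI]
  exact Ideal.Quotient.eq_zero_iff_mem.mp e5

theorem result' {X S : Scheme.{u}} (f : X ⟶ S) (s : S) (y : ↥(f.fiber s)) :
    Function.Surjective ((f.fiberι s).stalkMap y).hom ∧
      RingHom.ker ((f.fiberι s).stalkMap y).hom =
        Ideal.map (f.stalkMap ((f.fiberι s).base y)).hom
          (IsLocalRing.maximalIdeal (S.presheaf.stalk (f.base ((f.fiberι s).base y)))) :=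
  ⟨(f.fiberι s).stalkMap_surjective y, le_antisymm (ker_le_map f s y) (map_le_ker f s y)⟩



open AlgebraicGeometry in
open CategoryTheory in
/-- Let f : X → S be a morphism of schemes, s a point of S and y a point of the fibre X_s = X ×_S Spec
κ(s), mapping to the point x of X (so that f(x) = s). Then the homomorphism of local rings O_{X,x} →
O_{X_s,y} induced by the projection X_s → X is surjective, with kernel the ideal generated by the
image of the maximal ideal of O_{S,f(x)}; in other words O_{X_s,y} is identified with O_{X,x}/m_s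
O_{X,x} = O_{X,x} ⊗_{O_{S,s}} κ(s). -/
theorem result
    {X S : Scheme.{u}} (f : X ⟶ S) (s : S) (y : ↥(f.fiber s)) :
    Function.Surjective ((f.fiberι s).stalkMap y).hom ∧
      RingHom.ker ((f.fiberι s).stalkMap y).hom =
        Ideal.map (f.stalkMap ((f.fiberι s).base y)).hom
          (IsLocalRing.maximalIdeal (S.presheaf.stalk (f.base ((f.fiberι s).base y)))) := by
  exact result' f s y

end Groth.Agent.S9501
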