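import Groth.Statements.S14614
import Groth.Agent.S9501
import Mathlib.AlgebraicGeometry.Morphisms.FlatMono
import Mathlib.AlgebraicGeometry.Noetherian
import Mathlib.RingTheory.HopkinsLevitzki
import Mathlib.RingTheory.Filtration

set_option autoImplicit false
set_option linter.style.haveILetI false
universe u
open Mor

namespace Groth.Agent.S14614


open AlgebraicGeometry CategoryTheory CategoryTheory.Limits TopologicalSpace Opposite

lemma quot_pow_props (O : Type u) [CommRing O] [IsLocalRing O] [IsNoetherianRing O] (n : ℕ) :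
    ∃ (_ : IsLocalRing (O ⧸ IsLocalRing.maximalIdeal O ^ (n + 1))),
      IsArtinianRing (O ⧸ IsLocalRing.maximalIdeal O ^ (n + 1)) ∧
      IsLocalHom (Ideal.Quotient.mk (IsLocalRing.maximalIdeal O ^ (n + 1))) := by
  set I := IsLocalRing.maximalIdeal O ^ (n + 1) with hI
  have hIm : I ≤ IsLocalRing.maximalIdeal O := Ideal.pow_le_self (Nat.succ_ne_zero n)
  have hne : I ≠ ⊤ := fun h => (IsLocalRing.maximalIdeal.isMaximal O).ne_top
    (top_le_iff.mp (h ▸ hIm))
  haveI : Nontrivial (O ⧸ I) := Ideal.Quotient.nontrivial_iff.mpr hne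
  haveI hloc : IsLocalRing (O ⧸ I) :=
    IsLocalRing.of_surjective' (Ideal.Quotient.mk I) Ideal.Quotient.mk_surjective
  haveI hlh : IsLocalHom (Ideal.Quotient.mk I) :=
    IsLocalHom.of_surjective (Ideal.Quotient.mk I) Ideal.Quotient.mk_surjective
  refine ⟨hloc, ?_, hlh⟩
  rw [isArtinianRing_iff_isNilpotent_maximalIdeal]
  have hmax : (IsLocalRing.maximalIdeal O).map (Ideal.Quotient.mk I) =
      IsLocalRing.maximalIdeal (O ⧸ I) := by
    ext x
    obtain ⟨x, rfl⟩ := Ideal.Quotient.mk_surjective x
    simp [sup_eq_left.mpr hIm]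
  refine ⟨n + 1, ?_⟩
  rw [← hmax, ← Ideal.map_pow, Ideal.zero_eq_bot, Ideal.map_eq_bot_iff_le_ker, Ideal.mk_ker]

set_option backward.isDefEq.respectTransparency false in
lemma stalkMap_injective (S : Scheme.{u}) [IsLocallyNoetherian S]
    {Z : Scheme.{u}} (i : Z ⟶ S) [IsClosedImmersion i]
    (h : ∀ (A : Type u) [CommRing A] [IsArtinianRing A] [IsLocalRing A] (g : Spec (CommRingCat.of A) ⟶ S),
      (∃ t : Spec (CommRingCat.of (IsLocalRing.ResidueField A)) ⟶ Z,
          t ≫ i = Spec.map (CommRingCat.ofHom (IsLocalRing.residue A)) ≫ g) →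
        ∃ g' : Spec (CommRingCat.of A) ⟶ Z, g' ≫ i = g) (z : Z) :
    Function.Injective (i.stalkMap z).hom := by
  rw [injective_iff_map_eq_zero]
  intro a ha
  have hsurj : Function.Surjective (i.stalkMap z).hom := i.stalkMap_surjective z
  -- `a` lies in every power of the maximal ideal
  have key : ∀ n : ℕ, a ∈ IsLocalRing.maximalIdeal (S.presheaf.stalk (i z)) ^ (n + 1) := by
    intro n
    obtain ⟨hloc, hart, hlh⟩ := quot_pow_props (S.presheaf.stalk (i z)) n
    obtain ⟨I, hI⟩ : ∃ I : Ideal (S.presheaf.stalk (i z)),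
      I = IsLocalRing.maximalIdeal (S.presheaf.stalk (i z)) ^ (n + 1) := ⟨_, rfl⟩
    rw [← hI] at hloc hart hlh ⊢
    let R : CommRingCat.{u} := CommRingCat.of (S.presheaf.stalk (i z) ⧸ I)
    let q : S.presheaf.stalk (i z) ⟶ R := CommRingCat.ofHom (Ideal.Quotient.mk I)
    haveI : IsLocalRing R := hloc
    haveI : IsLocalHom q.hom := hlh
    let g : Spec R ⟶ S := Spec.map q ≫ S.fromSpecStalk (i z)
    -- the residue field point factors through `Z`
    have hker : RingHom.ker (i.stalkMap z).hom ≤
        RingHom.ker ((IsLocalRing.residue (S.presheaf.stalk (i z) ⧸ I)).comp q.hom) := by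
      intro b hb
      rw [RingHom.mem_ker] at hb ⊢
      have hbm : b ∈ IsLocalRing.maximalIdeal (S.presheaf.stalk (i z)) := by
        rw [IsLocalRing.mem_maximalIdeal]
        intro hu
        have := hu.map (i.stalkMap z).hom
        rw [hb] at this
        exact not_isUnit_zero this
      rw [RingHom.comp_apply, IsLocalRing.residue_eq_zero_iff, IsLocalRing.mem_maximalIdeal]
      intro hu
      exact (IsLocalRing.mem_maximalIdeal _).mp hbm (isUnit_of_map_unit q.hom b hu)
    let ψ : Z.presheaf.stalk z →+* IsLocalRing.ResidueField (S.presheaf.stalk (i z) ⧸ I) :=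
      RingHom.liftOfSurjective (i.stalkMap z).hom hsurj ⟨_, hker⟩
    have hψ : ψ.comp (i.stalkMap z).hom =
        (IsLocalRing.residue (S.presheaf.stalk (i z) ⧸ I)).comp q.hom :=
      RingHom.liftOfSurjective_comp _ hsurj ⟨_, hker⟩
    have hψ' : i.stalkMap z ≫ CommRingCat.ofHom ψ =
        q ≫ CommRingCat.ofHom (IsLocalRing.residue (S.presheaf.stalk (i z) ⧸ I)) := by
      ext b
      exact congrArg (fun φ : _ →+* _ => φ b) hψ
    obtain ⟨g', hg'⟩ := h (S.presheaf.stalk (i z) ⧸ I) g
      ⟨Spec.map (CommRingCat.ofHom ψ) ≫ Z.fromSpecStalk z, by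
        rw [Category.assoc, ← Scheme.SpecMap_stalkMap_fromSpecStalk, ← Spec.map_comp_assoc, hψ',
          Spec.map_comp_assoc]⟩
    have hc : g (IsLocalRing.closedPoint R) = i z := by
      rw [Scheme.Hom.comp_apply, Spec_closedPoint, Scheme.fromSpecStalk_closedPoint]
    have hgc : g' (IsLocalRing.closedPoint R) = z := by
      apply i.isEmbedding.injective
      have h0 : (g' ≫ i) (IsLocalRing.closedPoint R) = g (IsLocalRing.closedPoint R) := by
        rw [hg']
      rw [hc] at h0
      exact h0
    obtain ⟨U, hxU, a', ha'⟩ := TopCat.Presheaf.exists_germ_eq S.presheaf a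
    rw [← ha'] at ha
    have hU : g (IsLocalRing.closedPoint R) ∈ U := by rw [hc]; exact hxU
    have e1 := Scheme.germ_stalkClosedPointTo_Spec_fromSpecStalk q U hU
    have e3 := Groth.Agent.S9501.aux i R g' z hgc U hxU a' ha _ hg' hU
    have e4 : (S.presheaf.germ U _ hU ≫ Scheme.stalkClosedPointTo g) a' = 0 := e3
    rw [e1] at e4
    have e5 : (Ideal.Quotient.mk I) a = 0 := by rw [← ha']; exact e4
    exact Ideal.Quotient.eq_zero_iff_mem.mp e5
  have hbot := Ideal.iInf_pow_eq_bot_of_isLocalRing
    (IsLocalRing.maximalIdeal (S.presheaf.stalk (i z))) Ideal.IsPrime.ne_top'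
  have hmem : a ∈ ⨅ n, IsLocalRing.maximalIdeal (S.presheaf.stalk (i z)) ^ n := by
    rw [Ideal.mem_iInf]
    intro n
    exact Ideal.pow_le_pow_right (Nat.le_succ n) (key n)
  rw [hbot] at hmem
  exact hmem

theorem result' (S : Scheme.{u}) [IsLocallyNoetherian S]
    {Z : Scheme.{u}} (i : Z ⟶ S) [IsClosedImmersion i]
    (h : ∀ (A : Type u) [CommRing A] [IsArtinianRing A] [IsLocalRing A] (g : Spec (CommRingCat.of A) ⟶ S),
      (∃ t : Spec (CommRingCat.of (IsLocalRing.ResidueField A)) ⟶ Z,
          t ≫ i = Spec.map (CommRingCat.ofHom (IsLocalRing.residue A)) ≫ g) →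
        ∃ g' : Spec (CommRingCat.of A) ⟶ Z, g' ≫ i = g) :
    IsOpenImmersion i := by
  haveI : Flat i := by
    rw [Flat.iff_flat_stalkMap]
    intro z
    exact RingHom.Flat.of_bijective ⟨stalkMap_injective S i h z, i.stalkMap_surjective z⟩
  exact IsOpenImmersion.of_flat_of_mono i



open CategoryTheory AlgebraicGeometry in
/-- Let S be a locally Noetherian scheme and i : Z → S a closed immersion with the following property:
for every Artinian local ring A with residue field k and every morphism g : Spec A → S, if the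
restriction Spec k → Spec A → S of g factors through i then so does g. Then i is also an open
immersion, i.e. the closed subscheme Z is open in S as a subscheme. (The published hypothesis is an
equivalence; its other direction always holds, so this row assumes only the implication.) -/
theorem result (S : Scheme.{u}) [IsLocallyNoetherian S]
    {Z : Scheme.{u}} (i : Z ⟶ S) [IsClosedImmersion i]
    (h : ∀ (A : Type u) [CommRing A] [IsArtinianRing A] [IsLocalRing A] (g : Spec (CommRingCat.of A) ⟶ S),
      (∃ t : Spec (CommRingCat.of (IsLocalRing.ResidueField A)) ⟶ Z,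
          t ≫ i = Spec.map (CommRingCat.ofHom (IsLocalRing.residue A)) ≫ g) →
        ∃ g' : Spec (CommRingCat.of A) ⟶ Z, g' ≫ i = g) :
    IsOpenImmersion i := by
  exact result' S i h

end Groth.Agent.S14614
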