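import Groth.Statements.S14615
-- no extra imports

set_option autoImplicit false
universe u
open Formal2

namespace Groth.Agent.S14615

/-- partial solutions: `psol y d n = ∑_{k<d} T(n,k) y_{n+k}` -/
def psol (G : ℕ → Type u) [∀ n, AddCommGroup (G n)] (t : ∀ n, G (n + 1) →+ G n)
    (y : ∀ n, G n) : ℕ → ∀ n, G n
  | 0 => fun _ => 0
  | d + 1 => fun n => y n + t n (psol G t y d (n + 1))

/-- successive differences -/
def pdiff (G : ℕ → Type u) [∀ n, AddCommGroup (G n)] (t : ∀ n, G (n + 1) →+ G n)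
    (y : ∀ n, G n) (d : ℕ) : ∀ n, G n :=
  fun n => psol G t y (d + 1) n - psol G t y d n

theorem pdiff_succ (G : ℕ → Type u) [∀ n, AddCommGroup (G n)] (t : ∀ n, G (n + 1) →+ G n)
    (y : ∀ n, G n) (d n : ℕ) :
    pdiff G t y (d + 1) n = t n (pdiff G t y d (n + 1)) := by
  simp only [pdiff, psol, map_sub, map_add]
  abel

theorem pdiff_eq_zero (G : ℕ → Type u) [∀ n, AddCommGroup (G n)] (t : ∀ n, G (n + 1) →+ G n)
    (y : ∀ n, G n) (i j : ℕ) (hij : i ≤ j)
    (h : ∀ x : ∀ n, G n, (∀ n, i ≤ n → n < j → x n = t n (x (n + 1))) → x i = 0)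
    (d : ℕ) (hd : j - i ≤ d) : pdiff G t y d i = 0 := by
  have := h (fun n => pdiff G t y (d - (n - i)) n) ?_
  · simpa using this
  · intro n hin hnj
    have e : d - (n - i) = (d - (n + 1 - i)) + 1 := by omega
    show pdiff G t y (d - (n - i)) n = t n (pdiff G t y (d - (n + 1 - i)) (n + 1))
    rw [e, pdiff_succ]

theorem psol_stable (G : ℕ → Type u) [∀ n, AddCommGroup (G n)] (t : ∀ n, G (n + 1) →+ G n)
    (y : ∀ n, G n) (i j : ℕ) (hij : i ≤ j)
    (h : ∀ x : ∀ n, G n, (∀ n, i ≤ n → n < j → x n = t n (x (n + 1))) → x i = 0)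
    (d : ℕ) (hd : j - i ≤ d) : psol G t y d i = psol G t y (j - i) i := by
  induction d, hd using Nat.le_induction with
  | base => rfl
  | succ d hd ih =>
    rw [← ih]
    have := pdiff_eq_zero G t y i j hij h d hd
    exact sub_eq_zero.mp this


/-- Let … → G_2 → G_1 → G_0 be an inverse system of abelian groups with transition maps t_n : G_{n+1} →
G_n, and suppose that for every i there is j ≥ i such that the composite transition map G_j → G_i is
zero; this is expressed by asking that every sequence (x_n) ∈ ∏ G_n satisfying x_n = t_n(x_{n+1})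
for i ≤ n < j has x_i = 0. Then both lim G_n and lim¹ G_n vanish: the map (x_n) ↦ (x_n −
t_n(x_{n+1})) on ∏ G_n, whose kernel is lim and whose cokernel is lim¹, is injective and surjective. -/
theorem result (G : ℕ → Type u)
    [∀ n, AddCommGroup (G n)] (t : ∀ n, G (n + 1) →+ G n)
    (h : ∀ i : ℕ, ∃ j : ℕ, i ≤ j ∧
      ∀ x : ∀ n, G n, (∀ n, i ≤ n → n < j → x n = t n (x (n + 1))) → x i = 0) :
    Formal2.limZero G t = ⊥ ∧ Function.Surjective (Formal2.towerDiff G t) := by
  constructor
  · rw [eq_bot_iff]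
    intro x hx
    rw [AddSubgroup.mem_bot]
    have hx' : ∀ n, x n = t n (x (n + 1)) := by
      intro n
      have := congrFun (AddMonoidHom.mem_ker.mp hx) n
      exact sub_eq_zero.mp this
    funext i
    obtain ⟨j, _, hj⟩ := h i
    exact hj x (fun n _ _ => hx' n)
  · intro y
    choose J hJ1 hJ2 using h
    refine ⟨fun n => psol G t y (J n - n) n, ?_⟩
    funext n
    show psol G t y (J n - n) n - t n (psol G t y (J (n + 1) - (n + 1)) (n + 1)) = y n
    set d := max (J n - n) (J (n + 1) - (n + 1)) with hd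
    rw [← psol_stable G t y n (J n) (hJ1 n) (hJ2 n) (d + 1) (by omega),
      ← psol_stable G t y (n + 1) (J (n + 1)) (hJ1 (n + 1)) (hJ2 (n + 1)) d (by omega)]
    simp [psol]

end Groth.Agent.S14615
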