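import Groth.Statements.S14616
import Groth.Agent.Lib.Helper7.TowerML

set_option autoImplicit false
universe u
open Formal2

namespace Groth.Agent.S14616

open CategoryTheory in
/-- the tower as a functor -/
noncomputable abbrev towerF (G : ℕ → Type u) [∀ n, AddCommGroup (G n)] (t : ∀ n, G (n + 1) →+ G n) :
    ℕᵒᵖ ⥤ AddCommGrpCat.{u} :=
  Functor.ofOpSequence (X := fun n => AddCommGrpCat.of (G n)) (fun n => AddCommGrpCat.ofHom (t n))

open CategoryTheory in
/-- composite transition maps -/
noncomputable def phi (G : ℕ → Type u) [∀ n, AddCommGroup (G n)] (t : ∀ n, G (n + 1) →+ G n)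
    {n m : ℕ} (h : n ≤ m) : G m →+ G n :=
  ((towerF G t).map (homOfLE h).op).hom


open CategoryTheory in
/-- Let … → G_2 → G_1 → G_0 be an inverse system of abelian groups with transition maps t_n : G_{n+1} →
G_n which satisfies the Mittag-Leffler condition: for every i there is j ≥ i such that for all k ≥ j
the images of G_k → G_i and G_j → G_i coincide. Then lim¹ G_n = 0, i.e. the map (x_n) ↦ (x_n −
t_n(x_{n+1})) on ∏ G_n is surjective. -/
theorem result (G : ℕ → Type u) [∀ n, AddCommGroup (G n)]
    (t : ∀ n, G (n + 1) →+ G n)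
    (h : (Functor.ofOpSequence (X := fun n => AddCommGrpCat.of (G n))
      (fun n => AddCommGrpCat.ofHom (t n)) ⋙ forget AddCommGrpCat).IsMittagLeffler) :
    Function.Surjective (Formal2.towerDiff G t) := by
  refine Groth.Agent.Lib.Helper7.TowerML.towerDiff_surjective (φ := fun {n m} h => phi G t h)
    ?_ ?_ ?_ ?_
  · intro n x
    have : (homOfLE (le_refl n)).op = 𝟙 (Opposite.op n) := rfl
    simp only [phi, this, CategoryTheory.Functor.map_id]
    rfl
  · intro n m k h₁ h₂ x
    have : (homOfLE (h₁.trans h₂)).op = (homOfLE h₂).op ≫ (homOfLE h₁).op := rfl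
    simp only [phi, this, CategoryTheory.Functor.map_comp]
    rfl
  · intro n x
    have := Functor.ofOpSequence_map_homOfLE_succ
      (X := fun n => AddCommGrpCat.of (G n)) (fun n => AddCommGrpCat.ofHom (t n)) n
    simp only [phi]
    have h2 : (homOfLE (Nat.le_succ n)).op = (homOfLE (Nat.le_add_right n 1)).op := rfl
    rw [h2, this]
    rfl
  · intro n
    obtain ⟨i, f, hf⟩ := h (Opposite.op n)
    have hni : n ≤ i.unop := leOfHom f.unop
    refine ⟨i.unop, hni, ?_⟩
    intro k g hk hg
    obtain ⟨_, x, rfl⟩ := hg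
    have hsub := hf (k := Opposite.op k) (homOfLE hk).op
    have hfe : f = (homOfLE hni).op := Subsingleton.elim _ _
    have hmem : phi G t hni x ∈ Set.range
        ((towerF G t ⋙ forget AddCommGrpCat).map f) := by
      rw [hfe]
      exact ⟨x, rfl⟩
    obtain ⟨x', hx'⟩ := hsub hmem
    exact ⟨hk, x', hx'⟩

end Groth.Agent.S14616
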