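import Groth.Statements.S14617
import Mathlib.Algebra.Module.SnakeLemma

set_option autoImplicit false
universe u
open Formal2

namespace Groth.Agent.S14617

section helpers

variable {A B C : ℕ → Type u} [∀ n, AddCommGroup (A n)] [∀ n, AddCommGroup (B n)]
  [∀ n, AddCommGroup (C n)]

/-- componentwise map on products -/
def piMap (u : ∀ n, A n →+ B n) : (∀ n, A n) →+ (∀ n, B n) where
  toFun x := fun n => u n (x n)
  map_zero' := by ext n; simp
  map_add' x y := by ext n; simp

@[simp] theorem piMap_apply (u : ∀ n, A n →+ B n) (x : ∀ n, A n) (n : ℕ) :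
    piMap u x n = u n (x n) := rfl

theorem towerDiff_apply (t : ∀ n, A (n + 1) →+ A n) (x : ∀ n, A n) (n : ℕ) :
    Formal2.towerDiff A t x n = x n - t n (x (n + 1)) := rfl

theorem towerDiff_piMap (tA : ∀ n, A (n + 1) →+ A n) (tB : ∀ n, B (n + 1) →+ B n)
    (u : ∀ n, A n →+ B n) (hu : ∀ n x, tB n (u (n + 1) x) = u n (tA n x)) (x : ∀ n, A n) :
    Formal2.towerDiff B tB (piMap u x) = piMap u (Formal2.towerDiff A tA x) := by
  ext n
  simp [towerDiff_apply, hu]

theorem piMap_injective (u : ∀ n, A n →+ B n) (h : ∀ n, Function.Injective (u n)) :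
    Function.Injective (piMap u) := by
  intro x y hxy
  funext n
  exact h n (congrFun hxy n)

theorem piMap_surjective (u : ∀ n, A n →+ B n) (h : ∀ n, Function.Surjective (u n)) :
    Function.Surjective (piMap u) := by
  intro y
  choose x hx using fun n => h n (y n)
  exact ⟨x, funext hx⟩

theorem piMap_exact (u : ∀ n, A n →+ B n) (v : ∀ n, B n →+ C n)
    (hex : ∀ n, (v n).ker = (u n).range) :
    Function.Exact (piMap u) (piMap v) := by
  intro y
  constructor
  · intro hy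
    have : ∀ n, ∃ x, u n x = y n := by
      intro n
      have h1 : y n ∈ (v n).ker := by
        rw [AddMonoidHom.mem_ker]; exact congrFun hy n
      rw [hex n] at h1
      exact h1
    choose x hx using this
    exact ⟨x, funext hx⟩
  · rintro ⟨x, rfl⟩
    funext n
    have : u n (x n) ∈ (v n).ker := by rw [hex n]; exact ⟨x n, rfl⟩
    exact this

/-- induced map on lim -/
def limMap (tA : ∀ n, A (n + 1) →+ A n) (tB : ∀ n, B (n + 1) →+ B n)
    (u : ∀ n, A n →+ B n) (hu : ∀ n x, tB n (u (n + 1) x) = u n (tA n x)) :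
    Formal2.limZero A tA →+ Formal2.limZero B tB :=
  ((piMap u).comp (Formal2.limZero A tA).subtype).codRestrict (Formal2.limZero B tB) (by
    intro x
    rw [AddMonoidHom.mem_ker]
    have hx : Formal2.towerDiff A tA x.1 = 0 := x.2
    simp only [AddMonoidHom.coe_comp, AddSubgroup.coe_subtype, Function.comp_apply]
    rw [towerDiff_piMap tA tB u hu, hx, map_zero])

@[simp] theorem limMap_coe (tA : ∀ n, A (n + 1) →+ A n) (tB : ∀ n, B (n + 1) →+ B n)
    (u : ∀ n, A n →+ B n) (hu : ∀ n x, tB n (u (n + 1) x) = u n (tA n x))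
    (x : Formal2.limZero A tA) :
    ((limMap tA tB u hu x : Formal2.limZero B tB) : ∀ n, B n) = piMap u x.1 := rfl

/-- induced map on lim¹ -/
def limOneMap (tA : ∀ n, A (n + 1) →+ A n) (tB : ∀ n, B (n + 1) →+ B n)
    (u : ∀ n, A n →+ B n) (hu : ∀ n x, tB n (u (n + 1) x) = u n (tA n x)) :
    Formal2.limOne A tA →+ Formal2.limOne B tB :=
  QuotientAddGroup.map _ _ (piMap u) (by
    rintro _ ⟨x, rfl⟩
    rw [AddSubgroup.mem_comap]
    exact ⟨piMap u x, towerDiff_piMap tA tB u hu x⟩)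

@[simp] theorem limOneMap_mk (tA : ∀ n, A (n + 1) →+ A n) (tB : ∀ n, B (n + 1) →+ B n)
    (u : ∀ n, A n →+ B n) (hu : ∀ n x, tB n (u (n + 1) x) = u n (tA n x)) (y : ∀ n, A n) :
    limOneMap tA tB u hu (QuotientAddGroup.mk y : Formal2.limOne A tA) =
      (QuotientAddGroup.mk (piMap u y) : Formal2.limOne B tB) := rfl

end helpers


/-- Let 0 → (G'_n) → (G_n) → (G''_n) → 0 be a short exact sequence of inverse systems of abelian groups
indexed by ℕ: maps u_n : G'_n → G_n and v_n : G_n → G''_n commuting with the transition maps, with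
u_n injective, v_n surjective and ker v_n = im u_n for every n. Writing lim and lim¹ for the kernel
and cokernel of (x_n) ↦ (x_n − t_n(x_{n+1})) on the product, there is an exact sequence 0 → lim G' →
lim G → lim G'' → lim¹ G' → lim¹ G → lim¹ G'' → 0 in which the four outer maps are the ones induced
by u and v on products and the connecting map δ sends a compatible sequence (z_n) to the class of
the unique (w_n) with u_n(w_n) = y_n − t_n(y_{n+1}), for any levelwise lift (y_n) of (z_n). -/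
theorem result (G' G G'' : ℕ → Type u)
    [∀ n, AddCommGroup (G' n)] [∀ n, AddCommGroup (G n)] [∀ n, AddCommGroup (G'' n)]
    (t' : ∀ n, G' (n + 1) →+ G' n) (t : ∀ n, G (n + 1) →+ G n) (t'' : ∀ n, G'' (n + 1) →+ G'' n)
    (u : ∀ n, G' n →+ G n) (v : ∀ n, G n →+ G'' n)
    (hu : ∀ n x, t n (u (n + 1) x) = u n (t' n x)) (hv : ∀ n x, t'' n (v (n + 1) x) = v n (t n x))
    (hinj : ∀ n, Function.Injective (u n)) (hsurj : ∀ n, Function.Surjective (v n))
    (hex : ∀ n, (v n).ker = (u n).range) :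
    ∃ (α : Formal2.limZero G' t' →+ Formal2.limZero G t) (β : Formal2.limZero G t →+ Formal2.limZero G'' t'')
      (δ : Formal2.limZero G'' t'' →+ Formal2.limOne G' t')
      (ε : Formal2.limOne G' t' →+ Formal2.limOne G t) (ζ : Formal2.limOne G t →+ Formal2.limOne G'' t''),
      (∀ (x : Formal2.limZero G' t') (n : ℕ), (α x : ∀ n, G n) n = u n ((x : ∀ n, G' n) n)) ∧
      (∀ (x : Formal2.limZero G t) (n : ℕ), (β x : ∀ n, G'' n) n = v n ((x : ∀ n, G n) n)) ∧
      (∀ (z : Formal2.limZero G'' t'') (y : ∀ n, G n) (w : ∀ n, G' n),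
          (∀ n, v n (y n) = (z : ∀ n, G'' n) n) → (∀ n, u n (w n) = Formal2.towerDiff G t y n) →
            δ z = (QuotientAddGroup.mk w : Formal2.limOne G' t')) ∧
      (∀ y : ∀ n, G' n, ε (QuotientAddGroup.mk y : Formal2.limOne G' t') =
          (QuotientAddGroup.mk (fun n => u n (y n)) : Formal2.limOne G t)) ∧
      (∀ y : ∀ n, G n, ζ (QuotientAddGroup.mk y : Formal2.limOne G t) =
          (QuotientAddGroup.mk (fun n => v n (y n)) : Formal2.limOne G'' t'')) ∧
      Function.Injective α ∧ α.range = β.ker ∧ β.range = δ.ker ∧ δ.range = ε.ker ∧ ε.range = ζ.ker ∧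
      Function.Surjective ζ := by
  classical
  -- abbreviations
  let U := piMap u
  let V := piMap v
  let D' := Formal2.towerDiff G' t'
  let D := Formal2.towerDiff G t
  let D'' := Formal2.towerDiff G'' t''
  have hUinj : Function.Injective U := piMap_injective u hinj
  have hVsurj : Function.Surjective V := piMap_surjective v hsurj
  have hUV : Function.Exact U V := piMap_exact u v hex
  have hDU : ∀ x, D (U x) = U (D' x) := towerDiff_piMap t' t u hu
  have hDV : ∀ x, D'' (V x) = V (D x) := towerDiff_piMap t t'' v hv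
  let α := limMap t' t u hu
  let β := limMap t t'' v hv
  let ε := limOneMap t' t u hu
  let ζ := limOneMap t t'' v hv
  -- the snake lemma data, over ℤ
  let i₁ : (∀ n, G' n) →ₗ[ℤ] (∀ n, G' n) := D'.toIntLinearMap
  let i₂ : (∀ n, G n) →ₗ[ℤ] (∀ n, G n) := D.toIntLinearMap
  let i₃ : (∀ n, G'' n) →ₗ[ℤ] (∀ n, G'' n) := D''.toIntLinearMap
  let f₁ : (∀ n, G' n) →ₗ[ℤ] (∀ n, G n) := U.toIntLinearMap
  let f₂ : (∀ n, G n) →ₗ[ℤ] (∀ n, G'' n) := V.toIntLinearMap
  have hf : Function.Exact f₁ f₂ := hUV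
  have h₁ : f₁.comp i₁ = i₂.comp f₁ := by
    ext x : 1
    exact (hDU x).symm
  have h₂ : f₂.comp i₂ = i₃.comp f₂ := by
    ext x : 1
    exact (hDV x).symm
  let ι₂ : Formal2.limZero G t →ₗ[ℤ] (∀ n, G n) := (Formal2.limZero G t).subtype.toIntLinearMap
  let ι₃ : Formal2.limZero G'' t'' →ₗ[ℤ] (∀ n, G'' n) :=
    (Formal2.limZero G'' t'').subtype.toIntLinearMap
  have hι₂ : Function.Exact ι₂ i₂ := by
    intro y
    constructor
    · intro hy; exact ⟨⟨y, hy⟩, rfl⟩
    · rintro ⟨x, rfl⟩; exact x.2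
  have hι₃ : Function.Exact ι₃ i₃ := by
    intro y
    constructor
    · intro hy; exact ⟨⟨y, hy⟩, rfl⟩
    · rintro ⟨x, rfl⟩; exact x.2
  let π₁ : (∀ n, G' n) →ₗ[ℤ] Formal2.limOne G' t' :=
    (QuotientAddGroup.mk' (D'.range)).toIntLinearMap
  let π₂ : (∀ n, G n) →ₗ[ℤ] Formal2.limOne G t :=
    (QuotientAddGroup.mk' (D.range)).toIntLinearMap
  have hπ₁ : Function.Exact i₁ π₁ := by
    intro y
    constructor
    · intro hy
      have : y ∈ D'.range := (QuotientAddGroup.eq_zero_iff y).mp hy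
      exact this
    · rintro ⟨x, rfl⟩
      exact (QuotientAddGroup.eq_zero_iff _).mpr ⟨x, rfl⟩
  have hπ₂ : Function.Exact i₂ π₂ := by
    intro y
    constructor
    · intro hy
      have : y ∈ D.range := (QuotientAddGroup.eq_zero_iff y).mp hy
      exact this
    · rintro ⟨x, rfl⟩
      exact (QuotientAddGroup.eq_zero_iff _).mpr ⟨x, rfl⟩
  have hf₂ : Function.Surjective f₂ := hVsurj
  have hg₁ : Function.Injective f₁ := hUinj
  let δ' := SnakeLemma.δ' i₁ i₂ i₃ f₁ f₂ hf f₁ f₂ hf h₁ h₂ ι₃ hι₃ π₁ hπ₁ hf₂ hg₁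
  have hδ'eq : ∀ (x : Formal2.limZero G'' t'') (y : ∀ n, G n), f₂ y = ι₃ x →
      ∀ z : ∀ n, G' n, f₁ z = i₂ y → δ' x = π₁ z :=
    fun x y hy z hz =>
      SnakeLemma.δ'_eq i₁ i₂ i₃ f₁ f₂ hf f₁ f₂ hf h₁ h₂ ι₃ hι₃ π₁ hπ₁ hf₂ hg₁ x y hy z hz
  have hexR : Function.Exact β.toIntLinearMap δ' :=
    SnakeLemma.exact_δ'_right i₁ i₂ i₃ f₁ f₂ hf f₁ f₂ hf h₁ h₂ ι₂ hι₂ ι₃ hι₃ π₁ hπ₁ hf₂ hg₁
      β.toIntLinearMap (by ext x : 1; rfl) Subtype.val_injective
  have hexL : Function.Exact δ' ε.toIntLinearMap :=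
    SnakeLemma.exact_δ'_left i₁ i₂ i₃ f₁ f₂ hf f₁ f₂ hf h₁ h₂ ι₃ hι₃ π₁ hπ₁ π₂ hπ₂ hf₂ hg₁
      ε.toIntLinearMap (by ext x : 1; rfl) (QuotientAddGroup.mk'_surjective _)
  refine ⟨α, β, δ'.toAddMonoidHom, ε, ζ, ?_, ?_, ?_, ?_, ?_, ?_, ?_, ?_, ?_, ?_, ?_⟩
  · intro x n; rfl
  · intro x n; rfl
  · intro z y w hy hw
    exact hδ'eq z y (funext hy) w (funext hw)
  · intro y; rfl
  · intro y; rfl
  · -- α injective
    intro x y hxy
    apply Subtype.ext
    apply hUinj
    exact congrArg Subtype.val hxy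
  · -- α.range = β.ker
    ext y
    rw [AddMonoidHom.mem_range, AddMonoidHom.mem_ker]
    constructor
    · rintro ⟨x, rfl⟩
      apply Subtype.ext
      exact (hUV (U x.1)).mpr ⟨x.1, rfl⟩
    · intro hy
      have hy' : V y.1 = 0 := congrArg Subtype.val hy
      obtain ⟨x, hx⟩ := (hUV y.1).mp hy'
      have hxlim : x ∈ Formal2.limZero G' t' := by
        rw [AddMonoidHom.mem_ker]
        apply hUinj
        have hyD : D y.1 = 0 := y.2
        rw [map_zero, ← hDU, hx]
        exact hyD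
      exact ⟨⟨x, hxlim⟩, Subtype.ext hx⟩
  · -- β.range = δ.ker
    ext z
    rw [AddMonoidHom.mem_range, AddMonoidHom.mem_ker]
    exact ((hexR z).symm)
  · -- δ.range = ε.ker
    ext c
    rw [AddMonoidHom.mem_range, AddMonoidHom.mem_ker]
    exact ((hexL c).symm)
  · -- ε.range = ζ.ker
    ext c
    rw [AddMonoidHom.mem_range, AddMonoidHom.mem_ker]
    constructor
    · rintro ⟨c', rfl⟩
      obtain ⟨y, rfl⟩ := QuotientAddGroup.mk_surjective c'
      show (QuotientAddGroup.mk (V (U y)) : Formal2.limOne G'' t'') = 0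
      rw [(hUV (U y)).mpr ⟨y, rfl⟩]
      rfl
    · intro hc
      obtain ⟨y, rfl⟩ := QuotientAddGroup.mk_surjective c
      have h0 : (QuotientAddGroup.mk (V y) : Formal2.limOne G'' t'') = 0 := hc
      obtain ⟨z, hz⟩ : V y ∈ D''.range := (QuotientAddGroup.eq_zero_iff _).mp h0
      obtain ⟨w, rfl⟩ := hVsurj z
      have h1 : V (y - D w) = 0 := by
        rw [map_sub, ← hDV, hz, sub_self]
      obtain ⟨x, hx⟩ := (hUV _).mp h1
      refine ⟨QuotientAddGroup.mk x, ?_⟩
      show (QuotientAddGroup.mk (U x) : Formal2.limOne G t) = QuotientAddGroup.mk y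
      rw [hx]
      rw [QuotientAddGroup.eq]
      refine ⟨w, ?_⟩
      show D w = -(y - D w) + y
      abel
  · -- ζ surjective
    intro c
    obtain ⟨z, rfl⟩ := QuotientAddGroup.mk_surjective c
    obtain ⟨y, rfl⟩ := hVsurj z
    exact ⟨QuotientAddGroup.mk y, rfl⟩

end Groth.Agent.S14617
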