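import Groth.Statements.S14621
import Mathlib.Tactic
import Mathlib.CategoryTheory.Limits.FullSubcategory
import Mathlib.CategoryTheory.Limits.Types.Filtered
import Mathlib.CategoryTheory.Limits.FunctorCategory.Basic
import Mathlib.CategoryTheory.Sites.Sheaf
import Mathlib.CategoryTheory.Limits.Creates

set_option autoImplicit false
open CategoryTheory CategoryTheory.Limits
universe u
open CohSite

namespace Groth.Agent.S14621


section

variable {C : Type u} [SmallCategory C] {I : Type u} [SmallCategory I] [IsFiltered I]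
  (F : I ⥤ Cᵒᵖ ⥤ Type u) (c : Cocone F) (hc : IsColimit c)

noncomputable def hcU (hc : IsColimit c) (U : Cᵒᵖ) :
    IsColimit (((evaluation Cᵒᵖ (Type u)).obj U).mapCocone c) :=
  isColimitOfPreserves _ hc

lemma ι_nat (i : I) {U V : Cᵒᵖ} (φ : U ⟶ V) (z : (F.obj i).obj U) :
    (c.ι.app i).app V ((F.obj i).map φ z) = c.pt.map φ ((c.ι.app i).app U z) :=
  NatTrans.naturality_apply (c.ι.app i) φ z

lemma ι_comp {i j : I} (f : i ⟶ j) (U : Cᵒᵖ) (z : (F.obj i).obj U) :
    (c.ι.app j).app U ((F.map f).app U z) = (c.ι.app i).app U z := by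
  have h1 := NatTrans.congr_app (c.w f) U
  rw [NatTrans.comp_app] at h1
  have := ConcreteCategory.congr_hom h1 z
  rw [ConcreteCategory.comp_apply] at this
  exact this

include hc in
lemma exists_rep {α : Type} [Finite α] (U : α → Cᵒᵖ) (x : ∀ a, c.pt.obj (U a)) :
    ∃ (i : I) (y : ∀ a, (F.obj i).obj (U a)), ∀ a, (c.ι.app i).app (U a) (y a) = x a := by
  classical
  have h1 : ∀ a, ∃ (i : I) (y : (F.obj i).obj (U a)), (c.ι.app i).app (U a) y = x a := by
    intro a
    obtain ⟨i, y, hy⟩ := Types.jointly_surjective_of_isColimit (hcU F c hc (U a)) (x a)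
    exact ⟨i, y, hy⟩
  choose ia ya hya using h1
  haveI := Fintype.ofFinite α
  obtain ⟨S, hS⟩ := IsFiltered.sup_objs_exists (Finset.univ.image ia)
  have hS' : ∀ a, Nonempty (ia a ⟶ S) := fun a => hS (Finset.mem_image_of_mem _ (Finset.mem_univ a))
  let f : ∀ a, ia a ⟶ S := fun a => (hS' a).some
  refine ⟨S, fun a => (F.map (f a)).app (U a) (ya a), fun a => ?_⟩
  rw [ι_comp, hya]

include hc in
lemma exists_eq {α : Type} [Finite α] (U : α → Cᵒᵖ) (i : I) (y y' : ∀ a, (F.obj i).obj (U a))
    (h : ∀ a, (c.ι.app i).app (U a) (y a) = (c.ι.app i).app (U a) (y' a)) :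
    ∃ (j : I) (f : i ⟶ j), ∀ a, (F.map f).app (U a) (y a) = (F.map f).app (U a) (y' a) := by
  classical
  haveI := Fintype.ofFinite α
  suffices H : ∀ s : Finset α, ∃ (j : I) (f : i ⟶ j), ∀ a ∈ s,
      (F.map f).app (U a) (y a) = (F.map f).app (U a) (y' a) by
    obtain ⟨j, f, hf⟩ := H Finset.univ
    exact ⟨j, f, fun a => hf a (Finset.mem_univ a)⟩
  intro s
  induction s using Finset.induction_on with
  | empty => exact ⟨i, 𝟙 i, fun a ha => absurd ha (Finset.notMem_empty a)⟩
  | insert a s ha ih =>
    obtain ⟨j, f, hf⟩ := ih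
    have h2 : (c.ι.app j).app (U a) ((F.map f).app (U a) (y a)) =
        (c.ι.app j).app (U a) ((F.map f).app (U a) (y' a)) := by
      rw [ι_comp, ι_comp, h a]
    obtain ⟨k, g, hg⟩ := (Types.FilteredColimit.isColimit_eq_iff' (hcU F c hc (U a)) _ _).1 h2
    refine ⟨k, f ≫ g, fun b hb => ?_⟩
    rcases Finset.mem_insert.1 hb with rfl | hb
    · simpa using hg
    · have := congrArg ((F.map g).app (U b)) (hf b hb)
      simpa using this

end

section

variable {C : Type u} [SmallCategory C] [HasPullbacks C] {I : Type u} [SmallCategory I]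
  [IsFiltered I] (J : GrothendieckTopology C)
  (F : I ⥤ Cᵒᵖ ⥤ Type u) (c : Cocone F) (hc : IsColimit c)
  (hF : ∀ i, Presieve.IsSheaf J (F.obj i))

include hc hF in
lemma isSheafFor_fin {X : C} (n : ℕ) (V : Fin n → C) (g : ∀ k, V k ⟶ X)
    (hg : Sieve.ofArrows V g ∈ J X) :
    Presieve.IsSheafFor c.pt (Presieve.ofArrows V g) := by
  have hFj : ∀ j, Presieve.IsSheafFor (F.obj j) (Presieve.ofArrows V g) := by
    intro j
    rw [Presieve.isSheafFor_iff_generate]
    exact hF j _ hg
  rw [Presieve.isSheafFor_arrows_iff_pullbacks]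
  intro x hx
  obtain ⟨i, y, hy⟩ := exists_rep F c hc (fun k => Opposite.op (V k)) x
  have hcomp : ∀ kl : Fin n × Fin n,
      (c.ι.app i).app (Opposite.op (pullback (g kl.1) (g kl.2)))
        ((F.obj i).map (pullback.fst (g kl.1) (g kl.2)).op (y kl.1)) =
      (c.ι.app i).app (Opposite.op (pullback (g kl.1) (g kl.2)))
        ((F.obj i).map (pullback.snd (g kl.1) (g kl.2)).op (y kl.2)) := by
    rintro ⟨k, l⟩
    rw [ι_nat, ι_nat, hy, hy]
    exact hx k l
  obtain ⟨j, f, hf⟩ := exists_eq F c hc
    (fun kl : Fin n × Fin n => Opposite.op (pullback (g kl.1) (g kl.2))) i _ _ hcomp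
  have hy' : Presieve.Arrows.PullbackCompatible (F.obj j) g
      (fun k => (F.map f).app (Opposite.op (V k)) (y k)) := by
    intro k l
    have := hf (k, l)
    simp only at this
    rw [NatTrans.naturality_apply, NatTrans.naturality_apply] at this
    exact this
  obtain ⟨t, ht, -⟩ := ((Presieve.isSheafFor_arrows_iff_pullbacks (F.obj j) g).1 (hFj j)) _ hy'
  refine ⟨(c.ι.app j).app (Opposite.op X) t, ?_, ?_⟩
  · intro k
    simp only
    rw [← ι_nat, ht k, ι_comp, hy]
  · intro t2 ht2
    obtain ⟨i', s, hs⟩ := exists_rep F c hc (fun _ : Bool => Opposite.op X)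
      (fun b => if b then (c.ι.app j).app (Opposite.op X) t else t2)
    have h1 : ∀ k : Fin n, (c.ι.app i').app (Opposite.op (V k))
        ((F.obj i').map (g k).op (s true)) =
        (c.ι.app i').app (Opposite.op (V k)) ((F.obj i').map (g k).op (s false)) := by
      intro k
      rw [ι_nat, ι_nat, hs, hs]
      simp only [if_true, Bool.false_eq_true, if_false]
      rw [← ι_nat, ht k, ι_comp, hy, ht2 k]
    obtain ⟨j', f', hf'⟩ := exists_eq F c hc (fun k : Fin n => Opposite.op (V k)) i' _ _ h1
    have h2 : (F.map f').app (Opposite.op X) (s true) = (F.map f').app (Opposite.op X) (s false) := by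
      apply (hFj j').isSeparatedFor.ext
      rintro Y _ ⟨k⟩
      have := hf' k
      rw [NatTrans.naturality_apply, NatTrans.naturality_apply] at this
      exact this
    have e1 := hs true
    have e2 := hs false
    simp only [if_true, Bool.false_eq_true, if_false] at e1 e2
    rw [← e1, ← e2, ← ι_comp F c f', ← ι_comp F c f', h2]

lemma isSeparatedFor_of_le {X : C} (P : Cᵒᵖ ⥤ Type u) {R R' : Presieve X} (h : R ≤ R')
    (hR : Presieve.IsSeparatedFor P R) : Presieve.IsSeparatedFor P R' := by
  intro x t1 t2 h1 h2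
  exact hR (x.restrict h) t1 t2 (fun Y f hf => h1 f (h Y _ hf)) (fun Y f hf => h2 f (h Y _ hf))

include hc hF in
lemma isSheaf_colimit (hJ : ∀ U : C, ToposFin.IsQCSite J U) : Presieve.IsSheaf J c.pt := by
  have hsep : ∀ (Y : C) (T : Sieve Y), T ∈ J Y → Presieve.IsSeparatedFor c.pt T.arrows := by
    intro Y T hT
    obtain ⟨n, V, g, hgT, hg⟩ := hJ Y T hT
    have h1 := (isSheafFor_fin J F c hc hF n V g hg).isSeparatedFor
    refine isSeparatedFor_of_le c.pt ?_ h1
    rintro Z _ ⟨k⟩
    exact hgT k
  intro X S hS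
  obtain ⟨n, V, g, hgS, hg⟩ := hJ X S hS
  have h1 : Presieve.IsSheafFor c.pt (Sieve.ofArrows V g).arrows := by
    have := isSheafFor_fin J F c hc hF n V g hg
    rwa [Presieve.isSheafFor_iff_generate] at this
  refine Presieve.isSheafFor_subsieve_aux c.pt ?_ h1 ?_
  · have : Sieve.ofArrows V g ≤ S := by
      rw [Sieve.ofArrows, Sieve.generate_le_iff]
      rintro Z _ ⟨k⟩
      exact hgS k
    exact this
  · intro Y f hf
    exact hsep Y _ (J.pullback_stable f hg)

end

/-- Let C be a small category with pullbacks and J a Grothendieck topology on C in which every object is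
quasi-compact in the site sense (every covering sieve contains finitely many morphisms which already
generate a covering sieve). Then for every small filtered category I the inclusion of sheaves of
sets on (C, J) into presheaves preserves colimits of shape I: filtered colimits of sheaves are
computed objectwise. (Only sheaves of sets are stated; the same holds for sheaves of abelian groups
or modules. All pullbacks in C are assumed.) -/
theorem result {C : Type u} [SmallCategory C]
    [HasPullbacks C] (J : GrothendieckTopology C) (hJ : ∀ U : C, ToposFin.IsQCSite J U)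
    (I : Type u) [SmallCategory I] [IsFiltered I] :
    PreservesColimitsOfShape I (sheafToPresheaf J (Type u)) := by
  haveI : ObjectProperty.IsClosedUnderColimitsOfShape (Presheaf.IsSheaf J (A := Type u)) I := by
    constructor
    rintro X ⟨p⟩
    change Presheaf.IsSheaf J X
    rw [isSheaf_iff_isSheaf_of_type]
    have := isSheaf_colimit J p.diag ⟨X, p.ι⟩ p.isColimit
      (fun i => (isSheaf_iff_isSheaf_of_type J _).1 (p.prop_diag_obj i)) hJ
    exact this
  infer_instance

end Groth.Agent.S14621
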