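import Groth.Statements.S14622
import Mathlib.CategoryTheory.Limits.ConcreteCategory.Basic
import Mathlib.Algebra.Category.Grp.FilteredColimits
import Mathlib.CategoryTheory.Sites.LocallyInjective

set_option autoImplicit false
open CategoryTheory AlgebraicGeometry
universe u
open EtBase

namespace Groth.Agent.S14622

open Limits Opposite Functor

instance : PreservesFilteredColimitsOfSize.{u, u+1} (forget AddCommGrpCat.{u+1}) :=
  preservesFilteredColimitsOfSize_shrink.{u+1, u+1, u, u+1} _

lemma exists_of_lan_map_eq_zero {C D : Type (u+1)} [Category.{u} C] [Category.{u} D] (G : C ⥤ D)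
    [RepresentablyFlat G]
    (P : Cᵒᵖ ⥤ AddCommGrpCat.{u+1}) {U : C} {W : D} (f : W ⟶ G.obj U) (s : P.obj (op U))
    (h : ((G.op.lan.obj P).map f.op) ((G.op.lanUnit.app P).app (op U) s) = 0) :
    ∃ (V : C) (a : V ⟶ U) (h : W ⟶ G.obj V), h ≫ G.map a = f ∧ P.map a.op s = 0 := by
  let E := LeftExtension.mk _ (G.op.leftKanExtensionUnit P)
  have hc : IsColimit (E.coconeAt (op W)) :=
    Functor.isPointwiseLeftKanExtensionLeftKanExtensionUnit G.op P (op W)
  let j : CostructuredArrow G.op (op W) := CostructuredArrow.mk (Y := op U) f.op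
  have hj : (E.coconeAt (op W)).ι.app j s = (E.coconeAt (op W)).ι.app j 0 := by
    rw [map_zero]
    exact h
  obtain ⟨k, a, b, hab⟩ := (Concrete.isColimit_rep_eq_iff_exists _ hc (i := j) (j := j) s 0).mp hj
  refine ⟨k.left.unop, a.left.unop, k.hom.unop, ?_, ?_⟩
  · have := CostructuredArrow.w a
    apply Quiver.Hom.op_inj
    simp only [op_comp, Quiver.Hom.op_unop]
    exact this
  · have h2 : (CostructuredArrow.proj G.op (op W) ⋙ P).map b (0 : P.obj (op U)) = 0 := map_zero _
    exact hab.trans h2

section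
variable {Y Y' : Scheme.{u}} (g : Y' ⟶ Y)

noncomputable abbrev adj₂ :=
  Functor.sheafPullbackConstruction.sheafAdjunctionContinuous (EtCoh.bc g) AddCommGrpCat.{u+1}
    Y.smallEtaleTopology Y'.smallEtaleTopology

lemma unit_hom_eq (F : EtCoh.Ab Y) : ((adj₂ g).unit.app F).hom =
    (EtCoh.bc g).op.lanUnit.app F.obj ≫
      Functor.whiskerLeft (EtCoh.bc g).op (toSheafify Y'.smallEtaleTopology _) := by
  have := Adjunction.map_restrictFullyFaithful_unit_app
    (adj := ((EtCoh.bc g).op.lanAdjunction AddCommGrpCat.{u+1}).comp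
      (sheafificationAdjunction Y'.smallEtaleTopology AddCommGrpCat.{u+1}))
    (hiC := fullyFaithfulSheafToPresheaf Y.smallEtaleTopology AddCommGrpCat.{u+1})
    (hiD := Functor.FullyFaithful.id _)
    (L := Functor.sheafPullbackConstruction.sheafPullback (EtCoh.bc g) AddCommGrpCat.{u+1}
      Y.smallEtaleTopology Y'.smallEtaleTopology)
    (R := (EtCoh.bc g).sheafPushforwardContinuous AddCommGrpCat.{u+1}
      Y.smallEtaleTopology Y'.smallEtaleTopology)
    (comm1 := Iso.refl _) (comm2 := Iso.refl _) F
  refine this.trans ?_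
  ext U : 2
  simp
  erw [Category.comp_id]
  rfl

set_option backward.isDefEq.respectTransparency.types false in
lemma mono_unit₂ [Surjective g] (F : EtCoh.Ab Y) : Mono ((adj₂ g).unit.app F) := by
  apply Sheaf.mono_of_injective
  intro U
  refine (injective_iff_map_eq_zero (((adj₂ g).unit.app F).hom.app U).hom).mpr ?_
  intro s hs
  rw [unit_hom_eq] at hs
  set x := ((EtCoh.bc g).op.lanUnit.app F.obj).app U s with hx
  have hx0 : (toSheafify Y'.smallEtaleTopology ((EtCoh.bc g).op.lan.obj F.obj)).app
      (op ((EtCoh.bc g).obj U.unop)) x =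
      (toSheafify Y'.smallEtaleTopology ((EtCoh.bc g).op.lan.obj F.obj)).app
      (op ((EtCoh.bc g).obj U.unop)) 0 := by
    rw [map_zero]
    exact hs
  have hT := Presheaf.equalizerSieve_mem Y'.smallEtaleTopology
    (toSheafify Y'.smallEtaleTopology ((EtCoh.bc g).op.lan.obj F.obj)) x 0 hx0
  have hsep : Presieve.IsSeparated Y.smallEtaleTopology (F.obj ⋙ forget AddCommGrpCat.{u+1}) := by
    apply Presieve.IsSheaf.isSeparated
    rw [← isSheaf_iff_isSheaf_of_type]
    exact ((sheafCompose Y.smallEtaleTopology (forget AddCommGrpCat.{u+1})).obj F).2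
  have hZ : Presheaf.equalizerSieve (F := F.obj) s 0 ∈ Y.smallEtaleTopology U.unop := by
    have eY : Y.smallEtaleTopology =
        (Y.smallPretopology (P := EtCoh.etaleMP) (Q := EtCoh.etaleMP)).toGrothendieck :=
      Scheme.smallGrothendieckTopology_eq_toGrothendieck_smallPretopology Y le_rfl
    have eY' : Y'.smallEtaleTopology =
        (Y'.smallPretopology (P := EtCoh.etaleMP) (Q := EtCoh.etaleMP)).toGrothendieck :=
      Scheme.smallGrothendieckTopology_eq_toGrothendieck_smallPretopology Y' le_rfl
    have key : ∀ Z : Sieve U.unop, (∀ x : U.unop.left, ∃ (V : Y.Etale) (f : V ⟶ U.unop) (y : V.left),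
        Z f ∧ EtCoh.etaleMP f.left ∧ f.left y = x) → Z ∈ Y.smallEtaleTopology U.unop := by
      intro Z hZ
      rw [eY]
      exact (Scheme.mem_toGrothendieck_smallPretopology U.unop Z).2 hZ
    have key' : ∀ T : Sieve ((EtCoh.bc g).obj U.unop), T ∈ Y'.smallEtaleTopology _ →
        (∀ x : ((EtCoh.bc g).obj U.unop).left, ∃ (V : Y'.Etale) (f : V ⟶ (EtCoh.bc g).obj U.unop)
          (y : V.left), T f ∧ EtCoh.etaleMP f.left ∧ f.left y = x) := by
      intro T hT
      rw [eY'] at hT
      exact (Scheme.mem_toGrothendieck_smallPretopology _ T).1 hT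
    apply key
    replace hT := key' _ hT
    intro y
    obtain ⟨y', hy'⟩ := (inferInstance : Surjective (pullback.fst U.unop.hom g)).surj y
    obtain ⟨W, f, w, hf, -, hw⟩ := hT y'
    obtain ⟨V, a, h, hha, hs0⟩ := exists_of_lan_map_eq_zero (EtCoh.bc g) F.obj f s (by
      have := hf
      simp only [Presheaf.equalizerSieve_apply, map_zero] at this
      exact this)
    refine ⟨V, a, (pullback.fst V.hom g) (h.left w), ?_, inferInstance, ?_⟩
    · simp only [Presheaf.equalizerSieve_apply, map_zero]
      exact hs0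
    · have sq := (EtCoh.isPullback_bc_map g a).w
      rw [← hy', ← hw, ← hha]
      have e1 := congrArg (fun φ : ((EtCoh.bc g).obj V).left ⟶ (unop U).left => φ (h.left w)) sq.symm
      exact e1
  exact (hsep _ hZ).ext (fun _ _ hf => hf)
end

/-- Let g : Y' → Y be a morphism of schemes which is surjective on points. Then for every abelian sheaf
F on the small étale site of Y the unit F → g_* g⁻¹ F of the adjunction between inverse image and
direct image is a monomorphism. -/
theorem result {Y Y' : Scheme.{u}} (g : Y' ⟶ Y) [Surjective g]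
    (F : EtCoh.Ab Y) : Mono ((EtCoh.pullPushAdj g).unit.app F) := by
  have h := Adjunction.unit_leftAdjointUniq_hom_app (EtCoh.pullPushAdj g) (adj₂ g) F
  have hm : Mono ((adj₂ g).unit.app F) := mono_unit₂ g F
  rw [← h] at hm
  exact mono_of_mono _ ((EtCoh.push g).map ((Adjunction.leftAdjointUniq (EtCoh.pullPushAdj g) (adj₂ g)).hom.app F))

end Groth.Agent.S14622
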