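import Groth.Statements.S14624
import Mathlib
import Groth.Agent.Lib.Helper50.FPColim

set_option autoImplicit false
open CategoryTheory CategoryTheory.Limits
universe u
open Hensel

namespace Groth.Agent.S14624
open CategoryTheory CategoryTheory.Limits
open Hensel

open MvPolynomial

theorem exists_solution (A : Type u) [CommRing A] (m : Ideal A)
    (hAP : ∀ (k l c : ℕ) (f : Fin l → MvPolynomial (Fin k) A) (â : Fin k → AdicCompletion m A),
      (∀ i, MvPolynomial.aeval â (f i) = 0) →
      ∃ a : Fin k → A, (∀ i, MvPolynomial.eval a (f i) = 0) ∧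
        ∀ j, Ideal.Quotient.mk (m ^ c) (a j) = AdicCompletion.evalₐ m c (â j))
    (c : ℕ) (T : Finset (MvPolynomial (AdicCompletion m A) A))
    (hT : ∀ t ∈ T, MvPolynomial.aeval (fun x : AdicCompletion m A => x) t = 0) :
    ∃ a : AdicCompletion m A → A, (∀ t ∈ T, MvPolynomial.eval a t = 0) ∧
      ∀ x, Ideal.Quotient.mk (m ^ c) (a x) = AdicCompletion.evalₐ m c x := by
  classical
  obtain ⟨V, hV⟩ : ∃ V : Finset (AdicCompletion m A), V = T.biUnion (fun t => t.vars) := ⟨_, rfl⟩
  obtain ⟨k, hk⟩ : ∃ k, k = V.card := ⟨_, rfl⟩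
  obtain ⟨e⟩ : Nonempty (V ≃ Fin k) := ⟨hk ▸ V.equivFin⟩
  have hex : ∀ t : T, ∃ t₁ : MvPolynomial (Fin k) A,
      rename (fun j => ((e.symm j : V) : AdicCompletion m A)) t₁ = (t : MvPolynomial _ A) := by
    intro t
    have h1 : (t : MvPolynomial _ A) ∈ supported A (V : Set (AdicCompletion m A)) := by
      rw [mem_supported]
      intro x hx
      rw [hV]
      exact Finset.mem_biUnion.mpr ⟨t, t.2, hx⟩
    rw [supported_eq_range_rename, AlgHom.mem_range] at h1
    obtain ⟨t₀, ht₀⟩ := h1
    refine ⟨rename e t₀, ?_⟩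
    have h5 : (fun j => ((e.symm j : V) : AdicCompletion m A)) ∘ e = Subtype.val := by
      funext v
      simp
    rw [rename_rename, ← ht₀, h5]
    rfl
  choose t₁ ht₁ using hex
  obtain ⟨l, hl⟩ : ∃ l, l = T.card := ⟨_, rfl⟩
  obtain ⟨eT⟩ : Nonempty (T ≃ Fin l) := ⟨hl ▸ T.equivFin⟩
  have hzero : ∀ i : Fin l, aeval (fun j => ((e.symm j : V) : AdicCompletion m A))
      (t₁ (eT.symm i)) = 0 := by
    intro i
    have h2 := hT _ (eT.symm i).2
    rw [← ht₁ (eT.symm i), aeval_rename] at h2
    exact h2
  obtain ⟨a₀, ha₀, ha₀'⟩ := hAP k l c (fun i => t₁ (eT.symm i))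
    (fun j => ((e.symm j : V) : AdicCompletion m A)) hzero
  have hlift : ∀ x : AdicCompletion m A, ∃ r : A,
      Ideal.Quotient.mk (m ^ c) r = AdicCompletion.evalₐ m c x :=
    fun x => Ideal.Quotient.mk_surjective _
  choose lift hlift' using hlift
  refine ⟨fun x => if h : x ∈ V then a₀ (e ⟨x, h⟩) else lift x, ?_, ?_⟩
  · intro t ht
    have h3 := ha₀ (eT ⟨t, ht⟩)
    simp only [Equiv.symm_apply_apply] at h3
    have h4 : t = rename (fun j => ((e.symm j : V) : AdicCompletion m A)) (t₁ ⟨t, ht⟩) :=
      (ht₁ ⟨t, ht⟩).symm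
    rw [h4, eval_rename]
    have h6 : ((fun x => if h : x ∈ V then a₀ (e ⟨x, h⟩) else lift x) ∘
        fun j => ((e.symm j : V) : AdicCompletion m A)) = a₀ := by
      funext j
      simp
    rw [h6]
    exact h3
  · intro x
    by_cases h : x ∈ V
    · simp only [dif_pos h]
      rw [ha₀']
      simp
    · simp only [dif_neg h]
      exact hlift' x

section Colim

variable (A : Type u) [CommRing A] (m : Ideal A)

/-- the evaluation map from the big polynomial ring -/
noncomputable abbrev piHat : MvPolynomial (AdicCompletion m A) A →ₐ[A] AdicCompletion m A :=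
  MvPolynomial.aeval (fun x : AdicCompletion m A => x)

/-- index poset: finite subsets of the kernel -/
abbrev JJ : Type u := Finset (RingHom.ker (piHat A m).toRingHom)

/-- ideal generated by a finite subset of the kernel -/
noncomputable abbrev II (T : JJ A m) : Ideal (MvPolynomial (AdicCompletion m A) A) :=
  Ideal.span (Subtype.val '' (T : Set (RingHom.ker (piHat A m).toRingHom)))

theorem II_mono {T T' : JJ A m} (h : T ≤ T') : II A m T ≤ II A m T' :=
  Ideal.span_mono (Set.image_mono (Finset.coe_subset.mpr h))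

theorem II_le_ker (T : JJ A m) : II A m T ≤ RingHom.ker (piHat A m).toRingHom := by
  refine Ideal.span_le.mpr ?_
  rintro _ ⟨t, _, rfl⟩
  exact t.2

noncomputable def DD : JJ A m ⥤ Under (CommRingCat.of A) where
  obj T := Under.mk (CommRingCat.ofHom (algebraMap A
    (MvPolynomial (AdicCompletion m A) A ⧸ II A m T)))
  map {T T'} g := Under.homMk (CommRingCat.ofHom (Ideal.Quotient.factor (II_mono A m (leOfHom g))))
    (by ext; rfl)
  map_id T := by
    ext x
    obtain ⟨p, rfl⟩ := Ideal.Quotient.mk_surjective x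
    rfl
  map_comp g g' := by
    ext x
    obtain ⟨p, rfl⟩ := Ideal.Quotient.mk_surjective x
    rfl

noncomputable def cc : Cocone (DD A m) where
  pt := Under.mk (CommRingCat.ofHom (algebraMap A (AdicCompletion m A)))
  ι :=
    { app := fun T ↦ Under.homMk
        (CommRingCat.ofHom (Ideal.Quotient.lift (II A m T) (piHat A m).toRingHom
          (fun a ha ↦ II_le_ker A m T ha)))
        (by
          ext a
          exact (piHat A m).commutes a)
      naturality := fun T T' g ↦ by
        ext x
        obtain ⟨p, rfl⟩ := Ideal.Quotient.mk_surjective x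
        rfl }

open Classical in
noncomputable def ccIsColimit : IsColimit (cc A m) := by
  refine Groth.Agent.Lib.Helper50.isColimitUnderOfTypes _ _ ?_ ?_
  · intro (x : AdicCompletion m A)
    refine ⟨∅, Ideal.Quotient.mk _ (MvPolynomial.X x), ?_⟩
    change (piHat A m) (MvPolynomial.X x) = x
    simp
  · intro T y y' e
    obtain ⟨p, rfl⟩ := Ideal.Quotient.mk_surjective y
    obtain ⟨q, rfl⟩ := Ideal.Quotient.mk_surjective y'
    have hpq : (piHat A m) p = (piHat A m) q := e
    have hker : p - q ∈ RingHom.ker (piHat A m).toRingHom := by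
      change (piHat A m) (p - q) = 0
      rw [map_sub, hpq, sub_self]
    refine ⟨insert ⟨p - q, hker⟩ T, Finset.subset_insert _ _, ?_⟩
    change Ideal.Quotient.mk _ p = Ideal.Quotient.mk _ q
    rw [Ideal.Quotient.eq]
    refine Ideal.subset_span ⟨⟨p - q, hker⟩, ?_, rfl⟩
    exact Finset.mem_coe.mpr (Finset.mem_insert_self _ _)

end Colim

theorem main (A : Type u) [CommRing A]
    (m : Ideal A)
    (hAP : ∀ (k l c : ℕ) (f : Fin l → MvPolynomial (Fin k) A) (â : Fin k → AdicCompletion m A),
      (∀ i, MvPolynomial.aeval â (f i) = 0) →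
      ∃ a : Fin k → A, (∀ i, MvPolynomial.eval a (f i) = 0) ∧
        ∀ j, Ideal.Quotient.mk (m ^ c) (a j) = AdicCompletion.evalₐ m c (â j))
    (F : Under (CommRingCat.of A) ⥤ Type u)
    (hF : ∀ (J : Type u) [SmallCategory J] [IsFiltered J], PreservesColimitsOfShape J F)
    (c : ℕ)
    (π : Under.mk (CommRingCat.ofHom (algebraMap A (AdicCompletion m A))) ⟶
      Under.mk (CommRingCat.ofHom (algebraMap A (A ⧸ m ^ c))))
    (hπ : π.right = CommRingCat.ofHom
      (AdicCompletion.evalₐ m c : AdicCompletion m A →ₐ[A] A ⧸ m ^ c).toRingHom)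
    (ρ : Under.mk (𝟙 (CommRingCat.of A)) ⟶ Under.mk (CommRingCat.ofHom (algebraMap A (A ⧸ m ^ c))))
    (ξ : F.obj (Under.mk (CommRingCat.ofHom (algebraMap A (AdicCompletion m A))))) :
    ∃ η : F.obj (Under.mk (𝟙 (CommRingCat.of A))), F.map ρ η = F.map π ξ := by
  classical
  haveI := hF (JJ A m)
  have hcolim := isColimitOfPreserves F (ccIsColimit A m)
  obtain ⟨T, ξT, hξT⟩ := Types.jointly_surjective_of_isColimit hcolim ξ
  obtain ⟨ιT, hιT⟩ : ∃ ιT : (DD A m).obj T ⟶
      Under.mk (CommRingCat.ofHom (algebraMap A (AdicCompletion m A))),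
      ιT = (cc A m).ι.app T := ⟨_, rfl⟩
  have hιTr : ιT.right = CommRingCat.ofHom (Ideal.Quotient.lift (II A m T) (piHat A m).toRingHom
          (fun a ha ↦ II_le_ker A m T ha)) := by
    rw [hιT]
    rfl
  have hξT' : F.map ιT ξT = ξ := by
    rw [hιT]
    exact hξT
  -- the finite system
  have hTz : ∀ t ∈ T.image Subtype.val,
      MvPolynomial.aeval (fun x : AdicCompletion m A => x) t = 0 := by
    intro t ht
    obtain ⟨t', _, rfl⟩ := Finset.mem_image.mp ht
    exact t'.2
  obtain ⟨a, ha, ha'⟩ := exists_solution A m hAP c (T.image Subtype.val) hTz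
  have hkill : ∀ p ∈ II A m T, (MvPolynomial.eval a) p = 0 := by
    intro p hp
    have : II A m T ≤ RingHom.ker (MvPolynomial.eval a) := by
      refine Ideal.span_le.mpr ?_
      rintro _ ⟨t, ht, rfl⟩
      exact ha _ (Finset.mem_image.mpr ⟨t, Finset.mem_coe.mp ht, rfl⟩)
    exact this hp
  obtain ⟨ψ, hψ⟩ : ∃ ψ : (MvPolynomial (AdicCompletion m A) A ⧸ II A m T) →+* A,
      ∀ p, ψ (Ideal.Quotient.mk _ p) = MvPolynomial.eval a p :=
    ⟨Ideal.Quotient.lift (II A m T) (MvPolynomial.eval a) hkill, fun p => rfl⟩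
  obtain ⟨ψu, hψu⟩ : ∃ ψu : (DD A m).obj T ⟶ Under.mk (𝟙 (CommRingCat.of A)),
      ψu.right = CommRingCat.ofHom ψ := by
    refine ⟨Under.homMk (CommRingCat.ofHom ψ) ?_, rfl⟩
    ext r
    change ψ (algebraMap A _ r) = r
    have : algebraMap A (MvPolynomial (AdicCompletion m A) A ⧸ II A m T) r =
        Ideal.Quotient.mk _ (MvPolynomial.C r) := rfl
    rw [this, hψ, MvPolynomial.eval_C]
  have hρ : ρ.right = CommRingCat.ofHom (algebraMap A (A ⧸ m ^ c)) := by
    have := Under.w ρ
    simpa using this
  have key : ψu ≫ ρ = ιT ≫ π := by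
    apply Under.UnderMorphism.ext
    rw [Under.comp_right, Under.comp_right, hψu, hρ, hπ, hιTr]
    ext x
    obtain ⟨p, rfl⟩ := Ideal.Quotient.mk_surjective x
    change algebraMap A (A ⧸ m ^ c) (ψ (Ideal.Quotient.mk _ p)) =
      AdicCompletion.evalₐ m c ((piHat A m) p)
    rw [hψ]
    induction p using MvPolynomial.induction_on with
    | C r =>
      rw [MvPolynomial.eval_C]
      have h7 : (piHat A m) (MvPolynomial.C r) = algebraMap A _ r := by simp [piHat]
      rw [h7, AlgHom.commutes]
    | add p q hp hq => rw [map_add, map_add, hp, hq, map_add, map_add]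
    | mul_X p x hp =>
      rw [map_mul, map_mul, hp, map_mul, map_mul]
      congr 1
      rw [MvPolynomial.eval_X]
      change Ideal.Quotient.mk (m ^ c) (a x) = _
      rw [ha' x]
      simp
  refine ⟨F.map ψu ξT, ?_⟩
  rw [← hξT', ← Functor.map_comp_apply, ← Functor.map_comp_apply, key]

end Groth.Agent.S14624

namespace Groth.Agent.S14624

/-- Let A be a commutative ring, m a proper ideal of A and Â the m-adic completion. Assume the
approximation property for polynomial systems: whenever finitely many polynomials over A in finitely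
many variables have a common zero â in Â, then for every c there is a common zero a in A which
agrees with â in A/m^c. Let F be a functor from A-algebras (commutative rings under A) to sets which
preserves filtered colimits, c a natural number and ξ ∈ F(Â). Then there is η ∈ F(A) whose image in
F(A/m^c) equals the image of ξ; here π is the A-algebra map Â → A/m^c (pinned by its underlying ring
map) and ρ the A-algebra map A → A/m^c. (The published statement takes for A the henselization at a
prime ideal of an algebra of finite type over a field or over an excellent discrete valuation ring,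
for which the approximation property of polynomial systems is quoted; this row carries that property
as a hypothesis and draws the published conclusion for functors.) -/
theorem result (A : Type u) [CommRing A]
    (m : Ideal A) (hm : m ≠ ⊤)
    (hAP : ∀ (k l c : ℕ) (f : Fin l → MvPolynomial (Fin k) A) (â : Fin k → AdicCompletion m A),
      (∀ i, MvPolynomial.aeval â (f i) = 0) →
      ∃ a : Fin k → A, (∀ i, MvPolynomial.eval a (f i) = 0) ∧
        ∀ j, Ideal.Quotient.mk (m ^ c) (a j) = AdicCompletion.evalₐ m c (â j))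
    (F : Under (CommRingCat.of A) ⥤ Type u)
    (hF : ∀ (J : Type u) [SmallCategory J] [IsFiltered J], PreservesColimitsOfShape J F)
    (c : ℕ)
    (π : Under.mk (CommRingCat.ofHom (algebraMap A (AdicCompletion m A))) ⟶
      Under.mk (CommRingCat.ofHom (algebraMap A (A ⧸ m ^ c))))
    (hπ : π.right = CommRingCat.ofHom
      (AdicCompletion.evalₐ m c : AdicCompletion m A →ₐ[A] A ⧸ m ^ c).toRingHom)
    (ρ : Under.mk (𝟙 (CommRingCat.of A)) ⟶ Under.mk (CommRingCat.ofHom (algebraMap A (A ⧸ m ^ c))))
    (ξ : F.obj (Under.mk (CommRingCat.ofHom (algebraMap A (AdicCompletion m A))))) :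
    ∃ η : F.obj (Under.mk (𝟙 (CommRingCat.of A))), F.map ρ η = F.map π ξ := by
  exact main A m hAP F hF c π hπ ρ ξ

end Groth.Agent.S14624
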