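import Groth.Statements.S14625
import Groth.Agent.Lib.Helper4.MuN
import Mathlib.FieldTheory.IsSepClosed
import Mathlib.RingTheory.Henselian

set_option autoImplicit false
open CategoryTheory AlgebraicGeometry
universe u
open EtBase

namespace Groth.Agent.S14625
open Polynomial

theorem exists_root_cyclotomic (A : Type u) [CommRing A]
    (hA : EtCoh.IsStrictlyHenselianLocalRing A) (n : ℕ) (hn : 1 ≤ n) (hu : IsUnit (n : A)) :
    ∃ a : A, aeval a (cyclotomic n ℤ) = 0 := by
  obtain ⟨hH, hsc⟩ := hA
  let k := IsLocalRing.ResidueField A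
  let res : A →+* k := IsLocalRing.residue A
  have hnk : NeZero (n : k) := by
    constructor
    have := hu.map res
    rw [map_natCast] at this
    exact this.ne_zero
  have hsep : (cyclotomic n k).Separable := separable_cyclotomic n k
  have hdeg : (cyclotomic n k).degree ≠ 0 := by
    rw [degree_cyclotomic]
    have := Nat.totient_pos.2 (show 0 < n by omega)
    exact_mod_cast this.ne'
  obtain ⟨abar, habar⟩ := IsSepClosed.exists_root (cyclotomic n k) hdeg hsep
  obtain ⟨a₀, rfl⟩ := IsLocalRing.residue_surjective abar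
  have hmap : (cyclotomic n A).map res = cyclotomic n k := map_cyclotomic n res
  have h1 : (cyclotomic n A).eval a₀ ∈ IsLocalRing.maximalIdeal A := by
    rw [← IsLocalRing.residue_eq_zero_iff]
    change res _ = 0
    rw [← eval₂_hom, ← eval_map, hmap]
    exact habar
  have h2 : IsUnit ((cyclotomic n A).derivative.eval a₀) := by
    rw [← IsLocalRing.notMem_maximalIdeal, ← IsLocalRing.residue_eq_zero_iff]
    change ¬ res _ = 0
    rw [← eval₂_hom, ← eval_map, ← derivative_map, hmap]
    have := hsep.eval₂_derivative_ne_zero (RingHom.id k) (x := res a₀) (by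
      rw [eval₂_id]
      exact habar)
    rwa [eval₂_id] at this
  obtain ⟨a, ha, -⟩ := hH.is_henselian (cyclotomic n A) (cyclotomic.monic n A) a₀ h1 h2
  refine ⟨a, ?_⟩
  have h3 : cyclotomic n A = (cyclotomic n ℤ).map (algebraMap ℤ A) := (map_cyclotomic_int n A).symm
  rw [IsRoot.def, h3, eval_map, ← aeval_def] at ha
  exact ha


/-- Let A be a strictly henselian local ring, n ≥ 1 an integer invertible in A, and X a scheme over Spec
A. Then the étale sheaf μ_n of n-th roots of unity on X is isomorphic to the constant sheaf with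
value ℤ/n. Only the existence of an isomorphism is asserted; it depends on the choice of a primitive
n-th root of unity in A. -/
theorem result (A : Type u) [CommRing A]
    (hA : EtCoh.IsStrictlyHenselianLocalRing A) (n : ℕ) (hn : 1 ≤ n) (hu : IsUnit (n : A))
    (X : Scheme.{u}) (f : X ⟶ Spec (CommRingCat.of A)) :
    Nonempty (EtCoh.mu X n ≅ EtCoh.const X (ZMod n)) := by
  obtain ⟨a, ha⟩ := exists_root_cyclotomic A hA n hn hu
  let ρ : A →+* Γ(X, ⊤) := (f.appTop.hom).comp (Scheme.ΓSpecIso (CommRingCat.of A)).inv.hom
  have hζ : aeval (ρ a) (cyclotomic n ℤ) = 0 := by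
    have := aeval_algHom_apply (ρ.toIntAlgHom) a (cyclotomic n ℤ)
    rw [ha, map_zero] at this
    exact this
  have hunit : IsUnit (n : Γ(X, ⊤)) := by
    have := hu.map ρ
    rwa [map_natCast] at this
  exact Groth.Agent.Lib.Helper4.MuN.mu_iso_const X n hn hunit (ρ a) hζ

end Groth.Agent.S14625
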