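import Groth.Statements.S14626
import Groth.Agent.Lib.Helper28.CechBC
import Groth.Agent.Lib.Helper28.EtQc
import Mathlib.CategoryTheory.Limits.Preserves.Shapes.Over

set_option autoImplicit false
open CategoryTheory CategoryTheory.Limits AlgebraicGeometry
universe u
open EtBase

namespace Groth.Agent.S14626

open Groth.Agent.Lib.Helper28 Opposite

/-- Base change of a jointly surjective family is jointly surjective. -/
lemma jointly_surjective_bc {X Y : Scheme.{u}} (f : X ⟶ Y) (V : Y.Etale) (ι : Type (u + 1))
    (Vf : ι → Over V)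
    (hV : ∀ x : ↥(V.left), ∃ (i : ι) (y : ↥((Vf i).left.left)), (Vf i).hom.left.base y = x)
    (x : ↥(((EtCoh.bc f).obj V).left)) :
    ∃ (i : ι) (y : ↥((((Over.post (EtCoh.bc f)).obj (Vf i)).left).left)),
      ((Over.post (EtCoh.bc f)).obj (Vf i)).hom.left.base y = x := by
  have hcov : Sieve.ofArrows (fun i => (Vf i).left) (fun i => (Vf i).hom) ∈
      Y.smallEtaleTopology V := by
    rw [EtQc.mem_topology_iff]
    intro w
    obtain ⟨i, y, hy⟩ := hV w
    exact ⟨(Vf i).left, (Vf i).hom, y, Sieve.ofArrows_mk _ _ i, hy⟩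
  have h2 := (EtCoh.coverPreserving_bc f).cover_preserve hcov
  rw [Sieve.functorPushforward_ofArrows, EtQc.mem_topology_iff] at h2
  obtain ⟨W, g, y, hg, hy⟩ := h2 x
  rw [Sieve.mem_ofArrows_iff] at hg
  obtain ⟨i, a, rfl⟩ := hg
  exact ⟨i, a.left y, hy⟩

/-- For the direct image along a morphism of schemes on small étale sites; take a morphism of schemes f
: X → Y and an abelian étale sheaf F on X which is flasque in the Čech sense, i.e. for every étale U
over X and every jointly surjective family of étale U-schemes the Čech cohomology groups of F in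
positive degrees vanish. Then the direct image f_*F is flasque in the same sense on Y. The finite
products of the over categories (the fibre products entering the Čech complexes) are carried as
instance hypotheses. -/
theorem result {X Y : Scheme.{u}} (f : X ⟶ Y)
    [∀ U : X.Etale, HasFiniteProducts (Over U)] [∀ V : Y.Etale, HasFiniteProducts (Over V)]
    (F : EtCoh.Ab X)
    (hF : ∀ (U : X.Etale) (ι : Type (u + 1)) (Uf : ι → Over U),
      (∀ x : ↥(U.left), ∃ (i : ι) (y : ↥((Uf i).left.left)), (Uf i).hom.left.base y = x) →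
      ∀ p : ℕ, 0 < p → IsZero (EtCech.cechH Uf F.obj p))
    (V : Y.Etale) (ι : Type (u + 1)) (Vf : ι → Over V)
    (hV : ∀ x : ↥(V.left), ∃ (i : ι) (y : ↥((Vf i).left.left)), (Vf i).hom.left.base y = x)
    (p : ℕ) (hp : 0 < p) :
    IsZero (EtCech.cechH Vf ((EtCoh.push f).obj F).obj p) := by
  have e := CechBC.cochainIso (Over.post (EtCoh.bc f) (X := V)) Vf
    ((Over.forget ((EtCoh.bc f).obj V)).op ⋙ F.obj)
  have hz := hF ((EtCoh.bc f).obj V) ι (fun i => (Over.post (EtCoh.bc f)).obj (Vf i))
    (jointly_surjective_bc f V ι Vf hV) p hp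
  exact hz.of_iso ((HomologicalComplex.homologyFunctor _ _ p).mapIso e)

end Groth.Agent.S14626
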