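import Groth.Statements.S14628
import Groth.Agent.Lib.Helper28.CartanG
import Groth.Agent.Lib.Helper28.EtQc

set_option autoImplicit false
open CategoryTheory CategoryTheory.Limits AlgebraicGeometry
universe u
open EtBase

namespace Groth.Agent.S14628

open Groth.Agent.Lib.Helper28 Opposite Simplicial

/-- On the small étale site of a scheme, let 0 → F' → F → F'' → 0 be a short exact sequence of abelian
étale sheaves on a scheme X. If F' and F are flasque in the Čech sense (for every étale U over X and
every jointly surjective family of étale U-schemes, Čech cohomology in positive degrees vanishes),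
then so is F''. The finite products of the over categories (the fibre products entering the Čech
complexes) are carried as instance hypotheses. -/
theorem result {X : Scheme.{u}}
    [∀ U : X.Etale, HasFiniteProducts (Over U)] (S : ShortComplex (EtCoh.Ab X)) (hS : S.ShortExact)
    (h1 : (∀ (U : X.Etale) (ι : Type (u + 1)) (Uf : ι → Over U),
      (∀ x : ↥(U.left), ∃ (i : ι) (y : ↥((Uf i).left.left)), (Uf i).hom.left.base y = x) →
      ∀ p : ℕ, 0 < p → IsZero (EtCech.cechH Uf S.X₁.obj p)))
    (h2 : (∀ (U : X.Etale) (ι : Type (u + 1)) (Uf : ι → Over U),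
      (∀ x : ↥(U.left), ∃ (i : ι) (y : ↥((Uf i).left.left)), (Uf i).hom.left.base y = x) →
      ∀ p : ℕ, 0 < p → IsZero (EtCech.cechH Uf S.X₂.obj p)))
    (U : X.Etale) (ι : Type (u + 1)) (Uf : ι → Over U)
    (hU : ∀ x : ↥(U.left), ∃ (i : ι) (y : ↥((Uf i).left.left)), (Uf i).hom.left.base y = x)
    (p : ℕ) (hp : 0 < p) :
    IsZero (EtCech.cechH Uf S.X₃.obj p) := by
  obtain ⟨p, rfl⟩ : ∃ k, p = k + 1 := ⟨p - 1, by omega⟩
  have hsurj : ∀ W : X.Etale, Function.Surjective (S.g.hom.app (op W)) := by
    intro W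
    apply CartanG.surjective_sections S hS W
    intro T hT
    refine ⟨(Σ V : X.Etale, {f : V ⟶ W // T f}), fun a => Over.mk a.2.1, fun a => a.2.2, ?_, ?_⟩
    · refine X.smallEtaleTopology.superset_covering ?_ hT
      intro V f hf
      exact Sieve.ofArrows_mk (fun a : (Σ V : X.Etale, {f : V ⟶ W // T f}) => a.1)
        (fun a => a.2.1) ⟨V, f, hf⟩
    · refine h1 W _ _ ?_ 1 Nat.one_pos
      intro w
      obtain ⟨Y, f, y, hf, hy⟩ := (EtQc.mem_topology_iff W T).1 hT w
      exact ⟨⟨Y, f, hf⟩, y, hy⟩
  exact CechLG.isZero_homology_X₃ (Φ := Over.forget U) (E := CechO.cechE Uf) hS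
    (fun n i => hsurj _) (fun q => h1 U ι Uf hU (q + 1) (Nat.succ_pos q))
    (fun q => h2 U ι Uf hU (q + 1) (Nat.succ_pos q)) p

end Groth.Agent.S14628
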