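import Groth.Statements.S1463
import Mathlib
import Groth.Agent.Lib.Helper78.GeomCountApprox

set_option autoImplicit false
universe u
open FlatMor

namespace Groth.Agent.S1463

open AlgebraicGeometry CategoryTheory Limits in

open AlgebraicGeometry CategoryTheory Limits in
/-- Let f : X → S be a morphism of finite presentation between affine schemes whose fibres are
geometrically connected. Then f is the base change of a morphism of finite type f₀ : X₀ → S₀ between
affine schemes with S₀ of finite type over ℤ, where f₀ can be chosen with the same property. -/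
theorem result {X S : Scheme.{u}} (f : X ⟶ S) [IsAffine X] [IsAffine S] [LocallyOfFinitePresentation f] [GeometricallyConnected f] :
    ∃ (X₀ S₀ : Scheme.{u}) (f₀ : X₀ ⟶ S₀) (g : S ⟶ S₀) (g' : X ⟶ X₀), IsAffine X₀ ∧ IsAffine S₀ ∧ IsPullback g' f f₀ g ∧
      Algebra.FiniteType ℤ Γ(S₀, ⊤) ∧ LocallyOfFiniteType f₀ ∧ GeometricallyConnected f₀ := by
  obtain ⟨X₀, S₀, f₀, g, g', h1, h2, h3, h4, h5, h6⟩ :=
    Groth.Agent.Lib.Helper78.GeomCountApprox.exists_approx_of_constructible
      (fun _ _ f y => MoreMor.nGeomConnComp f y = 1)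
      (fun _ _ _ _ f f' g' g hc y' => by
        show MoreMor.nGeomConnComp f' y' = 1 ↔ MoreMor.nGeomConnComp f (g y') = 1
        rw [Groth.Agent.S1335.result f f' g' g hc y'])
      (fun _ _ _ g _ _ _ => Groth.Agent.S1339.isConstructible_of_isAffine g 1)
      f (fun s =>
        Groth.Agent.Lib.Helper78.GeomCountApprox.nGeomConnComp_eq_one_of_geometricallyConnected
          f s)
  exact ⟨X₀, S₀, f₀, g, g', h1, h2, h3, h4, h5,
    Groth.Agent.Lib.Helper78.GeomCountApprox.geometricallyConnected_of_forall_nGeomConnComp_eq_one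
      f₀ h6⟩

end Groth.Agent.S1463
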