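import Groth.Statements.S14630
import Groth.Agent.Lib.Helper28.EtColim
import Groth.Agent.Lib.Helper28.FiltCech2

set_option autoImplicit false
open CategoryTheory CategoryTheory.Limits AlgebraicGeometry
universe u
open EtBase

namespace Groth.Agent.S14630

open Groth.Agent.Lib.Helper28 Opposite

lemma mem_B {X : Scheme.{u}} [CompactSpace ↥X] [QuasiSeparatedSpace ↥X] (V : X.Etale)
    [QuasiCompact V.hom] [QuasiSeparated V.hom] : V ∈ EtQc.B X :=
  ⟨QuasiCompact.compactSpace_of_compactSpace (Y := X) V.hom,
    quasiSeparatedSpace_of_quasiSeparated (Y := X) V.hom⟩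

/-- On the small étale site of a quasi-compact quasi-separated scheme, let X be a quasi-compact
quasi-separated scheme, U an étale X-scheme quasi-compact and quasi-separated over X, and (U_i → U)
a finite family of étale U-schemes each quasi-compact and quasi-separated over X. Then for every q
and every small filtered category I, the functor F ↦ Ȟ^q((U_i → U), F) on abelian étale sheaves on X
preserves colimits of shape I. The finite products of the over category (the fibre products entering
the Čech complex) are carried as an instance hypothesis. (The published statement is for an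
arbitrary covering family, reduced to a finite one without argument; this row takes a finite family,
which need not cover U.) -/
theorem result (X : Scheme.{u}) [CompactSpace ↥X]
    [QuasiSeparatedSpace ↥X] (U : X.Etale) [QuasiCompact U.hom] [QuasiSeparated U.hom]
    [HasFiniteProducts (Over U)] (ι : Type (u + 1)) [Finite ι] (Uf : ι → Over U)
    [∀ i, QuasiCompact (Uf i).left.hom] [∀ i, QuasiSeparated (Uf i).left.hom]
    (q : ℕ) (I : Type (u + 1)) [SmallCategory I] [IsFiltered I] :
    PreservesColimitsOfShape I
      (sheafToPresheaf X.smallEtaleTopology AddCommGrpCat.{u + 1} ⋙ EtCech.cechHFunctor Uf q) := by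
  have hU : U ∈ EtQc.B X := mem_B U
  have hUf : ∀ i, (Uf i).left ∈ EtQc.B X := fun i => mem_B (Uf i).left
  constructor
  intro F
  have hcV : ∀ V ∈ EtQc.B X, IsColimit (FiltColim.evalCocone
      (F ⋙ sheafToPresheaf X.smallEtaleTopology AddCommGrpCat.{u + 1})
      ((sheafToPresheaf X.smallEtaleTopology AddCommGrpCat.{u + 1}).mapCocone (colimit.cocone F))
      (op V)) := by
    intro V hV
    have := EtColim.preservesColimit_sections X F hV
    exact isColimitOfPreserves (sheafToPresheaf X.smallEtaleTopology AddCommGrpCat.{u + 1} ⋙
      (evaluation X.Etaleᵒᵖ AddCommGrpCat.{u + 1}).obj (op V)) (colimit.isColimit F)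
  obtain ⟨h⟩ := FiltCech.nonempty_isColimit_cechH Uf
    (G := F ⋙ sheafToPresheaf X.smallEtaleTopology AddCommGrpCat.{u + 1})
    (c := (sheafToPresheaf X.smallEtaleTopology AddCommGrpCat.{u + 1}).mapCocone
      (colimit.cocone F))
    (fun n a => hcV _ (EtQc.prod_mem hU Uf hUf n a)) q
  exact preservesColimit_of_preserves_colimit_cocone (colimit.isColimit F) h

end Groth.Agent.S14630
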