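import Groth.Statements.S14636
import Groth.Agent.Lib.Helper72.NormHomog
import Groth.Agent.S1585

set_option autoImplicit false
universe u
open CategoryTheory MonoidalCategory CartesianMonoidalCategory MonObj GrpObj AlgebraicGeometry CategoryTheory.Limits
open AlgGrp

namespace Groth.Agent.S14636

/-- Over a field k, let G be a smooth connected k-group scheme of finite type acting on a variety X (a
separated, geometrically integral k-scheme of finite type), let ν : X̃ → X be the normalization of
X, and let G act on X̃ so that ν is equivariant (such an action exists and is unique). Then X is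
almost homogeneous, i.e. the graph morphism G × X → X × X, (g, x) ↦ (x, g·x), is dominant, if and
only if X̃ is almost homogeneous for the lifted action. (The quasi-compactness and
quasi-separatedness binders on the morphism from the generic point always hold; they are only needed
to form the normalization.) -/
theorem result (k : Type u) [Field k]
    (G X : Over (Spec (CommRingCat.of k))) [GrpObj G] [Smooth G.hom] [QuasiCompact G.hom] [ConnectedSpace ↥G.left]
    [IsSeparated X.hom] [LocallyOfFiniteType X.hom] [QuasiCompact X.hom] [GeometricallyIntegral X.hom] [IsIntegral X.left] [QuasiCompact (X.left.fromSpecStalk (genericPoint ↥X.left))] [QuasiSeparated (X.left.fromSpecStalk (genericPoint ↥X.left))]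
    (a : AlgGrp.Action G X)
    (b : AlgGrp.Action G (Over.mk (Curv2.normalizationι X.left ≫ X.hom)))
    (hb : (G ◁ (Over.homMk (Curv2.normalizationι X.left) rfl : Over.mk (Curv2.normalizationι X.left ≫ X.hom) ⟶ X)) ≫ a.act =
      b.act ≫ Over.homMk (Curv2.normalizationι X.left) rfl) :
    IsDominant (CartesianMonoidalCategory.lift (CartesianMonoidalCategory.snd G X) a.act).left ↔
      IsDominant (CartesianMonoidalCategory.lift
        (CartesianMonoidalCategory.snd G (Over.mk (Curv2.normalizationι X.left ≫ X.hom))) b.act).left := by
  classical
  letI : X.left.Over (Spec (CommRingCat.of k)) := ⟨X.hom⟩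
  haveI : LocallyOfFiniteType (X.left ↘ Spec (CommRingCat.of k)) :=
    ‹LocallyOfFiniteType X.hom›
  obtain ⟨hfin, hdom, ⟨V, hVne, hViso⟩, hint, -⟩ := Groth.Agent.S1585.result k X.left
  obtain ⟨n, hn⟩ : ∃ n : Over.mk (Curv2.normalizationι X.left ≫ X.hom) ⟶ X,
    n = Over.homMk (Curv2.normalizationι X.left) rfl := ⟨_, rfl⟩
  rw [← hn] at hb
  have hnl : n.left = Curv2.normalizationι X.left := by rw [hn]; rfl
  haveI : IsFinite n.left := by rw [hnl]; exact hfin
  haveI : IsDominant n.left := by rw [hnl]; exact hdom
  haveI : IsIso (n.left ∣_ V) := by rw [hnl]; exact hViso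
  haveI : Surjective n.left := by
    refine ⟨fun x => ?_⟩
    have h1 : IsClosed (Set.range n.left) := n.left.isClosedMap.isClosed_range
    have h2 : closure (Set.range n.left) = Set.univ :=
      (IsDominant.denseRange (f := n.left)).closure_range
    rw [h1.closure_eq] at h2
    have h3 : x ∈ Set.range n.left := by rw [h2]; exact Set.mem_univ x
    exact h3
  haveI : LocallyOfFiniteType (Over.mk (Curv2.normalizationι X.left ≫ X.hom)).hom := by
    show LocallyOfFiniteType (Curv2.normalizationι X.left ≫ X.hom)
    rw [← hnl]
    infer_instance
  haveI : UniversallyOpen (Over.mk (Curv2.normalizationι X.left ≫ X.hom)).hom := inferInstance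
  haveI : IrreducibleSpace ↥(Over.mk (Curv2.normalizationι X.left ≫ X.hom)).left := by
    show IrreducibleSpace ↥(Curv2.normalization X.left)
    infer_instance
  have hdense : Dense (n.left ⁻¹' (V : Set X.left)) := by
    refine (V.2.preimage n.left.continuous).dense ?_
    obtain ⟨v, hv⟩ := hVne
    obtain ⟨w, hw⟩ := n.left.surjective v
    exact ⟨w, by show n.left w ∈ V; rw [hw]; exact hv⟩
  constructor
  · exact Groth.Agent.Lib.Helper72.NormHomog.isDominant_cover a.act b.act n hb V hdense
  · exact Groth.Agent.Lib.Helper72.NormHomog.isDominant_of_cover a.act b.act n hb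

end Groth.Agent.S14636
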