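import Groth.Statements.S14638
import Groth.Agent.Lib.Helper72.OpenOrbit

set_option autoImplicit false
universe u
open CategoryTheory MonoidalCategory CartesianMonoidalCategory MonObj GrpObj AlgebraicGeometry CategoryTheory.Limits
open AlgGrp

namespace Groth.Agent.S14638

/-- Over a field k, let G be a smooth k-group scheme of finite type acting on a variety X (a separated,
geometrically integral k-scheme of finite type). Then X is almost homogeneous, i.e. the graph
morphism G × X → X × X, (g, x) ↦ (x, g·x), is dominant, if and only if there is a nonempty open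
subscheme U of X which is G-stable (the action restricts to an action on U) and homogeneous (the
graph morphism G × U → U × U is surjective). Moreover there is at most one such open subscheme U
(the open orbit). -/
theorem result (k : Type u) [Field k]
    (G X : Over (Spec (CommRingCat.of k))) [GrpObj G] [Smooth G.hom] [QuasiCompact G.hom]
    [IsSeparated X.hom] [LocallyOfFiniteType X.hom] [QuasiCompact X.hom] [GeometricallyIntegral X.hom]
    (a : AlgGrp.Action G X) :
    (IsDominant (CartesianMonoidalCategory.lift (CartesianMonoidalCategory.snd G X) a.act).left ↔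
      ∃ U : X.left.Opens, (U : Set ↥X.left).Nonempty ∧
        ∃ b : AlgGrp.Action G (Over.mk (U.ι ≫ X.hom)),
          (G ◁ (Over.homMk U.ι rfl : Over.mk (U.ι ≫ X.hom) ⟶ X)) ≫ a.act = b.act ≫ Over.homMk U.ι rfl ∧
          Surjective (CartesianMonoidalCategory.lift (CartesianMonoidalCategory.snd G (Over.mk (U.ι ≫ X.hom))) b.act).left) ∧
    ∀ U U' : X.left.Opens,
      ((U : Set ↥X.left).Nonempty ∧ ∃ b : AlgGrp.Action G (Over.mk (U.ι ≫ X.hom)),
          (G ◁ (Over.homMk U.ι rfl : Over.mk (U.ι ≫ X.hom) ⟶ X)) ≫ a.act = b.act ≫ Over.homMk U.ι rfl ∧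
          Surjective (CartesianMonoidalCategory.lift (CartesianMonoidalCategory.snd G (Over.mk (U.ι ≫ X.hom))) b.act).left) →
      ((U' : Set ↥X.left).Nonempty ∧ ∃ b' : AlgGrp.Action G (Over.mk (U'.ι ≫ X.hom)),
          (G ◁ (Over.homMk U'.ι rfl : Over.mk (U'.ι ≫ X.hom) ⟶ X)) ≫ a.act = b'.act ≫ Over.homMk U'.ι rfl ∧
          Surjective (CartesianMonoidalCategory.lift (CartesianMonoidalCategory.snd G (Over.mk (U'.ι ≫ X.hom))) b'.act).left) →
      U = U' := by
  classical
  haveI : LocallyOfFiniteType G.hom := inferInstance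
  haveI : Subsingleton ↥(Spec (CommRingCat.of k)) :=
    inferInstanceAs (Subsingleton (PrimeSpectrum k))
  haveI : UniversallyOpen X.hom := inferInstance
  haveI : UniversallyOpen G.hom := inferInstance
  haveI : IsIntegral X.left := GeometricallyIntegral.isIntegral_of_subsingleton X.hom
  haveI : IrreducibleSpace ↥(X ⊗ X).left := by
    show IrreducibleSpace ↥(pullback X.hom X.hom)
    infer_instance
  have key : ∀ U : X.left.Opens, (U : Set ↥X.left).Nonempty →
      ∀ b : AlgGrp.Action G (Over.mk (U.ι ≫ X.hom)),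
      (G ◁ (Over.homMk U.ι rfl : Over.mk (U.ι ≫ X.hom) ⟶ X)) ≫ a.act = b.act ≫ Over.homMk U.ι rfl →
      Surjective (CartesianMonoidalCategory.lift (CartesianMonoidalCategory.snd G (Over.mk (U.ι ≫ X.hom))) b.act).left →
      ∀ U' : X.left.Opens, (U' : Set ↥X.left).Nonempty →
      ∀ b' : AlgGrp.Action G (Over.mk (U'.ι ≫ X.hom)),
      (G ◁ (Over.homMk U'.ι rfl : Over.mk (U'.ι ≫ X.hom) ⟶ X)) ≫ a.act = b'.act ≫ Over.homMk U'.ι rfl →
      U ≤ U' := by
    intro U hU b hb hs U' hU' b' hb' x hx
    obtain ⟨p, hp1, hp2⟩ : ((U : Set ↥X.left) ∩ (U' : Set ↥X.left)).Nonempty :=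
      nonempty_preirreducible_inter U.2 U'.2 hU hU'
    have h1 := Lib.Helper72.OpenOrbit.orbG_of_surjective a U b hb hs hp1 hx
    exact Lib.Helper72.OpenOrbit.mem_of_orbG a U' b' hb' hp2 h1
  refine ⟨⟨?_, ?_⟩, ?_⟩
  · intro hdom
    have hGX : LocallyOfFiniteType (G ⊗ X).hom := Lib.Helper72.OpenOrbit.lft_tensor
    have hXX : LocallyOfFiniteType (X ⊗ X).hom := Lib.Helper72.OpenOrbit.lft_tensor
    have hGXqc : QuasiCompact (G ⊗ X).hom := by
      rw [Over.tensorObj_hom]; infer_instance
    have hXXqc : QuasiCompact (X ⊗ X).hom := by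
      rw [Over.tensorObj_hom]; infer_instance
    have hΦlft : LocallyOfFiniteType (lift (snd G X) a.act).left := Lib.Helper72.OpenOrbit.lft_hom _
    have hln : IsLocallyNoetherian (X ⊗ X).left :=
      LocallyOfFiniteType.isLocallyNoetherian (X ⊗ X).hom
    haveI : CompactSpace ↥(X ⊗ X).left :=
      QuasiCompact.compactSpace_of_compactSpace (X ⊗ X).hom
    haveI : IsNoetherian (X ⊗ X).left := { }
    haveI : LocallyOfFinitePresentation (lift (snd G X) a.act).left :=
      LocallyOfFinitePresentation.iff_locallyOfFiniteType.mpr hΦlft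
    haveI : QuasiCompact (lift (snd G X) a.act).left :=
      Groth.Agent.Lib.Helper72.FibDim.quasiCompact_of_ft (G ⊗ X).hom (X ⊗ X).hom _
    have hcons : Topology.IsConstructible (Set.range (lift (snd G X) a.act).left) := by
      rw [← Set.image_univ]
      exact Scheme.Hom.isConstructible_image _ Topology.IsConstructible.univ
    have hdense : DenseRange (lift (snd G X) a.act).left := hdom.denseRange
    obtain ⟨V₀, hV₀, ⟨v, hvV, -⟩, hsub⟩ := Groth.Agent.Lib.Helper35.constr_exists_open_of_dense hcons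
      (IrreducibleSpace.isIrreducible_univ ↥(X ⊗ X).left) (by
        rw [Set.inter_univ, hdense.closure_range])
    let V : (X ⊗ X).left.Opens := ⟨V₀, hV₀⟩
    have hV : (V : Set ↥(X ⊗ X).left) ⊆ Set.range (Lib.Helper72.OpenOrbit.graph a).left := by
      intro z hz
      exact hsub ⟨hz, trivial⟩
    haveI : UniversallyOpen (fst X X).left := by
      rw [Over.fst_left]; infer_instance
    have hWopen : IsOpen ((fst X X).left '' (V : Set ↥(X ⊗ X).left)) :=
      Scheme.Hom.isOpenMap _ _ V.2
    let U : X.left.Opens := ⟨Lib.Helper72.OpenOrbit.sat a ((fst X X).left '' (V : Set ↥(X ⊗ X).left)),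
      Lib.Helper72.OpenOrbit.isOpen_sat a hWopen⟩
    have hUne : (U : Set ↥X.left).Nonempty :=
      ⟨(fst X X).left v, Lib.Helper72.OpenOrbit.subset_sat a _ ⟨v, hvV, rfl⟩⟩
    obtain ⟨b, hb⟩ := Lib.Helper72.OpenOrbit.exists_restrict a U
      (fun z hz => Lib.Helper72.OpenOrbit.act_mem_sat a z hz)
    exact ⟨U, hUne, b, hb, Lib.Helper72.OpenOrbit.surjective_graph_restrict a V hV U rfl b hb⟩
  · rintro ⟨U, hUne, b, hb, hs⟩
    have hsub := Lib.Helper72.OpenOrbit.subset_range_graph a U b hb hs
    have hopen : IsOpen ((fst X X).left ⁻¹' (U : Set X.left) ∩ (snd X X).left ⁻¹' (U : Set X.left)) :=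
      (U.2.preimage (fst X X).left.continuous).inter (U.2.preimage (snd X X).left.continuous)
    have hne : ((fst X X).left ⁻¹' (U : Set X.left) ∩ (snd X X).left ⁻¹' (U : Set X.left)).Nonempty := by
      obtain ⟨x, hx⟩ := hUne
      obtain ⟨z, hz1, hz2⟩ := Scheme.Pullback.exists_preimage_pullback
        (f := X.hom) (g := X.hom) x x rfl
      refine ⟨z, ?_, ?_⟩
      · show pullback.fst X.hom X.hom z ∈ U
        rw [hz1]; exact hx
      · show pullback.snd X.hom X.hom z ∈ U
        rw [hz2]; exact hx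
    exact ⟨(hopen.dense hne).mono hsub⟩
  · rintro U U' ⟨hU, b, hb, hs⟩ ⟨hU', b', hb', hs'⟩
    exact le_antisymm (key U hU b hb hs U' hU' b' hb') (key U' hU' b' hb' hs' U hU b hb)

end Groth.Agent.S14638
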