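import Groth.Statements.S1464
import Mathlib
import Groth.Agent.S0402
import Groth.Agent.S9358
import Groth.Agent.S9355
import Groth.Agent.S1460
import Groth.Agent.S9207
import Groth.Agent.Lib.Helper46.FibreDimEq
import Groth.Agent.Lib.Helper46.ProConsClosure
import Groth.Agent.Lib.Helper50.FGLim

set_option autoImplicit false
universe u
open FlatMor

namespace Groth.Agent.S1464

open AlgebraicGeometry CategoryTheory Limits in
private lemma main_of_limit {I : Type u} [SmallCategory I] [IsCofiltered I]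
    (D : I ⥤ Scheme.{u}) (c : Cone D) (hc : IsLimit c)
    [∀ (i j : I) (f : i ⟶ j), IsAffineHom (D.map f)] [∀ i, IsAffine (D.obj i)] (i₀ : I)
    {X S : Scheme.{u}} (f : X ⟶ S) (e : S ≅ c.pt)
    {X₀ : Scheme.{u}} (f₀ : X₀ ⟶ D.obj i₀) [LocallyOfFinitePresentation f₀] [IsAffine X₀]
    (qX : X ⟶ X₀) (hX : IsPullback qX (f ≫ e.hom) f₀ (c.π.app i₀))
    (d : ℕ) (hd : ∀ s : S, topologicalKrullDim ↥(f.fiber s) = ((d : ℕ) : WithBot ℕ∞)) :
    ∃ (j : I) (χ : j ⟶ i₀), ∀ s : D.obj j,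
      topologicalKrullDim ↥((pullback.snd f₀ (D.map χ)).fiber s) = ((d : ℕ) : WithBot ℕ∞) := by
  classical
  have h9 : IsPullback (𝟙 X) f (f ≫ e.hom) e.hom := IsPullback.of_horiz_isIso ⟨by simp⟩
  have hX' : IsPullback qX f f₀ (e.hom ≫ c.π.app i₀) := by
    have := h9.paste_horiz hX
    rwa [Category.id_comp] at this
  haveI : LocallyOfFiniteType f :=
    MorphismProperty.of_isPullback (P := @LocallyOfFiniteType) hX' inferInstance
  have hfd : ∀ x : X, FlatMor.fibreDimAt f x = FlatMor.fibreDimAt f₀ (qX.base x) :=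
    (Groth.Agent.S9358.result f₀ (e.hom ≫ c.π.app i₀) qX f hX' d).1
  have hA : ∀ x : X, FlatMor.fibreDimAt f₀ (qX.base x) ≤ ((d : ℕ) : WithBot ℕ∞) := by
    intro x
    rw [← hfd]
    exact ((Groth.Agent.Lib.Helper46.topologicalKrullDim_fiber_eq_iff f _ d).mp
      (hd (f.base x))).1 x rfl
  have hB : ∀ s : S, ∃ x : X, f.base x = s ∧
      ((d : ℕ) : WithBot ℕ∞) ≤ FlatMor.fibreDimAt f₀ (qX.base x) := by
    intro s
    obtain ⟨x, hx, hdx⟩ := ((Groth.Agent.Lib.Helper46.topologicalKrullDim_fiber_eq_iff f s d).mp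
      (hd s)).2
    exact ⟨x, hx, by rw [← hfd]; exact hdx⟩
  -- (a) the bound `≤ d` at a stage
  have hopen := Groth.Agent.S0402.result f₀ d
  let Z₁ : TopologicalSpace.Closeds X₀ :=
    ⟨{x | FlatMor.fibreDimAt f₀ x ≤ d}ᶜ, hopen.isClosed_compl⟩
  let a₁ := (Scheme.IdealSheafData.vanishingIdeal Z₁).subschemeι
  have ha₁ : Set.range a₁.base = {x | FlatMor.fibreDimAt f₀ x ≤ d}ᶜ := by
    rw [Scheme.IdealSheafData.range_subschemeι,
      Scheme.IdealSheafData.coe_support_vanishingIdeal]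
    rfl
  haveI : CompactSpace ↥(Scheme.IdealSheafData.vanishingIdeal Z₁).subscheme :=
    QuasiCompact.compactSpace_of_compactSpace a₁
  have hempty : IsEmpty ↥(pullback (a₁ ≫ f₀) (c.π.app i₀)) := by
    refine ⟨fun z => ?_⟩
    let m : pullback (a₁ ≫ f₀) (c.π.app i₀) ⟶ X :=
      hX.lift (pullback.fst _ _ ≫ a₁) (pullback.snd _ _) (by
        rw [Category.assoc]; exact pullback.condition)
    have hm : m ≫ qX = pullback.fst _ _ ≫ a₁ := hX.lift_fst _ _ _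
    have h1 : qX.base (m.base z) ∈ Set.range a₁.base :=
      ⟨(pullback.fst (a₁ ≫ f₀) (c.π.app i₀)).base z, by
        rw [← Scheme.Hom.comp_apply, ← hm, Scheme.Hom.comp_apply]⟩
    rw [ha₁] at h1
    exact h1 (hA _)
  obtain ⟨i₁, φ₁, hφ₁⟩ : ∃ (i : I) (φ : i ⟶ i₀), IsEmpty ↥(pullback (a₁ ≫ f₀) (D.map φ)) := by
    by_contra! H
    exact hempty.elim (Groth.Agent.S9207.aux D c hc i₀ (a₁ ≫ f₀) fun i' φ => H i' φ).some
  -- (b) a point of fibre dimension `≥ d` in every fibre at a stage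
  have hZc : Topology.IsConstructible {x | ((d : ℕ) : WithBot ℕ∞) ≤ FlatMor.fibreDimAt f₀ x} := by
    rcases d with _ | n
    · convert Topology.IsConstructible.univ using 1
      ext x
      simp only [Set.mem_setOf_eq, Set.mem_univ, iff_true]
      obtain ⟨m, hm⟩ := Groth.Agent.Lib.Helper73.exists_fibreDimAt_eq_natCast f₀ x
      rw [hm]
      exact_mod_cast Nat.zero_le m
    · have h1 : Topology.IsConstructible {x | FlatMor.fibreDimAt f₀ x ≤ ((n : ℕ) : WithBot ℕ∞)} :=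
        (Groth.Agent.S9355.result f₀ n).isConstructible (Groth.Agent.S0402.result f₀ n)
      convert h1.compl using 1
      ext x
      simp only [Set.mem_setOf_eq, Set.mem_compl_iff]
      obtain ⟨m, hm⟩ := Groth.Agent.Lib.Helper73.exists_fibreDimAt_eq_natCast f₀ x
      rw [hm]
      constructor
      · intro h2 h3
        have a : n + 1 ≤ m := by exact_mod_cast h2
        have b : m ≤ n := by exact_mod_cast h3
        omega
      · intro h2
        have : ¬ m ≤ n := fun h3 => h2 (by exact_mod_cast h3)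
        have : n + 1 ≤ m := by omega
        exact_mod_cast this
  have hE₀ : Topology.IsConstructible
      (f₀.base '' {x | ((d : ℕ) : WithBot ℕ∞) ≤ FlatMor.fibreDimAt f₀ x}) :=
    f₀.isConstructible_image hZc
  have hpro : ProCons.IsProConstructible
      (f₀.base '' {x | ((d : ℕ) : WithBot ℕ∞) ≤ FlatMor.fibreDimAt f₀ x})ᶜ :=
    Groth.Agent.Lib.Helper36.isProConstructible_of_isLocallyConstructible
      hE₀.compl.isLocallyConstructible
  have hempty_ind : ProCons.IsIndConstructible (∅ : Set (D.obj i₀)) :=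
    Groth.Agent.Lib.Helper36.isIndConstructible_of_isLocallyConstructible
      Topology.IsLocallyConstructible.empty
  have hsub : (c.π.app i₀).base ⁻¹'
      (f₀.base '' {x | ((d : ℕ) : WithBot ℕ∞) ≤ FlatMor.fibreDimAt f₀ x})ᶜ ⊆
      (c.π.app i₀).base ⁻¹' (∅ : Set (D.obj i₀)) := by
    intro s' hs'
    obtain ⟨x, hx, hdx⟩ := hB (e.inv.base s')
    refine hs' ⟨qX.base x, hdx, ?_⟩
    have h1 := congrArg (fun m => m.base x) hX.w
    simp only [Scheme.Hom.comp_base, TopCat.hom_comp, ContinuousMap.comp_apply] at h1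
    rw [h1, hx]
    congr 1
    rw [← Scheme.Hom.comp_apply, e.inv_hom_id]
    rfl
  obtain ⟨i₂, φ₂, hφ₂⟩ := Groth.Agent.Lib.Helper46.exists_stage_preimage_subset D c hc i₀
    hpro hempty_ind hsub
  -- combine
  obtain ⟨j, ψ₁, ψ₂, he⟩ := IsCofiltered.cospan φ₁ φ₂
  refine ⟨j, ψ₁ ≫ φ₁, fun s => ?_⟩
  have hfdj : ∀ x : ↥(pullback f₀ (D.map (ψ₁ ≫ φ₁))),
      FlatMor.fibreDimAt (pullback.snd f₀ (D.map (ψ₁ ≫ φ₁))) x =
        FlatMor.fibreDimAt f₀ ((pullback.fst f₀ (D.map (ψ₁ ≫ φ₁))).base x) :=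
    (Groth.Agent.S9358.result f₀ (D.map (ψ₁ ≫ φ₁)) (pullback.fst f₀ (D.map (ψ₁ ≫ φ₁)))
      (pullback.snd f₀ (D.map (ψ₁ ≫ φ₁))) (IsPullback.of_hasPullback _ _) d).1
  rw [Groth.Agent.Lib.Helper46.topologicalKrullDim_fiber_eq_iff]
  constructor
  · intro x _
    rw [hfdj]
    by_contra hx
    have h2 : (pullback.fst f₀ (D.map (ψ₁ ≫ φ₁))).base x ∈ Set.range a₁.base := by
      rw [ha₁]; exact hx
    obtain ⟨t, ht⟩ := h2
    have h3 : pullback.fst f₀ (D.map (ψ₁ ≫ φ₁)) ≫ f₀ =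
        (pullback.snd f₀ (D.map (ψ₁ ≫ φ₁)) ≫ D.map ψ₁) ≫ D.map φ₁ := by
      rw [pullback.condition, D.map_comp, Category.assoc]
    obtain ⟨w, -, -⟩ := Scheme.Pullback.exists_preimage_pullback
      (f := a₁ ≫ f₀) (g := D.map φ₁) t
      ((pullback.snd f₀ (D.map (ψ₁ ≫ φ₁)) ≫ D.map ψ₁).base x) (by
        have h4 := congrArg (fun m => m.base x) h3
        simp only [Scheme.Hom.comp_base, TopCat.hom_comp, ContinuousMap.comp_apply] at h4 ⊢
        rw [ht]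
        exact h4)
    exact hφ₁.false w
  · have h5 : (D.map (ψ₁ ≫ φ₁)).base s ∈
        f₀.base '' {x | ((d : ℕ) : WithBot ℕ∞) ≤ FlatMor.fibreDimAt f₀ x} := by
      by_contra h6
      have h7 : (D.map ψ₂).base s ∈ (D.map φ₂).base ⁻¹'
          (f₀.base '' {x | ((d : ℕ) : WithBot ℕ∞) ≤ FlatMor.fibreDimAt f₀ x})ᶜ := by
        change (D.map φ₂).base ((D.map ψ₂).base s) ∉ _
        rw [← Scheme.Hom.comp_apply, ← D.map_comp, ← he]
        exact h6
      exact hφ₂ h7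
    obtain ⟨x₀, hx₀, hx₀s⟩ := h5
    obtain ⟨x, hx1, hx2⟩ := Scheme.Pullback.exists_preimage_pullback
      (f := f₀) (g := D.map (ψ₁ ≫ φ₁)) x₀ s hx₀s
    refine ⟨x, hx2, ?_⟩
    rw [hfdj, hx1]
    exact hx₀

open AlgebraicGeometry CategoryTheory Limits in
private lemma assemble {I : Type u} [SmallCategory I] [IsCofiltered I]
    (D : I ⥤ Scheme.{u}) (c : Cone D) (hc : IsLimit c)
    [∀ (i j : I) (f : i ⟶ j), IsAffineHom (D.map f)] [∀ i, IsAffine (D.obj i)] (i₀ : I)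
    {X S : Scheme.{u}} (f : X ⟶ S) (e : S ≅ c.pt)
    {X₁ S₁ : Scheme.{u}} [IsAffine X₁] [IsAffine S₁]
    (f₁ : X₁ ⟶ S₁) (g₁ : S ⟶ S₁) (g₁' : X ⟶ X₁) (h₁ : IsPullback g₁' f f₁ g₁)
    [LocallyOfFinitePresentation f₁]
    (t₀ : D.obj i₀ ⟶ S₁) (e₁ : e.hom ≫ c.π.app i₀ ≫ t₀ = g₁)
    (d : ℕ) (hd : ∀ s : S, topologicalKrullDim ↥(f.fiber s) = ((d : ℕ) : WithBot ℕ∞)) :
    ∃ (j : I) (X₀ : Scheme.{u}) (f₀ : X₀ ⟶ D.obj j) (g' : X ⟶ X₀), IsAffine X₀ ∧
      IsPullback g' f f₀ (e.hom ≫ c.π.app j) ∧ LocallyOfFiniteType f₀ ∧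
      ∀ s : D.obj j, topologicalKrullDim ↥(f₀.fiber s) = ((d : ℕ) : WithBot ℕ∞) := by
  have w₁ : g₁' ≫ f₁ = ((f ≫ e.hom) ≫ c.π.app i₀) ≫ t₀ := by
    rw [h₁.w, ← e₁]; simp
  have h8 : IsPullback (𝟙 X) (f ≫ e.hom) f e.inv := IsPullback.of_horiz_isIso ⟨by simp⟩
  have hX : IsPullback (pullback.lift g₁' ((f ≫ e.hom) ≫ c.π.app i₀) w₁) (f ≫ e.hom)
      (pullback.snd f₁ t₀) (c.π.app i₀) := by
    refine IsPullback.of_right ?_ (pullback.lift_snd _ _ _) (IsPullback.of_hasPullback f₁ t₀)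
    rw [pullback.lift_fst]
    have := h8.paste_horiz h₁
    rwa [Category.id_comp, ← e₁, Iso.inv_hom_id_assoc] at this
  generalize pullback.lift g₁' ((f ≫ e.hom) ≫ c.π.app i₀) w₁ = qX at hX
  obtain ⟨j, χ, hj⟩ := main_of_limit D c hc i₀ f e (pullback.snd f₁ t₀) qX hX d hd
  have hw : qX ≫ pullback.snd f₁ t₀ = (f ≫ e.hom ≫ c.π.app j) ≫ D.map χ := by
    rw [hX.w]
    simp only [Category.assoc, c.w χ]
  have h9 : IsPullback (𝟙 X) f (f ≫ e.hom) e.hom := IsPullback.of_horiz_isIso ⟨by simp⟩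
  refine ⟨j, pullback (pullback.snd f₁ t₀) (D.map χ), pullback.snd _ _,
    pullback.lift qX (f ≫ e.hom ≫ c.π.app j) hw, inferInstance, ?_, inferInstance, hj⟩
  refine IsPullback.of_right ?_ (pullback.lift_snd _ _ _) (IsPullback.of_hasPullback _ (D.map χ))
  rw [pullback.lift_fst, Category.assoc, c.w χ]
  have := h9.paste_horiz hX
  rwa [Category.id_comp] at this

open AlgebraicGeometry CategoryTheory Limits in
/-- Let f : X → S be a morphism of finite presentation between affine schemes all of whose fibres have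
dimension d. Then f is the base change of a morphism of finite type f₀ : X₀ → S₀ between affine
schemes with S₀ of finite type over ℤ, where f₀ can be chosen with the same property. -/
theorem result {X S : Scheme.{u}} (f : X ⟶ S) [IsAffine X] [IsAffine S] [LocallyOfFinitePresentation f] (d : ℕ) (hd : ∀ s : S, topologicalKrullDim ↑(f.fiber s) = d) :
    ∃ (X₀ S₀ : Scheme.{u}) (f₀ : X₀ ⟶ S₀) (g : S ⟶ S₀) (g' : X ⟶ X₀), IsAffine X₀ ∧ IsAffine S₀ ∧ IsPullback g' f f₀ g ∧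
      Algebra.FiniteType ℤ Γ(S₀, ⊤) ∧ LocallyOfFiniteType f₀ ∧ ∀ s₀ : S₀, topologicalKrullDim ↑(f₀.fiber s₀) = d := by
  classical
  obtain ⟨X₁, S₁, f₁, g₁, g₁', hX₁, hS₁, h₁, hft₁, hlft₁⟩ := Groth.Agent.S1460.result f
  letI : Algebra Γ(S₁, ⊤) Γ(S, ⊤) := g₁.appTop.hom.toAlgebra
  haveI : IsLocallyNoetherian S₁ := by
    haveI : IsNoetherianRing Γ(S₁, ⊤) := Algebra.FiniteType.isNoetherianRing ℤ _
    exact isLocallyNoetherian_of_affine_cover
      (S := fun _ : Unit ↦ ⟨⊤, isAffineOpen_top S₁⟩) (by simp) (fun _ => this)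
  haveI : LocallyOfFinitePresentation f₁ := inferInstance
  have e₁' : ∀ R : Subalgebra Γ(S₁, ⊤) Γ(S, ⊤),
      S.isoSpec.hom ≫ Spec.map (CommRingCat.ofHom R.val.toRingHom) ≫
      (Spec.map (CommRingCat.ofHom (algebraMap Γ(S₁, ⊤) R)) ≫ S₁.isoSpec.inv) = g₁ := by
    intro R
    have : CommRingCat.ofHom (algebraMap Γ(S₁, ⊤) R) ≫ CommRingCat.ofHom R.val.toRingHom =
        g₁.appTop := by
      ext x; rfl
    rw [← Category.assoc (Spec.map _), ← Spec.map_comp, this, ← Category.assoc,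
      Scheme.isoSpec_hom_naturality]
    simp
  obtain ⟨j, X₀, f₀, g', hX₀, hpb, hft, hdim⟩ := assemble
    (Groth.Agent.Lib.Helper50.fgSpecDiagram Γ(S₁, ⊤) Γ(S, ⊤))
    (Groth.Agent.Lib.Helper50.fgSpecCone Γ(S₁, ⊤) Γ(S, ⊤))
    (Groth.Agent.Lib.Helper50.isLimitFgSpecCone Γ(S₁, ⊤) Γ(S, ⊤))
    (Opposite.op ⟨⊥, Subalgebra.fg_bot⟩) f S.isoSpec f₁ g₁ g₁' h₁
    (Spec.map (CommRingCat.ofHom (algebraMap Γ(S₁, ⊤) (⊥ : Subalgebra Γ(S₁, ⊤) Γ(S, ⊤)))) ≫
      S₁.isoSpec.inv) (e₁' ⊥) d hd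
  refine ⟨X₀, _, f₀, _, g', hX₀, inferInstance, hpb, ?_, hft, hdim⟩
  obtain ⟨⟨R, hR⟩⟩ := j
  have h1 : Algebra.FiniteType Γ(S₁, ⊤) R := (Subalgebra.fg_iff_finiteType R).mp hR
  have h2 : Algebra.FiniteType ℤ R := Algebra.FiniteType.trans hft₁ h1
  exact Algebra.FiniteType.equiv h2
    (Scheme.ΓSpecIso (CommRingCat.of R)).symm.commRingCatIsoToRingEquiv.toIntAlgEquiv

end Groth.Agent.S1464
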