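import Groth.Statements.S14640
import Groth.Agent.Lib.Helper72.IdCompHomog
-- import your own Groth.Agent.* helpers here

set_option autoImplicit false
universe u
open CategoryTheory MonoidalCategory CartesianMonoidalCategory MonObj GrpObj AlgebraicGeometry CategoryTheory.Limits
open AlgGrp

namespace Groth.Agent.S14640

/-- Over a field k, let G be a smooth k-group scheme of finite type acting on a variety X (a separated,
geometrically integral k-scheme of finite type), and let i : G° → G be its identity component: a
homomorphism which is an open immersion from a connected k-group scheme whose image is the connected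
component of the unit element of G. Let G° act on X through i. Then X is homogeneous under G (the
graph morphism G × X → X × X, (g, x) ↦ (x, g·x), is surjective) if and only if it is homogeneous
under G°, and X is almost homogeneous under G (the graph morphism is dominant) if and only if it is
almost homogeneous under G°. -/
theorem result (k : Type u) [Field k]
    (G G0 X : Over (Spec (CommRingCat.of k))) [GrpObj G] [Smooth G.hom] [QuasiCompact G.hom]
    [GrpObj G0] (i : G0 ⟶ G) [IsMonHom i] [IsOpenImmersion i.left] [ConnectedSpace ↥G0.left]
    (hi : Set.range i.left.base = connectedComponent ((η[G]).left.base (IsLocalRing.closedPoint k)))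
    [IsSeparated X.hom] [LocallyOfFiniteType X.hom] [QuasiCompact X.hom] [GeometricallyIntegral X.hom]
    (a : AlgGrp.Action G X) (a0 : AlgGrp.Action G0 X) (ha0 : a0.act = (i ▷ X) ≫ a.act) :
    (Surjective (CartesianMonoidalCategory.lift (CartesianMonoidalCategory.snd G X) a.act).left ↔
      Surjective (CartesianMonoidalCategory.lift (CartesianMonoidalCategory.snd G0 X) a0.act).left) ∧
    (IsDominant (CartesianMonoidalCategory.lift (CartesianMonoidalCategory.snd G X) a.act).left ↔
      IsDominant (CartesianMonoidalCategory.lift (CartesianMonoidalCategory.snd G0 X) a0.act).left) := by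
  classical
  haveI : LocallyOfFiniteType G.hom := inferInstance
  have hi' : Set.range i.left = connectedComponent (Groth.Agent.Lib.Helper72.GrpComp.ePt G) := hi
  haveI : LocallyOfFiniteType G0.hom := by
    rw [← Over.w i]; infer_instance
  haveI : IsLocallyNoetherian G.left := LocallyOfFiniteType.isLocallyNoetherian G.hom
  haveI : CompactSpace ↥G.left := QuasiCompact.compactSpace_of_compactSpace G.hom
  haveI : IsNoetherian G.left := { }
  haveI : QuasiCompact i.left := inferInstance
  haveI : QuasiCompact G0.hom := by
    rw [← Over.w i]; infer_instance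
  have hΦ : lift (snd G0 X) a0.act = (i ▷ X) ≫ lift (snd G X) a.act := by
    apply CartesianMonoidalCategory.hom_ext
    · rw [lift_fst, Category.assoc, lift_fst, whiskerRight_snd]
    · rw [lift_snd, Category.assoc, lift_snd, ha0]
  have hrange : Set.range (lift (snd G0 X) a0.act).left ⊆ Set.range (lift (snd G X) a.act).left := by
    rintro _ ⟨w, rfl⟩
    refine ⟨(i ▷ X).left w, ?_⟩
    rw [hΦ, Over.comp_left, Scheme.Hom.comp_apply]
  let K : Type u := AlgebraicClosure k
  haveI : Subsingleton ↥(Spec (CommRingCat.of k)) :=
    inferInstanceAs (Subsingleton (PrimeSpectrum k))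
  haveI : IrreducibleSpace ↥(Groth.Agent.Lib.Helper72.OpenOrbit.TK k K).left :=
    inferInstanceAs (IrreducibleSpace (PrimeSpectrum K))
  haveI : IrreducibleSpace ↥(X ⊗ Groth.Agent.Lib.Helper72.OpenOrbit.TK k K).left := by
    change IrreducibleSpace ↥(pullback X.hom (Groth.Agent.Lib.Helper72.OpenOrbit.TK k K).hom)
    infer_instance
  refine ⟨⟨fun hs => ?_, fun hs => ?_⟩, ⟨fun hd => ?_, fun hd => ?_⟩⟩
  · exact Groth.Agent.Lib.Helper72.IdCompHomog.surjective_restrict K i hi' a a0 ha0 hs
  · constructor
    intro z
    obtain ⟨w, hw⟩ := (lift (snd G0 X) a0.act).left.surjective z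
    exact hrange ⟨w, hw⟩
  · exact Groth.Agent.Lib.Helper72.IdCompHomog.dominant_restrict i hi' a a0 ha0 hd
  · rw [isDominant_iff] at hd ⊢
    exact Dense.mono hrange hd

end Groth.Agent.S14640
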