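import Groth.Statements.S14641
import Groth.Agent.S18861
import Groth.Agent.Lib.Helper78.FpqcQuot

set_option autoImplicit false
universe u
open CategoryTheory MonoidalCategory CartesianMonoidalCategory MonObj GrpObj AlgebraicGeometry CategoryTheory.Limits
open AlgGrp

namespace Groth.Agent.S14641

set_option backward.isDefEq.respectTransparency.types false
set_option linter.style.haveILetI false
set_option linter.unusedSectionVars false

open Groth.Agent.S18861 Groth.Agent.Lib.Helper78.FpqcQuot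

section
variable {S : Scheme.{u}} {G H Q : Over S} [GrpObj G] [GrpObj H] (i : H ⟶ G) [IsMonHom i]
  (a : AlgGrp.Action G Q) (o : 𝟙_ (Over S) ⟶ Q)

theorem comp_orbitMap {T : Over S} (g : T ⟶ G) :
    g ≫ a.orbitMap o = lift g (toUnit T ≫ o) ≫ a.act := by
  rw [AlgGrp.Action.orbitMap, ← Category.assoc, comp_lift, Category.comp_id, ← Category.assoc,
    toUnit_unique (g ≫ toUnit G) (toUnit T)]

theorem comp_act {T T' : Over S} (s : T' ⟶ T) (g : T ⟶ G) (x : T ⟶ Q) :
    s ≫ lift g x ≫ a.act = lift (s ≫ g) (s ≫ x) ≫ a.act := by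
  rw [← Category.assoc, comp_lift]

/-- a normal subgroup contained in `H` acts trivially on `G/H`. -/
theorem act_trivial_of_normal
    (hsq : IsPullback (fst G H) ((G ◁ i) ≫ μ[G]) (a.orbitMap o) (a.orbitMap o))
    (hfl : Flat (a.orbitMap o).left) (hsu : Surjective (a.orbitMap o).left)
    {N' : Over S} [GrpObj N'] (n' : N' ⟶ G) (hn : AlgGrp.IsNormalHom n')
    (f : N' ⟶ H) (hf : f ≫ i = n') {T' : Over S} (ν : T' ⟶ N') (x : T' ⟶ Q) :
    lift (ν ≫ n') x ≫ a.act = x := by
  -- local lift of `x` to `G`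
  let pr₁ := pullback.fst x (a.orbitMap o)
  let g₀ := pullback.snd x (a.orbitMap o)
  have hcond : pr₁ ≫ x = g₀ ≫ a.orbitMap o := pullback.condition
  have sq := (IsPullback.of_hasPullback x (a.orbitMap o)).map (Over.forget S)
  haveI : Flat pr₁.left := MorphismProperty.of_isPullback (P := @Flat) sq.flip hfl
  haveI : Surjective pr₁.left := MorphismProperty.of_isPullback (P := @Surjective) sq.flip hsu
  haveI : Epi pr₁.left := Flat.epi_of_flat_of_surjective pr₁.left
  haveI : Epi pr₁ := Functor.epi_of_epi_map (Over.forget S) (inferInstance : Epi pr₁.left)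
  rw [← cancel_epi pr₁, comp_act, hcond, comp_orbitMap, ← act_mul]
  -- conjugate
  obtain ⟨c, hc⟩ := hn _ (g₀⁻¹) (pr₁ ≫ ν)
  have e : (pr₁ ≫ ν ≫ n') * g₀ = g₀ * ((c ≫ f) ≫ i) := by
    rw [Category.assoc, hf, ← hc, Category.assoc]
    group
  rw [e, ← comp_orbitMap, mul_comp_q i (a.orbitMap o) hsq]
  exact comp_orbitMap a o g₀

end

/-- Over a field k, let G be a k-group scheme of finite type, i : H → G a closed subgroup scheme, and
(Q, o) the quotient G/H: a k-scheme with a G-action and a rational point o exhibiting it as the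
quotient (orbit map flat and surjective, G × H ≅ G ×_Q G). Let n : N → G be a closed subgroup scheme
which is the kernel of the action of G on Q, i.e. for every k-scheme T, a T-point g of G factors
through N exactly when g acts as the identity on Q_T (on all points of Q over T-schemes). Then N is
normal in G and contained in H, and N is the largest such subgroup: every closed subgroup scheme N'
of G which is normal in G and factors through H factors through N. -/
theorem result (k : Type u) [Field k]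
    (G H Q N : Over (Spec (CommRingCat.of k))) [GrpObj G] [LocallyOfFiniteType G.hom] [QuasiCompact G.hom]
    [GrpObj H] (i : H ⟶ G) [IsMonHom i] [IsClosedImmersion i.left]
    (a : AlgGrp.Action G Q) (o : 𝟙_ (Over (Spec (CommRingCat.of k))) ⟶ Q) (hQ : AGF.IsQuotient i Q a o)
    [GrpObj N] (n : N ⟶ G) [IsMonHom n] [IsClosedImmersion n.left]
    (hN : ∀ (T : Over (Spec (CommRingCat.of k))) (g : T ⟶ G),
      (∃ m : T ⟶ N, m ≫ n = g) ↔
        ∀ (T' : Over (Spec (CommRingCat.of k))) (s : T' ⟶ T) (x : T' ⟶ Q),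
          CartesianMonoidalCategory.lift (s ≫ g) x ≫ a.act = x) :
    AlgGrp.IsNormalHom n ∧ (∃ f : N ⟶ H, f ≫ i = n) ∧
      ∀ (N' : Over (Spec (CommRingCat.of k))) [GrpObj N'] (n' : N' ⟶ G) [IsMonHom n'] [IsClosedImmersion n'.left],
        AlgGrp.IsNormalHom n' → (∃ f : N' ⟶ H, f ≫ i = n') → ∃ f' : N' ⟶ N, f' ≫ n = n' := by
  obtain ⟨-, hfl, hsu, hsq⟩ := hQ
  refine ⟨?_, ?_, ?_⟩
  · -- normal
    intro T g m
    have key : ∀ (T' : Over (Spec (CommRingCat.of k))) (s : T' ⟶ T) (x : T' ⟶ Q),
        lift (s ≫ (g * (m ≫ n) * g⁻¹)) x ≫ a.act = x := by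
      intro T' s x
      have hm := (hN T (m ≫ n)).mp ⟨m, rfl⟩ T' s (lift (s ≫ g⁻¹) x ≫ a.act)
      rw [MonObj.comp_mul, MonObj.comp_mul, act_mul, act_mul, hm, ← act_mul, ← MonObj.comp_mul,
        mul_inv_cancel, MonObj.comp_one, act_one]
    obtain ⟨n', hn'⟩ := (hN T _).mpr key
    exact ⟨n', hn'.symm⟩
  · -- contained in `H`
    have h1 := (hN N n).mp ⟨𝟙 N, Category.id_comp _⟩ N (𝟙 N) (toUnit N ≫ o)
    rw [Category.id_comp, ← comp_orbitMap] at h1
    have h2 : (1 : N ⟶ G) ≫ a.orbitMap o = toUnit N ≫ o := by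
      rw [comp_orbitMap, act_one]
    obtain ⟨h', hh'⟩ := exists_of_comp_eq i (a.orbitMap o) hsq (1 : N ⟶ G) n (h2.trans h1.symm)
    exact ⟨h', by rw [hh', _root_.one_mul]⟩
  · intro N' _ n' _ _ hn ⟨f, hf⟩
    refine (hN N' n').mpr ?_
    intro T' s x
    exact act_trivial_of_normal i a o hsq hfl hsu n' hn f hf s x

end Groth.Agent.S14641
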