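import Groth.Statements.S14643
import Groth.Agent.Lib.Helper72.QuotAction
import Groth.Agent.Lib.Helper72.FibDim

set_option autoImplicit false
universe u
open CategoryTheory MonoidalCategory CartesianMonoidalCategory MonObj GrpObj AlgebraicGeometry CategoryTheory.Limits
open AlgGrp

namespace Groth.Agent.S14643

/-- Over a field k, let G be a smooth k-group scheme of finite type acting on a variety X (a separated,
geometrically integral k-scheme of finite type). Let n : N → G be the kernel of the action: a closed
subgroup scheme such that, for every k-scheme T, a T-point of G factors through N exactly when it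
acts as the identity on all points of X over T-schemes. Let π : G → Q be a homomorphism onto a
k-group scheme of finite type which is flat and surjective with kernel N (the quotient G/N). Then
there is a unique action of Q on X inducing the given one along π; this action of Q is faithful (a
T-point of Q acting as the identity on all points of X over T-schemes is the unit); and X is
homogeneous under G (surjective graph morphism (g, x) ↦ (x, g·x)) if and only if it is homogeneous
under Q, and almost homogeneous under G (dominant graph morphism) if and only if it is almost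
homogeneous under Q. -/
theorem result (k : Type u) [Field k]
    (G N Q X : Over (Spec (CommRingCat.of k))) [GrpObj G] [Smooth G.hom] [QuasiCompact G.hom]
    [IsSeparated X.hom] [LocallyOfFiniteType X.hom] [QuasiCompact X.hom] [GeometricallyIntegral X.hom] (a : AlgGrp.Action G X)
    [GrpObj N] (n : N ⟶ G) [IsMonHom n] [IsClosedImmersion n.left]
    (hN : ∀ (T : Over (Spec (CommRingCat.of k))) (g : T ⟶ G),
      (∃ m : T ⟶ N, m ≫ n = g) ↔
        ∀ (T' : Over (Spec (CommRingCat.of k))) (s : T' ⟶ T) (x : T' ⟶ X), CartesianMonoidalCategory.lift (s ≫ g) x ≫ a.act = x)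
    [GrpObj Q] [LocallyOfFiniteType Q.hom] [QuasiCompact Q.hom] (π : G ⟶ Q) [IsMonHom π] [Flat π.left] [Surjective π.left]
    (hker : AlgGrp.IsKernel n π) :
    (∃! b : AlgGrp.Action Q X, (π ▷ X) ≫ b.act = a.act) ∧
    ∀ b : AlgGrp.Action Q X, (π ▷ X) ≫ b.act = a.act →
      (∀ (T : Over (Spec (CommRingCat.of k))) (q : T ⟶ Q),
        (∀ (T' : Over (Spec (CommRingCat.of k))) (s : T' ⟶ T) (x : T' ⟶ X), CartesianMonoidalCategory.lift (s ≫ q) x ≫ b.act = x) → q = 1) ∧
      (Surjective (CartesianMonoidalCategory.lift (CartesianMonoidalCategory.snd G X) a.act).left ↔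
        Surjective (CartesianMonoidalCategory.lift (CartesianMonoidalCategory.snd Q X) b.act).left) ∧
      (IsDominant (CartesianMonoidalCategory.lift (CartesianMonoidalCategory.snd G X) a.act).left ↔
        IsDominant (CartesianMonoidalCategory.lift (CartesianMonoidalCategory.snd Q X) b.act).left) := by
  classical
  haveI : LocallyOfFiniteType G.hom := inferInstance
  haveI hqc : QuasiCompact π.left :=
    Groth.Agent.Lib.Helper72.FibDim.quasiCompact_of_ft G.hom Q.hom π.left
  -- `N` acts trivially
  have hNtriv : ∀ (T : Over (Spec (CommRingCat.of k))) (m : T ⟶ N) (x : T ⟶ X),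
      lift (m ≫ n) x ≫ a.act = x := by
    intro T m x
    have := (hN T (m ≫ n)).mp ⟨m, rfl⟩ T (𝟙 T) x
    rwa [Category.id_comp] at this
  obtain ⟨b₁, hb₁⟩ :=
    Groth.Agent.Lib.Helper72.QuotAction.exists_action_desc a π n hker hNtriv
  haveI : Epi (π ▷ X) := Groth.Agent.Lib.Helper72.QuotAction.epi_whiskerRight π X
  have huniq : ∀ b b' : AlgGrp.Action Q X, (π ▷ X) ≫ b.act = a.act →
      (π ▷ X) ≫ b'.act = a.act → b = b' := by
    intro b b' h h'
    have hbb : b.act = b'.act := by rw [← cancel_epi (π ▷ X), h, h']
    cases b
    cases b'
    simp only at hbb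
    subst hbb
    rfl
  refine ⟨⟨b₁, hb₁, fun b' hb' => huniq _ _ hb' hb₁⟩, fun b hb => ⟨?_, ?_⟩⟩
  · -- faithfulness
    intro T q hq
    have sq := (IsPullback.of_hasPullback q π).map (Over.forget (Spec (CommRingCat.of k)))
    haveI : Flat (Limits.pullback.fst q π).left :=
      MorphismProperty.of_isPullback (P := @Flat) sq.flip (inferInstanceAs (Flat π.left))
    haveI : Surjective (Limits.pullback.fst q π).left :=
      MorphismProperty.of_isPullback (P := @Surjective) sq.flip
        (inferInstanceAs (Surjective π.left))
    haveI : Epi (Limits.pullback.fst q π) := Groth.Agent.Lib.Helper72.QuotAction.epi_of_left _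
    obtain ⟨m, hm⟩ := (hN _ (Limits.pullback.snd q π)).mpr (by
      intro T'' s' x
      rw [← hb, lift_whiskerRight_assoc, Category.assoc, ← Limits.pullback.condition,
        ← Category.assoc]
      exact hq T'' _ x)
    rw [← cancel_epi (Limits.pullback.fst q π), Limits.pullback.condition, ← hm, Category.assoc,
      hker.w, MonObj.comp_one, ← Category.assoc, Hom.one_def]
    congr 1
    exact toUnit_unique _ _
  · -- ranges
    have hΦ : lift (snd G X) a.act = (π ▷ X) ≫ lift (snd Q X) b.act := by
      apply CartesianMonoidalCategory.hom_ext
      · rw [lift_fst, Category.assoc, lift_fst, whiskerRight_snd]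
      · rw [lift_snd, Category.assoc, lift_snd, hb]
    have hrange : Set.range (lift (snd G X) a.act).left =
        Set.range (lift (snd Q X) b.act).left := by
      ext z
      constructor
      · rintro ⟨w, rfl⟩
        refine ⟨(π ▷ X).left w, ?_⟩
        rw [hΦ, Over.comp_left, Scheme.Hom.comp_apply]
      · rintro ⟨w, rfl⟩
        obtain ⟨w', rfl⟩ := (π ▷ X).left.surjective w
        refine ⟨w', ?_⟩
        rw [hΦ, Over.comp_left, Scheme.Hom.comp_apply]
    constructor
    · rw [surjective_iff, surjective_iff, ← Set.range_eq_univ, ← Set.range_eq_univ, hrange]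
    · rw [isDominant_iff, isDominant_iff, DenseRange, DenseRange, hrange]

end Groth.Agent.S14643
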