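import Groth.Statements.S14645
import Groth.Agent.Lib.Helper72.ConstrJacobson
import Groth.Agent.Lib.Helper72.AlgClosedLift
import Groth.Agent.Lib.Helper72.FibDim

set_option autoImplicit false
universe u
open CategoryTheory MonoidalCategory CartesianMonoidalCategory MonObj GrpObj AlgebraicGeometry CategoryTheory.Limits
open AlgGrp

namespace Groth.Agent.S14645

/-- Over a field k with algebraic closure K, let G be a smooth k-group scheme of finite type acting on a
variety X (a separated, geometrically integral k-scheme of finite type). Then X is homogeneous under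
G, i.e. the graph morphism G × X → X × X, (g, x) ↦ (x, g·x), is surjective, if and only if the
abstract group G(K) of K-points over k acts transitively on the set X(K): for all K-points x, y of X
there is a K-point g of G with g · x = y. -/
theorem result (k : Type u) [Field k]
    (G X : Over (Spec (CommRingCat.of k))) [GrpObj G] [Smooth G.hom] [QuasiCompact G.hom]
    [IsSeparated X.hom] [LocallyOfFiniteType X.hom] [QuasiCompact X.hom] [GeometricallyIntegral X.hom] (a : AlgGrp.Action G X)
    (K : Type u) [Field K] [Algebra k K] [IsAlgClosure k K] :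
    Surjective (CartesianMonoidalCategory.lift (CartesianMonoidalCategory.snd G X) a.act).left ↔
      ∀ x y : Over.mk (Spec.map (CommRingCat.ofHom (algebraMap k K))) ⟶ X, ∃ g : Over.mk (Spec.map (CommRingCat.ofHom (algebraMap k K))) ⟶ G, CartesianMonoidalCategory.lift g x ≫ a.act = y := by
  classical
  haveI : IsAlgClosed K := IsAlgClosure.isAlgClosed k
  haveI : LocallyOfFiniteType G.hom := inferInstance
  have hGX : LocallyOfFiniteType (G ⊗ X).hom := by
    rw [Over.tensorObj_hom]; infer_instance
  have hXX : LocallyOfFiniteType (X ⊗ X).hom := by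
    rw [Over.tensorObj_hom]; infer_instance
  have hGXqc : QuasiCompact (G ⊗ X).hom := by
    rw [Over.tensorObj_hom]; infer_instance
  have hXXqc : QuasiCompact (X ⊗ X).hom := by
    rw [Over.tensorObj_hom]; infer_instance
  have hΦlft : LocallyOfFiniteType (lift (snd G X) a.act).left :=
    Groth.Agent.Lib.Helper72.FibDim.locallyOfFiniteType_of_comp_eq (G ⊗ X).hom (X ⊗ X).hom (lift (snd G X) a.act).left (Over.w _)
  have hΦ : ∀ (g : Over.mk (Spec.map (CommRingCat.ofHom (algebraMap k K))) ⟶ G)
      (x : Over.mk (Spec.map (CommRingCat.ofHom (algebraMap k K))) ⟶ X),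
      lift g x ≫ lift (snd G X) a.act = lift x (lift g x ≫ a.act) := by
    intro g x
    rw [comp_lift, lift_snd]
  constructor
  · intro hsurj x y
    obtain ⟨w, hw⟩ := Groth.Agent.Lib.Helper72.AlgClosedLift.exists_lift_over
      (Spec.map (CommRingCat.ofHom (algebraMap k K))) (lift (snd G X) a.act) (lift x y)
    have h1 : w ≫ snd G X = x := by
      have := congrArg (· ≫ fst X X) hw
      simpa using this
    have h2 : w ≫ a.act = y := by
      have := congrArg (· ≫ snd X X) hw
      simpa using this
    refine ⟨w ≫ fst G X, ?_⟩
    rw [← h1, ← comp_lift, lift_fst_snd, Category.comp_id, h2]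
  · intro htr
    have hln : IsLocallyNoetherian (X ⊗ X).left :=
      LocallyOfFiniteType.isLocallyNoetherian (X ⊗ X).hom
    haveI : CompactSpace ↥(X ⊗ X).left :=
      QuasiCompact.compactSpace_of_compactSpace (X ⊗ X).hom
    haveI : IsNoetherian (X ⊗ X).left := { }
    haveI : JacobsonSpace ↥(X ⊗ X).left := LocallyOfFiniteType.jacobsonSpace (X ⊗ X).hom
    haveI : LocallyOfFinitePresentation (lift (snd G X) a.act).left :=
      LocallyOfFinitePresentation.iff_locallyOfFiniteType.mpr hΦlft
    haveI : QuasiCompact (lift (snd G X) a.act).left :=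
      Groth.Agent.Lib.Helper72.FibDim.quasiCompact_of_ft (G ⊗ X).hom (X ⊗ X).hom _
    have hcons : Topology.IsConstructible (Set.range (lift (snd G X) a.act).left) := by
      rw [← Set.image_univ]
      exact Scheme.Hom.isConstructible_image _ Topology.IsConstructible.univ
    have huniv := Groth.Agent.Lib.Helper72.ConstrJacobson.eq_univ_of_closedPoints_subset hcons ?_
    · constructor
      intro z
      have : z ∈ Set.range (lift (snd G X) a.act).left := huniv ▸ Set.mem_univ z
      exact this
    · intro z hz
      obtain ⟨ζ, hζ⟩ := Groth.Agent.Lib.Helper72.ConstrJacobson.exists_point_of_isClosed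
        (k := k) (K := K) (X ⊗ X) z hz
      obtain ⟨g, hg⟩ := htr (ζ ≫ fst X X) (ζ ≫ snd X X)
      have h3 : lift g (ζ ≫ fst X X) ≫ lift (snd G X) a.act = ζ := by
        rw [hΦ, hg, ← comp_lift, lift_fst_snd, Category.comp_id]
      refine ⟨(lift g (ζ ≫ fst X X)).left (IsLocalRing.closedPoint K), ?_⟩
      rw [← Scheme.Hom.comp_apply, ← Over.comp_left, h3, hζ]

end Groth.Agent.S14645
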