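import Groth.Statements.S14648
import Groth.Agent.Lib.Helper1.NormKer
import Groth.Agent.S1585

set_option autoImplicit false
universe u
open CategoryTheory MonoidalCategory CartesianMonoidalCategory MonObj GrpObj AlgebraicGeometry CategoryTheory.Limits
open AlgGrp

namespace Groth.Agent.S14648

/-- Over a field k, let G be a smooth connected k-group scheme of finite type acting on a variety X (a
separated, geometrically integral k-scheme of finite type), let ν : X̃ → X be the normalization of X
and let G act on X̃ so that ν is equivariant (such a lifted action exists and is unique; here it is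
given). Then the commutative square with the action maps G × X̃ → X̃ and G × X → X as horizontal
sides and id_G × ν, ν as vertical sides is cartesian, and the two actions have the same kernel: for
every k-scheme T, a T-point g of G acts as the identity on all points of X over T-schemes if and
only if it acts as the identity on all points of X̃ over T-schemes. (The quasi-compactness and
quasi-separatedness binders on the morphism from the generic point always hold; they are only needed
to form the normalization.) -/
theorem result (k : Type u) [Field k]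
    (G X : Over (Spec (CommRingCat.of k))) [GrpObj G] [Smooth G.hom] [QuasiCompact G.hom] [ConnectedSpace ↥G.left]
    [IsSeparated X.hom] [LocallyOfFiniteType X.hom] [QuasiCompact X.hom] [GeometricallyIntegral X.hom] [IsIntegral X.left] [QuasiCompact (X.left.fromSpecStalk (genericPoint ↥X.left))] [QuasiSeparated (X.left.fromSpecStalk (genericPoint ↥X.left))]
    (a : AlgGrp.Action G X) (b : AlgGrp.Action G (Over.mk (Curv2.normalizationι X.left ≫ X.hom)))
    (hb : (G ◁ (Over.homMk (Curv2.normalizationι X.left) rfl : Over.mk (Curv2.normalizationι X.left ≫ X.hom) ⟶ X)) ≫ a.act = b.act ≫ Over.homMk (Curv2.normalizationι X.left) rfl) :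
    IsPullback b.act (G ◁ (Over.homMk (Curv2.normalizationι X.left) rfl : Over.mk (Curv2.normalizationι X.left ≫ X.hom) ⟶ X)) (Over.homMk (Curv2.normalizationι X.left) rfl : Over.mk (Curv2.normalizationι X.left ≫ X.hom) ⟶ X) a.act ∧
    ∀ (T : Over (Spec (CommRingCat.of k))) (g : T ⟶ G),
      (∀ (T' : Over (Spec (CommRingCat.of k))) (s : T' ⟶ T) (x : T' ⟶ X), CartesianMonoidalCategory.lift (s ≫ g) x ≫ a.act = x) ↔
      (∀ (T' : Over (Spec (CommRingCat.of k))) (s : T' ⟶ T) (y : T' ⟶ Over.mk (Curv2.normalizationι X.left ≫ X.hom)), CartesianMonoidalCategory.lift (s ≫ g) y ≫ b.act = y) := by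
  classical
  letI : X.left.Over (Spec (CommRingCat.of k)) := ⟨X.hom⟩
  have : LocallyOfFiniteType (X.left ↘ Spec (CommRingCat.of k)) :=
    ‹LocallyOfFiniteType X.hom›
  obtain ⟨hfin, hdom, ⟨V, hVne, hViso⟩, hint, -⟩ := Groth.Agent.S1585.result k X.left
  obtain ⟨n, hn⟩ : ∃ n : Over.mk (Curv2.normalizationι X.left ≫ X.hom) ⟶ X,
    n = Over.homMk (Curv2.normalizationι X.left) rfl := ⟨_, rfl⟩
  rw [← hn] at hb ⊢
  have hnl : n.left = Curv2.normalizationι X.left := by rw [hn]; rfl
  have hnfin : IsFinite n.left := by rw [hnl]; exact hfin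
  have hndom : IsDominant n.left := by rw [hnl]; exact hdom
  have hniso : IsIso (n.left ∣_ V) := by rw [hnl]; exact hViso
  have hlft : LocallyOfFiniteType (Over.mk (Curv2.normalizationι X.left ≫ X.hom)).hom := by
    show LocallyOfFiniteType (Curv2.normalizationι X.left ≫ X.hom)
    rw [← hnl]
    infer_instance
  have hsepY : IsSeparated (Over.mk (Curv2.normalizationι X.left ≫ X.hom)).hom := by
    show IsSeparated (Curv2.normalizationι X.left ≫ X.hom)
    rw [← hnl]
    infer_instance
  have hintY : IsIntegral (Over.mk (Curv2.normalizationι X.left ≫ X.hom)).left := hint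
  have hnoeth : IsLocallyNoetherian (Over.mk (Curv2.normalizationι X.left ≫ X.hom)).left :=
    LocallyOfFiniteType.isLocallyNoetherian
      (Over.mk (Curv2.normalizationι X.left ≫ X.hom)).hom
  -- schematic dominance of `n`
  have hsd : IsSchemeTheoreticallyDominant n.left := .of_isDominant n.left
  have hflat : ∀ (T A : Over (Spec (CommRingCat.of k))), Flat (snd T A).left := by
    intro T A
    rw [Over.snd_left]
    exact MorphismProperty.pullback_snd (P := @Flat) _ _ inferInstance
  have hnT : ∀ T : Over (Spec (CommRingCat.of k)),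
      IsSchemeTheoreticallyDominant (T ◁ n).left := by
    intro T
    have := hflat T X
    have sq : IsPullback (snd T (Over.mk (Curv2.normalizationι X.left ≫ X.hom))).left
        (T ◁ n).left n.left (snd T X).left :=
      ((Groth.Agent.Lib.Helper19.isPullback_whiskerLeft_snd T n).map (Over.forget _)).flip
    exact .of_isPullback sq
  -- schematic dominance of the open `n⁻¹ V`
  have hjdom : IsDominant
      (Groth.Agent.Lib.Helper72.NormHomog.incl
        (X := Over.mk (Curv2.normalizationι X.left ≫ X.hom)) (n.left ⁻¹ᵁ V)).left := by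
    show IsDominant (n.left ⁻¹ᵁ V).ι
    refine ⟨?_⟩
    show DenseRange (n.left ⁻¹ᵁ V).ι
    rw [DenseRange, Scheme.Opens.range_ι]
    refine (n.left ⁻¹ᵁ V).2.dense ?_
    obtain ⟨v, hv⟩ := hVne
    have h1 : IsClosed (Set.range n.left) := n.left.isClosedMap.isClosed_range
    have h2 : closure (Set.range n.left) = Set.univ :=
      (IsDominant.denseRange (f := n.left)).closure_range
    rw [h1.closure_eq] at h2
    obtain ⟨w, hw⟩ : v ∈ Set.range n.left := by rw [h2]; exact Set.mem_univ v
    exact ⟨w, by show n.left w ∈ V; rw [hw]; exact hv⟩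
  have hjsd : IsSchemeTheoreticallyDominant
      (Groth.Agent.Lib.Helper72.NormHomog.incl
        (X := Over.mk (Curv2.normalizationι X.left ≫ X.hom)) (n.left ⁻¹ᵁ V)).left :=
    .of_isDominant _
  have hjqc : QuasiCompact
      (Groth.Agent.Lib.Helper72.NormHomog.incl
        (X := Over.mk (Curv2.normalizationι X.left ≫ X.hom)) (n.left ⁻¹ᵁ V)).left := by
    show QuasiCompact (n.left ⁻¹ᵁ V).ι
    infer_instance
  have hjT : ∀ T : Over (Spec (CommRingCat.of k)), IsSchemeTheoreticallyDominant
      (T ◁ Groth.Agent.Lib.Helper72.NormHomog.incl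
        (X := Over.mk (Curv2.normalizationι X.left ≫ X.hom)) (n.left ⁻¹ᵁ V)).left := by
    intro T
    have := hflat T (Over.mk (Curv2.normalizationι X.left ≫ X.hom))
    have sq : IsPullback (snd T _).left
        (T ◁ Groth.Agent.Lib.Helper72.NormHomog.incl
          (X := Over.mk (Curv2.normalizationι X.left ≫ X.hom)) (n.left ⁻¹ᵁ V)).left
        (Groth.Agent.Lib.Helper72.NormHomog.incl
          (X := Over.mk (Curv2.normalizationι X.left ≫ X.hom)) (n.left ⁻¹ᵁ V)).left
        (snd T (Over.mk (Curv2.normalizationι X.left ≫ X.hom))).left :=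
      ((Groth.Agent.Lib.Helper19.isPullback_whiskerLeft_snd T
        (Groth.Agent.Lib.Helper72.NormHomog.incl
          (X := Over.mk (Curv2.normalizationι X.left ≫ X.hom)) (n.left ⁻¹ᵁ V))).map
        (Over.forget _)).flip
    exact .of_isPullback sq
  refine ⟨Groth.Agent.Lib.Helper1.NormKer.isPullback_act a b n hb, fun T g => ?_⟩
  exact Groth.Agent.Lib.Helper1.NormKer.ker_iff a b n hb hnT V hjT g

end Groth.Agent.S14648
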