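import Groth.Statements.S14652
import Mathlib

set_option autoImplicit false
universe u
open FiltBl

set_option linter.unusedSectionVars false

namespace Groth.Agent.S14652Aux
open Polynomial

/-- elements integral over a subring of the unit ball of a nonarchimedean absolute value lie in the
unit ball. -/
lemma norm_le_one_of_integral {S : Type*} [CommRing S] [Nontrivial S] (N : S → ℝ)
    [IsAbsoluteValue N] (hna : IsNonarchimedean N)
    {R : Type*} [CommRing R] [Algebra R S] (hR : ∀ r : R, N (algebraMap R S r) ≤ 1) {g : S}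
    (hg : IsIntegral R g) : N g ≤ 1 := by
  by_contra h
  rw [not_le] at h
  obtain ⟨P, hP, hPg⟩ := hg
  have hm : P.natDegree ≠ 0 := by
    intro hm
    have h1 : P = 1 := (Polynomial.Monic.natDegree_eq_zero hP).mp hm
    rw [h1, eval₂_one] at hPg
    have := IsAbsoluteValue.abv_one' N
    rw [hPg, IsAbsoluteValue.abv_zero N] at this
    exact zero_ne_one this
  rw [eval₂_eq_sum_range, Finset.sum_range_succ, Polynomial.Monic.coeff_natDegree hP, map_one, one_mul] at hPg
  have hgm : g ^ P.natDegree =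
      -(∑ j ∈ Finset.range P.natDegree, algebraMap R S (P.coeff j) * g ^ j) :=
    eq_neg_of_add_eq_zero_right hPg
  obtain ⟨b, hb, hle⟩ := hna.finset_image_add_of_nonempty
    (fun j => algebraMap R S (P.coeff j) * g ^ j) (Finset.nonempty_range_iff.mpr hm)
  have h1 : N g ^ P.natDegree ≤ N g ^ b := by
    calc N g ^ P.natDegree = N (g ^ P.natDegree) := (IsAbsoluteValue.abv_pow N g _).symm
      _ = N (∑ j ∈ Finset.range P.natDegree, algebraMap R S (P.coeff j) * g ^ j) := by
          rw [hgm, IsAbsoluteValue.abv_neg N]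
      _ ≤ N (algebraMap R S (P.coeff b) * g ^ b) := hle
      _ = N (algebraMap R S (P.coeff b)) * N g ^ b := by rw [IsAbsoluteValue.abv_mul N, IsAbsoluteValue.abv_pow N]
      _ ≤ 1 * N g ^ b := by
          gcongr
          · exact hR _
      _ = N g ^ b := one_mul _
  have h2 : N g ^ b < N g ^ P.natDegree := pow_lt_pow_right₀ h (Finset.mem_range.mp hb)
  exact absurd h1 (not_le.mpr h2)


/-- exponential map `WithTop ℤ → ℝ`, `t ↦ 2^(-q t)`, `⊤ ↦ 0`. -/
noncomputable def ex (q : ℕ) : WithTop ℤ → ℝ :=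
  fun t => WithTop.recTopCoe (0 : ℝ) (fun n : ℤ => (2 : ℝ) ^ (-((q : ℤ) * n))) t

@[simp] lemma ex_top (q : ℕ) : ex q ⊤ = 0 := rfl
@[simp] lemma ex_coe (q : ℕ) (n : ℤ) : ex q (n : WithTop ℤ) = (2 : ℝ) ^ (-((q : ℤ) * n)) := rfl

lemma ex_nonneg (q : ℕ) (t : WithTop ℤ) : 0 ≤ ex q t := by
  induction t using WithTop.recTopCoe with
  | top => simp
  | coe n => rw [ex_coe]; positivity

lemma ex_eq_zero_iff (q : ℕ) (t : WithTop ℤ) : ex q t = 0 ↔ t = ⊤ := by
  induction t using WithTop.recTopCoe with
  | top => simp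
  | coe n =>
    rw [ex_coe]
    constructor
    · intro h
      have : (0 : ℝ) < (2 : ℝ) ^ (-((q : ℤ) * n)) := by positivity
      exact absurd h this.ne'
    · intro h
      exact absurd h WithTop.coe_ne_top

lemma ex_add (q : ℕ) (s t : WithTop ℤ) : ex q (s + t) = ex q s * ex q t := by
  induction s using WithTop.recTopCoe with
  | top => simp
  | coe m =>
    induction t using WithTop.recTopCoe with
    | top => simp
    | coe n =>
      rw [← WithTop.coe_add, ex_coe, ex_coe, ex_coe, ← zpow_add₀ (two_ne_zero)]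
      congr 1; ring

lemma ex_antitone (q : ℕ) {s t : WithTop ℤ} (h : s ≤ t) : ex q t ≤ ex q s := by
  induction t using WithTop.recTopCoe with
  | top => rw [ex_top]; exact ex_nonneg q s
  | coe n =>
    induction s using WithTop.recTopCoe with
    | top => exact absurd (top_le_iff.mp h) WithTop.coe_ne_top
    | coe m =>
      rw [ex_coe, ex_coe]
      have hmn : m ≤ n := WithTop.coe_le_coe.mp h
      apply zpow_le_zpow_right₀ (by norm_num)
      have : (0 : ℤ) ≤ (q : ℤ) := Int.natCast_nonneg q
      nlinarith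

lemma key (q p k : ℕ) (hq : 0 < q) (t : WithTop ℤ) :
    ((k * p : ℕ) : WithTop ℤ) ≤ (q : WithTop ℤ) * t ↔ ex q t * ((2 : ℝ) ^ p) ^ k ≤ 1 := by
  induction t using WithTop.recTopCoe with
  | top =>
    have hq' : (q : WithTop ℤ) ≠ 0 := by
      exact_mod_cast hq.ne'
    rw [WithTop.mul_top hq', ex_top, zero_mul]
    exact ⟨fun _ => zero_le_one, fun _ => le_top⟩
  | coe n =>
    have h1 : (q : WithTop ℤ) * (n : WithTop ℤ) = (((q : ℤ) * n : ℤ) : WithTop ℤ) := by
      rw [WithTop.coe_mul]; rfl
    have h2 : ((k * p : ℕ) : WithTop ℤ) = (((k * p : ℕ) : ℤ) : WithTop ℤ) := rfl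
    rw [h1, h2, WithTop.coe_le_coe, ex_coe, ← pow_mul, ← zpow_natCast, ← zpow_add₀ (two_ne_zero),
      zpow_le_one_iff_right₀ (by norm_num : (1 : ℝ) < 2)]
    push_cast
    constructor
    · intro h; nlinarith
    · intro h; nlinarith


section
variable {A K : Type u} [CommRing A] [IsDomain A] [Field K] [Algebra A K] [IsFractionRing A K]

/-- the real absolute value `x ↦ 2^(-q v(x))` on `A`. -/
noncomputable def absV (v : AddValuation K (WithTop ℤ)) (q : ℕ) : AbsoluteValue A ℝ where
  toFun x := ex q (v (algebraMap A K x))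
  map_mul' x y := by rw [map_mul, AddValuation.map_mul, ex_add]
  nonneg' x := ex_nonneg q _
  eq_zero' x := by
    rw [ex_eq_zero_iff, AddValuation.top_iff, map_eq_zero_iff _ (IsFractionRing.injective A K)]
  add_le' x y := by
    rw [map_add]
    rcases AddValuation.map_add' v (algebraMap A K x) (algebraMap A K y) with h | h
    · exact (ex_antitone q h).trans (le_add_of_nonneg_right (ex_nonneg q _))
    · exact (ex_antitone q h).trans (le_add_of_nonneg_left (ex_nonneg q _))

lemma absV_apply (v : AddValuation K (WithTop ℤ)) (q : ℕ) (x : A) :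
    absV v q x = ex q (v (algebraMap A K x)) := rfl

lemma absV_nonarch (v : AddValuation K (WithTop ℤ)) (q : ℕ) :
    IsNonarchimedean (absV (A := A) v q) := by
  intro x y
  rw [absV_apply, absV_apply, absV_apply, map_add]
  rcases AddValuation.map_add' v (algebraMap A K x) (algebraMap A K y) with h | h
  · exact (ex_antitone q h).trans (le_max_left _ _)
  · exact (ex_antitone q h).trans (le_max_right _ _)

end


lemma closedIn_of_norms {A : Type u} [CommRing A] {S : Type u} [CommRing S] [Nontrivial S]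
    [Algebra A S] (R : Subalgebra A S) {ι : Type} (N : ι → S → ℝ)
    (habs : ∀ i, IsAbsoluteValue (N i)) (hna : ∀ i, IsNonarchimedean (N i))
    (hmem : ∀ g : S, g ∈ R ↔ ∀ i, N i g ≤ 1) : IsIntegrallyClosedIn ↥R S := by
  rw [isIntegrallyClosedIn_iff]
  refine ⟨Subtype.val_injective, fun {g} hg => ?_⟩
  have hg' : g ∈ R := by
    rw [hmem]
    intro i
    have := habs i
    have hR : ∀ r : ↥R, N i (algebraMap ↥R S r) ≤ 1 := fun r => (hmem r.1).mp r.2 i
    exact norm_le_one_of_integral (N i) (hna i) hR hg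
  exact ⟨⟨g, hg'⟩, rfl⟩

lemma closed_of_norms {A : Type u} [CommRing A] {S : Type u} [CommRing S] [IsDomain S]
    [IsIntegrallyClosed S]
    [Algebra A S] (R : Subalgebra A S) {ι : Type} (N : ι → S → ℝ)
    (habs : ∀ i, IsAbsoluteValue (N i)) (hna : ∀ i, IsNonarchimedean (N i))
    (hmem : ∀ g : S, g ∈ R ↔ ∀ i, N i g ≤ 1) : IsIntegrallyClosed ↥R := by
  have hclosedIn := closedIn_of_norms R N habs hna hmem
  have hfaith : FaithfulSMul ↥R S :=
    (faithfulSMul_iff_algebraMap_injective _ _).mpr Subtype.val_injective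
  exact IsIntegrallyClosed.of_isIntegrallyClosed_of_isIntegrallyClosedIn (R := ↥R) (S := S)

theorem main (A K : Type u) [CommRing A] [IsDomain A]
    [IsNoetherianRing A] [IsIntegrallyClosed A] [Field K] [Algebra A K] [IsFractionRing A K]
    (ι : Type) [Finite ι] (v : ι → AddValuation K (WithTop ℤ))
    (hv : ∀ (i : ι) (x : A), 0 ≤ v i (algebraMap A K x)) (p q : ι → ℕ) (hp : ∀ i, 0 < p i)
    (hq : ∀ i, 0 < q i) (𝓕 : FiltBl.IdealFiltration A)
    (hF : ∀ (k : ℕ) (x : A), x ∈ 𝓕.F k ↔
      ∀ i, ((k * p i : ℕ) : WithTop ℤ) ≤ (q i : WithTop ℤ) * v i (algebraMap A K x)) :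
    IsIntegrallyClosed 𝓕.rees := by
  classical
  have hc : ∀ i, (0 : ℝ) < (2 : ℝ) ^ p i := fun i => by positivity
  -- membership in the Rees algebra via Gauss norms
  have hmem : ∀ g : A[X], g ∈ 𝓕.rees ↔
      ∀ i, g.gaussNorm (absV (A := A) (v i) (q i)) ((2 : ℝ) ^ p i) ≤ 1 := by
    intro g
    have hcoef : ∀ (k : ℕ), g.coeff k ∈ 𝓕.F k ↔
        ∀ i, absV (A := A) (v i) (q i) (g.coeff k) * ((2 : ℝ) ^ p i) ^ k ≤ 1 := by
      intro k
      rw [hF]
      exact forall_congr' fun i => key (q i) (p i) k (hq i) _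
    constructor
    · intro hg i
      unfold Polynomial.gaussNorm
      split_ifs with hs
      · apply Finset.sup'_le
        intro k _
        exact (hcoef k).mp (hg k) i
      · exact zero_le_one
    · intro hg k
      rw [hcoef]
      intro i
      exact (Polynomial.le_gaussNorm (absV (A := A) (v i) (q i)) g (hc i).le k).trans (hg i)
  exact closed_of_norms 𝓕.rees
    (fun i => Polynomial.gaussNorm (absV (A := A) (v i) (q i)) ((2 : ℝ) ^ p i))
    (fun i => Polynomial.gaussNorm_isAbsoluteValue (absV_nonarch (v i) (q i)) (hc i))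
    (fun i => Polynomial.isNonarchimedean_gaussNorm _ (absV_nonarch (v i) (q i)) (hc i).le)
    hmem

end Groth.Agent.S14652Aux

namespace Groth.Agent.S14652

/-- Let A be a Noetherian integrally closed domain with fraction field K, let v_1, …, v_s be finitely
many valuations on K with values in ℤ ∪ {∞} (written additively) that are non-negative on A, and let
r_i = p_i / q_i be positive rationals (p_i, q_i positive integers). Let F be the filtration of
ideals of A given by F^k = {x ∈ A | q_i · v_i(x) ≥ k · p_i for every i}. Then the Rees algebra ⊕_{k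
≥ 0} F^k X^k ⊆ A[X] is an integrally closed domain (it need not be Noetherian). -/
theorem result (A K : Type u) [CommRing A] [IsDomain A]
    [IsNoetherianRing A] [IsIntegrallyClosed A] [Field K] [Algebra A K] [IsFractionRing A K]
    (ι : Type) [Finite ι] (v : ι → AddValuation K (WithTop ℤ))
    (hv : ∀ (i : ι) (x : A), 0 ≤ v i (algebraMap A K x)) (p q : ι → ℕ) (hp : ∀ i, 0 < p i)
    (hq : ∀ i, 0 < q i) (𝓕 : FiltBl.IdealFiltration A)
    (hF : ∀ (k : ℕ) (x : A), x ∈ 𝓕.F k ↔
      ∀ i, ((k * p i : ℕ) : WithTop ℤ) ≤ (q i : WithTop ℤ) * v i (algebraMap A K x)) :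
    IsIntegrallyClosed 𝓕.rees := by
  exact Groth.Agent.S14652Aux.main A K ι v hv p q hp hq 𝓕 hF

end Groth.Agent.S14652
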