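import Groth.Statements.S14654
import Mathlib

set_option autoImplicit false
universe u
open FiltBl

namespace Groth.Agent.S14654
open DirectSum HomogeneousLocalization
variable {A : Type u} [CommRing A] (𝒜 : ℕ → AddSubgroup A) [GradedRing 𝒜]

theorem exists_component_notMem (p : Ideal A) (v : A) (hv : v ∉ p) :
    ∃ j, (decompose 𝒜 v j : A) ∉ p := by
  classical
  by_contra h
  push Not at h
  apply hv
  rw [← DirectSum.sum_support_decompose 𝒜 v]
  exact Ideal.sum_mem _ fun j _ => h j

theorem key (p : Ideal A) [p.IsPrime]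
    [IsDomain (Localization.AtPrime p)]
    (b₁ b₂ : HomogeneousLocalization.AtPrime 𝒜 p) (hb₂ : b₂ ≠ 0) (c : Localization.AtPrime p)
    (h : b₁.val = c * b₂.val) : ∃ b : HomogeneousLocalization.AtPrime 𝒜 p, b.val = c := by
  obtain ⟨⟨n₁, β₁, t₁, ht₁⟩, rfl⟩ := mk_surjective b₁
  obtain ⟨⟨n₂, β₂, t₂, ht₂⟩, rfl⟩ := mk_surjective b₂
  induction c using Localization.induction_on with
  | H as =>
  obtain ⟨a, s⟩ := as
  have hb₂' : (HomogeneousLocalization.mk (𝒜 := 𝒜) (x := p.primeCompl) ⟨n₂, β₂, t₂, ht₂⟩).val ≠ 0 := by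
    intro h0
    apply hb₂
    apply val_injective
    rw [h0, val_zero]
  rw [val_mk, val_mk] at h
  simp only at h hb₂'
  rw [val_mk] at hb₂'
  simp only at hb₂'
  have h' := h
  rw [Localization.mk_mul, Localization.mk_eq_mk_iff, Localization.r_iff_exists] at h
  obtain ⟨u, hu⟩ := h
  simp only [Submonoid.coe_mul] at hu
  -- v γ = w δ
  set v : A := u * s with hv
  set w : A := u * a with hw
  have hvp : v ∉ p := (u * s).2
  have hγ : (β₁ : A) * t₂ ∈ 𝒜 (n₁ + n₂) := SetLike.GradedMul.mul_mem β₁.2 t₂.2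
  have hδ : (β₂ : A) * t₁ ∈ 𝒜 (n₁ + n₂) := by
    rw [add_comm]; exact SetLike.GradedMul.mul_mem β₂.2 t₁.2
  have heq : v * ((β₁ : A) * t₂) = w * ((β₂ : A) * t₁) := by
    rw [hv, hw]; linear_combination hu
  obtain ⟨j, hj⟩ := exists_component_notMem 𝒜 p v hvp
  have hcomp : (decompose 𝒜 v j : A) * ((β₁ : A) * t₂) = (decompose 𝒜 w j : A) * ((β₂ : A) * t₁) := by
    rw [← DirectSum.coe_decompose_mul_add_of_right_mem 𝒜 hγ,
      ← DirectSum.coe_decompose_mul_add_of_right_mem 𝒜 hδ, heq]
  refine ⟨HomogeneousLocalization.mk ⟨j, decompose 𝒜 w j, decompose 𝒜 v j, hj⟩, ?_⟩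
  rw [val_mk]
  simp only
  apply mul_right_cancel₀ hb₂'
  rw [← h', Localization.mk_mul, Localization.mk_eq_mk_iff, Localization.r_iff_exists]
  refine ⟨1, ?_⟩
  simp only [Submonoid.coe_mul, Submonoid.coe_one, one_mul]
  linear_combination (-1 : A) * hcomp


theorem isDomain_atPrime (p : Ideal A) [p.IsPrime] [IsDomain (Localization.AtPrime p)] :
    IsDomain (HomogeneousLocalization.AtPrime 𝒜 p) :=
  Function.Injective.isDomain (algebraMap (HomogeneousLocalization.AtPrime 𝒜 p) (Localization.AtPrime p))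
    (val_injective _)

theorem isIntegrallyClosed_atPrime (p : Ideal A) [p.IsPrime] [IsDomain (Localization.AtPrime p)]
    [IsIntegrallyClosed (Localization.AtPrime p)] :
    IsIntegrallyClosed (HomogeneousLocalization.AtPrime 𝒜 p) := by
  have := isDomain_atPrime 𝒜 p
  set B := HomogeneousLocalization.AtPrime 𝒜 p
  set C := Localization.AtPrime p
  set K := FractionRing B
  set L := FractionRing C
  rw [isIntegrallyClosed_iff K]
  intro z hz
  have hinj : Function.Injective ((algebraMap C L).comp (algebraMap B C)) :=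
    (IsFractionRing.injective C L).comp (val_injective _)
  let φ : K →+* L := IsFractionRing.lift hinj
  have hφ : ∀ b : B, φ (algebraMap B K b) = algebraMap C L b.val := fun b =>
    IsFractionRing.lift_algebraMap hinj b
  have hint : IsIntegral C (φ z) := by
    refine IsIntegral.map_of_comp_eq (algebraMap B C) φ ?_ hz
    ext b
    exact (hφ b).symm
  obtain ⟨c, hc⟩ := IsIntegrallyClosed.isIntegral_iff.mp hint
  obtain ⟨b₁, b₂, hb₂, rfl⟩ := IsFractionRing.div_surjective (A := B) z
  have hb₂0 : b₂ ≠ 0 := nonZeroDivisors.ne_zero hb₂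
  have hb₂L : algebraMap C L b₂.val ≠ 0 := by
    rw [Ne, map_eq_zero_iff _ (IsFractionRing.injective C L)]
    intro h0; apply hb₂0; apply val_injective; rw [h0, val_zero]
  have h1 : b₁.val = c * b₂.val := by
    apply IsFractionRing.injective C L
    rw [map_mul, hc, map_div₀, hφ, hφ, div_mul_cancel₀ _ hb₂L]
  obtain ⟨b, hb⟩ := key 𝒜 p b₁ b₂ hb₂0 c h1
  refine ⟨b, ?_⟩
  apply φ.injective
  rw [hφ, hb, hc]

open AlgebraicGeometry in
theorem main (hA : ∀ (p : Ideal A) [p.IsPrime], IsDomain (Localization.AtPrime p) ∧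
      IsIntegrallyClosed (Localization.AtPrime p))
    (x : Proj 𝒜) :
    IsDomain ((Proj 𝒜).presheaf.stalk x) ∧ IsIntegrallyClosed ((Proj 𝒜).presheaf.stalk x) := by
  have hxp : x.asHomogeneousIdeal.toIdeal.IsPrime := x.isPrime
  obtain ⟨h1, h2⟩ := hA x.asHomogeneousIdeal.toIdeal
  have hd := isDomain_atPrime 𝒜 x.asHomogeneousIdeal.toIdeal
  have hi := isIntegrallyClosed_atPrime 𝒜 x.asHomogeneousIdeal.toIdeal
  let e : (Proj 𝒜).presheaf.stalk x ≃+* HomogeneousLocalization.AtPrime 𝒜 x.asHomogeneousIdeal.toIdeal :=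
    (Proj.stalkIso 𝒜 x).commRingCatIsoToRingEquiv
  exact ⟨MulEquiv.isDomain _ e.toMulEquiv, IsIntegrallyClosed.of_equiv e.symm⟩

end Groth.Agent.S14654

namespace Groth.Agent.S14654

open AlgebraicGeometry in
/-- Let A be a Noetherian ℕ-graded commutative ring which is normal, i.e. every localization of A at a
prime ideal is an integrally closed domain. Then the scheme Proj A is normal: every local ring of
Proj A is an integrally closed domain. -/
theorem result (A : Type u) [CommRing A] [IsNoetherianRing A]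
    (𝒜 : ℕ → AddSubgroup A) [GradedRing 𝒜]
    (hA : ∀ (p : Ideal A) [p.IsPrime], IsDomain (Localization.AtPrime p) ∧
      IsIntegrallyClosed (Localization.AtPrime p))
    (x : Proj 𝒜) :
    IsDomain ((Proj 𝒜).presheaf.stalk x) ∧ IsIntegrallyClosed ((Proj 𝒜).presheaf.stalk x) := by
  exact main 𝒜 hA x

end Groth.Agent.S14654
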