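import Mathlib
-- Template for statement S14655 (row 14654; see the milestone table for weights).
-- Copy to Groth/Agent/S14655.lean and replace the sorry. The statement below is byte-identical to the frozen
-- statement FiltBl.GrothFrozen.S14655 (Groth/Statements/S14655.lean; the theorem FiltBl.isCohenMacaulayLocalRing_stalk_proj);
-- the grader kernel-checks Groth.Agent.S14655.result against that frozen type. Keep the theorem IN THIS FILE
-- (a `result` declared elsewhere and merely imported here is not credited); helpers may live anywhere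
-- under Groth/Agent/.
import Groth.Statements.S14655
import Groth.Agent.Lib.Helper24.GLocC
import Groth.Agent.Lib.Helper56.FibreCM

set_option autoImplicit false
set_option linter.style.haveILetI false
universe u
open FiltBl

namespace Groth.Agent.S14655

open AlgebraicGeometry in
/-- Let A be a Noetherian ℕ-graded commutative ring which is a Cohen–Macaulay ring. Then the scheme Proj
A is Cohen–Macaulay: every local ring of Proj A is a Cohen–Macaulay local ring. -/
theorem result (A : Type u) [CommRing A]
    (𝒜 : ℕ → AddSubgroup A) [GradedRing 𝒜] [LocCoh.IsCohenMacaulayRing A] (x : Proj 𝒜) :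
    LocCoh.IsCohenMacaulayLocalRing ((Proj 𝒜).presheaf.stalk x) := by
  classical
  haveI hpp : x.asHomogeneousIdeal.toIdeal.IsPrime := x.isPrime
  obtain ⟨m, hm, f, hf, hfx⟩ : ∃ d, 0 < d ∧ ∃ u, u ∈ 𝒜 d ∧ u ∉ x.asHomogeneousIdeal.toIdeal := by
    obtain ⟨a, ha, hap⟩ := SetLike.not_le_iff_exists.1 x.not_irrelevant_le
    have hex : ∃ i, (DirectSum.decompose 𝒜 a i : A) ∉ x.asHomogeneousIdeal.toIdeal := by
      by_contra hcon
      push Not at hcon
      apply hap
      change a ∈ x.asHomogeneousIdeal.toIdeal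
      rw [← DirectSum.sum_support_decompose 𝒜 a]
      exact Ideal.sum_mem _ (fun i _ => hcon i)
    obtain ⟨i, hi⟩ := hex
    refine ⟨i, ?_, (DirectSum.decompose 𝒜 a i : A), (DirectSum.decompose 𝒜 a i).2, hi⟩
    rcases Nat.eq_zero_or_pos i with rfl | h
    · exfalso
      apply hi
      have h0 : GradedRing.proj 𝒜 0 a = 0 := ha
      rw [GradedRing.proj_apply] at h0
      rw [h0]
      exact Ideal.zero_mem _
    · exact h
  let x' : ProjectiveSpectrum.basicOpen 𝒜 f := ⟨x, hfx⟩
  letI : Algebra (HomogeneousLocalization.Away 𝒜 f)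
      (HomogeneousLocalization.AtPrime 𝒜 x.asHomogeneousIdeal.toIdeal) :=
    (HomogeneousLocalization.mapId 𝒜 (Submonoid.powers_le.mpr hfx)).toAlgebra
  haveI hloc := ProjectiveSpectrum.Proj.isLocalization_atPrime 𝒜 f x' hf hm
  have hcm : LocCoh.IsCohenMacaulayRing (HomogeneousLocalization.Away 𝒜 f) :=
    Groth.Agent.Lib.Helper24.GLoc.isCohenMacaulayRing_away 𝒜 hm hf
  set 𝔮 : Ideal (HomogeneousLocalization.Away 𝒜 f) :=
    ((ProjectiveSpectrum.Proj.toSpec 𝒜 f).base x').asIdeal with h𝔮
  haveI h𝔮p : 𝔮.IsPrime := ((ProjectiveSpectrum.Proj.toSpec 𝒜 f).base x').isPrime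
  have h1 := hcm.isCohenMacaulayLocalRing_localization 𝔮
  have e1 : Localization.AtPrime 𝔮 ≃+*
      HomogeneousLocalization.AtPrime 𝒜 x.asHomogeneousIdeal.toIdeal :=
    (IsLocalization.algEquiv 𝔮.primeCompl _ _).toRingEquiv
  have h2 := Groth.Agent.Lib.Helper56.isCohenMacaulayLocalRing_of_ringEquiv e1 h1
  let e := Proj.stalkIso 𝒜 x
  exact Groth.Agent.Lib.Helper56.isCohenMacaulayLocalRing_of_ringEquiv
    e.symm.commRingCatIsoToRingEquiv h2

end Groth.Agent.S14655
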