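import Groth.Statements.S14656
import Mathlib.Tactic
import Mathlib.RingTheory.Ideal.AssociatedPrime.Finiteness
import Mathlib.RingTheory.Ideal.MinimalPrime.Localization
import Mathlib.RingTheory.Localization.Module
import Mathlib.RingTheory.Ideal.Height
import Mathlib.AlgebraicGeometry.ProjectiveSpectrum.Basic
import Mathlib.Algebra.Module.LocalizedModule.IsLocalization
import Mathlib.RingTheory.Nakayama
import Groth.Agent.Lib.Helper67.Depth

set_option autoImplicit false
universe u
open FiltBl

namespace Groth.Agent.S14656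

open Groth.Agent.Lib.Helper67 in
lemma one_le_depth_of_regular {B : Type u} [CommRing B] (q : Ideal B) [q.IsPrime] (y : B) (hy : y ∈ q)
    (hreg : ∀ b : B, y * b = 0 → ∃ w : B, w ∉ q ∧ w * b = 0) :
    (1 : ℕ∞) ≤ LocCoh.depth (Localization.AtPrime q) (LocalizedModule q.primeCompl B) := by
  have hr : IsSMulRegular (LocalizedModule q.primeCompl B)
      (algebraMap B (Localization.AtPrime q) y) := by
    rw [isSMulRegular_iff_right_eq_zero_of_smul]
    intro m hm
    induction m using LocalizedModule.induction_on with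
    | h b s =>
      rw [← Localization.mk_one_eq_algebraMap, LocalizedModule.mk_smul_mk, one_mul,
        ← LocalizedModule.zero_mk s, LocalizedModule.mk_eq] at hm
      obtain ⟨u, hu⟩ := hm
      simp only [smul_zero, Submonoid.smul_def, smul_eq_mul] at hu
      obtain ⟨w, hw, hwb⟩ := hreg ((u : B) * ((s : B) * b)) (by rw [← hu]; ring)
      rw [← LocalizedModule.zero_mk s, LocalizedModule.mk_eq]
      refine ⟨⟨w, hw⟩ * u * s, ?_⟩
      simp only [smul_zero, Submonoid.smul_def, smul_eq_mul, Submonoid.coe_mul]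
      have e : w * (u : B) * (s : B) * ((s : B) * b) = (s : B) * (w * ((u : B) * ((s : B) * b))) := by ring
      rw [e, hwb, mul_zero]
  have := length_le_idealDepth (IsLocalRing.maximalIdeal (Localization.AtPrime q))
    (LocalizedModule q.primeCompl B) [algebraMap B (Localization.AtPrime q) y]
    ((RingTheory.Sequence.isWeaklyRegular_cons_iff _ _ _).2 ⟨hr, RingTheory.Sequence.IsWeaklyRegular.nil _ _⟩)
    (by
      intro r hr'
      rw [List.mem_singleton] at hr'
      subst hr'
      exact (IsLocalization.AtPrime.to_map_mem_maximal_iff _ q y).2 hy)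
  simpa [LocCoh.depth] using this

lemma hasS1_of_embedding {B L : Type u} [CommRing B] [CommRing L] [IsNoetherianRing L]
    (val : B →+* L) (hinj : Function.Injective val)
    (H1 : ∀ P ∈ associatedPrimes L L, P ∈ minimalPrimes L)
    (H2 : ∀ P ∈ minimalPrimes L, ∀ y : B, val y ∈ P →
      ∃ z : B, val z ∉ P ∧ ∃ m : ℕ, z * y ^ m = 0) :
    LocCoh.HasSk 1 B B := by
  intro q hq
  by_cases hmin : q ∈ minimalPrimes B
  · have h1 : Module.supportDim (Localization.AtPrime q) (LocalizedModule q.primeCompl B) ≤ 0 := by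
      refine (Module.supportDim_le_ringKrullDim _ _).trans ?_
      rw [IsLocalization.AtPrime.ringKrullDim_eq_height q, Ideal.height_eq_zero_iff.2 hmin]
      simp
    refine (min_le_right _ _).trans (h1.trans ?_)
    exact_mod_cast (bot_le : (0 : ℕ∞) ≤ LocCoh.depth (Localization.AtPrime q) (LocalizedModule q.primeCompl B))
  · have key : ∃ y ∈ q, ∀ b : B, y * b = 0 → ∃ w : B, w ∉ q ∧ w * b = 0 := by
      by_contra hcon
      push Not at hcon
      have hsub : (q : Set B) ⊆ ⋃ P ∈ associatedPrimes L L, ((P.comap val : Ideal B) : Set B) := by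
        intro y hy
        obtain ⟨b, hyb, hb⟩ := hcon y hy
        have hb0 : b ≠ 0 := by
          intro h0
          exact hb 1 (fun h => hq.ne_top ((Ideal.eq_top_iff_one q).2 h)) (by simp [h0])
        have : val y ∈ ⋃ p ∈ associatedPrimes L L, (p : Set L) := by
          rw [biUnion_associatedPrimes_eq_zero_divisors]
          exact ⟨val b, (map_ne_zero_iff val hinj).2 hb0,
            by rw [smul_eq_mul, ← map_mul, hyb, map_zero]⟩
        simpa using this
      obtain ⟨P, hP, hqP⟩ := (Ideal.subset_union_prime_finite (associatedPrimes.finite L L)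
        (f := fun P : Ideal L => P.comap val) 0 0
        (fun P hP _ _ => by haveI := hP.isPrime; exact Ideal.IsPrime.comap val)).1 hsub
      have hPmin := H1 P hP
      haveI := hP.isPrime
      have hq'min : P.comap val ∈ minimalPrimes B := by
        refine ⟨⟨Ideal.IsPrime.comap val, bot_le⟩, ?_⟩
        rintro q0 ⟨hq0, -⟩ hle y hy
        obtain ⟨z, hz, m, hzm⟩ := H2 P hPmin y hy
        have : z * y ^ m ∈ q0 := by rw [hzm]; exact q0.zero_mem
        rcases hq0.mem_or_mem this with h | h
        · exact absurd (hle h) hz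
        · exact hq0.mem_of_pow_mem m h
      have : q = P.comap val := le_antisymm hqP (hq'min.2 ⟨hq, bot_le⟩ hqP)
      exact hmin (this ▸ hq'min)
    obtain ⟨y, hy, hreg⟩ := key
    have := one_le_depth_of_regular q y hy hreg
    refine (min_le_left _ _).trans ?_
    exact_mod_cast this

open Groth.Agent.Lib.Helper67 in
lemma ass_minimal_localization {A : Type u} [CommRing A] [IsNoetherianRing A]
    (hA : LocCoh.HasSk 1 A A) (p : Ideal A) [p.IsPrime]
    (P : Ideal (Localization.AtPrime p))
    (hP : P ∈ associatedPrimes (Localization.AtPrime p) (Localization.AtPrime p)) :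
    P ∈ minimalPrimes (Localization.AtPrime p) := by
  have hPprime : P.IsPrime := hP.isPrime
  obtain ⟨-, x, hx⟩ := (isAssociatedPrime_iff.1 hP)
  by_contra hmin
  set P' : Ideal A := P.comap (algebraMap A (Localization.AtPrime p)) with hP'def
  have hP'prime : P'.IsPrime := Ideal.IsPrime.comap _
  obtain ⟨x0, t, rfl⟩ := IsLocalization.exists_mk'_eq p.primeCompl x
  have F1 : ∀ c ∈ P', ∃ t' : A, t' ∉ p ∧ t' * (c * x0) = 0 := by
    intro c hc
    have h1 : algebraMap A (Localization.AtPrime p) c ∈ P := hc
    rw [hx, Submodule.mem_colon_singleton, Submodule.mem_bot, smul_eq_mul,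
      ← IsLocalization.mk'_one (M := p.primeCompl) (Localization.AtPrime p) c,
      ← IsLocalization.mk'_mul, IsLocalization.mk'_eq_zero_iff] at h1
    obtain ⟨m, hm⟩ := h1
    exact ⟨m, m.2, hm⟩
  have F2 : ∀ u : A, u * x0 = 0 → u ∈ P' := by
    intro u hu
    change algebraMap A (Localization.AtPrime p) u ∈ P
    rw [hx, Submodule.mem_colon_singleton, Submodule.mem_bot, smul_eq_mul,
      ← IsLocalization.mk'_one (M := p.primeCompl) (Localization.AtPrime p) u,
      ← IsLocalization.mk'_mul, hu, IsLocalization.mk'_zero]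
  have F3 : P' ≤ p := by
    intro c hc
    by_contra hcp
    have hu : IsUnit (algebraMap A (Localization.AtPrime p) c) :=
      IsLocalization.map_units (Localization.AtPrime p) (⟨c, hcp⟩ : p.primeCompl)
    exact hPprime.ne_top (P.eq_top_of_isUnit_mem hc hu)
  have F4 : LocalizedModule.mk x0 (1 : P'.primeCompl) ≠ 0 := by
    intro h0
    rw [← LocalizedModule.zero_mk (1 : P'.primeCompl), LocalizedModule.mk_eq] at h0
    obtain ⟨u, hu⟩ := h0
    simp only [smul_zero, one_smul, Submonoid.smul_def, smul_eq_mul] at hu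
    exact u.2 (F2 u hu)
  have hP'min : P' ∉ minimalPrimes A := by
    intro h
    apply hmin
    have h2 := IsLocalization.minimalPrimes_map p.primeCompl (Localization.AtPrime p) (⊥ : Ideal A)
    rw [Ideal.map_bot] at h2
    change P ∈ (⊥ : Ideal (Localization.AtPrime p)).minimalPrimes
    rw [h2]
    exact h
  have hht : (1 : ℕ∞) ≤ P'.height := by
    rw [Order.one_le_iff_ne_zero]
    exact fun h => hP'min (Ideal.height_eq_zero_iff.1 h)
  have e : LocalizedModule P'.primeCompl A ≃ₗ[Localization.AtPrime P'] Localization.AtPrime P' :=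
    (IsLocalizedModule.iso P'.primeCompl
      (Algebra.linearMap A (Localization.AtPrime P'))).extendScalarsOfIsLocalization
      P'.primeCompl (Localization.AtPrime P')
  have hsd : Module.supportDim (Localization.AtPrime P') (LocalizedModule P'.primeCompl A) =
      P'.height := by
    rw [Module.supportDim_eq_of_equiv e, Module.supportDim_self_eq_ringKrullDim,
      IsLocalization.AtPrime.ringKrullDim_eq_height P']
  have hdepth : ((1 : ℕ) : ℕ∞) ≤
      LocCoh.depth (Localization.AtPrime P') (LocalizedModule P'.primeCompl A) := by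
    have := hA P'
    rw [hsd] at this
    have h1 : ((1 : ℕ) : WithBot ℕ∞) ≤ ((P'.height : ℕ∞) : WithBot ℕ∞) := by exact_mod_cast hht
    rw [min_eq_left h1] at this
    exact_mod_cast this
  rw [LocCoh.depth, le_idealDepth_iff] at hdepth
  rcases hdepth with htop | ⟨rs, hlen, hreg, hmem⟩
  · haveI : Module.Finite (Localization.AtPrime P') (LocalizedModule P'.primeCompl A) :=
      Module.Finite.equiv e.symm
    have := Submodule.eq_bot_of_le_smul_of_le_jacobson_bot
      (IsLocalRing.maximalIdeal (Localization.AtPrime P'))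
      (⊤ : Submodule (Localization.AtPrime P') (LocalizedModule P'.primeCompl A))
      Module.Finite.fg_top htop.ge (IsLocalRing.maximalIdeal_le_jacobson ⊥)
    have h0 : LocalizedModule.mk x0 (1 : P'.primeCompl) ∈
        (⊤ : Submodule (Localization.AtPrime P') (LocalizedModule P'.primeCompl A)) := trivial
    rw [this] at h0
    exact F4 h0
  · match rs, hlen, hreg, hmem with
    | r :: tl, _, hreg, hmem =>
      have hr : IsSMulRegular (LocalizedModule P'.primeCompl A) r :=
        ((RingTheory.Sequence.isWeaklyRegular_cons_iff _ _ _).1 hreg).1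
      have hrm : r ∈ IsLocalRing.maximalIdeal (Localization.AtPrime P') :=
        hmem r (List.mem_cons_self)
      obtain ⟨c, w, rfl⟩ := IsLocalization.exists_mk'_eq P'.primeCompl r
      rw [IsLocalization.AtPrime.mk'_mem_maximal_iff (Localization.AtPrime P') P'] at hrm
      obtain ⟨t', ht', htc⟩ := F1 c hrm
      apply F4
      apply hr.right_eq_zero_of_smul
      rw [← Localization.mk_eq_mk', LocalizedModule.mk_smul_mk, ← LocalizedModule.zero_mk (w * 1), LocalizedModule.mk_eq]
      refine ⟨⟨t', fun h => ht' (F3 h)⟩, ?_⟩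
      simp only [smul_zero, Submonoid.smul_def, smul_eq_mul]
      rw [mul_left_comm, htc, mul_zero]

open HomogeneousLocalization in
lemma H2_atPrime {A : Type u} [CommRing A] (𝒜 : ℕ → AddSubgroup A) [GradedRing 𝒜]
    (p : Ideal A) [p.IsPrime] (d : ℕ) (hd : 0 < d) (u : A) (hu : u ∈ 𝒜 d) (hup : u ∉ p)
    (P : Ideal (Localization.AtPrime p)) (hP : P ∈ minimalPrimes (Localization.AtPrime p))
    (y : HomogeneousLocalization.AtPrime 𝒜 p) (hy : y.val ∈ P) :
    ∃ z : HomogeneousLocalization.AtPrime 𝒜 p, z.val ∉ P ∧ ∃ m : ℕ, z * y ^ m = 0 := by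
  classical
  haveI hPprime : P.IsPrime := hP.1.1
  have hrad := IsLocalization.AtPrime.radical_map_of_mem_minimalPrimes
    (A := Localization.AtPrime P) P (⊥ : Ideal (Localization.AtPrime p)) hP
  have h1 : algebraMap (Localization.AtPrime p) (Localization.AtPrime P) y.val ∈
      ((⊥ : Ideal (Localization.AtPrime p)).map
        (algebraMap (Localization.AtPrime p) (Localization.AtPrime P))).radical := by
    rw [hrad]; exact Ideal.mem_map_of_mem _ hy
  obtain ⟨m, hm⟩ := h1
  rw [Ideal.map_bot, Ideal.mem_bot, ← map_pow,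
    IsLocalization.map_eq_zero_iff P.primeCompl (Localization.AtPrime P)] at hm
  obtain ⟨⟨z0, hz0⟩, hz0m⟩ := hm
  simp only at hz0m
  obtain ⟨⟨n, ⟨a, ha⟩, ⟨s, hs⟩, hsp⟩, rfl⟩ := mk_surjective y
  rw [val_mk, Localization.mk_eq_mk'] at hz0m hy
  simp only at hz0m hy
  obtain ⟨c, t, rfl⟩ := IsLocalization.exists_mk'_eq p.primeCompl z0
  rw [← IsLocalization.mk'_pow, ← IsLocalization.mk'_mul, IsLocalization.mk'_eq_zero_iff] at hz0m
  obtain ⟨t', ht'⟩ := hz0m
  have hc : algebraMap A (Localization.AtPrime p) c ∉ P := fun h =>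
    hz0 (IsLocalization.mk'_mem_iff.2 h)
  have ht'P : algebraMap A (Localization.AtPrime p) t' ∉ P := fun h =>
    hPprime.ne_top (P.eq_top_of_isUnit_mem h (IsLocalization.map_units _ t'))
  set g : A := t' * c with hg
  have hgP : algebraMap A (Localization.AtPrime p) g ∉ P := by
    rw [hg, map_mul]
    exact fun h => (hPprime.mem_or_mem h).elim ht'P hc
  have hga : g * a ^ m = 0 := by rw [hg, mul_assoc]; exact ht'
  have ham : a ^ m ∈ 𝒜 (m • n) := SetLike.pow_mem_graded m ha
  have hcomp : ∀ i, (DirectSum.decompose 𝒜 g i : A) * a ^ m = 0 := by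
    intro i
    rw [← DirectSum.coe_decompose_mul_add_of_right_mem 𝒜 ham, hga, DirectSum.decompose_zero]
    rfl
  have hex : ∃ i, algebraMap A (Localization.AtPrime p) (DirectSum.decompose 𝒜 g i : A) ∉ P := by
    by_contra hcon
    push Not at hcon
    apply hgP
    rw [← DirectSum.sum_support_decompose 𝒜 g, map_sum]
    exact Ideal.sum_mem _ (fun i _ => hcon i)
  obtain ⟨e, he⟩ := hex
  set h : A := (DirectSum.decompose 𝒜 g e : A) with hh
  have hhe : h ∈ 𝒜 e := (DirectSum.decompose 𝒜 g e).2
  have hha : h * a ^ m = 0 := hcomp e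
  have hnum : h ^ d ∈ 𝒜 (d * e) := by
    have := SetLike.pow_mem_graded d hhe
    rwa [smul_eq_mul] at this
  have hden : u ^ e ∈ 𝒜 (d * e) := by
    have := SetLike.pow_mem_graded e hu
    rwa [smul_eq_mul, mul_comm] at this
  have hdenp : u ^ e ∈ p.primeCompl := fun hmem => hup (Ideal.IsPrime.mem_of_pow_mem ‹_› e hmem)
  refine ⟨mk ⟨d * e, ⟨h ^ d, hnum⟩, ⟨u ^ e, hden⟩, hdenp⟩, ?_, m, ?_⟩
  · rw [val_mk, Localization.mk_eq_mk']
    simp only
    rw [IsLocalization.mk'_mem_iff, map_pow]
    exact fun hmem => he (hPprime.mem_of_pow_mem d hmem)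
  · apply val_injective
    rw [val_mul, val_pow, val_mk, val_mk, val_zero, Localization.mk_eq_mk']
    simp only
    rw [← IsLocalization.mk'_pow, ← IsLocalization.mk'_mul, IsLocalization.mk'_eq_zero_iff]
    refine ⟨1, ?_⟩
    obtain ⟨d', rfl⟩ : ∃ d', d = d' + 1 := Nat.exists_eq_succ_of_ne_zero hd.ne'
    rw [pow_succ, mul_assoc, hha, mul_zero, mul_zero]

open AlgebraicGeometry in
/-- Let A be a Noetherian ℕ-graded commutative ring satisfying Serre's condition (S_1) (every
localization A_p has depth at least min(1, dim A_p)). Then every local ring of the scheme Proj A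
satisfies (S_1). -/
theorem result (A : Type u) [CommRing A] [IsNoetherianRing A]
    (𝒜 : ℕ → AddSubgroup A) [GradedRing 𝒜] (hA : LocCoh.HasSk 1 A A) (x : Proj 𝒜) :
    LocCoh.HasSk 1 ((Proj 𝒜).presheaf.stalk x) ((Proj 𝒜).presheaf.stalk x) := by
  classical
  haveI hpp : x.asHomogeneousIdeal.toIdeal.IsPrime := x.isPrime
  obtain ⟨d, hd, u, hu, hup⟩ : ∃ d, 0 < d ∧ ∃ u, u ∈ 𝒜 d ∧ u ∉ x.asHomogeneousIdeal.toIdeal := by
    obtain ⟨a, ha, hap⟩ := SetLike.not_le_iff_exists.1 x.not_irrelevant_le
    have hex : ∃ i, (DirectSum.decompose 𝒜 a i : A) ∉ x.asHomogeneousIdeal.toIdeal := by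
      by_contra hcon
      push Not at hcon
      apply hap
      change a ∈ x.asHomogeneousIdeal.toIdeal
      rw [← DirectSum.sum_support_decompose 𝒜 a]
      exact Ideal.sum_mem _ (fun i _ => hcon i)
    obtain ⟨i, hi⟩ := hex
    refine ⟨i, ?_, (DirectSum.decompose 𝒜 a i : A), (DirectSum.decompose 𝒜 a i).2, hi⟩
    rcases Nat.eq_zero_or_pos i with rfl | h
    · exfalso
      apply hi
      have h0 : GradedRing.proj 𝒜 0 a = 0 := ha
      rw [GradedRing.proj_apply] at h0
      rw [h0]
      exact Ideal.zero_mem _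
    · exact h
  let e := Proj.stalkIso 𝒜 x
  let val : (Proj 𝒜).presheaf.stalk x →+* Localization.AtPrime x.asHomogeneousIdeal.toIdeal :=
    (algebraMap (HomogeneousLocalization.AtPrime 𝒜 x.asHomogeneousIdeal.toIdeal) _).comp e.hom.hom
  refine hasS1_of_embedding val ?_
    (fun P hP => ass_minimal_localization hA x.asHomogeneousIdeal.toIdeal P hP) ?_
  · intro a b hab
    have h1 : e.hom.hom a = e.hom.hom b := HomogeneousLocalization.val_injective _ hab
    have := congrArg e.inv.hom h1
    simpa using this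
  · intro P hP y hy
    obtain ⟨z, hz, m, hzm⟩ := H2_atPrime 𝒜 x.asHomogeneousIdeal.toIdeal d hd u hu hup P hP
      (e.hom.hom y) hy
    refine ⟨e.inv.hom z, ?_, m, ?_⟩
    · change (e.hom.hom (e.inv.hom z)).val ∉ P
      have : e.hom.hom (e.inv.hom z) = z := by simp
      rwa [this]
    · have h2 : e.hom.hom (e.inv.hom z * y ^ m) = 0 := by
        rw [map_mul, map_pow]
        have : e.hom.hom (e.inv.hom z) = z := by simp
        rw [this, hzm]
      have := congrArg e.inv.hom h2
      simpa using this

end Groth.Agent.S14656
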