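import Groth.Statements.S14657
import Groth.Agent.Lib.Helper92.GradedNormal
import Groth.Agent.Lib.Helper38.FieldN2
import Groth.Agent.Lib.Helper38.NagataFT8
import Groth.Agent.Lib.Helper90.DimParam

set_option autoImplicit false
universe u
open FiltBl

namespace Groth.Agent.S14657

open Groth.Agent.Lib.Helper92.GradedIC Groth.Agent.Lib.Helper92.GradedNormal in
/-- (i) ⇔ (ii): let k be a field and G a Noetherian ℕ-graded k-algebra which is an integral domain of
Krull dimension at least 2 with G_0 = k (the degree-0 part is the image of k); let L be the fraction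
field of G and Ḡ the integral closure of G in L. Then the open subscheme Spec G − V(G_+) is normal,
i.e. G_p is integrally closed for every prime p not containing the irrelevant ideal G_+, if and only
if the G-module Ḡ/G has finite length. -/
theorem result (k : Type u) [Field k]
    (G : Type u) [CommRing G] [IsDomain G] [Algebra k G] [IsNoetherianRing G]
    (𝒢 : ℕ → Submodule k G) [GradedAlgebra 𝒢]
    (h0 : ∀ x ∈ 𝒢 0, x ∈ Set.range (algebraMap k G)) (hdim : 2 ≤ ringKrullDim G)
    (L : Type u) [Field L] [Algebra G L] [IsFractionRing G L] :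
    (∀ (p : Ideal G) [p.IsPrime], ¬ (HomogeneousIdeal.irrelevant 𝒢).toIdeal ≤ p →
        IsIntegrallyClosed (Localization.AtPrime p)) ↔
      IsFiniteLength G (↥(integralClosure G L) ⧸
        LinearMap.range (Algebra.linearMap G ↥(integralClosure G L))) := by
  classical
  have hmax := irrelevant_isMaximal k G 𝒢 h0
  constructor
  · intro h
    haveI : Algebra.FiniteType k G := finiteType k G 𝒢 h0
    have hN2 : CAlg.IsN2 G := Groth.Agent.Lib.Helper38.FieldN2.isN2_of_finiteType k G
    have hN1 := Groth.Agent.Lib.Helper38.NagataFT8.isN1_of_isN2 G hN2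
    haveI : Module.Finite G ↥(integralClosure G L) :=
      Groth.Agent.Lib.Helper38.NagataFT5.finite_integralClosure_of_isN1 G hN1 L
    change IsFiniteLength G (QuotIC G L)
    apply Groth.Agent.Lib.Helper90.DimParam.isFiniteLength_of_supportDim_le_zero
    have hsub : (Module.support G (QuotIC G L)).Subsingleton := by
      have key : ∀ p ∈ Module.support G (QuotIC G L),
          p.asIdeal = (HomogeneousIdeal.irrelevant 𝒢).toIdeal := by
        intro p hp
        by_contra hne
        have hnle : ¬ (HomogeneousIdeal.irrelevant 𝒢).toIdeal ≤ p.asIdeal := fun hle =>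
          hne (hmax.eq_of_le p.2.ne_top hle).symm
        haveI := h p.asIdeal hnle
        apply (Module.notMem_support_iff'.mpr ?_) hp
        intro q
        obtain ⟨y, rfl⟩ := Submodule.Quotient.mk_surjective _ q
        obtain ⟨s, hs, a, hsa⟩ := exists_denom_of_isIntegrallyClosed_atPrime G L p.asIdeal y.1 y.2
        refine ⟨s, hs, ?_⟩
        rw [← Submodule.Quotient.mk_smul, Submodule.Quotient.mk_eq_zero]
        refine ⟨a, ?_⟩
        apply Subtype.ext
        change algebraMap G L a = s • (y : L)
        rw [← hsa, Algebra.smul_def]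
      intro p hp q hq
      exact PrimeSpectrum.ext ((key p hp).trans (key q hq).symm)
    haveI : Subsingleton ↥(Module.support G (QuotIC G L)) := hsub.coe_sort
    exact Order.krullDim_nonpos_of_subsingleton
  · intro hfin p _ hp
    have hfin' : IsFiniteLength G (QuotIC G L) := hfin
    obtain ⟨hN, hA⟩ := isFiniteLength_iff_isNoetherian_isArtinian.mp hfin'
    obtain ⟨N, hNs⟩ := exists_pow_irrelevant_smul_eq_zero (𝒢 := 𝒢) (L := L)
    have hnle : ¬ (HomogeneousIdeal.irrelevant 𝒢).toIdeal ^ N ≤ p := fun hle =>
      hp (Ideal.IsPrime.le_of_pow_le hle)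
    obtain ⟨t, ht, htp⟩ := SetLike.not_le_iff_exists.mp hnle
    apply isIntegrallyClosed_atPrime_of_exists_denom G L p
    intro y hy
    have hc : t ∈ conductor (G := G) L := mem_conductor_iff_smul.mpr (hNs t ht)
    obtain ⟨a, ha⟩ := hc y hy
    exact ⟨t, htp, a, ha.symm⟩

end Groth.Agent.S14657
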