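import Mathlib
-- Template for statement S14659 (row 14658; see the milestone table for weights).
-- Copy to Groth/Agent/S14659.lean and replace the sorry. The statement below is byte-identical to the frozen
-- statement FiltBl.GrothFrozen.S14659 (Groth/Statements/S14659.lean; the theorem FiltBl.isRegularLocalRing_quot_unit_sub_one_of_graded);
-- the grader kernel-checks Groth.Agent.S14659.result against that frozen type. Keep the theorem IN THIS FILE
-- (a `result` declared elsewhere and merely imported here is not credited); helpers may live anywhere
-- under Groth/Agent/.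
import Groth.Statements.S14659
import Groth.Agent.Lib.Helper24.GrUnitE

set_option autoImplicit false
universe u
open FiltBl

namespace Groth.Agent.S14659

/-- Let R be a Noetherian ℤ-graded commutative ring which is regular (every localization at a prime is a
regular local ring), whose degree-0 subring R_0 is a local ring, with R_1 ≠ 0 and with a homogeneous
unit in some positive degree; let N be the least positive degree in which R has a unit and t ∈ R_N a
unit (so that R_N = t · R_0). Then C = R/(t − 1)R is a regular local ring. -/
theorem result (R : Type u) [CommRing R]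
    [IsNoetherianRing R] (𝒜 : ℤ → AddSubgroup R) [GradedRing 𝒜]
    (hreg : ∀ (p : Ideal R) [p.IsPrime], IsRegularLocalRing (Localization.AtPrime p))
    [IsLocalRing (GrLC.deg0 𝒜)] (h1 : ∃ x ∈ 𝒜 1, x ≠ 0) (N : ℕ) (hN : 0 < N) (t : R)
    (ht : t ∈ 𝒜 (N : ℤ)) (htu : IsUnit t)
    (hmin : ∀ (n : ℤ), 0 < n → n < (N : ℤ) → ∀ s ∈ 𝒜 n, ¬ IsUnit s) :
    IsRegularLocalRing (R ⧸ Ideal.span {t - 1}) := by
  have h := Groth.Agent.Lib.Helper24.GrUnit.main 𝒜 N htu.unit hN
    (by rw [htu.unit_spec]; exact ht) hmin hreg
  rwa [htu.unit_spec] at h

end Groth.Agent.S14659
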