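import Groth.Statements.S14670
import Mathlib
import Groth.Agent.Lib.Helper77.MiracleFlat
import Groth.Agent.Lib.Helper94.RegularUFD2

set_option autoImplicit false
universe u
open CAlg

namespace Groth.Agent.S14670

open IsLocalRing

/-- Primes of `S` containing `m S` are maximal (integral extension of a local ring). -/
theorem isMaximal_of_map_le {R S : Type u} [CommRing R] [CommRing S] [IsLocalRing R] [Algebra R S]
    [Algebra.IsIntegral R S] (P : Ideal S) [P.IsPrime]
    (h : (maximalIdeal R).map (algebraMap R S) ≤ P) : P.IsMaximal := by
  have h1 : maximalIdeal R ≤ P.comap (algebraMap R S) := Ideal.map_le_iff_le_comap.mp h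
  have h2 : P.comap (algebraMap R S) = maximalIdeal R :=
    ((maximalIdeal.isMaximal R).eq_of_le (Ideal.IsPrime.ne_top inferInstance) h1).symm
  have : (P.comap (algebraMap R S)).IsMaximal := h2 ▸ maximalIdeal.isMaximal R
  exact Ideal.isMaximal_of_isIntegral_of_isMaximal_comap P this

/-- Let R be a regular local ring and S an integral domain containing R as a subring over which it is a
finitely generated module, such that the localization of S at each of its maximal ideals is a
Cohen–Macaulay local ring. Then S is a flat R-module. (The published statement does not require S to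
be a domain; in that generality it fails — for a discrete valuation ring R with residue field κ the
ring R × κ contains R diagonally, is finite over R with Cohen–Macaulay localizations, and is not
flat — and the printed argument needs every maximal ideal of S to have height dim R, which holds
when S is a domain by going down.) -/
theorem result (R S : Type u) [CommRing R] [CommRing S]
    [IsRegularLocalRing R] [IsDomain S] [Algebra R S] [Module.Finite R S]
    (hinj : Function.Injective (algebraMap R S))
    (hCM : ∀ (q : Ideal S) [q.IsMaximal], LocCoh.IsCohenMacaulayLocalRing (Localization.AtPrime q)) :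
    Module.Flat R S := by
  have hdomR : IsDomain R := hinj.isDomain
  have hufd : UniqueFactorizationMonoid R :=
    Groth.Agent.Lib.Helper94.RegularUFD.uniqueFactorizationMonoid_of_isRegularLocalRing R
  have hic : IsIntegrallyClosed R := inferInstance
  have hfs : FaithfulSMul R S := (faithfulSMul_iff_algebraMap_injective R S).mpr hinj
  have hint : Algebra.IsIntegral R S := inferInstance
  have hnoeS : IsNoetherianRing S := IsNoetherianRing.of_finite R S
  have hgd : Algebra.HasGoingDown R S := inferInstance
  refine Module.flat_of_isLocalized_maximal S S (fun P _ => Localization.AtPrime P)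
    (fun P _ => Algebra.linearMap S (Localization.AtPrime P)) ?_
  intro q hq
  have hcm := hCM q
  set m := maximalIdeal R with hm
  set Sq := Localization.AtPrime q with hSq
  have hqm : q.comap (algebraMap R S) = m :=
    IsLocalRing.eq_maximalIdeal (Ideal.isMaximal_comap_of_isIntegral_of_isMaximal q)
  have hlo : q.LiesOver m := ⟨hqm.symm⟩
  -- local hom
  have hloc : IsLocalHom (algebraMap R Sq) := by
    constructor
    intro x hx
    rw [IsScalarTower.algebraMap_apply R S Sq] at hx
    have h1 : algebraMap R S x ∉ q := by
      intro hmem
      exact (IsLocalization.AtPrime.isUnit_to_map_iff Sq q _).mp hx hmem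
    have h2 : x ∉ m := by
      rw [← hqm]; exact h1
    by_contra hnu
    exact h2 ((IsLocalRing.mem_maximalIdeal x).mpr hnu)
  -- the height formula
  have hht := Ideal.height_eq_height_add_of_liesOver_of_hasGoingDown m q
  have hmq : m.map (algebraMap R S) ≤ q := Ideal.map_le_iff_le_comap.mpr hqm.ge
  -- the fibre over `m` is zero-dimensional
  have hK0 : Ring.KrullDimLE 0 (S ⧸ m.map (algebraMap R S)) := by
    rw [Ring.krullDimLE_zero_iff]
    intro P' hP'
    have hsurj : Function.Surjective (Ideal.Quotient.mk (m.map (algebraMap R S))) :=
      Ideal.Quotient.mk_surjective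
    have hPle : m.map (algebraMap R S) ≤ P'.comap (Ideal.Quotient.mk _) := by
      intro x hx
      rw [Ideal.mem_comap, Ideal.Quotient.eq_zero_iff_mem.mpr hx]
      exact zero_mem _
    have hmax : (P'.comap (Ideal.Quotient.mk (m.map (algebraMap R S)))).IsMaximal :=
      isMaximal_of_map_le _ hPle
    have := Ideal.map_eq_top_or_isMaximal_of_surjective _ hsurj hmax
    rw [Ideal.map_comap_of_surjective _ hsurj] at this
    rcases this with h | h
    · exact absurd h (Ideal.IsPrime.ne_top hP')
    · exact h
  have hzero : (q.map (Ideal.Quotient.mk (m.map (algebraMap R S)))).height = 0 := by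
    have hne : q.map (Ideal.Quotient.mk (m.map (algebraMap R S))) ≠ ⊤ := by
      intro htop
      have : (q.map (Ideal.Quotient.mk (m.map (algebraMap R S)))).comap
          (Ideal.Quotient.mk (m.map (algebraMap R S))) = ⊤ := by rw [htop]; rfl
      rw [Ideal.comap_map_of_surjective _ Ideal.Quotient.mk_surjective, ← RingHom.ker_eq_comap_bot,
        Ideal.mk_ker, sup_eq_left.mpr hmq] at this
      exact Ideal.IsPrime.ne_top inferInstance this
    have h1 := Ideal.height_le_ringKrullDim_of_ne_top hne
    have h2 : ringKrullDim (S ⧸ m.map (algebraMap R S)) ≤ 0 := by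
      have := Ring.krullDimLE_iff.mp hK0
      simpa using this
    have h3 : ((q.map (Ideal.Quotient.mk (m.map (algebraMap R S)))).height : WithBot ℕ∞) ≤ 0 :=
      h1.trans h2
    have h4 : (q.map (Ideal.Quotient.mk (m.map (algebraMap R S)))).height ≤ 0 := by
      exact_mod_cast h3
    exact le_antisymm h4 zero_le
  -- the local fibre is zero-dimensional
  have hmSq : m.map (algebraMap R Sq) ≤ maximalIdeal Sq := by
    rw [Ideal.map_le_iff_le_comap]
    intro x hx
    rw [Ideal.mem_comap]
    by_contra hnot
    have hu : IsUnit (algebraMap R Sq x) := by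
      by_contra hnu
      exact hnot ((IsLocalRing.mem_maximalIdeal _).mpr hnu)
    have := hloc.map_nonunit x hu
    exact (IsLocalRing.mem_maximalIdeal x).mp hx this
  have hnt : Nontrivial (Sq ⧸ m.map (algebraMap R Sq)) :=
    Ideal.Quotient.nontrivial_iff.mpr (fun h => (Ideal.IsPrime.ne_top (inferInstance : (maximalIdeal Sq).IsPrime))
      (top_le_iff.mp (h ▸ hmSq)))
  have hK0' : Ring.KrullDimLE 0 (Sq ⧸ m.map (algebraMap R Sq)) := by
    rw [Ring.krullDimLE_zero_iff]
    intro P' hP'
    set P1 := P'.comap (Ideal.Quotient.mk (m.map (algebraMap R Sq))) with hP1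
    have hP1prime : P1.IsPrime := Ideal.comap_isPrime _ _
    have hP1le : m.map (algebraMap R Sq) ≤ P1 := by
      intro x hx
      rw [hP1, Ideal.mem_comap, Ideal.Quotient.eq_zero_iff_mem.mpr hx]
      exact zero_mem _
    set P := P1.comap (algebraMap S Sq) with hP
    have hPprime : P.IsPrime := Ideal.comap_isPrime _ _
    have hPle : m.map (algebraMap R S) ≤ P := by
      rw [Ideal.map_le_iff_le_comap]
      intro x hx
      rw [Ideal.mem_comap, hP, Ideal.mem_comap, ← IsScalarTower.algebraMap_apply R S Sq]
      exact hP1le (Ideal.mem_map_of_mem _ hx)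
    have hPmax : P.IsMaximal := isMaximal_of_map_le P hPle
    have hPq : P ≤ q := by
      have h1 : P1 ≤ maximalIdeal Sq := IsLocalRing.le_maximalIdeal (Ideal.IsPrime.ne_top hP1prime)
      have h2 : (maximalIdeal Sq).comap (algebraMap S Sq) = q :=
        IsLocalization.AtPrime.comap_maximalIdeal Sq q
      rw [← h2]
      exact Ideal.comap_mono h1
    have hPeq : P = q := hPmax.eq_of_le (Ideal.IsPrime.ne_top inferInstance) hPq
    have hP1eq : P1 = maximalIdeal Sq := by
      have h1 := IsLocalization.map_comap q.primeCompl Sq P1
      rw [← h1]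
      change Ideal.map (algebraMap S Sq) P = _
      rw [hPeq, IsLocalization.AtPrime.map_eq_maximalIdeal q Sq]
    have : P' = P1.map (Ideal.Quotient.mk (m.map (algebraMap R Sq))) := by
      rw [hP1, Ideal.map_comap_of_surjective _ Ideal.Quotient.mk_surjective]
    have hmax := Ideal.map_eq_top_or_isMaximal_of_surjective
      (Ideal.Quotient.mk (m.map (algebraMap R Sq))) Ideal.Quotient.mk_surjective
      (hP1eq ▸ maximalIdeal.isMaximal Sq : P1.IsMaximal)
    rw [← this] at hmax
    rcases hmax with h | h
    · exact absurd h (Ideal.IsPrime.ne_top hP')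
    · exact h
  have hdim0 : ringKrullDim (Sq ⧸ m.map (algebraMap R Sq)) = 0 := by
    apply le_antisymm
    · have := Ring.krullDimLE_iff.mp hK0'
      simpa using this
    · exact ringKrullDim_nonneg_of_nontrivial
  have hdim : ringKrullDim Sq = ringKrullDim R + ringKrullDim (Sq ⧸ m.map (algebraMap R Sq)) := by
    rw [hdim0, add_zero, IsLocalization.AtPrime.ringKrullDim_eq_height q Sq,
      ← IsLocalRing.maximalIdeal_height_eq_ringKrullDim, hht, hzero, add_zero]
  exact Groth.Agent.Lib.Helper77.MiracleFlat.miracle_flatness hdim

end Groth.Agent.S14670
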