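import Groth.Statements.S14677
import Mathlib.RingTheory.AdicCompletion.Exactness

set_option autoImplicit false
universe u
open CAlg

namespace Groth.Agent.S14677

section aux

variable {R : Type u} [CommRing R] (I : Ideal R)
variable {M N : Type u} [AddCommGroup M] [Module R M] [AddCommGroup N] [Module R N]

theorem map_add_apply (f g : M →ₗ[R] N) (x : AdicCompletion I M) :
    AdicCompletion.map I (f + g) x = AdicCompletion.map I f x + AdicCompletion.map I g x := by
  induction x using AdicCompletion.induction_on with
  | _ a =>
    ext n
    simp

theorem map_smul_apply (r : R) (f : M →ₗ[R] N) (x : AdicCompletion I M) :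
    AdicCompletion.map I (r • f) x = r • AdicCompletion.map I f x := by
  induction x using AdicCompletion.induction_on with
  | _ a =>
    ext n
    simp [AdicCompletion.val_smul_apply]

theorem map_sum_apply {ι : Type*} (s : Finset ι) (f : ι → (M →ₗ[R] N)) (x : AdicCompletion I M) :
    AdicCompletion.map I (∑ i ∈ s, f i) x = ∑ i ∈ s, AdicCompletion.map I (f i) x := by
  classical
  induction s using Finset.induction_on with
  | empty => simp
  | insert a s ha ih => rw [Finset.sum_insert ha, Finset.sum_insert ha, map_add_apply, ih]

end aux

/-- Let A be a Noetherian commutative ring, I and J ideals of A and M a finitely generated A-module.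
Then the map of I-adic completions induced by the inclusion of the submodule JM into M is injective
with image exactly J·M̂, where M̂ is the I-adic completion of M; that is, the completion of JM is J
times the completion of M. (The published statement does not say that A is Noetherian; its proof
uses exactness of completion on finitely generated modules, which needs it, so this row assumes A
Noetherian.) -/
theorem result (A : Type u) [CommRing A] [IsNoetherianRing A] (I J : Ideal A)
    (M : Type u) [AddCommGroup M] [Module A M] [Module.Finite A M] :
    Function.Injective (AdicCompletion.map I (J • (⊤ : Submodule A M)).subtype) ∧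
      LinearMap.range (AdicCompletion.map I (J • (⊤ : Submodule A M)).subtype) =
        (J.map (algebraMap A (AdicCompletion I A))) • (⊤ : Submodule (AdicCompletion I A) (AdicCompletion I M)) := by
  refine ⟨AdicCompletion.map_injective I (Submodule.subtype_injective _), ?_⟩
  apply le_antisymm
  · obtain ⟨s, hs⟩ := (isNoetherianRing_iff_ideal_fg A).mp inferInstance J
    let ψ : (s → M) →ₗ[A] M := ∑ i : s, (i : A) • LinearMap.proj i
    have hψ : ∀ z, ψ z ∈ J • (⊤ : Submodule A M) := by
      intro z
      simp only [ψ, LinearMap.sum_apply, LinearMap.smul_apply, LinearMap.proj_apply]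
      refine Submodule.sum_mem _ (fun i _ => Submodule.smul_mem_smul ?_ Submodule.mem_top)
      rw [← hs]
      exact Ideal.subset_span i.2
    let φ : (s → M) →ₗ[A] ↥(J • (⊤ : Submodule A M)) := ψ.codRestrict _ hψ
    have hφψ : (J • (⊤ : Submodule A M)).subtype ∘ₗ φ = ψ := LinearMap.subtype_comp_codRestrict _ _ _
    have hle : J • (⊤ : Submodule A M) ≤ LinearMap.range ψ := by
      rw [← hs, Submodule.span_smul_eq]
      apply Submodule.set_smul_le
      intro r n hr _
      classical
      refine ⟨Pi.single ⟨r, hr⟩ n, ?_⟩
      simp only [ψ, LinearMap.sum_apply, LinearMap.smul_apply, LinearMap.proj_apply]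
      rw [Finset.sum_eq_single ⟨r, hr⟩]
      · simp
      · intro b _ hb
        simp [Pi.single_eq_of_ne hb]
      · intro h; exact absurd (Finset.mem_univ _) h
    have hφ : Function.Surjective φ := by
      intro y
      obtain ⟨z, hz⟩ := hle y.2
      exact ⟨z, Subtype.ext hz⟩
    rintro _ ⟨y, rfl⟩
    obtain ⟨z, rfl⟩ := AdicCompletion.map_surjective I hφ y
    rw [AdicCompletion.map_comp_apply, hφψ, map_sum_apply]
    refine Submodule.sum_mem _ (fun i _ => ?_)
    rw [map_smul_apply, ← algebraMap_smul (AdicCompletion I A) (i : A)
      (AdicCompletion.map I (LinearMap.proj i) z)]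
    refine Submodule.smul_mem_smul (Ideal.mem_map_of_mem _ ?_) Submodule.mem_top
    rw [← hs]
    exact Ideal.subset_span i.2
  · rw [Submodule.smul_le]
    intro r hr x _
    induction hr using Submodule.span_induction with
    | mem r hr =>
      obtain ⟨j, hj, rfl⟩ := hr
      let μ : M →ₗ[A] ↥(J • (⊤ : Submodule A M)) :=
        (LinearMap.lsmul A M j).codRestrict _
          (fun m => Submodule.smul_mem_smul hj Submodule.mem_top)
      have hμ : (J • (⊤ : Submodule A M)).subtype ∘ₗ μ = j • LinearMap.id :=
        LinearMap.subtype_comp_codRestrict _ _ _
      refine ⟨AdicCompletion.map I μ x, ?_⟩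
      rw [AdicCompletion.map_comp_apply, hμ, map_smul_apply, AdicCompletion.map_id,
        algebraMap_smul]
      rfl
    | zero => rw [zero_smul]; exact Submodule.zero_mem _
    | add a b _ _ ha hb => rw [add_smul]; exact Submodule.add_mem _ ha hb
    | smul a b _ hb => rw [smul_eq_mul, mul_smul]; exact Submodule.smul_mem _ _ hb

end Groth.Agent.S14677
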