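import Groth.Statements.S14678
import Mathlib

set_option autoImplicit false
universe u
open CategoryTheory CategoryTheory.Limits AlgebraicGeometry
open EtBase

set_option linter.unusedSectionVars false

namespace Groth.Agent.S14678Aux
open Polynomial

/-- the data carried through the induction -/
structure Data (A : Type u) [CommRing A] (ℓ : Type u) [Field ℓ] (θ : A →+* ℓ) where
  A' : Type u
  [cr : CommRing A']
  [alg : Algebra A A']
  ψ : A' →+* ℓ
  flat : Module.Flat A A'
  fp : Algebra.FinitePresentation A A'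
  comp : ∀ a, ψ (algebraMap A A' a) = θ a

attribute [instance] Data.cr Data.alg

variable {A : Type u} [CommRing A] {ℓ : Type u} [Field ℓ] {θ : A →+* ℓ}

def IsFrac (D : Data A ℓ θ) (y : ℓ) : Prop := ∃ r s : D.A', D.ψ s ≠ 0 ∧ D.ψ s * y = D.ψ r

lemma IsFrac.zero (D : Data A ℓ θ) : IsFrac D 0 := ⟨0, 1, by simp, by simp⟩

lemma IsFrac.add {D : Data A ℓ θ} {y z : ℓ} (hy : IsFrac D y) (hz : IsFrac D z) : IsFrac D (y + z) := by
  obtain ⟨r1, s1, h1, e1⟩ := hy
  obtain ⟨r2, s2, h2, e2⟩ := hz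
  refine ⟨r1 * s2 + r2 * s1, s1 * s2, by simp [h1, h2], ?_⟩
  simp only [map_mul, map_add, ← e1, ← e2]; ring

lemma IsFrac.mul {D : Data A ℓ θ} {y z : ℓ} (hy : IsFrac D y) (hz : IsFrac D z) : IsFrac D (y * z) := by
  obtain ⟨r1, s1, h1, e1⟩ := hy
  obtain ⟨r2, s2, h2, e2⟩ := hz
  refine ⟨r1 * r2, s1 * s2, by simp [h1, h2], ?_⟩
  simp only [map_mul, ← e1, ← e2]; ring

lemma exists_common_denom (D : Data A ℓ θ) (d : ℕ) (c : ℕ → ℓ) (hc : ∀ j, IsFrac D (c j)) :
    ∃ s : D.A', D.ψ s ≠ 0 ∧ ∀ j < d, ∃ r : D.A', D.ψ s * c j = D.ψ r := by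
  induction d with
  | zero => exact ⟨1, by simp, fun j hj => absurd hj (Nat.not_lt_zero j)⟩
  | succ d ih =>
    obtain ⟨s, hs, h⟩ := ih
    obtain ⟨r', s', hs', e'⟩ := hc d
    refine ⟨s * s', by simp [hs, hs'], fun j hj => ?_⟩
    rcases Nat.lt_succ_iff_lt_or_eq.1 hj with hj | rfl
    · obtain ⟨r, hr⟩ := h j hj
      exact ⟨r * s', by simp only [map_mul, ← hr]; ring⟩
    · exact ⟨s * r', by simp only [map_mul, ← e']; ring⟩

lemma step (D : Data A ℓ θ) (x : ℓ) (m : Polynomial ℓ) (hm : m.Monic) (hx : m.eval x = 0)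
    (hcoef : ∀ j, IsFrac D (m.coeff j)) :
    ∃ D' : Data A ℓ θ, (∀ y, IsFrac D y → IsFrac D' y) ∧ IsFrac D' x := by
  classical
  set d := m.natDegree with hd
  obtain ⟨s, hs, hr⟩ := exists_common_denom D d (fun j => m.coeff j) hcoef
  have hr' : ∀ j, ∃ r : D.A', j < d → D.ψ s * m.coeff j = D.ψ r := by
    intro j
    by_cases hj : j < d
    · obtain ⟨r, hr⟩ := hr j hj; exact ⟨r, fun _ => hr⟩
    · exact ⟨0, fun h => absurd h hj⟩
  choose r hr using hr'
  let P : Polynomial D.A' := ∑ j ∈ Finset.range d, C (s ^ (d - 1 - j) * r j) * X ^ j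
  have hPdeg : P.degree < d := by
    rw [degree_lt_iff_coeff_zero]
    intro k hk
    simp only [P, finsetSum_coeff, coeff_C_mul_X_pow]
    refine Finset.sum_eq_zero (fun j hj => ?_)
    have := Finset.mem_range.1 hj
    rw [if_neg (by omega)]
  let Q : Polynomial D.A' := X ^ d + P
  have hQ : Q.Monic := monic_X_pow_add hPdeg
  have hQ0 : Q.eval₂ D.ψ (D.ψ s * x) = 0 := by
    have hm' : m.eval x = x ^ d + ∑ j ∈ Finset.range d, m.coeff j * x ^ j := by
      conv_lhs => rw [hm.as_sum]
      simp [eval_finsetSum, ← hd]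
    have : Q.eval₂ D.ψ (D.ψ s * x) = D.ψ s ^ d * m.eval x := by
      rw [hm', mul_add, Finset.mul_sum]
      simp only [Q, P, eval₂_add, eval₂_pow, eval₂_X, eval₂_finsetSum, eval₂_mul, eval₂_C, map_mul,
        map_pow, mul_pow]
      congr 1
      refine Finset.sum_congr rfl (fun j hj => ?_)
      have hj' := Finset.mem_range.1 hj
      rw [← hr j hj']
      have : d = (d - 1 - j) + 1 + j := by omega
      conv_rhs => rw [this]
      ring
    rw [this, hx, mul_zero]
  haveI : Module.Flat A D.A' := D.flat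
  haveI : Algebra.FinitePresentation A D.A' := D.fp
  haveI : Module.Free D.A' (AdjoinRoot Q) := hQ.free_adjoinRoot
  refine ⟨{ A' := AdjoinRoot Q
            ψ := AdjoinRoot.lift D.ψ (D.ψ s * x) hQ0
            flat := Module.Flat.trans A D.A' (AdjoinRoot Q)
            fp := Algebra.FinitePresentation.trans A D.A' (AdjoinRoot Q)
            comp := fun a => by
              show AdjoinRoot.lift D.ψ (D.ψ s * x) hQ0 (AdjoinRoot.of Q (algebraMap A D.A' a)) = θ a
              rw [AdjoinRoot.lift_of, D.comp] }, ?_, ?_⟩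
  · rintro y ⟨r0, s0, h0, e0⟩
    refine ⟨AdjoinRoot.of Q r0, AdjoinRoot.of Q s0, ?_, ?_⟩
    · show AdjoinRoot.lift D.ψ (D.ψ s * x) hQ0 (AdjoinRoot.of Q s0) ≠ 0
      rw [AdjoinRoot.lift_of]; exact h0
    · show AdjoinRoot.lift D.ψ (D.ψ s * x) hQ0 (AdjoinRoot.of Q s0) * y =
        AdjoinRoot.lift D.ψ (D.ψ s * x) hQ0 (AdjoinRoot.of Q r0)
      rw [AdjoinRoot.lift_of, AdjoinRoot.lift_of]; exact e0
  · refine ⟨AdjoinRoot.root Q, AdjoinRoot.of Q s, ?_, ?_⟩
    · show AdjoinRoot.lift D.ψ (D.ψ s * x) hQ0 (AdjoinRoot.of Q s) ≠ 0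
      rw [AdjoinRoot.lift_of]; exact hs
    · show AdjoinRoot.lift D.ψ (D.ψ s * x) hQ0 (AdjoinRoot.of Q s) * x =
        AdjoinRoot.lift D.ψ (D.ψ s * x) hQ0 (AdjoinRoot.root Q)
      rw [AdjoinRoot.lift_of, AdjoinRoot.lift_root]

lemma main_ring (A : Type u) [CommRing A] (κ ℓ : Type u) [Field κ] [Field ℓ] [Algebra κ ℓ]
    [Module.Finite κ ℓ] (θ₀ : A →+* κ)
    (hθ₀ : ∀ c : κ, ∃ r s : A, θ₀ s ≠ 0 ∧ θ₀ s * c = θ₀ r) :
    ∃ D : Data A ℓ ((algebraMap κ ℓ).comp θ₀), ∀ y : ℓ, IsFrac D y := by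
  classical
  have key : ∀ T : Finset ℓ, ∃ D : Data A ℓ ((algebraMap κ ℓ).comp θ₀),
      (∀ c : κ, IsFrac D (algebraMap κ ℓ c)) ∧ ∀ x ∈ T, IsFrac D x := by
    intro T
    induction T using Finset.induction_on with
    | empty =>
      refine ⟨{ A' := A
                ψ := (algebraMap κ ℓ).comp θ₀
                flat := Module.Flat.self
                fp := Algebra.FinitePresentation.self A
                comp := fun a => rfl }, ?_, by simp⟩
      intro c
      obtain ⟨r, s, hs, e⟩ := hθ₀ c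
      refine ⟨r, s, ?_, ?_⟩
      · show algebraMap κ ℓ (θ₀ s) ≠ 0
        simpa using hs
      · show algebraMap κ ℓ (θ₀ s) * algebraMap κ ℓ c = algebraMap κ ℓ (θ₀ r)
        rw [← map_mul, e]
    | insert x T hx ih =>
      obtain ⟨D, hD1, hD2⟩ := ih
      have hint : IsIntegral κ x := Algebra.IsIntegral.isIntegral x
      obtain ⟨D', h1, h2⟩ := step D x ((minpoly κ x).map (algebraMap κ ℓ))
        ((minpoly.monic hint).map _) (by rw [eval_map_algebraMap, minpoly.aeval])
        (fun j => by rw [coeff_map]; exact hD1 _)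
      refine ⟨D', fun c => h1 _ (hD1 c), fun y hy => ?_⟩
      rcases Finset.mem_insert.1 hy with rfl | hy
      · exact h2
      · exact h1 _ (hD2 y hy)
  obtain ⟨T, hT⟩ := (Module.Finite.fg_top (R := κ) (M := ℓ))
  obtain ⟨D, hD1, hD2⟩ := key T
  refine ⟨D, fun y => ?_⟩
  have hy : y ∈ Submodule.span κ (T : Set ℓ) := by rw [hT]; trivial
  induction hy using Submodule.span_induction with
  | mem x hx => exact hD2 x hx
  | zero => exact IsFrac.zero D
  | add x y _ _ hx hy => exact hx.add hy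
  | smul c x _ hx =>
    rw [Algebra.smul_def]
    exact (hD1 c).mul hx

open AlgebraicGeometry CategoryTheory in
lemma glue {S : Scheme.{u}} {U : S.Opens} (hU : IsAffineOpen U) (s : S) (hs : s ∈ U)
    {L A' : CommRingCat.{u}} (g : S.residueField s ⟶ L) (a : Γ(S, U) ⟶ A') (ψ : A' ⟶ L)
    (h : a ≫ ψ = (S.presheaf.germ U s hs ≫ S.residue s) ≫ g) :
    Spec.map ψ ≫ Spec.map a ≫ hU.fromSpec = Spec.map g ≫ S.fromSpecResidueField s := by
  rw [← Category.assoc, ← Spec.map_comp, h, Spec.map_comp, Spec.map_comp, Category.assoc,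
    Category.assoc, Scheme.fromSpecResidueField, ← hU.fromSpecStalk_eq_fromSpecStalk hs,
    IsAffineOpen.fromSpecStalk]

end Groth.Agent.S14678Aux

namespace Groth.Agent.S14678

/-- Let S be a scheme, s a point of S and ℓ a finite field extension of the residue field κ(s). Then,
fppf-locally around s, ℓ occurs as a residue field: there are an affine scheme U', a flat morphism b
: U' ⟶ S locally of finite presentation (so with open image containing s) and a morphism t : Spec ℓ
⟶ U' over the canonical morphism Spec ℓ ⟶ Spec κ(s) ⟶ S which is a preimmersion, i.e. the inclusion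
of a point s' of U' above s together with an identification of κ(s') with ℓ over κ(s); such a point
is closed in its fibre over s. (The published statement gives an affine open neighbourhood U of s
and an fppf morphism U' ⟶ U; this row asks only for a flat, locally finitely presented U' ⟶ S, whose
open image then contains s.) -/
theorem result (S : Scheme.{u}) (s : ↥S)
    (ℓ : Type u) [Field ℓ] [Algebra (S.residueField s) ℓ] [Module.Finite (S.residueField s) ℓ] :
    ∃ (U' : Scheme.{u}) (b : U' ⟶ S) (t : Spec (CommRingCat.of ℓ) ⟶ U'),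
      IsAffine U' ∧ Flat b ∧ LocallyOfFinitePresentation b ∧ IsPreimmersion t ∧
        t ≫ b = Spec.map (CommRingCat.ofHom (algebraMap (S.residueField s) ℓ)) ≫ S.fromSpecResidueField s := by
  obtain ⟨U, hU, hs, -⟩ := AlgebraicGeometry.exists_isAffineOpen_mem_and_subset
    (X := S) (x := s) (U := ⊤) trivial
  let θ₀ : Γ(S, U) →+* S.residueField s := (S.presheaf.germ U s hs ≫ S.residue s).hom
  have hθ₀ : ∀ c : S.residueField s, ∃ r s' : Γ(S, U), θ₀ s' ≠ 0 ∧ θ₀ s' * c = θ₀ r := by
    intro c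
    obtain ⟨z, rfl⟩ := IsLocalRing.residue_surjective c
    letI := S.presheaf.algebra_section_stalk ⟨s, hs⟩
    have hloc := hU.isLocalization_stalk ⟨s, hs⟩
    obtain ⟨⟨a, m⟩, ham⟩ := IsLocalization.surj (hU.primeIdealOf ⟨s, hs⟩).asIdeal.primeCompl z
    have hunit : IsUnit (algebraMap Γ(S, U) (S.presheaf.stalk s) m) :=
      IsLocalization.map_units (S.presheaf.stalk s) m
    refine ⟨a, m, ?_, ?_⟩
    · show IsLocalRing.residue _ (algebraMap Γ(S, U) (S.presheaf.stalk s) m) ≠ 0
      exact (hunit.map (IsLocalRing.residue _)).ne_zero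
    · show IsLocalRing.residue _ (algebraMap Γ(S, U) (S.presheaf.stalk s) m) * IsLocalRing.residue _ z =
        IsLocalRing.residue _ (algebraMap Γ(S, U) (S.presheaf.stalk s) a)
      rw [← map_mul, mul_comm, ham]
  obtain ⟨D, hD⟩ := Groth.Agent.S14678Aux.main_ring Γ(S, U) (S.residueField s) ℓ θ₀ hθ₀
  refine ⟨Spec (CommRingCat.of D.A'),
    Spec.map (CommRingCat.ofHom (algebraMap Γ(S, U) D.A')) ≫ hU.fromSpec,
    Spec.map (CommRingCat.ofHom D.ψ), inferInstance, ?_, ?_, ?_, ?_⟩
  · have : Flat (Spec.map (CommRingCat.ofHom (algebraMap Γ(S, U) D.A'))) := by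
      rw [Flat.SpecMap_iff]
      show (algebraMap Γ(S, U) D.A').Flat
      rw [RingHom.flat_algebraMap_iff]
      exact D.flat
    infer_instance
  · have : LocallyOfFinitePresentation (Spec.map (CommRingCat.ofHom (algebraMap Γ(S, U) D.A'))) := by
      rw [LocallyOfFinitePresentation.SpecMap_iff]
      show (algebraMap Γ(S, U) D.A').FinitePresentation
      rw [RingHom.finitePresentation_algebraMap]
      exact D.fp
    infer_instance
  · apply IsPreimmersion.mk_SpecMap
    · exact Topology.IsEmbedding.of_subsingleton _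
    · apply RingHom.surjectiveOnStalks_of_exists_div
      intro y
      obtain ⟨r, s', hs', e⟩ := hD y
      exact ⟨r, s', isUnit_iff_ne_zero.2 hs', e⟩
  · refine Groth.Agent.S14678Aux.glue hU s hs
      (CommRingCat.ofHom (algebraMap (S.residueField s) ℓ))
      (CommRingCat.ofHom (algebraMap Γ(S, U) D.A')) (CommRingCat.ofHom D.ψ) ?_
    ext a
    exact D.comp a

end Groth.Agent.S14678
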