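import Groth.Statements.S14679
import Mathlib.AlgebraicGeometry.PullbackCarrier

set_option autoImplicit false
universe u
open CategoryTheory CategoryTheory.Limits AlgebraicGeometry
open EtBase

namespace Groth.Agent.S14679

open AlgebraicGeometry.Scheme.Pullback in
theorem subsingleton_tensor {X Y Z : Scheme.{u}} (f : X ⟶ Y) (g : Z ⟶ Y) (x : ↥X)
    (hx : Function.Bijective (f.residueFieldMap x).hom)
    (T : Triplet f g) (hT : T.x = x) : Subsingleton ↥(Spec T.tensor) := by
  obtain ⟨x', z, s, h1, h2⟩ := T
  simp only at hT
  subst hT
  subst h1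
  haveI : IsIso (f.residueFieldMap x') := by
    rw [ConcreteCategory.isIso_iff_bijective]
    exact hx
  haveI : IsIso ((Y.residueFieldCongr (rfl : f.base x' = f.base x')).inv ≫ f.residueFieldMap x') :=
    inferInstance
  let T : Triplet f g := ⟨x', z, f.base x', rfl, h2⟩
  haveI : IsIso T.tensorInr := by
    show IsIso (pushout.inr ((Y.residueFieldCongr (rfl : f.base x' = f.base x')).inv ≫
      f.residueFieldMap x') _)
    infer_instance
  let e : Spec T.tensor ≅ Spec (Z.residueField z) := asIso (Spec.map T.tensorInr)
  have hsub : Subsingleton ↥(Spec (Z.residueField z)) := by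
    show Subsingleton (PrimeSpectrum (Z.residueField z))
    infer_instance
  exact (e.hom.homeomorph.injective).subsingleton

/-- Given a morphism of schemes f : X ⟶ Y and a point x ∈ X with image y = f(x), such that the residue
field map κ(y) → κ(x) is bijective; let ℓ be an algebraic extension field of κ(y) and form the base
change X ×_Y Spec ℓ along Spec ℓ ⟶ Spec κ(y) ⟶ Y. Then there is exactly one point of X ×_Y Spec ℓ
mapping to x under the first projection. (The published statement takes ℓ to be an algebraic closure
of κ(y), noting that any algebraic extension works, and also identifies the local ring at the point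
with O_{X,x} ⊗_{O_{Y,y}} ℓ; this row allows any algebraic extension ℓ and states only the first
assertion.) -/
theorem result {X Y : Scheme.{u}} (f : X ⟶ Y) (x : ↥X)
    (hx : Function.Bijective (f.residueFieldMap x).hom)
    (ℓ : Type u) [Field ℓ] [Algebra (Y.residueField (f.base x)) ℓ] [Algebra.IsAlgebraic (Y.residueField (f.base x)) ℓ] :
    ∃! z : ↥(pullback f (Spec.map (CommRingCat.ofHom (algebraMap (Y.residueField (f.base x)) ℓ)) ≫ Y.fromSpecResidueField (f.base x))),
      (pullback.fst f (Spec.map (CommRingCat.ofHom (algebraMap (Y.residueField (f.base x)) ℓ)) ≫ Y.fromSpecResidueField (f.base x))).base z = x := by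
  set g := Spec.map (CommRingCat.ofHom (algebraMap (Y.residueField (f.base x)) ℓ)) ≫
    Y.fromSpecResidueField (f.base x) with hg
  have hsubℓ : Subsingleton ↥(Spec (CommRingCat.of ℓ)) := by
    show Subsingleton (PrimeSpectrum ℓ)
    infer_instance
  let pt : ↥(Spec (CommRingCat.of ℓ)) := (⊥ : PrimeSpectrum ℓ)
  have hpt : f.base x = g.base pt := by
    rw [hg, Scheme.Hom.comp_base, TopCat.comp_app]
    exact (Scheme.fromSpecResidueField_apply _ _).symm
  obtain ⟨z, hz1, hz2⟩ := Scheme.Pullback.exists_preimage_pullback (f := f) (g := g) x pt hpt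
  refine ⟨z, hz1, ?_⟩
  intro z' hz'
  apply Scheme.Pullback.carrierEquiv.injective
  rw [Scheme.Pullback.carrierEquiv_eq_iff]
  have e : (Scheme.Pullback.carrierEquiv z').1 = (Scheme.Pullback.carrierEquiv z).1 := by
    apply Scheme.Pullback.Triplet.ext
    · show (pullback.fst f g).base z' = (pullback.fst f g).base z
      rw [hz', hz1]
    · exact Subsingleton.elim _ _
  refine ⟨e, ?_⟩
  have hT : (Scheme.Pullback.carrierEquiv z).1.x = x := hz1
  haveI := subsingleton_tensor f g x hx _ hT
  exact Subsingleton.elim _ _

end Groth.Agent.S14679
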