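import Groth.Statements.S14680
import Mathlib.RingTheory.AdicCompletion.Exactness
import Mathlib.RingTheory.Finiteness.Nakayama
import Mathlib.Tactic.Ring

set_option autoImplicit false
universe u
open CAlg

namespace Groth.Agent.S14680

theorem subsingleton_of_forall (A : Type u) [CommRing A]
    (H : Type u) [AddCommGroup H] [Module A H] [Module.Finite A H]
    (h : ∀ (m : Ideal A) [m.IsMaximal], Subsingleton (AdicCompletion m H)) : Subsingleton H := by
  by_contra hH
  rw [not_subsingleton_iff_nontrivial] at hH
  have hann : (Module.annihilator A H) ≠ ⊤ := by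
    intro htop
    have h1 : (1 : A) ∈ Module.annihilator A H := htop ▸ Submodule.mem_top
    rw [Module.mem_annihilator] at h1
    obtain ⟨x, y, hxy⟩ := exists_pair_ne H
    apply hxy
    rw [← one_smul A x, ← one_smul A y, h1 x, h1 y]
  obtain ⟨m, hm, hle⟩ := Ideal.exists_le_maximal _ hann
  haveI := hm
  have hsub := h m
  have htop : (⊤ : Submodule A H) ≤ m • (⊤ : Submodule A H) := by
    intro x _
    have hs : Subsingleton (H ⧸ (m ^ 1 • ⊤ : Submodule A H)) :=
      (AdicCompletion.eval_surjective m H 1).subsingleton
    have h0 : Submodule.Quotient.mk (p := (m ^ 1 • ⊤ : Submodule A H)) x = 0 :=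
      Subsingleton.elim _ _
    rw [Submodule.Quotient.mk_eq_zero, pow_one] at h0
    exact h0
  obtain ⟨r, hr1, hr⟩ := Submodule.exists_sub_one_mem_and_smul_eq_zero_of_fg_of_le_smul m ⊤
    Module.Finite.fg_top htop
  have hrann : r ∈ Module.annihilator A H := by
    rw [Module.mem_annihilator]; intro x; exact hr x Submodule.mem_top
  have hrm : r ∈ m := hle hrann
  have h1 : (1 : A) ∈ m := by
    have e : (1 : A) = r - (r - 1) := by ring
    rw [e]; exact m.sub_mem hrm hr1
  exact hm.ne_top ((Ideal.eq_top_iff_one _).mpr h1)

theorem forward (A : Type u) [CommRing A] [IsNoetherianRing A]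
    (M' M M'' : Type u) [AddCommGroup M'] [Module A M'] [AddCommGroup M] [Module A M]
    [AddCommGroup M''] [Module A M'']
    [Module.Finite A M'] [Module.Finite A M] [Module.Finite A M'']
    (f : M' →ₗ[A] M) (g : M →ₗ[A] M'')
    (h : Function.Injective f ∧ Function.Exact f g ∧ Function.Surjective g) (m : Ideal A) :
    Function.Injective (AdicCompletion.map m f) ∧
      Function.Exact (AdicCompletion.map m f) (AdicCompletion.map m g) ∧
        Function.Surjective (AdicCompletion.map m g) :=
  ⟨AdicCompletion.map_injective m h.1, AdicCompletion.map_exact h.1 h.2.1 h.2.2,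
    AdicCompletion.map_surjective m h.2.2⟩

theorem backward_inj (A : Type u) [CommRing A] [IsNoetherianRing A]
    (M' M : Type u) [AddCommGroup M'] [Module A M'] [AddCommGroup M] [Module A M]
    [Module.Finite A M'] [Module.Finite A M]
    (f : M' →ₗ[A] M)
    (h : ∀ (m : Ideal A) [m.IsMaximal], Function.Injective (AdicCompletion.map m f)) :
    Function.Injective f := by
  rw [← LinearMap.ker_eq_bot]
  have hsub : Subsingleton (LinearMap.ker f) := by
    apply subsingleton_of_forall A
    intro m _
    have hι : Function.Injective (AdicCompletion.map m (LinearMap.ker f).subtype) :=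
      AdicCompletion.map_injective m (Submodule.subtype_injective _)
    refine ⟨fun x y => hι ?_⟩
    apply h m
    have hcomp : f ∘ₗ (LinearMap.ker f).subtype = 0 := by
      ext x; exact x.2
    rw [AdicCompletion.map_comp_apply, AdicCompletion.map_comp_apply, hcomp,
      AdicCompletion.map_zero]
    rfl
  exact Submodule.eq_bot_of_subsingleton

theorem backward_surj (A : Type u) [CommRing A] [IsNoetherianRing A]
    (M M'' : Type u) [AddCommGroup M] [Module A M] [AddCommGroup M''] [Module A M'']
    [Module.Finite A M] [Module.Finite A M'']
    (g : M →ₗ[A] M'')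
    (h : ∀ (m : Ideal A) [m.IsMaximal], Function.Surjective (AdicCompletion.map m g)) :
    Function.Surjective g := by
  rw [← LinearMap.range_eq_top]
  have hsub : Subsingleton (M'' ⧸ LinearMap.range g) := by
    apply subsingleton_of_forall A
    intro m _
    have hπ : Function.Surjective (AdicCompletion.map m (LinearMap.range g).mkQ) :=
      AdicCompletion.map_surjective m (Submodule.mkQ_surjective _)
    have hcomp : (LinearMap.range g).mkQ ∘ₗ g = 0 := LinearMap.range_mkQ_comp g
    have key : ∀ x, AdicCompletion.map m (LinearMap.range g).mkQ x = 0 := by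
      intro x
      obtain ⟨y, rfl⟩ := h m x
      rw [AdicCompletion.map_comp_apply, hcomp, AdicCompletion.map_zero]
      rfl
    refine ⟨fun x y => ?_⟩
    obtain ⟨x', rfl⟩ := hπ x
    obtain ⟨y', rfl⟩ := hπ y
    rw [key, key]
  exact Submodule.Quotient.subsingleton_iff.mp hsub

theorem backward_comp (A : Type u) [CommRing A] [IsNoetherianRing A]
    (M' M'' : Type u) [AddCommGroup M'] [Module A M'] [AddCommGroup M''] [Module A M'']
    [Module.Finite A M'] [Module.Finite A M'']
    (k : M' →ₗ[A] M'')
    (h : ∀ (m : Ideal A) [m.IsMaximal], AdicCompletion.map m k = 0) :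
    k = 0 := by
  have hsub : Subsingleton (LinearMap.range k) := by
    apply subsingleton_of_forall A
    intro m _
    have hj : Function.Injective (AdicCompletion.map m (LinearMap.range k).subtype) :=
      AdicCompletion.map_injective m (Submodule.subtype_injective _)
    have hk' : Function.Surjective (AdicCompletion.map m k.rangeRestrict) :=
      AdicCompletion.map_surjective m k.surjective_rangeRestrict
    have hcomp : (LinearMap.range k).subtype ∘ₗ k.rangeRestrict = k := LinearMap.subtype_comp_codRestrict _ _ _
    have key : ∀ y, AdicCompletion.map m (LinearMap.range k).subtype y = 0 := by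
      intro y
      obtain ⟨x, rfl⟩ := hk' y
      rw [AdicCompletion.map_comp_apply, hcomp, h m]
      rfl
    refine ⟨fun x y => hj ?_⟩
    rw [key, key]
  rw [← LinearMap.range_eq_bot]
  exact Submodule.eq_bot_of_subsingleton

theorem backward_exact (A : Type u) [CommRing A] [IsNoetherianRing A]
    (M' M M'' : Type u) [AddCommGroup M'] [Module A M'] [AddCommGroup M] [Module A M]
    [AddCommGroup M''] [Module A M'']
    [Module.Finite A M'] [Module.Finite A M] [Module.Finite A M'']
    (f : M' →ₗ[A] M) (g : M →ₗ[A] M'')
    (hg : Function.Surjective g) (hgf : g ∘ₗ f = 0)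
    (h : ∀ (m : Ideal A) [m.IsMaximal],
      Function.Exact (AdicCompletion.map m f) (AdicCompletion.map m g)) :
    Function.Exact f g := by
  let K := LinearMap.ker g
  have hfK : ∀ x, f x ∈ K := fun x => by
    show g (f x) = 0
    have := congrArg (fun φ => φ x) hgf
    simpa using this
  let f' : M' →ₗ[A] K := f.codRestrict K hfK
  have hf' : K.subtype ∘ₗ f' = f := LinearMap.subtype_comp_codRestrict _ _ _
  have hsurj : Function.Surjective f' := by
    rw [← LinearMap.range_eq_top]
    have hsub : Subsingleton (K ⧸ LinearMap.range f') := by
      apply subsingleton_of_forall A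
      intro m _
      have hπ : Function.Surjective (AdicCompletion.map m (LinearMap.range f').mkQ) :=
        AdicCompletion.map_surjective m (Submodule.mkQ_surjective _)
      have hι : Function.Injective (AdicCompletion.map m K.subtype) :=
        AdicCompletion.map_injective m (Submodule.subtype_injective _)
      have hex : Function.Exact (AdicCompletion.map m K.subtype) (AdicCompletion.map m g) :=
        AdicCompletion.map_exact (Submodule.subtype_injective _)
          (LinearMap.exact_subtype_ker_map g) hg
      have hcomp : (LinearMap.range f').mkQ ∘ₗ f' = 0 := LinearMap.range_mkQ_comp f'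
      have key : ∀ y, AdicCompletion.map m (LinearMap.range f').mkQ y = 0 := by
        intro y
        have h1 : AdicCompletion.map m g (AdicCompletion.map m K.subtype y) = 0 :=
          hex.apply_apply_eq_zero y
        obtain ⟨x, hx⟩ := (h m _).mp h1
        have h2 : AdicCompletion.map m K.subtype (AdicCompletion.map m f' x) =
            AdicCompletion.map m K.subtype y := by
          rw [AdicCompletion.map_comp_apply, hf', hx]
        have h3 := hι h2
        rw [← h3, AdicCompletion.map_comp_apply, hcomp, AdicCompletion.map_zero]
        rfl
      refine ⟨fun x y => ?_⟩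
      obtain ⟨x', rfl⟩ := hπ x
      obtain ⟨y', rfl⟩ := hπ y
      rw [key, key]
    exact Submodule.Quotient.subsingleton_iff.mp hsub
  intro y
  constructor
  · intro hy
    obtain ⟨x, hx⟩ := hsurj ⟨y, hy⟩
    refine ⟨x, ?_⟩
    have := congrArg Subtype.val hx
    simpa [f'] using this
  · rintro ⟨x, rfl⟩
    exact hfK x

/-- Let A be a Noetherian commutative ring and f : M' → M, g : M → M'' linear maps between finitely
generated A-modules. Then the sequence 0 → M' → M → M'' → 0 is exact — f injective, the image of f
equal to the kernel of g, g surjective — if and only if for every maximal ideal m of A the sequence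
of m-adic completions 0 → M'^ → M^ → M''^ → 0 (maps induced by f and g) is exact in the same sense. -/
theorem result (A : Type u) [CommRing A] [IsNoetherianRing A]
    (M' M M'' : Type u) [AddCommGroup M'] [Module A M'] [AddCommGroup M] [Module A M] [AddCommGroup M''] [Module A M'']
    [Module.Finite A M'] [Module.Finite A M] [Module.Finite A M''] (f : M' →ₗ[A] M) (g : M →ₗ[A] M'') :
    (Function.Injective f ∧ Function.Exact f g ∧ Function.Surjective g) ↔
      ∀ (m : Ideal A) [m.IsMaximal],
        Function.Injective (AdicCompletion.map m f) ∧ Function.Exact (AdicCompletion.map m f) (AdicCompletion.map m g) ∧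
          Function.Surjective (AdicCompletion.map m g) := by
  constructor
  · intro h m _
    exact forward A M' M M'' f g h m
  · intro h
    have hinj := backward_inj A M' M f (fun m _ => (h m).1)
    have hsurj := backward_surj A M M'' g (fun m _ => (h m).2.2)
    have hgf : g ∘ₗ f = 0 := by
      apply backward_comp A M' M''
      intro m _
      rw [← AdicCompletion.map_comp]
      exact (h m).2.1.linearMap_comp_eq_zero
    exact ⟨hinj, backward_exact A M' M M'' f g hsurj hgf (fun m _ => (h m).2.1), hsurj⟩

end Groth.Agent.S14680
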