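import Groth.Statements.S14684
import Groth.Agent.Lib.Lead.SekZar
import Groth.Agent.Lib.Helper56.SekAffine
import Groth.Agent.Lib.Helper84.SekFlat
import Groth.Agent.Lib.Helper90.SekSmooth
import Groth.Agent.Lib.Helper33.SekEpsMul
import Groth.Agent.Lib.Helper75.SekLocalUnit
import Groth.Agent.Lib.Helper99.SekGmIso

set_option autoImplicit false
universe u
open CategoryTheory AlgebraicGeometry
open SekSuwa

namespace Groth.Agent.S14684

/-- Let R be a discrete valuation ring of characteristic zero and residue characteristic p, λ ≠ 0 in R,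
and X a scheme which is faithfully flat over Spec R. Then every torsor for the fppf topology over X
under (the base change to X of) the affine R-group G^(λ) = Spec R[T, 1/(1+λT)], with group law s + t
+ λst, is locally trivial for the Zariski topology; that is, the first higher direct image of G^(λ)
under the morphism from the flat site to the Zariski site of X vanishes, and fppf and Zariski H¹ of
X with coefficients in G^(λ) agree. -/
theorem result (R : Type u) [CommRing R] [IsDomain R] [IsDiscreteValuationRing R] [CharZero R]
    (p : ℕ) [Fact p.Prime] [CharP (IsLocalRing.ResidueField R) p]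
    (lam : R) (hlam : lam ≠ 0)
    (X : Scheme.{u}) (f : X ⟶ Spec (CommRingCat.of R)) [Flat f] [Surjective f]
    (P : Over X) (a : AlgGrp.Action (Red.bc f (SekSuwa.G R lam)) P)
    (hP : NonAbH1.IsTorsorFor Scheme.fppfPrecoverage a) :
    NonAbH1.IsTorsorFor Scheme.zariskiPrecoverage a := by
  haveI := Groth.Agent.Lib.Helper84.SekFlat.isAffineHom_bc_Gm R f
  haveI := Groth.Agent.Lib.Helper84.SekFlat.isAffineHom_bc_G R lam f
  haveI := Groth.Agent.Lib.Helper84.SekFlat.flat_bc R lam f
  haveI := Groth.Agent.Lib.Helper84.SekFlat.surjective_bc_Gm R f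
  haveI := Groth.Agent.Lib.Helper90.SekSmooth.smooth_bc_Gm R f
  haveI := Groth.Agent.Lib.Helper90.SekSmooth.locallyOfFinitePresentation_bc R lam f
  exact Groth.Agent.Lib.Lead.SekZar.isTorsorFor_zariski R lam f hlam
    (fun T _ h hres => Groth.Agent.Lib.Helper56.SekAffine.exists_eq_one_add_mul R lam f T h hres)
    (fun Q b hps hsm hsurj A _ j =>
      haveI := hsm
      haveI := hsurj
      Groth.Agent.Lib.Helper99.SekGmIso.exists_section_local_diag R f
        (Groth.Agent.Lib.Helper33.SekEpsMul.eps_mul R f) Q b hps A j)
    (fun Uo _ _ hbar => Groth.Agent.Lib.Helper75.SekLocalUnit.exists_lift_local R lam f Uo hbar)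
    P a hP

end Groth.Agent.S14684
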