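import Groth.Statements.S14688
import Groth.Agent.S14694
import Groth.Agent.Lib.Lead.SekSuwaGeneric
import Groth.Agent.Lib.Lead.TorsorPush2
import Groth.Agent.Lib.Lead.TorsorFinite
import Groth.Agent.Lib.Lead.NormalSection

set_option autoImplicit false
universe u
open CategoryTheory AlgebraicGeometry
open SekSuwa

namespace Groth.Agent.S14688

/-- Let R be a discrete valuation ring of characteristic zero and residue characteristic p, n ≥ 1, λ ∈ R
satisfying the divisibility condition under which the finite flat R-group scheme G_{λ,n} (the kernel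
of ψ on the one-parameter group with law s + t + λst, of order p^n) and its homomorphism α^{λ,n} to
μ_{p^n} are defined, and X a normal integral scheme which is faithfully flat over Spec R. If an fppf
torsor P over X under G_{λ,n} becomes trivial after extension of the structure group along α^{λ,n} —
there is an fppf μ_{p^n}-torsor P' over X with an α^{λ,n}-equivariant X-morphism P → P', and P' has
a section over X — then P has a section over X. So H¹(X, G_{λ,n}) → H¹(X, μ_{p^n}) has trivial
kernel, and the groups H¹(X, G_{π^i,n}) for decreasing i form an increasing filtration of H¹(X,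
μ_{p^n}). (The published statement is the filtration itself, for the commutative groups in question
injectivity of these homomorphisms; the trivial-kernel assertion stated here is what the argument
establishes.) -/
theorem result (R : Type u) [CommRing R] [IsDomain R] [IsDiscreteValuationRing R] [CharZero R]
    (p : ℕ) [Fact p.Prime] [CharP (IsLocalRing.ResidueField R) p]
    (n : ℕ) (hn : 0 < n) (lam : R) (h : SekSuwa.DivCond lam (p ^ n))
    (X : Scheme.{u}) [IsIntegral X] (hX : Pi1.IsNormalScheme X)
    (f : X ⟶ Spec (CommRingCat.of R)) [Flat f] [Surjective f]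
    (P : Over X) (a : AlgGrp.Action (Red.bc f (SekSuwa.GK R lam (p ^ n) h)) P)
    (hP : NonAbH1.IsTorsorFor Scheme.fppfPrecoverage a)
    (P' : Over X) (a' : AlgGrp.Action (Red.bc f (Red.diag R (ZMod (p ^ n)))) P')
    (hP' : NonAbH1.IsTorsorFor Scheme.fppfPrecoverage a')
    (hpush : NonAbH1.IsPushforwardAlongSch ((Over.pullback f).map (SekSuwa.alphaN R lam (p ^ n) h)) a a')
    (htriv : NonAbH1.HasSectionOver P' (𝟙 X)) :
    NonAbH1.HasSectionOver P (𝟙 X) := by
  have hpn : 0 < p ^ n := pow_pos (Fact.out : p.Prime).pos n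
  haveI : NeZero (p ^ n) := ⟨hpn.ne'⟩
  have hfin := Groth.Agent.S14694.result R lam (p ^ n) hpn h
  haveI : IsFinite (SekSuwa.GK R lam (p ^ n) h).hom := hfin.1.1
  haveI : IsFinite (Red.bc f (SekSuwa.GK R lam (p ^ n) h)).hom := by
    change IsFinite (Limits.pullback.snd _ _)
    infer_instance
  have hlam : lam ≠ 0 := nonZeroDivisors.ne_zero h.nzd
  obtain ⟨x₀, hx₀⟩ := f.surjective (⟨⊥, Ideal.isPrime_bot⟩ : PrimeSpectrum R)
  have hbij : ∀ T₀ : Over (Spec (X.presheaf.stalk (genericPoint X))), Function.Bijective
      (fun k : (Over.map (X.fromSpecStalk (genericPoint X))).obj T₀ ⟶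
        Red.bc f (SekSuwa.GK R lam (p ^ n) h) =>
        k ≫ (Over.pullback f).map (SekSuwa.alphaN R lam (p ^ n) h)) := by
    intro T₀
    apply Groth.Agent.Lib.Lead.SekSuwaGeneric.bijective_bc f (SekSuwa.alphaN R lam (p ^ n) h)
    apply Groth.Agent.Lib.Lead.SekSuwaGeneric.alphaN_comp_bijective
    apply Groth.Agent.Lib.Lead.SekSuwaGeneric.isUnit_pt
    intro z hz
    have hy : (X.fromSpecStalk (genericPoint X)) (T₀.hom z) ⤳ genericPoint X := by
      have hmem : (X.fromSpecStalk (genericPoint X)) (T₀.hom z) ∈
          Set.range (X.fromSpecStalk (genericPoint X)) := ⟨_, rfl⟩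
      rw [Scheme.range_fromSpecStalk] at hmem
      exact hmem
    have hy2 : (X.fromSpecStalk (genericPoint X)) (T₀.hom z) ⤳ x₀ :=
      hy.trans (genericPoint_specializes x₀)
    have hy3 := hy2.map f.continuous
    rw [hx₀] at hy3
    have hy4 : (f ((X.fromSpecStalk (genericPoint X)) (T₀.hom z))).asIdeal ≤ (⊥ : Ideal R) :=
      (PrimeSpectrum.le_iff_specializes
        (f ((X.fromSpecStalk (genericPoint X)) (T₀.hom z)) : PrimeSpectrum R)
        ⟨⊥, Ideal.isPrime_bot⟩).mpr hy3
    have hz' : lam ∈ (f ((X.fromSpecStalk (genericPoint X)) (T₀.hom z))).asIdeal := hz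
    have : lam ∈ (⊥ : Ideal R) := hy4 hz'
    exact hlam (by simpa using this)
  have hgen := Groth.Agent.Lib.Lead.TorsorPush.hasSectionOver_generic'
    ((Over.pullback f).map (SekSuwa.alphaN R lam (p ^ n) h)) hbij a hP a' hP'.1 hpush htriv
  obtain ⟨s, hs⟩ := hgen
  haveI : IsFinite P.hom := Groth.Agent.Lib.Lead.TorsorFinite.isFinite_of_isTorsorFor a hP
  exact Groth.Agent.Lib.Lead.NormalSection.exists_section_of_isIntegralHom hX P.hom s hs

end Groth.Agent.S14688
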