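import Groth.Statements.S14691
import Groth.Agent.Lib.Helper59.DeligneSch

set_option autoImplicit false
universe u
open CategoryTheory AlgebraicGeometry
open SekSuwa

namespace Groth.Agent.S14691

section General

open MonoidalCategory CartesianMonoidalCategory MonObj

variable {S : Scheme.{u}} (K : Precoverage Scheme.{u}) [(QuotSh.J K S).Subcanonical]
  {G H : Over S} [GrpObj G] [IsCommMonObj G] [GrpObj H] [IsCommMonObj H]

/-- Evaluation of an endomorphism of the sheaf of points at a point, as an additive map. -/
noncomputable def evHom (T : (Over S)ᵒᵖ) (x : (CGrpSh.pts K G).obj.obj T) :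
    (CGrpSh.pts K G ⟶ CGrpSh.pts K G) →+ (CGrpSh.pts K G).obj.obj T where
  toFun f := f.hom.app T x
  map_zero' := rfl
  map_add' _ _ := rfl

/-- If the `m`-th power of the identity of `G` is trivial, then `m` kills the sheaf of points. -/
theorem nsmul_id_eq_zero (m : ℕ) (h : (𝟙 G : G ⟶ G) ^ m = 1) :
    m • (𝟙 (CGrpSh.pts K G)) = 0 := by
  apply Sheaf.hom_ext
  apply NatTrans.ext
  funext T
  apply AddCommGrpCat.ext
  intro x
  have h1 : (m • (𝟙 (CGrpSh.pts K G))).hom.app T x = m • x := by
    have := map_nsmul (evHom K T x) m (𝟙 (CGrpSh.pts K G))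
    exact this
  rw [h1]
  apply ULift.ext
  change (m • x).down = 0
  have h2 : (m • x).down = m • x.down := rfl
  rw [h2]
  have h3 : x.down = Additive.ofMul x.down.toMul := rfl
  rw [h3, ← ofMul_pow]
  have h4 : x.down.toMul ^ m = 1 := by
    have := MonObj.comp_pow (𝟙 G) m x.down.toMul
    rw [Category.comp_id, h] at this
    rw [← this, MonObj.comp_one]
  rw [h4]
  rfl

/-- An endomorphism killed by `m` kills `Ext`. -/
theorem nsmul_ext_eq_zero {A : Type*} [Category A] [Abelian A] [HasExt A] {X Y : A} (m n : ℕ)
    (h : m • (𝟙 X) = 0) (x : Abelian.Ext X Y n) : m • x = 0 := by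
  have key : ∀ k : ℕ, k • x = (Abelian.Ext.mk₀ (k • (𝟙 X))).comp x (zero_add n) := by
    intro k
    induction k with
    | zero => rw [zero_smul, zero_smul, Abelian.Ext.mk₀_zero, Abelian.Ext.zero_comp]
    | succ k ih =>
      rw [succ_nsmul, succ_nsmul, Abelian.Ext.mk₀_add, Abelian.Ext.add_comp, ← ih,
        Abelian.Ext.mk₀_id_comp]
  rw [key m, h, Abelian.Ext.mk₀_zero, Abelian.Ext.zero_comp]

end General

/-- Let R be a discrete valuation ring of characteristic zero and residue characteristic p, and G a
commutative finite flat R-group scheme of order m (finite locally free of degree m over Spec R).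
Then the endomorphism of Ext¹(G, 𝔾_m) induced by the m-th power map of the multiplicative group —
that is, multiplication by m on this group — is zero. Here Ext¹ is taken between the abelian sheaves
of points of G and of the split multiplicative group on the big fppf site of Spec R. (The published
statement is made under a standing assumption that R contains a primitive p²-th root of unity; this
row does not assume it, the argument not using it.) -/
theorem result (R : Type u) [CommRing R] [IsDomain R] [IsDiscreteValuationRing R] [CharZero R]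
    (p : ℕ) [Fact p.Prime] [CharP (IsLocalRing.ResidueField R) p]
    (G : Over (Spec (CommRingCat.of R))) [GrpObj G] [IsCommMonObj G]
    (m : ℕ) (hG : Mor2.IsFinLocFreeOfDeg m G.hom)
    (x : CGrpSh.ExtS Scheme.fppfPrecoverage G (Red.diag R ℤ) 1) : m • x = 0 := by
  obtain ⟨⟨h1, h2, h3⟩, h4⟩ := hG
  haveI := h1
  haveI := h2
  haveI := h3
  exact nsmul_ext_eq_zero m 1 (nsmul_id_eq_zero Scheme.fppfPrecoverage m
    (Groth.Agent.Lib.Helper59.DeligneSch.id_pow_eq_one G m h4)) x

end Groth.Agent.S14691
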