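import Groth.Statements.S14692
-- import your own Groth.Agent.* helpers here
import Mathlib
import Groth.Agent.Lib.Helper34.KumLvlB

set_option autoImplicit false
universe u
open CAlg

namespace Groth.Agent.S14692

/-- Let R be a discrete valuation ring of characteristic zero and residue characteristic p, with
uniformizer π and a primitive p^n-th root of unity ζ (n ≥ 1), and A a Noetherian integrally closed
domain which is a faithfully flat R-algebra, in which πA is a prime ideal and every element that is
a unit modulo π is a unit (as when A is π-adically complete, or local). Let f, g be units of A, j a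
natural number with π^{p^{n−1}(p−1)(j+1)} dividing p (that is, j is less than the valuation of ζ −
1, so that the polynomials ((1 + π^{j}T)^{p^n} − 1)/π^{jp^n} and ((1 + π^{j+1}T)^{p^n} −
1)/π^{(j+1)p^n} have coefficients in R), and f₀ ∈ A with f·g^{p^n} = 1 + π^{j p^n}·f₀; suppose j is
maximal with this property: there is no unit g' of A with f·g'^{p^n} ≡ 1 modulo π^{(j+1)p^n}.
Suppose moreover that the algebra L = A[1/π][Z]/(Z^{p^n} − f) is an integral domain (the
μ_{p^n}-torsor Z^{p^n} = f is connected on the generic fibre) and that, B denoting the integral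
closure of A in L (the normalization of Spec A in that cover), the ideal πB is radical (the
normalization has reduced special fibre). Then f₀ is not congruent modulo πA to a p^n-th power. (The
published statement phrases the hypothesis on j as: the class of the torsor Z^{p^n} = f lies in
H¹(Spec A, G_{π^j,n}) and not in H¹(Spec A, G_{π^{j+1},n}); the conditions on g and g' are its
ring-theoretic form, which is the first assertion of the same lemma; A is there factorial and
π-adically complete, or normal local, which this row keeps only through the consequences used: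
integrally closed, and units lift modulo π.) -/
theorem result
    (R : Type u) [CommRing R] [IsDomain R] [IsDiscreteValuationRing R] [CharZero R]
    (p : ℕ) [Fact p.Prime] [CharP (IsLocalRing.ResidueField R) p] (ϖ : R) (hϖ : Irreducible ϖ)
    (n : ℕ) (hn : 0 < n) (ζ : R) (hζ : IsPrimitiveRoot ζ (p ^ n))
    (A : Type u) [CommRing A] [IsDomain A] [IsNoetherianRing A] [IsIntegrallyClosed A] [Algebra R A]
    [Module.FaithfullyFlat R A]
    (hprime : (Ideal.span {algebraMap R A ϖ}).IsPrime)
    (hlift : ∀ a : A, IsUnit (Ideal.Quotient.mk (Ideal.span {algebraMap R A ϖ}) a) → IsUnit a)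
    (f g : Aˣ) (j : ℕ) (hj : ϖ ^ (p ^ (n - 1) * (p - 1) * (j + 1)) ∣ (p : R)) (f₀ : A)
    (hfg : (f : A) * (g : A) ^ (p ^ n) = 1 + (algebraMap R A ϖ) ^ (j * p ^ n) * f₀)
    (hmax : ∀ (g' : Aˣ) (c : A), (f : A) * (g' : A) ^ (p ^ n) ≠ 1 + (algebraMap R A ϖ) ^ ((j + 1) * p ^ n) * c)
    [IsDomain (AdjoinRoot (Polynomial.X ^ (p ^ n) - Polynomial.C (algebraMap A (Localization.Away (algebraMap R A ϖ)) (f : A))))]
    (hred : (Ideal.span {algebraMap A (integralClosure A (AdjoinRoot (Polynomial.X ^ (p ^ n) - Polynomial.C (algebraMap A (Localization.Away (algebraMap R A ϖ)) (f : A))))) (algebraMap R A ϖ)}).IsRadical)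
    (g₀ : A) : f₀ - g₀ ^ (p ^ n) ∉ Ideal.span {(algebraMap R A ϖ)} := by
  classical
  have hϖ0 : ϖ ≠ 0 := hϖ.ne_zero
  have hπ0 : algebraMap R A ϖ ≠ 0 := fun h =>
    hϖ0 (FaithfulSMul.algebraMap_injective R A (h.trans (map_zero _).symm))
  have hM : Submonoid.powers (algebraMap R A ϖ) ≤ nonZeroDivisors A :=
    powers_le_nonZeroDivisors_of_noZeroDivisors hπ0
  haveI : IsDomain (Localization.Away (algebraMap R A ϖ)) :=
    IsLocalization.isDomain_localization hM
  have hinjK : Function.Injective (algebraMap A (Localization.Away (algebraMap R A ϖ))) :=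
    IsLocalization.injective _ hM
  have hqpos : 0 < p ^ n := pow_pos (Fact.out : p.Prime).pos n
  have hinjL : Function.Injective (AdjoinRoot.of (Polynomial.X ^ (p ^ n) -
      Polynomial.C (algebraMap A (Localization.Away (algebraMap R A ϖ)) (f : A)))) := by
    apply AdjoinRoot.of.injective_of_degree_ne_zero
    rw [Polynomial.degree_X_pow_sub_C hqpos]
    exact_mod_cast hqpos.ne'
  -- `A` is integrally closed in `A[1/π]`
  have hunits : ∀ y : Submonoid.powers (algebraMap R A ϖ),
      IsUnit ((Algebra.ofId A (FractionRing A)) y) := fun y =>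
    IsLocalization.map_units (FractionRing A) (⟨y, hM y.2⟩ : nonZeroDivisors A)
  have hliftinj : Function.Injective (IsLocalization.liftAlgHom
      (S := Localization.Away (algebraMap R A ϖ)) hunits) := by
    rw [IsLocalization.coe_liftAlgHom, IsLocalization.lift_injective_iff]
    intro x y
    constructor
    · intro h; rw [hinjK h]
    · intro h
      have : x = y := IsFractionRing.injective A (FractionRing A) h
      rw [this]
  haveI : IsIntegrallyClosedIn A (Localization.Away (algebraMap R A ϖ)) :=
    AlgHom.isIntegrallyClosedIn _ hliftinj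
      ((isIntegrallyClosed_iff_isIntegrallyClosedIn (FractionRing A)).mp inferInstance)
  refine Groth.Agent.Lib.Helper34.KumLvl.main p n (algebraMap R A ϖ) hπ0 hlift f g j ?_ f₀ hfg
    hmax (L := AdjoinRoot (Polynomial.X ^ (p ^ n) -
      Polynomial.C (algebraMap A (Localization.Away (algebraMap R A ϖ)) (f : A))))
    ?_ ?_ ?_ (AdjoinRoot.root _) ?_ hred g₀
  · have := map_dvd (algebraMap R A) hj
    simpa only [map_pow, map_natCast] using this
  · rw [AdjoinRoot.algebraMap_eq']
    exact hinjL.comp hinjK
  · rw [AdjoinRoot.algebraMap_eq']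
    exact (IsLocalization.Away.algebraMap_isUnit
      (S := Localization.Away (algebraMap R A ϖ)) (algebraMap R A ϖ)).map (AdjoinRoot.of _)
  · intro x hx m a hxa
    have hne : algebraMap A (AdjoinRoot (Polynomial.X ^ (p ^ n) -
      Polynomial.C (algebraMap A (Localization.Away (algebraMap R A ϖ)) (f : A))))
        (algebraMap R A ϖ) ^ m ≠ 0 := by
      apply pow_ne_zero
      rw [AdjoinRoot.algebraMap_eq']
      intro h
      have h1 : algebraMap A (Localization.Away (algebraMap R A ϖ)) (algebraMap R A ϖ) = 0 :=
        hinjL (by rw [map_zero]; exact h)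
      exact hπ0 (hinjK (by rw [map_zero]; exact h1))
    have hc : AdjoinRoot.of _ (IsLocalization.mk' (Localization.Away (algebraMap R A ϖ)) a
        (⟨algebraMap R A ϖ ^ m, (Submonoid.mem_powers_iff _ _).mpr ⟨m, rfl⟩⟩ :
          Submonoid.powers (algebraMap R A ϖ))) = x := by
      apply mul_left_cancel₀ hne
      rw [hxa, AdjoinRoot.algebraMap_eq', ← map_pow]
      simp only [RingHom.comp_apply]
      rw [← map_mul, IsLocalization.mk'_spec'_mk]
    have hcint : IsIntegral A (IsLocalization.mk' (Localization.Away (algebraMap R A ϖ)) a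
        (⟨algebraMap R A ϖ ^ m, (Submonoid.mem_powers_iff _ _).mpr ⟨m, rfl⟩⟩ :
          Submonoid.powers (algebraMap R A ϖ))) := by
      rw [← isIntegral_algHom_iff (IsScalarTower.toAlgHom A (Localization.Away (algebraMap R A ϖ))
        (AdjoinRoot (Polynomial.X ^ (p ^ n) -
          Polynomial.C (algebraMap A (Localization.Away (algebraMap R A ϖ)) (f : A))))) hinjL]
      change IsIntegral A (AdjoinRoot.of _ _)
      rw [hc]
      exact hx
    obtain ⟨b, hb⟩ := IsIntegrallyClosedIn.isIntegral_iff.mp hcint
    refine ⟨b, ?_⟩
    rw [← hc, ← hb]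
    rfl
  · have := AdjoinRoot.eval₂_root (Polynomial.X ^ (p ^ n) -
      Polynomial.C (algebraMap A (Localization.Away (algebraMap R A ϖ)) (f : A)))
    simp only [Polynomial.eval₂_sub, Polynomial.eval₂_X_pow, Polynomial.eval₂_C] at this
    rw [AdjoinRoot.algebraMap_eq']
    exact sub_eq_zero.mp this

end Groth.Agent.S14692
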