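import Groth.Statements.S14693
import Mathlib.AlgebraicGeometry.Pullbacks
import Mathlib.CategoryTheory.Limits.Constructions.Over.Connected
import Mathlib.Tactic

set_option autoImplicit false
universe u
open CategoryTheory AlgebraicGeometry
open SekSuwa

namespace Groth.Agent.S14693

section helpers
open CategoryTheory.Limits MonObj CartesianMonoidalCategory

variable (R : Type u) [CommRing R] (lam : R) (N : ℕ) (h : SekSuwa.DivCond lam N)

/-- The four ring maps of the pushout square. -/
noncomputable abbrev fPsi : CommRingCat.of (SekSuwa.A R (lam ^ N)) ⟶ CommRingCat.of (SekSuwa.A R lam) :=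
  CommRingCat.ofHom ((SekSuwa.psiHom R lam N h : SekSuwa.A R (lam ^ N) →ₐc[R] SekSuwa.A R lam) :
    SekSuwa.A R (lam ^ N) →+* SekSuwa.A R lam)

noncomputable abbrev fCounit : CommRingCat.of (SekSuwa.A R (lam ^ N)) ⟶ CommRingCat.of R :=
  CommRingCat.ofHom ((Bialgebra.counitAlgHom R (SekSuwa.A R (lam ^ N))) : SekSuwa.A R (lam ^ N) →+* R)

noncomputable abbrev fMk : CommRingCat.of (SekSuwa.A R lam) ⟶ CommRingCat.of (SekSuwa.AK R lam N h) :=
  CommRingCat.ofHom ((SekSuwa.AK.mkHom R lam N h : SekSuwa.A R lam →ₐc[R] SekSuwa.AK R lam N h) :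
    SekSuwa.A R lam →+* SekSuwa.AK R lam N h)

noncomputable abbrev fAlg : CommRingCat.of R ⟶ CommRingCat.of (SekSuwa.AK R lam N h) :=
  CommRingCat.ofHom (algebraMap R (SekSuwa.AK R lam N h))

lemma comm_sq : fPsi R lam N h ≫ fMk R lam N h = fCounit R lam N ≫ fAlg R lam N h := by
  ext x
  have := congrArg (fun (φ : SekSuwa.A R (lam ^ N) →ₐc[R] SekSuwa.AK R lam N h) => φ x)
    (SekSuwa.mkHom_comp_psiHom R lam N h)
  exact this

lemma mk_surj : Function.Surjective (SekSuwa.AK.mkHom R lam N h) :=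
  Ideal.Quotient.mk_surjective

lemma mk_eq_zero_iff (a : SekSuwa.A R lam) :
    SekSuwa.AK.mkHom R lam N h a = 0 ↔ a ∈ SekSuwa.kerIdeal lam N h :=
  Ideal.Quotient.eq_zero_iff_mem

/-- The descent map out of `AK`. -/
noncomputable def descHom {S : Type u} [CommRing S] (α : SekSuwa.A R lam →+* S) (β : R →+* S)
    (hαβ : ∀ x, α (SekSuwa.psiHom R lam N h x) = β (CoalgebraStruct.counit (R := R) x)) :
    SekSuwa.AK R lam N h →+* S :=
  Ideal.Quotient.lift (SekSuwa.kerIdeal lam N h) α (by
    intro a ha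
    obtain ⟨c, rfl⟩ := Ideal.mem_span_singleton'.mp ha
    rw [map_mul, ← SekSuwa.psiHom_t R lam N h, hαβ, SekSuwa.A.counit_t, map_zero, mul_zero])

lemma descHom_mk {S : Type u} [CommRing S] (α : SekSuwa.A R lam →+* S) (β : R →+* S)
    (hαβ : ∀ x, α (SekSuwa.psiHom R lam N h x) = β (CoalgebraStruct.counit (R := R) x))
    (a : SekSuwa.A R lam) :
    descHom R lam N h α β hαβ (SekSuwa.AK.mkHom R lam N h a) = α a :=
  Ideal.Quotient.lift_mk _ _ _

lemma descHom_algebraMap {S : Type u} [CommRing S] (α : SekSuwa.A R lam →+* S) (β : R →+* S)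
    (hαβ : ∀ x, α (SekSuwa.psiHom R lam N h x) = β (CoalgebraStruct.counit (R := R) x))
    (r : R) :
    descHom R lam N h α β hαβ (algebraMap R (SekSuwa.AK R lam N h) r) = β r := by
  have e1 : algebraMap R (SekSuwa.AK R lam N h) r =
      SekSuwa.AK.mkHom R lam N h (algebraMap R (SekSuwa.A R lam) r) :=
    ((SekSuwa.AK.mkHom R lam N h : SekSuwa.A R lam →ₐ[R] SekSuwa.AK R lam N h).commutes r).symm
  have e2 : algebraMap R (SekSuwa.A R lam) r =
      SekSuwa.psiHom R lam N h (algebraMap R (SekSuwa.A R (lam ^ N)) r) :=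
    ((SekSuwa.psiHom R lam N h : SekSuwa.A R (lam ^ N) →ₐ[R] SekSuwa.A R lam).commutes r).symm
  rw [e1, descHom_mk, e2, hαβ]
  congr 1
  exact (Bialgebra.counitAlgHom R (SekSuwa.A R (lam ^ N))).commutes r

lemma isPushout_rings :
    IsPushout (fPsi R lam N h) (fCounit R lam N) (fMk R lam N h) (fAlg R lam N h) := by
  have hs : ∀ (s : PushoutCocone (fPsi R lam N h) (fCounit R lam N)) (x : SekSuwa.A R (lam ^ N)),
      s.inl.hom (SekSuwa.psiHom R lam N h x) = s.inr.hom (CoalgebraStruct.counit (R := R) x) := by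
    intro s x
    have := congrArg (fun φ => φ.hom x) s.condition
    exact this
  refine ⟨⟨comm_sq R lam N h⟩, ⟨PushoutCocone.IsColimit.mk _ (fun s => CommRingCat.ofHom
    (descHom R lam N h s.inl.hom s.inr.hom (hs s))) (fun s => ?_) (fun s => ?_)
    (fun s m h1 _ => ?_)⟩⟩
  · ext a
    exact descHom_mk R lam N h s.inl.hom s.inr.hom (hs s) a
  · ext r
    exact descHom_algebraMap R lam N h s.inl.hom s.inr.hom (hs s) r
  · ext x
    obtain ⟨a, rfl⟩ := mk_surj R lam N h x
    have := congrArg (fun φ => φ.hom a) h1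
    change m.hom (SekSuwa.AK.mkHom R lam N h a) = _
    refine Eq.trans this ?_
    exact (descHom_mk R lam N h s.inl.hom s.inr.hom (hs s) a).symm

lemma toUnit_left {B : Type u} [CommRing B] [Algebra R B] :
    (toUnit ((Spec (.of B)).asOver (Spec (.of R)))).left =
      Spec.map (CommRingCat.ofHom (algebraMap R B)) := by
  rw [← Category.comp_id (toUnit ((Spec (CommRingCat.of B)).asOver (Spec (CommRingCat.of R)))).left]
  exact Over.w (toUnit ((Spec (CommRingCat.of B)).asOver (Spec (CommRingCat.of R))))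

end helpers

/-- For any commutative ring R, λ ∈ R and N such that λ is a non-zero-divisor and λ^N divides (1 + λX)^N
− 1 in R[X] with quotient P_{λ,N}, the closed subgroup scheme G_{λ,N} = Spec R[T]/(P_{λ,N}(T)) of
the affine R-group G^(λ) = Spec R[T, 1/(1+λT)] (group law s + t + λst) is the kernel of the
homomorphism ψ_{λ,N} : G^(λ) → G^(λ^N), T ↦ P_{λ,N}(T): the square with sides the inclusion G_{λ,N}
→ G^(λ), ψ_{λ,N}, the unit section of G^(λ^N) and G_{λ,N} → Spec R is cartesian. (The published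
text, over a discrete valuation ring and with N = p^n, introduces G_{λ,n} as the kernel of the
isogeny ψ_{λ,n}; this row is that assertion for every N, including the degenerate N = 0 where ψ is
trivial and G_{λ,0} = G^(λ).) -/
theorem result (R : Type u) [CommRing R] (lam : R) (N : ℕ) (h : SekSuwa.DivCond lam N) :
    AlgGrp.IsKernel (SekSuwa.incl R lam N h) (SekSuwa.psi R lam N h) := by
  unfold AlgGrp.IsKernel
  apply CategoryTheory.IsPullback.of_map_of_faithful (F := Over.forget (Spec (CommRingCat.of R)))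
  have key := isPullback_SpecMap_of_isPushout _ _ _ _ (isPushout_rings R lam N h)
  have e2 : (Over.forget (Spec (CommRingCat.of R))).map
      (CartesianMonoidalCategory.toUnit (SekSuwa.GK R lam N h)) =
      Spec.map (fAlg R lam N h) := toUnit_left R
  rw [e2]
  exact key

end Groth.Agent.S14693
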