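import Groth.Statements.S14709
import Groth.Agent.Lib.Helper4.ExtAdj

set_option autoImplicit false
universe u
open HRes

namespace Groth.Agent.S14709

open CategoryTheory AlgebraicGeometry Opposite CategoryTheory.Limits Abelian

--MARK

/-- characterisation of `pullConst.inv` by precomposition with `toSheafify`. -/
lemma toSheafify_pullConst_inv (K : Precoverage Scheme.{u}) {S T : Scheme.{u}} (f : T ⟶ S)
    (M : AddCommGrpCat.{u + 1}) :
    toSheafify (QuotSh.J K T) ((Functor.const _).obj M) ≫ (pullConst K f M).inv.hom =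
      Functor.whiskerLeft (Over.map f).op (toSheafify (QuotSh.J K S) ((Functor.const _).obj M)) :=
  Functor.toSheafify_pullbackSheafificationCompatibility (G := Over.map f) AddCommGrpCat.{u + 1}
    (QuotSh.J K T) (QuotSh.J K S) ((Functor.const _).obj M)

lemma pullConst_comp (K : Precoverage Scheme.{u}) {S T T' : Scheme.{u}}
    (f : T ⟶ S) (g : T' ⟶ T) (M : AddCommGrpCat.{u + 1}) :
    (pullConst K g M).inv ≫ (BigSite.pullBig K g AddCommGrpCat.{u + 1}).map (pullConst K f M).inv ≫
      (K.toGrothendieck.overMapPullbackComp AddCommGrpCat.{u + 1} g f).hom.app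
        ((constantSheaf (QuotSh.J K S) AddCommGrpCat.{u + 1}).obj M) =
    (pullConst K (g ≫ f) M).inv := by
  ext1
  refine sheafify_hom_ext (J := QuotSh.J K T') _ _ (ObjectProperty.FullSubcategory.property _) ?_
  rw [toSheafify_pullConst_inv]
  change toSheafify (QuotSh.J K T') ((Functor.const _).obj M) ≫ (pullConst K g M).inv.hom ≫
    ((BigSite.pullBig K g AddCommGrpCat.{u + 1}).map (pullConst K f M).inv).hom ≫
      ((K.toGrothendieck.overMapPullbackComp AddCommGrpCat.{u + 1} g f).hom.app
        ((constantSheaf (QuotSh.J K S) AddCommGrpCat.{u + 1}).obj M)).hom = _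
  rw [← Category.assoc, toSheafify_pullConst_inv]
  ext U : 2
  dsimp
  have h1 : ((BigSite.pullBig K g AddCommGrpCat.{u + 1}).map (pullConst K f M).inv).hom.app U =
      (pullConst K f M).inv.hom.app (op ((Over.map g).obj (unop U))) := rfl
  have h2 := congrArg (fun t => t.app (op ((Over.map g).obj (unop U)))) (toSheafify_pullConst_inv K f M)
  dsimp at h2
  rw [h1]
  refine (Category.assoc _ _ _).symm.trans ?_
  refine (congrArg (fun t => t ≫ ((K.toGrothendieck.overMapPullbackComp AddCommGrpCat.{u + 1} g f).hom.app
        ((constantSheaf (QuotSh.J K S) AddCommGrpCat.{u + 1}).obj M)).hom.app U) h2).trans ?_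
  refine (congrArg (fun t => (toSheafify (QuotSh.J K S) ((Functor.const (Over S)ᵒᵖ).obj M)).app
      (op ((Over.map f).obj ((Over.map g).obj (unop U)))) ≫ t)
    (GrothendieckTopology.overMapPullbackComp_hom_app_hom_app K.toGrothendieck AddCommGrpCat.{u + 1} g f
      ((constantSheaf (QuotSh.J K S) AddCommGrpCat.{u + 1}).obj M) U)).trans ?_
  exact ((toSheafify (QuotSh.J K S) ((Functor.const (Over S)ᵒᵖ).obj M)).naturality
    ((Over.mapComp g f).hom.app (Opposite.unop U)).op).symm.trans (Category.id_comp _)



open CategoryTheory AlgebraicGeometry in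
/-- Let g : T' ⟶ T and f : T ⟶ S be morphisms of schemes, K a precoverage on schemes with its big sites,
F an abelian sheaf on the big site of S and n ≥ 0. For every x ∈ H^n(S, F), the restriction of x
along g ≫ f is the restriction of x along f, restricted further along g, and then carried along the
map induced on cohomology by the canonical isomorphism g⁻¹(f⁻¹ F) ≅ (g ≫ f)⁻¹ F; this is the
composition law of the presheaf U ↦ H^n(U, F) given by the restriction maps. The statement is
asserted for every precoverage K; it has no hypothesis depending on K. -/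
theorem result (K : Precoverage Scheme.{u}) {S T T' : Scheme.{u}}
    (f : T ⟶ S) (g : T' ⟶ T) (F : BigSite.Ab K S) (n : ℕ) (x : BigSite.H K S F n) :
    HRes.pull K (g ≫ f) F n x =
      Sheaf.H.map ((K.toGrothendieck.overMapPullbackComp AddCommGrpCat.{u + 1} g f).hom.app F) n
        (HRes.pull K g ((BigSite.pullBig K f AddCommGrpCat.{u + 1}).obj F) n (HRes.pull K f F n x)) := by
  rw [pull_apply, pull_apply, pull_apply, Sheaf.H.map_apply, Ext.mapExactFunctor_comp,
    Ext.mapExactFunctor_mk₀]
  have key := Groth.Agent.Lib.Helper4.ExtAdj.mapExactFunctor_comp_nat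
    (BigSite.pullBig K f AddCommGrpCat.{u + 1}) (BigSite.pullBig K g AddCommGrpCat.{u + 1})
    (BigSite.pullBig K (g ≫ f) AddCommGrpCat.{u + 1})
    (K.toGrothendieck.overMapPullbackComp AddCommGrpCat.{u + 1} g f).hom _ n F x
  rw [Ext.comp_assoc_of_third_deg_zero, Ext.comp_assoc_of_third_deg_zero, key,
    Ext.mk₀_comp_mk₀_assoc, Ext.mk₀_comp_mk₀_assoc, Category.assoc, pullConst_comp]

end Groth.Agent.S14709
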