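import Groth.Statements.S14708
import Groth.Agent.S14709

set_option autoImplicit false
universe u
open HRes

namespace Groth.Agent.S14708

open CategoryTheory AlgebraicGeometry Opposite CategoryTheory.Limits Abelian

--MARK
universe w v₁ u₁

section Nat
variable {A : Type u₁} [Category.{v₁} A] [Abelian A] [HasExt.{w} A] [EnoughInjectives A]
  (P : A ⥤ A) [P.Additive] [PreservesFiniteLimits P] [PreservesFiniteColimits P]
  (τ : P ⟶ 𝟭 A)

noncomputable def natSC (S : ShortComplex A) : S.map P ⟶ S where
  τ₁ := τ.app S.X₁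
  τ₂ := τ.app S.X₂
  τ₃ := τ.app S.X₃
  comm₁₂ := (τ.naturality S.f).symm
  comm₂₃ := (τ.naturality S.g).symm

open Groth.Agent.Lib.Helper4.ExtAdj in
theorem mapExactFunctor_nat_id (A₀ : A) (n : ℕ) (F : A) (e : Ext.{w} A₀ F n) :
    (e.mapExactFunctor P).comp (Ext.mk₀ (τ.app F)) (add_zero n) =
      (Ext.mk₀ (τ.app A₀)).comp e (zero_add n) := by
  induction n generalizing F with
  | zero =>
    obtain ⟨φ, rfl⟩ := (Ext.mk₀_bijective _ _).2 e
    rw [Ext.mapExactFunctor_mk₀, Ext.mk₀_comp_mk₀, Ext.mk₀_comp_mk₀]
    congr 1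
    exact τ.naturality φ
  | succ n IH =>
    let S := injSC F
    have hS : S.ShortExact := injSC_shortExact F
    have he0 : e.comp (Ext.mk₀ S.f) (add_zero (n + 1)) = 0 := Ext.eq_zero_of_injective _
    obtain ⟨z, hz⟩ := Ext.covariant_sequence_exact₁ _ hS e he0 rfl
    have hS₁ : (S.map P).ShortExact := hS.map_of_exact P
    have hnat : hS₁.extClass.comp (Ext.mk₀ (τ.app S.X₁)) (add_zero 1) =
      (Ext.mk₀ (τ.app S.X₃)).comp hS.extClass (zero_add 1) :=
      ShortComplex.ShortExact.extClass_naturality hS₁ hS (natSC P τ S)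
    have e1 : (z.comp hS.extClass rfl).mapExactFunctor P =
        (z.mapExactFunctor P).comp hS₁.extClass rfl := by
      rw [Ext.mapExactFunctor_comp, Ext.mapExactFunctor_extClass]
      rfl
    have step1 : ((z.mapExactFunctor P).comp hS₁.extClass rfl).comp
        (Ext.mk₀ (τ.app S.X₁)) (add_zero (n + 1)) =
        (z.mapExactFunctor P).comp
          (hS₁.extClass.comp (Ext.mk₀ (τ.app S.X₁)) (add_zero 1)) rfl :=
      Ext.comp_assoc_of_third_deg_zero _ _ _ _
    have step2 : (z.mapExactFunctor P).comp
        ((Ext.mk₀ (τ.app S.X₃)).comp hS.extClass (zero_add 1)) rfl =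
        ((z.mapExactFunctor P).comp (Ext.mk₀ (τ.app S.X₃))
          (add_zero n)).comp hS.extClass rfl :=
      (Ext.comp_assoc_of_second_deg_zero _ _ _ _).symm
    have step3 : ((Ext.mk₀ (τ.app A₀)).comp z (zero_add n)).comp
        hS.extClass rfl =
        (Ext.mk₀ (τ.app A₀)).comp (z.comp hS.extClass rfl)
          (zero_add (n + 1)) :=
      Ext.comp_assoc _ _ _ (zero_add n) rfl (by omega)
    have key : ((z.comp hS.extClass rfl).mapExactFunctor P).comp (Ext.mk₀ (τ.app S.X₁))
        (add_zero (n + 1)) = (Ext.mk₀ (τ.app A₀)).comp (z.comp hS.extClass rfl) (zero_add (n + 1)) := by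
      rw [e1]
      exact step1.trans ((congrArg
        (fun t => Ext.comp (z.mapExactFunctor P) t rfl) hnat).trans
        (step2.trans ((congrArg (fun t => Ext.comp t hS.extClass rfl) (IH S.X₃ z)).trans step3)))
    rw [hz] at key
    exact key

end Nat

lemma pullConst_id (K : Precoverage Scheme.{u}) (S : Scheme.{u}) (M : AddCommGrpCat.{u + 1}) :
    (pullConst K (𝟙 S) M).inv ≫ (K.toGrothendieck.overMapPullbackId AddCommGrpCat.{u + 1} S).hom.app
        ((constantSheaf (QuotSh.J K S) AddCommGrpCat.{u + 1}).obj M) = 𝟙 _ := by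
  ext1
  refine sheafify_hom_ext (J := QuotSh.J K S) _ _ (ObjectProperty.FullSubcategory.property _) ?_
  change toSheafify (QuotSh.J K S) ((Functor.const _).obj M) ≫ (pullConst K (𝟙 S) M).inv.hom ≫
      ((K.toGrothendieck.overMapPullbackId AddCommGrpCat.{u + 1} S).hom.app
        ((constantSheaf (QuotSh.J K S) AddCommGrpCat.{u + 1}).obj M)).hom = _
  rw [← Category.assoc, Groth.Agent.S14709.toSheafify_pullConst_inv]
  ext U : 2
  dsimp
  refine (congrArg (fun t => (toSheafify (QuotSh.J K S) ((Functor.const (Over S)ᵒᵖ).obj M)).app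
      (op ((Over.map (𝟙 S)).obj (unop U))) ≫ t)
    (GrothendieckTopology.overMapPullbackId_hom_app_hom_app K.toGrothendieck AddCommGrpCat.{u + 1} S
      ((constantSheaf (QuotSh.J K S) AddCommGrpCat.{u + 1}).obj M) U)).trans ?_
  refine ((toSheafify (QuotSh.J K S) ((Functor.const (Over S)ᵒᵖ).obj M)).naturality
    ((Over.mapId S).inv.app (Opposite.unop U)).op).symm.trans ?_
  exact (Category.id_comp _).trans (Category.comp_id _).symm



open CategoryTheory AlgebraicGeometry in
/-- Let S be a scheme, K a precoverage on schemes with its big site over S, F an abelian sheaf on that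
site and n ≥ 0. For every class x ∈ H^n(S, F), restricting x along the identity of S and then
applying the map induced on cohomology by the canonical isomorphism (𝟙_S)⁻¹ F ≅ F gives back x; this
is the identity law of the presheaf U ↦ H^n(U, F) given by the restriction maps. The statement is
asserted for every precoverage K; it has no hypothesis depending on K. -/
theorem result (K : Precoverage Scheme.{u}) (S : Scheme.{u})
    (F : BigSite.Ab K S) (n : ℕ) (x : BigSite.H K S F n) :
    Sheaf.H.map ((K.toGrothendieck.overMapPullbackId AddCommGrpCat.{u + 1} S).hom.app F) n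
      (HRes.pull K (𝟙 S) F n x) = x := by
  rw [pull_apply, Sheaf.H.map_apply]
  have key := mapExactFunctor_nat_id (BigSite.pullBig K (𝟙 S) AddCommGrpCat.{u + 1})
    (K.toGrothendieck.overMapPullbackId AddCommGrpCat.{u + 1} S).hom _ n F x
  rw [Ext.comp_assoc_of_third_deg_zero, key, Ext.mk₀_comp_mk₀_assoc, pullConst_id]
  simp

end Groth.Agent.S14708
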