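import Groth.Statements.S14726
import Groth.Agent.Lib.Helper63.GaussVal2

set_option autoImplicit false
universe u
open ValPrufer

namespace Groth.Agent.S14726

/-- Let V be a valuation ring with maximal ideal m, A an integral domain that is a smooth V-algebra, and
p a prime ideal of A minimal among the primes containing mA (a generic point of the special fibre of
Spec A over V). Then A_p is a valuation ring, V → A_p is an injective local homomorphism, and every
nonzero element of A_p is a unit of A_p times the image of an element of V, so that V → A_p induces
a bijection on value groups. (The published statement takes A faithfully flat and a semilocalisation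
of a smooth V-algebra at finitely many primes; the local ring A_p is then a local ring of the smooth
algebra itself at such a prime, and faithful flatness follows from the existence of p, so this row
states the smooth case, which carries the whole content.) -/
theorem result
    (V : Type u) [CommRing V] [IsDomain V] [ValuationRing V]
    (A : Type u) [CommRing A] [IsDomain A] [Algebra V A] [Algebra.Smooth V A]
    (p : Ideal A) [p.IsPrime]
    (hp : p ∈ ((IsLocalRing.maximalIdeal V).map (algebraMap V A)).minimalPrimes) :
    ValuationRing (Localization.AtPrime p) ∧
      Function.Injective (algebraMap V (Localization.AtPrime p)) ∧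
      IsLocalHom (algebraMap V (Localization.AtPrime p)) ∧
      ∀ x : Localization.AtPrime p, x ≠ 0 →
        ∃ (v : V) (w : (Localization.AtPrime p)ˣ), x = algebraMap V (Localization.AtPrime p) v * w := by
  classical
  have hfpA : Algebra.FinitePresentation V A := inferInstance
  have hpmem : (IsLocalRing.maximalIdeal V).map (algebraMap V A) ≤ p := hp.1.2
  obtain ⟨f, hfp, hstd⟩ := Algebra.IsSmoothAt.exists_notMem_isStandardSmooth V p
  obtain ⟨n, g, hgC, hget⟩ := RingHom.IsStandardSmooth.exists_etale_mvPolynomial
    (f := algebraMap V (Localization.Away f)) (RingHom.isStandardSmooth_algebraMap.mpr hstd)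
  let _ : Algebra (MvPolynomial (Fin n) V) (Localization.Away f) := g.toAlgebra
  have hst : IsScalarTower V (MvPolynomial (Fin n) V) (Localization.Away f) :=
    IsScalarTower.of_algebraMap_eq' hgC.symm
  have het : Algebra.Etale (MvPolynomial (Fin n) V) (Localization.Away f) :=
    RingHom.etale_algebraMap.mp hget
  have hf0 : f ≠ 0 := fun h => hfp (h ▸ p.zero_mem)
  have hdomAf : IsDomain (Localization.Away f) :=
    IsLocalization.isDomain_localization (powers_le_nonZeroDivisors_of_noZeroDivisors hf0)
  have hdisj : Disjoint (Submonoid.powers f : Set A) (p : Set A) := by
    rwa [Ideal.disjoint_powers_iff_notMem_of_isPrime]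
  have hQpr : (p.map (algebraMap A (Localization.Away f))).IsPrime :=
    IsLocalization.isPrime_of_isPrime_disjoint (Submonoid.powers f) _ p inferInstance hdisj
  have hQco : (p.map (algebraMap A (Localization.Away f))).comap
      (algebraMap A (Localization.Away f)) = p :=
    IsLocalization.under_map_of_isPrime_disjoint (Submonoid.powers f) _ inferInstance hdisj
  have hunit : IsUnit (algebraMap A (Localization.AtPrime p) f) :=
    IsLocalization.map_units (Localization.AtPrime p) (⟨f, hfp⟩ : p.primeCompl)
  let _ : Algebra (Localization.Away f) (Localization.AtPrime p) :=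
    (IsLocalization.Away.lift f hunit).toAlgebra
  have hst2 : IsScalarTower A (Localization.Away f) (Localization.AtPrime p) :=
    IsScalarTower.of_algebraMap_eq' (IsLocalization.Away.lift_comp f hunit).symm
  have hst3 : IsScalarTower V (Localization.Away f) (Localization.AtPrime p) := by
    refine IsScalarTower.of_algebraMap_eq fun v => ?_
    rw [IsScalarTower.algebraMap_apply V A (Localization.AtPrime p),
      IsScalarTower.algebraMap_apply A (Localization.Away f) (Localization.AtPrime p),
      ← IsScalarTower.algebraMap_apply V A (Localization.Away f)]
  have hle : Submonoid.powers f ≤ p.primeCompl := Submonoid.powers_le.mpr hfp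
  have hloc1 : IsLocalization (p.primeCompl.map (algebraMap A (Localization.Away f)))
      (Localization.AtPrime p) :=
    IsLocalization.isLocalization_of_submonoid_le (Localization.Away f) (Localization.AtPrime p)
      (Submonoid.powers f) p.primeCompl hle
  have hloc2 : IsLocalization.AtPrime (Localization.AtPrime p)
      (p.map (algebraMap A (Localization.Away f))) := by
    refine IsLocalization.of_le (p.primeCompl.map (algebraMap A (Localization.Away f))) _ ?_ ?_
    · rintro _ ⟨a, ha, rfl⟩ hmem
      have : a ∈ (p.map (algebraMap A (Localization.Away f))).comap
          (algebraMap A (Localization.Away f)) := hmem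
      rw [hQco] at this
      exact ha this
    · intro r hr
      obtain ⟨a, s, rfl⟩ := IsLocalization.exists_mk'_eq (Submonoid.powers f) r
      have ha : a ∉ p := by
        intro hap
        apply hr
        rw [IsLocalization.mk'_eq_mul_mk'_one]
        exact Ideal.mul_mem_right _ _ (Ideal.mem_map_of_mem _ hap)
      have h1 : algebraMap (Localization.Away f) (Localization.AtPrime p)
          (IsLocalization.mk' (Localization.Away f) a s) *
          algebraMap (Localization.Away f) (Localization.AtPrime p)
            (algebraMap A (Localization.Away f) s) = algebraMap A (Localization.AtPrime p) a := by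
        rw [← map_mul, IsLocalization.mk'_spec,
          ← IsScalarTower.algebraMap_apply A (Localization.Away f) (Localization.AtPrime p)]
      have h2 : IsUnit (algebraMap A (Localization.AtPrime p) a) :=
        IsLocalization.map_units (Localization.AtPrime p) (⟨a, ha⟩ : p.primeCompl)
      rw [← h1] at h2
      exact (IsUnit.mul_iff.mp h2).1
  have hQ : (p.map (algebraMap A (Localization.Away f))).comap
      (algebraMap (MvPolynomial (Fin n) V) (Localization.Away f)) =
      Groth.Agent.Lib.Helper63.GaussVal.mP V (Fin n) := by
    have hle1 : Groth.Agent.Lib.Helper63.GaussVal.mP V (Fin n) ≤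
        (p.map (algebraMap A (Localization.Away f))).comap
          (algebraMap (MvPolynomial (Fin n) V) (Localization.Away f)) := by
      rw [Ideal.map_le_iff_le_comap]
      intro v hv
      rw [Ideal.mem_comap, Ideal.mem_comap, ← MvPolynomial.algebraMap_eq,
        ← IsScalarTower.algebraMap_apply V (MvPolynomial (Fin n) V) (Localization.Away f),
        IsScalarTower.algebraMap_apply V A (Localization.Away f)]
      exact Ideal.mem_map_of_mem _ (hpmem (Ideal.mem_map_of_mem _ hv))
    have hflat : Module.Flat (MvPolynomial (Fin n) V) (Localization.Away f) := inferInstance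
    have hlo : (p.map (algebraMap A (Localization.Away f))).LiesOver
        ((p.map (algebraMap A (Localization.Away f))).comap
          (algebraMap (MvPolynomial (Fin n) V) (Localization.Away f))) := ⟨rfl⟩
    have hprc : ((p.map (algebraMap A (Localization.Away f))).comap
          (algebraMap (MvPolynomial (Fin n) V) (Localization.Away f))).IsPrime :=
      Ideal.comap_isPrime _ _
    obtain ⟨Q', hQ'le, hQ'pr, hQ'lo⟩ := Ideal.exists_ideal_le_liesOver_of_le
      (p := Groth.Agent.Lib.Helper63.GaussVal.mP V (Fin n))
      (p.map (algebraMap A (Localization.Away f))) hle1
    have hp'le : Q'.comap (algebraMap A (Localization.Away f)) ≤ p := by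
      rw [← hQco]
      exact Ideal.comap_mono hQ'le
    have hp'm : (IsLocalRing.maximalIdeal V).map (algebraMap V A) ≤
        Q'.comap (algebraMap A (Localization.Away f)) := by
      rw [Ideal.map_le_iff_le_comap]
      intro v hv
      rw [Ideal.mem_comap, Ideal.mem_comap,
        ← IsScalarTower.algebraMap_apply V A (Localization.Away f),
        IsScalarTower.algebraMap_apply V (MvPolynomial (Fin n) V) (Localization.Away f)]
      have h1 : algebraMap V (MvPolynomial (Fin n) V) v ∈
          Groth.Agent.Lib.Helper63.GaussVal.mP V (Fin n) := by
        rw [MvPolynomial.algebraMap_eq]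
        exact Ideal.mem_map_of_mem _ hv
      rw [hQ'lo.over] at h1
      exact h1
    have hpeq : p ≤ Q'.comap (algebraMap A (Localization.Away f)) :=
      hp.2 ⟨Ideal.comap_isPrime _ _, hp'm⟩ hp'le
    have hQ'eq : Q' = p.map (algebraMap A (Localization.Away f)) := by
      refine le_antisymm hQ'le ?_
      rw [Ideal.map_le_iff_le_comap]
      exact hpeq
    rw [← hQ'eq]
    exact hQ'lo.over.symm
  obtain ⟨hdvd, hinj, hlochom, hdec⟩ := Groth.Agent.Lib.Helper63.GaussVal.main V n
    (Localization.Away f) (p.map (algebraMap A (Localization.Away f))) hQ
    (Localization.AtPrime p)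
  refine ⟨?_, hinj, hlochom, hdec⟩
  rw [ValuationRing.iff_dvd_total]
  exact ⟨hdvd⟩

end Groth.Agent.S14726
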