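import Groth.Statements.S14727
import Mathlib.RingTheory.LocalProperties.Basic
import Mathlib.RingTheory.Ideal.Quotient.Operations
import Mathlib.Tactic.Ring
import Mathlib.Tactic.LinearCombination

set_option autoImplicit false
universe u
open ValPrufer

namespace Groth.Agent.S14727

section limit

variable {R : Type u} [CommRing R] (I : Ideal R) {M : Type u} [AddCommGroup M] [Module R M]
  {ι : Type u} (N : ι → Type u) [∀ i, AddCommGroup (N i)] [∀ i, Module R (N i)]
  (f : ∀ i, M →ₗ[R] N i)

theorem bijective_of_levelwise
    (hinj : ∀ (n : ℕ) (x : M), (∀ i, f i x ∈ (I ^ n • ⊤ : Submodule R (N i))) →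
      x ∈ (I ^ n • ⊤ : Submodule R M))
    (hsurj : ∀ (n : ℕ) (y : ∀ i, N i), ∃ x : M, ∀ i, f i x - y i ∈ (I ^ n • ⊤ : Submodule R (N i))) :
    Function.Bijective (LinearMap.pi (fun i => AdicCompletion.map I (f i))) := by
  constructor
  · rw [injective_iff_map_eq_zero]
    intro x hx
    apply AdicCompletion.ext
    intro n
    obtain ⟨xn, hxn⟩ := Submodule.Quotient.mk_surjective _ (x.val n)
    rw [← hxn, AdicCompletion.val_zero_apply, Submodule.Quotient.mk_eq_zero]
    apply hinj
    intro i
    have h1 : (AdicCompletion.map I (f i) x).val n = 0 := by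
      have := congrFun hx i
      simp only [LinearMap.pi_apply] at this
      rw [this]
      rfl
    rw [AdicCompletion.map_val_apply, ← hxn, LinearMap.reduceModIdeal_apply,
      Submodule.Quotient.mk_eq_zero] at h1
    exact h1
  · intro y
    have hlift : ∀ (i : ι) (n : ℕ), ∃ z : N i, Submodule.Quotient.mk z = (y i).val n :=
      fun i n => Submodule.Quotient.mk_surjective _ _
    choose z hz using hlift
    have hzcompat : ∀ (i : ι) {m n : ℕ} (hmn : m ≤ n),
        z i n - z i m ∈ (I ^ m • ⊤ : Submodule R (N i)) := by
      intro i m n hmn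
      have h1 := (y i).property hmn
      rw [← hz i n, ← hz i m] at h1
      have h2 : AdicCompletion.transitionMap I (N i) hmn (Submodule.Quotient.mk (z i n)) =
          Submodule.Quotient.mk (z i n) := rfl
      rw [h2, Submodule.Quotient.eq] at h1
      exact h1
    choose x hx using fun n => hsurj n (fun i => z i n)
    have hxcompat : ∀ {m n : ℕ} (hmn : m ≤ n), x n - x m ∈ (I ^ m • ⊤ : Submodule R M) := by
      intro m n hmn
      apply hinj
      intro i
      have e : f i (x n - x m) = (f i (x n) - z i n) + (z i n - z i m) - (f i (x m) - z i m) := by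
        rw [map_sub]; abel
      rw [e]
      refine Submodule.sub_mem _ (Submodule.add_mem _ ?_ (hzcompat i hmn)) (hx m i)
      exact Submodule.smul_mono_left (Ideal.pow_le_pow_right hmn) (hx n i)
    let X : AdicCompletion I M :=
      ⟨fun n => Submodule.Quotient.mk (x n), by
        intro m n hmn
        have h2 : AdicCompletion.transitionMap I M hmn (Submodule.Quotient.mk (x n)) =
          Submodule.Quotient.mk (x n) := rfl
        rw [h2, Submodule.Quotient.eq]
        exact hxcompat hmn⟩
    refine ⟨X, ?_⟩
    funext i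
    apply AdicCompletion.ext
    intro n
    simp only [LinearMap.pi_apply]
    rw [AdicCompletion.map_val_apply]
    show LinearMap.reduceModIdeal (I ^ n) (f i) (Submodule.Quotient.mk (x n)) = (y i).val n
    rw [LinearMap.reduceModIdeal_apply, ← hz i n, Submodule.Quotient.eq]
    exact hx n i

end limit

section level

variable {R : Type u} [CommRing R] (I : Ideal R)

theorem level_inj (n : ℕ) (x : R)
    (h : ∀ m : {m : MaximalSpectrum R // I ≤ m.asIdeal},
      algebraMap R (Localization.AtPrime m.1.asIdeal) x ∈
        (I ^ n • ⊤ : Submodule R (Localization.AtPrime m.1.asIdeal))) :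
    x ∈ (I ^ n • ⊤ : Submodule R R) := by
  rw [Ideal.smul_top_eq_map, Submodule.restrictScalars_mem, Algebra.algebraMap_self, Ideal.map_id]
  apply Ideal.mem_of_localization_maximal
  intro P hP
  by_cases hIP : I ≤ P
  · have := h ⟨⟨P, hP⟩, hIP⟩
    rw [Ideal.smul_top_eq_map, Submodule.restrictScalars_mem] at this
    exact this
  · obtain ⟨a, haI, haP⟩ := SetLike.not_le_iff_exists.mp hIP
    have hunit : IsUnit (algebraMap R (Localization.AtPrime P) (a ^ n)) :=
      IsLocalization.map_units (Localization.AtPrime P)
        (⟨a ^ n, show a ^ n ∈ P.primeCompl from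
          fun hmem => haP (hP.isPrime.mem_of_pow_mem n hmem)⟩ : P.primeCompl)
    have hmem : algebraMap R (Localization.AtPrime P) (a ^ n) ∈
        Ideal.map (algebraMap R (Localization.AtPrime P)) (I ^ n) :=
      Ideal.mem_map_of_mem _ (Ideal.pow_mem_pow haI n)
    rw [Ideal.eq_top_of_isUnit_mem _ hmem hunit]
    exact Submodule.mem_top

variable (hI : ∀ (p : Ideal R), p.IsPrime → I ≤ p → p.IsMaximal)

include hI in
theorem maximalIdeal_le_radical (P : Ideal R) [P.IsMaximal] (n : ℕ) :
    IsLocalRing.maximalIdeal (Localization.AtPrime P) ≤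
      (Ideal.map (algebraMap R (Localization.AtPrime P)) (I ^ n)).radical := by
  rw [Ideal.radical_eq_sInf]
  apply le_sInf
  rintro Q ⟨hJQ, hQ⟩
  have hJQ' : I ^ n ≤ Q.comap (algebraMap R (Localization.AtPrime P)) :=
    Ideal.map_le_iff_le_comap.mp hJQ
  haveI : (Q.comap (algebraMap R (Localization.AtPrime P))).IsPrime := Ideal.comap_isPrime _ Q
  have hIQ : I ≤ Q.comap (algebraMap R (Localization.AtPrime P)) := Ideal.IsPrime.le_of_pow_le hJQ'
  have hmax := hI _ inferInstance hIQ
  have hle : Q.comap (algebraMap R (Localization.AtPrime P)) ≤ P :=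
    (Ideal.comap_mono (IsLocalRing.le_maximalIdeal hQ.ne_top)).trans
      (le_of_eq (Localization.AtPrime.under_maximalIdeal (I := P)))
  have heq : Q.comap (algebraMap R (Localization.AtPrime P)) = P :=
    hmax.eq_of_le (Ideal.IsPrime.ne_top inferInstance) hle
  rw [(Localization.AtPrime.eq_maximalIdeal_iff_under_eq (I := P)).mp heq]

/-- the ideal `q` -/
noncomputable def q (P : Ideal R) [P.IsPrime] (n : ℕ) : Ideal R :=
  (Ideal.map (algebraMap R (Localization.AtPrime P)) (I ^ n)).comap
    (algebraMap R (Localization.AtPrime P))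

include hI in
theorem eq_of_q_le (P : Ideal R) [P.IsMaximal] (n : ℕ) (p : Ideal R) [p.IsMaximal]
    (h : q I P n ≤ p) : p = P := by
  by_contra hne
  have hnot : ¬ P ≤ p := by
    intro hle
    exact hne ((‹P.IsMaximal›.eq_of_le (Ideal.IsPrime.ne_top inferInstance) hle).symm)
  obtain ⟨a, haP, hap⟩ := SetLike.not_le_iff_exists.mp hnot
  have h1 : algebraMap R (Localization.AtPrime P) a ∈
      IsLocalRing.maximalIdeal (Localization.AtPrime P) :=
    (IsLocalization.AtPrime.to_map_mem_maximal_iff _ P a).mpr haP
  obtain ⟨k, hk⟩ := maximalIdeal_le_radical I hI P n h1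
  rw [← map_pow] at hk
  have h2 : a ^ k ∈ q I P n := hk
  exact hap (Ideal.IsPrime.mem_of_pow_mem inferInstance k (h h2))

include hI in
theorem level_surj (hR : Finite (MaximalSpectrum R)) (n : ℕ)
    (y : ∀ m : {m : MaximalSpectrum R // I ≤ m.asIdeal}, Localization.AtPrime m.1.asIdeal) :
    ∃ x : R, ∀ m : {m : MaximalSpectrum R // I ≤ m.asIdeal},
      algebraMap R (Localization.AtPrime m.1.asIdeal) x - y m ∈
        (I ^ n • ⊤ : Submodule R (Localization.AtPrime m.1.asIdeal)) := by
  classical
  haveI : Finite {m : MaximalSpectrum R // I ≤ m.asIdeal} := inferInstance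
  have hb : ∀ m : {m : MaximalSpectrum R // I ≤ m.asIdeal}, ∃ b : R,
      algebraMap R (Localization.AtPrime m.1.asIdeal) b - y m ∈
        Ideal.map (algebraMap R (Localization.AtPrime m.1.asIdeal)) (I ^ n) := by
    intro m
    obtain ⟨⟨a, s⟩, has⟩ := IsLocalization.surj m.1.asIdeal.primeCompl (y m)
    simp only at has
    have hs : (s : R) ∉ m.1.asIdeal := s.2
    have hsup : q I m.1.asIdeal n ⊔ Ideal.span {(s : R)} = ⊤ := by
      by_contra hne
      obtain ⟨p, hp, hle⟩ := Ideal.exists_le_maximal _ hne
      haveI := hp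
      have hpP := eq_of_q_le I hI m.1.asIdeal n p (le_sup_left.trans hle)
      have hsp : (s : R) ∈ p := hle (Ideal.mem_sup_right (Ideal.mem_span_singleton_self _))
      rw [hpP] at hsp
      exact hs hsp
    have h1 : (1 : R) ∈ q I m.1.asIdeal n ⊔ Ideal.span {(s : R)} := hsup ▸ Submodule.mem_top
    obtain ⟨u, hu, w, hw, huw⟩ := Submodule.mem_sup.mp h1
    obtain ⟨c, rfl⟩ := Ideal.mem_span_singleton'.mp hw
    refine ⟨a * c, ?_⟩
    have hu' : algebraMap R (Localization.AtPrime m.1.asIdeal) u ∈
        Ideal.map (algebraMap R (Localization.AtPrime m.1.asIdeal)) (I ^ n) := hu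
    have e : algebraMap R (Localization.AtPrime m.1.asIdeal) (a * c) - y m =
        - (y m * algebraMap R (Localization.AtPrime m.1.asIdeal) u) := by
      have e1 : algebraMap R (Localization.AtPrime m.1.asIdeal) u +
          algebraMap R (Localization.AtPrime m.1.asIdeal) c *
            algebraMap R (Localization.AtPrime m.1.asIdeal) (s : R) = 1 := by
        rw [← map_mul, ← map_add, huw, map_one]
      rw [map_mul, ← has]
      linear_combination (y m) * e1
    rw [e]
    exact neg_mem (Ideal.mul_mem_left _ _ hu')
  choose b hb using hb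
  have hcop : Pairwise (Function.onFun IsCoprime
      (fun m : {m : MaximalSpectrum R // I ≤ m.asIdeal} => q I m.1.asIdeal n)) := by
    intro m m' hmm'
    show IsCoprime (q I m.1.asIdeal n) (q I m'.1.asIdeal n)
    rw [Ideal.isCoprime_iff_sup_eq]
    by_contra hne
    obtain ⟨p, hp, hle⟩ := Ideal.exists_le_maximal _ hne
    haveI := hp
    have h1 := eq_of_q_le I hI m.1.asIdeal n p (le_sup_left.trans hle)
    have h2 := eq_of_q_le I hI m'.1.asIdeal n p (le_sup_right.trans hle)
    apply hmm'
    apply Subtype.ext
    apply MaximalSpectrum.ext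
    rw [← h1, ← h2]
  obtain ⟨x, hx⟩ := Ideal.pi_quotient_surjective hcop (fun m => Ideal.Quotient.mk _ (b m))
  refine ⟨x, fun m => ?_⟩
  rw [Ideal.smul_top_eq_map, Submodule.restrictScalars_mem]
  have h1 : x - b m ∈ q I m.1.asIdeal n := Ideal.Quotient.eq.mp (hx m)
  have h2 : algebraMap R (Localization.AtPrime m.1.asIdeal) (x - b m) ∈
      Ideal.map (algebraMap R (Localization.AtPrime m.1.asIdeal)) (I ^ n) := h1
  have e : algebraMap R (Localization.AtPrime m.1.asIdeal) x - y m =
      algebraMap R (Localization.AtPrime m.1.asIdeal) (x - b m) +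
        (algebraMap R (Localization.AtPrime m.1.asIdeal) (b m) - y m) := by
    rw [map_sub]; ring
  rw [e]
  exact Ideal.add_mem _ h2 (hb m)

end level

/-- Let R be a semilocal ring (finitely many maximal ideals) and I an ideal of R of co-height zero, i.e.
every prime ideal containing I is maximal. Then the canonical map from the I-adic completion of R to
the product, over the maximal ideals m ⊇ I, of the I-adic completions of the local rings R_m
(equivalently their IR_m-adic completions) is bijective; it is the continuous ring isomorphism of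
the source, stated here as bijectivity of the canonical map of completed modules. -/
theorem result
    (R : Type u) [CommRing R] (hR : Finite (MaximalSpectrum R)) (I : Ideal R)
    (hI : ∀ (p : Ideal R), p.IsPrime → I ≤ p → p.IsMaximal) :
    Function.Bijective (LinearMap.pi (fun m : {m : MaximalSpectrum R // I ≤ m.asIdeal} =>
      AdicCompletion.map I (Algebra.linearMap R (Localization.AtPrime m.1.asIdeal)))) := by
  apply bijective_of_levelwise I
    (fun m : {m : MaximalSpectrum R // I ≤ m.asIdeal} => Localization.AtPrime m.1.asIdeal)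
    (fun m => Algebra.linearMap R (Localization.AtPrime m.1.asIdeal))
  · intro n x hx
    exact level_inj I n x hx
  · intro n y
    exact level_surj I hI hR n y

end Groth.Agent.S14727
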