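import Groth.Statements.S14730
import Groth.Agent.Lib.Helper14.PruferInter

set_option autoImplicit false
universe u
open ValPrufer

namespace Groth.Agent.S14730

open Groth.Agent.Lib.Helper14.PruferInter

/-- Let R be a semilocal Prüfer domain (an integral domain with finitely many maximal ideals whose
localisations at primes are valuation rings). Then R is the increasing union of subrings that are
semilocal Prüfer domains of finite Krull dimension; equivalently, every finite subset of R is
contained in such a subring. -/
theorem result
    (R : Type u) [CommRing R] [IsDomain R]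
    (hR : ∀ (p : Ideal R) [p.IsPrime], ValuationRing (Localization.AtPrime p))
    (hfin : Finite (MaximalSpectrum R)) (s : Finset R) :
    ∃ R' : Subring R, (↑s : Set R) ⊆ R' ∧
      (∀ (p : Ideal R') [p.IsPrime], ValuationRing (Localization.AtPrime p)) ∧
      Finite (MaximalSpectrum R') ∧ ringKrullDim R' < ⊤ := by
  refine ⟨subR (Subfield.closure ((algebraMap R (FractionRing R)) '' (s : Set R))), ?_, ?_, ?_, ?_⟩
  · intro r hr
    exact Subfield.subset_closure ⟨r, hr, rfl⟩
  · intro p hp
    exact valuationRing_localization hR _ p
  · exact finite_maximalSpectrum _
  · have hle : ringKrullDim (subR (Subfield.closure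
        ((algebraMap R (FractionRing R)) '' (s : Set R)))) ≤ ((s.card + 1 : ℕ) : WithBot ℕ∞) := by
      rw [ringKrullDim, Order.krullDim]
      refine iSup_le fun p => ?_
      have := length_le_subR hR s _ rfl p
      exact_mod_cast this
    exact lt_of_le_of_lt hle (WithBot.coe_lt_coe.2 (ENat.natCast_lt_top _))

end Groth.Agent.S14730
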