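import Groth.Statements.S14731
import Groth.Agent.Lib.Helper97.SmoothModel

set_option autoImplicit false
universe u
open ValPrufer

namespace Groth.Agent.S14731

/-- In characteristic zero, every field K generated as a field by a finite set is the fraction field of
a subring A of K of finite type and smooth over the integers. -/
theorem result
    (K : Type u) [Field K] [CharZero K] (s : Finset K)
    (hs : Subfield.closure (↑s : Set K) = ⊤) :
    ∃ A : Subring K, Algebra.FiniteType ℤ A ∧ Algebra.Smooth ℤ A ∧ IsFractionRing A K := by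
  let A₀ : Subalgebra ℤ K := Algebra.adjoin ℤ (↑s : Set K)
  have : Algebra.FiniteType ℤ A₀ :=
    (Subalgebra.fg_iff_finiteType _).mp ⟨s, rfl⟩
  have : IsFractionRing A₀ K :=
    Groth.Agent.Lib.Helper97.SmoothModel.isFractionRing_adjoin _ K _ hs
  have : Algebra.FormallySmooth ℤ K := Groth.Agent.Lib.Helper97.SmoothModel.formallySmooth_int K
  obtain ⟨A, h1, h2, h3⟩ := Groth.Agent.Lib.Helper97.SmoothModel.exists_smooth_subalgebra ℤ K A₀
  let e : A ≃ₐ[ℤ] A.toSubring := (RingEquiv.refl A).toIntAlgEquiv
  refine ⟨A.toSubring, ?_, ?_, ?_⟩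
  · exact Algebra.FiniteType.equiv h1 e
  · exact Algebra.Smooth.of_equiv e
  · exact h3

end Groth.Agent.S14731
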