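import Groth.Statements.S14732
import Groth.Agent.Lib.Helper97.SmoothModel
import Mathlib.RingTheory.EssentialFiniteness
import Mathlib.Algebra.Algebra.ZMod

set_option autoImplicit false
universe u
open ValPrufer

namespace Groth.Agent.S14732

/-- In characteristic p > 0, a field K that is finitely generated over its prime subfield F (a field
with p elements) is the fraction field of an integral scheme smooth over F; concretely, there is an
F-subalgebra A of K, of finite type and smooth over F, whose fraction field is K. -/
theorem result
    (K : Type u) [Field K] (p : ℕ) [Fact p.Prime] [CharP K p] (s : Finset K)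
    (hs : Subfield.closure (↑s : Set K) = ⊤) :
    ∃ A : Subalgebra (⊥ : Subfield K) K, Algebra.FiniteType (⊥ : Subfield K) A ∧
      Algebra.Smooth (⊥ : Subfield K) A ∧ IsFractionRing A K := by
  let _ : Algebra (ZMod p) K := ZMod.algebra K p
  have : Finite (⊥ : Subfield K) := by
    have h := Subfield.bot_eq_of_zMod_algebra (K := K) p
    have hfin : (↑(⊥ : Subfield K) : Set K).Finite := by
      rw [h, RingHom.coe_fieldRange]
      exact Set.finite_range _
    exact hfin.to_subtype
  have : PerfectField (⊥ : Subfield K) := PerfectField.ofFinite
  let A₀ : Subalgebra (⊥ : Subfield K) K := Algebra.adjoin (⊥ : Subfield K) (↑s : Set K)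
  have : Algebra.FiniteType (⊥ : Subfield K) A₀ :=
    (Subalgebra.fg_iff_finiteType _).mp ⟨s, rfl⟩
  have : IsFractionRing A₀ K :=
    Groth.Agent.Lib.Helper97.SmoothModel.isFractionRing_adjoin _ K _ hs
  have : Algebra.EssFiniteType A₀ K :=
    Algebra.EssFiniteType.of_isLocalization K (nonZeroDivisors A₀)
  have : Algebra.EssFiniteType (⊥ : Subfield K) K :=
    Algebra.EssFiniteType.comp (⊥ : Subfield K) A₀ K
  have : Algebra.FormallySmooth (⊥ : Subfield K) K := Algebra.FormallySmooth.of_perfectField
  exact Groth.Agent.Lib.Helper97.SmoothModel.exists_smooth_subalgebra _ K A₀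

end Groth.Agent.S14732
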