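import Groth.Statements.S14733
import Groth.Agent.S4932
import Groth.Agent.Lib.Helper73.DimFormula.FiberDimBC

set_option autoImplicit false
open CategoryTheory AlgebraicGeometry
universe u
open ValPrufer

namespace Groth.Agent.S14733

/-- Let R be a Prüfer domain (an integral domain whose localisations at primes are valuation rings), X
an irreducible scheme and f : X ⟶ Spec R a dominant morphism of finite type. If the fibre of f over
a point γ of Spec R is nonempty, then it has the same dimension as the fibre over the generic point. -/
theorem result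
    (R : Type u) [CommRing R] [IsDomain R]
    (hR : ∀ (p : Ideal R) [p.IsPrime], ValuationRing (Localization.AtPrime p))
    (X : Scheme.{u}) [IrreducibleSpace X] (f : X ⟶ Spec (CommRingCat.of R))
    [LocallyOfFiniteType f] [QuasiCompact f] [IsDominant f] (γ : Spec (CommRingCat.of R))
    (h0 : Nonempty ↥(f.fiber γ)) :
    topologicalKrullDim ↥(f.fiber γ) =
      topologicalKrullDim ↥(f.fiber (genericPoint (Spec (CommRingCat.of R)))) := by
  open Groth.Agent.Lib.Helper73 CategoryTheory.Limits Topology in
  haveI : γ.asIdeal.IsPrime := γ.isPrime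
  set Rγ := Localization.AtPrime γ.asIdeal with hRγ
  haveI : ValuationRing Rγ := hR γ.asIdeal
  set g : Spec (CommRingCat.of Rγ) ⟶ Spec (CommRingCat.of R) :=
    Spec.map (CommRingCat.ofHom (algebraMap R Rγ)) with hg
  haveI : IsPreimmersion g := IsPreimmersion.of_isLocalization γ.asIdeal.primeCompl
  set f' := pullback.snd f g with hf'
  set g' := pullback.fst f g with hg'
  have hsq : IsPullback g' f' f g := IsPullback.of_hasPullback f g
  -- generic points
  set ξ := genericPoint ↥X with hξdef
  have hξ : f ξ = genericPoint ↥(Spec (CommRingCat.of R)) := by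
    have h1 : IsGenericPoint (f ξ) (Set.univ : Set ↥(Spec (CommRingCat.of R))) := by
      have := (genericPoint_spec ↥X).image f.continuous
      rwa [Set.image_univ, f.denseRange.closure_range] at this
    exact h1.eq (genericPoint_spec _)
  have hgcl : g (IsLocalRing.closedPoint Rγ) = γ := by
    apply PrimeSpectrum.ext
    exact IsLocalization.AtPrime.under_maximalIdeal Rγ γ.asIdeal
  have hggen : g (genericPoint ↥(Spec (CommRingCat.of Rγ))) =
      genericPoint ↥(Spec (CommRingCat.of R)) := by
    rw [genericPoint_eq_bot_of_affine (CommRingCat.of Rγ), genericPoint_eq_bot_of_affine (CommRingCat.of R)]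
    apply PrimeSpectrum.ext
    change Ideal.comap (algebraMap R Rγ) ⊥ = ⊥
    rw [← RingHom.ker_eq_comap_bot, RingHom.ker_eq_bot_iff_eq_zero]
    intro x hx
    have hinj : Function.Injective (algebraMap R Rγ) :=
      IsLocalization.injective Rγ γ.asIdeal.primeCompl_le_nonZeroDivisors
    exact hinj (by simpa using hx)
  -- irreducibility of the base change
  have hemb : IsEmbedding g' := (inferInstance : IsPreimmersion g').isEmbedding
  have hrange : Set.range g' = f ⁻¹' Set.range g := Scheme.Pullback.range_fst f g
  have hξr : ξ ∈ Set.range g' := by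
    rw [hrange, Set.mem_preimage, hξ, ← hggen]
    exact ⟨_, rfl⟩
  obtain ⟨ξ', hξ'⟩ := hξr
  haveI : IrreducibleSpace ↥(pullback f g) := by
    have hdense : closure ({ξ'} : Set ↥(pullback f g)) = Set.univ := by
      rw [hemb.isInducing.closure_eq_preimage_closure_image, Set.image_singleton, hξ',
        (genericPoint_spec ↥X).def]
      simp
    have : IsIrreducible (Set.univ : Set ↥(pullback f g)) := by
      rw [← hdense]
      exact isIrreducible_singleton.closure
    exact (irreducibleSpace_def _).2 this
  haveI : IsDominant f' := by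
    refine ⟨?_⟩
    have h1 : f' ξ' = genericPoint ↥(Spec (CommRingCat.of Rγ)) := by
      have hinj : Function.Injective g := (inferInstance : IsPreimmersion g).isEmbedding.injective
      apply hinj
      rw [hggen, ← hξ, ← hξ']
      have := congrArg (fun φ => φ.base ξ') hsq.w
      exact this.symm
    have h2 : closure {f' ξ'} ⊆ closure (Set.range f') :=
      closure_mono (Set.singleton_subset_iff.2 ⟨ξ', rfl⟩)
    rw [h1, (genericPoint_spec _).def] at h2
    exact dense_iff_closure_eq.2 (Set.eq_univ_of_univ_subset h2)
  have h0' : Nonempty ↥(f'.fiber (IsLocalRing.closedPoint Rγ)) := by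
    obtain ⟨z⟩ := h0
    obtain ⟨w, hw1, hw2⟩ := Scheme.Pullback.exists_preimage_pullback (f := f) (g := g)
      (f.fiberι γ z) (IsLocalRing.closedPoint Rγ) (by
        rw [hgcl]
        have : f.fiberι γ z ∈ Set.range (f.fiberι γ) := ⟨_, rfl⟩
        rw [f.range_fiberι] at this
        exact this)
    exact ⟨(f'.fiberHomeo _).symm ⟨w, hw2⟩⟩
  have key := Groth.Agent.S4932.result f' h0'
  have k1 := topologicalKrullDim_fiber_eq_of_isPullback f g g' f' hsq (IsLocalRing.closedPoint Rγ)
  have k2 := topologicalKrullDim_fiber_eq_of_isPullback f g g' f' hsq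
    (genericPoint ↥(Spec (CommRingCat.of Rγ)))
  rw [hgcl] at k1
  rw [hggen] at k2
  exact k1.symm.trans (key.trans k2)


end Groth.Agent.S14733
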