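import Groth.Statements.S14738
import Groth.Agent.Lib.Helper14.FinTrdeg

set_option autoImplicit false
universe u
open ValPrufer

namespace Groth.Agent.S14738

open Groth.Agent.Lib.Helper14.FinTrdeg

section
variable {R : Type u} [CommRing R] [IsDomain R]

theorem total_of_le (m : Ideal R) [m.IsPrime]
    (hV : ValuationRing (Localization.AtPrime m)) (p q : Ideal R) [hp' : p.IsPrime]
    [hq' : q.IsPrime] (hp : p ≤ m) (hq : q ≤ m) : p ≤ q ∨ q ≤ p := by
  have hdp : Disjoint (m.primeCompl : Set R) p := by
    rw [Set.disjoint_left]
    intro x hx hxp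
    exact hx (hp hxp)
  have hdq : Disjoint (m.primeCompl : Set R) q := by
    rw [Set.disjoint_left]
    intro x hx hxq
    exact hx (hq hxq)
  have e1 := IsLocalization.under_map_of_isPrime_disjoint m.primeCompl
    (Localization.AtPrime m) hp' hdp
  have e2 := IsLocalization.under_map_of_isPrime_disjoint m.primeCompl
    (Localization.AtPrime m) hq' hdq
  rcases (ValuationRing.le_total_ideal (A := Localization.AtPrime m)).total
    (p.map (algebraMap R (Localization.AtPrime m)))
    (q.map (algebraMap R (Localization.AtPrime m))) with h | h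
  · left
    have := Ideal.comap_mono (f := algebraMap R (Localization.AtPrime m)) h
    rw [← Ideal.under_def, ← Ideal.under_def, e1, e2] at this
    exact this
  · right
    have := Ideal.comap_mono (f := algebraMap R (Localization.AtPrime m)) h
    rw [← Ideal.under_def, ← Ideal.under_def, e1, e2] at this
    exact this

theorem finite_primeSpectrum
    (hR : ∀ (p : Ideal R) [p.IsPrime], ValuationRing (Localization.AtPrime p))
    [Finite (MaximalSpectrum R)] (hdim : ringKrullDim R < ⊤) : Finite (PrimeSpectrum R) := by
  classical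
  obtain ⟨N, hN⟩ : ∃ N : ℕ, ∀ p : LTSeries (PrimeSpectrum R), p.length ≤ N := by
    have h1 : ringKrullDim R ≠ ⊤ := ne_of_lt hdim
    have h2 : ringKrullDim R ≠ ⊥ := by
      intro h
      have := ringKrullDim_nonneg_of_nontrivial (R := R)
      rw [h] at this
      exact absurd this (by simp)
    obtain ⟨n, hn⟩ := WithBot.ne_bot_iff_exists.1 h2
    have hn' : n ≠ ⊤ := by
      rintro rfl
      exact h1 hn.symm
    obtain ⟨N, rfl⟩ := ENat.ne_top_iff_exists.1 hn'
    refine ⟨N, fun p => ?_⟩
    have := Order.LTSeries.length_le_krullDim p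
    rw [← ringKrullDim, ← hn] at this
    exact_mod_cast this
  have hfin : ∀ m : MaximalSpectrum R,
      Finite {p : PrimeSpectrum R // p.asIdeal ≤ m.asIdeal} := by
    intro m
    have hmp := m.isMaximal.isPrime
    apply finite_of_chain_bound _ N
    · intro p
      exact hN (p.map Subtype.val (fun a b hab => hab))
    · intro p q
      exact total_of_le m.asIdeal (hR m.asIdeal) p.1.asIdeal q.1.asIdeal p.2 q.2
  let f : (Σ m : MaximalSpectrum R, {p : PrimeSpectrum R // p.asIdeal ≤ m.asIdeal}) →
      PrimeSpectrum R := fun x => x.2.1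
  apply Finite.of_surjective f
  intro p
  obtain ⟨m, hm, hpm⟩ := Ideal.exists_le_maximal p.asIdeal p.isPrime.ne_top
  exact ⟨⟨⟨m, hm⟩, ⟨p, hpm⟩⟩, rfl⟩

end

/-- Let R be a semilocal Prüfer domain (an integral domain with finitely many maximal ideals whose
localisations at primes are valuation rings) of finite Krull dimension, and m a maximal ideal of R.
Then there is a ∈ R with V(a) = {m}, i.e. m is the only prime ideal containing a, and there is b ∉ m
such that R[1/b] is the localisation R_m (every element outside m becomes invertible after inverting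
b); consequently the spectra of the local rings R_m form a Zariski open covering of Spec R. (The
published remark assumes positive Krull dimension to construct a; for R a field the assertions hold
with a = 0 and b = 1. It also takes b to be the product of the elements a_n chosen in the same way
for the other maximal ideals n; that choice fails as soon as a non-maximal prime lies in another
maximal ideal but not in m, e.g. for the intersection of two independent rank-two valuation rings of
a field, so this row asserts only that some such b exists.) -/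
theorem result
    (R : Type u) [CommRing R] [IsDomain R]
    (hR : ∀ (p : Ideal R) [p.IsPrime], ValuationRing (Localization.AtPrime p))
    (hfin : Finite (MaximalSpectrum R)) (hdim : ringKrullDim R < ⊤)
    (m : Ideal R) [m.IsMaximal] :
    (∃ a : R, ∀ (p : Ideal R), p.IsPrime → (a ∈ p ↔ p = m)) ∧
      ∃ b : R, b ∉ m ∧ IsLocalization.AtPrime (Localization.Away b) m := by
  classical
  have hm : m.IsMaximal := inferInstance
  have hspec := finite_primeSpectrum hR hdim
  have := Fintype.ofFinite (PrimeSpectrum R)
  have hmp : m.IsPrime := hm.isPrime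
  let m₀ : PrimeSpectrum R := ⟨m, hmp⟩
  constructor
  · let s : Finset (PrimeSpectrum R) := Finset.univ.filter fun p => p.asIdeal ≠ m
    have key := Ideal.subset_union_prime (s := s) (f := fun p => p.asIdeal) m₀ m₀
      (fun i _ _ _ => i.isPrime) (I := m)
    have h1 : ¬ ((m : Set R) ⊆ ⋃ i ∈ (s : Set (PrimeSpectrum R)), (i.asIdeal : Set R)) := by
      rw [key]
      rintro ⟨i, his, hi⟩
      simp only [s, Finset.mem_filter, Finset.mem_univ, true_and] at his
      exact his (hm.eq_of_le i.isPrime.ne_top hi).symm
    rw [Set.not_subset] at h1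
    obtain ⟨a, ham, han⟩ := h1
    refine ⟨a, fun p hp => ⟨fun hap => ?_, fun h => h ▸ ham⟩⟩
    by_contra hne
    apply han
    simp only [Set.mem_iUnion]
    refine ⟨⟨p, hp⟩, ?_, hap⟩
    simp only [s, Finset.coe_filter, Finset.mem_univ, true_and, Set.mem_ofPred_eq]
    exact hne
  · let s : Finset (PrimeSpectrum R) := Finset.univ.filter fun p => ¬ p.asIdeal ≤ m
    have hch : ∀ p : PrimeSpectrum R, ∃ b : R, b ∉ m ∧ (¬ p.asIdeal ≤ m → b ∈ p.asIdeal) := by
      intro p
      by_cases hp : p.asIdeal ≤ m
      · exact ⟨1, fun h => hmp.ne_top ((Ideal.eq_top_iff_one _).2 h), fun h => absurd hp h⟩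
      · obtain ⟨b, hb, hbm⟩ := SetLike.not_le_iff_exists.1 hp
        exact ⟨b, hbm, fun _ => hb⟩
    choose bb hbb1 hbb2 using hch
    have hbm : ∏ p ∈ s, bb p ∉ m := by
      rw [Ideal.IsPrime.prod_mem_iff]
      rintro ⟨p, _, hp⟩
      exact hbb1 p hp
    have hbp : ∀ p : PrimeSpectrum R, ¬ p.asIdeal ≤ m → ∏ p ∈ s, bb p ∈ p.asIdeal := by
      intro p hp
      have hps : p ∈ s := by
        simp only [s, Finset.mem_filter, Finset.mem_univ, true_and]
        exact hp
      exact Ideal.mem_of_dvd _ (Finset.dvd_prod_of_mem _ hps) (hbb2 p hp)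
    refine ⟨∏ p ∈ s, bb p, hbm, ?_⟩
    generalize ∏ p ∈ s, bb p = b at hbm hbp
    have hle : Submonoid.powers b ≤ m.primeCompl := by
      rw [Submonoid.powers_le]
      exact hbm
    refine IsLocalization.of_le (M := Submonoid.powers b) (S := Localization.Away b) m.primeCompl
      hle ?_
    intro r hr
    by_contra hnu
    obtain ⟨𝔫, h𝔫, hr𝔫⟩ := exists_max_ideal_of_mem_nonunits (mem_nonunits_iff.2 hnu)
    have hq : (𝔫.comap (algebraMap R (Localization.Away b))).IsPrime :=
      Ideal.comap_isPrime _ _
    have hrq : r ∈ 𝔫.comap (algebraMap R (Localization.Away b)) := hr𝔫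
    have hqm : ¬ 𝔫.comap (algebraMap R (Localization.Away b)) ≤ m := fun h => hr (h hrq)
    have hbq := hbp ⟨_, hq⟩ hqm
    have hbu : IsUnit (algebraMap R (Localization.Away b) b) :=
      IsLocalization.map_units (Localization.Away b) (⟨b, Submonoid.mem_powers b⟩ :
        Submonoid.powers b)
    exact h𝔫.ne_top (Ideal.eq_top_of_isUnit_mem _ hbq hbu)

end Groth.Agent.S14738
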