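import Groth.Statements.S14743

set_option autoImplicit false
universe u
open CategoryTheory MonoidalCategory CartesianMonoidalCategory MonObj GrpObj AlgebraicGeometry
open AlgGrp

namespace Groth.Agent.S14743

lemma commGroup_aux {A : Type*} [CommGroup A] (x y z : A) :
    (x * y * z⁻¹)⁻¹ * z = (x * y * z⁻¹)⁻¹ * x * ((x * y * z⁻¹)⁻¹ * y) := by
  have : (x * y * z⁻¹)⁻¹ * x * ((x * y * z⁻¹)⁻¹ * y) =
      (x * y * z⁻¹)⁻¹ * ((x * y * z⁻¹)⁻¹ * (x * y)) := by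
    ac_rfl
  rw [this]
  congr 1
  rw [_root_.mul_inv_rev, _root_.inv_inv, _root_.mul_assoc, _root_.inv_mul_cancel, _root_.mul_one]

theorem result (k : Type u) [Field k] [IsAlgClosed k]
    (L G B : Over (Spec (CommRingCat.of k))) [GrpObj L] [GrpObj G] [GrpObj B]
    [IsCommMonObj L] [IsCommMonObj G] [IsCommMonObj B]
    (i : L ⟶ G) [IsMonHom i] (π : G ⟶ B) [IsMonHom π] (hker : AlgGrp.IsKernel i π)
    (hconst : ∀ f : B ⊗ B ⟶ L, ∃ l : 𝟙_ (Over (Spec (CommRingCat.of k))) ⟶ L, f = toUnit (B ⊗ B) ≫ l)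
    (s : B ⟶ G) (hs : s ≫ π = 𝟙 B) :
    ∃ s' : B ⟶ G, IsMonHom s' ∧ s' ≫ π = 𝟙 B := by
  let c : B ⊗ B ⟶ G := (fst B B ≫ s) * (snd B B ≫ s) * (μ[B] ≫ s)⁻¹
  have hc : c ≫ π = toUnit (B ⊗ B) ≫ η[B] := by
    simp only [c, MonObj.mul_comp, GrpObj.inv_comp, Category.assoc, hs, Category.comp_id]
    rw [← MonObj.mul_eq_mul, mul_inv_cancel, Hom.one_def]
  obtain ⟨c', hc'⟩ : ∃ c' : B ⊗ B ⟶ L, c' ≫ i = c := ⟨hker.lift c (toUnit _) hc, hker.lift_fst _ _ _⟩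
  obtain ⟨l, hl⟩ := hconst c'
  let g₀ : 𝟙_ (Over (Spec (CommRingCat.of k))) ⟶ G := l ≫ i
  have hg₀ : g₀ ≫ π = η[B] := by
    simp only [g₀, Category.assoc]
    rw [hker.w, ← Category.assoc, toUnit_unique (l ≫ toUnit L) (𝟙 _), Category.id_comp]
  have hcg : c = toUnit (B ⊗ B) ≫ g₀ := by
    rw [← hc', hl, Category.assoc]
  refine ⟨(toUnit B ≫ g₀)⁻¹ * s, ?_, ?_⟩
  · have hmul : μ[B] ≫ ((toUnit B ≫ g₀)⁻¹ * s) =
        (((toUnit B ≫ g₀)⁻¹ * s) ⊗ₘ ((toUnit B ≫ g₀)⁻¹ * s)) ≫ μ[G] := by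
      rw [← lift_fst_comp_snd_comp, ← Hom.mul_def]
      simp only [MonObj.comp_mul, GrpObj.comp_inv, ← Category.assoc, toUnit_unique (μ[B] ≫ toUnit B) (toUnit (B ⊗ B)),
        toUnit_unique (fst B B ≫ toUnit B) (toUnit (B ⊗ B)), toUnit_unique (snd B B ≫ toUnit B) (toUnit (B ⊗ B))]
      rw [← hcg]
      simp only [c]
      exact commGroup_aux _ _ _
    have hone : η[B] ≫ ((toUnit B ≫ g₀)⁻¹ * s) = η[G] := by
      have h1 := congr_arg (fun t => lift η[B] η[B] ≫ t) hmul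
      simp only [lift_map_assoc] at h1
      rw [← Category.assoc, ← Hom.mul_def, ← Hom.mul_def, MonObj.one_eq_one, _root_.mul_one,
        ← MonObj.one_eq_one] at h1
      rw [_root_.left_eq_mul] at h1
      rw [h1, MonObj.one_eq_one]
    exact ⟨hone, hmul⟩
  · rw [MonObj.mul_comp, GrpObj.inv_comp, Category.assoc, hg₀, hs, ← Hom.one_def, inv_one, _root_.one_mul]

end Groth.Agent.S14743
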