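import Groth.Statements.S14751
import Groth.Agent.Lib.Helper19.Grp.CentralAbelian

set_option autoImplicit false
universe u
open CategoryTheory CategoryTheory.Limits MonoidalCategory CartesianMonoidalCategory MonObj GrpObj AlgebraicGeometry
open AlgGrp

namespace Groth.Agent.S14751

/-- Over an algebraically closed field k let G be a group variety (smooth connected k-group scheme of
finite type), i : N → G an affine closed subgroup scheme which is the kernel of a flat surjective
homomorphism π : G → Q, and j : A → G an abelian subvariety (a smooth connected proper closed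
subgroup scheme) with A · N = G, that is, the multiplication A × N → G is surjective. Then the
multiplication A × N → G is a homomorphism and an isogeny (surjective with finite kernel), and so is
the composite A → G → Q. (In the published statement N is the largest connected affine normal
subgroup variety and Q = G/N the Albanese quotient; only the listed properties are used.) -/
theorem result (k : Type u) [Field k] [IsAlgClosed k]
    (G N A Q : Over (Spec (CommRingCat.of k))) [GrpObj G] [GrpObj N] [GrpObj A] [GrpObj Q]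
    [Smooth G.hom] [QuasiCompact G.hom] [ConnectedSpace ↥G.left]
    (i : N ⟶ G) [IsMonHom i] [IsClosedImmersion i.left] [IsAffine N.left]
    (π : G ⟶ Q) [IsMonHom π] [Flat π.left] [Surjective π.left] (hker : AlgGrp.IsKernel i π)
    (j : A ⟶ G) [IsMonHom j] [IsClosedImmersion j.left] [Smooth A.hom] [ConnectedSpace ↥A.left] [IsProper A.hom]
    (hsurj : Surjective ((j ⊗ₘ i) ≫ μ[G]).left) :
    IsMonHom ((j ⊗ₘ i) ≫ μ[G]) ∧ SGA7.IsIsogenyOver ((j ⊗ₘ i) ≫ μ[G]) ∧ SGA7.IsIsogenyOver (j ≫ π) := by
  -- A is central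
  have hcent : ∀ {T : Over (Spec (CommRingCat.of k))} (a : T ⟶ A) (g : T ⟶ G),
      (a ≫ j) * g = g * (a ≫ j) := by
    intro T a g
    have := Groth.Agent.Lib.Helper19.CentralAbelian.commute_of_proper A G G j (𝟙 G) (IsMonHom.one_hom j) (Category.comp_id _) a g
    rw [Category.comp_id] at this
    exact this.eq
  set m : A ⊗ N ⟶ G := (j ⊗ₘ i) ≫ μ[G] with hm
  have hmdef : m = (fst A N ≫ j) * (snd A N ≫ i) := by
    rw [hm, Hom.mul_def]
    congr 1
  have hmT : ∀ {T : Over (Spec (CommRingCat.of k))} (a : T ⟶ A) (n : T ⟶ N),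
      lift a n ≫ m = (a ≫ j) * (n ≫ i) := by
    intro T a n
    rw [hmdef, MonObj.comp_mul, lift_fst_assoc, lift_snd_assoc]
  have hiπ : i ≫ π = 1 := by rw [hker.w, Hom.one_def]
  have hmon : IsMonHom m := by
    constructor
    · rw [hmdef, MonObj.comp_mul, ← Category.assoc, ← Category.assoc, IsMonHom.one_hom (fst A N),
        IsMonHom.one_hom (snd A N), IsMonHom.one_hom, IsMonHom.one_hom]
      have hη1 : η[G] = 1 := by
        rw [Hom.one_def, toUnit_unique (toUnit _) (𝟙 _), Category.id_comp]
      rw [hη1, _root_.mul_one]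
    · have htm : ∀ {X Y M : Over (Spec (CommRingCat.of k))} [MonObj M] (f : X ⟶ M) (g : Y ⟶ M),
          (f ⊗ₘ g) ≫ μ[M] = (fst X Y ≫ f) * (snd X Y ≫ g) := by
        intro X Y M _ f g
        rw [Hom.mul_def]
        congr 1
      rw [htm m m]
      rw [hmdef, MonObj.comp_mul, MonObj.comp_mul, MonObj.comp_mul]
      rw [← Category.assoc μ[A ⊗ N], ← Category.assoc μ[A ⊗ N], IsMonHom.mul_hom (fst A N),
        IsMonHom.mul_hom (snd A N), htm, htm, MonObj.mul_comp, MonObj.mul_comp]
      simp only [Category.assoc]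
      have hc := hcent (snd (A ⊗ N) (A ⊗ N) ≫ fst A N) (fst (A ⊗ N) (A ⊗ N) ≫ snd A N ≫ i)
      simp only [Category.assoc] at hc
      have hgrp : ∀ {M : Type u} [Group M] (a₁ a₂ n₁ n₂ : M), a₂ * n₁ = n₁ * a₂ →
          a₁ * a₂ * (n₁ * n₂) = a₁ * n₁ * (a₂ * n₂) := by
        intro M _ a₁ a₂ n₁ n₂ h
        rw [_root_.mul_assoc, ← _root_.mul_assoc a₂, h, _root_.mul_assoc, _root_.mul_assoc]
      exact hgrp _ _ _ _ hc
  haveI : Mono i.left := inferInstance
  haveI : Mono i := Over.mono_of_mono_left i
  refine ⟨hmon, ⟨hsurj, ?_⟩, ⟨?_, ?_⟩⟩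
  · intro K κ hK
    have hκm : (κ ≫ fst A N ≫ j) * (κ ≫ snd A N ≫ i) = 1 := by
      rw [← MonObj.comp_mul, ← hmdef, hK.w, Hom.one_def]
    have hpb : IsPullback (κ ≫ fst A N) (κ ≫ snd A N)⁻¹ j i := by
      refine Groth.Agent.Lib.Helper19.CentralAbelian.isPullback_of_points _ _ _ _ ?_ ?_ ?_
      · rw [GrpObj.inv_comp, Category.assoc, Category.assoc]
        exact eq_inv_of_mul_eq_one_left hκm
      · intro T a n han
        have h1 : lift a n⁻¹ ≫ m = toUnit T ≫ η[G] := by
          rw [hmT, GrpObj.inv_comp, han, mul_inv_cancel, Hom.one_def]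
        refine ⟨hK.lift (lift a n⁻¹) (toUnit T) h1, ?_, ?_⟩
        · rw [← Category.assoc, hK.lift_fst, lift_fst]
        · rw [GrpObj.comp_inv, ← Category.assoc, hK.lift_fst, lift_snd, _root_.inv_inv]
      · intro T t t' h1 h2
        apply hK.hom_ext
        · apply CartesianMonoidalCategory.hom_ext
          · simpa only [Category.assoc] using h1
          · rw [GrpObj.comp_inv, GrpObj.comp_inv, inv_inj] at h2
            simpa only [Category.assoc] using h2
        · exact toUnit_unique _ _
    exact Groth.Agent.Lib.Helper19.CentralAbelian.isFinite_of_isPullback _ _ j i hpb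
  · have hmπ : m ≫ π = fst A N ≫ j ≫ π := by
      rw [hmdef, MonObj.mul_comp, Category.assoc, Category.assoc, hiπ, MonObj.comp_one,
        _root_.mul_one]
    refine ⟨fun q => ?_⟩
    obtain ⟨g, rfl⟩ := π.left.surjective q
    obtain ⟨z, rfl⟩ := m.left.surjective g
    refine ⟨(fst A N).left.base z, ?_⟩
    have := congrArg (fun φ => φ.left.base z) hmπ
    simpa using this.symm
  · intro K κ hK
    have hκ1 : (κ ≫ j) ≫ π = 1 := by
      rw [Category.assoc, hK.w, Hom.one_def]
    obtain ⟨ν, hν⟩ := Groth.Agent.Lib.Helper19.QuotDesc.exists_lift_of_isKernel hker (κ ≫ j) hκ1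
    have hpb : IsPullback κ ν j i := by
      refine Groth.Agent.Lib.Helper19.CentralAbelian.isPullback_of_points _ _ _ _ hν.symm ?_ ?_
      · intro T a n han
        have h1 : a ≫ j ≫ π = toUnit T ≫ η[Q] := by
          rw [← Category.assoc, han, Category.assoc, hiπ, MonObj.comp_one, Hom.one_def]
        refine ⟨hK.lift a (toUnit T) h1, hK.lift_fst _ _ _, ?_⟩
        rw [← cancel_mono i, Category.assoc, hν, ← Category.assoc, hK.lift_fst, han]
      · intro T t t' h1 _
        exact hK.hom_ext h1 (toUnit_unique _ _)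
    exact Groth.Agent.Lib.Helper19.CentralAbelian.isFinite_of_isPullback _ _ j i hpb

end Groth.Agent.S14751
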