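import Groth.Statements.S14754
import Mathlib
import Groth.Agent.Lib.Helper5.AMonPts
import Groth.Agent.Lib.Helper18.DiagField
import Groth.Agent.Lib.Helper18.DiagHom

set_option autoImplicit false
universe u
open CategoryTheory CategoryTheory.Limits MonoidalCategory CartesianMonoidalCategory MonObj GrpObj AlgebraicGeometry
open AlgGrp

namespace Groth.Agent.S14754


open Groth.Agent.Lib.Helper5.AMonPts Groth.Agent.Lib.Helper18.DiagField Groth.Agent.Lib.Helper18.DiagHom Magnet

section General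

variable {S : Scheme.{u}} {M N C : Type} [AddCommGroup M] [AddCommGroup N] [AddCommGroup C]

theorem map_id' : AMonS.map S (AddMonoidHom.id M) = 𝟙 (AMonS S M) := by
  apply monHomOfPt_injective
  have := monHomOfPt_map (AddMonoidHom.id M) (𝟙 (AMonS S M))
  rw [Category.id_comp] at this
  rw [this]
  rfl

theorem map_zero' : AMonS.map S (0 : N →+ M) = (1 : AMonS S M ⟶ AMonS S N) := by
  apply monHomOfPt_injective
  have := monHomOfPt_map (0 : N →+ M) (𝟙 (AMonS S M))
  rw [Category.id_comp] at this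
  rw [this, monHomOfPt_one]
  refine MonoidHom.ext fun n => ?_
  change monHomOfPt (𝟙 (AMonS S M)) 1 = 1
  rw [map_one]

theorem mono_map_of_surjective (q : M →+ C) (hq : Function.Surjective q) : Mono (AMonS.map S q) := by
  constructor
  intro T x y hxy
  apply monHomOfPt_injective
  have h1 := congrArg monHomOfPt hxy
  rw [monHomOfPt_map, monHomOfPt_map] at h1
  refine MonoidHom.ext fun c => ?_
  obtain ⟨m, hm⟩ := hq (Multiplicative.toAdd c)
  have h2 := congrArg (fun ψ => ψ (Multiplicative.ofAdd m)) h1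
  simp only [MonoidHom.comp_apply] at h2
  have h3 : (AddMonoidHom.toMultiplicative q) (Multiplicative.ofAdd m) = c := by
    change Multiplicative.ofAdd (q m) = c
    rw [hm]; rfl
  rw [h3] at h2
  exact h2

end General


section Algebra

theorem exists_retraction {M N C : Type} [AddCommGroup M] [AddCommGroup N] [AddCommGroup C]
    (φ : N →+ M) (hφ : Function.Injective φ) (q : M →+ C) (hq : Function.Surjective q)
    (hker : ∀ m, q m = 0 → m ∈ φ.range) (hqφ : ∀ n, q (φ n) = 0) [Module.Free ℤ C] :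
    ∃ ψ : M →+ N, ψ.comp φ = AddMonoidHom.id N := by
  obtain ⟨σ, hσ⟩ := Module.projective_lifting_property (q.toIntLinearMap) (LinearMap.id) hq
  have hσ' : ∀ c, q (σ c) = c := fun c => by
    have := congrArg (fun f => f c) hσ
    exact this
  have hex : ∀ m, ∃ n, φ n = m - σ (q m) := fun m => by
    have : q (m - σ (q m)) = 0 := by rw [map_sub, hσ', sub_self]
    obtain ⟨n, hn⟩ := hker _ this
    exact ⟨n, hn⟩
  let ψ : M →+ N :=
    { toFun := fun m => (hex m).choose
      map_zero' := by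
        apply hφ
        rw [(hex 0).choose_spec, map_zero, map_zero, map_zero, sub_zero]
      map_add' := fun a b => by
        apply hφ
        rw [(hex (a + b)).choose_spec, map_add φ, (hex a).choose_spec, (hex b).choose_spec, map_add,
          map_add]
        abel }
  refine ⟨ψ, ?_⟩
  ext n
  apply hφ
  change φ ((hex (φ n)).choose) = φ n
  rw [(hex (φ n)).choose_spec, hqφ, map_zero, sub_zero]

end Algebra


section Core

theorem isMonHom_inv_of_iso {C : Type*} [Category C] [MonoidalCategory C] {M N : C} [MonObj M] [MonObj N]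
    (f : M ≅ N) (h : IsMonHom f.hom) : IsMonHom f.inv := inferInstance

theorem isMonHom_of_inverse {C : Type*} [Category C] [MonoidalCategory C] {M N : C} [MonObj M] [MonObj N]
    (d : M ⟶ N) (c : N ⟶ M) (h1 : d ≫ c = 𝟙 _) (h2 : c ≫ d = 𝟙 _) [hd : IsMonHom d] : IsMonHom c :=
  isMonHom_inv_of_iso ⟨d, c, h1, h2⟩ hd

variable (k : Type u) [Field k] {M N L : Type} [AddCommGroup M] [AddCommGroup N] [AddCommGroup L]

theorem map_comp_eq {A B C : Type} [AddCommGroup A] [AddCommGroup B] [AddCommGroup C]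
    (S : Scheme.{u}) (f : B →+ A) (g : C →+ B) :
    AMonS.map S f ≫ AMonS.map S g = AMonS.map S (f.comp g) := (AMonS.map_comp S f g).symm

theorem core [Module.Free ℤ L]
    (π' : AMonS (Sk k) M ⟶ AMonS (Sk k) N) [IsMonHom π'] [Epi π']
    (i' : AMonS (Sk k) L ⟶ AMonS (Sk k) M) [IsMonHom i'] [Mono i']
    (hi : i' ≫ π' = 1)
    (hker : ∀ (T : Over (Sk k)) (g : T ⟶ AMonS (Sk k) M), g ≫ π' = 1 →
      ∃ c : T ⟶ AMonS (Sk k) L, c ≫ i' = g) :
    ∃ s' : AMonS (Sk k) N ⟶ AMonS (Sk k) M, IsMonHom s' ∧ s' ≫ π' = 𝟙 _ := by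
  let φ : N →+ M := phi k π'
  have hπ : π' = AMonS.map (Sk k) φ := eq_map_phi k π'
  -- injectivity of φ
  have hφ : Function.Injective φ := by
    rw [injective_iff_map_eq_zero]
    intro n hn
    let z : ℤ →+ N := zmultiplesHom N n
    have h1 : φ.comp z = 0 := by
      apply AddMonoidHom.ext_int
      change φ (z 1) = 0
      simp [z, hn]
    have h2 : π' ≫ AMonS.map (Sk k) z = π' ≫ AMonS.map (Sk k) (0 : ℤ →+ N) := by
      rw [hπ, map_comp_eq, map_comp_eq, h1, AddMonoidHom.comp_zero]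
    have h3 := (cancel_epi π').mp h2
    have h4 : z = 0 := map_injective k h3
    have := congrArg (fun f => f 1) h4
    simpa [z] using this
  -- cokernel
  let C : Type := M ⧸ φ.range
  let qC : M →+ C := QuotientAddGroup.mk' φ.range
  have hqC : Function.Surjective qC := QuotientAddGroup.mk'_surjective _
  have hqφ : ∀ n, qC (φ n) = 0 := fun n => by
    change (QuotientAddGroup.mk (φ n) : M ⧸ φ.range) = 0
    rw [QuotientAddGroup.eq_zero_iff]
    exact ⟨n, rfl⟩
  have hqker : ∀ m, qC m = 0 → m ∈ φ.range := fun m hm => by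
    change (QuotientAddGroup.mk m : M ⧸ φ.range) = 0 at hm
    rwa [QuotientAddGroup.eq_zero_iff] at hm
  have hqφ0 : qC.comp φ = 0 := by
    ext n
    exact hqφ n
  let j : AMonS (Sk k) C ⟶ AMonS (Sk k) M := AMonS.map (Sk k) qC
  have : Mono j := mono_map_of_surjective qC hqC
  have hjπ : j ≫ π' = 1 := by
    rw [hπ, map_comp_eq, hqφ0, map_zero']
  obtain ⟨c', hc'⟩ := hker _ j hjπ
  -- i' = map θ
  let θ : M →+ L := phi k i'
  have hi' : i' = AMonS.map (Sk k) θ := eq_map_phi k i'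
  have hθφ : θ.comp φ = 0 := by
    apply map_injective k
    rw [← map_comp_eq, ← hi', ← hπ, hi, map_zero']
  have hle : φ.range ≤ θ.ker := by
    rintro _ ⟨n, rfl⟩
    rw [AddMonoidHom.mem_ker]
    have := congrArg (fun f => f n) hθφ
    exact this
  let θb : C →+ L := QuotientAddGroup.lift φ.range θ hle
  have hθb : θb.comp qC = θ := by
    ext m
    rfl
  let d : AMonS (Sk k) L ⟶ AMonS (Sk k) C := AMonS.map (Sk k) θb
  have hdj : d ≫ j = i' := by
    rw [map_comp_eq, hθb, hi']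
  have hcd : c' ≫ d = 𝟙 _ := by
    rw [← cancel_mono j, Category.assoc, hdj, hc', Category.id_comp]
  have hdc : d ≫ c' = 𝟙 _ := by
    rw [← cancel_mono i', Category.assoc, hc', hdj, Category.id_comp]
  have hdmon : IsMonHom d := by
    change IsMonHom (AMonS.map (Sk k) θb)
    infer_instance
  have hc'mon : IsMonHom c' := isMonHom_of_inverse d c' hdc hcd
  let ζ : L →+ C := phi k c'
  have hc'ζ : c' = AMonS.map (Sk k) ζ := eq_map_phi k c'
  have h1 : θb.comp ζ = AddMonoidHom.id L := by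
    apply map_injective k
    rw [← map_comp_eq, ← hc'ζ, map_id']
    exact hdc
  have h2 : ζ.comp θb = AddMonoidHom.id C := by
    apply map_injective k
    rw [← map_comp_eq, ← hc'ζ, map_id']
    exact hcd
  let eCL : C ≃+ L :=
    { toFun := θb
      invFun := ζ
      left_inv := fun c => congrArg (fun f => f c) h2
      right_inv := fun l => congrArg (fun f => f l) h1
      map_add' := map_add θb }
  have : Module.Free ℤ C := Module.Free.of_equiv (eCL.symm.toIntLinearEquiv)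
  obtain ⟨ψ, hψ⟩ := exists_retraction φ hφ qC hqC hqker hqφ
  refine ⟨AMonS.map (Sk k) ψ, inferInstance, ?_⟩
  rw [hπ, map_comp_eq, hψ, map_id']

end Core



theorem isAffine_left_of_iso (k : Type u) [Field k] {M : Type} [AddCommGroup M]
    (G : Over (Sk k)) (a : G ⟶ AMonS (Sk k) M) (b : AMonS (Sk k) M ⟶ G)
    (hab : a ≫ b = 𝟙 G) (hba : b ≫ a = 𝟙 _) : IsAffine G.left := by
  let e1 : G ≅ AMonS (Sk k) M := ⟨a, b, hab, hba⟩
  let e2 : G.left ≅ Spec (CommRingCat.of (Alg k M)) :=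
    (Over.forget (Sk k)).mapIso e1 ≪≫ (Over.forget (Sk k)).mapIso (isoM k M).symm
  exact IsAffine.of_isIso e2.hom


/-- Over an algebraically closed field k, every exact sequence of split tori splits: if K, G, Q are
split tori over k, i : K → G a closed subgroup scheme which is the kernel of a flat surjective
homomorphism π : G → Q, then π has a section which is a homomorphism. -/
theorem result (k : Type u) [Field k] [IsAlgClosed k]
    (K G Q : Over (Spec (CommRingCat.of k))) [GrpObj K] [GrpObj G] [GrpObj Q] (nK nG nQ : ℕ)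
    (hK : Red.IsSplitTorusWith (Fin nK → ℤ) K) (hG : Red.IsSplitTorusWith (Fin nG → ℤ) G)
    (hQ : Red.IsSplitTorusWith (Fin nQ → ℤ) Q)
    (i : K ⟶ G) [IsMonHom i] [IsClosedImmersion i.left]
    (π : G ⟶ Q) [IsMonHom π] [Flat π.left] [Surjective π.left] (hker : AlgGrp.IsKernel i π) :
    ∃ s : Q ⟶ G, IsMonHom s ∧ s ≫ π = 𝟙 Q := by
  obtain ⟨eK⟩ := hK
  obtain ⟨eG⟩ := hG
  obtain ⟨eQ⟩ := hQ
  let aG : G ⟶ AMonS (Sk k) (Fin nG → ℤ) := eG.hom.hom.hom
  let bG : AMonS (Sk k) (Fin nG → ℤ) ⟶ G := eG.inv.hom.hom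
  have hGab : aG ≫ bG = 𝟙 G := congrArg (fun t => t.hom.hom) eG.hom_inv_id
  have hGba : bG ≫ aG = 𝟙 _ := congrArg (fun t => t.hom.hom) eG.inv_hom_id
  let aQ : Q ⟶ AMonS (Sk k) (Fin nQ → ℤ) := eQ.hom.hom.hom
  let bQ : AMonS (Sk k) (Fin nQ → ℤ) ⟶ Q := eQ.inv.hom.hom
  have hQab : aQ ≫ bQ = 𝟙 Q := congrArg (fun t => t.hom.hom) eQ.hom_inv_id
  have hQba : bQ ≫ aQ = 𝟙 _ := congrArg (fun t => t.hom.hom) eQ.inv_hom_id
  let aK : K ⟶ AMonS (Sk k) (Fin nK → ℤ) := eK.hom.hom.hom
  let bK : AMonS (Sk k) (Fin nK → ℤ) ⟶ K := eK.inv.hom.hom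
  have hKab : aK ≫ bK = 𝟙 K := congrArg (fun t => t.hom.hom) eK.hom_inv_id
  have hKba : bK ≫ aK = 𝟙 _ := congrArg (fun t => t.hom.hom) eK.inv_hom_id
  have maG : IsMonHom aG := inferInstanceAs (IsMonHom eG.hom.hom.hom)
  have mbG : IsMonHom bG := inferInstanceAs (IsMonHom eG.inv.hom.hom)
  have maQ : IsMonHom aQ := inferInstanceAs (IsMonHom eQ.hom.hom.hom)
  have mbQ : IsMonHom bQ := inferInstanceAs (IsMonHom eQ.inv.hom.hom)
  have maK : IsMonHom aK := inferInstanceAs (IsMonHom eK.hom.hom.hom)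
  have mbK : IsMonHom bK := inferInstanceAs (IsMonHom eK.inv.hom.hom)
  have affG : IsAffine G.left := isAffine_left_of_iso k G aG bG hGab hGba
  have affQ : IsAffine Q.left := isAffine_left_of_iso k Q aQ bQ hQab hQba
  have qcπ : QuasiCompact π.left := inferInstance
  have epiπl : Epi π.left := inferInstance
  have epiπ : Epi π := (Over.forget _).epi_of_epi_map epiπl
  have monoil : Mono i.left := inferInstance
  have monoi : Mono i := (Over.forget _).mono_of_mono_map monoil
  have isoaG : IsIso aG := ⟨bG, hGab, hGba⟩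
  have isobG : IsIso bG := ⟨aG, hGba, hGab⟩
  have isoaQ : IsIso aQ := ⟨bQ, hQab, hQba⟩
  have isobQ : IsIso bQ := ⟨aQ, hQba, hQab⟩
  have isoaK : IsIso aK := ⟨bK, hKab, hKba⟩
  have isobK : IsIso bK := ⟨aK, hKba, hKab⟩
  let π' : AMonS (Sk k) (Fin nG → ℤ) ⟶ AMonS (Sk k) (Fin nQ → ℤ) := bG ≫ π ≫ aQ
  let i' : AMonS (Sk k) (Fin nK → ℤ) ⟶ AMonS (Sk k) (Fin nG → ℤ) := bK ≫ i ≫ aG
  have mπ' : IsMonHom π' := inferInstance
  have mi' : IsMonHom i' := inferInstance
  have eπ' : Epi π' := inferInstance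
  have mi'' : Mono i' := inferInstance
  have hiπ : i ≫ π = 1 := by rw [hker.w, Hom.one_def]
  have hi : i' ≫ π' = 1 := by
    change (bK ≫ i ≫ aG) ≫ (bG ≫ π ≫ aQ) = 1
    simp only [Category.assoc]
    rw [reassoc_of% hGab, reassoc_of% hiπ]
    rw [MonObj.one_comp, MonObj.comp_one]
  have hk : ∀ (T : Over (Sk k)) (g : T ⟶ AMonS (Sk k) (Fin nG → ℤ)), g ≫ π' = 1 →
      ∃ c : T ⟶ AMonS (Sk k) (Fin nK → ℤ), c ≫ i' = g := by
    intro T g hg
    have h1 : (g ≫ bG) ≫ π = 1 := by
      have h2 : (g ≫ π') ≫ bQ = (g ≫ bG) ≫ π := by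
        change (g ≫ bG ≫ π ≫ aQ) ≫ bQ = _
        simp only [Category.assoc]
        rw [hQab, Category.comp_id]
      rw [← h2, hg, MonObj.one_comp]
    let c₀ : T ⟶ K := hker.lift (g ≫ bG) (toUnit T) (by rw [h1, Hom.one_def])
    have hc₀ : c₀ ≫ i = g ≫ bG := hker.lift_fst _ _ _
    refine ⟨c₀ ≫ aK, ?_⟩
    change (c₀ ≫ aK) ≫ bK ≫ i ≫ aG = g
    simp only [Category.assoc]
    rw [reassoc_of% hKab, reassoc_of% hc₀, hGba, Category.comp_id]
  obtain ⟨s', hs', hs'π⟩ := core k π' i' hi hk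
  refine ⟨aQ ≫ s' ≫ bG, inferInstance, ?_⟩
  have h3 : bG ≫ π = π' ≫ bQ := by
    change _ = (bG ≫ π ≫ aQ) ≫ bQ
    simp only [Category.assoc]
    rw [hQab, Category.comp_id]
  simp only [Category.assoc]
  rw [h3, reassoc_of% hs'π, hQab]

end Groth.Agent.S14754
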