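import Groth.Statements.S14765
import Groth.Agent.Lib.Helper12.Subtr2

set_option autoImplicit false
universe u
open CategoryTheory CategoryTheory.Limits AlgebraicGeometry
open Subtr

namespace Groth.Agent.S14765

open Groth.Agent.Lib.Helper12 in
theorem result (V : Type u) [CommRing V] [IsDomain V] [ValuationRing V]
    {X : Scheme.{u}} (f : X ⟶ Spec (CommRingCat.of V)) :
    List.TFAE [
      Subtr.UnivSSubtrusive f,
      Subtr.IsSSubtrusive f,
      ∀ y : Spec (CommRingCat.of V), ∃ x : X,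
        x ∈ closure (f ⁻¹' {(⟨⊥, Ideal.isPrime_bot⟩ : PrimeSpectrum V)}) ∧ f x = y,
      ∃ x x' : X, x' ⤳ x ∧ f x = IsLocalRing.closedPoint V ∧
        f x' = (⟨⊥, Ideal.isPrime_bot⟩ : PrimeSpectrum V),
      ∃ (W : Type u) (_ : CommRing W) (_ : IsDomain W) (_ : ValuationRing W)
        (g : Spec (CommRingCat.of W) ⟶ X), Surjective (g ≫ f),
      ∃ (Z : Scheme.{u}) (i : Z ⟶ X), IsClosedImmersion i ∧ Flat (i ≫ f) ∧ Surjective (i ≫ f)] := by
  have hgen : ∀ y : Spec (CommRingCat.of V),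
      (⟨⊥, Ideal.isPrime_bot⟩ : PrimeSpectrum V) ⤳ y := by
    intro y
    apply (PrimeSpectrum.le_iff_specializes (⟨⊥, Ideal.isPrime_bot⟩ : PrimeSpectrum V) y).mp
    exact bot_le (a := y.asIdeal)
  tfae_have 1 → 2 := by
    intro h
    exact h (𝟙 X) (𝟙 _) f (IsPullback.id_vert f)
  tfae_have 2 → 3 := by
    intro h y
    obtain ⟨x, x', hx, h1, h2⟩ := h (hgen y)
    have hx1 : x ∈ closure ({x'} : Set X) := hx.mem_closure
    have hsub : ({x'} : Set X) ⊆ f ⁻¹' {(⟨⊥, Ideal.isPrime_bot⟩ : PrimeSpectrum V)} := by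
      intro z hz
      rw [Set.mem_singleton_iff] at hz
      subst hz
      exact h2
    exact ⟨x, closure_mono hsub hx1, h1⟩
  tfae_have 3 → 4 := by
    intro h
    obtain ⟨x, hx, h1⟩ := h (IsLocalRing.closedPoint V)
    obtain ⟨x', hx', h2⟩ := exists_specializes_of_mem_closure_generic_fibre f x hx
    exact ⟨x, x', hx', h1, h2⟩
  tfae_have 4 → 5 := by
    rintro ⟨x, x', hx, h1, h2⟩
    obtain ⟨W, _, _, _, g, hgc, hgg⟩ := exists_valuationRing_of_specializes hx
    refine ⟨W, inferInstance, inferInstance, inferInstance, g, ?_⟩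
    apply surjective_of_valuationRing
    · rw [Scheme.Hom.comp_apply, hgc, h1]
    · rw [Scheme.Hom.comp_apply, hgg, h2]
  tfae_have 5 → 1 := by
    rintro ⟨W, _, _, _, g, hs⟩
    exact univSSubtrusive_of_surjective_of_isDomain f g hs
  tfae_have 4 → 6 := by
    rintro ⟨x, x', hx, h1, h2⟩
    exact exists_closed_flat_surjective f x x' hx h1 h2
  tfae_have 6 → 1 := by
    rintro ⟨Z, i, _, hfl, hsu⟩
    exact univSSubtrusive_of_comp i f (univSSubtrusive_of_flat_of_surjective (i ≫ f))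
  tfae_finish

end Groth.Agent.S14765
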