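import Groth.Statements.S14766
import Mathlib.AlgebraicGeometry.Stalk
import Mathlib.AlgebraicGeometry.Morphisms.QuasiCompact
import Mathlib.RingTheory.DiscreteValuationRing.Basic
import Mathlib.RingTheory.DedekindDomain.Basic

set_option autoImplicit false
universe u
open CategoryTheory CategoryTheory.Limits AlgebraicGeometry
open Subtr

namespace Groth.Agent.S14766

lemma exists_generization_mem_basicOpen {X : Scheme.{u}} (a : Γ(X, ⊤)) (x : X)
    (hx : ∀ U : X.Opens, x ∈ U → ∃ u ∈ U, u ∈ X.basicOpen a) :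
    ∃ x' : X, x' ⤳ x ∧ x' ∈ X.basicOpen a := by
  by_contra! H
  have h0 : (X.fromSpecStalk x) ⁻¹ᵁ X.basicOpen a = ⊥ := by
    ext P
    simp only [Scheme.Hom.coe_preimage, Set.mem_preimage, SetLike.mem_coe,
      TopologicalSpace.Opens.coe_bot, Set.mem_empty_iff_false, iff_false]
    intro hP
    have h1 : (X.fromSpecStalk x) P ∈ Set.range (X.fromSpecStalk x) := ⟨P, rfl⟩
    rw [Scheme.range_fromSpecStalk] at h1
    exact H _ h1 hP
  rw [Scheme.preimage_basicOpen_top, ← Scheme.isNilpotent_iff_basicOpen_eq_bot] at h0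
  obtain ⟨n, hn⟩ := h0
  rw [← map_pow, Scheme.fromSpecStalk_appTop] at hn
  have key : ∀ (R : CommRingCat.{u}) (φ : X.presheaf.stalk x ⟶ R) [IsIso φ],
      (X.presheaf.germ ⊤ x trivial ≫ φ) (a ^ n) = 0 →
        X.presheaf.germ ⊤ x trivial (a ^ n) = 0 := by
    intro R φ hφ h
    have hinj : Function.Injective φ.hom :=
      ((ConcreteCategory.isIso_iff_bijective φ).mp hφ).1
    apply hinj
    rw [map_zero]
    simpa using h
  have hI : IsIso (homOfLE (le_top : (X.fromSpecStalk x) ⁻¹ᵁ ⊤ ≤ ⊤)) :=
    ⟨⟨homOfLE (by simp), Subsingleton.elim _ _, Subsingleton.elim _ _⟩⟩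
  have hg : X.presheaf.germ ⊤ x trivial (a ^ (n + 1)) = X.presheaf.germ ⊤ x trivial 0 := by
    have hI2 : IsIso ((Spec (X.presheaf.stalk x)).presheaf.map
        (homOfLE (le_top : (X.fromSpecStalk x) ⁻¹ᵁ ⊤ ≤ ⊤)).op) := inferInstance
    have hI3 : IsIso ((Scheme.ΓSpecIso (X.presheaf.stalk x)).inv ≫
        (Spec (X.presheaf.stalk x)).presheaf.map
        (homOfLE (le_top : (X.fromSpecStalk x) ⁻¹ᵁ ⊤ ≤ ⊤)).op) := inferInstance
    rw [map_zero, pow_succ, map_mul, @key _ _ hI3 hn, zero_mul]
  obtain ⟨W, hxW, iU, iV, hW⟩ := TopCat.Presheaf.germ_eq _ _ _ _ _ _ hg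
  obtain ⟨u, huW, hu⟩ := hx W hxW
  have h2 : X.basicOpen (X.presheaf.map iU.op (a ^ (n + 1))) = ⊥ := by
    rw [hW, map_zero, Scheme.basicOpen_zero]
  rw [Scheme.basicOpen_res, X.basicOpen_pow a (Nat.succ_pos n)] at h2
  have : u ∈ W ⊓ X.basicOpen a := ⟨huW, hu⟩
  rw [h2] at this
  exact this

open IsLocalRing in
theorem result (V : Type u) [CommRing V] [IsDomain V]
    [IsDiscreteValuationRing V] {X : Scheme.{u}} (f : X ⟶ Spec (CommRingCat.of V)) :
    Topology.IsQuotientMap f ↔ Subtr.IsSSubtrusive f := by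
  obtain ⟨ϖ, hϖ⟩ := IsDiscreteValuationRing.exists_irreducible V
  obtain ⟨s, hs⟩ : ∃ s : Spec (CommRingCat.of V), s = closedPoint V := ⟨_, rfl⟩
  obtain ⟨η, hη⟩ : ∃ η : Spec (CommRingCat.of V), η = (⟨⊥, Ideal.isPrime_bot⟩ : PrimeSpectrum V) :=
    ⟨_, rfl⟩
  have hpts : ∀ p : Spec (CommRingCat.of V), p = s ∨ p = η := by
    intro p
    by_cases hp : p.asIdeal = ⊥
    · right
      rw [hη]
      exact PrimeSpectrum.ext hp
    · left
      rw [hs]
      apply PrimeSpectrum.ext
      exact IsLocalRing.eq_maximalIdeal (p.isPrime.isMaximal hp)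
  have hηs : η ⤳ s := by
    rw [hs]
    exact IsLocalRing.specializes_closedPoint η
  have hbot : maximalIdeal V ≠ ⊥ := IsDiscreteValuationRing.not_a_field V
  have hne : s ≠ η := by
    intro h
    rw [hs, hη] at h
    exact hbot (congr_arg PrimeSpectrum.asIdeal h)
  have hnsp : ¬ s ⤳ η := by
    intro h
    have hle : (closedPoint V).asIdeal ≤ (⊥ : Ideal V) := by
      rw [hs, hη] at h
      exact (PrimeSpectrum.le_iff_specializes (closedPoint V) ⟨⊥, Ideal.isPrime_bot⟩).mpr h
    exact hbot (le_bot_iff.mp hle)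
  obtain ⟨D, hD⟩ : ∃ D : (Spec (CommRingCat.of V)).Opens, D = (Spec (CommRingCat.of V)).basicOpen
      ((Scheme.ΓSpecIso (CommRingCat.of V)).inv ϖ) := ⟨_, rfl⟩
  have hbasic : ∀ p : Spec (CommRingCat.of V), p ∈ D ↔ p = η := by
    intro p
    rw [hD, basicOpen_eq_of_affine]
    change ϖ ∉ p.asIdeal ↔ _
    constructor
    · intro h
      rcases hpts p with hp | hp
      · exfalso
        apply h
        rw [hp, hs]
        change ϖ ∈ maximalIdeal V
        rw [hϖ.maximalIdeal_eq]
        exact Ideal.mem_span_singleton_self ϖ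
      · exact hp
    · intro hp
      rw [hp, hη]
      change ϖ ∉ (⊥ : Ideal V)
      simpa using hϖ.ne_zero
  constructor
  · intro hq y y' hyy'
    by_cases h : y = y'
    · subst h
      obtain ⟨x, rfl⟩ := hq.surjective y
      exact ⟨x, x, specializes_rfl, rfl, rfl⟩
    · have hy' : y' = η ∧ y = s := by
        rcases hpts y with hy | hy <;> rcases hpts y' with hy' | hy'
        · exact (h (hy.trans hy'.symm)).elim
        · exact ⟨hy', hy⟩
        · exfalso
          rw [hy, hy'] at hyy'
          exact hnsp hyy'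
        · exact (h (hy.trans hy'.symm)).elim
      obtain ⟨rfl, rfl⟩ := hy'
      have hnotopen : ¬ IsOpen (f ⁻¹' {y}) := by
        rw [hq.isOpen_preimage]
        intro ho
        exact hne.symm (hηs.mem_open ho rfl)
      rw [isOpen_iff_forall_mem_open] at hnotopen
      push Not at hnotopen
      obtain ⟨x, hxs, hx⟩ := hnotopen
      let a : Γ(X, ⊤) := f.appTop ((Scheme.ΓSpecIso (CommRingCat.of V)).inv ϖ)
      have hpre : ∀ u : X, u ∈ X.basicOpen a ↔ f u = y' := by
        intro u
        have h1 : X.basicOpen a = f ⁻¹ᵁ D := by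
          rw [hD, Scheme.preimage_basicOpen_top]
        rw [h1, ← hbasic]
        rfl
      obtain ⟨x', hx'x, hx'⟩ := exists_generization_mem_basicOpen a x (by
        intro U hxU
        by_contra! hU
        apply hx U.1 ?_ U.2 hxU
        intro u hu
        rcases hpts (f u) with h | h
        · exact h
        · exact (hU u hu ((hpre u).mpr h)).elim)
      exact ⟨x, x', hx'x, hxs, (hpre x').mp hx'⟩
  · intro hS
    clear hs hη
    rw [Topology.isQuotientMap_iff, Topology.isCoinducing_iff]
    refine ⟨fun U => ⟨fun hU => ?_, fun hU => hU.preimage f.continuous⟩, fun y => ?_⟩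
    · by_cases hsU : s ∈ U
      · have hηU : η ∈ U := by
          obtain ⟨x, x', hx'x, hx, hx'⟩ := hS hηs
          have : x' ∈ f ⁻¹' U := hx'x.mem_open hU (by
            change f x ∈ U
            rwa [hx])
          rwa [Set.mem_preimage, hx'] at this
        have : U = Set.univ := by
          ext p
          rcases hpts p with rfl | rfl <;> simp [*]
        rw [this]
        exact isOpen_univ
      · by_cases hηU : η ∈ U
        · have : U = (D : Set (Spec (CommRingCat.of V))) := by
            ext p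
            rw [SetLike.mem_coe, hbasic]
            rcases hpts p with rfl | rfl
            · simp [hsU, hne]
            · simp [hηU]
          rw [this]
          exact D.2
        · have : U = ∅ := by
            ext p
            rcases hpts p with rfl | rfl <;> simp [*]
          rw [this]
          exact isOpen_empty
    · obtain ⟨x, _, _, hx, _⟩ := hS (specializes_refl y)
      exact ⟨x, hx⟩

end Groth.Agent.S14766
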