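import Groth.Statements.S7379
import Groth.Agent.Lib.Helper40.FTIdeal

set_option autoImplicit false
universe u
open CategoryTheory AlgebraicGeometry
open Lim

namespace Groth.Agent.S7379

open AlgebraicGeometry CategoryTheory Opposite TopologicalSpace Limits
open Groth.Agent.Lib.Lead.QCohAff Groth.Agent.Lib.Helper22.IdealModAff Groth.Agent.Lib.Lead.Inv
  Groth.Agent.Lib.Helper40.SSh Groth.Agent.S4408 Groth.Agent.Lib.Helper40.FTIdeal

theorem exists_ft_ideal_le_mem {X : Scheme.{u}} [CompactSpace X] [QuasiSeparatedSpace X]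
    (I0 : X.IdealSheafData) (V : X.affineOpens) (a : Γ(X, V.1)) (ha : a ∈ I0.ideal V) :
    ∃ J : X.IdealSheafData, BlowUp.IsFiniteTypeIdeal J ∧ J ≤ I0 ∧ a ∈ J.ideal V := by
  obtain ⟨t0, ht0⟩ := (mem_ideal_iff I0 V a).mp ha
  obtain ⟨G, j, hmono, hq, hft, hmem⟩ := exists_ft_sub_of_fg_qcqs (ClSub.idealMod I0) V.2
    (Submodule.span _ {t0}) (Submodule.fg_span_singleton _)
  obtain ⟨g, hg⟩ := hmem t0 (Submodule.mem_span_singleton_self _)
  haveI : G.IsQuasicoherent := hq
  exact ⟨ofSub I0 j, isFiniteTypeIdeal_ofSub I0 j hft, ofSub_le I0 j,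
    ⟨g, by rw [ii_apply, hg, ht0]⟩⟩

theorem locallyOfFinitePresentation_subschemeι {Y : Scheme.{u}} (J : Y.IdealSheafData)
    (hJ : BlowUp.IsFiniteTypeIdeal J) : LocallyOfFinitePresentation J.subschemeι := by
  rw [IsZariskiLocalAtSource.iff_of_openCover (P := @LocallyOfFinitePresentation)
    J.subschemeCover.openCover]
  intro (V : Y.affineOpens)
  change LocallyOfFinitePresentation (J.subschemeCover.f V ≫ J.subschemeι)
  rw [Scheme.IdealSheafData.subschemeCover_map_subschemeι, Scheme.IdealSheafData.glueDataObjι_ι]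
  haveI : LocallyOfFinitePresentation
      (Spec.map (CommRingCat.ofHom (Ideal.Quotient.mk (J.ideal V)))) := by
    rw [HasRingHomProperty.Spec_iff (P := @LocallyOfFinitePresentation)]
    exact RingHom.FinitePresentation.of_surjective _ Ideal.Quotient.mk_surjective
      (by
        change (RingHom.ker (Ideal.Quotient.mk (J.ideal V))).FG
        rw [Ideal.mk_ker]; exact hJ V)
  haveI : LocallyOfFinitePresentation V.2.fromSpec := inferInstance
  exact MorphismProperty.comp_mem _ _ _ ‹_› ‹_›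

theorem over_hom_ext_of_mono {Y : Scheme.{u}} {A B : Over Y} [Mono B.hom] (f g : A ⟶ B) :
    f = g := by
  ext1
  rw [← cancel_mono B.hom, Over.w, Over.w]

/-- Let `ι : X → Y` be a closed immersion with `Y` quasi-compact and quasi-separated. Then, in the
category of schemes over `Y`, `X` is the limit of a nonempty directed inverse system whose objects
`X_i → Y` are closed immersions of finite presentation. -/
theorem result {X Y : Scheme.{u}} (ι : X ⟶ Y)
    [IsClosedImmersion ι] [CompactSpace Y] [QuasiSeparatedSpace Y] :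
    ∃ (I : Type u) (_ : Preorder I) (_ : IsDirected I (fun a b => a ≤ b)) (_ : Nonempty I)
      (D : Iᵒᵖ ⥤ Over Y) (c : Limits.Cone D) (_ : Limits.IsLimit c),
      (∀ i, IsClosedImmersion (D.obj i).hom ∧ LocallyOfFinitePresentation (D.obj i).hom) ∧
      Nonempty (c.pt ≅ Over.mk ι) := by
  let I0 : Y.IdealSheafData := Scheme.Hom.ker ι
  let Idx := {J : Y.IdealSheafData // BlowUp.IsFiniteTypeIdeal J ∧ J ≤ I0}
  have hdir : IsDirected Idx (fun a b => a ≤ b) :=
    ⟨fun J1 J2 => ⟨⟨J1.1 ⊔ J2.1, fun V => Submodule.FG.sup (J1.2.1 V) (J2.2.1 V), sup_le J1.2.2 J2.2.2⟩,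
      (le_sup_left : J1.1 ≤ J1.1 ⊔ J2.1), (le_sup_right : J2.1 ≤ J1.1 ⊔ J2.1)⟩⟩
  have hne : Nonempty Idx := ⟨⟨⊥, fun V => Submodule.fg_bot, bot_le⟩⟩
  let Φ : Idx ⥤ Y.IdealSheafData := (Subtype.mono_coe _).functor
  let D : Idxᵒᵖ ⥤ Over Y := Φ.op ⋙ Scheme.IdealSheafData.subschemeFunctor Y
  haveI hmono : ∀ J : Idxᵒᵖ, Mono (D.obj J).hom := fun J =>
    inferInstanceAs (Mono (J.unop.1.subschemeι))
  let c : Cone D :=
    { pt := Over.mk I0.subschemeι
      π :=
        { app := fun J => Over.homMk (Scheme.IdealSheafData.inclusion J.unop.2.2)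
            (Scheme.IdealSheafData.inclusion_subschemeι _)
          naturality := fun _ _ _ => over_hom_ext_of_mono _ _ } }
  haveI : Mono c.pt.hom := inferInstanceAs (Mono I0.subschemeι)
  have hle : ∀ s : Cone D, I0 ≤ Scheme.Hom.ker s.pt.hom := by
    intro s V a ha
    obtain ⟨J, hJft, hJle, haJ⟩ := exists_ft_ideal_le_mem I0 V a ha
    have h1 : J = Scheme.Hom.ker (J.subschemeι) := (Scheme.IdealSheafData.ker_subschemeι J).symm
    have h2 := Scheme.Hom.le_ker_comp (s.π.app (op (⟨J, hJft, hJle⟩ : Idx))).left J.subschemeι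
    have h3 : (s.π.app (op (⟨J, hJft, hJle⟩ : Idx))).left ≫ J.subschemeι = s.pt.hom :=
      Over.w (s.π.app (op (⟨J, hJft, hJle⟩ : Idx)))
    rw [h3] at h2
    exact (le_trans (le_of_eq h1) h2) V haJ
  let hc : IsLimit c :=
    { lift := fun s => Over.homMk
        (Scheme.Hom.toImage s.pt.hom ≫ Scheme.IdealSheafData.inclusion (hle s))
        (by
          change (Scheme.Hom.toImage s.pt.hom ≫ Scheme.IdealSheafData.inclusion (hle s)) ≫
            I0.subschemeι = s.pt.hom
          rw [Category.assoc, Scheme.IdealSheafData.inclusion_subschemeι,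
            Scheme.Hom.toImage_imageι])
      fac := fun _ _ => over_hom_ext_of_mono _ _
      uniq := fun _ _ _ => over_hom_ext_of_mono _ _ }
  refine ⟨Idx, inferInstance, hdir, hne, D, c, hc, fun J => ⟨?_, ?_⟩, ⟨?_⟩⟩
  · exact inferInstanceAs (IsClosedImmersion (J.unop.1.subschemeι))
  · exact locallyOfFinitePresentation_subschemeι J.unop.1 J.unop.2.1
  · exact (Over.isoMk (asIso (Scheme.Hom.toImage ι)) (Scheme.Hom.toImage_imageι ι)).symm

end Groth.Agent.S7379
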