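import Groth.Statements.S1477
import Groth.Agent.Lib.Helper41.ZMTFinGlue
import Groth.Agent.Lib.Helper43.ZMTFP
import Groth.Agent.S7396
import Groth.Agent.S7379

set_option autoImplicit false
universe u
open FlatMor

namespace Groth.Agent.S1477

open AlgebraicGeometry CategoryTheory Limits TopologicalSpace
open Groth.Agent.Lib.Helper43.ZMTFP

/-- Main construction: an open immersion into a closed subscheme `V(I0)` of a qcqs scheme `Z`,
locally of finite presentation over `Z`, extends to an open immersion into a closed subscheme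
`V(J)` with `J` of finite type. -/
theorem exists_ft_ideal_isOpenImmersion {X Z : Scheme.{u}} [CompactSpace Z] [QuasiSeparatedSpace Z]
    [CompactSpace X]
    (I0 : Z.IdealSheafData) (j' : X ⟶ I0.subscheme) [IsOpenImmersion j']
    [LocallyOfFinitePresentation (j' ≫ I0.subschemeι)] :
    ∃ (J : Z.IdealSheafData) (j : X ⟶ J.subscheme), BlowUp.IsFiniteTypeIdeal J ∧
      IsOpenImmersion j ∧ j ≫ J.subschemeι = j' ≫ I0.subschemeι := by
  classical
  set g := j' ≫ I0.subschemeι with hg
  -- the open `U` of `Z` with preimage the range of `j'`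
  have hcl : IsClosed (I0.subschemeι '' ((j'.opensRange : Set I0.subscheme)ᶜ)) :=
    I0.subschemeι.isClosedEmbedding.isClosedMap _ j'.opensRange.2.isClosed_compl
  let U : Z.Opens := ⟨(I0.subschemeι '' ((j'.opensRange : Set I0.subscheme)ᶜ))ᶜ, hcl.isOpen_compl⟩
  have hU : ∀ t : I0.subscheme, I0.subschemeι t ∈ U ↔ t ∈ j'.opensRange := by
    intro t
    change I0.subschemeι t ∉ _ ↔ _
    constructor
    · intro h
      by_contra hc
      exact h ⟨t, hc, rfl⟩
    · rintro h ⟨t', ht', he⟩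
      have := I0.subschemeι.isClosedEmbedding.injective he
      subst this
      exact ht' h
  -- choose affine opens around the points of the range of `g`
  have hgU : ∀ x : X, g x ∈ U := by
    intro x
    have : g x = I0.subschemeι (j' x) := by rw [hg]; rfl
    rw [this, hU]
    exact ⟨x, rfl⟩
  have hchoose : ∀ x : X, ∃ V : Z.affineOpens, g x ∈ V.1 ∧ V.1 ≤ U := by
    intro x
    obtain ⟨_, ⟨V, hV, rfl⟩, hzV, hVU⟩ :=
      Z.isBasis_affineOpens.exists_subset_of_mem_open (hgU x) U.2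
    exact ⟨⟨V, hV⟩, hzV, hVU⟩
  choose V hgV hVU using hchoose
  have hK : IsCompact (Set.range g) := isCompact_range g.continuous
  obtain ⟨t, ht⟩ := hK.elim_finite_subcover (fun x : X => ((V x).1 : Set Z))
    (fun x => (V x).1.2) (by
      rintro _ ⟨x, rfl⟩
      exact Set.mem_iUnion.mpr ⟨x, hgV x⟩)
  let U₁ : Z.Opens := ⨆ k : t, (V k.1).1
  have hU₁U : U₁ ≤ U := iSup_le fun k => hVU k.1
  have hgU₁ : ∀ x : X, g x ∈ U₁ := by
    intro x
    obtain ⟨y, hy, hxy⟩ : ∃ y ∈ t, g x ∈ ((V y).1 : Set Z) := by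
      have := ht ⟨x, rfl⟩
      simpa using this
    exact Opens.mem_iSup.mpr ⟨⟨y, hy⟩, hxy⟩
  have hU₁ : I0.subschemeι ⁻¹ᵁ U₁ = j'.opensRange := by
    apply le_antisymm
    · intro t' ht'
      exact (hU t').mp (hU₁U ht')
    · rintro _ ⟨x, rfl⟩
      exact hgU₁ x
  -- finite generation
  have hfg : ∀ k : t, (I0.ideal (V k.1)).FG := by
    intro k
    refine ideal_fg_of_le_opensRange I0 j' (V k.1) ?_
    intro t' ht'
    exact (hU t').mp (hVU k.1 ht')
  choose s hs using hfg
  have hmem : ∀ (k : t) (a : s k), (a : Γ(Z, (V k.1).1)) ∈ I0.ideal (V k.1) := by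
    intro k a
    rw [← hs k]
    exact Ideal.subset_span a.2
  have hJ := fun (σ : Σ k : t, s k) =>
    Groth.Agent.S7379.exists_ft_ideal_le_mem I0 (V σ.1.1) σ.2.1 (hmem σ.1 σ.2)
  choose Jf hJft hJle hJmem using hJ
  let J : Z.IdealSheafData := ⨆ σ, Jf σ
  have hJfin : BlowUp.IsFiniteTypeIdeal J := by
    intro W
    have : J.ideal W = ⨆ σ, (Jf σ).ideal W := by
      change (⨆ σ, Jf σ).ideal W = _
      rw [Scheme.IdealSheafData.ideal_iSup, iSup_apply]
    rw [this]
    exact Submodule.fg_iSup _ fun σ => hJft σ W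
  have hJle' : J ≤ I0 := iSup_le hJle
  have hideal : ∀ k : t, I0.ideal (V k.1) = J.ideal (V k.1) := by
    intro k
    apply le_antisymm
    · rw [← hs k, Ideal.span_le]
      intro a ha
      have h1 : a ∈ (Jf ⟨k, ⟨a, ha⟩⟩).ideal (V k.1) := hJmem ⟨k, ⟨a, ha⟩⟩
      have h2 : Jf ⟨k, ⟨a, ha⟩⟩ ≤ J := le_iSup Jf ⟨k, ⟨a, ha⟩⟩
      exact (Scheme.IdealSheafData.le_def.mp h2 (V k.1)) h1
    · exact Scheme.IdealSheafData.le_def.mp hJle' (V k.1)
  have hcomap : I0.comap U₁.ι = J.comap U₁.ι :=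
    comap_eq_of_ideal_eq I0 J (fun k : t => V k.1) U₁ rfl hideal
  obtain ⟨j, hj, hjfac⟩ := exists_isOpenImmersion_lift I0 J j' U₁ hU₁ hcomap
  exact ⟨J, j, hJfin, hj, hjfac⟩

open AlgebraicGeometry CategoryTheory Limits in
/-- Let S be quasi-compact and quasi-separated and f : X → S separated, quasi-compact, locally
quasi-finite and locally of finite presentation. Then f factors as a quasi-compact open immersion X
→ T followed by a morphism T → S which is finite and of finite presentation. -/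
theorem result {X S : Scheme.{u}} (f : X ⟶ S) [CompactSpace ↑S] [QuasiSeparatedSpace ↑S]
    [IsSeparated f] [QuasiCompact f] [LocallyQuasiFinite f] [LocallyOfFinitePresentation f] :
    ∃ (T : Scheme.{u}) (j : X ⟶ T) (π : T ⟶ S), IsOpenImmersion j ∧ QuasiCompact j ∧ IsFinite π ∧ LocallyOfFinitePresentation π ∧ j ≫ π = f := by
  obtain ⟨T', j₀, π₀, hj₀, hπ₀, hfac₀⟩ := Groth.Agent.Lib.Helper41.ZMTFinGlue.zmtf_of_qcqs f
  obtain ⟨Z, π₁, ι, hπ₁, hπ₁fp, hι, hιfac⟩ := Groth.Agent.S7396.result π₀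
  haveI : CompactSpace Z := QuasiCompact.compactSpace_of_compactSpace π₁
  haveI : QuasiSeparatedSpace Z := quasiSeparatedSpace_of_quasiSeparated π₁
  haveI : CompactSpace X := QuasiCompact.compactSpace_of_compactSpace f
  let I0 : Z.IdealSheafData := ι.ker
  let j' : X ⟶ I0.subscheme := j₀ ≫ ι.toImage
  have hj' : j' ≫ I0.subschemeι = j₀ ≫ ι := by
    change (j₀ ≫ ι.toImage) ≫ ι.imageι = _
    rw [Category.assoc, Scheme.Hom.toImage_imageι]
  have hgf : (j' ≫ I0.subschemeι) ≫ π₁ = f := by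
    rw [hj', Category.assoc, hιfac, hfac₀]
  haveI : LocallyOfFinitePresentation ((j' ≫ I0.subschemeι) ≫ π₁) := by rw [hgf]; infer_instance
  haveI : LocallyOfFinitePresentation (j' ≫ I0.subschemeι) :=
    locallyOfFinitePresentation_of_comp (j' ≫ I0.subschemeι) π₁
  obtain ⟨J, j, hJ, hj, hjfac⟩ := exists_ft_ideal_isOpenImmersion I0 j'
  haveI : LocallyOfFinitePresentation J.subschemeι :=
    Groth.Agent.S7379.locallyOfFinitePresentation_subschemeι J hJ
  have hfac : j ≫ J.subschemeι ≫ π₁ = f := by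
    rw [← Category.assoc, hjfac, hgf]
  haveI : QuasiCompact (j ≫ J.subschemeι ≫ π₁) := by rw [hfac]; infer_instance
  exact ⟨J.subscheme, j, J.subschemeι ≫ π₁, hj, QuasiCompact.of_comp j (J.subschemeι ≫ π₁),
    inferInstance, inferInstance, hfac⟩

end Groth.Agent.S1477
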