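import Groth.Statements.S14788
import Mathlib
import Groth.Agent.S15542
import Groth.Agent.Lib.Helper36.ProConsScheme2
import Groth.Agent.Lib.Helper46.ProConsClosure

set_option autoImplicit false
universe u
open CategoryTheory CategoryTheory.Limits AlgebraicGeometry
open Subtr

namespace Groth.Agent.S14788

open AlgebraicGeometry in
private lemma isProConstructible_singleton {Y : Scheme.{u}} (y : Y) :
    ProCons.IsProConstructible ({y} : Set Y) := by
  haveI : QuasiCompact (Y.fromSpecResidueField y) := by
    refine ⟨fun U _ _ => ?_⟩
    exact (Set.toFinite _).isCompact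
  have h1 : ProCons.IsProConstructible (Set.univ : Set ↥(Spec (Y.residueField y))) :=
    Groth.Agent.Lib.Helper36.isProConstructible_of_isLocallyConstructible
      Topology.IsLocallyConstructible.univ
  have h2 := Groth.Agent.Lib.Helper36.scheme_isProConstructible_image
    (Y.fromSpecResidueField y) h1
  rwa [Set.image_univ, Scheme.range_fromSpecResidueField] at h2

/-- (i) ⇔ (iv): a morphism of schemes f : X ⟶ Y has the lifting property for ordered pairs of points if
and only if, for every pro-constructible subset Z ⊆ Y, the image under f of the closure of f⁻¹(Z) is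
the closure of Z. (In the published item (iv) the right-hand side is printed as Z itself; the
closure is meant, as the case of a non-closed point shows and as the proof uses.) -/
theorem result {X Y : Scheme.{u}} (f : X ⟶ Y) :
    Subtr.IsSSubtrusive f ↔
      ∀ Z : Set Y, ProCons.IsProConstructible Z → f '' closure (f ⁻¹' Z) = closure Z := by
  constructor
  · intro hf Z hZ
    apply Set.Subset.antisymm
    · refine (image_closure_subset_closure_image f.continuous).trans (closure_mono ?_)
      exact Set.image_preimage_subset _ _
    · intro y hy
      obtain ⟨z, hz, hzy⟩ :=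
        Groth.Agent.Lib.Helper46.exists_specializes_of_mem_closure_of_isProConstructible hZ hy
      obtain ⟨x, x', hxx', hx, hx'⟩ := hf hzy
      refine ⟨x, ?_, hx⟩
      have hx'Z : x' ∈ f ⁻¹' Z := by
        change f x' ∈ Z
        rw [hx']; exact hz
      exact hxx'.mem_closed isClosed_closure (subset_closure hx'Z)
  · intro h y y' hyy'
    have hZ := isProConstructible_singleton y'
    have h1 := h {y'} hZ
    have hy : y ∈ closure ({y'} : Set Y) := hyy'.mem_closure
    rw [← h1] at hy
    obtain ⟨x, hx, hxy⟩ := hy
    have hpre : ProCons.IsProConstructible (f.base ⁻¹' {y'}) :=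
      Groth.Agent.S15542.result f {y'} hZ
    obtain ⟨x', hx', hx'x⟩ :=
      Groth.Agent.Lib.Helper46.exists_specializes_of_mem_closure_of_isProConstructible hpre hx
    exact ⟨x, x', hx'x, hxy, hx'⟩

end Groth.Agent.S14788
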