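import Groth.Statements.S14789
import Mathlib.Topology.Sober
import Mathlib.AlgebraicGeometry.Properties

set_option autoImplicit false
universe u
open CategoryTheory CategoryTheory.Limits AlgebraicGeometry
open Subtr

namespace Groth.Agent.S14789

lemma exists_maximal_generization {Y : Type*} [TopologicalSpace Y] [QuasiSober Y] [T0Space Y]
    (y : Y) : ∃ ξ : Y, ξ ⤳ y ∧ ∀ y' : Y, y' ⤳ ξ → y' = ξ := by
  have hirr : IsIrreducible (irreducibleComponent y) := isIrreducible_irreducibleComponent
  have hcl : IsClosed (irreducibleComponent y) := isClosed_irreducibleComponent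
  obtain ⟨ξ, hξ⟩ := QuasiSober.sober hirr hcl
  refine ⟨ξ, ?_, ?_⟩
  · rw [specializes_iff_mem_closure, hξ.def]
    exact mem_irreducibleComponent
  · intro y' hy'
    have h1 : irreducibleComponent y ⊆ closure {y'} := by
      rw [← hξ.def]
      exact closure_minimal (Set.singleton_subset_iff.mpr hy'.mem_closure) isClosed_closure
    have h2 : closure {y'} = irreducibleComponent y :=
      eq_irreducibleComponent isIrreducible_singleton.closure.isPreirreducible h1
    have h3 : closure {y'} = closure {ξ} := h2.trans hξ.def.symm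
    exact ((specializes_iff_closure_subset.mpr h3.ge).antisymm
      (specializes_iff_closure_subset.mpr h3.le)).eq

theorem result {X Y : Scheme.{u}} (f : X ⟶ Y)
    (hf : Subtr.IsSSubtrusive f) (U : Set Y) (hU : ∀ y : Y, (∀ y' : Y, y' ⤳ y → y' = y) → y ∈ U) :
    f '' closure (f ⁻¹' U) = Set.univ := by
  apply Set.eq_univ_of_forall
  intro y
  obtain ⟨ξ, hξy, hξmax⟩ := exists_maximal_generization y
  obtain ⟨x, x', hx'x, hfx, hfx'⟩ := hf hξy
  refine ⟨x, ?_, hfx⟩
  have hx'U : x' ∈ f ⁻¹' U := by
    change f x' ∈ U
    rw [hfx']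
    exact hU ξ hξmax
  exact closure_mono (Set.singleton_subset_iff.mpr hx'U) hx'x.mem_closure

end Groth.Agent.S14789
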