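import Groth.Statements.S14790
import Mathlib
import Groth.Agent.Lib.Helper55.GR.Scheme
import Groth.Agent.Lib.Helper29.QCohLoc

set_option autoImplicit false
set_option linter.style.haveILetI false
universe u
open CategoryTheory CategoryTheory.Limits AlgebraicGeometry
open Subtr

namespace Groth.Agent.S14790

open CategoryTheory.Limits TopologicalSpace Opposite
open TensorProduct

/-- In a reduced ring, elements of a minimal prime are killed by elements outside it. -/
theorem exists_notMem_mul_eq_zero {R : Type u} [CommRing R] [IsReduced R] (p : Ideal R)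
    (hp : p ∈ minimalPrimes R) (a : R) (ha : a ∈ p) : ∃ s : R, s ∉ p ∧ s * a = 0 := by
  haveI : p.IsPrime := hp.1.1
  have h1 := IsLocalization.AtPrime.radical_map_of_mem_minimalPrimes
    (A := Localization.AtPrime p) p ⊥ hp
  have hred : IsReduced (Localization.AtPrime p) := inferInstance
  have hnil : (⊥ : Ideal (Localization.AtPrime p)).radical = ⊥ := by
    have := nilradical_eq_zero (Localization.AtPrime p)
    rwa [nilradical, Ideal.zero_eq_bot] at this
  rw [Ideal.map_bot, hnil] at h1
  have h2 : algebraMap R (Localization.AtPrime p) a = 0 := by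
    have : algebraMap R (Localization.AtPrime p) a ∈ p.map (algebraMap R (Localization.AtPrime p)) :=
      Ideal.mem_map_of_mem _ ha
    rw [← h1] at this
    exact this
  obtain ⟨⟨s, hs⟩, hsa⟩ := (IsLocalization.map_eq_zero_iff p.primeCompl _ a).1 h2
  exact ⟨s, hs, hsa⟩

/-- A finitely generated ideal inside a minimal prime of a reduced ring is killed by a single element outside. -/
theorem exists_notMem_forall_mul_eq_zero {R : Type u} [CommRing R] [IsReduced R] (p : Ideal R)
    (hp : p ∈ minimalPrimes R) (s : Finset R) (hs : ∀ a ∈ s, a ∈ p) :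
    ∃ t : R, t ∉ p ∧ ∀ a ∈ Ideal.span (s : Set R), t * a = 0 := by
  classical
  haveI : p.IsPrime := hp.1.1
  have key : ∃ t : R, t ∉ p ∧ ∀ a ∈ s, t * a = 0 := by
    induction s using Finset.induction_on with
    | empty => exact ⟨1, fun h => (Ideal.ne_top_iff_one p).1 Ideal.IsPrime.ne_top' h, by simp⟩
    | insert a s has ih =>
      obtain ⟨t, ht, h1⟩ := ih (fun b hb => hs b (Finset.mem_insert_of_mem hb))
      obtain ⟨t', ht', h2⟩ := exists_notMem_mul_eq_zero p hp a (hs a (Finset.mem_insert_self a s))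
      refine ⟨t * t', fun h => (Ideal.IsPrime.mem_or_mem ‹_› h).elim ht ht', fun b hb => ?_⟩
      rcases Finset.mem_insert.1 hb with rfl | hb
      · rw [mul_assoc, h2, mul_zero]
      · rw [mul_comm t t', mul_assoc, h1 b hb, mul_zero]
  obtain ⟨t, ht, h1⟩ := key
  refine ⟨t, ht, fun a ha => ?_⟩
  induction ha using Submodule.span_induction with
  | mem x hx => exact h1 x hx
  | zero => simp
  | add x y _ _ hx hy => rw [mul_add, hx, hy, add_zero]
  | smul c x _ hx => rw [smul_eq_mul, mul_left_comm, hx, mul_zero]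

theorem isPushout_cancel {𝒞 : Type*} [Category 𝒞] {Z X Y W P Q : 𝒞} {a : Z ⟶ X} {ψ : X ⟶ W}
    {b : Z ⟶ Y} {u : X ⟶ P} {v : Y ⟶ P} {inl : W ⟶ Q} {inr : Y ⟶ Q}
    (big : IsPushout (a ≫ ψ) b inl inr) (small : IsPushout a b u v) :
    ∃ χ : P ⟶ Q, IsPushout ψ u inl χ := by
  have hw : a ≫ ψ ≫ inl = b ≫ inr := by rw [← Category.assoc]; exact big.w
  refine ⟨small.desc (ψ ≫ inl) inr hw, ?_⟩
  have h2 : v ≫ small.desc (ψ ≫ inl) inr hw = inr := small.inr_desc _ _ _
  have h1 : u ≫ small.desc (ψ ≫ inl) inr hw = ψ ≫ inl := small.inl_desc _ _ _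
  rw [← h2] at big
  exact IsPushout.of_left big h1.symm small

theorem isPushout_awayMap {A B : Type u} [CommRing A] [CommRing B] [Algebra A B] (x : A) :
    IsPushout (CommRingCat.ofHom (algebraMap A B))
      (CommRingCat.ofHom (algebraMap A (Localization.Away x)))
      (CommRingCat.ofHom (algebraMap B (Localization.Away (algebraMap A B x))))
      (CommRingCat.ofHom (Localization.awayMap (algebraMap A B) x)) := by
  haveI : IsLocalization ((Submonoid.powers x).map (algebraMap A B))
      (Localization.Away (algebraMap A B x)) := by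
    rw [Submonoid.map_powers]; infer_instance
  exact CommRingCat.isPushout_of_isLocalization (algebraMap A B)
    (Localization.awayMap (algebraMap A B) x) (by
      ext y
      simp [Localization.awayMap, IsLocalization.Away.map]) (Submonoid.powers x)

section AlgLemma

variable (R S : Type u) [CommRing R] [IsReduced R] [CommRing S] [Algebra R S]
  [Algebra.FinitePresentation R S]

theorem exists_flat_awayMap_of_minimal (p : Ideal R) (hp : p ∈ minimalPrimes R) :
    ∃ g : R, g ∉ p ∧ ∀ g' : R, (Localization.awayMap (algebraMap R S) (g * g')).Flat := by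
  classical
  haveI : p.IsPrime := hp.1.1
  let P := Algebra.Presentation.ofFinitePresentation R S
  let R₀ := P.Core
  let S₀ := P.ModelOfHasCoeffs R₀
  haveI : IsNoetherianRing R₀ := Algebra.FiniteType.isNoetherianRing ℤ R₀
  let p₀ : Ideal R₀ := p.comap (algebraMap R₀ R)
  haveI : p₀.IsPrime := Ideal.comap_isPrime _ _
  obtain ⟨T, hT⟩ := (IsNoetherian.noetherian p₀ : p₀.FG)
  obtain ⟨s, hs, hkill⟩ := exists_notMem_forall_mul_eq_zero p hp (T.image (algebraMap R₀ R))
    (fun a ha => by
      obtain ⟨b, hb, rfl⟩ := Finset.mem_image.1 ha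
      have : b ∈ p₀ := hT ▸ Ideal.subset_span hb
      exact this)
  have hkill' : ∀ a ∈ p₀, s * algebraMap R₀ R a = 0 := by
    intro a ha
    apply hkill
    rw [Finset.coe_image, ← Ideal.map_span]
    have hT' : Ideal.span (T : Set R₀) = p₀ := hT
    rw [hT']
    exact Ideal.mem_map_of_mem _ ha
  let D := R₀ ⧸ p₀
  obtain ⟨t, ht, hflat⟩ := Groth.Agent.Lib.Helper55.GR.exists_flat_fp_awayMap D (D ⊗[R₀] S₀) 1
    one_ne_zero
  obtain ⟨t₀, rfl⟩ := Ideal.Quotient.mk_surjective t
  have ht₀ : algebraMap R₀ R t₀ ∉ p := by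
    intro h
    apply ht
    rw [one_mul]
    exact Ideal.Quotient.eq_zero_iff_mem.2 h
  refine ⟨s * algebraMap R₀ R t₀, fun h => (Ideal.IsPrime.mem_or_mem ‹_› h).elim hs ht₀,
    fun g' => ?_⟩
  -- notation
  obtain ⟨γ, hγ⟩ : ∃ γ : R, γ = s * algebraMap R₀ R t₀ * g' := ⟨_, rfl⟩
  rw [← hγ]
  obtain ⟨τ, hτ⟩ : ∃ τ : D, τ = 1 * Ideal.Quotient.mk p₀ t₀ * 1 := ⟨_, rfl⟩
  have hfl := (hflat 1).1
  rw [← hτ] at hfl
  -- units in `Localization.Away γ`
  have hγu : IsUnit (algebraMap R (Localization.Away γ) γ) :=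
    IsLocalization.Away.algebraMap_isUnit γ
  have hsu : IsUnit (algebraMap R (Localization.Away γ) s) := by
    have h1 : algebraMap R (Localization.Away γ) γ = algebraMap R (Localization.Away γ) s *
        algebraMap R (Localization.Away γ) (algebraMap R₀ R t₀ * g') := by
      rw [← map_mul]; congr 1; rw [hγ, mul_assoc]
    rw [h1] at hγu
    exact isUnit_of_mul_isUnit_left hγu
  have htu : IsUnit (algebraMap R (Localization.Away γ) (algebraMap R₀ R t₀)) := by
    have h1 : algebraMap R (Localization.Away γ) γ =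
        algebraMap R (Localization.Away γ) (algebraMap R₀ R t₀) *
        algebraMap R (Localization.Away γ) (s * g') := by
      rw [← map_mul]; congr 1; rw [hγ]; ring
    rw [h1] at hγu
    exact isUnit_of_mul_isUnit_left hγu
  -- the map `D → R_γ`
  let φD : D →+* Localization.Away γ :=
    Ideal.Quotient.lift p₀ ((algebraMap R (Localization.Away γ)).comp (algebraMap R₀ R))
      (fun a ha => by
        have h0 := hkill' a ha
        have h1 : algebraMap R (Localization.Away γ) s *
            algebraMap R (Localization.Away γ) (algebraMap R₀ R a) = 0 := by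
          rw [← map_mul, h0, map_zero]
        exact hsu.mul_right_eq_zero.1 h1)
  have hφτ : IsUnit (φD τ) := by
    have : φD τ = algebraMap R (Localization.Away γ) (algebraMap R₀ R t₀) := by
      rw [hτ, one_mul, mul_one]; rfl
    rw [this]
    exact htu
  let ψ₀ : Localization.Away τ →+* Localization.Away γ := IsLocalization.Away.lift τ hφτ
  have hψ₀ : ∀ d : D, ψ₀ (algebraMap D (Localization.Away τ) d) = φD d :=
    fun d => IsLocalization.Away.lift_eq τ hφτ d
  -- the squares
  let e := P.tensorModelOfHasCoeffsEquiv R₀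
  let b₁ : S₀ →+* S := (e.toAlgHom.toRingHom).comp
    (Algebra.TensorProduct.includeRight (R := R₀) (A := R) (B := S₀)).toRingHom
  have Sq1 : IsPushout (CommRingCat.ofHom (algebraMap R₀ R)) (CommRingCat.ofHom (algebraMap R₀ S₀))
      (CommRingCat.ofHom (algebraMap R S)) (CommRingCat.ofHom b₁) := by
    refine (CommRingCat.isPushout_tensorProduct R₀ R S₀).of_iso (Iso.refl _) (Iso.refl _)
      (Iso.refl _) e.toRingEquiv.toCommRingCatIso (by simp) (by simp) ?_ ?_
    · ext x
      have h1 := e.commutes x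
      rw [Algebra.TensorProduct.algebraMap_apply, Algebra.algebraMap_self, RingHom.id_apply] at h1
      simpa using h1
    · rfl
  have Sq2 := isPushout_awayMap (A := R) (B := S) γ
  have Sq3 := CommRingCat.isPushout_tensorProduct R₀ D S₀
  have Sq4 := isPushout_awayMap (A := D) (B := D ⊗[R₀] S₀) τ
  have Big12 := Sq1.paste_horiz Sq2.flip
  have Big34 := Sq3.paste_horiz Sq4.flip
  have hcomm : CommRingCat.ofHom (algebraMap R₀ R) ≫
      CommRingCat.ofHom (algebraMap R (Localization.Away γ)) =
      (CommRingCat.ofHom (algebraMap R₀ D) ≫ CommRingCat.ofHom (algebraMap D (Localization.Away τ))) ≫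
        CommRingCat.ofHom ψ₀ := by
    ext a
    simp only [CommRingCat.hom_comp, CommRingCat.hom_ofHom, RingHom.coe_comp, Function.comp_apply]
    rw [hψ₀]
    rfl
  rw [hcomm] at Big12
  obtain ⟨χ, hχ⟩ := isPushout_cancel Big12 Big34
  exact MorphismProperty.IsStableUnderCobaseChange.of_isPushout (P := CommRingCat.flat) hχ hfl

end AlgLemma



section SchemePart

open Groth.Agent.Lib.Helper55.GR

variable {X Y : Scheme.{u}} (f : X ⟶ Y) [IsReduced Y] [LocallyOfFinitePresentation f]

theorem exists_good_finite_min {V : Y.Opens} (hV : IsAffineOpen V) (p : Ideal Γ(Y, V))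
    (hp : p ∈ minimalPrimes Γ(Y, V)) (s : Set X.affineOpens) (hs : s.Finite) :
    ∃ r : Γ(Y, V), r ∉ p ∧ ∀ W ∈ s, ∀ (e : (W : X.affineOpens).1 ≤ f ⁻¹ᵁ V) (g' : Γ(Y, V)),
      (Localization.awayMap (f.appLE V W.1 e).hom (r * g')).Flat := by
  haveI : p.IsPrime := hp.1.1
  induction s, hs using Set.Finite.induction_on with
  | empty =>
    exact ⟨1, fun h => (Ideal.ne_top_iff_one p).1 Ideal.IsPrime.ne_top' h,
      fun W hW => absurd hW (Set.notMem_empty W)⟩
  | @insert W s hWs hs ih =>
    obtain ⟨r₁, hne1, h1⟩ := ih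
    by_cases he : W.1 ≤ f ⁻¹ᵁ V
    · letI : Algebra Γ(Y, V) Γ(X, W.1) := (f.appLE V W.1 he).hom.toAlgebra
      haveI : Algebra.FinitePresentation Γ(Y, V) Γ(X, W.1) :=
        HasRingHomProperty.appLE (P := @LocallyOfFinitePresentation) f inferInstance ⟨V, hV⟩ W he
      obtain ⟨r₂, hne2, h2⟩ := exists_flat_awayMap_of_minimal Γ(Y, V) Γ(X, W.1) p hp
      refine ⟨r₁ * r₂, fun h => (Ideal.IsPrime.mem_or_mem ‹_› h).elim hne1 hne2,
        fun W' hW' e g' => ?_⟩
      rcases hW' with rfl | hW'
      · have := h2 (r₁ * g')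
        have e' : r₁ * r₂ * g' = r₂ * (r₁ * g') := by ring
        rw [e']
        exact this
      · have := h1 W' hW' e (r₂ * g')
        have e' : r₁ * r₂ * g' = r₁ * (r₂ * g') := by ring
        rw [e']
        exact this
    · refine ⟨r₁, hne1, fun W' hW' e g' => ?_⟩
      rcases hW' with rfl | hW'
      · exact absurd e he
      · exact h1 W' hW' e g'

variable [QuasiCompact f]

theorem exists_basicOpen_flat_min {V : Y.Opens} (hV : IsAffineOpen V) (p : Ideal Γ(Y, V))
    (hp : p ∈ minimalPrimes Γ(Y, V)) :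
    ∃ r : Γ(Y, V), r ∉ p ∧ Flat (f ∣_ Y.basicOpen r) := by
  have hc : IsCompact (f ⁻¹ᵁ V : Set X) := f.isCompact_preimage hV.isCompact
  obtain ⟨s, hs, hsU⟩ :=
    isCompact_and_isOpen_iff_finite_and_eq_biUnion_affineOpens.1 ⟨hc, (f ⁻¹ᵁ V).isOpen⟩
  have hle : ∀ W ∈ s, (W : X.affineOpens).1 ≤ f ⁻¹ᵁ V := by
    intro W hW x hx
    have : x ∈ (f ⁻¹ᵁ V : Set X) := by
      rw [hsU]
      exact Set.mem_biUnion hW hx
    exact this
  obtain ⟨r, hne, hr⟩ := exists_good_finite_min f hV p hp s hs
  have hcov : f ⁻¹ᵁ (Y.basicOpen r) ≤ ⨆ i : s, (i.1 : X.affineOpens).1 := by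
    intro x hx
    have hx' : x ∈ (f ⁻¹ᵁ V : Set X) := by
      have : Y.basicOpen r ≤ V := Y.basicOpen_le _
      exact this hx
    rw [hsU] at hx'
    obtain ⟨W, hW, hxW⟩ := Set.mem_iUnion₂.1 hx'
    exact Opens.mem_iSup.2 ⟨⟨W, hW⟩, hxW⟩
  refine ⟨r, hne, ?_⟩
  refine restrict_basicOpen_of_awayMap (P := @Flat) f hV r (fun i : s => i.1)
    (fun i => hle i.1 i.2) hcov fun i => ?_
  have := hr i.1 i.2 (hle i.1 i.2) 1
  rwa [mul_one] at this

end SchemePart

section Topology

/-- Every point of a scheme is a specialization of a maximal point. -/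
theorem exists_maximal_specializes (Y : Scheme.{u}) (x : Y) :
    ∃ y : Y, (∀ y' : Y, y' ⤳ y → y' = y) ∧ y ⤳ x := by
  have hirr : IsIrreducible (irreducibleComponent x) := isIrreducible_irreducibleComponent
  have hcl : IsClosed (irreducibleComponent x) := isClosed_irreducibleComponent
  have hgen : IsGenericPoint hirr.genericPoint (irreducibleComponent x) :=
    hirr.isGenericPoint_genericPoint hcl
  refine ⟨hirr.genericPoint, fun y' hy' => ?_, ?_⟩
  · have h1 : irreducibleComponent x ⊆ closure {y'} := by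
      rw [← hgen.def]
      exact closure_minimal (Set.singleton_subset_iff.2 (specializes_iff_mem_closure.1 hy'))
        isClosed_closure
    have h2 : closure {y'} = irreducibleComponent x :=
      eq_irreducibleComponent isIrreducible_singleton.closure.isPreirreducible h1
    have h3 : IsGenericPoint y' (irreducibleComponent x) := h2
    exact h3.eq hgen
  · rw [specializes_iff_mem_closure, hgen.def]
    exact mem_irreducibleComponent

/-- The prime of a maximal point in an affine open is a minimal prime. -/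
theorem primeIdealOf_mem_minimalPrimes {Y : Scheme.{u}} {V : Y.Opens} (hV : IsAffineOpen V)
    (y : Y) (hy : y ∈ V) (hmax : ∀ y' : Y, y' ⤳ y → y' = y) :
    (hV.primeIdealOf ⟨y, hy⟩).asIdeal ∈ minimalPrimes Γ(Y, V) := by
  refine ⟨⟨(hV.primeIdealOf ⟨y, hy⟩).isPrime, bot_le⟩, fun q hq hle => ?_⟩
  haveI : q.IsPrime := hq.1
  obtain ⟨y', hy', hq'⟩ := Groth.Agent.Lib.Helper29.QCohLoc.exists_point_of_prime hV q
  have hspec : y' ⤳ y := by
    rw [specializes_iff_forall_open]
    intro O hO hyO
    obtain ⟨a, haO, hya⟩ := hV.exists_basicOpen_le (V := ⟨O, hO⟩) ⟨y, hyO⟩ hy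
    have h1 : a ∉ (hV.primeIdealOf ⟨y, hy⟩).asIdeal := by
      rw [Groth.Agent.Lib.Helper29.QCohLoc.mem_primeIdealOf_iff hV y hy a]
      exact not_not.2 hya
    have h2 : a ∉ (hV.primeIdealOf ⟨y', hy'⟩).asIdeal := by
      rw [hq']
      exact fun h => h1 (hle h)
    rw [Groth.Agent.Lib.Helper29.QCohLoc.mem_primeIdealOf_iff hV y' hy' a, not_not] at h2
    exact haO h2
  have := hmax y' hspec
  subst this
  rw [hq']

end Topology


/-- Take a scheme Y that is reduced, quasi-compact and quasi-separated, whose set of maximal points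
(points with no proper generization) is quasi-compact, and f : X ⟶ Y a morphism of finite
presentation. Then there is a dense quasi-compact open subset U ⊆ Y over which f is flat. -/
theorem result {X Y : Scheme.{u}} [IsReduced Y]
    [CompactSpace Y] [QuasiSeparatedSpace Y]
    (hgen : IsCompact {y : Y | ∀ y' : Y, y' ⤳ y → y' = y})
    (f : X ⟶ Y) [LocallyOfFinitePresentation f] [QuasiCompact f] [QuasiSeparated f] :
    ∃ U : Y.Opens, Dense (U : Set Y) ∧ IsCompact (U : Set Y) ∧ Flat (f ∣_ U) := by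
  classical
  -- for each maximal point a good compact open neighbourhood
  have key : ∀ y : {y : Y | ∀ y' : Y, y' ⤳ y → y' = y}, ∃ D : Y.Opens,
      (y : Y) ∈ D ∧ IsCompact (D : Set Y) ∧ Flat (f ∣_ D) := by
    rintro ⟨y, hmax⟩
    obtain ⟨_, ⟨V, hV : IsAffineOpen V, rfl⟩, hyV, -⟩ :=
      (Y.isBasis_affineOpens).exists_subset_of_mem_open (Set.mem_univ y) isOpen_univ
    have hp := primeIdealOf_mem_minimalPrimes hV y hyV hmax
    obtain ⟨r, hr, hflat⟩ := exists_basicOpen_flat_min f hV _ hp
    refine ⟨Y.basicOpen r, ?_, (hV.basicOpen r).isCompact, hflat⟩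
    by_contra hcon
    exact hr ((Groth.Agent.Lib.Helper29.QCohLoc.mem_primeIdealOf_iff hV y hyV r).2 hcon)
  choose D hD1 hD2 hD3 using key
  obtain ⟨t, ht⟩ := hgen.elim_finite_subcover (fun y => (D y : Set Y)) (fun y => (D y).isOpen)
    (fun y hy => Set.mem_iUnion.2 ⟨⟨y, hy⟩, hD1 ⟨y, hy⟩⟩)
  refine ⟨⨆ i : t, D i.1, ?_, ?_, ?_⟩
  · intro x
    obtain ⟨y, hmax, hyx⟩ := exists_maximal_specializes Y x
    have hyU : y ∈ ((⨆ i : t, D i.1 : Y.Opens) : Set Y) := by
      obtain ⟨i, hi⟩ := Set.mem_iUnion.1 (ht hmax)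
      obtain ⟨hit, hyi⟩ := Set.mem_iUnion.1 hi
      exact Opens.mem_iSup.2 ⟨⟨i, hit⟩, hyi⟩
    exact closure_mono (Set.singleton_subset_iff.2 hyU) (specializes_iff_mem_closure.1 hyx)
  · rw [Opens.coe_iSup]
    exact isCompact_iUnion fun i => hD2 i.1
  · haveI : IsZariskiLocalAtTarget @Flat.{u} :=
      HasRingHomProperty.instIsZariskiLocalAtTarget (P := @Flat) (Q := RingHom.Flat)
    exact Groth.Agent.Lib.Helper55.GR.restrict_iSup (P := @Flat.{u}) f (fun i : t => D i.1) fun i => hD3 i.1

end Groth.Agent.S14790
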