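import Groth.Statements.S14791
import Mathlib
import Groth.Agent.Lib.Helper46.SubtrLimCore

set_option autoImplicit false
universe u
open CategoryTheory CategoryTheory.Limits AlgebraicGeometry
open Subtr

namespace Groth.Agent.S14791

/-- Let S = lim S_i be a cofiltered limit of schemes with affine transition morphisms, Y₀ a scheme over
a stage S_{i₀}, f₀ : X₀ ⟶ Y₀ a quasi-compact morphism, and write f_i, f for the base changes of f₀
to the stages S_i and to S (realised as second projections of fibre products). If there is a stage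
S_{i₁} such that f_i has the lifting property for ordered pairs of points for every stage S_i over
S_{i₁}, then f has it. (The published statement is about subtrusive morphisms and assumes f a
quotient map for the constructible topologies; this row keeps only the lifting property and assumes
f₀ quasi-compact, which makes the fibres quasi-compact as the filtered-intersection step of the
argument requires.) -/
theorem result {I : Type u} [SmallCategory I] [IsCofiltered I]
    (D : I ⥤ Scheme.{u}) (c : Limits.Cone D) (hc : Limits.IsLimit c)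
    [∀ (i j : I) (a : i ⟶ j), IsAffineHom (D.map a)] (i₀ : I)
    {X₀ Y₀ : Scheme.{u}} (f₀ : X₀ ⟶ Y₀) (g₀ : Y₀ ⟶ D.obj i₀) [QuasiCompact f₀]
    (h : ∃ (i₁ : I) (ψ : i₁ ⟶ i₀), ∀ (i : I) (φ : i ⟶ i₁),
      Subtr.IsSSubtrusive (pullback.snd f₀ (pullback.fst g₀ (D.map (φ ≫ ψ))))) :
    Subtr.IsSSubtrusive (pullback.snd f₀ (pullback.fst g₀ (c.π.app i₀))) := by
  obtain ⟨i₁, ψ, h⟩ := h
  haveI := IsCofiltered.isConnected (Over i₁)
  -- the restricted diagram over `Over i₁`
  let D' : Over i₁ ⥤ Scheme.{u} := Over.forget i₁ ⋙ D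
  let c' : Cone D' := c.whisker (Over.forget i₁)
  have hc' : IsLimit c' := (Functor.Initial.isLimitWhiskerEquiv (Over.forget i₁) c).symm hc
  let β : ∀ j : Over i₁, D'.obj j ⟶ D.obj i₀ := fun j => D.map (j.hom ≫ ψ)
  have hβ : ∀ {j k : Over i₁} (φ : j ⟶ k), D'.map φ ≫ β k = β j := by
    intro j k φ
    change D.map φ.left ≫ D.map (k.hom ≫ ψ) = D.map (j.hom ≫ ψ)
    rw [← D.map_comp, ← Category.assoc, Over.w φ]
  have hb : ∀ j, c'.π.app j ≫ β j = c.π.app i₀ := by
    intro j
    change c.π.app j.left ≫ D.map (j.hom ≫ ψ) = c.π.app i₀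
    exact c.w _
  haveI : ∀ (i j : Over i₁) (f : i ⟶ j), IsAffineHom (D'.map f) := fun i j f => by
    change IsAffineHom (D.map f.left); infer_instance
  haveI : ∀ j, IsAffineHom (β j) := fun j => by
    change IsAffineHom (D.map (j.hom ≫ ψ)); infer_instance
  haveI : IsAffineHom (c.π.app i₀) := isAffineHom_π_app D c hc i₀
  let DY : Over i₁ ⥤ Scheme.{u} := Groth.Agent.Lib.Helper50.bcDiagram D' β hβ g₀
  let r : ∀ j, DY.obj j ⟶ Y₀ := fun j => pullback.fst g₀ (β j)
  let cY : Cone DY := Groth.Agent.Lib.Helper50.bcCone D' β hβ g₀ c' (c.π.app i₀) hb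
      (pullback.fst g₀ (c.π.app i₀)) (pullback.snd g₀ (c.π.app i₀)) pullback.condition
  let rI : cY.pt ⟶ Y₀ := pullback.fst g₀ (c.π.app i₀)
  haveI : ∀ j, IsAffineHom (r j) := fun j =>
    MorphismProperty.pullback_fst (P := @IsAffineHom) g₀ (β j) inferInstance
  haveI : IsAffineHom rI :=
    MorphismProperty.pullback_fst (P := @IsAffineHom) g₀ (c.π.app i₀) inferInstance
  exact Groth.Agent.Lib.Helper46.SubtrLim.isSSubtrusive_limit DY r
    (fun φ => Groth.Agent.Lib.Helper50.bcDiagram_map_fst D' β hβ g₀ φ) cY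
    (Groth.Agent.Lib.Helper50.isLimitBcCone D' β hβ g₀ c' (c.π.app i₀) hb
      (pullback.fst g₀ (c.π.app i₀)) (pullback.snd g₀ (c.π.app i₀)) hc'
      (IsPullback.of_hasPullback g₀ (c.π.app i₀)))
    rI
    (fun j => Groth.Agent.Lib.Helper50.bcConeπ_fst D' β g₀ c' (c.π.app i₀) hb
      (pullback.fst g₀ (c.π.app i₀)) (pullback.snd g₀ (c.π.app i₀)) pullback.condition j)
    f₀ (fun j => h j.left j.hom)

end Groth.Agent.S14791
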