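import Groth.Statements.S14795
import Groth.Agent.Lib.Helper20.UnivHomeoExt

set_option autoImplicit false
universe u
open CategoryTheory CategoryTheory.Limits AlgebraicGeometry
open Subtr

namespace Groth.Agent.S14795

/-- Let A ⊆ B be an integral ring extension and C ⊆ B the weak subintegral closure of A in B, that is
the largest A-subalgebra C of B such that Spec C ⟶ Spec A is a universal homeomorphism (C is
characterised here by that maximality). Then b ∈ B lies in C if and only if b ⊗ 1 − 1 ⊗ b is
nilpotent in B ⊗_A B (b ⊗ 1 = 1 ⊗ b in the reduction of B ⊗_A B). -/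
theorem result {A B : Type u} [CommRing A] [CommRing B]
    [Algebra A B] (hinj : Function.Injective (algebraMap A B)) [Algebra.IsIntegral A B]
    (C : Subalgebra A B) (hC : FlatMor.IsUnivHomeo (Spec.map (CommRingCat.ofHom (algebraMap A C))))
    (hmax : ∀ D : Subalgebra A B, FlatMor.IsUnivHomeo (Spec.map (CommRingCat.ofHom (algebraMap A D))) → D ≤ C) (b : B) :
    b ∈ C ↔ IsNilpotent (b ⊗ₜ[A] (1 : B) - (1 : B) ⊗ₜ[A] b) := by
  constructor
  · intro hb
    exact Groth.Agent.Lib.Helper20.UnivHomeo.le_radicialClosure_of_uh C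
      ((Groth.Agent.Lib.Helper20.UnivHomeo.isUnivHomeo_iff A _).mp hC) hb
  · intro hb
    have hD : Algebra.adjoin A {b} ≤ Groth.Agent.Lib.Helper20.UnivHomeo.radicialClosure A B := by
      apply Algebra.adjoin_le
      intro x hx
      rw [Set.mem_singleton_iff] at hx
      subst hx
      exact hb
    have hUH := Groth.Agent.Lib.Helper20.UnivHomeo.uh_subalgebra_of_le_radicialClosure hinj _ hD
    exact hmax _ ((Groth.Agent.Lib.Helper20.UnivHomeo.isUnivHomeo_iff A _).mpr hUH)
      (Algebra.subset_adjoin (Set.mem_singleton b))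

end Groth.Agent.S14795
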