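import Groth.Statements.S14797
import Mathlib
import Groth.Agent.Lib.Helper81.Submersive
import Groth.Agent.Lib.Helper37.EtaleFibres

set_option autoImplicit false
universe u
open CategoryTheory CategoryTheory.Limits AlgebraicGeometry
open Subtr

namespace Groth.Agent.S14797

/-- Let g : S' ⟶ S be a quasi-compact universally submersive morphism of schemes and f : X ⟶ S an étale
morphism whose base change X ×_S S' ⟶ S' is finite. Then f is finite. (The published statement
treats the properties universally closed, separated and quasi-compact one at a time as well; this
row is the finite case. It assumes g universally subtrusive, using it only through universal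
submersiveness and, for quasi-compactness, through the constructible topology; for quasi-compact g
universal submersiveness suffices by the same proof.) -/
theorem result {X S S' : Scheme.{u}} (g : S' ⟶ S)
    [QuasiCompact g] (hg : SGA1.UnivSubmersive g) (f : X ⟶ S) [Etale f]
    [IsFinite (pullback.snd f g)] : IsFinite f := by
  open CategoryTheory.Limits in
  have H : IsPullback (pullback.fst f g) (pullback.snd f g) f g := IsPullback.of_hasPullback f g
  have huc : UniversallyClosed f :=
    Groth.Agent.Lib.Helper81.Submersive.universallyClosed_of_isPullback H hg
  have hsep : IsSeparated f :=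
    Groth.Agent.Lib.Helper81.Submersive.isSeparated_of_isPullback H hg
  have hgs : Function.Surjective g.base :=
    (Groth.Agent.Lib.Helper81.Submersive.isQuotientMap hg).surjective
  have hqc : QuasiCompact f := by
    refine ⟨fun U hUo hUc => ?_⟩
    have h1 : IsCompact (g.base ⁻¹' U) := QuasiCompact.isCompact_preimage (f := g) U hUo hUc
    have h2 : IsCompact ((pullback.snd f g).base ⁻¹' (g.base ⁻¹' U)) :=
      QuasiCompact.isCompact_preimage (f := pullback.snd f g) _
        (hUo.preimage g.continuous) h1
    have h3 := h2.image (pullback.fst f g).continuous
    convert h3 using 1
    ext x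
    constructor
    · intro hx
      obtain ⟨s', hs'⟩ := hgs (f.base x)
      obtain ⟨z, hz1, hz2⟩ := Scheme.Pullback.exists_preimage_pullback x s' hs'.symm
      refine ⟨z, ?_, hz1⟩
      change g.base ((pullback.snd f g).base z) ∈ U
      rw [hz2, hs']
      exact hx
    · rintro ⟨z, hz, rfl⟩
      change f.base ((pullback.fst f g).base z) ∈ U
      have : f.base ((pullback.fst f g).base z) = g.base ((pullback.snd f g).base z) := by
        rw [← Scheme.Hom.comp_apply, ← Scheme.Hom.comp_apply, pullback.condition]
      rw [this]
      exact hz
  have : LocallyOfFiniteType f := inferInstance
  have : IsProper f := {}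
  have : LocallyQuasiFinite f := Groth.Agent.Lib.Helper37.EtaleFibres.locallyQuasiFinite_of_etale f
  exact IsFinite.of_isProper_of_locallyQuasiFinite f

end Groth.Agent.S14797
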