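import Groth.Statements.S14798
import Groth.Agent.Lib.Helper16.HJFrac
-- import your own Groth.Agent.* helpers here

set_option autoImplicit false
open Finset
open HJFrac

namespace Groth.Agent.S14798

/-- Let 0 < r < n be coprime integers and n/r = b₁ - 1/(b₂ - 1/(⋯ - 1/b_λ)) the Hirzebruch–Jung
expansion (λ ≥ 1, every b_i ≥ 2); let m₁, m₂ be positive integers prime to n with r m₂ + m₁ ≡ 0 mod
n, and let μ₁, …, μ_λ be positive integers solving the tridiagonal system b_i μ_i - μ_{i-1} -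
μ_{i+1} = 0 (1 ≤ i ≤ λ) with the conventions μ₀ = m₂ and μ_{λ+1} = m₁ (the multiplicity vector
attached to (n, r, m₂, m₁)). Then n/(m₁ m₂) = 1/(m₂ μ₁) + 1/(μ₁ μ₂) + ⋯ + 1/(μ_{λ-1} μ_λ) + 1/(μ_λ
m₁). -/
theorem result (l : ℕ) (hl : 1 ≤ l) (b : ℕ → ℤ)
    (hb : ∀ i, 1 ≤ i → i ≤ l → 2 ≤ b i)
    (n r : ℕ) (hr : 0 < r) (hrn : r < n) (hcop : Nat.Coprime r n)
    (hhj : (n : ℚ) / r = HJFrac.hjVal ((List.range l).map fun i => b (i + 1)))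
    (m₁ m₂ : ℕ) (hm₁ : 0 < m₁) (hm₂ : 0 < m₂) (h₁ : Nat.Coprime m₁ n) (h₂ : Nat.Coprime m₂ n)
    (hdvd : (n : ℤ) ∣ r * m₂ + m₁)
    (μ : ℕ → ℤ) (hμ0 : μ 0 = m₂) (hμl : μ (l + 1) = m₁) (hμpos : ∀ i, i ≤ l + 1 → 0 < μ i)
    (hsys : ∀ i, 1 ≤ i → i ≤ l → b i * μ i = μ (i - 1) + μ (i + 1)) :
    (n : ℚ) / ((m₁ : ℚ) * m₂) = ∑ i ∈ Finset.range (l + 1), 1 / ((μ i : ℚ) * (μ (i + 1) : ℚ)) := by
  classical
  obtain ⟨l', rfl⟩ : ∃ l', l = l' + 1 := ⟨l - 1, by omega⟩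
  obtain ⟨hlt, hD0, hcopND, hval⟩ := Groth.Agent.Lib.Helper16.HJ.cont_spec (l' + 1) b hb
  have hDpos : 0 < (Groth.Agent.Lib.Helper16.HJ.cont (l' + 1) b).2 := by
    rw [Groth.Agent.Lib.Helper16.HJ.cont_succ]
    have := Groth.Agent.Lib.Helper16.HJ.cont_spec l' (fun i => b (i + 1))
      (fun i h1 h2 => hb (i + 1) (by omega) (by omega))
    show 0 < (Groth.Agent.Lib.Helper16.HJ.cont l' fun i => b (i + 1)).1
    omega
  have hnN : ((n : ℤ) = (Groth.Agent.Lib.Helper16.HJ.cont (l' + 1) b).1) ∧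
      ((r : ℤ) = (Groth.Agent.Lib.Helper16.HJ.cont (l' + 1) b).2) := by
    apply Rat.div_int_inj (by exact_mod_cast hr) hDpos
    · simpa using hcop.symm
    · exact Int.isCoprime_iff_gcd_eq_one.mp hcopND
    · rw [← hval, ← hhj]
      push_cast
      rfl
  have hsum := Groth.Agent.Lib.Helper16.HJ.sum_inv_mul (l' + 1) b μ hsys hμpos
  rw [← hnN.1, hμl, hμ0] at hsum
  have h1 : (m₁ : ℚ) ≠ 0 := by exact_mod_cast hm₁.ne'
  have h2 : (m₂ : ℚ) ≠ 0 := by exact_mod_cast hm₂.ne'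
  push_cast at hsum
  rw [div_eq_iff (mul_ne_zero h1 h2)]
  have : (n : ℚ) = (m₁ : ℚ) * (∑ i ∈ Finset.range (l' + 1 + 1), 1 / ((μ i : ℚ) * (μ (i + 1) : ℚ))) * m₂ := by
    rw [hsum]; field_simp
  rw [this]; ring

end Groth.Agent.S14798
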