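import Groth.Statements.S14799
import Groth.Agent.Lib.Helper16.HJFrac
-- import your own Groth.Agent.* helpers here

set_option autoImplicit false
open HJFrac

namespace Groth.Agent.S14799

/-- Let 0 < r < n be coprime integers and n/r = b₁ - 1/(b₂ - 1/(⋯ - 1/b_λ)) the Hirzebruch–Jung
expansion (λ ≥ 1, every b_i ≥ 2); let m₁, m₂ be positive integers prime to n with r m₂ + m₁ ≡ 0 mod
n, and let μ₁, …, μ_λ be positive integers with b_i μ_i = μ_{i-1} + μ_{i+1} for 1 ≤ i ≤ λ, where μ₀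
= m₂ and μ_{λ+1} = m₁. Then gcd(m₁, μ₁, …, μ_λ, m₂) = gcd(m₁, m₂); equivalently gcd(m₁, m₂) divides
every μ_i. -/
theorem result (l : ℕ) (hl : 1 ≤ l) (b : ℕ → ℤ)
    (hb : ∀ i, 1 ≤ i → i ≤ l → 2 ≤ b i)
    (n r : ℕ) (hr : 0 < r) (hrn : r < n) (hcop : Nat.Coprime r n)
    (hhj : (n : ℚ) / r = HJFrac.hjVal ((List.range l).map fun i => b (i + 1)))
    (m₁ m₂ : ℕ) (hm₁ : 0 < m₁) (hm₂ : 0 < m₂) (h₁ : Nat.Coprime m₁ n) (h₂ : Nat.Coprime m₂ n)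
    (hdvd : (n : ℤ) ∣ r * m₂ + m₁)
    (μ : ℕ → ℤ) (hμ0 : μ 0 = m₂) (hμl : μ (l + 1) = m₁) (hμpos : ∀ i, i ≤ l + 1 → 0 < μ i)
    (hsys : ∀ i, 1 ≤ i → i ≤ l → b i * μ i = μ (i - 1) + μ (i + 1)) :
    ∀ i, i ≤ l + 1 → ((Nat.gcd m₁ m₂ : ℕ) : ℤ) ∣ μ i := by
  classical
  obtain ⟨l', rfl⟩ : ∃ l', l = l' + 1 := ⟨l - 1, by omega⟩
  obtain ⟨hlt, hD0, hcopND, hval⟩ := Groth.Agent.Lib.Helper16.HJ.cont_spec (l' + 1) b hb
  have hDpos : 0 < (Groth.Agent.Lib.Helper16.HJ.cont (l' + 1) b).2 := by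
    rw [Groth.Agent.Lib.Helper16.HJ.cont_succ]
    have := Groth.Agent.Lib.Helper16.HJ.cont_spec l' (fun i => b (i + 1))
      (fun i h1 h2 => hb (i + 1) (by omega) (by omega))
    show 0 < (Groth.Agent.Lib.Helper16.HJ.cont l' fun i => b (i + 1)).1
    omega
  have hnN : ((n : ℤ) = (Groth.Agent.Lib.Helper16.HJ.cont (l' + 1) b).1) ∧
      ((r : ℤ) = (Groth.Agent.Lib.Helper16.HJ.cont (l' + 1) b).2) := by
    apply Rat.div_int_inj (by exact_mod_cast hr) hDpos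
    · simpa using hcop.symm
    · exact Int.isCoprime_iff_gcd_eq_one.mp hcopND
    · rw [← hval, ← hhj]
      push_cast
      rfl
  have hinv := Groth.Agent.Lib.Helper16.HJ.cont_mul_sub (l' + 1) b μ hsys
  rw [← hnN.1, ← hnN.2, hμl, hμ0] at hinv
  set g : ℤ := ((Nat.gcd m₁ m₂ : ℕ) : ℤ) with hg
  have hg1 : g ∣ (m₁ : ℤ) := Int.natCast_dvd_natCast.mpr (Nat.gcd_dvd_left m₁ m₂)
  have hg2 : g ∣ (m₂ : ℤ) := Int.natCast_dvd_natCast.mpr (Nat.gcd_dvd_right m₁ m₂)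
  have hgn : IsCoprime g (n : ℤ) := by
    have h1' : IsCoprime (m₁ : ℤ) (n : ℤ) := by exact_mod_cast (Nat.isCoprime_iff_coprime.mpr h₁)
    exact IsCoprime.of_isCoprime_of_dvd_left h1' hg1
  have hμ1 : g ∣ μ 1 := by
    have : g ∣ (n : ℤ) * μ 1 := by
      have h3 : (n : ℤ) * μ 1 = (m₁ : ℤ) + (r : ℤ) * (m₂ : ℤ) := by linarith
      rw [h3]
      exact dvd_add hg1 (Dvd.dvd.mul_left hg2 _)
    exact hgn.dvd_of_dvd_mul_left this
  have hall : ∀ i, i ≤ l' + 1 + 1 → g ∣ μ i ∧ (i + 1 ≤ l' + 1 + 1 → g ∣ μ (i + 1)) := by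
    intro i
    induction i with
    | zero =>
      intro _
      exact ⟨by rw [hμ0]; exact hg2, fun _ => hμ1⟩
    | succ i ih =>
      intro hi
      obtain ⟨h1, h2⟩ := ih (by omega)
      refine ⟨h2 hi, fun hi2 => ?_⟩
      have hrec := hsys (i + 1) (by omega) (by omega)
      rw [Nat.add_sub_cancel] at hrec
      have : μ (i + 1 + 1) = b (i + 1) * μ (i + 1) - μ i := by linarith
      rw [this]
      exact dvd_sub (Dvd.dvd.mul_left (h2 hi) _) h1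
  intro i hi
  exact (hall i hi).1

end Groth.Agent.S14799
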