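import Groth.Statements.S14801
import Groth.Agent.Lib.Helper7.ChainCtr

set_option autoImplicit false
universe u
open Finset
open LabGraph

namespace Groth.Agent.S14801

/-- Let (G, β) be a finite multigraph with a multiplicity function and α its matrix (α_{vw} = #edges(v,
w) for v ≠ w, diagonal entries defined by Σ_w β(w) α_{vw} = 0); let L be a connecting chain of
length m (vertices v₀, …, v_m, edges e₁, …, e_m, each connecting) with β(v_i) = m and α_{v_i v_i} =
-2 for all i; let (G', β') be the contraction of L and f : ℤ^{V(G')} → ℤ^{V(G)} the map extending a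
vector by zero along the section of V(G) → V(G') that sends the contracted vertex to v₀. Then f
carries ker β' into ker β, and there is a map h : ℤ^{V(G')} → ℤ^{V(G)} with f ∘ α' = α ∘ h, so that
f induces a homomorphism of component groups ker β'/im α' → ker β/im α; this homomorphism is
surjective. -/
theorem result {V E : Type u} [Fintype V] [Fintype E] [DecidableEq V] [DecidableEq E]
    (ends : E → V × V) (β : V → ℤ) (hβ : LabGraph.IsMultFn ends β)
    (m : ℕ) (f : Fin (m + 1) → V) (e : Fin m → E) (hC : LabGraph.IsChain ends f e)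
    (hconn : ∀ i, LabGraph.IsConnecting ends (e i)) (hβm : ∀ i, β (f i) = m)
    (hα : ∀ i, LabGraph.mfMatrix ends β (f i) (f i) = -2) :
    ∃ φ : LabGraph.CompGrp (DualGr.ctrEnds ends (univ.image e)) (LabGraph.ctrFn ends (univ.image e) β) →+
        LabGraph.CompGrp ends β,
      Function.Surjective φ ∧
      ∀ (x : LinearMap.ker (LabGraph.betaHom (LabGraph.ctrFn ends (univ.image e) β)))
        (y : LinearMap.ker (LabGraph.betaHom β)),
        (y : V → ℤ) = LabGraph.liftAt ends (univ.image e) (f 0) (x : DualGr.CtrVert ends (univ.image e) → ℤ) →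
        φ (Submodule.Quotient.mk x) = Submodule.Quotient.mk y := by
  have h : Groth.Agent.Lib.Helper7.ChainCtr.ChainData ends β m f e := ⟨hβ, hC, hconn, hβm, hα⟩
  have hL : ∀ x ∈ LinearMap.ker (LabGraph.betaHom (LabGraph.ctrFn ends (univ.image e) β)),
      Groth.Agent.Lib.Helper7.ChainCtr.liftLin ends (univ.image e) (f 0) x ∈
        LinearMap.ker (LabGraph.betaHom β) := by
    intro x hx
    rw [LinearMap.mem_ker] at hx ⊢
    rw [Groth.Agent.Lib.Helper7.ChainCtr.liftLin_apply,
      ← Groth.Agent.Lib.Helper7.ChainCtr.betaHom_pushV ends (univ.image e) β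
        (Groth.Agent.Lib.Helper7.ChainCtr.hconst' h),
      Groth.Agent.Lib.Helper7.ChainCtr.pushV_liftAt ends (univ.image e) (f 0)
        (Groth.Agent.Lib.Helper7.ChainCtr.hsing' h)]
    exact hx
  let ψ := (Groth.Agent.Lib.Helper7.ChainCtr.liftLin ends (univ.image e) (f 0)).restrict hL
  have hψ : ∀ x, ((ψ x : LinearMap.ker (LabGraph.betaHom β)) : V → ℤ) =
      LabGraph.liftAt ends (univ.image e) (f 0) x.1 := fun x => rfl
  have hwd : (LinearMap.range (Matrix.mulVecLin (LabGraph.mfMatrix (DualGr.ctrEnds ends (univ.image e))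
      (LabGraph.ctrFn ends (univ.image e) β)))).comap
        (LinearMap.ker (LabGraph.betaHom (LabGraph.ctrFn ends (univ.image e) β))).subtype ≤
      ((LinearMap.range (Matrix.mulVecLin (LabGraph.mfMatrix ends β))).comap
        (LinearMap.ker (LabGraph.betaHom β)).subtype).comap ψ := by
    intro x hx
    simp only [Submodule.mem_comap, Submodule.subtype_apply] at hx ⊢
    obtain ⟨y, hy⟩ := hx
    obtain ⟨z, hz⟩ := Groth.Agent.Lib.Helper7.ChainCtr.liftAt_ctr_mulVec h y
    refine ⟨z, ?_⟩
    rw [hψ, Matrix.mulVecLin_apply, ← hz, ← Matrix.mulVecLin_apply, hy]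
  refine ⟨(Submodule.mapQ _ _ ψ hwd).toAddMonoidHom, ?_, ?_⟩
  · intro q
    obtain ⟨y, rfl⟩ := Submodule.Quotient.mk_surjective _ q
    obtain ⟨z, k, hyk, hk⟩ := Groth.Agent.Lib.Helper7.ChainCtr.exists_decomp h y.1
    have hk' : k = y.1 - Matrix.mulVec (LabGraph.mfMatrix ends β) z := by rw [hyk]; abel
    have hkβ : LabGraph.betaHom β k = 0 := by
      rw [hk', map_sub, Groth.Agent.Lib.Helper7.Contract.betaHom_mulVec ends β hβ, sub_zero]
      exact LinearMap.mem_ker.mp y.2
    have hkK : ∀ v, DualGr.ctrMk ends (univ.image e) v = DualGr.ctrMk ends (univ.image e) (f 0) →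
        v ≠ f 0 → k v = 0 := by
      intro v hv hv0
      obtain ⟨n, h1, h2, rfl⟩ := Groth.Agent.Lib.Helper7.ChainCtr.mem_class h v hv hv0
      exact hk n h1 h2
    have hxβ : DualGr.pushV ends (univ.image e) k ∈
        LinearMap.ker (LabGraph.betaHom (LabGraph.ctrFn ends (univ.image e) β)) := by
      rw [LinearMap.mem_ker, Groth.Agent.Lib.Helper7.ChainCtr.betaHom_pushV ends (univ.image e) β
        (Groth.Agent.Lib.Helper7.ChainCtr.hconst' h), hkβ]
    refine ⟨Submodule.Quotient.mk ⟨DualGr.pushV ends (univ.image e) k, hxβ⟩, ?_⟩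
    simp only [LinearMap.toAddMonoidHom_coe, Submodule.mapQ_apply]
    rw [Submodule.Quotient.eq]
    simp only [Submodule.mem_comap, Submodule.subtype_apply, Submodule.coe_sub]
    refine ⟨-z, ?_⟩
    rw [hψ]
    simp only
    rw [Groth.Agent.Lib.Helper7.ChainCtr.liftAt_pushV ends (univ.image e) (f 0)
      (Groth.Agent.Lib.Helper7.ChainCtr.hsing' h) k hkK, Matrix.mulVecLin_apply,
      Matrix.mulVec_neg, hk']
    abel
  · intro x y hxy
    simp only [LinearMap.toAddMonoidHom_coe, Submodule.mapQ_apply]
    congr 1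
    apply Subtype.ext
    rw [hψ]
    exact hxy.symm

end Groth.Agent.S14801
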