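import Groth.Statements.S14807
import Mathlib
-- import your own Groth.Agent.* helpers here

set_option autoImplicit false
universe u
open CAlg

namespace Groth.Agent.S14807

/-- Let G be a finite abelian group, written additively, and ℓ a prime number. Every sequence (g_n)_{n ≥
0} of elements of G with ℓ^n · g_n = 0 and ℓ · g_{n+1} = g_n for all n is identically zero; in other
words the inverse limit of the subgroups of ℓ^n-torsion elements, with transition maps
multiplication by ℓ, vanishes. -/
theorem result (G : Type u) [AddCommGroup G] [Finite G]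
    (ℓ : ℕ) (hℓ : ℓ.Prime) (g : ℕ → G) (htor : ∀ n : ℕ, ℓ ^ n • g n = 0)
    (hcomp : ∀ n : ℕ, ℓ • g (n + 1) = g n) (n : ℕ) : g n = 0 := by
  classical
  set N := Nat.card G with hN
  have hNpos : 0 < N := Nat.card_pos
  have key : ∀ m : ℕ, ℓ ^ N • g m = 0 := by
    intro m
    have h1 : addOrderOf (g m) ∣ ℓ ^ m := addOrderOf_dvd_of_nsmul_eq_zero (htor m)
    obtain ⟨j, hj, hj'⟩ := (Nat.dvd_prime_pow hℓ).1 h1
    have h2 : addOrderOf (g m) ∣ N := addOrderOf_dvd_natCard (g m)
    have h3 : ℓ ^ j ≤ N := Nat.le_of_dvd hNpos (hj' ▸ h2)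
    have h4 : j < N := lt_of_lt_of_le (Nat.lt_pow_self hℓ.one_lt) h3
    have h5 : ℓ ^ j ∣ ℓ ^ N := pow_dvd_pow ℓ h4.le
    exact addOrderOf_dvd_iff_nsmul_eq_zero.1 (hj' ▸ h5)
  have iter : ∀ (t m : ℕ), ℓ ^ t • g (m + t) = g m := by
    intro t
    induction t with
    | zero => intro m; simp
    | succ t ih =>
      intro m
      rw [pow_succ, mul_smul, ← add_assoc, hcomp, ih]
  rw [← iter N n]
  exact key _

end Groth.Agent.S14807
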