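import Groth.Statements.S14809
import Groth.Agent.Lib.Helper35.IntegralSec
import Groth.Agent.Lib.Lead.Inv5

set_option autoImplicit false
universe u
open CategoryTheory CategoryTheory.Limits AlgebraicGeometry
open PicF

namespace Groth.Agent.S14809

/-- Let X be an integral scheme such that Γ(X, O_X) is a field and L an invertible O_X-module with a
nonzero global section (a nonzero morphism O_X → L). If some tensor power L^{⊗d} with d ≥ 1 is
isomorphic to O_X, then L itself is isomorphic to O_X. -/
theorem result (X : Scheme.{u}) [IsIntegral X]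
    (hfield : IsField (Γ(X, ⊤) : Type u)) (L : X.Modules) (hL : PicF.IsInvertible L)
    (s : Coh.structureModule X ⟶ L) (hs : s ≠ 0) (d : ℕ) (hd : 0 < d)
    (htriv : Nonempty (CohB1.tensorPow L d ≅ Coh.structureModule X)) :
    Nonempty (L ≅ Coh.structureModule X) := by
  obtain ⟨φ⟩ := htriv
  obtain ⟨d', rfl⟩ : ∃ d', d = d' + 1 := ⟨d - 1, by omega⟩
  have h1 := Groth.Agent.Lib.Helper35.IntegralSec.secPow_ne_zero hL s hs (d' + 1)
  have hw : Groth.Agent.Lib.Lead.Inv.secPow s (d' + 1) ≫ φ.hom ≠ 0 := by
    intro h0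
    apply h1
    have := congrArg (fun ψ => ψ ≫ φ.inv) h0
    simpa using this
  have h2 := Groth.Agent.Lib.Helper35.IntegralSec.genLocus_eq_top_of_ne_zero hfield _ hw
  rw [Groth.Agent.Lib.Lead.Inv.genLocus_comp_iso, Groth.Agent.Lib.Lead.Inv.genLocus_secPow hL s d'] at h2
  exact Groth.Agent.Lib.Helper35.IntegralSec.nonempty_iso_of_genLocus_eq_top s h2

end Groth.Agent.S14809
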