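import Groth.Statements.S14816
import Groth.Agent.Lib.Helper50.FinOrbit

set_option autoImplicit false
universe u
open CategoryTheory MonoidalCategory CartesianMonoidalCategory MonObj GrpObj AlgebraicGeometry
open AbVar

namespace Groth.Agent.S14816

/-- Let k be an algebraically closed field of characteristic p > 0 which is algebraic over its prime
field (every element x satisfies x^(p^n) = x for some n ≥ 1) and let A be an abelian variety over k
(a proper, geometrically integral group scheme over k). Then every k-rational point of A has finite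
order in the group A(k) of k-points. -/
theorem result
    (p : ℕ) [Fact (Nat.Prime p)] (k : Type u) [Field k] [IsAlgClosed k] [CharP k p]
    (halg : ∀ x : k, ∃ n : ℕ, 0 < n ∧ x ^ (p ^ n) = x)
    (A : Over (Spec (CommRingCat.of k))) [GrpObj A] [IsProper A.hom] [GeometricallyIntegral A.hom]
    (a : 𝟙_ (Over (Spec (CommRingCat.of k))) ⟶ A) : IsOfFinOrder a := by
  classical
  haveI : NeZero p := ⟨(Fact.out : p.Prime).ne_zero⟩
  letI : Algebra (ZMod p) k := ZMod.algebra k p
  letI : Algebra (ULift.{u} (ZMod p)) k :=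
    ((algebraMap (ZMod p) k).comp
      (ULift.ringEquiv : ULift.{u} (ZMod p) ≃+* ZMod p).toRingHom).toAlgebra
  haveI : Algebra.IsAlgebraic (ULift.{u} (ZMod p)) k := by
    refine ⟨fun x => ?_⟩
    obtain ⟨n, hn, hx⟩ := halg x
    refine ⟨Polynomial.X ^ p ^ n - Polynomial.X,
      FiniteField.X_pow_card_pow_sub_X_ne_zero (ULift.{u} (ZMod p)) hn.ne'
        (Fact.out : p.Prime).one_lt, ?_⟩
    rw [map_sub, map_pow, Polynomial.aeval_X, hx, sub_self]
  by_contra hfin
  rw [← injective_pow_iff_not_isOfFinOrder] at hfin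
  have haw : a.left ≫ A.hom = 𝟙 (Spec (CommRingCat.of k)) := Over.w a
  have hμw : μ[A].left ≫ A.hom = Limits.pullback.fst A.hom A.hom ≫ A.hom := Over.w μ[A]
  obtain ⟨ℓ, hℓ1, hℓ2⟩ : ∃ ℓ : A.left ⟶ Limits.pullback A.hom A.hom,
      ℓ ≫ Limits.pullback.fst A.hom A.hom = 𝟙 _ ∧ ℓ ≫ Limits.pullback.snd A.hom A.hom = A.hom ≫ a.left :=
    ⟨Limits.pullback.lift (𝟙 A.left) (A.hom ≫ a.left) (by
      rw [Category.id_comp, Category.assoc, haw, Category.comp_id]),
      Limits.pullback.lift_fst _ _ _, Limits.pullback.lift_snd _ _ _⟩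
  have hr : (ℓ ≫ μ[A].left) ≫ A.hom = A.hom := by
    rw [Category.assoc, hμw, reassoc_of% hℓ1]
  have hmul : ∀ x : 𝟙_ (Over (Spec (CommRingCat.of k))) ⟶ A,
      (x * a).left = x.left ≫ ℓ ≫ μ[A].left := by
    intro x
    have hxw : x.left ≫ A.hom = 𝟙 (Spec (CommRingCat.of k)) := Over.w x
    rw [Hom.mul_def, Over.comp_left, Over.lift_left, ← Category.assoc]
    congr 1
    apply Limits.pullback.hom_ext
    · rw [Limits.pullback.lift_fst, Category.assoc, hℓ1, Category.comp_id]
    · rw [Limits.pullback.lift_snd, Category.assoc, hℓ2, reassoc_of% hxw]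
      exact (Category.id_comp _).symm
  haveI : QuasiSeparatedSpace ↥A.left := quasiSeparatedSpace_of_quasiSeparated A.hom
  obtain ⟨n, m, hnm, h⟩ := Groth.Agent.Lib.Helper50.FinOrbit.exists_ne_iterate_eq (ULift.{u} (ZMod p)) k
    A.hom (ℓ ≫ μ[A].left) hr (fun n => (a ^ (n + 1)).left) (Over.w (a ^ (0 + 1)))
    (fun n => by
      change (a ^ (n + 1 + 1)).left = (a ^ (n + 1)).left ≫ ℓ ≫ μ[A].left
      rw [pow_succ a (n + 1), hmul])
  have h' : a ^ (n + 1) = a ^ (m + 1) := Over.OverMorphism.ext h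
  exact hnm (Nat.succ_injective (hfin h'))

end Groth.Agent.S14816
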