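import Groth.Statements.S14821
import Groth.Agent.S2422

set_option autoImplicit false
universe u
open CategoryTheory CategoryTheory.Limits AlgebraicGeometry
open CohIII

namespace Groth.Agent.S14821


open Groth.Agent.S2422 in
/-- The core of S2422 without Noetherian hypotheses. -/
theorem isIso_app_of_algClosed {X Y : Scheme.{u}} [IsIntegral X] [IsIntegral Y]
    (hY : Pi1.IsNormalScheme Y) (f : X ⟶ Y) [UniversallyClosed f]
    (hdom : f.base (genericPoint X) ⤳ genericPoint Y)
    (halg : ∀ x : X.functionField,
      (∃ p : Polynomial Y.functionField, p ≠ 0 ∧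
        Polynomial.eval₂ (CohIII.stalkToFunctionField f (genericPoint Y) hdom) x p = 0) →
      x ∈ Set.range (CohIII.stalkToFunctionField f (genericPoint Y) hdom)) :
    ∀ V : Y.Opens, IsIso (f.app V) := by
  intro V
  rw [ConcreteCategory.isIso_iff_bijective]
  by_cases hV : genericPoint Y ∈ V
  · refine ⟨app_injective f hdom hV, fun b => ?_⟩
    obtain ⟨α, hα, hαV⟩ := exists_functionField_eq f hY hdom halg hV b
    obtain ⟨a, ha⟩ := exists_section_of_forall_stalk hV α hαV
    refine ⟨a, ?_⟩
    apply germ_injective_of_isIntegral X (genericPoint X) (map_genericPoint_mem f hdom hV)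
    rw [← rho_germ f hdom hV a, ha, hα]
  · have hVe : V = ⊥ := by
      ext y
      simp only [TopologicalSpace.Opens.coe_bot, Set.mem_empty_iff_false, iff_false]
      exact fun hy => hV (genericPoint_mem hy)
    subst hVe
    haveI : Subsingleton Γ(X, f ⁻¹ᵁ ⊥) := by
      have : f ⁻¹ᵁ (⊥ : Y.Opens) = ⊥ := rfl
      rw [this]; infer_instance
    exact ⟨fun _ _ _ => Subsingleton.elim _ _, fun b => ⟨0, Subsingleton.elim _ _⟩⟩

open Groth.Agent.S2422 TopologicalSpace in
/-- If `O_Y → f_*O_X` is an isomorphism and `X` is normal, `R(Y)` is algebraically closed in `R(X)`. -/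
theorem mem_range_of_isIntegralElem {X Y : Scheme.{u}} [IsIntegral X] [IsIntegral Y]
    (hX : Pi1.IsNormalScheme X) (f : X ⟶ Y)
    (hdom : f.base (genericPoint X) ⤳ genericPoint Y)
    (hfib : ∀ U : Y.Opens, IsIso (f.app U))
    (t : X.functionField)
    (ht : (CohIII.stalkToFunctionField f (genericPoint Y) hdom).IsIntegralElem t) :
    t ∈ (CohIII.stalkToFunctionField f (genericPoint Y) hdom).range := by
  set ρ := CohIII.stalkToFunctionField f (genericPoint Y) hdom with hρ
  -- an affine open neighbourhood of the generic point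
  obtain ⟨V₀, hV₀, hηV₀, -⟩ := exists_affineOpen_mem_le (Y := Y) (V := ⊤) (y := genericPoint Y) trivial
  haveI : Nonempty V₀ := ⟨⟨genericPoint Y, hηV₀⟩⟩
  haveI := functionField_isFractionRing_of_isAffineOpen Y V₀ hV₀
  letI : Algebra Y.functionField X.functionField := ρ.toAlgebra
  letI : Algebra Γ(Y, V₀) X.functionField := (ρ.comp (algebraMap Γ(Y, V₀) Y.functionField)).toAlgebra
  haveI : IsScalarTower Γ(Y, V₀) Y.functionField X.functionField :=
    IsScalarTower.of_algebraMap_eq (fun _ => rfl)
  have ht' : IsIntegral Y.functionField t := ht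
  obtain ⟨⟨d, hd⟩, q, hq, hqt⟩ :=
    IsIntegral.exists_multiple_integral_of_isLocalization (nonZeroDivisors Γ(Y, V₀)) t ht'
  have hd0 : d ≠ 0 := nonZeroDivisors.ne_zero hd
  change Polynomial.eval₂ (ρ.comp (algebraMap Γ(Y, V₀) Y.functionField))
    (ρ (algebraMap Γ(Y, V₀) Y.functionField d) * t) q = 0 at hqt
  -- the open `D(d)`
  have hηd : genericPoint Y ∈ Y.basicOpen d := by
    rw [Scheme.mem_basicOpen _ _ _ hηV₀]
    have : (Y.presheaf.germ V₀ (genericPoint Y) hηV₀) d ≠ 0 := fun h0 =>
      hd0 ((injective_iff_map_eq_zero _).mp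
        (germ_injective_of_isIntegral Y (genericPoint Y) hηV₀) d h0)
    exact this.isUnit
  have hdV₀ : Y.basicOpen d ≤ V₀ := Y.basicOpen_le d
  have hstalk : ∀ x ∈ f ⁻¹ᵁ (Y.basicOpen d),
      ∃ a : X.presheaf.stalk x, algebraMap (X.presheaf.stalk x) X.functionField a = t := by
    intro x hx
    have hxV₀ : x ∈ f ⁻¹ᵁ V₀ := hdV₀ hx
    haveI : Nonempty (f ⁻¹ᵁ V₀ : X.Opens) := ⟨⟨x, hxV₀⟩⟩
    let φ : Γ(Y, V₀) →+* X.presheaf.stalk x :=
      (X.presheaf.germ (f ⁻¹ᵁ V₀) x hxV₀).hom.comp (f.app V₀).hom
    have hφ : ρ.comp (algebraMap Γ(Y, V₀) Y.functionField) =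
        (algebraMap (X.presheaf.stalk x) X.functionField).comp φ := by
      ext a
      change ρ (Y.presheaf.germ V₀ (genericPoint Y) hηV₀ a) = _
      rw [rho_germ f hdom hηV₀ a]
      exact (Scheme.algebraMap_germ_eq_germToFunctionField (X := X) hxV₀ (f.app V₀ a)).symm
    rw [hφ, ← Polynomial.eval₂_map] at hqt
    have hint : IsIntegral (X.presheaf.stalk x)
        (ρ (algebraMap Γ(Y, V₀) Y.functionField d) * t) := ⟨_, hq.map _, hqt⟩
    haveI : IsIntegrallyClosed (X.presheaf.stalk x) := (hX x).2
    obtain ⟨c, hc⟩ := IsIntegrallyClosed.algebraMap_eq_of_integral hint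
    have hu : IsUnit (φ d) := by
      have hx' : x ∈ X.basicOpen (f.app V₀ d) := by
        rw [← Scheme.preimage_basicOpen]; exact hx
      exact (Scheme.mem_basicOpen _ _ _ hxV₀).mp hx'
    obtain ⟨u, hu⟩ := hu
    refine ⟨(↑u⁻¹ : X.presheaf.stalk x) * c, ?_⟩
    have h1 : ρ (algebraMap Γ(Y, V₀) Y.functionField d) =
        algebraMap (X.presheaf.stalk x) X.functionField (φ d) := by
      have := congrArg (fun g => g d) hφ
      exact this
    rw [map_mul, hc, h1, ← hu, ← mul_assoc, ← map_mul, Units.inv_mul, map_one, one_mul]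
  obtain ⟨b, hb⟩ := exists_section_of_forall_stalk (Y := X)
    (map_genericPoint_mem f hdom hηd) t hstalk
  haveI := hfib (Y.basicOpen d)
  obtain ⟨a, ha⟩ := ((ConcreteCategory.isIso_iff_bijective (f.app (Y.basicOpen d))).mp
    inferInstance).2 b
  refine ⟨Y.presheaf.germ (Y.basicOpen d) (genericPoint Y) hηd a, ?_⟩
  rw [rho_germ f hdom hηd a, ha, hb]

/-- Let k be a field and f : X → Y a surjective k-morphism between integral proper k-schemes which are
both normal (all local rings integrally closed domains). Then f is a fibration, i.e. O_Y → f_*O_X is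
an isomorphism (Γ(U, O_Y) → Γ(f⁻¹U, O_X) is bijective for every open U ⊆ Y), exactly when K(Y) is
algebraically closed inside K(X): every element of the function field of X which is integral over
the function field of Y, embedded through the stalk map of f at the generic points, lies in the
image of K(Y). (The published statement assumes only Y normal; without normality of X the forward
implication fails — for a quadratic field extension k ⊂ k', the projective line over k' with one
k'-rational point pinched to a k-rational point, mapped to Spec k, has ring of global functions k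
although k is not algebraically closed in its function field k'(t) — and the published proof
resolves the indeterminacy of a rational map on the generic fibre by a graph whose projection is a
fibration, which needs X normal; so this row assumes X normal as well. The reverse implication holds
without it.) -/
theorem result (k : Type u) [Field k]
    (X Y : Scheme.{u}) [X.Over (Spec (CommRingCat.of k))] [Y.Over (Spec (CommRingCat.of k))]
    [IsProper (X ↘ Spec (CommRingCat.of k))] [IsProper (Y ↘ Spec (CommRingCat.of k))] [IsIntegral X] [IsIntegral Y]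
    (hX : Pi1.IsNormalScheme X) (hY : Pi1.IsNormalScheme Y) (f : X ⟶ Y) [Surjective f] (hf : f ≫ (Y ↘ Spec (CommRingCat.of k)) = X ↘ Spec (CommRingCat.of k))
    (h : f.base (genericPoint ↥X) ⤳ genericPoint ↥Y) :
    (∀ U : Y.Opens, IsIso (f.app U)) ↔
      ∀ x : ↑X.functionField, (CohIII.stalkToFunctionField f (genericPoint ↥Y) h).IsIntegralElem x → x ∈ (CohIII.stalkToFunctionField f (genericPoint ↥Y) h).range := by
  haveI : UniversallyClosed (f ≫ (Y ↘ Spec (CommRingCat.of k))) := by rw [hf]; infer_instance
  haveI : UniversallyClosed f :=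
    UniversallyClosed.of_comp_of_isSeparated (f := f) (g := Y ↘ Spec (CommRingCat.of k))
  constructor
  · intro hfib t ht
    exact mem_range_of_isIntegralElem hX f h hfib t ht
  · intro halg
    refine isIso_app_of_algClosed hY f h (fun x hx => ?_)
    obtain ⟨p, hp0, hp⟩ := hx
    refine halg x ⟨p * Polynomial.C p.leadingCoeff⁻¹, Polynomial.monic_mul_leadingCoeff_inv hp0, ?_⟩
    rw [Polynomial.eval₂_mul, hp, zero_mul]

end Groth.Agent.S14821
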