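import Groth.Statements.S14822
import Groth.Agent.S14821
import Groth.Agent.Lib.Helper22.GenStrDim
import Groth.Agent.Lib.Helper36.DimLemmas
import Groth.Agent.Lib.Helper82.TopDimPreimage

set_option autoImplicit false
universe u
open CategoryTheory CategoryTheory.Limits AlgebraicGeometry
open CohIII

namespace Groth.Agent.S14822


theorem cast_succ_le (n : ℕ) : ((n + 1 : ℕ) : WithBot ℕ∞) ≤ ((n + 1 + 1 : ℕ) : WithBot ℕ∞) := by
  have h3 : n + 1 ≤ n + 1 + 1 := by omega
  exact_mod_cast h3

open Groth.Agent.Lib.Helper36.DimLemmas Groth.Agent.Lib.Helper82 in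
attribute [local instance] specializationOrder in
/-- If a closed map `f : X → Y` of irreducible schemes sends a non-generic point `z` to the generic
point of `Y`, then `dim Y + 1 ≤ dim X`. -/
theorem dim_add_one_le {X Y : Scheme.{u}} [IrreducibleSpace X] [IrreducibleSpace Y] (f : X ⟶ Y)
    (hc : IsClosedMap f) (z : X) (hz : f z = genericPoint Y) (hzne : z ≠ genericPoint X) :
    topologicalKrullDim Y + 1 ≤ topologicalKrullDim X := by
  rw [topologicalKrullDim_eq_krullDim, topologicalKrullDim_eq_krullDim]
  apply withBotENat_add_one_le_of_forall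
  intro n hn
  obtain ⟨p, hp⟩ := Order.le_krullDim_iff.mp hn
  have hm : Monotone f := f.continuous.specialization_monotone
  have hl : ∀ (a : X) (b : Y), b ≤ f a → ∃ a', a' ≤ a ∧ f a' = b := fun a b h => by
    obtain ⟨a', h1, h2⟩ := hc.specializingMap h
    exact ⟨a', h1, h2⟩
  have hzlt : z < genericPoint X :=
    lt_of_le_of_ne ((genericPoint_spec X).specializes (Set.mem_univ z)) hzne
  by_cases hlast : p.last = genericPoint Y
  · obtain ⟨q, hq, hqz⟩ := exists_ltSeries_of_lift f hm hl n p hp z (by rw [hz, hlast])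
    have := Order.LTSeries.length_le_krullDim (q.snoc (genericPoint X) (by rw [hqz]; exact hzlt))
    simpa [hq] using this
  · have hlt : p.last < genericPoint Y :=
      lt_of_le_of_ne ((genericPoint_spec Y).specializes (Set.mem_univ _)) hlast
    obtain ⟨q, hq, hqz⟩ := exists_ltSeries_of_lift f hm hl (n + 1) (p.snoc (genericPoint Y) hlt)
      (by simp [hp]) z (by rw [hz]; simp)
    have := Order.LTSeries.length_le_krullDim (q.snoc (genericPoint X) (by rw [hqz]; exact hzlt))
    refine le_trans ?_ this
    simp only [RelSeries.snoc_length, hq]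
    exact cast_succ_le n

/-- A scheme of finite type over a field is finite dimensional. -/
theorem exists_nat_dim_le (k : Type u) [Field k] (Y : Scheme.{u}) (g : Y ⟶ Spec (CommRingCat.of k))
    [LocallyOfFiniteType g] [QuasiCompact g] [Nonempty Y] :
    ∃ N : ℕ, topologicalKrullDim Y ≤ (N : WithBot ℕ∞) := by
  let y₀ : Y := Classical.arbitrary Y
  obtain ⟨N, hN⟩ := Groth.Agent.Lib.Helper22.GenStr.exists_nat_topologicalKrullDim_fiber_le g (g y₀)
  refine ⟨N, ?_⟩
  haveI : Subsingleton (Spec (CommRingCat.of k)) := inferInstanceAs (Subsingleton (PrimeSpectrum k))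
  have hpre : (g ⁻¹' {g y₀} : Set Y) = Set.univ := by
    ext y
    simp only [Set.mem_preimage, Set.mem_singleton_iff, Set.mem_univ, iff_true]
    exact Subsingleton.elim _ _
  let e : ↥(g.fiber (g y₀)) ≃ₜ Y :=
    ((g.fiberHomeo (g y₀)).trans (Homeomorph.setCongr hpre)).trans (Homeomorph.Set.univ Y)
  rw [← IsHomeomorph.topologicalKrullDim_eq e e.isHomeomorph]
  exact hN

open Groth.Agent.S2422 in
/-- A fibration between proper integral schemes of the same finite dimension is birational. -/
theorem surjective_of_fibration {X Y : Scheme.{u}} [IsIntegral X] [IsIntegral Y] (f : X ⟶ Y)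
    (hc : IsClosedMap f) (N : ℕ) (hN : topologicalKrullDim Y ≤ (N : WithBot ℕ∞))
    (hdim : topologicalKrullDim ↥X = topologicalKrullDim ↥Y)
    (h : f.base (genericPoint ↥X) ⤳ genericPoint ↥Y)
    (hfib : ∀ U : Y.Opens, IsIso (f.app U)) :
    Function.Surjective (CohIII.stalkToFunctionField f (genericPoint ↥Y) h) := by
  intro t
  obtain ⟨U, hηU, s, hs⟩ := X.presheaf.exists_germ_eq t
  have hcl : IsClosed (f '' (U : Set X)ᶜ) := hc _ U.isOpen.isClosed_compl
  let V : Y.Opens := ⟨(f '' (U : Set X)ᶜ)ᶜ, hcl.isOpen_compl⟩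
  have hηV : genericPoint Y ∈ V := by
    rintro ⟨z, hzU, hz⟩
    have hzne : z ≠ genericPoint X := fun h' => hzU (h' ▸ hηU)
    have h1 := dim_add_one_le f hc z hz hzne
    rw [hdim] at h1
    have hne : topologicalKrullDim Y ≠ ⊥ := by
      rw [Ne, topologicalKrullDim, Order.krullDim_eq_bot_iff, not_isEmpty_iff]
      exact ⟨⟨Set.univ, IrreducibleSpace.isIrreducible_univ Y, isClosed_univ⟩⟩
    generalize topologicalKrullDim Y = D at h1 hN hne
    induction D using WithBot.recBotCoe with
    | bot => exact hne rfl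
    | coe d =>
      induction d using ENat.recTopCoe with
      | top =>
        have : (⊤ : ℕ∞) ≤ (N : ℕ∞) := by exact_mod_cast hN
        simp at this
      | coe m =>
        have : ((m + 1 : ℕ) : WithBot ℕ∞) ≤ ((m : ℕ) : WithBot ℕ∞) := by exact_mod_cast h1
        have : m + 1 ≤ m := by exact_mod_cast this
        omega
  have hVU : f ⁻¹ᵁ V ≤ U := by
    intro x hx
    by_contra hxU
    exact hx ⟨x, hxU, rfl⟩
  haveI := hfib V
  obtain ⟨a, ha⟩ := ((ConcreteCategory.isIso_iff_bijective (f.app V)).mp inferInstance).2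
    (X.presheaf.map (homOfLE hVU).op s)
  refine ⟨Y.presheaf.germ V (genericPoint Y) hηV a, ?_⟩
  rw [rho_germ f h hηV a, ha, ← hs]
  exact X.presheaf.germ_res_apply (homOfLE hVU) (genericPoint X) _ s

/-- Let k be a field and f : X → Y a surjective k-morphism between integral proper k-schemes of the same
dimension, with Y normal (all local rings integrally closed domains). Then f is a fibration (Γ(U,
O_Y) → Γ(f⁻¹U, O_X) bijective for every open U ⊆ Y) if and only if f is birational: the embedding
K(Y) → K(X) of function fields given by the stalk map at the generic points is bijective. -/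
theorem result (k : Type u) [Field k]
    (X Y : Scheme.{u}) [X.Over (Spec (CommRingCat.of k))] [Y.Over (Spec (CommRingCat.of k))]
    [IsProper (X ↘ Spec (CommRingCat.of k))] [IsProper (Y ↘ Spec (CommRingCat.of k))] [IsIntegral X] [IsIntegral Y]
    (hY : Pi1.IsNormalScheme Y) (f : X ⟶ Y) [Surjective f] (hf : f ≫ (Y ↘ Spec (CommRingCat.of k)) = X ↘ Spec (CommRingCat.of k))
    (hdim : topologicalKrullDim ↥X = topologicalKrullDim ↥Y)
    (h : f.base (genericPoint ↥X) ⤳ genericPoint ↥Y) :
    (∀ U : Y.Opens, IsIso (f.app U)) ↔ Function.Bijective (CohIII.stalkToFunctionField f (genericPoint ↥Y) h) := by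
  haveI : UniversallyClosed (f ≫ (Y ↘ Spec (CommRingCat.of k))) := by rw [hf]; infer_instance
  haveI : UniversallyClosed f :=
    UniversallyClosed.of_comp_of_isSeparated (f := f) (g := Y ↘ Spec (CommRingCat.of k))
  constructor
  · intro hfib
    obtain ⟨N, hN⟩ := exists_nat_dim_le k Y (Y ↘ Spec (CommRingCat.of k))
    exact ⟨(CohIII.stalkToFunctionField f (genericPoint ↥Y) h).injective,
      surjective_of_fibration f f.isClosedMap N hN hdim h hfib⟩
  · intro hbij
    exact Groth.Agent.S14821.isIso_app_of_algClosed hY f h (fun x _ => hbij.2 x)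

end Groth.Agent.S14822
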