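import Groth.Statements.S14825
-- import your own Groth.Agent.* helpers here
import Groth.Agent.Lib.Helper51.H0Const

set_option autoImplicit false
universe u
open CategoryTheory MonoidalCategory CartesianMonoidalCategory MonObj GrpObj AlgebraicGeometry
open AbVar

namespace Groth.Agent.S14825

/-- `H⁰(X, O_X)` one-dimensional over `k` means `k → Γ(X, O_X)` is bijective. -/
theorem bijective_toGlobal_of_finrank {k : Type u} [Field k] (X : Scheme.{u})
    [X.Over (Spec (CommRingCat.of k))]
    (h0 : Module.finrank k (Coh.HH X (Coh.structureModule X) 0) = 1) :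
    Function.Bijective (Coh.toGlobal (X ↘ Spec (CommRingCat.of k))) := by
  let T : k →+* Γ(X, ⊤) := (X ↘ Spec (CommRingCat.of k)).appTop.hom.comp
    (Scheme.ΓSpecIso (CommRingCat.of k)).inv.hom
  letI : Algebra k Γ(X, ⊤) := T.toAlgebra
  let e : Coh.HH X (Coh.structureModule X) 0 ≃ₗ[k] Γ(X, ⊤) :=
    { toFun := fun x => Groth.Agent.Lib.Helper51.h0Equiv X x
      invFun := fun y => (Groth.Agent.Lib.Helper51.h0Equiv X).symm y
      map_add' := fun x y => map_add (Groth.Agent.Lib.Helper51.h0Equiv X) x y
      map_smul' := fun c x => Groth.Agent.Lib.Helper51.h0Equiv_smul X (T c) x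
      left_inv := fun x => (Groth.Agent.Lib.Helper51.h0Equiv X).symm_apply_apply x
      right_inv := fun y => (Groth.Agent.Lib.Helper51.h0Equiv X).apply_symm_apply y }
  have h1 : Module.finrank k Γ(X, ⊤) = 1 := by rw [← e.finrank_eq, h0]
  exact (Algebra.finrank_eq_one_iff_bijective_algebraMap).mp h1

/-- A morphism from `X` with `Γ(X, O_X) = k` whose image is a single point factors through
`Spec k`. -/
theorem factor_through_point {k : Type u} [Field k] {X Y : Scheme.{u}}
    (p : X ⟶ Spec (CommRingCat.of k)) (hp : Function.Bijective (Coh.toGlobal p))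
    (f : X ⟶ Y) (hf : (Set.range f.base).Subsingleton) :
    ∃ β : Spec (CommRingCat.of k) ⟶ Y, f = p ≫ β := by
  have hiso : IsIso p.appTop := by
    rw [ConcreteCategory.isIso_iff_bijective]
    have h2 : (p.appTop.hom : _ → _) =
        (Coh.toGlobal p) ∘ (Scheme.ΓSpecIso (CommRingCat.of k)).hom.hom := by
      funext x
      change _ = p.appTop.hom ((Scheme.ΓSpecIso (CommRingCat.of k)).inv.hom
        ((Scheme.ΓSpecIso (CommRingCat.of k)).hom.hom x))
      congr 1
      exact (ConcreteCategory.congr_hom (Scheme.ΓSpecIso (CommRingCat.of k)).hom_inv_id x).symm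
    change Function.Bijective (p.appTop.hom : _ → _)
    rw [h2]
    exact hp.comp (ConcreteCategory.bijective_of_isIso (Scheme.ΓSpecIso (CommRingCat.of k)).hom)
  have hiso' : IsIso (Spec.map p.appTop) := inferInstance
  have hnat : p ≫ (Spec (CommRingCat.of k)).toSpecΓ = X.toSpecΓ ≫ Spec.map p.appTop :=
    Scheme.toSpecΓ_naturality p
  have hX : X.toSpecΓ = p ≫ (Spec (CommRingCat.of k)).toSpecΓ ≫ inv (Spec.map p.appTop) := by
    rw [← Category.assoc, hnat, Category.assoc, IsIso.hom_inv_id, Category.comp_id]
  by_cases hne : Nonempty X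
  · obtain ⟨x⟩ := hne
    obtain ⟨U, hU, hxU, -⟩ := exists_isAffineOpen_mem_and_subset (x := f.base x)
      (U := ⊤) trivial
    have hrange : Set.range f.base ⊆ Set.range U.ι.base := by
      rw [Scheme.Opens.range_ι]
      rintro _ ⟨x', rfl⟩
      have : f.base x' = f.base x := hf ⟨x', rfl⟩ ⟨x, rfl⟩
      rw [this]; exact hxU
    haveI : IsAffine U.toScheme := hU
    let a' : X ⟶ U.toScheme := IsOpenImmersion.lift U.ι f hrange
    have ha' : a' ≫ U.ι = f := IsOpenImmersion.lift_fac _ _ _
    have h3 : a' = X.toSpecΓ ≫ Spec.map a'.appTop ≫ U.toScheme.isoSpec.inv := by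
      rw [← Category.assoc, ← Scheme.toSpecΓ_naturality, Category.assoc,
        ← Scheme.isoSpec_hom, Iso.hom_inv_id, Category.comp_id]
    refine ⟨(Spec (CommRingCat.of k)).toSpecΓ ≫ inv (Spec.map p.appTop) ≫
      Spec.map a'.appTop ≫ U.toScheme.isoSpec.inv ≫ U.ι, ?_⟩
    rw [← ha']
    conv_lhs => rw [h3, hX]
    simp only [Category.assoc]
  · -- `X` empty
    haveI : IsEmpty X := not_nonempty_iff.mp hne
    exfalso
    -- `Γ(X, ⊤)` is trivial but `k → Γ(X, ⊤)` is injective
    have : Subsingleton Γ(X, ⊤) := inferInstance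
    have h01 : (Coh.toGlobal p) 0 = (Coh.toGlobal p) 1 := Subsingleton.elim (α := Γ(X, ⊤)) _ _
    exact zero_ne_one (hp.1 h01)

/-- In the pointed case, let k be a field and X a proper k-scheme with H^0(X, O_X) one-dimensional and a
k-rational point x₀; let alb : X → A be the Albanese morphism (A an abelian variety over k — proper,
geometrically integral group scheme — with alb(x₀) = 0, universal among pointed k-morphisms from X
to abelian varieties, the latter being geometrically reduced, connected, proper group schemes). Then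
X has Albanese dimension zero, i.e. the image of alb is a single point of A (X is connected, so this
says the image is zero-dimensional), if and only if A is the trivial abelian variety, i.e. A → Spec
k is an isomorphism. (The published statement does not assume a rational point (it works with the
Albanese torsor); this row assumes one.) -/
theorem result (k : Type u) [Field k] (X : Scheme.{u}) [X.Over (Spec (CommRingCat.of k))]
    [IsProper (X ↘ Spec (CommRingCat.of k))] (h0 : Module.finrank k (Coh.HH X (Coh.structureModule X) 0) = 1)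
    (x₀ : 𝟙_ (Over (Spec (CommRingCat.of k))) ⟶ Over.mk (X ↘ Spec (CommRingCat.of k)))
    (A : Over (Spec (CommRingCat.of k))) [GrpObj A] [IsProper A.hom] [GeometricallyIntegral A.hom]
    (alb : Over.mk (X ↘ Spec (CommRingCat.of k)) ⟶ A) (halb : x₀ ≫ alb = η[A])
    (huniv : ∀ (B : Over (Spec (CommRingCat.of k))) [GrpObj B] [IsProper B.hom] [GeometricallyReduced B.hom] [ConnectedSpace ↥B.left]
      (g : Over.mk (X ↘ Spec (CommRingCat.of k)) ⟶ B), x₀ ≫ g = η[B] → ∃! h : A ⟶ B, IsMonHom h ∧ alb ≫ h = g) :
    (Set.range alb.left.base).Subsingleton ↔ IsIso A.hom := by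
  constructor
  · intro hsub
    obtain ⟨β, hβ⟩ := factor_through_point (X ↘ Spec (CommRingCat.of k))
      (bijective_toGlobal_of_finrank X h0) alb.left hsub
    -- `β = η.left`
    have hx₀ : x₀.left ≫ (X ↘ Spec (CommRingCat.of k)) = 𝟙 _ := Over.w x₀
    have hβ' : β = η[A].left := by
      rw [← halb, Over.comp_left, hβ, reassoc_of% hx₀]
    have halb' : alb = toUnit _ ≫ η[A] := by
      apply Over.OverMorphism.ext
      rw [Over.comp_left, Over.toUnit_left, hβ, hβ']
      rfl
    haveI : IsIntegral A.left := GeometricallyIntegral.isIntegral_of_subsingleton A.hom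
    haveI : ConnectedSpace A.left := inferInstance
    obtain ⟨h, -, huniq⟩ := huniv A alb halb
    have h1 : (𝟙 A : A ⟶ A) = h := huniq _ ⟨inferInstance, Category.comp_id _⟩
    have h2 : (toUnit A ≫ η[A] : A ⟶ A) = h := by
      refine huniq _ ⟨inferInstance, ?_⟩
      rw [halb', Category.assoc, ← Category.assoc η[A], toUnit_unique (η[A] ≫ toUnit A) (𝟙 _),
        Category.id_comp]
    have h3 : (𝟙 A : A ⟶ A) = toUnit A ≫ η[A] := h1.trans h2.symm
    have h4 : 𝟙 A.left = A.hom ≫ η[A].left := by
      have := congrArg (fun t => t.left) h3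
      simpa using this
    have h5 : η[A].left ≫ A.hom = 𝟙 _ := Over.w η[A]
    exact ⟨⟨η[A].left, h4.symm, h5⟩⟩
  · intro hiso
    have : Subsingleton A.left := by
      have hinj : Function.Injective A.hom.base := by
        have : IsIso A.hom.base := inferInstance
        exact ((TopCat.homeoOfIso (asIso A.hom.base)).injective)
      exact hinj.subsingleton
    exact Set.subsingleton_of_subsingleton

end Groth.Agent.S14825
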