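import Groth.Statements.S14826
-- import your own Groth.Agent.* helpers here
import Groth.Agent.Lib.Helper22.Rigidity
import Groth.Agent.Lib.Helper22.GrpProd

set_option autoImplicit false
universe u
open CategoryTheory MonoidalCategory CartesianMonoidalCategory MonObj GrpObj AlgebraicGeometry
open AbVar

namespace Groth.Agent.S14826

/-- A unit-preserving morphism from an abelian variety to a separated group scheme is a
homomorphism (consequence of the rigidity lemma). -/
theorem isMonHom_of_unit {k : Type u} [Field k] (A A' : Over (Spec (CommRingCat.of k)))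
    [GrpObj A] [GrpObj A'] [IsProper A.hom] [GeometricallyIntegral A.hom] [IsSeparated A'.hom]
    (g : A ⟶ A') (hg : η[A] ≫ g = η[A']) : IsMonHom g := by
  have h0 : lift η[A] η[A] ≫ (μ[A] ≫ g) = η[A'] := by
    rw [← Category.assoc, ← Hom.mul_def, one_eq_one, _root_.mul_one, ← one_eq_one, hg]
  have key := Groth.Agent.Lib.Helper22.Rigidity.mul_decomp A A A' η[A] η[A] (μ[A] ≫ g) h0
  have e1 : lift (𝟙 A) (toUnit A ≫ η[A]) ≫ μ[A] = 𝟙 A := lift_comp_one_right _ _
  have e2 : lift (toUnit A ≫ η[A]) (𝟙 A) ≫ μ[A] = 𝟙 A := lift_comp_one_left _ _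
  rw [reassoc_of% e1, reassoc_of% e2] at key
  apply Groth.Agent.Lib.Helper22.GrpProd.isMonHom_of_mul g hg
  rw [← mul_eq_mul]
  exact key

/-- Over a field k (the published statement is over a base scheme S), let X be a proper k-scheme with
H^0(X, O_X) one-dimensional and a k-rational point x₀, and alb : X → A the Albanese morphism (A an
abelian variety — proper, geometrically integral group scheme — with alb(x₀) = 0, universal among
pointed morphisms from X to geometrically reduced, connected, proper group schemes). Let φ : X → A'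
be an arbitrary k-morphism to such an abelian variety A', not necessarily pointed. Then φ factors
through alb by exactly one k-morphism A → A', and that morphism is a homomorphism h followed by the
translation of A' by the k-point φ(x₀): there is a homomorphism h : A → A' with φ = (alb ≫ h) ·
(constant map with value φ(x₀)) in the group of morphisms into A', and every k-morphism g : A → A'
with alb ≫ g = φ equals h · (constant map A → A' with value φ(x₀)). -/
theorem result (k : Type u) [Field k] (X : Scheme.{u}) [X.Over (Spec (CommRingCat.of k))]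
    [IsProper (X ↘ Spec (CommRingCat.of k))] (h0 : Module.finrank k (Coh.HH X (Coh.structureModule X) 0) = 1)
    (x₀ : 𝟙_ (Over (Spec (CommRingCat.of k))) ⟶ Over.mk (X ↘ Spec (CommRingCat.of k)))
    (A : Over (Spec (CommRingCat.of k))) [GrpObj A] [IsProper A.hom] [GeometricallyIntegral A.hom]
    (alb : Over.mk (X ↘ Spec (CommRingCat.of k)) ⟶ A) (halb : x₀ ≫ alb = η[A])
    (huniv : ∀ (B : Over (Spec (CommRingCat.of k))) [GrpObj B] [IsProper B.hom] [GeometricallyReduced B.hom] [ConnectedSpace ↥B.left]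
      (g : Over.mk (X ↘ Spec (CommRingCat.of k)) ⟶ B), x₀ ≫ g = η[B] → ∃! h : A ⟶ B, IsMonHom h ∧ alb ≫ h = g)
    (A' : Over (Spec (CommRingCat.of k))) [GrpObj A'] [IsProper A'.hom] [GeometricallyReduced A'.hom] [ConnectedSpace ↥A'.left]
    (φ : Over.mk (X ↘ Spec (CommRingCat.of k)) ⟶ A') :
    ∃ h : A ⟶ A', IsMonHom h ∧ (alb ≫ h) * (toUnit (Over.mk (X ↘ Spec (CommRingCat.of k))) ≫ x₀ ≫ φ) = φ ∧
      ∀ g : A ⟶ A', alb ≫ g = φ → g = h * (toUnit A ≫ x₀ ≫ φ) := by
  have hx₀ : x₀ ≫ toUnit (Over.mk (X ↘ Spec (CommRingCat.of k))) = 𝟙 _ := toUnit_unique _ _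
  -- the pointed morphism
  have hg0 : x₀ ≫ (φ * (toUnit (Over.mk (X ↘ Spec (CommRingCat.of k))) ≫ x₀ ≫ φ)⁻¹) = η[A'] := by
    rw [comp_mul, comp_inv, reassoc_of% hx₀, mul_inv_cancel, one_eq_one]
  obtain ⟨h, ⟨hh, hh2⟩, huniq⟩ := huniv A' (φ * (toUnit (Over.mk (X ↘ Spec (CommRingCat.of k))) ≫ x₀ ≫ φ)⁻¹) hg0
  refine ⟨h, hh, ?_, ?_⟩
  · rw [hh2, inv_mul_cancel_right]
  · intro g hg
    have hcg : η[A] ≫ g = x₀ ≫ φ := by
      rw [← halb, Category.assoc, hg]
    have hA : η[A] ≫ toUnit A = 𝟙 _ := toUnit_unique _ _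
    have hunit : η[A] ≫ (g * (toUnit A ≫ x₀ ≫ φ)⁻¹) = η[A'] := by
      rw [comp_mul, comp_inv, reassoc_of% hA, hcg, mul_inv_cancel, one_eq_one]
    have hmon : IsMonHom (g * (toUnit A ≫ x₀ ≫ φ)⁻¹) := isMonHom_of_unit A A' _ hunit
    have halbu : alb ≫ toUnit A = toUnit (Over.mk (X ↘ Spec (CommRingCat.of k))) := toUnit_unique _ _
    have h2 : alb ≫ (g * (toUnit A ≫ x₀ ≫ φ)⁻¹) = φ * (toUnit (Over.mk (X ↘ Spec (CommRingCat.of k))) ≫ x₀ ≫ φ)⁻¹ := by
      rw [comp_mul, comp_inv, hg, reassoc_of% halbu]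
    have := huniq _ ⟨hmon, h2⟩
    rw [← this, inv_mul_cancel_right]

end Groth.Agent.S14826
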