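import Groth.Statements.S14833
import Groth.Agent.Lib.Helper70.OmegaMonoSch2
import Groth.Agent.Lib.Helper70.GeomRedFS

set_option autoImplicit false
universe u
open CategoryTheory CategoryTheory.Limits AlgebraicGeometry
open OmegaSh

namespace Groth.Agent.S14833

/-- Let k be a field and f : X → Z a surjective k-morphism between integral proper k-schemes, where X is
geometrically normal (its base change to an algebraic closure of k has integrally closed local
domains), Z is smooth over k, and the generic fibre of f is geometrically reduced over the function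
field of Z (equivalently K(Z) ⊆ K(X) is separable). Let d_Z : O_Z → Ω_Z and d_X : O_X → Ω_X be
universal k-derivations (sheaves of Kähler differentials over k) and c : f^*Ω_Z → Ω_X the O_X-linear
map compatible with them. Then for every open subscheme U ⊆ X which is smooth over k, the
restriction of c to U is a monomorphism of O_U-modules; in particular c is injective on the smooth
locus of X. -/
theorem result (k : Type u) [Field k]
    (X Z : Scheme.{u}) [X.Over (Spec (CommRingCat.of k))] [Z.Over (Spec (CommRingCat.of k))]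
    [IsProper (X ↘ Spec (CommRingCat.of k))] [IsProper (Z ↘ Spec (CommRingCat.of k))] [IsIntegral X] [IsIntegral Z]
    [Smooth (Z ↘ Spec (CommRingCat.of k))]
    (hgn : ∀ (K : Type u) [Field K] [Algebra k K] [IsAlgClosure k K],
      Pi1.IsNormalScheme (pullback (X ↘ Spec (CommRingCat.of k)) (Spec.map (CommRingCat.ofHom (algebraMap k K)))))
    (f : X ⟶ Z) [Surjective f] (hf : f ≫ (Z ↘ Spec (CommRingCat.of k)) = X ↘ Spec (CommRingCat.of k))
    (hsep : GeometricallyReduced (pullback.snd f (Z.fromSpecResidueField (genericPoint ↥Z))))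
    (ΩZ : Z.Modules) (dZ : OmegaSh.Der (Z ↘ Spec (CommRingCat.of k)) ΩZ) (hdZ : OmegaSh.IsUniversal dZ)
    (ΩX : X.Modules) (dX : OmegaSh.Der (X ↘ Spec (CommRingCat.of k)) ΩX) (hdX : OmegaSh.IsUniversal dX)
    (c : (Scheme.Modules.pullback f).obj ΩZ ⟶ ΩX) (hc : OmegaSh.IsDiffCompat f dZ dX c)
    (U : X.Opens) (hU : Smooth (U.ι ≫ (X ↘ Spec (CommRingCat.of k)))) :
    Mono ((Scheme.Modules.restrictFunctor U.ι).map c) := by
  have key : ∀ (pX : X ⟶ Spec (CommRingCat.of k))
      (_ : f ≫ (Z ↘ Spec (CommRingCat.of k)) = pX) [LocallyOfFiniteType pX]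
      (dX : OmegaSh.Der pX ΩX) (_ : OmegaSh.IsUniversal dX)
      (_ : OmegaSh.IsDiffCompat f dZ dX c),
      Mono ((Scheme.Modules.restrictFunctor U.ι).map c) := by
    intro pX hpX _ dX hdX hc
    subst hpX
    have : LocallyOfFiniteType f := locallyOfFiniteType_of_comp f (Z ↘ Spec (CommRingCat.of k))
    have hdom : DenseRange f.base := (Surjective.surj (f := f)).denseRange
    have hfs := Groth.Agent.Lib.Helper70.GeomRedFS.residueFieldMap_formallySmooth_of_geometricallyReduced
      f hdom hsep
    have hinj := fun W => Groth.Agent.Lib.Helper70.OmegaMonoSch.app_injective_of_dominant_formallySmooth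
      (Z ↘ Spec (CommRingCat.of k)) f hdom hfs ΩZ dZ hdZ ΩX dX hdX c hc W
    refine Groth.Agent.Lib.Helper48.Conormal.mono_of_basis _ Set.univ ?_
      (fun V _ => hinj (U.ι ''ᵁ V))
    rw [TopologicalSpace.Opens.isBasis_iff_nbhd]
    intro W x hx
    exact ⟨W, trivial, hx, le_rfl⟩
  exact key _ hf dX hdX hc

end Groth.Agent.S14833
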