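import Groth.Statements.S14834
import Mathlib
-- import your own Groth.Agent.* helpers here

set_option autoImplicit false
universe u
open CategoryTheory MonoidalCategory CartesianMonoidalCategory MonObj GrpObj AlgebraicGeometry
open AbVar

namespace Groth.Agent.S14834

lemma epi_of_surjective_of_app_injective {X Y : Scheme.{u}} (r : X ⟶ Y)
    (h₁ : Function.Surjective r)
    (h₂ : ∀ U : Y.Opens, Function.Injective (r.app U).hom) : Epi r := by
  constructor
  intro Z a b e
  have hbase : a.base = b.base := by
    ext y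
    obtain ⟨x, rfl⟩ := h₁ y
    have := congr(($e).base x)
    simpa using this
  refine Scheme.Hom.ext hbase (fun U => ?_)
  have hmono : Mono (r.app (b ⁻¹ᵁ U)) := ConcreteCategory.mono_of_injective _ (h₂ _)
  rw [← cancel_mono (r.app (b ⁻¹ᵁ U))]
  have hU : r ⁻¹ᵁ a ⁻¹ᵁ U = r ⁻¹ᵁ b ⁻¹ᵁ U := by
    rw [← Scheme.Hom.comp_preimage, ← Scheme.Hom.comp_preimage, e]
  have h1 : a.app U ≫ r.app (a ⁻¹ᵁ U) =
      b.app U ≫ r.app (b ⁻¹ᵁ U) ≫ X.presheaf.map (eqToHom hU).op := by
    have := Scheme.Hom.congr_app e U
    simp only [Scheme.Hom.comp_app] at this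
    exact this
  rw [Category.assoc, Scheme.Hom.naturality, ← Category.assoc, h1]
  simp only [Category.assoc, ← Functor.map_comp]
  have : ∀ (V : X.Opens) (f : Opposite.op V ⟶ Opposite.op V), X.presheaf.map f = 𝟙 _ := by
    intro V f
    rw [Subsingleton.elim f (𝟙 _), X.presheaf.map_id]
  rw [this]
  simp

lemma surjective_of_isClosedMap_of_app_iso {X Y : Scheme.{u}} (r : X ⟶ Y)
    (hc : IsClosedMap r) (hr : ∀ U : Y.Opens, IsIso (r.app U)) : Function.Surjective r := by
  classical
  let U : Y.Opens := ⟨(Set.range r)ᶜ, (hc.isClosed_range).isOpen_compl⟩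
  have hU : r ⁻¹ᵁ U = ⊥ := by
    ext x
    simp [U]
  by_contra hns
  have hne : Nonempty U := by
    rw [Function.Surjective] at hns
    push_neg at hns
    obtain ⟨y, hy⟩ := hns
    exact ⟨⟨y, by simpa [U] using hy⟩⟩
  have hnt : Nontrivial Γ(Y, U) := inferInstance
  have hss : Subsingleton Γ(X, r ⁻¹ᵁ U) := by
    rw [hU]; infer_instance
  have hiso := hr U
  have e : Γ(Y, U) ≅ Γ(X, r ⁻¹ᵁ U) := asIso (r.app U)
  have : Subsingleton Γ(Y, U) := e.commRingCatIsoToRingEquiv.toEquiv.subsingleton
  exact not_subsingleton _ this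

/-- Let k be a field, X a proper k-scheme with H^0(X, O_X) = k (k → Γ(X, O_X) bijective) and a
k-rational point x₀, and alb : X → A the Albanese morphism (A an abelian variety — proper,
geometrically integral group scheme — with alb(x₀) = 0, universal among pointed k-morphisms from X
to geometrically reduced, connected, proper group schemes). Let X → Y → A be a Stein factorisation
of alb: Y proper over k, r : X → Y a k-morphism with O_Y → r_*O_X an isomorphism, s : Y → A finite
with r ≫ s = alb. Then s is the Albanese morphism of Y pointed at r(x₀): for every abelian variety B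
and every k-morphism g : Y → B with g(r(x₀)) = 0 there is a unique homomorphism h : A → B with s ≫ h
= g. (The published statement has no rational point and also identifies the maximal abelian
subschemes of the Picard schemes of the Albanese, of Y and of X by pullback; this row is the pointed
statement about the Albanese of Y only.) -/
theorem result (k : Type u) [Field k] (X Y : Over (Spec (CommRingCat.of k)))
    [IsProper X.hom] [IsProper Y.hom] (h0 : Function.Bijective (X.hom.appTop).hom)
    (x₀ : 𝟙_ (Over (Spec (CommRingCat.of k))) ⟶ X)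
    (A : Over (Spec (CommRingCat.of k))) [GrpObj A] [IsProper A.hom] [GeometricallyIntegral A.hom]
    (alb : X ⟶ A) (halb : x₀ ≫ alb = η[A])
    (huniv : ∀ (B : Over (Spec (CommRingCat.of k))) [GrpObj B] [IsProper B.hom] [GeometricallyReduced B.hom] [ConnectedSpace ↥B.left]
      (g : X ⟶ B), x₀ ≫ g = η[B] → ∃! h : A ⟶ B, IsMonHom h ∧ alb ≫ h = g)
    (r : X ⟶ Y) (hr : ∀ U : Y.left.Opens, IsIso (r.left.app U)) (s : Y ⟶ A) [IsFinite s.left]
    (hrs : r ≫ s = alb)
    (B : Over (Spec (CommRingCat.of k))) [GrpObj B] [IsProper B.hom] [GeometricallyReduced B.hom] [ConnectedSpace ↥B.left]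
    (g : Y ⟶ B) (hg : x₀ ≫ r ≫ g = η[B]) :
    ∃! h : A ⟶ B, IsMonHom h ∧ s ≫ h = g := by
  have hproper : IsProper r.left := by
    have h1 : r.left ≫ Y.hom = X.hom := Over.w r
    haveI : IsProper (r.left ≫ Y.hom) := by rw [h1]; infer_instance
    exact IsProper.of_comp r.left Y.hom
  have hsurj : Function.Surjective r.left :=
    surjective_of_isClosedMap_of_app_iso r.left r.left.isClosedMap hr
  have hepi : Epi r.left := epi_of_surjective_of_app_injective r.left hsurj (fun U => by
    have := hr U
    exact ((ConcreteCategory.isIso_iff_bijective (r.left.app U)).1 this).1)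
  have hepi' : Epi r := by
    constructor
    intro Z a b e
    ext1
    have := congrArg CommaMorphism.left e
    simp only [Over.comp_left] at this
    exact (cancel_epi r.left).1 this
  obtain ⟨h, ⟨hh1, hh2⟩, hh3⟩ := huniv B (r ≫ g) (by rw [hg])
  refine ⟨h, ⟨hh1, ?_⟩, ?_⟩
  · rw [← hrs, Category.assoc] at hh2
    exact (cancel_epi r).1 hh2
  · rintro h' ⟨hh'1, hh'2⟩
    apply hh3
    refine ⟨hh'1, ?_⟩
    rw [← hrs, Category.assoc, hh'2]

end Groth.Agent.S14834
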