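import Groth.Statements.S14836
import Groth.Agent.Lib.Lead.Inv5
import Groth.Agent.Lib.Helper40.LimSec

set_option autoImplicit false
universe u
open CategoryTheory CategoryTheory.Limits AlgebraicGeometry
open Formal2

namespace Groth.Agent.S14836

open Opposite TopologicalSpace
open Scheme.Modules Groth.Agent.Lib.Lead.Inv Groth.Agent.Lib.Lead.QCohAff
  Groth.Agent.Lib.Helper48.OmegaAff Groth.Agent.Lib.Helper35.GlobGen

section

variable {X Y : Scheme.{u}} (f : X ⟶ Y) (L : Y.Modules)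

/-- restriction on the target side of `pullRes` -/
theorem pullRes_map {U : X.Opens} {V V' : Y.Opens} (h : V' ≤ V) (e : U ≤ f ⁻¹ᵁ V')
    (m : Γ(L, V)) :
    pullRes f L e (L.presheaf.map (homOfLE h).op m) =
      pullRes f L (e.trans (f.preimage_mono h)) m := by
  rw [pullRes_apply, pullRes_apply]
  have h1 := Groth.Agent.Lib.Helper40.QCohLim.app_res
    ((pullbackPushforwardAdjunction f).unit.app L) h m
  refine (congrArg (((Scheme.Modules.pullback f).obj L).presheaf.map (homOfLE e).op) h1).trans ?_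
  exact Groth.Agent.Lib.Lead.QCohAff.res_res ((Scheme.Modules.pullback f).obj L)
    (f.preimage_mono h) e _

variable [L.IsQuasicoherent]

/-- over small affine opens, the pullback of a generator generates -/
theorem exists_smul_pullRes {U : Y.Opens} {s : Γ(L, U)} (hs : IsGen L U s)
    {V₀ : Y.Opens} (hV₀ : IsAffineOpen V₀) (hV₀U : V₀ ≤ U)
    {W₀ : X.Opens} (hW₀ : IsAffineOpen W₀) (e : W₀ ≤ f ⁻¹ᵁ V₀)
    (m : Γ((Scheme.Modules.pullback f).obj L, W₀)) :
    ∃ c : Γ(X, W₀), c • pullRes f L (e.trans (f.preimage_mono hV₀U)) s = m := by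
  have hspan := span_range_pullRes f L hW₀ hV₀ e
  have hm : m ∈ Submodule.span Γ(X, W₀) (Set.range (pullRes f L e)) := by
    rw [hspan]; trivial
  induction hm using Submodule.span_induction with
  | mem x hx =>
    obtain ⟨m₀, rfl⟩ := hx
    obtain ⟨b, hb⟩ := (hs V₀ hV₀U).2 m₀
    refine ⟨f.appLE V₀ W₀ e b, ?_⟩
    rw [← hb, pullRes_smul, pullRes_map]
  | zero => exact ⟨0, zero_smul _ _⟩
  | add x y _ _ hx hy =>
    obtain ⟨c₁, h₁⟩ := hx
    obtain ⟨c₂, h₂⟩ := hy
    exact ⟨c₁ + c₂, by rw [add_smul, h₁, h₂]⟩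
  | smul r x _ hx =>
    obtain ⟨c, hc⟩ := hx
    exact ⟨r * c, by rw [mul_smul, hc]⟩

/-- **the pullback of a local generator is a local generator** (when the pullback has a global
generator) -/
theorem isGen_pullRes {U : Y.Opens} {s : Γ(L, U)} (hs : IsGen L U s)
    {t : Γ((Scheme.Modules.pullback f).obj L, ⊤)}
    (ht : IsGen ((Scheme.Modules.pullback f).obj L) ⊤ t) :
    IsGen ((Scheme.Modules.pullback f).obj L) (f ⁻¹ᵁ U) (pullRes f L (le_refl _) s) := by
  have htU := ht.res (le_top : f ⁻¹ᵁ U ≤ ⊤)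
  have hbp := htU.coeff_smul (le_refl _) (pullRes f L (le_refl (f ⁻¹ᵁ U)) s)
  rw [Groth.Agent.Lib.Lead.QCohAff.res_self] at hbp
  generalize htU.coeff (le_refl _) (pullRes f L (le_refl (f ⁻¹ᵁ U)) s) = b at hbp
  have key := htU.isGen_smul_iff b (le_refl (f ⁻¹ᵁ U))
  rw [Groth.Agent.Lib.Lead.QCohAff.res_self, hbp] at key
  rw [key]
  intro x hx
  obtain ⟨_, ⟨V₀, hV₀ : IsAffineOpen V₀, rfl⟩, hxV₀, hV₀U⟩ :=
    (Y.isBasis_affineOpens).exists_subset_of_mem_open (show f x ∈ (U : Set Y) from hx) U.2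
  obtain ⟨_, ⟨W₀, hW₀ : IsAffineOpen W₀, rfl⟩, hxW₀, hW₀V₀⟩ :=
    (X.isBasis_affineOpens).exists_subset_of_mem_open (show x ∈ ((f ⁻¹ᵁ V₀ : X.Opens) : Set X)
      from hxV₀) (f ⁻¹ᵁ V₀).2
  have hV₀U' : V₀ ≤ U := hV₀U
  have e : W₀ ≤ f ⁻¹ᵁ V₀ := hW₀V₀
  have eU : W₀ ≤ f ⁻¹ᵁ U := e.trans (f.preimage_mono hV₀U')
  obtain ⟨c, hc⟩ := exists_smul_pullRes f L hs hV₀ hV₀U' hW₀ e
    (((Scheme.Modules.pullback f).obj L).presheaf.map (homOfLE (le_top : W₀ ≤ ⊤)).op t)
  have h1 : pullRes f L eU s = X.presheaf.map (homOfLE eU).op b •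
      ((Scheme.Modules.pullback f).obj L).presheaf.map (homOfLE (le_top : W₀ ≤ ⊤)).op t := by
    have h2 := Groth.Agent.Lib.Helper40.LimSec.pullRes_res f L (le_refl (f ⁻¹ᵁ U)) eU s
    rw [← h2, ← hbp, Groth.Agent.Lib.Lead.QCohAff.res_smul,
      Groth.Agent.Lib.Lead.QCohAff.res_res]
  rw [h1, ← mul_smul] at hc
  have h3 : c * X.presheaf.map (homOfLE eU).op b = 1 := by
    apply (ht W₀ le_top).1
    change (c * X.presheaf.map (homOfLE eU).op b) •
        ((Scheme.Modules.pullback f).obj L).presheaf.map (homOfLE (le_top : W₀ ≤ ⊤)).op t =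
      (1 : Γ(X, W₀)) •
        ((Scheme.Modules.pullback f).obj L).presheaf.map (homOfLE (le_top : W₀ ≤ ⊤)).op t
    rw [hc, one_smul]
  have hunit : IsUnit (X.presheaf.map (homOfLE eU).op b) := IsUnit.of_mul_eq_one_right _ h3
  have h4 := X.basicOpen_of_isUnit hunit
  rw [Scheme.basicOpen_res] at h4
  have : x ∈ W₀ ⊓ X.basicOpen b := by rw [h4]; exact hxW₀
  exact this.2

/-- a section whose basic open is everything is a unit -/
theorem isUnit_of_le_basicOpen {W : X.Opens} (d : Γ(X, W)) (h : W ≤ X.basicOpen d) : IsUnit d := by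
  apply X.toRingedSpace.isUnit_of_isUnit_germ
  intro x hx
  exact (X.mem_basicOpen d x hx).mp (h hx)

include L in
theorem main (hfib : ∀ V : Y.Opens, IsIso (f.app V)) (hL : PicF.IsInvertible L)
    (ε : (Scheme.Modules.pullback f).obj L ≅ Coh.structureModule X) :
    Nonempty (L ≅ Coh.structureModule Y) := by
  -- the global generator of the pullback
  obtain ⟨t, ht⟩ : ∃ t : Γ((Scheme.Modules.pullback f).obj L, ⊤),
      IsGen ((Scheme.Modules.pullback f).obj L) ⊤ t := by
    refine ⟨val ε.inv ⊤, ?_⟩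
    rw [← le_genLocus_iff_isGen, Groth.Agent.Lib.Helper35.GenLocus.le_genLocus_iff]
    intro W _
    exact Groth.Agent.Lib.Helper60.TensorLib.app_bijective_of_isIso ε.inv W
  -- adjusted local generators
  have hloc : ∀ y : Y, ∃ (U : Y.Opens) (_ : y ∈ U) (s' : Γ(L, U)), IsGen L U s' ∧
      pullRes f L (le_refl (f ⁻¹ᵁ U)) s' =
        ((Scheme.Modules.pullback f).obj L).presheaf.map (homOfLE (le_top : f ⁻¹ᵁ U ≤ ⊤)).op t := by
    intro y
    obtain ⟨U, hyU, s, hs⟩ := (isInvertible_iff_exists_isGen.mp hL) y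
    have hp := isGen_pullRes f L hs ht
    have htU := ht.res (le_top : f ⁻¹ᵁ U ≤ ⊤)
    have hd := hp.coeff_smul (le_refl _)
      (((Scheme.Modules.pullback f).obj L).presheaf.map (homOfLE (le_top : f ⁻¹ᵁ U ≤ ⊤)).op t)
    rw [Groth.Agent.Lib.Lead.QCohAff.res_self] at hd
    generalize hp.coeff (le_refl _)
      (((Scheme.Modules.pullback f).obj L).presheaf.map (homOfLE (le_top : f ⁻¹ᵁ U ≤ ⊤)).op t) = d
      at hd
    have key := hp.isGen_smul_iff d (le_refl (f ⁻¹ᵁ U))
    rw [Groth.Agent.Lib.Lead.QCohAff.res_self, hd] at key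
    have hdunit : IsUnit d := isUnit_of_le_basicOpen d (key.mp htU)
    haveI := hfib U
    have hbij : Function.Bijective (f.app U).hom := ConcreteCategory.bijective_of_isIso (f.app U)
    obtain ⟨a, ha⟩ := hbij.2 d
    have haunit : IsUnit a := by
      let α : Γ(Y, U) ≃+* Γ(X, f ⁻¹ᵁ U) := RingEquiv.ofBijective (f.app U).hom hbij
      have : IsUnit (α a) := by change IsUnit ((f.app U).hom a); rw [ha]; exact hdunit
      exact (isUnit_map_iff α a).mp this
    refine ⟨U, hyU, a • s, ?_, ?_⟩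
    · have h1 := hs.isGen_smul_iff a (le_refl U)
      rw [Groth.Agent.Lib.Lead.QCohAff.res_self] at h1
      rw [h1, Y.basicOpen_of_isUnit haunit]
    · rw [pullRes_smul, Scheme.Hom.appLE_eq_app]
      change (f.app U).hom a • _ = _
      rw [ha, hd]
  choose U hyU s' hs' hps' using hloc
  -- the pullback of `s' y` over smaller opens
  have hpV : ∀ (y : Y) (V : Y.Opens) (hV : V ≤ U y),
      pullRes f L (le_refl (f ⁻¹ᵁ V)) (L.presheaf.map (homOfLE hV).op (s' y)) =
        ((Scheme.Modules.pullback f).obj L).presheaf.map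
          (homOfLE (le_top : f ⁻¹ᵁ V ≤ ⊤)).op t := by
    intro y V hV
    rw [pullRes_map, ← Groth.Agent.Lib.Helper40.LimSec.pullRes_res f L (le_refl (f ⁻¹ᵁ (U y)))
      (f.preimage_mono hV), hps', Groth.Agent.Lib.Lead.QCohAff.res_res]
  -- injectivity of pulling back sections over small opens
  have hinj : ∀ (y : Y) (V : Y.Opens) (hV : V ≤ U y) (m m' : Γ(L, V)),
      pullRes f L (le_refl (f ⁻¹ᵁ V)) m = pullRes f L (le_refl (f ⁻¹ᵁ V)) m' → m = m' := by
    intro y V hV m m' hmm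
    have hg := (hs' y).res hV
    have h1 := hg.coeff_smul (le_refl V) m
    have h2 := hg.coeff_smul (le_refl V) m'
    rw [Groth.Agent.Lib.Lead.QCohAff.res_self] at h1 h2
    generalize hg.coeff (le_refl V) m = c at h1
    generalize hg.coeff (le_refl V) m' = c' at h2
    rw [← h1, ← h2, pullRes_smul, pullRes_smul, hpV y V hV, Scheme.Hom.appLE_eq_app] at hmm
    have h3 : (f.app V).hom c = (f.app V).hom c' := (ht (f ⁻¹ᵁ V) le_top).1 hmm
    haveI := hfib V
    have h4 : c = c' := (ConcreteCategory.bijective_of_isIso (f.app V)).1 h3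
    rw [← h1, ← h2, h4]
  -- glue
  have hcov : (⊤ : Y.Opens) ≤ iSup U := fun y _ => Opens.mem_iSup.mpr ⟨y, hyU y⟩
  obtain ⟨σ, hσ⟩ := Groth.Agent.Lib.Helper35.AbSheaf.glue' L.presheaf L.isSheaf U
    (fun y => (le_top : U y ≤ ⊤)) hcov (fun y => s' y) (by
      intro y z
      apply hinj y (U y ⊓ U z) inf_le_left
      exact (hpV y (U y ⊓ U z) inf_le_left).trans (hpV z (U y ⊓ U z) inf_le_right).symm)
  -- the glued section generates
  have hgl : (⊤ : Y.Opens) ≤ CohB1.genLocus L (secHom L σ) := by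
    intro y _
    have h1 : U y ≤ CohB1.genLocus L (secHom L σ) := by
      rw [le_genLocus_iff_isGen]
      have h2 : val (secHom L σ) (U y) = s' y := (secHom_app_one L σ (U y)).trans (hσ y)
      rw [h2]
      exact hs' y
    exact h1 (hyU y)
  haveI : IsIso (secHom L σ) := by
    apply Groth.Agent.Lib.Helper60.TensorLib.isIso_of_app_bijective
    intro W
    exact Groth.Agent.Lib.Helper35.GenLocus.bijective_app_of_le_genLocus L (secHom L σ) W
      (le_top.trans hgl)
  exact ⟨(asIso (secHom L σ)).symm⟩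

end

/-- Let k be a field and f : X → Y a k-morphism between proper k-schemes which is a fibration, i.e. O_Y
→ f_*O_X is an isomorphism (Γ(V, O_Y) → Γ(f⁻¹V, O_X) bijective for every open V ⊆ Y). Then N ↦ f^*N
is injective on Picard groups: every invertible O_Y-module whose pullback to X is trivial is
trivial. -/
theorem result (k : Type u) [Field k] (X Y : Scheme.{u})
    [X.Over (Spec (CommRingCat.of k))] [Y.Over (Spec (CommRingCat.of k))] [IsProper (X ↘ Spec (CommRingCat.of k))] [IsProper (Y ↘ Spec (CommRingCat.of k))]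
    (f : X ⟶ Y) (hf : f ≫ (Y ↘ Spec (CommRingCat.of k)) = X ↘ Spec (CommRingCat.of k)) (hfib : ∀ V : Y.Opens, IsIso (f.app V)) :
    Formal2.PicPullbackInjective f := by
  rintro L hL ⟨ε⟩
  haveI := isQuasicoherent_of_isInvertible hL
  exact main f L hfib hL ε

end Groth.Agent.S14836
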