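import Groth.Statements.S1484
import Mathlib.RingTheory.Algebraic.Integral
import Mathlib.RingTheory.Ideal.Operations

set_option autoImplicit false
universe u
open FlatMor

namespace Groth.Agent.S1484

lemma exists_div {R : Type u} [CommRing R] (p : Ideal R) [p.IsPrime] (z : p.ResidueField) :
    ∃ a b : R, b ∉ p ∧ z = algebraMap R p.ResidueField a / algebraMap R p.ResidueField b := by
  obtain ⟨x, y, hy, rfl⟩ := IsFractionRing.div_surjective (A := R ⧸ p) z
  obtain ⟨a, rfl⟩ := Ideal.Quotient.mk_surjective x
  obtain ⟨b, rfl⟩ := Ideal.Quotient.mk_surjective y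
  refine ⟨a, b, ?_, ?_⟩
  · intro hb
    have : Ideal.Quotient.mk p b = 0 := Ideal.Quotient.eq_zero_iff_mem.2 hb
    rw [this] at hy
    exact zero_notMem_nonZeroDivisors hy
  · simp [Ideal.algebraMap_quotient_residueField_mk]

lemma exists_transcendental {R : Type u} [CommRing R] (p : Ideal R) [p.IsPrime]
    (k : Subfield p.ResidueField)
    (hk : ¬ Algebra.IsAlgebraic ↥k p.ResidueField) (I : Ideal R) (hI : ¬ I ≤ p) :
    ∃ x ∈ I, Transcendental ↥k (algebraMap R p.ResidueField x) := by
  by_contra! h
  apply hk
  obtain ⟨y, hyI, hyp⟩ := SetLike.not_le_iff_exists.1 hI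
  have hy0 : algebraMap R p.ResidueField y ≠ 0 := by
    rwa [Ne, Ideal.algebraMap_residueField_eq_zero]
  constructor
  intro z
  obtain ⟨a, b, hb, rfl⟩ := exists_div p z
  have ha' : IsAlgebraic ↥k (algebraMap R p.ResidueField (a * y)) := by
    have := h (a * y) (I.mul_mem_left a hyI)
    rwa [Transcendental, not_not] at this
  have hb' : IsAlgebraic ↥k (algebraMap R p.ResidueField (b * y)) := by
    have := h (b * y) (I.mul_mem_left b hyI)
    rwa [Transcendental, not_not] at this
  have : algebraMap R p.ResidueField a / algebraMap R p.ResidueField b =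
      algebraMap R p.ResidueField (a * y) * (algebraMap R p.ResidueField (b * y))⁻¹ := by
    rw [map_mul, map_mul, ← div_eq_mul_inv, mul_div_mul_right _ _ hy0]
  rw [this]
  exact ha'.mul hb'.inv

/-- Let R be a ring, p_1, …, p_r primes of R none of which is contained in another, k_i ⊆ κ(p_i)
subfields over which κ(p_i) is not algebraic, and J an ideal of R contained in none of the p_i. Then
some x ∈ J has image in κ(p_i) transcendental over k_i for every i. -/
theorem result {R : Type u} [CommRing R] {r : ℕ} (p : Fin r → Ideal R) [∀ i, (p i).IsPrime]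
    (hp : ∀ i j, i ≠ j → ¬ p i ≤ p j) (k : ∀ i, Subfield (p i).ResidueField)
    (hk : ∀ i, ¬ Algebra.IsAlgebraic ↥(k i) (p i).ResidueField) (J : Ideal R) (hJ : ∀ i, ¬ J ≤ p i) :
    ∃ x ∈ J, ∀ i, Transcendental ↥(k i) (algebraMap R (p i).ResidueField x) := by
  classical
  have hI : ∀ i, ¬ (J * ∏ j ∈ Finset.univ.erase i, p j) ≤ p i := by
    intro i h
    rcases (Ideal.IsPrime.mul_le inferInstance).1 h with h | h
    · exact hJ i h
    · obtain ⟨j, hj, hji⟩ := (Ideal.IsPrime.prod_le inferInstance).1 h
      exact hp j i (Finset.ne_of_mem_erase hj) hji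
  choose x hxI hxt using fun i => exists_transcendental (p i) (k i) (hk i) _ (hI i)
  refine ⟨∑ i, x i, ?_, ?_⟩
  · exact sum_mem fun i _ => Ideal.mul_le_left (hxI i)
  · intro i
    have : algebraMap R (p i).ResidueField (∑ j, x j) = algebraMap R _ (x i) := by
      rw [map_sum, Finset.sum_eq_single i]
      · intro j _ hji
        rw [Ideal.algebraMap_residueField_eq_zero]
        have : (J * ∏ l ∈ Finset.univ.erase j, p l) ≤ p i :=
          Ideal.mul_le_right.trans (Ideal.prod_le_inf.trans
            (Finset.inf_le (Finset.mem_erase.2 ⟨hji.symm, Finset.mem_univ _⟩)))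
        exact this (hxI j)
      · simp
    rw [this]
    exact hxt i

end Groth.Agent.S1484
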