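import Groth.Statements.S14845
-- import your own Groth.Agent.* helpers here

set_option autoImplicit false
open CategoryTheory CategoryTheory.Limits AlgebraicGeometry
universe u
open HilbD

namespace Groth.Agent.S14845

set_option backward.isDefEq.respectTransparency false
set_option backward.isDefEq.respectTransparency.types false

variable {X S : Scheme.{u}} (f : X ⟶ S)

/-- The graph section `(x, id) : T ⟶ X ×_S T`. -/
noncomputable def gr (T : Over S) (x : T.left ⟶ X) (hx : x ≫ f = T.hom) : T.left ⟶ PicF.XT f T :=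
  pullback.lift x (𝟙 T.left) (by simpa using hx)

lemma secGraph_eq (T : Over S) (x : T.left ⟶ X) (hx : x ≫ f = T.hom) :
    HilbD.secGraph f T x hx = (gr f T x hx).ker := rfl

@[reassoc (attr := simp)]
lemma gr_proj (T : Over S) (x : T.left ⟶ X) (hx : x ≫ f = T.hom) :
    gr f T x hx ≫ PicF.XTproj f T = 𝟙 _ := by
  simp [gr]

@[reassoc (attr := simp)]
lemma gr_fst (T : Over S) (x : T.left ⟶ X) (hx : x ≫ f = T.hom) :
    gr f T x hx ≫ pullback.fst f T.hom = x := by
  simp [gr]

lemma isClosedImmersion_gr [IsSeparated f] (T : Over S) (x : T.left ⟶ X) (hx : x ≫ f = T.hom) :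
    IsClosedImmersion (gr f T x hx) := by
  have h1 : IsClosedImmersion (gr f T x hx ≫ PicF.XTproj f T) := by
    rw [gr_proj]; infer_instance
  exact IsClosedImmersion.of_comp (gr f T x hx) (PicF.XTproj f T)

@[reassoc (attr := simp)]
lemma XTmap_fst {T T' : Over S} (g : T' ⟶ T) :
    PicF.XTmap f g ≫ pullback.fst f T.hom = pullback.fst f T'.hom := by
  simp [PicF.XTmap]

@[reassoc (attr := simp)]
lemma XTmap_snd {T T' : Over S} (g : T' ⟶ T) :
    PicF.XTmap f g ≫ pullback.snd f T.hom = pullback.snd f T'.hom ≫ g.left := by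
  simp [PicF.XTmap]

lemma isPullback_XTmap {T T' : Over S} (g : T' ⟶ T) :
    IsPullback (PicF.XTmap f g) (pullback.snd f T'.hom) (pullback.snd f T.hom) g.left := by
  have hbig : IsPullback (PicF.XTmap f g ≫ pullback.fst f T.hom) (pullback.snd f T'.hom) f
      (g.left ≫ T.hom) := by
    rw [XTmap_fst, Over.w g]
    exact IsPullback.of_hasPullback f T'.hom
  exact IsPullback.of_right hbig (XTmap_snd f g) (IsPullback.of_hasPullback f T.hom)

lemma gr_XTmap {T T' : Over S} (g : T' ⟶ T) (x : T.left ⟶ X) (hx : x ≫ f = T.hom) :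
    gr f T' (g.left ≫ x) (by rw [Category.assoc, hx, Over.w g]) ≫ PicF.XTmap f g =
      g.left ≫ gr f T x hx := by
  apply pullback.hom_ext <;> simp

lemma isPullback_gr {T T' : Over S} (g : T' ⟶ T) (x : T.left ⟶ X) (hx : x ≫ f = T.hom) :
    IsPullback (gr f T' (g.left ≫ x) (by rw [Category.assoc, hx, Over.w g])) g.left
      (PicF.XTmap f g) (gr f T x hx) := by
  have hbig : IsPullback (gr f T' (g.left ≫ x) (by rw [Category.assoc, hx, Over.w g]) ≫
      pullback.snd f T'.hom) g.left g.left (gr f T x hx ≫ pullback.snd f T.hom) := by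
    rw [gr_proj, gr_proj]
    exact IsPullback.of_horiz_isIso ⟨by simp⟩
  exact IsPullback.of_right hbig (gr_XTmap f g x hx) (isPullback_XTmap f g).flip

lemma pull_gr [IsSeparated f] {T T' : Over S} (g : T' ⟶ T) (x : T.left ⟶ X) (hx : x ≫ f = T.hom) :
    HilbD.pull f g (gr f T x hx).ker =
      (gr f T' (g.left ≫ x) (by rw [Category.assoc, hx, Over.w g])).ker := by
  have := isClosedImmersion_gr f T x hx
  have hP : IsPullback (g.left ≫ (gr f T x hx).toImage)
      (gr f T' (g.left ≫ x) (by rw [Category.assoc, hx, Over.w g]))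
      (gr f T x hx).ker.subschemeι (PicF.XTmap f g) := by
    have h0 := (isPullback_gr f g x hx).flip
    refine IsPullback.of_iso h0 (Iso.refl _) (asIso (gr f T x hx).toImage) (Iso.refl _) (Iso.refl _)
      ?_ ?_ ?_ ?_ <;> simp
  unfold HilbD.pull
  rw [← hP.isoPullback_hom_snd, Scheme.Hom.ker_comp_of_isIso]


lemma isFinLocFreeOfDeg_one_of_isIso {Y Z : Scheme.{u}} (h : Y ⟶ Z) [IsIso h] :
    Mor2.IsFinLocFreeOfDeg 1 h := by
  refine ⟨⟨inferInstance, inferInstance, inferInstance⟩, fun y => ?_⟩
  rw [Scheme.Hom.finrank_eq_one_of_isIso h]; rfl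

lemma isIso_of_isFinLocFreeOfDeg_one {Y Z : Scheme.{u}} (h : Y ⟶ Z)
    (hh : Mor2.IsFinLocFreeOfDeg 1 h) : IsIso h := by
  obtain ⟨⟨h1, h2, h3⟩, h4⟩ := hh
  rw [Scheme.Hom.isIso_iff_finrank_eq]
  ext y
  exact h4 y

lemma gr_ker_subschemeι_proj [IsSeparated f] (T : Over S) (x : T.left ⟶ X) (hx : x ≫ f = T.hom) :
    (gr f T x hx).toImage ≫ ((gr f T x hx).ker.subschemeι ≫ PicF.XTproj f T) = 𝟙 _ := by
  rw [Scheme.Hom.toImage_imageι_assoc, gr_proj]

lemma isIso_gr_ker_subschemeι_proj [IsSeparated f] (T : Over S) (x : T.left ⟶ X)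
    (hx : x ≫ f = T.hom) :
    IsIso ((gr f T x hx).ker.subschemeι ≫ PicF.XTproj f T) := by
  have := isClosedImmersion_gr f T x hx
  have h := gr_ker_subschemeι_proj f T x hx
  have : (gr f T x hx).ker.subschemeι ≫ PicF.XTproj f T = inv (gr f T x hx).toImage := by
    rw [← cancel_epi (gr f T x hx).toImage, h, IsIso.hom_inv_id]
  rw [this]; infer_instance

lemma gr_injective [IsSeparated f] (T : Over S) (x y : T.left ⟶ X) (hx : x ≫ f = T.hom)
    (hy : y ≫ f = T.hom) (h : (gr f T x hx).ker = (gr f T y hy).ker) : x = y := by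
  have := isClosedImmersion_gr f T x hx
  have := isClosedImmersion_gr f T y hy
  have h1 := IsClosedImmersion.lift_fac (gr f T x hx) (gr f T y hy) h.le
  have h2 : IsClosedImmersion.lift (gr f T x hx) (gr f T y hy) h.le = 𝟙 _ := by
    calc IsClosedImmersion.lift (gr f T x hx) (gr f T y hy) h.le
        = IsClosedImmersion.lift (gr f T x hx) (gr f T y hy) h.le ≫
            (gr f T x hx ≫ PicF.XTproj f T) := by rw [gr_proj, Category.comp_id]
      _ = (IsClosedImmersion.lift (gr f T x hx) (gr f T y hy) h.le ≫ gr f T x hx) ≫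
            PicF.XTproj f T := by rw [Category.assoc]
      _ = 𝟙 _ := by rw [h1, gr_proj]
  rw [h2, Category.id_comp] at h1
  have := congrArg (· ≫ pullback.fst f T.hom) h1
  simpa using this

/-- For a separated morphism f : X → S, the Hilbert functor of one point of X over S is represented by X
with the diagonal as universal family: the diagonal of X ×_S X (the graph of the identity section of
X over itself) is a closed subscheme finite locally free of degree 1 over X, and every closed
subscheme of X ×_S T which is finite locally free of degree 1 over T is its base change along a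
unique S-morphism T → X. (The published statement takes S Noetherian, f locally of finite type and
the Hilbert functor on locally Noetherian S-schemes with flat proper families of Hilbert polynomial
1; this row uses the functor of families finite locally free of degree 1 on all S-schemes, for which
the same argument applies without Noetherian hypotheses.) -/
theorem result {X S : Scheme.{u}} (f : X ⟶ S) [IsSeparated f] :
    ∃ Δ : HilbD.Obj f 1 (Over.mk f),
      Δ.1 = HilbD.secGraph f (Over.mk f) (𝟙 X) (Category.id_comp f) ∧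
      HilbD.IsUniversal f 1 (Over.mk f) Δ := by
  have hiso := isIso_gr_ker_subschemeι_proj f (Over.mk f) (𝟙 X) (Category.id_comp f)
  refine ⟨⟨HilbD.secGraph f (Over.mk f) (𝟙 X) (Category.id_comp f), ?_⟩, rfl, ?_⟩
  · rw [secGraph_eq]
    exact isFinLocFreeOfDeg_one_of_isIso _
  · intro T Z'
    obtain ⟨I', hI'⟩ := Z'
    have hh : IsIso (I'.subschemeι ≫ PicF.XTproj f T) := isIso_of_isFinLocFreeOfDeg_one _ hI'
    set h := I'.subschemeι ≫ PicF.XTproj f T with hdef
    let x : T.left ⟶ X := inv h ≫ I'.subschemeι ≫ pullback.fst f T.hom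
    have hx : x ≫ f = T.hom := by
      simp only [x, Category.assoc]
      rw [pullback.condition, ← Category.assoc I'.subschemeι, ← hdef, IsIso.inv_hom_id_assoc]
    have hgr : gr f T x hx = inv h ≫ I'.subschemeι := by
      apply pullback.hom_ext
      · simp [x]
      · rw [gr, pullback.lift_snd, Category.assoc]
        change _ = inv h ≫ h
        simp
    have hker : (gr f T x hx).ker = I' := by
      rw [hgr, Scheme.Hom.ker_comp_of_isIso, Scheme.IdealSheafData.ker_subschemeι]
    have key : ∀ (g : T ⟶ Over.mk f),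
        HilbD.pull f g (HilbD.secGraph f (Over.mk f) (𝟙 X) (Category.id_comp f)) =
          (gr f T g.left (by simpa using Over.w g)).ker := by
      intro g
      rw [secGraph_eq, pull_gr]
      congr 1
    refine ⟨Over.homMk x hx, ?_, ?_⟩
    · change HilbD.pull f _ _ = I'
      rw [key]
      exact hker
    · intro g' hg'
      change HilbD.pull f _ _ = I' at hg'
      rw [key] at hg'
      apply Over.OverMorphism.ext
      exact gr_injective f T _ _ _ hx (hg'.trans hker.symm)

end Groth.Agent.S14845
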