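import Groth.Statements.S14846
import Mathlib.FieldTheory.Galois.Infinite
import Mathlib.RingTheory.TensorProduct.Free
import Mathlib.RingTheory.TwoSidedIdeal.Operations
import Mathlib.LinearAlgebra.FreeModule.Basic
-- import your own Groth.Agent.* helpers here

set_option autoImplicit false
universe u v w
open Brauer

namespace Groth.Agent.S14846

section helpers
open TensorProduct

variable {K : Type u} {L : Type v} [Field K] [Field L] [Algebra K L]
  {A : Type w} [Ring A] [Algebra K A]

/-- the semilinear action of `γ` on `L ⊗ A`. -/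
noncomputable abbrev σ (γ : L ≃ₐ[K] L) : L ⊗[K] A →ₐ[K] L ⊗[K] A :=
  Algebra.TensorProduct.map (γ : L →ₐ[K] L) (AlgHom.id K A)

lemma repr_σ {ι : Type*} (b : Module.Basis ι K A) (γ : L ≃ₐ[K] L) (x : L ⊗[K] A) (i : ι) :
    (Algebra.TensorProduct.basis L b).repr (σ γ x) i =
      γ ((Algebra.TensorProduct.basis L b).repr x i) := by
  induction x using TensorProduct.induction_on with
  | zero => simp
  | tmul l a =>
    simp [σ, Algebra.TensorProduct.basis_repr_tmul]
  | add x y hx hy =>
    simp only [map_add, Finsupp.add_apply, hx, hy]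

lemma exists_descended [IsGalois K L] (N : Submodule L (L ⊗[K] A)) (hN : N ≠ ⊥)
    (hΓ : ∀ (γ : L ≃ₐ[K] L) x, x ∈ N → σ γ x ∈ N) :
    ∃ a : A, a ≠ 0 ∧ (1 : L) ⊗ₜ[K] a ∈ N := by
  classical
  let b := Module.Free.chooseBasis K A
  let B := Algebra.TensorProduct.basis L b
  obtain ⟨x₀, hx₀N, hx₀⟩ := (Submodule.ne_bot_iff N).mp hN
  obtain ⟨x, ⟨hxN, hx0⟩, hmin⟩ := WellFounded.has_min
    (measure (fun x : L ⊗[K] A => (B.repr x).support.card)).wf {x | x ∈ N ∧ x ≠ 0}
    ⟨x₀, hx₀N, hx₀⟩
  have hrx : B.repr x ≠ 0 := fun h => hx0 (B.repr.map_eq_zero_iff.mp h)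
  obtain ⟨i₀, hi₀⟩ := Finsupp.support_nonempty_iff.mpr hrx
  rw [Finsupp.mem_support_iff] at hi₀
  set c := B.repr x i₀ with hc
  set x' := c⁻¹ • x with hx'
  have hx'N : x' ∈ N := N.smul_mem _ hxN
  have hx'0 : x' ≠ 0 := smul_ne_zero (inv_ne_zero hi₀) hx0
  have hrepr : ∀ i, B.repr x' i = c⁻¹ * B.repr x i := by
    intro i
    rw [hx', map_smul, Finsupp.smul_apply, smul_eq_mul]
  have hi₀' : B.repr x' i₀ = 1 := by rw [hrepr, ← hc, inv_mul_cancel₀ hi₀]
  have hsupp : (B.repr x').support = (B.repr x).support := by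
    ext i
    simp only [Finsupp.mem_support_iff, hrepr, ne_eq, mul_eq_zero, inv_eq_zero, hi₀, false_or]
  have hfix : ∀ (γ : L ≃ₐ[K] L) i, γ (B.repr x' i) = B.repr x' i := by
    intro γ i
    set y := σ γ x' - x' with hy
    have hyN : y ∈ N := N.sub_mem (hΓ γ x' hx'N) hx'N
    have hry : ∀ i, B.repr y i = γ (B.repr x' i) - B.repr x' i := by
      intro i
      rw [hy, map_sub, Finsupp.sub_apply, repr_σ]
    have hy0 : y = 0 := by
      by_contra hne
      apply hmin y ⟨hyN, hne⟩
      change (B.repr y).support.card < (B.repr x).support.card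
      rw [← hsupp]
      apply Finset.card_lt_card
      rw [Finset.ssubset_iff_of_subset]
      · refine ⟨i₀, ?_, ?_⟩
        · rw [Finsupp.mem_support_iff, hi₀']; exact one_ne_zero
        · rw [Finsupp.mem_support_iff, hry, hi₀', map_one, sub_self]; exact fun h => h rfl
      · intro i hi
        rw [Finsupp.mem_support_iff] at hi ⊢
        intro h0
        apply hi
        rw [hry, h0, map_zero, sub_self]
    have := hry i
    rw [hy0, map_zero, Finsupp.zero_apply] at this
    exact (sub_eq_zero.mp this.symm)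
  have hK : ∀ i, ∃ k : K, algebraMap K L k = B.repr x' i := by
    intro i
    exact (InfiniteGalois.mem_range_algebraMap_iff_fixed (B.repr x' i)).mpr (fun γ => hfix γ i)
  choose k hk using hK
  have key : (1 : L) ⊗ₜ[K] (∑ i ∈ (B.repr x').support, k i • b i) = x' := by
    conv_rhs => rw [← B.linearCombination_repr x', Finsupp.linearCombination_apply, Finsupp.sum]
    rw [tmul_sum]
    refine Finset.sum_congr rfl (fun i _ => ?_)
    rw [← hk i, Algebra.TensorProduct.basis_apply, tmul_smul, algebraMap_smul]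
  refine ⟨∑ i ∈ (B.repr x').support, k i • b i, ?_, ?_⟩
  · intro h0
    apply hx'0
    rw [← key, h0, tmul_zero]
  · rw [key]; exact hx'N


lemma σ_mul (δ γ : L ≃ₐ[K] L) (z : L ⊗[K] A) : σ (δ * γ) z = σ δ (σ γ z) := by
  induction z using TensorProduct.induction_on with
  | zero => simp
  | tmul l a => simp [σ]
  | add x y hx hy => simp only [map_add, hx, hy]

lemma σ_one (z : L ⊗[K] A) : σ (1 : L ≃ₐ[K] L) z = z := by
  induction z using TensorProduct.induction_on with
  | zero => simp
  | tmul l a => simp [σ]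
  | add x y hx hy => simp only [map_add, hx, hy]

lemma exists_mem_ne_zero {R : Type*} [Ring R] {I : TwoSidedIdeal R} (h : I ≠ ⊥) :
    ∃ x ∈ I, x ≠ 0 := by
  by_contra hcon
  push Not at hcon
  apply h
  ext x
  rw [TwoSidedIdeal.mem_bot]
  exact ⟨hcon x, fun hx => hx ▸ I.zero_mem⟩

/-- `σ γ` as a ring equivalence. -/
noncomputable def E (γ : L ≃ₐ[K] L) : L ⊗[K] A ≃+* L ⊗[K] A :=
  RingEquiv.ofRingHom (σ (A := A) γ).toRingHom (σ (A := A) γ⁻¹).toRingHom
    (RingHom.ext fun z => by
      change σ γ (σ γ⁻¹ z) = z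
      rw [← σ_mul, mul_inv_cancel, σ_one])
    (RingHom.ext fun z => by
      change σ γ⁻¹ (σ γ z) = z
      rw [← σ_mul, inv_mul_cancel, σ_one])

lemma E_apply (γ : L ≃ₐ[K] L) (z : L ⊗[K] A) : E γ z = σ γ z := rfl
lemma E_symm_apply (γ : L ≃ₐ[K] L) (z : L ⊗[K] A) : (E γ).symm z = σ γ⁻¹ z := rfl

theorem result' [IsGalois K L] [IsSimpleRing A]
    (I J : TwoSidedIdeal (L ⊗[K] A)) (hI : IsAtom I) (hJ : IsAtom J) :
    ∃ γ : L ≃ₐ[K] L, (J : Set (L ⊗[K] A)) =
      Algebra.TensorProduct.map (γ : L →ₐ[K] L) (AlgHom.id K A) '' (I : Set (L ⊗[K] A)) := by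
  classical
  by_contra hcon
  push Not at hcon
  let N : TwoSidedIdeal (L ⊗[K] A) :=
    TwoSidedIdeal.span (⋃ γ : L ≃ₐ[K] L, σ γ '' (I : Set (L ⊗[K] A)))
  have hΓ : ∀ (δ : L ≃ₐ[K] L) x, x ∈ N → σ δ x ∈ N := by
    intro δ x hx
    have : N ≤ TwoSidedIdeal.comap (σ δ) N := by
      rw [TwoSidedIdeal.span_le]
      intro y hy
      obtain ⟨γ, z, hz, rfl⟩ := Set.mem_iUnion.mp hy
      rw [SetLike.mem_coe, TwoSidedIdeal.mem_comap]
      apply TwoSidedIdeal.subset_span
      exact Set.mem_iUnion.mpr ⟨δ * γ, z, hz, σ_mul δ γ z⟩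
    exact (TwoSidedIdeal.mem_comap _).mp (this hx)
  let N' : Submodule L (L ⊗[K] A) :=
    { carrier := N
      add_mem' := N.add_mem
      zero_mem' := N.zero_mem
      smul_mem' := fun l x hx => by
        rw [Algebra.smul_def]; exact N.mul_mem_left _ _ hx }
  have hIN : ∀ z ∈ I, z ∈ N := by
    intro z hz
    apply TwoSidedIdeal.subset_span
    exact Set.mem_iUnion.mpr ⟨1, z, hz, σ_one z⟩
  obtain ⟨z₀, hz₀I, hz₀⟩ := exists_mem_ne_zero hI.1
  have hN' : N' ≠ ⊥ := by
    intro h
    have : z₀ ∈ N' := hIN z₀ hz₀I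
    rw [h, Submodule.mem_bot] at this
    exact hz₀ this
  obtain ⟨a, ha0, haN⟩ := exists_descended N' hN' hΓ
  have h1N : (1 : L ⊗[K] A) ∈ N := by
    let N₀ : TwoSidedIdeal A :=
      TwoSidedIdeal.comap (Algebra.TensorProduct.includeRight : A →ₐ[K] L ⊗[K] A) N
    have haN₀ : a ∈ N₀ := (TwoSidedIdeal.mem_comap _).mpr haN
    have : N₀ = ⊤ := by
      rcases eq_bot_or_eq_top N₀ with h | h
      · rw [h, TwoSidedIdeal.mem_bot] at haN₀
        exact absurd haN₀ ha0
      · exact h
    have h1 : (1 : A) ∈ N₀ := by rw [this]; trivial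
    have := (TwoSidedIdeal.mem_comap _).mp h1
    rwa [map_one] at this
  have hall : ∀ x ∈ N, ∀ j ∈ J, j * x = 0 := by
    intro x hx
    induction hx using TwoSidedIdeal.span_induction with
    | mem x h =>
      obtain ⟨γ, z, hz, rfl⟩ := Set.mem_iUnion.mp h
      intro j hj
      set γI := (E γ).mapTwoSidedIdeal I with hγIdef
      have hγI : IsAtom γI := (OrderIso.isAtom_iff _ _).mpr hI
      have hmem : σ γ z ∈ γI := by
        rw [hγIdef, RingEquiv.mapTwoSidedIdeal_apply, TwoSidedIdeal.mem_comap, ← E_apply,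
          RingEquiv.symm_apply_apply]
        exact hz
      have h1 : j * σ γ z ∈ J ⊓ γI :=
        (TwoSidedIdeal.mem_inf _).mpr ⟨J.mul_mem_right _ _ hj, γI.mul_mem_left _ _ hmem⟩
      have h2 : J ⊓ γI = ⊥ := by
        rcases hJ.le_iff.mp (inf_le_left : J ⊓ γI ≤ J) with h | h
        · exact h
        · exfalso
          have hle : J ≤ γI := inf_eq_left.mp h
          have heq : J = γI := (hγI.le_iff.mp hle).resolve_left hJ.1
          apply hcon γ
          rw [heq]
          ext y
          simp only [SetLike.mem_coe, Set.mem_image]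
          rw [hγIdef, RingEquiv.mapTwoSidedIdeal_apply, TwoSidedIdeal.mem_comap]
          constructor
          · intro hy
            exact ⟨_, hy, (E γ).apply_symm_apply y⟩
          · rintro ⟨w, hw, rfl⟩
            change (E γ).symm (E γ w) ∈ I
            rwa [RingEquiv.symm_apply_apply]
      rw [h2] at h1
      exact (TwoSidedIdeal.mem_bot _).mp h1
    | zero => intro j _; exact mul_zero j
    | add x y _ _ hx hy => intro j hj; rw [mul_add, hx j hj, hy j hj, add_zero]
    | neg x _ hx => intro j hj; rw [mul_neg, hx j hj, neg_zero]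
    | left_absorb a x _ hx => intro j hj; rw [← mul_assoc, hx (j * a) (J.mul_mem_right _ _ hj)]
    | right_absorb b x _ hx => intro j hj; rw [← mul_assoc, hx j hj, zero_mul]
  obtain ⟨j, hj, hj0⟩ := exists_mem_ne_zero hJ.1
  have := hall 1 h1N j hj
  rw [mul_one] at this
  exact hj0 this


end helpers

open TensorProduct in
/-- Let L/K be a Galois extension with group Γ = Aut_K(L), and A a K-algebra which is a simple ring. If
L ⊗_K A is semisimple, then Γ, acting on L ⊗_K A through the first tensor factor, permutes its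
simple components, i.e. its minimal nonzero two-sided ideals, transitively: any minimal two-sided
ideal is carried onto any other by some γ ⊗ id. -/
theorem result
    {K : Type u} {L : Type v} [Field K] [Field L] [Algebra K L] [IsGalois K L]
    {A : Type w} [Ring A] [Algebra K A] [IsSimpleRing A]
    [IsSemisimpleRing (L ⊗[K] A)]
    (I J : TwoSidedIdeal (L ⊗[K] A)) (hI : IsAtom I) (hJ : IsAtom J) :
    ∃ γ : L ≃ₐ[K] L, (J : Set (L ⊗[K] A)) =
      Algebra.TensorProduct.map (γ : L →ₐ[K] L) (AlgHom.id K A) '' (I : Set (L ⊗[K] A)) := by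
  exact result' I J hI hJ

end Groth.Agent.S14846
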