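import Groth.Statements.S14847
import Mathlib
import Groth.Agent.S18812
import Groth.Agent.S14843

set_option autoImplicit false
universe u v
open HopfRep

namespace Groth.Agent.S14847

namespace Cos
open TensorProduct

variable {K : Type u} {A : Type v} [Field K] [CommRing A] [HopfAlgebra K A]

variable (K A) in
/-- b ↦ Σ b₂ ⊗ b₁ -/
noncomputable def gHom : A →ₐ[K] A ⊗[K] A :=
  (Algebra.TensorProduct.comm K A A).toAlgHom.comp (Bialgebra.comulAlgHom K A)

variable (K A) in
noncomputable def eHom : A ⊗[K] A →ₐ[A] A ⊗[K] A :=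
  Algebra.TensorProduct.lift (Algebra.ofId A (A ⊗[K] A)) (gHom K A) (fun _ _ => Commute.all _ _)

variable (K A) in
noncomputable def gHom' : A →ₐ[K] A ⊗[K] A :=
  (Algebra.TensorProduct.map (HopfAlgebra.antipodeAlgHom K A) (AlgHom.id K A)).comp (gHom K A)

variable (K A) in
noncomputable def eHom' : A ⊗[K] A →ₐ[A] A ⊗[K] A :=
  Algebra.TensorProduct.lift (Algebra.ofId A (A ⊗[K] A)) (gHom' K A) (fun _ _ => Commute.all _ _)

open WithConv in
lemma gHom_eq : gHom K A = ofConv (toConv (Algebra.TensorProduct.includeRight : A →ₐ[K] A ⊗[K] A) *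
    toConv (Algebra.TensorProduct.includeLeft : A →ₐ[K] A ⊗[K] A)) := by
  ext b
  rw [AlgHom.convMul_apply]
  simp only [gHom, AlgHom.comp_apply, Bialgebra.comulAlgHom_apply]
  have : (Algebra.TensorProduct.comm K A A).toAlgHom =
      Algebra.TensorProduct.lift (Algebra.TensorProduct.includeRight : A →ₐ[K] A ⊗[K] A)
        (Algebra.TensorProduct.includeLeft : A →ₐ[K] A ⊗[K] A) (fun _ _ => Commute.all _ _) := by
    ext <;> simp
  exact DFunLike.congr_fun this _

open WithConv in
lemma eHom_gHom' (b : A) : eHom K A (gHom' K A b) = 1 ⊗ₜ b := by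
  have h1 : ((eHom K A).restrictScalars K).comp
      ((Algebra.TensorProduct.map (HopfAlgebra.antipodeAlgHom K A) (AlgHom.id K A)).comp
        (Algebra.TensorProduct.comm K A A).toAlgHom) =
      Algebra.TensorProduct.lift (gHom K A)
        ((Algebra.TensorProduct.includeLeft : A →ₐ[K] A ⊗[K] A).comp (HopfAlgebra.antipodeAlgHom K A))
        (fun _ _ => Commute.all _ _) := by
    ext x
    · simp [eHom, ← Algebra.TensorProduct.one_def]
    · simp [eHom]
  have h2 : eHom K A (gHom' K A b) =
      (toConv (gHom K A) * toConv ((Algebra.TensorProduct.includeLeft : A →ₐ[K] A ⊗[K] A).comp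
        (HopfAlgebra.antipodeAlgHom K A))) b := by
    rw [AlgHom.convMul_apply]
    rw [← h1]
    simp [gHom', gHom]
  rw [h2, gHom_eq]
  have h3 : toConv ((Algebra.TensorProduct.includeLeft : A →ₐ[K] A ⊗[K] A).comp
        (HopfAlgebra.antipodeAlgHom K A)) =
      (toConv (Algebra.TensorProduct.includeLeft : A →ₐ[K] A ⊗[K] A))⁻¹ := rfl
  rw [h3, toConv_ofConv, mul_assoc]
  have h4 := mul_inv_cancel (toConv (Algebra.TensorProduct.includeLeft : A →ₐ[K] A ⊗[K] A))
  rw [h4, mul_one]
  simp

lemma eHom_comp_eHom' : (eHom K A).comp (eHom' K A) = AlgHom.id A (A ⊗[K] A) := by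
  ext b
  simp [eHom', eHom_gHom', ← Algebra.TensorProduct.one_def]

lemma eHom_surjective : Function.Surjective (eHom K A) := by
  intro x
  exact ⟨eHom' K A x, DFunLike.congr_fun eHom_comp_eHom' x⟩

variable [Module.Finite K A]

lemma eHom_bijective : Function.Bijective (eHom K A) := by
  refine ⟨?_, eHom_surjective⟩
  exact OrzechProperty.injective_of_surjective_endomorphism (eHom K A).toLinearMap eHom_surjective

variable (K A) in
noncomputable def eEquiv : (A ⊗[K] A) ≃ₐ[A] (A ⊗[K] A) := AlgEquiv.ofBijective (eHom K A) eHom_bijective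

lemma trace_tmul (a b : A) :
    Algebra.trace A (A ⊗[K] A) (a ⊗ₜ[K] b) = algebraMap K A (Algebra.trace K A b) * a := by
  have h : Algebra.lmul A (A ⊗[K] A) (a ⊗ₜ[K] b) = a • (Algebra.lmul K A b).baseChange A := by
    ext z
    simp [TensorProduct.smul_tmul']
  rw [Algebra.trace_apply, h, map_smul, LinearMap.trace_baseChange, ← Algebra.trace_apply, smul_eq_mul, mul_comm]

/-- Σ tr(b₁) b₂ = tr(b) 1 -/
lemma trace_invariant (b : A) :
    TensorProduct.lid K A ((Algebra.trace K A).rTensor A (CoalgebraStruct.comul (R := K) b)) =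
      algebraMap K A (Algebra.trace K A b) := by
  have h1 : Algebra.trace A (A ⊗[K] A) (eEquiv K A (1 ⊗ₜ b)) = Algebra.trace A (A ⊗[K] A) (1 ⊗ₜ b) :=
    Algebra.trace_eq_of_algEquiv (eEquiv K A) _
  rw [trace_tmul, mul_one] at h1
  rw [← h1]
  have h2 : eEquiv K A (1 ⊗ₜ b) = (TensorProduct.comm K A A) (CoalgebraStruct.comul (R := K) b) := by
    simp [eEquiv, eHom, gHom, ← Algebra.TensorProduct.one_def]
    rfl
  rw [h2]
  generalize (CoalgebraStruct.comul (R := K) b) = t
  induction t using TensorProduct.induction_on with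
  | zero => simp
  | tmul x y => simp [trace_tmul, Algebra.smul_def]
  | add x y hx hy => simp only [map_add, hx, hy]

lemma nontrivial_of_hopf (K' : Type u) (A' : Type v) [Field K'] [CommRing A'] [HopfAlgebra K' A'] :
    Nontrivial A' := by
  refine ⟨⟨1, 0, fun h => ?_⟩⟩
  have := congrArg (Coalgebra.counit (R := K') (A := A')) h
  rw [Bialgebra.counit_one, map_zero] at this
  exact one_ne_zero this

lemma exists_integral [CharZero K] : ∃ α : A →ₗ[K] K,
    @Hoch.IsComodHom K _ A _ _ _ A _ _ _ K _ _ (HopfRep.Comod.trivial K A K) α ∧ α 1 = 1 := by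
  haveI : Nontrivial A := nontrivial_of_hopf K A
  have hn : ((Module.finrank K A : ℕ) : K) ≠ 0 := by
    have : 0 < Module.finrank K A := Module.finrank_pos
    exact_mod_cast this.ne'
  refine ⟨((Module.finrank K A : ℕ) : K)⁻¹ • Algebra.trace K A, ?_, ?_⟩
  · unfold Hoch.IsComodHom
    apply LinearMap.ext
    intro b
    apply (TensorProduct.lid K A).injective
    simp only [LinearMap.comp_apply, LinearMap.rTensor_smul, LinearMap.smul_apply, map_smul]
    congr 1
    change (TensorProduct.lid K A) (((Algebra.trace K A) b) ⊗ₜ[K] (1 : A)) =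
      (TensorProduct.lid K A) ((Algebra.trace K A).rTensor A (CoalgebraStruct.comul (R := K) b))
    rw [trace_invariant]
    simp [Algebra.smul_def]
  · rw [LinearMap.smul_apply, ← map_one (algebraMap K A), Algebra.trace_algebraMap]
    simp [hn]

end Cos

open TensorProduct in
/-- When K is a field of characteristic zero and G = Spec A is a finite group scheme over K, the
coordinate Hopf algebra A is cosemisimple, i.e. A is the internal direct sum of simple
subcoalgebras. Here a subcoalgebra of A is a subspace B whose comultiplication lands in the image of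
B ⊗ B, and a simple subcoalgebra is a nonzero subcoalgebra D whose only subcoalgebras contained in D
are 0 and D. -/
theorem result {K : Type u} {A : Type v} [Field K] [CharZero K]
    [CommRing A] [HopfAlgebra K A] [Module.Finite K A] :
    ∃ (ι : Type v) (D : ι → Submodule K A), iSupIndep D ∧ iSup D = ⊤ ∧ ∀ i,
        D i ≠ ⊥ ∧ (∀ b ∈ (D i), CoalgebraStruct.comul (R := K) b ∈ LinearMap.range (TensorProduct.map (D i).subtype (D i).subtype)) ∧
        ∀ B : Submodule K A, B ≤ D i → (∀ b ∈ B, CoalgebraStruct.comul (R := K) b ∈ LinearMap.range (TensorProduct.map B.subtype B.subtype)) → B = ⊥ ∨ B = D i := by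
  obtain ⟨α, hα, h1⟩ := Cos.exists_integral (K := K) (A := A)
  exact (Groth.Agent.S14843.result (K := K) (C := A)).mpr
    (fun V _ _ _ => Groth.Agent.S18812.result K A α hα h1 V)

end Groth.Agent.S14847
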