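import Groth.Statements.S14848
import Mathlib
-- import your own Groth.Agent.* helpers here

set_option autoImplicit false
universe u v
open McKay

namespace Groth.Agent.S14848

/-- Let K be a field of characteristic zero, L an extension field of K and ξ ∈ L a primitive n-th root
of unity (n ≥ 1) with ξ + ξ⁻¹ ∈ K, say ξ + ξ⁻¹ = 2c with c ∈ K (the character of the natural
two-dimensional representation of the cyclic group of order n takes values in K). Then the cyclic
group of order n is realisable over K as a subgroup of SL(2, K): there is an element of SL(2, K) of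
order n. -/
theorem result {K : Type u} {L : Type v} [Field K] [Field L]
    [CharZero K] [Algebra K L] (n : ℕ) (hn : 1 ≤ n) (ξ : L) (hξ : IsPrimitiveRoot ξ n) (c : K)
    (hc : algebraMap K L (2 * c) = ξ + ξ⁻¹) :
    ∃ M : Matrix.SpecialLinearGroup (Fin 2) K, orderOf M = n := by
  classical
  rcases Nat.lt_or_ge n 3 with h3 | h3
  · interval_cases n
    · exact ⟨1, orderOf_one⟩
    · refine ⟨⟨!![-1, 0; 0, -1], by simp [Matrix.det_fin_two]⟩, ?_⟩
      haveI : Fact (Nat.Prime 2) := ⟨Nat.prime_two⟩
      refine orderOf_eq_prime ?_ ?_
      · ext i j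
        fin_cases i <;> fin_cases j <;> simp [pow_two, Matrix.mul_apply, Fin.sum_univ_two]
      · intro h
        have := congrArg (fun M : Matrix.SpecialLinearGroup (Fin 2) K => (M : Matrix (Fin 2) (Fin 2) K) 0 0) h
        simp at this
        have h2 : (2 : K) = 0 := by linear_combination -this
        exact two_ne_zero h2
  · have hn0 : n ≠ 0 := by omega
    have hξ0 : ξ ≠ 0 := hξ.ne_zero hn0
    have hne : ξ - ξ⁻¹ ≠ 0 := by
      intro h
      have h1 : ξ ^ 2 = 1 := by
        have : ξ = ξ⁻¹ := sub_eq_zero.1 h
        rw [pow_two]
        nth_rewrite 2 [this]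
        exact mul_inv_cancel₀ hξ0
      have := hξ.dvd_of_pow_eq_one 2 h1
      have := Nat.le_of_dvd (by norm_num) this
      omega
    let M : Matrix.SpecialLinearGroup (Fin 2) K := ⟨!![0, -1; 1, 2 * c], by simp [Matrix.det_fin_two]⟩
    let ML : Matrix (Fin 2) (Fin 2) L := !![0, -1; 1, ξ + ξ⁻¹]
    let P : Matrix (Fin 2) (Fin 2) L := !![1, 1; -ξ, -ξ⁻¹]
    let D : Matrix (Fin 2) (Fin 2) L := Matrix.diagonal ![ξ, ξ⁻¹]
    have hML : ∀ l : ℕ, ((M ^ l : Matrix.SpecialLinearGroup (Fin 2) K) : Matrix (Fin 2) (Fin 2) K).map (algebraMap K L) = ML ^ l := by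
      intro l
      have h1 : ((M : Matrix (Fin 2) (Fin 2) K)).map (algebraMap K L) = ML := by
        ext i j
        fin_cases i <;> fin_cases j <;> simp [M, ML, ← hc]
      rw [Matrix.SpecialLinearGroup.coe_pow, ← h1]
      exact (map_pow (algebraMap K L).mapMatrix _ l)
    have hMP : ML * P = P * D := by
      ext i j
      fin_cases i <;> fin_cases j <;>
        simp [ML, P, D, Matrix.mul_apply, Fin.sum_univ_two] <;> field_simp <;> ring
    have hMPl : ∀ l : ℕ, ML ^ l * P = P * D ^ l := by
      intro l
      induction l with
      | zero => simp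
      | succ l ih => rw [pow_succ, mul_assoc, hMP, ← mul_assoc, ih, mul_assoc, ← pow_succ]
    have hdet : IsUnit P.det := by
      rw [isUnit_iff_ne_zero]
      simp only [P, Matrix.det_fin_two_of]
      intro h
      apply hne
      linear_combination h
    have hDl : ∀ l : ℕ, D ^ l = Matrix.diagonal ![ξ ^ l, (ξ⁻¹) ^ l] := by
      intro l
      simp only [D, Matrix.diagonal_pow]
      congr 1
      ext i
      fin_cases i <;> simp
    have key : ∀ l : ℕ, M ^ l = 1 ↔ ξ ^ l = 1 := by
      intro l
      constructor
      · intro h
        have h1 : ML ^ l = 1 := by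
          rw [← hML l, h]
          simp
        have h2 : P * D ^ l = P := by rw [← hMPl l, h1, one_mul]
        have h3 : D ^ l = 1 := by
          have := congrArg (fun X => P⁻¹ * X) h2
          simpa [← mul_assoc, Matrix.nonsing_inv_mul _ hdet] using this
        have h4 := congrFun (congrFun h3 0) 0
        rw [hDl l] at h4
        simpa using h4
      · intro h
        have h3 : D ^ l = 1 := by
          rw [hDl l, inv_pow, h]
          ext i j
          fin_cases i <;> fin_cases j <;> simp
        have h2 : ML ^ l * P = P := by rw [hMPl l, h3, mul_one]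
        have h1 : ML ^ l = 1 := by
          have := congrArg (fun X => X * P⁻¹) h2
          simpa [mul_assoc, Matrix.mul_nonsing_inv _ hdet] using this
        apply Subtype.ext
        have hinj : Function.Injective ((algebraMap K L).mapMatrix (m := Fin 2)) := by
          intro A B hAB
          ext i j
          have := congrFun (congrFun hAB i) j
          simpa using this
        apply hinj
        have := hML l
        simp only [RingHom.mapMatrix_apply]
        rw [this, h1]
        simp
    refine ⟨M, ?_⟩
    rw [orderOf_eq_iff (by omega)]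
    refine ⟨(key n).2 hξ.pow_eq_one, ?_⟩
    intro m hm hm0 hM
    exact hξ.pow_ne_one_of_pos_of_lt hm0.ne' hm ((key m).1 hM)

end Groth.Agent.S14848
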