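import Groth.Statements.S14849
import Mathlib.Tactic
-- import your own Groth.Agent.* helpers here

set_option autoImplicit false
universe u v
open McKay

namespace Groth.Agent.S14849

section abstract

variable {G : Type*} [Group G]

noncomputable def E (A : G) (n : ℕ) (hA : A ^ (2 * n) = 1) : ZMod (2 * n) →+ Additive G :=
  ZMod.lift (2 * n) ⟨zmultiplesHom (Additive G) (Additive.ofMul A), by
    simp only [zmultiplesHom_apply]
    rw [← ofMul_zpow]
    have : A ^ ((2 * n : ℕ) : ℤ) = 1 := by rw [zpow_natCast]; exact hA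
    rw [this]; rfl⟩

lemma E_intCast (A : G) (n : ℕ) (hA : A ^ (2 * n) = 1) (k : ℤ) :
    (E A n hA (k : ZMod (2 * n))).toMul = A ^ k := by
  unfold E
  rw [ZMod.lift_coe]
  simp

lemma E_exists (A : G) (n : ℕ) (hA : A ^ (2 * n) = 1) (i : ZMod (2 * n)) :
    ∃ k : ℤ, (k : ZMod (2 * n)) = i ∧ (E A n hA i).toMul = A ^ k := by
  obtain ⟨k, rfl⟩ := ZMod.intCast_surjective i
  exact ⟨k, rfl, E_intCast A n hA k⟩

theorem exists_injective_hom (A B : G) (n : ℕ) (hn : 2 ≤ n) (hord : orderOf A = 2 * n)
    (hBB : B * B = A ^ n) (hABA : A * B * A = B) :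
    ∃ f : QuaternionGroup n →* G, Function.Injective f := by
  have hA : A ^ (2 * n) = 1 := by rw [← hord]; exact pow_orderOf_eq_one A
  set e := E A n hA with he
  have hconj : ∀ k : ℤ, A ^ k * B = B * A ^ (-k) := by
    have h1 : B⁻¹ * A * B = A⁻¹ := by
      have : A * B = B * A⁻¹ := eq_mul_inv_of_mul_eq hABA
      calc B⁻¹ * A * B = B⁻¹ * (A * B) := by group
        _ = B⁻¹ * (B * A⁻¹) := by rw [this]
        _ = A⁻¹ := by group
    intro k
    have h2 : B⁻¹ * A ^ k * B = (A⁻¹) ^ k := by
      rw [← h1]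
      have := conj_zpow (a := B⁻¹) (b := A) (i := k)
      simp only [inv_inv] at this
      rw [this]
    rw [inv_zpow, ← zpow_neg] at h2
    rw [← h2]; group
  have heB : ∀ i, (e i).toMul * B = B * (e (-i)).toMul := by
    intro i
    obtain ⟨k, rfl, hk⟩ := E_exists A n hA i
    rw [hk]
    have : (-(k : ZMod (2 * n))) = ((-k : ℤ) : ZMod (2 * n)) := by push_cast; rfl
    rw [this, he, E_intCast, hconj]
  have headd : ∀ i j, (e (i + j)).toMul = (e i).toMul * (e j).toMul := by
    intro i j; rw [map_add]; rfl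
  have hen : (e (n : ZMod (2 * n))).toMul = A ^ n := by
    have : ((n : ℤ) : ZMod (2 * n)) = (n : ZMod (2 * n)) := by push_cast; rfl
    rw [← this, he, E_intCast, zpow_natCast]
  have he0 : (e 0).toMul = 1 := by rw [map_zero]; rfl
  let f : QuaternionGroup n → G := fun g => match g with
    | QuaternionGroup.a i => (e i).toMul
    | QuaternionGroup.xa i => B * (e i).toMul
  have hf1 : f 1 = 1 := he0
  have hfmul : ∀ g h, f (g * h) = f g * f h := by
    rintro (i | i) (j | j)
    · exact headd i j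
    · change B * (e (j - i)).toMul = (e i).toMul * (B * (e j).toMul)
      rw [← mul_assoc, heB, mul_assoc, ← headd, neg_add_eq_sub]
    · change B * (e (i + j)).toMul = B * (e i).toMul * (e j).toMul
      rw [headd, mul_assoc]
    · change (e ((n : ZMod (2 * n)) + j - i)).toMul = B * (e i).toMul * (B * (e j).toMul)
      have : B * (e i).toMul * (B * (e j).toMul) = B * ((e i).toMul * B) * (e j).toMul := by group
      rw [this, heB, ← mul_assoc, hBB, ← hen, mul_assoc, ← headd, ← headd]
      congr 2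
      ring
  refine ⟨⟨⟨f, hf1⟩, hfmul⟩, ?_⟩
  rw [injective_iff_map_eq_one]
  have hkey : ∀ i, (e i).toMul = 1 → i = 0 := by
    intro i hi
    obtain ⟨k, rfl, hk⟩ := E_exists A n hA i
    rw [hk] at hi
    have := orderOf_dvd_iff_zpow_eq_one.mpr hi
    rw [hord] at this
    exact (ZMod.intCast_zmod_eq_zero_iff_dvd k (2 * n)).mpr this
  rintro (i | i) hg
  · change (e i).toMul = 1 at hg
    rw [hkey i hg]; rfl
  · exfalso
    change B * (e i).toMul = 1 at hg
    have hB : B = (e (-i)).toMul := by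
      have h3 : (e (-i)).toMul = ((e i).toMul)⁻¹ := by rw [map_neg]; rfl
      rw [h3]
      exact eq_inv_of_mul_eq_one_left hg
    obtain ⟨k, -, hk⟩ := E_exists A n hA (-i)
    rw [hk] at hB
    have hcomm : A * B = B * A := by rw [hB, ← zpow_one_add, ← zpow_add_one, add_comm]
    have hA2 : A ^ 2 = 1 := by
      have h4 : B * (A * A) = B := by
        rw [← mul_assoc, ← hcomm]; exact hABA
      have := mul_left_cancel (a := B) (b := A * A) (c := 1) (by rw [h4, mul_one])
      rw [sq]; exact this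
    have := orderOf_dvd_of_pow_eq_one hA2
    rw [hord] at this
    have := Nat.le_of_dvd (by norm_num) this
    omega

end abstract

section concrete

variable {L : Type v} [Field L]

lemma mulVec_eigen (cL t : L) (ht : t * t - 2 * cL * t + 1 = 0) :
    (!![cL, cL ^ 2 - 1; 1, cL] : Matrix (Fin 2) (Fin 2) L).mulVec ![t - cL, 1] = t • ![t - cL, 1] := by
  ext i
  fin_cases i
  · simp [Matrix.mulVec, dotProduct, Fin.sum_univ_two]
    linear_combination -ht
  · simp [Matrix.mulVec, dotProduct, Fin.sum_univ_two]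

lemma pow_mulVec_eigen (M : Matrix (Fin 2) (Fin 2) L) (w : Fin 2 → L) (t : L)
    (h : M.mulVec w = t • w) (m : ℕ) : (M ^ m).mulVec w = t ^ m • w := by
  induction m with
  | zero => simp
  | succ m ih =>
    rw [pow_succ, ← Matrix.mulVec_mulVec, h, Matrix.mulVec_smul, ih, smul_smul, pow_succ, mul_comm]

lemma eq_zero_of_mulVec (M : Matrix (Fin 2) (Fin 2) L) (a b : L) (hab : a ≠ b)
    (ha : M.mulVec ![a, 1] = 0) (hb : M.mulVec ![b, 1] = 0) : M = 0 := by
  have key : ∀ i, M i 0 = 0 ∧ M i 1 = 0 := by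
    intro i
    have h1 := congrFun ha i
    have h2 := congrFun hb i
    simp [Matrix.mulVec, dotProduct, Fin.sum_univ_two] at h1 h2
    have h3 : M i 0 * (a - b) = 0 := by linear_combination h1 - h2
    have h4 : M i 0 = 0 := by
      rcases mul_eq_zero.mp h3 with h | h
      · exact h
      · exact absurd (sub_eq_zero.mp h) hab
    refine ⟨h4, ?_⟩
    rw [h4] at h1
    simpa using h1
  ext i j
  fin_cases j
  · exact (key i).1
  · exact (key i).2

end concrete

/-- Let K be a field of characteristic zero, L an extension field of K, n ≥ 2, and ξ ∈ L a primitive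
2n-th root of unity with ξ + ξ⁻¹ = 2c for some c ∈ K. If the Hilbert symbol of -1 and c² - 1 over K
equals 1, i.e. x² - (c² - 1) y² = -1 has a solution in K, then the binary dihedral group of order 4n
(generators σ, τ with τ² = σⁿ = (τσ)²) is isomorphic to a subgroup of SL(2, K). (The published
statement is an equivalence; this row is the direction realising the group from a solution of the
conic.) -/
theorem result {K : Type u} {L : Type v}
    [Field K] [Field L] [CharZero K] [Algebra K L] (n : ℕ) (hn : 2 ≤ n) (ξ : L)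
    (hξ : IsPrimitiveRoot ξ (2 * n)) (c : K) (hc : algebraMap K L (2 * c) = ξ + ξ⁻¹)
    (hsol : ∃ x y : K, x ^ 2 - (c ^ 2 - 1) * y ^ 2 = -1) :
    ∃ f : QuaternionGroup n →* Matrix.SpecialLinearGroup (Fin 2) K, Function.Injective f := by
  obtain ⟨x, y, hxy⟩ := hsol
  have hn0 : 0 < 2 * n := by omega
  have hξ0 : ξ ≠ 0 := hξ.ne_zero hn0.ne'
  set φ := algebraMap K L with hφ
  set cL := φ c with hcL
  have hξ2 : ξ * ξ - 2 * cL * ξ + 1 = 0 := by
    have h1 : 2 * cL = ξ + ξ⁻¹ := by rw [← hc, map_mul, map_ofNat]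
    rw [h1]
    field_simp
    ring
  have hξinv2 : ξ⁻¹ * ξ⁻¹ - 2 * cL * ξ⁻¹ + 1 = 0 := by
    have h1 : 2 * cL = ξ + ξ⁻¹ := by rw [← hc, map_mul, map_ofNat]
    rw [h1]
    field_simp
    ring
  have hξn : ξ ^ n = -1 := by
    have h2 : IsPrimitiveRoot (ξ ^ n) 2 := hξ.pow hn0 (by ring)
    exact h2.eq_neg_one_of_two_right
  have hξne : ξ ≠ ξ⁻¹ := by
    intro h
    have h1 : ξ ^ 2 = 1 := by
      rw [sq]; nth_rewrite 2 [h]; exact mul_inv_cancel₀ hξ0
    have := hξ.dvd_of_pow_eq_one 2 h1
    have := Nat.le_of_dvd (by norm_num) this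
    omega
  set Amat : Matrix (Fin 2) (Fin 2) K := !![c, c ^ 2 - 1; 1, c] with hAmat
  set Bmat : Matrix (Fin 2) (Fin 2) K := !![x, -((c ^ 2 - 1) * y); y, -x] with hBmat
  have hdetA : Amat.det = 1 := by
    rw [hAmat, Matrix.det_fin_two_of]; ring
  have hdetB : Bmat.det = 1 := by
    rw [hBmat, Matrix.det_fin_two_of]; linear_combination -hxy
  set AL : Matrix (Fin 2) (Fin 2) L := !![cL, cL ^ 2 - 1; 1, cL] with hAL
  have hmap : φ.mapMatrix Amat = AL := by
    ext i j
    fin_cases i <;> fin_cases j <;> simp [hAmat, hAL, hcL]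
  have hmappow : ∀ m : ℕ, φ.mapMatrix (Amat ^ m) = AL ^ m := by
    intro m; rw [map_pow, hmap]
  have hv := mulVec_eigen cL ξ hξ2
  have hv' := mulVec_eigen cL ξ⁻¹ hξinv2
  have hALn : AL ^ n = -1 := by
    have h0 : AL ^ n + 1 = 0 := by
      apply eq_zero_of_mulVec (AL ^ n + 1) (ξ - cL) (ξ⁻¹ - cL)
      · intro h; exact hξne (sub_left_injective h)
      · rw [Matrix.add_mulVec, pow_mulVec_eigen AL _ ξ hv n, hξn, Matrix.one_mulVec]
        simp
      · rw [Matrix.add_mulVec, pow_mulVec_eigen AL _ ξ⁻¹ hv' n, inv_pow, hξn, Matrix.one_mulVec]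
        simp
    exact eq_neg_of_add_eq_zero_left h0
  have hinj : Function.Injective (φ.mapMatrix : Matrix (Fin 2) (Fin 2) K →+* Matrix (Fin 2) (Fin 2) L) :=
    fun M N h => Matrix.map_injective φ.injective h
  have hAn : Amat ^ n = -1 := by
    apply hinj
    rw [hmappow, hALn, map_neg, map_one]
  have hBB : Bmat * Bmat = -1 := by
    rw [hBmat]
    ext i j
    fin_cases i <;> fin_cases j <;> simp [Matrix.mul_apply, Fin.sum_univ_two] <;>
      first | ring1 | linear_combination hxy
  have hABA : Amat * Bmat * Amat = Bmat := by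
    rw [hBmat, hAmat]
    ext i j
    fin_cases i <;> fin_cases j <;> simp [Matrix.mul_apply, Fin.sum_univ_two] <;> ring
  let A : Matrix.SpecialLinearGroup (Fin 2) K := ⟨Amat, hdetA⟩
  let B : Matrix.SpecialLinearGroup (Fin 2) K := ⟨Bmat, hdetB⟩
  have hcoe : ∀ m : ℕ, ((A ^ m : Matrix.SpecialLinearGroup (Fin 2) K) : Matrix (Fin 2) (Fin 2) K) = Amat ^ m := by
    intro m; rw [Matrix.SpecialLinearGroup.coe_pow]
  apply exists_injective_hom A B n hn
  · rw [orderOf_eq_iff hn0]
    constructor
    · apply Subtype.ext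
      rw [hcoe, mul_comm, pow_mul, hAn]
      simp
    · intro m hm hm0 hAm
      have h1 : Amat ^ m = 1 := by
        rw [← hcoe, hAm]; rfl
      have h2 : AL ^ m = 1 := by rw [← hmappow, h1, map_one]
      have h3 := pow_mulVec_eigen AL _ ξ hv m
      rw [h2, Matrix.one_mulVec] at h3
      have h4 := congrFun h3 1
      simp at h4
      have := hξ.dvd_of_pow_eq_one m h4.symm
      have := Nat.le_of_dvd hm0 this
      omega
  · apply Subtype.ext
    rw [hcoe, hAn]
    exact hBB
  · apply Subtype.ext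
    exact hABA

end Groth.Agent.S14849
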