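import Groth.Statements.S14856
import Mathlib.Tactic
-- import your own Groth.Agent.* helpers here

set_option autoImplicit false
universe u
open CAlg

namespace Groth.Agent.S14856

lemma ghost_eq (p : ℕ) [Fact p.Prime] {S : Type*} [CommRing S] (x : WittVector p S) (n : ℕ) :
    WittVector.ghostComponent n x =
      ∑ i ∈ Finset.range (n + 1), (p : S) ^ i * x.coeff i ^ p ^ (n - i) := by
  rw [WittVector.ghostComponent_apply, wittPolynomial_eq_sum_C_mul_X_pow, map_sum]
  apply Finset.sum_congr rfl
  intro i _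
  simp

lemma term_dvd (p : ℕ) [hp : Fact p.Prime] {S : Type*} [CommRing S] (s : ℕ) (hs : 1 ≤ s)
    (a : S) (ha : (p : S) ^ s ∣ a) (i n : ℕ) (hin : i ≤ n) :
    (p : S) ^ (n + s) ∣ (p : S) ^ i * a ^ p ^ (n - i) := by
  obtain ⟨c, rfl⟩ := ha
  have h2 : 2 ≤ p := hp.out.two_le
  have hk : n - i + 1 ≤ p ^ (n - i) := Nat.lt_pow_self h2
  have hle : n + s ≤ i + s * p ^ (n - i) := by
    have h1 : s * (n - i + 1) ≤ s * p ^ (n - i) := Nat.mul_le_mul_left s hk
    have h3 : (n - i) + s ≤ s * (n - i + 1) := by nlinarith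
    omega
  rw [mul_pow, ← pow_mul, ← mul_assoc, ← pow_add]
  exact dvd_mul_of_dvd_left (pow_dvd_pow _ hle) _

lemma pow_cancel (p : ℕ) {S : Type*} [CommRing S]
    (hS : ∀ y : S, (p : S) * y = 0 → y = 0) (k : ℕ) (y : S) (h : (p : S) ^ k * y = 0) : y = 0 := by
  induction k with
  | zero => simpa using h
  | succ k ih =>
    apply ih
    apply hS
    rw [← mul_assoc, ← pow_succ']
    exact h

/-- Let p be a prime and S a commutative ring in which p is a non-zero-divisor. For a p-typical Witt
vector x over S, a natural number m and an integer s ≥ 1, the power p^s divides each of the Witt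
components x_0, …, x_m if and only if p^(n+s) divides the n-th ghost component w_n(x) = x_0^(p^n) +
p x_1^(p^(n-1)) + ⋯ + p^n x_n for every n ≤ m. -/
theorem result (p : ℕ) [Fact p.Prime] (S : Type u) [CommRing S]
    (hS : ∀ y : S, (p : S) * y = 0 → y = 0) (x : WittVector p S) (m s : ℕ) (hs : 1 ≤ s) :
    (∀ i ≤ m, (p : S) ^ s ∣ x.coeff i) ↔
      (∀ n ≤ m, (p : S) ^ (n + s) ∣ WittVector.ghostComponent n x) := by
  constructor
  · intro h n hn
    rw [ghost_eq]
    apply Finset.dvd_sum
    intro i hi
    have hin : i ≤ n := Nat.lt_succ_iff.mp (Finset.mem_range.mp hi)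
    exact term_dvd p s hs _ (h i (hin.trans hn)) i n hin
  · intro h i
    induction i using Nat.strong_induction_on with
    | _ i ih =>
      intro him
      have hw := h i him
      rw [ghost_eq, Finset.sum_range_succ, Nat.sub_self, pow_zero, pow_one] at hw
      have hlow : (p : S) ^ (i + s) ∣ ∑ j ∈ Finset.range i, (p : S) ^ j * x.coeff j ^ p ^ (i - j) := by
        apply Finset.dvd_sum
        intro j hj
        have hji : j < i := Finset.mem_range.mp hj
        exact term_dvd p s hs _ (ih j hji (hji.le.trans him)) j i hji.le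
      have htop : (p : S) ^ (i + s) ∣ (p : S) ^ i * x.coeff i := (dvd_add_right hlow).mp hw
      obtain ⟨c, hc⟩ := htop
      refine ⟨c, ?_⟩
      have h0 : (p : S) ^ i * (x.coeff i - (p : S) ^ s * c) = 0 := by
        rw [mul_sub, hc, pow_add]; ring
      exact sub_eq_zero.mp (pow_cancel p hS i _ h0)

end Groth.Agent.S14856
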