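import Groth.Statements.S14857
import Mathlib.RingTheory.WittVector.Identities
import Mathlib.RingTheory.WittVector.Domain
import Mathlib.RingTheory.WittVector.Teichmuller
-- import your own Groth.Agent.* helpers here

set_option autoImplicit false
open CAlg

namespace Groth.Agent.S14857

lemma dvd_pow_of_coeff_zero_eq (p : ℕ) [Fact p.Prime] {R : Type*} [CommRing R]
    (x : WittVector p R) (hx : x.coeff 0 = (p : R)) : (p : WittVector p R) ∣ x ^ p := by
  have h0 : (x - (p : WittVector p R)).coeff 0 = 0 := by
    have h1 : WittVector.constantCoeff (x - (p : WittVector p R)) = 0 := by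
      rw [map_sub, map_natCast]
      change x.coeff 0 - (p : R) = 0
      rw [hx, sub_self]
    exact h1
  have hV : x - (p : WittVector p R) =
      WittVector.verschiebung ((x - (p : WittVector p R)).shift 1) := by
    have := WittVector.eq_iterate_verschiebung (x := x - (p : WittVector p R)) (n := 1)
      (by intro i hi; interval_cases i; exact h0)
    simpa using this
  set z := (x - (p : WittVector p R)).shift 1 with hz
  have hsq : (p : WittVector p R) ∣ (WittVector.verschiebung z) ^ 2 := by
    refine ⟨WittVector.verschiebung (z * z), ?_⟩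
    rw [sq, ← WittVector.verschiebung_mul_frobenius, WittVector.frobenius_verschiebung,
      ← mul_assoc, ← nsmul_eq_mul', map_nsmul, nsmul_eq_mul]
  have hp2 : 2 ≤ p := (Fact.out : p.Prime).two_le
  have hpow : (p : WittVector p R) ∣ (WittVector.verschiebung z) ^ p :=
    dvd_trans hsq (pow_dvd_pow _ hp2)
  have hsub : (p : WittVector p R) ∣ x ^ p - (WittVector.verschiebung z) ^ p := by
    refine dvd_trans ?_ (sub_dvd_pow_sub_pow x (WittVector.verschiebung z) p)
    refine ⟨1, ?_⟩
    rw [mul_one, ← hV]
    ring
  have := dvd_add hsub hpow
  rwa [sub_add_cancel] at this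

/-- For a prime p, the Teichmüller representative [p^p] of the element p^p of the p-adic integers is
divisible by p in the ring of p-typical Witt vectors W(ℤ_p). -/
theorem result (p : ℕ) [Fact p.Prime] :
    (p : WittVector p ℤ_[p]) ∣ WittVector.teichmuller p ((p : ℤ_[p]) ^ p) := by
  rw [map_pow]
  exact dvd_pow_of_coeff_zero_eq p _ (WittVector.teichmuller_coeff_zero p _)

end Groth.Agent.S14857
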