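import Groth.Statements.S14860
import Groth.Agent.Lib.Helper95.WittTruncProj
-- import your own Groth.Agent.* helpers here

set_option autoImplicit false
universe u v
open CAlg

namespace Groth.Agent.S14860

open Groth.Agent.Lib.Helper95.FiltProj Groth.Agent.Lib.Helper95.WittTruncProj

/-- Let p be a prime and R a commutative ring in which p is nilpotent; write W = W(R) for the p-typical
Witt vectors and, for n ≥ 0, I_n ⊆ W for the ideal of Witt vectors whose first n components vanish
(the kernel of the truncation W → W_n(R), so W/I_n = W_n(R)). For a W-module P conditions (i) and
(ii) below are equivalent: (i) P is a projective W-module of finite type; (ii) P is separated for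
the filtration by the submodules I_n P, and for every n the W_n(R)-module P/I_n P is finitely
generated and projective. (The published statement is made for every ℤ_(p)-algebra R, the section's
standing convention; over R = ℚ, where W(ℚ) ≅ ℚ^ℕ by the ghost map, the module ⊕_ℕ ℚ satisfies (ii)
but is not finitely generated, and the published proof uses that I_1 is nilpotent in each W_n(R),
which holds when p is nilpotent in R; so p is taken nilpotent here. The third equivalent condition
of the published statement, freeness Zariski-locally on R, is not rendered.) -/
theorem result (p : ℕ) [Fact p.Prime] (R : Type u) [CommRing R]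
    (hp : IsNilpotent (p : R))
    (P : Type v) [AddCommGroup P] [Module (WittVector p R) P] :
    (Module.Finite (WittVector p R) P ∧ Module.Projective (WittVector p R) P) ↔
      ((⨅ n : ℕ, (RingHom.ker (WittVector.truncate (p := p) (R := R) n) • (⊤ : Submodule (WittVector p R) P))) = ⊥ ∧
        ∀ n : ℕ, Module.Finite (WittVector p R ⧸ RingHom.ker (WittVector.truncate (p := p) (R := R) n))
              (P ⧸ (RingHom.ker (WittVector.truncate (p := p) (R := R) n) • (⊤ : Submodule (WittVector p R) P))) ∧
            Module.Projective (WittVector p R ⧸ RingHom.ker (WittVector.truncate (p := p) (R := R) n))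
              (P ⧸ (RingHom.ker (WittVector.truncate (p := p) (R := R) n) • (⊤ : Submodule (WittVector p R) P)))) := by
  constructor
  · rintro ⟨hfin, hproj⟩
    refine ⟨?_, fun n => ⟨inferInstance, projective_quotient P _⟩⟩
    rw [eq_bot_iff]
    intro x hx
    rw [Submodule.mem_iInf] at hx
    rw [Submodule.mem_bot]
    exact sep_of_projective (II p R) P (II_sep p R) x hx
  · rintro ⟨hsep, hn⟩
    have hPsep : ∀ x : P, (∀ n, x ∈ II p R n • (⊤ : Submodule (WittVector p R) P)) → x = 0 := by
      intro x hx
      have : x ∈ (⨅ n : ℕ, (RingHom.ker (WittVector.truncate (p := p) (R := R) n) •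
          (⊤ : Submodule (WittVector p R) P))) := by
        rw [Submodule.mem_iInf]; exact hx
      rw [hsep] at this
      exact (Submodule.mem_bot _).mp this
    have hfin : Module.Finite (WittVector p R ⧸ II p R 1)
        (P ⧸ II p R 1 • (⊤ : Submodule (WittVector p R) P)) := (hn 1).1
    have hproj : ∀ n, Module.Projective (WittVector p R ⧸ II p R n)
        (P ⧸ II p R n • (⊤ : Submodule (WittVector p R) P)) := fun n => (hn n).2
    exact finite_projective_of_filtration (II p R) P (II_antitone p R) (II_sep p R)
      (II_complete p R) (II_nil p R hp) hPsep

end Groth.Agent.S14860
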