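import Groth.Statements.S14861
import Groth.Agent.S14856
import Mathlib.RingTheory.WittVector.Truncated
import Mathlib.Tactic
-- import your own Groth.Agent.* helpers here

set_option autoImplicit false
universe u
open CAlg

namespace Groth.Agent.S14861

section aux

variable (p : ℕ) [Fact p.Prime] {R : Type u} [CommRing R]

local notation "𝕎" => WittVector p

noncomputable def T (m s : ℕ) : Ideal (𝕎 R) :=
  RingHom.ker ((WittVector.truncate (p := p) m).comp
    (WittVector.map (Ideal.Quotient.mk (Ideal.span {(p : R) ^ s}))))

lemma mem_T (m s : ℕ) (y : 𝕎 R) :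
    y ∈ T p m s ↔ ∀ i < m, y.coeff i ∈ Ideal.span {(p : R) ^ s} := by
  unfold T
  rw [RingHom.mem_ker, RingHom.comp_apply, ← RingHom.mem_ker, WittVector.mem_ker_truncate]
  simp only [WittVector.map_coeff, Ideal.Quotient.eq_zero_iff_mem]

lemma sub_mem_T (m s : ℕ) (y y' : 𝕎 R) :
    y - y' ∈ T p m s ↔ ∀ i < m, y.coeff i - y'.coeff i ∈ Ideal.span {(p : R) ^ s} := by
  unfold T
  rw [RingHom.mem_ker, map_sub, sub_eq_zero, RingHom.comp_apply, RingHom.comp_apply]
  constructor
  · intro h i hi
    have h1 := TruncatedWittVector.ext_iff.mp h ⟨i, hi⟩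
    simp only [WittVector.coeff_truncate, WittVector.map_coeff] at h1
    exact Ideal.Quotient.eq.mp h1
  · intro h
    ext ⟨i, hi⟩
    simp only [WittVector.coeff_truncate, WittVector.map_coeff]
    exact Ideal.Quotient.eq.mpr (h i hi)

lemma T_mono (m : ℕ) {s t : ℕ} (h : t ≤ s) : T p (R := R) m s ≤ T p m t := by
  intro y hy
  rw [mem_T] at hy ⊢
  intro i hi
  have := hy i hi
  rw [Ideal.mem_span_singleton] at this ⊢
  exact dvd_trans (pow_dvd_pow _ h) this


lemma mem_T_of_pow_mul_mem (hR : ∀ y : R, (p : R) * y = 0 → y = 0) (m u s : ℕ) (hs : u + 1 ≤ s)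
    (y : 𝕎 R) (h : (p : 𝕎 R) ^ u * y ∈ T p m s) : y ∈ T p m (s - u) := by
  cases m with
  | zero =>
    rw [mem_T]; intro i hi; exact absurd hi (Nat.not_lt_zero i)
  | succ m' =>
    rw [mem_T] at h ⊢
    have h1 := (Groth.Agent.S14856.result p R hR ((p : 𝕎 R) ^ u * y) m' s (by omega)).mp
      (fun i hi => Ideal.mem_span_singleton.mp (h i (Nat.lt_succ_of_le hi)))
    have h2 := (Groth.Agent.S14856.result p R hR y m' (s - u) (by omega)).mpr (by
      intro n hn
      obtain ⟨c, hc⟩ := h1 n hn
      rw [map_mul, map_pow, map_natCast] at hc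
      refine ⟨c, ?_⟩
      have h0 : (p : R) ^ u * (WittVector.ghostComponent n y - (p : R) ^ (n + (s - u)) * c) = 0 := by
        rw [mul_sub, hc, ← mul_assoc, ← pow_add]
        have : u + (n + (s - u)) = n + s := by omega
        rw [this, sub_self]
      exact sub_eq_zero.mp (Groth.Agent.S14856.pow_cancel p hR u _ h0))
    intro i hi
    exact Ideal.mem_span_singleton.mpr (h2 i (Nat.lt_succ_iff.mp hi))

lemma smodEq_iff (x y : R) (t : ℕ) :
    x ≡ y [SMOD ((Ideal.span {(p : R)}) ^ t • ⊤ : Submodule R R)] ↔
      x - y ∈ Ideal.span {(p : R) ^ t} := by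
  rw [SModEq.sub_mem, Ideal.span_singleton_pow]
  simp


end aux

/-- Let p be a prime and R a commutative ring without p-torsion which is complete and separated for the
p-adic topology. Let a be a p-typical Witt vector over R and m, u natural numbers. Suppose that for
every s the equation p^u·x = a has a solution in the truncated Witt ring W_m(R/p^s R), i.e. there is
z ∈ W(R) such that the first m Witt components of p^u·z − a lie in p^s R. Then the equation has a
solution in W_m(R): there is x ∈ W(R) such that the first m Witt components of p^u·x − a vanish.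
(The published statement asks only that R have no p-torsion; R is moreover taken p-adically complete
and separated here, which is the standing situation of the surrounding argument and is what the
published proof uses when it passes to the limit over s.) -/
theorem result (p : ℕ) [Fact p.Prime] (R : Type u) [CommRing R]
    (hR : ∀ y : R, (p : R) * y = 0 → y = 0) [IsAdicComplete (Ideal.span {(p : R)}) R]
    (a : WittVector p R) (m u : ℕ)
    (h : ∀ s : ℕ, ∃ z : WittVector p R, ∀ i < m, ((p : WittVector p R) ^ u * z - a).coeff i ∈ Ideal.span {(p : R) ^ s}) :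
    ∃ x : WittVector p R, ∀ i < m, ((p : WittVector p R) ^ u * x - a).coeff i = 0 := by
  choose z hz using h
  have hzT : ∀ s, (p : WittVector p R) ^ u * z s - a ∈ T p m s := fun s => (mem_T p m s _).mpr (hz s)
  have hdiff : ∀ t t', t ≤ t' → z (u + t) - z (u + t') ∈ T p m t := by
    intro t t' htt'
    rcases Nat.eq_zero_or_pos t with rfl | ht
    · rw [mem_T]; intro i _; simp
    · have h1 : (p : WittVector p R) ^ u * (z (u + t) - z (u + t')) ∈ T p m (u + t) := by
        have : (p : WittVector p R) ^ u * (z (u + t) - z (u + t')) =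
            ((p : WittVector p R) ^ u * z (u + t) - a) - ((p : WittVector p R) ^ u * z (u + t') - a) := by ring
        rw [this]
        exact Ideal.sub_mem _ (hzT _) (T_mono p m (by omega) (hzT _))
      have := mem_T_of_pow_mul_mem p hR m u (u + t) (by omega) _ h1
      simpa using this
  have hcauchy : ∀ i < m, ∃ L : R, ∀ t, (z (u + t)).coeff i - L ∈ Ideal.span {(p : R) ^ t} := by
    intro i hi
    have := IsPrecomplete.prec' (I := Ideal.span {(p : R)}) (M := R)
      (fun t => (z (u + t)).coeff i) (by
      intro t t' htt'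
      rw [smodEq_iff]
      exact (sub_mem_T p m t _ _).mp (hdiff t t' htt') i hi)
    obtain ⟨L, hL⟩ := this
    exact ⟨L, fun t => (smodEq_iff p _ _ t).mp (hL t)⟩
  classical
  let xc : ℕ → R := fun i => if hi : i < m then (hcauchy i hi).choose else 0
  let x : WittVector p R := WittVector.mk p xc
  have hx : ∀ t, z (u + t) - x ∈ T p m t := by
    intro t
    rw [sub_mem_T]
    intro i hi
    have : x.coeff i = (hcauchy i hi).choose := by simp [x, xc, hi]
    rw [this]
    exact (hcauchy i hi).choose_spec t
  refine ⟨x, ?_⟩
  have hfinal : ∀ t, (p : WittVector p R) ^ u * x - a ∈ T p m t := by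
    intro t
    have : (p : WittVector p R) ^ u * x - a =
        ((p : WittVector p R) ^ u * z (u + t) - a) - (p : WittVector p R) ^ u * (z (u + t) - x) := by ring
    rw [this]
    exact Ideal.sub_mem _ (T_mono p m (by omega) (hzT _)) (Ideal.mul_mem_left _ _ (hx t))
  intro i hi
  apply IsHausdorff.haus' (I := Ideal.span {(p : R)})
  intro t
  rw [smodEq_iff, sub_zero]
  exact (mem_T p m t _).mp (hfinal t) i hi

end Groth.Agent.S14861
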