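import Groth.Statements.S14862
import Groth.Agent.S14861
import Mathlib.RingTheory.WittVector.Truncated
import Mathlib.Tactic
-- import your own Groth.Agent.* helpers here

set_option autoImplicit false
universe u
open CAlg

namespace Groth.Agent.S14862

open Groth.Agent.S14861

section aux

variable (p : ℕ) [Fact p.Prime] {S : Type u} [CommRing S]

lemma sub_mem_ker_truncate_iff (r : ℕ) (y y' : WittVector p S) :
    y - y' ∈ RingHom.ker (WittVector.truncate (p := p) (R := S) r) ↔
      ∀ i < r, y.coeff i = y'.coeff i := by
  rw [RingHom.mem_ker, map_sub, sub_eq_zero]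
  constructor
  · intro h i hi
    have h1 := TruncatedWittVector.ext_iff.mp h ⟨i, hi⟩
    simpa only [WittVector.coeff_truncate] using h1
  · intro h
    ext ⟨i, hi⟩
    simp only [WittVector.coeff_truncate]
    exact h i hi

lemma ker_truncate_mono {r r' : ℕ} (h : r ≤ r') :
    RingHom.ker (WittVector.truncate (p := p) (R := S) r') ≤
      RingHom.ker (WittVector.truncate (p := p) (R := S) r) := by
  intro y hy
  rw [WittVector.mem_ker_truncate] at hy ⊢
  exact fun i hi => hy i (lt_of_lt_of_le hi h)

lemma mem_ker_truncate_of_pow_mul_mem (hS : ∀ y : S, (p : S) * y = 0 → y = 0)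
    [IsAdicComplete (Ideal.span {(p : S)}) S] (u r : ℕ) (y : WittVector p S)
    (h : (p : WittVector p S) ^ u * y ∈ RingHom.ker (WittVector.truncate (p := p) (R := S) r)) :
    y ∈ RingHom.ker (WittVector.truncate (p := p) (R := S) r) := by
  rw [WittVector.mem_ker_truncate] at h ⊢
  intro i hi
  apply IsHausdorff.haus' (I := Ideal.span {(p : S)})
  intro t
  rw [smodEq_iff, sub_zero]
  have h1 : (p : WittVector p S) ^ u * y ∈ T p r (u + t + 1) := by
    rw [mem_T]
    intro j hj
    rw [h j hj]
    exact Ideal.zero_mem _
  have h2 := mem_T_of_pow_mul_mem p hS r u (u + t + 1) (by omega) y h1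
  have h3 := (mem_T p r _ y).mp h2 i hi
  rw [Ideal.mem_span_singleton] at h3 ⊢
  exact dvd_trans (pow_dvd_pow _ (by omega)) h3

end aux


/-- Let p be a prime and S a commutative ring without p-torsion which is complete and separated for the
p-adic topology; write W = W(S) for the p-typical Witt vectors, I_r ⊆ W for the ideal of Witt
vectors whose first r components vanish (the image of the r-th iterate of the Verschiebung) and
W(p^s S) ⊆ W for the ideal of Witt vectors all of whose components lie in p^s S (the kernel of W(S)
→ W(S/p^s S)). Then for every natural number u the ideal p^u W is closed for the linear topology on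
W in which the ideals I_r + W(p^s S) form a neighbourhood basis of zero: the intersection over all r
and s of p^u W + I_r + W(p^s S) equals p^u W. (The published statement asks only that S have no
p-torsion; S is moreover taken p-adically complete and separated here, the case in which the result
is applied and through which the published proof goes.) -/
theorem result (p : ℕ) [Fact p.Prime] (S : Type u) [CommRing S]
    (hS : ∀ y : S, (p : S) * y = 0 → y = 0) [IsAdicComplete (Ideal.span {(p : S)}) S] (u : ℕ) :
    (⨅ r : ℕ, ⨅ s : ℕ,
        Ideal.span {(p : WittVector p S) ^ u} ⊔ RingHom.ker (WittVector.truncate (p := p) (R := S) r) ⊔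
          RingHom.ker (WittVector.map (p := p) (Ideal.Quotient.mk (Ideal.span {(p : S) ^ s})))) =
      Ideal.span {(p : WittVector p S) ^ u} := by
  apply le_antisymm
  · intro a ha
    simp only [Ideal.mem_iInf] at ha
    have hex : ∀ r : ℕ, ∃ x : WittVector p S,
        ∀ i < r, ((p : WittVector p S) ^ u * x - a).coeff i = 0 := by
      intro r
      apply Groth.Agent.S14861.result p S hS a r u
      intro s
      have h1 := ha r s
      rw [Submodule.mem_sup] at h1
      obtain ⟨bc, hbc, c, hc, rfl⟩ := h1
      rw [Submodule.mem_sup] at hbc
      obtain ⟨b0, hb0, b, hb, rfl⟩ := hbc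
      obtain ⟨z, rfl⟩ := Ideal.mem_span_singleton.mp hb0
      refine ⟨z, ?_⟩
      rw [← mem_T]
      have hbT : b ∈ T p r s := by
        rw [mem_T]
        intro i hi
        rw [(WittVector.mem_ker_truncate r b).mp hb i hi]
        exact Ideal.zero_mem _
      have hcT : c ∈ T p r s := by
        rw [mem_T]
        intro i _
        have := congrArg (fun w => w.coeff i) (RingHom.mem_ker.mp hc)
        simp only [WittVector.map_coeff, WittVector.zero_coeff] at this
        exact Ideal.Quotient.eq_zero_iff_mem.mp this
      have : (p : WittVector p S) ^ u * z - ((p : WittVector p S) ^ u * z + b + c) = -(b + c) := by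
        ring
      rw [this]
      exact Ideal.neg_mem_iff _ |>.mpr (Ideal.add_mem _ hbT hcT)
    choose xs hxs using hex
    have hxsI : ∀ r, (p : WittVector p S) ^ u * xs r - a ∈
        RingHom.ker (WittVector.truncate (p := p) (R := S) r) :=
      fun r => (WittVector.mem_ker_truncate r _).mpr (hxs r)
    have hagree : ∀ r r', r ≤ r' → ∀ i < r, (xs r).coeff i = (xs r').coeff i := by
      intro r r' hrr'
      rw [← sub_mem_ker_truncate_iff]
      apply mem_ker_truncate_of_pow_mul_mem p hS u r
      have : (p : WittVector p S) ^ u * (xs r - xs r') =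
          ((p : WittVector p S) ^ u * xs r - a) - ((p : WittVector p S) ^ u * xs r' - a) := by ring
      rw [this]
      exact Ideal.sub_mem _ (hxsI r) (ker_truncate_mono p hrr' (hxsI r'))
    let x : WittVector p S := WittVector.mk p (fun i => (xs (i + 1)).coeff i)
    have hx : ∀ r, x - xs r ∈ RingHom.ker (WittVector.truncate (p := p) (R := S) r) := by
      intro r
      rw [sub_mem_ker_truncate_iff]
      intro i hi
      exact hagree (i + 1) r hi i (Nat.lt_succ_self i)
    have hzero : (p : WittVector p S) ^ u * x - a = 0 := by
      ext i
      have h1 : (p : WittVector p S) ^ u * x - a ∈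
          RingHom.ker (WittVector.truncate (p := p) (R := S) (i + 1)) := by
        have : (p : WittVector p S) ^ u * x - a =
            (p : WittVector p S) ^ u * (x - xs (i + 1)) + ((p : WittVector p S) ^ u * xs (i + 1) - a) := by
          ring
        rw [this]
        exact Ideal.add_mem _ (Ideal.mul_mem_left _ _ (hx (i + 1))) (hxsI (i + 1))
      rw [WittVector.zero_coeff]
      exact (WittVector.mem_ker_truncate (i + 1) _).mp h1 i (Nat.lt_succ_self i)
    rw [Ideal.mem_span_singleton]
    exact ⟨x, (sub_eq_zero.mp hzero).symm⟩
  · exact le_iInf fun r => le_iInf fun s => le_sup_of_le_left le_sup_left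

end Groth.Agent.S14862
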