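import Groth.Statements.S14864
import Mathlib.RingTheory.WittVector.Identities
import Mathlib.RingTheory.WittVector.Domain
import Mathlib.RingTheory.WittVector.Truncated
import Mathlib.Tactic
-- import your own Groth.Agent.* helpers here

set_option autoImplicit false
universe u
open CAlg

namespace Groth.Agent.S14864

section aux

variable (p : ℕ) [Fact p.Prime] {R : Type u} [CommRing R]

local notation "𝕎" => WittVector p

lemma mem_ker_constantCoeff_iff (x : 𝕎 R) :
    x ∈ RingHom.ker (WittVector.constantCoeff : 𝕎 R →+* R) ↔ ∃ z : 𝕎 R, x = WittVector.verschiebung z := by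
  rw [RingHom.mem_ker]
  constructor
  · intro h
    have h0 : x.coeff 0 = 0 := h
    refine ⟨x.shift 1, ?_⟩
    have := WittVector.eq_iterate_verschiebung (x := x) (n := 1)
      (by intro i hi; interval_cases i; exact h0)
    simpa using this
  · rintro ⟨z, rfl⟩
    exact WittVector.verschiebung_coeff_zero z

lemma verschiebung_mul_verschiebung (a b : 𝕎 R) :
    WittVector.verschiebung a * WittVector.verschiebung b =
      (p : 𝕎 R) * WittVector.verschiebung (a * b) := by
  rw [← WittVector.verschiebung_mul_frobenius, WittVector.frobenius_verschiebung,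
    ← mul_assoc, ← nsmul_eq_mul', map_nsmul, nsmul_eq_mul]

lemma ker_sq_le :
    RingHom.ker (WittVector.constantCoeff : 𝕎 R →+* R) * RingHom.ker (WittVector.constantCoeff : 𝕎 R →+* R) ≤
      Ideal.span {(p : 𝕎 R)} * RingHom.ker (WittVector.constantCoeff : 𝕎 R →+* R) := by
  rw [Ideal.mul_le]
  intro r hr s hs
  obtain ⟨a, rfl⟩ := (mem_ker_constantCoeff_iff p r).mp hr
  obtain ⟨b, rfl⟩ := (mem_ker_constantCoeff_iff p s).mp hs
  rw [verschiebung_mul_verschiebung]
  exact Ideal.mul_mem_mul (Ideal.mem_span_singleton_self _)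
    ((mem_ker_constantCoeff_iff p _).mpr ⟨_, rfl⟩)

lemma ker_pow_succ_le (n : ℕ) :
    RingHom.ker (WittVector.constantCoeff : 𝕎 R →+* R) ^ (n + 1) ≤
      Ideal.span {(p : 𝕎 R)} ^ n * RingHom.ker (WittVector.constantCoeff : 𝕎 R →+* R) := by
  induction n with
  | zero => simp
  | succ n ih =>
    calc RingHom.ker (WittVector.constantCoeff : 𝕎 R →+* R) ^ (n + 1 + 1)
        = RingHom.ker (WittVector.constantCoeff : 𝕎 R →+* R) ^ (n + 1) *
            RingHom.ker (WittVector.constantCoeff : 𝕎 R →+* R) := pow_succ _ _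
      _ ≤ (Ideal.span {(p : 𝕎 R)} ^ n * RingHom.ker (WittVector.constantCoeff : 𝕎 R →+* R)) *
            RingHom.ker (WittVector.constantCoeff : 𝕎 R →+* R) := Ideal.mul_mono_left ih
      _ = Ideal.span {(p : 𝕎 R)} ^ n * (RingHom.ker (WittVector.constantCoeff : 𝕎 R →+* R) *
            RingHom.ker (WittVector.constantCoeff : 𝕎 R →+* R)) := mul_assoc _ _ _
      _ ≤ Ideal.span {(p : 𝕎 R)} ^ n * (Ideal.span {(p : 𝕎 R)} *
            RingHom.ker (WittVector.constantCoeff : 𝕎 R →+* R)) := Ideal.mul_mono_right (ker_sq_le p)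
      _ = Ideal.span {(p : 𝕎 R)} ^ (n + 1) * RingHom.ker (WittVector.constantCoeff : 𝕎 R →+* R) := by
          rw [← mul_assoc, ← pow_succ]

lemma p_pow_mem_ker_truncate (k : ℕ) (hk : (p : R) ^ k = 0) (n : ℕ) :
    ((p : 𝕎 R) ^ (k * n)) ∈ RingHom.ker (WittVector.truncate (p := p) (R := R) n) := by
  induction n with
  | zero =>
    rw [WittVector.mem_ker_truncate]
    intro i hi
    exact absurd hi (Nat.not_lt_zero i)
  | succ n ih =>
    rw [WittVector.mem_ker_truncate] at ih ⊢
    have hy := WittVector.eq_iterate_verschiebung (x := (p : 𝕎 R) ^ (k * n)) (n := n) ih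
    set w := ((p : 𝕎 R) ^ (k * n)).shift n with hw
    have hfix : (WittVector.frobenius : 𝕎 R →+* 𝕎 R)^[n] ((p : 𝕎 R) ^ k) = (p : 𝕎 R) ^ k := by
      apply Function.iterate_fixed
      rw [map_pow, map_natCast]
    have hprod : (p : 𝕎 R) ^ (k * (n + 1)) =
        WittVector.verschiebung^[n] (w * (p : 𝕎 R) ^ k) := by
      rw [mul_add, mul_one, pow_add, hy, WittVector.iterate_verschiebung_mul_left, hfix]
    rw [hprod]
    intro i hi
    rcases Nat.lt_succ_iff_lt_or_eq.mp hi with h | h
    · exact WittVector.iterate_verschiebung_coeff_eq_zero _ h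
    · subst h
      have h1 := WittVector.iterate_verschiebung_coeff (w * (p : 𝕎 R) ^ k) i 0
      rw [zero_add] at h1
      rw [h1]
      have h2 : (w * (p : 𝕎 R) ^ k).coeff 0 =
          WittVector.constantCoeff (w * (p : 𝕎 R) ^ k) := rfl
      rw [h2, map_mul, map_pow, map_natCast, hk, mul_zero]

end aux

/-- Let p be a prime and R a commutative ring in which p is nilpotent; write W = W(R) for the p-typical
Witt vectors, I ⊆ W for the kernel of the projection onto the zeroth component, and I_n ⊆ W for the
kernel of the truncation W → W_n(R). The p-adic topology on W equals its I-adic topology — every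
power of the ideal pW contains some power of I and every power of I contains some power of pW — and
this common topology is finer than the V-adic one: every I_n contains some power of pW. -/
theorem result (p : ℕ) [Fact p.Prime] (R : Type u) [CommRing R]
    (hp : IsNilpotent (p : R)) :
    (∀ n : ℕ, ∃ m : ℕ, (RingHom.ker (WittVector.constantCoeff : WittVector p R →+* R)) ^ m ≤ Ideal.span {(p : WittVector p R)} ^ n) ∧
      (∀ n : ℕ, ∃ m : ℕ, Ideal.span {(p : WittVector p R)} ^ m ≤ (RingHom.ker (WittVector.constantCoeff : WittVector p R →+* R)) ^ n) ∧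
        ∀ n : ℕ, ∃ m : ℕ, Ideal.span {(p : WittVector p R)} ^ m ≤ RingHom.ker (WittVector.truncate (p := p) (R := R) n) := by
  obtain ⟨k, hk⟩ := hp
  refine ⟨?_, ?_, ?_⟩
  · intro n
    exact ⟨n + 1, (ker_pow_succ_le p n).trans Ideal.mul_le_left⟩
  · intro n
    refine ⟨k * n, ?_⟩
    rw [pow_mul]
    apply Ideal.pow_right_mono
    rw [Ideal.span_singleton_pow, Ideal.span_singleton_le_iff_mem, RingHom.mem_ker, map_pow,
      map_natCast, hk]
  · intro n
    refine ⟨k * n, ?_⟩
    rw [Ideal.span_singleton_pow, Ideal.span_singleton_le_iff_mem]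
    exact p_pow_mem_ker_truncate p k hk n

end Groth.Agent.S14864
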