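import Groth.Statements.S14868


set_option autoImplicit false
universe u v w
open Disp

namespace Groth.Agent.S14868

open WittVector in
theorem F_eq_Vinv {p : ℕ} [Fact p.Prime] {R : Type u} [CommRing R]
    {P : Type v} [AddCommGroup P] [Module (WittVector p R) P]
    (D : W4c1extbt610.Display3n p R P) (x : P) :
    ∃ h : (verschiebung (1 : WittVector p R)) • x ∈ D.Q,
      D.F x = D.Vinv ⟨(verschiebung (1 : WittVector p R)) • x, h⟩ :=
  ⟨_, by rw [D.Vinv_verschiebung_smul 1 x, one_smul]⟩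

open WittVector in
theorem V_one_mul {p : ℕ} [Fact p.Prime] {R : Type u} [CommRing R] (b : WittVector p R) :
    verschiebung (1 : WittVector p R) * b = verschiebung (frobenius b) := by
  rw [← verschiebung_mul_frobenius, one_mul]

open WittVector in
theorem V_one_mul_V_one_mul {p : ℕ} [Fact p.Prime] {R : Type u} [CommRing R]
    (b : WittVector p R) :
    verschiebung (1 : WittVector p R) * (verschiebung (1 : WittVector p R) * b) =
      verschiebung ((p : WittVector p R) * frobenius b) := by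
  rw [V_one_mul b, V_one_mul, frobenius_verschiebung, mul_comm]

/-- Let p be a prime, R a commutative ring, W = W(R) its ring of p-typical Witt vectors with Frobenius σ
and Verschiebung V, and let (P_1, Q_1, F, V⁻¹) and (P_2, Q_2, F, V⁻¹) be 3n-displays over R. A
bilinear form of 3n-displays is a W-bilinear map ( , ) : P_1 × P_2 → W such that V((V⁻¹y_1, V⁻¹y_2))
= (y_1, y_2) for all y_1 ∈ Q_1 and y_2 ∈ Q_2. For such a form the following relations hold: (V⁻¹y_1,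
F x_2) = σ((y_1, x_2)) for y_1 ∈ Q_1, x_2 ∈ P_2; (F x_1, F x_2) = p·σ((x_1, x_2)) for x_1 ∈ P_1, x_2
∈ P_2; (F x_1, V⁻¹y_2) = σ((x_1, y_2)) for x_1 ∈ P_1, y_2 ∈ Q_2; and (y_1, y_2) lies in the ideal
I_R = V W for y_1 ∈ Q_1, y_2 ∈ Q_2. -/
theorem result (p : ℕ) [Fact p.Prime] (R : Type u) [CommRing R]
    (P₁ : Type v) [AddCommGroup P₁] [Module (WittVector p R) P₁]
    (P₂ : Type w) [AddCommGroup P₂] [Module (WittVector p R) P₂]
    (D₁ : W4c1extbt610.Display3n p R P₁) (D₂ : W4c1extbt610.Display3n p R P₂)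
    (B : P₁ →ₗ[WittVector p R] P₂ →ₗ[WittVector p R] WittVector p R)
    (hB : ∀ (y₁ : D₁.Q) (y₂ : D₂.Q),
      WittVector.verschiebung (B (D₁.Vinv y₁) (D₂.Vinv y₂)) = B (y₁ : P₁) (y₂ : P₂)) :
    (∀ (y₁ : D₁.Q) (x₂ : P₂), B (D₁.Vinv y₁) (D₂.F x₂) = WittVector.frobenius (B (y₁ : P₁) x₂)) ∧
      (∀ (x₁ : P₁) (x₂ : P₂),
        B (D₁.F x₁) (D₂.F x₂) = (p : WittVector p R) * WittVector.frobenius (B x₁ x₂)) ∧
      (∀ (x₁ : P₁) (y₂ : D₂.Q), B (D₁.F x₁) (D₂.Vinv y₂) = WittVector.frobenius (B x₁ (y₂ : P₂))) ∧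
      ∀ (y₁ : D₁.Q) (y₂ : D₂.Q), B (y₁ : P₁) (y₂ : P₂) ∈ W4c1extbt610.IV p R := by
  have hinj := WittVector.verschiebung_injective p R
  refine ⟨?_, ?_, ?_, ?_⟩
  · intro y₁ x₂
    obtain ⟨h, hF⟩ := F_eq_Vinv D₂ x₂
    apply hinj
    rw [hF, hB y₁ ⟨_, h⟩]
    simp only [map_smul, smul_eq_mul]
    exact V_one_mul _
  · intro x₁ x₂
    obtain ⟨h₁, hF₁⟩ := F_eq_Vinv D₁ x₁
    obtain ⟨h₂, hF₂⟩ := F_eq_Vinv D₂ x₂
    apply hinj
    rw [hF₁, hF₂, hB ⟨_, h₁⟩ ⟨_, h₂⟩]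
    simp only [map_smul, smul_eq_mul, LinearMap.smul_apply]
    exact V_one_mul_V_one_mul _
  · intro x₁ y₂
    obtain ⟨h, hF⟩ := F_eq_Vinv D₁ x₁
    apply hinj
    rw [hF, hB ⟨_, h⟩ y₂]
    simp only [map_smul, smul_eq_mul, LinearMap.smul_apply]
    exact V_one_mul _
  · intro y₁ y₂
    rw [← hB y₁ y₂]
    exact W4c1extbt610.verschiebung_mem_IV p R _

end Groth.Agent.S14868
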