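import Groth.Statements.S14869
import Mathlib.Tactic
-- import your own Groth.Agent.* helpers here

set_option autoImplicit false
universe u v w
open CAlg

namespace Groth.Agent.S14869

open TensorProduct in
lemma mk_one_surjective (S R : Type u) [CommRing S] [CommRing R] [Algebra S R]
    (hSR : Function.Surjective (algebraMap S R)) (P : Type v) [AddCommGroup P] [Module S P] :
    Function.Surjective (TensorProduct.mk S R P 1) := by
  intro t
  induction t using TensorProduct.induction_on with
  | zero => exact ⟨0, by simp⟩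
  | tmul r m =>
    obtain ⟨s, rfl⟩ := hSR r
    refine ⟨s • m, ?_⟩
    rw [TensorProduct.mk_apply, TensorProduct.tmul_smul, TensorProduct.smul_tmul', Algebra.smul_def,
      mul_one]
  | add a b ha hb =>
    obtain ⟨x, rfl⟩ := ha
    obtain ⟨y, rfl⟩ := hb
    exact ⟨x + y, map_add _ x y⟩

open TensorProduct in
/-- Let S → R be a surjective homomorphism of commutative rings, let π : P_1 → P_2 be a surjective
homomorphism of S-modules with P_2 projective, and let π̄ : R ⊗_S P_1 → R ⊗_S P_2 be its base
change. Then every R-linear section σ̄ of π̄ lifts to a section of π: there is an S-linear map σ :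
P_2 → P_1 with π ∘ σ = id whose base change R ⊗_S σ is σ̄. -/
theorem result (S R : Type u) [CommRing S] [CommRing R] [Algebra S R]
    (hSR : Function.Surjective (algebraMap S R))
    (P₁ : Type v) [AddCommGroup P₁] [Module S P₁]
    (P₂ : Type w) [AddCommGroup P₂] [Module S P₂] [Module.Projective S P₂]
    (π : P₁ →ₗ[S] P₂) (hπ : Function.Surjective π)
    (σ' : R ⊗[S] P₂ →ₗ[R] R ⊗[S] P₁) (hσ' : (π.baseChange R).comp σ' = LinearMap.id) :
    ∃ σ : P₂ →ₗ[S] P₁, π.comp σ = LinearMap.id ∧ σ.baseChange R = σ' := by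
  obtain ⟨σ₀, hσ₀⟩ := Module.projective_lifting_property π LinearMap.id hπ
  let β : P₂ →ₗ[S] R ⊗[S] P₁ :=
    ((σ' - σ₀.baseChange R).restrictScalars S).comp (TensorProduct.mk S R P₂ 1)
  obtain ⟨d, hd⟩ := Module.projective_lifting_property (TensorProduct.mk S R P₁ 1) β
    (mk_one_surjective S R hSR P₁)
  let q : P₁ →ₗ[S] P₁ := LinearMap.id - σ₀.comp π
  have hπq : π.comp q = 0 := by
    ext m
    have h1 : π (σ₀ (π m)) = π m := congr($hσ₀ (π m))
    simp [q, h1]
  refine ⟨σ₀ + q.comp d, ?_, ?_⟩
  · rw [LinearMap.comp_add, hσ₀, ← LinearMap.comp_assoc, hπq, LinearMap.zero_comp, add_zero]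
  · apply TensorProduct.AlgebraTensorModule.ext
    intro a m
    obtain ⟨s, rfl⟩ := hSR a
    have ha : (algebraMap S R s) ⊗ₜ[S] m = (1 : R) ⊗ₜ[S] (s • m) := by
      rw [TensorProduct.tmul_smul, TensorProduct.smul_tmul', Algebra.smul_def, mul_one]
    rw [ha]
    generalize s • m = m'
    have hdm : (1 : R) ⊗ₜ[S] d m' = σ' (1 ⊗ₜ m') - 1 ⊗ₜ σ₀ m' := by
      have := congr($hd m')
      simpa [β] using this
    have hπσ' : ∀ t, (π.baseChange R) (σ' t) = t := fun t => congr($hσ' t)
    have hq : (1 : R) ⊗ₜ[S] q (d m') = (q.baseChange R) ((1 : R) ⊗ₜ[S] d m') := by simp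
    have hqb : ∀ t, (q.baseChange R) t = t - (σ₀.baseChange R) ((π.baseChange R) t) := by
      intro t
      induction t using TensorProduct.induction_on with
      | zero => simp
      | tmul r n => simp [q]
      | add a b ha hb => rw [map_add, ha, hb, map_add, map_add]; abel
    have h3 : π (σ₀ m') = m' := congr($hσ₀ m')
    simp only [LinearMap.baseChange_tmul, LinearMap.add_apply, LinearMap.comp_apply,
      TensorProduct.tmul_add]
    rw [hq, hdm, hqb, map_sub, map_sub, hπσ', LinearMap.baseChange_tmul, LinearMap.baseChange_tmul,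
      LinearMap.baseChange_tmul, h3]
    abel

end Groth.Agent.S14869
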