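import Groth.Statements.S14875
import Mathlib

set_option autoImplicit false
universe u v
open PLie

namespace Groth.Agent.S14875

/-- Let `L` be a finite-dimensional Lie algebra over a field of characteristic `p` equipped with a
`p`-mapping `φ`, whose Killing form is non-degenerate. Let `U` and `H` be Lie subalgebras of `L`
such that `H` is the normaliser of `U`, `U` is the set of elements of `H` that lie in the solvable
radical of `H` and are `p`-nilpotent, and the orthogonal of `U` for the Killing form is closed under
the bracket. Then `U` is the orthogonal of `H` for the Killing form. (The published statement is for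
the Lie algebra of a reductive group over a field of characteristic `p` with its canonical
`p`-structure; this row states it for any finite-dimensional Lie algebra with a `p`-mapping.) -/
theorem result
    (k : Type u) [Field k] (p : ℕ) [Fact p.Prime] [CharP k p]
    (L : Type v) [LieRing L] [LieAlgebra k L] [Module.Finite k L]
    (φ : PLie.PMap k p L) (hκ : (killingForm k L).Nondegenerate)
    (U H : LieSubalgebra k L) (hH : H = U.normalizer)
    (hU : ∀ x : L, x ∈ U ↔ ∃ hx : x ∈ H, (⟨x, hx⟩ : ↥H) ∈ LieAlgebra.radical k ↥H ∧ PLie.IsPNilpotent φ x)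
    (hperp : ∀ a b : L, (∀ y ∈ U, killingForm k L a y = 0) → (∀ y ∈ U, killingForm k L b y = 0) →
      ∀ y ∈ U, killingForm k L ⁅a, b⁆ y = 0) :
    ∀ x : L, x ∈ U ↔ ∀ h ∈ H, killingForm k L h x = 0 := by
  classical
  have hsymm : ∀ a b : L, killingForm k L a b = killingForm k L b a :=
    LieModule.traceForm_comm k L L
  have hinv : ∀ a b c : L, killingForm k L ⁅a, b⁆ c = killingForm k L a ⁅b, c⁆ :=
    LieModule.traceForm_apply_lie_apply k L L
  have hUH : ∀ x ∈ U, x ∈ H := fun x hx => ((hU x).mp hx).1
  -- ad-nilpotency of elements of `U`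
  have key : ∀ (n : ℕ) (y : L),
      LieAlgebra.ad k L (φ.toFun^[n] y) = (LieAlgebra.ad k L y) ^ (p ^ n) := by
    intro n
    induction n with
    | zero => intro y; simp
    | succ n ih =>
      intro y
      rw [Function.iterate_succ_apply', φ.ad_map, ih, ← pow_mul, pow_succ]
  have hnil : ∀ x ∈ U, IsNilpotent (LieAlgebra.ad k L x) := by
    intro x hx
    obtain ⟨_, _, n, hn⟩ := (hU x).mp hx
    refine ⟨p ^ n, ?_⟩
    rw [← key, hn, map_zero]
  -- Engel: `L` is a nilpotent `U`-module
  have hEngel : LieModule.IsNilpotent ↥U L := by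
    rw [LieModule.isNilpotent_iff_forall' (R := k)]
    intro x
    have h1 : LieModule.toEnd k ↥U L x = LieAlgebra.ad k L (x : L) := by
      ext v
      rfl
    rw [h1]
    exact hnil x x.2
  obtain ⟨m, hm⟩ := (LieModule.isNilpotent_iff k ↥U L).mp hEngel
  -- the lower central series is stable under `H`
  have hnorm : ∀ h ∈ H, ∀ u ∈ U, ⁅h, u⁆ ∈ U := by
    intro h hh u hu
    rw [hH] at hh
    exact (U.mem_normalizer_iff h).mp hh u hu
  have hstab : ∀ (i : ℕ) (h : L), h ∈ H → ∀ v ∈ LieModule.lowerCentralSeries k ↥U L i,
      ⁅h, v⁆ ∈ LieModule.lowerCentralSeries k ↥U L i := by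
    intro i
    induction i with
    | zero => intro h _ v _; simp
    | succ i ih =>
      intro h hh v hv
      rw [LieModule.lowerCentralSeries_succ] at hv ⊢
      rw [← LieSubmodule.mem_toSubmodule, LieSubmodule.lieIdeal_oper_eq_linear_span'] at hv
      induction hv using Submodule.span_induction with
      | mem w hw =>
        obtain ⟨x, _, n, hn, rfl⟩ := hw
        have e : ⁅h, ⁅x, n⁆⁆ = ⁅(⟨⁅h, (x : L)⁆, hnorm h hh x x.2⟩ : ↥U), n⁆ + ⁅x, ⁅h, n⁆⁆ := by
          change ⁅h, ⁅(x : L), n⁆⁆ = ⁅⁅h, (x : L)⁆, n⁆ + ⁅(x : L), ⁅h, n⁆⁆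
          exact leibniz_lie h (x : L) n
        rw [e]
        refine add_mem ?_ ?_
        · exact LieSubmodule.lie_mem_lie (LieSubmodule.mem_top _) hn
        · exact LieSubmodule.lie_mem_lie (LieSubmodule.mem_top _) (ih h hh n hn)
      | zero => simp
      | add a b _ _ ha hb => rw [lie_add]; exact add_mem ha hb
      | smul c a _ ha => rw [lie_smul]; exact SMulMemClass.smul_mem c ha
  -- (1) `H ⊆ U^⊥`
  have h1 : ∀ h ∈ H, ∀ u ∈ U, killingForm k L h u = 0 := by
    intro h hh u hu
    rw [killingForm_apply_apply]
    set E : Module.End k L := LieAlgebra.ad k L h ∘ₗ LieAlgebra.ad k L u with hE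
    have hstep : ∀ (i : ℕ) (v : L), v ∈ LieModule.lowerCentralSeries k ↥U L i →
        E v ∈ LieModule.lowerCentralSeries k ↥U L (i + 1) := by
      intro i v hv
      have h2 : ⁅u, v⁆ ∈ LieModule.lowerCentralSeries k ↥U L (i + 1) := by
        rw [LieModule.lowerCentralSeries_succ]
        exact LieSubmodule.lie_mem_lie (x := (⟨u, hu⟩ : ↥U)) (LieSubmodule.mem_top _) hv
      exact hstab (i + 1) h hh _ h2
    have hpow : ∀ (i : ℕ) (v : L), (E ^ i) v ∈ LieModule.lowerCentralSeries k ↥U L i := by
      intro i
      induction i with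
      | zero => intro v; simp
      | succ i ih =>
        intro v
        rw [pow_succ', Module.End.mul_apply]
        exact hstep i _ (ih v)
    have hEnil : IsNilpotent E := by
      refine ⟨m, ?_⟩
      ext v
      have := hpow m v
      rw [hm] at this
      simpa using this
    have htr : IsNilpotent (LinearMap.trace k L E) := LinearMap.isNilpotent_trace_of_isNilpotent hEnil
    exact htr.eq_zero
  -- (2) `U^⊥ ⊆ H`
  set B : LinearMap.BilinForm k L := killingForm k L with hB
  have hrefl : B.IsRefl := (LieModule.traceForm_isSymm k L L).isRefl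
  have hUU : B.orthogonal (B.orthogonal U.toSubmodule) = U.toSubmodule :=
    LinearMap.BilinForm.orthogonal_orthogonal hκ hrefl _
  have h2 : ∀ a : L, (∀ y ∈ U, killingForm k L a y = 0) → a ∈ H := by
    intro a ha
    rw [hH, U.mem_normalizer_iff]
    intro u hu
    have : ⁅a, u⁆ ∈ B.orthogonal (B.orthogonal U.toSubmodule) := by
      intro b hb
      -- `b ∈ U^⊥`, show `B b [a,u] = 0`
      have hb' : ∀ y ∈ U, killingForm k L b y = 0 := by
        intro y hy
        have := hb y hy
        rw [hsymm]
        exact this
      have h3 := hperp b a hb' ha u hu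
      rw [hinv] at h3
      exact h3
    rw [hUU] at this
    exact this
  -- conclusion
  intro x
  constructor
  · intro hx h hh
    exact h1 h hh x hx
  · intro hx
    have : x ∈ B.orthogonal (B.orthogonal U.toSubmodule) := by
      intro b hb
      have hb' : ∀ y ∈ U, killingForm k L b y = 0 := by
        intro y hy
        have := hb y hy
        rw [hsymm]
        exact this
      exact hx b (h2 b hb')
    rw [hUU] at this
    exact this

end Groth.Agent.S14875
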