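import Groth.Statements.S14877
-- import your own Groth.Agent.* helpers here
import Groth.Agent.Lib.Helper33.BundleMap
import Groth.Agent.Lib.Helper33.FamilyDescent
import Groth.Agent.Lib.Helper33.PrincipalDescent

set_option autoImplicit false
universe u
open CategoryTheory MonoidalCategory CartesianMonoidalCategory MonObj GrpObj AlgebraicGeometry CategoryTheory.Limits
open AlgGrp

namespace Groth.Agent.S14877

open Groth.Agent.Lib.Helper33

section Aux
variable {S : Scheme.{u}} {G P : Over S} [GrpObj G] (a : AlgGrp.Action G P)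

theorem mul_act_pt {Z : Over S} (g g' : Z ⟶ G) (x : Z ⟶ P) :
    lift g (lift g' x ≫ a.act) ≫ a.act = lift (g * g') x ≫ a.act := by
  have e1 : lift (g * g') x = lift (lift g g') x ≫ (μ[G] ▷ P) := by
    rw [lift_whiskerRight]; rfl
  have e2 : lift g (lift g' x ≫ a.act) = lift g (lift g' x) ≫ (G ◁ a.act) := by
    rw [lift_whiskerLeft]
  rw [e1, e2, Category.assoc, Category.assoc, a.mul_act, ← Category.assoc (lift (lift g g') x),
    lift_lift_associator_hom]

/-- the trivialising map `(t, g) ↦ g · s(t)` -/
noncomputable def trivMap {T : Over S} (s : T ⟶ P) : T ⊗ G ⟶ P :=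
  lift (snd T G) (fst T G ≫ s) ≫ a.act

theorem lift_trivMap {T Z : Over S} (s : T ⟶ P) (t : Z ⟶ T) (g : Z ⟶ G) :
    lift t g ≫ trivMap a s = lift g (t ≫ s) ≫ a.act := by
  unfold trivMap
  rw [← Category.assoc]
  congr 1
  apply CartesianMonoidalCategory.hom_ext <;> simp

theorem trivMap_equivariant {T : Over S} (s : T ⟶ P) :
    (G ◁ trivMap a s) ≫ a.act = PrincipalDescent.trivAct G T ≫ trivMap a s := by
  have hid := PrincipalDescent.eq_lift_lift G T (𝟙 (G ⊗ (T ⊗ G)))
  simp only [Category.id_comp] at hid
  have h1 : G ◁ trivMap a s = lift (fst G (T ⊗ G))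
      (lift (snd G (T ⊗ G) ≫ snd T G) ((snd G (T ⊗ G) ≫ fst T G) ≫ s) ≫ a.act) := by
    apply CartesianMonoidalCategory.hom_ext
    · simp
    · rw [whiskerLeft_snd, lift_snd, ← lift_trivMap]
      congr 1
      apply CartesianMonoidalCategory.hom_ext <;> simp
  rw [h1, mul_act_pt]
  have h2 : PrincipalDescent.trivAct G T ≫ trivMap a s =
      lift (fst G (T ⊗ G)) (lift (snd G (T ⊗ G) ≫ fst T G) (snd G (T ⊗ G) ≫ snd T G)) ≫
        PrincipalDescent.trivAct G T ≫ trivMap a s := by
    rw [← hid, Category.id_comp]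
  rw [h2, ← Category.assoc, PrincipalDescent.lift_trivAct, lift_trivMap]

end Aux

theorem exists_of_isPullback {A B C D : Scheme.{u}} {f : A ⟶ B} {g : A ⟶ C} {h : B ⟶ D} {k : C ⟶ D}
    (sq : IsPullback f g h k) (b : B) (c : C) (e : h b = k c) : ∃ a : A, f a = b ∧ g a = c := by
  obtain ⟨z, hz1, hz2⟩ := Scheme.Pullback.exists_preimage_pullback b c e
  refine ⟨sq.isoPullback.inv z, ?_, ?_⟩
  · rw [← Scheme.Hom.comp_apply, sq.isoPullback_inv_fst, hz1]
  · rw [← Scheme.Hom.comp_apply, sq.isoPullback_inv_snd, hz2]

theorem isIso_lift_of_isPullback {C : Type*} [Category C] [HasPullbacks C] {A B D E : C}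
    {f : A ⟶ B} {g : A ⟶ D} {h : B ⟶ E} {k : D ⟶ E} (sq : IsPullback f g h k) :
    IsIso (pullback.lift f g sq.w) := by
  have : pullback.lift f g sq.w = sq.isoPullback.hom := by
    apply pullback.hom_ext
    · rw [pullback.lift_fst, sq.isoPullback_hom_fst]
    · rw [pullback.lift_snd, sq.isoPullback_hom_snd]
  rw [this]; infer_instance



/-- Over an algebraically closed field k of characteristic zero, let G be an algebraic group (a smooth
k-group scheme of finite type) acting on a variety P (reduced, separated, of finite type over k),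
and let π : P → X be a geometric quotient by this action onto a variety X: π is invariant,
surjective and open, the map (g, p) ↦ (g·p, p) from G × P to P ×_X P is surjective on points, and
for every open U of X the sections of O_X over U are exactly the invariant sections of O_P over
π⁻¹U. Suppose the bundle is locally isotrivial: every point of X has an open neighbourhood U with a
finite étale surjective morphism U' → U and a morphism s : U' → P lifting U' → U → X such that (u,
g) ↦ g·s(u) exhibits U' × G as the fibre product U' ×_X P. Then the bundle is principal: (g, p) ↦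
(g·p, p) is an isomorphism of G × P onto P ×_X P, and π is flat. (The published definition of an
étale covering asks only for a finite étale morphism; this row also requires it to be surjective,
since an empty cover would make every bundle isotrivial.) -/
theorem result (k : Type u) [Field k] [IsAlgClosed k] [CharZero k]
    (G P X : Over (Spec (CommRingCat.of k))) [GrpObj G] [Smooth G.hom] [QuasiCompact G.hom]
    [LocallyOfFiniteType P.hom] [QuasiCompact P.hom] [IsSeparated P.hom] [IsReduced P.left]
    [LocallyOfFiniteType X.hom] [QuasiCompact X.hom] [IsSeparated X.hom] [IsReduced X.left]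
    (a : AlgGrp.Action G P) (π : P ⟶ X) (hinv : GIT.IsInvariant a π)
    (hq : Function.Surjective π.left.base ∧ IsOpenMap π.left.base ∧
      Function.Surjective (GIT.PsiY a π hinv).base ∧
      ∀ U : X.left.Opens, Function.Injective (π.left.app U) ∧
        Set.range (π.left.app U) = {f | GIT.IsInvSection a π U f})
    (hli : ∀ x : ↥X.left, ∃ (U : X.left.Opens) (_ : x ∈ U) (U' : Scheme.{u}) (φ : U' ⟶ ↑U)
      (_ : IsFinite φ) (_ : Etale φ) (_ : Surjective φ) (s : Over.mk (φ ≫ U.ι ≫ X.hom) ⟶ P),
      s.left ≫ π.left = φ ≫ U.ι ∧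
      IsPullback (fst (Over.mk (φ ≫ U.ι ≫ X.hom)) G).left (lift (snd (Over.mk (φ ≫ U.ι ≫ X.hom)) G) (fst (Over.mk (φ ≫ U.ι ≫ X.hom)) G ≫ s) ≫ a.act).left
        (φ ≫ U.ι) π.left) :
    IsIso (GIT.PsiY a π hinv) ∧ Flat π.left := by
  choose U hxU U' φ hfin het hsurj s hs hpb using hli
  have hflatφ : ∀ x, Flat (φ x ≫ (U x).ι) := fun x => by
    have := het x; infer_instance
  have hlfpφ : ∀ x, LocallyOfFinitePresentation (φ x ≫ (U x).ι) := fun x => by
    have := het x; infer_instance
  have hcov : ∀ y : X.left, ∃ x, y ∈ Set.range (φ x ≫ (U x).ι) := fun y => by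
    obtain ⟨u', hu'⟩ := (hsurj y).surj ⟨y, hxU y⟩
    exact ⟨y, u', by rw [Scheme.Hom.comp_apply, hu']; rfl⟩
  have K : ∀ x, IsPullback (trivMap a (s x)).left (fst (Over.mk (φ x ≫ (U x).ι ≫ X.hom)) G).left
      π.left (φ x ≫ (U x).ι) := fun x => (hpb x).flip
  constructor
  · have hq' : ∀ x, (PrincipalDescent.trivAct G (Over.mk (φ x ≫ (U x).ι ≫ X.hom))).left ≫
        (fst (Over.mk (φ x ≫ (U x).ι ≫ X.hom)) G).left =
        (snd G (Over.mk (φ x ≫ (U x).ι ≫ X.hom) ⊗ G)).left ≫
          (fst (Over.mk (φ x ≫ (U x).ι ≫ X.hom)) G).left := fun x => by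
      rw [← Over.comp_left, ← Over.comp_left, PrincipalDescent.trivAct_fst]
    have h1 : ∀ x, (G ◁ trivMap a (s x)).left ≫ a.act.left =
        (PrincipalDescent.trivAct G (Over.mk (φ x ≫ (U x).ι ≫ X.hom))).left ≫
          (trivMap a (s x)).left := fun x => by
      rw [← Over.comp_left, ← Over.comp_left, trivMap_equivariant]
    refine FamilyDescent.of_family_fppf (MorphismProperty.isomorphisms Scheme.{u})
      (GIT.PsiY a π hinv)
      (fun x => pullback (fst (Over.mk (φ x ≫ (U x).ι ≫ X.hom)) G).left
        (fst (Over.mk (φ x ≫ (U x).ι ≫ X.hom)) G).left)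
      (fun x => (G ⊗ (Over.mk (φ x ≫ (U x).ι ≫ X.hom) ⊗ G)).left)
      (fun x => PrincipalDescent.mapSq (K x))
      (fun x => (G ◁ trivMap a (s x)).left)
      (fun x => pullback.lift (PrincipalDescent.trivAct G (Over.mk (φ x ≫ (U x).ι ≫ X.hom))).left
        (snd G (Over.mk (φ x ≫ (U x).ι ≫ X.hom) ⊗ G)).left (hq' x))
      (fun x => PrincipalDescent.isPullback_Psi a.act.left (snd G P).left hinv.left _ _ (hq' x)
        (G ◁ trivMap a (s x)).left (h1 x)
        (BundleMap.isPullback_whiskerLeft_snd_left G (trivMap a (s x))) (K x))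
      (fun x => MorphismProperty.of_isPullback (P := @Flat)
        (PrincipalDescent.isPullback_mapSq_base (K x)).flip (hflatφ x))
      (fun x => MorphismProperty.of_isPullback (P := @LocallyOfFinitePresentation)
        (PrincipalDescent.isPullback_mapSq_base (K x)).flip (hlfpφ x))
      ?_ ?_
    · intro b
      obtain ⟨x, u', hu'⟩ := hcov ((pullback.fst π.left π.left ≫ π.left) b)
      obtain ⟨z, hz, -⟩ := exists_of_isPullback (PrincipalDescent.isPullback_mapSq_base (K x)) b u'
        hu'.symm
      exact ⟨x, z, hz⟩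
    · intro x
      exact isIso_lift_of_isPullback
        ((PrincipalDescent.isPullback_trivAct G (Over.mk (φ x ≫ (U x).ι ≫ X.hom))).map
          (Over.forget _))
  · have hsm : Smooth π.left := by
      refine FamilyDescent.of_family_fppf @Smooth π.left (fun x => U' x)
        (fun x => (Over.mk (φ x ≫ (U x).ι ≫ X.hom) ⊗ G).left) (fun x => φ x ≫ (U x).ι)
        (fun x => (trivMap a (s x)).left)
        (fun x => (fst (Over.mk (φ x ≫ (U x).ι ≫ X.hom)) G).left) K hflatφ hlfpφ hcov ?_
      intro x
      rw [Over.fst_left]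
      infer_instance
    infer_instance

end Groth.Agent.S14877
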