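import Groth.Statements.S14879

set_option autoImplicit false
universe u
open Finset
open AlgGrp

namespace Groth.Agent.S14879

open Equiv

noncomputable def gam (p r : ℕ) (α : Perm (Fin p)) (β : Perm (Fin r)) : Perm (Fin (p + r)) :=
  finSumFinEquiv.permCongr (Equiv.Perm.sumCongr α β)

theorem gam_castAdd (p r : ℕ) (α : Perm (Fin p)) (β : Perm (Fin r)) (j : Fin p) :
    gam p r α β (Fin.castAdd r j) = Fin.castAdd r (α j) := by
  simp [gam, Equiv.permCongr_apply]

theorem gam_natAdd (p r : ℕ) (α : Perm (Fin p)) (β : Perm (Fin r)) (j : Fin r) :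
    gam p r α β (Fin.natAdd p j) = Fin.natAdd p (β j) := by
  simp [gam, Equiv.permCongr_apply]

theorem sign_gam (p r : ℕ) (α : Perm (Fin p)) (β : Perm (Fin r)) :
    Perm.sign (gam p r α β) = Perm.sign α * Perm.sign β := by
  rw [gam, Perm.sign_permCongr, Perm.sign_sumCongr]

theorem det_mul_det_blocks {k : Type u} [CommRing k] (p r : ℕ)
    (W : Matrix (Fin (p + r)) (Fin (p + r)) k) :
    (W.submatrix (Fin.castAdd r) (Fin.castAdd r)).det *
      (W.submatrix (Fin.natAdd p) (Fin.natAdd p)).det =
    ∑ ab : Perm (Fin p) × Perm (Fin r), (((Perm.sign (gam p r ab.1 ab.2) : ℤˣ) : ℤ) : k) *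
      ∏ j, W (gam p r ab.1 ab.2 j) j := by
  rw [Matrix.det_apply', Matrix.det_apply', Finset.sum_mul_sum, ← Finset.sum_product']
  refine Finset.sum_congr rfl ?_
  rintro ⟨α, β⟩ -
  simp only [Matrix.submatrix_apply]
  rw [Fin.prod_univ_add, sign_gam]
  simp only [gam_castAdd, gam_natAdd]
  push_cast
  ring

theorem key {k : Type u} [CommRing k] (p r : ℕ) (N : Matrix (Fin (p + r)) (Fin (p + r)) k) :
    ∑ π : Perm (Fin (p + r)), (((Perm.sign π : ℤˣ) : ℤ) : k) *
      ((N.submatrix id π.symm).submatrix (Fin.castAdd r) (Fin.castAdd r)).det *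
      ((N.submatrix id π.symm).submatrix (Fin.natAdd p) (Fin.natAdd p)).det =
    ((p.factorial * r.factorial : ℕ) : k) * N.det := by
  have h1 : ∀ π : Perm (Fin (p + r)), (((Perm.sign π : ℤˣ) : ℤ) : k) *
      ((N.submatrix id π.symm).submatrix (Fin.castAdd r) (Fin.castAdd r)).det *
      ((N.submatrix id π.symm).submatrix (Fin.natAdd p) (Fin.natAdd p)).det =
      ∑ ab : Perm (Fin p) × Perm (Fin r),
        (((Perm.sign (gam p r ab.1 ab.2 * π) : ℤˣ) : ℤ) : k) *
          ∏ l, N ((gam p r ab.1 ab.2 * π) l) l := by
    intro π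
    rw [mul_assoc, det_mul_det_blocks, Finset.mul_sum]
    refine Finset.sum_congr rfl ?_
    rintro ⟨α, β⟩ -
    simp only [Matrix.submatrix_apply, id_eq]
    have h2 : ∏ j, N (gam p r α β j) (π.symm j) = ∏ l, N ((gam p r α β * π) l) l := by
      rw [← Equiv.prod_comp π (fun j => N (gam p r α β j) (π.symm j))]
      simp
    rw [h2, Perm.sign_mul]
    push_cast
    ring
  simp_rw [h1]
  rw [Finset.sum_comm]
  have h3 : ∀ ab : Perm (Fin p) × Perm (Fin r), ∑ π : Perm (Fin (p + r)),
      (((Perm.sign (gam p r ab.1 ab.2 * π) : ℤˣ) : ℤ) : k) *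
          ∏ l, N ((gam p r ab.1 ab.2 * π) l) l = N.det := by
    intro ab
    rw [Matrix.det_apply']
    exact Fintype.sum_equiv (Equiv.mulLeft (gam p r ab.1 ab.2)) _ _ (fun π => rfl)
  simp_rw [h3]
  rw [Finset.sum_const, Finset.card_univ, Fintype.card_prod, Fintype.card_perm, Fintype.card_perm,
    Fintype.card_fin, Fintype.card_fin, nsmul_eq_mul]


variable {p r : ℕ} (A : Finset (Fin (p + r))) (hA : A.card = p) (B : Finset (Fin (p + r)))
  (hB : B.card = r)

def rho : Fin (p + r) → Fin (p + r) :=
  Fin.addCases (fun i => A.orderEmbOfFin hA i) (fun i => B.orderEmbOfFin hB i)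

theorem rho_castAdd (i : Fin p) : rho A hA B hB (Fin.castAdd r i) = A.orderEmbOfFin hA i := by
  simp [rho]

theorem rho_natAdd (i : Fin r) : rho A hA B hB (Fin.natAdd p i) = B.orderEmbOfFin hB i := by
  simp [rho]

theorem rho_mem_left (i : Fin p) : rho A hA B hB (Fin.castAdd r i) ∈ A := by
  rw [rho_castAdd]; exact Finset.orderEmbOfFin_mem A hA i

theorem rho_mem_right (i : Fin r) : rho A hA B hB (Fin.natAdd p i) ∈ B := by
  rw [rho_natAdd]; exact Finset.orderEmbOfFin_mem B hB i

theorem rho_injective (hBA : B = Aᶜ) : Function.Injective (rho A hA B hB) := by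
  have hB' : ∀ x, x ∈ B → x ∉ A := fun x hx => by
    have : x ∈ Aᶜ := hBA ▸ hx
    simpa using this
  intro x y hxy
  induction x using Fin.addCases with
  | left i =>
    induction y using Fin.addCases with
    | left i' =>
      rw [rho_castAdd, rho_castAdd] at hxy
      rw [(A.orderEmbOfFin hA).injective hxy]
    | right j' =>
      exfalso
      have h1 := rho_mem_left A hA B hB i
      have h2 := rho_mem_right A hA B hB j'
      rw [hxy] at h1
      exact hB' _ h2 h1
  | right j =>
    induction y using Fin.addCases with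
    | left i' =>
      exfalso
      have h1 := rho_mem_left A hA B hB i'
      have h2 := rho_mem_right A hA B hB j
      rw [← hxy] at h1
      exact hB' _ h2 h1
    | right j' =>
      rw [rho_natAdd, rho_natAdd] at hxy
      rw [(B.orderEmbOfFin hB).injective hxy]

theorem sign_rho (hBA : B = Aᶜ) (σ : Perm (Fin (p + r))) (hσ : ∀ x, σ x = rho A hA B hB x) :
    Perm.sign σ = (-1 : ℤˣ) ^ ((A ×ˢ Aᶜ).filter (fun ab => ab.2 < ab.1)).card := by
  have hB' : ∀ x, x ∈ B → x ∉ A := fun x hx => by
    have : x ∈ Aᶜ := hBA ▸ hx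
    simpa using this
  rw [Perm.sign_eq_prod_prod_Iio, Finset.prod_sigma', Finset.prod_ite, Finset.prod_const_one,
    one_mul, Finset.prod_const]
  congr 1
  apply Finset.card_bij (fun x _ => (σ x.2, σ x.1))
  · rintro ⟨j, i⟩ hx
    simp only [Finset.mem_filter, Finset.mem_sigma, Finset.mem_univ, Finset.mem_Iio,
      true_and] at hx
    obtain ⟨hij, hnot⟩ := hx
    rw [hσ, hσ] at hnot
    simp only [Finset.mem_filter, Finset.mem_product, Finset.mem_compl, hσ]
    induction i using Fin.addCases with
    | left i' =>
      induction j using Fin.addCases with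
      | left j' =>
        exfalso
        apply hnot
        rw [rho_castAdd, rho_castAdd]
        exact (A.orderEmbOfFin hA).strictMono (by rw [Fin.lt_def] at hij ⊢; simpa using hij)
      | right j' =>
        have h1 := rho_mem_left A hA B hB i'
        have h2 := hB' _ (rho_mem_right A hA B hB j')
        refine ⟨⟨h1, h2⟩, lt_of_le_of_ne (not_lt.mp hnot) ?_⟩
        intro h
        rw [h] at h2
        exact h2 h1
    | right i' =>
      induction j using Fin.addCases with
      | left j' =>
        exfalso
        have := Fin.lt_def.mp hij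
        simp at this
        omega
      | right j' =>
        exfalso
        apply hnot
        rw [rho_natAdd, rho_natAdd]
        exact (B.orderEmbOfFin hB).strictMono (by rw [Fin.lt_def] at hij ⊢; simpa using hij)
  · rintro ⟨j, i⟩ hx ⟨j', i'⟩ hx' h
    simp only [Prod.mk.injEq] at h
    have h1 := σ.injective h.1
    have h2 := σ.injective h.2
    subst h1 h2
    rfl
  · rintro ⟨a, b⟩ hab
    simp only [Finset.mem_filter, Finset.mem_product, Finset.mem_compl] at hab
    obtain ⟨⟨haA, hbA⟩, hlt⟩ := hab
    have h1 : a ∈ Set.range (A.orderEmbOfFin hA) := by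
      rw [Finset.range_orderEmbOfFin]; exact haA
    have h2 : b ∈ Set.range (B.orderEmbOfFin hB) := by
      rw [Finset.range_orderEmbOfFin, hBA]; simpa using hbA
    obtain ⟨i', hi'⟩ := h1
    obtain ⟨j', hj'⟩ := h2
    refine ⟨⟨Fin.natAdd p j', Fin.castAdd r i'⟩, ?_, ?_⟩
    · simp only [Finset.mem_filter, Finset.mem_sigma, Finset.mem_univ, Finset.mem_Iio, true_and,
        hσ, rho_castAdd, rho_natAdd, hi', hj']
      refine ⟨?_, not_lt.mpr hlt.le⟩
      rw [Fin.lt_def]
      simp
      omega
    · simp only [hσ, rho_castAdd, rho_natAdd, hi', hj']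

include hA hB in
theorem compl_of_disjoint (h : Disjoint A B) : B = Aᶜ := by
  apply Finset.eq_of_subset_of_card_le
  · intro x hx
    rw [Finset.mem_compl]
    exact fun hxA => Finset.disjoint_left.mp h hxA hx
  · rw [Finset.card_compl, hA, hB, Fintype.card_fin]
    omega

theorem det_zero_of_ne {k : Type u} [CommRing k] (M : Matrix (Fin (p + r)) (Fin (p + r)) k)
    (hne : B ≠ Aᶜ) : (M.submatrix (rho A hA B hB) id).det = 0 := by
  have hnd : ¬ Disjoint A B := fun h => hne (compl_of_disjoint A hA B hB h)
  rw [Finset.not_disjoint_iff] at hnd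
  obtain ⟨x, hxA, hxB⟩ := hnd
  have h1 : x ∈ Set.range (A.orderEmbOfFin hA) := by
    rw [Finset.range_orderEmbOfFin]; exact hxA
  have h2 : x ∈ Set.range (B.orderEmbOfFin hB) := by
    rw [Finset.range_orderEmbOfFin]; exact hxB
  obtain ⟨i, hi⟩ := h1
  obtain ⟨j, hj⟩ := h2
  have hij : Fin.castAdd r i ≠ Fin.natAdd p j := by
    intro h
    have := congrArg Fin.val h
    simp at this
    omega
  apply Matrix.det_zero_of_row_eq hij
  ext c
  simp only [Matrix.submatrix_apply, rho_castAdd, rho_natAdd, hi, hj]


/-- Let k be a field of characteristic zero, n = p + r with p, r ≥ 1, M an n × n matrix over k, A a set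
of p row indices and B a set of r row indices, both listed increasingly. For a permutation π of the
indices, with permutation matrix P_π, let Y_A(M·P_π) be the minor of M·P_π on the rows A and the
first p columns, and Z_B(M·P_π) the minor on the rows B and the last r columns. Then the sum over
all π of sign(π)·Y_A(M·P_π)·Z_B(M·P_π) equals p!·r!·(−1)^N·det M when B is the complement of A,
where N is the number of pairs (a, b) with a in A, b outside A and b < a, and equals 0 otherwise.
Taking det M = 1 this says that the pairing (f, h) ↦ Σ_π sign(π) f(π) h(π) between the spans of the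
left p-minors and of the right r-minors is invariant under left translation by matrices of
determinant one and pairs Y_A with the signed complementary minor to p!·r!. (The published statement
asserts that the two families of minors are dual bases for this pairing, that is, the value 1 in
place of p!·r!; the p!·r! permutations preserving the two column blocks each contribute the same
signed term, so this row carries that factor, which is 1 only for n = 2.) -/
theorem result (k : Type u) [Field k] [CharZero k]
    (p r : ℕ) (hp : 1 ≤ p) (hr : 1 ≤ r) (M : Matrix (Fin (p + r)) (Fin (p + r)) k)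
    (A : Finset (Fin (p + r))) (hA : A.card = p) (B : Finset (Fin (p + r))) (hB : B.card = r) :
    ∑ π : Equiv.Perm (Fin (p + r)), (((Equiv.Perm.sign π : ℤˣ) : ℤ) : k) *
      ((M * π.permMatrix k).submatrix (A.orderEmbOfFin hA) (Fin.castAdd r)).det *
      ((M * π.permMatrix k).submatrix (B.orderEmbOfFin hB) (Fin.natAdd p)).det =
    if B = Aᶜ then ((p.factorial * r.factorial : ℕ) : k) *
      (-1 : k) ^ ((A ×ˢ Aᶜ).filter (fun ab => ab.2 < ab.1)).card * M.det else 0 := by
  have hconvA : ∀ π : Perm (Fin (p + r)),
      (M * π.permMatrix k).submatrix (A.orderEmbOfFin hA) (Fin.castAdd r) =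
        ((M.submatrix (rho A hA B hB) id).submatrix id π.symm).submatrix
          (Fin.castAdd r) (Fin.castAdd r) := by
    intro π
    rw [PEquiv.mul_toMatrix_toPEquiv]
    ext i j
    simp [rho_castAdd]
  have hconvB : ∀ π : Perm (Fin (p + r)),
      (M * π.permMatrix k).submatrix (B.orderEmbOfFin hB) (Fin.natAdd p) =
        ((M.submatrix (rho A hA B hB) id).submatrix id π.symm).submatrix
          (Fin.natAdd p) (Fin.natAdd p) := by
    intro π
    rw [PEquiv.mul_toMatrix_toPEquiv]
    ext i j
    simp [rho_natAdd]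
  simp_rw [hconvA, hconvB]
  rw [key p r (M.submatrix (rho A hA B hB) id)]
  split_ifs with hBA
  · have hinj := rho_injective A hA B hB hBA
    have hbij : Function.Bijective (rho A hA B hB) :=
      ⟨hinj, Finite.injective_iff_surjective.mp hinj⟩
    have hM : M.submatrix (rho A hA B hB) id =
        M.submatrix (Equiv.ofBijective (rho A hA B hB) hbij) id := rfl
    rw [hM, Matrix.det_permute,
      sign_rho A hA B hB hBA (Equiv.ofBijective (rho A hA B hB) hbij) (fun x => rfl)]
    push_cast
    ring
  · rw [det_zero_of_ne A hA B hB M hBA, mul_zero]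

end Groth.Agent.S14879
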