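import Groth.Statements.S14887
import Groth.Agent.Lib.Helper22.ValTrdegSch

set_option autoImplicit false
universe u
open CategoryTheory AlgebraicGeometry
open FlatMor

namespace Groth.Agent.S14887

/-- Let R be a valuation ring and let φ : X → Spec R be flat and locally of finite presentation. Call x
∈ X fibre-generic when it is the generic point of an irreducible component of its fibre, i.e. no
point y ≠ x with φ y = φ x specializes to x. Then every generization of a fibre-generic point is
fibre-generic. (The published statement allows an arbitrary base scheme and takes φ finitely
presented. Over a two-dimensional base it fails: for the affine line over the affine plane with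
coordinates a, b, the closed point u = a/b of the generic fibre specializes to the generic point of
the fibre over a = b = 0, and the chain-lifting step of the published proof does not hold in that
generality. This row takes the base to be the spectrum of a valuation ring, the case in which the
result is applied to relative curves, and assumes only local finite presentation, the property being
local on X.) -/
theorem result
    (R : Type u) [CommRing R] [IsDomain R] [ValuationRing R] {X : Scheme.{u}}
    (φ : X ⟶ Spec (CommRingCat.of R)) [Flat φ] [LocallyOfFinitePresentation φ]
    (x x' : X) (hgen : x' ⤳ x) (hx : ∀ y : X, y ⤳ x → φ y = φ x → y = x) :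
    ∀ y : X, y ⤳ x' → φ y = φ x' → y = x' := by
  open Groth.Agent.Lib.Helper73 Groth.Agent.Lib.Helper72.FibDimIrr Groth.Agent.Lib.Helper22.ValTrdeg in
  intro y hy hφy
  by_contra hne
  have h1 : resTrdegNat φ x ≤ resTrdegNat φ x' := resTrdegNat_le_of_specializes φ hgen
  have h2 : resTrdegNat φ x' < resTrdegNat φ y :=
    resTrdegNat_lt_of_specializes_fiber φ x' y hy hφy hne
  obtain ⟨t, -, htx, hft, hle⟩ := exists_generization_resTrdegNat_ge φ y x (hy.trans hgen)
  have : t = x := hx t htx hft
  subst this
  omega

end Groth.Agent.S14887
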