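import Groth.Statements.S14888
-- import your own Groth.Agent.* helpers here

set_option autoImplicit false
universe u
open CategoryTheory AlgebraicGeometry
open CAlg

namespace Groth.Agent.S14888

/-- If all points of an affine open `W` specialize to `x ∈ W`, then `Γ(X, W)` is the local ring of
`X` at `x` (copy of a lemma of helper41's `HensQF` library). -/
theorem germ_bijective_of_forall_specializes {X : Scheme.{u}} {W : X.Opens} (hW : IsAffineOpen W)
    (x : X) (hxW : x ∈ W) (h : ∀ w ∈ W, w ⤳ x) :
    Function.Bijective (X.presheaf.germ W x hxW).hom := by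
  letI : Algebra Γ(X, W) (X.presheaf.stalk x) :=
    TopCat.Presheaf.algebra_section_stalk X.presheaf (⟨x, hxW⟩ : W)
  haveI : IsLocalization.AtPrime (X.presheaf.stalk x) (hW.primeIdealOf ⟨x, hxW⟩).asIdeal :=
    hW.isLocalization_stalk ⟨x, hxW⟩
  have hunit : (hW.primeIdealOf ⟨x, hxW⟩).asIdeal.primeCompl ≤ IsUnit.submonoid Γ(X, W) := by
    intro t ht
    change IsUnit t
    by_contra hnu
    obtain ⟨M, hM, htM⟩ := exists_max_ideal_of_mem_nonunits hnu
    let z : Spec Γ(X, W) := ⟨M, hM.isPrime⟩
    have hw : hW.fromSpec.base z ∈ W := by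
      have : hW.fromSpec.base z ∈ Set.range hW.fromSpec.base := ⟨z, rfl⟩
      rwa [hW.range_fromSpec] at this
    have h1 : hW.fromSpec.base z ⤳ hW.fromSpec.base (hW.primeIdealOf ⟨x, hxW⟩) := by
      rw [hW.fromSpec_primeIdealOf ⟨x, hxW⟩]
      exact h _ hw
    have h2 : z ⤳ hW.primeIdealOf ⟨x, hxW⟩ :=
      (hW.fromSpec.isOpenEmbedding.isInducing.specializes_iff).mp h1
    have h3 : z.asIdeal ≤ (hW.primeIdealOf ⟨x, hxW⟩).asIdeal :=
      (PrimeSpectrum.le_iff_specializes _ _).mpr h2
    exact ht (h3 htM)
  let ε := IsLocalization.atUnits Γ(X, W) _ (S := X.presheaf.stalk x) hunit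
  have hε : ∀ r, ε r = (X.presheaf.germ W x hxW).hom r := fun r => by
    have := ε.commutes r
    exact this
  have hb := ε.bijective
  have heq : (ε : Γ(X, W) → X.presheaf.stalk x) = (X.presheaf.germ W x hxW).hom := funext hε
  rw [← heq]
  exact hb

/-- If `x` has a finite open neighbourhood, the set of generizations of `x` is open. -/
lemma isOpen_setOf_specializes_of_finite {X : Type*} [TopologicalSpace X] (x : X) (U : Set X)
    (hU : IsOpen U) (hxU : x ∈ U) (hfin : U.Finite) : IsOpen {y | y ⤳ x} := by
  have h1 : {y | y ⤳ x} = ⋂₀ {V : Set X | IsOpen V ∧ x ∈ V ∧ V ⊆ U} := by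
    ext y
    simp only [Set.mem_ofPred_eq, Set.mem_sInter]
    constructor
    · rintro hy V ⟨hV, hxV, -⟩
      exact hy.mem_open hV hxV
    · intro h
      rw [specializes_iff_forall_open]
      intro V hV hxV
      exact (h (V ∩ U) ⟨hV.inter hU, ⟨hxV, hxU⟩, Set.inter_subset_right⟩).1
  rw [h1]
  apply Set.Finite.isOpen_sInter
  · exact (hfin.finite_subsets).subset (fun V hV => hV.2.2)
  · intro V hV; exact hV.1

/-- Let R be a valuation ring whose spectrum is finite (finite height) and let f : X → Spec R be locally
of finite type with locally quasi-finite fibres. For every x ∈ X the canonical morphism Spec O_{X,x}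
→ X is an open immersion, and the composite Spec O_{X,x} → Spec R is locally of finite type; in
particular O_{X,x} is finitely generated as an R-algebra. (The published statement takes X
quasi-finite over Spec R; the assertions are local at x, so this row assumes only that X is locally
of finite type with discrete fibres.) -/
theorem result
    (R : Type u) [CommRing R] [IsDomain R] [ValuationRing R] [Finite (PrimeSpectrum R)]
    {X : Scheme.{u}} (f : X ⟶ Spec (CommRingCat.of R)) [LocallyOfFiniteType f] [LocallyQuasiFinite f]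
    (x : X) :
    IsOpenImmersion (X.fromSpecStalk x) ∧ LocallyOfFiniteType (X.fromSpecStalk x ≫ f) := by
  -- an affine open neighbourhood of `x`, which is a finite space
  obtain ⟨U, hU, hxU, -⟩ := X.isBasis_affineOpens.exists_subset_of_mem_open
    (Set.mem_univ x) isOpen_univ
  obtain ⟨U, rfl⟩ : ∃ U' : X.affineOpens, (U' : X.Opens) = U := by
    obtain ⟨U', hU', rfl⟩ := hU
    exact ⟨⟨U', hU'⟩, rfl⟩
  haveI : IsAffine (U : X.Opens).toScheme := U.2
  haveI : QuasiCompact ((U : X.Opens).ι ≫ f) := (HasAffineProperty.iff_of_isAffine (P := @QuasiCompact)).mpr inferInstance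
  haveI : Finite ↥(Spec (CommRingCat.of R)) := inferInstanceAs (Finite (PrimeSpectrum R))
  have hfin0 : (Set.univ : Set ↥(U : X.Opens).toScheme).Finite := by
    have := ((U : X.Opens).ι ≫ f).finite_preimage (s := Set.univ) Set.finite_univ
    simpa using this
  have hfinU : ((U : X.Opens) : Set X).Finite := by
    have h := hfin0.image (U : X.Opens).ι
    rwa [Set.image_univ, Scheme.Opens.range_ι] at h
  have hopen : IsOpen {y : X | y ⤳ x} :=
    isOpen_setOf_specializes_of_finite x _ (U : X.Opens).2 hxU hfinU
  -- an affine open neighbourhood of `x` all of whose points specialize to `x`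
  obtain ⟨V, hV, hxV, hVW⟩ := X.isBasis_affineOpens.exists_subset_of_mem_open
    (show x ∈ {y : X | y ⤳ x} from specializes_rfl) hopen
  obtain ⟨V, hV, rfl⟩ := hV
  have hbij := germ_bijective_of_forall_specializes hV x hxV (fun w hw => hVW hw)
  haveI : IsIso (X.presheaf.germ V x hxV) := (ConcreteCategory.isIso_iff_bijective _).mpr hbij
  have hfs : X.fromSpecStalk x = Spec.map (X.presheaf.germ V x hxV) ≫ hV.fromSpec :=
    (hV.fromSpecStalk_eq_fromSpecStalk hxV).symm
  haveI hoi : IsOpenImmersion (X.fromSpecStalk x) := by rw [hfs]; infer_instance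
  exact ⟨hoi, inferInstance⟩

end Groth.Agent.S14888
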