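import Groth.Statements.S14892
import Groth.Agent.Lib.Helper14.ValChain

set_option autoImplicit false
universe u
open CAlg

namespace Groth.Agent.S14892

open Groth.Agent.Lib.Helper14.ValChain

theorem length_le_of_chain {K : Type u} [Field K] (A : ValuationSubring K) (d : ℕ)
    (hd : Algebra.trdeg (⊥ : Subfield K) K = d) (p : LTSeries (PrimeSpectrum A)) :
    p.length ≤ d + 1 := by
  obtain ⟨l, hl0, hl⟩ := exists_prime_field_val A.valuation
  have hQ : ∀ X Y : A, X ≠ 0 → Y ≠ 0 → A.valuation (A.subtype X) = A.valuation (A.subtype Y) →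
      ∃ c c' : A, c ∉ IsLocalRing.maximalIdeal A ∧ c' ∉ IsLocalRing.maximalIdeal A ∧
        c * X = c' * Y := by
    intro X Y hX hY hv
    have hXK : (X : K) ≠ 0 := fun h => hX (Subtype.ext h)
    have hYK : (Y : K) ≠ 0 := fun h => hY (Subtype.ext h)
    have hvY : A.valuation (Y : K) ≠ 0 := by rwa [Ne, map_eq_zero]
    have h1 : (X : K) / Y ∈ A := by
      rw [← A.valuation_le_one_iff, map_div₀]
      rw [show A.valuation (X : K) = A.valuation (Y : K) from hv, div_self hvY]
    have h2 : (Y : K) / X ∈ A := by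
      rw [← A.valuation_le_one_iff, map_div₀]
      rw [show A.valuation (X : K) = A.valuation (Y : K) from hv, div_self hvY]
    have hu : (⟨(X : K) / Y, h1⟩ : A) * ⟨(Y : K) / X, h2⟩ = 1 := by
      apply Subtype.ext
      change (X : K) / Y * ((Y : K) / X) = 1
      field_simp
    refine ⟨1, ⟨(X : K) / Y, h1⟩, ?_, ?_, ?_⟩
    · rw [IsLocalRing.mem_maximalIdeal, mem_nonunits_iff, not_not]
      exact isUnit_one
    · rw [IsLocalRing.mem_maximalIdeal, mem_nonunits_iff, not_not]
      exact IsUnit.of_mul_eq_one _ hu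
    · apply Subtype.ext
      change (1 : K) * X = (X : K) / Y * Y
      field_simp
  have hl0' : ((l : ℤ) : A) ≠ 0 := by
    intro h
    apply hl0
    have := congrArg A.subtype h
    simpa using this
  have hl' : ∀ k ∈ (⊥ : Subfield K), k ≠ 0 →
      ∃ m : ℤ, A.valuation k = A.valuation (A.subtype ((l : ℤ) : A)) ^ m := by
    intro k hk hk0
    obtain ⟨m, hm⟩ := hl k hk hk0
    exact ⟨m, by rw [hm]; simp⟩
  obtain ⟨s, _, y, hlen, hy⟩ := exists_algIndep_of_chain A.valuation A.subtype
    Subtype.val_injective (IsLocalRing.maximalIdeal A) hQ ((l : ℤ) : A) hl0' hl' p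
    (IsLocalRing.le_maximalIdeal p.last.isPrime.ne_top)
  have hcard := hy.lift_cardinalMk_le_trdeg
  rw [hd, Cardinal.mk_fintype] at hcard
  simp only [Cardinal.lift_natCast, Nat.cast_le] at hcard
  omega

/-- If the field K has finite transcendence degree d over its prime subfield, then every valuation
subring of K has height (Krull dimension) at most d + 1. -/
theorem result
    (K : Type u) [Field K] (A : ValuationSubring K) (d : ℕ)
    (hd : Algebra.trdeg (⊥ : Subfield K) K = d) :
    ringKrullDim A ≤ ((d + 1 : ℕ) : WithBot ℕ∞) := by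
  rw [ringKrullDim, Order.krullDim]
  refine iSup_le fun p => ?_
  have := length_le_of_chain A d hd p
  exact_mod_cast this

end Groth.Agent.S14892
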