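import Groth.Statements.S14893
import Groth.Agent.Lib.Helper14.ValChain
import Groth.Agent.Lib.Helper14.FinTrdeg

set_option autoImplicit false
universe u
open CAlg

namespace Groth.Agent.S14893

open Groth.Agent.Lib.Helper14.ValChain Groth.Agent.Lib.Helper14.FinTrdeg

section
variable (R : Type u) [CommRing R] [IsDomain R] [ValuationRing R]

noncomputable def Esub (s : Finset R) : Subfield (FractionRing R) :=
  Subfield.closure ((algebraMap R (FractionRing R)) '' (s : Set R))

noncomputable def Fsub (s : Finset R) : Subring R :=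
  (Esub R s).toSubring.comap (algebraMap R (FractionRing R))

omit [ValuationRing R] in
theorem mem_Fsub (s : Finset R) (r : R) :
    r ∈ Fsub R s ↔ algebraMap R (FractionRing R) r ∈ Esub R s := Iff.rfl

omit [ValuationRing R] in
theorem Fsub_mono : Monotone (Fsub R) := by
  intro s t hst r hr
  rw [mem_Fsub] at hr ⊢
  exact Subfield.closure_mono (Set.image_mono (by exact_mod_cast hst)) hr

omit [ValuationRing R] in
theorem self_mem_Fsub (s : Finset R) (r : R) (hr : r ∈ s) : r ∈ Fsub R s := by
  rw [mem_Fsub]
  exact Subfield.subset_closure ⟨r, by exact_mod_cast hr, rfl⟩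

theorem valuationRing_Fsub (s : Finset R) : ValuationRing (Fsub R s) := by
  refine { cond' := fun X Y => ?_ }
  by_cases hX : X = 0
  · exact ⟨0, Or.inr (by rw [hX, mul_zero])⟩
  by_cases hY : Y = 0
  · exact ⟨0, Or.inl (by rw [hY, mul_zero])⟩
  have hinj := IsFractionRing.injective R (FractionRing R)
  have hXK : algebraMap R (FractionRing R) (X : R) ≠ 0 := by
    rw [Ne, map_eq_zero_iff _ hinj]
    exact fun h => hX (Subtype.ext h)
  have hYK : algebraMap R (FractionRing R) (Y : R) ≠ 0 := by
    rw [Ne, map_eq_zero_iff _ hinj]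
    exact fun h => hY (Subtype.ext h)
  obtain ⟨c, hc⟩ := ValuationRing.cond (X : R) (Y : R)
  rcases hc with hc | hc
  · have hcE : c ∈ Fsub R s := by
      rw [mem_Fsub]
      have : algebraMap R (FractionRing R) c =
          algebraMap R (FractionRing R) (Y : R) / algebraMap R (FractionRing R) (X : R) := by
        rw [eq_div_iff hXK, ← map_mul, mul_comm, hc]
      rw [this]
      exact div_mem ((mem_Fsub R s _).1 Y.2) ((mem_Fsub R s _).1 X.2)
    exact ⟨⟨c, hcE⟩, Or.inl (Subtype.ext hc)⟩
  · have hcE : c ∈ Fsub R s := by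
      rw [mem_Fsub]
      have : algebraMap R (FractionRing R) c =
          algebraMap R (FractionRing R) (X : R) / algebraMap R (FractionRing R) (Y : R) := by
        rw [eq_div_iff hYK, ← map_mul, mul_comm, hc]
      rw [this]
      exact div_mem ((mem_Fsub R s _).1 X.2) ((mem_Fsub R s _).1 Y.2)
    exact ⟨⟨c, hcE⟩, Or.inr (Subtype.ext hc)⟩

theorem length_le_Fsub (s : Finset R) (p : LTSeries (PrimeSpectrum (Fsub R s))) :
    p.length ≤ s.card + 1 := by
  classical
  have := valuationRing_Fsub R s
  have hinj := IsFractionRing.injective R (FractionRing R)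
  let v := ValuationRing.valuation R (FractionRing R)
  let φ : Fsub R s →+* FractionRing R := (algebraMap R (FractionRing R)).comp (Fsub R s).subtype
  have hφ : Function.Injective φ := hinj.comp Subtype.val_injective
  have hdiv : ∀ X Y : Fsub R s, Y ≠ 0 → v (φ X) ≤ v (φ Y) → ∃ u : Fsub R s, X = u * Y := by
    intro X Y hY hv
    have hYK : φ Y ≠ 0 := by
      rw [Ne, map_eq_zero_iff _ hφ]
      exact hY
    have hvY : v (φ Y) ≠ 0 := by rwa [Ne, map_eq_zero]
    have h1 : φ X / φ Y ∈ v.integer := by
      rw [Valuation.mem_integer_iff, map_div₀]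
      exact div_le_one_of_le₀ hv zero_le
    rw [ValuationRing.mem_integer_iff] at h1
    obtain ⟨u, hu⟩ := h1
    have huE : u ∈ Fsub R s := by
      rw [mem_Fsub, hu]
      exact div_mem ((mem_Fsub R s _).1 X.2) ((mem_Fsub R s _).1 Y.2)
    refine ⟨⟨u, huE⟩, ?_⟩
    apply hφ
    rw [map_mul]
    change φ X = algebraMap R (FractionRing R) u * φ Y
    rw [hu, div_mul_cancel₀ _ hYK]
  obtain ⟨l, hl0, hl⟩ := exists_prime_field_val v
  have hφl : φ ((l : ℤ) : Fsub R s) = ((l : ℤ) : FractionRing R) := map_intCast φ l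
  have hl0' : ((l : ℤ) : Fsub R s) ≠ 0 := by
    intro h
    apply hl0
    rw [← hφl, h, map_zero]
  have hl' : ∀ k ∈ (⊥ : Subfield (FractionRing R)), k ≠ 0 →
      ∃ m : ℤ, v k = v (φ ((l : ℤ) : Fsub R s)) ^ m := by
    intro k hk hk0
    obtain ⟨m, hm⟩ := hl k hk hk0
    exact ⟨m, by rw [hm, hφl]⟩
  obtain ⟨s', _, y, hlen, hy⟩ := exists_algIndep_of_chain v φ hφ
    (IsLocalRing.maximalIdeal (Fsub R s)) (hQ_of_dvd v φ hdiv) ((l : ℤ) : Fsub R s) hl0' hl' p
    (IsLocalRing.le_maximalIdeal p.last.isPrime.ne_top)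
  have hcard := card_le_of_algIndep_closure (s.image (algebraMap R (FractionRing R)))
    (fun j => φ (y j)) hy (by
      intro j
      rw [Finset.coe_image]
      exact (mem_Fsub R s _).1 (y j).2)
  have := Finset.card_image_le (s := s) (f := algebraMap R (FractionRing R))
  omega

theorem finite_primeSpectrum_Fsub (s : Finset R) : Finite (PrimeSpectrum (Fsub R s)) := by
  have := valuationRing_Fsub R s
  apply finite_of_chain_bound _ (s.card + 1) (length_le_Fsub R s)
  intro p q
  exact (ValuationRing.le_total_ideal (A := Fsub R s)).total p.asIdeal q.asIdeal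

end

/-- Every valuation ring R is a filtered union of subrings which are valuation rings with finite
spectrum (finite height): there is a nonempty directed index type and a monotone family of such
subrings of R whose supremum is R. -/
theorem result
    (R : Type u) [CommRing R] [IsDomain R] [ValuationRing R] :
    ∃ (ι : Type u) (_ : Preorder ι) (_ : IsDirected ι (fun a b ↦ a ≤ b)) (_ : Nonempty ι)
      (F : ι → Subring R), Monotone F ∧ (⨆ i, F i) = ⊤ ∧
        ∀ i, ValuationRing (F i) ∧ Finite (PrimeSpectrum (F i)) := by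
  classical
  refine ⟨Finset R, inferInstance, inferInstance, ⟨∅⟩, Fsub R, Fsub_mono R, ?_, fun s =>
    ⟨valuationRing_Fsub R s, finite_primeSpectrum_Fsub R s⟩⟩
  rw [eq_top_iff]
  intro r _
  have h1 : r ∈ Fsub R {r} := self_mem_Fsub R {r} r (Finset.mem_singleton_self r)
  exact (le_iSup (Fsub R) {r}) h1

end Groth.Agent.S14893
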