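import Groth.Statements.S14896
import Mathlib.Tactic
import Mathlib.RingTheory.Unramified.LocalStructure
import Mathlib.RingTheory.QuasiFinite.Basic
import Mathlib.RingTheory.Etale.Basic

set_option autoImplicit false
universe u
open CAlg

namespace Groth.Agent.S14896

theorem etale_of_atPrime_of_finite_spec (R : Type*) [CommRing R] [Finite (PrimeSpectrum R)]
    (B : Type*) [CommRing B] [Algebra R B] [Algebra.Etale R B]
    (T : Type*) [CommRing T] [Algebra R T] [Algebra B T] [IsScalarTower R B T]
    (P : Ideal B) [P.IsPrime] [IsLocalization.AtPrime T P] : Algebra.Etale R T := by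
  classical
  haveI : Algebra.QuasiFinite R B := inferInstance
  haveI : Finite (PrimeSpectrum B) := Algebra.QuasiFinite.finite_primeSpectrum R B
  haveI : Fintype (PrimeSpectrum B) := Fintype.ofFinite _
  have hex : ∀ Q : PrimeSpectrum B, ∃ c : B, c ∉ P ∧ (¬ Q.asIdeal ≤ P → c ∈ Q.asIdeal) := by
    intro Q
    by_cases h : Q.asIdeal ≤ P
    · exact ⟨1, fun h1 => (Ideal.IsPrime.ne_top inferInstance) ((Ideal.eq_top_iff_one P).mpr h1),
        fun h' => (h' h).elim⟩
    · obtain ⟨c, hcQ, hcP⟩ := SetLike.not_le_iff_exists.mp h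
      exact ⟨c, hcP, fun _ => hcQ⟩
  choose c hcP hcQ using hex
  set b : B := ∏ Q : PrimeSpectrum B, c Q with hb
  have hbP : b ∉ P := by
    rw [hb, Ideal.IsPrime.prod_mem_iff]
    rintro ⟨Q, _, hQ⟩
    exact hcP Q hQ
  have hbQ : ∀ Q : PrimeSpectrum B, ¬ Q.asIdeal ≤ P → b ∈ Q.asIdeal := by
    intro Q hQ
    exact Ideal.prod_mem _ (Finset.mem_univ Q) (hcQ Q hQ)
  have h₁ : Submonoid.powers b ≤ P.primeCompl := by
    rw [Submonoid.powers_le]
    exact hbP
  have h₂ : ∀ n ∈ P.primeCompl, ∃ m ∈ Submonoid.powers b, n ∣ m := by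
    intro n hn
    have hrad : b ∈ (Ideal.span {n}).radical := by
      rw [Ideal.radical_eq_sInf, Ideal.mem_sInf]
      rintro J ⟨hJ1, hJ2⟩
      have hnJ : n ∈ J := hJ1 (Ideal.subset_span rfl)
      have : ¬ J ≤ P := fun hJP => hn (hJP hnJ)
      exact hbQ ⟨J, hJ2⟩ this
    obtain ⟨k, hk⟩ := hrad
    exact ⟨b ^ k, ⟨k, rfl⟩, Ideal.mem_span_singleton.mp hk⟩
  haveI : IsLocalization.Away b T :=
    (IsLocalization.iff_of_le_of_exists_dvd (M := Submonoid.powers b) (S := T)
      P.primeCompl h₁ h₂).mpr inferInstance
  haveI : Algebra.Etale B T := Algebra.Etale.of_isLocalizationAway b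
  exact Algebra.Etale.comp R B T

/-- Let L/K be a finite extension of valued fields, v_L extending v_K, with K° = the valuation ring of
v_K having finite spectrum (finite height), and L° the valuation ring of v_L. If L° is local-étale
over K°, i.e. L° is the localization at a prime ideal of some étale K°-algebra B compatibly with the
K°-algebra structures, then L° is étale over K°. (For valued fields of finite height 'unramified' in
the local-étale sense is thus the same as K° → L° étale; the published lemma phrases the hypothesis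
as 'L/K unramified'.) -/
theorem result
    {K L Γ₀ Γ₁ : Type u} [Field K] [Field L] [Algebra K L] [FiniteDimensional K L]
    [LinearOrderedCommGroupWithZero Γ₀] [LinearOrderedCommGroupWithZero Γ₁]
    (vK : Valuation K Γ₀) (vL : Valuation L Γ₁) [vK.HasExtension vL]
    [Finite (PrimeSpectrum vK.valuationSubring)]
    (B : Type u) [CommRing B] [Algebra vK.valuationSubring B] [Algebra.Etale vK.valuationSubring B]
    [Algebra B vL.valuationSubring] [IsScalarTower vK.valuationSubring B vL.valuationSubring]
    (P : Ideal B) [P.IsPrime] [IsLocalization.AtPrime vL.valuationSubring P] :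
    Algebra.Etale vK.valuationSubring vL.valuationSubring := by
  exact etale_of_atPrime_of_finite_spec vK.valuationSubring B vL.valuationSubring P

end Groth.Agent.S14896
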