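import Groth.Statements.S14897
import Groth.Agent.Lib.Helper16.YBlowUp2
import Groth.Agent.Lib.Helper7.ProjSpaceProper

set_option autoImplicit false
universe u
open CategoryTheory CategoryTheory.Limits AlgebraicGeometry
open FlatMor

namespace Groth.Agent.S14897

/-- Let S be integral, quasi-compact and quasi-separated, K̄ a field with a dominant morphism η̄ : Spec
K̄ → S, and f ∈ K̄. Then there is a K̄-modification of S on which f is a rational function defining
a morphism to the projective line: η̄ factors as a schematically dominant s : Spec K̄ → S' followed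
by a proper S' → S, and there is F : S' → P¹ (Proj of ℤ[T₀, T₁], universe-lifted) with s ≫ F equal
to the K̄-point [1 : f] of the chart T₀ ≠ 0. -/
theorem result
    {S : Scheme.{u}} [IsIntegral S] [CompactSpace S] [QuasiSeparatedSpace S]
    (Kb : Type u) [Field Kb] (ηb : Spec (CommRingCat.of Kb) ⟶ S) [IsDominant ηb] (f : Kb) :
    ∃ (S' : Scheme.{u}) (s : Spec (CommRingCat.of Kb) ⟶ S') (q : S' ⟶ S)
      (F : S' ⟶ CohB1.ProjSpace 1 P1.R0.{u}),
      IsSchemeTheoreticallyDominant s ∧ IsProper q ∧ s ≫ q = ηb ∧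
      s ≫ F = Spec.map (CommRingCat.ofHom (P1.chartMap 0 Kb f)) ≫
        Proj.awayι P1.grading (P1.T 0) (P1.X_mem 0) one_pos := by
  classical
  obtain ⟨pt, hpt⟩ : ∃ pt : Spec (CommRingCat.of Kb) ⟶ CohB1.ProjSpace 1 P1.R0.{u},
      pt = Spec.map (CommRingCat.ofHom (P1.chartMap 0 Kb f)) ≫
        Proj.awayι P1.grading (P1.T 0) (P1.X_mem 0) one_pos := ⟨_, rfl⟩
  have hcond : pt ≫ CohB1.ProjSpace.toSpec 1 (ULift.{u} ℤ) =
      ηb ≫ specULiftZIsTerminal.from S := specULiftZIsTerminal.hom_ext _ _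
  obtain ⟨φ, hφ⟩ : ∃ φ : Spec (CommRingCat.of Kb) ⟶ CohB1.ProjSpaceOver 1 S,
      φ = Limits.pullback.lift pt ηb hcond := ⟨_, rfl⟩
  have hφ₁ : φ ≫ Limits.pullback.fst (CohB1.ProjSpace.toSpec 1 (ULift.{u} ℤ))
      (specULiftZIsTerminal.from S) = pt := by
    rw [hφ]; exact Limits.pullback.lift_fst _ _ _
  have hφ₂ : φ ≫ CohB1.ProjSpaceOver.toBase 1 S = ηb := by
    rw [hφ]; exact Limits.pullback.lift_snd _ _ _
  haveI : QuasiCompact (φ ≫ CohB1.ProjSpaceOver.toBase 1 S) := by
    rw [hφ₂]; infer_instance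
  haveI : QuasiCompact φ := QuasiCompact.of_comp φ (CohB1.ProjSpaceOver.toBase 1 S)
  haveI : IsSchemeTheoreticallyDominant φ.toImage :=
    Groth.Agent.Lib.Helper16.YBlowUp.isSchemeTheoreticallyDominant_toImage φ
  have hti : φ.toImage ≫ φ.imageι = φ := φ.toImage_imageι
  refine ⟨φ.image, φ.toImage, φ.imageι ≫ CohB1.ProjSpaceOver.toBase 1 S,
    φ.imageι ≫ Limits.pullback.fst (CohB1.ProjSpace.toSpec 1 (ULift.{u} ℤ))
      (specULiftZIsTerminal.from S), inferInstance, inferInstance, ?_, ?_⟩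
  · rw [← Category.assoc, hti, hφ₂]
  · rw [← Category.assoc, hti, hφ₁, hpt]

end Groth.Agent.S14897
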