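import Groth.Statements.S14901
import Groth.Agent.Lib.Helper73.DimFormula.ImageDim

set_option autoImplicit false
universe u
open MovLem

namespace Groth.Agent.S14901

open AlgebraicGeometry CategoryTheory in
/-- Let k be a field, let S and X be separated k-schemes of finite type that are locally equidimensional
(all irreducible components passing through a given point have the same dimension), let f : S → X be
a k-morphism and Z ⊆ X a closed subset. Let d be the dimension of the image f(S), as a subspace of
X. If every point s of S with f(s) ∈ Z satisfies dim O_{S,s} ≥ d + 1 (equivalently: the closed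
subset f⁻¹(Z) of S has local codimension at least d + 1 at each of its points), then f⁻¹(Z) is
empty. -/
theorem result (k : Type u) [Field k] (S X : Scheme.{u})
    (pS : S ⟶ Spec (CommRingCat.of k)) (pX : X ⟶ Spec (CommRingCat.of k))
    [IsSeparated pS] [LocallyOfFiniteType pS] [QuasiCompact pS]
    [IsSeparated pX] [LocallyOfFiniteType pX] [QuasiCompact pX]
    (hS : ∀ (s : S) (A B : Set S), A ∈ irreducibleComponents (S : Type u) → B ∈ irreducibleComponents (S : Type u) →
      s ∈ A → s ∈ B → topologicalKrullDim A = topologicalKrullDim B)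
    (hX : ∀ (x : X) (A B : Set X), A ∈ irreducibleComponents (X : Type u) → B ∈ irreducibleComponents (X : Type u) →
      x ∈ A → x ∈ B → topologicalKrullDim A = topologicalKrullDim B)
    (f : S ⟶ X) (hf : f ≫ pX = pS) (Z : Set X) (hZ : IsClosed Z)
    (h : ∀ s : S, f.base s ∈ Z →
      topologicalKrullDim (Set.range f.base) + 1 ≤ ringKrullDim (S.presheaf.stalk s)) :
    f.base ⁻¹' Z = ∅ := by
  open Groth.Agent.Lib.Helper73 AlgebraicGeometry CategoryTheory TopologicalSpace in
  by_contra hne
  obtain ⟨s₀, hs₀⟩ := Set.nonempty_iff_ne_empty.mpr hne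
  have hcl : IsClosed (f ⁻¹' Z) := hZ.preimage f.continuous
  obtain ⟨s, hsZ, -, hsmax⟩ := exists_maximal_specializes_of_isClosed (f ⁻¹' Z) hcl s₀ hs₀
  have hsfib : ∀ t : S, t ⤳ s → f t = f s → t = s := fun t ht hft =>
    hsmax t (by show f t ∈ Z; rw [hft]; exact hsZ) ht
  have hlftf : LocallyOfFiniteType f := by
    have : LocallyOfFiniteType (f ≫ pX) := by rw [hf]; infer_instance
    exact locallyOfFiniteType_of_comp f pX
  have hqcf : QuasiCompact f := by
    have : QuasiCompact (f ≫ pX) := by rw [hf]; infer_instance
    exact QuasiCompact.of_comp f pX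
  have : IsLocallyNoetherian S := LocallyOfFiniteType.isLocallyNoetherian pS
  obtain ⟨c, hc⟩ := exists_ringKrullDim_stalk_eq_natCast s
  have hD := h s hsZ
  rw [hc] at hD
  have hDbot : topologicalKrullDim ↥(Set.range f) ≠ ⊥ := by
    intro e
    have h0 : (0 : WithBot ℕ∞) ≤ topologicalKrullDim ↥(Set.range f) := by
      unfold topologicalKrullDim
      have : Nonempty (IrreducibleCloseds ↥(Set.range f)) :=
        ⟨⟨closure {⟨f s, s, rfl⟩}, isIrreducible_singleton.closure, isClosed_closure⟩⟩
      exact Order.krullDim_nonneg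
    rw [e] at h0
    exact absurd h0 (by simp)
  obtain ⟨D', hD'⟩ := WithBot.ne_bot_iff_exists.mp hDbot
  rw [← hD'] at hD
  have hD'' : D' + 1 ≤ (c : ℕ∞) := by exact_mod_cast hD
  have hD'top : D' ≠ ⊤ := by
    intro e; rw [e, top_add] at hD''; exact absurd hD'' (by simp)
  obtain ⟨d, hd⟩ := ENat.ne_top_iff_exists.mp hD'top
  rw [← hd] at hD'' hD'
  have hdc : d + 1 ≤ c := by exact_mod_cast hD''
  -- the key bound
  have hδS := isDimFun_trdegNat pS
  have key : ∀ η : S, η ⤳ s → (trdegNat pS η : ℕ∞) ≤ ((d + trdegNat pS s : ℕ) : ℕ∞) := by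
    intro η hη
    have h1 := trdegNat_eq_add pS pX f hf η
    have h2 := trdegNat_eq_add pS pX f hf s
    have h3 : resTrdegNat f η ≤ resTrdegNat f s := by
      have a1 := resTrdegNat_le_fibreDimAt f η
      have a2 := fibreDimAt_le_of_specializes f hη
      rw [fibreDimAt_eq_resTrdegNat_of_maximal f s hsfib] at a2
      exact_mod_cast a1.trans a2
    have h4 : trdegNat pX (f η) ≤ d := by
      have := trdegNat_le_topologicalKrullDim_range pX f η
      rw [← hD'] at this
      exact_mod_cast this
    exact_mod_cast (by omega : trdegNat pS η ≤ d + trdegNat pS s)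
  have hco := hδS.coheight_add_le key
  rw [ringKrullDim_stalk_eq_coheight] at hc
  have hc' : (Order.coheight s : ℕ∞) = c := by exact_mod_cast hc
  rw [hc'] at hco
  have : c + trdegNat pS s ≤ d + trdegNat pS s := by exact_mod_cast hco
  omega

end Groth.Agent.S14901
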