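import Groth.Statements.S1491
import Mathlib.Tactic
import Groth.Agent.Lib.Helper43.KRComp
-- import your own Groth.Agent.* helpers here

set_option autoImplicit false
universe u
attribute [local instance] HasDerivedCategory.standard
open FlatMor

namespace Groth.Agent.S1491

open Groth.Agent.Lib.Helper43.KRComp

open AlgebraicGeometry CategoryTheory Limits in
/-- Let f : X → Y and g : Y → Z be local complete intersection morphisms, in the affine-local sense that
all ring maps between affine opens are local complete intersection homomorphisms. Then f ≫ g is a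
local complete intersection morphism. -/
theorem result {X Y Z : Scheme.{u}} (f : X ⟶ Y) (g : Y ⟶ Z)
    (hf : (∀ (U : X.Opens) (V : Y.Opens) (hU : IsAffineOpen U) (hV : IsAffineOpen V) (hUV : U ≤ f ⁻¹ᵁ V),
        letI := (f.appLE V U hUV).hom.toAlgebra
        LCI.IsLCI Γ(Y, V) Γ(X, U)))
    (hg : (∀ (U : Y.Opens) (V : Z.Opens) (hU : IsAffineOpen U) (hV : IsAffineOpen V) (hUV : U ≤ g ⁻¹ᵁ V),
        letI := (g.appLE V U hUV).hom.toAlgebra
        LCI.IsLCI Γ(Z, V) Γ(Y, U))) :
    (∀ (U : X.Opens) (V : Z.Opens) (hU : IsAffineOpen U) (hV : IsAffineOpen V) (hUV : U ≤ (f ≫ g) ⁻¹ᵁ V),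
        letI := ((f ≫ g).appLE V U hUV).hom.toAlgebra
        LCI.IsLCI Γ(Z, V) Γ(X, U)) := by
  intro U W hU hW hUW
  change IsLCIHom ((f ≫ g).appLE W U hUW).hom
  have key : ∀ x : U, ∃ s : Γ(X, U), (x : X) ∈ X.basicOpen s ∧
      IsLCIHom ((algebraMap Γ(X, U) (Localization.Away s)).comp
        ((f ≫ g).appLE W U hUW).hom) := by
    intro x
    have hy : f x.1 ∈ g ⁻¹ᵁ W := by
      have := hUW x.2
      simpa using this
    obtain ⟨V, hVaff, hyV, hVW⟩ := TopologicalSpace.Opens.isBasis_iff_nbhd.1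
      Y.isBasis_affineOpens hy
    obtain ⟨s, hsle, hxs⟩ := hU.exists_basicOpen_le (V := U ⊓ f ⁻¹ᵁ V) ⟨x.1, x.2, hyV⟩ x.2
    refine ⟨s, hxs, ?_⟩
    have hD : IsAffineOpen (X.basicOpen s) := hU.basicOpen s
    have hle1 : X.basicOpen s ≤ f ⁻¹ᵁ V := hsle.trans inf_le_right
    have h1 : IsLCIHom (f.appLE V (X.basicOpen s) hle1).hom := hf _ _ hD hVaff hle1
    have h2 : IsLCIHom (g.appLE W V hVW).hom := hg _ _ hVaff hW hVW
    have h3 := h2.comp h1
    have e1 : (f.appLE V (X.basicOpen s) hle1).hom.comp (g.appLE W V hVW).hom =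
        (algebraMap Γ(X, U) Γ(X, X.basicOpen s)).comp ((f ≫ g).appLE W U hUW).hom := by
      rw [← CommRingCat.hom_comp, Scheme.Hom.appLE_comp_appLE]
      have := Scheme.Hom.appLE_map (f ≫ g) hUW (homOfLE (X.basicOpen_le s)).op
      rw [← this]
      rfl
    rw [e1] at h3
    have := hU.isLocalization_basicOpen s
    let e : Γ(X, X.basicOpen s) ≃ₐ[Γ(X, U)] Localization.Away s :=
      IsLocalization.algEquiv (Submonoid.powers s) _ _
    have h4 := h3.of_equiv e.toRingEquiv
    have e2 : ((e.toRingEquiv : _ →+* _)).comp ((algebraMap Γ(X, U) Γ(X, X.basicOpen s)).comp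
        ((f ≫ g).appLE W U hUW).hom) = (algebraMap Γ(X, U) (Localization.Away s)).comp
        ((f ≫ g).appLE W U hUW).hom := by
      rw [← RingHom.comp_assoc]
      congr 1
      ext r
      exact e.commutes r
    rwa [e2] at h4
  choose s hxs hs using key
  apply IsLCIHom.of_span _ s ?_ hs
  rw [← hU.self_le_iSup_basicOpen_iff]
  intro x hx
  rw [TopologicalSpace.Opens.mem_iSup]
  exact ⟨⟨s ⟨x, hx⟩, ⟨_, rfl⟩⟩, hxs ⟨x, hx⟩⟩

end Groth.Agent.S1491
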