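import Groth.Statements.S14915
import Groth.Agent.Lib.Helper20.PerfAff2

set_option autoImplicit false
universe u
open CategoryTheory AlgebraicGeometry
open PerfSch

namespace Groth.Agent.S14915

/-- Let p be a prime and let X, Y, X', Y' be schemes of characteristic p (p = 0 in the structure sheaf).
Let π_X : X' ⟶ X and π_Y : Y' ⟶ Y be perfections: X' is perfect (its absolute Frobenius is an
isomorphism) and every morphism from a perfect scheme of characteristic p to X factors uniquely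
through π_X, and likewise for π_Y. Let f : X ⟶ Y be a morphism and f' : X' ⟶ Y' the induced morphism
of perfections, the one with f' ≫ π_Y = π_X ≫ f. Then f is affine if and only if f' is affine. -/
theorem result (p : ℕ) [Fact p.Prime] {X Y XP YP : Scheme.{u}}
    [FrobSch.IsCharP X p] [FrobSch.IsCharP Y p] [FrobSch.IsCharP XP p] [FrobSch.IsCharP YP p]
    (πX : XP ⟶ X) (πY : YP ⟶ Y) (hX : FrobSch.IsPerfection πX p) (hY : FrobSch.IsPerfection πY p)
    (f : X ⟶ Y) (fP : XP ⟶ YP) (w : fP ≫ πY = πX ≫ f) :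
    AlgebraicGeometry.IsAffineHom f ↔ AlgebraicGeometry.IsAffineHom fP := by
  have hπX : IsIntegralHom πX := Groth.Agent.Lib.Helper63.Perf.isIntegralHom_of_isPerfection p πX hX
  have hπY : IsIntegralHom πY := Groth.Agent.Lib.Helper63.Perf.isIntegralHom_of_isPerfection p πY hY
  constructor
  · intro hf
    have : IsAffineHom (fP ≫ πY) := by rw [w]; infer_instance
    exact IsAffineHom.of_comp fP πY
  · intro hfP
    have hcomp : IsAffineHom (πX ≫ f) := by rw [← w]; infer_instance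
    refine ⟨fun U hU => ?_⟩
    have h1 : IsAffineOpen (πX ⁻¹ᵁ (f ⁻¹ᵁ U)) := hcomp.isAffine_preimage U hU
    have hc : FrobSch.IsCharP ((πX ⁻¹ᵁ (f ⁻¹ᵁ U) : XP.Opens) : Scheme.{u}) p :=
      FrobSch.IsCharP.of_hom (Scheme.Opens.ι _) p
    have hc' : FrobSch.IsCharP ((f ⁻¹ᵁ U : X.Opens) : Scheme.{u}) p :=
      FrobSch.IsCharP.of_hom (Scheme.Opens.ι _) p
    have hU' : FrobSch.IsPerfection (πX ∣_ (f ⁻¹ᵁ U)) p :=
      Groth.Agent.Lib.Helper63.Perf.isPerfection_restrict p πX hX (f ⁻¹ᵁ U).ι (πX ⁻¹ᵁ (f ⁻¹ᵁ U)).ι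
        (by rw [Scheme.Opens.range_ι, Scheme.Opens.range_ι]; rfl) (πX ∣_ (f ⁻¹ᵁ U))
        (morphismRestrict_ι πX (f ⁻¹ᵁ U))
    haveI : IsAffine ((πX ⁻¹ᵁ (f ⁻¹ᵁ U) : XP.Opens) : Scheme.{u}) := h1
    exact Groth.Agent.Lib.Helper20.PerfAff.isAffine_of_isAffine_perfection p _ hU'

end Groth.Agent.S14915
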