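import Groth.Statements.S14919
import Groth.Agent.Lib.Helper63.PerfAffine

set_option autoImplicit false
universe u
open CategoryTheory AlgebraicGeometry
open PerfSch

namespace Groth.Agent.S14919

open Groth.Agent.Lib.Helper63.Perf FrobSch

/-- Let p be a prime and let X, Y, X', Y' be schemes of characteristic p (p = 0 in the structure sheaf).
Let π_X : X' ⟶ X and π_Y : Y' ⟶ Y be perfections: X' is perfect (its absolute Frobenius is an
isomorphism) and every morphism from a perfect scheme of characteristic p to X factors uniquely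
through π_X, and likewise for π_Y. Let f : X ⟶ Y be a morphism and f' : X' ⟶ Y' the induced morphism
of perfections, the one with f' ≫ π_Y = π_X ≫ f. If f is a closed immersion, then so is f'. -/
theorem result (p : ℕ) [Fact p.Prime] {X Y XP YP : Scheme.{u}}
    [FrobSch.IsCharP X p] [FrobSch.IsCharP Y p] [FrobSch.IsCharP XP p] [FrobSch.IsCharP YP p]
    (πX : XP ⟶ X) (πY : YP ⟶ Y) (hX : FrobSch.IsPerfection πX p) (hY : FrobSch.IsPerfection πY p)
    (f : X ⟶ Y) (fP : XP ⟶ YP) (w : fP ≫ πY = πX ≫ f)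
    [AlgebraicGeometry.IsClosedImmersion f] : AlgebraicGeometry.IsClosedImmersion fP := by
  have hsup : (⨆ V : Y.affineOpens, πY ⁻¹ᵁ V.1) = ⊤ := by
    rw [← Scheme.Hom.preimage_iSup, iSup_affineOpens_eq_top]
    rfl
  rw [IsZariskiLocalAtTarget.iff_of_iSup_eq_top (P := @IsClosedImmersion) _ hsup]
  intro V
  let V' : YP.Opens := πY ⁻¹ᵁ V.1
  let W : X.Opens := f ⁻¹ᵁ V.1
  let W' : XP.Opens := fP ⁻¹ᵁ V'
  have hc1 : IsCharP (V' : Scheme.{u}) p := IsCharP.of_hom V'.ι p
  have hc2 : IsCharP (W' : Scheme.{u}) p := IsCharP.of_hom W'.ι p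
  have haff : IsAffine (V.1 : Scheme.{u}) := V.2
  have hV' : IsPerfection (πY ∣_ V.1) p :=
    isPerfection_restrict p πY hY V.1.ι V'.ι
      (by rw [Scheme.Opens.range_ι, Scheme.Opens.range_ι]; rfl) (πY ∣_ V.1)
      (morphismRestrict_ι πY V.1)
  have hr : Set.range (W'.ι ≫ πX) ⊆ Set.range W.ι := by
    rintro _ ⟨x, rfl⟩
    rw [Scheme.Opens.range_ι]
    change f ((W'.ι ≫ πX) x) ∈ V.1
    rw [← Scheme.Hom.comp_apply, Category.assoc, ← w, Scheme.Hom.comp_apply,
      Scheme.Hom.comp_apply]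
    exact x.2
  let π' : (W' : Scheme.{u}) ⟶ W := IsOpenImmersion.lift W.ι (W'.ι ≫ πX) hr
  have hπ'w : π' ≫ W.ι = W'.ι ≫ πX := IsOpenImmersion.lift_fac _ _ _
  have hrange : Set.range W'.ι = πX ⁻¹' Set.range W.ι := by
    rw [Scheme.Opens.range_ι, Scheme.Opens.range_ι]
    ext x
    change πY (fP x) ∈ V.1 ↔ f (πX x) ∈ V.1
    rw [← Scheme.Hom.comp_apply, ← Scheme.Hom.comp_apply, w]
  have hW' : IsPerfection π' p := isPerfection_restrict p πX hX W.ι W'.ι hrange π' hπ'w
  have hsq : (fP ∣_ V') ≫ (πY ∣_ V.1) = π' ≫ (f ∣_ V.1) := by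
    rw [← cancel_mono V.1.ι, Category.assoc, Category.assoc, morphismRestrict_ι,
      morphismRestrict_ι, morphismRestrict_ι_assoc, ← Category.assoc π', hπ'w, Category.assoc, w]
  have hcl : IsClosedImmersion (f ∣_ V.1) := IsZariskiLocalAtTarget.restrict ‹_› V.1
  exact isClosedImmersion_of_isAffine p π' (πY ∣_ V.1) hW' hV' (f ∣_ V.1) (fP ∣_ V') hsq

end Groth.Agent.S14919
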