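import Groth.Statements.S1492
import Mathlib.Tactic
import Groth.Agent.Lib.Helper43.LCIDescent
-- import your own Groth.Agent.* helpers here

set_option autoImplicit false
universe u
attribute [local instance] HasDerivedCategory.standard
open FlatMor

namespace Groth.Agent.S1492

open Groth.Agent.Lib.Helper43.LCIDescent Groth.Agent.Lib.Helper43.KRComp

open AlgebraicGeometry CategoryTheory Limits in
/-- Let S' → S be flat, surjective and quasi-compact and f' : X' → S' the base change of f : X → S. If
f' is a local complete intersection morphism (affine-locally: local complete intersection ring maps)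
then so is f. -/
theorem result {X S X' S' : Scheme.{u}} (f : X ⟶ S) (f' : X' ⟶ S') (g' : X' ⟶ X) (g : S' ⟶ S)
    [Flat g] [Surjective g] [QuasiCompact g] (hc : IsPullback g' f' f g)
    (hf' : (∀ (U : X'.Opens) (V : S'.Opens) (hU : IsAffineOpen U) (hV : IsAffineOpen V) (hUV : U ≤ f' ⁻¹ᵁ V),
        letI := (f'.appLE V U hUV).hom.toAlgebra
        LCI.IsLCI Γ(S', V) Γ(X', U))) :
    (∀ (U : X.Opens) (V : S.Opens) (hU : IsAffineOpen U) (hV : IsAffineOpen V) (hUV : U ≤ f ⁻¹ᵁ V),
        letI := (f.appLE V U hUV).hom.toAlgebra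
        LCI.IsLCI Γ(S, V) Γ(X, U)) := by
  have hP' : lciMor f' := by
    rw [HasRingHomProperty.iff_appLE (P := lciMor)]
    intro V U e
    exact hf' U.1 V.1 U.2 V.2 e
  have hQ : (@Surjective ⊓ @Flat ⊓ @QuasiCompact : MorphismProperty Scheme.{u}) g :=
    ⟨⟨inferInstance, inferInstance⟩, inferInstance⟩
  haveI := lciMor_descendsAlong.{u}
  have hP : lciMor f :=
    MorphismProperty.of_isPullback_of_descendsAlong (P := lciMor)
      (Q := (@Surjective ⊓ @Flat ⊓ @QuasiCompact : MorphismProperty Scheme.{u})) hc.flip hQ hP'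
  rw [HasRingHomProperty.iff_appLE (P := lciMor)] at hP
  intro U V hU hV hUV
  exact hP ⟨V, hV⟩ ⟨U, hU⟩ hUV

end Groth.Agent.S1492
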