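import Groth.Statements.S14920
import Groth.Agent.Lib.Helper63.Perf

set_option autoImplicit false
universe u
open CategoryTheory AlgebraicGeometry
open PerfSch

namespace Groth.Agent.S14920

open Groth.Agent.Lib.Helper63.Perf

/-- Let p be a prime and let X, Y, X', Y' be schemes of characteristic p (p = 0 in the structure sheaf).
Let π_X : X' ⟶ X and π_Y : Y' ⟶ Y be perfections: X' is perfect (its absolute Frobenius is an
isomorphism) and every morphism from a perfect scheme of characteristic p to X factors uniquely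
through π_X, and likewise for π_Y. Let f : X ⟶ Y be a morphism and f' : X' ⟶ Y' the induced morphism
of perfections, the one with f' ≫ π_Y = π_X ≫ f. If f is an open immersion, then so is f'. -/
theorem result (p : ℕ) [Fact p.Prime] {X Y XP YP : Scheme.{u}}
    [FrobSch.IsCharP X p] [FrobSch.IsCharP Y p] [FrobSch.IsCharP XP p] [FrobSch.IsCharP YP p]
    (πX : XP ⟶ X) (πY : YP ⟶ Y) (hX : FrobSch.IsPerfection πX p) (hY : FrobSch.IsPerfection πY p)
    (f : X ⟶ Y) (fP : XP ⟶ YP) (w : fP ≫ πY = πX ≫ f)
    [AlgebraicGeometry.IsOpenImmersion f] : AlgebraicGeometry.IsOpenImmersion fP := by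
  let W : YP.Opens := πY ⁻¹ᵁ f.opensRange
  have : FrobSch.IsCharP (W : Scheme.{u}) p := FrobSch.IsCharP.of_hom W.ι p
  have hr : Set.range (W.ι ≫ πY) ⊆ Set.range f := by
    rintro _ ⟨x, rfl⟩
    rw [Scheme.Hom.comp_apply]
    exact x.2
  let π' : (W : Scheme.{u}) ⟶ X := IsOpenImmersion.lift f (W.ι ≫ πY) hr
  have hw : π' ≫ f = W.ι ≫ πY := IsOpenImmersion.lift_fac _ _ _
  have hrange : Set.range W.ι = πY ⁻¹' Set.range f := by
    rw [Scheme.Opens.range_ι]
    rfl
  have hπ' : FrobSch.IsPerfection π' p := isPerfection_restrict p πY hY f W.ι hrange π' hw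
  obtain ⟨e, he⟩ := isPerfection_unique p πX π' hX hπ'
  have hfP : fP = e.hom ≫ W.ι := by
    apply (hY.2 XP hX.1).1
    change fP ≫ πY = (e.hom ≫ W.ι) ≫ πY
    rw [Category.assoc, ← hw, ← Category.assoc, he, w]
  rw [hfP]
  infer_instance

end Groth.Agent.S14920
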