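import Groth.Statements.S14922
import Groth.Agent.Lib.Helper63.PerfEtale

set_option autoImplicit false
universe u
open CategoryTheory AlgebraicGeometry
open PerfSch

namespace Groth.Agent.S14922

open Groth.Agent.Lib.Helper63.Perf FrobSch CategoryTheory.Limits

/-- Let p be a prime and let X, Y, X', Y' be schemes of characteristic p (p = 0 in the structure sheaf).
Let π_X : X' ⟶ X and π_Y : Y' ⟶ Y be perfections: X' is perfect (its absolute Frobenius is an
isomorphism) and every morphism from a perfect scheme of characteristic p to X factors uniquely
through π_X, and likewise for π_Y. Let f : X ⟶ Y be a morphism and f' : X' ⟶ Y' the induced morphism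
of perfections, the one with f' ≫ π_Y = π_X ≫ f. If f is etale, then the commutative square formed
by f', π_X, π_Y and f is cartesian, i.e. X' with the maps f' and π_X is a fibre product of Y' and X
over Y; in particular f', being a base change of f, is etale. (The published item states that the
perfection of an etale morphism is etale; this row states what its proof establishes, that X' ⟶ X
×_Y Y' is an isomorphism, from which etaleness of f' follows by base change.) -/
theorem result (p : ℕ) [Fact p.Prime] {X Y XP YP : Scheme.{u}}
    [FrobSch.IsCharP X p] [FrobSch.IsCharP Y p] [FrobSch.IsCharP XP p] [FrobSch.IsCharP YP p]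
    (πX : XP ⟶ X) (πY : YP ⟶ Y) (hX : FrobSch.IsPerfection πX p) (hY : FrobSch.IsPerfection πY p)
    (f : X ⟶ Y) (fP : XP ⟶ YP) (w : fP ≫ πY = πX ≫ f)
    [AlgebraicGeometry.Etale f] : IsPullback fP πX πY f := by
  have hcW : IsCharP (pullback πY f) p := IsCharP.of_hom (pullback.fst πY f) p
  have hYP : IsPerfect YP p := hY.1
  have hW : IsPerfect (pullback πY f) p := isPerfect_of_etale p (pullback.fst πY f)
  have hWperf : IsPerfection (pullback.snd πY f) p := by
    refine ⟨hW, ?_⟩
    intro T _ hT
    constructor
    · intro a b hab
      have hab : a ≫ pullback.snd πY f = b ≫ pullback.snd πY f := hab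
      apply pullback.hom_ext
      · apply (hY.2 T hT).1
        change (a ≫ pullback.fst πY f) ≫ πY = (b ≫ pullback.fst πY f) ≫ πY
        rw [Category.assoc, Category.assoc, pullback.condition, ← Category.assoc,
          ← Category.assoc, hab]
      · exact hab
    · intro h
      obtain ⟨h', hh'⟩ := (hY.2 T hT).2 (h ≫ f)
      have hh' : h' ≫ πY = h ≫ f := hh'
      exact ⟨pullback.lift h' h hh', pullback.lift_snd _ _ _⟩
  obtain ⟨e, he⟩ := isPerfection_unique p πX (pullback.snd πY f) hX hWperf
  have he1 : e.hom ≫ pullback.fst πY f = fP := by
    apply (hY.2 XP hX.1).1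
    change (e.hom ≫ pullback.fst πY f) ≫ πY = fP ≫ πY
    rw [Category.assoc, pullback.condition, ← Category.assoc, he, w]
  exact IsPullback.of_iso_pullback ⟨w⟩ e he1 he

end Groth.Agent.S14922
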