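import Groth.Statements.S14924
import Groth.Agent.Lib.Helper63.PerfFlatSch

set_option autoImplicit false
universe u
open CategoryTheory AlgebraicGeometry
open PerfSch

namespace Groth.Agent.S14924

open Groth.Agent.Lib.Helper63.Perf FrobSch CategoryTheory.Limits

/-- Let p be a prime and let X, Y, X', Y' be schemes of characteristic p (p = 0 in the structure sheaf).
Let π_X : X' ⟶ X and π_Y : Y' ⟶ Y be perfections: X' is perfect (its absolute Frobenius is an
isomorphism) and every morphism from a perfect scheme of characteristic p to X factors uniquely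
through π_X, and likewise for π_Y. Let f : X ⟶ Y be a morphism and f' : X' ⟶ Y' the induced morphism
of perfections, the one with f' ≫ π_Y = π_X ≫ f. If f is faithfully flat (flat and surjective), then
f' is faithfully flat (flat and surjective). -/
theorem result (p : ℕ) [Fact p.Prime] {X Y XP YP : Scheme.{u}}
    [FrobSch.IsCharP X p] [FrobSch.IsCharP Y p] [FrobSch.IsCharP XP p] [FrobSch.IsCharP YP p]
    (πX : XP ⟶ X) (πY : YP ⟶ Y) (hX : FrobSch.IsPerfection πX p) (hY : FrobSch.IsPerfection πY p)
    (f : X ⟶ Y) (fP : XP ⟶ YP) (w : fP ≫ πY = πX ≫ f)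
    [AlgebraicGeometry.Flat f] [AlgebraicGeometry.Surjective f] : AlgebraicGeometry.Flat fP ∧ AlgebraicGeometry.Surjective fP := by
  refine ⟨flat_of_isPerfection p πX πY hX hY f fP w, ?_⟩
  have hcW : IsCharP (pullback πY f) p := IsCharP.of_hom (pullback.fst πY f) p
  let c : XP ⟶ pullback πY f := pullback.lift fP πX w
  have hc1 : c ≫ pullback.fst πY f = fP := pullback.lift_fst _ _ _
  have hc2 : c ≫ pullback.snd πY f = πX := pullback.lift_snd _ _ _
  have hc : IsPerfection c p := by
    refine ⟨hX.1, ?_⟩
    intro T _ hT
    constructor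
    · intro h1 h2 h12
      have h12 : h1 ≫ c = h2 ≫ c := h12
      apply (hX.2 T hT).1
      change h1 ≫ πX = h2 ≫ πX
      rw [← hc2, ← Category.assoc, h12, Category.assoc]
    · intro h
      obtain ⟨h', hh'⟩ := (hX.2 T hT).2 (h ≫ pullback.snd πY f)
      have hh' : h' ≫ πX = h ≫ pullback.snd πY f := hh'
      refine ⟨h', ?_⟩
      change h' ≫ c = h
      apply pullback.hom_ext
      · apply (hY.2 T hT).1
        change ((h' ≫ c) ≫ pullback.fst πY f) ≫ πY = (h ≫ pullback.fst πY f) ≫ πY
        rw [Category.assoc, Category.assoc, ← Category.assoc c, hc1, w, ← Category.assoc, hh',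
          Category.assoc, Category.assoc, pullback.condition]
      · rw [Category.assoc, hc2, hh']
  have hcs : Surjective c := surjective_of_isPerfection p c hc
  have hfs : Surjective (pullback.fst πY f) := inferInstance
  rw [← hc1]
  infer_instance

end Groth.Agent.S14924
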