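import Groth.Statements.S14925
import Groth.Agent.Lib.Helper35.PerfPic

set_option autoImplicit false
universe u
open CategoryTheory AlgebraicGeometry
open PerfSch

namespace Groth.Agent.S14925

/-- Let p be a prime and X a quasi-compact quasi-separated scheme of characteristic p. Let π : X' ⟶ X be
a perfection of X: X' is a perfect scheme of characteristic p (its absolute Frobenius is an
isomorphism) and every morphism from a perfect scheme of characteristic p to X factors uniquely
through π. For an invertible O_X-module L, the pullback π^*L is isomorphic to the structure sheaf of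
X' if and only if some tensor power L^{⊗ p^n}, n ≥ 0, is isomorphic to the structure sheaf of X.
(The published statement is that pullback along π induces an isomorphism Pic(X)[1/p] ≅ Pic(X'); this
row is the assertion that the kernel of Pic(X) → Pic(X') is the p-power torsion.) -/
theorem result (p : ℕ) [Fact p.Prime] {X XP : Scheme.{u}} [FrobSch.IsCharP X p] [FrobSch.IsCharP XP p]
    [CompactSpace X] [QuasiSeparatedSpace X] (πX : XP ⟶ X) (hX : FrobSch.IsPerfection πX p)
    (L : X.Modules) (hL : PicF.IsInvertible L) :
    PicF.IsTrivialCl (PicF.pullCl πX (PicF.cl L)) ↔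
      ∃ n : ℕ, PicF.IsTrivialCl (PicF.cl (CohB1.tensorPow L (p ^ n))) := by
  have h1 := Groth.Agent.Lib.Helper35.PerfPic.pullback_trivial_iff p πX hX hL
  constructor
  · intro h
    have h2 : Nonempty ((Scheme.Modules.pullback πX).obj L ≅ Coh.structureModule XP) :=
      Groth.Agent.Lib.Helper35.PerfPic.cl_eq_iff.mp h
    obtain ⟨n, hn⟩ := h1.mp h2
    exact ⟨n, Groth.Agent.Lib.Helper35.PerfPic.cl_eq_iff.mpr hn⟩
  · rintro ⟨n, hn⟩
    have h2 : Nonempty (CohB1.tensorPow L (p ^ n) ≅ Coh.structureModule X) :=
      Groth.Agent.Lib.Helper35.PerfPic.cl_eq_iff.mp hn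
    exact Groth.Agent.Lib.Helper35.PerfPic.cl_eq_iff.mpr (h1.mpr ⟨n, h2⟩)

end Groth.Agent.S14925
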