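import Groth.Statements.S14930
import Groth.Agent.Lib.Helper78.Frob
import Mathlib.AlgebraicGeometry.Morphisms.Separated

set_option autoImplicit false
universe u
open CategoryTheory CategoryTheory.Limits AlgebraicGeometry
open Variety

namespace Groth.Agent.S14930

/-- Let p be a prime, S a scheme of characteristic p (p is zero in the structure sheaf) and f : X → S a
morphism of schemes. Then the relative Frobenius F_{X/S} : X → X^(p), where X^(p) = X ×_{S,F_S} S is
the base change of X along the absolute Frobenius of S and F_{X/S} is the morphism over S whose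
composite with the projection X^(p) → X is the absolute Frobenius of X, is a universal homeomorphism
(every base change of it is a homeomorphism), is integral, and induces a purely inseparable
extension of residue fields at every point of X. -/
theorem result (p : ℕ) [Fact p.Prime]
    {X S : Scheme.{u}} [FrobSch.IsCharP S p] (f : X ⟶ S) :
    FlatMor.IsUnivHomeo (FrobSch.relFrob f p) ∧ IsIntegralHom (FrobSch.relFrob f p) ∧
      ∀ x : X, ((FrobSch.relFrob f p).residueFieldMap x).hom.IsPurelyInseparable := by
  haveI hX : FrobSch.IsCharP X p := FrobSch.IsCharP.of_hom f p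
  have hfst : FrobSch.relFrob f p ≫ pullback.fst f (FrobSch.frob S p) = FrobSch.frob X p :=
    FrobSch.relFrob_fst f p
  haveI h1 : IsIntegralHom (pullback.fst f (FrobSch.frob S p)) := inferInstance
  haveI h2 : UniversallyInjective (pullback.fst f (FrobSch.frob S p)) :=
    MorphismProperty.pullback_fst _ _ inferInstance
  haveI h3 : Surjective (pullback.fst f (FrobSch.frob S p)) := inferInstance
  haveI h4 : IsIntegralHom (FrobSch.relFrob f p ≫ pullback.fst f (FrobSch.frob S p)) := by
    rw [hfst]; infer_instance
  haveI h5 : IsIntegralHom (FrobSch.relFrob f p) :=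
    IsIntegralHom.of_comp (FrobSch.relFrob f p) (pullback.fst f (FrobSch.frob S p))
  haveI h6 : UniversallyInjective (FrobSch.relFrob f p) := by
    have hA := (tfae_universallyInjective (FrobSch.relFrob f p)).out 0 1
    have hB := (tfae_universallyInjective (FrobSch.frob X p)).out 0 1
    rw [hA]
    intro K _ g₁ g₂ hg
    refine hB.1 inferInstance K ?_
    change g₁ ≫ FrobSch.frob X p = g₂ ≫ FrobSch.frob X p
    rw [← hfst]
    change g₁ ≫ FrobSch.relFrob f p = g₂ ≫ FrobSch.relFrob f p at hg
    rw [reassoc_of% hg]
  haveI h7 : Surjective (FrobSch.relFrob f p) := by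
    constructor
    intro z
    refine ⟨(pullback.fst f (FrobSch.frob S p)) z, ?_⟩
    apply (pullback.fst f (FrobSch.frob S p)).injective
    rw [← Scheme.Hom.comp_apply, hfst]
    rfl
  have h8 := (tfae_universallyInjective (FrobSch.relFrob f p)).out 0 2
  exact ⟨Groth.Agent.Lib.Helper78.Frob.isUnivHomeo_of _, h5, (h8.1 h6).2⟩

end Groth.Agent.S14930
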