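import Groth.Statements.S14931
import Mathlib.AlgebraicGeometry.Morphisms.Finite
import Mathlib.AlgebraicGeometry.Morphisms.Separated

set_option autoImplicit false
universe u
open CategoryTheory CategoryTheory.Limits AlgebraicGeometry
open Variety

namespace Groth.Agent.S14931

theorem isIntegralHom_frob (p : ℕ) [Fact p.Prime] (X : Scheme.{u}) [FrobSch.IsCharP X p] :
    IsIntegralHom (FrobSch.frob X p) := by
  have haff : IsAffineHom (FrobSch.frob X p) := ⟨fun U hU => hU⟩
  refine ⟨fun U hU => ?_⟩
  intro x
  let y : Γ(X, U) := x
  refine ⟨Polynomial.X ^ p - Polynomial.C y,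
    Polynomial.monic_X_pow_sub_C y (Fact.out : p.Prime).ne_zero, ?_⟩
  rw [Polynomial.eval₂_sub, Polynomial.eval₂_pow, Polynomial.eval₂_X, Polynomial.eval₂_C]
  exact sub_self (x ^ p)

/-- Let p be a prime, S a scheme of characteristic p (p is zero in the structure sheaf) and f : X → S a
morphism of schemes which is locally of finite type. Then the relative Frobenius F_{X/S} : X → X^(p)
= X ×_{S,F_S} S, the morphism over S whose composite with the projection X^(p) → X is the absolute
Frobenius of X, is finite. -/
theorem result (p : ℕ) [Fact p.Prime]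
    {X S : Scheme.{u}} [FrobSch.IsCharP S p] (f : X ⟶ S) [LocallyOfFiniteType f] :
    IsFinite (FrobSch.relFrob f p) := by
  have hX : FrobSch.IsCharP X p := FrobSch.IsCharP.of_hom f p
  have h1 : IsIntegralHom (FrobSch.frob S p) := isIntegralHom_frob p S
  have h2 : IsIntegralHom (FrobSch.frob X p) := isIntegralHom_frob p X
  have hfst : IsAffineHom (Limits.pullback.fst f (FrobSch.frob S p)) := inferInstance
  have hsep : IsSeparated (Limits.pullback.fst f (FrobSch.frob S p)) := inferInstance
  have hint : IsIntegralHom (FrobSch.relFrob f p) := by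
    refine MorphismProperty.of_postcomp (W := @IsIntegralHom) (W' := @IsSeparated)
      (FrobSch.relFrob f p) (Limits.pullback.fst f (FrobSch.frob S p)) hsep ?_
    rw [FrobSch.relFrob_fst]
    exact h2
  have hloft : LocallyOfFiniteType (FrobSch.relFrob f p) := by
    have : LocallyOfFiniteType
        (FrobSch.relFrob f p ≫ Limits.pullback.snd f (FrobSch.frob S p)) := by
      rw [FrobSch.relFrob_snd]
      infer_instance
    exact locallyOfFiniteType_of_comp (FrobSch.relFrob f p)
      (Limits.pullback.snd f (FrobSch.frob S p))
  exact (IsFinite.iff_isIntegralHom_and_locallyOfFiniteType _).2 ⟨hint, hloft⟩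

end Groth.Agent.S14931
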