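import Groth.Statements.S14958
import Groth.Agent.Lib.Helper68.TorMod2
import Groth.Agent.Lib.Helper68.LeftDerivedAdditive

set_option autoImplicit false
universe u
open TensorProduct CategoryTheory CategoryTheory.Limits
open EtAlg

namespace Groth.Agent.S14958

open Groth.Agent.Lib.Helper68

section Maps

variable (B' B A' A : Type u) [CommRing B'] [CommRing B] [CommRing A'] [CommRing A]
    [Algebra B' B] [Algebra B' A'] [Algebra B A] [Algebra A' A] [Algebra B' A]
    [IsScalarTower B' B A] [IsScalarTower B' A' A]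

/-- `B → A` as a `B'`-linear map -/
noncomputable abbrev toAB : B →ₗ[B'] A := (IsScalarTower.toAlgHom B' B A).toLinearMap

/-- `A' → A` as a `B'`-linear map -/
noncomputable abbrev toAA' : A' →ₗ[B'] A := (IsScalarTower.toAlgHom B' A' A).toLinearMap

/-- the diagonal `B' → B × A'` -/
noncomputable def ι : B' →ₗ[B'] B × A' :=
  LinearMap.prod (Algebra.linearMap B' B) (Algebra.linearMap B' A')

/-- the difference map `B × A' → A` -/
noncomputable def π : B × A' →ₗ[B'] A :=
  toAB B' B A ∘ₗ LinearMap.fst B' B A' - toAA' B' A' A ∘ₗ LinearMap.snd B' B A'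

lemma ι_apply (x : B') : ι B' B A' x = (algebraMap B' B x, algebraMap B' A' x) := rfl

lemma π_apply (y : B × A') : π B' B A' A y = algebraMap B A y.1 - algebraMap A' A y.2 := rfl

lemma π_comp_inl : π B' B A' A ∘ₗ LinearMap.inl B' B A' = toAB B' B A := by
  ext x
  simp [π_apply]

lemma π_comp_inr : π B' B A' A ∘ₗ LinearMap.inr B' B A' = -toAA' B' A' A := by
  ext x
  simp [π_apply]

variable {B' B A' A}

lemma ι_injective (hsq : EtMil.IsFibreSquare B' B A' A) : Function.Injective (ι B' B A') := by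
  intro x y hxy
  have h1 : algebraMap B' B x = algebraMap B' B y := congrArg Prod.fst hxy
  have h2 : algebraMap B' A' x = algebraMap B' A' y := congrArg Prod.snd hxy
  have hc : algebraMap B A (algebraMap B' B y) = algebraMap A' A (algebraMap B' A' y) := by
    rw [← IsScalarTower.algebraMap_apply, ← IsScalarTower.algebraMap_apply]
  obtain ⟨z, _, hz⟩ := hsq.2 _ _ hc
  rw [hz x ⟨h1, h2⟩, hz y ⟨rfl, rfl⟩]

lemma π_surjective (hsq : EtMil.IsFibreSquare B' B A' A) :
    Function.Surjective (π B' B A' A) := by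
  intro a
  obtain ⟨a', rfl⟩ := hsq.1 a
  exact ⟨(0, -a'), by simp [π_apply]⟩

lemma exact_ι_π (hsq : EtMil.IsFibreSquare B' B A' A) :
    Function.Exact (ι B' B A') (π B' B A' A) := by
  intro y
  constructor
  · intro hy
    rw [π_apply, sub_eq_zero] at hy
    obtain ⟨z, ⟨hz1, hz2⟩, _⟩ := hsq.2 _ _ hy
    exact ⟨z, by rw [ι_apply, hz1, hz2]⟩
  · rintro ⟨x, rfl⟩
    rw [π_apply, ι_apply, sub_eq_zero, ← IsScalarTower.algebraMap_apply,
      ← IsScalarTower.algebraMap_apply]

variable (B' B A' A)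

/-- injectivity of `L' ⊗ B' → L' ⊗ (B × A')` in elementary terms -/
lemma lTensor_ι_injective_iff (L' : Type u) [AddCommGroup L'] [Module B' L'] :
    Function.Injective ((ι B' B A').lTensor L') ↔
    (∀ l : L', ((1 : B) ⊗ₜ[B'] l : B ⊗[B'] L') = 0 → ((1 : A') ⊗ₜ[B'] l : A' ⊗[B'] L') = 0 →
      l = 0) := by
  have hι1 : ι B' B A' 1 = LinearMap.inl B' B A' 1 + LinearMap.inr B' B A' 1 := by
    simp [ι_apply]
  constructor
  · intro hinj l h1 h2
    have h1' : (l ⊗ₜ[B'] (1 : B) : L' ⊗[B'] B) = 0 := by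
      have := congrArg (TensorProduct.comm B' B L') h1
      simpa using this
    have h2' : (l ⊗ₜ[B'] (1 : A') : L' ⊗[B'] A') = 0 := by
      have := congrArg (TensorProduct.comm B' A' L') h2
      simpa using this
    have h3 : (ι B' B A').lTensor L' (l ⊗ₜ[B'] (1 : B')) = 0 := by
      rw [LinearMap.lTensor_tmul, hι1, TensorProduct.tmul_add]
      have e1 : (l ⊗ₜ[B'] (LinearMap.inl B' B A' 1) : L' ⊗[B'] (B × A')) =
          (LinearMap.inl B' B A').lTensor L' (l ⊗ₜ[B'] (1 : B)) := rfl
      have e2 : (l ⊗ₜ[B'] (LinearMap.inr B' B A' 1) : L' ⊗[B'] (B × A')) =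
          (LinearMap.inr B' B A').lTensor L' (l ⊗ₜ[B'] (1 : A')) := rfl
      rw [e1, e2, h1', h2', map_zero, map_zero, add_zero]
    have h4 : (l ⊗ₜ[B'] (1 : B') : L' ⊗[B'] B') = 0 := hinj (by rw [h3, map_zero])
    have := congrArg (TensorProduct.rid B' L') h4
    simpa using this
  · intro hl
    rw [injective_iff_map_eq_zero]
    intro x hx
    obtain ⟨l, rfl⟩ : ∃ l : L', x = l ⊗ₜ[B'] (1 : B') :=
      ⟨TensorProduct.rid B' L' x, by
        rw [← TensorProduct.rid_symm_apply, LinearEquiv.symm_apply_apply]⟩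
    rw [LinearMap.lTensor_tmul] at hx
    have hb : (l ⊗ₜ[B'] (1 : B) : L' ⊗[B'] B) = 0 := by
      have := congrArg ((LinearMap.fst B' B A').lTensor L') hx
      simpa [ι_apply] using this
    have ha : (l ⊗ₜ[B'] (1 : A') : L' ⊗[B'] A') = 0 := by
      have := congrArg ((LinearMap.snd B' B A').lTensor L') hx
      simpa [ι_apply] using this
    have hb' : ((1 : B) ⊗ₜ[B'] l : B ⊗[B'] L') = 0 := by
      have := congrArg (TensorProduct.comm B' L' B) hb
      simpa using this
    have ha' : ((1 : A') ⊗ₜ[B'] l : A' ⊗[B'] L') = 0 := by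
      have := congrArg (TensorProduct.comm B' L' A') ha
      simpa using this
    rw [hl l hb' ha', TensorProduct.zero_tmul]

end Maps

section Epi

variable {C : Type*} [Category C] [Preadditive C] [HasBinaryBiproducts C]

/-- comparing `biprod.desc a b` with a difference map out of another sum decomposition -/
lemma epi_desc_iff {X Y W Z : C} (a : X ⟶ Z) (b : Y ⟶ Z) (p : W ⟶ Z)
    (i₁ : X ⟶ W) (i₂ : Y ⟶ W) (p₁ : W ⟶ X) (p₂ : W ⟶ Y)
    (h₁ : i₁ ≫ p = a) (h₂ : i₂ ≫ p = -b) (hp : p = p₁ ≫ a - p₂ ≫ b) :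
    Epi (biprod.desc a b) ↔ Epi p := by
  constructor
  · intro h
    have : biprod.desc a b = biprod.desc i₁ (-i₂) ≫ p := by
      apply biprod.hom_ext'
      · rw [biprod.inl_desc, biprod.inl_desc_assoc, h₁]
      · rw [biprod.inr_desc, biprod.inr_desc_assoc, Preadditive.neg_comp, h₂, neg_neg]
    rw [this] at h
    exact epi_of_epi (biprod.desc i₁ (-i₂)) p
  · intro h
    have : p = biprod.lift p₁ (-p₂) ≫ biprod.desc a b := by
      rw [biprod.lift_desc, Preadditive.neg_comp, ← sub_eq_add_neg]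
      exact hp
    rw [this] at h
    exact epi_of_epi (biprod.lift p₁ (-p₂)) (biprod.desc a b)

end Epi

/-- Let B' = B ×_A A' be a fibre product of commutative rings with A' → A surjective and L' a B'-module.
Then L' is a fixed point of the glueing adjunction, i.e. the canonical map from L' to the compatible
pairs in (B ⊗_{B'} L') × (A' ⊗_{B'} L') is injective (it is always surjective), if and only if the
map Tor_1(L', B) ⊕ Tor_1(L', A') → Tor_1(L', A) over B' induced by B → A and A' → A is surjective.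
Here Tor_1(L', –) is the first left derived functor of L' ⊗_{B'} – on B'-modules. -/
theorem result (B' B A' A : Type u) [CommRing B'] [CommRing B] [CommRing A'] [CommRing A]
    [Algebra B' B] [Algebra B' A'] [Algebra B A] [Algebra A' A] [Algebra B' A] [IsScalarTower B' B A] [IsScalarTower B' A' A]
    (hsq : EtMil.IsFibreSquare B' B A' A)
    (L' : Type u) [AddCommGroup L'] [Module B' L'] :
    (∀ l : L', ((1 : B) ⊗ₜ[B'] l : B ⊗[B'] L') = 0 → ((1 : A') ⊗ₜ[B'] l : A' ⊗[B'] L') = 0 → l = 0) ↔
    Epi (biprod.desc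
      (((Tor (ModuleCat.{u} B') 1).obj (ModuleCat.of B' L')).map
        (ModuleCat.ofHom (IsScalarTower.toAlgHom B' B A).toLinearMap))
      (((Tor (ModuleCat.{u} B') 1).obj (ModuleCat.of B' L')).map
        (ModuleCat.ofHom (IsScalarTower.toAlgHom B' A' A).toLinearMap))) := by
  rw [← lTensor_ι_injective_iff B' B A' L']
  have key := TorMod.epi_tor_one_map_iff (ModuleCat.of B' L') (ι B' B A') (π B' B A' A)
    (exact_ι_π hsq) (ι_injective hsq) (π_surjective hsq)
  have key' : Function.Injective ((ι B' B A').lTensor L') ↔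
      Epi (((Tor (ModuleCat.{u} B') 1).obj (ModuleCat.of B' L')).map
        (ModuleCat.ofHom (π B' B A' A))) := key.symm
  rw [key']
  have : ((Tor (ModuleCat.{u} B') 1).obj (ModuleCat.of B' L')).Additive :=
    LeftDerivedAdditive.leftDerived_additive (TorMod.tF (ModuleCat.of B' L')) 1
  symm
  refine epi_desc_iff _ _ _
    (((Tor (ModuleCat.{u} B') 1).obj (ModuleCat.of B' L')).map
      (ModuleCat.ofHom (LinearMap.inl B' B A')))
    (((Tor (ModuleCat.{u} B') 1).obj (ModuleCat.of B' L')).map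
      (ModuleCat.ofHom (LinearMap.inr B' B A')))
    (((Tor (ModuleCat.{u} B') 1).obj (ModuleCat.of B' L')).map
      (ModuleCat.ofHom (LinearMap.fst B' B A')))
    (((Tor (ModuleCat.{u} B') 1).obj (ModuleCat.of B' L')).map
      (ModuleCat.ofHom (LinearMap.snd B' B A'))) ?_ ?_ ?_
  · rw [← Functor.map_comp, ← ModuleCat.ofHom_comp, π_comp_inl]
  · rw [← Functor.map_comp, ← ModuleCat.ofHom_comp, π_comp_inr, ← Functor.map_neg]
    rfl
  · rw [← Functor.map_comp, ← Functor.map_comp, ← Functor.map_sub, ← ModuleCat.ofHom_comp,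
      ← ModuleCat.ofHom_comp]
    rfl

end Groth.Agent.S14958
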