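import Groth.Statements.S14959
import Groth.Agent.Lib.Lead.PullbackAff3
import Groth.Agent.S17860

set_option autoImplicit false
universe u
open AlgebraicGeometry CategoryTheory CategoryTheory.Limits
open Pinch

namespace Groth.Agent.S14959

open TensorProduct Opposite TopologicalSpace

theorem smul_eq_zero_of_pinch {B A M : Type u} [CommRing B] [CommRing A] [Algebra B A]
    [AddCommGroup M] [Module B M] (I : Ideal B)
    (h1 : RingHom.ker (algebraMap B A) ⊓ I = ⊥)
    (h2 : ∀ a ∈ Ideal.map (algebraMap B A) I, ∃ i ∈ I, algebraMap B A i = a)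
    (hA : Subsingleton (A ⊗[B] M)) (i : B) (hi : i ∈ I) (m : M) : i • m = 0 := by
  classical
  have huniq : ∀ i₁ ∈ I, ∀ i₂ ∈ I, algebraMap B A i₁ = algebraMap B A i₂ → i₁ = i₂ := by
    intro i₁ h₁ i₂ h₂ h
    have : i₁ - i₂ ∈ RingHom.ker (algebraMap B A) ⊓ I :=
      ⟨by
        change i₁ - i₂ ∈ RingHom.ker (algebraMap B A)
        rw [RingHom.mem_ker, map_sub, h, sub_self], I.sub_mem h₁ h₂⟩
    rw [h1] at this
    exact sub_eq_zero.mp this
  have hJ : ∀ a : A, algebraMap B A i * a ∈ Ideal.map (algebraMap B A) I := fun a =>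
    Ideal.mul_mem_right _ _ (Ideal.mem_map_of_mem _ hi)
  choose ι hιI hιφ using fun a : A => h2 _ (hJ a)
  have hadd : ∀ a b, ι (a + b) = ι a + ι b := by
    intro a b
    apply huniq _ (hιI _) _ (I.add_mem (hιI _) (hιI _))
    rw [map_add, hιφ, hιφ, hιφ, mul_add]
  have hsmul : ∀ (c : B) a, ι (c • a) = c * ι a := by
    intro c a
    apply huniq _ (hιI _) _ (I.mul_mem_left _ (hιI _))
    rw [map_mul, hιφ, hιφ, Algebra.smul_def]
    ring
  let β : A →ₗ[B] M →ₗ[B] M := LinearMap.mk₂ B (fun a m => ι a • m)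
    (fun a b m => by rw [hadd, add_smul])
    (fun c a m => by rw [hsmul, mul_smul])
    (fun a m n => smul_add _ _ _)
    (fun c a m => smul_comm _ _ _)
  have h3 : TensorProduct.lift β ((1 : A) ⊗ₜ[B] m) = ι 1 • m := by
    rw [TensorProduct.lift.tmul]
    rfl
  have h4 : ι 1 = i := by
    apply huniq _ (hιI _) _ hi
    rw [hιφ, mul_one]
  rw [← h4, ← h3, Subsingleton.elim ((1 : A) ⊗ₜ[B] m) 0, map_zero]

theorem subsingleton_of_pinch {B A A' M : Type u} [CommRing B] [CommRing A] [Algebra B A]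
    [CommRing A'] [Algebra B A']
    [AddCommGroup M] [Module B M]
    (hsurj : Function.Surjective (algebraMap B A'))
    (h1 : RingHom.ker (algebraMap B A) ⊓ RingHom.ker (algebraMap B A') = ⊥)
    (h2 : ∀ a ∈ Ideal.map (algebraMap B A) (RingHom.ker (algebraMap B A')),
      ∃ i ∈ RingHom.ker (algebraMap B A'), algebraMap B A i = a)
    (hA : Subsingleton (A ⊗[B] M)) (hA' : Subsingleton (A' ⊗[B] M)) : Subsingleton M := by
  set I := RingHom.ker (algebraMap B A') with hI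
  have e1 : A' ≃ₗ[B] B ⧸ I :=
    (Ideal.quotientKerAlgEquivOfSurjective (f := Algebra.ofId B A') hsurj).symm.toLinearEquiv
  have e2 : A' ⊗[B] M ≃ₗ[B] M ⧸ (I • (⊤ : Submodule B M)) :=
    (TensorProduct.congr e1 (LinearEquiv.refl B M)) ≪≫ₗ TensorProduct.quotTensorEquivQuotSMul M I
  have h3 : Subsingleton (M ⧸ (I • (⊤ : Submodule B M))) := e2.symm.injective.subsingleton
  have h4 : I • (⊤ : Submodule B M) = ⊤ := Submodule.Quotient.subsingleton_iff.mp h3
  have h5 : I • (⊤ : Submodule B M) = ⊥ := by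
    rw [eq_bot_iff, Submodule.smul_le]
    intro i hi m _
    rw [Submodule.mem_bot]
    exact smul_eq_zero_of_pinch I h1 h2 hA i hi m
  have h6 : (⊤ : Submodule B M) = ⊥ := h4.symm.trans h5
  exact (Submodule.subsingleton_iff B).mp (subsingleton_iff_bot_eq_top.mp h6.symm)

theorem isZero_of_affine_sections {Y : Scheme.{u}} (G : Y.Modules)
    (h : ∀ V ∈ Y.affineOpens, Subsingleton Γ(G, V)) : IsZero G := by
  rw [IsZero.iff_id_eq_zero]
  apply Scheme.Modules.hom_ext
  intro U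
  ext s
  change s = 0
  let F : TopCat.Sheaf Ab Y := ⟨G.presheaf, G.isSheaf⟩
  have hb := Y.isBasis_affineOpens
  have hb' : ∀ x : U, ∃ W ∈ Y.affineOpens, x.1 ∈ W ∧ W ≤ U := fun x =>
    (Opens.isBasis_iff_nbhd.mp hb) x.2
  choose W hWaff hxW hWU using hb'
  refine F.eq_of_locally_eq' (fun x : U => W x) U (fun x => homOfLE (hWU x)) ?_ s 0 ?_
  · intro x hx
    exact Opens.mem_iSup.mpr ⟨⟨x, hx⟩, hxW ⟨x, hx⟩⟩
  · intro x
    have := h (W x) (hWaff x)
    exact Subsingleton.elim _ _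


theorem subsingleton_sections {X Y Y' : Scheme.{u}} (f : X ⟶ Y) (u : Y' ⟶ Y)
    [IsAffineHom f] [IsClosedImmersion u]
    (G : Y.Modules) [G.IsQuasicoherent]
    (h1 : IsZero ((Scheme.Modules.pullback u).obj G)) (h2 : IsZero ((Scheme.Modules.pullback f).obj G))
    (V : Y.Opens) (hV : IsAffineOpen V)
    (hM1 : RingHom.ker (f.app V).hom ⊓ RingHom.ker (u.app V).hom = ⊥)
    (hM2 : ∀ a ∈ Ideal.map (f.app V).hom (RingHom.ker (u.app V).hom),
        ∃ i ∈ RingHom.ker (u.app V).hom, (f.app V).hom i = a) :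
    Subsingleton Γ(G, V) := by
  have hU : IsAffineOpen (f ⁻¹ᵁ V) := hV.preimage f
  have hU' : IsAffineOpen (u ⁻¹ᵁ V) := hV.preimage u
  have hsurj : Function.Surjective (u.app V) := u.app_surjective V hV
  rw [Scheme.Hom.app_eq_appLE] at hM1 hM2 hsurj
  rw [Scheme.Hom.app_eq_appLE (f := u)] at hM1 hM2
  let _ := (f.appLE V (f ⁻¹ᵁ V) le_rfl).hom.toAlgebra
  let _ := (u.appLE V (u ⁻¹ᵁ V) le_rfl).hom.toAlgebra
  have e1 := Groth.Agent.Lib.Lead.PullbackAff.sectionsPullbackEquiv f G hU hV le_rfl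
  have e2 := Groth.Agent.Lib.Lead.PullbackAff.sectionsPullbackEquiv u G hU' hV le_rfl
  have s1 : Subsingleton Γ((Scheme.Modules.pullback f).obj G, f ⁻¹ᵁ V) :=
    ⟨fun a b => (Groth.Agent.S17860.sections_eq_zero_of_isZero h2 _ a).trans
      (Groth.Agent.S17860.sections_eq_zero_of_isZero h2 _ b).symm⟩
  have s2 : Subsingleton Γ((Scheme.Modules.pullback u).obj G, u ⁻¹ᵁ V) :=
    ⟨fun a b => (Groth.Agent.S17860.sections_eq_zero_of_isZero h1 _ a).trans
      (Groth.Agent.S17860.sections_eq_zero_of_isZero h1 _ b).symm⟩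
  have t1 : Subsingleton (Γ(X, f ⁻¹ᵁ V) ⊗[Γ(Y, V)] Γ(G, V)) := e1.symm.injective.subsingleton
  have t2 : Subsingleton (Γ(Y', u ⁻¹ᵁ V) ⊗[Γ(Y, V)] Γ(G, V)) := e2.symm.injective.subsingleton
  exact subsingleton_of_pinch (B := Γ(Y, V)) (A := Γ(X, f ⁻¹ᵁ V)) (A' := Γ(Y', u ⁻¹ᵁ V))
    (M := Γ(G, V)) hsurj hM1 hM2 t1 t2

/-- Let w : X' → X, g : X' → Y', f : X → Y, u : Y' → Y be a cartesian square of schemes with f affine
and u a closed immersion which is a pinching square: for every affine open V of Y, with I(V) the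
kernel of Γ(V, O_Y) → Γ(u⁻¹V, O_Y'), the kernel of Γ(V, O_Y) → Γ(f⁻¹V, O_X) meets I(V) in 0 and the
ideal generated by the image of I(V) in Γ(f⁻¹V, O_X) consists of images of elements of I(V)
(equivalently Γ(V, O_Y) is the fibre product of Γ(u⁻¹V, O_Y') and Γ(f⁻¹V, O_X) over Γ(h⁻¹V, O_X'),
i.e. O_Y = u_*O_Y' ×_{h_*O_X'} f_*O_X). If G is a quasi-coherent O_Y-module whose pullbacks u*G and
f*G are zero, then G = 0. -/
theorem result {X X' Y Y' : Scheme.{u}} (f : X ⟶ Y) (u : Y' ⟶ Y) (w : X' ⟶ X) (g : X' ⟶ Y')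
    (hP : IsPullback w g f u) [IsAffineHom f] [IsClosedImmersion u]
    (hM : ∀ V ∈ Y.affineOpens,
      RingHom.ker (f.app V).hom ⊓ RingHom.ker (u.app V).hom = ⊥ ∧
      ∀ a ∈ Ideal.map (f.app V).hom (RingHom.ker (u.app V).hom),
        ∃ i ∈ RingHom.ker (u.app V).hom, (f.app V).hom i = a)
    (G : Y.Modules) [G.IsQuasicoherent]
    (h1 : IsZero ((Scheme.Modules.pullback u).obj G)) (h2 : IsZero ((Scheme.Modules.pullback f).obj G)) :
    IsZero G := by
  apply isZero_of_affine_sections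
  intro V hV
  exact subsingleton_sections f u G h1 h2 V hV (hM V hV).1 (hM V hV).2

end Groth.Agent.S14959
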