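import Groth.Statements.S9705
import Groth.Agent.Lib.Helper7.ProjSpaceProper

set_option autoImplicit false
universe u
open CategoryTheory CategoryTheory.Limits AlgebraicGeometry
open Mor

namespace Groth.Agent.S9705

/-- Over a quasi-compact quasi-separated scheme S, a morphism f : X ⟶ S is H-projective if and only if
it is H-quasi-projective and proper. -/
theorem result {X S : Scheme.{u}} [CompactSpace ↥S]
    [QuasiSeparatedSpace ↥S] (f : X ⟶ S) :
    RelProj.IsHProjective f ↔ RelProj.IsHQuasiProjective f ∧ IsProper f := by
  constructor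
  · rintro ⟨n, i, hi, hif⟩
    haveI := hi
    refine ⟨⟨n, i, inferInstance, inferInstance, hif⟩, ?_⟩
    rw [← hif]
    infer_instance
  · rintro ⟨⟨n, i, hi, hqc, hif⟩, hprop⟩
    haveI := hi
    haveI := hqc
    haveI : IsProper (i ≫ CohB1.ProjSpaceOver.toBase n S) := by rw [hif]; exact hprop
    haveI : IsProper i := IsProper.of_comp i (CohB1.ProjSpaceOver.toBase n S)
    refine ⟨n, i, ?_, hif⟩
    exact IsClosedImmersion.of_isPreimmersion i i.isClosedMap.isClosed_range

end Groth.Agent.S9705
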