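import Groth.Statements.S1496
import Groth.Agent.Lib.Helper35.VA13
import Groth.Agent.S9705

set_option autoImplicit false
universe u
attribute [local instance] HasDerivedCategory.standard
open FlatMor

namespace Groth.Agent.S1496

open AlgebraicGeometry CategoryTheory Limits in
/-- Let S be a scheme carrying an ample invertible sheaf and f : X → S a morphism. Then f is a closed
immersion into some projective space over S (f factors as a closed immersion X → Pⁿ_S followed by
the projection Pⁿ_S → S, for some n) if and only if f is proper and X carries an ample invertible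
sheaf; and the latter holds if and only if f is proper and some O_X-module is ample relative to f. -/
theorem result {X S : Scheme.{u}} (hS : ∃ N : S.Modules, CohB1.IsAmple N) (f : X ⟶ S) :
    ((∃ (n : ℕ) (i : X ⟶ CohB1.ProjSpaceOver n S), IsClosedImmersion i ∧ i ≫ pullback.snd (CohB1.ProjSpace.toSpec n (ULift.{u} ℤ)) (specULiftZIsTerminal.from S) = f) ↔
      (IsProper f ∧ ∃ L : X.Modules, CohB1.IsAmple L)) ∧
    ((IsProper f ∧ ∃ L : X.Modules, CohB1.IsAmple L) ↔ (IsProper f ∧ ∃ L : X.Modules, RelAmple.IsRelAmple f L)) := by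
  obtain ⟨K, hK⟩ := hS
  haveI : CompactSpace S := hK.2.1
  haveI : QuasiSeparatedSpace S :=
    Groth.Agent.Lib.Helper35.Ample.quasiSeparatedSpace_of_cover_genLocus hK.1 hK.2.2
  refine ⟨⟨?_, ?_⟩, ⟨?_, ?_⟩⟩
  · rintro ⟨n, i, hi, hcomp⟩
    have hcomp' : i ≫ CohB1.ProjSpaceOver.toBase n S = f := hcomp
    have hp : IsProper f := by
      rw [← hcomp']; infer_instance
    exact ⟨hp, Groth.Agent.Lib.Helper35.VA.exists_isAmple_of_immersion ⟨K, hK⟩ n i f hcomp'⟩
  · rintro ⟨hp, L, hL⟩
    obtain ⟨N, i, hi, hcomp⟩ := Groth.Agent.Lib.Helper35.VA.exists_immersion_of_isAmple f hL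
    have hq : RelProj.IsHQuasiProjective f :=
      ⟨N, i, hi, Groth.Agent.Lib.Helper35.VA.quasiCompact_of_comp_toBase N i f hcomp, hcomp⟩
    obtain ⟨n, j, hj, hjf⟩ := (Groth.Agent.S9705.result f).mpr ⟨hq, hp⟩
    exact ⟨n, j, hj, hjf⟩
  · rintro ⟨hp, L, hL⟩
    exact ⟨hp, L, Groth.Agent.Lib.Helper35.VA.isRelAmple_of_isAmple f hL⟩
  · rintro ⟨hp, L, hL⟩
    obtain ⟨n₀, hn₀⟩ := Groth.Agent.Lib.Helper35.RelAmpComp.exists_isAmple_tensor_pullback f hL hK
    exact ⟨hp, _, hn₀ n₀ le_rfl⟩

end Groth.Agent.S1496
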