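import Groth.Statements.S14960
import Groth.Agent.Lib.Lead.PullbackAff6
import Groth.Agent.Lib.Lead.QCohAff5
import Groth.Agent.Lib.Helper40.PinchAlg

set_option autoImplicit false
universe u
open AlgebraicGeometry CategoryTheory CategoryTheory.Limits
open Pinch

namespace Groth.Agent.S14960

open TensorProduct Opposite TopologicalSpace
open Groth.Agent.Lib.Lead.QCohAff Groth.Agent.Lib.Lead.PullbackAff

variable {Y : Scheme.{u}} (G : Y.Modules)

theorem flat_congr {R M : Type*} [CommRing R] [AddCommGroup M] (m1 m2 : Module R M)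
    (h : ∀ (r : R) (x : M), (letI := m1; r • x) = (letI := m2; r • x)) :
    @Module.Flat R M _ _ m1 ↔ @Module.Flat R M _ _ m2 := by
  have : m1 = m2 := Module.ext' _ _ h
  subst this
  rfl

theorem isFlatOverAt_id_iff (x : Y) : FlatMod.IsFlatOverAt (𝟙 Y) G x ↔ FlatMod.IsFlatAt G x := by
  unfold FlatMod.IsFlatOverAt FlatMod.IsFlatAt
  apply flat_congr
  intro r m
  have hr : ((𝟙 Y : Y ⟶ Y).stalkMap x).hom r = (show Y.presheaf.stalk x from r) := by
    rw [Scheme.Hom.stalkMap_id]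
    rfl
  change ((𝟙 Y : Y ⟶ Y).stalkMap x).hom r • m = (show Y.presheaf.stalk x from r) • m
  rw [hr]

theorem id_appLE_apply {V : Y.Opens} (h : V ≤ (𝟙 Y : Y ⟶ Y) ⁻¹ᵁ V) (r : Γ(Y, V)) :
    ((𝟙 Y : Y ⟶ Y).appLE V V h).hom r = r :=
  congr($(Y.presheaf.map_id (op V)) r)

theorem isFlat_iff_flat_sections [G.IsQuasicoherent] :
    FlatMod.IsFlat G ↔ ∀ V : Y.Opens, IsAffineOpen V → Module.Flat Γ(Y, V) Γ(G, V) := by
  constructor
  · intro h V hV
    have h1 := (flat_sections_iff (𝟙 Y) G hV hV (le_refl V)).2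
      (fun x _ => (isFlatOverAt_id_iff G x).2 (h x))
    refine (flat_congr _ _ ?_).1 h1
    intro r m
    change ((𝟙 Y : Y ⟶ Y).appLE V V _).hom r • m = r • m
    rw [id_appLE_apply]
  · intro h x
    obtain ⟨_, ⟨V, hV : IsAffineOpen V, rfl⟩, hxV, -⟩ :=
      (Y.isBasis_affineOpens).exists_subset_of_mem_open (Set.mem_univ x) isOpen_univ
    have h1 : @Module.Flat Γ(Y, V) Γ(G, V) _ _
        (Module.compHom Γ(G, V) ((𝟙 Y : Y ⟶ Y).appLE V V (le_refl V)).hom) := by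
      refine (flat_congr _ _ ?_).1 (h V hV)
      intro r m
      change r • m = ((𝟙 Y : Y ⟶ Y).appLE V V _).hom r • m
      rw [id_appLE_apply]
    exact (isFlatOverAt_id_iff G x).1
      ((flat_sections_iff (𝟙 Y) G hV hV (le_refl V)).1 h1 x hxV)

theorem isFlat_pullback {X : Scheme.{u}} (f : X ⟶ Y) [G.IsQuasicoherent]
    (hG : FlatMod.IsFlat G) : FlatMod.IsFlat ((Scheme.Modules.pullback f).obj G) := by
  intro x
  letI := (f.stalkMap x).hom.toAlgebra
  obtain ⟨e⟩ := nonempty_stalk_pullback_equiv f G x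
  haveI : Module.Flat (Y.presheaf.stalk (f x)) (G.presheaf.stalk (f x)) := hG (f x)
  haveI : Module.Flat (X.presheaf.stalk x)
      ((X.presheaf.stalk x) ⊗[Y.presheaf.stalk (f x)] (G.presheaf.stalk (f x))) :=
    inferInstance
  exact Module.Flat.of_linearEquiv e

theorem flat_sections_of_pullbacks {X Y' : Scheme.{u}} (f : X ⟶ Y) (u : Y' ⟶ Y)
    [IsAffineHom f] [IsClosedImmersion u] [G.IsQuasicoherent]
    (h1 : FlatMod.IsFlat ((Scheme.Modules.pullback u).obj G))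
    (h2 : FlatMod.IsFlat ((Scheme.Modules.pullback f).obj G))
    (V : Y.Opens) (hV : IsAffineOpen V)
    (hM1 : RingHom.ker (f.app V).hom ⊓ RingHom.ker (u.app V).hom = ⊥)
    (hM2 : ∀ a ∈ Ideal.map (f.app V).hom (RingHom.ker (u.app V).hom),
        ∃ i ∈ RingHom.ker (u.app V).hom, (f.app V).hom i = a) :
    Module.Flat Γ(Y, V) Γ(G, V) := by
  have hU : IsAffineOpen (f ⁻¹ᵁ V) := hV.preimage f
  have hU' : IsAffineOpen (u ⁻¹ᵁ V) := hV.preimage u
  have hsurj : Function.Surjective (u.app V) := u.app_surjective V hV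
  rw [Scheme.Hom.app_eq_appLE] at hM1 hM2 hsurj
  rw [Scheme.Hom.app_eq_appLE (f := u)] at hM1 hM2
  let _ := (f.appLE V (f ⁻¹ᵁ V) le_rfl).hom.toAlgebra
  let _ := (u.appLE V (u ⁻¹ᵁ V) le_rfl).hom.toAlgebra
  have e1 := sectionsPullbackEquiv f G hU hV le_rfl
  have e2 := sectionsPullbackEquiv u G hU' hV le_rfl
  have s1 : Module.Flat Γ(X, f ⁻¹ᵁ V) Γ((Scheme.Modules.pullback f).obj G, f ⁻¹ᵁ V) :=
    (isFlat_iff_flat_sections _).1 h2 _ hU
  have s2 : Module.Flat Γ(Y', u ⁻¹ᵁ V) Γ((Scheme.Modules.pullback u).obj G, u ⁻¹ᵁ V) :=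
    (isFlat_iff_flat_sections _).1 h1 _ hU'
  have t1 : Module.Flat Γ(X, f ⁻¹ᵁ V) (Γ(X, f ⁻¹ᵁ V) ⊗[Γ(Y, V)] Γ(G, V)) :=
    Module.Flat.of_linearEquiv e1.symm
  have t2 : Module.Flat Γ(Y', u ⁻¹ᵁ V) (Γ(Y', u ⁻¹ᵁ V) ⊗[Γ(Y, V)] Γ(G, V)) :=
    Module.Flat.of_linearEquiv e2.symm
  exact Groth.Agent.Lib.Helper40.PinchAlg.flat_of_pinch (B := Γ(Y, V)) (A := Γ(X, f ⁻¹ᵁ V))
    (A' := Γ(Y', u ⁻¹ᵁ V)) (M := Γ(G, V)) hsurj hM1 hM2 t1 t2

/-- Let w : X' → X, g : X' → Y', f : X → Y, u : Y' → Y be a cartesian square of schemes with f affine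
and u a closed immersion which is a pinching square: for every affine open V of Y, with I(V) the
kernel of Γ(V, O_Y) → Γ(u⁻¹V, O_Y'), the kernel of Γ(V, O_Y) → Γ(f⁻¹V, O_X) meets I(V) in 0 and the
ideal generated by the image of I(V) in Γ(f⁻¹V, O_X) consists of images of elements of I(V)
(equivalently Γ(V, O_Y) is the fibre product of Γ(u⁻¹V, O_Y') and Γ(f⁻¹V, O_X) over Γ(h⁻¹V, O_X'),
i.e. O_Y = u_*O_Y' ×_{h_*O_X'} f_*O_X). A quasi-coherent O_Y-module G is a flat O_Y-module if and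
only if u*G is a flat O_Y'-module and f*G is a flat O_X-module. -/
theorem result {X X' Y Y' : Scheme.{u}} (f : X ⟶ Y) (u : Y' ⟶ Y) (w : X' ⟶ X) (g : X' ⟶ Y')
    (hP : IsPullback w g f u) [IsAffineHom f] [IsClosedImmersion u]
    (hM : ∀ V ∈ Y.affineOpens,
      RingHom.ker (f.app V).hom ⊓ RingHom.ker (u.app V).hom = ⊥ ∧
      ∀ a ∈ Ideal.map (f.app V).hom (RingHom.ker (u.app V).hom),
        ∃ i ∈ RingHom.ker (u.app V).hom, (f.app V).hom i = a)
    (G : Y.Modules) [G.IsQuasicoherent] :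
    FlatMod.IsFlat G ↔
      FlatMod.IsFlat ((Scheme.Modules.pullback u).obj G) ∧ FlatMod.IsFlat ((Scheme.Modules.pullback f).obj G) := by
  constructor
  · intro h
    exact ⟨isFlat_pullback G u h, isFlat_pullback G f h⟩
  · rintro ⟨h1, h2⟩
    rw [isFlat_iff_flat_sections]
    intro V hV
    exact flat_sections_of_pullbacks G f u h1 h2 V hV (hM V hV).1 (hM V hV).2

end Groth.Agent.S14960
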