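import Groth.Statements.S14961
import Groth.Agent.S14960
import Groth.Agent.Lib.Helper2.FinLocFreeAff

set_option autoImplicit false
universe u
open AlgebraicGeometry CategoryTheory CategoryTheory.Limits
open Pinch

namespace Groth.Agent.S14961

open TensorProduct Opposite TopologicalSpace
open Groth.Agent.Lib.Lead.QCohAff Groth.Agent.Lib.Lead.PullbackAff
open Groth.Agent.Lib.Helper2.FinLocFreeAff Groth.Agent.Lib.Helper2.LocFreeAff

variable {Y : Scheme.{u}} (G : Y.Modules)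

theorem isFinLocFree_pullback {X : Scheme.{u}} (h : X ⟶ Y) [G.IsQuasicoherent]
    (hG : FlatMod.IsFinLocFree G) :
    FlatMod.IsFinLocFree ((Scheme.Modules.pullback h).obj G) := by
  apply isFinLocFree_of_projective
  intro x
  obtain ⟨_, ⟨V, hV : IsAffineOpen V, rfl⟩, hxV, -⟩ :=
    (Y.isBasis_affineOpens).exists_subset_of_mem_open (Set.mem_univ (h x)) isOpen_univ
  obtain ⟨_, ⟨U, hU : IsAffineOpen U, rfl⟩, hxU, hUV⟩ :=
    (X.isBasis_affineOpens).exists_subset_of_mem_open (show x ∈ h ⁻¹ᵁ V from hxV) (h ⁻¹ᵁ V).2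
  let _ := (h.appLE V U hUV).hom.toAlgebra
  have e := sectionsPullbackEquiv h G hU hV hUV
  obtain ⟨hf, hp⟩ := (isFinLocFree_iff_sections G).1 hG V hV
  exact ⟨U, hU, hxU, Module.Finite.equiv e.symm, Module.Projective.of_equiv e.symm⟩

theorem sections_of_pullbacks {X Y' : Scheme.{u}} (f : X ⟶ Y) (u : Y' ⟶ Y)
    [IsAffineHom f] [IsClosedImmersion u] [G.IsQuasicoherent]
    (h1 : FlatMod.IsFinLocFree ((Scheme.Modules.pullback u).obj G))
    (h2 : FlatMod.IsFinLocFree ((Scheme.Modules.pullback f).obj G))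
    (V : Y.Opens) (hV : IsAffineOpen V)
    (hM1 : RingHom.ker (f.app V).hom ⊓ RingHom.ker (u.app V).hom = ⊥)
    (hM2 : ∀ a ∈ Ideal.map (f.app V).hom (RingHom.ker (u.app V).hom),
        ∃ i ∈ RingHom.ker (u.app V).hom, (f.app V).hom i = a) :
    Module.Finite Γ(Y, V) Γ(G, V) ∧ Module.Projective Γ(Y, V) Γ(G, V) := by
  have hU : IsAffineOpen (f ⁻¹ᵁ V) := hV.preimage f
  have hU' : IsAffineOpen (u ⁻¹ᵁ V) := hV.preimage u
  have hsurj : Function.Surjective (u.app V) := u.app_surjective V hV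
  rw [Scheme.Hom.app_eq_appLE] at hM1 hM2 hsurj
  rw [Scheme.Hom.app_eq_appLE (f := u)] at hM1 hM2
  let _ := (f.appLE V (f ⁻¹ᵁ V) le_rfl).hom.toAlgebra
  let _ := (u.appLE V (u ⁻¹ᵁ V) le_rfl).hom.toAlgebra
  have e1 := sectionsPullbackEquiv f G hU hV le_rfl
  have e2 := sectionsPullbackEquiv u G hU' hV le_rfl
  obtain ⟨s1f, s1p⟩ := (isFinLocFree_iff_sections _).1 h2 _ hU
  obtain ⟨s2f, s2p⟩ := (isFinLocFree_iff_sections _).1 h1 _ hU'
  have t1f : Module.Finite Γ(X, f ⁻¹ᵁ V) (Γ(X, f ⁻¹ᵁ V) ⊗[Γ(Y, V)] Γ(G, V)) :=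
    Module.Finite.equiv e1
  have t1p : Module.Projective Γ(X, f ⁻¹ᵁ V) (Γ(X, f ⁻¹ᵁ V) ⊗[Γ(Y, V)] Γ(G, V)) :=
    Module.Projective.of_equiv e1
  have t2f : Module.Finite Γ(Y', u ⁻¹ᵁ V) (Γ(Y', u ⁻¹ᵁ V) ⊗[Γ(Y, V)] Γ(G, V)) :=
    Module.Finite.equiv e2
  have t2p : Module.Projective Γ(Y', u ⁻¹ᵁ V) (Γ(Y', u ⁻¹ᵁ V) ⊗[Γ(Y, V)] Γ(G, V)) :=
    Module.Projective.of_equiv e2
  have t1 : Module.Flat Γ(X, f ⁻¹ᵁ V) (Γ(X, f ⁻¹ᵁ V) ⊗[Γ(Y, V)] Γ(G, V)) := inferInstance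
  have t2 : Module.Flat Γ(Y', u ⁻¹ᵁ V) (Γ(Y', u ⁻¹ᵁ V) ⊗[Γ(Y, V)] Γ(G, V)) := inferInstance
  have q1 : Module.FinitePresentation Γ(X, f ⁻¹ᵁ V) (Γ(X, f ⁻¹ᵁ V) ⊗[Γ(Y, V)] Γ(G, V)) :=
    Module.finitePresentation_of_projective _ _
  have q2 : Module.FinitePresentation Γ(Y', u ⁻¹ᵁ V) (Γ(Y', u ⁻¹ᵁ V) ⊗[Γ(Y, V)] Γ(G, V)) :=
    Module.finitePresentation_of_projective _ _
  have hflat : Module.Flat Γ(Y, V) Γ(G, V) :=
    Groth.Agent.Lib.Helper40.PinchAlg.flat_of_pinch (B := Γ(Y, V)) (A := Γ(X, f ⁻¹ᵁ V))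
      (A' := Γ(Y', u ⁻¹ᵁ V)) (M := Γ(G, V)) hsurj hM1 hM2 t1 t2
  have hfp : Module.FinitePresentation Γ(Y, V) Γ(G, V) :=
    Groth.Agent.Lib.Helper40.PinchAlg.finitePresentation_of_pinch (B := Γ(Y, V))
      (A := Γ(X, f ⁻¹ᵁ V)) (A' := Γ(Y', u ⁻¹ᵁ V)) (M := Γ(G, V)) hsurj hM1 hM2 t1 t2 q1 q2
  exact ⟨inferInstance, Module.Flat.projective_of_finitePresentation⟩

/-- Let w : X' → X, g : X' → Y', f : X → Y, u : Y' → Y be a cartesian square of schemes with f affine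
and u a closed immersion which is a pinching square: for every affine open V of Y, with I(V) the
kernel of Γ(V, O_Y) → Γ(u⁻¹V, O_Y'), the kernel of Γ(V, O_Y) → Γ(f⁻¹V, O_X) meets I(V) in 0 and the
ideal generated by the image of I(V) in Γ(f⁻¹V, O_X) consists of images of elements of I(V)
(equivalently Γ(V, O_Y) is the fibre product of Γ(u⁻¹V, O_Y') and Γ(f⁻¹V, O_X) over Γ(h⁻¹V, O_X'),
i.e. O_Y = u_*O_Y' ×_{h_*O_X'} f_*O_X). A quasi-coherent O_Y-module G is finite locally free if and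
only if u*G and f*G are finite locally free. -/
theorem result {X X' Y Y' : Scheme.{u}} (f : X ⟶ Y) (u : Y' ⟶ Y) (w : X' ⟶ X) (g : X' ⟶ Y')
    (hP : IsPullback w g f u) [IsAffineHom f] [IsClosedImmersion u]
    (hM : ∀ V ∈ Y.affineOpens,
      RingHom.ker (f.app V).hom ⊓ RingHom.ker (u.app V).hom = ⊥ ∧
      ∀ a ∈ Ideal.map (f.app V).hom (RingHom.ker (u.app V).hom),
        ∃ i ∈ RingHom.ker (u.app V).hom, (f.app V).hom i = a)
    (G : Y.Modules) [G.IsQuasicoherent] :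
    FlatMod.IsFinLocFree G ↔
      FlatMod.IsFinLocFree ((Scheme.Modules.pullback u).obj G) ∧
        FlatMod.IsFinLocFree ((Scheme.Modules.pullback f).obj G) := by
  constructor
  · intro h
    exact ⟨isFinLocFree_pullback G u h, isFinLocFree_pullback G f h⟩
  · rintro ⟨h1, h2⟩
    rw [isFinLocFree_iff_sections]
    intro V hV
    exact sections_of_pullbacks G f u h1 h2 V hV (hM V hV).1 (hM V hV).2

end Groth.Agent.S14961
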