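import Groth.Statements.S14962
import Groth.Agent.Lib.Lead.PullbackAff4
import Groth.Agent.Lib.Lead.CohAff3
import Mathlib.LinearAlgebra.TensorProduct.Finiteness

set_option autoImplicit false
universe u
open AlgebraicGeometry CategoryTheory CategoryTheory.Limits
open Pinch

namespace Groth.Agent.S14962

open TensorProduct Opposite TopologicalSpace

theorem smul_eq_zero_of_pinch {B A M : Type u} [CommRing B] [CommRing A] [Algebra B A]
    [AddCommGroup M] [Module B M] (I : Ideal B)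
    (h1 : RingHom.ker (algebraMap B A) ⊓ I = ⊥)
    (h2 : ∀ a ∈ Ideal.map (algebraMap B A) I, ∃ i ∈ I, algebraMap B A i = a)
    (hA : Subsingleton (A ⊗[B] M)) (i : B) (hi : i ∈ I) (m : M) : i • m = 0 := by
  classical
  have huniq : ∀ i₁ ∈ I, ∀ i₂ ∈ I, algebraMap B A i₁ = algebraMap B A i₂ → i₁ = i₂ := by
    intro i₁ h₁ i₂ h₂ h
    have : i₁ - i₂ ∈ RingHom.ker (algebraMap B A) ⊓ I :=
      ⟨by
        change i₁ - i₂ ∈ RingHom.ker (algebraMap B A)
        rw [RingHom.mem_ker, map_sub, h, sub_self], I.sub_mem h₁ h₂⟩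
    rw [h1] at this
    exact sub_eq_zero.mp this
  have hJ : ∀ a : A, algebraMap B A i * a ∈ Ideal.map (algebraMap B A) I := fun a =>
    Ideal.mul_mem_right _ _ (Ideal.mem_map_of_mem _ hi)
  choose ι hιI hιφ using fun a : A => h2 _ (hJ a)
  have hadd : ∀ a b, ι (a + b) = ι a + ι b := by
    intro a b
    apply huniq _ (hιI _) _ (I.add_mem (hιI _) (hιI _))
    rw [map_add, hιφ, hιφ, hιφ, mul_add]
  have hsmul : ∀ (c : B) a, ι (c • a) = c * ι a := by
    intro c a
    apply huniq _ (hιI _) _ (I.mul_mem_left _ (hιI _))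
    rw [map_mul, hιφ, hιφ, Algebra.smul_def]
    ring
  let β : A →ₗ[B] M →ₗ[B] M := LinearMap.mk₂ B (fun a m => ι a • m)
    (fun a b m => by rw [hadd, add_smul])
    (fun c a m => by rw [hsmul, mul_smul])
    (fun a m n => smul_add _ _ _)
    (fun c a m => smul_comm _ _ _)
  have h3 : TensorProduct.lift β ((1 : A) ⊗ₜ[B] m) = ι 1 • m := by
    rw [TensorProduct.lift.tmul]
    rfl
  have h4 : ι 1 = i := by
    apply huniq _ (hιI _) _ hi
    rw [hιφ, mul_one]
  rw [← h4, ← h3, Subsingleton.elim ((1 : A) ⊗ₜ[B] m) 0, map_zero]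

theorem subsingleton_of_pinch {B A A' M : Type u} [CommRing B] [CommRing A] [Algebra B A]
    [CommRing A'] [Algebra B A']
    [AddCommGroup M] [Module B M]
    (hsurj : Function.Surjective (algebraMap B A'))
    (h1 : RingHom.ker (algebraMap B A) ⊓ RingHom.ker (algebraMap B A') = ⊥)
    (h2 : ∀ a ∈ Ideal.map (algebraMap B A) (RingHom.ker (algebraMap B A')),
      ∃ i ∈ RingHom.ker (algebraMap B A'), algebraMap B A i = a)
    (hA : Subsingleton (A ⊗[B] M)) (hA' : Subsingleton (A' ⊗[B] M)) : Subsingleton M := by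
  set I := RingHom.ker (algebraMap B A') with hI
  have e1 : A' ≃ₗ[B] B ⧸ I :=
    (Ideal.quotientKerAlgEquivOfSurjective (f := Algebra.ofId B A') hsurj).symm.toLinearEquiv
  have e2 : A' ⊗[B] M ≃ₗ[B] M ⧸ (I • (⊤ : Submodule B M)) :=
    (TensorProduct.congr e1 (LinearEquiv.refl B M)) ≪≫ₗ TensorProduct.quotTensorEquivQuotSMul M I
  have h3 : Subsingleton (M ⧸ (I • (⊤ : Submodule B M))) := e2.symm.injective.subsingleton
  have h4 : I • (⊤ : Submodule B M) = ⊤ := Submodule.Quotient.subsingleton_iff.mp h3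
  have h5 : I • (⊤ : Submodule B M) = ⊥ := by
    rw [eq_bot_iff, Submodule.smul_le]
    intro i hi m _
    rw [Submodule.mem_bot]
    exact smul_eq_zero_of_pinch I h1 h2 hA i hi m
  have h6 : (⊤ : Submodule B M) = ⊥ := h4.symm.trans h5
  exact (Submodule.subsingleton_iff B).mp (subsingleton_iff_bot_eq_top.mp h6.symm)

theorem exists_fg_subsingleton_quotient {B S M : Type u} [CommRing B] [CommRing S] [Algebra B S]
    [AddCommGroup M] [Module B M] (hfin : Module.Finite S (S ⊗[B] M)) :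
    ∃ N' : Submodule B M, N'.FG ∧ ∀ N : Submodule B M, N' ≤ N → Subsingleton (S ⊗[B] (M ⧸ N)) := by
  obtain ⟨s, hs⟩ := (Module.finite_def.mp hfin)
  obtain ⟨N', hN'fin, hN'⟩ :=
    TensorProduct.exists_finite_submodule_right_of_setFinite (R := B) (M := S) (N := M) (↑s : Set (S ⊗[B] M))
      s.finite_toSet
  refine ⟨N', Module.Finite.iff_fg.mp hN'fin, fun N hle => ?_⟩
  have hrange : LinearMap.range (N.subtype.baseChange S) = ⊤ := by
    rw [eq_top_iff, ← hs, Submodule.span_le]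
    intro x hx
    obtain ⟨y, hy⟩ := hN' hx
    refine ⟨(Submodule.inclusion hle).lTensor S y, ?_⟩
    rw [← hy]
    change (N.subtype.lTensor S) ((Submodule.inclusion hle).lTensor S y) = _
    rw [← LinearMap.comp_apply, ← LinearMap.lTensor_comp]
    rfl
  refine ⟨fun a b => ?_⟩
  have hsurj : Function.Surjective (N.mkQ.baseChange S) :=
    LinearMap.lTensor_surjective S N.mkQ_surjective
  have hzero : ∀ a : S ⊗[B] (M ⧸ N), a = 0 := by
    intro a
    obtain ⟨a', rfl⟩ := hsurj a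
    have : a' ∈ LinearMap.range (N.subtype.baseChange S) := hrange ▸ Submodule.mem_top
    obtain ⟨a'', rfl⟩ := this
    change (N.mkQ.lTensor S) ((N.subtype.lTensor S) a'') = 0
    rw [← LinearMap.comp_apply, ← LinearMap.lTensor_comp]
    have : N.mkQ ∘ₗ N.subtype = 0 := by
      ext x
      simp
    rw [this, LinearMap.lTensor_zero]
    rfl
  rw [hzero a, hzero b]

theorem finite_of_pinch {B A A' M : Type u} [CommRing B] [CommRing A] [Algebra B A]
    [CommRing A'] [Algebra B A'] [AddCommGroup M] [Module B M]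
    (hsurj : Function.Surjective (algebraMap B A'))
    (h1 : RingHom.ker (algebraMap B A) ⊓ RingHom.ker (algebraMap B A') = ⊥)
    (h2 : ∀ a ∈ Ideal.map (algebraMap B A) (RingHom.ker (algebraMap B A')),
      ∃ i ∈ RingHom.ker (algebraMap B A'), algebraMap B A i = a)
    (hA : Module.Finite A (A ⊗[B] M)) (hA' : Module.Finite A' (A' ⊗[B] M)) : Module.Finite B M := by
  obtain ⟨N1, hN1, hN1'⟩ := exists_fg_subsingleton_quotient hA
  obtain ⟨N2, hN2, hN2'⟩ := exists_fg_subsingleton_quotient hA'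
  have hsub : Subsingleton (M ⧸ (N1 ⊔ N2)) :=
    subsingleton_of_pinch hsurj h1 h2 (hN1' _ le_sup_left) (hN2' _ le_sup_right)
  have htop : N1 ⊔ N2 = ⊤ := Submodule.Quotient.subsingleton_iff.mp hsub
  rw [Module.finite_def, ← htop]
  exact hN1.sup hN2


open Groth.Agent.Lib.Lead.PullbackAff Groth.Agent.Lib.Lead.CohAff in
theorem isFiniteType_pullback_of_affine {X Y : Scheme.{u}} (f : X ⟶ Y) [IsAffineHom f]
    (G : Y.Modules) [G.IsQuasicoherent]
    (hG : SheafOfModules.IsFiniteType (R := Y.ringCatSheaf) G) :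
    SheafOfModules.IsFiniteType (R := X.ringCatSheaf) ((Scheme.Modules.pullback f).obj G) := by
  apply isFiniteType_of_finite_sections
  intro x
  obtain ⟨_, ⟨V, hV : IsAffineOpen V, rfl⟩, hxV, -⟩ :=
    (Y.isBasis_affineOpens).exists_subset_of_mem_open (Set.mem_univ (f x)) isOpen_univ
  have hU : IsAffineOpen (f ⁻¹ᵁ V) := hV.preimage f
  refine ⟨f ⁻¹ᵁ V, hU, hxV, ?_⟩
  let _ := (f.appLE V (f ⁻¹ᵁ V) le_rfl).hom.toAlgebra
  have e1 := sectionsPullbackEquiv f G hU hV le_rfl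
  have hfin : Module.Finite Γ(Y, V) Γ(G, V) := finite_sections_of_isFiniteType G hG hV
  have : Module.Finite Γ(X, f ⁻¹ᵁ V) (Γ(X, f ⁻¹ᵁ V) ⊗[Γ(Y, V)] Γ(G, V)) :=
    Module.Finite.base_change _ _ _
  exact Module.Finite.equiv e1.symm

open Groth.Agent.Lib.Lead.PullbackAff Groth.Agent.Lib.Lead.CohAff in
theorem finite_sections_of_pullbacks {X Y Y' : Scheme.{u}} (f : X ⟶ Y) (u : Y' ⟶ Y)
    [IsAffineHom f] [IsClosedImmersion u]
    (G : Y.Modules) [G.IsQuasicoherent]
    (h1 : SheafOfModules.IsFiniteType (R := Y'.ringCatSheaf) ((Scheme.Modules.pullback u).obj G))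
    (h2 : SheafOfModules.IsFiniteType (R := X.ringCatSheaf) ((Scheme.Modules.pullback f).obj G))
    (V : Y.Opens) (hV : IsAffineOpen V)
    (hM1 : RingHom.ker (f.app V).hom ⊓ RingHom.ker (u.app V).hom = ⊥)
    (hM2 : ∀ a ∈ Ideal.map (f.app V).hom (RingHom.ker (u.app V).hom),
        ∃ i ∈ RingHom.ker (u.app V).hom, (f.app V).hom i = a) :
    Module.Finite Γ(Y, V) Γ(G, V) := by
  have hU : IsAffineOpen (f ⁻¹ᵁ V) := hV.preimage f
  have hU' : IsAffineOpen (u ⁻¹ᵁ V) := hV.preimage u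
  have hsurj : Function.Surjective (u.app V) := u.app_surjective V hV
  rw [Scheme.Hom.app_eq_appLE] at hM1 hM2 hsurj
  rw [Scheme.Hom.app_eq_appLE (f := u)] at hM1 hM2
  let _ := (f.appLE V (f ⁻¹ᵁ V) le_rfl).hom.toAlgebra
  let _ := (u.appLE V (u ⁻¹ᵁ V) le_rfl).hom.toAlgebra
  have e1 := sectionsPullbackEquiv f G hU hV le_rfl
  have e2 := sectionsPullbackEquiv u G hU' hV le_rfl
  have s1 : Module.Finite Γ(X, f ⁻¹ᵁ V) Γ((Scheme.Modules.pullback f).obj G, f ⁻¹ᵁ V) :=
    finite_sections_of_isFiniteType _ h2 hU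
  have s2 : Module.Finite Γ(Y', u ⁻¹ᵁ V) Γ((Scheme.Modules.pullback u).obj G, u ⁻¹ᵁ V) :=
    finite_sections_of_isFiniteType _ h1 hU'
  have t1 : Module.Finite Γ(X, f ⁻¹ᵁ V) (Γ(X, f ⁻¹ᵁ V) ⊗[Γ(Y, V)] Γ(G, V)) :=
    Module.Finite.equiv e1
  have t2 : Module.Finite Γ(Y', u ⁻¹ᵁ V) (Γ(Y', u ⁻¹ᵁ V) ⊗[Γ(Y, V)] Γ(G, V)) :=
    Module.Finite.equiv e2
  exact finite_of_pinch (B := Γ(Y, V)) (A := Γ(X, f ⁻¹ᵁ V)) (A' := Γ(Y', u ⁻¹ᵁ V))
    (M := Γ(G, V)) hsurj hM1 hM2 t1 t2

/-- Let w : X' → X, g : X' → Y', f : X → Y, u : Y' → Y be a cartesian square of schemes with f affine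
and u a closed immersion which is a pinching square: for every affine open V of Y, with I(V) the
kernel of Γ(V, O_Y) → Γ(u⁻¹V, O_Y'), the kernel of Γ(V, O_Y) → Γ(f⁻¹V, O_X) meets I(V) in 0 and the
ideal generated by the image of I(V) in Γ(f⁻¹V, O_X) consists of images of elements of I(V)
(equivalently Γ(V, O_Y) is the fibre product of Γ(u⁻¹V, O_Y') and Γ(f⁻¹V, O_X) over Γ(h⁻¹V, O_X'),
i.e. O_Y = u_*O_Y' ×_{h_*O_X'} f_*O_X). A quasi-coherent O_Y-module G is of finite type if and only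
if u*G and f*G are of finite type. (The published clause is for flat modules of finite type;
flatness descends separately and the finiteness part does not use it.) -/
theorem result {X X' Y Y' : Scheme.{u}} (f : X ⟶ Y) (u : Y' ⟶ Y) (w : X' ⟶ X) (g : X' ⟶ Y')
    (hP : IsPullback w g f u) [IsAffineHom f] [IsClosedImmersion u]
    (hM : ∀ V ∈ Y.affineOpens,
      RingHom.ker (f.app V).hom ⊓ RingHom.ker (u.app V).hom = ⊥ ∧
      ∀ a ∈ Ideal.map (f.app V).hom (RingHom.ker (u.app V).hom),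
        ∃ i ∈ RingHom.ker (u.app V).hom, (f.app V).hom i = a)
    (G : Y.Modules) [G.IsQuasicoherent] :
    SheafOfModules.IsFiniteType G ↔
      SheafOfModules.IsFiniteType ((Scheme.Modules.pullback u).obj G) ∧
        SheafOfModules.IsFiniteType ((Scheme.Modules.pullback f).obj G) := by
  constructor
  · intro hG
    exact ⟨isFiniteType_pullback_of_affine u G hG, isFiniteType_pullback_of_affine f G hG⟩
  · rintro ⟨h1, h2⟩
    rw [Groth.Agent.Lib.Lead.CohAff.isFiniteType_iff_finite_sections]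
    intro V hV
    exact finite_sections_of_pullbacks f u G h1 h2 V hV (hM V hV).1 (hM V hV).2

end Groth.Agent.S14962
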