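import Groth.Statements.S14965
import Groth.Agent.Lib.Helper3.MilnorGlue
import Groth.Agent.Lib.Helper3.AzumayaMilnor
-- import your own Groth.Agent.* helpers here

set_option autoImplicit false
universe u
open TensorProduct
open Brauer

namespace Groth.Agent.S14965

/-- Let B' = B ×_A A' be a fibre product of commutative rings with A' → A surjective, N an Azumaya
B-algebra, M' an Azumaya A'-algebra and φ : A ⊗_B N ≅ A ⊗_{A'} M' an isomorphism of A-algebras. If a
B'-algebra D' with B'-algebra homomorphisms π₁ : D' → N and π₂ : D' → M' is the glued algebra N ×_φ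
M', in the sense that (π₁, π₂) is injective with image the pairs (n, m') satisfying φ(1 ⊗ n) = 1 ⊗
m', then D' is an Azumaya B'-algebra. (The published statement is for Azumaya algebras on the
pushout scheme of a closed immersion and an affine morphism, glued as u_*B' ×_{h_*} f_*A; this row
is the case of an affine pushout.) -/
theorem result (B' B A' A : Type u) [CommRing B'] [CommRing B] [CommRing A'] [CommRing A]
    [Algebra B' B] [Algebra B' A'] [Algebra B A] [Algebra A' A] [Algebra B' A] [IsScalarTower B' B A] [IsScalarTower B' A' A]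
    (hsq : EtMil.IsFibreSquare B' B A' A)
    (N : Type u) [Ring N] [Algebra B N] [Algebra B' N] [IsScalarTower B' B N] [IsAzumaya B N]
    (M' : Type u) [Ring M'] [Algebra A' M'] [Algebra B' M'] [IsScalarTower B' A' M'] [IsAzumaya A' M']
    (φ : A ⊗[B] N ≃ₐ[A] A ⊗[A'] M')
    (D' : Type u) [Ring D'] [Algebra B' D'] (π₁ : D' →ₐ[B'] N) (π₂ : D' →ₐ[B'] M')
    (hinj : ∀ d : D', π₁ d = 0 → π₂ d = 0 → d = 0)
    (himg : ∀ (n : N) (m' : M'), φ ((1 : A) ⊗ₜ[B] n) = (1 : A) ⊗ₜ[A'] m' ↔ ∃ d : D', π₁ d = n ∧ π₂ d = m') :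
    IsAzumaya B' D' := by
  classical
  set φL : A ⊗[B] N ≃ₗ[A] A ⊗[A'] M' := φ.toLinearEquiv with hφL
  let ψ₀ : D' →ₗ[B'] (EtMil.glue B' φL) :=
    LinearMap.codRestrict (EtMil.glue B' φL) (π₁.toLinearMap.prod π₂.toLinearMap)
      (fun d => (himg (π₁ d) (π₂ d)).2 ⟨d, rfl, rfl⟩)
  have hψ : Function.Bijective ψ₀ := by
    constructor
    · rw [injective_iff_map_eq_zero]
      intro d hd
      have h1 : π₁ d = 0 := congrArg (fun g : EtMil.glue B' φL => g.1.1) hd
      have h2 : π₂ d = 0 := congrArg (fun g : EtMil.glue B' φL => g.1.2) hd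
      exact hinj d h1 h2
    · rintro ⟨⟨n, m'⟩, h⟩
      obtain ⟨d, hd1, hd2⟩ := (himg n m').1 h
      exact ⟨d, Subtype.ext (Prod.ext hd1 hd2)⟩
  let ψ : D' ≃ₗ[B'] (EtMil.glue B' φL) := LinearEquiv.ofBijective ψ₀ hψ
  let c₁ : B ⊗[B'] D' →ₐ[B] N := AlgHom.liftEquiv B' B D' N π₁
  let c₂ : A' ⊗[B'] D' →ₐ[A'] M' := AlgHom.liftEquiv B' A' D' M' π₂
  have hc₁ : Function.Bijective c₁ := by
    have h1 : ∀ x, c₁ x = LinearMap.liftBaseChange B (EtMil.glueFst B' φL)
        (LinearEquiv.baseChange B' B _ _ ψ x) := by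
      intro x
      induction x with
      | zero => simp
      | tmul b d => rfl
      | add x y hx hy => rw [map_add, map_add, map_add, hx, hy]
    have h2 : (c₁ : B ⊗[B'] D' → N) = (LinearMap.liftBaseChange B (EtMil.glueFst B' φL)) ∘
        (LinearEquiv.baseChange B' B _ _ ψ) := funext h1
    rw [h2]
    exact (Groth.Agent.Lib.Helper3.MilnorGlue.liftBaseChange_fst_bijective hsq φL).comp
      (LinearEquiv.bijective _)
  have hc₂ : Function.Bijective c₂ := by
    have h1 : ∀ x, c₂ x = LinearMap.liftBaseChange A' (EtMil.glueSnd B' φL)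
        (LinearEquiv.baseChange B' A' _ _ ψ x) := by
      intro x
      induction x with
      | zero => simp
      | tmul b d => rfl
      | add x y hx hy => rw [map_add, map_add, map_add, hx, hy]
    have h2 : (c₂ : A' ⊗[B'] D' → M') = (LinearMap.liftBaseChange A' (EtMil.glueSnd B' φL)) ∘
        (LinearEquiv.baseChange B' A' _ _ ψ) := funext h1
    rw [h2]
    exact (Groth.Agent.Lib.Helper3.MilnorGlue.liftBaseChange_snd_bijective hsq φL).comp
      (LinearEquiv.bijective _)
  haveI h1 : IsAzumaya B (B ⊗[B'] D') :=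
    IsAzumaya.of_AlgEquiv B _ _ (AlgEquiv.ofBijective c₁ hc₁).symm
  haveI h2 : IsAzumaya A' (A' ⊗[B'] D') :=
    IsAzumaya.of_AlgEquiv A' _ _ (AlgEquiv.ofBijective c₂ hc₂).symm
  exact (Groth.Agent.Lib.Helper3.Az.isAzumaya_milnor_iff hsq D').2 ⟨h1, h2⟩

end Groth.Agent.S14965
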