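import Groth.Statements.S14966
import Mathlib
-- import your own Groth.Agent.* helpers here

set_option autoImplicit false
universe u
open EtAlg

namespace Groth.Agent.S14966

/-- Let A → A' be an injective homomorphism of commutative rings and let I ⊆ A be the conductor, i.e.
the annihilator of the A-module A'/A. Then the conductor square formed by A → A/I, A → A', A/I →
A'/IA' and A' → A'/IA' is a fibre product square of rings with A' → A'/IA' surjective: A = A/I
×_{A'/IA'} A'. (The published Lemma is for the conductor square of a finite modification of schemes;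
this row is the underlying statement for one injective ring map, which needs no finiteness.) -/
theorem result (A A' : Type u) [CommRing A] [CommRing A'] [Algebra A A']
    (hinj : Function.Injective (algebraMap A A')) :
    EtMil.IsFibreSquare A (A ⧸ Module.annihilator A (A' ⧸ LinearMap.range (Algebra.linearMap A A'))) A'
      (A' ⧸ Ideal.map (algebraMap A A') (Module.annihilator A (A' ⧸ LinearMap.range (Algebra.linearMap A A')))) := by
  set I : Ideal A := Module.annihilator A (A' ⧸ LinearMap.range (Algebra.linearMap A A')) with hI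
  have hmem : ∀ a : A, a ∈ I ↔ ∀ x : A', ∃ c : A, algebraMap A A' c = algebraMap A A' a * x := by
    intro a
    rw [hI, Module.mem_annihilator]
    constructor
    · intro h x
      have := h (Submodule.Quotient.mk x)
      rw [← Submodule.Quotient.mk_smul, Submodule.Quotient.mk_eq_zero] at this
      obtain ⟨c, hc⟩ := this
      exact ⟨c, by simpa [Algebra.smul_def] using hc⟩
    · intro h m
      obtain ⟨x, rfl⟩ := Submodule.Quotient.mk_surjective _ m
      rw [← Submodule.Quotient.mk_smul, Submodule.Quotient.mk_eq_zero]
      obtain ⟨c, hc⟩ := h x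
      exact ⟨c, by simpa [Algebra.smul_def] using hc⟩
  have hmap : ∀ y ∈ Ideal.map (algebraMap A A') I, ∃ j ∈ I, algebraMap A A' j = y := by
    intro y hy
    induction hy using Submodule.span_induction with
    | mem y hy =>
      obtain ⟨j, hj, rfl⟩ := hy
      exact ⟨j, hj, rfl⟩
    | zero => exact ⟨0, I.zero_mem, by simp⟩
    | add x y _ _ hx hy =>
      obtain ⟨j, hj, rfl⟩ := hx
      obtain ⟨j', hj', rfl⟩ := hy
      exact ⟨j + j', I.add_mem hj hj', by simp⟩
    | smul x y _ hy =>
      obtain ⟨j, hj, rfl⟩ := hy
      obtain ⟨c, hc⟩ := (hmem j).mp hj x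
      refine ⟨c, ?_, ?_⟩
      · rw [hmem]
        intro z
        obtain ⟨c', hc'⟩ := (hmem j).mp hj (x * z)
        exact ⟨c', by rw [hc', hc]; ring⟩
      · rw [hc, smul_eq_mul, mul_comm]
  refine ⟨Ideal.Quotient.mk_surjective, ?_⟩
  intro b a' hba'
  obtain ⟨a₀, rfl⟩ := Ideal.Quotient.mk_surjective b
  have h1 : algebraMap A A' a₀ - a' ∈ Ideal.map (algebraMap A A') I := by
    rw [← Ideal.Quotient.eq]
    exact hba'
  obtain ⟨j, hj, hj'⟩ := hmap _ h1
  refine ⟨a₀ - j, ⟨?_, ?_⟩, ?_⟩
  · change Ideal.Quotient.mk I (a₀ - j) = Ideal.Quotient.mk I a₀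
    rw [Ideal.Quotient.eq]
    simpa using I.neg_mem hj
  · rw [map_sub, hj']
    ring
  · rintro a ⟨-, ha⟩
    apply hinj
    rw [ha, map_sub, hj']
    ring

end Groth.Agent.S14966
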