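import Groth.Statements.S1497
import Groth.Agent.Lib.Helper35.VA13

set_option autoImplicit false
universe u
attribute [local instance] HasDerivedCategory.standard
open FlatMor

namespace Groth.Agent.S1497

open AlgebraicGeometry CategoryTheory Limits in
/-- Let S be a scheme with an ample invertible sheaf and f : X → S a morphism. Then f is a quasi-compact
immersion into some projective space P^n_S over S if and only if f is of finite type and X has an
ample invertible sheaf. -/
theorem result {X S : Scheme.{u}} (hS : ∃ N : S.Modules, CohB1.IsAmple N) (f : X ⟶ S) :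
    (∃ (n : ℕ) (i : X ⟶ CohB1.ProjSpaceOver n S), IsImmersion i ∧ QuasiCompact i ∧ i ≫ pullback.snd (CohB1.ProjSpace.toSpec n (ULift.{u} ℤ)) (specULiftZIsTerminal.from S) = f) ↔
      (LocallyOfFiniteType f ∧ QuasiCompact f ∧ ∃ L : X.Modules, CohB1.IsAmple L) := by
  constructor
  · rintro ⟨n, i, hi, hqc, hcomp⟩
    have hcomp' : i ≫ CohB1.ProjSpaceOver.toBase n S = f := hcomp
    have hlft : LocallyOfFiniteType f := by
      rw [← hcomp']; infer_instance
    have hqcf : QuasiCompact f := by
      rw [← hcomp']; infer_instance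
    exact ⟨hlft, hqcf, Groth.Agent.Lib.Helper35.VA.exists_isAmple_of_immersion hS n i f hcomp'⟩
  · rintro ⟨hlft, hqc, L, hL⟩
    obtain ⟨N, i, hi, hcomp⟩ := Groth.Agent.Lib.Helper35.VA.exists_immersion_of_isAmple f hL
    exact ⟨N, i, hi, Groth.Agent.Lib.Helper35.VA.quasiCompact_of_comp_toBase N i f hcomp, hcomp⟩

end Groth.Agent.S1497
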