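import Groth.Statements.S14973
import Mathlib.Tactic

set_option autoImplicit false
universe u v
open Diff16

namespace Groth.Agent.S14973

/-- In ring form. Let B be a commutative ring, L a ring with a ring homomorphism f from B, and L_0, L_1,
L_2, … additive subgroups of L exhausting L such that for every b in B, f(b) commutes with every
element of L_0 and, for each i, the commutator f(b) x - x f(b) of f(b) with an element x of L_(i+1)
lies in L_i. Let M be a multiplicative subset of B. Then M acts invertibly on the right of the left
localisation of L at M (L viewed as a B-module through left multiplication): in elementwise terms,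
(a) if x is in L and m, u are in M with f(u) x f(m) = 0, then f(u') x = 0 for some u' in M; (b) for
every x in L and m in M there are e in M and y in L with f(e) x = y f(m). (The published statement
assumes a filtration satisfying all the axioms of a filtered ring of differential operators on an
affine scheme; this row assumes only an exhaustive family of additive subgroups on which commutators
with the image of B lower the index.) -/
theorem result
    {B : Type u} [CommRing B] {L : Type v} [Ring L] (f : B →+* L) (F : ℕ → AddSubgroup L)
    (hex : ∀ x : L, ∃ i : ℕ, x ∈ F i)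
    (h0 : ∀ x ∈ F 0, ∀ b : B, f b * x = x * f b)
    (hS : ∀ (i : ℕ), ∀ x ∈ F (i + 1), ∀ b : B, f b * x - x * f b ∈ F i)
    (M : Submonoid B) :
    (∀ (x : L) (m u : B), m ∈ M → u ∈ M → f u * x * f m = 0 → ∃ u' ∈ M, f u' * x = 0) ∧
    (∀ (x : L) (m : B), m ∈ M → ∃ e ∈ M, ∃ y : L, f e * x = y * f m) := by
  have hcomm : ∀ a b : B, f a * f b = f b * f a := fun a b => by
    rw [← map_mul, ← map_mul, mul_comm]
  constructor
  · have key : ∀ (i : ℕ), ∀ x ∈ F i, ∀ m u : B, f u * x * f m = 0 →
        f m ^ (i + 1) * (f u * x) = 0 := by
      intro i
      induction i with
      | zero =>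
        intro x hx m u h
        rw [zero_add, pow_one, ← mul_assoc, hcomm m u, mul_assoc, h0 x hx m, ← mul_assoc]
        exact h
      | succ i ih =>
        intro x hx m u h
        have hx' := hS i x hx m
        have h1 : f u * (f m * x - x * f m) * f m = 0 := by
          have : f u * (f m * x - x * f m) * f m =
              f m * (f u * x * f m) - (f u * x * f m) * f m := by
            rw [mul_sub, sub_mul, ← mul_assoc (f u) (f m) x, hcomm u m]
            simp only [mul_assoc]
          rw [this, h, mul_zero, zero_mul, sub_zero]
        have h2 := ih _ hx' m u h1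
        have h3 : f u * (f m * x - x * f m) = f m * (f u * x) := by
          rw [mul_sub, ← mul_assoc (f u) x (f m), h, sub_zero, ← mul_assoc, hcomm u m, mul_assoc]
        rw [h3] at h2
        rw [pow_succ, mul_assoc]
        exact h2
    intro x m u hm hu h
    obtain ⟨i, hi⟩ := hex x
    refine ⟨m ^ (i + 1) * u, M.mul_mem (M.pow_mem hm _) hu, ?_⟩
    rw [map_mul, map_pow, mul_assoc]
    exact key i x hi m u h
  · have key : ∀ (i : ℕ), ∀ x ∈ F i, ∀ m : B, m ∈ M → ∃ e ∈ M, ∃ y : L, f e * x = y * f m := by
      intro i
      induction i with
      | zero =>
        intro x hx m hm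
        exact ⟨m, hm, x, h0 x hx m⟩
      | succ i ih =>
        intro x hx m hm
        obtain ⟨e', he', y', hy'⟩ := ih _ (hS i x hx m) m hm
        refine ⟨e' * m, M.mul_mem he' hm, f e' * x + y', ?_⟩
        have : f m * x = x * f m + (f m * x - x * f m) := by abel
        rw [map_mul, mul_assoc, this, mul_add, hy', add_mul, mul_assoc]
    intro x m hm
    obtain ⟨i, hi⟩ := hex x
    exact key i x hi m hm

end Groth.Agent.S14973
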