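import Groth.Statements.S14978
import Mathlib

set_option autoImplicit false
universe u
open CategoryTheory MonoidalCategory CartesianMonoidalCategory AlgebraicGeometry
open AlgSt

namespace Groth.Agent.S14978

section
open CategoryTheory MonoidalCategory CartesianMonoidalCategory AlgebraicGeometry Opposite

universe v' u' w'

theorem descend_single {C : Type u'} [Category.{v'} C] (J : GrothendieckTopology C)
    (M : Cᵒᵖ ⥤ Type w') (hM : Presheaf.IsSheaf J M) {P T : C} (π : P ⟶ T)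
    (hcov : Sieve.generate (Presieve.singleton π) ∈ J T) (m : M.obj (op P))
    (hm : ∀ (Z : C) (g₁ g₂ : Z ⟶ P), g₁ ≫ π = g₂ ≫ π → M.map g₁.op m = M.map g₂.op m) :
    ∃! t : M.obj (op T), M.map π.op t = m := by
  have hs : Presieve.IsSheafFor M (Presieve.singleton π) := by
    rw [Presieve.isSheafFor_iff_generate]
    exact (isSheaf_iff_isSheaf_of_type J M).1 hM _ hcov
  rw [← Presieve.ofArrows_pUnit.{0}] at hs
  rw [Presieve.isSheafFor_arrows_iff] at hs
  obtain ⟨t, ht, hu⟩ := hs (fun _ => m) (fun _ _ Z g₁ g₂ h => hm Z g₁ g₂ h)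
  exact ⟨t, ht PUnit.unit, fun t' ht' => hu t' (fun _ => ht')⟩


variable {S : Scheme.{u}} {G : Over S} [GrpObj G] {X : Over S} {aX : AlgGrp.Action G X}

theorem f_nat (N : AlgSp.Sp S) (f : (AlgSp.yon S).obj X ⟶ N) {Z P : Over S} (g : Z ⟶ P) (x : P ⟶ X) :
    N.obj.map g.op (f.hom.app (op P) ⟨x⟩) = f.hom.app (op Z) ⟨g ≫ x⟩ := by
  exact (NatTrans.naturality_apply f.hom g.op (⟨x⟩ : ((AlgSp.yon S).obj X).obj.obj (op P))).symm

theorem f_inv (N : AlgSp.Sp S) (f : (AlgSp.yon S).obj X ⟶ N)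
    (hf : (AlgSp.yon S).map aX.act ≫ f = (AlgSp.yon S).map (snd G X) ≫ f)
    {T : Over S} (y : T ⟶ G ⊗ X) :
    f.hom.app (op T) ⟨y ≫ aX.act⟩ = f.hom.app (op T) ⟨y ≫ snd G X⟩ := by
  have := congrArg (fun h => h.hom.app (op T) ⟨y⟩) hf
  exact this

theorem cover_pi (A : QuotObj Scheme.fppfPrecoverage G aX) :
    Sieve.generate (Presieve.singleton A.π) ∈ AlgSp.J S A.base := by
  obtain ⟨R, hR, hsec⟩ := A.loc
  rw [GrothendieckTopology.mem_over_iff]
  refine GrothendieckTopology.superset_covering _ ?_ (Precoverage.generate_mem_toGrothendieck hR)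
  rw [Sieve.generate_le_iff]
  intro Z g hg
  obtain ⟨s, hs⟩ := hsec g hg
  rw [Sieve.overEquiv_iff]
  have hs' : s ≫ A.π.left = g := hs
  have hw : s ≫ A.P.hom = g ≫ A.base.hom := by
    rw [← Over.w A.π, ← Category.assoc, hs']
  refine ⟨A.P, Over.homMk s hw, A.π, Presieve.singleton.mk, ?_⟩
  ext
  exact hs'

theorem exists_t (N : AlgSp.Sp S) (f : (AlgSp.yon S).obj X ⟶ N)
    (hf : (AlgSp.yon S).map aX.act ≫ f = (AlgSp.yon S).map (snd G X) ≫ f)
    (A : QuotObj Scheme.fppfPrecoverage G aX) :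
    ∃! t : N.obj.obj (op A.base), N.obj.map A.π.op t = f.hom.app (op A.P) ⟨A.φ⟩ := by
  refine descend_single (AlgSp.J S) N.obj N.property A.π (cover_pi A) _ ?_
  intro Z g₁ g₂ h
  obtain ⟨l, hl₁, hl₂⟩ : ∃ l : Z ⟶ G ⊗ A.P, l ≫ A.act.act = g₁ ∧ l ≫ snd G A.P = g₂ :=
    ⟨A.cart.lift g₁ g₂ h, A.cart.lift_fst _ _ _, A.cart.lift_snd _ _ _⟩
  rw [f_nat, f_nat, ← hl₁, ← hl₂, Category.assoc, Category.assoc, A.eqv]
  have h1 := f_inv N f hf (l ≫ (G ◁ A.φ))
  rw [Category.assoc, Category.assoc, whiskerLeft_snd] at h1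
  exact h1

noncomputable def tOf (N : AlgSp.Sp S) (f : (AlgSp.yon S).obj X ⟶ N)
    (hf : (AlgSp.yon S).map aX.act ≫ f = (AlgSp.yon S).map (snd G X) ≫ f)
    (A : QuotObj Scheme.fppfPrecoverage G aX) : N.obj.obj (op A.base) :=
  (exists_t N f hf A).choose

theorem tOf_spec (N : AlgSp.Sp S) (f : (AlgSp.yon S).obj X ⟶ N)
    (hf : (AlgSp.yon S).map aX.act ≫ f = (AlgSp.yon S).map (snd G X) ≫ f)
    (A : QuotObj Scheme.fppfPrecoverage G aX) :
    N.obj.map A.π.op (tOf N f hf A) = f.hom.app (op A.P) ⟨A.φ⟩ :=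
  (exists_t N f hf A).choose_spec.1

theorem tOf_unique (N : AlgSp.Sp S) (f : (AlgSp.yon S).obj X ⟶ N)
    (hf : (AlgSp.yon S).map aX.act ≫ f = (AlgSp.yon S).map (snd G X) ≫ f)
    (A : QuotObj Scheme.fppfPrecoverage G aX) (t : N.obj.obj (op A.base))
    (ht : N.obj.map A.π.op t = f.hom.app (op A.P) ⟨A.φ⟩) : t = tOf N f hf A :=
  (exists_t N f hf A).choose_spec.2 t ht

theorem tOf_map (N : AlgSp.Sp S) (f : (AlgSp.yon S).obj X ⟶ N)
    (hf : (AlgSp.yon S).map aX.act ≫ f = (AlgSp.yon S).map (snd G X) ≫ f)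
    {A B : QuotObj Scheme.fppfPrecoverage G aX} (h : A ⟶ B) :
    N.obj.map h.base.op (tOf N f hf B) = tOf N f hf A := by
  apply tOf_unique
  have h1 : N.obj.map A.π.op (N.obj.map h.base.op (tOf N f hf B)) =
      N.obj.map h.top.op (N.obj.map B.π.op (tOf N f hf B)) := by
    rw [← Functor.map_comp_apply, ← Functor.map_comp_apply, ← op_comp, ← op_comp,
      h.cart.w]
  rw [h1, tOf_spec, f_nat, h.wφ]

noncomputable def Φ (N : AlgSp.Sp S) (f : (AlgSp.yon S).obj X ⟶ N)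
    (hf : (AlgSp.yon S).map aX.act ≫ f = (AlgSp.yon S).map (snd G X) ≫ f) :
    AlgSt.QuotSt Scheme.fppfPrecoverage G aX ⥤ᵇ AlgSt.ofSp N where
  toFunctor :=
    { obj := fun A => ⟨A.base, tOf N f hf A⟩
      map := fun h => ⟨h.base, tOf_map N f hf h⟩
      map_id := fun _ => Stk.EltObj.hom_ext rfl
      map_comp := fun _ _ => Stk.EltObj.hom_ext rfl }
  w := rfl


section Gen

variable {C : Type u'} [Category.{v'} C] {M : Cᵒᵖ ⥤ Type w'}

theorem eqToHom_hom {a b : Stk.EltObj M} (h : a = b) :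
    (eqToHom h).hom = eqToHom (congrArg Stk.EltObj.base h) := by
  subst h; rfl

theorem elt_eq (e : Stk.EltObj M) (b : C) (hb : e.base = b) :
    e = ⟨b, M.map (eqToHom hb.symm).op e.sec⟩ := by
  cases e
  subst hb
  simp

variable {𝒳 : BasedCategory.{v', u'} C}

theorem base_eq (ψ : 𝒳 ⥤ᵇ Stk.ofPsh M) (A : 𝒳.obj) : (ψ.obj A).base = 𝒳.p.obj A :=
  ψ.w_obj A

theorem map_hom_eq (ψ : 𝒳 ⥤ᵇ Stk.ofPsh M) {A B : 𝒳.obj} (g : A ⟶ B) :
    (ψ.map g).hom = eqToHom (base_eq ψ A) ≫ 𝒳.p.map g ≫ eqToHom (base_eq ψ B).symm := by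
  have h0 : Functor.IsHomLift 𝒳.p (𝒳.p.map g) g := inferInstance
  have h1 : Functor.IsHomLift (Stk.ofPsh M).p (𝒳.p.map g) (ψ.map g) :=
    BasedFunctor.preserves_isHomLift ψ (𝒳.p.map g) g
  exact IsHomLift.fac' (Stk.ofPsh M).p (𝒳.p.map g) (ψ.map g)

theorem based_ext (φ ψ : 𝒳 ⥤ᵇ Stk.ofPsh M) (h : ∀ a, φ.obj a = ψ.obj a) : φ = ψ := by
  have key : φ.toFunctor = ψ.toFunctor := by
    refine CategoryTheory.Functor.ext h ?_
    intro a b g
    apply Stk.EltObj.hom_ext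
    rw [Stk.EltObj.comp_hom, Stk.EltObj.comp_hom, eqToHom_hom, eqToHom_hom]
    rw [map_hom_eq φ g, map_hom_eq ψ g]
    simp
  cases φ
  cases ψ
  simp only at key
  subst key
  rfl

def secAt (ψ : 𝒳 ⥤ᵇ Stk.ofPsh M) (A : 𝒳.obj) : M.obj (op (𝒳.p.obj A)) :=
  M.map (eqToHom (base_eq ψ A).symm).op (ψ.obj A).sec

theorem obj_eq_secAt (ψ : 𝒳 ⥤ᵇ Stk.ofPsh M) (A : 𝒳.obj) :
    ψ.obj A = ⟨𝒳.p.obj A, secAt ψ A⟩ :=
  elt_eq (ψ.obj A) (𝒳.p.obj A) (base_eq ψ A)

theorem secAt_map (ψ : 𝒳 ⥤ᵇ Stk.ofPsh M) {A B : 𝒳.obj} (g : A ⟶ B) :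
    M.map (𝒳.p.map g).op (secAt ψ B) = secAt ψ A := by
  unfold secAt
  rw [← (ψ.map g).map_sec, ← Functor.map_comp_apply, ← Functor.map_comp_apply, ← op_comp, ← op_comp,
    map_hom_eq ψ g]
  simp

theorem secAt_congr (ψ ψ' : 𝒳 ⥤ᵇ Stk.ofPsh M) (h : ψ = ψ') (A : 𝒳.obj) :
    secAt ψ A = secAt ψ' A := by
  subst h; rfl

end Gen

theorem comp_eq (N : AlgSp.Sp S) (f : (AlgSp.yon S).obj X ⟶ N)
    (hf : (AlgSp.yon S).map aX.act ≫ f = (AlgSp.yon S).map (snd G X) ≫ f) :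
    BasedFunctor.comp (AlgSt.quotMap Scheme.fppfPrecoverage G aX) (Φ N f hf) = AlgSt.ofSpMap f := by
  apply based_ext
  intro a
  have key : tOf N f hf ((AlgSt.quotMap Scheme.fppfPrecoverage G aX).obj a) =
      f.hom.app (op a.base) a.sec := by
    refine (tOf_unique N f hf ((AlgSt.quotMap Scheme.fppfPrecoverage G aX).obj a) _ ?_).symm
    have h1 := f_nat N f (snd G a.base) a.sec.down
    have h2 := f_inv N f hf (G ◁ a.sec.down)
    rw [whiskerLeft_snd] at h2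
    exact h1.trans h2.symm
  change (⟨a.base, tOf N f hf ((AlgSt.quotMap Scheme.fppfPrecoverage G aX).obj a)⟩ :
    Stk.EltObj N.obj) = ⟨a.base, f.hom.app (op a.base) a.sec⟩
  rw [key]


open MonObj in
noncomputable def chi (A : QuotObj Scheme.fppfPrecoverage G aX) :
    (AlgSt.quotMap Scheme.fppfPrecoverage G aX).obj (⟨A.P, ⟨A.φ⟩⟩ : (AlgSt.ofSch X).obj) ⟶ A where
  base := A.π
  top := A.act.act
  eqv := by
    change (AlgSt.leftMul G A.P).act ≫ A.act.act = (G ◁ A.act.act) ≫ A.act.act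
    have hμ : fst (G ⊗ G) A.P ≫ μ[G] =
        (fst _ _ ≫ fst G G) * (fst _ _ ≫ snd G G) := by
      rw [Hom.mul_def, ← comp_lift, lift_fst_snd, Category.comp_id]
    have h1 : (AlgSt.leftMul G A.P).act = (α_ G G A.P).inv ≫ (μ[G] ▷ A.P) := by
      apply CartesianMonoidalCategory.hom_ext
      · simp only [AlgSt.leftMul, Category.assoc, lift_fst, whiskerRight_fst, hμ, MonObj.comp_mul,
          associator_inv_fst_fst, associator_inv_fst_snd]
      · simp only [AlgSt.leftMul, Category.assoc, lift_snd, whiskerRight_snd, associator_inv_snd]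
    rw [h1, Category.assoc, A.act.mul_act, Iso.inv_hom_id_assoc]
  cart := A.cart
  wφ := A.eqv

theorem unique_aux (N : AlgSp.Sp S) (f : (AlgSp.yon S).obj X ⟶ N)
    (hf : (AlgSp.yon S).map aX.act ≫ f = (AlgSp.yon S).map (snd G X) ≫ f)
    (ψ : AlgSt.QuotSt Scheme.fppfPrecoverage G aX ⥤ᵇ AlgSt.ofSp N)
    (hψ : BasedFunctor.comp (AlgSt.quotMap Scheme.fppfPrecoverage G aX) ψ = AlgSt.ofSpMap f) :
    ψ = Φ N f hf := by
  apply based_ext
  intro A
  rw [obj_eq_secAt ψ A]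
  have key : secAt ψ A = tOf N f hf A := by
    apply tOf_unique
    have h1 := secAt_map ψ (chi A)
    have h2 := secAt_congr _ _ hψ (⟨A.P, ⟨A.φ⟩⟩ : (AlgSt.ofSch X).obj)
    have h3 : secAt (AlgSt.ofSpMap f) (⟨A.P, ⟨A.φ⟩⟩ : (AlgSt.ofSch X).obj) =
        f.hom.app (op A.P) ⟨A.φ⟩ := by
      change N.obj.map (eqToHom (rfl : A.P = A.P)).op (f.hom.app (op A.P) ⟨A.φ⟩) = _
      rw [eqToHom_refl, op_id, N.obj.map_id]
      rfl
    exact h1.trans (h2.trans h3)
  change (⟨A.base, secAt ψ A⟩ : Stk.EltObj N.obj) = ⟨A.base, tOf N f hf A⟩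
  rw [key]

end

/-- Let `S` be a scheme, `G` a group scheme over `S` whose structure morphism is affine, flat and
locally of finite presentation, acting on a scheme `X` over `S`, and `M` an algebraic space over
`S`. A morphism of fppf sheaves `f : h_X ⟶ M` which is `G`-invariant (its composites with the action
`G ×_S X ⟶ X` and with the projection agree) factors through the canonical functor `X ⟶ [X/G]` by
exactly one functor `[X/G] ⟶ M` over `(Sch/S)` (this is the lifting half of the correspondence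
between morphisms `[X/G] ⟶ M` and `G`-invariant morphisms `X ⟶ M`). Here `[X/G]` is the fppf
quotient stack described by `G`-torsors that are schemes together with an equivariant map to `X`,
and `M` is viewed as the category of its sections over `(Sch/S)`; since that category is fibred in
sets, equality of functors over the base is the appropriate uniqueness. (The published statement
takes the base `S` affine; this row allows any base scheme.) -/
theorem result (S : Scheme.{u}) (G : Over S) [GrpObj G]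
    [IsAffineHom G.hom] [Flat G.hom] [LocallyOfFinitePresentation G.hom]
    (X : Over S) (aX : AlgGrp.Action G X) (M : AlgSp.Space S)
    (f : (AlgSp.yon S).obj X ⟶ M.obj)
    (hf : (AlgSp.yon S).map aX.act ≫ f = (AlgSp.yon S).map (snd G X) ≫ f) :
    ∃! φ : AlgSt.QuotSt Scheme.fppfPrecoverage G aX ⥤ᵇ AlgSt.ofSp M.obj,
      BasedFunctor.comp (AlgSt.quotMap Scheme.fppfPrecoverage G aX) φ = AlgSt.ofSpMap f := by
  exact ⟨Groth.Agent.S14978.Φ M.obj f hf, Groth.Agent.S14978.comp_eq M.obj f hf,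
    fun ψ hψ => Groth.Agent.S14978.unique_aux M.obj f hf ψ hψ⟩

end Groth.Agent.S14978
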