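import Groth.Statements.S14980
import Mathlib
import Groth.Agent.Lib.Helper61.CoactRG

set_option autoImplicit false
universe u
open CategoryTheory MonoidalCategory CartesianMonoidalCategory MonObj AlgebraicGeometry
open CoactBr

namespace Groth.Agent.S14980
open CategoryTheory MonoidalCategory CartesianMonoidalCategory MonObj AlgebraicGeometry
open CoactBr
set_option backward.isDefEq.respectTransparency.types false
set_option maxHeartbeats 400000
open Groth.Agent.Lib.Helper61.CoactRG

/-- formal conjugation lemma for a right action -/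
theorem conj_iff {R A B : Type u} [CommRing R] [CommRing A] [HopfAlgebra R A] [CommRing B]
    [Algebra R B] [HopfRep.Comod R A B] [GLin.IsCoactAlg R A B]
    {T : Over (Spec (CommRingCat.of R))} (y : T ⟶ sp R B) (w k : T ⟶ sp R A) :
    lift k (lift y w ≫ ract R A B) ≫ (CoactBr.action R A B).act = lift y w ≫ ract R A B ↔
      lift ((w⁻¹)⁻¹ * k * w⁻¹) y ≫ (CoactBr.action R A B).act = y := by
  have a1 : lift k (lift y w ≫ ract R A B) ≫ (CoactBr.action R A B).act =
      lift y (w * k⁻¹) ≫ ract R A B := by
    rw [lift_action_act k (lift y w ≫ ract R A B), lift_ract_ract]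
  have e : (w⁻¹⁻¹ * k * w⁻¹)⁻¹ = w * k⁻¹ * w⁻¹ := by group
  have a2 : lift (w⁻¹⁻¹ * k * w⁻¹) y ≫ (CoactBr.action R A B).act =
      lift y (w * k⁻¹ * w⁻¹) ≫ ract R A B := by
    rw [lift_action_act (w⁻¹⁻¹ * k * w⁻¹) y, e]
  rw [a1, a2]
  constructor
  · intro h
    have h2 := congrArg (fun z => lift z w⁻¹ ≫ ract R A B) h
    simp only [lift_ract_ract] at h2
    rw [mul_inv_cancel, lift_one_ract] at h2
    exact h2
  · intro h
    have h2 := congrArg (fun z => lift z w ≫ ract R A B) h
    simp only [lift_ract_ract] at h2
    rw [inv_mul_cancel_right] at h2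
    exact h2

theorem main
    (R A B K : Type u) [CommRing R] [CommRing A] [HopfAlgebra R A]
    [Module.Flat R A] [Module.Finite R A] [Module.Projective R A]
    [CommRing B] [Algebra R B] [Module.Flat R B] [HopfRep.Comod R A B] [GLin.IsCoactAlg R A B]
    (hC : Function.Bijective (algebraMap R (GLin.invariants R A B)))
    [Field K] [IsAlgClosed K] [Algebra R K] (x₁ x₂ : B →ₐ[R] K) :
    ∃ g : CoactBr.sp R K ⟶ CoactBr.sp R A,
      ∀ (T : Over (Spec (CommRingCat.of R))) (h : T ⟶ CoactBr.sp R K) (k : T ⟶ CoactBr.sp R A),
        lift k (h ≫ CoactBr.pt x₁) ≫ (CoactBr.action R A B).act = h ≫ CoactBr.pt x₁ ↔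
          lift ((h ≫ g)⁻¹ * k * (h ≫ g)) (h ≫ CoactBr.pt x₂) ≫ (CoactBr.action R A B).act =
            h ≫ CoactBr.pt x₂ := by
  obtain ⟨g₀, hg₀⟩ := exists_ra_eq R A B K x₁ x₂ (fun c hc => by
    obtain ⟨r, hr⟩ := hC.2 ⟨c, hc⟩
    have : c = algebraMap R B r := by
      have := congrArg Subtype.val hr
      exact this.symm
    rw [this, AlgHom.commutes, AlgHom.commutes])
  refine ⟨(pt g₀)⁻¹, ?_⟩
  intro T h k
  have e1 : h ≫ pt x₁ = lift (h ≫ pt x₂) (h ≫ pt g₀) ≫ ract R A B := by
    rw [hg₀, pt_ra, ← Category.assoc, CartesianMonoidalCategory.comp_lift]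
  have e2 : h ≫ (pt g₀)⁻¹ = (h ≫ pt g₀)⁻¹ := GrpObj.comp_inv _ _
  rw [e1, e2]
  exact conj_iff (h ≫ pt x₂) (h ≫ pt g₀) k

end Groth.Agent.S14980

namespace Groth.Agent.S14980

/-- Let `R` be a commutative ring, `A` a commutative Hopf algebra over `R` which is finite locally free
as an `R`-module (`G = Spec A` a finite locally free group scheme over `S = Spec R`), `B` a
commutative `R`-algebra, flat over `R`, with a coaction of `A` that is an algebra map (an action of
`G` on `X = Spec B`) whose ring of invariants is `R` itself (the structure map `R → B^A` is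
bijective, so `S` is the quotient of `X` by `G`), and `K` an algebraically closed field over `R`, a
geometric point of `S`. For any two `K`-points `x₁, x₂ : B → K` of `X` (which lie over that
geometric point of `S`) there is a `K`-point `g` of `G` conjugating the inertia group scheme at `x₂`
onto the one at `x₁`: for every scheme `T` over `Spec K` and every `T`-point `k` of `G`, `k` fixes
the `T`-point of `X` induced by `x₁` if and only if `g⁻¹ k g` fixes the one induced by `x₂`. (The
published statement takes the points to be the canonical points of the primes of `B` over a prime of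
`B^A`, base-changed to an algebraic closure of its residue field; any two `K`-points with `K`
algebraically closed are treated here, which is what the argument gives; and `G` finite over `S` is
read as finite locally free, the standing flatness included.) -/
theorem result
    (R A B K : Type u) [CommRing R] [CommRing A] [HopfAlgebra R A]
    [Module.Flat R A] [Module.Finite R A] [Module.Projective R A]
    [CommRing B] [Algebra R B] [Module.Flat R B] [HopfRep.Comod R A B] [GLin.IsCoactAlg R A B]
    (hC : Function.Bijective (algebraMap R (GLin.invariants R A B)))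
    [Field K] [IsAlgClosed K] [Algebra R K] (x₁ x₂ : B →ₐ[R] K) :
    ∃ g : CoactBr.sp R K ⟶ CoactBr.sp R A,
      ∀ (T : Over (Spec (CommRingCat.of R))) (h : T ⟶ CoactBr.sp R K) (k : T ⟶ CoactBr.sp R A),
        lift k (h ≫ CoactBr.pt x₁) ≫ (CoactBr.action R A B).act = h ≫ CoactBr.pt x₁ ↔
          lift ((h ≫ g)⁻¹ * k * (h ≫ g)) (h ≫ CoactBr.pt x₂) ≫ (CoactBr.action R A B).act =
            h ≫ CoactBr.pt x₂ := by
  exact main R A B K hC x₁ x₂

end Groth.Agent.S14980
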