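import Groth.Statements.S14981
import Mathlib
import Groth.Agent.Lib.Helper81.CoactFibre

set_option autoImplicit false
universe u
open CategoryTheory MonoidalCategory CartesianMonoidalCategory MonObj AlgebraicGeometry
open CoactBr

namespace Groth.Agent.S14981

/-- Let `R` be a commutative ring, `A` a commutative Hopf algebra over `R` which is finite locally free
as an `R`-module (`G = Spec A`), `B` a commutative `R`-algebra, flat over `R`, with a coaction of
`A` that is an algebra map (an action of `G` on `X = Spec B`) whose ring of invariants is `R` itself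
(the structure map `R → B^A` is bijective, so `S = Spec R` is the quotient), and `K₁`, `K₂` fields
over `R` in which the same prime `q` of `R` vanishes. Let `x₁ : B → K₁` and `x₂ : B → K₂` be
`R`-algebra maps, two points of `X` over the point `q` of `S`. If the inertia group scheme at `x₁`
is trivial (over every scheme `T` over `Spec K₁`, a `T`-point of `G` fixing the point of `X` induced
by `x₁` is the unit), then so is the inertia group scheme at `x₂`. (The published statement is about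
the canonical points of the primes of `B` over `q`; points with values in arbitrary fields are
treated here, and `G` finite over `S` is read as finite locally free, the standing flatness
included.) -/
theorem result
    (R A B K₁ K₂ : Type u) [CommRing R] [CommRing A] [HopfAlgebra R A]
    [Module.Flat R A] [Module.Finite R A] [Module.Projective R A]
    [CommRing B] [Algebra R B] [Module.Flat R B] [HopfRep.Comod R A B] [GLin.IsCoactAlg R A B]
    (hC : Function.Bijective (algebraMap R (GLin.invariants R A B)))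
    [Field K₁] [Algebra R K₁] [Field K₂] [Algebra R K₂]
    (hq : RingHom.ker (algebraMap R K₁) = RingHom.ker (algebraMap R K₂))
    (x₁ : B →ₐ[R] K₁) (x₂ : B →ₐ[R] K₂)
    (h₁ : ∀ (T : Over (Spec (CommRingCat.of R))) (h : T ⟶ CoactBr.sp R K₁) (g : T ⟶ CoactBr.sp R A),
      lift g (h ≫ CoactBr.pt x₁) ≫ (CoactBr.action R A B).act = h ≫ CoactBr.pt x₁ → g = 1)
    (T : Over (Spec (CommRingCat.of R))) (h : T ⟶ CoactBr.sp R K₂) (g : T ⟶ CoactBr.sp R A)
    (hg : lift g (h ≫ CoactBr.pt x₂) ≫ (CoactBr.action R A B).act = h ≫ CoactBr.pt x₂) :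
    g = 1 := by
  obtain ⟨Ω, _, _, _, ⟨j₁⟩, ⟨j₂⟩⟩ :=
    Groth.Agent.Lib.Helper81.CoactFibre.exists_common_ext R K₁ K₂ hq
  obtain ⟨T', p, h', hph, hepi⟩ :=
    Groth.Agent.Lib.Helper81.CoactFibre.exists_baseChange j₂ T h
  obtain ⟨d, hd⟩ :=
    Groth.Agent.Lib.Helper81.CoactRG.exists_conj hC Ω (j₂.comp x₂) (j₁.comp x₁)
  have e3 : h' ≫ CoactBr.pt (j₁.comp x₁) = (h' ≫ CoactBr.pt j₁) ≫ CoactBr.pt x₁ :=
    calc h' ≫ CoactBr.pt (j₁.comp x₁)
        = h' ≫ (CoactBr.pt j₁ ≫ CoactBr.pt x₁) :=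
          congrArg (fun y => h' ≫ y) (CoactBr.pt_comp x₁ j₁)
      _ = (h' ≫ CoactBr.pt j₁) ≫ CoactBr.pt x₁ := (Category.assoc _ _ _).symm
  have e2 : p ≫ (h ≫ CoactBr.pt x₂) =
      lift (h' ≫ d) ((h' ≫ CoactBr.pt j₁) ≫ CoactBr.pt x₁) ≫ (CoactBr.action R A B).act :=
    calc p ≫ (h ≫ CoactBr.pt x₂)
        = (p ≫ h) ≫ CoactBr.pt x₂ := (Category.assoc _ _ _).symm
      _ = (h' ≫ CoactBr.pt j₂) ≫ CoactBr.pt x₂ := congrArg (fun y => y ≫ CoactBr.pt x₂) hph
      _ = h' ≫ (CoactBr.pt j₂ ≫ CoactBr.pt x₂) := Category.assoc _ _ _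
      _ = h' ≫ CoactBr.pt (j₂.comp x₂) :=
          congrArg (fun y => h' ≫ y) (CoactBr.pt_comp x₂ j₂).symm
      _ = h' ≫ (lift d (CoactBr.pt (j₁.comp x₁)) ≫ (CoactBr.action R A B).act) :=
          congrArg (fun y => h' ≫ y) hd
      _ = (h' ≫ lift d (CoactBr.pt (j₁.comp x₁))) ≫ (CoactBr.action R A B).act :=
          (Category.assoc _ _ _).symm
      _ = lift (h' ≫ d) (h' ≫ CoactBr.pt (j₁.comp x₁)) ≫ (CoactBr.action R A B).act :=
          congrArg (fun y => y ≫ (CoactBr.action R A B).act) (comp_lift h' d _)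
      _ = lift (h' ≫ d) ((h' ≫ CoactBr.pt j₁) ≫ CoactBr.pt x₁) ≫ (CoactBr.action R A B).act :=
          congrArg (fun y => lift (h' ≫ d) y ≫ (CoactBr.action R A B).act) e3
  have hg' : lift (p ≫ g) (p ≫ (h ≫ CoactBr.pt x₂)) ≫ (CoactBr.action R A B).act =
      p ≫ (h ≫ CoactBr.pt x₂) :=
    calc lift (p ≫ g) (p ≫ (h ≫ CoactBr.pt x₂)) ≫ (CoactBr.action R A B).act
        = (p ≫ lift g (h ≫ CoactBr.pt x₂)) ≫ (CoactBr.action R A B).act :=
          congrArg (fun y => y ≫ (CoactBr.action R A B).act) (comp_lift p g _).symm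
      _ = p ≫ (lift g (h ≫ CoactBr.pt x₂) ≫ (CoactBr.action R A B).act) := Category.assoc _ _ _
      _ = p ≫ (h ≫ CoactBr.pt x₂) := congrArg (fun y => p ≫ y) hg
  have hfix := (congrArg (fun y => lift (p ≫ g) y ≫ (CoactBr.action R A B).act = y) e2).mp hg'
  have hconj := (Groth.Agent.Lib.Helper81.CoactRG.conj_iff (R := R) (A := A) (B := B) (p ≫ g)
    (h' ≫ d) ((h' ≫ CoactBr.pt j₁) ≫ CoactBr.pt x₁)).mp hfix
  have hone := h₁ T' (h' ≫ CoactBr.pt j₁) _ hconj
  have hpg : p ≫ g = 1 := by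
    have h2 : (h' ≫ d)⁻¹ * (p ≫ g) * ((h' ≫ d)⁻¹)⁻¹ = 1 := by
      rw [inv_inv]
      exact hone
    exact conj_eq_one_iff.mp h2
  have hpg' : p ≫ g = p ≫ (1 : T ⟶ CoactBr.sp R A) := hpg.trans (MonObj.comp_one p).symm
  have hl : p.left ≫ g.left = p.left ≫ (1 : T ⟶ CoactBr.sp R A).left :=
    congrArg CommaMorphism.left hpg'
  have := hepi
  apply Over.OverMorphism.ext
  exact (cancel_epi p.left).mp hl

end Groth.Agent.S14981
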