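import Groth.Statements.S14982
import Mathlib
import Groth.Agent.Lib.Helper61.CoactStab3
import Groth.Agent.Lib.Helper81.CoactFibre

set_option autoImplicit false
universe u
open CategoryTheory MonoidalCategory CartesianMonoidalCategory MonObj AlgebraicGeometry
open CoactBr

namespace Groth.Agent.S14982
open CategoryTheory MonoidalCategory CartesianMonoidalCategory MonObj AlgebraicGeometry
open CoactBr
set_option backward.isDefEq.respectTransparency.types false
set_option maxHeartbeats 400000
open Groth.Agent.Lib.Helper61.CoactRG Groth.Agent.Lib.Helper61.CoactStab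
open CategoryTheory.Limits

section
variable (R A B K : Type u) [CommRing R] [CommRing A] [HopfAlgebra R A]
    [CommRing B] [Algebra R B] [HopfRep.Comod R A B] [GLin.IsCoactAlg R A B]
    [Field K] [Algebra R K] (x : B →ₐ[R] K)

theorem forward [Module.Finite R A] [Module.Projective R A]
    (H : ∀ (T : Over (Spec (CommRingCat.of R))) (h : T ⟶ CoactBr.sp R K) (g : T ⟶ CoactBr.sp R A),
        lift g (h ≫ CoactBr.pt x) ≫ (CoactBr.action R A B).act = h ≫ CoactBr.pt x → g = 1) :
      ∃ (Y' : Scheme.{u}) (c : Y' ⟶ Spec (CommRingCat.of (GLin.invariants R A B))),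
        Flat c ∧ LocallyOfFinitePresentation c ∧
        (∃ y' : Y', c.base y' =
          (Spec.map (CommRingCat.ofHom (x.toRingHom.comp (GLin.invariants R A B).val.toRingHom))).base
            (IsLocalRing.closedPoint K)) ∧
        ∀ (T : Over (Spec (CommRingCat.of R))) (ζ : T ⟶ CoactBr.sp R B),
          (∃ t : T.left ⟶ Y', t ≫ c = ζ.left ≫ Spec.map (CommRingCat.ofHom (GLin.invariants R A B).val.toRingHom)) →
          ∀ g : T ⟶ CoactBr.sp R A, lift g ζ ≫ (CoactBr.action R A B).act = ζ → g = 1 := by
  have hx : InertiaTriv A x := inertiaTriv_of_scheme x H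
  obtain ⟨c₀, hc, hgood, hxc⟩ := exists_good_invariant x hx
  let cC : GLin.invariants R A B := ⟨c₀, hc⟩
  let U : (Spec (CommRingCat.of (GLin.invariants R A B))).Opens := PrimeSpectrum.basicOpen cC
  refine ⟨U, U.ι, inferInstance, inferInstance, ?_, ?_⟩
  · have hmem : (Spec.map (CommRingCat.ofHom
        (x.toRingHom.comp (GLin.invariants R A B).val.toRingHom))).base
          (IsLocalRing.closedPoint K) ∈ U := by
      show cC ∉ Ideal.comap (x.toRingHom.comp (GLin.invariants R A B).val.toRingHom)
        (IsLocalRing.closedPoint K).asIdeal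
      rw [Ideal.mem_comap]
      intro h0
      apply hxc
      have : (IsLocalRing.closedPoint K).asIdeal = ⊥ := by
        show IsLocalRing.maximalIdeal K = ⊥
        exact IsLocalRing.maximalIdeal_eq_bot
      rw [this, Ideal.mem_bot] at h0
      exact h0
    exact ⟨⟨_, hmem⟩, rfl⟩
  · rintro T ζ ⟨t, ht⟩ g hfix
    refine eq_one_of_good hgood T ζ g hfix (fun p hp => ?_)
    have h1 : (ζ.left ≫ Spec.map (CommRingCat.ofHom (GLin.invariants R A B).val.toRingHom)) p ∈ U := by
      rw [← ht, Scheme.Hom.comp_apply]
      exact (t p).2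
    apply h1
    rw [Scheme.Hom.comp_apply]
    show cC ∈ Ideal.comap (GLin.invariants R A B).val.toRingHom (ζ.left p : PrimeSpectrum B).asIdeal
    rw [Ideal.mem_comap]
    exact hp

theorem backward
    (Y' : Scheme.{u}) (c : Y' ⟶ Spec (CommRingCat.of (GLin.invariants R A B)))
    (y' : Y') (hy' : c.base y' =
          (Spec.map (CommRingCat.ofHom (x.toRingHom.comp (GLin.invariants R A B).val.toRingHom))).base
            (IsLocalRing.closedPoint K))
    (Hfree : ∀ (T : Over (Spec (CommRingCat.of R))) (ζ : T ⟶ CoactBr.sp R B),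
          (∃ t : T.left ⟶ Y', t ≫ c = ζ.left ≫ Spec.map (CommRingCat.ofHom (GLin.invariants R A B).val.toRingHom)) →
          ∀ g : T ⟶ CoactBr.sp R A, lift g ζ ≫ (CoactBr.action R A B).act = ζ → g = 1)
    (T : Over (Spec (CommRingCat.of R))) (h : T ⟶ CoactBr.sp R K) (g : T ⟶ CoactBr.sp R A)
    (hfix : lift g (h ≫ CoactBr.pt x) ≫ (CoactBr.action R A B).act = h ≫ CoactBr.pt x) :
    g = 1 := by
  let s₁ : Spec (Y'.residueField y') ⟶ Y' := Y'.fromSpecResidueField y'
  let u : Spec (Y'.residueField y') ⟶ Spec (CommRingCat.of (GLin.invariants R A B)) := s₁ ≫ c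
  let v : Spec (CommRingCat.of K) ⟶ Spec (CommRingCat.of (GLin.invariants R A B)) :=
    Spec.map (CommRingCat.ofHom (x.toRingHom.comp (GLin.invariants R A B).val.toRingHom))
  have huv : u (IsLocalRing.closedPoint (Y'.residueField y')) = v (IsLocalRing.closedPoint K) := by
    show (s₁ ≫ c) _ = _
    rw [Scheme.Hom.comp_apply, Scheme.fromSpecResidueField_apply]
    exact hy'
  obtain ⟨z, -, -⟩ := Scheme.Pullback.exists_preimage_pullback _ _ huv
  let s : Spec ((pullback u v).residueField z) ⟶ pullback u v :=
    (pullback u v).fromSpecResidueField z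
  let a := s ≫ pullback.fst u v
  let b := s ≫ pullback.snd u v
  have hab : a ≫ u = b ≫ v := by
    show (s ≫ pullback.fst u v) ≫ u = (s ≫ pullback.snd u v) ≫ v
    rw [Category.assoc, Category.assoc, pullback.condition]
  obtain ⟨Ω, hΩ⟩ : ∃ Ω : Type u, Ω = (pullback u v).residueField z := ⟨_, rfl⟩
  let j : CommRingCat.of K ⟶ (pullback u v).residueField z := Spec.preimage b
  have hj : Spec.map j = b := Spec.map_preimage _
  letI : Algebra R ((pullback u v).residueField z) := (j.hom.comp (algebraMap R K)).toAlgebra
  let J : K →ₐ[R] ((pullback u v).residueField z) := { j.hom with commutes' := fun r => rfl }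
  obtain ⟨T', p, h', hp, hepi⟩ :=
    Groth.Agent.Lib.Helper81.CoactFibre.exists_baseChange J T h
  have hζ : h' ≫ pt (J.comp x) = p ≫ h ≫ pt x := by
    rw [pt_comp, ← Category.assoc, ← hp, Category.assoc]
  have hJ : (pt J).left = b := hj
  have ht : (h'.left ≫ a ≫ s₁) ≫ c = (p ≫ h ≫ pt x).left ≫
      Spec.map (CommRingCat.ofHom (GLin.invariants R A B).val.toRingHom) := by
    rw [← hζ]
    have e1 : (a ≫ s₁) ≫ c = b ≫ v := by
      rw [Category.assoc]
      exact hab
    have e2 : (pt (J.comp x)).left ≫
        Spec.map (CommRingCat.ofHom (GLin.invariants R A B).val.toRingHom) = b ≫ v := by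
      rw [pt_comp, Over.comp_left, hJ, Category.assoc]
      congr 1
      exact (Spec.map_comp (CommRingCat.ofHom (GLin.invariants R A B).val.toRingHom)
        (CommRingCat.ofHom x.toRingHom)).symm
    calc (h'.left ≫ a ≫ s₁) ≫ c = h'.left ≫ ((a ≫ s₁) ≫ c) := by simp only [Category.assoc]
      _ = h'.left ≫ (b ≫ v) := congrArg (fun m => h'.left ≫ m) e1
      _ = h'.left ≫ ((pt (J.comp x)).left ≫
          Spec.map (CommRingCat.ofHom (GLin.invariants R A B).val.toRingHom)) :=
        congrArg (fun m => h'.left ≫ m) e2.symm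
      _ = (h' ≫ pt (J.comp x)).left ≫
          Spec.map (CommRingCat.ofHom (GLin.invariants R A B).val.toRingHom) := by
        rw [Over.comp_left, Category.assoc]
  have hfix' : lift (p ≫ g) (p ≫ h ≫ pt x) ≫ (CoactBr.action R A B).act = p ≫ h ≫ pt x := by
    rw [← CartesianMonoidalCategory.comp_lift, Category.assoc, hfix]
  have h1 := Hfree T' (p ≫ h ≫ pt x) ⟨_, ht⟩ (p ≫ g) hfix'
  have h2 : p ≫ g = p ≫ (1 : T ⟶ sp R A) := by rw [h1, MonObj.comp_one]
  have h3 : p.left ≫ g.left = p.left ≫ (1 : T ⟶ sp R A).left := congrArg CommaMorphism.left h2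
  apply Over.OverMorphism.ext
  exact (cancel_epi p.left).mp h3

end

theorem main
    (R A B K : Type u) [CommRing R] [CommRing A] [HopfAlgebra R A]
    [Module.Flat R A] [Module.Finite R A] [Module.Projective R A]
    [CommRing B] [Algebra R B] [HopfRep.Comod R A B] [GLin.IsCoactAlg R A B]
    [Field K] [Algebra R K] (x : B →ₐ[R] K) :
    (∀ (T : Over (Spec (CommRingCat.of R))) (h : T ⟶ CoactBr.sp R K) (g : T ⟶ CoactBr.sp R A),
        lift g (h ≫ CoactBr.pt x) ≫ (CoactBr.action R A B).act = h ≫ CoactBr.pt x → g = 1) ↔
      ∃ (Y' : Scheme.{u}) (c : Y' ⟶ Spec (CommRingCat.of (GLin.invariants R A B))),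
        Flat c ∧ LocallyOfFinitePresentation c ∧
        (∃ y' : Y', c.base y' =
          (Spec.map (CommRingCat.ofHom (x.toRingHom.comp (GLin.invariants R A B).val.toRingHom))).base
            (IsLocalRing.closedPoint K)) ∧
        ∀ (T : Over (Spec (CommRingCat.of R))) (ζ : T ⟶ CoactBr.sp R B),
          (∃ t : T.left ⟶ Y', t ≫ c = ζ.left ≫ Spec.map (CommRingCat.ofHom (GLin.invariants R A B).val.toRingHom)) →
          ∀ g : T ⟶ CoactBr.sp R A, lift g ζ ≫ (CoactBr.action R A B).act = ζ → g = 1 := by
  constructor
  · exact forward R A B K x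
  · rintro ⟨Y', c, -, -, ⟨y', hy'⟩, Hfree⟩ T h g hfix
    exact backward R A B K x Y' c y' hy' Hfree T h g hfix

end Groth.Agent.S14982

namespace Groth.Agent.S14982

/-- Let `R` be a commutative ring, `A` a commutative Hopf algebra over `R` which is finite locally free
as an `R`-module (`G = Spec A` a finite flat group scheme over `S = Spec R`), `B` a commutative
`R`-algebra with a coaction of `A` that is an algebra map (an action of `G` on `X = Spec B`), `C =
B^A` the ring of invariants and `π : X → Y = Spec C` the quotient map. Let `K` be a field over `R`,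
`x : B → K` an `R`-algebra map (a point of `X`) and `y` the image in `Y` of the point underlying
`x`. Then the inertia group scheme at `x` is trivial (for every scheme `T` over `Spec K`, every
`T`-point of `G` fixing the point of `X` induced by `x` is the unit) if and only if there is a flat
morphism locally of finite presentation `Y' → Y` whose image contains `y` and over which the action
becomes free: for every scheme `T` over `S` and every `T`-point `ζ` of `X` whose composite with `π`
lifts to `Y'`, every `T`-point of `G` fixing `ζ` is the unit (this is freeness of the base-changed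
action of `G ×_S Y'` on `X ×_Y Y'`, written through points of `G` and `X`). (`G` finite flat is read
as finite locally free. The published result also says that `X ×_Y Y'` is then a torsor under
`G_{Y'}` and gives a third equivalent condition, that after a further fppf base change the action is
induced from an action of the trivial group; neither is stated here.) -/
theorem result
    (R A B K : Type u) [CommRing R] [CommRing A] [HopfAlgebra R A]
    [Module.Flat R A] [Module.Finite R A] [Module.Projective R A]
    [CommRing B] [Algebra R B] [HopfRep.Comod R A B] [GLin.IsCoactAlg R A B]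
    [Field K] [Algebra R K] (x : B →ₐ[R] K) :
    (∀ (T : Over (Spec (CommRingCat.of R))) (h : T ⟶ CoactBr.sp R K) (g : T ⟶ CoactBr.sp R A),
        lift g (h ≫ CoactBr.pt x) ≫ (CoactBr.action R A B).act = h ≫ CoactBr.pt x → g = 1) ↔
      ∃ (Y' : Scheme.{u}) (c : Y' ⟶ Spec (CommRingCat.of (GLin.invariants R A B))),
        Flat c ∧ LocallyOfFinitePresentation c ∧
        (∃ y' : Y', c.base y' =
          (Spec.map (CommRingCat.ofHom (x.toRingHom.comp (GLin.invariants R A B).val.toRingHom))).base
            (IsLocalRing.closedPoint K)) ∧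
        ∀ (T : Over (Spec (CommRingCat.of R))) (ζ : T ⟶ CoactBr.sp R B),
          (∃ t : T.left ⟶ Y', t ≫ c = ζ.left ≫ Spec.map (CommRingCat.ofHom (GLin.invariants R A B).val.toRingHom)) →
          ∀ g : T ⟶ CoactBr.sp R A, lift g ζ ≫ (CoactBr.action R A B).act = ζ → g = 1 := by
  exact main R A B K x

end Groth.Agent.S14982
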