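import Groth.Statements.S14984
import Mathlib.Tactic

set_option autoImplicit false
universe u v w
open HopfRep

namespace Groth.Agent.S14984

open TensorProduct
theorem key
    (R : Type u) (A : Type v) (B : Type w)
    [CommRing R] [CommRing A] [HopfAlgebra R A]
    [CommRing B] [Algebra R B] [HopfRep.Comod R A B] [GLin.IsCoactAlg R A B]
    (C : Subalgebra R B)
    (hC : ∀ c : C, HopfRep.Comod.coact (k := R) (A := A) (c : B) = (c : B) ⊗ₜ[R] (1 : A))
    (β : TensorProduct R C A →ₗ[C] TensorProduct R C B)
    (hβ : @Hoch.IsComodHom C _ (TensorProduct R C A) _ _ _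
        (TensorProduct R C A) _ _
        (HopfRep.Comod.regular C (TensorProduct R C A))
        (TensorProduct R C B) _ _
        (CoactBr.Comod.baseChange R C A B) β) (hβ1 : β 1 = 1) :
    ∃ α : A →ₗ[R] B, Hoch.IsComodHom A α ∧ α 1 = 1 := by
  let m : C ⊗[R] B →ₗ[R] B := (Algebra.TensorProduct.productMap C.val (AlgHom.id R B)).toLinearMap
  have hm : ∀ (c : C) (b : B), m (c ⊗ₜ b) = (c : B) * b := fun c b => by
    simp [m]
  let Φ : (C ⊗[R] B) ⊗[C] (C ⊗[R] A) →ₗ[R] B ⊗[R] A :=
    m.rTensor A ∘ₗ ((TensorProduct.AlgebraTensorModule.cancelBaseChange R C C (C ⊗[R] B) A).restrictScalars R).toLinearMap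
  have hΦ : ∀ (y : C ⊗[R] B) (c : C) (a : A), Φ (y ⊗ₜ[C] (c ⊗ₜ[R] a)) = m (c • y) ⊗ₜ a := by
    intro y c a
    simp [Φ]
  let α : A →ₗ[R] B := m ∘ₗ β.restrictScalars R ∘ₗ (TensorProduct.mk R C A 1)
  have hα : ∀ a, α a = m (β ((1 : C) ⊗ₜ a)) := fun a => rfl
  refine ⟨α, ?_, ?_⟩
  · unfold Hoch.IsComodHom
    ext a
    simp only [LinearMap.comp_apply]
    have c1 : ∀ (c : C) (x : B ⊗[R] A),
        Φ (AlgebraTensorModule.tensorTensorTensorComm R C R C C C B A (((1 : C) ⊗ₜ[C] c) ⊗ₜ[R] x))
          = ((c : B) ⊗ₜ[R] (1 : A)) * x := by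
      intro c x
      induction x using TensorProduct.induction_on with
      | zero => simp
      | tmul b a =>
        rw [AlgebraTensorModule.tensorTensorTensorComm_tmul, hΦ, smul_tmul', hm,
          Algebra.TensorProduct.tmul_mul_tmul]
        simp
      | add x y hx hy => simp only [tmul_add, map_add, hx, hy, mul_add]
    have claim1 : ∀ y : C ⊗[R] B, Φ ((CoactBr.Comod.baseChange R C A B).coact y)
        = HopfRep.Comod.coact (k := R) (A := A) (m y) := by
      intro y
      induction y using TensorProduct.induction_on with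
      | zero => simp
      | tmul c b =>
        rw [CoactBr.baseChange_coact_tmul, c1, hm, GLin.IsCoactAlg.coact_mul, hC]
      | add x y hx hy => simp only [map_add, hx, hy]
    have claim2 : ∀ x : A ⊗[R] A,
        Φ ((β.rTensor (C ⊗[R] A))
          (AlgebraTensorModule.tensorTensorTensorComm R C R C C C A A (((1 : C) ⊗ₜ[C] (1 : C)) ⊗ₜ[R] x)))
          = α.rTensor A x := by
      intro x
      induction x using TensorProduct.induction_on with
      | zero => simp
      | tmul a b =>
        rw [AlgebraTensorModule.tensorTensorTensorComm_tmul, LinearMap.rTensor_tmul, hΦ, one_smul,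
          LinearMap.rTensor_tmul, hα]
      | add x y hx hy => simp only [tmul_add, map_add, hx, hy]
    rw [hα, ← claim1]
    have hβa := LinearMap.congr_fun hβ ((1 : C) ⊗ₜ[R] a)
    simp only [LinearMap.comp_apply] at hβa
    rw [hβa, ← claim2]
    rfl
  · rw [hα, ← Algebra.TensorProduct.one_def, hβ1, Algebra.TensorProduct.one_def, hm]
    simp



/-- Let `R` be a commutative ring, `A` a commutative Hopf algebra over `R`, flat as an `R`-module, `B` a
commutative `R`-algebra with a coaction of `A` that is an algebra map (an action of `G = Spec A` on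
`X = Spec B`), and `C = B^A` the ring of invariants. If the action base-changed along `R → C` — the
`C`-Hopf algebra `C ⊗ A` coacting on `C ⊗ B` — is tame, i.e. there is a `C`-linear comodule map `β :
C ⊗ A → C ⊗ B` (regular coaction on the source, base-changed coaction on the target) with `β 1 = 1`,
then the original action is tame: there is an `R`-linear comodule map `α : A → B` with `α 1 = 1`.
(The converse is the case `S = C` of stability of tameness under base change. The published lemma
also lists, as a third equivalent condition, tameness of the action of `C ⊗ A` on `B` itself over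
`C`; that condition is not stated here.) -/
theorem result
    (R : Type u) (A : Type v) (B : Type w)
    [CommRing R] [CommRing A] [HopfAlgebra R A] [Module.Flat R A]
    [CommRing B] [Algebra R B] [HopfRep.Comod R A B] [GLin.IsCoactAlg R A B]
    (h : ∃ β : TensorProduct R ↥(GLin.invariants R A B) A →ₗ[↥(GLin.invariants R A B)]
        TensorProduct R ↥(GLin.invariants R A B) B,
      @Hoch.IsComodHom ↥(GLin.invariants R A B) _ (TensorProduct R ↥(GLin.invariants R A B) A) _ _ _
        (TensorProduct R ↥(GLin.invariants R A B) A) _ _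
        (HopfRep.Comod.regular ↥(GLin.invariants R A B) (TensorProduct R ↥(GLin.invariants R A B) A))
        (TensorProduct R ↥(GLin.invariants R A B) B) _ _
        (CoactBr.Comod.baseChange R ↥(GLin.invariants R A B) A B) β ∧ β 1 = 1) :
    ∃ α : A →ₗ[R] B, Hoch.IsComodHom A α ∧ α 1 = 1 := by
  obtain ⟨β, hβ, hβ1⟩ := h
  exact key R A B (GLin.invariants R A B) (fun c => c.2) β hβ hβ1

end Groth.Agent.S14984
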