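import Groth.Statements.S14991
import Groth.Agent.Lib.Helper21.PushFinLocFree

set_option autoImplicit false
universe u
open CategoryTheory CategoryTheory.Limits AlgebraicGeometry
open ResProp

namespace Groth.Agent.S14991

/-- In the case of schemes, let X be an integral scheme of dimension 2, separated and of finite type
over a field k and regular in codimension 1, F a coherent module on X, and p ≠ q regular closed
points of X near each of which F is finite locally free. If F restricted to X minus q and F
restricted to X minus p are both quotients of finite locally free modules, then F is a quotient of a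
finite locally free module on X. (The published statement is for algebraic spaces and also assumes F
locally free off a closed subset of codimension 2, an assumption the argument does not use; this row
is the case of schemes without it.) -/
theorem result {k : Type u} [Field k] (X : Scheme.{u})
    [X.Over (Spec (CommRingCat.of k))] [IsIntegral X] [IsSeparated (X ↘ Spec (CommRingCat.of k))]
    [LocallyOfFiniteType (X ↘ Spec (CommRingCat.of k))] [QuasiCompact (X ↘ Spec (CommRingCat.of k))]
    (hdim : topologicalKrullDim ↥X = 2)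
    (hR1 : ∀ x : X, ringKrullDim ↥(X.presheaf.stalk x) ≤ 1 → IsRegularLocalRing ↥(X.presheaf.stalk x))
    (F : X.Modules) (hF : Coh.IsCoh F) (p q : X) (hpq : p ≠ q)
    (hp : IsClosed ({p} : Set X)) (hq : IsClosed ({q} : Set X))
    (hpreg : IsRegularLocalRing ↥(X.presheaf.stalk p)) (hqreg : IsRegularLocalRing ↥(X.presheaf.stalk q))
    (hFp : ∃ W : X.Opens, p ∈ W ∧ FlatMod.IsFinLocFree (F.restrict W.ι))
    (hFq : ∃ W : X.Opens, q ∈ W ∧ FlatMod.IsFinLocFree (F.restrict W.ι))
    (Up Uq : X.Opens) (hUp : (Up : Set X) = {p}ᶜ) (hUq : (Uq : Set X) = {q}ᶜ)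
    (hp' : ∃ (E : (↑Up : Scheme.{u}).Modules) (π : E ⟶ F.restrict Up.ι), FlatMod.IsFinLocFree E ∧ Epi π)
    (hq' : ∃ (E : (↑Uq : Scheme.{u}).Modules) (π : E ⟶ F.restrict Uq.ι), FlatMod.IsFinLocFree E ∧ Epi π) :
    ∃ (E : X.Modules) (π : E ⟶ F), FlatMod.IsFinLocFree E ∧ Epi π := by
  haveI : IsLocallyNoetherian X :=
    LocallyOfFiniteType.isLocallyNoetherian (X ↘ Spec (CommRingCat.of k))
  haveI : F.IsQuasicoherent := hF.1
  have hpdim : ringKrullDim (X.presheaf.stalk p) = 2 := by
    rw [Groth.Agent.Lib.Helper21.PushFinLocFree.ringKrullDim_stalk_eq_of_isClosed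
      (X ↘ Spec (CommRingCat.of k)) hp, hdim]
  have hqdim : ringKrullDim (X.presheaf.stalk q) = 2 := by
    rw [Groth.Agent.Lib.Helper21.PushFinLocFree.ringKrullDim_stalk_eq_of_isClosed
      (X ↘ Spec (CommRingCat.of k)) hq, hdim]
  obtain ⟨Wp, hpW, hWp⟩ := hFp
  obtain ⟨Wq, hqW, hWq⟩ := hFq
  have hFp' := Groth.Agent.Lib.Helper21.PushFinLocFree.free_stalk_of_isFinLocFree_restrict Wp F hWp
    p hpW
  have hFq' := Groth.Agent.Lib.Helper21.PushFinLocFree.free_stalk_of_isFinLocFree_restrict Wq F hWq
    q hqW
  obtain ⟨Ep, πp, hEp, hπp⟩ := hp'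
  obtain ⟨Eq, πq, hEq, hπq⟩ := hq'
  exact Groth.Agent.Lib.Helper21.PushFinLocFree.exists_epi_of_two_points F hF p q hpq hpreg hpdim
    hqreg hqdim hFp' hFq' Up Uq hUp hUq Ep πp hEp hπp Eq πq hEq hπq

end Groth.Agent.S14991
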