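import Groth.Statements.S14994
import Mathlib.Tactic
import Mathlib.Algebra.Module.LocalizedModule.Basic
import Mathlib.LinearAlgebra.Dual.Lemmas
import Mathlib.RingTheory.Localization.FractionRing
import Mathlib.RingTheory.Localization.Integer

set_option autoImplicit false
universe u
open CAlg

namespace Groth.Agent.S14994

lemma exists_dual_ne_zero (A : Type*) [CommRing A] [IsDomain A] (Q : Type*) [AddCommGroup Q]
    [Module A Q] [Module.Finite A Q]
    (q : Q) (hq : ∀ a : A, a ≠ 0 → a • q ≠ 0) : ∃ φ : Q →ₗ[A] A, φ q ≠ 0 := by
  classical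
  let ι : Q →ₗ[A] LocalizedModule (nonZeroDivisors A) Q :=
    LocalizedModule.mkLinearMap (nonZeroDivisors A) Q
  have hv : ι q ≠ 0 := by
    intro h
    rw [IsLocalizedModule.eq_zero_iff (nonZeroDivisors A) ι] at h
    obtain ⟨s, hs⟩ := h
    exact hq s.1 (nonZeroDivisors.ne_zero s.2) hs
  obtain ⟨ψ, hψ⟩ : ∃ ψ : Module.Dual (FractionRing A) (LocalizedModule (nonZeroDivisors A) Q),
      ψ (ι q) ≠ 0 := Module.Projective.exists_dual_ne_zero (FractionRing A) hv
  let L : Q →ₗ[A] FractionRing A := (ψ.restrictScalars A).comp ι
  obtain ⟨G, hG⟩ := (Module.Finite.fg_top : (⊤ : Submodule A Q).FG)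
  obtain ⟨b, hb⟩ := IsLocalization.exist_integer_multiples_of_finset (nonZeroDivisors A)
    (G.image L)
  have hrange : ∀ x : Q, ∃ a : A, algebraMap A (FractionRing A) a = (b : A) • L x := by
    intro x
    have hx : x ∈ Submodule.span A (G : Set Q) := by rw [hG]; trivial
    induction hx using Submodule.span_induction with
    | mem x hx =>
      obtain ⟨a, ha⟩ := hb (L x) (Finset.mem_image_of_mem L hx)
      exact ⟨a, ha⟩
    | zero => exact ⟨0, by simp⟩
    | add x y _ _ hx hy =>
      obtain ⟨a, ha⟩ := hx
      obtain ⟨c, hc⟩ := hy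
      exact ⟨a + c, by rw [map_add, ha, hc, map_add, smul_add]⟩
    | smul r x _ hx =>
      obtain ⟨a, ha⟩ := hx
      refine ⟨r * a, ?_⟩
      rw [map_mul, ha, map_smul, smul_comm, Algebra.smul_def r]
  choose φ hφ using hrange
  have hinj : Function.Injective (algebraMap A (FractionRing A)) :=
    IsFractionRing.injective A (FractionRing A)
  refine ⟨{ toFun := φ, map_add' := ?_, map_smul' := ?_ }, ?_⟩
  · intro x y
    apply hinj
    rw [map_add, hφ, hφ, hφ, map_add, smul_add]
  · intro r x
    apply hinj
    rw [RingHom.id_apply, smul_eq_mul, map_mul, hφ, hφ, map_smul, smul_comm, Algebra.smul_def r]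
  · intro h
    have h1 : algebraMap A (FractionRing A) (φ q) = 0 := by
      have : φ q = 0 := h
      rw [this, map_zero]
    rw [hφ, Algebra.smul_def, mul_eq_zero] at h1
    rcases h1 with h1 | h1
    · exact nonZeroDivisors.ne_zero b.2 (hinj (by rw [h1, map_zero]))
    · exact hψ h1

/-- Let A be a Noetherian integrally closed domain, M a finitely generated torsion-free A-module, N a
submodule of M and ι : M → M** the canonical map to the double dual. Write N** → M** for the double
dual of the inclusion N → M. Then every m ∈ M whose image ι(m) lies in the image of N** is a torsion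
element modulo N: some nonzero a ∈ A satisfies a·m ∈ N. In other words the preimage of N** under ι
is contained in the saturation of N in M (the preimage of the torsion submodule of M/N), and the two
coincide when M/N is torsion-free. (The published statement asserts equality of the preimage with
the saturation for every N; for N = xA inside M = A = k[x] the saturation is all of M while N** has
image xA = N under the identification M** = M, so only the inclusion stated here holds, and it is
the inclusion later used, for saturated N, where the two sides agree.) -/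
theorem result (A : Type u) [CommRing A] [IsDomain A]
    [IsNoetherianRing A] [IsIntegrallyClosed A]
    (M : Type u) [AddCommGroup M] [Module A M] [Module.Finite A M] [NoZeroSMulDivisors A M]
    (N : Submodule A M) :
    (LinearMap.range N.subtype.dualMap.dualMap).comap (Module.Dual.eval A M) ≤
      (Submodule.torsion A (M ⧸ N)).comap N.mkQ := by
  intro m hm
  rw [Submodule.mem_comap] at hm ⊢
  obtain ⟨ν, hν⟩ := hm
  by_contra hnt
  have hq : ∀ a : A, a ≠ 0 → a • N.mkQ m ≠ 0 := by
    intro a ha h0
    apply hnt
    rw [Submodule.mem_torsion_iff]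
    exact ⟨⟨a, mem_nonZeroDivisors_of_ne_zero ha⟩, h0⟩
  obtain ⟨φ, hφ⟩ := exists_dual_ne_zero A (M ⧸ N) (N.mkQ m) hq
  have h1 : Module.Dual.eval A M m (φ.comp N.mkQ) = φ (N.mkQ m) := rfl
  have h3 : N.subtype.dualMap (φ.comp N.mkQ) = 0 := by
    ext n
    simp only [LinearMap.dualMap_apply, Submodule.subtype_apply, LinearMap.comp_apply,
      Submodule.mkQ_apply, LinearMap.zero_apply]
    rw [(Submodule.Quotient.mk_eq_zero N).mpr n.2, map_zero]
  have h2 : N.subtype.dualMap.dualMap ν (φ.comp N.mkQ) = 0 := by
    rw [LinearMap.dualMap_apply', LinearMap.comp_apply, h3, map_zero]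
  rw [← hν, h2] at h1
  exact hφ h1.symm

end Groth.Agent.S14994
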