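import Groth.Statements.S14997
import Mathlib.Tactic
import Mathlib.Algebra.Polynomial.Taylor
import Mathlib.Algebra.Polynomial.HasseDeriv
import Mathlib.Algebra.Polynomial.Degree.Lemmas

set_option autoImplicit false
open HilbPol

namespace Groth.Agent.S14997

lemma lex_transfer {ℓ : ℕ} (x y x' y' : Fin ℓ → ℚ)
    (H : ∀ j : Fin ℓ, (∀ i, i < j → x i = y i) → x' j - y' j = x j - y j) :
    toLex x ≤ toLex y ↔ toLex x' ≤ toLex y' := by
  have fwd : ∀ j : Fin ℓ, (∀ i, i < j → x i = y i) → (∀ i, i < j → x' i = y' i) := by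
    intro j hj i hij
    have h := H i (fun k hk => hj k (hk.trans hij))
    rw [hj i hij, sub_self, sub_eq_zero] at h
    exact h
  have bwd : ∀ j : Fin ℓ, (∀ i, i < j → x' i = y' i) → (∀ i, i < j → x i = y i) := by
    intro j hj i
    induction i using WellFoundedLT.induction with
    | ind i ih =>
      intro hij
      have h1 : ∀ k, k < i → x k = y k := fun k hk => ih k hk (hk.trans hij)
      have h := H i h1
      rw [hj i hij, sub_self] at h
      exact sub_eq_zero.mp h.symm
  rw [le_iff_lt_or_eq, le_iff_lt_or_eq]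
  constructor
  · rintro (h | h)
    · left
      have h' : ∃ j, (∀ i, i < j → x i = y i) ∧ x j < y j := h
      obtain ⟨j, hj1, hj2⟩ := h'
      show ∃ j, (∀ i, i < j → x' i = y' i) ∧ x' j < y' j
      refine ⟨j, fwd j hj1, ?_⟩
      have := H j hj1
      linarith
    · right
      have hxy : x = y := toLex.injective h
      have : x' = y' := by
        funext j
        have := H j (fun i _ => congrFun hxy i)
        rw [congrFun hxy j, sub_self, sub_eq_zero] at this
        exact this
      rw [this]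
  · rintro (h | h)
    · left
      have h' : ∃ j, (∀ i, i < j → x' i = y' i) ∧ x' j < y' j := h
      obtain ⟨j, hj1, hj2⟩ := h'
      show ∃ j, (∀ i, i < j → x i = y i) ∧ x j < y j
      have hb := bwd j hj1
      refine ⟨j, hb, ?_⟩
      have := H j hb
      linarith
    · right
      have hxy : x' = y' := toLex.injective h
      have : x = y := by
        funext j
        have hb := bwd j (fun i _ => congrFun hxy i)
        have := H j hb
        rw [congrFun hxy j, sub_self] at this
        exact sub_eq_zero.mp this.symm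
      rw [this]

open Polynomial in
lemma delta_lead (a : ℚ) (D : ℚ[X]) (e : ℕ) (hD : D.natDegree ≤ e + 1) :
    (D - D.comp (X - C a)).coeff e = a * (e + 1) * D.coeff (e + 1) := by
  have h1 : D.comp (X - C a) = taylor (-a) D := by
    rw [taylor_apply, C_neg, sub_eq_add_neg]
  rw [coeff_sub, h1, taylor_coeff]
  have h2 : (hasseDeriv e D).natDegree < 2 := by
    have := natDegree_hasseDeriv_le D e
    omega
  rw [eval_eq_sum_range' h2, Finset.sum_range_succ, Finset.sum_range_one, hasseDeriv_coeff,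
    hasseDeriv_coeff]
  have h3 : 1 + e = e + 1 := by omega
  simp only [zero_add, h3, Nat.choose_self, pow_zero, pow_one, Nat.cast_one, one_mul, mul_one,
    Nat.choose_succ_self_right]
  push_cast
  ring

open Polynomial in
/-- Let d and ℓ be natural numbers with ℓ + 1 ≤ d, let a be a nonzero rational number and let P, Q be
polynomials with rational coefficients, both of degree exactly d. For a polynomial R of degree e
write R(m) = Σ_i α_i(R) m^i / i! (so α_i(R) = i! · coeff_i(R)) and let r_ℓ(R) ∈ ℚ^ℓ be the vector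
(α_{e−1}(R)/α_e(R), …, α_{e−ℓ}(R)/α_e(R)) of the ℓ coefficients after the leading one of the reduced
polynomial R/α_e(R), ordered lexicographically. The polynomials P(m) − P(m − a) and Q(m) − Q(m − a)
have degree d − 1, and r_ℓ(P) ≤ r_ℓ(Q) lexicographically if and only if r_ℓ(P(m) − P(m − a)) ≤
r_ℓ(Q(m) − Q(m − a)) lexicographically (hence the same with strict inequalities, by exchanging P and
Q). When P and Q are the Hilbert polynomials of pure d-dimensional coherent sheaves E → F on a
polarized projective scheme and D is a hypersurface section of degree a containing no associated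
point of E or F, the Hilbert polynomials of E|_D and F|_D are P(m) − P(m − a) and Q(m) − Q(m − a),
and the two sides are the comparisons of the ℓ-truncated reduced Hilbert polynomials p_ℓ(E) ≥ p_ℓ(F)
and p_ℓ(E|_D) ≥ p_ℓ(F|_D). (The published statement is phrased for the sheaves; this row is the
statement about their Hilbert polynomials that the displayed coefficient formula yields.) -/
theorem result (d ℓ : ℕ) (hℓ : ℓ + 1 ≤ d) (a : ℚ) (ha : a ≠ 0)
    (P Q : ℚ[X]) (hP : P.natDegree = d) (hQ : Q.natDegree = d) (hP0 : P ≠ 0) (hQ0 : Q ≠ 0) :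
    toLex (fun j : Fin ℓ => ((P).coeff (d - 1 - (j : ℕ)) * (Nat.factorial (d - 1 - (j : ℕ)) : ℚ)) / ((P).coeff (d) * (Nat.factorial (d) : ℚ))) ≤ toLex (fun j : Fin ℓ => ((Q).coeff (d - 1 - (j : ℕ)) * (Nat.factorial (d - 1 - (j : ℕ)) : ℚ)) / ((Q).coeff (d) * (Nat.factorial (d) : ℚ))) ↔
      toLex (fun j : Fin ℓ => ((P - P.comp (X - C a)).coeff ((d - 1) - 1 - (j : ℕ)) * (Nat.factorial ((d - 1) - 1 - (j : ℕ)) : ℚ)) / ((P - P.comp (X - C a)).coeff ((d - 1)) * (Nat.factorial ((d - 1)) : ℚ))) ≤
        toLex (fun j : Fin ℓ => ((Q - Q.comp (X - C a)).coeff ((d - 1) - 1 - (j : ℕ)) * (Nat.factorial ((d - 1) - 1 - (j : ℕ)) : ℚ)) / ((Q - Q.comp (X - C a)).coeff ((d - 1)) * (Nat.factorial ((d - 1)) : ℚ))) := by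
  apply lex_transfer
  intro j hj
  have hjd : (j : ℕ) + 2 ≤ d := by have := j.2; omega
  obtain ⟨d', rfl⟩ : ∃ d', d = d' + 1 := ⟨d - 1, by omega⟩
  obtain ⟨e, he1, he2⟩ : ∃ e, d' + 1 - 1 - 1 - (j : ℕ) = e ∧ d' + 1 - 1 - (j : ℕ) = e + 1 :=
    ⟨d' + 1 - 1 - 1 - (j : ℕ), rfl, by omega⟩
  have hpd : P.coeff (d' + 1) ≠ 0 := by
    rw [← hP]; exact leadingCoeff_ne_zero.mpr hP0
  have hqd : Q.coeff (d' + 1) ≠ 0 := by
    rw [← hQ]; exact leadingCoeff_ne_zero.mpr hQ0
  have hfd : ((d' + 1).factorial : ℚ) ≠ 0 := by exact_mod_cast (Nat.factorial_pos _).ne'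
  have hfd' : ((d').factorial : ℚ) ≠ 0 := by exact_mod_cast (Nat.factorial_pos _).ne'
  have hfe : ((e).factorial : ℚ) ≠ 0 := by exact_mod_cast (Nat.factorial_pos _).ne'
  have E2 := delta_lead a P d' (by rw [hP])
  have E3 := delta_lead a Q d' (by rw [hQ])
  set cP : ℚ := 1 / (P.coeff (d' + 1) * ((d' + 1).factorial : ℚ)) with hcP
  set cQ : ℚ := 1 / (Q.coeff (d' + 1) * ((d' + 1).factorial : ℚ)) with hcQ
  have hDdeg : (C cP * P - C cQ * Q).natDegree ≤ e + 1 := by
    rw [natDegree_le_iff_coeff_eq_zero]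
    intro N hN
    rw [coeff_sub, coeff_C_mul, coeff_C_mul]
    rcases lt_trichotomy N (d' + 1) with hlt | heq | hgt
    · have hi : d' + 1 - 1 - N < (j : ℕ) := by omega
      have hiℓ : d' + 1 - 1 - N < ℓ := lt_trans hi j.2
      have := hj ⟨d' + 1 - 1 - N, hiℓ⟩ (by exact hi)
      simp only at this
      have hN' : d' + 1 - 1 - (d' + 1 - 1 - N) = N := by omega
      rw [hN'] at this
      have hfN : ((N).factorial : ℚ) ≠ 0 := by exact_mod_cast (Nat.factorial_pos _).ne'
      rw [hcP, hcQ]
      field_simp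
      field_simp at this
      linarith
    · rw [heq, hcP, hcQ]
      field_simp
      ring
    · rw [coeff_eq_zero_of_natDegree_lt (by omega), coeff_eq_zero_of_natDegree_lt (by omega)]
      ring
  have E1 := delta_lead a (C cP * P - C cQ * Q) e hDdeg
  have hlin : (C cP * P - C cQ * Q) - (C cP * P - C cQ * Q).comp (X - C a) =
      C cP * (P - P.comp (X - C a)) - C cQ * (Q - Q.comp (X - C a)) := by
    rw [sub_comp, mul_comp, mul_comp, C_comp, C_comp]
    ring
  have hR : (C cP * P - C cQ * Q).coeff (e + 1) = cP * P.coeff (e + 1) - cQ * Q.coeff (e + 1) := by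
    rw [coeff_sub, coeff_C_mul, coeff_C_mul]
  have hL : (C cP * (P - P.comp (X - C a)) - C cQ * (Q - Q.comp (X - C a))).coeff e =
      cP * (P - P.comp (X - C a)).coeff e - cQ * (Q - Q.comp (X - C a)).coeff e := by
    rw [coeff_sub, coeff_C_mul, coeff_C_mul]
  rw [hlin, hL, hR] at E1
  rw [he1, he2]
  have hd1 : d' + 1 - 1 = d' := by omega
  rw [hd1, E2, E3]
  have hfe1 : ((e + 1).factorial : ℚ) = (e + 1) * (e.factorial : ℚ) := by
    rw [Nat.factorial_succ]; push_cast; ring
  have hfd1 : ((d' + 1).factorial : ℚ) = (d' + 1) * (d'.factorial : ℚ) := by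
    rw [Nat.factorial_succ]; push_cast; ring
  rw [hfe1]
  rw [hcP, hcQ, hfd1] at E1
  rw [hfd1]
  have hd'1 : ((d' : ℚ) + 1) ≠ 0 := by positivity
  field_simp
  field_simp at E1
  linear_combination E1

end Groth.Agent.S14997
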