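import Groth.Statements.S15003
import Mathlib
import Groth.Agent.Lib.Helper22.AbVarIsogeny2
import Groth.Agent.Lib.Helper51.SmoothStalk
-- import your own Groth.Agent.* helpers here

set_option autoImplicit false
universe u
open CategoryTheory CategoryTheory.Limits AlgebraicGeometry
open Harb

namespace Groth.Agent.S15003
open CategoryTheory CategoryTheory.Limits AlgebraicGeometry


open Ideal in
theorem card_primesOver_eq_finrank (R S : Type u) [CommRing R] [IsDomain R] [CommRing S] [Algebra R S]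
    [Module.Finite R S] [Module.Flat R S] [Algebra.FormallyUnramified R S]
    (𝔪 : Ideal R) [h𝔪 : 𝔪.IsMaximal]
    (hac : ∀ (q : Ideal S) [q.IsMaximal] [q.LiesOver 𝔪], Module.finrank (R ⧸ 𝔪) (S ⧸ q) = 1) :
    Nat.card (𝔪.primesOver S) = Module.finrank R S := by
  classical
  haveI : Finite (𝔪.primesOver S) := (Algebra.QuasiFinite.finite_primesOver 𝔪).to_subtype
  letI := Fintype.ofFinite (𝔪.primesOver S)
  rw [← Ideal.sum_ramification_inertia_eq_finrank 𝔪 S, Nat.card_eq_fintype_card]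
  rw [Finset.card_univ.symm, Finset.card_eq_sum_ones]
  apply Finset.sum_congr rfl
  intro q _
  haveI : q.1.IsPrime := q.2.1
  haveI : q.1.LiesOver 𝔪 := q.2.2
  haveI : q.1.IsMaximal := Ideal.IsMaximal.of_liesOver_isMaximal q.1 𝔪
  rw [Ideal.ramificationIdx_eq_one q.1 R, Ideal.inertiaDeg_eq_of_isMaximal 𝔪 q.1, hac q.1]



theorem finrank_quotient_eq_one (k R S : Type u) [Field k] [IsAlgClosed k] [CommRing R] [CommRing S]
    [Algebra k R] [Algebra k S] [Algebra R S] [IsScalarTower k R S] [Algebra.FiniteType k R]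
    [Module.Finite R S] (𝔪 : Ideal R) [𝔪.IsMaximal] (q : Ideal S) [q.IsMaximal] [q.LiesOver 𝔪] :
    Module.finrank (R ⧸ 𝔪) (S ⧸ q) = 1 := by
  letI : Field (R ⧸ 𝔪) := Ideal.Quotient.field 𝔪
  letI : Field (S ⧸ q) := Ideal.Quotient.field q
  haveI : Algebra.FiniteType k (R ⧸ 𝔪) :=
    Algebra.FiniteType.of_surjective (Ideal.Quotient.mkₐ k 𝔪) (Ideal.Quotient.mkₐ_surjective k 𝔪)
  haveI : Module.Finite k (R ⧸ 𝔪) := finite_of_finite_type_of_isJacobsonRing k (R ⧸ 𝔪)
  haveI : Module.Finite (R ⧸ 𝔪) (S ⧸ q) := inferInstance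
  haveI : Module.Finite k (S ⧸ q) := Module.Finite.trans (R ⧸ 𝔪) (S ⧸ q)
  have h1 : Function.Bijective (algebraMap k (R ⧸ 𝔪)) :=
    IsAlgClosed.algebraMap_bijective_of_isIntegral
  have h2 : Function.Bijective (algebraMap k (S ⧸ q)) :=
    IsAlgClosed.algebraMap_bijective_of_isIntegral
  have h3 : Function.Bijective (algebraMap (R ⧸ 𝔪) (S ⧸ q)) := by
    have : algebraMap k (S ⧸ q) = (algebraMap (R ⧸ 𝔪) (S ⧸ q)).comp (algebraMap k (R ⧸ 𝔪)) :=
      IsScalarTower.algebraMap_eq k (R ⧸ 𝔪) (S ⧸ q)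
    rw [this, RingHom.coe_comp] at h2
    exact (Function.Bijective.of_comp_iff _ h1).mp h2
  rw [← (LinearEquiv.ofBijective (Algebra.linearMap (R ⧸ 𝔪) (S ⧸ q)) h3).finrank_eq]
  exact Module.finrank_self _



theorem smooth_of_regular (k : Type u) [Field k] [IsAlgClosed k] {X : Scheme.{u}}
    (f : X ⟶ Spec (CommRingCat.of k)) [LocallyOfFiniteType f]
    (h : ∀ x : X, IsRegularLocalRing (X.presheaf.stalk x)) : Smooth f := by
  rw [← Scheme.Hom.smoothLocus_eq_top_iff, ← top_le_iff]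
  rintro x -
  exact (Groth.Agent.Lib.Helper51.mem_smoothLocus_iff_isRegularLocalRing_stalk_of_perfectField f x).mpr (h x)

theorem flat_of_regular (k : Type u) [Field k] [IsAlgClosed k] {X Y : Scheme.{u}}
    (pX : X ⟶ Spec (CommRingCat.of k)) (pY : Y ⟶ Spec (CommRingCat.of k))
    [LocallyOfFiniteType pX] [LocallyOfFiniteType pY] [IsIntegral X] [IsIntegral Y]
    (hregX : ∀ x : X, IsRegularLocalRing (X.presheaf.stalk x))
    (hregY : ∀ y : Y, IsRegularLocalRing (Y.presheaf.stalk y))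
    (π : Y ⟶ X) (hπ : π ≫ pX = pY) [IsFinite π]
    (e : π.base (genericPoint Y) = genericPoint X) : Flat π := by
  haveI := smooth_of_regular k pX hregX
  haveI := smooth_of_regular k pY hregY
  exact Groth.Agent.Lib.Helper22.AbVarIsogeny.flat_of_locallyQuasiFinite_of_smooth pY pX π hπ e



theorem primeIdealOf_fromSpec {X : Scheme.{u}} {U : X.Opens} (hU : IsAffineOpen U)
    (y : PrimeSpectrum Γ(X, U)) (hy : hU.fromSpec y ∈ U) :
    hU.primeIdealOf ⟨hU.fromSpec y, hy⟩ = y := by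
  have h1 : (⟨hU.fromSpec y, hy⟩ : U) = hU.isoSpec.inv y := by
    apply Subtype.ext
    rfl
  rw [IsAffineOpen.primeIdealOf, h1, ← Scheme.Hom.comp_apply, Iso.inv_hom_id]
  rfl

theorem fromSpec_mem {X : Scheme.{u}} {U : X.Opens} (hU : IsAffineOpen U)
    (y : PrimeSpectrum Γ(X, U)) : hU.fromSpec y ∈ U := by
  have := hU.range_fromSpec
  rw [← SetLike.mem_coe, ← this]
  exact ⟨y, rfl⟩

theorem primeIdealOf_injective {X : Scheme.{u}} {U : X.Opens} (hU : IsAffineOpen U)
    (x y : U) (h : hU.primeIdealOf x = hU.primeIdealOf y) : x = y := by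
  have h2 := congrArg hU.fromSpec h
  rw [hU.fromSpec_primeIdealOf, hU.fromSpec_primeIdealOf] at h2
  exact Subtype.ext h2

/-- fibre points ↔ primes over -/
theorem card_fibre_eq {X Y : Scheme.{u}} (π : Y ⟶ X) (V : X.Opens) (hV : IsAffineOpen V)
    (hU : IsAffineOpen (π ⁻¹ᵁ V)) (p : X) (hpV : p ∈ V) :
    letI := (π.app V).hom.toAlgebra
    Nat.card {q : Y // π.base q = p} =
      Nat.card ((hV.primeIdealOf ⟨p, hpV⟩).asIdeal.primesOver Γ(Y, π ⁻¹ᵁ V)) := by
  letI := (π.app V).hom.toAlgebra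
  have happ : π.appLE V (π ⁻¹ᵁ V) le_rfl = π.app V := Scheme.Hom.appLE_eq_app _
  have hmem : ∀ q : {q : Y // π.base q = p}, q.1 ∈ π ⁻¹ᵁ V := fun q => by
    change π.base q.1 ∈ V
    rw [q.2]; exact hpV
  have hcomap : ∀ (q : Y) (hq : q ∈ π ⁻¹ᵁ V),
      (hU.primeIdealOf ⟨q, hq⟩).comap (π.app V).hom = hV.primeIdealOf ⟨π.base q, hq⟩ := by
    intro q hq
    have := IsAffineOpen.comap_primeIdealOf_appLE (f := π) V hV (π ⁻¹ᵁ V) hU le_rfl hq
    rw [happ] at this
    exact this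
  refine Nat.card_eq_of_bijective
    (fun q => ⟨(hU.primeIdealOf ⟨q.1, hmem q⟩).asIdeal, (hU.primeIdealOf ⟨q.1, hmem q⟩).isPrime, ?_⟩) ⟨?_, ?_⟩
  · constructor
    have h1 := hcomap q.1 (hmem q)
    have h2 := congrArg PrimeSpectrum.asIdeal h1
    simp only [q.2] at h2
    rw [← h2]
    rfl
  · intro q q' h
    have h1 : (hU.primeIdealOf ⟨q.1, hmem q⟩) = (hU.primeIdealOf ⟨q'.1, hmem q'⟩) :=
      PrimeSpectrum.ext (congrArg Subtype.val h)
    have h2 := primeIdealOf_injective hU _ _ h1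
    exact Subtype.ext (congrArg (fun z : ↥(π ⁻¹ᵁ V) => (z : Y)) h2)
  · rintro ⟨𝔮, h𝔮p, h𝔮l⟩
    set y : PrimeSpectrum Γ(Y, π ⁻¹ᵁ V) := ⟨𝔮, h𝔮p⟩ with hy
    have hqU : hU.fromSpec y ∈ π ⁻¹ᵁ V := fromSpec_mem hU y
    have hpi : hU.primeIdealOf ⟨hU.fromSpec y, hqU⟩ = y := primeIdealOf_fromSpec hU y hqU
    have h1 := hcomap (hU.fromSpec y) hqU
    rw [hpi] at h1
    have h2 : y.comap (π.app V).hom = hV.primeIdealOf ⟨p, hpV⟩ := by
      apply PrimeSpectrum.ext
      exact (h𝔮l.over).symm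
    have h3 := primeIdealOf_injective hV _ _ (h1.symm.trans h2)
    have h4 : π.base (hU.fromSpec y) = p := congrArg Subtype.val h3
    refine ⟨⟨hU.fromSpec y, h4⟩, ?_⟩
    apply Subtype.ext
    exact congrArg PrimeSpectrum.asIdeal hpi



theorem homDegree_eq_finrank {X Y : Scheme.{u}} [IsIntegral X] [IsIntegral Y] (π : Y ⟶ X)
    (e : π.base (genericPoint Y) = genericPoint X) (V : X.Opens) (hV : IsAffineOpen V)
    (hU : IsAffineOpen (π ⁻¹ᵁ V)) [Nonempty V] [Nonempty (π ⁻¹ᵁ V : Y.Opens)] :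
    letI := (π.app V).hom.toAlgebra
    Models.homDegree (X.presheaf.stalkSpecializes (specializes_of_eq e) ≫
      π.stalkMap (genericPoint Y)).hom = Module.finrank Γ(X, V) Γ(Y, π ⁻¹ᵁ V) := by
  letI := (π.app V).hom.toAlgebra
  set ψ : X.functionField →+* Y.functionField :=
    (X.presheaf.stalkSpecializes (specializes_of_eq e) ≫ π.stalkMap (genericPoint Y)).hom with hψ
  letI algKL : Algebra X.functionField Y.functionField := ψ.toAlgebra
  letI algRL : Algebra Γ(X, V) Y.functionField :=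
    (ψ.comp (algebraMap Γ(X, V) X.functionField)).toAlgebra
  haveI : IsScalarTower Γ(X, V) X.functionField Y.functionField :=
    IsScalarTower.of_algebraMap_eq' rfl
  haveI := functionField_isFractionRing_of_isAffineOpen X V hV
  haveI := functionField_isFractionRing_of_isAffineOpen Y (π ⁻¹ᵁ V) hU
  haveI : IsScalarTower Γ(X, V) Γ(Y, π ⁻¹ᵁ V) Y.functionField := by
    apply IsScalarTower.of_algebraMap_eq
    intro r
    change ψ ((X.germToFunctionField V).hom r) =
      (Y.germToFunctionField (π ⁻¹ᵁ V)).hom ((π.app V).hom r)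
    rw [hψ]
    simp only [CommRingCat.hom_comp, RingHom.comp_apply]
    erw [TopCat.Presheaf.germ_stalkSpecializes_apply]
    exact Scheme.Hom.germ_stalkMap_apply π V (genericPoint Y) _ r
  change Module.finrank X.functionField Y.functionField = _
  exact IsFractionRing.finrank_eq Γ(X, V) X.functionField Γ(Y, π ⁻¹ᵁ V) Y.functionField



/-- Let k be an algebraically closed field and let π : Y → X be a finite, surjective and unramified
k-morphism of smooth varieties over k (X and Y integral, separated and of finite type over k with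
all local rings regular) which sends the generic point of Y to the generic point of X, so that the
function field k(X) embeds in k(Y). Then for every closed point p of X the fibre π⁻¹(p) consists of
exactly deg π points, where deg π = [k(Y) : k(X)] is the degree of that field extension. -/
theorem result (k : Type u) [Field k] [IsAlgClosed k]
    (X Y : Scheme.{u}) [X.Over (Spec (CommRingCat.of k))] [Y.Over (Spec (CommRingCat.of k))]
    [IsIntegral X] [IsIntegral Y]
    [IsSeparated (X ↘ (Spec (CommRingCat.of k)))] [LocallyOfFiniteType (X ↘ (Spec (CommRingCat.of k)))]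
    [QuasiCompact (X ↘ (Spec (CommRingCat.of k)))]
    [IsSeparated (Y ↘ (Spec (CommRingCat.of k)))] [LocallyOfFiniteType (Y ↘ (Spec (CommRingCat.of k)))]
    [QuasiCompact (Y ↘ (Spec (CommRingCat.of k)))]
    (hregX : ∀ x : X, IsRegularLocalRing (X.presheaf.stalk x))
    (hregY : ∀ y : Y, IsRegularLocalRing (Y.presheaf.stalk y))
    (π : Y ⟶ X) (hπ : π ≫ (X ↘ (Spec (CommRingCat.of k))) = (Y ↘ (Spec (CommRingCat.of k))))
    [AlgebraicGeometry.IsFinite π] [AlgebraicGeometry.Surjective π] [AlgebraicGeometry.FormallyUnramified π]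
    (e : π.base (genericPoint Y) = genericPoint X) (p : X) (hp : IsClosed ({p} : Set X)) :
    Nat.card {q : Y // π.base q = p} =
      Models.homDegree (X.presheaf.stalkSpecializes (specializes_of_eq e) ≫ π.stalkMap (genericPoint Y)).hom := by
  haveI hflat : Flat π :=
    flat_of_regular k (X ↘ (Spec (CommRingCat.of k))) (Y ↘ (Spec (CommRingCat.of k))) hregX hregY π hπ e
  obtain ⟨_, ⟨V, hV, rfl⟩, hpV, -⟩ :=
    X.isBasis_affineOpens.exists_subset_of_mem_open (Set.mem_univ p) isOpen_univ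
  have hU : IsAffineOpen (π ⁻¹ᵁ V) := hV.preimage π
  haveI : Nonempty V := ⟨⟨p, hpV⟩⟩
  obtain ⟨q0, hq0⟩ := π.surjective p
  haveI : Nonempty (π ⁻¹ᵁ V : Y.Opens) :=
    ⟨⟨q0, by change π.base q0 ∈ V; rw [hq0]; exact hpV⟩⟩
  rw [card_fibre_eq π V hV hU p hpV, homDegree_eq_finrank π e V hV hU]
  letI algRS : Algebra Γ(X, V) Γ(Y, π ⁻¹ᵁ V) := (π.app V).hom.toAlgebra
  have happ : π.appLE V (π ⁻¹ᵁ V) le_rfl = π.app V := Scheme.Hom.appLE_eq_app _
  haveI : Module.Finite Γ(X, V) Γ(Y, π ⁻¹ᵁ V) := π.finite_app V hV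
  haveI : Module.Flat Γ(X, V) Γ(Y, π ⁻¹ᵁ V) := by
    have := HasRingHomProperty.appLE (P := @Flat) π hflat ⟨V, hV⟩ ⟨π ⁻¹ᵁ V, hU⟩ le_rfl
    rw [happ] at this
    exact this
  haveI : Algebra.FormallyUnramified Γ(X, V) Γ(Y, π ⁻¹ᵁ V) := by
    have := HasRingHomProperty.appLE (P := @FormallyUnramified) π inferInstance ⟨V, hV⟩
      ⟨π ⁻¹ᵁ V, hU⟩ le_rfl
    rw [happ] at this
    exact this
  haveI : (hV.primeIdealOf ⟨p, hpV⟩).asIdeal.IsMaximal :=
    hV.primeIdealOf_isMaximal_of_isClosed ⟨p, hpV⟩ hp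
  apply card_primesOver_eq_finrank
  intro q _ _
  letI algkR : Algebra k Γ(X, V) :=
    ((Scheme.ΓSpecIso (CommRingCat.of k)).inv ≫
      (X ↘ (Spec (CommRingCat.of k))).appLE ⊤ V le_top).hom.toAlgebra
  letI algkS : Algebra k Γ(Y, π ⁻¹ᵁ V) :=
    ((algebraMap Γ(X, V) Γ(Y, π ⁻¹ᵁ V)).comp (algebraMap k Γ(X, V))).toAlgebra
  haveI : IsScalarTower k Γ(X, V) Γ(Y, π ⁻¹ᵁ V) := IsScalarTower.of_algebraMap_eq' rfl
  haveI : Algebra.FiniteType k Γ(X, V) := by
    rw [← RingHom.finiteType_algebraMap]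
    change ((Scheme.ΓSpecIso (CommRingCat.of k)).inv ≫
      (X ↘ (Spec (CommRingCat.of k))).appLE ⊤ V le_top).hom.FiniteType
    rw [CommRingCat.hom_comp]
    refine RingHom.FiniteType.comp ?_ ?_
    · exact (X ↘ (Spec (CommRingCat.of k))).finiteType_appLE (isAffineOpen_top _) hV le_top
    · exact RingHom.FiniteType.of_surjective _
        ((ConcreteCategory.bijective_of_isIso (Scheme.ΓSpecIso (CommRingCat.of k)).inv).2)
  exact finrank_quotient_eq_one k Γ(X, V) Γ(Y, π ⁻¹ᵁ V) _ q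


end Groth.Agent.S15003
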