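import Groth.Statements.S15004
import Groth.Agent.Lib.Helper68.Harb

set_option autoImplicit false
universe u v
open Harb

namespace Groth.Agent.S15004

/-- Let C be a finite family of d curves, recorded as an incidence relation between a type of points and
a finite index type, such that any two distinct curves of the family meet in exactly h points; for a
point p write r_p for the number of curves of the family through p. Then for every curve C_i of the
family, Σ_{p ∈ C_i} (r_p − 1) = h (d − 1), the sum being finitely supported. (The published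
statement is for a transversal arrangement of curves on a geometrically ruled surface with invariant
e, all numerically equivalent to a C₀ + b f, where any two of the curves meet transversally in h =
2ab − a²e points; only this common pairwise intersection count enters the proof, and this row states
the identity for an abstract incidence relation.) -/
theorem result (P : Type u) (ι : Type v) [Fintype ι]
    (inc : P → ι → Prop) (h : ℕ)
    (hfin : ∀ i j : ι, i ≠ j → {p : P | inc p i ∧ inc p j}.Finite)
    (hcount : ∀ i j : ι, i ≠ j → {p : P | inc p i ∧ inc p j}.ncard = h) (i : ι) :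
    ∑ᶠ p ∈ {p : P | inc p i}, (Nat.card {j : ι // inc p j} - 1) = h * (Fintype.card ι - 1) := by
  classical
  have hTfin : (⋃ j : {j : ι // j ≠ i}, {p : P | inc p i ∧ inc p j.1}).Finite :=
    Set.finite_iUnion (fun j => hfin i j.1 (Ne.symm j.2))
  have hTmem : ∀ p, p ∈ (⋃ j : {j : ι // j ≠ i}, {p : P | inc p i ∧ inc p j.1}) ↔
      inc p i ∧ ∃ j, j ≠ i ∧ inc p j := by
    intro p
    simp only [Set.mem_iUnion, Set.mem_setOf_eq, Subtype.exists, exists_prop]
    constructor
    · rintro ⟨j, hj, hpi, hpj⟩
      exact ⟨hpi, j, hj, hpj⟩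
    · rintro ⟨hpi, j, hj, hpj⟩
      exact ⟨j, hj, hpi, hpj⟩
  have step1 : ∑ᶠ p ∈ {p : P | inc p i}, (Nat.card {j : ι // inc p j} - 1) =
      ∑ᶠ p ∈ (⋃ j : {j : ι // j ≠ i}, {p : P | inc p i ∧ inc p j.1}),
        (Nat.card {j : ι // inc p j} - 1) := by
    apply finsum_mem_inter_support_eq
    ext p
    simp only [Set.mem_inter_iff, Function.mem_support]
    constructor
    · rintro ⟨hpi, hne⟩
      refine ⟨?_, hne⟩
      rw [hTmem]
      refine ⟨hpi, ?_⟩
      have h2 : 2 ≤ Nat.card {j : ι // inc p j} := by omega
      obtain ⟨a, b, hab, ha, hb⟩ := (Groth.Agent.Lib.Helper68.two_le_natCard_iff inc p).mp h2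
      by_cases hai : a = i
      · exact ⟨b, fun hbi => hab (hai.trans hbi.symm), hb⟩
      · exact ⟨a, hai, ha⟩
    · rintro ⟨hpT, hne⟩
      exact ⟨((hTmem p).mp hpT).1, hne⟩
  rw [step1, finsum_mem_eq_finite_toFinset_sum _ hTfin]
  have step3 : ∀ p ∈ hTfin.toFinset, (Nat.card {j : ι // inc p j} - 1) =
      ((Finset.univ.erase i).filter (fun j => inc p j)).card := by
    intro p hp
    rw [Set.Finite.mem_toFinset, hTmem] at hp
    rw [Groth.Agent.Lib.Helper68.natCard_inc_eq, Finset.filter_erase,
      Finset.card_erase_of_mem]
    simp only [Finset.mem_filter, Finset.mem_univ, true_and]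
    exact hp.1
  rw [Finset.sum_congr rfl step3]
  have step4 := Finset.sum_card_bipartiteAbove_eq_sum_card_bipartiteBelow
    (s := hTfin.toFinset) (t := Finset.univ.erase i) (fun p j => inc p j)
  simp only [Finset.bipartiteAbove, Finset.bipartiteBelow] at step4
  rw [step4]
  have step5 : ∀ j ∈ Finset.univ.erase i,
      (hTfin.toFinset.filter (fun p => inc p j)).card = h := by
    intro j hj
    have hji : j ≠ i := Finset.ne_of_mem_erase hj
    rw [← hcount i j (Ne.symm hji), ← Set.ncard_coe_finset]
    congr 1
    ext p
    simp only [Finset.coe_filter, Set.Finite.mem_toFinset, Set.mem_setOf_eq]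
    rw [hTmem]
    constructor
    · rintro ⟨⟨hpi, _⟩, hpj⟩
      exact ⟨hpi, hpj⟩
    · rintro ⟨hpi, hpj⟩
      exact ⟨⟨hpi, j, hji, hpj⟩, hpj⟩
  rw [Finset.sum_congr rfl step5, Finset.sum_const, Finset.card_erase_of_mem (Finset.mem_univ i),
    Finset.card_univ, smul_eq_mul, mul_comm]

end Groth.Agent.S15004
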