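import Groth.Statements.S15005
import Groth.Agent.Lib.Helper68.Harb

set_option autoImplicit false
universe u v
open Harb

namespace Groth.Agent.S15005

/-- Let C be a finite family of d curves, recorded as an incidence relation between a type of points and
a finite index type, such that any two distinct curves of the family meet in exactly h points; let
t_k be the number of k-fold points (points lying on exactly k curves of the family). Then f₂ − f₁ =
Σ_{k ≥ 2} k(k − 1) t_k equals h d(d − 1), where f_i = Σ_{k ≥ 2} k^i t_k. (The published statement is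
for a transversal arrangement of curves on a geometrically ruled surface with invariant e, all
numerically equivalent to a C₀ + b f, where any two of the curves meet transversally in h = 2ab −
a²e points; only this common pairwise intersection count enters the proof, and this row states the
identity for an abstract incidence relation.) -/
theorem result (P : Type u) (ι : Type v) [Fintype ι]
    (inc : P → ι → Prop) (h : ℕ)
    (hfin : ∀ i j : ι, i ≠ j → {p : P | inc p i ∧ inc p j}.Finite)
    (hcount : ∀ i j : ι, i ≠ j → {p : P | inc p i ∧ inc p j}.ncard = h) :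
    ∑ k ∈ Finset.Icc 2 (Fintype.card ι), k * (k - 1) * Nat.card {p : P // Nat.card {j : ι // inc p j} = k} =
      h * (Fintype.card ι * (Fintype.card ι - 1)) := by
  classical
  have hMfin := Groth.Agent.Lib.Helper68.multi_finite inc hfin
  have hMmem : ∀ p, p ∈ hMfin.toFinset ↔ 2 ≤ Nat.card {j : ι // inc p j} := by
    intro p
    rw [Set.Finite.mem_toFinset]
    rfl
  have stepA : ∀ k ∈ Finset.Icc 2 (Fintype.card ι),
      k * (k - 1) * Nat.card {p : P // Nat.card {j : ι // inc p j} = k} =
      ∑ p ∈ hMfin.toFinset with Nat.card {j : ι // inc p j} = k, k * (k - 1) := by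
    intro k hk
    rw [Finset.mem_Icc] at hk
    rw [Finset.sum_const, smul_eq_mul, mul_comm]
    congr 1
    change Nat.card ↥{p : P | Nat.card {j : ι // inc p j} = k} = _
    rw [Nat.card_coe_set_eq, ← Set.ncard_coe_finset]
    congr 1
    ext p
    simp only [Finset.coe_filter, Set.mem_setOf_eq, hMmem]
    constructor
    · intro hp
      exact ⟨by omega, hp⟩
    · exact fun hp => hp.2
  rw [Finset.sum_congr rfl stepA]
  have hmaps : ∀ p ∈ hMfin.toFinset,
      Nat.card {j : ι // inc p j} ∈ Finset.Icc 2 (Fintype.card ι) := by
    intro p hp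
    rw [Finset.mem_Icc]
    refine ⟨(hMmem p).mp hp, ?_⟩
    rw [Groth.Agent.Lib.Helper68.natCard_inc_eq, ← Finset.card_univ]
    exact Finset.card_filter_le _ _
  rw [Finset.sum_fiberwise_of_maps_to' hmaps (fun k => k * (k - 1))]
  have stepC : ∀ p ∈ hMfin.toFinset,
      Nat.card {j : ι // inc p j} * (Nat.card {j : ι // inc p j} - 1) =
      ((Finset.univ : Finset ι).offDiag.filter (fun x => inc p x.1 ∧ inc p x.2)).card := by
    intro p _
    have e : (Finset.univ : Finset ι).offDiag.filter (fun x => inc p x.1 ∧ inc p x.2) =
        (Finset.univ.filter (fun j => inc p j)).offDiag := by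
      ext x
      simp only [Finset.mem_filter, Finset.mem_offDiag, Finset.mem_univ, true_and]
      tauto
    rw [e, Finset.offDiag_card, Groth.Agent.Lib.Helper68.natCard_inc_eq, Nat.mul_sub_one]
  rw [Finset.sum_congr rfl stepC]
  have stepD := Finset.sum_card_bipartiteAbove_eq_sum_card_bipartiteBelow
    (s := hMfin.toFinset) (t := (Finset.univ : Finset ι).offDiag)
    (fun p x => inc p x.1 ∧ inc p x.2)
  simp only [Finset.bipartiteAbove, Finset.bipartiteBelow] at stepD
  rw [stepD]
  have stepE : ∀ x ∈ (Finset.univ : Finset ι).offDiag,
      (hMfin.toFinset.filter (fun p => inc p x.1 ∧ inc p x.2)).card = h := by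
    intro x hx
    rw [Finset.mem_offDiag] at hx
    rw [← hcount x.1 x.2 hx.2.2, ← Set.ncard_coe_finset]
    congr 1
    ext p
    simp only [Finset.coe_filter, Set.mem_setOf_eq, hMmem]
    constructor
    · exact fun hp => hp.2
    · intro hp
      exact ⟨(Groth.Agent.Lib.Helper68.two_le_natCard_iff inc p).mpr
        ⟨x.1, x.2, hx.2.2, hp.1, hp.2⟩, hp⟩
  rw [Finset.sum_congr rfl stepE, Finset.sum_const, Finset.offDiag_card, Finset.card_univ,
    smul_eq_mul, mul_comm, Nat.mul_sub_one]

end Groth.Agent.S15005
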