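import Groth.Statements.S15006
import Groth.Agent.Lib.Helper68.Harb
import Mathlib.LinearAlgebra.Dimension.Constructions
import Mathlib.LinearAlgebra.Dimension.Finite
import Mathlib.LinearAlgebra.Dimension.Free
import Mathlib.LinearAlgebra.LinearIndependent.Lemmas
import Mathlib.Tactic.Linarith
import Mathlib.Tactic.LinearCombination
import Mathlib.Tactic.Ring
import Mathlib.Algebra.Order.BigOperators.Ring.Finset
import Mathlib.Data.Rat.Cast.Order

set_option autoImplicit false
universe u v
open Harb

namespace Groth.Agent.S15006

theorem indep_of_gram {ι : Type v} [Fintype ι] [DecidableEq ι] {T : Type u} [Fintype T] (v : ι → T → ℚ)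
    (h : ℚ) (hh : 0 ≤ h) (a : ι → ℚ) (ha : ∀ j, h < a j)
    (gram : ∀ i j, ∑ p, v i p * v j p = if i = j then a j else h) :
    LinearIndependent ℚ v := by
  classical
  rw [Fintype.linearIndependent_iff]
  intro g hg j0
  have h1 : ∀ p : T, ∑ i, g i * v i p = 0 := by
    intro p
    have := congrFun hg p
    simpa [Finset.sum_apply] using this
  have E : ∀ j, ∑ i, g i * (∑ p, v i p * v j p) = 0 := by
    intro j
    have h2 : ∑ p, v j p * (∑ i, g i * v i p) = 0 := by
      apply Finset.sum_eq_zero
      intro p _
      rw [h1 p, mul_zero]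
    rw [← h2]
    simp_rw [Finset.mul_sum]
    rw [Finset.sum_comm]
    apply Finset.sum_congr rfl
    intro p _
    apply Finset.sum_congr rfl
    intro i _
    ring
  have E' : ∀ j, h * (∑ i, g i) + (a j - h) * g j = 0 := by
    intro j
    rw [← E j]
    have h3 : ∀ i, g i * (∑ p, v i p * v j p) =
        h * g i + (if i = j then (a j - h) * g j else 0) := by
      intro i
      rw [gram]
      by_cases hij : i = j
      · subst hij
        rw [if_pos rfl, if_pos rfl]
        ring
      · rw [if_neg hij, if_neg hij]
        ring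
    simp_rw [h3]
    rw [Finset.sum_add_distrib, ← Finset.mul_sum, Finset.sum_ite_eq' Finset.univ j]
    simp
  have key : ∑ j, (a j - h) * g j ^ 2 = - h * (∑ i, g i) ^ 2 := by
    have h4 : ∀ j, (a j - h) * g j ^ 2 = - h * (∑ i, g i) * g j := by
      intro j
      linear_combination g j * E' j
    simp_rw [h4]
    rw [← Finset.mul_sum]
    ring
  have hnonneg : ∀ j ∈ (Finset.univ : Finset ι), 0 ≤ (a j - h) * g j ^ 2 :=
    fun j _ => mul_nonneg (sub_nonneg.mpr (ha j).le) (sq_nonneg _)
  have hsum0 : ∑ j, (a j - h) * g j ^ 2 = 0 := by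
    apply le_antisymm
    · rw [key]
      nlinarith [sq_nonneg (∑ i, g i)]
    · exact Finset.sum_nonneg hnonneg
  have h5 := (Finset.sum_eq_zero_iff_of_nonneg hnonneg).mp hsum0 j0 (Finset.mem_univ _)
  rcases mul_eq_zero.mp h5 with h' | h'
  · exact absurd h' (sub_pos.mpr (ha j0)).ne'
  · exact pow_eq_zero_iff (two_ne_zero) |>.mp h'

/-- Let C be a finite family of d ≥ 2 curves, recorded as an incidence relation between a type of points
and a finite index type, such that any two distinct curves of the family meet in exactly h ≥ 1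
points and no point lies on every curve of the family. Then f₀ ≥ d: the number of multiple points
(points lying on at least two of the curves) is at least the number of curves. (The published
statement is for a transversal arrangement of d ≥ 4 curves on a geometrically ruled surface with
invariant e ≥ 4, all numerically equivalent to a C₀ + b f with a ≥ 1 and b ≥ ae and with no point
common to all of them, satisfying in addition either a ≥ 2, or a = 1 with some four of the curves
having no point in common, where any two of the curves meet transversally in h = 2ab − a²e ≥ 1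
points; only d ≥ 2, h ≥ 1 and the absence of a common point enter the proof, and this row states the
bound for an abstract incidence relation.) -/
theorem result (P : Type u) (ι : Type v) [Fintype ι]
    (inc : P → ι → Prop) (h : ℕ) (hh : 0 < h) (hd : 2 ≤ Fintype.card ι)
    (hfin : ∀ i j : ι, i ≠ j → {p : P | inc p i ∧ inc p j}.Finite)
    (hcount : ∀ i j : ι, i ≠ j → {p : P | inc p i ∧ inc p j}.ncard = h)
    (hnone : ∀ p : P, ∃ i : ι, ¬ inc p i) :
    Fintype.card ι ≤ Nat.card {p : P // 2 ≤ Nat.card {j : ι // inc p j}} := by
  classical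
  have hMfin := Groth.Agent.Lib.Helper68.multi_finite inc hfin
  have hMmem : ∀ p, p ∈ hMfin.toFinset ↔ 2 ≤ Nat.card {j : ι // inc p j} := by
    intro p
    rw [Set.Finite.mem_toFinset]
    rfl
  have hoff : ∀ i j, i ≠ j →
      (hMfin.toFinset.filter (fun p => inc p i ∧ inc p j)).card = h := by
    intro i j hij
    rw [← hcount i j hij, ← Set.ncard_coe_finset]
    congr 1
    ext p
    simp only [Finset.coe_filter, Set.mem_setOf_eq, hMmem]
    constructor
    · exact fun hp => hp.2
    · intro hp
      exact ⟨(Groth.Agent.Lib.Helper68.two_le_natCard_iff inc p).mpr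
        ⟨i, j, hij, hp.1, hp.2⟩, hp⟩
  have hdiag : ∀ j, h + 1 ≤ (hMfin.toFinset.filter (fun p => inc p j ∧ inc p j)).card := by
    intro j
    by_contra hlt
    have hle : (hMfin.toFinset.filter (fun p => inc p j ∧ inc p j)).card ≤ h := by omega
    have hsub : ∀ k, k ≠ j → hMfin.toFinset.filter (fun p => inc p j ∧ inc p k) =
        hMfin.toFinset.filter (fun p => inc p j ∧ inc p j) := by
      intro k hkj
      apply Finset.eq_of_subset_of_card_le
      · intro p hp
        rw [Finset.mem_filter] at hp ⊢
        exact ⟨hp.1, hp.2.1, hp.2.1⟩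
      · rw [hoff j k (Ne.symm hkj)]
        exact hle
    obtain ⟨k0, hk0⟩ : ∃ k0 : ι, k0 ≠ j := by
      obtain ⟨a, b, hab⟩ := Fintype.one_lt_card_iff.mp (Nat.succ_le_iff.mp hd)
      by_cases haj : a = j
      · exact ⟨b, fun hbj => hab (haj.trans hbj.symm)⟩
      · exact ⟨a, haj⟩
    have hne : (hMfin.toFinset.filter (fun p => inc p j ∧ inc p k0)).Nonempty := by
      rw [← Finset.card_pos, hoff j k0 (Ne.symm hk0)]
      exact hh
    obtain ⟨p, hp⟩ := hne
    obtain ⟨k, hk⟩ := hnone p
    have hpj : inc p j := (Finset.mem_filter.mp hp).2.1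
    have hkj : k ≠ j := by
      rintro rfl
      exact hk hpj
    rw [hsub k0 hk0, ← hsub k hkj] at hp
    exact hk (Finset.mem_filter.mp hp).2.2
  have hli : LinearIndependent ℚ
      (fun (i : ι) (p : ↥hMfin.toFinset) => if inc p.1 i then (1 : ℚ) else 0) := by
    apply indep_of_gram _ (h : ℚ) (Nat.cast_nonneg h)
      (fun j => ((hMfin.toFinset.filter (fun p => inc p j ∧ inc p j)).card : ℚ))
    · intro j
      exact_mod_cast Nat.lt_of_succ_le (hdiag j)
    · intro i j
      have e : ∑ p : ↥hMfin.toFinset, (if inc p.1 i then (1 : ℚ) else 0) *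
          (if inc p.1 j then (1 : ℚ) else 0) =
          ((hMfin.toFinset.filter (fun p => inc p i ∧ inc p j)).card : ℚ) := by
        rw [Finset.card_filter, Nat.cast_sum,
          ← Finset.sum_coe_sort hMfin.toFinset
            (fun p => ((if inc p i ∧ inc p j then 1 else 0 : ℕ) : ℚ))]
        apply Finset.sum_congr rfl
        intro p _
        by_cases h1 : inc p.1 i <;> by_cases h2 : inc p.1 j <;> simp [h1, h2]
      rw [e]
      by_cases hij : i = j
      · subst hij
        simp
      · rw [if_neg hij, hoff i j hij]
  have hfinal := hli.fintype_card_le_finrank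
  rw [Module.finrank_fintype_fun_eq_card, Fintype.card_coe] at hfinal
  change _ ≤ Nat.card ↥{p : P | 2 ≤ Nat.card {j : ι // inc p j}}
  rw [Nat.card_coe_set_eq, Set.ncard_eq_toFinset_card _ hMfin]
  exact hfinal

end Groth.Agent.S15006
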