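import Groth.Statements.S15007
import Groth.Agent.Lib.Helper68.Harb

set_option autoImplicit false
universe u v
open Harb

namespace Groth.Agent.S15007

/-- Let C be a finite family of d ≥ 2 curves, recorded as an incidence relation between a type of points
and a finite index type, such that any two distinct curves of the family meet in exactly h ≥ 1
points and no point lies on every curve of the family. Then f₀ ≥ h + 2: the number of multiple
points (points lying on at least two of the curves) is at least h + 2. (The published claim reads f₀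
≥ 2ab − a²e + 2 for a transversal arrangement of d ≥ 4 curves on a geometrically ruled surface with
invariant e ≥ 4, all numerically equivalent to a C₀ + b f with a ≥ 1 and b ≥ ae and with no point
common to all of them, satisfying in addition either a ≥ 2, or a = 1 with some four of the curves
having no point in common, where any two of the curves meet transversally in h = 2ab − a²e ≥ 1
points; only d ≥ 2, h ≥ 1 and the absence of a common point enter the proof, and this row states the
bound for an abstract incidence relation.) -/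
theorem result (P : Type u) (ι : Type v) [Fintype ι]
    (inc : P → ι → Prop) (h : ℕ) (hh : 0 < h) (hd : 2 ≤ Fintype.card ι)
    (hfin : ∀ i j : ι, i ≠ j → {p : P | inc p i ∧ inc p j}.Finite)
    (hcount : ∀ i j : ι, i ≠ j → {p : P | inc p i ∧ inc p j}.ncard = h)
    (hnone : ∀ p : P, ∃ i : ι, ¬ inc p i) :
    h + 2 ≤ Nat.card {p : P // 2 ≤ Nat.card {j : ι // inc p j}} := by
  have hMfin := Groth.Agent.Lib.Helper68.multi_finite inc hfin
  obtain ⟨i, j, hij⟩ := Fintype.one_lt_card_iff.mp (Nat.succ_le_iff.mp hd)
  have hAfin := hfin i j hij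
  have hAcard := hcount i j hij
  have hAne : {p : P | inc p i ∧ inc p j}.Nonempty := by
    rw [← Set.ncard_pos hAfin, hAcard]
    exact hh
  obtain ⟨a, hai, haj⟩ := hAne
  obtain ⟨k, hk⟩ := hnone a
  have hki : k ≠ i := by
    rintro rfl
    exact hk hai
  have hkj : k ≠ j := by
    rintro rfl
    exact hk haj
  have key : ∀ l : ι, k ≠ l → inc a l →
      ∃ b, inc b k ∧ inc b l ∧ ¬ (inc b i ∧ inc b j) := by
    intro l hkl hal
    by_contra hcon
    have hsub : {p : P | inc p k ∧ inc p l} ⊆ {p : P | inc p i ∧ inc p j} := by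
      intro b hb
      by_contra hb'
      exact hcon ⟨b, hb.1, hb.2, hb'⟩
    have heq : {p : P | inc p k ∧ inc p l} = {p : P | inc p i ∧ inc p j} :=
      Set.eq_of_subset_of_ncard_le hsub (by rw [hAcard, hcount k l hkl]) hAfin
    have : a ∈ {p : P | inc p k ∧ inc p l} := by
      rw [heq]
      exact ⟨hai, haj⟩
    exact hk this.1
  obtain ⟨b, hbk, hbi, hbA⟩ := key i hki hai
  obtain ⟨b', hbk', hbj', hbA'⟩ := key j hkj haj
  have hbb' : b ≠ b' := by
    rintro rfl
    exact hbA ⟨hbi, hbj'⟩
  have hsub : {p : P | inc p i ∧ inc p j} ∪ {b, b'} ⊆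
      {p : P | 2 ≤ Nat.card {j : ι // inc p j}} := by
    rintro p (hp | hp | hp)
    · exact (Groth.Agent.Lib.Helper68.two_le_natCard_iff inc p).mpr ⟨i, j, hij, hp.1, hp.2⟩
    · rw [hp]
      exact (Groth.Agent.Lib.Helper68.two_le_natCard_iff inc b).mpr ⟨k, i, hki, hbk, hbi⟩
    · rw [Set.mem_singleton_iff.mp hp]
      exact (Groth.Agent.Lib.Helper68.two_le_natCard_iff inc b').mpr ⟨k, j, hkj, hbk', hbj'⟩
  have hcard : ({p : P | inc p i ∧ inc p j} ∪ {b, b'}).ncard = h + 2 := by
    rw [Set.ncard_union_eq _ hAfin (Set.toFinite _), hAcard, Set.ncard_pair hbb']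
    rw [Set.disjoint_left]
    rintro p hp (hp' | hp')
    · rw [hp'] at hp
      exact hbA hp
    · rw [Set.mem_singleton_iff.mp hp'] at hp
      exact hbA' hp
  change h + 2 ≤ Nat.card ↥{p : P | 2 ≤ Nat.card {j : ι // inc p j}}
  rw [Nat.card_coe_set_eq, ← hcard]
  exact Set.ncard_le_ncard hsub hMfin

end Groth.Agent.S15007
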