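import Groth.Statements.S2153
import Mathlib
import Groth.Agent.Lib.Helper35.Twist1
import Groth.Agent.Lib.Helper35.Ample4
import Groth.Agent.Lib.Helper35.PbAmple
import Groth.Agent.Lib.Helper35.PbGen
import Groth.Agent.Lib.Helper6.ThickIsAffine
import Groth.Agent.Lib.Helper7.ThickQAff

set_option autoImplicit false
set_option linter.style.haveILetI false
universe u
open CategoryTheory AlgebraicGeometry
open Lim

namespace Groth.Agent.S2153


open TopologicalSpace Opposite
open Groth.Agent.Lib.Helper7.ThickQAff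

/-- local extension by the binomial trick -/
theorem local_ext {Z X : Scheme.{u}} (i : Z ⟶ X) [IsClosedImmersion i]
    (hsurj : Function.Surjective i) (W₂ : X.Opens) (hW₂ : IsAffineOpen W₂) (Y : X.Opens)
    (hYW : Y ≤ W₂) (hY : IsCompact (Y : Set X)) (α : Γ(X, W₂)) (hD : X.basicOpen α ≤ Y)
    (ρ : Γ(X, Y)) (hρ : (i.app Y).hom ρ = (i.app Y).hom (res hYW α)) :
    ∃ n : ℕ, 0 < n ∧ ∃ β : Γ(X, W₂), res hYW β = ρ ^ n ∧
      (i.app W₂).hom β = (i.app W₂).hom (α ^ n) := by
  have hε : (i.app Y).hom (ρ - res hYW α) = 0 := by rw [map_sub, hρ, sub_self]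
  obtain ⟨N, hN⟩ := isNilpotent_of_app_eq_zero i hsurj _ hY _ hε
  obtain ⟨M, e, he0, he⟩ := exists_extension i W₂ hW₂ Y hYW hY α hD _ hε
  let Φ : Γ(X, W₂) →+* Γ(X, Y) × Γ(Z, i ⁻¹ᵁ W₂) := RingHom.prod (res hYW) (i.app W₂).hom
  obtain ⟨n, hn, hmem⟩ := exists_pow_mem_subring Φ.range
    (Φ α) ((ρ - res hYW α, 0) : Γ(X, Y) × Γ(Z, i ⁻¹ᵁ W₂))
    ⟨_, rfl⟩ (N + 1)
    (by
      ext
      · change (ρ - res hYW α) ^ (N + 1) = 0
        rw [pow_succ, hN, zero_mul]
      · change (0 : Γ(Z, i ⁻¹ᵁ W₂)) ^ (N + 1) = 0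
        rw [pow_succ, mul_zero]) M
    ⟨e, by
      ext
      · change res hYW e = (res hYW α) ^ M * (ρ - res hYW α)
        exact he
      · change (i.app W₂).hom e = ((i.app W₂).hom α) ^ M * 0
        rw [he0, mul_zero]⟩
  obtain ⟨β, hβ⟩ := hmem
  refine ⟨n, hn, β, ?_, ?_⟩
  · have := congrArg Prod.fst hβ
    change res hYW β = (res hYW α + (ρ - res hYW α)) ^ n at this
    rw [this]
    congr 1
    ring
  · have := congrArg Prod.snd hβ
    change (i.app W₂).hom β = ((i.app W₂).hom α + 0) ^ n at this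
    rw [this, add_zero, map_pow]


theorem res_self' {X : Scheme.{u}} {U : X.Opens} (h : U ≤ U) (s : Γ(X, U)) : res h s = s := by
  change (X.presheaf.map (𝟙 _)).hom s = s
  rw [X.presheaf.map_id]
  rfl

set_option maxHeartbeats 1000000 in
/-- **Core lemma**: lifting a power of a twisted section, in terms of coefficients. -/
theorem core {Z X : Scheme.{u}} (i : Z ⟶ X) [IsClosedImmersion i] (hsurj : Function.Surjective i)
    [QuasiSeparatedSpace X] {ι : Type u} [DecidableEq ι] (V : ι → X.Opens) (hV : ∀ j, IsAffineOpen (V j))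
    (w : ∀ j k, Γ(X, V j ⊓ V k))
    (hw1 : ∀ j, w j j = 1)
    (hwc : ∀ j k l (W : X.Opens) (hjk : W ≤ V j ⊓ V k) (hkl : W ≤ V k ⊓ V l)
      (hjl : W ≤ V j ⊓ V l), res hjl (w j l) = res hjk (w j k) * res hkl (w k l))
    (a : ∀ j, Γ(Z, i ⁻¹ᵁ V j))
    (ha : ∀ j k, res (i.preimage_mono (inf_le_left : V j ⊓ V k ≤ V j)) (a j) =
       (i.app (V j ⊓ V k)).hom (w j k) *
        res (i.preimage_mono (inf_le_right : V j ⊓ V k ≤ V k)) (a k))
    (j₀ : ι) (hj₀ : ∀ j, Z.basicOpen (a j) ≤ i ⁻¹ᵁ V j₀) (S : Finset ι) :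
    ∃ N : ℕ, 0 < N ∧ ∃ b : ∀ j, Γ(X, V j),
      (∀ j ∈ insert j₀ S, ∀ k ∈ insert j₀ S,
        res (inf_le_left : V j ⊓ V k ≤ V j) (b j) =
          w j k ^ N * res (inf_le_right : V j ⊓ V k ≤ V k) (b k)) ∧
      ∀ j ∈ insert j₀ S, (i.app (V j)).hom (b j) = a j ^ N := by
  induction S using Finset.induction_on with
  | empty =>
    have hb : ∀ j, ∃ b : Γ(X, V j), (i.app (V j)).hom b = a j := fun j =>
      i.app_surjective (V j) (hV j) (a j)
    choose b hb using hb
    refine ⟨1, one_pos, b, ?_, ?_⟩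
    · intro j hj k hk
      simp only [Finset.insert_empty, Finset.mem_singleton] at hj hk
      subst hj
      subst hk
      rw [hw1, one_pow, one_mul]
    · intro j _
      rw [hb, pow_one]
  | insert j' S hj'S IH =>
    by_cases hj'T : j' ∈ insert j₀ S
    · have : insert j₀ (insert j' S) = insert j₀ S := by
        rw [Finset.insert_comm, Finset.insert_eq_of_mem hj'T]
      rw [this]
      exact IH
    obtain ⟨N, hN, b, hb, hl⟩ := IH
    set T := insert j₀ S with hT
    have hj₀T : j₀ ∈ T := Finset.mem_insert_self _ _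
    let U : {j // j ∈ T} → X.Opens := fun j => V j' ⊓ V j.1
    let Y : X.Opens := ⨆ j, U j
    have hUY : ∀ j, U j ≤ Y := fun j => le_iSup U j
    have hYW : Y ≤ V j' := iSup_le fun j => inf_le_left
    let sf : ∀ j : {j // j ∈ T}, Γ(X, U j) := fun j =>
      w j' j.1 ^ N * res (inf_le_right : V j' ⊓ V j.1 ≤ V j.1) (b j.1)
    have hcompat : TopCat.Presheaf.IsCompatible X.presheaf U sf := by
      intro j k
      change res (inf_le_left : U j ⊓ U k ≤ U j) (sf j) =
        res (inf_le_right : U j ⊓ U k ≤ U k) (sf k)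
      have hWjk : U j ⊓ U k ≤ V j.1 ⊓ V k.1 :=
        le_inf (inf_le_left.trans inf_le_right) (inf_le_right.trans inf_le_right)
      have h1 := congrArg (res hWjk) (hb j.1 j.2 k.1 k.2)
      simp only [map_mul, map_pow, res_res] at h1
      simp only [sf, map_mul, map_pow, res_res]
      rw [h1, ← mul_assoc, ← mul_pow]
      congr 2
      exact (hwc j' j.1 k.1 (U j ⊓ U k) _ _ _).symm
    obtain ⟨ρ', hρ', -⟩ := X.sheaf.existsUnique_gluing' U Y (fun j => homOfLE (hUY j)) le_rfl sf
      hcompat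
    obtain ⟨ρ, rfl⟩ : ∃ ρ : Γ(X, Y), ρ = ρ' := ⟨ρ', rfl⟩
    have hρ := hρ'
    replace hρ : ∀ j, res (hUY j) ρ = sf j := hρ
    obtain ⟨α, hα⟩ := i.app_surjective (V j') (hV j') (a j' ^ N)
    replace hα : (i.app (V j')).hom α = a j' ^ N := hα
    -- i^♯ ρ = i^♯ α|
    have hρα : (i.app Y).hom ρ = (i.app Y).hom (res hYW α) := by
      refine Z.sheaf.eq_of_locally_eq' (fun j : {j // j ∈ T} => i ⁻¹ᵁ U j) (i ⁻¹ᵁ Y)
        (fun j => homOfLE (i.preimage_mono (hUY j))) ?_ _ _ ?_
      · intro z hz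
        have hz' : i z ∈ Y := hz
        obtain ⟨j, hj⟩ := Opens.mem_iSup.mp hz'
        exact Opens.mem_iSup.mpr ⟨j, hj⟩
      · intro j
        change res (i.preimage_mono (hUY j)) ((i.app Y).hom ρ) =
          res (i.preimage_mono (hUY j)) ((i.app Y).hom (res hYW α))
        rw [← app_res i (hUY j), ← app_res i (hUY j), hρ j, res_res]
        simp only [sf, map_mul, map_pow]
        rw [app_res i (inf_le_right : V j' ⊓ V j.1 ≤ V j.1), hl j.1 j.2,
          app_res i (inf_le_left : V j' ⊓ V j.1 ≤ V j'), hα, map_pow, map_pow, ← mul_pow,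
          ← ha j' j.1]
    have hD : X.basicOpen α ≤ Y := by
      intro x hx
      have hx₂ : x ∈ V j' := X.basicOpen_le α hx
      obtain ⟨z, rfl⟩ := hsurj x
      have hz : z ∈ i ⁻¹ᵁ X.basicOpen α := hx
      rw [Scheme.preimage_basicOpen] at hz
      have h0 : i.app (V j') α = a j' ^ N := hα
      rw [h0, Scheme.basicOpen_pow _ _ hN] at hz
      have hz₀ : i z ∈ V j₀ := hj₀ j' hz
      exact hUY ⟨j₀, hj₀T⟩ ⟨hx₂, hz₀⟩
    have hY : IsCompact (Y : Set X) := by
      have : (Y : Set X) = ⋃ j, (U j : Set X) := by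
        simp only [Y, Opens.coe_iSup]
      rw [this]
      exact isCompact_iUnion fun j =>
        QuasiSeparatedSpace.inter_isCompact _ _ (V j').isOpen (hV j').isCompact (V j.1).isOpen
          (hV j.1).isCompact
    obtain ⟨n, hn, β, hβ1, hβ2⟩ := local_ext i hsurj (V j') (hV j') Y hYW hY α hD ρ hρα
    refine ⟨N * n, Nat.mul_pos hN hn, Function.update (fun j => b j ^ n) j' β, ?_, ?_⟩
    · have hmem : ∀ j, j ∈ insert j₀ (insert j' S) → j ≠ j' → j ∈ T := by
        intro j hj hne
        rw [Finset.insert_comm] at hj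
        exact (Finset.mem_insert.mp hj).resolve_left hne
      -- restriction of β to V j' ⊓ V k
      have hβk : ∀ k (hk : k ∈ T), res (inf_le_left : V j' ⊓ V k ≤ V j') β =
          (w j' k ^ N * res (inf_le_right : V j' ⊓ V k ≤ V k) (b k)) ^ n := by
        intro k hk
        have := congrArg (res (hUY ⟨k, hk⟩)) hβ1
        rw [res_res, map_pow, hρ ⟨k, hk⟩] at this
        exact this
      intro j hj k hk
      by_cases hjj : j = j'
      · subst hjj
        by_cases hkj : k = j
        · subst hkj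
          rw [hw1, one_pow, one_mul]
        · rw [Function.update_self, Function.update_of_ne hkj, hβk k (hmem k hk hkj), mul_pow,
            ← pow_mul, map_pow]
      · by_cases hkj : k = j'
        · subst hkj
          rw [Function.update_self, Function.update_of_ne hjj]
          have hjT := hmem j hj hjj
          have hsw : V j ⊓ V k ≤ V k ⊓ V j := le_inf inf_le_right inf_le_left
          have h2 := congrArg (res hsw) (hβk j hjT)
          rw [res_res, map_pow, map_mul, map_pow, res_res] at h2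
          rw [h2, mul_pow, ← pow_mul, ← mul_assoc, ← mul_pow, map_pow]
          have h3 := hwc j k j (V j ⊓ V k) le_rfl hsw (le_inf inf_le_left inf_le_left)
          rw [hw1, map_one, res_self'] at h3
          rw [← h3, one_pow, one_mul]
        · rw [Function.update_of_ne hjj, Function.update_of_ne hkj, map_pow, map_pow,
            hb j (hmem j hj hjj) k (hmem k hk hkj), mul_pow, ← pow_mul]
    · intro j hj
      by_cases hjj : j = j'
      · subst hjj
        rw [Function.update_self, hβ2, map_pow, hα, ← pow_mul]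
      · rw [Function.update_of_ne hjj, map_pow, hl j _, ← pow_mul]
        rw [Finset.insert_comm] at hj
        exact (Finset.mem_insert.mp hj).resolve_left hjj


section Assembly

open Groth.Agent.Lib.Helper35.Gen Groth.Agent.Lib.Helper35.PbInv Groth.Agent.Lib.Helper35.Ample
open Groth.Agent.Lib.Helper35.GlobGen Groth.Agent.Lib.Helper35.Cocycle

variable {X : Scheme.{u}} {L : X.Modules}

/-- gluing a section of `L^k` from coefficients on a cover with generators (copy of Helper35 RL11) -/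
theorem exists_glue_coeff (C : GenCover L) (k : ℕ) (x : ∀ i, Γ(X, C.V i))
    (hx : ∀ i j, rr X (inf_le_left : C.V i ⊓ C.V j ≤ C.V i) (x i) =
      C.u i j ^ k * rr X (inf_le_right : C.V i ⊓ C.V j ≤ C.V j) (x j)) :
    ∃ τ : Γ(CohB1.tensorPow L k, ⊤), ∀ i, rs (CohB1.tensorPow L k) (le_top : C.V i ≤ ⊤) τ =
      x i • gpow (C.e i) k := by
  have hcov : (⊤ : X.Opens) ≤ iSup C.V := by
    intro y _
    obtain ⟨i, hi⟩ := C.cover y
    exact Opens.mem_iSup.mpr ⟨i, hi⟩
  refine Groth.Agent.Lib.Helper35.AbSheaf.glue' (CohB1.tensorPow L k).presheaf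
    (CohB1.tensorPow L k).isSheaf C.V (fun _ => le_top) hcov
    (fun i => x i • gpow (C.e i) k) ?_
  intro i j
  change rs (CohB1.tensorPow L k) inf_le_left (x i • gpow (C.e i) k) =
    rs (CohB1.tensorPow L k) inf_le_right (x j • gpow (C.e j) k)
  rw [rs_smul, rs_smul, C.gpow_trans k i j (C.V i ⊓ C.V j) le_rfl, rr_self, ← mul_smul, hx i j,
    mul_comm]

theorem GenCover.u_self (C : GenCover L) (j : C.ι) : C.u j j = 1 := by
  have h := C.hu j j
  have h2 : C.u j j • rs L (inf_le_left : C.V j ⊓ C.V j ≤ C.V j) (C.e j) =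
      (1 : Γ(X, C.V j ⊓ C.V j)) • rs L (inf_le_left : C.V j ⊓ C.V j ≤ C.V j) (C.e j) := by
    rw [one_smul]
    exact h.symm
  exact ((C.he j).mono (inf_le_left : C.V j ⊓ C.V j ≤ C.V j)).smul_injective h2

theorem GenCover.u_cocycle (C : GenCover L) (j k l : C.ι) (W : X.Opens)
    (hjk : W ≤ C.V j ⊓ C.V k) (hkl : W ≤ C.V k ⊓ C.V l) (hjl : W ≤ C.V j ⊓ C.V l) :
    rr X hjl (C.u j l) = rr X hjk (C.u j k) * rr X hkl (C.u k l) := by
  have hWj : W ≤ C.V j := hjk.trans inf_le_left
  have hWk : W ≤ C.V k := hjk.trans inf_le_right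
  have hWl : W ≤ C.V l := hkl.trans inf_le_right
  have h1 := congrArg (rs L hjl) (C.hu j l)
  have h2 := congrArg (rs L hjk) (C.hu j k)
  have h3 := congrArg (rs L hkl) (C.hu k l)
  rw [rs_smul, rs_rs, rs_rs] at h1 h2 h3
  rw [h3, h2, ← mul_smul] at h1
  have := ((C.he j).mono hWj).smul_injective h1
  rw [← this, mul_comm]


/-- the pulled back cover with generators -/
noncomputable def pbCover {Z : Scheme.{u}} (i : Z ⟶ X) [IsAffineHom i] (C : GenCover L) :
    GenCover ((Scheme.Modules.pullback i).obj L) where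
  ι := C.ι
  fin := C.fin
  V := fun j => i ⁻¹ᵁ C.V j
  hV := fun j => (C.hV j).preimage i
  cover := fun z => C.cover (i z)
  e := fun j => pbSec i L (C.V j) (C.e j)
  he := fun j => isGen_pbSec i L (C.V j) (C.e j) (C.he j)
  u := fun j k => (i.app (C.V j ⊓ C.V k)).hom (C.u j k)
  hu := fun j k => by
    have := congrArg (pbSec i L (C.V j ⊓ C.V k)) (C.hu j k)
    rw [pbSec_smul, ← pbSec_rs, ← pbSec_rs] at this
    exact this


set_option maxHeartbeats 1000000 in
/-- **Ampleness lifts along thickenings.** -/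
theorem isAmple_of_thickening {Z : Scheme.{u}} (i : Z ⟶ X) [IsClosedImmersion i]
    (hi : IsHomeomorph i.base) (hL : PicF.IsInvertible L)
    (h : CohB1.IsAmple ((Scheme.Modules.pullback i).obj L)) : CohB1.IsAmple L := by
  classical
  have hsurj : Function.Surjective i := hi.surjective
  have hB := isBasis_of_isAmple h
  obtain ⟨hM, hcZ, hcov⟩ := h
  haveI := hcZ
  haveI : CompactSpace X := hi.homeomorph.compactSpace
  haveI : QuasiSeparatedSpace Z := quasiSeparatedSpace_of_cover_genLocus hM hcov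
  haveI : QuasiSeparatedSpace X :=
    QuasiSeparatedSpace.of_isOpenEmbedding hi.homeomorph.symm.isOpenEmbedding
  refine ⟨hL, inferInstance, fun x => ?_⟩
  obtain ⟨z, rfl⟩ := hsurj x
  obtain ⟨C⟩ := exists_genCover hL
  haveI := C.fin
  haveI : Fintype C.ι := Fintype.ofFinite C.ι
  obtain ⟨j₀, hj₀⟩ := C.cover (i z)
  rw [Opens.isBasis_iff_nbhd] at hB
  obtain ⟨G, ⟨n, t, rfl⟩, hzG, hGV⟩ := hB (U := i ⁻¹ᵁ C.V j₀) hj₀
  have hGaff : IsAffineOpen (CohB1.genLocus
      (CohB1.tensorPow ((Scheme.Modules.pullback i).obj L) (n + 1)) t) := by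
    haveI := Groth.Agent.Lib.Helper35.GenLocus.isAffineHom_genLocus_ι _
      (isInvertible_tensorPow hM (n + 1)) t
    have := Groth.Agent.Lib.Helper35.AffDiag.isAffineOpen_inf_of_isAffineHom
      (CohB1.genLocus (CohB1.tensorPow ((Scheme.Modules.pullback i).obj L) (n + 1)) t)
      (i ⁻¹ᵁ C.V j₀) ((C.hV j₀).preimage i)
    rwa [inf_eq_left.mpr hGV] at this
  let C' := (pbCover i C).pow (n + 1)
  let D := C'.data t
  obtain ⟨N, hN, b, hb, hl⟩ := core i hsurj C.V C.hV (fun j l => C.u j l ^ (n + 1))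
    (fun j => by rw [GenCover.u_self C, one_pow])
    (fun j l m W hjl hlm hjm => by
      change rr X hjm (C.u j m ^ (n + 1)) =
        rr X hjl (C.u j l ^ (n + 1)) * rr X hlm (C.u l m ^ (n + 1))
      rw [map_pow, map_pow, map_pow, GenCover.u_cocycle C j l m W hjl hlm hjm, mul_pow])
    (fun j => C'.c t j)
    (fun j l => by
      have := D.hcu j l
      rw [map_pow]
      exact this)
    j₀ (fun j => by
      have : Z.basicOpen (C'.c t j) = CohB1.genLocus _ t ⊓ i ⁻¹ᵁ C.V j := D.hU j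
      exact (le_of_eq this).trans (inf_le_left.trans hGV))
    Finset.univ
  have hmem : ∀ j : C.ι, j ∈ insert j₀ (Finset.univ : Finset C.ι) := fun j =>
    Finset.mem_insert_of_mem (Finset.mem_univ _)
  obtain ⟨τ, hτ⟩ := exists_glue_coeff C ((n + 1) * N) b (fun j l => by
    have := hb j (hmem j) l (hmem l)
    rw [← pow_mul] at this
    exact this)
  set s := secHom (CohB1.tensorPow L ((n + 1) * N)) τ with hs
  have hs_val : ∀ j, SecTwist.val s (C.V j) = b j • gpow (C.e j) ((n + 1) * N) := by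
    intro j
    rw [val_secHom]
    exact hτ j
  have hloc : ∀ j, CohB1.genLocus _ s ⊓ C.V j = X.basicOpen (b j) := fun j =>
    genLocus_inf_eq_basicOpen s ((C.he j).gpow ((n + 1) * N)) (b j) (hs_val j)
  have hpre : i ⁻¹ᵁ (CohB1.genLocus _ s) = CohB1.genLocus _ t := by
    apply opens_eq_of_inf_eq
    intro z'
    obtain ⟨j, hj⟩ := C.cover (i z')
    refine ⟨i ⁻¹ᵁ C.V j, hj, ?_⟩
    calc i ⁻¹ᵁ (CohB1.genLocus _ s) ⊓ i ⁻¹ᵁ C.V j
        = i ⁻¹ᵁ (CohB1.genLocus _ s ⊓ C.V j) := rfl
      _ = i ⁻¹ᵁ (X.basicOpen (b j)) := by rw [hloc]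
      _ = Z.basicOpen ((i.app (C.V j)).hom (b j)) := Scheme.preimage_basicOpen _ _
      _ = Z.basicOpen (C'.c t j ^ N) := congrArg (fun r => Z.basicOpen r) (hl j (hmem j))
      _ = Z.basicOpen (C'.c t j) := Scheme.basicOpen_pow _ _ hN
      _ = CohB1.genLocus _ t ⊓ i ⁻¹ᵁ C.V j := D.hU j
  obtain ⟨m, s'', hs''⟩ := exists_succ_section ((n + 1) * N) (by positivity) s
  refine ⟨m, s'', ?_, ?_⟩
  · rw [hs'']
    change z ∈ i ⁻¹ᵁ (CohB1.genLocus _ s)
    rw [hpre]
    exact hzG
  · rw [hs'']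
    exact Groth.Agent.Lib.Helper6.ThickIsAffine.isAffineOpen_of_thickening i hsurj _
      (by rw [hpre]; exact hGaff)

end Assembly


/-- Let `i : Z → X` be a closed immersion which is a homeomorphism on underlying spaces and `L` an
invertible `O_X`-module. Then `L` is ample on `X` exactly when its pullback `i^*L` is ample on `Z`. -/
theorem result {Z X : Scheme.{u}} (i : Z ⟶ X) [IsClosedImmersion i]
    (hi : IsHomeomorph i.base) (L : X.Modules) (hL : PicF.IsInvertible L) :
    CohB1.IsAmple ((Scheme.Modules.pullback i).obj L) ↔ CohB1.IsAmple L := by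
  constructor
  · exact isAmple_of_thickening i hi hL
  · intro h
    exact Groth.Agent.Lib.Helper35.PbInv.isAmple_pullback_of_isAffineHom i h

end Groth.Agent.S2153
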