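import Groth.Statements.S1501
import Mathlib
import Groth.Agent.S2153
import Groth.Agent.Lib.Helper7.FinLocFreePullback
import Groth.Agent.Lib.Helper35.Ample1
import Groth.Agent.Lib.Helper35.ModRestrict
import Groth.Agent.Lib.Helper6.ThickIsAffine

set_option autoImplicit false
set_option linter.style.haveILetI false
universe u
open FlatMor

namespace Groth.Agent.S1501


open AlgebraicGeometry CategoryTheory Limits

theorem homeo_of_thick {X X' : Scheme.{u}} (i : X ⟶ X') [IsClosedImmersion i]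
    (hs : Function.Surjective i) : IsHomeomorph i.base := by
  rw [isHomeomorph_iff_isEmbedding_surjective]
  exact ⟨i.isClosedEmbedding.isEmbedding, hs⟩

theorem amp_iff {X X' : Scheme.{u}} (iX : X ⟶ X') [IsClosedImmersion iX] [Surjective iX]
    (L' : X'.Modules) (hL' : PicF.IsInvertible L') (U' : X'.Opens) :
    CohB1.IsAmple (((Scheme.Modules.pullback iX).obj L').restrict (iX ⁻¹ᵁ U').ι) ↔
      CohB1.IsAmple (L'.restrict U'.ι) := by
  have h2 : Surjective (iX ∣_ U') :=
    MorphismProperty.of_isPullback (P := @Surjective) (isPullback_morphismRestrict iX U').flip ‹_›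
  have e := Groth.Agent.Lib.Helper7.FinLocFree.restrictPullbackIso iX L' U'
  have hinv : PicF.IsInvertible (L'.restrict U'.ι) :=
    Groth.Agent.Lib.Helper35.ModRestrict.isInvertible_restrict _ L' hL'
  have key := Groth.Agent.S2153.result (iX ∣_ U') (homeo_of_thick _ h2.surj) (L'.restrict U'.ι) hinv
  exact ⟨fun h => key.mp (Groth.Agent.Lib.Helper35.Ample.isAmple_of_iso e h),
    fun h => Groth.Agent.Lib.Helper35.Ample.isAmple_of_iso e.symm (key.mpr h)⟩


open AlgebraicGeometry CategoryTheory Limits in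
/-- Let (f, f') : (X ⊂ X') → (S ⊂ S') be a morphism of thickenings (iX : X → X' and iS : S → S'
thickenings with f ≫ iS = iX ≫ f') and L' an invertible O_{X'}-module with pullback L to X. Then L'
is ample relative to f' if and only if L is ample relative to f. -/
theorem result {X X' S S' : Scheme.{u}} (iX : X ⟶ X') (iS : S ⟶ S') (f : X ⟶ S) (f' : X' ⟶ S')
    (hX : MoreMor.IsThickening iX) (hS : MoreMor.IsThickening iS) (w : iX ≫ f' = f ≫ iS)
    (L' : X'.Modules) (hL' : PicF.IsInvertible L') :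
    RelAmple.IsRelAmple f' L' ↔ RelAmple.IsRelAmple f ((Scheme.Modules.pullback iX).obj L') := by
  obtain ⟨hXc, hXs⟩ := hX
  obtain ⟨hSc, hSs⟩ := hS
  have hiS := homeo_of_thick iS hSs.surj
  have key : ∀ V' : S'.Opens, f ⁻¹ᵁ (iS ⁻¹ᵁ V') = iX ⁻¹ᵁ (f' ⁻¹ᵁ V') := by
    intro V'
    rw [← Scheme.Hom.comp_preimage, ← Scheme.Hom.comp_preimage, w]
  have amp : ∀ V' : S'.Opens,
      (CohB1.IsAmple (((Scheme.Modules.pullback iX).obj L').restrict (f ⁻¹ᵁ (iS ⁻¹ᵁ V')).ι) ↔
        CohB1.IsAmple (L'.restrict (f' ⁻¹ᵁ V').ι)) := by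
    intro V'
    rw [key V']
    exact amp_iff iX L' hL' _
  constructor
  · rintro ⟨hqc, h⟩
    refine ⟨⟨fun U hUo hUc => ?_⟩, fun V => ?_⟩
    · have hq : QuasiCompact (iX ≫ f') := inferInstance
      have h1 : IsCompact ((iX ≫ f') ⁻¹' (iS '' U)) :=
        hq.isCompact_preimage _ (hiS.isOpenMap _ hUo) (hUc.image hiS.continuous)
      have h2 : (iX ≫ f') ⁻¹' (iS '' U) = f ⁻¹' U := by
        rw [w]
        ext x
        simp only [Set.mem_preimage, Scheme.Hom.comp_apply]
        exact hiS.injective.mem_set_image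
      rwa [h2] at h1
    · obtain ⟨V, hV⟩ := V
      obtain ⟨V', hV'⟩ : ∃ V' : S'.Opens, iS ⁻¹ᵁ V' = V := by
        refine ⟨⟨iS '' V, hiS.isOpenMap _ V.2⟩, ?_⟩
        ext x
        exact hiS.injective.mem_set_image
      subst hV'
      have hV'aff : IsAffineOpen V' :=
        Groth.Agent.Lib.Helper6.ThickIsAffine.isAffineOpen_of_thickening iS hSs.surj V' hV
      exact (amp V').mpr (h ⟨V', hV'aff⟩)
  · rintro ⟨hqc, h⟩
    refine ⟨⟨fun U hUo hUc => ?_⟩, fun V' => ?_⟩
    · have hq : QuasiCompact (f ≫ iS) := inferInstance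
      have h1 : IsCompact ((f ≫ iS) ⁻¹' U) := hq.isCompact_preimage _ hUo hUc
      have h2 : f' ⁻¹' U = iX '' ((f ≫ iS) ⁻¹' U) := by
        rw [← w]
        ext x
        constructor
        · intro hx
          obtain ⟨y, rfl⟩ := hXs.surj x
          exact ⟨y, hx, rfl⟩
        · rintro ⟨y, hy, rfl⟩
          exact hy
      rw [h2]
      exact h1.image iX.continuous
    · exact (amp V'.1).mp (h ⟨iS ⁻¹ᵁ V'.1, V'.2.preimage iS⟩)

end Groth.Agent.S1501
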