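import Groth.Statements.S15010
import Mathlib.RingTheory.Localization.Integer
import Mathlib.Data.Matrix.Mul
import Mathlib.LinearAlgebra.Matrix.ToLin

set_option autoImplicit false
universe u
open TFCurv

namespace Groth.Agent.S15010

theorem single_mem {O K : Type u} [CommRing O] [Field K] [Algebra O K] (n : ℕ)
    (j : Fin n) : (Pi.single j (1 : K) : Fin n → K) ∈
      Submodule.pi Set.univ (fun _ : Fin n => (1 : Submodule O K)) := by
  classical
  rw [Submodule.mem_pi]
  intro i _
  rw [Submodule.mem_one]
  by_cases h : i = j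
  · subst h
    exact ⟨1, by simp⟩
  · exact ⟨0, by simp [Pi.single_eq_of_ne h]⟩

theorem matrix_of_linear {O K : Type u} [CommRing O] [IsDomain O] [Field K] [Algebra O K]
    [IsFractionRing O K] (n : ℕ) (M N : Submodule O (Fin n → K))
    (hM1 : Submodule.pi Set.univ (fun _ : Fin n => (1 : Submodule O K)) ≤ M)
    (hN2 : N ≤ Submodule.pi Set.univ
      (fun _ : Fin n => (Subalgebra.toSubmodule (integralClosure O K))))
    (φ : ↥M →ₗ[O] ↥N) :
    ∃ A : Matrix (Fin n) (Fin n) ↥(integralClosure O K), ∀ x : ↥M,
      ((φ x : ↥N) : Fin n → K) =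
        (A.map (algebraMap ↥(integralClosure O K) K)).mulVec (x : Fin n → K) := by
  classical
  have he : ∀ j : Fin n, (Pi.single j (1 : K) : Fin n → K) ∈ M :=
    fun j => hM1 (single_mem n j)
  have hφe : ∀ i j : Fin n,
      ((φ ⟨_, he j⟩ : ↥N) : Fin n → K) i ∈ integralClosure O K := by
    intro i j
    have := hN2 (φ ⟨_, he j⟩).2
    rw [Submodule.mem_pi] at this
    exact this i (Set.mem_univ i)
  refine ⟨Matrix.of (fun i j => ⟨_, hφe i j⟩), ?_⟩
  intro x
  obtain ⟨d, hd⟩ := IsLocalization.exist_integer_multiples (nonZeroDivisors O)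
    (Finset.univ : Finset (Fin n)) (fun i => (x : Fin n → K) i)
  choose a ha using fun i => hd i (Finset.mem_univ i)
  have hdx : (d : O) • x = ∑ j, a j • (⟨_, he j⟩ : ↥M) := by
    apply Subtype.ext
    funext i
    rw [Submodule.coe_smul, Pi.smul_apply, ← ha i, Submodule.coe_sum, Finset.sum_apply]
    rw [Finset.sum_eq_single i]
    · change _ = a i • (Pi.single i (1 : K) : Fin n → K) i
      rw [Pi.single_eq_same, Algebra.smul_def, mul_one]
    · intro j _ hji
      change a j • (Pi.single j (1 : K) : Fin n → K) i = 0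
      rw [Pi.single_eq_of_ne (Ne.symm hji), smul_zero]
    · intro h
      exact absurd (Finset.mem_univ i) h
  have hd0 : algebraMap O K (d : O) ≠ 0 := by
    intro h
    have := (IsFractionRing.injective O K) (h.trans (map_zero _).symm)
    exact nonZeroDivisors.ne_zero d.2 this
  have h1 : (d : O) • ((φ x : ↥N) : Fin n → K) =
      (d : O) • (Matrix.map (Matrix.of (fun i j => (⟨_, hφe i j⟩ : ↥(integralClosure O K))))
        (algebraMap ↥(integralClosure O K) K)).mulVec (x : Fin n → K) := by
    rw [← Submodule.coe_smul, ← map_smul, hdx, map_sum]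
    funext i
    rw [Submodule.coe_sum, Finset.sum_apply, Pi.smul_apply, Matrix.mulVec, dotProduct,
      Finset.smul_sum]
    apply Finset.sum_congr rfl
    intro j _
    rw [map_smul, Submodule.coe_smul, Pi.smul_apply, Matrix.map_apply, Matrix.of_apply]
    have e1 : (algebraMap ↥(integralClosure O K) K)
        (⟨((φ ⟨_, he j⟩ : ↥N) : Fin n → K) i, hφe i j⟩ : ↥(integralClosure O K)) =
        ((φ ⟨_, he j⟩ : ↥N) : Fin n → K) i := rfl
    rw [e1, Algebra.smul_def, Algebra.smul_def, ha j, Algebra.smul_def]
    ring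
  funext i
  have h2 := congrFun h1 i
  rw [Pi.smul_apply, Pi.smul_apply, Algebra.smul_def, Algebra.smul_def] at h2
  exact mul_left_cancel₀ hd0 h2

theorem mul_eq_one_of {O K : Type u} [CommRing O] [Field K] [Algebra O K]
    (n : ℕ) (N : Submodule O (Fin n → K))
    (hN1 : Submodule.pi Set.univ (fun _ : Fin n => (1 : Submodule O K)) ≤ N)
    (A B : Matrix (Fin n) (Fin n) ↥(integralClosure O K))
    (h : ∀ y : ↥N, (A.map (algebraMap ↥(integralClosure O K) K)).mulVec
      ((B.map (algebraMap ↥(integralClosure O K) K)).mulVec (y : Fin n → K)) = (y : Fin n → K)) :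
    A * B = 1 := by
  classical
  have hmap : (A * B).map (algebraMap ↥(integralClosure O K) K) = 1 := by
    rw [Matrix.map_mul]
    ext i j
    have h2 := h ⟨_, hN1 (single_mem n j)⟩
    simp only [Matrix.mulVec_single_one] at h2
    have h3 := congrFun h2 i
    rw [Matrix.mulVec, dotProduct] at h3
    simp only [Matrix.col_apply] at h3
    rw [Matrix.mul_apply, h3, Matrix.one_apply, Pi.single_apply]
  apply Matrix.ext
  intro i j
  apply Subtype.ext
  have h4 := congrFun (congrFun hmap i) j
  rw [Matrix.map_apply] at h4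
  change ((A * B) i j : K) = _ at h4
  rw [h4, Matrix.one_apply, Matrix.one_apply]
  split_ifs <;> simp

/-- Let O be a one-dimensional Noetherian local domain with algebraically closed residue field whose
integral closure O~ in its fraction field K is a finite O-module. If M and N are O-submodules of K^n
with O^n ⊆ M ⊆ O~^n and O^n ⊆ N ⊆ O~^n, then every O-linear isomorphism M → N is the restriction of
x ↦ A·x for an invertible n × n matrix A with entries in O~. -/
theorem result (O : Type u) [CommRing O] [IsDomain O] [IsNoetherianRing O] [IsLocalRing O] (hdim : ringKrullDim O = 1) [IsAlgClosed (IsLocalRing.ResidueField O)] (K : Type u) [Field K] [Algebra O K] [IsFractionRing O K] (hfin : Module.Finite O ↥(integralClosure O K)) (n : ℕ) (M N : Submodule O (Fin n → K)) (hM1 : Submodule.pi Set.univ (fun _ : Fin n => (1 : Submodule O K)) ≤ M) (hM2 : M ≤ Submodule.pi Set.univ (fun _ : Fin n => (Subalgebra.toSubmodule (integralClosure O K)))) (hN1 : Submodule.pi Set.univ (fun _ : Fin n => (1 : Submodule O K)) ≤ N) (hN2 : N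 ≤ Submodule.pi Set.univ (fun _ : Fin n => (Subalgebra.toSubmodule (integralClosure O K)))) (φ : ↥M ≃ₗ[O] ↥N) : ∃ A : Matrix (Fin n) (Fin n) ↥(integralClosure O K), IsUnit A ∧ ∀ x : ↥M, ((φ x : ↥N) : Fin n → K) = (A.map (algebraMap ↥(integralClosure O K) K)).mulVec (x : Fin n → K) := by
  classical
  obtain ⟨A, hA⟩ := matrix_of_linear n M N hM1 hN2 φ.toLinearMap
  obtain ⟨B, hB⟩ := matrix_of_linear n N M hN1 hM2 φ.symm.toLinearMap
  refine ⟨A, ?_, hA⟩
  have hAB : A * B = 1 := by
    apply mul_eq_one_of n N hN1 A B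
    intro y
    have h1 := hB y
    have h2 := hA (φ.symm y)
    simp only [LinearEquiv.coe_coe, LinearEquiv.apply_symm_apply] at h1 h2
    rw [h1] at h2
    exact h2.symm
  have hBA : B * A = 1 := by
    apply mul_eq_one_of n M hM1 B A
    intro y
    have h1 := hA y
    have h2 := hB (φ y)
    simp only [LinearEquiv.coe_coe, LinearEquiv.symm_apply_apply] at h1 h2
    rw [h1] at h2
    exact h2.symm
  exact ⟨⟨A, B, hAB, hBA⟩, rfl⟩

end Groth.Agent.S15010
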