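import Groth.Statements.S15015
import Groth.Agent.Lib.Helper68.PSeries
import Mathlib.LinearAlgebra.Dimension.Constructions
import Mathlib.LinearAlgebra.Dimension.Free
import Mathlib.RingTheory.Finiteness.Basic
import Mathlib.Algebra.BigOperators.Ring.Finset
import Mathlib.RingTheory.PowerSeries.NoZeroDivisors

set_option autoImplicit false
universe u
open TFCurv

namespace Groth.Agent.S15015

theorem exists_common_denominator {k : Type u} [Field k] (A : Subalgebra k (PowerSeries k))
    (hA : Module.Finite ↥A (PowerSeries k))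
    (hbir : ∀ f : PowerSeries k, ∃ a ∈ A, a ≠ 0 ∧ a * f ∈ A) :
    ∃ a ∈ A, a ≠ 0 ∧ ∀ f : PowerSeries k, a * f ∈ A := by
  classical
  obtain ⟨S, hS⟩ := hA.fg_top
  choose d hdA hd0 hd using hbir
  refine ⟨∏ s ∈ S, d s, Subalgebra.prod_mem _ (fun s _ => hdA s),
    Finset.prod_ne_zero_iff.mpr (fun s _ => hd0 s), ?_⟩
  intro f
  have hf : f ∈ Submodule.span ↥A (S : Set (PowerSeries k)) := by
    rw [hS]
    trivial
  induction hf using Submodule.span_induction with
  | mem x hx =>
    rw [← Finset.prod_erase_mul S d hx, mul_assoc]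
    exact A.mul_mem (Subalgebra.prod_mem _ (fun s _ => hdA s)) (hd x)
  | zero =>
    rw [mul_zero]
    exact A.zero_mem
  | add x y _ _ hx hy =>
    rw [mul_add]
    exact A.add_mem hx hy
  | smul r x _ hx =>
    have e : (∏ s ∈ S, d s) * (r • x) = (r : PowerSeries k) * ((∏ s ∈ S, d s) * x) := by
      rw [Subalgebra.smul_def, smul_eq_mul]
      ring
    rw [e]
    exact A.mul_mem r.2 hx

theorem exists_order_of_ge {k : Type u} [Field k] (A : Subalgebra k (PowerSeries k))
    (a : PowerSeries k) (ha0 : a ≠ 0) (hmul : ∀ f : PowerSeries k, a * f ∈ A)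
    (n : ℕ) (hn : (PowerSeries.order a).toNat ≤ n) : ∃ b ∈ A, PowerSeries.order b = n := by
  refine ⟨a * PowerSeries.X ^ (n - (PowerSeries.order a).toNat), hmul _, ?_⟩
  rw [PowerSeries.order_mul, PowerSeries.order_X_pow, ← PowerSeries.coe_toNat_order ha0]
  have : (PowerSeries.order a).toNat + (n - (PowerSeries.order a).toNat) = n := by omega
  exact_mod_cast this

theorem mem_of_order_ge {k : Type u} [Field k] (A : Subalgebra k (PowerSeries k))
    (hcl : ∀ f : PowerSeries k,
      (∀ n : ℕ, ∃ g ∈ A, (n : ℕ∞) ≤ PowerSeries.order (f - g)) → f ∈ A)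
    (a : PowerSeries k) (ha0 : a ≠ 0) (hmul : ∀ f : PowerSeries k, a * f ∈ A)
    (f : PowerSeries k) (hf : (((PowerSeries.order a).toNat : ℕ) : ℕ∞) ≤ PowerSeries.order f) :
    f ∈ A := by
  apply hcl
  exact Groth.Agent.Lib.Helper68.ps_approx A _ (exists_order_of_ge A a ha0 hmul) f hf

noncomputable def psi {k : Type u} [Field k] (G : Finset ℕ) :
    (G → k) →ₗ[k] PowerSeries k where
  toFun l := PowerSeries.mk (fun i => if h : i ∈ G then l ⟨i, h⟩ else 0)
  map_add' l l' := by
    ext i
    simp only [PowerSeries.coeff_mk, map_add, Pi.add_apply]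
    split_ifs <;> simp
  map_smul' r l := by
    ext i
    simp only [PowerSeries.coeff_mk, map_smul, Pi.smul_apply, RingHom.id_apply, smul_eq_mul]
    split_ifs <;> simp

theorem coeff_psi {k : Type u} [Field k] (G : Finset ℕ) (l : G → k) (i : ℕ) :
    PowerSeries.coeff i (psi G l) = if h : i ∈ G then l ⟨i, h⟩ else 0 := by
  simp [psi]

theorem surj_aux {k : Type u} [Field k] (A : Subalgebra k (PowerSeries k)) (G : Finset ℕ)
    (hG : ∀ n : ℕ, n ∉ G → ∃ b ∈ A, PowerSeries.order b = n) (m : ℕ)
    (hm : ∀ f : PowerSeries k, (m : ℕ∞) ≤ PowerSeries.order f → f ∈ A) (j : ℕ) :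
    ∀ f : PowerSeries k, ((m - j : ℕ) : ℕ∞) ≤ PowerSeries.order f →
      ∃ l : G → k, f - psi G l ∈ A := by
  classical
  induction j with
  | zero =>
    intro f hf
    refine ⟨0, ?_⟩
    rw [map_zero, sub_zero]
    exact hm f hf
  | succ j ih =>
    intro f hf
    by_cases hmj : m - j = 0
    · apply ih f
      rw [hmj]
      exact bot_le
    · have e1 : m - (j + 1) + 1 = m - j := by omega
      by_cases hi : m - (j + 1) ∈ G
      · obtain ⟨l', hl'⟩ := ih
          (f - psi G (Pi.single ⟨m - (j + 1), hi⟩ (PowerSeries.coeff (m - (j + 1)) f))) (by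
            rw [← e1]
            apply PowerSeries.nat_le_order
            intro i hilt
            rw [map_sub, coeff_psi]
            rcases Nat.lt_succ_iff_lt_or_eq.mp hilt with h | h
            · rw [PowerSeries.coeff_of_lt_order i (lt_of_lt_of_le (by exact_mod_cast h) hf)]
              split_ifs with hiG
              · rw [Pi.single_apply, if_neg]
                · simp
                · intro heq
                  have := congrArg Subtype.val heq
                  simp only at this
                  omega
              · simp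
            · subst h
              rw [dif_pos hi, Pi.single_eq_same, sub_self])
        refine ⟨Pi.single ⟨m - (j + 1), hi⟩ (PowerSeries.coeff (m - (j + 1)) f) + l', ?_⟩
        rw [map_add, ← sub_sub]
        exact hl'
      · obtain ⟨b, hbA, hb⟩ := hG _ hi
        obtain ⟨a', ha'A, ha'⟩ :=
          Groth.Agent.Lib.Helper68.ps_reduce_step A f (m - (j + 1)) hf b hbA hb
        rw [e1] at ha'
        obtain ⟨l, hl⟩ := ih (f - a') ha'
        refine ⟨l, ?_⟩
        have e2 : f - psi G l = (f - a' - psi G l) + a' := by ring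
        rw [e2]
        exact A.add_mem hl ha'A

/-- Let k be an algebraically closed field and A ≠ k[[t]] a k-subalgebra of k[[t]] that is closed in the
t-adic topology, over which k[[t]] is a finite module, and such that every power series is carried
into A by multiplication with some nonzero element of A (so k[[t]] lies in the fraction field of A
and is its normalisation, as for the complete local ring of a unibranch curve singularity), and let
Γ ⊆ ℕ be the set of t-orders of the nonzero elements of A (its value semigroup). Then ℕ ∖ Γ is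
finite and the k-dimension of k[[t]]/A equals the number of gaps of Γ. -/
theorem result (k : Type u) [Field k] [IsAlgClosed k] (A : Subalgebra k (PowerSeries k)) (hA : Module.Finite ↥A (PowerSeries k)) (hcl : ∀ f : PowerSeries k, (∀ n : ℕ, ∃ g ∈ A, (n : ℕ∞) ≤ PowerSeries.order (f - g)) → f ∈ A) (hsing : A ≠ ⊤) (hbir : ∀ f : PowerSeries k, ∃ a ∈ A, a ≠ 0 ∧ a * f ∈ A) (Γ : Set ℕ) (hΓ : ∀ n : ℕ, n ∈ Γ ↔ ∃ f ∈ A, PowerSeries.order f = n) : Γᶜ.Finite ∧ Module.finrank k (PowerSeries k ⧸ Subalgebra.toSubmodule A) = Γᶜ.ncard := by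
  classical
  obtain ⟨a, haA, ha0, hmul⟩ := exists_common_denominator A hA hbir
  have hGfin : Γᶜ.Finite := by
    apply (Set.finite_lt_nat (PowerSeries.order a).toNat).subset
    intro n hn
    by_contra hlt
    apply hn
    rw [hΓ]
    exact exists_order_of_ge A a ha0 hmul n (not_lt.mp hlt)
  refine ⟨hGfin, ?_⟩
  have hGmem : ∀ n, n ∈ hGfin.toFinset ↔ n ∉ Γ := by
    intro n
    rw [Set.Finite.mem_toFinset]
    rfl
  have hinj : Function.Injective
      ((Subalgebra.toSubmodule A).mkQ ∘ₗ psi (k := k) hGfin.toFinset) := by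
    rw [← LinearMap.ker_eq_bot, LinearMap.ker_eq_bot']
    intro l hl
    rw [LinearMap.comp_apply, Submodule.mkQ_apply, Submodule.Quotient.mk_eq_zero] at hl
    have hzero : psi hGfin.toFinset l = 0 := by
      by_contra hne
      have h1 : (PowerSeries.order (psi hGfin.toFinset l)).toNat ∈ Γ := by
        rw [hΓ]
        exact ⟨_, hl, (PowerSeries.coe_toNat_order hne).symm⟩
      have h2 := PowerSeries.coeff_order hne
      rw [coeff_psi] at h2
      split_ifs at h2 with hmem
      · exact (hGmem _).mp hmem h1
      · exact h2 rfl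
    funext n
    have := congrArg (PowerSeries.coeff (n : ℕ)) hzero
    rw [coeff_psi, dif_pos n.2] at this
    simpa using this
  have hsurj : Function.Surjective
      ((Subalgebra.toSubmodule A).mkQ ∘ₗ psi (k := k) hGfin.toFinset) := by
    intro q
    obtain ⟨f, rfl⟩ := Submodule.mkQ_surjective _ q
    obtain ⟨l, hl⟩ := surj_aux A hGfin.toFinset
      (fun n hn => (hΓ n).mp (by
        by_contra hnΓ
        exact hn ((hGmem n).mpr hnΓ)))
      (PowerSeries.order a).toNat
      (fun f hf => mem_of_order_ge A hcl a ha0 hmul f hf)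
      (PowerSeries.order a).toNat f (by
        rw [Nat.sub_self]
        exact bot_le)
    refine ⟨l, ?_⟩
    rw [LinearMap.comp_apply, Submodule.mkQ_apply, Submodule.mkQ_apply, eq_comm,
      Submodule.Quotient.eq]
    exact hl
  have e := LinearEquiv.ofBijective _ ⟨hinj, hsurj⟩
  rw [← e.finrank_eq, Module.finrank_fintype_fun_eq_card, Fintype.card_coe,
    Set.ncard_eq_toFinset_card _ hGfin]

end Groth.Agent.S15015
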