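import Groth.Statements.S15017
-- import your own Groth.Agent.* helpers here

set_option autoImplicit false
open TFCurv

namespace Groth.Agent.S15017

theorem key_step (Γ : AddSubmonoid ℕ) (c : ℕ) (hc : ∀ n : ℕ, c ≤ n → n ∈ Γ) (hc0 : c ≠ 0)
    (hc1 : c - 1 ∉ Γ) (hsymm : ∀ x : ℕ, x < c → (x ∉ Γ ↔ c - 1 - x ∈ Γ))
    (he : (1 : ℕ) ∉ Γ ∧ (2 : ℕ) ∉ Γ) (n : ℕ) (hn : c ≤ n) :
    ∃ γ : ℕ, γ ∈ Γ ∧ 0 < γ ∧ γ < c ∧ γ ≤ n ∧ n - γ ∈ Γ := by
  classical
  have hex : ∃ e, e ∈ Γ ∧ e ≠ 0 := ⟨c, hc c le_rfl, hc0⟩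
  obtain ⟨e, ⟨heΓ, he0⟩, hemin'⟩ : ∃ e, (e ∈ Γ ∧ e ≠ 0) ∧ ∀ m, m < e → ¬ (m ∈ Γ ∧ m ≠ 0) :=
    ⟨Nat.find hex, Nat.find_spec hex, fun m hm => Nat.find_min hex hm⟩
  have hemin : ∀ γ, γ ∈ Γ → γ ≠ 0 → e ≤ γ := by
    intro γ hγ hγ0
    by_contra hlt
    exact hemin' γ (not_le.mp hlt) ⟨hγ, hγ0⟩
  have he3 : 3 ≤ e := by
    by_contra hlt
    have : e = 1 ∨ e = 2 := by omega
    rcases this with h | h
    · exact he.1 (h ▸ heΓ)
    · exact he.2 (h ▸ heΓ)
  have hec : e ≤ c := hemin c (hc c le_rfl) hc0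
  have hc2 : c - 2 ∈ Γ := by
    have := (hsymm 1 (by omega)).mp he.1
    have e1 : c - 1 - 1 = c - 2 := by omega
    rwa [e1] at this
  have hc3 : c - 3 ∈ Γ := by
    have := (hsymm 2 (by omega)).mp he.2
    have e1 : c - 1 - 2 = c - 3 := by omega
    rwa [e1] at this
  have hec' : e < c := by
    by_contra hge
    have hce : c = e := by omega
    have h0 : c - 2 = 0 := by
      by_contra hne
      have := hemin _ hc2 hne
      omega
    omega
  have hec2 : e ≤ c - 2 := by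
    have hne : e ≠ c - 1 := by
      intro h
      exact hc1 (h ▸ heΓ)
    omega
  have hsmall : ∀ x, 0 < x → x < e → x ∉ Γ := by
    intro x hx0 hxe hxΓ
    have := hemin x hxΓ (by omega)
    omega
  have hexg : ∃ g, g ∈ Γ ∧ ¬ e ∣ g := by
    by_cases hd : e ∣ c - 3
    · refine ⟨c - 2, hc2, fun hd2 => ?_⟩
      have e1 : c - 2 - (c - 3) = 1 := by omega
      have := Nat.dvd_sub hd2 hd
      rw [e1, Nat.dvd_one] at this
      omega
    · exact ⟨c - 3, hc3, hd⟩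
  obtain ⟨g, ⟨hgΓ, hgnd⟩, hgmin'⟩ : ∃ g, (g ∈ Γ ∧ ¬ e ∣ g) ∧ ∀ m, m < g → ¬ (m ∈ Γ ∧ ¬ e ∣ m) :=
    ⟨Nat.find hexg, Nat.find_spec hexg, fun m hm => Nat.find_min hexg hm⟩
  have hgc : g ≤ c - 2 := by
    by_contra hgt
    have hgt' : c - 2 < g := not_le.mp hgt
    by_cases hd : e ∣ c - 3
    · apply hgmin' (c - 2) hgt'
      refine ⟨hc2, fun hd2 => ?_⟩
      have e1 : c - 2 - (c - 3) = 1 := by omega
      have := Nat.dvd_sub hd2 hd
      rw [e1, Nat.dvd_one] at this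
      omega
    · exact hgmin' (c - 3) (by omega) ⟨hc3, hd⟩
  have hg0 : g ≠ 0 := by
    rintro rfl
    exact hgnd (dvd_zero e)
  have hge : e ≤ g := hemin g hgΓ hg0
  have hgne : g ≠ e := by
    rintro rfl
    exact hgnd dvd_rfl
  have hgeΓ : g - e ∉ Γ := by
    intro hmem
    apply hgmin' (g - e) (by omega)
    refine ⟨hmem, fun hd => ?_⟩
    apply hgnd
    have := Nat.dvd_add hd (dvd_refl e)
    rwa [Nat.sub_add_cancel hge] at this
  by_cases h1 : c ≤ n - e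
  · exact ⟨e, heΓ, by omega, hec', by omega, hc _ h1⟩
  · by_cases h2 : n - (c - 1) < e
    · refine ⟨e, heΓ, by omega, hec', by omega, ?_⟩
      have hx : e - (n - (c - 1)) ∉ Γ := hsmall _ (by omega) (by omega)
      have := (hsymm _ (by omega)).mp hx
      have e1 : c - 1 - (e - (n - (c - 1))) = n - e := by omega
      rwa [e1] at this
    · have hn' : n = c - 1 + e := by omega
      refine ⟨g, hgΓ, by omega, by omega, by omega, ?_⟩
      have := (hsymm (g - e) (by omega)).mp hgeΓ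
      have e1 : c - 1 - (g - e) = n - g := by omega
      rwa [e1] at this

/-- Let Γ be a numerical semigroup (a submonoid of (ℕ, +) with finite complement), Γ ≠ ℕ, with conductor
c (every n ≥ c lies in Γ, c − 1 does not). If Γ is symmetric (for x < c, x is a gap exactly when c −
1 − x ∈ Γ) and has multiplicity greater than 2 (neither 1 nor 2 lies in Γ), then Γ is generated by
its elements smaller than c: every minimal generator of Γ is less than the conductor. -/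
theorem result (Γ : AddSubmonoid ℕ) (c : ℕ) (hc : ∀ n : ℕ, c ≤ n → n ∈ Γ) (hc0 : c ≠ 0) (hc1 : c - 1 ∉ Γ) (hsymm : ∀ x : ℕ, x < c → (x ∉ Γ ↔ c - 1 - x ∈ Γ)) (he : (1 : ℕ) ∉ Γ ∧ (2 : ℕ) ∉ Γ) : AddSubmonoid.closure {γ : ℕ | γ ∈ Γ ∧ γ < c} = Γ := by
  apply le_antisymm
  · rw [AddSubmonoid.closure_le]
    intro γ hγ
    exact hγ.1
  · intro n hn
    induction n using Nat.strong_induction_on with
    | _ n ih =>
      by_cases hlt : n < c
      · exact AddSubmonoid.subset_closure ⟨hn, hlt⟩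
      · obtain ⟨γ, hγΓ, hγ0, hγc, hγn, hrest⟩ :=
          key_step Γ c hc hc0 hc1 hsymm he n (not_lt.mp hlt)
        have h1 := ih (n - γ) (by omega) hrest
        have h2 : γ ∈ AddSubmonoid.closure {γ : ℕ | γ ∈ Γ ∧ γ < c} :=
          AddSubmonoid.subset_closure ⟨hγΓ, hγc⟩
        have e1 : n = γ + (n - γ) := by omega
        rw [e1]
        exact AddSubmonoid.add_mem _ h2 h1

end Groth.Agent.S15017
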