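import Groth.Statements.S15018
-- import your own Groth.Agent.* helpers here

set_option autoImplicit false
open TFCurv

namespace Groth.Agent.S15018

/-- Let Γ be a numerical semigroup (a submonoid of (ℕ, +) with finite complement), Γ ≠ ℕ, with conductor
c (every n ≥ c lies in Γ, c − 1 does not). Then Γ is symmetric (for x < c, x is a gap exactly when c
− 1 − x ∈ Γ) if and only if there is exactly one gap n of Γ such that Γ ∪ {n} is again stable under
adding elements of Γ, i.e. n + γ ∈ Γ for every nonzero γ ∈ Γ. -/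
theorem result (Γ : AddSubmonoid ℕ) (c : ℕ) (hc : ∀ n : ℕ, c ≤ n → n ∈ Γ) (hc0 : c ≠ 0) (hc1 : c - 1 ∉ Γ) : (∀ x : ℕ, x < c → (x ∉ Γ ↔ c - 1 - x ∈ Γ)) ↔ ∃! n : ℕ, n ∉ Γ ∧ ∀ γ : ℕ, γ ∈ Γ → γ ≠ 0 → n + γ ∈ Γ := by
  have hgap : ∀ n, n ∉ Γ → n < c := by
    intro n hn
    by_contra h
    exact hn (hc n (not_lt.mp h))
  have hPF : c - 1 ∉ Γ ∧ ∀ γ : ℕ, γ ∈ Γ → γ ≠ 0 → c - 1 + γ ∈ Γ := by
    refine ⟨hc1, fun γ _ hγ0 => hc _ (by omega)⟩
  constructor
  · intro hsymm
    refine ⟨c - 1, hPF, ?_⟩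
    rintro n ⟨hn, hadd⟩
    by_contra hne
    have hlt := hgap n hn
    have hmem : c - 1 - n ∈ Γ := (hsymm n hlt).mp hn
    have := hadd _ hmem (by omega)
    apply hc1
    have e : c - 1 = n + (c - 1 - n) := by omega
    rw [e]
    exact this
  · rintro ⟨m, _, huniq⟩ x hx
    constructor
    · intro hxΓ
      classical
      have hfin : {y | y ∉ Γ ∧ ∃ γ ∈ Γ, y = x + γ}.Finite :=
        (Set.finite_lt_nat c).subset (fun y hy => hgap y hy.1)
      obtain ⟨y, ⟨hy, γ0, hγ0, hyx⟩, hmax⟩ :=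
        Set.Finite.exists_maximal hfin ⟨x, hxΓ, 0, Γ.zero_mem, by simp⟩
      have hyPF : y ∉ Γ ∧ ∀ γ : ℕ, γ ∈ Γ → γ ≠ 0 → y + γ ∈ Γ := by
        refine ⟨hy, fun γ hγ hγne => ?_⟩
        by_contra hnot
        have hle : y + γ ≤ y := hmax (y := y + γ)
          ⟨hnot, γ0 + γ, Γ.add_mem hγ0 hγ, by omega⟩ (by omega)
        omega
      have h1 := huniq y hyPF
      have h2 := huniq (c - 1) hPF
      have e : c - 1 - x = γ0 := by omega
      rw [e]
      exact hγ0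
    · intro hmem hxΓ
      apply hc1
      have e : c - 1 = x + (c - 1 - x) := by omega
      rw [e]
      exact Γ.add_mem hxΓ hmem

end Groth.Agent.S15018
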