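import Groth.Statements.S15019
import Mathlib.Order.Interval.Finset.Nat
-- import your own Groth.Agent.* helpers here

set_option autoImplicit false
open TFCurv

namespace Groth.Agent.S15019

theorem encard_le_of_mod (e : ℕ) (he0 : e ≠ 0) (A : Set ℕ) (h0 : ∀ n ∈ A, n % e ≠ 0)
    (hinj : ∀ n ∈ A, ∀ n' ∈ A, n < n' → n % e ≠ n' % e) :
    A.encard ≤ ((e - 1 : ℕ) : ℕ∞) := by
  have hinjOn : Set.InjOn (fun n => n % e) A := by
    intro a ha b hb hab
    simp only at hab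
    rcases lt_trichotomy a b with h | h | h
    · exact absurd hab (hinj a ha b hb h)
    · exact h
    · exact absurd hab.symm (hinj b hb a ha h)
  rw [← hinjOn.encard_image]
  have hsub : (fun n => n % e) '' A ⊆ ((Finset.Icc 1 (e - 1) : Finset ℕ) : Set ℕ) := by
    rintro _ ⟨n, hn, rfl⟩
    simp only [Finset.coe_Icc, Set.mem_Icc]
    have := h0 n hn
    have := Nat.mod_lt n (Nat.pos_of_ne_zero he0)
    omega
  refine (Set.encard_le_encard hsub).trans ?_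
  rw [Set.encard_coe_eq_coe_finsetCard]
  simp

/-- Let Γ be a numerical semigroup (a submonoid of (ℕ, +) with finite complement), Γ ≠ ℕ, with conductor
c (every n ≥ c lies in Γ, c − 1 does not), let e be its multiplicity (the least nonzero element of
Γ), and let S ⊆ ℕ be a Γ-module in normal form: 0 ∈ S and γ + s ∈ S for all γ ∈ Γ, s ∈ S. Then the
set of gaps n of S with S ∪ {n} again a Γ-module (n + γ ∈ S for every nonzero γ ∈ Γ) has at most e −
1 elements, and so does the set of nonzero s ∈ S with S ∖ {s} again a Γ-module (s − γ ∉ S for every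
nonzero γ ∈ Γ with γ ≤ s). -/
theorem result (Γ : AddSubmonoid ℕ) (c : ℕ) (hc : ∀ n : ℕ, c ≤ n → n ∈ Γ) (hc0 : c ≠ 0) (hc1 : c - 1 ∉ Γ) (e : ℕ) (he : e ∈ Γ) (he0 : e ≠ 0) (hemin : ∀ γ : ℕ, γ ∈ Γ → γ ≠ 0 → e ≤ γ) (S : Set ℕ) (hS0 : (0 : ℕ) ∈ S) (hS : ∀ γ : ℕ, γ ∈ Γ → ∀ s : ℕ, s ∈ S → γ + s ∈ S) : {n : ℕ | n ∉ S ∧ ∀ γ : ℕ, γ ∈ Γ → γ ≠ 0 → n + γ ∈ S}.encard ≤ ((e - 1 : ℕ) : ℕ∞) ∧ {s : ℕ | s ∈ S ∧ s ≠ 0 ∧ ∀ γ : ℕ, γ ∈ Γ → γ ≠ 0 → γ ≤ s → s - γ ∉ S}.encard ≤ ((e - 1 : ℕ) : ℕ∞) := by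
  have hΓS : ∀ γ : ℕ, γ ∈ Γ → γ ∈ S := by
    intro γ hγ
    have := hS γ hγ 0 hS0
    simpa using this
  have hke : ∀ k : ℕ, e * k ∈ Γ := by
    intro k
    have := Γ.nsmul_mem he k
    rwa [smul_eq_mul, mul_comm] at this
  constructor
  · apply encard_le_of_mod e he0
    · rintro n ⟨hn, _⟩ hmod
      apply hn
      apply hΓS
      obtain ⟨k, rfl⟩ := Nat.dvd_of_mod_eq_zero hmod
      exact hke k
    · rintro n ⟨_, hadd⟩ n' ⟨hn', _⟩ hlt hmod
      have h1 : (n' - n) % e = 0 := Nat.sub_mod_eq_zero_of_mod_eq hmod.symm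
      obtain ⟨k, hk⟩ := Nat.dvd_of_mod_eq_zero h1
      apply hn'
      have e1 : n' = n + e * k := by omega
      rw [e1]
      apply hadd _ (hke k)
      intro h
      omega
  · apply encard_le_of_mod e he0
    · rintro s ⟨_, hs0, hrem⟩ hmod
      obtain ⟨k, rfl⟩ := Nat.dvd_of_mod_eq_zero hmod
      apply hrem _ (hke k) hs0 le_rfl
      simpa using hS0
    · rintro s ⟨hs, _, _⟩ s' ⟨_, _, hrem'⟩ hlt hmod
      have h1 : (s' - s) % e = 0 := Nat.sub_mod_eq_zero_of_mod_eq hmod.symm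
      obtain ⟨k, hk⟩ := Nat.dvd_of_mod_eq_zero h1
      apply hrem' _ (hke k) (by omega) (by omega)
      have e1 : s' - e * k = s := by omega
      rw [e1]
      exact hs

end Groth.Agent.S15019
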