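import Groth.Statements.S15024
import Groth.Agent.Lib.Helper68.TorMod
import Mathlib.RingTheory.Flat.Localization
import Mathlib.RingTheory.Flat.Stability

set_option autoImplicit false
universe u
open CategoryTheory
open TFCurv

namespace Groth.Agent.S15024

open Groth.Agent.Lib.Helper68

/-- tensoring an injective map out of a flat module with a submodule of a flat module stays
injective -/
lemma lTensor_injective_of_embeds {O : Type u} [CommRing O] {E K P M : Type u}
    [AddCommGroup E] [Module O E] [AddCommGroup K] [Module O K] [Module.Flat O K]
    [AddCommGroup P] [Module O P] [Module.Flat O P] [AddCommGroup M] [Module O M]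
    (ι : E →ₗ[O] K) (hι : Function.Injective ι) (f : P →ₗ[O] M) (hf : Function.Injective f) :
    Function.Injective (f.lTensor E) := by
  have h1 : Function.Injective (f.lTensor K) :=
    Module.Flat.lTensor_preserves_injective_linearMap f hf
  have h2 : Function.Injective (ι.rTensor P) :=
    Module.Flat.rTensor_preserves_injective_linearMap ι hι
  have h3 : (ι.rTensor M) ∘ₗ (f.lTensor E) = (f.lTensor K) ∘ₗ (ι.rTensor P) := by
    rw [LinearMap.rTensor_comp_lTensor, LinearMap.lTensor_comp_rTensor]
  have h4 : Function.Injective ((ι.rTensor M) ∘ (f.lTensor E)) := by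
    have : ((ι.rTensor M) ∘ (f.lTensor E)) = ((f.lTensor K) ∘ (ι.rTensor P)) := by
      funext x
      exact LinearMap.congr_fun h3 x
    rw [this]
    exact h1.comp h2
  exact Function.Injective.of_comp h4

/-- Let O be a one-dimensional Noetherian local domain with algebraically closed residue field whose
integral closure O~ in its fraction field K is a finite O-module, M a finitely generated
torsion-free O-module and f : O^n → M an injective O-linear map whose cokernel T has finite length.
Then Tor_1^O(O~, M) and Tor_1^O(O~, T) are isomorphic (existence of an isomorphism only), and O~ ⊗_O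
f : O~ ⊗ O^n → O~ ⊗ M is injective, so that 0 → O~^n → O~ ⊗ M → O~ ⊗ T → 0 is exact. -/
theorem result (O : Type u) [CommRing O] [IsDomain O] [IsNoetherianRing O] [IsLocalRing O] (hdim : ringKrullDim O = 1) [IsAlgClosed (IsLocalRing.ResidueField O)] (K : Type u) [Field K] [Algebra O K] [IsFractionRing O K] (hfin : Module.Finite O ↥(integralClosure O K)) (M : Type u) [AddCommGroup M] [Module O M] [Module.Finite O M] [NoZeroSMulDivisors O M] (n : ℕ) (f : (Fin n → O) →ₗ[O] M) (hf : Function.Injective f) (hT : IsFiniteLength O (M ⧸ LinearMap.range f)) : Nonempty (((Tor (ModuleCat.{u} O) 1).obj (ModuleCat.of O ↥(integralClosure O K))).obj (ModuleCat.of O M) ≅ ((Tor (ModuleCat.{u} O) 1).obj (ModuleCat.of O ↥(integralClosure O K))).obj (ModuleCat.of O (M ⧸ LinearMap.range f))) ∧ Function.Injective (LinearMap.lTensor ↥(integralClosure O K) f) := by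
  have : Module.Flat O K := IsLocalization.flat K (nonZeroDivisors O)
  have hinj : Function.Injective (LinearMap.lTensor ↥(integralClosure O K) f) :=
    lTensor_injective_of_embeds (integralClosure O K).val.toLinearMap Subtype.val_injective f hf
  refine ⟨?_, hinj⟩
  have hex : Function.Exact f (LinearMap.range f).mkQ := LinearMap.exact_map_mkQ_range f
  have hiso := TorMod.isIso_tor_one_map (ModuleCat.of O ↥(integralClosure O K)) f
    (LinearMap.range f).mkQ hex hf (Submodule.mkQ_surjective _)
    (TorMod.isZero_tor_succ_of_projective _ (Fin n → O) 0) hinj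
  exact ⟨asIso (((Tor (ModuleCat.{u} O) 1).obj (ModuleCat.of O ↥(integralClosure O K))).map
    (ModuleCat.ofHom (LinearMap.range f).mkQ))⟩

end Groth.Agent.S15024
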