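import Groth.Statements.S15025
import Groth.Agent.Lib.Helper68.TorMod
import Mathlib.RingTheory.Flat.Localization
import Mathlib.RingTheory.Flat.Stability
import Mathlib.RingTheory.HopkinsLevitzki
import Mathlib.RingTheory.KrullDimension.Field

set_option autoImplicit false
universe u
open CategoryTheory
open TFCurv

namespace Groth.Agent.S15025

open Groth.Agent.Lib.Helper68

/-- tensoring an injective map out of a flat module with a submodule of a flat module stays
injective -/
lemma lTensor_injective_of_embeds {O : Type u} [CommRing O] {E K P M : Type u}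
    [AddCommGroup E] [Module O E] [AddCommGroup K] [Module O K] [Module.Flat O K]
    [AddCommGroup P] [Module O P] [Module.Flat O P] [AddCommGroup M] [Module O M]
    (ι : E →ₗ[O] K) (hι : Function.Injective ι) (f : P →ₗ[O] M) (hf : Function.Injective f) :
    Function.Injective (f.lTensor E) := by
  have h1 : Function.Injective (f.lTensor K) :=
    Module.Flat.lTensor_preserves_injective_linearMap f hf
  have h2 : Function.Injective (ι.rTensor P) :=
    Module.Flat.rTensor_preserves_injective_linearMap ι hι
  have h3 : (ι.rTensor M) ∘ₗ (f.lTensor E) = (f.lTensor K) ∘ₗ (ι.rTensor P) := by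
    rw [LinearMap.rTensor_comp_lTensor, LinearMap.lTensor_comp_rTensor]
  have h4 : Function.Injective ((ι.rTensor M) ∘ (f.lTensor E)) := by
    have : ((ι.rTensor M) ∘ (f.lTensor E)) = ((f.lTensor K) ∘ (ι.rTensor P)) := by
      funext x
      exact LinearMap.congr_fun h3 x
    rw [this]
    exact h1.comp h2
  exact Function.Injective.of_comp h4

/-- over a domain that is not a field, every element of a module of finite length is killed by
a nonzero scalar -/
lemma exists_ne_zero_smul_eq_zero {O Q : Type u} [CommRing O] [IsDomain O] (hnf : ¬ IsField O)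
    [AddCommGroup Q] [Module O Q] (hQ : IsFiniteLength O Q) (q : Q) :
    ∃ a : O, a ≠ 0 ∧ a • q = 0 := by
  by_contra hcon
  push Not at hcon
  have hinj : Function.Injective (LinearMap.toSpanSingleton O Q q) := by
    rw [← LinearMap.ker_eq_bot, eq_bot_iff]
    intro a ha
    by_contra h0
    exact hcon a h0 (by simpa using ha)
  have h1 : IsFiniteLength O O := hQ.of_injective hinj
  have h2 : IsArtinianRing O := (isFiniteLength_iff_isNoetherian_isArtinian.mp h1).2
  exact hnf (IsArtinianRing.isField_of_isDomain O)

lemma exists_ne_zero_kill {O Q : Type u} [CommRing O] [IsDomain O] [AddCommGroup Q] [Module O Q]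
    (ht : ∀ q : Q, ∃ a : O, a ≠ 0 ∧ a • q = 0) (S : Submodule O Q) (hS : S.FG) :
    ∃ a : O, a ≠ 0 ∧ ∀ q ∈ S, a • q = 0 := by
  induction S, hS using Submodule.fg_induction with
  | singleton x =>
    obtain ⟨a, ha, hax⟩ := ht x
    refine ⟨a, ha, fun y hy => ?_⟩
    obtain ⟨c, rfl⟩ := Submodule.mem_span_singleton.mp hy
    rw [smul_comm, hax, smul_zero]
  | sup M₁ M₂ _ _ h1 h2 =>
    obtain ⟨a1, ha1, h1⟩ := h1
    obtain ⟨a2, ha2, h2⟩ := h2
    refine ⟨a1 * a2, mul_ne_zero ha1 ha2, fun y hy => ?_⟩
    obtain ⟨y1, hy1, y2, hy2, rfl⟩ := Submodule.mem_sup.mp hy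
    rw [smul_add, mul_smul, mul_smul, h2 y2 hy2, smul_zero, add_zero, smul_comm, h1 y1 hy1,
      smul_zero]

/-- Let O be a one-dimensional Noetherian local domain with algebraically closed residue field whose
integral closure O~ in its fraction field K is a finite O-module, M a finitely generated
torsion-free O-module and g : M → O^n an injective O-linear map whose cokernel T' has finite length.
Then the torsion submodule of O~ ⊗_O M is O-linearly isomorphic to Tor_1^O(O~, T') (existence of an
isomorphism only). -/
theorem result (O : Type u) [CommRing O] [IsDomain O] [IsNoetherianRing O] [IsLocalRing O] (hdim : ringKrullDim O = 1) [IsAlgClosed (IsLocalRing.ResidueField O)] (K : Type u) [Field K] [Algebra O K] [IsFractionRing O K] (hfin : Module.Finite O ↥(integralClosure O K)) (M : Type u) [AddCommGroup M] [Module O M] [Module.Finite O M] [NoZeroSMulDivisors O M] (n : ℕ) (g : M →ₗ[O] (Fin n → O)) (hg : Function.Injective g) (hT : IsFiniteLength O ((Fin n → O) ⧸ LinearMap.range g)) : Nonempty (↥(Submodule.torsion O (TensorProduct O ↥(integralClosure O K) M)) ≃ₗ[O] ↑(((Tor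 (ModuleCat.{u} O) 1).obj (ModuleCat.of O ↥(integralClosure O K))).obj (ModuleCat.of O ((Fin n → O) ⧸ LinearMap.range g)))) := by
  have : Module.Flat O K := IsLocalization.flat K (nonZeroDivisors O)
  have hnf : ¬ IsField O := by
    intro hF
    have h0 := ringKrullDim_eq_zero_of_isField hF
    rw [hdim] at h0
    exact one_ne_zero h0
  have hex : Function.Exact g (LinearMap.range g).mkQ := LinearMap.exact_map_mkQ_range g
  obtain ⟨e⟩ := TorMod.tor_one_linearEquiv_ker (ModuleCat.of O ↥(integralClosure O K)) g
    (LinearMap.range g).mkQ hex hg (Submodule.mkQ_surjective _)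
    (TorMod.isZero_tor_succ_of_projective _ (Fin n → O) 0)
  have hker : LinearMap.ker (g.lTensor ↥(integralClosure O K)) =
      Submodule.torsion O (TensorProduct O ↥(integralClosure O K) M) := by
    apply le_antisymm
    · intro x hx
      obtain ⟨a, ha0, ha⟩ := exists_ne_zero_kill
        (fun q => exists_ne_zero_smul_eq_zero hnf hT q) ⊤ Module.Finite.fg_top
      have hmem : ∀ y : Fin n → O, a • y ∈ LinearMap.range g := by
        intro y
        have := ha (Submodule.Quotient.mk y) Submodule.mem_top
        rwa [← Submodule.Quotient.mk_smul, Submodule.Quotient.mk_eq_zero] at this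
      let g' := LinearEquiv.ofInjective g hg
      let h : (Fin n → O) →ₗ[O] M := g'.symm.toLinearMap ∘ₗ
        (LinearMap.codRestrict (LinearMap.range g) (a • LinearMap.id) hmem)
      have hgh : ∀ y, g (h y) = a • y := by
        intro y
        have : (g' (h y) : Fin n → O) = a • y := by
          simp [h]
        rwa [LinearEquiv.ofInjective_apply] at this
      have hhg : h ∘ₗ g = a • LinearMap.id := by
        ext m : 1
        apply hg
        simp only [LinearMap.comp_apply, hgh, LinearMap.smul_apply, LinearMap.id_apply, map_smul]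
      have hcomp : (h.lTensor ↥(integralClosure O K)) ∘ₗ (g.lTensor ↥(integralClosure O K)) =
          a • LinearMap.id := by
        rw [← LinearMap.lTensor_comp, hhg, LinearMap.lTensor_smul, LinearMap.lTensor_id]
      rw [Submodule.mem_torsion_iff]
      refine ⟨⟨a, mem_nonZeroDivisors_of_ne_zero ha0⟩, ?_⟩
      have := LinearMap.congr_fun hcomp x
      rw [LinearMap.comp_apply, LinearMap.mem_ker.mp hx, map_zero] at this
      simpa using this.symm
    · intro x hx
      rw [Submodule.mem_torsion_iff] at hx
      obtain ⟨⟨a, ha⟩, hax⟩ := hx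
      have ha0 : a ≠ 0 := nonZeroDivisors.ne_zero ha
      have hμ : Function.Injective ((a • LinearMap.id : (Fin n → O) →ₗ[O] (Fin n → O))) := by
        intro y z hyz
        simpa [ha0] using hyz
      have hinj := lTensor_injective_of_embeds (integralClosure O K).val.toLinearMap
        Subtype.val_injective _ hμ
      rw [LinearMap.lTensor_smul, LinearMap.lTensor_id] at hinj
      rw [LinearMap.mem_ker]
      apply hinj
      have hax' : a • x = 0 := hax
      simp only [LinearMap.smul_apply, LinearMap.id_apply, smul_zero, ← map_smul, hax', map_zero]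
  exact ⟨(LinearEquiv.ofEq _ _ hker.symm).trans e.symm⟩

end Groth.Agent.S15025
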