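import Groth.Statements.S15029
-- import your own Groth.Agent.* helpers here

set_option autoImplicit false
open TFCurv

namespace Groth.Agent.S15029

/-- Let Γ be a numerical semigroup (a submonoid of (ℕ, +) with finite complement), Γ ≠ ℕ, with conductor
c (every n ≥ c lies in Γ, c − 1 does not), and let S ⊆ ℕ be a Γ-module in normal form (0 ∈ S and γ +
s ∈ S for γ ∈ Γ, s ∈ S). If S ≠ ℕ then some gap n of S can be added (n + γ ∈ S for every nonzero γ ∈
Γ, so S ∪ {n} is a Γ-module), and if S ≠ Γ then some s ∈ S outside Γ can be removed (s − γ ∉ S for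
every nonzero γ ∈ Γ with γ ≤ s, so S ∖ {s} is a Γ-module containing Γ); iterating, S is joined to ℕ
and to Γ by chains in the diagram of Γ-modules, which is therefore connected. -/
theorem result (Γ : AddSubmonoid ℕ) (c : ℕ) (hc : ∀ n : ℕ, c ≤ n → n ∈ Γ) (hc0 : c ≠ 0) (hc1 : c - 1 ∉ Γ) (S : Set ℕ) (hS0 : (0 : ℕ) ∈ S) (hS : ∀ γ : ℕ, γ ∈ Γ → ∀ s : ℕ, s ∈ S → γ + s ∈ S) : (S ≠ Set.univ → ∃ n : ℕ, n ∉ S ∧ ∀ γ : ℕ, γ ∈ Γ → γ ≠ 0 → n + γ ∈ S) ∧ ((↑Γ : Set ℕ) ≠ S → ∃ s : ℕ, s ∈ S ∧ s ∉ Γ ∧ ∀ γ : ℕ, γ ∈ Γ → γ ≠ 0 → γ ≤ s → s - γ ∉ S) := by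
  have hΓS : ∀ γ : ℕ, γ ∈ Γ → γ ∈ S := by
    intro γ hγ
    have := hS γ hγ 0 hS0
    simpa using this
  constructor
  · intro hne
    have hex : ∃ n, n ∉ S := by
      by_contra h
      apply hne
      ext x
      simp only [Set.mem_univ, iff_true]
      by_contra hx
      exact h ⟨x, hx⟩
    have hbdd : ∀ n, n ∉ S → n < c := by
      intro n hn
      by_contra h
      exact hn (hΓS n (hc n (not_lt.mp h)))
    classical
    obtain ⟨n, hn, hmax⟩ : ∃ n, n ∉ S ∧ ∀ m, m ∉ S → m ≤ n := by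
      have hfin : {n | n ∉ S}.Finite := (Set.finite_lt_nat c).subset (fun n hn => hbdd n hn)
      obtain ⟨n0, hn0⟩ := hex
      obtain ⟨n, hn, hmax⟩ := Set.Finite.exists_maximal hfin ⟨n0, hn0⟩
      exact ⟨n, hn, fun m hm => by
        by_contra h
        have := hmax hm (le_of_lt (not_le.mp h))
        omega⟩
    refine ⟨n, hn, fun γ hγ hγ0 => ?_⟩
    by_contra h
    have := hmax _ h
    omega
  · intro hne
    have hex : ∃ s, s ∈ S ∧ s ∉ Γ := by
      by_contra h
      apply hne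
      ext x
      constructor
      · exact fun hx => hΓS x hx
      · intro hx
        by_contra hx'
        exact h ⟨x, hx, hx'⟩
    classical
    let s := Nat.find hex
    have hs : s ∈ S ∧ s ∉ Γ := Nat.find_spec hex
    refine ⟨s, hs.1, hs.2, fun γ hγ hγ0 hle hmem => ?_⟩
    have hlt : s - γ < s := by omega
    have := Nat.find_min hex hlt
    have hin : s - γ ∈ Γ := by
      by_contra h
      exact this ⟨hmem, h⟩
    apply hs.2
    have e : s = γ + (s - γ) := by omega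
    rw [e]
    exact Γ.add_mem hγ hin

end Groth.Agent.S15029
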