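import Groth.Statements.S7067
import Groth.Agent.Lib.Helper86.FinFreeRes
import Mathlib

set_option autoImplicit false
universe u
attribute [local instance] HasDerivedCategory.standard
open MoreMor

namespace Groth.Agent.S7067

open CategoryTheory CategoryTheory.Limits DerivedCategory
open Groth.Agent.Lib.Helper86.FinFreeRes


theorem isPseudoCoherentModule'_of_finite (P : Type u) [CommRing P] [IsNoetherianRing P]
    (M : Type u) [AddCommGroup M] [Module P M] [Module.Finite P M] :
    DRing.IsPseudoCoherentModule' P M := by
  let F : FG P := ⟨ModuleCat.of P M, inferInstanceAs (Module.Finite P M)⟩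
  let Rs := F.res
  refine ⟨Rs.cochainComplex, 0, ?_, ?_, ?_⟩
  · intro i hi
    exact CochainComplex.isZero_of_isStrictlyLE _ 0 i hi
  · intro i
    by_cases hi : i ≤ 0
    · obtain ⟨k, rfl⟩ := Int.exists_eq_neg_ofNat hi
      let e : Rs.cochainComplex.X (-(k : ℤ)) ≅ ModuleCat.of P (Fin (F.syz k).rank → P) :=
        Rs.cochainComplexXIso (-(k : ℤ)) k
      exact ⟨Module.Finite.equiv e.toLinearEquiv.symm, Module.Free.of_equiv e.toLinearEquiv.symm⟩
    · have hz : IsZero (Rs.cochainComplex.X i) :=
        CochainComplex.isZero_of_isStrictlyLE _ 0 i (by omega)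
      haveI : Subsingleton (Rs.cochainComplex.X i) := ModuleCat.subsingleton_of_isZero hz
      exact ⟨inferInstance, inferInstance⟩
  · haveI : IsIso (Q.map Rs.π') := by
      rw [isIso_Q_map_iff_quasiIso]
      infer_instance
    exact ⟨asIso (Q.map Rs.π') ≪≫
      ((singleFunctorIsoCompQ (ModuleCat.{u} P) 0).app (ModuleCat.of P M)).symm⟩

/-- A finite type homomorphism of commutative rings A → B with A Noetherian is pseudo-coherent: for some
presentation of B as a quotient of a polynomial ring A[x_1, …, x_n], B is a pseudo-coherent module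
over that polynomial ring. -/
theorem result (A B : Type u) [CommRing A] [CommRing B] [Algebra A B]
    [IsNoetherianRing A] [Algebra.FiniteType A B] : MoreMor.IsPseudoCoherentHom A B := by
  obtain ⟨n, φ, hφ⟩ := Algebra.FiniteType.iff_quotient_mvPolynomial''.1 ‹Algebra.FiniteType A B›
  refine ⟨n, φ, hφ, ?_⟩
  letI := φ.toRingHom.toAlgebra
  haveI : Module.Finite (MvPolynomial (Fin n) A) B :=
    Module.Finite.of_surjective (Algebra.linearMap (MvPolynomial (Fin n) A) B) hφ
  exact isPseudoCoherentModule'_of_finite (MvPolynomial (Fin n) A) B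

end Groth.Agent.S7067
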