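import Groth.Statements.S15034
import Mathlib.Tactic
import Mathlib.RingTheory.Nakayama
import Mathlib.RingTheory.PowerSeries.Inverse
import Mathlib.RingTheory.PowerSeries.Order
import Mathlib.RingTheory.IntegralClosure.IsIntegralClosure.Basic

set_option autoImplicit false
universe u
open TFCurv

namespace Groth.Agent.S15034

variable {k : Type u} [Field k]

/-- the submodule of power series of order at least `c`. -/
def P (A : Subalgebra k (PowerSeries k)) (c : ℕ) : Submodule ↥A (PowerSeries k) where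
  carrier := {f | (c : ℕ∞) ≤ f.order}
  add_mem' := by
    intro f g hf hg
    exact le_trans (le_min hf hg) (PowerSeries.min_order_le_order_add f g)
  zero_mem' := by simp
  smul_mem' := by
    intro a f hf
    change (c : ℕ∞) ≤ ((a : PowerSeries k) * f).order
    rw [PowerSeries.order_mul]
    exact le_trans hf le_add_self

lemma mem_P (A : Subalgebra k (PowerSeries k)) (c : ℕ) (f : PowerSeries k) :
    f ∈ P A c ↔ (c : ℕ∞) ≤ f.order := Iff.rfl

lemma mem_P_iff_dvd (A : Subalgebra k (PowerSeries k)) (c : ℕ) (f : PowerSeries k) :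
    f ∈ P A c ↔ (PowerSeries.X : PowerSeries k) ^ c ∣ f := by
  rw [mem_P, PowerSeries.X_pow_dvd_iff]
  constructor
  · intro h m hm
    exact PowerSeries.coeff_of_lt_order m (lt_of_lt_of_le (by exact_mod_cast hm) h)
  · intro h
    exact PowerSeries.nat_le_order f c h

lemma P_fg (A : Subalgebra k (PowerSeries k)) (hA : Module.Finite ↥A (PowerSeries k)) (c : ℕ) :
    (P A c).FG := by
  have h : P A c = Submodule.map (LinearMap.mulLeft ↥A ((PowerSeries.X : PowerSeries k) ^ c)) ⊤ := by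
    ext f
    rw [mem_P_iff_dvd]
    simp only [Submodule.map_top, LinearMap.mem_range, LinearMap.mulLeft_apply]
    constructor
    · rintro ⟨g, rfl⟩; exact ⟨g, rfl⟩
    · rintro ⟨g, rfl⟩; exact ⟨g, rfl⟩
  rw [h]
  exact Submodule.FG.map _ hA.fg_top

lemma exists_pos_order (A : Subalgebra k (PowerSeries k)) (hA : Module.Finite ↥A (PowerSeries k)) :
    ∃ a ∈ A, a ≠ 0 ∧ PowerSeries.constantCoeff a = 0 := by
  by_contra hcon
  push Not at hcon
  have hbot : A = ⊥ := by
    rw [eq_bot_iff]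
    intro f hf
    have h1 : f - PowerSeries.C (PowerSeries.constantCoeff f) ∈ A :=
      A.sub_mem hf (A.algebraMap_mem _)
    have h2 := hcon _ h1
    have h3 : f - PowerSeries.C (PowerSeries.constantCoeff f) = 0 := by
      by_contra h
      exact h2 h (by simp)
    rw [sub_eq_zero] at h3
    rw [h3]
    exact Subalgebra.algebraMap_mem ⊥ _
  subst hbot
  have hfin : Module.Finite k (PowerSeries k) :=
    Module.Finite.trans (↥(⊥ : Subalgebra k (PowerSeries k))) (PowerSeries k)
  have hint : IsIntegral k (PowerSeries.X : PowerSeries k) := IsIntegral.of_finite k _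
  have hunit : IsUnit (PowerSeries.X : PowerSeries k) := hint.isUnit PowerSeries.X_ne_zero
  rw [PowerSeries.isUnit_iff_constantCoeff] at hunit
  simp at hunit

lemma mem_jacobson (A : Subalgebra k (PowerSeries k)) (hA : Module.Finite ↥A (PowerSeries k))
    (a : ↥A) (ha : PowerSeries.constantCoeff (a : PowerSeries k) = 0) :
    Ideal.span {a} ≤ Ideal.jacobson (⊥ : Ideal ↥A) := by
  rw [Ideal.span_le, Set.singleton_subset_iff, SetLike.mem_coe, Ideal.mem_jacobson_bot]
  intro y
  haveI : Algebra.IsIntegral ↥A (PowerSeries k) := Algebra.IsIntegral.of_finite _ _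
  haveI : IsLocalHom (algebraMap ↥A (PowerSeries k)) := Algebra.IsIntegral.isLocalHom _ _
  apply isUnit_of_map_unit (algebraMap ↥A (PowerSeries k))
  rw [PowerSeries.isUnit_iff_constantCoeff]
  have : (algebraMap ↥A (PowerSeries k)) (a * y + 1) = (a : PowerSeries k) * (y : PowerSeries k) + 1 :=
    rfl
  rw [this]
  simp [ha]

lemma P_le_sup (A : Subalgebra k (PowerSeries k)) (N : Submodule ↥A (PowerSeries k)) (c : ℕ)
    (hN : ∀ n : ℕ, c ≤ n → ∃ h ∈ N, PowerSeries.order h = n) (j : ℕ) :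
    P A c ≤ N ⊔ P A (c + j) := by
  induction j with
  | zero => exact le_sup_right
  | succ j ih =>
    refine le_trans ih (sup_le le_sup_left ?_)
    intro f hf
    rw [mem_P] at hf
    obtain ⟨h, hhN, hord⟩ := hN (c + j) (Nat.le_add_right _ _)
    have hcoeff : PowerSeries.coeff (c + j) h ≠ 0 := by
      have := (PowerSeries.order_eq_nat.mp hord).1
      exact this
    set lam : k := PowerSeries.coeff (c + j) f / PowerSeries.coeff (c + j) h with hlam
    have hmem : (algebraMap k ↥A lam) • h ∈ N := N.smul_mem _ hhN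
    have heq : (algebraMap k ↥A lam) • h = PowerSeries.C lam * h := rfl
    have hdiff : f - PowerSeries.C lam * h ∈ P A (c + (j + 1)) := by
      rw [mem_P]
      apply PowerSeries.nat_le_order
      intro i hi
      rw [map_sub, PowerSeries.coeff_C_mul]
      rcases Nat.lt_or_ge i (c + j) with h1 | h1
      · rw [PowerSeries.coeff_of_lt_order i (lt_of_lt_of_le (by exact_mod_cast h1) hf),
          PowerSeries.coeff_of_lt_order i (by rw [hord]; exact_mod_cast h1)]
        simp
      · have : i = c + j := by omega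
        subst this
        rw [hlam, div_mul_cancel₀ _ hcoeff, sub_self]
    rw [Submodule.mem_sup]
    refine ⟨PowerSeries.C lam * h, heq ▸ hmem, f - PowerSeries.C lam * h, hdiff, by ring⟩

lemma P_le_smul (A : Subalgebra k (PowerSeries k)) (a : ↥A) (e : ℕ)
    (hord : PowerSeries.order (a : PowerSeries k) = e) (c : ℕ) :
    P A (c + e) ≤ Ideal.span {a} • P A c := by
  intro f hf
  rw [mem_P_iff_dvd] at hf
  obtain ⟨g, rfl⟩ := hf
  have ha0 : (a : PowerSeries k) ≠ 0 := by
    intro h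
    rw [h, PowerSeries.order_zero] at hord
    exact ENat.top_ne_coe e hord
  have hdecomp : (a : PowerSeries k) = PowerSeries.X ^ e * PowerSeries.divXPowOrder (a : PowerSeries k) := by
    have := PowerSeries.X_pow_order_mul_divXPowOrder (f := (a : PowerSeries k))
    rw [hord] at this
    simpa using this.symm
  have hunit : IsUnit (PowerSeries.divXPowOrder (a : PowerSeries k)) := by
    rw [PowerSeries.isUnit_iff_constantCoeff, isUnit_iff_ne_zero, Ne,
      PowerSeries.constantCoeff_divXPowOrder_eq_zero_iff]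
    exact ha0
  obtain ⟨v, hv⟩ := hunit.exists_right_inv
  have hfa : PowerSeries.X ^ (c + e) * g = a • (PowerSeries.X ^ c * (v * g)) := by
    change _ = (a : PowerSeries k) * _
    rw [hdecomp]
    calc PowerSeries.X ^ (c + e) * g
        = PowerSeries.X ^ (c + e) * g * (PowerSeries.divXPowOrder (a : PowerSeries k) * v) := by
          rw [hv, mul_one]
      _ = _ := by ring
  rw [hfa]
  apply Submodule.smul_mem_smul (Ideal.mem_span_singleton_self a)
  rw [mem_P_iff_dvd]
  exact Dvd.intro _ rfl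

lemma P_le (A : Subalgebra k (PowerSeries k)) (hA : Module.Finite ↥A (PowerSeries k))
    (N : Submodule ↥A (PowerSeries k)) (c : ℕ)
    (hN : ∀ n : ℕ, c ≤ n → ∃ h ∈ N, PowerSeries.order h = n) :
    P A c ≤ N := by
  obtain ⟨a, haA, ha0, hac⟩ := exists_pos_order A hA
  obtain ⟨e, he⟩ : ∃ e : ℕ, PowerSeries.order a = e := by
    have : PowerSeries.order a ≠ ⊤ := by
      rw [Ne, PowerSeries.order_eq_top]; exact ha0
    exact ⟨(PowerSeries.order a).toNat, (ENat.coe_toNat this).symm⟩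
  apply Submodule.le_of_le_smul_of_le_jacobson_bot (P_fg A hA c)
    (mem_jacobson A hA ⟨a, haA⟩ hac)
  exact le_trans (P_le_sup A N c hN e) (sup_le_sup_left (P_le_smul A ⟨a, haA⟩ e he c) N)

theorem result (k : Type u) [Field k] [IsAlgClosed k] (A : Subalgebra k (PowerSeries k)) (hA : Module.Finite ↥A (PowerSeries k)) (hcl : ∀ f : PowerSeries k, (∀ n : ℕ, ∃ g ∈ A, (n : ℕ∞) ≤ PowerSeries.order (f - g)) → f ∈ A) (hsing : A ≠ ⊤) (Γ : Set ℕ) (hΓ : ∀ n : ℕ, n ∈ Γ ↔ ∃ f ∈ A, PowerSeries.order f = n) (M N : Submodule ↥A (PowerSeries k)) (hMfg : M.FG) (hNfg : N.FG) (hM1 : (1 : PowerSeries k) ∈ M) (hN1 : (1 : PowerSeries k) ∈ N) (ΓM ΓN : Set ℕ) (hΓM : ∀ n : ℕ, n ∈ ΓM ↔ ∃ f ∈ M, PowerSeries.order f = n) (hΓN : ∀ n : ℕ, n ∈ ΓN ↔ ∃ f ∈ N, PowerSeries.order f = n) : (∀ n : ℕ, (∃ u : PowerSeries k, PowerSeries.order u = n ∧ ∀ m ∈ M, u * m ∈ N) → ∀ a ∈ ΓM, n + a ∈ ΓN) ∧ ∀ c' : ℕ, (∀ n : ℕ, c' ≤ n → ∃ u : PowerSeries k, PowerSeries.order u = n ∧ ∀ m ∈ M, u * m ∈ N) ↔ (∀ n : ℕ,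 c' ≤ n → ∀ a ∈ ΓM, n + a ∈ ΓN) := by
  have part1 : ∀ n : ℕ, (∃ u : PowerSeries k, PowerSeries.order u = n ∧ ∀ m ∈ M, u * m ∈ N) →
      ∀ a ∈ ΓM, n + a ∈ ΓN := by
    rintro n ⟨u, hu, huM⟩ a ha
    obtain ⟨f, hfM, hf⟩ := (hΓM a).mp ha
    rw [hΓN]
    refine ⟨u * f, huM f hfM, ?_⟩
    rw [PowerSeries.order_mul, hu, hf]
    norm_cast
  refine ⟨part1, fun c' => ⟨fun h n hn => part1 n (h n hn), fun h n hn => ?_⟩⟩
  have h0 : (0 : ℕ) ∈ ΓM := (hΓM 0).mpr ⟨1, hM1, by simp⟩
  have hN : ∀ n : ℕ, c' ≤ n → ∃ h ∈ N, PowerSeries.order h = n := by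
    intro n hn
    have := h n hn 0 h0
    rw [add_zero] at this
    exact (hΓN n).mp this
  have hP := P_le A hA N c' hN
  refine ⟨PowerSeries.X ^ n, PowerSeries.order_X_pow n, fun m _ => hP ?_⟩
  rw [mem_P, PowerSeries.order_mul, PowerSeries.order_X_pow]
  exact le_trans (by exact_mod_cast hn) le_self_add

end Groth.Agent.S15034
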