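import Groth.Statements.S15036
import Mathlib.Tactic
import Mathlib.Data.Nat.Nth

set_option autoImplicit false
open TFCurv

namespace Groth.Agent.S15036

lemma infinite_of_conductor (S : Set ℕ) (cS : ℕ) (hcS : ∀ n : ℕ, cS ≤ n → n ∈ S) :
    (Set.ofPred (fun m => m ∈ S)).Infinite := by
  apply Set.infinite_of_forall_exists_gt
  intro a
  exact ⟨max cS (a + 1), hcS _ (le_max_left _ _), by
    have := le_max_right cS (a + 1); omega⟩

open Classical in
lemma count_insert (S : Set ℕ) (s : ℕ) (hs : s ∉ S) (x : ℕ) :
    Nat.count (fun m => m ∈ insert s S) x =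
      Nat.count (fun m => m ∈ S) x + if s < x then 1 else 0 := by
  induction x with
  | zero => simp
  | succ x ih =>
    rw [Nat.count_succ, Nat.count_succ, ih]
    by_cases hxs : x = s
    · subst hxs
      simp [hs]
    · by_cases hxS : x ∈ S
      · have h1 : x ∈ insert s S := Set.mem_insert_of_mem _ hxS
        simp only [h1, hxS, if_true]
        by_cases h2 : s < x
        · have h3 : s < x + 1 := by omega
          simp [h2, h3]
        · have h3 : ¬ s < x + 1 := by omega
          simp [h2, h3]
      · have h1 : x ∉ insert s S := by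
          simp only [Set.mem_insert_iff, not_or]
          exact ⟨hxs, hxS⟩
        simp only [h1, hxS, if_false]
        by_cases h2 : s < x
        · have h3 : s < x + 1 := by omega
          simp [h2, h3]
        · have h3 : ¬ s < x + 1 := by omega
          simp [h2, h3]

theorem result (Γ : AddSubmonoid ℕ) (c : ℕ) (hc : ∀ n : ℕ, c ≤ n → n ∈ Γ) (hc0 : c ≠ 0) (hc1 : c - 1 ∉ Γ) (S : Set ℕ) (hS0 : (0 : ℕ) ∈ S) (hS : ∀ γ : ℕ, γ ∈ Γ → ∀ s : ℕ, s ∈ S → γ + s ∈ S) (cS : ℕ) (hcS : ∀ n : ℕ, cS ≤ n → n ∈ S) (hcS0 : cS ≠ 0) (hcS1 : cS - 1 ∉ S) (s : ℕ) (hs : s ∉ S) (hs' : ∀ γ : ℕ, γ ∈ Γ → γ ≠ 0 → s + γ ∈ S) : (∀ i : ℕ, Nat.nth (fun m => m ∈ S) i ≤ Nat.nth (fun m => m ∈ insert s S) i + 1) ↔ s + 1 = cS := by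
  classical
  have hp : (Set.ofPred (fun m => m ∈ S)).Infinite := infinite_of_conductor S cS hcS
  have hp' : (Set.ofPred (fun m => m ∈ insert s S)).Infinite :=
    infinite_of_conductor (insert s S) cS (fun n hn => Set.mem_insert_of_mem _ (hcS n hn))
  constructor
  · intro hcond
    have hall : ∀ n, s < n → n ∈ S := by
      intro g hg
      by_contra hgS
      have h1 : g + 1 ≤ Nat.nth (fun m => m ∈ S) (Nat.count (fun m => m ∈ S) g) := by
        rw [← Nat.count_le_iff_le_nth hp, Nat.count_succ]
        simp [hgS]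
      have h2 : Nat.nth (fun m => m ∈ insert s S) (Nat.count (fun m => m ∈ S) g) < g := by
        rw [← Nat.lt_nth_iff_count_lt hp', count_insert S s hs]
        simp [hg]
      have := hcond (Nat.count (fun m => m ∈ S) g)
      omega
    have h1 : ¬ (s < cS - 1) := fun h => hcS1 (hall _ h)
    have h2 : ¬ (cS ≤ s) := fun h => hs (hcS _ h)
    omega
  · intro hsc i
    set x := Nat.nth (fun m => m ∈ insert s S) i with hx
    have hxmem : x ∈ insert s S := Nat.nth_mem_of_infinite hp' i
    have hcount : Nat.count (fun m => m ∈ insert s S) x = i := Nat.count_nth_of_infinite hp' i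
    have hlt : Nat.nth (fun m => m ∈ S) i < x + 2 := by
      rw [← Nat.lt_nth_iff_count_lt hp, ← hcount, count_insert S s hs]
      rw [show x + 2 = (x + 1) + 1 from rfl, Nat.count_succ, Nat.count_succ]
      rcases hxmem with hxs | hxS
      · have : x + 1 ∈ S := hcS _ (by omega)
        have h3 : ¬ s < x := by omega
        simp only [this, h3, if_true, if_false]
        omega
      · have h4 : x ≠ s := fun h => hs (h ▸ hxS)
        by_cases h3 : s < x
        · have : x + 1 ∈ S := hcS _ (by omega)
          simp only [this, h3, hxS, if_true]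
          omega
        · simp only [h3, hxS, if_true, if_false]
          omega
    omega

end Groth.Agent.S15036
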