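import Groth.Statements.S15037
import Mathlib.Tactic
import Mathlib.Data.Nat.Nth

set_option autoImplicit false
open TFCurv

namespace Groth.Agent.S15037

lemma infinite_of_conductor (S : Set ℕ) (cS : ℕ) (hcS : ∀ n : ℕ, cS ≤ n → n ∈ S) :
    (Set.ofPred (fun m => m ∈ S)).Infinite := by
  apply Set.infinite_of_forall_exists_gt
  intro a
  exact ⟨max cS (a + 1), hcS _ (le_max_left _ _), by
    have := le_max_right cS (a + 1); omega⟩

open Classical in
lemma count_add_count_not (S : Set ℕ) (x : ℕ) :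
    Nat.count (fun m => m ∈ S) x + Nat.count (fun m => m ∉ S) x = x := by
  induction x with
  | zero => simp
  | succ x ih =>
    rw [Nat.count_succ, Nat.count_succ]
    by_cases h : x ∈ S
    · simp only [h, if_true, not_true_eq_false, if_false]; omega
    · simp only [h, if_false, not_false_eq_true, if_true]; omega

open Classical in
lemma ncard_compl_eq (S : Set ℕ) (cS : ℕ) (hcS : ∀ n : ℕ, cS ≤ n → n ∈ S) (x : ℕ) (hx : cS ≤ x) :
    Sᶜ.ncard = Nat.count (fun m => m ∉ S) x := by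
  rw [Nat.count_eq_card_filter_range, ← Set.ncard_coe_finset]
  congr 1
  ext m
  simp only [Set.mem_compl_iff, Finset.coe_filter, Finset.mem_range, Set.mem_setOf_eq]
  constructor
  · intro hm
    refine ⟨?_, hm⟩
    by_contra h
    exact hm (hcS m (by omega))
  · exact fun h => h.2

open Classical in
lemma ncard_inter_eq (S : Set ℕ) (cS : ℕ) :
    (S ∩ Set.Iio cS).ncard = Nat.count (fun m => m ∈ S) cS := by
  rw [Nat.count_eq_card_filter_range, ← Set.ncard_coe_finset]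
  congr 1
  ext m
  simp only [Set.mem_inter_iff, Set.mem_Iio, Finset.coe_filter, Finset.mem_range,
    Set.mem_setOf_eq]
  tauto

open Classical in
/-- `nth S i ≤ i + δ(S)`. -/
lemma nth_le (S : Set ℕ) (cS : ℕ) (hcS : ∀ n : ℕ, cS ≤ n → n ∈ S) (i : ℕ) :
    Nat.nth (fun m => m ∈ S) i ≤ i + Sᶜ.ncard := by
  have hp := infinite_of_conductor S cS hcS
  set x := Nat.nth (fun m => m ∈ S) i with hx
  have hcount : Nat.count (fun m => m ∈ S) x = i := Nat.count_nth_of_infinite hp i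
  have h1 := count_add_count_not S x
  have h2 : Nat.count (fun m => m ∉ S) x ≤ Nat.count (fun m => m ∉ S) (max x cS) :=
    Nat.count_monotone _ (le_max_left _ _)
  rw [← ncard_compl_eq S cS hcS (max x cS) (le_max_right _ _)] at h2
  omega

open Classical in
/-- for `i ≥ r(S)`, `nth S i = i + δ(S)`. -/
lemma nth_eq (S : Set ℕ) (cS : ℕ) (hcS : ∀ n : ℕ, cS ≤ n → n ∈ S) (i : ℕ)
    (hi : (S ∩ Set.Iio cS).ncard ≤ i) :
    Nat.nth (fun m => m ∈ S) i = i + Sᶜ.ncard := by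
  have hp := infinite_of_conductor S cS hcS
  rw [ncard_inter_eq] at hi
  set x := Nat.nth (fun m => m ∈ S) i with hx
  have hcount : Nat.count (fun m => m ∈ S) x = i := Nat.count_nth_of_infinite hp i
  have hxc : cS ≤ x := by
    rw [hx, ← Nat.count_le_iff_le_nth hp]
    exact hi
  have h1 := count_add_count_not S x
  rw [← ncard_compl_eq S cS hcS x hxc] at h1
  omega

open Classical in
/-- for `i < r(S)`, `nth S i + 1 ≤ i + δ(S)`. -/
lemma nth_lt (S : Set ℕ) (cS : ℕ) (hcS : ∀ n : ℕ, cS ≤ n → n ∈ S) (hcS1 : cS = 0 ∨ cS - 1 ∉ S)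
    (i : ℕ) (hi : i < (S ∩ Set.Iio cS).ncard) :
    Nat.nth (fun m => m ∈ S) i + 1 ≤ i + Sᶜ.ncard := by
  have hp := infinite_of_conductor S cS hcS
  rw [ncard_inter_eq] at hi
  set x := Nat.nth (fun m => m ∈ S) i with hx
  have hcount : Nat.count (fun m => m ∈ S) x = i := Nat.count_nth_of_infinite hp i
  have hxmem : x ∈ S := Nat.nth_mem_of_infinite hp i
  have hxc : x < cS := by
    rw [hx, ← Nat.lt_nth_iff_count_lt hp]
    exact hi
  have hc0 : cS ≠ 0 := by omega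
  have hgap : cS - 1 ∉ S := by
    rcases hcS1 with h | h
    · exact absurd h hc0
    · exact h
  have hxne : x ≠ cS - 1 := fun h => hgap (h ▸ hxmem)
  have hxle : x ≤ cS - 1 := by omega
  have h1 := count_add_count_not S x
  have h2 : Nat.count (fun m => m ∉ S) x ≤ Nat.count (fun m => m ∉ S) (cS - 1) :=
    Nat.count_monotone _ hxle
  have h3 : Nat.count (fun m => m ∉ S) cS = Nat.count (fun m => m ∉ S) (cS - 1) + 1 := by
    conv_lhs => rw [show cS = (cS - 1) + 1 by omega]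
    rw [Nat.count_succ]
    simp [hgap]
  rw [← ncard_compl_eq S cS hcS cS le_rfl] at h3
  omega

theorem result (Γ : AddSubmonoid ℕ) (c : ℕ) (hc : ∀ n : ℕ, c ≤ n → n ∈ Γ) (hc0 : c ≠ 0) (hc1 : c - 1 ∉ Γ) (S : Set ℕ) (hS0 : (0 : ℕ) ∈ S) (hS : ∀ γ : ℕ, γ ∈ Γ → ∀ s : ℕ, s ∈ S → γ + s ∈ S) (cS : ℕ) (hcS : ∀ n : ℕ, cS ≤ n → n ∈ S) (hcS1 : cS = 0 ∨ cS - 1 ∉ S) (S' : Set ℕ) (hS'0 : (0 : ℕ) ∈ S') (hS' : ∀ γ : ℕ, γ ∈ Γ → ∀ s : ℕ, s ∈ S' → γ + s ∈ S') (cS' : ℕ) (hcS' : ∀ n : ℕ, cS' ≤ n → n ∈ S') (hcS'1 : cS' = 0 ∨ cS' - 1 ∉ S') : (∀ i : ℕ, Nat.nth (fun m => m ∈ S) i + S'ᶜ.ncard ≤ Nat.nth (fun m => m ∈ S') i + Sᶜ.ncard) ↔ ((S' ∩ Set.Iio cS').ncard ≤ (S ∩ Set.Iio cS).ncard ∧ ∀ i : ℕ, i < (S' ∩ Set.Iio cS').ncard → Nat.nth (fun m => m ∈ S) i + S'ᶜ.ncard ≤ Nat.nth (fun m => m ∈ S') i + Sᶜ.ncard) := by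
  constructor
  · intro h
    refine ⟨?_, fun i _ => h i⟩
    by_contra hlt
    rw [not_le] at hlt
    have hr'pos : 0 < (S' ∩ Set.Iio cS').ncard := by omega
    set i := (S' ∩ Set.Iio cS').ncard - 1 with hi
    have h1 : Nat.nth (fun m => m ∈ S) i = i + Sᶜ.ncard := nth_eq S cS hcS i (by omega)
    have h2 := nth_lt S' cS' hcS' hcS'1 i (by omega)
    have h3 := h i
    omega
  · rintro ⟨hr, h⟩ i
    by_cases hi : i < (S' ∩ Set.Iio cS').ncard
    · exact h i hi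
    · rw [not_lt] at hi
      have h1 := nth_eq S' cS' hcS' i hi
      have h2 := nth_le S cS hcS i
      omega

end Groth.Agent.S15037
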