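import Groth.Statements.S15038
import Mathlib.Tactic
import Mathlib.Data.Nat.ModEq

set_option autoImplicit false
open TFCurv

namespace Groth.Agent.S15038

lemma decomp {e a b : ℕ} (h : a % e = b % e) (hab : a ≤ b) : ∃ k, b = a + k * e := by
  have hd : e ∣ b - a := (Nat.modEq_iff_dvd' hab).mp h
  obtain ⟨k, hk⟩ := hd
  refine ⟨k, ?_⟩
  rw [Nat.mul_comm k e, ← hk]
  omega

lemma add_mul_mem (Γ : AddSubmonoid ℕ) {a e : ℕ} (ha : a ∈ Γ) (he : e ∈ Γ) (k : ℕ) :
    a + k * e ∈ Γ := by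
  have := Γ.nsmul_mem he k
  rw [smul_eq_mul] at this
  exact Γ.add_mem ha this

theorem result (Γ : AddSubmonoid ℕ) (c : ℕ) (hc : ∀ n : ℕ, c ≤ n → n ∈ Γ) (hc0 : c ≠ 0) (hc1 : c - 1 ∉ Γ) (hsymm : ∀ x : ℕ, x < c → (x ∉ Γ ↔ c - 1 - x ∈ Γ)) (e : ℕ) (he : e ∈ Γ) (he0 : e ≠ 0) (hemin : ∀ γ : ℕ, γ ∈ Γ → γ ≠ 0 → e ≤ γ) (he2 : 2 < e) : ∃ G : Finset ℕ, G.card ≤ e - 1 ∧ AddSubmonoid.closure (↑G : Set ℕ) = Γ := by
  classical
  have hepos : 0 < e := Nat.pos_of_ne_zero he0
  -- Apery elements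
  have hne : ∀ i : ℕ, ∃ γ, γ ∈ Γ ∧ γ % e = i % e := by
    intro i
    refine ⟨c * e + i % e, hc _ ?_, ?_⟩
    · have : c ≤ c * e := Nat.le_mul_of_pos_right c hepos
      omega
    · rw [Nat.add_mod, Nat.mul_mod_left, zero_add, Nat.mod_mod, Nat.mod_mod]
  let w : ℕ → ℕ := fun i => Nat.find (hne i)
  have hw1 : ∀ i, w i ∈ Γ := fun i => (Nat.find_spec (hne i)).1
  have hw2 : ∀ i, w i % e = i % e := fun i => (Nat.find_spec (hne i)).2
  have hw3 : ∀ i γ, γ ∈ Γ → γ % e = i % e → w i ≤ γ := fun i γ h1 h2 =>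
    Nat.find_min' (hne i) ⟨h1, h2⟩
  set j0 := (c - 1) % e with hj0
  have hj0lt : j0 < e := Nat.mod_lt _ hepos
  have hj0ne : j0 ≠ 0 := by
    intro h
    apply hc1
    obtain ⟨k, hk⟩ := decomp (e := e) (a := 0) (b := c - 1) (by rw [Nat.zero_mod]; exact h.symm)
      (Nat.zero_le _)
    rw [hk]
    exact add_mul_mem Γ Γ.zero_mem he k
  -- elements with residue j0 are at least c - 1 + e
  have hbig : ∀ γ, γ ∈ Γ → γ % e = j0 → c - 1 + e ≤ γ := by
    intro γ hγ hmod
    by_contra hlt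
    rw [not_le] at hlt
    rcases Nat.lt_or_ge (c - 1) γ with h1 | h1
    · -- c - 1 < γ < c - 1 + e
      obtain ⟨k, hk⟩ := decomp (e := e) (a := c - 1) (b := γ) (by rw [hmod]) h1.le
      rcases Nat.eq_zero_or_pos k with hk0 | hk0
      · subst hk0; omega
      · have : e ≤ k * e := Nat.le_mul_of_pos_left e hk0
        omega
    · obtain ⟨k, hk⟩ := decomp (e := e) (a := γ) (b := c - 1) (by rw [hmod]) h1
      apply hc1
      rw [hk]
      exact add_mul_mem Γ hγ he k
  let G : Finset ℕ := insert e ((((Finset.range e).erase 0).erase j0).image w)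
  have hGcard : G.card ≤ e - 1 := by
    have h1 : (((Finset.range e).erase 0).erase j0).card = e - 2 := by
      rw [Finset.card_erase_of_mem, Finset.card_erase_of_mem, Finset.card_range]
      · rfl
      · simp [hepos]
      · simp [hj0ne, hj0lt]
    calc G.card ≤ ((((Finset.range e).erase 0).erase j0).image w).card + 1 :=
          Finset.card_insert_le _ _
      _ ≤ (((Finset.range e).erase 0).erase j0).card + 1 := by
          have := Finset.card_image_le (s := ((Finset.range e).erase 0).erase j0) (f := w)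
          omega
      _ = e - 2 + 1 := by rw [h1]
      _ = e - 1 := by omega
  have heG : e ∈ AddSubmonoid.closure (↑G : Set ℕ) :=
    AddSubmonoid.subset_closure (by simp [G])
  have hwG : ∀ i, i < e → i ≠ 0 → i ≠ j0 → w i ∈ AddSubmonoid.closure (↑G : Set ℕ) := by
    intro i h1 h2 h3
    apply AddSubmonoid.subset_closure
    simp only [G, Finset.coe_insert, Finset.coe_image, Set.mem_insert_iff, Set.mem_image,
      Finset.mem_coe, Finset.mem_erase, Finset.mem_range]
    exact Or.inr ⟨i, ⟨h3, h2, h1⟩, rfl⟩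
  -- elements with residue different from j0
  have hsmall : ∀ γ, γ ∈ Γ → γ % e ≠ j0 → γ ∈ AddSubmonoid.closure (↑G : Set ℕ) := by
    intro γ hγ hmod
    by_cases h0 : γ % e = 0
    · obtain ⟨k, hk⟩ := decomp (e := e) (a := 0) (b := γ) (by rw [Nat.zero_mod]; exact h0.symm)
        (Nat.zero_le _)
      rw [hk]
      exact add_mul_mem _ (AddSubmonoid.zero_mem _) heG k
    · have hle : w (γ % e) ≤ γ := hw3 _ γ hγ (by rw [Nat.mod_mod])
      obtain ⟨k, hk⟩ := decomp (e := e) (a := w (γ % e)) (b := γ)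
        (by rw [hw2, Nat.mod_mod]) hle
      rw [hk]
      exact add_mul_mem _ (hwG _ (Nat.mod_lt _ hepos) h0 hmod) heG k
  -- choose an index i1 different from 0 and j0
  obtain ⟨i1, hi1lt, hi1ne0, hi1ne⟩ : ∃ i1, i1 < e ∧ i1 ≠ 0 ∧ i1 ≠ j0 := by
    by_cases h : j0 = 1
    · exact ⟨2, he2, by omega, by omega⟩
    · exact ⟨1, by omega, by omega, fun h' => h h'.symm⟩
  have hw1mod : w i1 % e = i1 := by rw [hw2, Nat.mod_eq_of_lt hi1lt]
  have hw1ne0 : w i1 ≠ 0 := by
    intro h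
    rw [h, Nat.zero_mod] at hw1mod
    exact hi1ne0 hw1mod.symm
  have hw1ge : e ≤ w i1 := hemin _ (hw1 i1) hw1ne0
  have hxnot : w i1 - e ∉ Γ := by
    intro hx
    have : w i1 ≤ w i1 - e := hw3 i1 _ hx (by
      rw [← hw2 i1]
      conv_rhs => rw [← Nat.sub_add_cancel hw1ge]
      rw [Nat.add_mod_right])
    omega
  have hxlt : w i1 - e < c := by
    by_contra h
    exact hxnot (hc _ (by omega))
  have hγ' : c - 1 - (w i1 - e) ∈ Γ := (hsymm _ hxlt).mp hxnot
  set γ' := c - 1 - (w i1 - e) with hγ'def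
  have hsum : γ' + w i1 = c - 1 + e := by omega
  have hγ'mod : γ' % e ≠ j0 := by
    intro h
    have h2 : (γ' + w i1) % e = j0 := by
      rw [hsum, Nat.add_mod_right]
    rw [Nat.add_mod, h, hw1mod] at h2
    -- (j0 + i1) % e = j0 with 0 < i1 < e, j0 < e
    rcases Nat.lt_or_ge (j0 + i1) e with h3 | h3
    · rw [Nat.mod_eq_of_lt h3] at h2; omega
    · have : (j0 + i1) % e = j0 + i1 - e := by
        rw [Nat.mod_eq_sub_mod h3, Nat.mod_eq_of_lt (by omega)]
      rw [this] at h2; omega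
  have hmaxG : c - 1 + e ∈ AddSubmonoid.closure (↑G : Set ℕ) := by
    rw [← hsum]
    exact AddSubmonoid.add_mem _ (hsmall _ hγ' hγ'mod) (hwG i1 hi1lt hi1ne0 hi1ne)
  refine ⟨G, hGcard, le_antisymm ?_ ?_⟩
  · rw [AddSubmonoid.closure_le]
    intro x hx
    simp only [G, Finset.coe_insert, Finset.coe_image, Set.mem_insert_iff, Set.mem_image,
      Finset.mem_coe] at hx
    rcases hx with rfl | ⟨i, _, rfl⟩
    · exact he
    · exact hw1 i
  · intro γ hγ
    by_cases hmod : γ % e = j0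
    · have hle := hbig γ hγ hmod
      obtain ⟨k, hk⟩ := decomp (e := e) (a := c - 1 + e) (b := γ)
        (by rw [Nat.add_mod_right, hmod]) hle
      rw [hk]
      exact add_mul_mem _ hmaxG heG k
    · exact hsmall γ hγ hmod

end Groth.Agent.S15038
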