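import Groth.Statements.S15044
import Groth.Agent.Lib.Helper59.QuietSynt
import Groth.Agent.Lib.Helper59.QuietLiftScheme

set_option autoImplicit false
open CategoryTheory AlgebraicGeometry
universe u
open Quiet

namespace Groth.Agent.S15044

/-- Over a scheme `X` of prime characteristic `p`, a quasi-etale morphism `f : Y ⟶ X` (locally on the
source an extraction of `p`-th roots followed by an etale morphism) is syntomic: every point of `Y`
has an affine open neighbourhood mapping into an affine open of `X` such that the induced ring map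
is flat, finitely presented and has local complete intersection fibres. -/
theorem result (p : ℕ) [Fact p.Prime] {X Y : Scheme.{u}} [FrobSch.IsCharP X p]
    (f : Y ⟶ X) (hf : Quiet.IsQuiet p f) : Synt.IsSyntomicMor f := by
  intro y
  open Groth.Agent.Lib.Helper59.Quiet Groth.Agent.Lib.Helper59.QuietSynt in
  -- 1. a chart at `y`
  obtain ⟨V₁, hV₁, C₁, e, ψ, m, hy, he, tower, comm⟩ := hasChart_of_isQuiet p f hf y
  haveI : Etale e := he
  obtain ⟨z', hz'⟩ := exists_point_over hV₁ hy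
  -- 2. an affine open of `X`
  obtain ⟨W, hW, hxW⟩ : ∃ W : X.Opens, IsAffineOpen W ∧ e.base ((Spec.map ψ).base z') ∈ W := by
    obtain ⟨_, ⟨W, hW, rfl⟩, hxW, -⟩ := (X.isBasis_affineOpens).exists_subset_of_mem_open
      (Set.mem_univ (e.base ((Spec.map ψ).base z'))) isOpen_univ
    exact ⟨W, hW, hxW⟩
  -- 3. localization
  have hy₁ : (Spec.map ψ).base z' ∈ e ⁻¹ᵁ W := hxW
  obtain ⟨c, hyc, hcle⟩ : ∃ c : C₁, (Spec.map ψ).base z' ∈ PrimeSpectrum.basicOpen c ∧
      (PrimeSpectrum.basicOpen c : Set (PrimeSpectrum C₁)) ⊆ (e ⁻¹ᵁ W : Set (Spec C₁)) := by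
    obtain ⟨_, ⟨_, ⟨c, rfl⟩, rfl⟩, h1, h2⟩ :=
      PrimeSpectrum.isBasis_basic_opens.exists_subset_of_mem_open hy₁ (e ⁻¹ᵁ W).2
    exact ⟨c, h1, h2⟩
  obtain ⟨ψ₂, tower₂, comm₂⟩ := chart_localize p f hV₁ C₁ e ψ m tower comm c
  have hyV₂ : y ∈ Y.basicOpen (ψ.hom c) := hz' ▸ mem_basicOpen_of_chart hV₁ C₁ ψ z' c hyc
  have hV₂ : IsAffineOpen (Y.basicOpen (ψ.hom c)) := hV₁.basicOpen (ψ.hom c)
  have he₂W : ∀ x, (Spec.map (CommRingCat.ofHom (algebraMap C₁ (Localization.Away c))) ≫
      e).base x ∈ W := by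
    intro x
    apply hcle
    have : (Spec.map (CommRingCat.ofHom (algebraMap C₁ (Localization.Away c)))).base x ∈
        Set.range (PrimeSpectrum.comap (algebraMap C₁ (Localization.Away c))) := ⟨x, rfl⟩
    rwa [PrimeSpectrum.localization_away_comap_range (Localization.Away c) c] at this
  obtain ⟨β, hβ⟩ := exists_factor hW (CommRingCat.of (Localization.Away c)) _ he₂W
  have hβet : β.hom.Etale := etale_of_factor hW hβ
  -- 4. the affine opens
  have hle : Y.basicOpen (ψ.hom c) ≤ f ⁻¹ᵁ W := by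
    intro u hu
    obtain ⟨u', rfl⟩ := exists_point_over hV₂ hu
    change (hV₂.fromSpec ≫ f).base u' ∈ W
    rw [← comm₂, ← hβ]
    change hW.fromSpec.base _ ∈ W
    have : hW.fromSpec.base ((Spec.map β).base ((Spec.map ψ₂).base u')) ∈
        Set.range hW.fromSpec.base := ⟨_, rfl⟩
    rwa [hW.range_fromSpec] at this
  refine ⟨⟨Y.basicOpen (ψ.hom c), hV₂⟩, ⟨W, hW⟩, hle, hyV₂, ?_⟩
  -- 5. the ring map
  have hring : f.appLE W (Y.basicOpen (ψ.hom c)) hle = β ≫ ψ₂ := by
    apply Spec.map_injective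
    rw [← cancel_mono hW.fromSpec, IsAffineOpen.SpecMap_appLE_fromSpec f hW hV₂ hle,
      Spec.map_comp, Category.assoc, hβ, comm₂]
  letI algRB : Algebra Γ(X, W) (Localization.Away c) := β.hom.toAlgebra
  letI algBD : Algebra (Localization.Away c) Γ(Y, Y.basicOpen (ψ.hom c)) := ψ₂.hom.toAlgebra
  letI algRD : Algebra Γ(X, W) Γ(Y, Y.basicOpen (ψ.hom c)) :=
    (f.appLE W (Y.basicOpen (ψ.hom c)) hle).hom.toAlgebra
  haveI : IsScalarTower Γ(X, W) (Localization.Away c) Γ(Y, Y.basicOpen (ψ.hom c)) := by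
    refine IsScalarTower.of_algebraMap_eq fun r => ?_
    change (f.appLE W (Y.basicOpen (ψ.hom c)) hle).hom r = ψ₂.hom (β.hom r)
    rw [hring]
    rfl
  haveI : Algebra.Etale Γ(X, W) (Localization.Away c) := hβet
  exact isSyntomic_of_etale_rootTower p m tower₂

end Groth.Agent.S15044
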