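import Groth.Statements.S15046
import Groth.Agent.Lib.Helper59.FrobEtale
import Groth.Agent.Lib.Helper59.FrobScheme

set_option autoImplicit false
open CategoryTheory AlgebraicGeometry
universe u
open Quiet
open Groth.Agent.Lib.Helper59.FrobTower

namespace Groth.Agent.S15046

/-- Let `k` be a perfect field of prime characteristic `p` and `A` a smooth `k`-algebra of
characteristic `p`. Then the Frobenius endomorphism `a ↦ a ^ p` of `A` is faithfully flat, and the
endomorphism of `Spec A` it induces is an extraction of `p`-th roots: every point has an affine open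
neighbourhood with affine preimage over which the induced ring map is a tower of finitely many
elementary extractions `B → B[x]/(x^p - b)`. -/
theorem result (p : ℕ) [Fact p.Prime]
    (k : Type u) [Field k] [CharP k p] [PerfectRing k p] (A : Type u) [CommRing A] [Algebra k A]
    [CharP A p] [Algebra.Smooth k A] :
    (frobenius A p).FaithfullyFlat ∧
      Quiet.IsPthRoot p (Spec.map (CommRingCat.ofHom (frobenius A p))) := by
  classical
  obtain ⟨s, hs, h⟩ := exists_cover_isRootTower p k A
  rw [frobenius_eq_pPow]
  have hcomm : ∀ g : A, ∀ [PZero p (Localization.Away g)],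
      (pPow p (Localization.Away g)).comp (algebraMap A (Localization.Away g)) =
        (algebraMap A (Localization.Away g)).comp (pPow p A) := fun g _ => pPow_comm p _
  constructor
  · rw [RingHom.FaithfullyFlat.iff_flat_and_comap_surjective]
    constructor
    · refine RingHom.Flat.ofLocalizationSpanTarget _ s hs fun ⟨g, hg⟩ => ?_
      haveI : PZero p (Localization.Away g) := PZero.of_algebra p A _
      obtain ⟨n, hn⟩ := h g hg
      rw [← hcomm g]
      refine RingHom.Flat.comp ?_ ?_
      · exact RingHom.flat_algebraMap_iff.mpr (IsLocalization.flat _ (Submonoid.powers g))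
      · exact (isRootTower_flat p n (A := Localization.Away g)
          (B := Fr p (Localization.Away g)) hn :
            Module.Flat (Localization.Away g) (Fr p (Localization.Away g)))
    · intro q
      refine ⟨q, PrimeSpectrum.ext ?_⟩
      ext x
      simp only [PrimeSpectrum.comap_asIdeal, Ideal.mem_comap, pPow_apply]
      exact q.isPrime.pow_mem_iff_mem p (Fact.out : p.Prime).pos
  · intro x
    obtain ⟨g, hg, hgx⟩ : ∃ g ∈ s, g ∉ x.asIdeal := by
      by_contra hcon
      push Not at hcon
      have : Ideal.span s ≤ x.asIdeal := Ideal.span_le.mpr hcon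
      rw [hs] at this
      exact x.isPrime.ne_top (top_le_iff.mp this)
    haveI : PZero p (Localization.Away g) := PZero.of_algebra p A _
    obtain ⟨n, hn⟩ := h g hg
    haveI : IsLocalization.Away ((CommRingCat.ofHom (pPow p A)) g) (Localization.Away g) :=
      away_pow g p (Fact.out : p.Prime).pos
    refine ⟨⟨PrimeSpectrum.basicOpen g, IsAffineOpen.Spec_basicOpen (R := CommRingCat.of A) g⟩,
      hgx, IsAffineOpen.Spec_basicOpen (R := CommRingCat.of A) ((pPow p A) g), n, ?_⟩
    exact isRootTower_sections p (CommRingCat.ofHom (pPow p A)) g (Localization.Away g)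
      (Localization.Away g) (pPow p (Localization.Away g)) (hcomm g) n hn

end Groth.Agent.S15046
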