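import Groth.Statements.S15047
import Mathlib.RingTheory.Flat.FaithfullyFlat.Algebra

set_option autoImplicit false
universe u
open TensorProduct
open Desc

namespace Groth.Agent.S15047

section aux

variable (A A' : Type u) [CommRing A] [CommRing A'] [Algebra A A']
variable (N : Type u) [AddCommGroup N] [Module A N]

/-- the difference map `A' ⊗ N → (A' ⊗ A') ⊗ N`. -/
noncomputable def dmap : A' ⊗[A] N →ₗ[A] (A' ⊗[A] A') ⊗[A] N :=
  LinearMap.rTensor N (Algebra.TensorProduct.includeLeft : A' →ₐ[A] A' ⊗[A] A').toLinearMap -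
    LinearMap.rTensor N (Algebra.TensorProduct.includeRight : A' →ₐ[A] A' ⊗[A] A').toLinearMap

/-- contraction `A' ⊗ (A' ⊗ N) → A' ⊗ N`. -/
noncomputable def tmap : A' ⊗[A] (A' ⊗[A] N) →ₗ[A] A' ⊗[A] N :=
  (LinearMap.rTensor N (LinearMap.mul' A A')) ∘ₗ (TensorProduct.assoc A A' A' N).symm.toLinearMap

/-- contraction `A' ⊗ ((A' ⊗ A') ⊗ N) → A' ⊗ (A' ⊗ N)`. -/
noncomputable def smap : A' ⊗[A] ((A' ⊗[A] A') ⊗[A] N) →ₗ[A] A' ⊗[A] (A' ⊗[A] N) :=
  (TensorProduct.assoc A A' A' N).toLinearMap ∘ₗ
    (LinearMap.rTensor N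
      ((LinearMap.rTensor A' (LinearMap.mul' A A')) ∘ₗ
        (TensorProduct.assoc A A' A' A').symm.toLinearMap)) ∘ₗ
    (TensorProduct.assoc A A' (A' ⊗[A] A') N).symm.toLinearMap

lemma smap_dmap :
    (smap A A' N) ∘ₗ (LinearMap.lTensor A' (dmap A A' N)) =
      (LinearMap.lTensor A' (TensorProduct.mk A A' N 1)) ∘ₗ (tmap A A' N) - LinearMap.id := by
  apply TensorProduct.ext'
  intro b y
  induction y using TensorProduct.induction_on with
  | zero => simp
  | tmul a n =>
    simp [smap, dmap, tmap]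
  | add y z hy hz =>
    simp only [TensorProduct.tmul_add, map_add, hy, hz]

lemma exact_mk_dmap [Module.FaithfullyFlat A A'] :
    Function.Exact (TensorProduct.mk A A' N 1) (dmap A A' N) := by
  apply Module.FaithfullyFlat.lTensor_reflects_exact A A'
  intro y
  constructor
  · intro hy
    have h := congrArg (fun g => g y) (smap_dmap A A' N)
    simp only [LinearMap.comp_apply, hy, map_zero, LinearMap.sub_apply, LinearMap.id_apply] at h
    refine ⟨tmap A A' N y, ?_⟩
    exact (sub_eq_zero.mp h.symm)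
  · rintro ⟨x, rfl⟩
    induction x using TensorProduct.induction_on with
    | zero => simp
    | tmul b n => simp [dmap]
    | add x z hx hz => simp only [map_add, hx, hz, add_zero]

end aux

theorem result (A A' : Type u) [CommRing A] [CommRing A'] [Algebra A A']
    [Module.FaithfullyFlat A A'] (M N : Type u) [AddCommGroup M] [Module A M] [AddCommGroup N] [Module A N]
    (f : A' ⊗[A] M →ₗ[A'] A' ⊗[A] N)
    (hf : ∀ m : M,
      LinearMap.rTensor N (Algebra.TensorProduct.includeLeft : A' →ₐ[A] A' ⊗[A] A').toLinearMap (f (1 ⊗ₜ[A] m)) =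
        LinearMap.rTensor N (Algebra.TensorProduct.includeRight : A' →ₐ[A] A' ⊗[A] A').toLinearMap (f (1 ⊗ₜ[A] m))) :
    ∃! h : M →ₗ[A] N, h.baseChange A' = f := by
  have hinj : Function.Injective (TensorProduct.mk A A' N 1) :=
    Module.FaithfullyFlat.tensorProduct_mk_injective (A := A) (B := A') N
  have hex : ∀ m : M, ∃ n : N, TensorProduct.mk A A' N 1 n = f (1 ⊗ₜ[A] m) := by
    intro m
    have := (exact_mk_dmap A A' N (f (1 ⊗ₜ[A] m))).mp (by
      simp only [dmap, LinearMap.sub_apply, hf m, sub_self])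
    exact this
  choose h0 hh0 using hex
  have hh0' : ∀ m, (1 : A') ⊗ₜ[A] h0 m = f (1 ⊗ₜ[A] m) := hh0
  let h : M →ₗ[A] N :=
    { toFun := h0
      map_add' := by
        intro x y
        apply hinj
        simp only [map_add, hh0, TensorProduct.tmul_add]
      map_smul' := by
        intro a x
        apply hinj
        rw [RingHom.id_apply, map_smul, hh0, hh0, TensorProduct.tmul_smul,
          LinearMap.map_smul_of_tower] }
  refine ⟨h, ?_, ?_⟩
  · apply LinearMap.ext
    intro x
    induction x using TensorProduct.induction_on with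
    | zero => simp
    | tmul a m =>
      have : a ⊗ₜ[A] m = a • ((1 : A') ⊗ₜ[A] m) := by
        rw [TensorProduct.smul_tmul', smul_eq_mul, mul_one]
      rw [this, map_smul, map_smul, ← hh0' m]
      simp [h]
    | add x y hx hy => simp only [map_add, hx, hy]
  · intro h' hh'
    apply LinearMap.ext
    intro m
    apply hinj
    have : (h'.baseChange A') (1 ⊗ₜ[A] m) = f (1 ⊗ₜ[A] m) := by rw [hh']
    simp only [LinearMap.baseChange_tmul] at this
    change (1 : A') ⊗ₜ[A] h' m = (1 : A') ⊗ₜ[A] h m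
    rw [this]
    exact (hh0' m).symm

end Groth.Agent.S15047
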