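import Groth.Statements.S15049
import Groth.Agent.Lib.Helper61.LT

set_option autoImplicit false
universe u
open LubinTate

namespace Groth.Agent.S15049

open Groth.Agent.Lib.Helper61 MvPowerSeries

section aux

variable {O : Type u} [CommRing O] {τ : Type*} [Finite τ] (π : O) (q : ℕ)

lemma hasSubst_pair (a b : MvPowerSeries τ O) (ha : constantCoeff a = 0) (hb : constantCoeff b = 0) :
    HasSubst ![a, b] := by
  apply hasSubst_of_constantCoeff_zero
  intro s
  fin_cases s <;> simpa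

lemma pair_const (Φ : MvPowerSeries (Fin 2) O) (hΦ0 : constantCoeff Φ = 0)
    (a b : MvPowerSeries τ O) (ha : constantCoeff a = 0) (hb : constantCoeff b = 0) :
    constantCoeff (Φ.subst ![a, b]) = 0 :=
  constantCoeff_subst_eq_zero (hasSubst_pair a b ha hb)
    (by intro s; fin_cases s <;> simpa) hΦ0

lemma pair_lt (hq : q ≠ 0) (Φ : MvPowerSeries (Fin 2) O) (hΦlt : ltDefect π q Φ = 0)
    (a b : MvPowerSeries τ O) (ha : constantCoeff a = 0) (hb : constantCoeff b = 0)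
    (hal : ltDefect π q a = 0) (hbl : ltDefect π q b = 0) :
    ltDefect π q (Φ.subst ![a, b]) = 0 :=
  ltDefect_subst π q hq Φ hΦlt ![a, b] (by intro s; fin_cases s <;> simpa)
    (by intro s; fin_cases s <;> simpa)

lemma pair_lin (Φ : MvPowerSeries (Fin 2) O) (hΦ0 : constantCoeff Φ = 0)
    (hΦlin : ∀ i, coeff (Finsupp.single i 1) Φ = 1)
    (a b : MvPowerSeries τ O) (ha : constantCoeff a = 0) (hb : constantCoeff b = 0) (j : τ) :
    coeff (Finsupp.single j 1) (Φ.subst ![a, b]) =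
      coeff (Finsupp.single j 1) a + coeff (Finsupp.single j 1) b := by
  rw [coeff_single_subst Φ hΦ0 ![a, b] (hasSubst_pair a b ha hb)
    (by intro s; fin_cases s <;> simpa) j]
  simp [Fin.sum_univ_two, hΦlin]

end aux

theorem result (O : Type u) [CommRing O] [IsDomain O] [IsDiscreteValuationRing O]
    [Finite (IsLocalRing.ResidueField O)] (π : O) (hπ : Irreducible π) (f : PowerSeries O)
    (hf : f = π • PowerSeries.X + PowerSeries.X ^ Nat.card (IsLocalRing.ResidueField O)) :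
    ∃ F : FormalGroup O, F.IsComm ∧
      PowerSeries.subst F.toPowerSeries f =
        MvPowerSeries.subst (fun i : Fin 2 => PowerSeries.subst (MvPowerSeries.X i : MvPowerSeries (Fin 2) O) f) F.toPowerSeries ∧
      ∀ G : MvPowerSeries (Fin 2) O, G.constantCoeff = 0 → G.coeff (Finsupp.single 0 1) = 1 →
        G.coeff (Finsupp.single 1 1) = 1 →
        PowerSeries.subst G f =
        MvPowerSeries.subst (fun i : Fin 2 => PowerSeries.subst (MvPowerSeries.X i : MvPowerSeries (Fin 2) O) f) G →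
        G = F.toPowerSeries := by
  classical
  subst hf
  set q := Nat.card (IsLocalRing.ResidueField O) with hqdef
  have hq2 : 2 ≤ q := two_le_card_residue
  have hq0 : q ≠ 0 := by omega
  obtain ⟨Φ, hΦ0, hΦlin, hΦlt⟩ := lt_exists (σ := Fin 2) π hπ (fun _ => 1)
  have hX0 : ∀ {τ : Type} (i : τ), constantCoeff (X i : MvPowerSeries τ O) = 0 := fun i => by simp
  have hassoc : Φ.subst ![Φ.subst ![(X 0 : MvPowerSeries (Fin 3) O), X 1], X 2] =
      Φ.subst ![X 0, Φ.subst ![(X 1 : MvPowerSeries (Fin 3) O), X 2]] := by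
    have h01 := pair_const Φ hΦ0 (X 0 : MvPowerSeries (Fin 3) O) (X 1) (hX0 _) (hX0 _)
    have h12 := pair_const Φ hΦ0 (X 1 : MvPowerSeries (Fin 3) O) (X 2) (hX0 _) (hX0 _)
    have l01 := pair_lt π q hq0 Φ hΦlt (X 0 : MvPowerSeries (Fin 3) O) (X 1) (hX0 _) (hX0 _)
      (ltDefect_X π q hq0 _) (ltDefect_X π q hq0 _)
    have l12 := pair_lt π q hq0 Φ hΦlt (X 1 : MvPowerSeries (Fin 3) O) (X 2) (hX0 _) (hX0 _)
      (ltDefect_X π q hq0 _) (ltDefect_X π q hq0 _)
    apply lt_unique_dvr π hπ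
    · exact pair_const Φ hΦ0 _ _ h01 (hX0 _)
    · exact pair_const Φ hΦ0 _ _ (hX0 _) h12
    · intro j
      rw [pair_lin Φ hΦ0 hΦlin _ _ h01 (hX0 _), pair_lin Φ hΦ0 hΦlin _ _ (hX0 _) (hX0 _),
        pair_lin Φ hΦ0 hΦlin _ _ (hX0 _) h12, pair_lin Φ hΦ0 hΦlin _ _ (hX0 _) (hX0 _), add_assoc]
    · exact pair_lt π q hq0 Φ hΦlt _ _ h01 (hX0 _) l01 (ltDefect_X π q hq0 _)
    · exact pair_lt π q hq0 Φ hΦlt _ _ (hX0 _) h12 (ltDefect_X π q hq0 _) l12
  let F : FormalGroup O :=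
    { toPowerSeries := Φ
      zero_constantCoeff := hΦ0
      lin_coeff_X := hΦlin 0
      lin_coeff_Y := hΦlin 1
      assoc := hassoc }
  have hcomm : Φ = Φ.subst ![(X 1 : MvPowerSeries (Fin 2) O), X 0] := by
    apply lt_unique_dvr π hπ
    · exact hΦ0
    · exact pair_const Φ hΦ0 _ _ (hX0 _) (hX0 _)
    · intro j
      rw [pair_lin Φ hΦ0 hΦlin _ _ (hX0 _) (hX0 _), hΦlin j]
      fin_cases j <;> simp [coeff_index_single_X]
    · exact hΦlt
    · exact pair_lt π q hq0 Φ hΦlt _ _ (hX0 _) (hX0 _) (ltDefect_X π q hq0 _)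
        (ltDefect_X π q hq0 _)
  refine ⟨F, ⟨hcomm⟩, (ltDefect_eq_zero_iff π q Φ hΦ0).mp hΦlt, ?_⟩
  intro G hG0 hG1 hG2 hG
  apply lt_unique_dvr π hπ G Φ hG0 hΦ0
  · intro i
    fin_cases i
    · exact hG1.trans (hΦlin 0).symm
    · exact hG2.trans (hΦlin 1).symm
  · exact (ltDefect_eq_zero_iff π q G hG0).mpr hG
  · exact hΦlt

end Groth.Agent.S15049
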