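import Groth.Statements.S15050
import Groth.Agent.Lib.Helper61.LT

set_option autoImplicit false
universe u
open LubinTate

namespace Groth.Agent.S15050

open Groth.Agent.Lib.Helper61

theorem result (O : Type u) [CommRing O] [IsDomain O] [IsDiscreteValuationRing O]
    [Finite (IsLocalRing.ResidueField O)] (π : O) (hπ : Irreducible π) (f : PowerSeries O)
    (hf : f = π • PowerSeries.X + PowerSeries.X ^ Nat.card (IsLocalRing.ResidueField O)) (α : O) :
    ∃! g : PowerSeries O, g.constantCoeff = 0 ∧ g.coeff 1 = α ∧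
      PowerSeries.subst g f = PowerSeries.subst f g := by
  subst hf
  have key : ∀ g : PowerSeries O, MvPowerSeries.constantCoeff g = 0 →
      (ltDefect π (Nat.card (IsLocalRing.ResidueField O)) g = 0 ↔
        PowerSeries.subst g (π • PowerSeries.X +
          PowerSeries.X ^ Nat.card (IsLocalRing.ResidueField O) : PowerSeries O) =
        PowerSeries.subst (π • PowerSeries.X +
          PowerSeries.X ^ Nat.card (IsLocalRing.ResidueField O) : PowerSeries O) g) := by
    intro g hg
    rw [ltDefect_eq_zero_iff π _ g hg, ltVec_eq]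
    have : (fun _ : Unit => (π • PowerSeries.X +
        PowerSeries.X ^ Nat.card (IsLocalRing.ResidueField O) : PowerSeries O)) =
        ltVec π (Nat.card (IsLocalRing.ResidueField O)) := by
      funext i
      rfl
    rw [PowerSeries.subst_def (π • PowerSeries.X +
        PowerSeries.X ^ Nat.card (IsLocalRing.ResidueField O) : PowerSeries O) g, this]
  obtain ⟨Φ, hΦ0, hΦ1, hΦ⟩ := lt_exists (σ := Unit) π hπ (fun _ => α)
  refine ⟨Φ, ⟨hΦ0, hΦ1 (), (key Φ hΦ0).mp hΦ⟩, ?_⟩
  rintro g ⟨hg0, hg1, hg⟩
  apply lt_unique_dvr π hπ g Φ hg0 hΦ0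
  · intro i
    rw [hΦ1 i]
    exact hg1
  · exact (key g hg0).mpr hg
  · exact hΦ

end Groth.Agent.S15050
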