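import Groth.Statements.S15051
import Groth.Agent.Lib.Helper61.LT

set_option autoImplicit false
universe u
open LubinTate

namespace Groth.Agent.S15051

open Groth.Agent.Lib.Helper61 MvPowerSeries

theorem result (O : Type u) [CommRing O] [IsDomain O] [IsDiscreteValuationRing O]
    [Finite (IsLocalRing.ResidueField O)] (π : O) (hπ : Irreducible π) (f : PowerSeries O)
    (hf : f = π • PowerSeries.X + PowerSeries.X ^ Nat.card (IsLocalRing.ResidueField O))
    (F : FormalGroup O)
    (hF : PowerSeries.subst F.toPowerSeries f =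
        MvPowerSeries.subst (fun i : Fin 2 => PowerSeries.subst (MvPowerSeries.X i : MvPowerSeries (Fin 2) O) f) F.toPowerSeries)
    (g : PowerSeries O) (hg0 : g.constantCoeff = 0)
    (hgf : PowerSeries.subst g f = PowerSeries.subst f g) :
    PowerSeries.subst F.toPowerSeries g =
      MvPowerSeries.subst (fun i : Fin 2 => PowerSeries.subst (MvPowerSeries.X i : MvPowerSeries (Fin 2) O) g)
        F.toPowerSeries := by
  classical
  subst hf
  set q := Nat.card (IsLocalRing.ResidueField O) with hqdef
  have hq2 : 2 ≤ q := two_le_card_residue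
  have hq0 : q ≠ 0 := by omega
  have hg0' : constantCoeff (g : MvPowerSeries Unit O) = 0 := hg0
  have hFlt : ltDefect π q F.toPowerSeries = 0 :=
    (ltDefect_eq_zero_iff π q _ F.zero_constantCoeff).mpr hF
  have hglt : ltDefect π q (g : MvPowerSeries Unit O) = 0 := (ltDefect_unit_iff π q g hg0').mpr hgf
  set gV : Fin 2 → MvPowerSeries (Fin 2) O :=
    fun i => PowerSeries.subst (MvPowerSeries.X i : MvPowerSeries (Fin 2) O) g with hgV
  have hXs : ∀ i : Fin 2, HasSubst (fun _ : Unit => (X i : MvPowerSeries (Fin 2) O)) := fun i =>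
    hasSubst_of_constantCoeff_zero (fun _ => by simp)
  have hgV0 : ∀ i, constantCoeff (gV i) = 0 := fun i =>
    constantCoeff_subst_eq_zero (hXs i) (fun _ => by simp) hg0'
  have hgVlt : ∀ i, ltDefect π q (gV i) = 0 := fun i =>
    ltDefect_subst π q hq0 (g : MvPowerSeries Unit O) hglt (fun _ => X i) (fun _ => by simp)
      (fun _ => ltDefect_X π q hq0 i)
  have hgVs : HasSubst gV := hasSubst_of_constantCoeff_zero hgV0
  have hFs : HasSubst (fun _ : Unit => F.toPowerSeries) :=
    hasSubst_of_constantCoeff_zero (fun _ => F.zero_constantCoeff)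
  have hgVlin : ∀ i j : Fin 2, coeff (Finsupp.single j 1) (gV i) =
      PowerSeries.coeff 1 g * (if j = i then 1 else 0) := by
    intro i j
    have := coeff_single_subst (g : MvPowerSeries Unit O) hg0' (fun _ => X i) (hXs i)
      (fun _ => by simp) j
    rw [hgV]
    simp only [PowerSeries.subst_def]
    rw [this]
    simp [coeff_index_single_X, PowerSeries.coeff]
  apply lt_unique_dvr π hπ
  · exact constantCoeff_subst_eq_zero hFs (fun _ => F.zero_constantCoeff) hg0'
  · exact constantCoeff_subst_eq_zero hgVs hgV0 F.zero_constantCoeff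
  · intro j
    have h1 := coeff_single_subst (g : MvPowerSeries Unit O) hg0' (fun _ => F.toPowerSeries) hFs
      (fun _ => F.zero_constantCoeff) j
    have h2 := coeff_single_subst F.toPowerSeries F.zero_constantCoeff gV hgVs hgV0 j
    rw [PowerSeries.subst_def, h1, h2]
    simp only [Fin.sum_univ_two, hgVlin, Finset.univ_unique, Finset.sum_singleton]
    fin_cases j
    · simp [F.lin_coeff_X, F.lin_coeff_Y, PowerSeries.coeff]
    · simp [F.lin_coeff_X, F.lin_coeff_Y, PowerSeries.coeff]
  · exact ltDefect_subst π q hq0 (g : MvPowerSeries Unit O) hglt (fun _ => F.toPowerSeries)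
      (fun _ => F.zero_constantCoeff) (fun _ => hFlt)
  · exact ltDefect_subst π q hq0 F.toPowerSeries hFlt gV hgV0 hgVlt

end Groth.Agent.S15051
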