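import Groth.Statements.S15052
import Groth.Agent.Lib.Helper61.LTLog

set_option autoImplicit false
universe u
open LubinTate

namespace Groth.Agent.S15052

open Groth.Agent.Lib.Helper61 MvPowerSeries

theorem result (O : Type u) [CommRing O] [IsDomain O] [IsDiscreteValuationRing O]
    [Finite (IsLocalRing.ResidueField O)] (K : Type u) [Field K] [Algebra O K] [IsFractionRing O K]
    (π : O) (hπ : Irreducible π) (f : PowerSeries O)
    (hf : f = π • PowerSeries.X + PowerSeries.X ^ Nat.card (IsLocalRing.ResidueField O))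
    (F : FormalGroup O)
    (hF : PowerSeries.subst F.toPowerSeries f =
        MvPowerSeries.subst (fun i : Fin 2 => PowerSeries.subst (MvPowerSeries.X i : MvPowerSeries (Fin 2) O) f) F.toPowerSeries) :
    ∃ ℓ : PowerSeries K, (ℓ.constantCoeff = 0 ∧ ℓ.coeff 1 = 1 ∧
      PowerSeries.subst (PowerSeries.map (algebraMap O K) f) ℓ = algebraMap O K π • ℓ) ∧
      (∀ ℓ' : PowerSeries K, ℓ'.constantCoeff = 0 → ℓ'.coeff 1 = 1 →
        PowerSeries.subst (PowerSeries.map (algebraMap O K) f) ℓ' = algebraMap O K π • ℓ' → ℓ' = ℓ) ∧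
      PowerSeries.subst ((F.toPowerSeries).map (algebraMap O K)) ℓ =
        PowerSeries.subst (MvPowerSeries.X (0 : Fin 2) : MvPowerSeries (Fin 2) K) ℓ +
          PowerSeries.subst (MvPowerSeries.X (1 : Fin 2) : MvPowerSeries (Fin 2) K) ℓ ∧
      (∀ (α : O) (g : PowerSeries O), g.constantCoeff = 0 → g.coeff 1 = α →
        PowerSeries.subst g f = PowerSeries.subst f g →
        PowerSeries.subst (PowerSeries.map (algebraMap O K) g) ℓ = algebraMap O K α • ℓ) := by
  classical
  subst hf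
  set q := Nat.card (IsLocalRing.ResidueField O) with hqdef
  have hq2 : 2 ≤ q := two_le_card_residue
  have hq0 : q ≠ 0 := by omega
  set φ := algebraMap O K with hφ
  set ϖ : K := φ π with hϖ
  have hinj : Function.Injective φ := IsFractionRing.injective O K
  have hϖ0 : ϖ ≠ 0 := by
    rw [hϖ, Ne, map_eq_zero_iff φ hinj]
    exact hπ.ne_zero
  have hϖu : ∀ r : ℕ, 1 ≤ r → ϖ ^ r ≠ 1 := by
    intro r hr h
    rw [hϖ, ← map_pow, ← map_one φ] at h
    exact hπ.not_isUnit (IsUnit.of_pow_eq_one (hinj h) (by omega))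
  -- the series `f` over `K`
  have hfK : PowerSeries.map φ (π • PowerSeries.X + PowerSeries.X ^ q : PowerSeries O) =
      (ϖ • PowerSeries.X + PowerSeries.X ^ q : PowerSeries K) := by
    have := map_ltVec φ π q (() : Unit)
    exact this
  rw [hfK]
  have key : ∀ ℓ : PowerSeries K,
      (PowerSeries.subst (ϖ • PowerSeries.X + PowerSeries.X ^ q : PowerSeries K) ℓ = ϖ • ℓ ↔
        linDefect ϖ q (ℓ : MvPowerSeries Unit K) = 0) := by
    intro ℓ
    have : (fun _ : Unit => (ϖ • PowerSeries.X + PowerSeries.X ^ q : PowerSeries K)) =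
        ltVec ϖ q := by
      funext i
      rfl
    rw [PowerSeries.subst_def, this, linDefect, sub_eq_zero]
  obtain ⟨ℓ, hℓ0, hℓ1, hℓ⟩ := lin_exists (σ := Unit) ϖ q hq2 hϖ0 hϖu (fun _ => 1)
  have hℓ1' : coeff (Finsupp.single () 1) ℓ = 1 := hℓ1 ()
  -- Lubin–Tate property of `F` over `K`
  have hFlt : ltDefect π q F.toPowerSeries = 0 :=
    (ltDefect_eq_zero_iff π q _ F.zero_constantCoeff).mpr hF
  set FK : MvPowerSeries (Fin 2) K := F.toPowerSeries.map φ with hFK
  have hFK0 : constantCoeff FK = 0 := by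
    rw [hFK, ← coeff_zero_eq_constantCoeff_apply, coeff_map, coeff_zero_eq_constantCoeff_apply,
      F.zero_constantCoeff, map_zero]
  have hFKlt : ltDefect ϖ q FK = 0 := by
    rw [hFK, hϖ, ← map_ltDefect φ π q hq0, hFlt, map_zero]
  have hFKlin : ∀ j : Fin 2, coeff (Finsupp.single j 1) FK = 1 := by
    intro j
    rw [hFK, coeff_map]
    fin_cases j
    · simp [F.lin_coeff_X]
    · simp [F.lin_coeff_Y]
  -- helper: composition with a single series
  have hcomp : ∀ {τ : Type} [Finite τ] (a : MvPowerSeries τ K), constantCoeff a = 0 →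
      ltDefect ϖ q a = 0 →
      constantCoeff (PowerSeries.subst a ℓ) = 0 ∧ linDefect ϖ q (PowerSeries.subst a ℓ) = 0 ∧
      ∀ j, coeff (Finsupp.single j 1) (PowerSeries.subst a ℓ) = coeff (Finsupp.single j 1) a := by
    intro τ _ a ha0 halt
    have hs : HasSubst (fun _ : Unit => a) := hasSubst_of_constantCoeff_zero (fun _ => ha0)
    refine ⟨constantCoeff_subst_eq_zero hs (fun _ => ha0) hℓ0,
      linDefect_subst ϖ q hq0 ℓ hℓ (fun _ => a) (fun _ => ha0) (fun _ => halt), ?_⟩
    intro j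
    rw [PowerSeries.subst_def, coeff_single_subst ℓ hℓ0 (fun _ => a) hs (fun _ => ha0) j]
    simp [hℓ1']
  refine ⟨ℓ, ⟨hℓ0, hℓ1', (key ℓ).mpr hℓ⟩, ?_, ?_, ?_⟩
  · intro ℓ' hℓ'0 hℓ'1 hℓ'
    have h1 : linDefect ϖ q (ℓ' : MvPowerSeries Unit K) = 0 := (key ℓ').mp hℓ'
    have := lin_unique ϖ q hq2 hϖ0 hϖu ((ℓ' : MvPowerSeries Unit K) - ℓ)
      (by rw [map_sub, hℓ0, sub_zero]; exact hℓ'0)
      (by
        intro i
        rw [map_sub, hℓ1 i, sub_eq_zero]
        exact hℓ'1)
      (by rw [linDefect_sub ϖ q hq0, h1, hℓ, sub_zero])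
    exact sub_eq_zero.mp this
  · obtain ⟨a0, a1, a2⟩ := hcomp FK hFK0 hFKlt
    obtain ⟨b0, b1, b2⟩ := hcomp (X (0 : Fin 2) : MvPowerSeries (Fin 2) K) (by simp)
      (ltDefect_X ϖ q hq0 _)
    obtain ⟨c0, c1, c2⟩ := hcomp (X (1 : Fin 2) : MvPowerSeries (Fin 2) K) (by simp)
      (ltDefect_X ϖ q hq0 _)
    have := lin_unique ϖ q hq2 hϖ0 hϖu
      (PowerSeries.subst FK ℓ - PowerSeries.subst (X (0 : Fin 2) : MvPowerSeries (Fin 2) K) ℓ -
        PowerSeries.subst (X (1 : Fin 2) : MvPowerSeries (Fin 2) K) ℓ)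
      (by rw [map_sub, map_sub, a0, b0, c0]; simp)
      (by
        intro j
        rw [map_sub, map_sub, a2, b2, c2, hFKlin j]
        fin_cases j <;> simp [coeff_index_single_X])
      (by rw [linDefect_sub ϖ q hq0, linDefect_sub ϖ q hq0, a1, b1, c1]; simp)
    rw [sub_sub, sub_eq_zero] at this
    exact this
  · intro α g hg0 hg1 hgf
    have hg0' : constantCoeff (g : MvPowerSeries Unit O) = 0 := hg0
    have hglt : ltDefect π q (g : MvPowerSeries Unit O) = 0 :=
      (ltDefect_unit_iff π q g hg0').mpr hgf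
    set gK : MvPowerSeries Unit K := PowerSeries.map φ g with hgK
    have hgK0 : constantCoeff gK = 0 := by
      rw [hgK]
      change constantCoeff (map φ (g : MvPowerSeries Unit O)) = 0
      rw [← coeff_zero_eq_constantCoeff_apply, coeff_map, coeff_zero_eq_constantCoeff_apply,
        hg0', map_zero]
    have hgKlt : ltDefect ϖ q gK = 0 := by
      rw [hgK]
      change ltDefect ϖ q (map φ (g : MvPowerSeries Unit O)) = 0
      rw [hϖ, ← map_ltDefect φ π q hq0, hglt, map_zero]
    have hgK1 : coeff (Finsupp.single () 1) gK = φ α := by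
      rw [hgK]
      change coeff (Finsupp.single () 1) (map φ (g : MvPowerSeries Unit O)) = φ α
      rw [coeff_map]
      congr 1
    obtain ⟨a0, a1, a2⟩ := hcomp gK hgK0 hgKlt
    have := lin_unique ϖ q hq2 hϖ0 hϖu (PowerSeries.subst gK ℓ - φ α • (ℓ : MvPowerSeries Unit K))
      (by rw [map_sub, a0, smul_eq_C_mul, map_mul, hℓ0]; simp)
      (by
        intro j
        rw [map_sub, a2, coeff_smul, hℓ1 j, hgK1]
        ring)
      (by rw [linDefect_sub ϖ q hq0, linDefect_smul ϖ q hq0, a1, hℓ]; simp)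
    exact sub_eq_zero.mp this

end Groth.Agent.S15052
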