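import Groth.Statements.S15054
import Mathlib.Tactic

set_option autoImplicit false
universe u
open CategoryTheory CategoryTheory.Limits MonoidalCategory CartesianMonoidalCategory MonObj GrpObj AlgebraicGeometry
open BTGrp

namespace Groth.Agent.S15054

theorem isKernel_iff {S : Scheme.{u}} {N G Q : Over S} [GrpObj Q] (i : N ⟶ G) (q : G ⟶ Q) :
    AlgGrp.IsKernel i q ↔
      (i ≫ q = 1 ∧ ∀ (T : Over S) (x : T ⟶ G), x ≫ q = 1 → ∃! y : T ⟶ N, y ≫ i = x) := by
  constructor
  · intro hP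
    refine ⟨?_, ?_⟩
    · rw [hP.w]; rfl
    · intro T x hx
      refine ⟨hP.lift x (toUnit T) (by rw [hx]; rfl), hP.lift_fst _ _ _, ?_⟩
      intro y hy
      apply hP.hom_ext
      · rw [hy, hP.lift_fst]
      · exact toUnit_unique _ _
  · rintro ⟨h1, h2⟩
    refine IsPullback.mk ⟨by rw [h1]; rfl⟩ ⟨PullbackCone.IsLimit.mk _ (fun s => (h2 s.pt s.fst (by rw [s.condition, toUnit_unique s.snd (toUnit s.pt)]; rfl)).choose) ?_ ?_ ?_⟩
    · intro s
      exact (h2 s.pt s.fst (by rw [s.condition, toUnit_unique s.snd (toUnit s.pt)]; rfl)).choose_spec.1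
    · intro s
      exact toUnit_unique _ _
    · intro s m hm1 hm2
      exact (h2 s.pt s.fst (by rw [s.condition, toUnit_unique s.snd (toUnit s.pt)]; rfl)).choose_spec.2 m hm1



/-- Let ℓ be a prime and G = (G_ν)_ν an ℓ-divisible (Barsotti–Tate) group of height h over a scheme S,
given as the system of its finite locally free layers G_ν of order ℓ^{νh} with inclusions G_ν →
G_{ν+1} exhibiting G_ν as the ℓ^ν-torsion of G_{ν+1} and projections G_{ν+1} → G_ν (multiplication
by ℓ). Let i_t : G_1 → G_{t+1} denote the iterated inclusions, pinned by i_0 = id and i_{t+1} = i_t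
followed by G_{t+1} → G_{t+2}. Then for every t, i_t identifies G_1 with the kernel of
multiplication by ℓ on G_{t+1}: the ℓ-torsion of every layer is the first layer. (The published
statement identifies G_v with the ℓ^v-torsion of G_{v+t} for all v; this row is its case v = 1. The
published base is the spectrum of a Noetherian ring; the argument is formal and any base scheme is
allowed here.) -/
theorem result {S : Scheme.{u}} (ℓ h : ℕ) [Fact ℓ.Prime] (G : BTGrp.ProBT ℓ S h)
    (i : (t : ℕ) → (G.G 1 ⟶ G.G (t + 1))) (hi0 : i 0 = 𝟙 (G.G 1))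
    (hi : ∀ t : ℕ, i (t + 1) = i t ≫ G.incl (t + 1)) (t : ℕ) :
    AlgGrp.IsKernel (i t) ((𝟙 (G.G (t + 1))) ^ ℓ) := by
  induction t with
  | zero =>
    rw [hi0, isKernel_iff]
    have hk := (isKernel_iff _ _).1 (G.isKernel 0)
    have hincl : G.incl 0 = 1 := by
      have := hk.1
      rwa [pow_zero, pow_one, Category.comp_id] at this
    have hℓ : (𝟙 (G.G (0 + 1))) ^ ℓ = 1 := by
      rw [← G.proj_incl 0, hincl, MonObj.comp_one]
    refine ⟨?_, ?_⟩
    · rw [Category.id_comp]; exact hℓ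
    · intro T x hx
      exact ⟨x, Category.comp_id _, fun y hy => by rw [← hy, Category.comp_id]⟩
  | succ t ih =>
    rw [hi, isKernel_iff]
    obtain ⟨ih1, ih2⟩ := (isKernel_iff _ _).1 ih
    obtain ⟨k1, k2⟩ := (isKernel_iff _ _).1 (G.isKernel (t + 1))
    have hpt : ∀ {T : Over S} {n : ℕ} {m : ℕ} (x : T ⟶ G.G m), x ≫ (𝟙 (G.G m)) ^ n = x ^ n := by
      intro T n m x
      rw [MonObj.comp_pow, Category.comp_id]
    refine ⟨?_, ?_⟩
    · rw [hpt, ← MonObj.pow_comp, ← hpt, ih1, MonObj.one_comp]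
    · intro T x hx
      rw [hpt] at hx
      have hx' : x ≫ (𝟙 (G.G (t + 1 + 1))) ^ (ℓ ^ (t + 1)) = 1 := by
        rw [hpt, pow_succ', pow_mul, hx, one_pow]
      obtain ⟨y, hy, hyu⟩ := k2 T x hx'
      have h1 : (1 : T ⟶ G.G (t + 1 + 1)) ≫ (𝟙 (G.G (t + 1 + 1))) ^ (ℓ ^ (t + 1)) = 1 := by
        rw [hpt, one_pow]
      obtain ⟨w, hw, hwu⟩ := k2 T 1 h1
      have hyℓ : y ^ ℓ = 1 := by
        have e1 : (y ^ ℓ) ≫ G.incl (t + 1) = 1 := by
          rw [MonObj.pow_comp, hy, hx]
        have e2 : (1 : T ⟶ G.G (t + 1)) ≫ G.incl (t + 1) = 1 := MonObj.one_comp _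
        rw [hwu _ e1, hwu _ e2]
      obtain ⟨z, hz, hzu⟩ := ih2 T y (by rw [hpt, hyℓ])
      refine ⟨z, by show z ≫ i t ≫ G.incl (t + 1) = x; rw [← Category.assoc, hz, hy], ?_⟩
      intro z' hz'
      change z' ≫ i t ≫ G.incl (t + 1) = x at hz'
      apply hzu
      apply hyu
      rw [Category.assoc, hz']

end Groth.Agent.S15054
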