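import Groth.Statements.S15058
import Groth.Agent.Lib.Helper61.MvPS

set_option autoImplicit false
universe u
open FmlGrp

namespace Groth.Agent.S15058

open MvPowerSeries Groth.Agent.Lib.Helper61

variable {R : Type u} [CommRing R]

/-- the part of `F` of order at least two. -/
noncomputable def F2 (F : FormalGroup R) : MvPowerSeries (Fin 2) R :=
  F.toPowerSeries - X 0 - X 1

lemma F2_order (F : FormalGroup R) : (2 : ℕ∞) ≤ (F2 F).order := by
  apply two_le_order
  · simp [F2, F.zero_constantCoeff]
  · intro i
    fin_cases i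
    · simp [F2, F.lin_coeff_X, coeff_index_single_X]
    · simp [F2, F.lin_coeff_Y, coeff_index_single_X]

lemma hasSubst_pair (a b : MvPowerSeries Unit R) (ha : constantCoeff a = 0) (hb : constantCoeff b = 0) :
    HasSubst ![a, b] := by
  apply hasSubst_of_constantCoeff_zero
  intro s
  fin_cases s <;> simpa

lemma F_subst (F : FormalGroup R) (a b : MvPowerSeries Unit R) (ha : constantCoeff a = 0)
    (hb : constantCoeff b = 0) :
    F.toPowerSeries.subst ![a, b] = a + b + (F2 F).subst ![a, b] := by
  have h := hasSubst_pair a b ha hb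
  have : F.toPowerSeries = X 0 + X 1 + F2 F := by simp [F2]
  conv_lhs => rw [this]
  rw [subst_add h, subst_add h, subst_X h, subst_X h]
  simp

lemma one_le_order_pair (a b : MvPowerSeries Unit R) (ha : constantCoeff a = 0)
    (hb : constantCoeff b = 0) : ∀ i : Fin 2, 1 ≤ ((![a, b] : Fin 2 → MvPowerSeries Unit R) i).order := by
  intro i
  fin_cases i
  · simpa [one_le_order_iff_constCoeff_eq_zero] using ha
  · simpa [one_le_order_iff_constCoeff_eq_zero] using hb

/-- contraction estimate -/
lemma F2_contract (F : FormalGroup R) (y y' : MvPowerSeries Unit R) (hy : constantCoeff y = 0)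
    (hy' : constantCoeff y' = 0) (n : ℕ) (h : (n : ℕ∞) ≤ (y - y').order) :
    ((n + 1 : ℕ) : ℕ∞) ≤ ((F2 F).subst ![PowerSeries.X, y] - (F2 F).subst ![PowerSeries.X, y']).order := by
  have hX : constantCoeff (PowerSeries.X : MvPowerSeries Unit R) = 0 := PowerSeries.constantCoeff_X
  have := le_order_subst_sub_subst (F2 F) (hasSubst_pair _ y hX hy) (hasSubst_pair _ y' hX hy')
    (one_le_order_pair _ y hX hy) (one_le_order_pair _ y' hX hy') 2 n
    (by exact_mod_cast F2_order F)
    (by
      intro i
      fin_cases i
      · simp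
      · simpa using h)
  have h2 : ((2 + n : ℕ) : ℕ∞) = ((n + 1 : ℕ) : ℕ∞) + 1 := by push_cast; ring
  rw [h2] at this
  exact (ENat.add_le_add_iff_right ENat.one_ne_top).mp this

/-- the iteration map -/
noncomputable def T (F : FormalGroup R) (y : MvPowerSeries Unit R) : MvPowerSeries Unit R :=
  -PowerSeries.X - (F2 F).subst ![PowerSeries.X, y]

lemma T_const (F : FormalGroup R) (y : MvPowerSeries Unit R) (hy : constantCoeff y = 0) :
    constantCoeff (T F y) = 0 := by
  have hX : constantCoeff (PowerSeries.X : MvPowerSeries Unit R) = 0 := PowerSeries.constantCoeff_X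
  have h2 : constantCoeff (F2 F) = 0 := by simp [F2, F.zero_constantCoeff]
  have := constantCoeff_subst_eq_zero (hasSubst_pair _ y hX hy)
    (by intro i; fin_cases i <;> simpa) h2
  simp [T, this, hX]

noncomputable def seq (F : FormalGroup R) : ℕ → MvPowerSeries Unit R
  | 0 => 0
  | n + 1 => T F (seq F n)

lemma seq_const (F : FormalGroup R) (n : ℕ) : constantCoeff (seq F n) = 0 := by
  induction n with
  | zero => simp [seq]
  | succ n ih => exact T_const F _ ih

lemma seq_order (F : FormalGroup R) (n : ℕ) : (n : ℕ∞) ≤ (seq F (n + 1) - seq F n).order := by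
  induction n with
  | zero => simp
  | succ n ih =>
    have := F2_contract F (seq F (n + 1)) (seq F n) (seq_const F _) (seq_const F _) n ih
    have h : seq F (n + 1 + 1) - seq F (n + 1) =
        -((F2 F).subst ![PowerSeries.X, seq F (n + 1)] - (F2 F).subst ![PowerSeries.X, seq F n]) := by
      simp only [seq, T]
      ring
    rw [h, order_neg]
    exact this

theorem exists_right_inv (F : FormalGroup R) :
    ∃ g : MvPowerSeries Unit R, constantCoeff g = 0 ∧ F.toPowerSeries.subst ![PowerSeries.X, g] = 0 := by
  obtain ⟨g, hg⟩ := exists_limit (seq F) (seq_order F)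
  have hg0 : constantCoeff g = 0 := by
    rw [← one_le_order_iff_constCoeff_eq_zero]
    have h1 := hg 1
    have h2 : (1 : ℕ∞) ≤ (seq F 1).order := by
      rw [one_le_order_iff_constCoeff_eq_zero]; exact seq_const F 1
    have : g = (g - seq F 1) + seq F 1 := by ring
    rw [this]
    exact le_trans (le_min (by exact_mod_cast h1) h2) min_order_le_add
  refine ⟨g, hg0, ?_⟩
  have hX : constantCoeff (PowerSeries.X : MvPowerSeries Unit R) = 0 := PowerSeries.constantCoeff_X
  rw [F_subst F _ g hX hg0]
  apply eq_zero_of_forall_le_order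
  intro n
  have h1 := hg (n + 1)
  have h2 := F2_contract F g (seq F n) hg0 (seq_const F n) n (hg n)
  have h3 : PowerSeries.X + g + (F2 F).subst ![PowerSeries.X, g] =
      (g - seq F (n + 1)) + ((F2 F).subst ![PowerSeries.X, g] - (F2 F).subst ![PowerSeries.X, seq F n]) := by
    simp only [seq, T]
    ring
  rw [h3]
  refine le_trans ?_ (le_trans (le_min h1 h2) min_order_le_add)
  exact_mod_cast Nat.le_succ n

lemma subst_pair_comp (F : FormalGroup R) (a b g : MvPowerSeries Unit R)
    (ha : constantCoeff a = 0) (hb : constantCoeff b = 0) (hg : constantCoeff g = 0) :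
    PowerSeries.subst g (F.toPowerSeries.subst ![a, b]) =
      F.toPowerSeries.subst ![PowerSeries.subst g a, PowerSeries.subst g b] := by
  have hgs : PowerSeries.HasSubst g := PowerSeries.HasSubst.of_constantCoeff_zero hg
  rw [PowerSeries.subst, subst_comp_subst_apply (hasSubst_pair a b ha hb) hgs.const]
  congr! 2 with s
  fin_cases s <;> rfl

theorem result (R : Type u) [CommRing R] (F : FormalGroup R) :
    ∃ g : PowerSeries R, g.constantCoeff = 0 ∧
      F.toPowerSeries.subst ![PowerSeries.X, g] = (0 : PowerSeries R) ∧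
      F.toPowerSeries.subst ![g, PowerSeries.X] = (0 : PowerSeries R) ∧
      ∀ k : PowerSeries R, k.constantCoeff = 0 →
        (F.toPowerSeries.subst ![PowerSeries.X, k] = (0 : PowerSeries R) ∨
          F.toPowerSeries.subst ![k, PowerSeries.X] = (0 : PowerSeries R)) → k = g := by
  obtain ⟨g, hg0, hg⟩ := exists_right_inv F
  have hX0 : constantCoeff (PowerSeries.X : MvPowerSeries Unit R) = 0 :=
    PowerSeries.constantCoeff_X
  have hgs : PowerSeries.HasSubst g := PowerSeries.HasSubst.of_constantCoeff_zero hg0
  have hXs : PowerSeries.HasSubst (PowerSeries.X : MvPowerSeries Unit R) :=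
    PowerSeries.HasSubst.of_constantCoeff_zero hX0
  have h0s : PowerSeries.HasSubst (0 : MvPowerSeries Unit R) := PowerSeries.HasSubst.zero
  set gg : MvPowerSeries Unit R := PowerSeries.subst g g with hgg
  have hgg0 : constantCoeff gg = 0 := by
    rw [hgg, PowerSeries.subst]
    exact constantCoeff_subst_eq_zero hgs.const (fun _ => hg0) hg0
  have hggs : PowerSeries.HasSubst gg := PowerSeries.HasSubst.of_constantCoeff_zero hgg0
  have h1 : F.toPowerSeries.subst ![g, gg] = 0 := by
    have := subst_pair_comp F PowerSeries.X g g hX0 hg0 hg0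
    rw [hg, PowerSeries.subst_X hgs] at this
    rw [← this]
    rw [PowerSeries.subst, ← coe_substAlgHom hgs.const, map_zero]
  have h2 : gg = PowerSeries.X := by
    calc gg = F.toPowerSeries.subst ![0, gg] := (F.zero_add hggs).symm
      _ = F.toPowerSeries.subst ![F.toPowerSeries.subst ![PowerSeries.X, g], gg] := by rw [hg]
      _ = F.toPowerSeries.subst ![PowerSeries.X, F.toPowerSeries.subst ![g, gg]] :=
          F.assoc' hXs hgs hggs
      _ = F.toPowerSeries.subst ![PowerSeries.X, 0] := by rw [h1]
      _ = PowerSeries.X := F.add_zero hXs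
  have h3 : F.toPowerSeries.subst ![g, PowerSeries.X] = 0 := by rw [← h2]; exact h1
  refine ⟨g, hg0, hg, h3, ?_⟩
  intro k hk0 hk
  have hks : PowerSeries.HasSubst k := PowerSeries.HasSubst.of_constantCoeff_zero hk0
  rcases hk with hk | hk
  · calc k = F.toPowerSeries.subst ![0, k] := (F.zero_add hks).symm
      _ = F.toPowerSeries.subst ![F.toPowerSeries.subst ![g, PowerSeries.X], k] := by rw [h3]
      _ = F.toPowerSeries.subst ![g, F.toPowerSeries.subst ![PowerSeries.X, k]] :=
          F.assoc' hgs hXs hks
      _ = F.toPowerSeries.subst ![g, 0] := by rw [hk]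
      _ = g := F.add_zero hgs
  · calc k = F.toPowerSeries.subst ![k, 0] := (F.add_zero hks).symm
      _ = F.toPowerSeries.subst ![k, F.toPowerSeries.subst ![PowerSeries.X, g]] := by rw [hg]
      _ = F.toPowerSeries.subst ![F.toPowerSeries.subst ![k, PowerSeries.X], g] :=
          (F.assoc' hks hXs hgs).symm
      _ = F.toPowerSeries.subst ![0, g] := by rw [hk]
      _ = g := F.zero_add hgs

end Groth.Agent.S15058
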