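import Groth.Statements.S15060
import Groth.Agent.Lib.Helper61.LT

set_option autoImplicit false
universe u
open LubinTate

namespace Groth.Agent.S15060


open MvPowerSeries Groth.Agent.Lib.Helper61


/-- Let O be a discrete valuation ring with finite residue field of cardinality q, π a uniformizer of O,
f = πT + T^q ∈ O[[T]], and F a one-dimensional formal group law over O for which f is an
endomorphism, f(F(X,Y)) = F(f(X), f(Y)). For α ∈ O write [α] for a power series with zero constant
term and linear coefficient α commuting with f (it is unique). Then for all α, β ∈ O and all such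
series [α], [β], [αβ], [α+β] one has [α]([β](T)) = [αβ](T) and F([α](T), [β](T)) = [α+β](T): the map
α ↦ [α] is a ring homomorphism from O to the endomorphisms of F with their formal-group addition and
composition. (The published statement is for the ring of integers of a finite extension of ℚ_p or of
𝔽_q((X)); completeness is not used and any discrete valuation ring with finite residue field is
allowed here.) -/
theorem result (O : Type u) [CommRing O] [IsDomain O] [IsDiscreteValuationRing O]
    [Finite (IsLocalRing.ResidueField O)] (π : O) (hπ : Irreducible π) (f : PowerSeries O)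
    (hf : f = π • PowerSeries.X + PowerSeries.X ^ Nat.card (IsLocalRing.ResidueField O))
    (F : FormalGroup O)
    (hF : PowerSeries.subst F.toPowerSeries f =
        MvPowerSeries.subst (fun i : Fin 2 => PowerSeries.subst (MvPowerSeries.X i : MvPowerSeries (Fin 2) O) f)
          F.toPowerSeries)
    (α β : O) (gα gβ gαβ gs : PowerSeries O)
    (hα0 : gα.constantCoeff = 0) (hα1 : gα.coeff 1 = α) (hαf : PowerSeries.subst gα f = PowerSeries.subst f gα)
    (hβ0 : gβ.constantCoeff = 0) (hβ1 : gβ.coeff 1 = β) (hβf : PowerSeries.subst gβ f = PowerSeries.subst f gβ)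
    (hαβ0 : gαβ.constantCoeff = 0) (hαβ1 : gαβ.coeff 1 = α * β)
    (hαβf : PowerSeries.subst gαβ f = PowerSeries.subst f gαβ)
    (hs0 : gs.constantCoeff = 0) (hs1 : gs.coeff 1 = α + β) (hsf : PowerSeries.subst gs f = PowerSeries.subst f gs) :
    PowerSeries.subst gβ gα = gαβ ∧ F.toPowerSeries.subst ![gα, gβ] = gs := by
  classical
  subst hf
  set q := Nat.card (IsLocalRing.ResidueField O) with hqdef
  have hq2 : 2 ≤ q := two_le_card_residue
  have hq0 : q ≠ 0 := by omega
  have hα0' : constantCoeff (gα : MvPowerSeries Unit O) = 0 := hα0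
  have hβ0' : constantCoeff (gβ : MvPowerSeries Unit O) = 0 := hβ0
  have hαβ0' : constantCoeff (gαβ : MvPowerSeries Unit O) = 0 := hαβ0
  have hs0' : constantCoeff (gs : MvPowerSeries Unit O) = 0 := hs0
  have hFlt : ltDefect π q F.toPowerSeries = 0 :=
    (ltDefect_eq_zero_iff π q _ F.zero_constantCoeff).mpr hF
  have hαlt : ltDefect π q (gα : MvPowerSeries Unit O) = 0 := (ltDefect_unit_iff π q gα hα0').mpr hαf
  have hβlt : ltDefect π q (gβ : MvPowerSeries Unit O) = 0 := (ltDefect_unit_iff π q gβ hβ0').mpr hβf
  have hαβlt : ltDefect π q (gαβ : MvPowerSeries Unit O) = 0 :=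
    (ltDefect_unit_iff π q gαβ hαβ0').mpr hαβf
  have hslt : ltDefect π q (gs : MvPowerSeries Unit O) = 0 := (ltDefect_unit_iff π q gs hs0').mpr hsf
  have hα1' : ∀ j : Unit, coeff (Finsupp.single j 1) (gα : MvPowerSeries Unit O) = α := fun _ => hα1
  have hβ1' : ∀ j : Unit, coeff (Finsupp.single j 1) (gβ : MvPowerSeries Unit O) = β := fun _ => hβ1
  have hαβ1' : ∀ j : Unit, coeff (Finsupp.single j 1) (gαβ : MvPowerSeries Unit O) = α * β :=
    fun _ => hαβ1
  have hs1' : ∀ j : Unit, coeff (Finsupp.single j 1) (gs : MvPowerSeries Unit O) = α + β :=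
    fun _ => hs1
  constructor
  · have hb : HasSubst (fun _ : Unit => (gβ : MvPowerSeries Unit O)) :=
      hasSubst_of_constantCoeff_zero (fun _ => hβ0')
    rw [PowerSeries.subst_def]
    apply lt_unique_dvr π hπ
    · exact constantCoeff_subst_eq_zero hb (fun _ => hβ0') hα0'
    · exact hαβ0'
    · intro j
      rw [coeff_single_subst (gα : MvPowerSeries Unit O) hα0' (fun _ => gβ) hb (fun _ => hβ0') j]
      simp only [Finset.univ_unique, Finset.sum_singleton, hα1', hβ1', hαβ1']
    · exact ltDefect_subst π q hq0 (gα : MvPowerSeries Unit O) hαlt (fun _ => gβ)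
        (fun _ => hβ0') (fun _ => hβlt)
    · exact hαβlt
  · have hv0 : ∀ i : Fin 2, constantCoeff ((![gα, gβ] : Fin 2 → MvPowerSeries Unit O) i) = 0 := by
      intro i
      fin_cases i
      · exact hα0'
      · exact hβ0'
    have hv : HasSubst (![gα, gβ] : Fin 2 → MvPowerSeries Unit O) :=
      hasSubst_of_constantCoeff_zero hv0
    have hvlt : ∀ i : Fin 2, ltDefect π q ((![gα, gβ] : Fin 2 → MvPowerSeries Unit O) i) = 0 := by
      intro i
      fin_cases i
      · exact hαlt
      · exact hβlt
    apply lt_unique_dvr π hπ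
    · exact constantCoeff_subst_eq_zero hv hv0 F.zero_constantCoeff
    · exact hs0'
    · intro j
      rw [coeff_single_subst F.toPowerSeries F.zero_constantCoeff _ hv hv0 j]
      simp only [Fin.sum_univ_two, F.lin_coeff_X, F.lin_coeff_Y, one_mul, hs1']
      show coeff (Finsupp.single j 1) (gα : MvPowerSeries Unit O)
        + coeff (Finsupp.single j 1) (gβ : MvPowerSeries Unit O) = α + β
      rw [hα1', hβ1']
    · exact ltDefect_subst π q hq0 F.toPowerSeries hFlt _ hv0 hvlt
    · exact hslt

end Groth.Agent.S15060
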