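import Groth.Statements.S15062
import Groth.Agent.Lib.Helper69.HopfUnit
import Groth.Agent.Lib.Helper9.HenselLocal

set_option autoImplicit false
universe u
open scoped TensorProduct
open Hopf

namespace Groth.Agent.S15062

/-- Let R be a henselian Noetherian local ring and A a commutative Hopf algebra over R which is finite
and flat as an R-module (a finite flat R-group G = Spec A, not assumed commutative); let e ∈ A be an
idempotent with ε(e) = 1 such that A/(1 − e) is a local ring, so that G⁰ = Spec A/(1 − e) is the
connected component of the unit section, and let B ⊆ A be the subalgebra of functions invariant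
under right translation by G⁰: the equaliser of a ↦ (id ⊗ π)(Δ a) and a ↦ a ⊗ 1 into A ⊗_R A/(1 − e)
(so Spec B = G^ét). Then: (2) for every commutative Hopf algebra C over R which is finite étale over
R (a finite étale R-group H) and every bialgebra homomorphism φ : C → A (a homomorphism G → H), the
image of φ lies in B — the homomorphism factors (necessarily uniquely, A being faithfully flat over
B) through G → G^ét; (3) for every commutative Hopf algebra D over R which is finite and flat over R
and a local ring (a connected finite flat R-group H) and every bialgebra homomorphism ψ : A → D (a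
homomorphism H → G), ψ(e) = 1, i.e. ψ kills the ideal (1 − e) and the homomorphism factors
(uniquely) through G⁰ → G. -/
theorem result (R : Type u) [CommRing R] [HenselianLocalRing R] [IsNoetherianRing R]
    (A : Type u) [CommRing A] [HopfAlgebra R A] [Module.Finite R A] [Module.Flat R A]
    (e : A) (he : IsIdempotentElem e) (hε : Bialgebra.counitAlgHom R A e = 1)
    [IsLocalRing (A ⧸ Ideal.span ({1 - e} : Set A))] :
    (∀ (C : Type u) [CommRing C] [HopfAlgebra R C] [Module.Finite R C] [Algebra.Etale R C] (φ : C →ₐc[R] A) (c : C),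
        φ c ∈ (AlgHom.equalizer
          ((Algebra.TensorProduct.map (AlgHom.id R A) (Ideal.Quotient.mkₐ R (Ideal.span ({1 - e} : Set A)))).comp
            (Bialgebra.comulAlgHom R A))
          (Algebra.TensorProduct.includeLeft : A →ₐ[R] A ⊗[R] (A ⧸ Ideal.span ({1 - e} : Set A))))) ∧
      ∀ (D : Type u) [CommRing D] [HopfAlgebra R D] [Module.Finite R D] [Module.Flat R D] [IsLocalRing D]
        (ψ : A →ₐc[R] D), ψ e = 1 := by
  refine ⟨?_, ?_⟩
  · intro C _ _ _ _ φ c
    rw [AlgHom.mem_equalizer]
    set π := Ideal.Quotient.mkₐ R (Ideal.span ({1 - e} : Set A)) with hπ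
    let χ₁ : C →ₐ[R] A ⧸ Ideal.span ({1 - e} : Set A) := π.comp (φ : C →ₐ[R] A)
    let χ₂ : C →ₐ[R] A ⧸ Ideal.span ({1 - e} : Set A) :=
      (Algebra.ofId R _).comp (Bialgebra.counitAlgHom R C)
    have hχ : χ₁ = χ₂ := by
      apply Groth.Agent.Lib.Helper9.algHom_ext_of_residue_eq
      intro a
      have h1 := Groth.Agent.Lib.Helper69.HopfUnit.sub_mem_maximalIdeal R A e hε (χ₁ a)
      have h2 : Groth.Agent.Lib.Helper69.HopfUnit.epsBar R A e hε (χ₁ a) = Coalgebra.counit (R := R) a := by
        change Groth.Agent.Lib.Helper69.HopfUnit.epsBar R A e hε (Ideal.Quotient.mk _ (φ a)) = _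
        rw [Groth.Agent.Lib.Helper69.HopfUnit.epsBar_mk]
        exact CoalgHomClass.counit_comp_apply φ a
      rw [h2] at h1
      have h3 := (IsLocalRing.residue_eq_zero_iff _).2 h1
      rw [map_sub, sub_eq_zero] at h3
      exact h3
    -- `Δ (φ c) = (φ ⊗ φ) (Δ c)`
    have hΔ : Coalgebra.comul (R := R) (φ c) =
        Algebra.TensorProduct.map (φ : C →ₐ[R] A) (φ : C →ₐ[R] A) (Coalgebra.comul (R := R) c) :=
      (CoalgHomClass.map_comp_comul_apply φ c).symm
    have hF : (Algebra.TensorProduct.map (AlgHom.id R A) π).comp
        (Algebra.TensorProduct.map (φ : C →ₐ[R] A) (φ : C →ₐ[R] A)) =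
        Algebra.TensorProduct.map (φ : C →ₐ[R] A) χ₂ := by
      rw [← Algebra.TensorProduct.map_comp, AlgHom.id_comp]
      exact congrArg _ hχ
    have hz : ∀ z : C ⊗[R] C, Algebra.TensorProduct.map (φ : C →ₐ[R] A) χ₂ z =
        Algebra.TensorProduct.map (φ : C →ₐ[R] A) (Algebra.ofId R (A ⧸ Ideal.span ({1 - e} : Set A)))
          (LinearMap.lTensor C (Coalgebra.counit (R := R) (A := C)) z) := by
      intro z
      induction z with
      | zero => simp
      | add x y hx hy => rw [map_add, map_add, map_add, hx, hy]
      | tmul a b => rfl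
    change Algebra.TensorProduct.map (AlgHom.id R A) π (Coalgebra.comul (R := R) (φ c)) =
      φ c ⊗ₜ[R] 1
    rw [hΔ]
    have h4 := DFunLike.congr_fun hF (Coalgebra.comul (R := R) c)
    rw [AlgHom.comp_apply] at h4
    rw [h4, hz, Coalgebra.lTensor_counit_comul]
    simp
  · intro D _ _ _ _ _ ψ
    have hid : IsIdempotentElem (ψ e) := he.map ψ
    rcases Groth.Agent.Lib.Helper69.HopfUnit.eq_zero_or_eq_one_of_isIdempotentElem hid with h0 | h1
    · exfalso
      have h2 : Coalgebra.counit (R := R) (ψ e) = Coalgebra.counit (R := R) e :=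
        CoalgHomClass.counit_comp_apply ψ e
      rw [h0, map_zero] at h2
      have h3 : Coalgebra.counit (R := R) e = 1 := hε
      rw [h3] at h2
      exact zero_ne_one h2
    · exact h1

end Groth.Agent.S15062
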