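import Groth.Statements.S15064
import Mathlib
import Groth.Agent.Lib.Helper66.AlphaP
import Groth.Agent.Lib.Helper66.TruncPolyQ
open Groth.Agent.Lib.Helper66.TruncPoly Groth.Agent.Lib.Helper66.FrobSub
  Groth.Agent.Lib.Helper66.AlphaP Groth.Agent.Lib.Helper66.TruncPolyQ
open MvPolynomial

set_option autoImplicit false
universe u
open scoped TensorProduct
open Hopf

namespace Groth.Agent.S15064


theorem antipode_of_primitive {k A : Type*} [Field k] [CommRing A] [HopfAlgebra k A] (x : A)
    (hΔx : Coalgebra.comul x = x ⊗ₜ[k] (1 : A) + (1 : A) ⊗ₜ[k] x) :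
    HopfAlgebra.antipode k x = -x := by
  have h := HopfAlgebra.mul_antipode_rTensor_comul_apply (R := k) x
  have hε : Coalgebra.counit (R := k) x = 0 := by
    have h1 := Coalgebra.rTensor_counit_comul (R := k) x
    rw [hΔx, map_add, LinearMap.rTensor_tmul, LinearMap.rTensor_tmul, Bialgebra.counit_one] at h1
    have h2 := congrArg (TensorProduct.lid k A) h1
    rw [map_add, TensorProduct.lid_tmul, TensorProduct.lid_tmul] at h2
    have h3 : Coalgebra.counit (R := k) x • (1 : A) = 0 := by
      have := add_eq_right.1 h2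
      exact this
    have h4 := congrArg (Coalgebra.counit (R := k)) h3
    rw [map_smul, Bialgebra.counit_one, smul_eq_mul, mul_one, map_zero] at h4
    exact h4
  rw [hΔx, map_add, LinearMap.rTensor_tmul, LinearMap.rTensor_tmul, map_add,
    LinearMap.mul'_apply, LinearMap.mul'_apply, HopfAlgebra.antipode_one, mul_one, one_mul, hε,
    map_zero] at h
  exact eq_neg_of_add_eq_zero_left h

/-- Let k be a field of characteristic p > 0 and A a finite-dimensional commutative and cocommutative
Hopf algebra over k (a finite commutative k-group G = Spec A) which is bi-infinitesimal — A is a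
local ring and so is the dual algebra Hom_k(A, k) with the convolution product (G and its Cartier
dual are connected) — with dim_k A > 1, and assume G is simple: every Hopf ideal of A is either zero
or the augmentation ideal (G has no closed subgroup schemes other than G and 1). Then G is
isomorphic to α_p: A has a primitive element x (Δ(x) = x ⊗ 1 + 1 ⊗ x) with x^p = 0 whose powers 1,
x, …, x^(p−1) are linearly independent over k, and dim_k A = p (so A = k[x]/(x^p) with x primitive). -/
theorem result (k : Type u) [Field k] (p : ℕ) [Fact p.Prime] [CharP k p]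
    (A : Type u) [CommRing A] [HopfAlgebra k A] [Coalgebra.IsCocomm k A] [FiniteDimensional k A] [IsLocalRing A]
    (hdual : IsLocalRing (WithConv (A →ₗ[k] k))) (hA : 1 < Module.finrank k A)
    (hsimple : ∀ I : Ideal A, I.IsHopfIdeal k → I = ⊥ ∨ I = RingHom.ker (Bialgebra.counitAlgHom k A)) :
    ∃ x : A, Coalgebra.comul x = x ⊗ₜ[k] (1 : A) + (1 : A) ⊗ₜ[k] x ∧ x ^ p = 0 ∧
      LinearIndependent k (fun i : Fin p => x ^ (i : ℕ)) ∧ Module.finrank k A = p := by
  set I : Ideal A := RingHom.ker (Bialgebra.counitAlgHom k A) with hIdef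
  have hI : ∀ a, a ∈ I ↔ Coalgebra.counit (R := k) a = 0 := fun a => by
    rw [hIdef, RingHom.mem_ker]; rfl
  have hart : IsArtinianRing A := IsArtinianRing.of_finite k A
  have hne : I ≠ ⊤ := by
    intro h
    have : (1 : A) ∈ I := by rw [h]; trivial
    rw [hI, Bialgebra.counit_one] at this
    exact one_ne_zero this
  have hjac : I ≤ Ideal.jacobson ⊥ := by
    rw [IsLocalRing.jacobson_eq_maximalIdeal _ bot_ne_top]
    exact IsLocalRing.le_maximalIdeal hne
  obtain ⟨N, hN0⟩ := IsArtinianRing.isNilpotent_jacobson_bot (R := A)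
  have hN : I ^ N = ⊥ := by
    rw [eq_bot_iff]
    calc I ^ N ≤ (Ideal.jacobson ⊥) ^ N := Ideal.pow_right_mono hjac N
      _ = ⊥ := hN0
  have hnotidem : ¬ (I ≤ I ^ 2) := by
    intro hle
    have hidem : IsIdempotentElem I :=
      le_antisymm (by rw [← sq]; exact Ideal.pow_le_self two_ne_zero) (by rw [← sq]; exact hle)
    have hsub : Subsingleton I.Cotangent := (Ideal.cotangent_subsingleton_iff I).2 hidem
    have h0 : Module.finrank k I.Cotangent = 0 := Module.finrank_zero_of_subsingleton
    have := finrank_eq_one_of_cotangent_trivial I hI N hN h0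
    omega
  -- Step B
  have hfrob : ∀ a : A, Coalgebra.counit (R := k) a = 0 → a ^ p = 0 := by
    intro a ha
    rcases hsimple _ (frobIdeal_isHopfIdeal (k := k) (A := A) p) with h | h
    · have : a ^ p ∈ frobIdeal (k := k) (A := A) p := Ideal.subset_span ⟨a, ha, rfl⟩
      rwa [h, Ideal.mem_bot] at this
    · exfalso
      apply hnotidem
      have := frobIdeal_le_sq (k := k) p I hI
      rwa [h] at this
  -- Step C
  obtain ⟨x, hx0, hεx, hΔx⟩ := exists_primitive hdual hA
  have hxI : x ∈ I := (hI x).2 hεx
  have hxp : x ^ p = 0 := hfrob x hεx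
  -- Step D
  have hSx : HopfAlgebra.antipode k x = -x := antipode_of_primitive x hΔx
  have hHopf : (Ideal.span {x}).IsHopfIdeal k := by
    apply isHopfIdeal_span
    · intro s hs
      rw [Set.mem_singleton_iff.1 hs]
      exact hεx
    · intro s hs
      rw [Set.mem_singleton_iff.1 hs]
      have hq : (Ideal.Quotient.mkₐ k (Ideal.span {x})) x = 0 := by
        rw [Ideal.Quotient.mkₐ_eq_mk, Ideal.Quotient.eq_zero_iff_mem]
        exact Ideal.subset_span rfl
      rw [hΔx, map_add, Algebra.TensorProduct.map_tmul, Algebra.TensorProduct.map_tmul, hq,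
        TensorProduct.zero_tmul, TensorProduct.tmul_zero, add_zero]
    · intro s hs
      rw [Set.mem_singleton_iff.1 hs, hSx]
      exact neg_mem (Ideal.subset_span rfl)
  have hspan : Ideal.span {x} = I := by
    rcases hsimple _ hHopf with h | h
    · exfalso
      apply hx0
      have : x ∈ Ideal.span {x} := Ideal.subset_span rfl
      rwa [h, Ideal.mem_bot] at this
    · exact h
  -- Step E
  have hp : 0 < p := (Fact.out : p.Prime).pos
  set t : I.Cotangent := I.toCotangent ⟨x, hxI⟩ with ht
  have ht0 : t ≠ 0 := by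
    intro h
    rw [ht, Ideal.toCotangent_eq_zero] at h
    apply hnotidem
    calc I = Ideal.span {x} := hspan.symm
      _ ≤ I ^ 2 := by
        rw [Ideal.span_le, Set.singleton_subset_iff]; exact h
  have hli : LinearIndependent k (fun _ : Fin 1 => t) := by
    rw [linearIndependent_unique_iff]; exact ht0
  have hsp : ⊤ ≤ Submodule.span k (Set.range (fun _ : Fin 1 => t)) := by
    intro y _
    obtain ⟨⟨a, ha⟩, rfl⟩ := I.toCotangent_surjective y
    have ha' := ha
    rw [← hspan, Ideal.mem_span_singleton'] at ha'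
    obtain ⟨c, rfl⟩ := ha'
    rw [toCotangent_mul I hI c x hxI]
    exact Submodule.smul_mem _ _ (Submodule.subset_span ⟨0, rfl⟩)
  let b : Module.Basis (Fin 1) k I.Cotangent := Module.Basis.mk hli hsp
  have hb : ∀ i, I.toCotangent ⟨(fun _ : Fin 1 => x) i, hxI⟩ = b i := by
    intro i; rw [Module.Basis.mk_apply]
  have hbij := field_reduced_bijective p hfrob I hI b (fun _ => x) (fun _ => hxI) hb
  set L : restrictDegree (Fin 1) k (p - 1) →ₗ[k] A :=
    (aeval (fun _ : Fin 1 => x) : MvPolynomial (Fin 1) k →ₐ[k] A).toLinearMap ∘ₗ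
      (restrictDegree (Fin 1) k (p - 1)).subtype with hL
  refine ⟨x, hΔx, hxp, ?_, ?_⟩
  · have hmemd : ∀ i : Fin p, Finsupp.single (0 : Fin 1) (i : ℕ) ∈
        {d : Fin 1 →₀ ℕ | ∀ j, d j ≤ p - 1} := by
      intro i j
      have : j = 0 := Subsingleton.elim _ _
      rw [this, Finsupp.single_eq_same]
      have := i.2
      omega
    have hinj : Function.Injective (fun i : Fin p =>
        (⟨Finsupp.single (0 : Fin 1) (i : ℕ), hmemd i⟩ : {d : Fin 1 →₀ ℕ | ∀ j, d j ≤ p - 1})) := by
      intro i j hij
      have h1 : Finsupp.single (0 : Fin 1) (i : ℕ) = Finsupp.single (0 : Fin 1) (j : ℕ) :=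
        congrArg Subtype.val hij
      have h2 := DFunLike.congr_fun h1 0
      simp only [Finsupp.single_eq_same] at h2
      exact Fin.ext h2
    have hli2 := ((reducedBasis k p 1).linearIndependent.map' L
      (LinearMap.ker_eq_bot.2 hbij.1)).comp _ hinj
    have hfun : (fun i : Fin p => x ^ (i : ℕ)) = (L ∘ (reducedBasis k p 1)) ∘ (fun i : Fin p =>
        (⟨Finsupp.single (0 : Fin 1) (i : ℕ), hmemd i⟩ : {d : Fin 1 →₀ ℕ | ∀ j, d j ≤ p - 1})) := by
      funext i
      simp only [Function.comp_apply, hL, LinearMap.comp_apply, Submodule.subtype_apply,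
        AlgHom.toLinearMap_apply, reducedBasis_coe, aeval_monomial]
      simp
    rw [hfun]
    exact hli2
  · have h1 := Module.finrank_eq_nat_card_basis (reducedBasis k p 1)
    rw [card_reduced hp, pow_one] at h1
    rw [← (LinearEquiv.ofBijective L hbij).finrank_eq, h1]

end Groth.Agent.S15064
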