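import Groth.Statements.S15065
import Mathlib
import Groth.Agent.Lib.Helper66.EtaleCase

open scoped TensorProduct
open WithConv
open Groth.Agent.Lib.Helper66.EtaleCase

set_option autoImplicit false
universe u
open Hopf

namespace Groth.Agent.S15065


/-- the kernel of a bialgebra hom (over a field) compatible with the antipode is a Hopf ideal -/
theorem ker_isHopfIdeal {k A B : Type*} [Field k] [CommRing A] [HopfAlgebra k A] [CommRing B]
    [Bialgebra k B] (f : A →ₐc[k] B)
    (hS : ∀ a : A, f a = 0 → f (HopfAlgebra.antipode k a) = 0) :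
    (RingHom.ker (f : A →ₐ[k] B)).IsHopfIdeal k := by
  set J : Ideal A := RingHom.ker (f : A →ₐ[k] B) with hJ
  have hmem : ∀ a : A, a ∈ J ↔ f a = 0 := fun a => by
    rw [hJ, RingHom.mem_ker]; rfl
  have hle : J.restrictScalars k ≤ LinearMap.ker (f : A →ₗ[k] B) := by
    intro a ha
    rw [LinearMap.mem_ker]
    exact (hmem a).1 ha
  set ι : (A ⧸ J.restrictScalars k) →ₗ[k] B := (J.restrictScalars k).liftQ (f : A →ₗ[k] B) hle with hι
  have hιinj : Function.Injective ι := by
    rw [← LinearMap.ker_eq_bot, hι, Submodule.ker_liftQ_eq_bot']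
    ext a
    rw [LinearMap.mem_ker]
    exact hmem a
  have hιι : Function.Injective (TensorProduct.map ι ι) :=
    TensorProduct.map_injective_of_flat_flat' _ _ hιinj hιinj
  refine { counit_eq_zero := fun x hx => ?_, map_mkQ_comul_eq_zero := fun x hx => ?_, antipode_mem := fun x hx => ?_ }
  · have h1 : Coalgebra.counit (R := k) (f x) = Coalgebra.counit (R := k) x :=
      CoalgHomClass.counit_comp_apply f x
    rw [← h1, (hmem x).1 hx, map_zero]
  · apply hιι
    rw [map_zero, ← LinearMap.comp_apply, ← TensorProduct.map_comp]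
    have h2 : ι ∘ₗ (J.restrictScalars k).mkQ = (f : A →ₗ[k] B) := by
      rw [hι]; exact Submodule.liftQ_mkQ _ _ _
    rw [h2]
    have h3 := CoalgHomClass.map_comp_comul_apply f x
    rw [show ((f : A →ₗ[k] B)) = ((f : A →ₗc[k] B) : A →ₗ[k] B) from rfl] 
    erw [h3, (hmem x).1 hx, map_zero]
  · rw [hmem]
    exact hS x ((hmem x).1 hx)

/-- Let k be an algebraically closed field and A a finite-dimensional commutative and cocommutative Hopf
algebra over k which is reduced (a finite étale commutative k-group G = Spec A), with dim_k A > 1,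
and assume G is simple: every Hopf ideal of A is either zero or the augmentation ideal (no closed
subgroup schemes other than G and 1). Then the order dim_k A is a prime number ℓ, so that G is the
constant group ℤ/ℓℤ. (The published statement lists the simple finite commutative groups over an
algebraically closed field of characteristic p > 0; the étale case does not use the characteristic
and is stated here for any algebraically closed field.) -/
theorem result (k : Type u) [Field k] [IsAlgClosed k] (A : Type u) [CommRing A] [HopfAlgebra k A]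
    [Coalgebra.IsCocomm k A] [FiniteDimensional k A] [IsReduced A] (hA : 1 < Module.finrank k A)
    (hsimple : ∀ I : Ideal A, I.IsHopfIdeal k → I = ⊥ ∨ I = RingHom.ker (Bialgebra.counitAlgHom k A)) :
    (Module.finrank k A).Prime := by
  classical
  set n := Module.finrank k A with hn
  have hcard : Nat.card (WithConv (A →ₐ[k] k)) = n := by
    rw [Nat.card_congr (WithConv.equiv (A →ₐ[k] k)), card_points_eq_finrank]
  haveI : Finite (WithConv (A →ₐ[k] k)) := Nat.finite_of_card_ne_zero (by omega)
  set ℓ := n.minFac with hℓ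
  have hℓp : ℓ.Prime := Nat.minFac_prime (by omega)
  haveI : Fact ℓ.Prime := ⟨hℓp⟩
  have hdvd : ℓ ∣ Nat.card (WithConv (A →ₐ[k] k)) := hcard ▸ Nat.minFac_dvd n
  obtain ⟨γ, hγ⟩ := exists_prime_orderOf_dvd_card' ℓ hdvd
  -- the group hom `ℤ/ℓ → Γ`
  let φ0 : ℤ →+ Additive (WithConv (A →ₐ[k] k)) := zmultiplesHom _ (Additive.ofMul γ)
  have hφ0 : φ0 (ℓ : ℤ) = 0 := by
    show ((ℓ : ℤ)) • Additive.ofMul γ = 0
    rw [natCast_zsmul, ← ofMul_pow, ← hγ, pow_orderOf_eq_one]
    rfl
  let φ1 : ZMod ℓ →+ Additive (WithConv (A →ₐ[k] k)) := ZMod.lift ℓ ⟨φ0, hφ0⟩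
  let ψ : Multiplicative (ZMod ℓ) →* WithConv (A →ₐ[k] k) := AddMonoidHom.toMultiplicativeLeft φ1
  have hψ1 : ψ (Multiplicative.ofAdd 1) = γ := by
    show Additive.toMul (φ1 1) = γ
    have : φ1 ((1 : ℤ) : ZMod ℓ) = φ0 1 := ZMod.lift_coe ℓ ⟨φ0, hφ0⟩ 1
    rw [Int.cast_one] at this
    rw [this]
    show Additive.toMul ((1 : ℤ) • Additive.ofMul γ) = γ
    rw [one_zsmul]
    rfl
  set f := pointsBialgHom ψ with hf
  have hJ : (RingHom.ker (f : A →ₐ[k] ConstGrp.F k (Multiplicative (ZMod ℓ)))).IsHopfIdeal k := by
    refine ker_isHopfIdeal f (fun a ha => ?_)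
    funext j
    rw [pointsBialgHom_apply]
    have h1 : (ψ j⁻¹).ofConv a = 0 := by
      have := congrFun ha j⁻¹
      rw [pointsBialgHom_apply] at this
      exact this
    rw [map_inv] at h1
    exact h1
  rcases hsimple _ hJ with h | h
  · have hinj : Function.Injective f := by
      rw [injective_iff_map_eq_zero]
      intro a ha
      have : a ∈ RingHom.ker (f : A →ₐ[k] ConstGrp.F k (Multiplicative (ZMod ℓ))) := by
        rw [RingHom.mem_ker]; exact ha
      rw [h] at this
      exact this
    have hle : n ≤ ℓ := by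
      have := LinearMap.finrank_le_finrank_of_injective (f := (f : A →ₗ[k] ConstGrp.F k (Multiplicative (ZMod ℓ)))) hinj
      have h2 : Module.finrank k (ConstGrp.F k (Multiplicative (ZMod ℓ))) = ℓ := by
        show Module.finrank k (Multiplicative (ZMod ℓ) → k) = ℓ
        rw [Module.finrank_fintype_fun_eq_card, Fintype.card_multiplicative, ZMod.card]
      rw [h2] at this
      exact this
    have hge : ℓ ≤ n := Nat.minFac_le (by omega)
    have : n = ℓ := le_antisymm hle hge
    rw [this]
    exact hℓp
  · exfalso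
    have hγ1 : γ = 1 := by
      apply WithConv.ofConv_injective
      apply algHom_ext_of_ker_eq
      have hle : RingHom.ker (Bialgebra.counitAlgHom k A) ≤ RingHom.ker γ.ofConv := by
        rw [← h]
        intro a ha
        have := congrFun ((RingHom.mem_ker).1 ha) (Multiplicative.ofAdd 1)
        rw [RingHom.mem_ker]
        rw [← hψ1]
        exact this
      have hmax := ker_isMaximal (Bialgebra.counitAlgHom k A)
      have hne : RingHom.ker γ.ofConv ≠ ⊤ := (ker_isMaximal γ.ofConv).ne_top
      rw [← hmax.eq_of_le hne hle]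
      congr 1
    rw [hγ1, orderOf_one] at hγ
    exact hℓp.one_lt.ne hγ

end Groth.Agent.S15065
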