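import Groth.Statements.S15066
import Mathlib
import Groth.Agent.Lib.Helper66.MuP
open Groth.Agent.Lib.Helper66.TruncPoly Groth.Agent.Lib.Helper66.FrobSub
  Groth.Agent.Lib.Helper66.AlphaP Groth.Agent.Lib.Helper66.MuP

set_option autoImplicit false
universe u
open Hopf

namespace Groth.Agent.S15066

/-- Let k be an algebraically closed field of characteristic p > 0 and A a finite-dimensional
commutative and cocommutative Hopf algebra over k (a finite commutative k-group G = Spec A) which is
a local ring (G connected) and whose dual algebra Hom_k(A, k) with the convolution product is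
reduced (the Cartier dual of G is étale, i.e. G is multiplicative), with dim_k A > 1, and assume G
is simple: every Hopf ideal of A is either zero or the augmentation ideal (no closed subgroup
schemes other than G and 1). Then G is isomorphic to μ_p: A has a group-like element g (Δ(g) = g ⊗
g, ε(g) = 1) with g^p = 1 whose powers 1, g, …, g^(p−1) are linearly independent over k, and dim_k A
= p (so A = k[g]/(g^p − 1)). -/
theorem result (k : Type u) [Field k] [IsAlgClosed k] (p : ℕ) [Fact p.Prime]
    [CharP k p] (A : Type u) [CommRing A] [HopfAlgebra k A] [Coalgebra.IsCocomm k A] [FiniteDimensional k A]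
    [IsLocalRing A] (hdual : IsReduced (WithConv (A →ₗ[k] k))) (hA : 1 < Module.finrank k A)
    (hsimple : ∀ I : Ideal A, I.IsHopfIdeal k → I = ⊥ ∨ I = RingHom.ker (Bialgebra.counitAlgHom k A)) :
    ∃ g : A, IsGroupLikeElem k g ∧ g ^ p = 1 ∧ LinearIndependent k (fun i : Fin p => g ^ (i : ℕ)) ∧
      Module.finrank k A = p := by
  obtain ⟨hnotidem, hfrob⟩ := simple_local_facts p hA hsimple
  set I : Ideal A := RingHom.ker (Bialgebra.counitAlgHom k A) with hIdef
  have hI : ∀ a, a ∈ I ↔ Coalgebra.counit (R := k) a = 0 := fun a => by
    rw [hIdef, RingHom.mem_ker]; rfl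
  obtain ⟨g, hg, hg1⟩ := exists_groupLike_ne_one hdual hA
  have hnt : Nontrivial A := inferInstance
  haveI : CharP A p := charP_of_injective_algebraMap (algebraMap k A).injective p
  have hεx : Coalgebra.counit (R := k) (g - 1) = 0 := by
    rw [map_sub, hg.counit_eq_one, Bialgebra.counit_one, sub_self]
  have hgp : g ^ p = 1 := by
    have := hfrob _ hεx
    rw [sub_pow_char, one_pow, sub_eq_zero] at this
    exact this
  have hHopf : (Ideal.span {g - 1}).IsHopfIdeal k := by
    have hq : (Ideal.Quotient.mkₐ k (Ideal.span {g - 1})) g = 1 := by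
      rw [← sub_eq_zero, ← map_one (Ideal.Quotient.mkₐ k (Ideal.span {g - 1})), ← map_sub,
        Ideal.Quotient.mkₐ_eq_mk, Ideal.Quotient.eq_zero_iff_mem]
      exact Ideal.subset_span rfl
    apply isHopfIdeal_span
    · intro s hs
      rw [Set.mem_singleton_iff.1 hs]
      exact hεx
    · intro s hs
      rw [Set.mem_singleton_iff.1 hs, map_sub, hg.comul_eq_tmul_self, Bialgebra.comul_one, map_sub,
        Algebra.TensorProduct.map_tmul, hq, map_one, Algebra.TensorProduct.one_def, sub_self]
    · intro s hs
      rw [Set.mem_singleton_iff.1 hs, map_sub, HopfAlgebra.antipode_one]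
      have h1 : HopfAlgebra.antipode k g - 1 = - HopfAlgebra.antipode k g * (g - 1) := by
        have := hg.antipode_mul_cancel
        linear_combination this
      rw [h1]
      exact Ideal.mul_mem_left _ _ (Ideal.subset_span rfl)
  have hspan : Ideal.span {g - 1} = I := by
    rcases hsimple _ hHopf with h | h
    · exfalso
      apply hg1
      have : g - 1 ∈ Ideal.span {g - 1} := Ideal.subset_span rfl
      rw [h, Ideal.mem_bot, sub_eq_zero] at this
      exact this
    · exact h
  obtain ⟨_, hfin⟩ := monogenic_structure p I hI hfrob hnotidem (g - 1) hspan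
  refine ⟨g, hg, hgp, ?_, hfin⟩
  have hord : orderOf g = p := by
    have h1 : orderOf g ∣ p := orderOf_dvd_of_pow_eq_one hgp
    rcases (Nat.dvd_prime (Fact.out : p.Prime)).1 h1 with h | h
    · exfalso; exact hg1 (orderOf_eq_one_iff.1 h)
    · exact h
  have hinj : Function.Injective (fun i : Fin p =>
      (⟨g ^ (i : ℕ), hg.pow⟩ : {a : A | IsGroupLikeElem k a})) := by
    intro i j hij
    have h1 : g ^ (i : ℕ) = g ^ (j : ℕ) := congrArg Subtype.val hij
    have h2 := pow_injOn_Iio_orderOf (x := g) (by rw [hord]; exact i.2) (by rw [hord]; exact j.2) h1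
    exact Fin.ext h2
  have := (linearIndepOn_isGroupLikeElem (R := k) (A := A)).comp _ hinj
  exact this

end Groth.Agent.S15066
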