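import Groth.Statements.S15067
import Groth.Agent.Lib.Helper96.NormalInv

set_option autoImplicit false
set_option linter.style.haveILetI false
universe u
open scoped TensorProduct
open Hopf

namespace Groth.Agent.S15067

open TensorProduct WithConv

section
variable {R : Type u} [CommRing R] {A A'' : Type u} [CommRing A] [HopfAlgebra R A]
  [CommRing A''] [HopfAlgebra R A''] [Algebra A'' A] [IsScalarTower R A'' A]

/-- first inclusion `A → A ⊗[A''] A` as an `R`-algebra map -/
noncomputable def j₁ : A →ₐ[R] A ⊗[A''] A := Algebra.TensorProduct.includeLeft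

/-- second inclusion `A → A ⊗[A''] A` as an `R`-algebra map -/
noncomputable def j₂ : A →ₐ[R] A ⊗[A''] A :=
  (Algebra.TensorProduct.includeRight : A →ₐ[A''] A ⊗[A''] A).restrictScalars R

theorem j₁_comp : (j₁ (R := R) (A'' := A'')).comp (IsScalarTower.toAlgHom R A'' A) =
    (j₂ (R := R) (A'' := A'')).comp (IsScalarTower.toAlgHom R A'' A) := by
  ext x
  simp only [j₁, j₂, AlgHom.comp_apply, IsScalarTower.coe_toAlgHom', AlgHom.restrictScalars_apply,
    Algebra.TensorProduct.includeLeft_apply, Algebra.TensorProduct.includeRight_apply]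
  rw [Algebra.algebraMap_eq_smul_one, TensorProduct.smul_tmul]

/-- `b ↦ Σ S(b₁) ⊗ b₂` -/
noncomputable def Ψ₀ : A →ₐ[R] A ⊗[A''] A :=
  ofConv (toConv ((j₁ (R := R) (A'' := A'')).comp (HopfAlgebra.antipodeAlgHom R A)) * toConv j₂)

theorem j₁_mul_Ψ₀ : toConv (j₁ (R := R) (A := A) (A'' := A'')) *
    toConv (Ψ₀ (R := R) (A := A) (A'' := A'')) = toConv (j₂ (R := R) (A := A) (A'' := A'')) := by
  unfold Ψ₀
  rw [toConv_ofConv, ← _root_.mul_assoc, Groth.Agent.Lib.Helper96.NormalInv.mul_inv, _root_.one_mul]

theorem Ψ₀_comp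
    (hΔ : (Bialgebra.comulAlgHom R A).comp (IsScalarTower.toAlgHom R A'' A) =
      (Algebra.TensorProduct.map (IsScalarTower.toAlgHom R A'' A) (IsScalarTower.toAlgHom R A'' A)).comp
        (Bialgebra.comulAlgHom R A''))
    (hε : (Bialgebra.counitAlgHom R A).comp (IsScalarTower.toAlgHom R A'' A) =
      Bialgebra.counitAlgHom R A'') (y : A'') :
    Ψ₀ (R := R) (A'' := A'') (algebraMap A'' A y) =
      algebraMap R (A ⊗[A''] A) (Coalgebra.counit (R := R) y) := by
  let φ : A'' →ₐc[R] A := BialgHom.ofAlgHom (IsScalarTower.toAlgHom R A'' A) hε hΔ.symm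
  have h1 := AlgHom.convMul_comp_bialgHom_distrib
    (toConv ((j₁ (R := R) (A'' := A'')).comp (HopfAlgebra.antipodeAlgHom R A))) (toConv j₂) φ
  have hφ : (φ : A'' →ₐ[R] A) = IsScalarTower.toAlgHom R A'' A := rfl
  simp only [hφ] at h1
  rw [← j₁_comp] at h1
  have h2 := AlgHom.convMul_comp_bialgHom_distrib
    (toConv ((j₁ (R := R) (A'' := A'')).comp (HopfAlgebra.antipodeAlgHom R A))) (toConv j₁) φ
  simp only [hφ] at h2
  rw [← h2, Groth.Agent.Lib.Helper96.NormalInv.inv_mul] at h1
  have h3 := DFunLike.congr_fun h1 y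
  simp only [AlgHom.comp_apply, IsScalarTower.coe_toAlgHom'] at h3
  change Ψ₀ (algebraMap A'' A y) = _ at h3
  rw [h3, AlgHom.convOne_def, ofConv_toConv, AlgHom.comp_apply]
  have h4 := DFunLike.congr_fun hε y
  simp only [AlgHom.comp_apply, IsScalarTower.coe_toAlgHom'] at h4
  rw [h4]
  rfl


theorem Ψ₀_mem_ker
    (hΔ : (Bialgebra.comulAlgHom R A).comp (IsScalarTower.toAlgHom R A'' A) =
      (Algebra.TensorProduct.map (IsScalarTower.toAlgHom R A'' A) (IsScalarTower.toAlgHom R A'' A)).comp
        (Bialgebra.comulAlgHom R A''))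
    (hε : (Bialgebra.counitAlgHom R A).comp (IsScalarTower.toAlgHom R A'' A) =
      Bialgebra.counitAlgHom R A'') (a : A)
    (ha : a ∈ (RingHom.ker (Bialgebra.counitAlgHom R A'')).map (algebraMap A'' A)) :
    Ψ₀ (R := R) (A'' := A'') a = 0 := by
  have hle : (RingHom.ker (Bialgebra.counitAlgHom R A'')).map (algebraMap A'' A) ≤
      RingHom.ker (Ψ₀ (R := R) (A := A) (A'' := A'')) := by
    rw [Ideal.map_le_iff_le_comap]
    intro y hy
    rw [Ideal.mem_comap, RingHom.mem_ker, Ψ₀_comp hΔ hε]
    rw [RingHom.mem_ker] at hy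
    have : Coalgebra.counit (R := R) y = 0 := hy
    rw [this, map_zero]
  exact hle ha

/-- the surjection `A ⊗[R] (A ⧸ J) → A ⊗[A''] A` of `A`-algebras -/
noncomputable def tors
    (hΔ : (Bialgebra.comulAlgHom R A).comp (IsScalarTower.toAlgHom R A'' A) =
      (Algebra.TensorProduct.map (IsScalarTower.toAlgHom R A'' A) (IsScalarTower.toAlgHom R A'' A)).comp
        (Bialgebra.comulAlgHom R A''))
    (hε : (Bialgebra.counitAlgHom R A).comp (IsScalarTower.toAlgHom R A'' A) =
      Bialgebra.counitAlgHom R A'') :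
    A ⊗[R] (A ⧸ (RingHom.ker (Bialgebra.counitAlgHom R A'')).map (algebraMap A'' A)) →ₐ[A]
      A ⊗[A''] A :=
  Algebra.TensorProduct.lift (Algebra.ofId A (A ⊗[A''] A))
    (Ideal.Quotient.liftₐ _ (Ψ₀ (R := R) (A := A) (A'' := A'')) (Ψ₀_mem_ker hΔ hε))
    (fun _ _ => Commute.all _ _)

theorem tors_surjective
    (hΔ : (Bialgebra.comulAlgHom R A).comp (IsScalarTower.toAlgHom R A'' A) =
      (Algebra.TensorProduct.map (IsScalarTower.toAlgHom R A'' A) (IsScalarTower.toAlgHom R A'' A)).comp
        (Bialgebra.comulAlgHom R A''))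
    (hε : (Bialgebra.counitAlgHom R A).comp (IsScalarTower.toAlgHom R A'' A) =
      Bialgebra.counitAlgHom R A'') :
    Function.Surjective (tors (R := R) (A := A) (A'' := A'') hΔ hε) := by
  set J := (RingHom.ker (Bialgebra.counitAlgHom R A'')).map (algebraMap A'' A) with hJ
  have h1 : ((tors (R := R) (A := A) (A'' := A'') hΔ hε).restrictScalars R).comp
      (Algebra.TensorProduct.map (AlgHom.id R A) (Ideal.Quotient.mkₐ R J)) =
      (Algebra.TensorProduct.lmul' R).comp (Algebra.TensorProduct.map j₁ Ψ₀) := by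
    apply Algebra.TensorProduct.ext
    · ext a
      simp [tors, j₁]
    · ext a
      simp only [tors, AlgHom.comp_apply, Algebra.TensorProduct.includeRight_apply,
        Algebra.TensorProduct.map_tmul, map_one, AlgHom.restrictScalars_apply,
        Algebra.TensorProduct.lift_tmul, Algebra.TensorProduct.lmul'_apply_tmul, one_mul]
      rfl
  have h2 : ∀ b : A, j₂ (R := R) (A'' := A'') b ∈ (tors (R := R) (A := A) (A'' := A'') hΔ hε).range := by
    intro b
    have := congrArg (fun f : WithConv (A →ₐ[R] A ⊗[A''] A) => f.ofConv b)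
      (j₁_mul_Ψ₀ (R := R) (A := A) (A'' := A''))
    simp only [AlgHom.convMul_def, ofConv_toConv, AlgHom.comp_apply] at this
    rw [← this, ← AlgHom.comp_apply, ← h1]
    exact ⟨_, rfl⟩
  intro t
  rw [← AlgHom.mem_range]
  induction t using TensorProduct.induction_on with
  | zero => exact zero_mem _
  | add x y hx hy => exact add_mem hx hy
  | tmul a b =>
    have : a ⊗ₜ[A''] b = (tors (R := R) (A := A) (A'' := A'') hΔ hε) (a ⊗ₜ 1) * j₂ (R := R) (A'' := A'') b := by
      simp [tors, j₂]
    rw [this]
    exact mul_mem ⟨_, rfl⟩ (h2 b)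

theorem formallyUnramified_of_quotient
    (hΔ : (Bialgebra.comulAlgHom R A).comp (IsScalarTower.toAlgHom R A'' A) =
      (Algebra.TensorProduct.map (IsScalarTower.toAlgHom R A'' A) (IsScalarTower.toAlgHom R A'' A)).comp
        (Bialgebra.comulAlgHom R A''))
    (hε : (Bialgebra.counitAlgHom R A).comp (IsScalarTower.toAlgHom R A'' A) =
      Bialgebra.counitAlgHom R A'') [Module.FaithfullyFlat A'' A]
    [Algebra.FormallyUnramified R
      (A ⧸ (RingHom.ker (Bialgebra.counitAlgHom R A'')).map (algebraMap A'' A))] :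
    Algebra.FormallyUnramified A'' A := by
  haveI : Algebra.FormallyUnramified A (A ⊗[A''] A) :=
    Algebra.FormallyUnramified.of_surjective (tors (R := R) (A := A) (A'' := A'') hΔ hε)
      (tors_surjective hΔ hε)
  exact Algebra.FormallyUnramified.of_formallyUnramified_tensorProduct_of_faithfullyFlat A

end


/-- Let R be a henselian Noetherian local ring, A and A'' commutative Hopf algebras over R which are
finite and flat as R-modules (finite flat R-groups G = Spec A, G'' = Spec A''), and A'' → A an
R-algebra homomorphism compatible with the comultiplications and counits (a homomorphism π : G →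
G'') making A a faithfully flat A''-module (π faithfully flat). Let J ⊆ A be the ideal generated by
the image of the augmentation ideal of A'', so that G' = Spec A/J is the kernel of π and 1 → G' → G
→ G'' → 1 is an exact sequence of finite flat R-groups. Then: (2) if A'' and A/J are local rings
(G'' and G' connected), A is a local ring (G is connected); (3) if A'' and A/J are étale over R (G''
and G' finite étale), A is étale over R (G is finite étale). -/
theorem result (R : Type u) [CommRing R] [HenselianLocalRing R] [IsNoetherianRing R]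
    (A A'' : Type u) [CommRing A] [HopfAlgebra R A] [Module.Finite R A] [Module.Flat R A]
    [CommRing A''] [HopfAlgebra R A''] [Module.Finite R A''] [Module.Flat R A'']
    [Algebra A'' A] [IsScalarTower R A'' A] [Module.FaithfullyFlat A'' A]
    (hΔ : (Bialgebra.comulAlgHom R A).comp (IsScalarTower.toAlgHom R A'' A) =
      (Algebra.TensorProduct.map (IsScalarTower.toAlgHom R A'' A) (IsScalarTower.toAlgHom R A'' A)).comp
        (Bialgebra.comulAlgHom R A''))
    (hε : (Bialgebra.counitAlgHom R A).comp (IsScalarTower.toAlgHom R A'' A) = Bialgebra.counitAlgHom R A'') :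
    ((IsLocalRing A'' ∧
        IsLocalRing (A ⧸ (RingHom.ker (Bialgebra.counitAlgHom R A'')).map (algebraMap A'' A))) → IsLocalRing A) ∧
      ((Algebra.Etale R A'' ∧
        Algebra.Etale R (A ⧸ (RingHom.ker (Bialgebra.counitAlgHom R A'')).map (algebraMap A'' A))) →
        Algebra.Etale R A) := by
  set I'' := RingHom.ker (Bialgebra.counitAlgHom R A'') with hI''
  set J := I''.map (algebraMap A'' A) with hJ
  refine ⟨?_, ?_⟩
  · rintro ⟨hA'', hAJ⟩
    haveI := hA''
    haveI := hAJ
    haveI : Nontrivial A := (FaithfulSMul.algebraMap_injective A'' A).nontrivial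
    haveI : Module.Finite A'' A := Module.Finite.of_restrictScalars_finite R A'' A
    haveI : Algebra.IsIntegral A'' A := Algebra.IsIntegral.of_finite _ _
    have hI''m : I'' ≤ IsLocalRing.maximalIdeal A'' := by
      apply IsLocalRing.le_maximalIdeal
      intro h
      have : (1 : A'') ∈ I'' := by rw [h]; trivial
      rw [hI'', RingHom.mem_ker, map_one] at this
      exact one_ne_zero this
    have hJM : ∀ M : Ideal A, M.IsMaximal → J ≤ M := by
      intro M hM
      rw [hJ, Ideal.map_le_iff_le_comap]
      have : (M.comap (algebraMap A'' A)).IsMaximal :=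
        Ideal.isMaximal_comap_of_isIntegral_of_isMaximal M
      rw [IsLocalRing.eq_maximalIdeal this]
      exact hI''m
    have key : ∀ M : Ideal A, M.IsMaximal →
        M = (IsLocalRing.maximalIdeal (A ⧸ J)).comap (Ideal.Quotient.mk J) := by
      intro M hM
      have h1 : (M.map (Ideal.Quotient.mk J)).IsMaximal :=
        Ideal.IsMaximal.map_of_surjective_of_ker_le Ideal.Quotient.mk_surjective
          (by rw [Ideal.mk_ker]; exact hJM M hM)
      rw [← IsLocalRing.eq_maximalIdeal h1,
        Ideal.comap_map_of_surjective _ Ideal.Quotient.mk_surjective, ← RingHom.ker_eq_comap_bot,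
        Ideal.mk_ker, sup_eq_left.2 (hJM M hM)]
    apply IsLocalRing.of_unique_max_ideal
    obtain ⟨M₀, hM₀⟩ := Ideal.exists_maximal A
    refine ⟨M₀, hM₀, fun M hM => ?_⟩
    rw [key M hM, ← key M₀ hM₀]
  · rintro ⟨hA'', hAJ⟩
    haveI := hA''
    haveI := hAJ
    haveI : Algebra.FormallyUnramified A'' A := formallyUnramified_of_quotient hΔ hε
    haveI : Algebra.FormallyUnramified R A := Algebra.FormallyUnramified.comp R A'' A
    haveI : Algebra.FinitePresentation R A :=
      Algebra.FinitePresentation.of_finiteType.mp inferInstance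
    exact Algebra.Etale.of_formallyUnramified_of_flat

end Groth.Agent.S15067
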