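import Groth.Statements.S15068
import Groth.Agent.Lib.Helper69.HopfUnit
import Groth.Agent.Lib.Helper9.HenselLocal

set_option autoImplicit false
set_option linter.style.haveILetI false
universe u
open scoped TensorProduct
open Hopf

namespace Groth.Agent.S15068

open IsLocalRing

/-- A local `R`-algebra which is unramified, essentially of finite type and has an `R`-point is a
quotient of `R`. -/
theorem eq_algebraMap_of_retraction {R : Type u} [CommRing R] {C : Type u} [CommRing C]
    [IsLocalRing C] [Algebra R C] [Algebra.EssFiniteType R C] [Algebra.FormallyUnramified R C]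
    (ρ : C →ₐ[R] R) (c : C) : c = algebraMap R C (ρ c) := by
  have h : AlgHom.id R C = (Algebra.ofId R C).comp ρ := by
    apply Groth.Agent.Lib.Helper9.algHom_ext_of_residue_eq
    intro a
    have hker : RingHom.ker ρ ≠ ⊤ := by
      intro h
      have : (1 : C) ∈ RingHom.ker ρ := by rw [h]; trivial
      rw [RingHom.mem_ker, map_one] at this
      haveI hnt : Nontrivial R := (algebraMap R C).domain_nontrivial
      exact one_ne_zero this
    have hmem : a - algebraMap R C (ρ a) ∈ maximalIdeal C := by
      apply IsLocalRing.le_maximalIdeal hker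
      rw [RingHom.mem_ker, map_sub, AlgHom.commutes, Algebra.algebraMap_self, RingHom.id_apply,
        sub_self]
    have h3 := (IsLocalRing.residue_eq_zero_iff _).2 hmem
    rw [map_sub, sub_eq_zero] at h3
    exact h3
  exact DFunLike.congr_fun h c


/-- Let R be a henselian Noetherian local ring, A and A'' commutative Hopf algebras over R which are
finite and flat as R-modules, and A'' → A an R-algebra homomorphism compatible with
comultiplications and counits making A faithfully flat over A'' (a faithfully flat homomorphism π :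
G → G'' of finite flat R-groups); let J ⊆ A be the ideal generated by the image of the augmentation
ideal of A'' (G' = Spec A/J = ker π, so 1 → G' → G → G'' → 1 is exact). Assume A'' is a local ring
(G'' connected) and A/J is étale over R (G' finite étale), and let e ∈ A be an idempotent with ε(e)
= 1 such that A/(1 − e) is local (G⁰ = Spec A/(1 − e), the unit component of G). Then the composite
A'' → A → A/(1 − e) is bijective: the restriction G⁰ → G'' of π is an isomorphism, whose inverse
splits the extension, G ≅ G' × G''. -/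
theorem result (R : Type u) [CommRing R] [HenselianLocalRing R]
    [IsNoetherianRing R] (A A'' : Type u) [CommRing A] [HopfAlgebra R A] [Module.Finite R A] [Module.Flat R A]
    [CommRing A''] [HopfAlgebra R A''] [Module.Finite R A''] [Module.Flat R A'']
    [Algebra A'' A] [IsScalarTower R A'' A] [Module.FaithfullyFlat A'' A]
    (hΔ : (Bialgebra.comulAlgHom R A).comp (IsScalarTower.toAlgHom R A'' A) =
      (Algebra.TensorProduct.map (IsScalarTower.toAlgHom R A'' A) (IsScalarTower.toAlgHom R A'' A)).comp
        (Bialgebra.comulAlgHom R A''))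
    (hε : (Bialgebra.counitAlgHom R A).comp (IsScalarTower.toAlgHom R A'' A) = Bialgebra.counitAlgHom R A'')
    [IsLocalRing A''] [Algebra.Etale R (A ⧸ (RingHom.ker (Bialgebra.counitAlgHom R A'')).map (algebraMap A'' A))]
    (e : A) (he : IsIdempotentElem e) (heε : Bialgebra.counitAlgHom R A e = 1)
    [IsLocalRing (A ⧸ Ideal.span ({1 - e} : Set A))] :
    Function.Bijective ((Ideal.Quotient.mkₐ R (Ideal.span ({1 - e} : Set A))).comp (IsScalarTower.toAlgHom R A'' A)) := by
  set II := Ideal.span ({1 - e} : Set A) with hII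
  set π := Ideal.Quotient.mkₐ R II with hπ
  set ψ : A'' →ₐ[R] A ⧸ II := π.comp (IsScalarTower.toAlgHom R A'' A) with hψ
  have hψalg : ∀ x, ψ x = algebraMap A'' (A ⧸ II) x := fun x => rfl
  haveI loc : IsLocalization.Away e (A ⧸ II) := IsLocalization.Away.quotient_of_isIdempotentElem he
  haveI fl1 : Module.Flat A (A ⧸ II) := IsLocalization.flat _ (Submonoid.powers e)
  haveI fl2 : Module.Flat A'' (A ⧸ II) := Module.Flat.trans A'' A (A ⧸ II)
  haveI fin1 : Module.Finite R (A ⧸ II) :=
    Module.Finite.of_surjective π.toLinearMap Ideal.Quotient.mk_surjective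
  haveI fin2 : Module.Finite A'' (A ⧸ II) := Module.Finite.of_restrictScalars_finite R A'' _
  haveI int2 : Algebra.IsIntegral A'' (A ⧸ II) := Algebra.IsIntegral.of_finite _ _
  haveI lh : IsLocalHom (algebraMap A'' (A ⧸ II)) :=
    Groth.Agent.Lib.Helper69.HensIntegralU.isLocalHom_of_isIntegral A'' (A ⧸ II)
  haveI ff : Module.FaithfullyFlat A'' (A ⧸ II) := Module.FaithfullyFlat.of_flat_of_isLocalHom
  change Function.Bijective (algebraMap A'' (A ⧸ II))
  refine ⟨FaithfulSMul.algebraMap_injective A'' (A ⧸ II), ?_⟩
  -- surjectivity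
  set I'' := RingHom.ker (Bialgebra.counitAlgHom R A'') with hI''
  set J := I''.map (algebraMap A'' A) with hJ
  have hJker : J ≤ RingHom.ker (Bialgebra.counitAlgHom R A) := by
    rw [hJ, Ideal.map_le_iff_le_comap]
    intro x hx
    rw [Ideal.mem_comap, RingHom.mem_ker]
    have := DFunLike.congr_fun hε x
    rw [AlgHom.comp_apply] at this
    rw [IsScalarTower.coe_toAlgHom'] at this
    rw [this]
    exact hx
  have hIIker : II ≤ RingHom.ker (Bialgebra.counitAlgHom R A) :=
    Groth.Agent.Lib.Helper69.HopfUnit.span_le_ker R A e heε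
  -- the quotient `C = A / (J + II)`
  let K := J ⊔ II
  let εC : (A ⧸ K) →ₐ[R] R :=
    Ideal.Quotient.liftₐ K (Bialgebra.counitAlgHom R A) (fun a ha => (sup_le hJker hIIker) ha)
  let q₁ : (A ⧸ J) →ₐ[R] (A ⧸ K) := Ideal.Quotient.factorₐ R (le_sup_left : J ≤ K)
  have hq₁ : Function.Surjective q₁ := Ideal.Quotient.factor_surjective (le_sup_left : J ≤ K)
  let q₂ : (A ⧸ II) →ₐ[R] (A ⧸ K) := Ideal.Quotient.factorₐ R (le_sup_right : II ≤ K)
  have hq₂ : Function.Surjective q₂ := Ideal.Quotient.factor_surjective (le_sup_right : II ≤ K)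
  haveI : Nontrivial R := inferInstance
  haveI ntC : Nontrivial (A ⧸ K) := εC.toRingHom.domain_nontrivial
  haveI locC : IsLocalRing (A ⧸ K) := IsLocalRing.of_surjective' q₂.toRingHom hq₂
  haveI unrC : Algebra.FormallyUnramified R (A ⧸ K) :=
    Algebra.FormallyUnramified.of_surjective q₁ hq₁
  haveI ftC : Algebra.FiniteType R (A ⧸ K) := Algebra.FiniteType.of_surjective q₁ hq₁
  have key : ∀ a : A, a - algebraMap R A (Coalgebra.counit (R := R) a) ∈ K := by
    intro a
    have h1 := eq_algebraMap_of_retraction εC (Ideal.Quotient.mk K a)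
    have h2 : εC (Ideal.Quotient.mk K a) = Coalgebra.counit (R := R) a := rfl
    rw [h2, IsScalarTower.algebraMap_apply R A (A ⧸ K), Ideal.Quotient.algebraMap_eq,
      ← sub_eq_zero, ← map_sub, Ideal.Quotient.eq_zero_iff_mem] at h1
    exact h1
  -- Nakayama
  have hI''m : I'' ≤ maximalIdeal A'' := by
    apply IsLocalRing.le_maximalIdeal
    intro h
    have h1 : (1 : A'') ∈ I'' := by rw [h]; trivial
    rw [hI'', RingHom.mem_ker, map_one] at h1
    exact one_ne_zero h1
  let N : Submodule A'' (A ⧸ II) := LinearMap.range (Algebra.linearMap A'' (A ⧸ II))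
  have hN : (⊤ : Submodule A'' (A ⧸ II)) ≤ N ⊔ (maximalIdeal A'') • (⊤ : Submodule A'' (A ⧸ II)) := by
    intro x _
    obtain ⟨a, rfl⟩ := Ideal.Quotient.mk_surjective x
    obtain ⟨j, hj, i, hi, hji⟩ := Submodule.mem_sup.1 (key a)
    have h1 : Ideal.Quotient.mk II a =
        algebraMap A'' (A ⧸ II) (algebraMap R A'' (Coalgebra.counit (R := R) a)) +
          Ideal.Quotient.mk II j := by
      have h2 : a = algebraMap R A (Coalgebra.counit (R := R) a) + j + i := by
        rw [add_assoc, hji]; ring
      conv_lhs => rw [h2]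
      rw [map_add, map_add, Ideal.Quotient.eq_zero_iff_mem.2 hi, add_zero,
        IsScalarTower.algebraMap_apply R A'' A]
      rfl
    rw [h1]
    refine Submodule.add_mem_sup ⟨_, rfl⟩ ?_
    have hjmap : Ideal.Quotient.mk II j ∈ I''.map (algebraMap A'' (A ⧸ II)) := by
      have h3 : I''.map (algebraMap A'' (A ⧸ II)) = J.map (Ideal.Quotient.mk II) := by
        rw [hJ, Ideal.map_map]
        rfl
      rw [h3]
      exact Ideal.mem_map_of_mem _ hj
    have h4 : Ideal.Quotient.mk II j ∈ I'' • (⊤ : Submodule A'' (A ⧸ II)) := by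
      rw [Ideal.smul_top_eq_map]
      exact hjmap
    exact Submodule.smul_mono_left hI''m h4
  have hle := Submodule.le_of_le_smul_of_le_jacobson_bot (Module.Finite.fg_top)
    (IsLocalRing.maximalIdeal_le_jacobson _) hN
  intro x
  obtain ⟨y, hy⟩ := hle (Submodule.mem_top : x ∈ ⊤)
  exact ⟨y, hy⟩

end Groth.Agent.S15068
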