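import Groth.Statements.S1507
import Mathlib.Tactic
import Groth.Agent.Lib.Helper43.PCHomIndep
-- import your own Groth.Agent.* helpers here

set_option autoImplicit false
universe u
attribute [local instance] HasDerivedCategory.standard
open FlatMor

namespace Groth.Agent.S1507

/-- Let A → B be flat and of finite presentation and I an ideal of B. Then A → B/I is a pseudo-coherent
ring map if and only if I is a pseudo-coherent B-module. -/
theorem result {A B : Type u} [CommRing A] [CommRing B] [Algebra A B] [Module.Flat A B] [Algebra.FinitePresentation A B] (I : Ideal B) :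
    MoreMor.IsPseudoCoherentHom A (B ⧸ I) ↔ DRing.IsPseudoCoherentModule' B ↥I := by
  obtain ⟨n, φB, hφB⟩ := (Algebra.FiniteType.iff_quotient_mvPolynomial'' (R := A) (S := B)).1
    inferInstance
  have hB := Groth.Agent.Lib.Helper43.FlatFPPC.pc_of_flat_fp A B n φB hφB
  let φ : MvPolynomial (Fin n) A →ₐ[A] B ⧸ I := (Ideal.Quotient.mkₐ A I).comp φB
  have hφ : Function.Surjective φ := (Ideal.Quotient.mkₐ_surjective A I).comp hφB
  rw [Groth.Agent.Lib.Helper43.PCHomIndep.pc_ideal_iff_quotient I]
  letI algPB : Algebra (MvPolynomial (Fin n) A) B := φB.toRingHom.toAlgebra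
  constructor
  · rintro ⟨n', φ', hφ', hpc'⟩
    have hpc := Groth.Agent.Lib.Helper43.PCHomIndep.pc_indep A (B ⧸ I) n' n φ' hφ' φ hφ hpc'
    letI algPC : Algebra (MvPolynomial (Fin n) A) (B ⧸ I) := φ.toRingHom.toAlgebra
    haveI : IsScalarTower (MvPolynomial (Fin n) A) B (B ⧸ I) :=
      IsScalarTower.of_algebraMap_eq (fun _ => rfl)
    exact (Groth.Agent.S6940.result hB (Dual.inD B (B ⧸ I)) 0).2.2
      (Groth.Agent.Lib.Helper84.DRingPC.isPseudoCoherent'_of_iso
        (Groth.Agent.Lib.Helper43.RestrictSingle.restrictSingleIso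
          (MvPolynomial (Fin n) A) B (B ⧸ I)).symm hpc)
  · intro h
    refine ⟨n, φ, hφ, ?_⟩
    letI algPC : Algebra (MvPolynomial (Fin n) A) (B ⧸ I) := φ.toRingHom.toAlgebra
    haveI : IsScalarTower (MvPolynomial (Fin n) A) B (B ⧸ I) :=
      IsScalarTower.of_algebraMap_eq (fun _ => rfl)
    exact Groth.Agent.Lib.Helper84.DRingPC.isPseudoCoherent'_of_iso
      (Groth.Agent.Lib.Helper43.RestrictSingle.restrictSingleIso
        (MvPolynomial (Fin n) A) B (B ⧸ I))
      ((Groth.Agent.S6940.result hB (Dual.inD B (B ⧸ I)) 0).2.1 h)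

end Groth.Agent.S1507
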