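import Groth.Statements.S15070
import Groth.Agent.Lib.Helper21.SyzygyFree
import Groth.Agent.Lib.Helper21.ReflexiveFreeSch
import Groth.Agent.Lib.Helper21.Devissage
import Groth.Agent.Lib.Helper22.Syzygy
import Groth.Agent.Lib.Helper30.SmoothRegular
import Groth.Agent.Lib.Helper15.DCohLocal

set_option autoImplicit false
universe u
open CategoryTheory CategoryTheory.Limits AlgebraicGeometry
open OrdSurf

namespace Groth.Agent.S15070

/-- Let k be an algebraically closed field of characteristic zero and X a smooth projective surface over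
k (an integral k-scheme, smooth over k, of dimension two, admitting a closed immersion over k into
some projective space P^n_k). Let N be a coherent O_X-module all of whose stalks are torsion-free
modules over the local rings, M a finite locally free O_X-module and φ : M → N an epimorphism of
O_X-modules. Then the kernel of φ is a finite locally free O_X-module. -/
theorem result (k : Type u) [Field k] [IsAlgClosed k] [CharZero k]
    (X : Scheme.{u}) [X.Over (Spec (CommRingCat.of k))] [IsIntegral X]
    [Smooth (X ↘ Spec (CommRingCat.of k))] (hdim : topologicalKrullDim X = 2)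
    (hproj : ∃ (n : ℕ) (ι : X ⟶ CohB1.ProjSpace n k), IsClosedImmersion ι ∧
      ι ≫ CohB1.ProjSpace.toSpec n k = X ↘ Spec (CommRingCat.of k))
    (N : X.Modules) (hN : Coh.IsCoh N) (hNtf : TorSh.IsTorsionFree N)
    (M : X.Modules) (hM : FlatMod.IsFinLocFree M) (φ : M ⟶ N) [Epi φ] :
    FlatMod.IsFinLocFree (kernel φ) := by
  haveI : IsLocallyNoetherian X :=
    Groth.Agent.Lib.Helper30.SmoothRegular.isLocallyNoetherian_of_smooth_field k
      (X ↘ Spec (CommRingCat.of k))
  have hreg : ∀ x : X, IsRegularLocalRing (X.presheaf.stalk x) := fun x =>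
    Groth.Agent.Lib.Helper30.SmoothRegular.stalk_regular_of_smooth_field k
      (X ↘ Spec (CommRingCat.of k)) x
  have hMc : Coh.IsCoh M := Groth.Agent.Lib.Helper15.DCohLocal.isCoh_of_isFinLocFree M hM
  have hK : Coh.IsCoh (kernel φ) := Groth.Agent.Lib.Helper21.Devissage.isCoh_kernel φ hMc hN
  apply Groth.Agent.Lib.Helper21.ReflexiveFreeSch.isFinLocFree_of_free_stalks (kernel φ) hK
  intro x
  haveI := hreg x
  haveI : M.IsQuasicoherent := hMc.1
  haveI : Module.Free (X.presheaf.stalk x) (M.presheaf.stalk x) :=
    Groth.Agent.Lib.Helper2.FinLocFreeAff.free_stalk_of_isFinLocFree M hM x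
  haveI := Groth.Agent.Lib.Helper21.ReflexiveFreeSch.finite_stalk_of_isCoh M hMc x
  haveI := Groth.Agent.Lib.Helper21.ReflexiveFreeSch.finite_stalk_of_isCoh N hN x
  haveI : Module.IsTorsionFree (X.presheaf.stalk x) (N.presheaf.stalk x) := hNtf x
  have hS : (ShortComplex.mk (kernel.ι φ) φ (kernel.condition φ)).Exact :=
    ShortComplex.exact_kernel φ
  have hex := Groth.Agent.Lib.Helper22.Syzygy.stalkMap_exact_of_exact _ hS x
  have hd : ringKrullDim (X.presheaf.stalk x) ≤ 2 :=
    (Groth.Agent.Lib.Helper22.DedekindFree.ringKrullDim_stalk_le X x).trans (le_of_eq hdim)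
  exact Groth.Agent.Lib.Helper21.SyzygyFree.free_of_exact_torsionFree _ hd
    (Groth.Agent.Lib.Helper78.ModStalk.stalkMap (kernel.ι φ) x)
    (Groth.Agent.Lib.Helper78.ModStalk.stalkMap φ x)
    (Groth.Agent.Lib.Helper78.ModStalk.stalkMap_injective_of_mono _ x) hex

end Groth.Agent.S15070
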