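import Groth.Statements.S15071
import Groth.Agent.Lib.Helper21.ReflexiveNormal
import Groth.Agent.Lib.Helper21.ReflexiveFreeSch
import Groth.Agent.Lib.Helper64.DepthIso
import Groth.Agent.Lib.Helper22.Syzygy
import Groth.Agent.Lib.Helper30.SmoothRegular
import Groth.Agent.Lib.Helper15.DCohLocal
import Groth.Agent.Lib.Helper56.DepthAss
import Groth.Agent.Lib.Helper77.AuslanderBuchsbaum

set_option autoImplicit false
universe u
open CategoryTheory CategoryTheory.Limits AlgebraicGeometry
open OrdSurf

namespace Groth.Agent.S15071

/-- Let k be an algebraically closed field of characteristic zero and X a smooth projective surface over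
k (an integral k-scheme, smooth over k, of dimension two, admitting a closed immersion over k into
some projective space P^n_k). Let φ : M → N be a monomorphism between finite locally free
O_X-modules. Then either φ is an isomorphism, or the support of the cokernel of φ contains a point
of X whose local ring has Krull dimension at most one, i.e. the support has codimension at most one
in X. (The published statement phrases the first alternative as M and N being isomorphic; the
argument shows that the given monomorphism is an isomorphism, which is the form stated here.) -/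
theorem result (k : Type u) [Field k] [IsAlgClosed k] [CharZero k]
    (X : Scheme.{u}) [X.Over (Spec (CommRingCat.of k))] [IsIntegral X]
    [Smooth (X ↘ Spec (CommRingCat.of k))] (hdim : topologicalKrullDim X = 2)
    (hproj : ∃ (n : ℕ) (ι : X ⟶ CohB1.ProjSpace n k), IsClosedImmersion ι ∧
      ι ≫ CohB1.ProjSpace.toSpec n k = X ↘ Spec (CommRingCat.of k))
    (M N : X.Modules) (hM : FlatMod.IsFinLocFree M) (hN : FlatMod.IsFinLocFree N)
    (φ : M ⟶ N) [Mono φ] :
    IsIso φ ∨ ∃ x : X, x ∈ CohB1.support (cokernel φ) ∧ ringKrullDim (X.presheaf.stalk x) ≤ 1 := by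
  by_contra hcon
  push_neg at hcon
  obtain ⟨hnotiso, hall⟩ := hcon
  apply hnotiso
  haveI : IsLocallyNoetherian X :=
    Groth.Agent.Lib.Helper30.SmoothRegular.isLocallyNoetherian_of_smooth_field k
      (X ↘ Spec (CommRingCat.of k))
  have hreg : ∀ x : X, IsRegularLocalRing (X.presheaf.stalk x) := fun x =>
    Groth.Agent.Lib.Helper30.SmoothRegular.stalk_regular_of_smooth_field k
      (X ↘ Spec (CommRingCat.of k)) x
  have hMc : Coh.IsCoh M := Groth.Agent.Lib.Helper15.DCohLocal.isCoh_of_isFinLocFree M hM
  have hNc : Coh.IsCoh N := Groth.Agent.Lib.Helper15.DCohLocal.isCoh_of_isFinLocFree N hN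
  haveI : M.IsQuasicoherent := hMc.1
  haveI : N.IsQuasicoherent := hNc.1
  have hS : (ShortComplex.mk φ (cokernel.π φ) (cokernel.condition φ)).ShortExact :=
    ShortComplex.ShortExact.mk' (ShortComplex.exact_cokernel φ) inferInstance inferInstance
  apply Groth.Agent.Lib.Helper64.DepthIso.isIso_of_depth_of_torsionFree φ hMc hNc.1 ?_ ?_
  · intro x
    haveI := hreg x
    haveI : IsDomain (X.presheaf.stalk x) :=
      Groth.Agent.Lib.Helper76.isDomain_of_isRegularLocalRing _
    haveI : Module.Free (X.presheaf.stalk x) (N.presheaf.stalk x) :=
      Groth.Agent.Lib.Helper2.FinLocFreeAff.free_stalk_of_isFinLocFree N hN x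
    exact ⟨fun {r m} h => smul_eq_zero.mp h⟩
  · intro x
    haveI := hreg x
    by_cases hx : x ∈ CohB1.support (cokernel φ)
    · right
      have h2 : (2 : WithBot ℕ∞) ≤ ringKrullDim (X.presheaf.stalk x) := by
        by_contra h
        exact absurd ((Groth.Agent.Lib.Helper21.ReflexiveNormal.not_two_le_iff _).mp h)
          (not_le.mpr (hall x hx))
      have hdd := Groth.Agent.Lib.Helper77.RegularCM.depth_eq_dim (X.presheaf.stalk x)
      have h2' : (2 : ℕ∞) ≤ LocCoh.depth (X.presheaf.stalk x) (X.presheaf.stalk x) := by
        rw [← hdd] at h2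
        exact WithBot.coe_le_coe.mp h2
      refine ⟨?_, ?_⟩
      · haveI : Module.Free (X.presheaf.stalk x) (M.presheaf.stalk x) :=
          Groth.Agent.Lib.Helper2.FinLocFreeAff.free_stalk_of_isFinLocFree M hM x
        haveI := Groth.Agent.Lib.Helper21.ReflexiveFreeSch.finite_stalk_of_isCoh M hMc x
        rcases subsingleton_or_nontrivial (M.presheaf.stalk x) with hs | hn
        · rw [Groth.Agent.Lib.Helper56.depth_eq_top_of_subsingleton]
          exact le_top
        · rw [Groth.Agent.Lib.Helper77.AuslanderBuchsbaum.depth_of_free]
          exact h2'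
      · rintro rfl
        have h0 : ringKrullDim (X.presheaf.stalk (genericPoint X)) = 0 :=
          ringKrullDim_eq_zero_of_field X.functionField
        rw [h0] at h2
        exact absurd h2 (by decide)
    · left
      have hsub : Subsingleton ((cokernel φ).presheaf.stalk x) := by
        by_contra h
        exact hx h
      have hex := Groth.Agent.Lib.Helper78.ModStalkExact.stalk_function_exact _ hS x
      refine ⟨Groth.Agent.Lib.Helper78.ModStalk.stalkMap_injective_of_mono φ x, ?_⟩
      intro n
      exact (hex n).mp (Subsingleton.elim _ _)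

end Groth.Agent.S15071
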