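import Groth.Statements.S15077
import Mathlib
import Groth.Agent.Lib.Helper7.ProjSpaceProper
import Groth.Agent.Lib.Helper14.PicCalc
import Groth.Agent.Lib.Helper60.TensorMod
import Groth.Agent.Lib.Helper35.GenLocus
import Groth.Prelude.Def_KoszTw
import Groth.Prelude.Def_DDual2

set_option autoImplicit false
universe u
open CategoryTheory CategoryTheory.Limits AlgebraicGeometry
open OrdSurf

set_option linter.unusedSectionVars false

namespace Groth.Agent.S15077Aux

open Groth.Agent.Lib.Lead.Inv Groth.Agent.Lib.Lead.QCohAff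
open TopologicalSpace Opposite

variable {X : Scheme.{u}}

/-- naturality of `app` -/
lemma app_res {M N : X.Modules} (φ : M ⟶ N) {U V : X.Opens} (h : V ≤ U) (s : Γ(M, U)) :
    (φ.app V) (M.presheaf.map (homOfLE h).op s) = N.presheaf.map (homOfLE h).op ((φ.app U) s) := by
  have := congrArg (fun ψ => ψ.hom s) (φ.mapPresheaf.naturality (homOfLE h).op)
  exact this

lemma res_gen_coeff {L : X.Modules} (φ : L ⟶ L) {U : X.Opens} {e : Γ(L, U)} (he : IsGen L U e)
    {W : X.Opens} (h : W ≤ U) :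
    L.presheaf.map (homOfLE h).op ((φ.app U) e) =
      X.presheaf.map (homOfLE h).op (he.coeff le_rfl ((φ.app U) e)) •
        L.presheaf.map (homOfLE h).op e := by
  have h1 := he.coeff_smul le_rfl ((φ.app U) e)
  conv_lhs => rw [← h1]
  rw [res_smul, res_res]

lemma end_on_gen {L : X.Modules} (φ : L ⟶ L) {U : X.Opens} {e : Γ(L, U)} (he : IsGen L U e)
    {W : X.Opens} (h : W ≤ U) (r : Γ(X, W)) :
    (φ.app W) (r • L.presheaf.map (homOfLE h).op e) =
      (r * X.presheaf.map (homOfLE h).op (he.coeff le_rfl ((φ.app U) e))) •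
        L.presheaf.map (homOfLE h).op e := by
  rw [Scheme.Modules.Hom.app_smul, app_res, mul_smul, res_gen_coeff φ he h]

lemma coeff_compat {L : X.Modules} (φ : L ⟶ L) {U₁ U₂ : X.Opens} {e₁ : Γ(L, U₁)} {e₂ : Γ(L, U₂)}
    (he₁ : IsGen L U₁ e₁) (he₂ : IsGen L U₂ e₂) :
    X.presheaf.map (homOfLE (inf_le_left : U₁ ⊓ U₂ ≤ U₁)).op (he₁.coeff le_rfl ((φ.app U₁) e₁)) =
      X.presheaf.map (homOfLE (inf_le_right : U₁ ⊓ U₂ ≤ U₂)).op (he₂.coeff le_rfl ((φ.app U₂) e₂)) := by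
  set W := U₁ ⊓ U₂
  have hl : W ≤ U₁ := inf_le_left
  have hr : W ≤ U₂ := inf_le_right
  set c₁ := X.presheaf.map (homOfLE hl).op (he₁.coeff le_rfl ((φ.app U₁) e₁))
  set c₂ := X.presheaf.map (homOfLE hr).op (he₂.coeff le_rfl ((φ.app U₂) e₂))
  set u := he₂.coeff hr (L.presheaf.map (homOfLE hl).op e₁)
  have hu : u • L.presheaf.map (homOfLE hr).op e₂ = L.presheaf.map (homOfLE hl).op e₁ :=
    he₂.coeff_smul hr _
  have h1 : (φ.app W) (L.presheaf.map (homOfLE hl).op e₁) = c₁ • L.presheaf.map (homOfLE hl).op e₁ := by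
    have := end_on_gen φ he₁ hl 1
    rwa [one_smul, one_mul] at this
  have h2 : (φ.app W) (L.presheaf.map (homOfLE hl).op e₁) = c₂ • L.presheaf.map (homOfLE hl).op e₁ := by
    have := end_on_gen φ he₂ hr u
    rw [hu] at this
    rw [this, mul_comm, mul_smul, hu]
  exact (he₁ W hl).1 (h1.symm.trans h2)


/-- a global coefficient for an endomorphism of an invertible module, on a chosen family of
local generators -/
lemma exists_global_coeff {L : X.Modules} (hL : PicF.IsInvertible L) (φ : L ⟶ L) :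
    ∃ (U : X → X.Opens) (e : ∀ x, Γ(L, U x)) (c : Γ(X, ⊤)),
      (∀ x, x ∈ U x) ∧ (∀ x, IsGen L (U x) (e x)) ∧
      ∀ x, (he : IsGen L (U x) (e x)) →
        he.coeff le_rfl ((φ.app (U x)) (e x)) = X.presheaf.map (homOfLE le_top).op c := by
  rw [isInvertible_iff_exists_isGen] at hL
  choose U hxU e he using hL
  let sf : ∀ x, Γ(X, U x) := fun x => (he x).coeff le_rfl ((φ.app (U x)) (e x))
  have hcompat : TopCat.Presheaf.IsCompatible X.sheaf.1 U sf := by
    intro x y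
    exact coeff_compat φ (he x) (he y)
  have hcover : (⊤ : X.Opens) ≤ iSup U := by
    intro x _
    exact Opens.mem_iSup.mpr ⟨x, hxU x⟩
  obtain ⟨c, hc, -⟩ := X.sheaf.existsUnique_gluing' U ⊤ (fun x => homOfLE le_top) hcover sf hcompat
  refine ⟨U, e, c, hxU, he, fun x he' => ?_⟩
  exact (hc x).symm

lemma eq_zero_of_local {L : X.Modules} (φ : L ⟶ L) (U : X → X.Opens) (hxU : ∀ x, x ∈ U x)
    (h : ∀ (x : X) (W : X.Opens), W ≤ U x → ∀ s : Γ(L, W), (φ.app W) s = 0) : φ = 0 := by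
  apply Scheme.Modules.hom_ext
  intro W
  ext s
  change (φ.app W) s = 0
  have hcov : W ≤ ⨆ x, W ⊓ U x := by
    intro y hy
    exact Opens.mem_iSup.mpr ⟨y, hy, hxU y⟩
  refine Groth.Agent.Lib.Helper35.AbSheaf.ext_cover L.presheaf L.isSheaf (fun x => W ⊓ U x)
    (fun x => inf_le_left) hcov _ _ (fun x => ?_)
  change L.presheaf.map (homOfLE _).op ((φ.app W) s) = L.presheaf.map (homOfLE _).op 0
  rw [← app_res, h x (W ⊓ U x) inf_le_right, map_zero]

/-- Lemma E: a nonzero endomorphism of an invertible module is an isomorphism when the ring of global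
functions is a field. -/
theorem isIso_of_ne_zero (hunit : ∀ c : Γ(X, ⊤), c ≠ 0 → IsUnit c)
    {L : X.Modules} (hL : PicF.IsInvertible L) (φ : L ⟶ L) (hφ : φ ≠ 0) : IsIso φ := by
  obtain ⟨U, e, c, hxU, he, hc⟩ := exists_global_coeff hL φ
  have hc0 : c ≠ 0 := by
    rintro rfl
    apply hφ
    apply eq_zero_of_local φ U hxU
    intro x W hW s
    obtain ⟨r, rfl⟩ := (he x W hW).2 s
    change (φ.app W) (r • L.presheaf.map (homOfLE hW).op (e x)) = 0
    rw [end_on_gen φ (he x) hW r, hc x (he x), map_zero, map_zero, mul_zero, zero_smul]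
  have hcu := hunit c hc0
  -- local bijectivity
  have hloc : ∀ (W : X.Opens) (x : X), W ≤ U x → Function.Bijective (φ.mapPresheaf.app (op W)).hom := by
    intro W x hW
    set cW : Γ(X, W) := X.presheaf.map (homOfLE hW).op
      ((he x).coeff le_rfl ((φ.app (U x)) (e x))) with hcW
    have hcWu : IsUnit cW := by
      rw [hcW, hc x (he x), res_resX]
      exact hcu.map (X.presheaf.map (homOfLE _).op).hom
    have hg := he x W hW
    have hmul : Function.Bijective (fun r : Γ(X, W) => r * cW) := by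
      have hinj := hcWu.mul_left_injective
      obtain ⟨v, hv⟩ := hcWu
      refine ⟨fun a b hab => hinj hab, fun y => ⟨y * ↑v⁻¹, ?_⟩⟩
      simp only [← hv, mul_assoc, Units.inv_mul, mul_one]
    have hcomp : (fun s => (φ.app W) s) ∘ (fun r : Γ(X, W) => r • L.presheaf.map (homOfLE hW).op (e x)) =
        (fun r : Γ(X, W) => r • L.presheaf.map (homOfLE hW).op (e x)) ∘ (fun r : Γ(X, W) => r * cW) := by
      funext r
      exact end_on_gen φ (he x) hW r
    have hbij : Function.Bijective ((fun s => (φ.app W) s) ∘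
        (fun r : Γ(X, W) => r • L.presheaf.map (homOfLE hW).op (e x))) := by
      rw [hcomp]; exact hg.comp hmul
    have : Function.Bijective (fun s => (φ.app W) s) :=
      (Function.Bijective.of_comp_iff _ hg).mp hbij
    exact this
  apply Groth.Agent.Lib.Helper60.TensorLib.isIso_of_app_bijective
  intro W
  have hcov : W ≤ iSup U := by
    intro y _
    exact Opens.mem_iSup.mpr ⟨y, hxU y⟩
  exact Groth.Agent.Lib.Helper35.GenLocus.bijective_app_of_local L.isSheaf L.isSheaf φ.mapPresheaf U W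
    hcov hloc

theorem isIso_of_comp_ne_zero (hunit : ∀ c : Γ(X, ⊤), c ≠ 0 → IsUnit c)
    {L M : X.Modules} (hL : PicF.IsInvertible L) (hM : PicF.IsInvertible M)
    (a : L ⟶ M) (b : M ⟶ L) (hab : a ≫ b ≠ 0) : IsIso a := by
  haveI hφ : IsIso (a ≫ b) := isIso_of_ne_zero hunit hL (a ≫ b) hab
  have hba : b ≫ a ≠ 0 := by
    intro h0
    apply hab
    have h00 : (a ≫ b) ≫ (a ≫ b) = 0 := by
      rw [Category.assoc, ← Category.assoc b a b, h0, zero_comp, comp_zero]
    exact (cancel_epi (a ≫ b)).mp (h00.trans comp_zero.symm)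
  haveI hψ : IsIso (b ≫ a) := isIso_of_ne_zero hunit hM (b ≫ a) hba
  have h1 : (inv (b ≫ a) ≫ b) ≫ a = 𝟙 M := by rw [Category.assoc, IsIso.inv_hom_id]
  have h2 : a ≫ (b ≫ inv (a ≫ b)) = 𝟙 L := by rw [← Category.assoc, IsIso.hom_inv_id]
  have h3 : inv (b ≫ a) ≫ b = b ≫ inv (a ≫ b) := by
    calc inv (b ≫ a) ≫ b = (inv (b ≫ a) ≫ b) ≫ (a ≫ (b ≫ inv (a ≫ b))) := by
          rw [h2, Category.comp_id]
      _ = ((inv (b ≫ a) ≫ b) ≫ a) ≫ (b ≫ inv (a ≫ b)) := by simp only [Category.assoc]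
      _ = b ≫ inv (a ≫ b) := by rw [h1, Category.id_comp]
  refine ⟨⟨b ≫ inv (a ≫ b), h2, ?_⟩⟩
  rw [← h3]; exact h1

/-- `L` "hits" `R`: there are maps `L ⟶ R ⟶ L` with nonzero composite -/
def Hit (L R : X.Modules) : Prop := ∃ (a : L ⟶ R) (b : R ⟶ L), a ≫ b ≠ 0

lemma Hit.biprod {L A R : X.Modules} (h : Hit L (A ⊞ R)) : Hit L A ∨ Hit L R := by
  obtain ⟨a, b, hab⟩ := h
  by_contra hcon
  rw [not_or] at hcon
  apply hab
  have h1 : (a ≫ biprod.fst) ≫ (biprod.inl ≫ b) = 0 := by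
    by_contra h
    exact hcon.1 ⟨_, _, h⟩
  have h2 : (a ≫ biprod.snd) ≫ (biprod.inr ≫ b) = 0 := by
    by_contra h
    exact hcon.2 ⟨_, _, h⟩
  calc a ≫ b = a ≫ 𝟙 _ ≫ b := by rw [Category.id_comp]
    _ = a ≫ (biprod.fst ≫ biprod.inl + biprod.snd ≫ biprod.inr) ≫ b := by rw [biprod.total]
    _ = (a ≫ biprod.fst) ≫ (biprod.inl ≫ b) + (a ≫ biprod.snd) ≫ (biprod.inr ≫ b) := by
        simp only [Preadditive.add_comp, Preadditive.comp_add, Category.assoc]
    _ = 0 := by rw [h1, h2, add_zero]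

lemma Hit.iso (hunit : ∀ c : Γ(X, ⊤), c ≠ 0 → IsUnit c) {L M : X.Modules}
    (hL : PicF.IsInvertible L) (hM : PicF.IsInvertible M) (h : Hit L M) : Nonempty (L ≅ M) := by
  obtain ⟨a, b, hab⟩ := h
  haveI := isIso_of_comp_ne_zero hunit hL hM a b hab
  exact ⟨asIso a⟩

lemma id_ne_zero [Nonempty X] {L : X.Modules} (hL : PicF.IsInvertible L) : 𝟙 L ≠ 0 := by
  intro h0
  rw [isInvertible_iff_exists_isGen] at hL
  obtain ⟨x⟩ := ‹Nonempty X›
  obtain ⟨U, hxU, e, he⟩ := hL x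
  haveI : Nonempty U := ⟨⟨x, hxU⟩⟩
  haveI : Nontrivial Γ(X, U) := X.component_nontrivial U
  have hz : ∀ s : Γ(L, U), s = 0 := by
    intro s
    have := congrArg (fun φ : L ⟶ L => (φ.app U) s) h0
    simpa using this
  have hinj := (he U le_rfl).1
  have : (0 : Γ(X, U)) = 1 := hinj ((hz _).trans (hz _).symm)
  exact zero_ne_one this

theorem exists_summand (hunit : ∀ c : Γ(X, ⊤), c ≠ 0 → IsUnit c) [Nonempty X]
    {L O I J K : X.Modules} (hL : PicF.IsInvertible L) (hO : PicF.IsInvertible O)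
    (hI : PicF.IsInvertible I) (hJ : PicF.IsInvertible J) (hK : PicF.IsInvertible K)
    (ι : L ⟶ O ⊞ I ⊞ J ⊞ K) (π : O ⊞ I ⊞ J ⊞ K ⟶ L) (h : ι ≫ π = 𝟙 L) :
    Nonempty (L ≅ O) ∨ Nonempty (L ≅ I) ∨ Nonempty (L ≅ J) ∨ Nonempty (L ≅ K) := by
  have h0 : Hit L (O ⊞ I ⊞ J ⊞ K) := ⟨ι, π, by rw [h]; exact id_ne_zero hL⟩
  rcases h0.biprod with h1 | h1
  · exact Or.inl (h1.iso hunit hL hO)
  rcases h1.biprod with h2 | h2
  · exact Or.inr (Or.inl (h2.iso hunit hL hI))
  rcases h2.biprod with h3 | h3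
  · exact Or.inr (Or.inr (Or.inl (h3.iso hunit hL hJ)))
  · exact Or.inr (Or.inr (Or.inr (h3.iso hunit hL hK)))

/-- `L` is a retract of `F` when `F ⊗ L ≅ F` and `F = O ⊞ R` -/
theorem exists_retract {L R : X.Modules}
    (e : CohB1.tensorMod (Coh.structureModule X ⊞ R) L ≅ Coh.structureModule X ⊞ R) :
    ∃ (ι : L ⟶ Coh.structureModule X ⊞ R) (π : Coh.structureModule X ⊞ R ⟶ L), ι ≫ π = 𝟙 L := by
  obtain ⟨u⟩ := Groth.Agent.Lib.Helper60.TensorLib.nonempty_tensorMod_unit_left L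
  refine ⟨u.inv ≫ KoszTw.tensorMap (biprod.inl : Coh.structureModule X ⟶ Coh.structureModule X ⊞ R) (𝟙 L) ≫ e.hom,
    e.inv ≫ KoszTw.tensorMap (biprod.fst : Coh.structureModule X ⊞ R ⟶ Coh.structureModule X) (𝟙 L) ≫ u.hom, ?_⟩
  simp only [Category.assoc, Iso.hom_inv_id_assoc]
  rw [← Category.assoc (KoszTw.tensorMap _ _), ← KoszTw.tensorMap_comp, biprod.inl_fst, Category.comp_id,
    KoszTw.tensorMap_id, Category.id_comp, Iso.inv_hom_id]

section perm

variable {C : Type*} [Category C] [Preadditive C] [HasBinaryBiproducts C]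

lemma R_biprod {A A' B B' : C} (h : Nonempty (A ≅ A')) (h' : Nonempty (B ≅ B')) :
    Nonempty (A ⊞ B ≅ A' ⊞ B') := by
  obtain ⟨e⟩ := h
  obtain ⟨e'⟩ := h'
  exact ⟨biprod.mapIso e e'⟩

lemma R_braid (A B : C) : Nonempty (A ⊞ B ≅ B ⊞ A) := ⟨biprod.braiding A B⟩

lemma R_swap12 (A B D : C) : Nonempty (A ⊞ (B ⊞ D) ≅ B ⊞ (A ⊞ D)) :=
  ⟨(biprod.associator A B D).symm ≪≫ biprod.mapIso (biprod.braiding A B) (Iso.refl D) ≪≫
    biprod.associator B A D⟩

lemma R_trans {A B D : C} (h : Nonempty (A ≅ B)) (h' : Nonempty (B ≅ D)) : Nonempty (A ≅ D) := by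
  obtain ⟨e⟩ := h
  obtain ⟨e'⟩ := h'
  exact ⟨e ≪≫ e'⟩

lemma R_refl (A : C) : Nonempty (A ≅ A) := ⟨Iso.refl A⟩

lemma R_swap23 (A B D E : C) : Nonempty (A ⊞ (B ⊞ (D ⊞ E)) ≅ A ⊞ (D ⊞ (B ⊞ E))) :=
  R_biprod (R_refl A) (R_swap12 B D E)

lemma R_swap34 (A B D E : C) : Nonempty (A ⊞ (B ⊞ (D ⊞ E)) ≅ A ⊞ (B ⊞ (E ⊞ D))) :=
  R_biprod (R_refl A) (R_biprod (R_refl B) (R_braid D E))

/-- (1,0,3,2) -/
lemma R_perm1 (A B D E : C) : Nonempty (B ⊞ (A ⊞ (E ⊞ D)) ≅ A ⊞ (B ⊞ (D ⊞ E))) :=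
  R_trans (R_swap12 B A (E ⊞ D)) (R_swap34 A B E D)

/-- (2,3,0,1) -/
lemma R_perm2 (A B D E : C) : Nonempty (D ⊞ (E ⊞ (A ⊞ B)) ≅ A ⊞ (B ⊞ (D ⊞ E))) :=
  R_trans (R_swap23 D E A B) (R_trans (R_swap12 D A (E ⊞ B))
    (R_trans (R_swap34 A D E B) (R_swap23 A D B E)))

/-- (3,2,1,0) -/
lemma R_perm3 (A B D E : C) : Nonempty (E ⊞ (D ⊞ (B ⊞ A)) ≅ A ⊞ (B ⊞ (D ⊞ E))) :=
  R_trans (R_swap34 E D B A) (R_trans (R_swap23 E D A B) (R_trans (R_swap12 E A (D ⊞ B))
    (R_trans (R_swap34 A E D B) (R_trans (R_swap23 A E B D) (R_swap34 A B E D)))))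

end perm

open Groth.Agent.Lib.Helper14.PicCalc

lemma dist2 (A B L : X.Modules) :
    Nonempty (CohB1.tensorMod (A ⊞ B) L ≅ CohB1.tensorMod A L ⊞ CohB1.tensorMod B L) := by
  haveI := preservesBinaryBiproducts_of_preservesBiproducts (DCoh.tensorRightMod L)
  exact ⟨(DCoh.tensorRightMod L).mapBiprod A B⟩

lemma dist4 (A B D E L : X.Modules) :
    Nonempty (CohB1.tensorMod (A ⊞ B ⊞ D ⊞ E) L ≅
      CohB1.tensorMod A L ⊞ CohB1.tensorMod B L ⊞ CohB1.tensorMod D L ⊞ CohB1.tensorMod E L) :=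
  R_trans (dist2 A (B ⊞ D ⊞ E) L) (R_biprod (R_refl _)
    (R_trans (dist2 B (D ⊞ E) L) (R_biprod (R_refl _) (dist2 D E L))))

lemma R_of_class {P L Q : X.Modules} (hP : PicF.IsInvertible P) (hL : PicF.IsInvertible L)
    (hQ : PicF.IsInvertible Q) (h : Pic.mk P hP * Pic.mk L hL = Pic.mk Q hQ) :
    Nonempty (CohB1.tensorMod P L ≅ Q) := by
  rw [Pic.mk_mul_mk] at h
  exact (Pic.mk_eq_mk _ _).mp h

theorem backward {I J L : X.Modules} (hI : PicF.IsInvertible I) (hJ : PicF.IsInvertible J)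
    (hL : PicF.IsInvertible L)
    (hI2 : Nonempty (CohB1.tensorMod I I ≅ Coh.structureModule X))
    (hJ2 : Nonempty (CohB1.tensorMod J J ≅ Coh.structureModule X))
    (h : Nonempty (L ≅ Coh.structureModule X) ∨ Nonempty (L ≅ I) ∨ Nonempty (L ≅ J) ∨
        Nonempty (L ≅ CohB1.tensorMod I J)) :
    Nonempty (CohB1.tensorMod (Coh.structureModule X ⊞ I ⊞ J ⊞ CohB1.tensorMod I J) L ≅
        Coh.structureModule X ⊞ I ⊞ J ⊞ CohB1.tensorMod I J) := by
  have hO := Groth.Agent.Lib.Helper35.InvPush.isInvertible_structureModule X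
  have hK := Groth.Agent.Lib.Lead.Inv.isInvertible_tensorMod hI hJ
  set i := Pic.mk I hI with hi
  set j := Pic.mk J hJ with hj
  set l := Pic.mk L hL with hl
  have ho : Pic.mk (Coh.structureModule X) hO = 1 := rfl
  have hk : Pic.mk (CohB1.tensorMod I J) hK = i * j := rfl
  have hii : i * i = 1 := by
    rw [hi, Pic.mk_mul_mk, ← ho]
    exact (Pic.mk_eq_mk _ _).mpr hI2
  have hjj : j * j = 1 := by
    rw [hj, Pic.mk_mul_mk, ← ho]
    exact (Pic.mk_eq_mk _ _).mpr hJ2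
  refine R_trans (dist4 _ _ _ _ L) ?_
  rcases h with h | h | h | h
  · have hl1 : l = 1 := by rw [hl, ← ho]; exact (Pic.mk_eq_mk _ _).mpr h
    refine R_biprod (R_of_class hO hL hO ?_) (R_biprod (R_of_class hI hL hI ?_)
      (R_biprod (R_of_class hJ hL hJ ?_) (R_of_class hK hL hK ?_)))
    · rw [← hl, hl1, ho, mul_one]
    · rw [← hl, hl1, mul_one]
    · rw [← hl, hl1, mul_one]
    · rw [← hl, hl1, mul_one]
  · have hl1 : l = i := by rw [hl, hi]; exact (Pic.mk_eq_mk _ _).mpr h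
    refine R_trans (R_biprod (R_of_class hO hL hI ?_) (R_biprod (R_of_class hI hL hO ?_)
      (R_biprod (R_of_class hJ hL hK ?_) (R_of_class hK hL hJ ?_)))) (R_perm1 _ _ _ _)
    · rw [← hl, hl1, ho, one_mul]
    · rw [← hl, hl1, ← hi, hii, ho]
    · rw [← hl, hl1, ← hj, hk, mul_comm]
    · rw [← hl, hl1, hk, ← hj, mul_comm i j, mul_assoc, hii, mul_one]
  · have hl1 : l = j := by rw [hl, hj]; exact (Pic.mk_eq_mk _ _).mpr h
    refine R_trans (R_biprod (R_of_class hO hL hJ ?_) (R_biprod (R_of_class hI hL hK ?_)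
      (R_biprod (R_of_class hJ hL hO ?_) (R_of_class hK hL hI ?_)))) (R_perm2 _ _ _ _)
    · rw [← hl, hl1, ho, one_mul]
    · rw [← hl, hl1, ← hi, hk]
    · rw [← hl, hl1, ← hj, hjj, ho]
    · rw [← hl, hl1, hk, ← hi, mul_assoc, hjj, mul_one]
  · have hl1 : l = i * j := by rw [hl, ← hk]; exact (Pic.mk_eq_mk _ _).mpr h
    refine R_trans (R_biprod (R_of_class hO hL hK ?_) (R_biprod (R_of_class hI hL hJ ?_)
      (R_biprod (R_of_class hJ hL hI ?_) (R_of_class hK hL hO ?_)))) (R_perm3 _ _ _ _)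
    · rw [← hl, hl1, ho, one_mul, hk]
    · rw [← hl, hl1, ← hi, ← hj, ← mul_assoc, hii, one_mul]
    · rw [← hl, hl1, ← hj, ← hi, mul_comm i j, ← mul_assoc, hjj, one_mul]
    · rw [← hl, hl1, hk, ho, mul_assoc, ← mul_assoc j i j, mul_comm j i, mul_assoc i j j, hjj, mul_one, hii]

theorem main (k : Type u) [Field k] [IsAlgClosed k] [CharZero k]
    (X : Scheme.{u}) [X.Over (Spec (CommRingCat.of k))] [IsIntegral X]
    [Smooth (X ↘ Spec (CommRingCat.of k))] (hdim : topologicalKrullDim X = 2)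
    (hproj : ∃ (n : ℕ) (ι : X ⟶ CohB1.ProjSpace n k), IsClosedImmersion ι ∧
      ι ≫ CohB1.ProjSpace.toSpec n k = X ↘ Spec (CommRingCat.of k))
    (I J : X.Modules) (hI : PicF.IsInvertible I) (hJ : PicF.IsInvertible J)
    (hI2 : Nonempty (CohB1.tensorMod I I ≅ Coh.structureModule X))
    (hJ2 : Nonempty (CohB1.tensorMod J J ≅ Coh.structureModule X))
    (L : X.Modules) (hL : PicF.IsInvertible L) :
    Nonempty (CohB1.tensorMod (Coh.structureModule X ⊞ I ⊞ J ⊞ CohB1.tensorMod I J) L ≅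
        Coh.structureModule X ⊞ I ⊞ J ⊞ CohB1.tensorMod I J) ↔
      (Nonempty (L ≅ Coh.structureModule X) ∨ Nonempty (L ≅ I) ∨ Nonempty (L ≅ J) ∨
        Nonempty (L ≅ CohB1.tensorMod I J)) := by
  constructor
  · rintro ⟨e⟩
    obtain ⟨n, ι, hι, hcomp⟩ := hproj
    haveI : IsProper (X ↘ Spec (CommRingCat.of k)) := by
      rw [← hcomp]
      infer_instance
    have hfield := isField_of_universallyClosed k (X ↘ Spec (CommRingCat.of k))
    have hunit : ∀ c : Γ(X, ⊤), c ≠ 0 → IsUnit c := by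
      intro c hc
      obtain ⟨d, hd⟩ := hfield.mul_inv_cancel hc
      exact IsUnit.of_mul_eq_one d hd
    obtain ⟨ι', π, hιπ⟩ := exists_retract (L := L) e
    exact exists_summand hunit hL
      (Groth.Agent.Lib.Helper35.InvPush.isInvertible_structureModule X) hI hJ
      (Groth.Agent.Lib.Lead.Inv.isInvertible_tensorMod hI hJ) ι' π hιπ
  · exact backward hI hJ hL hI2 hJ2

end Groth.Agent.S15077Aux

namespace Groth.Agent.S15077

/-- Let k be an algebraically closed field of characteristic zero and X a smooth projective surface over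
k (an integral k-scheme, smooth over k, of dimension two, admitting a closed immersion over k into
some projective space P^n_k). Let I and J be invertible O_X-modules that are two-torsion, I ⊗ I ≅
O_X and J ⊗ J ≅ O_X, let K = I ⊗ J, and let F = O_X ⊕ I ⊕ J ⊕ K (so that O_X, I, J, K form a Klein
four-group of classes in Pic X when I, J, K are nontrivial and distinct). Then for every invertible
O_X-module L, the O_X-modules F ⊗ L and F are isomorphic if and only if L is isomorphic to one of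
O_X, I, J, K. (The published statement is for the abelian surface E_1 × E_2, with I and J pulled
back from two-torsion line bundles on the two elliptic curves and F the underlying module of the
quaternion algebra built from them; this row is stated on any smooth projective surface for any
two-torsion invertible I and J.) -/
theorem result (k : Type u) [Field k] [IsAlgClosed k] [CharZero k]
    (X : Scheme.{u}) [X.Over (Spec (CommRingCat.of k))] [IsIntegral X]
    [Smooth (X ↘ Spec (CommRingCat.of k))] (hdim : topologicalKrullDim X = 2)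
    (hproj : ∃ (n : ℕ) (ι : X ⟶ CohB1.ProjSpace n k), IsClosedImmersion ι ∧
      ι ≫ CohB1.ProjSpace.toSpec n k = X ↘ Spec (CommRingCat.of k))
    (I J : X.Modules) (hI : PicF.IsInvertible I) (hJ : PicF.IsInvertible J)
    (hI2 : Nonempty (CohB1.tensorMod I I ≅ Coh.structureModule X))
    (hJ2 : Nonempty (CohB1.tensorMod J J ≅ Coh.structureModule X))
    (L : X.Modules) (hL : PicF.IsInvertible L) :
    Nonempty (CohB1.tensorMod (Coh.structureModule X ⊞ I ⊞ J ⊞ CohB1.tensorMod I J) L ≅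
        Coh.structureModule X ⊞ I ⊞ J ⊞ CohB1.tensorMod I J) ↔
      (Nonempty (L ≅ Coh.structureModule X) ∨ Nonempty (L ≅ I) ∨ Nonempty (L ≅ J) ∨
        Nonempty (L ≅ CohB1.tensorMod I J)) := by
  exact Groth.Agent.S15077Aux.main k X hdim hproj I J hI hJ hI2 hJ2 L hL

end Groth.Agent.S15077
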