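import Groth.Statements.S15078
import Mathlib

set_option autoImplicit false
universe u v
open MovLem

set_option linter.unusedSectionVars false

namespace Groth.Agent.S15078Aux
open Polynomial

/-- coefficient of a product at the sum of degree bounds -/
theorem coeff_prod_bounds {R : Type*} [CommRing R] {ι : Type*} [DecidableEq ι] (s : Finset ι)
    (F : ι → R[X]) (n : ι → ℕ) (h : ∀ i ∈ s, (F i).natDegree ≤ n i) :
    (∏ i ∈ s, F i).natDegree ≤ ∑ i ∈ s, n i ∧
      (∏ i ∈ s, F i).coeff (∑ i ∈ s, n i) = ∏ i ∈ s, (F i).coeff (n i) := by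
  induction s using Finset.induction_on with
  | empty => simp
  | insert a s ha ih =>
    have h1 := h a (Finset.mem_insert_self a s)
    obtain ⟨h2, h3⟩ := ih (fun i hi => h i (Finset.mem_insert_of_mem hi))
    rw [Finset.prod_insert ha, Finset.sum_insert ha, Finset.prod_insert ha]
    refine ⟨natDegree_mul_le_of_le h1 h2, ?_⟩
    rw [coeff_mul_add_eq_of_natDegree_le h1 h2, h3]

variable {k : Type u} [Field k] {K : Type v} [Field K] [Algebra k K] {r : ℕ}

/-- the substitution on coefficients -/
noncomputable def phi (g : Fin r → K) (N : ℕ) :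
    MvPolynomial (Fin r) k →ₐ[k] Polynomial (MvPolynomial (Fin r) K) :=
  MvPolynomial.aeval (fun i : Fin r => Polynomial.C (MvPolynomial.X i)
    + Polynomial.C (MvPolynomial.C (g i)) * Polynomial.X ^ N)

theorem u_natDegree (g : Fin r → K) (N : ℕ) (i : Fin r) :
    (Polynomial.C (MvPolynomial.X i) + Polynomial.C (MvPolynomial.C (g i)) * Polynomial.X ^ N :
      Polynomial (MvPolynomial (Fin r) K)).natDegree ≤ N := by
  refine (natDegree_add_le _ _).trans (max_le ((natDegree_C _).le.trans (Nat.zero_le _)) ?_)
  exact (natDegree_C_mul_le _ _).trans (natDegree_X_pow_le N)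

theorem u_coeff (g : Fin r → K) (N : ℕ) (hN : 1 ≤ N) (i : Fin r) :
    (Polynomial.C (MvPolynomial.X i) + Polynomial.C (MvPolynomial.C (g i)) * Polynomial.X ^ N :
      Polynomial (MvPolynomial (Fin r) K)).coeff N = MvPolynomial.C (g i) := by
  rw [coeff_add, coeff_C, if_neg (by omega), zero_add, coeff_C_mul, coeff_X_pow, if_pos rfl, mul_one]

theorem phi_monomial (g : Fin r → K) (N : ℕ) (hN : 1 ≤ N) (α : Fin r →₀ ℕ) (a : k) :
    (phi g N (MvPolynomial.monomial α a)).natDegree ≤ N * ∑ i, α i ∧
    (phi g N (MvPolynomial.monomial α a)).coeff (N * ∑ i, α i)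
      = MvPolynomial.C (MvPolynomial.aeval g (MvPolynomial.monomial α a)) := by
  classical
  have hform : phi g N (MvPolynomial.monomial α a)
      = Polynomial.C (MvPolynomial.C (algebraMap k K a)) *
        ∏ i : Fin r, (Polynomial.C (MvPolynomial.X i)
          + Polynomial.C (MvPolynomial.C (g i)) * Polynomial.X ^ N) ^ (α i) := by
    rw [phi, MvPolynomial.aeval_monomial, Finsupp.prod_fintype _ _ (fun i => pow_zero _)]
    rfl
  have hb : ∀ i ∈ (Finset.univ : Finset (Fin r)),
      ((Polynomial.C (MvPolynomial.X i) + Polynomial.C (MvPolynomial.C (g i)) * Polynomial.X ^ N :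
        Polynomial (MvPolynomial (Fin r) K)) ^ (α i)).natDegree ≤ α i * N :=
    fun i _ => natDegree_pow_le_of_le _ (u_natDegree g N i)
  obtain ⟨h1, h2⟩ := coeff_prod_bounds Finset.univ _ _ hb
  have hsum : ∑ i : Fin r, α i * N = N * ∑ i, α i := by
    rw [Finset.mul_sum]; exact Finset.sum_congr rfl fun i _ => mul_comm _ _
  rw [hsum] at h1 h2
  rw [hform]
  refine ⟨(natDegree_C_mul_le _ _).trans h1, ?_⟩
  rw [coeff_C_mul, h2, MvPolynomial.aeval_monomial, Finsupp.prod_fintype _ _ (fun i => pow_zero _)]
  have : ∀ i : Fin r, ((Polynomial.C (MvPolynomial.X i)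
      + Polynomial.C (MvPolynomial.C (g i)) * Polynomial.X ^ N :
        Polynomial (MvPolynomial (Fin r) K)) ^ (α i)).coeff (α i * N)
      = MvPolynomial.C (g i) ^ (α i) := by
    intro i
    rw [coeff_pow_of_natDegree_le (u_natDegree g N i), u_coeff g N hN]
  rw [Finset.prod_congr rfl (fun i _ => this i)]
  simp only [map_mul, map_prod, map_pow]

theorem phi_bound (g : Fin r → K) (N : ℕ) (hN : 1 ≤ N) (q : MvPolynomial (Fin r) k) (D : ℕ)
    (hD : q.totalDegree ≤ D) :
    (phi g N q).natDegree ≤ N * D ∧
    (phi g N q).coeff (N * D)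
      = MvPolynomial.C (MvPolynomial.aeval g (MvPolynomial.homogeneousComponent D q)) := by
  classical
  have hdeg : ∀ α ∈ q.support, ∑ i, α i ≤ D := by
    intro α hα
    have := MvPolynomial.le_totalDegree hα
    rw [Finsupp.sum_fintype _ _ (fun _ => rfl)] at this
    omega
  have hq : phi g N q = ∑ α ∈ q.support, phi g N (MvPolynomial.monomial α (q.coeff α)) := by
    conv_lhs => rw [q.as_sum]
    rw [map_sum]
  constructor
  · rw [hq]
    apply natDegree_sum_le_of_forall_le
    intro α hα
    exact (phi_monomial g N hN α _).1.trans (Nat.mul_le_mul le_rfl (hdeg α hα))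
  · rw [hq, finsetSum_coeff, MvPolynomial.homogeneousComponent_apply, map_sum, map_sum,
      Finset.sum_filter]
    refine Finset.sum_congr rfl fun α hα => ?_
    rw [Finsupp.degree_eq_sum]
    by_cases h : ∑ i, α i = D
    · rw [if_pos h, ← h]
      exact (phi_monomial g N hN α _).2
    · rw [if_neg h]
      apply coeff_eq_zero_of_natDegree_lt
      refine lt_of_le_of_lt (phi_monomial g N hN α _).1 ?_
      have : ∑ i, α i < D := lt_of_le_of_ne (hdeg α hα) h
      exact Nat.mul_lt_mul_of_pos_left this (by omega)

theorem homogeneousComponent_totalDegree_ne_zero (q : MvPolynomial (Fin r) k) (hq : q ≠ 0) :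
    MvPolynomial.homogeneousComponent q.totalDegree q ≠ 0 := by
  classical
  have hne : q.support.Nonempty := by
    rw [Finset.nonempty_iff_ne_empty]
    intro h
    exact hq (MvPolynomial.support_eq_empty.mp h)
  obtain ⟨α, hα, hsup⟩ := Finset.exists_mem_eq_sup q.support hne
    (fun s => s.sum fun _ e => e)
  intro h0
  have := congrArg (MvPolynomial.coeff α) h0
  rw [MvPolynomial.coeff_homogeneousComponent, MvPolynomial.coeff_zero] at this
  have hd : α.degree = q.totalDegree := by
    rw [MvPolynomial.totalDegree, hsup]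
    rfl
  rw [if_pos hd] at this
  exact (MvPolynomial.mem_support_iff.mp hα) this

end Groth.Agent.S15078Aux

namespace Groth.Agent.S15078

/-- Let k be an infinite perfect field, r, m ≥ 1, and let f be a nonzero polynomial in the variable t
with coefficients in the polynomial ring k[x_1, …, x_r]. Then there are a nonzero polynomial h in
k[x_1, …, x_r] and an integer s₀ such that for every s ≥ s₀, every field K over k and every point g
of K^r with h(g) ≠ 0, the polynomial obtained from f by the substitution x_i ↦ x_i + t^{s(m+1)} g_i,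
t ↦ t has as leading coefficient in t a nonzero constant of K; in particular, after dividing by that
constant it is monic in t over K[x_1, …, x_r]. (The published statement asks for a nonempty open
subset of affine r-space over k, independent of s, such that this holds at each of its points g with
residue field K = k(g); the locus h ≠ 0 used here is such an open subset, and every nonempty open
subset contains one of this form.) -/
theorem result
    {k : Type u} [Field k] [Infinite k] [PerfectField k] (r m : ℕ) (hr : 1 ≤ r) (hm : 1 ≤ m)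
    (f : Polynomial (MvPolynomial (Fin r) k)) (hf : f ≠ 0) :
    ∃ h : MvPolynomial (Fin r) k, h ≠ 0 ∧ ∃ s₀ : ℕ, ∀ s : ℕ, s₀ ≤ s →
      ∀ (K : Type v) [Field K] [Algebra k K] (g : Fin r → K), MvPolynomial.aeval g h ≠ 0 →
        ∃ c : K, c ≠ 0 ∧
          (Polynomial.eval₂ (MvPolynomial.aeval (fun i : Fin r => Polynomial.C (MvPolynomial.X i) + Polynomial.C (MvPolynomial.C (g i)) * Polynomial.X ^ (s * (m + 1))) : MvPolynomial (Fin r) k →ₐ[k] Polynomial (MvPolynomial (Fin r) K)).toRingHom Polynomial.X f).leadingCoeff = MvPolynomial.C c := by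
  classical
  have hne : f.support.Nonempty := by
    rw [Finset.nonempty_iff_ne_empty]
    intro h
    exact hf (Polynomial.support_eq_empty.mp h)
  obtain ⟨j₁, hj₁, hsup⟩ := Finset.exists_mem_eq_sup f.support hne
    (fun j => (f.coeff j).totalDegree)
  set D := f.support.sup (fun j => (f.coeff j).totalDegree) with hD
  have hSne : (f.support.filter (fun j => (f.coeff j).totalDegree = D)).Nonempty :=
    ⟨j₁, Finset.mem_filter.mpr ⟨hj₁, hsup.symm⟩⟩
  set j₀ := (f.support.filter (fun j => (f.coeff j).totalDegree = D)).max' hSne with hj₀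
  have hj₀mem := Finset.max'_mem _ hSne
  rw [← hj₀, Finset.mem_filter] at hj₀mem
  obtain ⟨hj₀s, hj₀D⟩ := hj₀mem
  have hcoeff_ne : f.coeff j₀ ≠ 0 := Polynomial.mem_support_iff.mp hj₀s
  refine ⟨MvPolynomial.homogeneousComponent D (f.coeff j₀), ?_, f.natDegree + 1, ?_⟩
  · rw [← hj₀D]
    exact Groth.Agent.S15078Aux.homogeneousComponent_totalDegree_ne_zero _ hcoeff_ne
  intro s hs K _ _ g hg
  refine ⟨MvPolynomial.aeval g (MvPolynomial.homogeneousComponent D (f.coeff j₀)), hg, ?_⟩
  set N := s * (m + 1) with hN
  have hNs : s ≤ N := by rw [hN]; exact Nat.le_mul_of_pos_right s (by omega)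
  have hN1 : 1 ≤ N := by omega
  have hNdeg : f.natDegree < N := by omega
  change (Polynomial.eval₂ (Groth.Agent.S15078Aux.phi g N).toRingHom Polynomial.X f).leadingCoeff = _
  have hexp : Polynomial.eval₂ (Groth.Agent.S15078Aux.phi g N).toRingHom Polynomial.X f
      = ∑ j ∈ f.support, Groth.Agent.S15078Aux.phi g N (f.coeff j) * Polynomial.X ^ j := by
    rw [Polynomial.eval₂_eq_sum, Polynomial.sum_def]
    rfl
  set M := N * D + j₀ with hM
  -- degree bound of each term
  have hterm : ∀ j ∈ f.support, j ≠ j₀ →
      (Groth.Agent.S15078Aux.phi g N (f.coeff j) * Polynomial.X ^ j).natDegree < M := by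
    intro j hj hne
    have hb := (Groth.Agent.S15078Aux.phi_bound g N hN1 (f.coeff j) _ le_rfl).1
    have hjdeg : j ≤ f.natDegree := Polynomial.le_natDegree_of_mem_supp j hj
    have htd : (f.coeff j).totalDegree ≤ D := Finset.le_sup (f := fun j => (f.coeff j).totalDegree) hj
    have h1 : (Groth.Agent.S15078Aux.phi g N (f.coeff j) * Polynomial.X ^ j).natDegree
        ≤ N * (f.coeff j).totalDegree + j :=
      Polynomial.natDegree_mul_le_of_le hb (Polynomial.natDegree_X_pow_le j)
    refine lt_of_le_of_lt h1 ?_
    by_cases hlt : (f.coeff j).totalDegree = D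
    · have hjle : j ≤ j₀ := Finset.le_max' _ j (Finset.mem_filter.mpr ⟨hj, hlt⟩)
      rw [hlt, hM]
      omega
    · have hlt' : (f.coeff j).totalDegree + 1 ≤ D := by omega
      have : N * ((f.coeff j).totalDegree + 1) ≤ N * D := Nat.mul_le_mul le_rfl hlt'
      rw [hM]
      rw [Nat.mul_add, Nat.mul_one] at this
      omega
  have hterm0 : (Groth.Agent.S15078Aux.phi g N (f.coeff j₀) * Polynomial.X ^ j₀).natDegree ≤ M := by
    have hb := (Groth.Agent.S15078Aux.phi_bound g N hN1 (f.coeff j₀) D hj₀D.le).1
    exact Polynomial.natDegree_mul_le_of_le hb (Polynomial.natDegree_X_pow_le j₀)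
  have hdegle : (Polynomial.eval₂ (Groth.Agent.S15078Aux.phi g N).toRingHom Polynomial.X f).natDegree
      ≤ M := by
    rw [hexp]
    apply Polynomial.natDegree_sum_le_of_forall_le
    intro j hj
    by_cases hne : j = j₀
    · rw [hne]; exact hterm0
    · exact (hterm j hj hne).le
  have hcoeffM : (Polynomial.eval₂ (Groth.Agent.S15078Aux.phi g N).toRingHom Polynomial.X f).coeff M
      = MvPolynomial.C (MvPolynomial.aeval g (MvPolynomial.homogeneousComponent D (f.coeff j₀))) := by
    rw [hexp, Polynomial.finsetSum_coeff, Finset.sum_eq_single j₀]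
    · rw [Polynomial.coeff_mul_X_pow', if_pos (by omega), hM, Nat.add_sub_cancel]
      exact (Groth.Agent.S15078Aux.phi_bound g N hN1 (f.coeff j₀) D hj₀D.le).2
    · intro j hj hne
      exact Polynomial.coeff_eq_zero_of_natDegree_lt (hterm j hj hne)
    · intro h; exact absurd hj₀s h
  have hCne : (MvPolynomial.C (MvPolynomial.aeval g (MvPolynomial.homogeneousComponent D (f.coeff j₀)))
      : MvPolynomial (Fin r) K) ≠ 0 := by
    intro h
    exact hg (MvPolynomial.C_injective (Fin r) K (by rw [h, map_zero]))
  have hnat := Polynomial.natDegree_eq_of_le_of_coeff_ne_zero hdegle (by rw [hcoeffM]; exact hCne)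
  rw [Polynomial.leadingCoeff, hnat, hcoeffM]

end Groth.Agent.S15078
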