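import Groth.Statements.S15083
import Mathlib.LinearAlgebra.Matrix.SpecialLinearGroup
import Mathlib.LinearAlgebra.Matrix.Transvection
import Mathlib.Tactic.FieldSimp
import Mathlib.Tactic.Ring

set_option autoImplicit false
universe u
open MovLem

namespace Groth.Agent.S15083

open Matrix

theorem transvection_mul_apply' {n R : Type*} [DecidableEq n] [Fintype n] [CommRing R]
    (i j : n) (c : R) (M : Matrix n n R) (a b : n) :
    (Matrix.transvection i j c * M) a b = M a b + if a = i then c * M j b else 0 := by
  by_cases ha : a = i
  · subst ha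
    simp [Matrix.transvection_mul_apply_same]
  · simp [Matrix.transvection_mul_apply_of_ne i j a b ha c M, ha]

theorem diag2n_eq {ι F : Type*} [Fintype ι] [DecidableEq ι] [Field F] {i j : ι} (hij : i ≠ j)
    (c : F) (hc : c ≠ 0) :
    (SpecialLinearGroup.diag2n hij c hc).1 =
      Matrix.transvection i j c * (Matrix.transvection j i (-c⁻¹) * (Matrix.transvection i j c *
        (Matrix.transvection i j (-1) * (Matrix.transvection j i 1 *
          (Matrix.transvection i j (-1) * 1))))) := by
  ext a b
  simp only [transvection_mul_apply', SpecialLinearGroup.diag2n_coe, Matrix.one_apply,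
    Matrix.diagonal_apply]
  have hji : j ≠ i := hij.symm
  by_cases ha : a = i
  · subst ha
    by_cases hb : b = a
    · subst hb
      simp [hij, hji, hc, inv_mul_cancel₀ hc, mul_inv_cancel₀ hc]
    · by_cases hb' : b = j
      · subst hb'
        simp [hij, hji, hc, inv_mul_cancel₀ hc, mul_inv_cancel₀ hc]
      · simp [hij, hji, hb, hb', Ne.symm hb, Ne.symm hb']
  · by_cases ha' : a = j
    · subst ha'
      by_cases hb : b = i
      · subst hb
        simp [hij, hji, hc, inv_mul_cancel₀ hc, mul_inv_cancel₀ hc]
      · by_cases hb' : b = a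
        · subst hb'
          simp [hij, hji, hc, inv_mul_cancel₀ hc, mul_inv_cancel₀ hc]
        · simp [hij, hji, hb, hb', Ne.symm hb, Ne.symm hb']
    · simp [ha, ha', Ne.symm ha, Ne.symm ha']

theorem map_transvection {ι R S : Type*} [Fintype ι] [DecidableEq ι] [CommRing R] [CommRing S]
    (f : R →+* S) {i j : ι} (hij : i ≠ j) (b : R) :
    SpecialLinearGroup.map f (SpecialLinearGroup.transvection hij b) =
      SpecialLinearGroup.transvection hij (f b) := by
  apply Subtype.ext
  simp [SpecialLinearGroup.transvection_coe, Matrix.map_add, Matrix.map_single]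

theorem diag2n_eq' {ι F : Type*} [Fintype ι] [DecidableEq ι] [Field F] {i j : ι} (hij : i ≠ j)
    (c : F) (hc : c ≠ 0) :
    SpecialLinearGroup.diag2n hij c hc =
      SpecialLinearGroup.transvection hij c * (SpecialLinearGroup.transvection hij.symm (-c⁻¹) *
        (SpecialLinearGroup.transvection hij c * (SpecialLinearGroup.transvection hij (-1) *
          (SpecialLinearGroup.transvection hij.symm 1 *
            (SpecialLinearGroup.transvection hij (-1) * 1))))) := by
  apply Subtype.ext
  rw [diag2n_eq hij c hc]
  rfl

/-- Let K be a field and r ≥ 1. For every element A of the special linear group SL_{r+1}(K) there is an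
algebraic path in SL_{r+1} from the identity to A defined over K: a matrix M of determinant 1 with
entries in the polynomial ring K[y] such that M(0) is the identity matrix and M(1) = A. (The
published statement takes K to be the function field of SL_{r+1} over the ground field, A its
generic point viewed as a K-rational point, and the parameter space to be the projective line minus
the point 1, with endpoints 0 and ∞; this row gives the path for an arbitrary K-point A on the
affine line with endpoints 0 and 1, which is what the published construction provides before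
composing with the coordinate change y ↦ y/(y − 1).) -/
theorem result
    (K : Type u) [Field K] (r : ℕ) (hr : 1 ≤ r)
    (A : Matrix.SpecialLinearGroup (Fin (r + 1)) K) :
    ∃ M : Matrix.SpecialLinearGroup (Fin (r + 1)) (Polynomial K),
      Matrix.SpecialLinearGroup.map (Polynomial.evalRingHom (0 : K)) M = 1 ∧
      Matrix.SpecialLinearGroup.map (Polynomial.evalRingHom (1 : K)) M = A := by
  obtain ⟨r', rfl⟩ : ∃ r', r = r' + 1 := ⟨r - 1, by omega⟩
  have htransvec : ∀ (i j : Fin (r' + 1 + 1)) (hij : i ≠ j) (a : K),
      ∃ M : Matrix.SpecialLinearGroup (Fin (r' + 1 + 1)) (Polynomial K),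
        Matrix.SpecialLinearGroup.map (Polynomial.evalRingHom (0 : K)) M = 1 ∧
        Matrix.SpecialLinearGroup.map (Polynomial.evalRingHom (1 : K)) M =
          SpecialLinearGroup.transvection hij a := by
    intro i j hij a
    refine ⟨SpecialLinearGroup.transvection hij (Polynomial.C a * Polynomial.X), ?_, ?_⟩
    · rw [map_transvection]; simp
    · rw [map_transvection]; simp
  have hmul : ∀ A B : Matrix.SpecialLinearGroup (Fin (r' + 1 + 1)) K,
      (∃ M : Matrix.SpecialLinearGroup (Fin (r' + 1 + 1)) (Polynomial K),
        Matrix.SpecialLinearGroup.map (Polynomial.evalRingHom (0 : K)) M = 1 ∧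
        Matrix.SpecialLinearGroup.map (Polynomial.evalRingHom (1 : K)) M = A) →
      (∃ M : Matrix.SpecialLinearGroup (Fin (r' + 1 + 1)) (Polynomial K),
        Matrix.SpecialLinearGroup.map (Polynomial.evalRingHom (0 : K)) M = 1 ∧
        Matrix.SpecialLinearGroup.map (Polynomial.evalRingHom (1 : K)) M = B) →
      (∃ M : Matrix.SpecialLinearGroup (Fin (r' + 1 + 1)) (Polynomial K),
        Matrix.SpecialLinearGroup.map (Polynomial.evalRingHom (0 : K)) M = 1 ∧
        Matrix.SpecialLinearGroup.map (Polynomial.evalRingHom (1 : K)) M = A * B) := by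
    rintro A B ⟨MA, hA0, hA1⟩ ⟨MB, hB0, hB1⟩
    exact ⟨MA * MB, by rw [map_mul, hA0, hB0, one_mul], by rw [map_mul, hA1, hB1]⟩
  have hone : ∃ M : Matrix.SpecialLinearGroup (Fin (r' + 1 + 1)) (Polynomial K),
        Matrix.SpecialLinearGroup.map (Polynomial.evalRingHom (0 : K)) M = 1 ∧
        Matrix.SpecialLinearGroup.map (Polynomial.evalRingHom (1 : K)) M = 1 :=
    ⟨1, map_one _, map_one _⟩
  refine SpecialLinearGroup.diagonal_transvection_induction'
    (fun A => ∃ M : Matrix.SpecialLinearGroup (Fin (r' + 1 + 1)) (Polynomial K),
        Matrix.SpecialLinearGroup.map (Polynomial.evalRingHom (0 : K)) M = 1 ∧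
        Matrix.SpecialLinearGroup.map (Polynomial.evalRingHom (1 : K)) M = A) A ?_ htransvec hmul
  intro i j hij c hc
  rw [diag2n_eq' hij c hc]
  exact hmul _ _ (htransvec _ _ _ _) (hmul _ _ (htransvec _ _ _ _) (hmul _ _ (htransvec _ _ _ _)
    (hmul _ _ (htransvec _ _ _ _) (hmul _ _ (htransvec _ _ _ _)
      (hmul _ _ (htransvec _ _ _ _) hone)))))

end Groth.Agent.S15083
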