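import Groth.Statements.S15084
import Mathlib.RingTheory.Ideal.AssociatedPrime.Basic
import Mathlib.RingTheory.IntegralClosure.Algebra.Basic

set_option autoImplicit false
universe u
open MovLem

namespace Groth.Agent.S15084

/-- Let A be a Noetherian integrally closed domain with fraction field K, let B be a domain with
fraction field L, and let A → B be an injective ring homomorphism, with K → L the induced map of
fraction fields, such that Spec B → Spec A is surjective (every prime ideal of A is the contraction
of a prime ideal of B). If a ∈ K is such that its image in L lies in B, then a ∈ A. (The published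
statement: for a surjective morphism f : Y → X of normal integral separated schemes of finite type
over a perfect field and a Cartier divisor D on X, if f^*D is effective then D is effective; a
Cartier divisor is locally the divisor of a nonzero rational function a, effectivity of div(a) on a
normal scheme means that a is a regular function, and this row is that local statement, which is
what the published proof establishes.) -/
theorem result
    (A B K L : Type u) [CommRing A] [IsDomain A] [IsNoetherianRing A] [IsIntegrallyClosed A]
    [CommRing B] [IsDomain B] [Field K] [Field L]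
    [Algebra A B] [Algebra A K] [IsFractionRing A K] [Algebra B L] [IsFractionRing B L]
    [Algebra K L] [Algebra A L] [IsScalarTower A K L] [IsScalarTower A B L]
    (hinj : Function.Injective (algebraMap A B))
    (hsurj : ∀ p : Ideal A, p.IsPrime → ∃ q : Ideal B, q.IsPrime ∧ q.comap (algebraMap A B) = p)
    (a : K) (ha : algebraMap K L a ∈ (algebraMap B L).range) :
    a ∈ (algebraMap A K).range := by
  classical
  by_contra hnot
  let A' : Submodule A K := LinearMap.range (Algebra.linearMap A K)
  have hA' : ∀ x : K, x ∈ A' ↔ ∃ r : A, algebraMap A K r = x := by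
    intro x
    simp [A', LinearMap.mem_range]
  let abar : K ⧸ A' := Submodule.Quotient.mk a
  have habar : abar ≠ 0 := by
    intro h
    rw [Submodule.Quotient.mk_eq_zero] at h
    exact hnot ((hA' a).1 h)
  let N : Submodule A (K ⧸ A') := Submodule.span A {abar}
  have hNnt : Nontrivial N :=
    ⟨⟨⟨abar, Submodule.mem_span_singleton_self _⟩, 0, fun h => habar (congrArg Subtype.val h)⟩⟩
  obtain ⟨p, hp⟩ := associatedPrimes.nonempty A N
  rw [AssociatedPrimes.mem_iff, isAssociatedPrime_iff] at hp
  obtain ⟨hpprime, y, hy⟩ := hp
  obtain ⟨c, hc⟩ := Submodule.mem_span_singleton.1 y.2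
  set w : K := c • a with hw
  have hmem : ∀ z : A, z ∈ p ↔ z • w ∈ A' := by
    intro z
    rw [hy, Submodule.mem_colon_singleton, Submodule.mem_bot]
    rw [← Submodule.Quotient.mk_eq_zero A', Submodule.Quotient.mk_smul, hw,
      Submodule.Quotient.mk_smul]
    change z • y = 0 ↔ z • c • abar = 0
    rw [hc, ← Submodule.coe_smul, ← Subtype.coe_inj]
    rfl
  -- w is not in A
  have hwA : w ∉ A' := by
    intro h
    apply hpprime.ne_top
    rw [Ideal.eq_top_iff_one, hmem, one_smul]
    exact h
  -- w lands in B
  obtain ⟨ba, hba⟩ := ha
  have hwB : algebraMap K L w = algebraMap B L (algebraMap A B c * ba) := by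
    rw [hw, Algebra.smul_def, map_mul, map_mul, hba, ← IsScalarTower.algebraMap_apply A K L,
      ← IsScalarTower.algebraMap_apply A B L]
  -- p is nonzero
  obtain ⟨⟨x₀, y₀⟩, hxy⟩ := IsLocalization.surj (nonZeroDivisors A) w
  have hy₀ : (y₀ : A) ∈ p := by
    rw [hmem, Algebra.smul_def, mul_comm]
    exact (hA' _).2 ⟨x₀, hxy.symm⟩
  have hy₀0 : (y₀ : A) ≠ 0 := nonZeroDivisors.ne_zero y₀.2
  by_cases hcase : ∀ z ∈ p, ∃ z' ∈ p, z • w = algebraMap A K z'
  · -- w integral
    apply hwA
    have hint : IsIntegral A w := by
      apply isIntegral_of_smul_mem_submodule (M := K)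
        (Submodule.map (Algebra.linearMap A K) p) _ _ w
      · rintro _ ⟨z, hz, rfl⟩
        obtain ⟨z', hz', hzz⟩ := hcase z hz
        refine ⟨z', hz', ?_⟩
        rw [Algebra.linearMap_apply, Algebra.linearMap_apply, ← hzz, Algebra.smul_def, smul_eq_mul,
          mul_comm]
      · intro h
        have h1 : Algebra.linearMap A K (y₀ : A) ∈
            Submodule.map (Algebra.linearMap A K) p := ⟨_, hy₀, rfl⟩
        rw [h, Submodule.mem_bot, Algebra.linearMap_apply] at h1
        exact hy₀0 (IsFractionRing.injective A K (by rw [h1, map_zero]))
      · exact Submodule.FG.map _ (IsNoetherian.noetherian p)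
    exact (hA' w).2 (IsIntegrallyClosed.isIntegral_iff.1 hint)
  · push Not at hcase
    obtain ⟨z, hz, hzw⟩ := hcase
    obtain ⟨s, hs⟩ := (hA' _).1 ((hmem z).1 hz)
    have hsp : s ∉ p := fun h => hzw s h hs.symm
    obtain ⟨q, hq, hqp⟩ := hsurj p hpprime
    have hzq : algebraMap A B z ∈ q := by
      have : z ∈ q.comap (algebraMap A B) := by rw [hqp]; exact hz
      exact this
    have hsq : algebraMap A B s ∈ q := by
      have h1 : algebraMap B L (algebraMap A B s) =
          algebraMap B L (algebraMap A B z * (algebraMap A B c * ba)) := by
        rw [map_mul (algebraMap B L) (algebraMap A B z), ← hwB,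
          ← IsScalarTower.algebraMap_apply A B L, ← IsScalarTower.algebraMap_apply A B L,
          IsScalarTower.algebraMap_apply A K L s, hs, Algebra.smul_def, map_mul,
          ← IsScalarTower.algebraMap_apply A K L]
      rw [IsFractionRing.injective B L h1]
      exact Ideal.mul_mem_right _ _ hzq
    apply hsp
    have : s ∈ q.comap (algebraMap A B) := hsq
    rwa [hqp] at this

end Groth.Agent.S15084
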