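import Groth.Statements.S15085
import Mathlib
import Groth.Agent.Lib.Helper36.DimLemmas
import Groth.Agent.Lib.Helper73.DimFT.Catenary

set_option autoImplicit false
universe u
open CategoryTheory CategoryTheory.Limits AlgebraicGeometry
open MovLem

namespace Groth.Agent.S15085

theorem krullDim_succ_le {α β : Type*} [Preorder α] [Preorder β] (g : α → β) (hg : StrictMono g)
    (b : β) (hb : ∀ a, g a < b) : Order.krullDim α + 1 ≤ Order.krullDim β := by
  rcases isEmpty_or_nonempty α with h | h
  · rw [Order.krullDim_eq_bot]; simp
  · rw [← Order.krullDim_WithTop]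
    refine Order.krullDim_le_of_strictMono (fun x : WithTop α => WithTop.recTopCoe b g x) ?_
    intro x y hxy
    induction x using WithTop.recTopCoe with
    | top => exact absurd hxy not_top_lt
    | coe x =>
      induction y using WithTop.recTopCoe with
      | top => simpa using hb x
      | coe y => simpa using hg (WithTop.coe_lt_coe.mp hxy)

theorem dim_succ_le {Y : Type*} [TopologicalSpace Y] {T0 t : Set Y} (h0 : IsClosed T0)
    (ht : IsIrreducible t) (hsub : T0 ⊆ t) (hne : T0 ≠ t) :
    topologicalKrullDim T0 + 1 ≤ topologicalKrullDim t := by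
  have hind : Topology.IsInducing (Set.inclusion hsub) :=
    (Topology.IsEmbedding.inclusion hsub).isInducing
  haveI : IrreducibleSpace t := Subtype.irreducibleSpace ht
  let top : TopologicalSpace.IrreducibleCloseds t :=
    ⟨Set.univ, IrreducibleSpace.isIrreducible_univ t, isClosed_univ⟩
  refine krullDim_succ_le
    (TopologicalSpace.IrreducibleCloseds.map (Set.inclusion hsub) hind.continuous)
    (TopologicalSpace.IrreducibleCloseds.map_strictMono_of_isInducing hind) top ?_
  intro c
  have hcl : IsClosed (Subtype.val ⁻¹' T0 : Set t) := h0.preimage continuous_subtype_val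
  have hle : ((TopologicalSpace.IrreducibleCloseds.map (Set.inclusion hsub) hind.continuous c :
      TopologicalSpace.IrreducibleCloseds t) : Set t) ⊆ Subtype.val ⁻¹' T0 := by
    rw [TopologicalSpace.IrreducibleCloseds.coe_map]
    refine closure_minimal ?_ hcl
    rintro _ ⟨y, -, rfl⟩
    exact y.2
  obtain ⟨z, hzt, hz0⟩ : ∃ z, z ∈ t ∧ z ∉ T0 := by
    by_contra hcon
    apply hne
    refine subset_antisymm hsub fun z hz => ?_
    by_contra hz0
    exact hcon ⟨z, hz, hz0⟩
  refine lt_of_le_of_ne (SetLike.coe_subset_coe.mp (Set.subset_univ _)) ?_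
  intro heq
  have hmem : (⟨z, hzt⟩ : t) ∈
      ((TopologicalSpace.IrreducibleCloseds.map (Set.inclusion hsub) hind.continuous c :
        TopologicalSpace.IrreducibleCloseds t) : Set t) := by
    rw [heq]; exact Set.mem_univ _
  exact hz0 (hle hmem)

/-- Let k be a field, X an affine scheme of finite type over k which is equidimensional (all irreducible
components have the same dimension), B̂ a proper smooth geometrically integral k-scheme and B ⊆ B̂ a
nonempty affine open subscheme. Let Z be an integral closed subscheme of X ×_k B of dimension dim X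
(that is, of codimension dim B, the product X ×_k B being equidimensional of dimension dim X + dim
B). Then the projection Z → X is finite and maps Z onto an irreducible component of X if and only if
Z is closed in X ×_k B̂. (The published statement allows X to be essentially of finite type, i.e.
also a localization of such a scheme at finitely many points, takes B̂ projective of positive
dimension, and phrases the dimension condition as codimension dim B; this row is the finite-type
case with properness in place of projectivity.) -/
theorem result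
    {k : Type u} [Field k] {X Bhat Z : Scheme.{u}}
    (sX : X ⟶ Spec (CommRingCat.of k)) (sB : Bhat ⟶ Spec (CommRingCat.of k))
    [IsAffine X] [LocallyOfFiniteType sX]
    (hXeq : ∀ T ∈ irreducibleComponents (X : Type u), topologicalKrullDim T = topologicalKrullDim X)
    [IsProper sB] [Smooth sB] [GeometricallyIntegral sB]
    (B : Bhat.Opens) (hB : IsAffineOpen B) (hBne : (B : Set Bhat).Nonempty)
    [IsIntegral Z] (ι : Z ⟶ ((pullback.snd sX sB) ⁻¹ᵁ B).toScheme) [IsClosedImmersion ι]
    (hZ : topologicalKrullDim Z = topologicalKrullDim X)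
    (j : Z ⟶ pullback sX sB) (hj : j = ι ≫ ((pullback.snd sX sB) ⁻¹ᵁ B).ι) :
    (IsFinite (j ≫ pullback.fst sX sB) ∧
        Set.range (j ≫ pullback.fst sX sB).base ∈ irreducibleComponents (X : Type u)) ↔
      IsClosed (Set.range j.base) := by
  subst hj
  haveI : IsAffineHom (pullback.snd sX sB) :=
    MorphismProperty.pullback_snd (P := @IsAffineHom) sX sB inferInstance
  have hWaff : IsAffineOpen ((pullback.snd sX sB) ⁻¹ᵁ B) := hB.preimage (pullback.snd sX sB)
  haveI : IsAffine ((pullback.snd sX sB) ⁻¹ᵁ B).toScheme := hWaff
  haveI : IsAffine Z := isAffine_of_isAffineHom ι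
  constructor
  · rintro ⟨hfin, -⟩
    haveI := hfin
    haveI : UniversallyClosed (ι ≫ ((pullback.snd sX sB) ⁻¹ᵁ B).ι) :=
      UniversallyClosed.of_comp_of_isSeparated _ (pullback.fst sX sB)
    exact (ι ≫ ((pullback.snd sX sB) ⁻¹ᵁ B).ι).isClosedMap.isClosed_range
  · intro hcl
    haveI : IsClosedImmersion (ι ≫ ((pullback.snd sX sB) ⁻¹ᵁ B).ι) :=
      IsClosedImmersion.of_isPreimmersion _ hcl
    have hfin : IsFinite ((ι ≫ ((pullback.snd sX sB) ⁻¹ᵁ B).ι) ≫ pullback.fst sX sB) :=
      IsFinite.iff_isProper_and_isAffineHom.mpr ⟨inferInstance, inferInstance⟩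
    refine ⟨hfin, ?_⟩
    haveI := hfin
    generalize hqdef : (ι ≫ ((pullback.snd sX sB) ⁻¹ᵁ B).ι) ≫ pullback.fst sX sB = q at *
    have hqcl : IsClosed (Set.range q) := q.isClosedMap.isClosed_range
    have hqirr : IsIrreducible (Set.range q) := by
      have := (IrreducibleSpace.isIrreducible_univ Z).image q q.continuous.continuousOn
      rwa [Set.image_univ] at this
    obtain ⟨t, htpre, hsub, hmax⟩ := exists_preirreducible (Set.range q) hqirr.isPreirreducible
    have htirr : IsIrreducible t := ⟨hqirr.nonempty.mono hsub, htpre⟩
    have htcomp : t ∈ irreducibleComponents X := by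
      refine ⟨htirr, fun u hu htu => ?_⟩
      exact (hmax u hu.isPreirreducible htu).le
    suffices h : Set.range q = t by
      change Set.range q ∈ irreducibleComponents X
      rw [h]; exact htcomp
    by_contra hne
    have h1 := dim_succ_le hqcl htirr hsub hne
    have h2 : topologicalKrullDim t = topologicalKrullDim X := hXeq t htcomp
    haveI : IsAffine q.image := isAffine_of_isAffineHom q.imageι
    haveI : IsIntegralHom q.toImage := by
      have h : IsIntegralHom (q.toImage ≫ q.imageι) := by rw [q.toImage_imageι]; infer_instance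
      rw [IsIntegralHom.iff_universallyClosed_and_isAffineHom] at h ⊢
      haveI := h.1
      haveI := h.2
      exact ⟨UniversallyClosed.of_comp_of_isSeparated q.toImage q.imageι,
        IsAffineHom.of_comp q.toImage q.imageι⟩
    have h3 : topologicalKrullDim Z ≤ topologicalKrullDim q.image :=
      Lib.Helper36.DimLemmas.topologicalKrullDim_le_of_isIntegralHom q.toImage
    have h4 : topologicalKrullDim q.image = topologicalKrullDim (Set.range q) := by
      have hr : Set.range q.imageι = Set.range q := by
        rw [Scheme.IdealSheafData.range_subschemeι, Scheme.Hom.support_ker, hqcl.closure_eq]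
      rw [← hr]
      exact IsHomeomorph.topologicalKrullDim_eq _
        (q.imageι.isClosedEmbedding.isEmbedding.toHomeomorph).isHomeomorph
    obtain ⟨d, hd⟩ : ∃ d : ℕ, topologicalKrullDim X = d := by
      rw [Lib.Helper36.DimLemmas.topologicalKrullDim_eq_ringKrullDim_of_isAffine X]
      letI : Algebra k Γ(X, ⊤) :=
        ((Scheme.ΓSpecIso (CommRingCat.of k)).inv ≫ sX.appTop).hom.toAlgebra
      haveI : Algebra.FiniteType k Γ(X, ⊤) := by
        rw [← RingHom.finiteType_algebraMap, RingHom.algebraMap_toAlgebra]
        have h1 : RingHom.FiniteType sX.appTop.hom :=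
          (HasRingHomProperty.iff_of_isAffine (P := @LocallyOfFiniteType)).mp inferInstance
        have h2 : RingHom.FiniteType (Scheme.ΓSpecIso (CommRingCat.of k)).inv.hom :=
          RingHom.FiniteType.of_surjective _
            (ConcreteCategory.bijective_of_isIso (Scheme.ΓSpecIso (CommRingCat.of k)).inv).2
        exact h1.comp h2
      haveI : Nonempty (⊤ : X.Opens) := ⟨⟨q (Classical.arbitrary Z), trivial⟩⟩
      haveI : Nontrivial Γ(X, ⊤) := inferInstance
      exact Lib.Helper73.exists_nat_ringKrullDim_eq k Γ(X, ⊤)
    rw [h2, ← hZ] at h1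
    have h5 : topologicalKrullDim Z + 1 ≤ topologicalKrullDim Z :=
      (add_le_add_left (h3.trans h4.le) 1).trans h1
    rw [hZ, hd] at h5
    have h6 : d + 1 ≤ d := by exact_mod_cast h5
    omega

end Groth.Agent.S15085
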