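import Groth.Statements.S15086
import Mathlib
import Groth.Agent.Lib.Helper59.SepDegBC

set_option autoImplicit false
universe u
open CategoryTheory CategoryTheory.Limits AlgebraicGeometry
open MovLem

namespace Groth.Agent.S15086

open TensorProduct

section Alg

variable (k : Type u) [Field k] (K : Type u) [Field K] [Algebra k K] [Module.Finite k K]

theorem finSepDegree_algClosed_eq_one (Ω E : Type*) [Field Ω] [IsAlgClosed Ω] [Field E]
    [Algebra Ω E] [Module.Finite Ω E] : Field.finSepDegree Ω E = 1 := by
  have hb : Function.Bijective (algebraMap Ω E) :=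
    IsAlgClosed.algebraMap_bijective_of_isIntegral
  have e : Ω ≃ₐ[Ω] E := AlgEquiv.ofBijective (Algebra.ofId Ω E) hb
  rw [← Field.finSepDegree_eq_of_equiv Ω Ω E e, Field.finSepDegree_self]

theorem card_primeSpectrum_tensor :
    Nat.card (PrimeSpectrum (AlgebraicClosure k ⊗[k] K)) = Field.finSepDegree k K := by
  have hmain := Lib.Helper59.SepDegBC.main k K (AlgebraicClosure k)
  have e : K ≃ₐ[k] IsLocalRing.ResidueField K :=
    AlgEquiv.ofBijective (IsScalarTower.toAlgHom k K (IsLocalRing.ResidueField K)) (by
      constructor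
      · exact RingHom.injective ((IsScalarTower.toAlgHom k K (IsLocalRing.ResidueField K)) :
          K →+* IsLocalRing.ResidueField K)
      · intro y
        obtain ⟨z, hz⟩ := IsLocalRing.residue_surjective y
        exact ⟨z, hz⟩)
  rw [← Field.finSepDegree_eq_of_equiv k K _ e] at hmain
  rw [hmain]
  haveI : IsArtinianRing (AlgebraicClosure k ⊗[k] K) :=
    IsArtinianRing.of_finite (AlgebraicClosure k) _
  letI : Fintype (MaximalSpectrum (AlgebraicClosure k ⊗[k] K)) := Fintype.ofFinite _
  rw [Nat.card_congr (IsArtinianRing.primeSpectrumEquivMaximalSpectrum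
    (R := AlgebraicClosure k ⊗[k] K)), finsum_eq_sum_of_fintype, Nat.card_eq_fintype_card]
  have h1 : ∀ m : MaximalSpectrum (AlgebraicClosure k ⊗[k] K),
      Field.finSepDegree (AlgebraicClosure k)
        (IsLocalRing.ResidueField (Localization.AtPrime m.asIdeal)) = 1 := by
    intro m
    haveI : m.asIdeal.IsMaximal := m.isMaximal
    haveI : Module.Finite (AlgebraicClosure k) m.asIdeal.ResidueField :=
      Module.Finite.trans (AlgebraicClosure k ⊗[k] K) m.asIdeal.ResidueField
    exact finSepDegree_algClosed_eq_one (AlgebraicClosure k) m.asIdeal.ResidueField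
  simp only [h1, Finset.sum_const, Finset.card_univ, smul_eq_mul, mul_one]

end Alg

section Geom

variable {k : Type u} [Field k]

/-- structure map `k → κ(x)` -/
noncomputable def resHom {X : Scheme.{u}} (sX : X ⟶ Spec (CommRingCat.of k)) (x : X) :
    CommRingCat.of k ⟶ X.residueField x :=
  Spec.preimage (X.fromSpecResidueField x ≫ sX)

theorem Spec_map_resHom {X : Scheme.{u}} (sX : X ⟶ Spec (CommRingCat.of k)) (x : X) :
    Spec.map (resHom sX x) = X.fromSpecResidueField x ≫ sX :=
  Spec.map_preimage _

theorem resHom_comp {X Y : Scheme.{u}} (sX : X ⟶ Spec (CommRingCat.of k))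
    (sY : Y ⟶ Spec (CommRingCat.of k)) (φ : X ⟶ Y) (hφ : φ ≫ sY = sX) (x : X) :
    resHom sY (φ x) ≫ φ.residueFieldMap x = resHom sX x := by
  apply Spec.map_injective
  rw [Spec.map_comp, Spec_map_resHom, Spec_map_resHom, ← hφ, ← Category.assoc,
    Scheme.Hom.SpecMap_residueFieldMap_fromSpecResidueField, Category.assoc]

theorem finite_resHom {X : Scheme.{u}} (sX : X ⟶ Spec (CommRingCat.of k))
    [LocallyOfFiniteType sX] (x : X) (hx : IsClosed ({x} : Set X)) :
    (resHom sX x).hom.Finite := by
  haveI : JacobsonSpace X := LocallyOfFiniteType.jacobsonSpace sX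
  haveI : LocallyOfFiniteType (X.fromSpecResidueField x) :=
    isClosed_singleton_iff_locallyOfFiniteType.mp hx
  have h : LocallyOfFiniteType (Spec.map (resHom sX x)) := by
    rw [Spec_map_resHom]; infer_instance
  rw [HasRingHomProperty.Spec_iff (P := @LocallyOfFiniteType)] at h
  exact RingHom.finite_iff_finiteType_of_isJacobsonRing.mpr h

theorem encard_fibre {X : Scheme.{u}} (sX : X ⟶ Spec (CommRingCat.of k)) (x : X)
    (hfin : (resHom sX x).hom.Finite) :
    ((pullback.fst sX (Spec.map (CommRingCat.ofHom (algebraMap k (AlgebraicClosure k))))).base ⁻¹'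
      {x}).encard =
      ((@Field.finSepDegree k (X.residueField x) _ _ (resHom sX x).hom.toAlgebra : ℕ) : ℕ∞) := by
  letI := (resHom sX x).hom.toAlgebra
  haveI : Module.Finite k (X.residueField x) := hfin
  have hg : X.fromSpecResidueField x ≫ sX =
      Spec.map (CommRingCat.ofHom (algebraMap k (X.residueField x))) := by
    rw [← Spec_map_resHom]; rfl
  let e : (pullback.fst sX (Spec.map (CommRingCat.ofHom
        (algebraMap k (AlgebraicClosure k))))).fiber x ≅
      Spec (.of (AlgebraicClosure k ⊗[k] X.residueField x)) :=
    pullbackSymmetry _ _ ≪≫ pullbackRightPullbackFstIso sX _ (X.fromSpecResidueField x) ≪≫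
      pullbackSymmetry _ _ ≪≫ pullback.congrHom rfl hg ≪≫
      pullbackSpecIso k (AlgebraicClosure k) (X.residueField x)
  have h1 : ((pullback.fst sX (Spec.map (CommRingCat.ofHom
      (algebraMap k (AlgebraicClosure k))))).base ⁻¹' {x}).encard =
      ENat.card (PrimeSpectrum (AlgebraicClosure k ⊗[k] X.residueField x)) := by
    rw [Set.encard]
    exact ENat.card_congr (((pullback.fst sX (Spec.map (CommRingCat.ofHom
      (algebraMap k (AlgebraicClosure k))))).fiberHomeo x).symm.toEquiv.trans
        (Scheme.homeoOfIso e).toEquiv)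
  haveI : IsArtinianRing (AlgebraicClosure k ⊗[k] X.residueField x) :=
    IsArtinianRing.of_finite (AlgebraicClosure k) _
  rw [h1, ENat.card_eq_coe_natCard, card_primeSpectrum_tensor]

end Geom

/-- Let k be an infinite perfect field with algebraic closure k̄, let φ : X → Y be a finite morphism of
k-schemes locally of finite type, let x be a closed point of X and y = φ(x). Let π_X : X_{k̄} → X
and π_Y : Y_{k̄} → Y be the base-change projections and φ_{k̄} : X_{k̄} → Y_{k̄} the induced
morphism. Then the number of points of π_Y⁻¹(y) is at most the number of points of π_X⁻¹(x);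
equality holds if and only if the residue field extension k(y) → k(x) is an isomorphism; and
equality holds whenever φ_{k̄} is injective on π_X⁻¹(x). (Cardinalities are taken in ℕ ∪ {∞}; both
fibres are in fact finite.) -/
theorem result
    {k : Type u} [Field k] [Infinite k] [PerfectField k] {X Y : Scheme.{u}}
    (sX : X ⟶ Spec (CommRingCat.of k)) (sY : Y ⟶ Spec (CommRingCat.of k))
    [LocallyOfFiniteType sX] [LocallyOfFiniteType sY]
    (φ : X ⟶ Y) (hφ : φ ≫ sY = sX) [IsFinite φ]
    (i : Spec (CommRingCat.of (AlgebraicClosure k)) ⟶ Spec (CommRingCat.of k))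
    (hi : i = Spec.map (CommRingCat.ofHom (algebraMap k (AlgebraicClosure k))))
    (φbar : pullback sX i ⟶ pullback sY i)
    (h1 : φbar ≫ pullback.fst sY i = pullback.fst sX i ≫ φ)
    (h2 : φbar ≫ pullback.snd sY i = pullback.snd sX i)
    (x : X) (hx : IsClosed ({x} : Set X)) :
    ((pullback.fst sY i).base ⁻¹' {φ.base x}).encard ≤ ((pullback.fst sX i).base ⁻¹' {x}).encard ∧
      (((pullback.fst sY i).base ⁻¹' {φ.base x}).encard = ((pullback.fst sX i).base ⁻¹' {x}).encard ↔
          Function.Bijective (φ.residueFieldMap x).hom) ∧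
      (Set.InjOn φbar.base ((pullback.fst sX i).base ⁻¹' {x}) →
        ((pullback.fst sY i).base ⁻¹' {φ.base x}).encard = ((pullback.fst sX i).base ⁻¹' {x}).encard) := by
  subst hi
  have hy : IsClosed ({φ x} : Set Y) := by
    have := φ.isClosedMap _ hx
    rwa [Set.image_singleton] at this
  have hfx := finite_resHom sX x hx
  have hfy := finite_resHom sY (φ x) hy
  have ex := encard_fibre sX x hfx
  have ey := encard_fibre sY (φ x) hfy
  letI aX : Algebra k (X.residueField x) := (resHom sX x).hom.toAlgebra
  letI aY : Algebra k (Y.residueField (φ x)) := (resHom sY (φ x)).hom.toAlgebra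
  letI aYX : Algebra (Y.residueField (φ x)) (X.residueField x) :=
    (φ.residueFieldMap x).hom.toAlgebra
  haveI : IsScalarTower k (Y.residueField (φ x)) (X.residueField x) :=
    IsScalarTower.of_algebraMap_eq (fun c => by
      have := resHom_comp sX sY φ hφ x
      exact congr($(this.symm).hom c))
  haveI : Module.Finite k (X.residueField x) := hfx
  haveI : Module.Finite k (Y.residueField (φ x)) := hfy
  haveI : Module.Finite (Y.residueField (φ x)) (X.residueField x) :=
    Module.Finite.of_restrictScalars_finite k _ _
  have htower := Field.finSepDegree_mul_finSepDegree_of_isAlgebraic k (Y.residueField (φ x))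
    (X.residueField x)
  have hpos : 0 < Field.finSepDegree (Y.residueField (φ x)) (X.residueField x) :=
    Nat.pos_of_ne_zero (NeZero.ne _)
  have hposy : 0 < Field.finSepDegree k (Y.residueField (φ x)) :=
    Nat.pos_of_ne_zero (NeZero.ne _)
  haveI : Algebra.IsSeparable (Y.residueField (φ x)) (X.residueField x) :=
    Algebra.isSeparable_tower_top_of_isSeparable k _ _
  have hkey : Field.finSepDegree (Y.residueField (φ x)) (X.residueField x) = 1 ↔
      Function.Bijective (φ.residueFieldMap x).hom := by
    rw [Field.finSepDegree_eq_finrank_of_isSeparable,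
      Algebra.finrank_eq_one_iff_bijective_algebraMap]
    rfl
  have hle : ((pullback.fst sY (Spec.map (CommRingCat.ofHom
      (algebraMap k (AlgebraicClosure k))))).base ⁻¹' {φ.base x}).encard ≤
      ((pullback.fst sX (Spec.map (CommRingCat.ofHom
      (algebraMap k (AlgebraicClosure k))))).base ⁻¹' {x}).encard := by
    rw [ex]
    refine le_trans (le_of_eq ey) ?_
    rw [← htower]
    exact_mod_cast Nat.le_mul_of_pos_right _ hpos
  refine ⟨hle, ?_, ?_⟩
  · rw [ex]
    refine Iff.trans ?_ hkey
    refine Iff.trans (Eq.congr_left ey) ?_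
    rw [← htower]
    constructor
    · intro h
      have h' : Field.finSepDegree k (Y.residueField (φ x)) * 1 =
          Field.finSepDegree k (Y.residueField (φ x)) *
            Field.finSepDegree (Y.residueField (φ x)) (X.residueField x) := by
        rw [mul_one]; exact_mod_cast h
      exact (Nat.eq_of_mul_eq_mul_left hposy h').symm
    · intro h
      rw [h, mul_one]
  · intro hinj
    refine le_antisymm hle ?_
    refine Set.encard_le_encard_of_injOn ?_ hinj
    intro p hp
    have hp' : (pullback.fst sX (Spec.map (CommRingCat.ofHom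
      (algebraMap k (AlgebraicClosure k))))).base p = x := hp
    have := congr(($h1).base p)
    simp only [Scheme.Hom.comp_base, TopCat.comp_app] at this
    change (pullback.fst sY _).base (φbar.base p) = φ.base x
    rw [this, hp']

end Groth.Agent.S15086
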