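import Groth.Statements.S1509
import Mathlib.Tactic
import Groth.Agent.Lib.Helper43.RegImmPerf
-- import your own Groth.Agent.* helpers here

set_option autoImplicit false
universe u
attribute [local instance] HasDerivedCategory.standard
open FlatMor

namespace Groth.Agent.S1509

open AlgebraicGeometry CategoryTheory Limits in
/-- A regular closed immersion (kernel ideal locally generated by a regular sequence) is a perfect
morphism. -/
theorem result {Z X : Scheme.{u}} (i : Z ⟶ X) (hi : Mor2.IsRegularClosedImmersion i) : MoreMor.IsPerfectMor i := by
  exact Groth.Agent.Lib.Helper43.RegImmPerf.perfMor_of_regularClosedImmersion i hi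

end Groth.Agent.S1509
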