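import Groth.Statements.S15100
import Mathlib
import Groth.Agent.Lib.Helper75.Fitting15

set_option autoImplicit false
universe u
open TensorProduct
open CAlg

namespace Groth.Agent.S15100

open Groth.Agent.Lib.Helper75.Fitting IsLocalRing

section Abstract

variable {A : Type u} [CommRing A] {Ω : Type u} [AddCommGroup Ω] [Module A Ω]
  (x : Fin 2 → Ω) (hx : Submodule.span A (Set.range x) = ⊤) (v : Fin 2 → A)
  (hv : relSubmodule A x = Submodule.span A {v})

include hx hv

theorem fitt_one : Fitt.ideal A Ω 1 = Ideal.span {v 0, v 1} := by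
  rw [fitt_eq_J x hx 1, J_eq_minorsIdeal x (fun _ : Unit => v)
    (by rw [Set.range_const]; exact hv.symm) (2 - 1)]
  unfold minorsIdeal
  congr 1
  ext d
  simp only [Set.mem_ofPred_eq, Set.mem_insert_iff, Set.mem_singleton_iff]
  constructor
  · rintro ⟨f, e, rfl⟩
    rw [Matrix.det_fin_one]
    simp only [Matrix.of_apply]
    have : e 0 = 0 ∨ e 0 = 1 := by omega
    rcases this with h | h <;> rw [h] <;> simp
  · rintro (rfl | rfl)
    · exact ⟨fun _ => (), fun _ => 0, by rw [Matrix.det_fin_one]; simp⟩
    · exact ⟨fun _ => (), fun _ => 1, by rw [Matrix.det_fin_one]; simp⟩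

theorem fitt_zero : Fitt.ideal A Ω 0 = ⊥ := by
  rw [fitt_eq_J x hx 0, J_eq_minorsIdeal x (fun _ : Unit => v)
    (by rw [Set.range_const]; exact hv.symm) (2 - 0)]
  unfold minorsIdeal
  rw [Ideal.span_eq_bot]
  rintro d ⟨f, e, rfl⟩
  exact Matrix.det_zero_of_column_eq (i := (0 : Fin 2)) (j := 1) (by decide) (fun k => rfl)

theorem not_free_localization [IsDomain A] [Module.Finite A Ω] (hv0 : v ≠ 0) (P : Ideal A)
    [P.IsPrime] (hP : Ideal.span {v 0, v 1} ≤ P) :
    ¬ Module.Free (Localization.AtPrime P) (LocalizedModule P.primeCompl Ω) := by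
  intro hfree
  have h1 := fitt_localizedModule (M := Ω) P.primeCompl 1
  rw [fitt_one x hx v hv] at h1
  by_cases hr : 1 < Module.finrank (Localization.AtPrime P) (LocalizedModule P.primeCompl Ω)
  · rw [fitt_free_eq_bot 1 hr] at h1
    have hinj : Function.Injective (algebraMap A (Localization.AtPrime P)) :=
      IsLocalization.injective _ P.primeCompl_le_nonZeroDivisors
    have h2 : Ideal.span {v 0, v 1} = ⊥ := by
      rw [eq_bot_iff]
      intro a ha
      have : algebraMap A (Localization.AtPrime P) a ∈
          (Ideal.span {v 0, v 1}).map (algebraMap A (Localization.AtPrime P)) :=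
        Ideal.mem_map_of_mem _ ha
      rw [← h1, Ideal.mem_bot] at this
      exact hinj (by rw [this, map_zero])
    apply hv0
    ext i
    have hi : v i ∈ Ideal.span {v 0, v 1} := by
      have : i = 0 ∨ i = 1 := by omega
      rcases this with h | h <;> rw [h] <;> apply Ideal.subset_span <;> simp
    rw [h2] at hi
    exact hi
  · have hle : Module.finrank (Localization.AtPrime P) (LocalizedModule P.primeCompl Ω) ≤ 1 := by
      omega
    let b := Module.finBasis (Localization.AtPrime P) (LocalizedModule P.primeCompl Ω)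
    have h2 : Fitt.ideal (Localization.AtPrime P) (LocalizedModule P.primeCompl Ω)
        (Module.finrank (Localization.AtPrime P) (LocalizedModule P.primeCompl Ω)) = ⊤ :=
      fitt_eq_top b b.span_eq
    have h3 := fitt_mono (R := Localization.AtPrime P) (M := LocalizedModule P.primeCompl Ω) hle
    rw [h2, top_le_iff, h1, map_atPrime_eq_top_iff] at h3
    exact h3 hP

theorem free_of_span_eq_top [IsLocalRing A] (htop : Ideal.span {v 0, v 1} = ⊤) :
    Module.Free A Ω := by
  have h1 : Fitt.ideal A Ω 1 = ⊤ := by rw [fitt_one x hx v hv, htop]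
  obtain ⟨g, hg⟩ := (fitt_eq_top_iff_of_isLocalRing 1).1 h1
  refine (free_of_fitt g hg ?_).1
  intro k hk
  have : k = 0 := by omega
  rw [this]
  exact fitt_zero x hx v hv

theorem free_of_eq_zero [Nontrivial A] (hv0 : v = 0) : Module.Free A Ω := by
  refine (free_of_fitt x hx ?_).1
  intro k hk
  have : k = 0 ∨ k = 1 := by omega
  rcases this with h | h <;> rw [h]
  · exact fitt_zero x hx v hv
  · rw [fitt_one x hx v hv, hv0]
    simp

end Abstract

section Main

variable {A : Type u} [CommRing A] [IsDomain A] [IsNoetherianRing A] [IsLocalRing A]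
  {Ω E1 E2 : Type u} [AddCommGroup Ω] [Module A Ω] [AddCommGroup E1] [Module A E1]
  [AddCommGroup E2] [Module A E2]

theorem abstract_main (hdimA : ringKrullDim A = 3)
    (b1 : Module.Basis (Fin 1) A E1) (b2 : Module.Basis (Fin 2) A E2)
    (α : E1 →ₗ[A] E2) (β : E2 →ₗ[A] Ω) (hex : Function.Exact α β) (hβ : Function.Surjective β)
    (u0 : A)
    (h0 : ∀ P : PrimeSpectrum A, u0 ∈ P.asIdeal → P.asIdeal ≠ maximalIdeal A →
      Module.Free (Localization.AtPrime P.asIdeal) (LocalizedModule P.asIdeal.primeCompl Ω))
    (hm : ¬ Module.Free A Ω) :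
    ∃ Q : PrimeSpectrum A, u0 ∉ Q.asIdeal ∧
      ¬ Module.Free (Localization.AtPrime Q.asIdeal) (LocalizedModule Q.asIdeal.primeCompl Ω) := by
  have hE2fin : Module.Finite A E2 := Module.Finite.of_basis b2
  have hfin : Module.Finite A Ω := Module.Finite.of_surjective β hβ
  set x : Fin 2 → Ω := fun i => β (b2 i) with hxdef
  set v : Fin 2 → A := b2.equivFun (α (b1 0)) with hvdef
  have hx : Submodule.span A (Set.range x) = ⊤ := by
    have : Set.range x = β '' Set.range b2 := by
      rw [← Set.range_comp]; rfl
    rw [this, ← Submodule.map_span, b2.span_eq, Submodule.map_top, LinearMap.range_eq_top]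
    exact hβ
  have hv : relSubmodule A x = Submodule.span A {v} := by
    ext r
    rw [mem_relSubmodule, Submodule.mem_span_singleton]
    unfold IsRel
    have h1 : ∑ j, r j • x j = β (b2.equivFun.symm r) := by
      rw [Module.Basis.equivFun_symm_apply, map_sum]
      simp [hxdef]
    rw [h1, hex]
    constructor
    · rintro ⟨e1, he1⟩
      refine ⟨b1.equivFun e1 0, ?_⟩
      have he1' : e1 = b1.equivFun e1 0 • b1 0 := by
        conv_lhs => rw [← b1.sum_equivFun e1]
        simp
      rw [hvdef, ← map_smul, ← map_smul, ← he1', he1, LinearEquiv.apply_symm_apply]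
    · rintro ⟨c, hc⟩
      refine ⟨c • b1 0, ?_⟩
      rw [← hc, hvdef, map_smul, map_smul, LinearEquiv.symm_apply_apply]
  have hv0 : v ≠ 0 := fun h => hm (free_of_eq_zero x hx v hv h)
  have htop : Ideal.span {v 0, v 1} ≠ ⊤ := fun h => hm (free_of_span_eq_top x hx v hv h)
  obtain ⟨Q, hQ⟩ := Ideal.nonempty_minimalPrimes htop
  have hQprime : Q.IsPrime := hQ.1.1
  have hht : Q.height ≤ 2 := by
    have := Ideal.height_le_card_of_mem_minimalPrimes_span (s := {v 0, v 1})
      (Set.toFinite _) hQ
    refine le_trans this ?_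
    have h2 : ({v 0, v 1} : Set A).ncard ≤ 2 :=
      (Set.ncard_insert_le _ _).trans (by simp)
    exact_mod_cast h2
  have hQm : Q ≠ maximalIdeal A := by
    intro h
    rw [h] at hht
    have h3 := IsLocalRing.maximalIdeal_height_eq_ringKrullDim (R := A)
    have h4 : ((maximalIdeal A).height : WithBot ℕ∞) ≤ ((2 : ℕ∞) : WithBot ℕ∞) :=
      WithBot.coe_le_coe.2 hht
    rw [h3, hdimA] at h4
    have h5 : ((3 : ℕ∞) : WithBot ℕ∞) ≤ ((2 : ℕ∞) : WithBot ℕ∞) := h4
    rw [WithBot.coe_le_coe] at h5
    exact absurd h5 (by norm_num)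
  have hnf := not_free_localization x hx v hv hv0 Q hQ.1.2
  refine ⟨⟨Q, hQprime⟩, ?_, hnf⟩
  intro hu
  exact hnf (h0 ⟨Q, hQprime⟩ hu hQm)

end Main

/-- Let V be a discrete valuation ring with uniformizer u and V → R → A commutative V-algebras with A an
R-algebra compatibly; assume A is a Noetherian local domain of Krull dimension 3 with u in its
maximal ideal, that Ω_{A/V} is a free A-module of rank 2 and that A ⊗_R Ω_{R/V} is a free A-module
of rank 1. Suppose that on the special fibre Ω_{A/R} is locally free exactly away from the closed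
point: for every prime P of A containing u other than the maximal ideal the localization (Ω_{A/R})_P
is free over A_P, while Ω_{A/R} is not free over A. Then Ω_{A/R} is not locally free on the generic
fibre: there is a prime Q of A not containing u with (Ω_{A/R})_Q not free over A_Q. (In the
published statement R is a regular local ring of dimension 2 and A a local ring of dimension 3, both
smooth over V, which yields the two freeness hypotheses used here, and the hypothesis is phrased as
local freeness of Ω of the special fibre of A over that of R away from the closed point.) -/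
theorem result
    (V R A : Type u) [CommRing V] [IsDomain V] [IsDiscreteValuationRing V] [CommRing R] [CommRing A]
    [IsDomain A] [IsNoetherianRing A] [IsLocalRing A]
    [Algebra V R] [Algebra V A] [Algebra R A] [IsScalarTower V R A]
    (u : V) (hu : Irreducible u) (huA : algebraMap V A u ∈ IsLocalRing.maximalIdeal A)
    (hdimA : ringKrullDim A = 3)
    (hΩA : Module.Free A (Ω[A⁄V])) (hrkA : Module.finrank A (Ω[A⁄V]) = 2)
    (hΩR : Module.Free A (A ⊗[R] Ω[R⁄V])) (hrkR : Module.finrank A (A ⊗[R] Ω[R⁄V]) = 1)
    (h0 : ∀ P : PrimeSpectrum A, algebraMap V A u ∈ P.asIdeal → P.asIdeal ≠ IsLocalRing.maximalIdeal A →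
      Module.Free (Localization.AtPrime P.asIdeal) (LocalizedModule P.asIdeal.primeCompl (Ω[A⁄R])))
    (hm : ¬ Module.Free A (Ω[A⁄R])) :
    ∃ Q : PrimeSpectrum A, algebraMap V A u ∉ Q.asIdeal ∧
      ¬ Module.Free (Localization.AtPrime Q.asIdeal) (LocalizedModule Q.asIdeal.primeCompl (Ω[A⁄R])) := by
  have hfinA : Module.Finite A (Ω[A⁄V]) := Module.finite_of_finrank_pos (by omega)
  have hfinR : Module.Finite A (A ⊗[R] Ω[R⁄V]) := Module.finite_of_finrank_pos (by omega)
  exact abstract_main hdimA (Module.finBasisOfFinrankEq A _ hrkR) (Module.finBasisOfFinrankEq A _ hrkA)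
    (KaehlerDifferential.mapBaseChange V R A) (KaehlerDifferential.map V R A A)
    (KaehlerDifferential.exact_mapBaseChange_map V R A) (KaehlerDifferential.map_surjective V R A)
    (algebraMap V A u) h0 hm

end Groth.Agent.S15100
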