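import Groth.Statements.S15115
-- import your own Groth.Agent.* helpers here
import Groth.Agent.Lib.Helper96.Reynolds
import Groth.Agent.Lib.Helper96.LinRed

set_option autoImplicit false
universe u
open HopfRep

namespace Groth.Agent.S15115

open TensorProduct in
/-- Let k be an algebraically closed field, H a finite-dimensional commutative Hopf algebra over k all
of whose finite-dimensional comodules are semisimple (a finite linearly reductive group scheme G
over k), A a commutative k-algebra, and M an A-module with an H-coaction that is A-linear (G acts on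
M by A-module maps, A carrying the trivial action). Let A' be a commutative A-algebra and N = A' ⊗_A
M its base change, exhibited by an A-linear map φ : M → N, with the induced coaction: A'-linear and
compatible with φ. Then invariants commute with this base change: writing M^G for the A-submodule of
coinvariant elements of M, the natural map A' ⊗_A M^G → N, a' ⊗ m ↦ a' φ(m), is injective and its
image is exactly the set of coinvariant elements of N. (The published statement is the isomorphism
ρ^* π_* F → π'_* σ^* F for a tame Deligne–Mumford stack with coarse moduli space π and any base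
change ρ of the coarse space; this row is the statement about invariants to which its proof reduces
it, for modules that need not be finitely generated.) -/
theorem result (k : Type u) [Field k] [IsAlgClosed k]
    (H : Type u) [CommRing H] [HopfAlgebra k H] [Module.Finite k H] (hred : HopfRep.IsLinearlyReductive k H)
    (A : Type u) [CommRing A] [Algebra k A]
    (M : Type u) [AddCommGroup M] [Module k M] [Module A M] [IsScalarTower k A M] [HopfRep.Comod k H M]
    (hlin : ∀ (a : A) (m : M), HopfRep.Comod.coact (k := k) (A := H) (a • m) = a • HopfRep.Comod.coact (k := k) (A := H) m)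
    (A' : Type u) [CommRing A'] [Algebra k A'] [Algebra A A'] [IsScalarTower k A A']
    (N : Type u) [AddCommGroup N] [Module k N] [Module A N] [Module A' N]
    [IsScalarTower k A N] [IsScalarTower A A' N] [IsScalarTower k A' N] [HopfRep.Comod k H N]
    (φ : M →ₗ[A] N) (hφ : IsBaseChange A' φ)
    (hcomp : ∀ m : M, HopfRep.Comod.coact (k := k) (A := H) (φ m) =
      LinearMap.rTensor H (φ.restrictScalars k) (HopfRep.Comod.coact (k := k) (A := H) m))
    (hlinN : ∀ (a' : A') (n : N), HopfRep.Comod.coact (k := k) (A := H) (a' • n) = a' • HopfRep.Comod.coact (k := k) (A := H) n)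
    (P : Submodule A M) (hP : (P : Set M) = (HopfRep.fixedPts k H M : Set M)) :
    Function.Injective (TensorProduct.lift (((Algebra.lsmul A A N : A' →ₐ[A] Module.End A N).toLinearMap).compl₂ (φ ∘ₗ P.subtype))) ∧
      Set.range (TensorProduct.lift (((Algebra.lsmul A A N : A' →ₐ[A] Module.End A N).toLinearMap).compl₂ (φ ∘ₗ P.subtype))) =
        (HopfRep.fixedPts k H N : Set N) := by
  classical
  obtain ⟨α, hα, h1⟩ :=
    (Groth.Agent.Lib.Helper96.isLinearlyReductive_iff_exists_integral (k := k) (A := H)).mp hred
  set cM : HopfRep.Comod k H M := ‹HopfRep.Comod k H M› with hcM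
  set cN : HopfRep.Comod k H N := ‹HopfRep.Comod k H N› with hcN
  set β : H →ₗ[k] k := α ∘ₗ (HopfAlgebra.antipode k (A := H)) with hβ
  -- slices are linear over the acting rings
  have hsliceM : ∀ (a : A) (y : M ⊗[k] H),
      Groth.Agent.Lib.Helper96.slice M β (a • y) = a • Groth.Agent.Lib.Helper96.slice M β y := by
    intro a y
    induction y using TensorProduct.induction_on with
    | zero => simp
    | add x y hx hy => rw [smul_add, map_add, hx, hy, map_add, smul_add]
    | tmul m h =>
      rw [TensorProduct.smul_tmul', Groth.Agent.Lib.Helper96.slice_tmul,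
        Groth.Agent.Lib.Helper96.slice_tmul, smul_comm]
  have hsliceN : ∀ (a : A') (y : N ⊗[k] H),
      Groth.Agent.Lib.Helper96.slice N β (a • y) = a • Groth.Agent.Lib.Helper96.slice N β y := by
    intro a y
    induction y using TensorProduct.induction_on with
    | zero => simp
    | add x y hx hy => rw [smul_add, map_add, hx, hy, map_add, smul_add]
    | tmul m h =>
      rw [TensorProduct.smul_tmul', Groth.Agent.Lib.Helper96.slice_tmul,
        Groth.Agent.Lib.Helper96.slice_tmul, smul_comm]
  -- Reynolds operators
  set EM := Groth.Agent.Lib.Helper96.reyn cM α with hEM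
  set EN := Groth.Agent.Lib.Helper96.reyn cN α with hEN
  have hEM_smul : ∀ (a : A) (m : M), EM (a • m) = a • EM m := by
    intro a m
    rw [hEM, Groth.Agent.Lib.Helper96.reyn_apply, Groth.Agent.Lib.Helper96.reyn_apply]
    rw [show cM.coact (a • m) = a • cM.coact m from hlin a m]
    exact hsliceM a _
  have hEN_smul : ∀ (a : A') (n : N), EN (a • n) = a • EN n := by
    intro a n
    rw [hEN, Groth.Agent.Lib.Helper96.reyn_apply, Groth.Agent.Lib.Helper96.reyn_apply]
    rw [show cN.coact (a • n) = a • cN.coact n from hlinN a n]
    exact hsliceN a _
  have hEN_φ : ∀ m : M, EN (φ m) = φ (EM m) := by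
    intro m
    exact Groth.Agent.Lib.Helper96.reyn_natural cM cN α (φ.restrictScalars k) m (hcomp m)
  have hEM_mem : ∀ m : M, EM m ∈ P := by
    intro m
    have : EM m ∈ (P : Set M) := by
      rw [hP]
      exact Groth.Agent.Lib.Helper96.coact_reyn cM α hα m
    exact this
  have hEM_fix : ∀ p : P, EM (p : M) = p := by
    intro p
    have : (p : M) ∈ (HopfRep.fixedPts k H M : Set M) := by rw [← hP]; exact p.2
    exact Groth.Agent.Lib.Helper96.reyn_of_fixed cM α h1 this
  -- the A-linear retraction M → P
  let r0 : M →ₗ[A] M := { toFun := EM, map_add' := map_add EM, map_smul' := hEM_smul }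
  let r : M →ₗ[A] P := r0.codRestrict P hEM_mem
  have hr : r ∘ₗ P.subtype = LinearMap.id := by
    apply LinearMap.ext
    intro p
    apply Subtype.ext
    exact hEM_fix p
  set T := TensorProduct.lift (((Algebra.lsmul A A N : A' →ₐ[A] Module.End A N).toLinearMap).compl₂
    (φ ∘ₗ P.subtype)) with hT
  have hT_tmul : ∀ (a' : A') (p : P), T (a' ⊗ₜ[A] p) = a' • φ (p : M) := by
    intro a' p
    simp [hT]
  have hTe : ∀ x : A' ⊗[A] P, T x = hφ.equiv (LinearMap.lTensor A' P.subtype x) := by
    intro x
    induction x using TensorProduct.induction_on with
    | zero => simp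
    | add x y hx hy => rw [map_add, hx, hy, map_add, map_add]
    | tmul a' p =>
      rw [hT_tmul, LinearMap.lTensor_tmul, IsBaseChange.equiv_tmul]
      rfl
  constructor
  · -- injectivity
    have hinj : Function.Injective (LinearMap.lTensor A' P.subtype) := by
      apply Function.LeftInverse.injective (g := LinearMap.lTensor A' r)
      intro x
      rw [← LinearMap.comp_apply, ← LinearMap.lTensor_comp, hr, LinearMap.lTensor_id,
        LinearMap.id_apply]
    intro x y hxy
    rw [hTe, hTe] at hxy
    exact hinj (hφ.equiv.injective hxy)
  · -- range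
    ext n
    constructor
    · rintro ⟨x, rfl⟩
      show T x ∈ HopfRep.fixedPts k H N
      induction x using TensorProduct.induction_on with
      | zero => simp
      | add x y hx hy => rw [map_add]; exact Submodule.add_mem _ hx hy
      | tmul a' p =>
        rw [hT_tmul]
        show cN.coact (a' • φ (p : M)) = (a' • φ (p : M)) ⊗ₜ[k] (1 : H)
        rw [show cN.coact (a' • φ (p : M)) = a' • cN.coact (φ (p : M)) from hlinN a' _]
        rw [show cN.coact (φ (p : M)) = LinearMap.rTensor H (φ.restrictScalars k) (cM.coact (p : M))
          from hcomp _]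
        have hp : cM.coact (p : M) = (p : M) ⊗ₜ[k] (1 : H) := by
          have : (p : M) ∈ (HopfRep.fixedPts k H M : Set M) := by rw [← hP]; exact p.2
          exact this
        rw [hp, LinearMap.rTensor_tmul, TensorProduct.smul_tmul']
        rfl
    · intro hn
      have hn' : cN.coact n = n ⊗ₜ[k] (1 : H) := hn
      have h2 : EN n = n := Groth.Agent.Lib.Helper96.reyn_of_fixed cN α h1 hn'
      obtain ⟨y, rfl⟩ := hφ.equiv.surjective n
      have key : ∀ y : A' ⊗[A] M, EN (hφ.equiv y) = T (LinearMap.lTensor A' r y) := by
        intro y
        induction y using TensorProduct.induction_on with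
        | zero => simp
        | add x y hx hy => rw [map_add, map_add, hx, hy, map_add, map_add]
        | tmul a' m =>
          rw [IsBaseChange.equiv_tmul, hEN_smul, hEN_φ, LinearMap.lTensor_tmul, hT_tmul]
          rfl
      exact ⟨LinearMap.lTensor A' r y, by rw [← key, h2]⟩

end Groth.Agent.S15115
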