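import Groth.Statements.S15117
-- import your own Groth.Agent.* helpers here
import Mathlib

set_option autoImplicit false
universe u v w
open TensorProduct
open NRGIT

namespace Groth.Agent.S15117

/-- Let k be a field, π : A → B a map of commutative bialgebras over k, W a right A-comodule and V ⊆ W a
subcomodule all of whose elements are coinvariant for the B-coaction induced through π. Then the
coaction of every v ∈ V lies in V ⊗ A' ⊆ W ⊗ A, where A' ⊆ A is the set of elements a with (π ⊗
id)(Δ a) = 1 ⊗ a, i.e. coinvariant for the coaction of B on A through π on the left factor; the row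
states membership in the span of the pure tensors w ⊗ a with w ∈ V and a ∈ A'. (The published
statement is for a linear algebraic group H over an algebraically closed field of characteristic
zero, a normal subgroup N and an H-stable space V of N-invariant sections of a linearised line
bundle, with the coaction landing in O(H)^N ⊗ V, where O(H)^N is the ring of functions on H
invariant under N acting by right multiplication; this row is the comodule form, for any bialgebra
map over a field, where normality of N is not needed.) -/
theorem result (k : Type u) [Field k]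
    (A B : Type v) [CommRing A] [CommRing B] [Bialgebra k A] [Bialgebra k B] (π : A →ₐc[k] B)
    (W : Type w) [AddCommGroup W] [Module k W] [HopfRep.Comod k A W]
    (V : Submodule k W) (hV : HopfRep.IsSubcomod (k := k) (A := A) V)
    (hfix : ∀ v ∈ V, (π.toLinearMap.lTensor W) (HopfRep.Comod.coact (k := k) (A := A) v) = v ⊗ₜ[k] (1 : B))
    (v : W) (hv : v ∈ V) :
    HopfRep.Comod.coact (k := k) (A := A) v ∈
      Submodule.span k {x : W ⊗[k] A | ∃ w ∈ V, ∃ a : A,
        (π.toLinearMap.rTensor A) (Coalgebra.comul (R := k) a) = (1 : B) ⊗ₜ[k] a ∧ x = w ⊗ₜ[k] a} := by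
  classical
  set c : HopfRep.Comod k A W := ‹HopfRep.Comod k A W› with hc
  -- the defect map whose kernel is the coinvariants A'
  set g : A →ₗ[k] B ⊗[k] A :=
    (π.toLinearMap.rTensor A) ∘ₗ (Coalgebra.comul (R := k) (A := A)) - TensorProduct.mk k B A 1 with hg
  obtain ⟨y, hy⟩ := hV v hv
  -- compatibility of assoc with lTensor/rTensor
  have hassoc : ∀ (x : W ⊗[k] A) (a : A),
      (π.toLinearMap.rTensor A).lTensor W (TensorProduct.assoc k W A A (x ⊗ₜ[k] a)) =
        TensorProduct.assoc k W B A ((π.toLinearMap.lTensor W x) ⊗ₜ[k] a) := by
    intro x a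
    induction x using TensorProduct.induction_on with
    | zero => simp
    | add x y hx hy => simp only [TensorProduct.add_tmul, map_add, hx, hy]
    | tmul w b => simp
  -- the two maps agree on y
  have hM : ∀ z : ↥V ⊗[k] A,
      (π.toLinearMap.rTensor A).lTensor W (TensorProduct.assoc k W A A
        (c.coact.rTensor A (V.subtype.rTensor A z))) =
      (TensorProduct.mk k B A 1).lTensor W (V.subtype.rTensor A z) := by
    intro z
    induction z using TensorProduct.induction_on with
    | zero => simp
    | add x y hx hy => simp only [map_add, hx, hy]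
    | tmul u a =>
      rw [LinearMap.rTensor_tmul, LinearMap.rTensor_tmul, hassoc, Submodule.subtype_apply,
        hfix (u : W) u.2]
      simp
  have hco : (Coalgebra.comul (R := k) (A := A)).lTensor W (c.coact v) =
      TensorProduct.assoc k W A A (c.coact.rTensor A (c.coact v)) := by
    have := LinearMap.congr_fun c.coassoc v
    simp only [LinearMap.comp_apply, LinearEquiv.coe_coe] at this
    exact this.symm
  have hzero : g.lTensor W (c.coact v) = 0 := by
    rw [hg, LinearMap.lTensor_sub, LinearMap.sub_apply, LinearMap.lTensor_comp,
      LinearMap.comp_apply, hco]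
    rw [← hy, hM y, sub_self]
  have hzero' : g.lTensor ↥V y = 0 := by
    have hinj : Function.Injective (V.subtype.rTensor (B ⊗[k] A)) :=
      Module.Flat.rTensor_preserves_injective_linearMap _ V.injective_subtype
    apply hinj
    rw [map_zero, ← hzero, ← hy]
    rw [← LinearMap.comp_apply, ← LinearMap.comp_apply, LinearMap.rTensor_comp_lTensor,
      LinearMap.lTensor_comp_rTensor]
  have hex : Function.Exact ((LinearMap.ker g).subtype.lTensor ↥V) (g.lTensor ↥V) :=
    Module.Flat.lTensor_exact ↥V (LinearMap.exact_subtype_ker_map g)
  obtain ⟨z, hz⟩ := (hex y).mp hzero'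
  have hg_apply : ∀ a : A, g a = (π.toLinearMap.rTensor A) (Coalgebra.comul (R := k) a) -
      (1 : B) ⊗ₜ[k] a := by
    intro a
    rw [hg]
    rfl
  have hfinal : ∀ z : ↥V ⊗[k] ↥(LinearMap.ker g),
      V.subtype.rTensor A ((LinearMap.ker g).subtype.lTensor ↥V z) ∈
        Submodule.span k {x : W ⊗[k] A | ∃ w ∈ V, ∃ a : A,
          (π.toLinearMap.rTensor A) (Coalgebra.comul (R := k) a) = (1 : B) ⊗ₜ[k] a ∧
            x = w ⊗ₜ[k] a} := by
    intro z
    induction z using TensorProduct.induction_on with
    | zero => simp
    | add x y hx hy => rw [map_add, map_add]; exact Submodule.add_mem _ hx hy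
    | tmul u d =>
      apply Submodule.subset_span
      refine ⟨(u : W), u.2, (d : A), ?_, ?_⟩
      · have hd : g (d : A) = 0 := LinearMap.mem_ker.mp d.2
        rw [hg_apply, sub_eq_zero] at hd
        exact hd
      · simp
  rw [← hy, ← hz]
  exact hfinal z

end Groth.Agent.S15117
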