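import Groth.Statements.S15118
import Mathlib
import Groth.Agent.Lib.Helper61.QuotClosed

set_option autoImplicit false
universe u
open CategoryTheory MonoidalCategory CartesianMonoidalCategory MonObj GrpObj AlgebraicGeometry Topology
open NRGIT

namespace Groth.Agent.S15118
open CategoryTheory MonoidalCategory CartesianMonoidalCategory MonObj GrpObj AlgebraicGeometry Topology
open CategoryTheory.Limits
open Groth.Agent.Lib.Helper61.QuotClosed
set_option backward.isDefEq.respectTransparency.types false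
set_option maxHeartbeats 400000

variable {S : Scheme.{u}}

/-- two scheme points with the same image come from a common "point" `Λ` -/
theorem exists_common {A B C : Over S} (f : A ⟶ C) (g : B ⟶ C) (a : A.left) (b : B.left)
    (hab : f.left a = g.left b) :
    ∃ (Λ : Over S) (aL : Λ ⟶ A) (bL : Λ ⟶ B) (pt : Λ.left),
      aL ≫ f = bL ≫ g ∧ aL.left pt = a ∧ bL.left pt = b := by
  obtain ⟨ζ, hζ1, hζ2⟩ := Scheme.Pullback.exists_preimage_pullback (f := f.left) (g := g.left)
    a b hab
  have hw : pullback.snd f.left g.left ≫ B.hom = pullback.fst f.left g.left ≫ A.hom := by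
    rw [← Over.w g, ← Over.w f, ← Category.assoc, ← Category.assoc, pullback.condition]
  refine ⟨Over.mk (pullback.fst f.left g.left ≫ A.hom), Over.homMk (pullback.fst f.left g.left) rfl,
    Over.homMk (pullback.snd f.left g.left) hw, ζ, ?_, hζ1, hζ2⟩
  apply Over.OverMorphism.ext
  simp only [Over.comp_left, Over.homMk_left]
  exact pullback.condition

/-- lifting a "point" along a surjective morphism, after enlarging it -/
theorem exists_lift {A B : Over S} (p : A ⟶ B) [Surjective p.left] {Λ : Over S} (b : Λ ⟶ B)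
    (pt : Λ.left) :
    ∃ (Λ' : Over S) (e : Λ' ⟶ Λ) (a : Λ' ⟶ A) (pt' : Λ'.left),
      a ≫ p = e ≫ b ∧ e.left pt' = pt := by
  obtain ⟨ζ, hζ⟩ := (pullback.fst b.left p.left).surjective pt
  have hw : pullback.snd b.left p.left ≫ A.hom = pullback.fst b.left p.left ≫ Λ.hom := by
    rw [← Over.w p, ← Over.w b, ← Category.assoc, ← Category.assoc, pullback.condition]
  refine ⟨Over.mk (pullback.fst b.left p.left ≫ Λ.hom), Over.homMk (pullback.fst b.left p.left) rfl,
    Over.homMk (pullback.snd b.left p.left) hw, ζ, ?_, hζ⟩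
  apply Over.OverMorphism.ext
  simp only [Over.comp_left, Over.homMk_left]
  exact pullback.condition.symm

section Calc

variable {G P : Over S} [GrpObj G] (a : AlgGrp.Action G P)

/-- The action on `T`-points. -/
noncomputable def smul {T : Over S} (g : T ⟶ G) (x : T ⟶ P) : T ⟶ P := lift g x ≫ a.act

theorem mul_smul {T : Over S} (g h : T ⟶ G) (x : T ⟶ P) :
    smul a (g * h) x = smul a g (smul a h x) := by
  unfold smul
  rw [Hom.mul_def]
  have h1 : lift (lift g h ≫ μ[G]) x = lift (lift g h) x ≫ (μ[G] ▷ P) := by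
    apply CartesianMonoidalCategory.hom_ext <;> simp
  rw [h1, Category.assoc, a.mul_act]
  have h2 : lift (lift g h) x ≫ (α_ G G P).hom ≫ (G ◁ a.act) = lift g (lift h x ≫ a.act) := by
    apply CartesianMonoidalCategory.hom_ext <;> simp
  rw [← Category.assoc, ← Category.assoc, Category.assoc _ (α_ G G P).hom, h2]

theorem comp_smul {T T' : Over S} (q : T' ⟶ T) (g : T ⟶ G) (x : T ⟶ P) :
    q ≫ smul a g x = smul a (q ≫ g) (q ≫ x) := by
  unfold smul
  rw [← Category.assoc, CartesianMonoidalCategory.comp_lift]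

/-- the orbit map `ψ_f` on points -/
theorem comp_psi {T : Over S} (f : T ⟶ P) {Λ : Over S} (h : Λ ⟶ G) (t : Λ ⟶ T) :
    lift h t ≫ GIT.psi a f = lift (smul a h (t ≫ f)) t := by
  unfold GIT.psi smul
  rw [CartesianMonoidalCategory.comp_lift, lift_snd, ← Category.assoc, lift_whiskerLeft]

theorem psi_snd {T : Over S} (f : T ⟶ P) : GIT.psi a f ≫ snd P T = snd G T := by
  unfold GIT.psi
  rw [lift_snd]

theorem psi_fst {T : Over S} (f : T ⟶ P) :
    GIT.psi a f ≫ fst P T = smul a (fst G T) (snd G T ≫ f) := by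
  unfold GIT.psi smul
  rw [lift_fst]
  congr 1

end Calc

section Geom

variable {H N Q X Y : Over S} [GrpObj H] [GrpObj N] [GrpObj Q]
  (i : N ⟶ H) (q : H ⟶ Q)
  (a : AlgGrp.Action H X) (aN : AlgGrp.Action N X) (haN : aN.act = (i ▷ X) ≫ a.act)
  (π : X ⟶ Y) (aQ : AlgGrp.Action Q Y) (hequiv : (q ⊗ₘ π) ≫ aQ.act = a.act ≫ π)

include haN in
theorem smul_aN {T : Over S} (n : T ⟶ N) (x : T ⟶ X) : smul aN n x = smul a (n ≫ i) x := by
  unfold smul
  rw [haN, ← Category.assoc, lift_whiskerRight]

include hequiv in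
theorem smul_pi {T : Over S} (h : T ⟶ H) (x : T ⟶ X) :
    smul a h x ≫ π = smul aQ (h ≫ q) (x ≫ π) := by
  unfold smul
  rw [Category.assoc, ← hequiv, ← Category.assoc, lift_map]

include hequiv in
/-- equivariance of the orbit maps -/
theorem psi_pi {T : Over S} (f : T ⟶ X) :
    GIT.psi a f ≫ (π ▷ T) = (q ▷ T) ≫ GIT.psi aQ (f ≫ π) := by
  apply CartesianMonoidalCategory.hom_ext
  · rw [Category.assoc, whiskerRight_fst, ← Category.assoc, psi_fst, Category.assoc, psi_fst,
      smul_pi q a π aQ hequiv, comp_smul, whiskerRight_fst, ← Category.assoc (q ▷ T),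
      whiskerRight_snd, Category.assoc]
  · rw [Category.assoc, whiskerRight_snd, psi_snd, Category.assoc, psi_snd, whiskerRight_snd]

/-- lifting along `PsiY`: two points with the same image in `Y` differ by a point of `N`,
after enlarging -/
theorem exists_lift_PsiY (hinv : GIT.IsInvariant aN π)
    (horb : Function.Surjective (GIT.PsiY aN π hinv).base) {Λ : Over S} (x₁ x₂ : Λ ⟶ X)
    (hx : x₁ ≫ π = x₂ ≫ π) (pt : Λ.left) :
    ∃ (Λ' : Over S) (e : Λ' ⟶ Λ) (n : Λ' ⟶ N) (pt' : Λ'.left),
      smul aN n (e ≫ x₂) = e ≫ x₁ ∧ e.left pt' = pt := by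
  haveI : Surjective (GIT.PsiY aN π hinv) := ⟨horb⟩
  have hx' : x₁.left ≫ π.left = x₂.left ≫ π.left := by
    rw [← Over.comp_left, ← Over.comp_left, hx]
  obtain ⟨ξ, hξ1, hξ2⟩ : ∃ ξ : Λ.left ⟶ pullback π.left π.left,
      ξ ≫ pullback.fst π.left π.left = x₁.left ∧ ξ ≫ pullback.snd π.left π.left = x₂.left :=
    ⟨pullback.lift x₁.left x₂.left hx', pullback.lift_fst _ _ _, pullback.lift_snd _ _ _⟩
  obtain ⟨ζ, hζ⟩ := (pullback.fst ξ (GIT.PsiY aN π hinv)).surjective pt
  have hP1 : GIT.PsiY aN π hinv ≫ pullback.fst π.left π.left = aN.act.left := by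
    unfold GIT.PsiY; rw [pullback.lift_fst]
  have hP2 : GIT.PsiY aN π hinv ≫ pullback.snd π.left π.left = (snd N X).left := by
    unfold GIT.PsiY; rw [pullback.lift_snd]
  have hc := pullback.condition (f := ξ) (g := GIT.PsiY aN π hinv)
  have hw : pullback.snd ξ (GIT.PsiY aN π hinv) ≫ (N ⊗ X).hom =
      pullback.fst ξ (GIT.PsiY aN π hinv) ≫ Λ.hom := by
    rw [← Over.w (snd N X), ← hP2, ← Over.w x₂, ← hξ2]
    simp only [← Category.assoc]
    rw [hc]
  set Λ' : Over S := Over.mk (pullback.fst ξ (GIT.PsiY aN π hinv) ≫ Λ.hom) with hΛ'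
  set e : Λ' ⟶ Λ := Over.homMk (pullback.fst ξ (GIT.PsiY aN π hinv)) rfl with he
  set ν : Λ' ⟶ N ⊗ X := Over.homMk (pullback.snd ξ (GIT.PsiY aN π hinv)) hw with hν
  have h1 : ν ≫ snd N X = e ≫ x₂ := by
    apply Over.OverMorphism.ext
    simp only [Over.comp_left, hν, he, Over.homMk_left]
    rw [← hP2, ← Category.assoc, ← hc, Category.assoc, hξ2]
  have h2 : ν ≫ aN.act = e ≫ x₁ := by
    apply Over.OverMorphism.ext
    simp only [Over.comp_left, hν, he, Over.homMk_left]
    rw [← hP1, ← Category.assoc, ← hc, Category.assoc, hξ1]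
  refine ⟨Λ', e, ν ≫ fst N X, ζ, ?_, hζ⟩
  unfold smul
  rw [← h1, ← h2]
  congr 1
  apply CartesianMonoidalCategory.hom_ext
  · simp only [lift_fst]
  · simp only [lift_snd]

include haN hequiv in
/-- the `H`-orbit of `f` is the preimage of the `Q`-orbit of `π f` -/
theorem range_psi_eq [Surjective q.left] (hinv : GIT.IsInvariant aN π)
    (horb : Function.Surjective (GIT.PsiY aN π hinv).base) {T : Over S} (f : T ⟶ X) :
    Set.range (GIT.psi a f).left =
      (π ▷ T).left ⁻¹' Set.range (GIT.psi aQ (f ≫ π)).left := by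
  apply Set.Subset.antisymm
  · rintro _ ⟨w', rfl⟩
    refine ⟨(q ▷ T).left w', ?_⟩
    have e1 : (GIT.psi aQ (f ≫ π)).left ((q ▷ T).left w') =
        ((q ▷ T) ≫ GIT.psi aQ (f ≫ π)).left w' := by
      rw [Over.comp_left]; rfl
    have e2 : (π ▷ T).left ((GIT.psi a f).left w') = (GIT.psi a f ≫ (π ▷ T)).left w' := by
      rw [Over.comp_left]; rfl
    rw [e1, e2, psi_pi q a π aQ hequiv f]
  · intro z hz
    obtain ⟨w, hw⟩ := hz
    obtain ⟨Λ₀, zL, wL, pt₀, h0, hz0, hw0⟩ :=
      exists_common (π ▷ T) (GIT.psi aQ (f ≫ π)) z w hw.symm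
    haveI : Surjective (q ▷ T).left := surjective_whisker (π := q) T
    obtain ⟨Λ₁, e₁, w', pt₁, h1, hpt1⟩ := exists_lift (q ▷ T) wL pt₀
    have hw' : w' = lift (w' ≫ fst H T) (w' ≫ snd H T) := by
      apply CartesianMonoidalCategory.hom_ext
      · rw [lift_fst]
      · rw [lift_snd]
    -- the `T`-coordinate
    have ht : e₁ ≫ zL ≫ snd X T = w' ≫ snd H T := by
      calc e₁ ≫ zL ≫ snd X T = e₁ ≫ (zL ≫ (π ▷ T)) ≫ snd Y T := by
            rw [Category.assoc, whiskerRight_snd]
        _ = (e₁ ≫ wL) ≫ GIT.psi aQ (f ≫ π) ≫ snd Y T := by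
            rw [h0, Category.assoc, Category.assoc]
        _ = (w' ≫ (q ▷ T)) ≫ snd Q T := by rw [psi_snd, h1]
        _ = w' ≫ snd H T := by rw [Category.assoc, whiskerRight_snd]
    -- the two `X`-coordinates have the same image in `Y`
    have hx : (e₁ ≫ zL ≫ fst X T) ≫ π =
        smul a (w' ≫ fst H T) ((w' ≫ snd H T) ≫ f) ≫ π := by
      calc (e₁ ≫ zL ≫ fst X T) ≫ π = e₁ ≫ (zL ≫ (π ▷ T)) ≫ fst Y T := by
            simp only [Category.assoc, whiskerRight_fst]
        _ = (e₁ ≫ wL) ≫ GIT.psi aQ (f ≫ π) ≫ fst Y T := by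
            rw [h0, Category.assoc, Category.assoc]
        _ = (w' ≫ (q ▷ T)) ≫ GIT.psi aQ (f ≫ π) ≫ fst Y T := by rw [h1]
        _ = (lift ((w' ≫ fst H T) ≫ q) (w' ≫ snd H T) ≫ GIT.psi aQ (f ≫ π)) ≫ fst Y T := by
            conv_lhs => rw [hw']
            rw [lift_whiskerRight]
            simp only [Category.assoc]
        _ = smul aQ ((w' ≫ fst H T) ≫ q) ((w' ≫ snd H T) ≫ f ≫ π) := by
            rw [comp_psi, lift_fst]
        _ = smul a (w' ≫ fst H T) ((w' ≫ snd H T) ≫ f) ≫ π := by
            rw [smul_pi q a π aQ hequiv]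
            simp only [Category.assoc]
    obtain ⟨Λ₂, e₂, n, pt₂, h2, hpt2⟩ := exists_lift_PsiY aN π hinv horb _ _ hx pt₁
    refine ⟨(lift ((n ≫ i) * (e₂ ≫ w' ≫ fst H T)) (e₂ ≫ w' ≫ snd H T)).left pt₂, ?_⟩
    have key : lift ((n ≫ i) * (e₂ ≫ w' ≫ fst H T)) (e₂ ≫ w' ≫ snd H T) ≫ GIT.psi a f =
        e₂ ≫ e₁ ≫ zL := by
      rw [comp_psi, mul_smul]
      have e3 : smul a (e₂ ≫ w' ≫ fst H T) ((e₂ ≫ w' ≫ snd H T) ≫ f) =
          e₂ ≫ smul a (w' ≫ fst H T) ((w' ≫ snd H T) ≫ f) := by
        rw [comp_smul]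
        simp only [Category.assoc]
      rw [e3, ← smul_aN i a aN haN, h2]
      apply CartesianMonoidalCategory.hom_ext
      · rw [lift_fst, Category.assoc, Category.assoc]
      · rw [lift_snd, Category.assoc, Category.assoc, ht]
    have e4 : (GIT.psi a f).left
        ((lift ((n ≫ i) * (e₂ ≫ w' ≫ fst H T)) (e₂ ≫ w' ≫ snd H T)).left pt₂) =
        (lift ((n ≫ i) * (e₂ ≫ w' ≫ fst H T)) (e₂ ≫ w' ≫ snd H T) ≫ GIT.psi a f).left pt₂ := by
      rw [Over.comp_left]; rfl
    rw [e4, key, Over.comp_left, Over.comp_left]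
    show zL.left (e₁.left (e₂.left pt₂)) = z
    rw [hpt2, hpt1, hz0]

end Geom


section Null

/-- a closed point of a scheme locally of finite type over an algebraically closed field is the
image of a section -/
theorem exists_section {K : Type u} [Field K] [IsAlgClosed K] {Z : Scheme.{u}}
    (g : Z ⟶ Spec (CommRingCat.of K)) [LocallyOfFiniteType g] (z : Z)
    (hz : IsClosed ({z} : Set Z)) :
    ∃ s : Spec (CommRingCat.of K) ⟶ Z, s ≫ g = 𝟙 _ := by
  haveI : JacobsonSpace Z := LocallyOfFiniteType.jacobsonSpace g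
  haveI h1 : LocallyOfFiniteType (Z.fromSpecResidueField z) :=
    isClosed_singleton_iff_locallyOfFiniteType.1 hz
  obtain ⟨ρ, hρ⟩ : ∃ ρ : CommRingCat.of K ⟶ Z.residueField z,
      Spec.map ρ = Z.fromSpecResidueField z ≫ g :=
    ⟨Spec.preimage (Z.fromSpecResidueField z ≫ g), Spec.map_preimage _⟩
  letI a2 : Algebra K (Z.residueField z) := ρ.hom.toAlgebra
  haveI : LocallyOfFiniteType (Spec.map ρ) := by
    rw [hρ]
    infer_instance
  have hft : ρ.hom.FiniteType :=
    (HasRingHomProperty.Spec_iff (P := @LocallyOfFiniteType)).1 inferInstance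
  haveI : Algebra.FiniteType K (Z.residueField z) := hft
  haveI : Module.Finite K (Z.residueField z) := finite_of_finite_type_of_isJacobsonRing K _
  have hbij : Function.Bijective (algebraMap K (Z.residueField z)) :=
    IsAlgClosed.algebraMap_bijective_of_isIntegral
  let ψ : K ≃+* Z.residueField z := RingEquiv.ofBijective _ hbij
  refine ⟨Spec.map (CommRingCat.ofHom ψ.symm.toRingHom) ≫ Z.fromSpecResidueField z, ?_⟩
  rw [Category.assoc, ← hρ, ← Spec.map_comp]
  have : ρ ≫ CommRingCat.ofHom ψ.symm.toRingHom = 𝟙 _ := by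
    ext c
    exact ψ.symm_apply_apply c
  exact (congrArg Spec.map this).trans (Spec.map_id _)

/-- a nonempty scheme locally of finite type over an algebraically closed field has a section -/
theorem exists_section_of_nonempty {K : Type u} [Field K] [IsAlgClosed K] {Z : Scheme.{u}}
    (g : Z ⟶ Spec (CommRingCat.of K)) [LocallyOfFiniteType g] [Nonempty Z] :
    ∃ s : Spec (CommRingCat.of K) ⟶ Z, s ≫ g = 𝟙 _ := by
  haveI : JacobsonSpace Z := LocallyOfFiniteType.jacobsonSpace g
  have hne : (closedPoints Z).Nonempty := by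
    by_contra h
    rw [Set.not_nonempty_iff_eq_empty] at h
    have h2 := closure_closedPoints (X := Z)
    rw [h, closure_empty] at h2
    exact Set.empty_ne_univ h2
  obtain ⟨z, hz⟩ := hne
  exact exists_section g z hz

end Null


section Lift

variable {k : Type u} [Field k]

/-- lift a geometric point along a surjective morphism locally of finite type -/
theorem exists_lift_geom {X Y : Over (Spec (CommRingCat.of k))} [LocallyOfFiniteType X.hom]
    (π : X ⟶ Y) (hsurj : Function.Surjective π.left.base)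
    (Ω : Type u) [Field Ω] [IsAlgClosed Ω] (T : Over (Spec (CommRingCat.of k)))
    (e : T.left ≅ Spec (CommRingCat.of Ω)) (y : T ⟶ Y) : ∃ f : T ⟶ X, f ≫ π = y := by
  haveI : LocallyOfFiniteType (π.left ≫ Y.hom) := by
    rw [Over.w π]; infer_instance
  haveI : LocallyOfFiniteType π.left := locallyOfFiniteType_of_comp π.left Y.hom
  haveI : LocallyOfFiniteType (pullback.snd π.left y.left ≫ e.hom) := inferInstance
  haveI : Nonempty ↥(pullback π.left y.left) := by
    have t : T.left := e.inv (IsLocalRing.closedPoint Ω)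
    obtain ⟨x, hx⟩ := hsurj (y.left t)
    obtain ⟨ζ, -, -⟩ := Scheme.Pullback.exists_preimage_pullback (f := π.left) (g := y.left)
      x t hx
    exact ⟨ζ⟩
  obtain ⟨s, hs⟩ := exists_section_of_nonempty (pullback.snd π.left y.left ≫ e.hom)
  have hsnd : e.hom ≫ s ≫ pullback.snd π.left y.left = 𝟙 _ := by
    have : s ≫ pullback.snd π.left y.left = e.inv := by
      rw [← Category.comp_id (s ≫ pullback.snd π.left y.left), ← e.hom_inv_id,
        ← Category.assoc, Category.assoc s, hs, Category.id_comp]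
    rw [this, e.hom_inv_id]
  have hπ : (e.hom ≫ s ≫ pullback.fst π.left y.left) ≫ π.left = y.left := by
    rw [Category.assoc, Category.assoc, pullback.condition, ← Category.assoc s, ← Category.assoc,
      hsnd, Category.id_comp]
  refine ⟨Over.homMk (e.hom ≫ s ≫ pullback.fst π.left y.left) ?_, ?_⟩
  · rw [← Over.w π, ← Category.assoc, hπ, Over.w y]
  · apply Over.OverMorphism.ext
    rw [Over.comp_left]
    exact hπ

end Lift


section Main

variable {k : Type u} [Field k]

theorem main {H N Q X Y : Over (Spec (CommRingCat.of k))} [GrpObj H] [GrpObj N] [GrpObj Q]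
    [LocallyOfFiniteType X.hom]
    (i : N ⟶ H) (q : H ⟶ Q) [Surjective q.left]
    (a : AlgGrp.Action H X) (aN : AlgGrp.Action N X) (haN : aN.act = (i ▷ X) ≫ a.act)
    (π : X ⟶ Y) (hπ : GIT.IsGeomQuot aN π)
    (aQ : AlgGrp.Action Q Y) (hequiv : (q ⊗ₘ π) ≫ aQ.act = a.act ≫ π) :
    GIT.IsClosedAction aQ ↔ GIT.IsClosedAction a := by
  constructor
  · intro hQ Ω _ _ T e f
    have h := range_psi_eq i q a aN haN π aQ hequiv hπ.inv hπ.orbit f
    show IsClosed (Set.range (GIT.psi a f).left)
    rw [h]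
    exact (hQ Ω T e (f ≫ π)).preimage (π ▷ T).left.continuous
  · intro hH Ω _ _ T e y
    obtain ⟨f, rfl⟩ := exists_lift_geom π hπ.surj Ω T e y
    have h := range_psi_eq i q a aN haN π aQ hequiv hπ.inv hπ.orbit f
    have hq : IsQuotientMap (π ▷ T).left :=
      hπ.subm (fst X T).left (fst Y T).left (π ▷ T).left (isPullback_whiskerRight π T)
    show IsClosed (Set.range (GIT.psi aQ (f ≫ π)).left)
    rw [← hq.isClosed_preimage, ← h]
    exact hH Ω T e f

end Main

end Groth.Agent.S15118

namespace Groth.Agent.S15118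

/-- Over an algebraically closed field k of characteristic zero, let H be a linear algebraic group
(affine, reduced, of finite type) with a closed normal subgroup N and quotient q : H → Q (a
surjective homomorphism with kernel N), acting on a variety X (reduced, separated, of finite type);
let the restricted action of N have a geometric quotient π : X → Y with Y a variety, and let Q act
on Y so that π is equivariant along q. Then every orbit of a geometric point of Y under Q is closed
exactly when every orbit of a geometric point of X under H is closed. (The published lemma assumes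
in addition that the stabilisers of the N-action are finite, which this part does not use; it takes
geometric quotients in the sense of affine good quotients that are orbit spaces, while this row uses
a universally submersive geometric quotient that need not be affine; the induced action of Q on Y is
taken as a datum together with the equivariance of π.) -/
theorem result (k : Type u) [Field k] [IsAlgClosed k] [CharZero k]
    (H N Q X Y : Over (Spec (CommRingCat.of k))) [GrpObj H] [GrpObj N] [GrpObj Q]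
    [IsAffine H.left] [LocallyOfFiniteType H.hom] [IsReduced H.left]
    [IsAffine N.left] [LocallyOfFiniteType N.hom] [IsReduced N.left]
    [IsAffine Q.left] [LocallyOfFiniteType Q.hom] [IsReduced Q.left]
    [LocallyOfFiniteType X.hom] [QuasiCompact X.hom] [IsSeparated X.hom] [IsReduced X.left]
    [LocallyOfFiniteType Y.hom] [QuasiCompact Y.hom] [IsSeparated Y.hom] [IsReduced Y.left]
    (i : N ⟶ H) [IsMonHom i] [IsClosedImmersion i.left] (hnorm : AlgGrp.IsNormalHom i)
    (q : H ⟶ Q) [IsMonHom q] [Surjective q.left] (hker : AlgGrp.IsKernel i q)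
    (a : AlgGrp.Action H X) (aN : AlgGrp.Action N X) (haN : aN.act = (i ▷ X) ≫ a.act)
    (π : X ⟶ Y) (hπ : GIT.IsGeomQuot aN π)
    (aQ : AlgGrp.Action Q Y) (hequiv : (q ⊗ₘ π) ≫ aQ.act = a.act ≫ π) :
    GIT.IsClosedAction aQ ↔ GIT.IsClosedAction a := by
  exact main i q a aN haN π hπ aQ hequiv

end Groth.Agent.S15118
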