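import Groth.Statements.S15119
import Mathlib
import Groth.Agent.S15118

set_option autoImplicit false
universe u
open CategoryTheory MonoidalCategory CartesianMonoidalCategory MonObj GrpObj AlgebraicGeometry Topology
open NRGIT

namespace Groth.Agent.S15119
open CategoryTheory MonoidalCategory CartesianMonoidalCategory MonObj GrpObj AlgebraicGeometry Topology
open CategoryTheory.Limits
open Groth.Agent.Lib.Helper61.QuotClosed
open Groth.Agent.S15118 (smul mul_smul comp_smul comp_psi psi_snd psi_fst smul_aN smul_pi)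
set_option backward.isDefEq.respectTransparency.types false
set_option maxHeartbeats 400000

section Fin

variable {Ω : Type u} [Field Ω] [IsAlgClosed Ω]

/-- a closed point of a scheme locally of finite type over an algebraically closed field is the
image of a section -/
theorem exists_section_pt {Z : Scheme.{u}}
    (g : Z ⟶ Spec (CommRingCat.of Ω)) [LocallyOfFiniteType g] (z : Z)
    (hz : IsClosed ({z} : Set Z)) :
    ∃ s : Spec (CommRingCat.of Ω) ⟶ Z, s ≫ g = 𝟙 _ ∧ ∀ p, s p = z := by
  haveI : JacobsonSpace Z := LocallyOfFiniteType.jacobsonSpace g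
  haveI h1 : LocallyOfFiniteType (Z.fromSpecResidueField z) :=
    isClosed_singleton_iff_locallyOfFiniteType.1 hz
  obtain ⟨ρ, hρ⟩ : ∃ ρ : CommRingCat.of Ω ⟶ Z.residueField z,
      Spec.map ρ = Z.fromSpecResidueField z ≫ g :=
    ⟨Spec.preimage (Z.fromSpecResidueField z ≫ g), Spec.map_preimage _⟩
  letI a2 : Algebra Ω (Z.residueField z) := ρ.hom.toAlgebra
  haveI : LocallyOfFiniteType (Spec.map ρ) := by
    rw [hρ]
    infer_instance
  have hft : ρ.hom.FiniteType :=
    (HasRingHomProperty.Spec_iff (P := @LocallyOfFiniteType)).1 inferInstance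
  haveI : Algebra.FiniteType Ω (Z.residueField z) := hft
  haveI : Module.Finite Ω (Z.residueField z) := finite_of_finite_type_of_isJacobsonRing Ω _
  have hbij : Function.Bijective (algebraMap Ω (Z.residueField z)) :=
    IsAlgClosed.algebraMap_bijective_of_isIntegral
  let ψ : Ω ≃+* Z.residueField z := RingEquiv.ofBijective _ hbij
  refine ⟨Spec.map (CommRingCat.ofHom ψ.symm.toRingHom) ≫ Z.fromSpecResidueField z, ?_, ?_⟩
  · rw [Category.assoc, ← hρ, ← Spec.map_comp]
    have : ρ ≫ CommRingCat.ofHom ψ.symm.toRingHom = 𝟙 _ := by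
      ext c
      exact ψ.symm_apply_apply c
    exact (congrArg Spec.map this).trans (Spec.map_id _)
  · intro p
    exact Scheme.fromSpecResidueField_apply z _

/-- a section of a morphism to the spectrum of a field is determined by its image point -/
theorem section_ext {Z : Scheme.{u}} (g : Z ⟶ Spec (CommRingCat.of Ω))
    (s s' : Spec (CommRingCat.of Ω) ⟶ Z) (hs : s ≫ g = 𝟙 _) (hs' : s' ≫ g = 𝟙 _)
    (h : s (IsLocalRing.closedPoint Ω) = s' (IsLocalRing.closedPoint Ω)) : s = s' := by
  obtain ⟨z, hz⟩ : ∃ z, s (IsLocalRing.closedPoint Ω) = z := ⟨_, rfl⟩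
  have hz' : s' (IsLocalRing.closedPoint Ω) = z := h ▸ hz
  obtain ⟨φ, hφ⟩ : ∃ φ : Z.residueField z ⟶ CommRingCat.of Ω,
      s = Spec.map φ ≫ Z.fromSpecResidueField z := by
    subst hz
    exact ⟨_, (Scheme.descResidueField_stalkClosedPointTo_fromSpecResidueField Ω Z s).symm⟩
  obtain ⟨φ', hφ'⟩ : ∃ φ' : Z.residueField z ⟶ CommRingCat.of Ω,
      s' = Spec.map φ' ≫ Z.fromSpecResidueField z := by
    subst hz'
    exact ⟨_, (Scheme.descResidueField_stalkClosedPointTo_fromSpecResidueField Ω Z s').symm⟩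
  obtain ⟨ρ, hρ⟩ : ∃ ρ : CommRingCat.of Ω ⟶ Z.residueField z,
      Spec.map ρ = Z.fromSpecResidueField z ≫ g :=
    ⟨Spec.preimage (Z.fromSpecResidueField z ≫ g), Spec.map_preimage _⟩
  have e1 : ρ ≫ φ = 𝟙 _ := by
    apply Spec.map_injective
    rw [Spec.map_comp, hρ, ← Category.assoc, ← hφ, hs, Spec.map_id]
  have e2 : ρ ≫ φ' = 𝟙 _ := by
    apply Spec.map_injective
    rw [Spec.map_comp, hρ, ← Category.assoc, ← hφ', hs', Spec.map_id]
  have e1' : ∀ c : Ω, φ.hom (ρ.hom c) = c := fun c => by
    have := congrArg (fun m => m.hom c) e1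
    simpa using this
  have e2' : ∀ c : Ω, φ'.hom (ρ.hom c) = c := fun c => by
    have := congrArg (fun m => m.hom c) e2
    simpa using this
  have hinj : Function.Injective φ.hom := RingHom.injective _
  have hsurj : ∀ c : Z.residueField z, ρ.hom (φ.hom c) = c := fun c => hinj (e1' _)
  have : φ = φ' := by
    ext c
    rw [← hsurj c, e1', e2']
  rw [hφ, hφ', this]


theorem subsingleton_of_iso {B : Scheme.{u}} (e : B ≅ Spec (CommRingCat.of Ω)) :
    Subsingleton B := by
  haveI : Subsingleton (Spec (CommRingCat.of Ω)) :=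
    inferInstanceAs (Subsingleton (PrimeSpectrum Ω))
  refine ⟨fun a b => ?_⟩
  have h : e.hom a = e.hom b := Subsingleton.elim _ _
  have := congrArg (fun x => e.inv x) h
  simpa [← Scheme.Hom.comp_apply] using this

/-- finiteness criterion over an algebraically closed field -/
theorem isFinite_iff_finite_sections {Z B : Scheme.{u}} (e : B ≅ Spec (CommRingCat.of Ω))
    (g : Z ⟶ B) [LocallyOfFiniteType g] :
    IsFinite g ↔ Finite {s : B ⟶ Z // s ≫ g = 𝟙 B} := by
  haveI := subsingleton_of_iso e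
  obtain ⟨b₀, hb₀⟩ : ∃ b₀ : B, b₀ = e.inv (IsLocalRing.closedPoint Ω) := ⟨_, rfl⟩
  have hev : Function.Injective (fun s : {s : B ⟶ Z // s ≫ g = 𝟙 B} => s.1 b₀) := by
    rintro ⟨s, hs⟩ ⟨s', hs'⟩ h
    have h' : s b₀ = s' b₀ := h
    have key : e.inv ≫ s = e.inv ≫ s' := by
      apply section_ext (g ≫ e.hom)
      · rw [Category.assoc, ← Category.assoc s, hs, Category.id_comp, e.inv_hom_id]
      · rw [Category.assoc, ← Category.assoc s', hs', Category.id_comp, e.inv_hom_id]
      · rw [Scheme.Hom.comp_apply, Scheme.Hom.comp_apply, ← hb₀]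
        exact h'
    apply Subtype.ext
    exact (cancel_epi e.inv).1 key
  constructor
  · intro hfin
    haveI : Finite Z := by
      have h1 := g.finite_preimage_singleton b₀
      have h2 : g ⁻¹' {b₀} = Set.univ := by
        ext z
        simp only [Set.mem_preimage, Set.mem_singleton_iff, Set.mem_univ, iff_true]
        exact Subsingleton.elim _ _
      rw [h2] at h1
      exact Set.finite_univ_iff.1 h1
    exact Finite.of_injective _ hev
  · intro hfin
    haveI : JacobsonSpace Z := LocallyOfFiniteType.jacobsonSpace (g ≫ e.hom)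
    have hsub : closedPoints Z ⊆ Set.range (fun s : {s : B ⟶ Z // s ≫ g = 𝟙 B} => s.1 b₀) := by
      intro z hz
      obtain ⟨s', hs', hp⟩ := exists_section_pt (g ≫ e.hom) z hz
      have h1 : s' ≫ g = e.inv := by
        rw [← Category.comp_id (s' ≫ g), ← e.hom_inv_id, ← Category.assoc, Category.assoc s', hs',
          Category.id_comp]
      refine ⟨⟨e.hom ≫ s', ?_⟩, ?_⟩
      · rw [Category.assoc, h1, e.hom_inv_id]
      · show (e.hom ≫ s') b₀ = z
        rw [Scheme.Hom.comp_apply]
        exact hp _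
    have hcf : (closedPoints Z).Finite := (Set.finite_range _).subset hsub
    have hcl : IsClosed (closedPoints Z) := by
      have : closedPoints Z = ⋃ z ∈ closedPoints Z, {z} := (Set.biUnion_of_singleton _).symm
      rw [this]
      exact hcf.isClosed_biUnion (fun z hz => hz)
    haveI : Finite Z := by
      have h2 := closure_closedPoints (X := Z)
      rw [hcl.closure_eq] at h2
      rw [h2] at hcf
      exact Set.finite_univ_iff.1 hcf
    haveI : LocallyQuasiFinite (g ≫ e.hom) :=
      LocallyQuasiFinite.of_finite_preimage_singleton _ (fun x => Set.toFinite _)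
    haveI : QuasiCompact (g ≫ e.hom) :=
      (HasAffineProperty.iff_of_isAffine (P := @QuasiCompact)).2 (inferInstance : CompactSpace Z)
    haveI : IsLocallyArtinian (Spec (CommRingCat.of Ω)) :=
      Scheme.isLocallyArtinianScheme_Spec.2 (inferInstanceAs (IsArtinianRing Ω))
    have h3 : IsFinite (g ≫ e.hom) := IsFinite.of_locallyQuasiFinite _
    exact (MorphismProperty.cancel_right_of_respectsIso @IsFinite g e.hom).1 h3

end Fin


section Stab

variable {S : Scheme.{u}} {G X : Over S} [GrpObj G] (a : AlgGrp.Action G X)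

/-- `T`-points of the stabiliser -/
def StabPts {T : Over S} (x : T ⟶ X) : Set (T ⟶ G) := {h | smul a h x = x}

theorem lift_psi_eq {T : Over S} (x : T ⟶ X) (h : T ⟶ G) (hh : smul a h x = x) :
    lift h (𝟙 T) ≫ GIT.psi a x = lift x (𝟙 T) := by
  rw [comp_psi, Category.id_comp, hh]

/-- the section of the stabiliser attached to a point fixing `x` -/
noncomputable def toSec {T : Over S} (x : T ⟶ X) (h : StabPts a x) :
    {s : T.left ⟶ pullback (GIT.psi a x).left (lift x (𝟙 T)).left //
      s ≫ pullback.snd (GIT.psi a x).left (lift x (𝟙 T)).left = 𝟙 T.left} :=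
  ⟨pullback.lift (lift h.1 (𝟙 T)).left (𝟙 T.left) (by
      rw [← Over.comp_left, lift_psi_eq a x h.1 h.2, Category.id_comp]),
    pullback.lift_snd _ _ _⟩

theorem toSec_injective {T : Over S} (x : T ⟶ X) : Function.Injective (toSec a x) := by
  rintro ⟨h, hh⟩ ⟨h', hh'⟩ heq
  have h1 := congrArg (fun s => s.1 ≫ pullback.fst (GIT.psi a x).left (lift x (𝟙 T)).left) heq
  simp only [toSec, pullback.lift_fst] at h1
  have h2 : lift h (𝟙 T) = lift h' (𝟙 T) := Over.OverMorphism.ext h1
  have h3 := congrArg (fun m => m ≫ fst G T) h2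
  simp only [lift_fst] at h3
  exact Subtype.ext h3

theorem toSec_surjective {T : Over S} (x : T ⟶ X) : Function.Surjective (toSec a x) := by
  rintro ⟨s, hs'⟩
  have hc : (s ≫ pullback.fst (GIT.psi a x).left (lift x (𝟙 T)).left) ≫ (GIT.psi a x).left =
      (lift x (𝟙 T)).left := by
    rw [Category.assoc, pullback.condition, ← Category.assoc, hs', Category.id_comp]
  have hw : (s ≫ pullback.fst (GIT.psi a x).left (lift x (𝟙 T)).left) ≫ (G ⊗ T).hom = T.hom := by
    rw [← Over.w (GIT.psi a x), ← Category.assoc, hc, Over.w]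
  obtain ⟨v, hv⟩ : ∃ v : T ⟶ G ⊗ T,
      v.left = s ≫ pullback.fst (GIT.psi a x).left (lift x (𝟙 T)).left :=
    ⟨Over.homMk _ hw, rfl⟩
  have hvψ : v ≫ GIT.psi a x = lift x (𝟙 T) := by
    apply Over.OverMorphism.ext
    rw [Over.comp_left, hv]
    exact hc
  have hv2 : v ≫ snd G T = 𝟙 T := by
    have := congrArg (fun m => m ≫ snd X T) hvψ
    simp only [Category.assoc, psi_snd, lift_snd] at this
    exact this
  have hv1 : smul a (v ≫ fst G T) x = x := by
    have := congrArg (fun m => m ≫ fst X T) hvψ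
    simp only [Category.assoc, psi_fst, lift_fst] at this
    rw [comp_smul, ← Category.assoc, hv2, Category.id_comp] at this
    exact this
  have hvl : v = lift (v ≫ fst G T) (𝟙 T) := by
    apply CartesianMonoidalCategory.hom_ext
    · rw [lift_fst]
    · rw [lift_snd, hv2]
  refine ⟨⟨v ≫ fst G T, hv1⟩, ?_⟩
  apply Subtype.ext
  apply pullback.hom_ext
  · simp only [toSec, pullback.lift_fst]
    rw [← hvl, hv]
  · simp only [toSec, pullback.lift_snd]
    exact hs'.symm

theorem finite_sections_iff {T : Over S} (x : T ⟶ X) :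
    Finite {s : T.left ⟶ GLinSh.stab a x // s ≫ GLinSh.stabTo a x = 𝟙 T.left} ↔
      (StabPts a x).Finite := by
  have e := Equiv.ofBijective (toSec a x) ⟨toSec_injective a x, toSec_surjective a x⟩
  rw [← Set.finite_coe_iff]
  exact e.finite_iff.symm

theorem lft_stabTo [LocallyOfFiniteType G.hom] {T : Over S} (x : T ⟶ X) :
    LocallyOfFiniteType (GLinSh.stabTo a x) := by
  haveI h1 : LocallyOfFiniteType ((GIT.psi a x).left ≫ (snd X T).left) := by
    rw [← Over.comp_left, psi_snd, Over.snd_left]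
    infer_instance
  have h2 : LocallyOfFiniteType (GIT.psi a x).left :=
    locallyOfFiniteType_of_comp _ (snd X T).left
  exact MorphismProperty.pullback_snd (P := @LocallyOfFiniteType) _ _ h2

end Stab


section Grp

variable {S : Scheme.{u}} {G P : Over S} [GrpObj G] (a : AlgGrp.Action G P)

theorem one_smul' {T : Over S} (x : T ⟶ P) : smul a (1 : T ⟶ G) x = x := by
  unfold smul
  rw [Hom.one_def]
  have h1 : lift (toUnit T ≫ η[G]) x = lift (toUnit T) x ≫ (η[G] ▷ P) := by
    rw [lift_whiskerRight]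
  rw [h1, Category.assoc, a.one_act, lift_leftUnitor_hom]

theorem inv_smul_smul {T : Over S} (g : T ⟶ G) (x : T ⟶ P) : smul a g⁻¹ (smul a g x) = x := by
  rw [← S15118.mul_smul, inv_mul_cancel, one_smul']

theorem inv_mem_stab {T : Over S} (g : T ⟶ G) (x : T ⟶ P) (h : smul a g x = x) :
    smul a g⁻¹ x = x := by
  conv_lhs => rw [← h]
  exact inv_smul_smul a g x

end Grp


section Lift

variable {Ω : Type u} [Field Ω] [IsAlgClosed Ω]

/-- lift a geometric point along a surjective morphism locally of finite type -/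
theorem exists_lift_scheme {A B T₀ : Scheme.{u}} (p : A ⟶ B) [LocallyOfFiniteType p]
    (hsurj : Function.Surjective p.base) (e : T₀ ≅ Spec (CommRingCat.of Ω)) (y : T₀ ⟶ B) :
    ∃ f : T₀ ⟶ A, f ≫ p = y := by
  haveI : LocallyOfFiniteType (pullback.snd p y ≫ e.hom) := inferInstance
  haveI : Nonempty ↥(pullback p y) := by
    have t : T₀ := e.inv (IsLocalRing.closedPoint Ω)
    obtain ⟨x, hx⟩ := hsurj (y t)
    obtain ⟨ζ, -, -⟩ := Scheme.Pullback.exists_preimage_pullback (f := p) (g := y) x t hx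
    exact ⟨ζ⟩
  obtain ⟨s, hs⟩ := S15118.exists_section_of_nonempty (pullback.snd p y ≫ e.hom)
  have hsnd : e.hom ≫ s ≫ pullback.snd p y = 𝟙 _ := by
    have : s ≫ pullback.snd p y = e.inv := by
      rw [← Category.comp_id (s ≫ pullback.snd p y), ← e.hom_inv_id,
        ← Category.assoc, Category.assoc s, hs, Category.id_comp]
    rw [this, e.hom_inv_id]
  refine ⟨e.hom ≫ s ≫ pullback.fst p y, ?_⟩
  rw [Category.assoc, Category.assoc, pullback.condition, ← Category.assoc s, ← Category.assoc,
    hsnd, Category.id_comp]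

end Lift

section Geom

variable {k : Type u} [Field k] {H N Q X Y : Over (Spec (CommRingCat.of k))}
  [GrpObj H] [GrpObj N] [GrpObj Q]
  (i : N ⟶ H) (q : H ⟶ Q) [IsMonHom q]
  (a : AlgGrp.Action H X) (aN : AlgGrp.Action N X) (haN : aN.act = (i ▷ X) ≫ a.act)
  (π : X ⟶ Y) (aQ : AlgGrp.Action Q Y) (hequiv : (q ⊗ₘ π) ≫ aQ.act = a.act ≫ π)
  (hker : AlgGrp.IsKernel i q)

include hker in
theorem comp_i_q {T : Over (Spec (CommRingCat.of k))} (n : T ⟶ N) : (n ≫ i) ≫ q = 1 := by
  rw [Category.assoc, hker.w, Hom.one_def, ← Category.assoc]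
  congr 1
  exact toUnit_unique _ _

include haN hker in
/-- the fibres of `Stab_H(x) → Stab_Q(π x)` are cosets of `Stab_N(x)` -/
theorem fibre {T : Over (Spec (CommRingCat.of k))} (x : T ⟶ X) (h h' : T ⟶ H)
    (hh : smul a h x = x) (hh' : smul a h' x = x) (hq : h ≫ q = h' ≫ q) :
    ∃ n : T ⟶ N, smul aN n x = x ∧ h' = h * (n ≫ i) := by
  have hd : (h⁻¹ * h') ≫ q = toUnit T ≫ η[Q] := by
    rw [MonObj.mul_comp, GrpObj.inv_comp, hq, inv_mul_cancel, Hom.one_def]
  obtain ⟨n, hn⟩ : ∃ n : T ⟶ N, n ≫ i = h⁻¹ * h' := ⟨hker.lift _ _ hd, hker.lift_fst _ _ hd⟩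
  refine ⟨n, ?_, ?_⟩
  · rw [smul_aN i a aN haN, hn, S15118.mul_smul, hh', inv_mem_stab a h x hh]
  · rw [hn, ← _root_.mul_assoc, mul_inv_cancel, _root_.one_mul]

include hequiv in
theorem comp_q_mem {T : Over (Spec (CommRingCat.of k))} (x : T ⟶ X) (h : T ⟶ H)
    (hh : smul a h x = x) : smul aQ (h ≫ q) (x ≫ π) = x ≫ π := by
  rw [← smul_pi q a π aQ hequiv, hh]

include haN hequiv hker in
/-- `Stab_H(x) → Stab_Q(π x)` is surjective on geometric points -/
theorem exists_stab_lift [LocallyOfFiniteType H.hom] [LocallyOfFiniteType N.hom]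
    [LocallyOfFiniteType X.hom] [Surjective q.left]
    (hinv : GIT.IsInvariant aN π) (horb : Function.Surjective (GIT.PsiY aN π hinv).base)
    (Ω : Type u) [Field Ω] [IsAlgClosed Ω] (T : Over (Spec (CommRingCat.of k)))
    (e : T.left ≅ Spec (CommRingCat.of Ω)) (x : T ⟶ X) (g' : T ⟶ Q)
    (hg' : smul aQ g' (x ≫ π) = x ≫ π) : ∃ h : T ⟶ H, smul a h x = x ∧ h ≫ q = g' := by
  obtain ⟨h₀, hh₀⟩ := S15118.exists_lift_geom q (Surjective.surj (f := q.left)) Ω T e g'
  have hx₁ : smul a h₀ x ≫ π = x ≫ π := by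
    rw [smul_pi q a π aQ hequiv, hh₀, hg']
  -- lift the point `(h₀ x, x)` of `X ×_Y X` along `PsiY`
  have hx' : (smul a h₀ x).left ≫ π.left = x.left ≫ π.left := by
    rw [← Over.comp_left, ← Over.comp_left, hx₁]
  haveI : LocallyOfFiniteType (N ⊗ X).hom := by
    have : (N ⊗ X).hom = (snd N X).left ≫ X.hom := (Over.w (snd N X)).symm
    rw [this, Over.snd_left]
    infer_instance
  haveI : LocallyOfFiniteType (GIT.PsiY aN π hinv ≫ pullback.snd π.left π.left ≫ X.hom) := by
    have : GIT.PsiY aN π hinv ≫ pullback.snd π.left π.left ≫ X.hom = (N ⊗ X).hom := by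
      unfold GIT.PsiY
      rw [← Category.assoc, pullback.lift_snd, Over.w]
    rw [this]
    infer_instance
  haveI : LocallyOfFiniteType (GIT.PsiY aN π hinv) :=
    locallyOfFiniteType_of_comp _ (pullback.snd π.left π.left ≫ X.hom)
  obtain ⟨ν₀, hν₀⟩ := exists_lift_scheme (GIT.PsiY aN π hinv) horb e
    (pullback.lift (smul a h₀ x).left x.left hx')
  have hP1 : GIT.PsiY aN π hinv ≫ pullback.fst π.left π.left = aN.act.left := by
    unfold GIT.PsiY; rw [pullback.lift_fst]
  have hP2 : GIT.PsiY aN π hinv ≫ pullback.snd π.left π.left = (snd N X).left := by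
    unfold GIT.PsiY; rw [pullback.lift_snd]
  have h1 : ν₀ ≫ (snd N X).left = x.left := by
    rw [← hP2, ← Category.assoc, hν₀, pullback.lift_snd]
  have h2 : ν₀ ≫ aN.act.left = (smul a h₀ x).left := by
    rw [← hP1, ← Category.assoc, hν₀, pullback.lift_fst]
  have hw : ν₀ ≫ (N ⊗ X).hom = T.hom := by
    rw [← Over.w (snd N X), ← Category.assoc, h1, Over.w]
  obtain ⟨ν, hν⟩ : ∃ ν : T ⟶ N ⊗ X, ν.left = ν₀ := ⟨Over.homMk ν₀ hw, rfl⟩
  have h1' : ν ≫ snd N X = x := by
    apply Over.OverMorphism.ext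
    rw [Over.comp_left, hν, h1]
  have h2' : ν ≫ aN.act = smul a h₀ x := by
    apply Over.OverMorphism.ext
    rw [Over.comp_left, hν, h2]
  obtain ⟨n, hn⟩ : ∃ n : T ⟶ N, n = ν ≫ fst N X := ⟨_, rfl⟩
  have hνl : ν = lift n x := by
    apply CartesianMonoidalCategory.hom_ext
    · rw [lift_fst, hn]
    · rw [lift_snd, h1']
  have hn2 : smul a (n ≫ i) x = smul a h₀ x := by
    rw [← smul_aN i a aN haN, ← h2', hνl]
    rfl
  refine ⟨(n ≫ i)⁻¹ * h₀, ?_, ?_⟩
  · rw [S15118.mul_smul, ← hn2, inv_smul_smul]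
  · rw [MonObj.mul_comp, GrpObj.inv_comp, comp_i_q i q hker, hh₀, inv_one, _root_.one_mul]

end Geom


section Main

variable {k : Type u} [Field k]

theorem isFinite_stabTo_iff {G X : Over (Spec (CommRingCat.of k))} [GrpObj G]
    [LocallyOfFiniteType G.hom] (a : AlgGrp.Action G X)
    (Ω : Type u) [Field Ω] [IsAlgClosed Ω] (T : Over (Spec (CommRingCat.of k)))
    (e : T.left ≅ Spec (CommRingCat.of Ω)) (x : T ⟶ X) :
    IsFinite (GLinSh.stabTo a x) ↔ (StabPts a x).Finite := by
  haveI := lft_stabTo a x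
  rw [isFinite_iff_finite_sections e (GLinSh.stabTo a x), finite_sections_iff]

theorem main {H N Q X Y : Over (Spec (CommRingCat.of k))} [GrpObj H] [GrpObj N] [GrpObj Q]
    [LocallyOfFiniteType H.hom] [LocallyOfFiniteType N.hom] [LocallyOfFiniteType Q.hom]
    [LocallyOfFiniteType X.hom]
    (i : N ⟶ H) (q : H ⟶ Q) [IsMonHom q] [Surjective q.left] (hker : AlgGrp.IsKernel i q)
    (a : AlgGrp.Action H X) (aN : AlgGrp.Action N X) (haN : aN.act = (i ▷ X) ≫ a.act)
    (hfin : ∀ (Ω : Type u) [Field Ω] [IsAlgClosed Ω] (T : Over (Spec (CommRingCat.of k)))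
      (_ : T.left ≅ Spec (CommRingCat.of Ω)) (f : T ⟶ X), IsFinite (GLinSh.stabTo aN f))
    (π : X ⟶ Y) (hπ : GIT.IsGeomQuot aN π)
    (aQ : AlgGrp.Action Q Y) (hequiv : (q ⊗ₘ π) ≫ aQ.act = a.act ≫ π)
    (Ω : Type u) [Field Ω] [IsAlgClosed Ω] (T : Over (Spec (CommRingCat.of k)))
    (e : T.left ≅ Spec (CommRingCat.of Ω)) (x : T ⟶ X) :
    IsFinite (GLinSh.stabTo aQ (x ≫ π)) ↔ IsFinite (GLinSh.stabTo a x) := by
  rw [isFinite_stabTo_iff aQ Ω T e, isFinite_stabTo_iff a Ω T e]
  have hN : (StabPts aN x).Finite := (isFinite_stabTo_iff aN Ω T e x).1 (hfin Ω T e x)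
  constructor
  · intro hQ
    apply Set.Finite.of_finite_fibers (fun h : T ⟶ H => h ≫ q)
    · refine hQ.subset ?_
      rintro _ ⟨h, hh, rfl⟩
      exact comp_q_mem q a π aQ hequiv x h hh
    · rintro _ ⟨h, hh, rfl⟩
      refine (hN.image (fun n : T ⟶ N => h * (n ≫ i))).subset ?_
      rintro h' ⟨hh', hq'⟩
      obtain ⟨n, hn1, hn2⟩ := fibre i q a aN haN hker x h h' hh hh' hq'.symm
      exact ⟨n, hn1, hn2.symm⟩
  · intro hH
    refine (hH.image (fun h : T ⟶ H => h ≫ q)).subset ?_
    intro g' hg'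
    obtain ⟨h, hh1, hh2⟩ := exists_stab_lift i q a aN haN π aQ hequiv hker hπ.inv hπ.orbit Ω T e x
      g' hg'
    exact ⟨h, hh1, hh2⟩

end Main

end Groth.Agent.S15119

namespace Groth.Agent.S15119

/-- Over an algebraically closed field k of characteristic zero, let H be a linear algebraic group
(affine, reduced, of finite type) with a closed normal subgroup N and quotient q : H → Q (a
surjective homomorphism with kernel N), acting on a variety X (reduced, separated, of finite type);
let the restricted action of N have a geometric quotient π : X → Y with Y a variety, and let Q act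
on Y so that π is equivariant along q, and assume the stabilisers of the geometric points of X under
N are finite. Then for every geometric point x of X, the stabiliser of π(x) in Q is finite exactly
when the stabiliser of x in H is finite (stabilisers are group schemes over the field of definition
of the point, and finite replaces 'a finite group of points', the same for group schemes of finite
type over an algebraically closed field; the published lemma takes geometric quotients in the sense
of affine good quotients that are orbit spaces, while this row uses a universally submersive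
geometric quotient that need not be affine; the induced action of Q on Y is taken as a datum
together with the equivariance of π). -/
theorem result (k : Type u) [Field k] [IsAlgClosed k] [CharZero k]
    (H N Q X Y : Over (Spec (CommRingCat.of k))) [GrpObj H] [GrpObj N] [GrpObj Q]
    [IsAffine H.left] [LocallyOfFiniteType H.hom] [IsReduced H.left]
    [IsAffine N.left] [LocallyOfFiniteType N.hom] [IsReduced N.left]
    [IsAffine Q.left] [LocallyOfFiniteType Q.hom] [IsReduced Q.left]
    [LocallyOfFiniteType X.hom] [QuasiCompact X.hom] [IsSeparated X.hom] [IsReduced X.left]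
    [LocallyOfFiniteType Y.hom] [QuasiCompact Y.hom] [IsSeparated Y.hom] [IsReduced Y.left]
    (i : N ⟶ H) [IsMonHom i] [IsClosedImmersion i.left] (hnorm : AlgGrp.IsNormalHom i)
    (q : H ⟶ Q) [IsMonHom q] [Surjective q.left] (hker : AlgGrp.IsKernel i q)
    (a : AlgGrp.Action H X) (aN : AlgGrp.Action N X) (haN : aN.act = (i ▷ X) ≫ a.act)
    (hfin : ∀ (Ω : Type u) [Field Ω] [IsAlgClosed Ω] (T : Over (Spec (CommRingCat.of k)))
      (_ : T.left ≅ Spec (CommRingCat.of Ω)) (f : T ⟶ X), IsFinite (GLinSh.stabTo aN f))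
    (π : X ⟶ Y) (hπ : GIT.IsGeomQuot aN π)
    (aQ : AlgGrp.Action Q Y) (hequiv : (q ⊗ₘ π) ≫ aQ.act = a.act ≫ π)
    (Ω : Type u) [Field Ω] [IsAlgClosed Ω] (T : Over (Spec (CommRingCat.of k)))
    (e : T.left ≅ Spec (CommRingCat.of Ω)) (x : T ⟶ X) :
    IsFinite (GLinSh.stabTo aQ (x ≫ π)) ↔ IsFinite (GLinSh.stabTo a x) := by
  exact main i q hker a aN haN hfin π hπ aQ hequiv Ω T e x

end Groth.Agent.S15119
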