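import Groth.Statements.S15122

set_option autoImplicit false
universe u v w
open GIT

namespace Groth.Agent.S15122

/-- Let R be a commutative ring, A a commutative R-algebra graded by the natural numbers, σ a
homogeneous element of degree zero, and B the localisation of A away from σ, equipped with a grading
by the natural numbers for which the localisation map ι : A → B is a graded ring homomorphism (such
a grading is necessarily the one induced from A). Then the homogeneous ideal of B generated by the
image of the irrelevant ideal of A is the whole irrelevant ideal of B; in other words the induced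
rational map from Proj B to Proj A is defined everywhere. (The published statement also assumes σ a
non-zero-divisor, which this step does not use, and goes on to conclude that Proj B → Proj A is an
open immersion onto the basic open set of σ.) -/
theorem result
    (R : Type u) (A : Type v) (B : Type w) [CommRing R] [CommRing A] [CommRing B] [Algebra R A] [Algebra R B]
    [Algebra A B] [IsScalarTower R A B]
    (𝒜 : ℕ → Submodule R A) [GradedAlgebra 𝒜] (ℬ : ℕ → Submodule R B) [GradedAlgebra ℬ]
    (σ : A) (hσ0 : σ ∈ 𝒜 0) [IsLocalization.Away σ B]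
    (ι : 𝒜 →+*ᵍ ℬ) (hι : ∀ a : A, ι a = algebraMap A B a) :
    (HomogeneousIdeal.irrelevant 𝒜).map ι = HomogeneousIdeal.irrelevant ℬ := by
  apply le_antisymm
  · rw [HomogeneousIdeal.map_le_iff_le_comap]
    intro a ha
    rw [HomogeneousIdeal.mem_irrelevant_iff, GradedRing.proj_apply] at ha
    show ι a ∈ HomogeneousIdeal.irrelevant ℬ
    rw [HomogeneousIdeal.mem_irrelevant_iff, GradedRing.proj_apply,
      ← GradedRingHom.map_directSumDecompose, ha, map_zero]
  · rw [HomogeneousIdeal.irrelevant_le]
    intro n hn b hb
    change b ∈ ℬ n at hb
    show b ∈ ((HomogeneousIdeal.irrelevant 𝒜).map ι).toIdeal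
    rw [HomogeneousIdeal.toIdeal_map]
    obtain ⟨k, a, hka⟩ := IsLocalization.Away.surj σ b
    have hσk : ι (σ ^ k) ∈ ℬ 0 := ι.map_mem (by
      have := SetLike.pow_mem_graded k hσ0
      simpa using this)
    have hmem : b * ι (σ ^ k) ∈ ℬ n := by
      have := SetLike.GradedMul.mul_mem hb hσk
      simpa using this
    have h1 : b * ι (σ ^ k) = ι a := by
      rw [hι, hι, map_pow, hka]
    have h2 : ι a = ι ((DirectSum.decompose 𝒜 a n : 𝒜 n) : A) := by
      rw [GradedRingHom.map_directSumDecompose, ← h1, DirectSum.decompose_of_mem_same ℬ hmem]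
    have hunit : IsUnit (ι (σ ^ k)) := by
      rw [hι, map_pow]
      exact (IsLocalization.Away.algebraMap_isUnit σ).pow k
    obtain ⟨u, hu⟩ := hunit
    have hb' : b = ι ((DirectSum.decompose 𝒜 a n : 𝒜 n) : A) * ↑u⁻¹ := by
      rw [← h2, ← h1, ← hu, mul_assoc, Units.mul_inv, mul_one]
    rw [hb']
    apply Ideal.mul_mem_right
    apply Ideal.mem_map_of_mem
    exact HomogeneousIdeal.mem_irrelevant_of_mem 𝒜 hn (Submodule.coe_mem _)

end Groth.Agent.S15122
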