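import Groth.Statements.S15123
import Groth.Agent.Lib.Helper78.Torus

set_option autoImplicit false
universe u v w
open InvQ

namespace Groth.Agent.S15123

open Groth.Agent.Lib.Helper78.Torus TensorProduct

/-- Let k be an algebraically closed field of characteristic zero, Λ a finitely generated free abelian
group and k[Λ] its group algebra, the coordinate Hopf algebra of the torus with character group Λ.
Let R be a reduced finitely generated commutative k-algebra with a multiplicative coaction of k[Λ]
(an action of the torus on the affine variety Spec R), and suppose the grading monoid is positive: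
if R has a non-zero eigenvector of weight w and one of weight −w then w = 0. Then for every k-point
x of Spec R, the orbit of x is closed if and only if x is a fixed point. (The published statement
also asserts that the fixed-point subvariety is affine and is a good quotient for the action; only
the description of the closed orbits is stated here.) -/
theorem result
    (k : Type u) [Field k] [IsAlgClosed k] [CharZero k]
    (Λ : Type v) [AddCommGroup Λ] [Module.Free ℤ Λ] [Module.Finite ℤ Λ]
    (R : Type w) [CommRing R] [Algebra k R] [Algebra.FiniteType k R] [IsReduced R]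
    [HopfRep.Comod k (AddMonoidAlgebra k Λ) R] [GLin.IsCoactAlg k (AddMonoidAlgebra k Λ) R]
    (hpos : ∀ w : Λ, HopfRep.eigenspace k (AddMonoidAlgebra k Λ) R (AddMonoidAlgebra.single w 1) ≠ ⊥ →
      HopfRep.eigenspace k (AddMonoidAlgebra k Λ) R (AddMonoidAlgebra.single (-w) 1) ≠ ⊥ → w = 0)
    (x : R →ₐ[k] k) :
    GLin.IsClosedOrbit k (AddMonoidAlgebra k Λ) x ↔ GLin.IsFixedPt k (AddMonoidAlgebra k Λ) x := by
  classical
  set φ := GLin.orbitHom k (AddMonoidAlgebra k Λ) x with hφ
  constructor
  · intro hcl
    unfold GLin.IsClosedOrbit at hcl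
    by_contra hnf
    -- there is a nonzero weight w and f with coefficient of φ f at w nonzero
    have h1 : ∃ (f : R) (w : Λ), w ≠ 0 ∧ (φ f).coeff w ≠ 0 := by
      by_contra hne
      apply hnf
      unfold GLin.IsFixedPt
      apply AlgHom.ext
      intro f
      have hall : ∀ w : Λ, w ≠ 0 → (φ f).coeff w = 0 := by
        intro w hw
        by_contra h
        exact hne ⟨f, w, hw, h⟩
      have hc : (CoalgebraStruct.counit (R := k) (φ f) : k) = x f := counit_orbitHom x f
      have hsingle : φ f = AddMonoidAlgebra.single (0 : Λ) ((φ f).coeff 0) := by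
        apply AddMonoidAlgebra.ext
        ext w
        rw [AddMonoidAlgebra.coeff_single, Finsupp.single_apply]
        split_ifs with h
        · rw [h]
        · exact hall w (Ne.symm h)
      rw [hsingle, AddMonoidAlgebra.counit_single] at hc
      rw [AlgHom.comp_apply, Algebra.ofId_apply, hsingle]
      rw [show (CoalgebraStruct.counit (R := k) ((φ f).coeff 0) : k) = (φ f).coeff 0 from rfl] at hc
      rw [hc]
      rfl
    obtain ⟨f, w, hw, hfw⟩ := h1
    set h := proj (k := k) w f with hh
    have hmem : h ∈ HopfRep.eigenspace k (AddMonoidAlgebra k Λ) R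
        (AddMonoidAlgebra.single w (1 : k)) := proj_mem_eigenspace w f
    have hxh : x h ≠ 0 := by
      rw [← coeff_orbitHom]
      exact hfw
    have hφh : φ h = AddMonoidAlgebra.single w (x h) := orbitHom_of_mem_eigenspace x hmem
    have hh0 : h ≠ 0 := fun h0 => hxh (by rw [h0, map_zero])
    have nebot : ∀ (u : Λ) (g : R), g ≠ 0 →
        g ∈ HopfRep.eigenspace k (AddMonoidAlgebra k Λ) R (AddMonoidAlgebra.single u (1 : k)) →
        HopfRep.eigenspace k (AddMonoidAlgebra k Λ) R (AddMonoidAlgebra.single u (1 : k)) ≠ ⊥ := by
      intro u g hg hgm hbot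
      apply hg
      have : g ∈ (⊥ : Submodule k R) := hbot ▸ hgm
      simpa using this
    have hne : RingHom.ker φ.toRingHom ⊔ Ideal.span {h} ≠ ⊤ := by
      intro htop
      have h1 : (1 : R) ∈ RingHom.ker φ.toRingHom ⊔ Ideal.span {h} := htop ▸ Submodule.mem_top
      obtain ⟨a, ha, b, hb, hab⟩ := Submodule.mem_sup.mp h1
      obtain ⟨r, rfl⟩ := Ideal.mem_span_singleton'.mp hb
      have ha' : φ a = 0 := ha
      have hprod : φ r * AddMonoidAlgebra.single w (x h) = 1 := by
        have := congrArg φ hab
        rw [map_add, map_mul, map_one, hφh, ha', zero_add] at this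
        exact this
      have hc := congrArg (fun z : AddMonoidAlgebra k Λ => z.coeff (0 : Λ)) hprod
      simp only [AddMonoidAlgebra.coeff_mul_single_apply, zero_add] at hc
      rw [AddMonoidAlgebra.one_def, AddMonoidAlgebra.coeff_single, Finsupp.single_eq_same] at hc
      have hrw : x (proj (k := k) (-w) r) ≠ 0 := by
        rw [← coeff_orbitHom]
        intro h0
        rw [h0, zero_mul] at hc
        exact zero_ne_one hc
      have hr0 : proj (k := k) (-w) r ≠ 0 := fun h0 => hrw (by rw [h0, map_zero])
      exact hw (hpos w (nebot w h hh0 hmem) (nebot (-w) _ hr0 (proj_mem_eigenspace (-w) r)))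
    obtain ⟨𝔮, h𝔮max, h𝔮le⟩ := Ideal.exists_le_maximal _ hne
    let q : PrimeSpectrum R := ⟨𝔮, h𝔮max.isPrime⟩
    have hq : q ∈ closure (Set.range (PrimeSpectrum.comap φ.toRingHom)) := by
      rw [PrimeSpectrum.closure_range_comap, PrimeSpectrum.mem_zeroLocus]
      intro y hy
      exact h𝔮le (Ideal.mem_sup_left hy)
    rw [hcl.closure_eq] at hq
    obtain ⟨P, hP⟩ := hq
    have hhq : h ∈ 𝔮 := h𝔮le (Ideal.mem_sup_right (Ideal.mem_span_singleton_self h))
    have hφP : φ h ∈ P.asIdeal := by
      have : h ∈ (PrimeSpectrum.comap φ.toRingHom P).asIdeal := by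
        rw [hP]
        exact hhq
      exact this
    rw [hφh] at hφP
    apply P.isPrime.ne_top
    rw [Ideal.eq_top_iff_one]
    have := Ideal.mul_mem_right (AddMonoidAlgebra.single (-w) (x h)⁻¹) _ hφP
    rwa [AddMonoidAlgebra.single_mul_single, add_neg_cancel, mul_inv_cancel₀ hxh,
      ← AddMonoidAlgebra.one_def] at this
  · intro hfix
    unfold GLin.IsFixedPt at hfix
    unfold GLin.IsClosedOrbit
    have hmax : (RingHom.ker x.toRingHom).IsMaximal :=
      RingHom.ker_isMaximal_of_surjective x.toRingHom (fun c => ⟨algebraMap k R c, by simp⟩)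
    have hsub : Set.range (PrimeSpectrum.comap
        (GLin.orbitHom k (AddMonoidAlgebra k Λ) x).toRingHom) ⊆
        {⟨RingHom.ker x.toRingHom, hmax.isPrime⟩} := by
      rintro _ ⟨P, rfl⟩
      rw [Set.mem_singleton_iff]
      apply PrimeSpectrum.ext
      ext r
      change GLin.orbitHom k (AddMonoidAlgebra k Λ) x r ∈ P.asIdeal ↔ x r = 0
      rw [hfix, AlgHom.comp_apply, Algebra.ofId_apply]
      constructor
      · intro hmemP
        by_contra hx0
        apply P.isPrime.ne_top
        rw [Ideal.eq_top_iff_one]
        have := Ideal.mul_mem_left P.asIdeal (algebraMap k (AddMonoidAlgebra k Λ) (x r)⁻¹) hmemP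
        rwa [← map_mul, inv_mul_cancel₀ hx0, map_one] at this
      · intro hx0
        rw [hx0, map_zero]
        exact Ideal.zero_mem _
    rcases Set.subset_singleton_iff_eq.mp hsub with h | h
    · rw [h]
      exact isClosed_empty
    · rw [h]
      exact (PrimeSpectrum.isClosed_singleton_iff_isMaximal _).mpr hmax


end Groth.Agent.S15123
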