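import Groth.Statements.S15124
import Groth.Agent.Lib.Helper78.Torus

set_option autoImplicit false
universe u v w
open InvQ

namespace Groth.Agent.S15124

open Groth.Agent.Lib.Helper78.Torus TensorProduct

/-- Let k be an algebraically closed field of characteristic zero, Λ a finitely generated free abelian
group with group algebra k[Λ] (the coordinate Hopf algebra of a torus T), and R a reduced finitely
generated commutative k-algebra with a multiplicative coaction of k[Λ] (an action of T on the affine
variety X = Spec R) whose grading monoid is positive: if R has non-zero eigenvectors of weights w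
and −w then w = 0. Let I be the ideal of R generated by all eigenvectors of non-zero weight (the
ideal of the fixed-point subscheme X^T). Then the composite of the inclusion of the ring of
invariants R^T into R with the projection R → R/I is bijective: the fixed-point subscheme maps
isomorphically onto the affine quotient Spec R^T. (The published statement phrases this as: X^T is
affine and X → X^T is a good quotient; the good-quotient property itself is not restated here.) -/
theorem result
    (k : Type u) [Field k] [IsAlgClosed k] [CharZero k]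
    (Λ : Type v) [AddCommGroup Λ] [Module.Free ℤ Λ] [Module.Finite ℤ Λ]
    (R : Type w) [CommRing R] [Algebra k R] [Algebra.FiniteType k R] [IsReduced R]
    [HopfRep.Comod k (AddMonoidAlgebra k Λ) R] [GLin.IsCoactAlg k (AddMonoidAlgebra k Λ) R]
    (hpos : ∀ w : Λ, HopfRep.eigenspace k (AddMonoidAlgebra k Λ) R (AddMonoidAlgebra.single w 1) ≠ ⊥ →
      HopfRep.eigenspace k (AddMonoidAlgebra k Λ) R (AddMonoidAlgebra.single (-w) 1) ≠ ⊥ → w = 0) :
    Function.Bijective
      ((Ideal.Quotient.mkₐ k (Ideal.span {f : R | ∃ w : Λ, w ≠ 0 ∧
          f ∈ HopfRep.eigenspace k (AddMonoidAlgebra k Λ) R (AddMonoidAlgebra.single w 1)})).comp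
        (GLin.invariants k (AddMonoidAlgebra k Λ) R).val) := by
  classical
  set S : Set R := {f : R | ∃ w : Λ, w ≠ 0 ∧
          f ∈ HopfRep.eigenspace k (AddMonoidAlgebra k Λ) R (AddMonoidAlgebra.single w 1)} with hS
  -- key: weight-zero part of anything in the ideal vanishes
  have key : ∀ f ∈ Ideal.span S, ∀ r : R, proj (k := k) (0 : Λ) (r * f) = 0 := by
    intro f hf
    refine Submodule.span_induction (p := fun f _ => ∀ r : R, proj (k := k) (0 : Λ) (r * f) = 0)
      ?_ ?_ ?_ ?_ hf
    · rintro h ⟨u, hu, hh⟩ r
      rw [proj_mul_of_mem_eigenspace (k := k) (0 : Λ) r hh, zero_add]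
      by_cases h0 : h = 0
      · rw [h0, mul_zero]
      by_cases hr0 : proj (k := k) (-u) r = 0
      · rw [hr0, zero_mul]
      exfalso
      apply hu
      apply hpos u
      · intro hbot
        apply h0
        have : h ∈ (⊥ : Submodule k R) := hbot ▸ hh
        simpa using this
      · intro hbot
        apply hr0
        have : proj (k := k) (-u) r ∈ (⊥ : Submodule k R) := hbot ▸ proj_mem_eigenspace (-u) r
        simpa using this
    · intro r
      rw [mul_zero, map_zero]
    · intro f g _ _ hf hg r
      rw [mul_add, map_add, hf, hg, add_zero]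
    · intro s f _ hf r
      rw [smul_eq_mul, ← mul_assoc]
      exact hf (r * s)
  constructor
  · -- injective
    rw [injective_iff_map_eq_zero]
    intro f hf
    have hfI : (f : R) ∈ Ideal.span S := by
      rw [← Ideal.Quotient.eq_zero_iff_mem]
      exact hf
    have h1 := key f hfI 1
    rw [one_mul] at h1
    have hf0 : (f : R) ∈ HopfRep.eigenspace k (AddMonoidAlgebra k Λ) R
        (AddMonoidAlgebra.single (0 : Λ) (1 : k)) := f.2
    rw [proj_self_of_mem_eigenspace hf0] at h1
    exact Subtype.ext h1
  · -- surjective
    intro q
    obtain ⟨f, rfl⟩ := Ideal.Quotient.mk_surjective q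
    obtain ⟨T, hT0, hT⟩ := exists_finset_proj (k := k) (Λ := Λ) f
    have hmem : proj (k := k) (0 : Λ) f ∈ GLin.invariants k (AddMonoidAlgebra k Λ) R :=
      proj_mem_eigenspace (k := k) (0 : Λ) f
    refine ⟨⟨proj (k := k) (0 : Λ) f, hmem⟩, ?_⟩
    change Ideal.Quotient.mk _ (proj (k := k) (0 : Λ) f) = Ideal.Quotient.mk _ f
    rw [Ideal.Quotient.eq]
    have e : f = proj (k := k) (0 : Λ) f + ∑ w ∈ T.erase 0, proj (k := k) w f := by
      by_cases h0 : (0 : Λ) ∈ T
      · rw [Finset.add_sum_erase T (fun w => proj (k := k) w f) h0]
        exact hT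
      · rw [Finset.erase_eq_of_notMem h0, hT0 0 h0, zero_add]
        exact hT
    have hsum : ∑ w ∈ T.erase 0, proj (k := k) w f ∈ Ideal.span S := by
      refine Ideal.sum_mem _ fun w hw => ?_
      apply Ideal.subset_span
      exact ⟨w, Finset.ne_of_mem_erase hw, proj_mem_eigenspace (k := k) w f⟩
    have : proj (k := k) (0 : Λ) f - f = -(∑ w ∈ T.erase 0, proj (k := k) w f) := by
      rw [eq_neg_iff_add_eq_zero, sub_add, sub_eq_zero, eq_sub_iff_add_eq]
      exact e.symm
    rw [this]
    exact neg_mem hsum


end Groth.Agent.S15124
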