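import Groth.Statements.S15125
import Groth.Agent.Lib.Helper99.SepDiagB

set_option autoImplicit false
universe u
open scoped TensorProduct
open Fields

namespace Groth.Agent.S15125

/-- Let L be a finitely generated field extension of K, and I ⊆ L ⊗_K L the kernel of multiplication L
⊗_K L → L. An element x of L has the property that x ⊗ 1 and 1 ⊗ x have the same image in the I-adic
completion of L ⊗_K L if and only if x is separable algebraic over K. Equivalently, the equaliser of
the two natural maps from L to that completion is the separable algebraic closure of K in L. -/
theorem result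
    (K L : Type u) [Field K] [Field L] [Algebra K L]
    (hfg : (⊤ : IntermediateField K L).FG) (x : L) :
    AdicCompletion.of (KaehlerDifferential.ideal K L) (L ⊗[K] L) (x ⊗ₜ[K] (1 : L)) =
        AdicCompletion.of (KaehlerDifferential.ideal K L) (L ⊗[K] L) ((1 : L) ⊗ₜ[K] x) ↔
      x ∈ separableClosure K L := by
  haveI : Algebra.EssFiniteType K L := IntermediateField.fg_top_iff.mp hfg
  rw [Groth.Agent.Lib.Helper99.SepDiag.of_eq_of_iff, mem_separableClosure_iff]
  constructor
  · intro h
    exact Groth.Agent.Lib.Helper99.SepDiag.isSeparable_of_forall_mem_pow K L x h
  · intro h n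
    exact Groth.Agent.Lib.Helper99.SepDiag.sub_mem_pow_of_isSeparable K L x h n

end Groth.Agent.S15125
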