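import Groth.Statements.S15126
import Mathlib

set_option autoImplicit false
universe u
open Formal

namespace Groth.Agent.S15126

open MvPowerSeries

section Construction

variable (k : Type u) [Field k] (n : ℕ) (R : Type u) [CommRing R]
  [Algebra (MvPowerSeries (Fin n) k) R]

abbrev Fr : Type u := MvPolynomial (R × (Fin n →₀ ℕ)) k

noncomputable def U (r : R) : MvPowerSeries (Fin n) (Fr k n R) :=
  fun m => MvPolynomial.X (r, m)

omit [CommRing R] [Algebra (MvPowerSeries (Fin n) k) R] in
theorem coeff_U (r : R) (m : Fin n →₀ ℕ) : coeff m (U k n R r) = MvPolynomial.X (r, m) := rfl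

def relSet : Set (Fr k n R) :=
  {x | (∃ (r r' : R) (m : Fin n →₀ ℕ),
          x = coeff m (U k n R (r + r') - U k n R r - U k n R r')) ∨
       (∃ (r r' : R) (m : Fin n →₀ ℕ),
          x = coeff m (U k n R (r * r') - U k n R r * U k n R r')) ∨
       (∃ (p : MvPowerSeries (Fin n) k) (m : Fin n →₀ ℕ),
          x = coeff m (U k n R (algebraMap (MvPowerSeries (Fin n) k) R p) -
            map (algebraMap k (Fr k n R)) p))}

noncomputable def J : Ideal (Fr k n R) := Ideal.span (relSet k n R)

abbrev P : Type u := Fr k n R ⧸ J k n R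

theorem map_mk_eq {x y : MvPowerSeries (Fin n) (Fr k n R)}
    (h : ∀ m, coeff m (x - y) ∈ J k n R) :
    map (Ideal.Quotient.mk (J k n R)) x = map (Ideal.Quotient.mk (J k n R)) y := by
  ext m
  simp only [coeff_map]
  rw [Ideal.Quotient.eq]
  have := h m
  rwa [map_sub] at this

noncomputable def uFun (r : R) : MvPowerSeries (Fin n) (P k n R) :=
  map (Ideal.Quotient.mk (J k n R)) (U k n R r)

theorem uFun_add (r r' : R) : uFun k n R (r + r') = uFun k n R r + uFun k n R r' := by
  unfold uFun
  rw [← map_add]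
  apply map_mk_eq
  intro m
  apply Ideal.subset_span
  left
  refine ⟨r, r', m, ?_⟩
  rw [sub_sub]

theorem uFun_mul (r r' : R) : uFun k n R (r * r') = uFun k n R r * uFun k n R r' := by
  unfold uFun
  rw [← map_mul]
  apply map_mk_eq
  intro m
  apply Ideal.subset_span
  right; left
  exact ⟨r, r', m, rfl⟩

theorem uFun_algebraMap (p : MvPowerSeries (Fin n) k) :
    uFun k n R (algebraMap (MvPowerSeries (Fin n) k) R p) =
      algebraMap (MvPowerSeries (Fin n) k) (MvPowerSeries (Fin n) (P k n R)) p := by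
  rw [MvPowerSeries.algebraMap_apply'']
  have h1 : map (algebraMap k (P k n R)) p =
      map (Ideal.Quotient.mk (J k n R)) (map (algebraMap k (Fr k n R)) p) := by
    rw [map_map]
    rfl
  rw [h1]
  unfold uFun
  apply map_mk_eq
  intro m
  apply Ideal.subset_span
  right; right
  exact ⟨p, m, rfl⟩

noncomputable def uHom : R →ₐ[MvPowerSeries (Fin n) k] MvPowerSeries (Fin n) (P k n R) where
  toFun := uFun k n R
  map_one' := by
    have := uFun_algebraMap k n R 1
    rwa [map_one, map_one] at this
  map_mul' := uFun_mul k n R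
  map_zero' := by
    have := uFun_algebraMap k n R 0
    rwa [map_zero, map_zero] at this
  map_add' := uFun_add k n R
  commutes' := uFun_algebraMap k n R

theorem coeff_uHom (r : R) (m : Fin n →₀ ℕ) :
    coeff m (uHom k n R r) = Ideal.Quotient.mk (J k n R) (MvPolynomial.X (r, m)) := rfl

section Lift

variable {k n R}
variable (Q : Type u) [CommRing Q] [Algebra k Q]
  (f : R →ₐ[MvPowerSeries (Fin n) k] MvPowerSeries (Fin n) Q)

noncomputable def g0 : Fr k n R →ₐ[k] Q :=
  MvPolynomial.aeval (fun x : R × (Fin n →₀ ℕ) => coeff x.2 (f x.1))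

theorem map_g0_U (r : R) : map (g0 Q f : Fr k n R →+* Q) (U k n R r) = f r := by
  ext m
  rw [coeff_map, coeff_U]
  simp [g0]

theorem g0_relSet (x : Fr k n R) (hx : x ∈ relSet k n R) : g0 Q f x = 0 := by
  rcases hx with ⟨r, r', m, rfl⟩ | ⟨r, r', m, rfl⟩ | ⟨p, m, rfl⟩
  · have e : map (g0 Q f : Fr k n R →+* Q) (U k n R (r + r') - U k n R r - U k n R r') = 0 := by
      simp only [map_sub, map_g0_U, map_add]
      abel
    have : g0 Q f (coeff m (U k n R (r + r') - U k n R r - U k n R r')) =
        coeff m (map (g0 Q f : Fr k n R →+* Q) (U k n R (r + r') - U k n R r - U k n R r')) := rfl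
    rw [this, e, map_zero]
  · have e : map (g0 Q f : Fr k n R →+* Q) (U k n R (r * r') - U k n R r * U k n R r') = 0 := by
      simp only [map_sub, map_mul, map_g0_U]
      abel
    have : g0 Q f (coeff m (U k n R (r * r') - U k n R r * U k n R r')) =
        coeff m (map (g0 Q f : Fr k n R →+* Q) (U k n R (r * r') - U k n R r * U k n R r')) := rfl
    rw [this, e, map_zero]
  · have hcomp : (g0 Q f : Fr k n R →+* Q).comp (algebraMap k (Fr k n R)) = algebraMap k Q := by
      ext a
      simp
    have e : map (g0 Q f : Fr k n R →+* Q) (U k n R (algebraMap (MvPowerSeries (Fin n) k) R p) -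
            map (algebraMap k (Fr k n R)) p) = 0 := by
      rw [map_sub, map_g0_U, map_map, hcomp, AlgHom.commutes, MvPowerSeries.algebraMap_apply'',
        sub_self]
    have : g0 Q f (coeff m (U k n R (algebraMap (MvPowerSeries (Fin n) k) R p) -
            map (algebraMap k (Fr k n R)) p)) =
        coeff m (map (g0 Q f : Fr k n R →+* Q) (U k n R (algebraMap (MvPowerSeries (Fin n) k) R p) -
            map (algebraMap k (Fr k n R)) p)) := rfl
    rw [this, e, map_zero]

theorem g0_J (x : Fr k n R) (hx : x ∈ J k n R) : g0 Q f x = 0 := by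
  have : J k n R ≤ RingHom.ker (g0 Q f : Fr k n R →+* Q) := by
    unfold J
    rw [Ideal.span_le]
    intro y hy
    exact g0_relSet Q f y hy
  exact this hx

noncomputable def gLift : P k n R →ₐ[k] Q :=
  Ideal.Quotient.liftₐ (J k n R) (g0 Q f) (g0_J Q f)

theorem gLift_mk (x : Fr k n R) : gLift Q f (Ideal.Quotient.mk (J k n R) x) = g0 Q f x := rfl

theorem gLift_spec :
    (MvPowerSeries.map (σ := Fin n) (gLift Q f : P k n R →+* Q)).comp
      (uHom k n R : R →+* MvPowerSeries (Fin n) (P k n R)) =
      (f : R →+* MvPowerSeries (Fin n) Q) := by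
  ext r m
  simp only [RingHom.comp_apply, RingHom.coe_coe, coeff_map, coeff_uHom]
  rw [gLift_mk]
  simp [g0]

theorem gLift_unique (g' : P k n R →ₐ[k] Q)
    (h : (MvPowerSeries.map (σ := Fin n) (g' : P k n R →+* Q)).comp
      (uHom k n R : R →+* MvPowerSeries (Fin n) (P k n R)) =
      (f : R →+* MvPowerSeries (Fin n) Q)) : g' = gLift Q f := by
  apply Ideal.Quotient.algHom_ext
  apply MvPolynomial.algHom_ext
  rintro ⟨r, m⟩
  simp only [AlgHom.comp_apply, Ideal.Quotient.mkₐ_eq_mk]
  rw [gLift_mk]
  have h1 := congrArg (fun φ : R →+* MvPowerSeries (Fin n) Q => coeff m (φ r)) h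
  simp only [RingHom.comp_apply, RingHom.coe_coe, coeff_map, coeff_uHom] at h1
  rw [h1]
  simp [g0]

end Lift

section Countable

variable {k n R}

theorem countable_part (s : Set R) (hs : s.Countable)
    (hgen : Algebra.adjoin (MvPowerSeries (Fin n) k) s = ⊤) :
    ∃ t : Set (P k n R), t.Countable ∧ Algebra.adjoin k t = ⊤ := by
  classical
  let t : Set (P k n R) :=
    (fun x : R × (Fin n →₀ ℕ) => Ideal.Quotient.mk (J k n R) (MvPolynomial.X x)) ''
      (s ×ˢ (Set.univ : Set (Fin n →₀ ℕ)))
  have ht : t.Countable := (hs.prod Set.countable_univ).image _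
  refine ⟨t, ht, ?_⟩
  set T := Algebra.adjoin k t with hT
  -- the subalgebra of R of elements all of whose coefficients lie in T
  let R' : Subalgebra (MvPowerSeries (Fin n) k) R :=
    { carrier := {r | ∀ m, coeff m (uHom k n R r) ∈ T}
      mul_mem' := by
        intro a b ha hb m
        rw [map_mul, coeff_mul]
        exact Subalgebra.sum_mem _ (fun p _ => T.mul_mem (ha _) (hb _))
      add_mem' := by
        intro a b ha hb m
        rw [map_add, map_add]
        exact T.add_mem (ha m) (hb m)
      algebraMap_mem' := by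
        intro p m
        rw [AlgHom.commutes, MvPowerSeries.algebraMap_apply'', coeff_map]
        exact T.algebraMap_mem _ }
  have hsR' : s ⊆ R' := by
    intro r hr m
    apply Algebra.subset_adjoin
    exact ⟨(r, m), ⟨hr, Set.mem_univ _⟩, rfl⟩
  have hR' : R' = ⊤ := by
    rw [eq_top_iff, ← hgen]
    exact Algebra.adjoin_le hsR'
  have hall : ∀ x : R × (Fin n →₀ ℕ), Ideal.Quotient.mk (J k n R) (MvPolynomial.X x) ∈ T := by
    rintro ⟨r, m⟩
    have : r ∈ R' := by rw [hR']; trivial
    exact this m
  rw [eq_top_iff]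
  intro y _
  obtain ⟨x, rfl⟩ := Ideal.Quotient.mk_surjective y
  have hx : x ∈ Algebra.adjoin k (Set.range (MvPolynomial.X : R × (Fin n →₀ ℕ) → Fr k n R)) := by
    rw [MvPolynomial.adjoin_range_X]; trivial
  have hmap : Algebra.adjoin k (Set.range (MvPolynomial.X : R × (Fin n →₀ ℕ) → Fr k n R)) ≤
      T.comap (Ideal.Quotient.mkₐ k (J k n R)) := by
    apply Algebra.adjoin_le
    rintro _ ⟨x, rfl⟩
    exact hall x
  exact hmap hx

end Countable

end Construction

theorem result
    (k : Type u) [Field k] (n : ℕ) (hn : 0 < n)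
    (R : Type u) [CommRing R] [Algebra (MvPowerSeries (Fin n) k) R] :
    ∃ (P : Type u) (_ : CommRing P) (_ : Algebra k P)
      (u : R →ₐ[MvPowerSeries (Fin n) k] MvPowerSeries (Fin n) P),
      (∀ (Q : Type u) [CommRing Q] [Algebra k Q]
          (f : R →ₐ[MvPowerSeries (Fin n) k] MvPowerSeries (Fin n) Q),
          ∃! g : P →ₐ[k] Q,
            (MvPowerSeries.map (σ := Fin n) (g : P →+* Q)).comp (u : R →+* MvPowerSeries (Fin n) P) =
              (f : R →+* MvPowerSeries (Fin n) Q)) ∧
      ((∃ s : Set R, s.Countable ∧ Algebra.adjoin (MvPowerSeries (Fin n) k) s = ⊤) →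
        ∃ t : Set P, t.Countable ∧ Algebra.adjoin k t = ⊤) := by
  refine ⟨P k n R, inferInstance, inferInstance, uHom k n R, ?_, ?_⟩
  · intro Q _ _ f
    exact ⟨gLift Q f, gLift_spec Q f, fun g' hg' => gLift_unique Q f g' hg'⟩
  · rintro ⟨s, hs, hgen⟩
    exact countable_part s hs hgen

end Groth.Agent.S15126
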