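import Groth.Statements.S15128
import Groth.Agent.Lib.Helper71.ArtinLocal
import Mathlib

set_option autoImplicit false
universe u v
open CAlg

namespace Groth.Agent.S15128

open Groth.Agent.Lib.Helper71 TensorProduct Module in
theorem injective_of_lTensor_injective
    (A : Type u) [CommRing A] [IsLocalRing A] [IsArtinianRing A]
    (P L : Type v) [AddCommGroup P] [Module A P] [AddCommGroup L] [Module A L]
    [Module.Flat A P] [Module.Flat A L] (h : P →ₗ[A] L)
    (hinj : Function.Injective (h.lTensor (IsLocalRing.ResidueField A))) :
    Function.Injective h := by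
  haveI : Module.Free A P := free_of_flat
  let b := Module.Free.chooseBasis A P
  let bk := Algebra.TensorProduct.basis (IsLocalRing.ResidueField A) b
  have hli : LinearIndependent (IsLocalRing.ResidueField A)
      ((h.baseChange (IsLocalRing.ResidueField A)) ∘ bk) := by
    apply bk.linearIndependent.map'
    rw [LinearMap.ker_eq_bot]
    rw [LinearMap.baseChange_eq_ltensor]
    exact hinj
  have hcomp : ((h.baseChange (IsLocalRing.ResidueField A)) ∘ bk) =
      (TensorProduct.mk A (IsLocalRing.ResidueField A) L 1 ∘ (h ∘ b)) := by
    funext i
    simp [bk]
  rw [hcomp] at hli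
  have hli' : LinearIndependent A (h ∘ b) := IsLocalRing.linearIndependent_of_flat _ hli
  exact LinearMap.injective_of_linearIndependent b.span_eq hli'

theorem result
    (A : Type u) [CommRing A] [IsLocalRing A] [IsArtinianRing A]
    (P L : Type v) [AddCommGroup P] [Module A P] [AddCommGroup L] [Module A L]
    [Module.Flat A P] [Module.Flat A L] (h : P →ₗ[A] L) :
    (Function.Injective (h.lTensor (IsLocalRing.ResidueField A)) → Function.Injective h) ∧
    (Function.Surjective (h.lTensor (IsLocalRing.ResidueField A)) → Function.Surjective h) := by
  exact ⟨injective_of_lTensor_injective A P L h,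
    Groth.Agent.Lib.Helper71.surjective_of_lTensor_residueField_surjective h⟩

end Groth.Agent.S15128
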