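import Groth.Statements.S15129
import Groth.Agent.Lib.Helper71.ArtinLocal
import Mathlib

set_option autoImplicit false
universe u v
open CAlg

namespace Groth.Agent.S15129

open Groth.Agent.Lib.Helper71 TensorProduct Module IsLocalRing in
theorem flat_of_lTensor_injective
    (A : Type u) [CommRing A] [IsLocalRing A] [IsArtinianRing A]
    (M N P : Type v) [AddCommGroup M] [Module A M] [AddCommGroup N] [Module A N]
    [AddCommGroup P] [Module A P] [Module.Flat A N] (f : M →ₗ[A] N) (g : N →ₗ[A] P)
    (hg : Function.Surjective g) (hfg : Function.Exact f g)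
    (hinj : Function.Injective (f.lTensor (IsLocalRing.ResidueField A))) : Module.Flat A P := by
  have hfree : Module.Free A P := by
    apply free_of_rTensor_injective
    rw [← LinearMap.lTensor_inj_iff_rTensor_inj]
    exact lTensor_injective_of_exact_of_exact_of_rTensor_injective
      hfg hg (LinearMap.exact_subtype_mkQ (maximalIdeal A)) (Submodule.mkQ_surjective _)
      ((LinearMap.lTensor_inj_iff_rTensor_inj _ _).mp hinj)
      (Module.Flat.lTensor_preserves_injective_linearMap _ Subtype.val_injective)
  infer_instance

open Groth.Agent.Lib.Helper71 TensorProduct Module IsLocalRing in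
theorem flat_and_injective_of_flat
    (A : Type u) [CommRing A] [IsLocalRing A] [IsArtinianRing A]
    (M N P : Type v) [AddCommGroup M] [Module A M] [AddCommGroup N] [Module A N]
    [AddCommGroup P] [Module A P] [Module.Flat A N] (f : M →ₗ[A] N) (g : N →ₗ[A] P)
    (hf : Function.Injective f) (hg : Function.Surjective g) (hfg : Function.Exact f g)
    [Module.Flat A P] :
    Module.Flat A M ∧ Function.Injective (f.lTensor (IsLocalRing.ResidueField A)) := by
  have hfree : Module.Free A P := free_of_flat
  obtain ⟨s, hs⟩ := Module.projective_lifting_property g (LinearMap.id : P →ₗ[A] P) hg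
  have htfae := (Function.Exact.split_tfae hfg hf hg).out 0 1
  obtain ⟨r, hr⟩ := htfae.mp ⟨s, hs⟩
  refine ⟨Module.Flat.of_retract f r hr, ?_⟩
  have : r.lTensor (ResidueField A) ∘ₗ f.lTensor (ResidueField A) = LinearMap.id := by
    rw [← LinearMap.lTensor_comp, hr, LinearMap.lTensor_id]
  exact Function.HasLeftInverse.injective ⟨_, LinearMap.congr_fun this⟩

theorem result
    (A : Type u) [CommRing A] [IsLocalRing A] [IsArtinianRing A]
    (M N P : Type v) [AddCommGroup M] [Module A M] [AddCommGroup N] [Module A N]
    [AddCommGroup P] [Module A P] [Module.Flat A N] (f : M →ₗ[A] N) (g : N →ₗ[A] P)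
    (hf : Function.Injective f) (hg : Function.Surjective g) (hfg : Function.Exact f g) :
    (Function.Injective (f.lTensor (IsLocalRing.ResidueField A)) → Module.Flat A P) ∧
    (Module.Flat A P → Module.Flat A M ∧ Function.Injective (f.lTensor (IsLocalRing.ResidueField A))) := by
  refine ⟨flat_of_lTensor_injective A M N P f g hg hfg, ?_⟩
  intro hP
  exact flat_and_injective_of_flat A M N P f g hf hg hfg

end Groth.Agent.S15129
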