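import Groth.Statements.S15130
import Groth.Agent.Lib.Helper71.ArtinLocal
import Groth.Agent.S15129
import Mathlib

set_option autoImplicit false
universe u v
open CAlg

namespace Groth.Agent.S15130

open Groth.Agent.Lib.Helper71 TensorProduct Module IsLocalRing in
theorem result
    (A : Type u) [CommRing A] [IsLocalRing A] [IsArtinianRing A]
    (P Q R M : Type v) [AddCommGroup P] [Module A P] [AddCommGroup Q] [Module A Q]
    [AddCommGroup R] [Module A R] [AddCommGroup M] [Module A M]
    [Module.Flat A P] [Module.Flat A Q] [Module.Flat A R]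
    (f : P →ₗ[A] Q) (g : Q →ₗ[A] R) (h : R →ₗ[A] M)
    (hfg : g ∘ₗ f = 0) (hgh : Function.Exact g h) (hh : Function.Surjective h)
    (hred : Function.Exact (f.lTensor (IsLocalRing.ResidueField A)) (g.lTensor (IsLocalRing.ResidueField A))) :
    Module.Flat A M ∧ Function.Exact f g := by
  -- B = range g
  let ιB : LinearMap.range g →ₗ[A] R := (LinearMap.range g).subtype
  let g' : Q →ₗ[A] LinearMap.range g := g.rangeRestrict
  have hg'surj : Function.Surjective g' := g.surjective_rangeRestrict
  have hιg' : ιB ∘ₗ g' = g := by ext x; rfl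
  have hιBinj : Function.Injective ιB := Subtype.val_injective
  have hg'f : g' ∘ₗ f = 0 := by
    ext x
    have : g (f x) = 0 := by
      have := LinearMap.congr_fun hfg x
      simpa using this
    simpa [g'] using this
  have hexB : Function.Exact ιB h := by
    intro y
    rw [hgh y]
    constructor
    · rintro ⟨x, rfl⟩
      exact ⟨g' x, rfl⟩
    · rintro ⟨⟨_, x, rfl⟩, rfl⟩
      exact ⟨x, rfl⟩
  have hkιB : Function.Injective (ιB.lTensor (ResidueField A)) := by
    rw [injective_iff_map_eq_zero]
    intro y hy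
    obtain ⟨x, rfl⟩ := LinearMap.lTensor_surjective (ResidueField A) hg'surj y
    have hx : g.lTensor (ResidueField A) x = 0 := by
      have h1 : (ιB ∘ₗ g').lTensor (ResidueField A) x = 0 := by
        rw [LinearMap.lTensor_comp]
        exact hy
      rw [hιg'] at h1
      exact h1
    obtain ⟨p, rfl⟩ := (hred x).mp hx
    rw [← LinearMap.comp_apply, ← LinearMap.lTensor_comp, hg'f, LinearMap.lTensor_zero,
      LinearMap.zero_apply]
  have hS1 := Groth.Agent.S15129.result A (LinearMap.range g) R M ιB h hιBinj hh hexB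
  have hMflat : Module.Flat A M := hS1.1 hkιB
  have hBflat : Module.Flat A (LinearMap.range g) := (hS1.2 hMflat).1
  refine ⟨hMflat, ?_⟩
  -- Z = ker g'
  let ιZ : LinearMap.ker g' →ₗ[A] Q := (LinearMap.ker g').subtype
  have hιZinj : Function.Injective ιZ := Subtype.val_injective
  have hexZ : Function.Exact ιZ g' := LinearMap.exact_subtype_ker_map g'
  have hS2 := Groth.Agent.S15129.result A (LinearMap.ker g') Q (LinearMap.range g) ιZ g'
    hιZinj hg'surj hexZ
  obtain ⟨hZflat, hkιZ⟩ := hS2.2 hBflat
  let f' : P →ₗ[A] LinearMap.ker g' := f.codRestrict (LinearMap.ker g') (fun x => by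
    rw [LinearMap.mem_ker]
    exact LinearMap.congr_fun hg'f x)
  have hιf' : ιZ ∘ₗ f' = f := by ext x; rfl
  have hgιZ : g ∘ₗ ιZ = 0 := by
    have h1 : (ιB ∘ₗ g') ∘ₗ ιZ = 0 := by
      rw [LinearMap.comp_assoc, hexZ.linearMap_comp_eq_zero, LinearMap.comp_zero]
    rw [hιg'] at h1
    exact h1
  have hkf'surj : Function.Surjective (f'.lTensor (ResidueField A)) := by
    intro z
    have hx : g.lTensor (ResidueField A) (ιZ.lTensor (ResidueField A) z) = 0 := by
      rw [← LinearMap.comp_apply, ← LinearMap.lTensor_comp, hgιZ, LinearMap.lTensor_zero,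
        LinearMap.zero_apply]
    obtain ⟨p, hp⟩ := (hred _).mp hx
    refine ⟨p, hkιZ ?_⟩
    rw [← hp, ← LinearMap.comp_apply, ← LinearMap.lTensor_comp, hιf']
  have hf'surj : Function.Surjective f' :=
    surjective_of_lTensor_residueField_surjective f' hkf'surj
  intro y
  constructor
  · intro hy
    have hy' : y ∈ LinearMap.ker g' := by
      rw [LinearMap.mem_ker]
      apply Subtype.ext
      simpa [g'] using hy
    obtain ⟨p, hp⟩ := hf'surj ⟨y, hy'⟩
    refine ⟨p, ?_⟩
    have := congrArg Subtype.val hp
    simpa [f'] using this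
  · rintro ⟨p, rfl⟩
    have := LinearMap.congr_fun hfg p
    simpa using this

end Groth.Agent.S15130
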