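import Groth.Statements.S15131
import Groth.Agent.Lib.Helper21.ArtDual
import Mathlib.Tactic

set_option autoImplicit false
universe u v
open CategoryTheory
open ArtFun

namespace Groth.Agent.S15131

open Groth.Agent.Lib.Helper76 Groth.Agent.Lib.Helper21 ArtFun.Art

theorem map_comp_apply' {k : Type u} [Field k] (F : ArtFun.Art k k ⥤ Type v)
    {A B C : Art k k} (f : A ⟶ B) (g : B ⟶ C) (x : F.obj A) :
    F.map (f ≫ g) x = F.map g (F.map f x) := by
  rw [F.map_comp]; rfl

theorem map_id_apply' {k : Type u} [Field k] (F : ArtFun.Art k k ⥤ Type v)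
    {A : Art k k} (x : F.obj A) : F.map (𝟙 A) x = x := by
  rw [F.map_id]; rfl

theorem injective_map_of_small {k : Type u} [Field k] (F : ArtFun.Art k k ⥤ Type v)
    (h1 : ArtFun.Hbar F) (h2 : ArtFun.Heps F)
    (ht : Subsingleton (ArtFun.TangentSpace F)) {B A : Art k k} (p : B ⟶ A) (hp : IsSmallExt p) :
    Function.Injective (F.map p) := by
  intro x y hxy
  obtain ⟨t, htk, ht0⟩ := exists_generator p hp
  have hP := isFibreProd_fibreProd p p hp.1
  obtain ⟨g, -, hg⟩ := exists_dualMap p hp.2.2.2 t htk ht0 _ _ hP
  obtain ⟨z, hz⟩ := h1 _ _ p p hP hp ⟨(x, y), hxy⟩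
  have hz1 : F.map (fibreProdFst p p hp.1) z = x := congrArg (fun t => t.1.1) hz
  have hz2 : F.map (fibreProdSnd p p hp.1) z = y := congrArg (fun t => t.1.2) hz
  let Δ : B ⟶ fibreProd p p hp.1 := fp_lift hP (𝟙 B) (𝟙 B) rfl
  have hΔ1 : Δ ≫ fibreProdFst p p hp.1 = 𝟙 B := fp_lift_fst hP _ _ rfl
  have hΔ2 : Δ ≫ fibreProdSnd p p hp.1 = 𝟙 B := fp_lift_snd hP _ _ rfl
  have hzz : z = F.map Δ x := by
    apply (h2 _ _ hg).1
    apply FibProd.ext
    · change F.map _ z = F.map _ (F.map Δ x)
      rw [hz1, ← map_comp_apply', hΔ1, map_id_apply']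
    · exact @Subsingleton.elim _ ht _ _
  rw [← hz2, hzz, ← map_comp_apply', hΔ2, map_id_apply']

/-- Let k be a field and F a functor on local Artinian k-algebras with residue field k with F(k) a
single point, satisfying (H1) (the comparison map of A₁ ×_A A₂ is surjective when A₂ → A is a small
extension) and (H2) (it is bijective when A = k and A₂ = k[ε]). If the tangent space F(k[ε]) is a
single point then F is the one-point functor: every F(A) has exactly one element. (The converse is
clear.) -/
theorem result
    {k : Type u} [Field k] (F : ArtFun.Art k k ⥤ Type v)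
    (h0 : ArtFun.H0 F) (h1 : ArtFun.Hbar F) (h2 : ArtFun.Heps F)
    (ht : Subsingleton (ArtFun.TangentSpace F)) (A : ArtFun.Art k k) :
    Nonempty (F.obj A) ∧ Subsingleton (F.obj A) := by
  constructor
  · obtain ⟨x⟩ := h0.1
    exact ⟨F.map (ofBase A) x⟩
  · have key := surjective_induction (Λ := k) (k := k)
      (fun A B f => Function.Injective (F.map f)) ?_ ?_ ?_ (toBase A) A.res_surjective
    · constructor
      intro x y
      apply key
      exact @Subsingleton.elim _ h0.2 _ _
    · intro A B e he x y hxy
      have := congrArg (F.map (inv e)) hxy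
      rwa [← map_comp_apply', ← map_comp_apply', IsIso.hom_inv_id, map_id_apply',
        map_id_apply'] at this
    · intro A B p hp
      exact injective_map_of_small F h1 h2 ht p hp
    · intro A B C p q hp hq x y hxy
      rw [map_comp_apply', map_comp_apply'] at hxy
      exact hp (hq hxy)

end Groth.Agent.S15131
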