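import Groth.Statements.S15132
import Groth.Agent.Lib.Helper21.ArtDual
import Groth.Agent.Lib.Helper21.ArtFactor
import Groth.Agent.S12724
import Groth.Agent.S12711
import Mathlib.Tactic

set_option autoImplicit false
universe u v
open CategoryTheory
open ArtFun

namespace Groth.Agent.S15132

open Groth.Agent.Lib.Helper76 Groth.Agent.Lib.Helper21 ArtFun.Art

theorem injective_cmp_of_small {k : Type u} [Field k] (F : ArtFun.Art k k ⥤ Type v)
    (h0 : ArtFun.H0 F) (h1 : ArtFun.Hbar F) (h2 : ArtFun.Heps F) (h4 : ArtFun.HSq F)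
    {B A A' A'' : Art k k} (p' : B ⟶ A') (p'' : B ⟶ A'') (f' : A' ⟶ A) (f'' : A'' ⟶ A)
    (hfp : IsFibreProd p' p'' f' f'') (hsm : IsSmallExt f'') :
    Function.Injective (cmp F hfp) := by
  intro z₁ z₂ hz
  have hz' : F.map p' z₁ = F.map p' z₂ := congrArg (fun t => t.1.1) hz
  have hz'' : F.map p'' z₁ = F.map p'' z₂ := congrArg (fun t => t.1.2) hz
  have hsm' : IsSmallExt p' := Groth.Agent.S12711.result' hfp hsm
  obtain ⟨t'', htk'', ht0''⟩ := exists_generator f'' hsm
  have htmem : t'' ∈ RingHom.ker f''.toAlgHom := by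
    rw [htk'']; exact Ideal.subset_span rfl
  have h00 : f' 0 = f'' t'' := by
    rw [map_zero]; exact (RingHom.mem_ker.mp htmem).symm
  obtain ⟨tB, htB', htB''⟩ := hfp.surj 0 t'' h00
  have htB0 : tB ≠ 0 := by
    rintro rfl
    apply ht0''
    rw [← htB'', map_zero]
  have htkB : RingHom.ker p'.toAlgHom = Ideal.span {tB} := by
    apply le_antisymm
    · intro b hb
      have hb' : p' b = 0 := hb
      have hb2 : p'' b ∈ RingHom.ker f''.toAlgHom := by
        rw [RingHom.mem_ker]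
        have := hfp.w_apply b
        rw [hb', map_zero] at this
        exact this.symm
      obtain ⟨c, hc⟩ := (mem_ker_iff_smul f'' hsm.2.2.2 t'' htk'' _).mp hb2
      have hbc : b = c • tB := by
        apply hfp.inj
        · rw [hb', Algebra.smul_def, map_mul, htB', mul_zero]
        · rw [hc, Algebra.smul_def, Algebra.smul_def, map_mul, htB'']
          congr 1
          exact (p''.toAlgHom.commutes c).symm
      rw [hbc, Algebra.smul_def]
      exact Ideal.mul_mem_left _ _ (Ideal.subset_span rfl)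
    · rw [Ideal.span_le]
      rintro _ rfl
      exact htB'
  have hPB := isFibreProd_fibreProd p' p' hsm'.1
  have hP'' := isFibreProd_fibreProd f'' f'' hsm.1
  obtain ⟨gB, hgB, hgB'⟩ := exists_dualMap p' hsm'.2.2.2 tB htkB htB0 _ _ hPB
  obtain ⟨g'', hg'', -⟩ := exists_dualMap f'' hsm.2.2.2 t'' htk'' ht0'' _ _ hP''
  have hw : (fibreProdFst p' p' hsm'.1 ≫ p'') ≫ f'' = (fibreProdSnd p' p' hsm'.1 ≫ p'') ≫ f'' := by
    rw [Category.assoc, Category.assoc, ← hfp.w, ← Category.assoc, ← Category.assoc, hPB.w]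
  let m : fibreProd p' p' hsm'.1 ⟶ fibreProd f'' f'' hsm.1 :=
    fp_lift hP'' (fibreProdFst p' p' hsm'.1 ≫ p'') (fibreProdSnd p' p' hsm'.1 ≫ p'') hw
  have hm1 : m ≫ fibreProdFst f'' f'' hsm.1 = fibreProdFst p' p' hsm'.1 ≫ p'' :=
    fp_lift_fst hP'' _ _ hw
  have hm2 : m ≫ fibreProdSnd f'' f'' hsm.1 = fibreProdSnd p' p' hsm'.1 ≫ p'' :=
    fp_lift_snd hP'' _ _ hw
  have hmg : m ≫ g'' = gB := by
    apply Art.hom_ext
    apply AlgHom.ext
    intro z
    apply TrivSqZeroExt.ext
    · have e1 : TrivSqZeroExt.fst ((m ≫ g'') z) = (fibreProd p' p' hsm'.1).res z :=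
        fst_hom_dual (m ≫ g'') z
      have e2 : TrivSqZeroExt.fst (gB z) = (fibreProd p' p' hsm'.1).res z := fst_hom_dual gB z
      exact e1.trans e2.symm
    · have e1 := hg'' (m z)
      have e2 := congrArg p'' (hgB z)
      have e3 : fibreProdFst f'' f'' hsm.1 (m z) = p'' (fibreProdFst p' p' hsm'.1 z) :=
        congrArg (fun (t : fibreProd p' p' hsm'.1 ⟶ A'') => t z) hm1
      have e4 : fibreProdSnd f'' f'' hsm.1 (m z) = p'' (fibreProdSnd p' p' hsm'.1 z) :=
        congrArg (fun (t : fibreProd p' p' hsm'.1 ⟶ A'') => t z) hm2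
      have e5 : p'' ((TrivSqZeroExt.snd (gB z) : k) • tB) =
          (TrivSqZeroExt.snd (gB z) : k) • t'' := by
        rw [Algebra.smul_def, Algebra.smul_def, map_mul, htB'']
        congr 1
        exact p''.toAlgHom.commutes _
      rw [e5, map_sub, ← e3, ← e4, ← e1] at e2
      have e6 : ((TrivSqZeroExt.snd (gB z) : k) - TrivSqZeroExt.snd (g'' (m z))) • t'' = 0 := by
        rw [sub_smul, e2, sub_self]
      have := snd_eq_zero_of_smul t'' ht0'' _ e6
      exact (sub_eq_zero.mp this).symm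
  let ΔB : B ⟶ fibreProd p' p' hsm'.1 := fp_lift hPB (𝟙 B) (𝟙 B) rfl
  have hΔB1 : ΔB ≫ fibreProdFst p' p' hsm'.1 = 𝟙 B := fp_lift_fst hPB _ _ rfl
  have hΔB2 : ΔB ≫ fibreProdSnd p' p' hsm'.1 = 𝟙 B := fp_lift_snd hPB _ _ rfl
  let Δ'' : A'' ⟶ fibreProd f'' f'' hsm.1 := fp_lift hP'' (𝟙 A'') (𝟙 A'') rfl
  have hΔ1 : Δ'' ≫ fibreProdFst f'' f'' hsm.1 = 𝟙 A'' := fp_lift_fst hP'' _ _ rfl
  have hΔ2 : Δ'' ≫ fibreProdSnd f'' f'' hsm.1 = 𝟙 A'' := fp_lift_snd hP'' _ _ rfl
  have hΔBg : ΔB ≫ gB = toBase B ≫ baseToDual := by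
    apply eq_toBase_baseToDual
    intro b
    apply snd_eq_zero_of_smul tB htB0
    have e := hgB (ΔB b)
    have e1 : fibreProdFst p' p' hsm'.1 (ΔB b) = b :=
      congrArg (fun (t : B ⟶ B) => t b) hΔB1
    have e2 : fibreProdSnd p' p' hsm'.1 (ΔB b) = b :=
      congrArg (fun (t : B ⟶ B) => t b) hΔB2
    rw [e1, e2, sub_self] at e
    exact e
  have hΔg : Δ'' ≫ g'' = toBase A'' ≫ baseToDual := by
    apply eq_toBase_baseToDual
    intro b
    apply snd_eq_zero_of_smul t'' ht0''
    have e := hg'' (Δ'' b)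
    have e1 : fibreProdFst f'' f'' hsm.1 (Δ'' b) = b :=
      congrArg (fun (t : A'' ⟶ A'') => t b) hΔ1
    have e2 : fibreProdSnd f'' f'' hsm.1 (Δ'' b) = b :=
      congrArg (fun (t : A'' ⟶ A'') => t b) hΔ2
    rw [e1, e2, sub_self] at e
    exact e
  obtain ⟨u, hu⟩ := h1 _ _ p' p' hPB hsm' ⟨(z₁, z₂), hz'⟩
  have hu1 : F.map (fibreProdFst p' p' hsm'.1) u = z₁ := congrArg (fun t => t.1.1) hu
  have hu2 : F.map (fibreProdSnd p' p' hsm'.1) u = z₂ := congrArg (fun t => t.1.2) hu
  have hv : F.map m u = F.map Δ'' (F.map p'' z₁) := by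
    apply (h4 _ _ f'' hP'' hsm).1
    apply FibProd.ext
    · change F.map (fibreProdFst f'' f'' hsm.1) (F.map m u) =
        F.map (fibreProdFst f'' f'' hsm.1) (F.map Δ'' (F.map p'' z₁))
      rw [← map_comp_apply', hm1, map_comp_apply', hu1, ← map_comp_apply' F Δ'', hΔ1,
        map_id_apply']
    · change F.map (fibreProdSnd f'' f'' hsm.1) (F.map m u) =
        F.map (fibreProdSnd f'' f'' hsm.1) (F.map Δ'' (F.map p'' z₁))
      rw [← map_comp_apply', hm2, map_comp_apply', hu2, ← map_comp_apply' F Δ'', hΔ2,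
        map_id_apply', hz'']
  have huu : u = F.map ΔB z₁ := by
    apply (h2 _ _ hgB').1
    apply FibProd.ext
    · change F.map (fibreProdFst p' p' hsm'.1) u = F.map (fibreProdFst p' p' hsm'.1) (F.map ΔB z₁)
      rw [hu1, ← map_comp_apply', hΔB1, map_id_apply']
    · change F.map gB u = F.map gB (F.map ΔB z₁)
      rw [← map_comp_apply' F ΔB, hΔBg, ← hmg, map_comp_apply', hv, ← map_comp_apply' F Δ'',
        hΔg, map_comp_apply', map_comp_apply']
      congr 1
      exact @Subsingleton.elim _ h0.2 _ _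
  rw [← hu2, huu, ← map_comp_apply', hΔB2, map_id_apply']

/-- Let k be a field and F a functor on local Artinian k-algebras with residue field k with F(k) a
single point. If F satisfies (H1), (H2) and (H4) — surjectivity of the comparison map F(A₁ ×_A A₂) →
F(A₁) ×_{F(A)} F(A₂) when A₂ → A is a small extension, bijectivity when A = k and A₂ = k[ε], and
bijectivity for A₂ ×_A A₂ with A₂ → A a small extension — then F is homogeneous: the comparison map
is bijective for every fibre-product square in which A₂ → A is surjective. (The converse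
implications are immediate.) -/
theorem result
    {k : Type u} [Field k] (F : ArtFun.Art k k ⥤ Type v)
    (h0 : ArtFun.H0 F) (h1 : ArtFun.Hbar F) (h2 : ArtFun.Heps F) (h4 : ArtFun.HSq F)
    ⦃B A A' A'' : ArtFun.Art k k⦄ (p' : B ⟶ A') (p'' : B ⟶ A'') (f' : A' ⟶ A) (f'' : A'' ⟶ A)
    (h : ArtFun.Art.IsFibreProd p' p'' f' f'') (hf : Function.Surjective f'') :
    Function.Bijective (ArtFun.cmp F h) := by
  refine ⟨?_, (Groth.Agent.S12724.result' F).mpr h1 p' p'' f' f'' h hf⟩
  have key := surjective_induction (Λ := k) (k := k)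
    (fun A A'' f'' => Function.Surjective f'' ∧
      ∀ ⦃B A' : Art k k⦄ (p' : B ⟶ A') (p'' : B ⟶ A'') (f' : A' ⟶ A)
        (hfp : IsFibreProd p' p'' f' f''), Function.Injective (cmp F hfp)) ?_ ?_ ?_ f'' hf
  · exact key.2 p' p'' f' h
  · intro A A'' e he
    refine ⟨(bijective_of_isIso e).2, ?_⟩
    intro B A' p' p'' f' hfp z₁ z₂ hz
    have hz' : F.map p' z₁ = F.map p' z₂ := congrArg (fun t => t.1.1) hz
    have hbij : Function.Bijective p' := by
      refine ⟨?_, fp_fst_surjective hfp (bijective_of_isIso e).2⟩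
      intro b₁ b₂ hb
      apply hfp.inj _ _ hb
      apply (bijective_of_isIso e).1
      rw [← hfp.w_apply, ← hfp.w_apply, hb]
    have : IsIso p' := isIso_of_bijective p' hbij
    have := congrArg (F.map (inv p')) hz'
    rwa [← map_comp_apply', ← map_comp_apply', IsIso.hom_inv_id, map_id_apply',
      map_id_apply'] at this
  · intro A A'' p hp
    exact ⟨hp.1, fun B A' p' p'' f' hfp => injective_cmp_of_small F h0 h1 h2 h4 p' p'' f' p hfp hp⟩
  · intro A C A'' r q ⟨hr, hr'⟩ ⟨hq, hq'⟩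
    refine ⟨fun a => ?_, ?_⟩
    · obtain ⟨c, rfl⟩ := hq a
      obtain ⟨a'', rfl⟩ := hr c
      exact ⟨a'', rfl⟩
    intro B A' p' p'' f' hfp z₁ z₂ hz
    have hz' : F.map p' z₁ = F.map p' z₂ := congrArg (fun t => t.1.1) hz
    have hz'' : F.map p'' z₁ = F.map p'' z₂ := congrArg (fun t => t.1.2) hz
    have h₁ := isFibreProd_fibreProd f' q hq
    have hw : p' ≫ f' = (p'' ≫ r) ≫ q := by rw [Category.assoc]; exact hfp.w
    let t : B ⟶ fibreProd f' q hq := fp_lift h₁ p' (p'' ≫ r) hw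
    have ht' : t ≫ fibreProdFst f' q hq = p' := fp_lift_fst h₁ _ _ hw
    have ht'' : t ≫ fibreProdSnd f' q hq = p'' ≫ r := fp_lift_snd h₁ _ _ hw
    have h₂ := fp_paste hfp r q rfl h₁ t ht' ht''
    have hw12 : F.map t z₁ = F.map t z₂ := by
      apply hq' _ _ f' h₁
      apply FibProd.ext
      · change F.map (fibreProdFst f' q hq) (F.map t z₁) = F.map (fibreProdFst f' q hq) (F.map t z₂)
        rw [← map_comp_apply', ← map_comp_apply', ht', hz']
      · change F.map (fibreProdSnd f' q hq) (F.map t z₁) = F.map (fibreProdSnd f' q hq) (F.map t z₂)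
        rw [← map_comp_apply', ← map_comp_apply', ht'', map_comp_apply', map_comp_apply', hz'']
    apply hr' _ _ _ h₂
    apply FibProd.ext
    · exact hw12
    · exact hz''

end Groth.Agent.S15132
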