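import Groth.Statements.S15133
import Groth.Agent.Lib.Helper71.ArtinLocal
import Groth.Agent.S15129
import Mathlib

set_option autoImplicit false
universe u
open CategoryTheory
open CAlg

namespace Groth.Agent.S15133

open Groth.Agent.Lib.Helper71 TensorProduct Module IsLocalRing

section Algebra

variable (A : Type u) [CommRing A] [IsLocalRing A] [IsArtinianRing A]

/-- strengthened form of S15130, without flatness of the first module -/
theorem lemmaL
    (P Q R M : Type u) [AddCommGroup P] [Module A P] [AddCommGroup Q] [Module A Q]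
    [AddCommGroup R] [Module A R] [AddCommGroup M] [Module A M]
    [Module.Flat A Q] [Module.Flat A R]
    (f : P →ₗ[A] Q) (g : Q →ₗ[A] R) (h : R →ₗ[A] M)
    (hfg : g ∘ₗ f = 0) (hgh : Function.Exact g h) (hh : Function.Surjective h)
    (hred : Function.Exact (f.lTensor (ResidueField A)) (g.lTensor (ResidueField A))) :
    Module.Flat A M ∧ Function.Exact f g ∧ Module.Flat A (LinearMap.ker g) ∧
      Function.Injective ((LinearMap.ker g).subtype.lTensor (ResidueField A)) := by
  let ιB : LinearMap.range g →ₗ[A] R := (LinearMap.range g).subtype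
  let g' : Q →ₗ[A] LinearMap.range g := g.rangeRestrict
  have hg'surj : Function.Surjective g' := g.surjective_rangeRestrict
  have hιg' : ιB ∘ₗ g' = g := by ext x; rfl
  have hιBinj : Function.Injective ιB := Subtype.val_injective
  have hg'f : g' ∘ₗ f = 0 := by
    ext x
    have : g (f x) = 0 := by
      have := LinearMap.congr_fun hfg x
      simpa using this
    simpa [g'] using this
  have hexB : Function.Exact ιB h := by
    intro y
    rw [hgh y]
    constructor
    · rintro ⟨x, rfl⟩
      exact ⟨g' x, rfl⟩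
    · rintro ⟨⟨_, x, rfl⟩, rfl⟩
      exact ⟨x, rfl⟩
  have hkιB : Function.Injective (ιB.lTensor (ResidueField A)) := by
    rw [injective_iff_map_eq_zero]
    intro y hy
    obtain ⟨x, rfl⟩ := LinearMap.lTensor_surjective (ResidueField A) hg'surj y
    have hx : g.lTensor (ResidueField A) x = 0 := by
      have h1 : (ιB ∘ₗ g').lTensor (ResidueField A) x = 0 := by
        rw [LinearMap.lTensor_comp]
        exact hy
      rw [hιg'] at h1
      exact h1
    obtain ⟨p, rfl⟩ := (hred x).mp hx
    rw [← LinearMap.comp_apply, ← LinearMap.lTensor_comp, hg'f, LinearMap.lTensor_zero,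
      LinearMap.zero_apply]
  have hS1 := Groth.Agent.S15129.result A (LinearMap.range g) R M ιB h hιBinj hh hexB
  have hMflat : Module.Flat A M := hS1.1 hkιB
  have hBflat : Module.Flat A (LinearMap.range g) := (hS1.2 hMflat).1
  let ιZ : LinearMap.ker g →ₗ[A] Q := (LinearMap.ker g).subtype
  have hιZinj : Function.Injective ιZ := Subtype.val_injective
  have hexZ : Function.Exact ιZ g' := by
    intro y
    constructor
    · intro hy
      have : g y = 0 := congrArg Subtype.val hy
      exact ⟨⟨y, this⟩, rfl⟩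
    · rintro ⟨z, rfl⟩
      apply Subtype.ext
      exact z.2
  have hS2 := Groth.Agent.S15129.result A (LinearMap.ker g) Q (LinearMap.range g) ιZ g'
    hιZinj hg'surj hexZ
  obtain ⟨hZflat, hkιZ⟩ := hS2.2 hBflat
  have hfker : ∀ x, f x ∈ LinearMap.ker g := by
    intro x
    rw [LinearMap.mem_ker]
    have := LinearMap.congr_fun hfg x
    simpa using this
  let f' : P →ₗ[A] LinearMap.ker g := f.codRestrict (LinearMap.ker g) hfker
  have hιf' : ιZ ∘ₗ f' = f := by ext x; rfl
  have hgιZ : g ∘ₗ ιZ = 0 := by
    ext z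
    exact z.2
  have hkf'surj : Function.Surjective (f'.lTensor (ResidueField A)) := by
    intro z
    have hx : g.lTensor (ResidueField A) (ιZ.lTensor (ResidueField A) z) = 0 := by
      rw [← LinearMap.comp_apply, ← LinearMap.lTensor_comp, hgιZ, LinearMap.lTensor_zero,
        LinearMap.zero_apply]
    obtain ⟨p, hp⟩ := (hred _).mp hx
    refine ⟨p, hkιZ ?_⟩
    rw [← hp, ← LinearMap.comp_apply, ← LinearMap.lTensor_comp, hιf']
  have hf'surj : Function.Surjective f' :=
    surjective_of_lTensor_residueField_surjective f' hkf'surj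
  refine ⟨hMflat, ?_, hZflat, hkιZ⟩
  intro y
  constructor
  · intro hy
    obtain ⟨p, hp⟩ := hf'surj ⟨y, hy⟩
    refine ⟨p, ?_⟩
    have := congrArg Subtype.val hp
    simpa [f'] using this
  · rintro ⟨p, rfl⟩
    exact hfker p

/-- a module mapping to a flat module, injectively after reduction, is free -/
theorem lemmaB
    (P L : Type u) [AddCommGroup P] [Module A P] [AddCommGroup L] [Module A L]
    [Module.Flat A L] (h : P →ₗ[A] L)
    (hinj : Function.Injective (h.lTensor (ResidueField A))) : Module.Free A P := by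
  classical
  let w := Free.chooseBasis (ResidueField A) (ResidueField A ⊗[A] P)
  obtain ⟨v, eq⟩ := (TensorProduct.mk_surjective A P (ResidueField A)
    Ideal.Quotient.mk_surjective).comp_left w
  have hv : ∀ i, (1 : ResidueField A) ⊗ₜ[A] v i = w i := fun i => congr_fun eq i
  have hspan : Submodule.span A (Set.range v) = ⊤ := span_eq_top_of_tmul_eq_basis v w hv
  have hli : LinearIndependent (ResidueField A)
      ((h.baseChange (ResidueField A)) ∘ w) := by
    apply w.linearIndependent.map'
    rw [LinearMap.ker_eq_bot, LinearMap.baseChange_eq_ltensor]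
    exact hinj
  have hcomp : ((h.baseChange (ResidueField A)) ∘ w) =
      (TensorProduct.mk A (ResidueField A) L 1 ∘ (h ∘ v)) := by
    funext i
    simp [← hv i]
  rw [hcomp] at hli
  have hli' : LinearIndependent A (h ∘ v) := IsLocalRing.linearIndependent_of_flat _ hli
  have hliv : LinearIndependent A v := LinearIndependent.of_comp h hli'
  exact Module.Free.of_basis (Basis.mk hliv hspan.ge)

end Algebra

section Complex

variable (A : Type u) [CommRing A] [IsLocalRing A] [IsArtinianRing A]
  (C : CochainComplex (ModuleCat.{u} A) ℕ)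

theorem d_comp_d_hom (i : ℕ) :
    (C.d (i + 1) (i + 2)).hom ∘ₗ (C.d i (i + 1)).hom = 0 := by
  have := C.d_comp_d i (i + 1) (i + 2)
  rw [← ModuleCat.hom_comp, this]
  rfl

theorem exact_of_exactAt_succ (i : ℕ)
    (h : (((MonoidalCategory.tensorLeft (ModuleCat.of A (ResidueField A))).mapHomologicalComplex
        (ComplexShape.up ℕ)).obj C).ExactAt (i + 1)) :
    Function.Exact ((C.d i (i+1)).hom.lTensor (ResidueField A))
      ((C.d (i+1) (i+2)).hom.lTensor (ResidueField A)) := by
  rw [HomologicalComplex.exactAt_iff' _ i (i+1) (i+2) (by simp) (by simp)] at h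
  rw [ShortComplex.moduleCat_exact_iff_range_eq_ker] at h
  rw [LinearMap.exact_iff]
  exact h.symm

theorem injective_of_exactAt_zero
    (h : (((MonoidalCategory.tensorLeft (ModuleCat.of A (ResidueField A))).mapHomologicalComplex
        (ComplexShape.up ℕ)).obj C).ExactAt 0) :
    Function.Injective ((C.d 0 1).hom.lTensor (ResidueField A)) := by
  rw [HomologicalComplex.exactAt_iff' _ 0 0 1 (by simp) (by simp)] at h
  rw [ShortComplex.moduleCat_exact_iff_range_eq_ker] at h
  rw [← LinearMap.ker_eq_bot]
  have h0 : ((((MonoidalCategory.tensorLeft (ModuleCat.of A (ResidueField A))).mapHomologicalComplex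
        (ComplexShape.up ℕ)).obj C).d 0 0) = 0 := HomologicalComplex.shape _ _ _ (by simp)
  have h1 : LinearMap.range ((((MonoidalCategory.tensorLeft
      (ModuleCat.of A (ResidueField A))).mapHomologicalComplex
        (ComplexShape.up ℕ)).obj C).d 0 0).hom = ⊥ := by
    rw [h0]; simp
  exact h.symm.trans h1

variable (n : ℕ)
    (hflat : ∀ i, i ≤ n → Module.Flat A (C.X (i + 1)))
    (hex : ∀ i, i + 1 ≤ n → Function.Exact ((C.d i (i+1)).hom.lTensor (ResidueField A))
      ((C.d (i+1) (i+2)).hom.lTensor (ResidueField A)))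

include hflat hex in
theorem top_step (i : ℕ) (hi : i + 1 = n) :
    Module.Flat A (C.X (i + 2) ⧸ LinearMap.range (C.d (i + 1) (i + 2)).hom) ∧
    Module.Flat A (LinearMap.ker (C.d (i + 1) (i + 2)).hom) ∧
      Function.Injective ((LinearMap.ker (C.d (i + 1) (i + 2)).hom).subtype.lTensor
        (ResidueField A)) := by
  haveI := hflat i (by omega)
  haveI := hflat (i + 1) (by omega)
  obtain ⟨h1, -, h3, h4⟩ := lemmaL A (C.X i) (C.X (i + 1)) (C.X (i + 2))
    (C.X (i + 2) ⧸ LinearMap.range (C.d (i + 1) (i + 2)).hom)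
    (C.d i (i + 1)).hom (C.d (i + 1) (i + 2)).hom
    (LinearMap.range (C.d (i + 1) (i + 2)).hom).mkQ
    (d_comp_d_hom A C i) (LinearMap.exact_map_mkQ_range _) (Submodule.mkQ_surjective _)
    (hex i (by omega))
  exact ⟨h1, h3, h4⟩

include hflat hex in
theorem down_step (i : ℕ) (hi : i + 2 ≤ n)
    (hZ : Module.Flat A (LinearMap.ker (C.d (i + 2) (i + 3)).hom))
    (hZinj : Function.Injective ((LinearMap.ker (C.d (i + 2) (i + 3)).hom).subtype.lTensor
        (ResidueField A))) :
    Module.Flat A (LinearMap.ker (C.d (i + 1) (i + 2)).hom) ∧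
      Function.Injective ((LinearMap.ker (C.d (i + 1) (i + 2)).hom).subtype.lTensor
        (ResidueField A)) := by
  haveI := hflat i (by omega)
  have hmem : ∀ x, (C.d (i + 1) (i + 2)).hom x ∈ LinearMap.ker (C.d (i + 2) (i + 3)).hom := by
    intro x
    rw [LinearMap.mem_ker]
    exact LinearMap.congr_fun (d_comp_d_hom A C (i + 1)) x
  let g' : C.X (i + 1) →ₗ[A] LinearMap.ker (C.d (i + 2) (i + 3)).hom :=
    (C.d (i + 1) (i + 2)).hom.codRestrict _ hmem
  have hιg' : (LinearMap.ker (C.d (i + 2) (i + 3)).hom).subtype ∘ₗ g' =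
      (C.d (i + 1) (i + 2)).hom := by ext x; rfl
  have hg'f : g' ∘ₗ (C.d i (i + 1)).hom = 0 := by
    ext x
    exact LinearMap.congr_fun (d_comp_d_hom A C i) x
  have hred' : Function.Exact ((C.d i (i + 1)).hom.lTensor (ResidueField A))
      (g'.lTensor (ResidueField A)) := by
    intro y
    rw [← hex i (by omega) y]
    constructor
    · intro hy
      have h1 : ((LinearMap.ker (C.d (i + 2) (i + 3)).hom).subtype ∘ₗ g').lTensor
          (ResidueField A) y = 0 := by
        rw [LinearMap.lTensor_comp, LinearMap.comp_apply, hy, map_zero]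
      rw [hιg'] at h1
      exact h1
    · intro hy
      apply hZinj
      rw [map_zero, ← LinearMap.comp_apply, ← LinearMap.lTensor_comp, hιg']
      exact hy
  obtain ⟨-, -, h3, h4⟩ := lemmaL A (C.X i) (C.X (i + 1)) (LinearMap.ker (C.d (i + 2) (i + 3)).hom)
    (LinearMap.ker (C.d (i + 2) (i + 3)).hom ⧸ LinearMap.range g')
    (C.d i (i + 1)).hom g' (LinearMap.range g').mkQ
    hg'f (LinearMap.exact_map_mkQ_range _) (Submodule.mkQ_surjective _) hred'
  have hker : LinearMap.ker g' = LinearMap.ker (C.d (i + 1) (i + 2)).hom :=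
    LinearMap.ker_codRestrict _ _ _
  rw [hker] at h3 h4
  exact ⟨h3, h4⟩

include hflat hex in
theorem ker_flat (m : ℕ) : ∀ i, i + 1 + m = n →
    Module.Flat A (LinearMap.ker (C.d (i + 1) (i + 2)).hom) ∧
      Function.Injective ((LinearMap.ker (C.d (i + 1) (i + 2)).hom).subtype.lTensor
        (ResidueField A)) := by
  induction m with
  | zero =>
    intro i hi
    exact (top_step A C n hflat hex i (by omega)).2
  | succ m ih =>
    intro i hi
    obtain ⟨hZ, hZinj⟩ := ih (i + 1) (by omega)
    exact down_step A C n hflat hex i (by omega) hZ hZinj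

end Complex

theorem result
    (A : Type u) [CommRing A] [IsLocalRing A] [IsArtinianRing A] (n : ℕ) (hn : 0 < n)
    (C : CochainComplex (ModuleCat.{u} A) ℕ)
    (hflat : ∀ i, i ≤ n → Module.Flat A (C.X (i + 1)))
    (hred : ∀ j, j ≤ n →
      (((MonoidalCategory.tensorLeft (ModuleCat.of A (IsLocalRing.ResidueField A))).mapHomologicalComplex
        (ComplexShape.up ℕ)).obj C).ExactAt j) :
    Module.Flat A (C.X 0) ∧ Module.Flat A (C.X (n + 1) ⧸ LinearMap.range (C.d n (n + 1)).hom) := by
  have hex : ∀ i, i + 1 ≤ n → Function.Exact ((C.d i (i+1)).hom.lTensor (ResidueField A))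
      ((C.d (i+1) (i+2)).hom.lTensor (ResidueField A)) :=
    fun i hi => exact_of_exactAt_succ A C i (hred (i + 1) hi)
  have hinj0 := injective_of_exactAt_zero A C (hred 0 (Nat.zero_le _))
  obtain ⟨n', rfl⟩ : ∃ n', n = n' + 1 := ⟨n - 1, by omega⟩
  refine ⟨?_, (top_step A C (n' + 1) hflat hex n' rfl).1⟩
  obtain ⟨hZ, hZinj⟩ := ker_flat A C (n' + 1) hflat hex n' 0 (by omega)
  -- the map C.X 0 → ker d_1
  have hmem : ∀ x, (C.d 0 1).hom x ∈ LinearMap.ker (C.d 1 2).hom := by
    intro x
    rw [LinearMap.mem_ker]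
    exact LinearMap.congr_fun (d_comp_d_hom A C 0) x
  let d0' : C.X 0 →ₗ[A] LinearMap.ker (C.d 1 2).hom := (C.d 0 1).hom.codRestrict _ hmem
  have hι : (LinearMap.ker (C.d 1 2).hom).subtype ∘ₗ d0' = (C.d 0 1).hom := by ext x; rfl
  have hd0'inj : Function.Injective (d0'.lTensor (ResidueField A)) := by
    have h1 : Function.Injective (((LinearMap.ker (C.d 1 2).hom).subtype ∘ₗ d0').lTensor
        (ResidueField A)) := by
      rw [hι]; exact hinj0
    rw [LinearMap.lTensor_comp] at h1
    exact Function.Injective.of_comp h1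
  have hfree : Module.Free A (C.X 0) :=
    lemmaB A (C.X 0) (LinearMap.ker (C.d 1 2).hom) d0' hd0'inj
  infer_instance

end Groth.Agent.S15133
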