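import Groth.Statements.S15134
import Groth.Agent.Lib.Helper21.ArtFactor
import Mathlib.Tactic

set_option autoImplicit false
universe u v
open CategoryTheory
open ArtFun

namespace Groth.Agent.S15134

open Groth.Agent.Lib.Helper76 Groth.Agent.Lib.Helper21 ArtFun.Art

/-- Let k be a field and F a functor on local Artinian k-algebras with residue field k with F(k) a
point. If F satisfies (H2') — the comparison map F(A₁ ×_k A₂) → F(A₁) × F(A₂) is bijective for every
pair of objects — then F satisfies condition (L): for every small extension f : B → A with kernel J,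
writing P = B ×_k B, Q = A ×_k A, r : P → Q for the map induced by f, and C = P/K with K the ideal
of P consisting of the pairs (b, b) with b ∈ J, every element of F(Q) whose two images in F(A) agree
lifts along F(C) → F(Q). Here P and Q are pinned as fibre products over k, K is described through
the two projections, and the two inequalities on K (it lies in the maximal ideal of P and is killed
by r), which always hold, are taken as hypotheses so that the quotient object and the factored map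
can be named. -/
theorem result
    {k : Type u} [Field k] (F : ArtFun.Art k k ⥤ Type v) (h0 : ArtFun.H0 F)
    (h2' : ∀ ⦃P A' A'' : ArtFun.Art k k⦄ (p' : P ⟶ A') (p'' : P ⟶ A'')
      (h : ArtFun.Art.IsFibreProd p' p'' (ArtFun.Art.toBase A') (ArtFun.Art.toBase A'')),
      Function.Bijective (ArtFun.cmp F h))
    ⦃B A : ArtFun.Art k k⦄ (f : B ⟶ A) (hf : ArtFun.Art.IsSmallExt f)
    ⦃P : ArtFun.Art k k⦄ (p₁ p₂ : P ⟶ B)
    (hP : ArtFun.Art.IsFibreProd p₁ p₂ (ArtFun.Art.toBase B) (ArtFun.Art.toBase B))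
    ⦃Q : ArtFun.Art k k⦄ (q₁ q₂ : Q ⟶ A)
    (hQ : ArtFun.Art.IsFibreProd q₁ q₂ (ArtFun.Art.toBase A) (ArtFun.Art.toBase A))
    (r : P ⟶ Q) (hr₁ : r ≫ q₁ = p₁ ≫ f) (hr₂ : r ≫ q₂ = p₂ ≫ f)
    (hK : Ideal.span {z : P | p₁ z = p₂ z ∧ f (p₁ z) = 0} ≤ IsLocalRing.maximalIdeal P)
    (hKr : Ideal.span {z : P | p₁ z = p₂ z ∧ f (p₁ z) = 0} ≤ RingHom.ker r.toAlgHom)
    (y : F.obj Q) (hy : F.map q₁ y = F.map q₂ y) :
    ∃ z : F.obj (ArtFun.Art.quot P (Ideal.span {z : P | p₁ z = p₂ z ∧ f (p₁ z) = 0}) hK),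
      F.map (ArtFun.Art.quotFactor hK r hKr) z = y := by
  let Δ : B ⟶ P := fp_lift hP (𝟙 B) (𝟙 B) rfl
  have hΔ1 : Δ ≫ p₁ = 𝟙 B := fp_lift_fst hP _ _ rfl
  have hΔ2 : Δ ≫ p₂ = 𝟙 B := fp_lift_snd hP _ _ rfl
  have hΔ1' : ∀ b : B, p₁ (Δ b) = b := fun b => congrArg (fun (t : B ⟶ B) => t b) hΔ1
  have hΔ2' : ∀ b : B, p₂ (Δ b) = b := fun b => congrArg (fun (t : B ⟶ B) => t b) hΔ2
  let σ : B ⟶ ArtFun.Art.quot P (Ideal.span {z : P | p₁ z = p₂ z ∧ f (p₁ z) = 0}) hK :=
    Δ ≫ quotMk P _ hK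
  have hσ : RingHom.ker f.toAlgHom ≤ RingHom.ker σ.toAlgHom := by
    intro b hb
    rw [RingHom.mem_ker]
    change quotMk P _ hK (Δ b) = 0
    rw [quotMk_eq_zero_iff]
    apply Ideal.subset_span
    refine ⟨?_, ?_⟩
    · rw [hΔ1', hΔ2']
    · rw [hΔ1']
      exact hb
  obtain ⟨s, hs⟩ := exists_factor_of_surjective f hf.1 σ hσ
  have hs1 : s ≫ quotFactor hK r hKr ≫ q₁ = 𝟙 A := by
    apply hom_cancel_of_surjective f hf.1
    rw [← Category.assoc, hs, Category.comp_id]
    change (Δ ≫ quotMk P _ hK) ≫ quotFactor hK r hKr ≫ q₁ = f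
    rw [Category.assoc, ← Category.assoc (quotMk P _ hK), quotMk_quotFactor, hr₁,
      ← Category.assoc, hΔ1, Category.id_comp]
  have hs2 : s ≫ quotFactor hK r hKr ≫ q₂ = 𝟙 A := by
    apply hom_cancel_of_surjective f hf.1
    rw [← Category.assoc, hs, Category.comp_id]
    change (Δ ≫ quotMk P _ hK) ≫ quotFactor hK r hKr ≫ q₂ = f
    rw [Category.assoc, ← Category.assoc (quotMk P _ hK), quotMk_quotFactor, hr₂,
      ← Category.assoc, hΔ2, Category.id_comp]
  refine ⟨F.map s (F.map q₁ y), ?_⟩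
  apply (h2' q₁ q₂ hQ).1
  apply FibProd.ext
  · change F.map q₁ (F.map (quotFactor hK r hKr) (F.map s (F.map q₁ y))) = F.map q₁ y
    rw [← map_comp_apply', ← map_comp_apply', hs1, map_id_apply']
  · change F.map q₂ (F.map (quotFactor hK r hKr) (F.map s (F.map q₁ y))) = F.map q₂ y
    rw [← map_comp_apply', ← map_comp_apply', hs2, map_id_apply', hy]

end Groth.Agent.S15134
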