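import Groth.Statements.S15135
import Mathlib

set_option autoImplicit false
universe u v
open Deform

namespace Groth.Agent.S15135

variable {R : Type u} [CommRing R] {N : Type v} [AddCommGroup N] [Module R N] {M : Submodule R N}

def graphSub (φ : M →ₗ[R] (N ⧸ M)) : Submodule R (N × N) where
  carrier := {p | ∃ h : p.1 ∈ M, Submodule.Quotient.mk p.2 = φ ⟨p.1, h⟩}
  zero_mem' := by
    refine ⟨M.zero_mem, ?_⟩
    have : (⟨(0 : N × N).1, M.zero_mem⟩ : M) = 0 := rfl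
    rw [this, map_zero]
    rfl
  add_mem' := by
    rintro ⟨x, y⟩ ⟨x', y'⟩ ⟨h, e⟩ ⟨h', e'⟩
    refine ⟨M.add_mem h h', ?_⟩
    have : (⟨x + x', M.add_mem h h'⟩ : M) = ⟨x, h⟩ + ⟨x', h'⟩ := rfl
    simp only [Prod.mk_add_mk] at *
    rw [this, map_add, ← e, ← e']
    rfl
  smul_mem' := by
    rintro c ⟨x, y⟩ ⟨h, e⟩
    refine ⟨M.smul_mem c h, ?_⟩
    have : (⟨c • x, M.smul_mem c h⟩ : M) = c • ⟨x, h⟩ := rfl
    simp only [Prod.smul_mk] at *
    rw [this, map_smul, ← e]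
    rfl

theorem mem_graphSub (φ : M →ₗ[R] (N ⧸ M)) (x y : N) :
    (x, y) ∈ graphSub φ ↔ ∃ h : x ∈ M, Submodule.Quotient.mk y = φ ⟨x, h⟩ := Iff.rfl

theorem part2_mp (L : Submodule R (N × N))
    (ha : ∀ x y : N, (x, y) ∈ L → ((0 : N), x) ∈ L)
    (hb : ∀ x : N, x ∈ M ↔ ∃ y : N, (x, y) ∈ L)
    (hc : ∀ y : N, ((0 : N), y) ∈ L → y ∈ M) :
    ∃ φ : M →ₗ[R] (N ⧸ M), ∀ x y : N, (x, y) ∈ L ↔
      ∃ h : x ∈ M, Submodule.Quotient.mk y = φ ⟨x, h⟩ := by
  classical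
  have hex : ∀ x : M, ∃ y : N, ((x : N), y) ∈ L := fun x => (hb x).mp x.2
  have huniq : ∀ (x y y' : N), (x, y) ∈ L → (x, y') ∈ L →
      (Submodule.Quotient.mk y : N ⧸ M) = Submodule.Quotient.mk y' := by
    intro x y y' h h'
    rw [Submodule.Quotient.eq]
    apply hc
    have := L.sub_mem h h'
    simpa using this
  let f : M → N ⧸ M := fun x => Submodule.Quotient.mk (Classical.choose (hex x))
  have hf : ∀ (x : M) (y : N), ((x : N), y) ∈ L → f x = Submodule.Quotient.mk y := by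
    intro x y h
    exact huniq x _ _ (Classical.choose_spec (hex x)) h
  let φ : M →ₗ[R] (N ⧸ M) :=
    { toFun := f
      map_add' := by
        intro x x'
        have h1 := Classical.choose_spec (hex x)
        have h2 := Classical.choose_spec (hex x')
        have h3 := L.add_mem h1 h2
        rw [hf (x + x') _ (by simpa using h3)]
        rfl
      map_smul' := by
        intro c x
        have h1 := Classical.choose_spec (hex x)
        have h3 := L.smul_mem c h1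
        rw [hf (c • x) _ (by simpa using h3)]
        rfl }
  refine ⟨φ, ?_⟩
  intro x y
  constructor
  · intro h
    have hx : x ∈ M := (hb x).mpr ⟨y, h⟩
    refine ⟨hx, ?_⟩
    exact (hf ⟨x, hx⟩ y h).symm
  · rintro ⟨hx, e⟩
    have h1 := Classical.choose_spec (hex ⟨x, hx⟩)
    set y0 := Classical.choose (hex ⟨x, hx⟩) with hy0
    have e' : (Submodule.Quotient.mk y : N ⧸ M) = Submodule.Quotient.mk y0 := e
    rw [Submodule.Quotient.eq] at e'
    obtain ⟨z, hz⟩ := (hb _).mp e'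
    have h2 := ha _ _ hz
    have h3 := L.add_mem h1 h2
    simpa using h3

theorem part2_mpr (L : Submodule R (N × N)) (φ : M →ₗ[R] (N ⧸ M))
    (hφ : ∀ x y : N, (x, y) ∈ L ↔ ∃ h : x ∈ M, Submodule.Quotient.mk y = φ ⟨x, h⟩) :
    (∀ x y : N, (x, y) ∈ L → ((0 : N), x) ∈ L) ∧
        (∀ x : N, x ∈ M ↔ ∃ y : N, (x, y) ∈ L) ∧
        (∀ y : N, ((0 : N), y) ∈ L → y ∈ M) := by
  have h0 : ∀ h : (0 : N) ∈ M, φ ⟨0, h⟩ = 0 := by
    intro h
    have : (⟨0, h⟩ : M) = 0 := rfl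
    rw [this, map_zero]
  refine ⟨?_, ?_, ?_⟩
  · intro x y h
    obtain ⟨hx, -⟩ := (hφ x y).mp h
    rw [hφ]
    refine ⟨M.zero_mem, ?_⟩
    rw [h0, Submodule.Quotient.mk_eq_zero]
    exact hx
  · intro x
    constructor
    · intro hx
      obtain ⟨y, hy⟩ := Submodule.Quotient.mk_surjective M (φ ⟨x, hx⟩)
      exact ⟨y, (hφ x y).mpr ⟨hx, hy⟩⟩
    · rintro ⟨y, hy⟩
      exact ((hφ x y).mp hy).1
  · intro y h
    obtain ⟨h1, h2⟩ := (hφ 0 y).mp h
    rw [h0, Submodule.Quotient.mk_eq_zero] at h2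
    exact h2

theorem result
    (R : Type u) [CommRing R] (N : Type v) [AddCommGroup N] [Module R N] (M : Submodule R N) :
    (∀ φ : M →ₗ[R] (N ⧸ M), ∃! L : Submodule R (N × N),
        ∀ x y : N, (x, y) ∈ L ↔ ∃ h : x ∈ M, Submodule.Quotient.mk y = φ ⟨x, h⟩) ∧
    (∀ L : Submodule R (N × N),
      ((∀ x y : N, (x, y) ∈ L → ((0 : N), x) ∈ L) ∧
        (∀ x : N, x ∈ M ↔ ∃ y : N, (x, y) ∈ L) ∧
        (∀ y : N, ((0 : N), y) ∈ L → y ∈ M)) ↔
      ∃ φ : M →ₗ[R] (N ⧸ M), ∀ x y : N, (x, y) ∈ L ↔ ∃ h : x ∈ M, Submodule.Quotient.mk y = φ ⟨x, h⟩) := by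
  refine ⟨?_, ?_⟩
  · intro φ
    refine ⟨graphSub φ, mem_graphSub φ, ?_⟩
    intro L hL
    ext ⟨x, y⟩
    rw [hL, mem_graphSub]
  · intro L
    constructor
    · rintro ⟨ha, hb, hc⟩
      exact part2_mp L ha hb hc
    · rintro ⟨φ, hφ⟩
      exact part2_mpr L φ hφ

end Groth.Agent.S15135
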