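import Groth.Statements.S15140
import Groth.Agent.Lib.Helper70.FinFlatSch

set_option linter.style.haveILetI false

set_option autoImplicit false
universe u
open CategoryTheory CategoryTheory.Limits AlgebraicGeometry
open Models

namespace Groth.Agent.S15140

/-- Let R be a discrete valuation ring whose fraction field has characteristic zero and let X and Y be
relative curves over R: flat, of finite type and separated over Spec R, normal and integral, of
dimension two (pure relative dimension one; properness is not assumed). Let f : X → Y be a finite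
surjective morphism over R. Then there is an open subset V ⊆ Y such that the complement of V in Y
and the complement of f⁻¹(V) in X are finite sets of points at which the local rings have Krull
dimension two (closed points of the closed fibres), and f is flat over V. -/
theorem result (R : Type u) [CommRing R] [IsDomain R]
    [IsDiscreteValuationRing R] [CharZero (FractionRing R)]
    (X Y : Scheme.{u}) (pX : X ⟶ Spec (CommRingCat.of R)) (pY : Y ⟶ Spec (CommRingCat.of R))
    [Flat pX] [LocallyOfFiniteType pX] [QuasiCompact pX] [IsSeparated pX]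
    [Flat pY] [LocallyOfFiniteType pY] [QuasiCompact pY] [IsSeparated pY]
    [IsIntegral X] [IsIntegral Y] (hnX : Pi1.IsNormalScheme X) (hnY : Pi1.IsNormalScheme Y)
    (hdX : topologicalKrullDim X = 2) (hdY : topologicalKrullDim Y = 2)
    (f : X ⟶ Y) [IsFinite f] [Surjective f] (hf : f ≫ pY = pX) :
    ∃ V : Y.Opens, ((V : Set Y)ᶜ).Finite ∧ (∀ y : Y, y ∉ V → ringKrullDim (Y.presheaf.stalk y) = 2) ∧
      (((f ⁻¹ᵁ V : X.Opens) : Set X)ᶜ).Finite ∧ (∀ x : X, x ∉ f ⁻¹ᵁ V → ringKrullDim (X.presheaf.stalk x) = 2) ∧
      Flat (f ∣_ V) := by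
  classical
  haveI : IsLocallyNoetherian (Spec (CommRingCat.of R)) := inferInstance
  haveI : IsLocallyNoetherian X := LocallyOfFiniteType.isLocallyNoetherian pX
  haveI : IsLocallyNoetherian Y := LocallyOfFiniteType.isLocallyNoetherian pY
  haveI : CompactSpace Y := QuasiCompact.compactSpace_of_compactSpace pY
  haveI : IsNoetherian Y := { }
  have hnY' : ∀ y : Y, IsIntegrallyClosed (Y.presheaf.stalk y) := fun y => (hnY y).2
  have hdimY : ∀ y : Y, ringKrullDim (Y.presheaf.stalk y) ≤ 2 := fun y => by
    rw [ringKrullDim_stalk_eq_coheight, ← hdY]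
    exact Groth.Agent.Lib.Helper70.FinFlatSch.coheight_le_dim Y y
  have hdimX : ∀ x : X, ringKrullDim (X.presheaf.stalk x) ≤ 2 := fun x => by
    rw [ringKrullDim_stalk_eq_coheight, ← hdX]
    exact Groth.Agent.Lib.Helper70.FinFlatSch.coheight_le_dim X x
  set V := Groth.Agent.Lib.Helper70.FinFlatSch.flatOpen f with hV
  have hV2 : ∀ y : Y, y ∉ V → ringKrullDim (Y.presheaf.stalk y) = 2 := by
    intro y hy
    refine le_antisymm (hdimY y) ?_
    by_contra hlt
    apply hy
    haveI := hnY' y
    refine Groth.Agent.Lib.Helper70.FinFlatSch.mem_flatOpen_of_dim_le_one f y ?_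
    rw [ringKrullDim_stalk_eq_coheight] at hlt ⊢
    rw [not_le] at hlt
    have h1 : Order.coheight y < 2 := WithBot.coe_lt_coe.mp hlt
    have h2 : Order.coheight y ≤ 1 := by
      have : Order.coheight y + 1 ≤ 2 := Order.add_one_le_of_lt h1
      have h3 : (2 : ℕ∞) = 1 + 1 := by norm_num
      rw [h3] at this
      exact (ENat.add_le_add_iff_right ENat.one_ne_top).mp this
    exact WithBot.coe_le_coe.mpr h2
  have hfin : ((V : Set Y)ᶜ).Finite := by
    refine Groth.Agent.Lib.Helper70.FinFlatSch.finite_of_isClosed_of_coheight_eq _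
      V.isOpen.isClosed_compl 2 fun z hz => ?_
    have := hV2 z hz
    rw [ringKrullDim_stalk_eq_coheight] at this
    exact WithBot.coe_eq_coe.mp this
  refine ⟨V, hfin, hV2, ?_, ?_, Groth.Agent.Lib.Helper70.FinFlatSch.flat_restrict_flatOpen f⟩
  · exact f.finite_preimage hfin
  · intro x hx
    refine le_antisymm (hdimX x) ?_
    have h1 := Groth.Agent.Lib.Helper70.FinFlatSch.ringKrullDim_stalk_le_of_finite f hnY' x
    rw [hV2 (f.base x) hx] at h1
    exact h1

end Groth.Agent.S15140
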