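import Groth.Statements.S15146
import Mathlib

set_option autoImplicit false
universe u
open HilbZeta

namespace Groth.Agent.S15146

open PowerSeries in
theorem exists_mul_eq_of_order_le {k : Type u} [Field k] (f g : PowerSeries k) (l c : ℕ)
    (hf : f.order = (l : ℕ∞)) (hg : ((l + c : ℕ) : ℕ∞) ≤ g.order) :
    ∃ q : PowerSeries k, g = q * f ∧ ((c : ℕ) : ℕ∞) ≤ q.order := by
  have hf0 : f ≠ 0 := by
    intro h
    rw [h, order_zero] at hf
    exact ENat.top_ne_natCast _ hf
  have hl : f.order.toNat = l := by rw [hf]; rfl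
  have hu : constantCoeff (divXPowOrder f) ≠ 0 := by
    rw [Ne, constantCoeff_divXPowOrder_eq_zero_iff]
    exact hf0
  have hfe : X ^ l * divXPowOrder f = f := by
    rw [← hl]; exact X_pow_order_mul_divXPowOrder
  have hdvd : (X : PowerSeries k) ^ (l + c) ∣ g := by
    rw [X_pow_dvd_iff]
    intro m hm
    apply coeff_of_lt_order
    exact lt_of_lt_of_le (by exact_mod_cast hm) hg
  obtain ⟨g', hg'⟩ := hdvd
  refine ⟨X ^ c * g' * (divXPowOrder f)⁻¹, ?_, ?_⟩
  · have hinv : (divXPowOrder f)⁻¹ * divXPowOrder f = 1 := PowerSeries.inv_mul_cancel _ hu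
    calc g = X ^ (l + c) * g' := hg'
      _ = X ^ c * g' * X ^ l * ((divXPowOrder f)⁻¹ * divXPowOrder f) := by
          rw [hinv, pow_add]; ring
      _ = X ^ c * g' * (divXPowOrder f)⁻¹ * (X ^ l * divXPowOrder f) := by ring
      _ = X ^ c * g' * (divXPowOrder f)⁻¹ * f := by rw [hfe]
  · rw [mul_assoc]
    refine le_trans ?_ (le_order_mul _ _)
    rw [order_X_pow]
    exact le_self_add

theorem result (k : Type u) [Field k] (s : ℕ)
    (R : Subalgebra k (Fin s → PowerSeries k))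
    (hfin : Module.Finite k ((Fin s → PowerSeries k) ⧸ Subalgebra.toSubmodule R))
    (hloc : ∀ f ∈ R, ∀ i j : Fin s, PowerSeries.constantCoeff (f i) = PowerSeries.constantCoeff (f j))
    (c : Fin s → ℕ)
    (hc : ∀ f : Fin s → PowerSeries k,
      (∀ g : Fin s → PowerSeries k, g * f ∈ R) ↔ ∀ i, ((c i : ℕ) : ℕ∞) ≤ (f i).order)
    (J : Ideal ↥R) (hJ : Module.Finite k (↥R ⧸ J))
    (l : Fin s → ℕ) (hl : ∀ i : Fin s, ∃ f ∈ J, ((f : Fin s → PowerSeries k) i).order = ((l i : ℕ) : ℕ∞))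
    (g : Fin s → PowerSeries k) (hg : ∀ i : Fin s, ((l i + c i : ℕ) : ℕ∞) ≤ (g i).order) :
    ∃ hgR : g ∈ R, (⟨g, hgR⟩ : ↥R) ∈ J := by
  classical
  choose f hfJ hford using hl
  have hq : ∀ i, ∃ q : PowerSeries k, g i = q * ((f i : Fin s → PowerSeries k) i) ∧
      ((c i : ℕ) : ℕ∞) ≤ q.order :=
    fun i => exists_mul_eq_of_order_le _ _ _ _ (hford i) (hg i)
  choose q hq1 hq2 using hq
  have hcond : ∀ i, (Pi.single i (q i) : Fin s → PowerSeries k) ∈ R := by
    intro i
    have h1 : ∀ j, ((c j : ℕ) : ℕ∞) ≤ ((Pi.single i (q i) : Fin s → PowerSeries k) j).order := by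
      intro j
      by_cases hji : j = i
      · subst hji
        simpa using hq2 j
      · rw [Pi.single_eq_of_ne hji, PowerSeries.order_zero]
        exact le_top
    have := ((hc _).mpr h1) 1
    simpa using this
  have hsum : g = ∑ i, (Pi.single i (q i) : Fin s → PowerSeries k) * (f i : Fin s → PowerSeries k) := by
    funext j
    rw [Finset.sum_apply, Finset.sum_eq_single j]
    · simp [hq1 j]
    · intro b _ hb
      simp [Pi.single_eq_of_ne (Ne.symm hb)]
    · simp
  have hmemJ : (∑ i, (⟨Pi.single i (q i), hcond i⟩ : ↥R) * f i) ∈ J :=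
    J.sum_mem (fun i _ => J.mul_mem_left _ (hfJ i))
  have hval : ((∑ i, (⟨Pi.single i (q i), hcond i⟩ : ↥R) * f i : ↥R) : Fin s → PowerSeries k) = g := by
    rw [hsum]
    simp
  have hgR : g ∈ R := by rw [← hval]; exact Subtype.mem _
  refine ⟨hgR, ?_⟩
  have : (⟨g, hgR⟩ : ↥R) = ∑ i, (⟨Pi.single i (q i), hcond i⟩ : ↥R) * f i := by
    apply Subtype.ext
    exact hval.symm
  rw [this]
  exact hmemJ

end Groth.Agent.S15146
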