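import Groth.Statements.S15147
import Groth.Agent.S15146
import Mathlib

set_option autoImplicit false
universe u
open HilbZeta

namespace Groth.Agent.S15147

open PowerSeries in
theorem le_order_of_map_eq {k : Type u} [Field k] {s : ℕ}
    (R : Subalgebra k (Fin s → PowerSeries k)) (I : Ideal ↥R) (i : Fin s) (a : ℕ)
    (ha : Ideal.map ((Pi.evalAlgHom k (fun _ : Fin s => PowerSeries k) i).comp R.val) I =
      Ideal.span {PowerSeries.X ^ a}) (f : ↥R) (hf : f ∈ I) :
    ((a : ℕ) : ℕ∞) ≤ ((f : Fin s → PowerSeries k) i).order := by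
  have h1 : ((Pi.evalAlgHom k (fun _ : Fin s => PowerSeries k) i).comp R.val) f ∈
      Ideal.span {(PowerSeries.X : PowerSeries k) ^ a} := by
    rw [← ha]
    exact Ideal.mem_map_of_mem _ hf
  rw [Ideal.mem_span_singleton] at h1
  obtain ⟨q, hq⟩ := h1
  have h2 : (f : Fin s → PowerSeries k) i = X ^ a * q := hq
  rw [h2]
  refine le_trans ?_ (le_order_mul _ _)
  rw [order_X_pow]
  exact le_self_add

open PowerSeries in
theorem exists_order_eq {k : Type u} [Field k] {s : ℕ}
    (R : Subalgebra k (Fin s → PowerSeries k)) (I : Ideal ↥R) (i : Fin s) (a : ℕ)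
    (ha : Ideal.map ((Pi.evalAlgHom k (fun _ : Fin s => PowerSeries k) i).comp R.val) I =
      Ideal.span {PowerSeries.X ^ a}) :
    ∃ f ∈ I, ((f : Fin s → PowerSeries k) i).order = ((a : ℕ) : ℕ∞) := by
  by_contra hcon
  push Not at hcon
  have hle : Ideal.map ((Pi.evalAlgHom k (fun _ : Fin s => PowerSeries k) i).comp R.val) I ≤
      Ideal.span {(PowerSeries.X : PowerSeries k) ^ (a + 1)} := by
    rw [Ideal.map_le_iff_le_comap]
    intro f hf
    rw [Ideal.mem_comap, Ideal.mem_span_singleton, X_pow_dvd_iff]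
    intro m hm
    apply coeff_of_lt_order
    have h1 := le_order_of_map_eq R I i a ha f hf
    have h2 := hcon f hf
    have h3 : ((a : ℕ) : ℕ∞) < ((f : Fin s → PowerSeries k) i).order := lt_of_le_of_ne h1 (Ne.symm h2)
    have h4 : ((m : ℕ) : ℕ∞) ≤ a := by exact_mod_cast Nat.lt_succ_iff.mp hm
    exact lt_of_le_of_lt h4 h3
  have hmem : (PowerSeries.X : PowerSeries k) ^ a ∈ Ideal.span {(PowerSeries.X : PowerSeries k) ^ (a + 1)} := by
    apply hle
    rw [ha]
    exact Ideal.subset_span rfl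
  rw [Ideal.mem_span_singleton, X_pow_dvd_iff] at hmem
  have := hmem a (Nat.lt_succ_self a)
  simp [coeff_X_pow] at this

theorem result (k : Type u) [Field k] (s : ℕ)
    (R : Subalgebra k (Fin s → PowerSeries k))
    (hfin : Module.Finite k ((Fin s → PowerSeries k) ⧸ Subalgebra.toSubmodule R))
    (hloc : ∀ f ∈ R, ∀ i j : Fin s, PowerSeries.constantCoeff (f i) = PowerSeries.constantCoeff (f j))
    (c : Fin s → ℕ)
    (hc : ∀ f : Fin s → PowerSeries k,
      (∀ g : Fin s → PowerSeries k, g * f ∈ R) ↔ ∀ i, ((c i : ℕ) : ℕ∞) ≤ (f i).order)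
    (I : Ideal ↥R) (hI : Module.Finite k (↥R ⧸ I)) (a : Fin s → ℕ)
    (ha : (∀ i : Fin s, Ideal.map ((Pi.evalAlgHom k (fun _ : Fin s => PowerSeries k) i).comp R.val) I = Ideal.span {PowerSeries.X ^ (a i)})) :
    (∀ g : Fin s → PowerSeries k, (∀ i : Fin s, ((a i + c i : ℕ) : ℕ∞) ≤ (g i).order) →
      ∃ hgR : g ∈ R, (⟨g, hgR⟩ : ↥R) ∈ I) ∧
    (∀ f ∈ I, ∀ i : Fin s, ((a i : ℕ) : ℕ∞) ≤ ((f : Fin s → PowerSeries k) i).order) := by
  refine ⟨?_, ?_⟩
  · intro g hg
    exact Groth.Agent.S15146.result k s R hfin hloc c hc I hI a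
      (fun i => exists_order_eq R I i (a i) (ha i)) g hg
  · intro f hf i
    exact le_order_of_map_eq R I i (a i) (ha i) f hf

end Groth.Agent.S15147
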