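import Groth.Statements.S15148
import Groth.Agent.S15147
import Mathlib

set_option autoImplicit false
universe u
open HilbZeta

namespace Groth.Agent.S15148

section LinAlg

variable {K M : Type*} [Field K] [AddCommGroup M] [Module K M]

theorem finrank_quot_eq_add (A B : Submodule K M) (h : A ≤ B) [Module.Finite K (M ⧸ A)] :
    Module.finrank K (M ⧸ A) = Module.finrank K (M ⧸ B) + Module.finrank K (B.map A.mkQ) := by
  have e := Submodule.quotientQuotientEquivQuotient A B h
  rw [← e.finrank_eq]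
  exact (Submodule.finrank_quotient_add_finrank _).symm

theorem finrank_quot_le (A B : Submodule K M) (h : A ≤ B) [Module.Finite K (M ⧸ A)] :
    Module.finrank K (M ⧸ B) ≤ Module.finrank K (M ⧸ A) := by
  rw [finrank_quot_eq_add A B h]
  exact Nat.le_add_right _ _

theorem finrank_quot_lt (A B : Submodule K M) (h : A ≤ B) (hne : A ≠ B)
    [Module.Finite K (M ⧸ A)] :
    Module.finrank K (M ⧸ B) < Module.finrank K (M ⧸ A) := by
  rw [finrank_quot_eq_add A B h]
  have hpos : 0 < Module.finrank K (B.map A.mkQ) := by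
    rw [Module.finrank_pos_iff_exists_ne_zero]
    have : ¬ B ≤ A := fun h' => hne (le_antisymm h h')
    obtain ⟨b, hbB, hbA⟩ := Set.not_subset.mp this
    refine ⟨⟨A.mkQ b, Submodule.mem_map_of_mem hbB⟩, ?_⟩
    intro h0
    apply hbA
    have := congrArg Subtype.val h0
    simpa using this
  omega

theorem finite_quot_of_le (A B : Submodule K M) (h : A ≤ B) [Module.Finite K (M ⧸ A)] :
    Module.Finite K (M ⧸ B) :=
  Module.Finite.of_surjective (Submodule.mapQ A B LinearMap.id h) (by
    intro x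
    obtain ⟨y, rfl⟩ := Submodule.Quotient.mk_surjective _ x
    exact ⟨Submodule.Quotient.mk y, rfl⟩)

theorem finrank_quot_map_eq {N : Type*} [AddCommGroup N] [Module K N] (ι : N →ₗ[K] M)
    (hι : Function.Injective ι) (A : Submodule K N) [Module.Finite K (M ⧸ A.map ι)] :
    Module.finrank K (M ⧸ A.map ι) =
      Module.finrank K (M ⧸ LinearMap.range ι) + Module.finrank K (N ⧸ A) := by
  have hle : A.map ι ≤ LinearMap.range ι := by
    rintro _ ⟨x, -, rfl⟩
    exact ⟨x, rfl⟩
  rw [finrank_quot_eq_add (A.map ι) (LinearMap.range ι) hle]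
  congr 1
  let f : (N ⧸ A) →ₗ[K] (M ⧸ A.map ι) := A.mapQ (A.map ι) ι (Submodule.le_comap_map ι A)
  have hf : Function.Injective f := by
    rw [← LinearMap.ker_eq_bot, LinearMap.ker_eq_bot']
    intro x hx
    obtain ⟨y, rfl⟩ := Submodule.Quotient.mk_surjective _ x
    have h1 : f (Submodule.Quotient.mk y) = Submodule.Quotient.mk (ι y) := rfl
    rw [h1, Submodule.Quotient.mk_eq_zero] at hx
    obtain ⟨z, hz, hzy⟩ := hx
    rw [Submodule.Quotient.mk_eq_zero]
    rw [← hι hzy]
    exact hz
  have hrange : LinearMap.range f = (LinearMap.range ι).map (A.map ι).mkQ := by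
    ext x
    constructor
    · rintro ⟨y, rfl⟩
      obtain ⟨z, rfl⟩ := Submodule.Quotient.mk_surjective _ y
      exact ⟨ι z, ⟨z, rfl⟩, rfl⟩
    · rintro ⟨_, ⟨z, rfl⟩, rfl⟩
      exact ⟨Submodule.Quotient.mk z, rfl⟩
  rw [← hrange]
  exact LinearMap.finrank_range_of_inj hf

end LinAlg

section Trunc

variable {k : Type u} [Field k] {s : ℕ}

noncomputable def T (b : Fin s → ℕ) :
    (Fin s → PowerSeries k) →ₗ[k] ((i : Fin s) → (Fin (b i) → k)) where
  toFun g := fun i j => PowerSeries.coeff (j : ℕ) (g i)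
  map_add' := by intros; ext; simp
  map_smul' := by intros; ext; simp

noncomputable def Fsub (b : Fin s → ℕ) : Submodule k (Fin s → PowerSeries k) :=
  LinearMap.ker (T (k := k) b)

theorem mem_Fsub (b : Fin s → ℕ) (g : Fin s → PowerSeries k) :
    g ∈ Fsub b ↔ ∀ i, ((b i : ℕ) : ℕ∞) ≤ (g i).order := by
  rw [Fsub, LinearMap.mem_ker]
  constructor
  · intro h i
    apply PowerSeries.nat_le_order
    intro j hj
    have := congr_fun (congr_fun h i) ⟨j, hj⟩
    exact this
  · intro h
    ext i j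
    exact PowerSeries.coeff_of_lt_order _ (lt_of_lt_of_le (by exact_mod_cast j.2) (h i))

theorem T_surjective (b : Fin s → ℕ) : Function.Surjective (T (k := k) b) := by
  intro v
  refine ⟨fun i => PowerSeries.mk (fun j => if h : j < b i then v i ⟨j, h⟩ else 0), ?_⟩
  ext i j
  simp [T, PowerSeries.coeff_mk]

theorem finrank_quot_Fsub (b : Fin s → ℕ) :
    Module.finrank k ((Fin s → PowerSeries k) ⧸ Fsub (k := k) b) = ∑ i, b i := by
  have e := (T (k := k) b).quotKerEquivOfSurjective (T_surjective b)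
  rw [Fsub, e.finrank_eq, Module.finrank_pi_fintype]
  simp

theorem finite_quot_Fsub (b : Fin s → ℕ) :
    Module.Finite k ((Fin s → PowerSeries k) ⧸ Fsub (k := k) b) := by
  have e := (T (k := k) b).quotKerEquivOfSurjective (T_surjective b)
  exact Module.Finite.equiv e.symm

end Trunc

theorem result (k : Type u) [Field k] (s : ℕ)
    (R : Subalgebra k (Fin s → PowerSeries k))
    (hfin : Module.Finite k ((Fin s → PowerSeries k) ⧸ Subalgebra.toSubmodule R))
    (hloc : ∀ f ∈ R, ∀ i j : Fin s, PowerSeries.constantCoeff (f i) = PowerSeries.constantCoeff (f j))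
    (c : Fin s → ℕ)
    (hc : ∀ f : Fin s → PowerSeries k,
      (∀ g : Fin s → PowerSeries k, g * f ∈ R) ↔ ∀ i, ((c i : ℕ) : ℕ∞) ≤ (f i).order)
    (I : Ideal ↥R) (hI : Module.Finite k (↥R ⧸ I)) (a : Fin s → ℕ)
    (ha : (∀ i : Fin s, Ideal.map ((Pi.evalAlgHom k (fun _ : Fin s => PowerSeries k) i).comp R.val) I = Ideal.span {PowerSeries.X ^ (a i)})) :
    (∑ i, a i) ≤ Module.finrank k (↥R ⧸ I) + Module.finrank k ((Fin s → PowerSeries k) ⧸ Subalgebra.toSubmodule R) ∧
    Module.finrank k (↥R ⧸ I) + Module.finrank k ((Fin s → PowerSeries k) ⧸ Subalgebra.toSubmodule R) ≤ (∑ i, a i) + ∑ i, c i ∧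
    (R ≠ ⊤ → Module.finrank k (↥R ⧸ I) + Module.finrank k ((Fin s → PowerSeries k) ⧸ Subalgebra.toSubmodule R) < (∑ i, a i) + ∑ i, c i) := by
  obtain ⟨h47a, h47b⟩ := Groth.Agent.S15147.result k s R hfin hloc c hc I hI a ha
  -- the inclusion
  let ι : ↥R →ₗ[k] (Fin s → PowerSeries k) := R.val.toLinearMap
  have hι : Function.Injective ι := Subtype.val_injective
  have hrange : LinearMap.range ι = Subalgebra.toSubmodule R := by
    ext x
    constructor
    · rintro ⟨y, rfl⟩
      exact y.2
    · intro hx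
      exact ⟨⟨x, hx⟩, rfl⟩
  set I' : Submodule k (Fin s → PowerSeries k) := (I.restrictScalars k).map ι with hI'
  have hmemI' : ∀ g : Fin s → PowerSeries k, g ∈ I' ↔ ∃ hgR : g ∈ R, (⟨g, hgR⟩ : ↥R) ∈ I := by
    intro g
    constructor
    · rintro ⟨y, hy, rfl⟩
      exact ⟨y.2, hy⟩
    · rintro ⟨hgR, hg⟩
      exact ⟨⟨g, hgR⟩, hg, rfl⟩
  have hlow : Fsub (k := k) (fun i => a i + c i) ≤ I' := by
    intro g hg
    rw [mem_Fsub] at hg
    exact (hmemI' g).mpr (h47a g hg)
  have hhigh : I' ≤ Fsub (k := k) a := by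
    intro g hg
    obtain ⟨hgR, hgI⟩ := (hmemI' g).mp hg
    rw [mem_Fsub]
    exact h47b ⟨g, hgR⟩ hgI
  haveI := finite_quot_Fsub (k := k) (s := s) (fun i => a i + c i)
  haveI : Module.Finite k ((Fin s → PowerSeries k) ⧸ I') := finite_quot_of_le _ _ hlow
  have hsum : Module.finrank k ((Fin s → PowerSeries k) ⧸ I') =
      Module.finrank k ((Fin s → PowerSeries k) ⧸ Subalgebra.toSubmodule R) +
        Module.finrank k (↥R ⧸ I) := by
    rw [hI', finrank_quot_map_eq ι hι (I.restrictScalars k), hrange,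
      (Submodule.Quotient.restrictScalarsEquiv k I).finrank_eq]
  have h1 := finrank_quot_le I' (Fsub (k := k) a) hhigh
  have h2 := finrank_quot_le (Fsub (k := k) (fun i => a i + c i)) I' hlow
  rw [finrank_quot_Fsub] at h1 h2
  rw [Finset.sum_add_distrib] at h2
  refine ⟨by omega, by omega, ?_⟩
  intro hR
  have hne : Fsub (k := k) (fun i => a i + c i) ≠ I' := by
    intro heq
    apply hR
    have hc0 : ∀ i, c i = 0 := by
      intro i
      obtain ⟨f, hfI, hford⟩ := Groth.Agent.S15147.exists_order_eq R I i (a i) (ha i)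
      have hfI' : (f : Fin s → PowerSeries k) ∈ I' := (hmemI' _).mpr ⟨f.2, hfI⟩
      rw [← heq, mem_Fsub] at hfI'
      have := hfI' i
      rw [hford] at this
      have h3 : a i + c i ≤ a i := by exact_mod_cast this
      omega
    rw [eq_top_iff]
    intro g _
    have := (hc 1).mpr (fun i => by rw [hc0 i]; exact bot_le)
    simpa using this g
  have h3 := finrank_quot_lt (Fsub (k := k) (fun i => a i + c i)) I' hlow hne
  rw [finrank_quot_Fsub, Finset.sum_add_distrib] at h3
  omega

end Groth.Agent.S15148
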