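import Groth.Statements.S15149
import Groth.Agent.S15147
import Groth.Agent.S15148
import Mathlib

set_option autoImplicit false
universe u
open HilbZeta

namespace Groth.Agent.S15149

open Groth.Agent.S15148

section LinAlg

variable {K M : Type*} [Field K] [AddCommGroup M] [Module K M]

/-- the induced map on quotients -/
noncomputable def qmap {N : Type*} [AddCommGroup N] [Module K N] (ι : N →ₗ[K] M)
    (A : Submodule K N) : (N ⧸ A) →ₗ[K] (M ⧸ A.map ι) :=
  A.mapQ (A.map ι) ι (Submodule.le_comap_map ι A)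

theorem qmap_injective {N : Type*} [AddCommGroup N] [Module K N] (ι : N →ₗ[K] M)
    (hι : Function.Injective ι) (A : Submodule K N) : Function.Injective (qmap ι A) := by
  rw [← LinearMap.ker_eq_bot, LinearMap.ker_eq_bot']
  intro x hx
  obtain ⟨y, rfl⟩ := Submodule.Quotient.mk_surjective _ x
  have h1 : qmap ι A (Submodule.Quotient.mk y) = Submodule.Quotient.mk (ι y) := rfl
  rw [h1, Submodule.Quotient.mk_eq_zero] at hx
  obtain ⟨z, hz, hzy⟩ := hx
  rw [Submodule.Quotient.mk_eq_zero]
  rw [← hι hzy]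
  exact hz

theorem qmap_range {N : Type*} [AddCommGroup N] [Module K N] (ι : N →ₗ[K] M)
    (A : Submodule K N) :
    LinearMap.range (qmap ι A) = (LinearMap.range ι).map (A.map ι).mkQ := by
  ext x
  constructor
  · rintro ⟨y, rfl⟩
    obtain ⟨z, rfl⟩ := Submodule.Quotient.mk_surjective _ y
    exact ⟨ι z, ⟨z, rfl⟩, rfl⟩
  · rintro ⟨_, ⟨z, rfl⟩, rfl⟩
    exact ⟨Submodule.Quotient.mk z, rfl⟩

theorem finite_of_finite_map {N : Type*} [AddCommGroup N] [Module K N] (ι : N →ₗ[K] M)
    (hι : Function.Injective ι) (A : Submodule K N) [Module.Finite K (M ⧸ A.map ι)] :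
    Module.Finite K (N ⧸ A) :=
  Module.Finite.of_injective (qmap ι A) (qmap_injective ι hι A)

theorem finite_map_of_finite {N : Type*} [AddCommGroup N] [Module K N] (ι : N →ₗ[K] M)
    (A : Submodule K N) [Module.Finite K (N ⧸ A)] [Module.Finite K (M ⧸ LinearMap.range ι)] :
    Module.Finite K (M ⧸ A.map ι) := by
  have hle : A.map ι ≤ LinearMap.range ι := by
    rintro _ ⟨x, -, rfl⟩
    exact ⟨x, rfl⟩
  haveI : Module.Finite K ((LinearMap.range ι).map (A.map ι).mkQ) := by
    rw [← qmap_range]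
    exact Module.Finite.range _
  haveI : Module.Finite K ((M ⧸ A.map ι) ⧸ (LinearMap.range ι).map (A.map ι).mkQ) :=
    Module.Finite.equiv (Submodule.quotientQuotientEquivQuotient _ _ hle).symm
  exact Module.Finite.of_submodule_quotient ((LinearMap.range ι).map (A.map ι).mkQ)

end LinAlg


section Main

variable {k : Type u} [Field k] {s : ℕ}

/-- multiplication by `ξ` as a linear map -/
noncomputable def mulXi (j : Fin s) : (Fin s → PowerSeries k) →ₗ[k] (Fin s → PowerSeries k) :=
  LinearMap.mulLeft k (Pi.mulSingle j (PowerSeries.X : PowerSeries k))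

theorem mulXi_apply (j : Fin s) (g : Fin s → PowerSeries k) :
    mulXi j g = Pi.mulSingle j (PowerSeries.X : PowerSeries k) * g := rfl

theorem xi_apply_ne_zero (j i : Fin s) :
    (Pi.mulSingle j (PowerSeries.X : PowerSeries k) : Fin s → PowerSeries k) i ≠ 0 := by
  by_cases h : i = j
  · subst h
    rw [Pi.mulSingle_eq_same]
    exact PowerSeries.X_ne_zero
  · rw [Pi.mulSingle_eq_of_ne h]
    exact one_ne_zero

theorem mulXi_injective (j : Fin s) : Function.Injective (mulXi (k := k) j) := by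
  intro g g' h
  funext i
  have := congr_fun h i
  simp only [mulXi_apply, Pi.mul_apply] at this
  exact mul_left_cancel₀ (xi_apply_ne_zero j i) this

theorem range_mulXi (j : Fin s) :
    LinearMap.range (mulXi (k := k) j) = Fsub (k := k) (Pi.single j 1) := by
  classical
  ext g
  rw [mem_Fsub]
  constructor
  · rintro ⟨g', rfl⟩ i
    by_cases h : i = j
    · subst h
      simp only [mulXi_apply, Pi.mul_apply, Pi.mulSingle_eq_same, Pi.single_eq_same]
      refine le_trans ?_ (PowerSeries.le_order_mul _ _)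
      rw [PowerSeries.order_X]
      exact le_self_add
    · rw [Pi.single_eq_of_ne h]
      exact bot_le
  · intro h
    have hj := h j
    rw [Pi.single_eq_same] at hj
    have hdvd : (PowerSeries.X : PowerSeries k) ∣ g j := by
      rw [← pow_one (PowerSeries.X : PowerSeries k), PowerSeries.X_pow_dvd_iff]
      intro m hm
      apply PowerSeries.coeff_of_lt_order
      exact lt_of_lt_of_le (by exact_mod_cast hm) hj
    obtain ⟨q, hq⟩ := hdvd
    refine ⟨Function.update g j q, ?_⟩
    funext i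
    by_cases hi : i = j
    · subst hi
      simp [mulXi_apply, hq]
    · simp [mulXi_apply, Pi.mulSingle_eq_of_ne hi, Function.update_of_ne hi]

theorem finrank_quot_range_mulXi (j : Fin s) :
    Module.finrank k ((Fin s → PowerSeries k) ⧸ LinearMap.range (mulXi (k := k) j)) = 1 := by
  classical
  rw [range_mulXi, finrank_quot_Fsub]
  simp

theorem finite_quot_range_mulXi (j : Fin s) :
    Module.Finite k ((Fin s → PowerSeries k) ⧸ LinearMap.range (mulXi (k := k) j)) := by
  rw [range_mulXi]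
  exact finite_quot_Fsub _

variable (R : Subalgebra k (Fin s → PowerSeries k)) (c : Fin s → ℕ)
    (hc : ∀ f : Fin s → PowerSeries k,
      (∀ g : Fin s → PowerSeries k, g * f ∈ R) ↔ ∀ i, ((c i : ℕ) : ℕ∞) ≤ (f i).order)

include hc in
theorem single_mem (j : Fin s) (q : PowerSeries k) (hq : ((c j : ℕ) : ℕ∞) ≤ q.order) :
    (Pi.single j q : Fin s → PowerSeries k) ∈ R := by
  classical
  have h1 : ∀ i, ((c i : ℕ) : ℕ∞) ≤ ((Pi.single j q : Fin s → PowerSeries k) i).order := by
    intro i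
    by_cases hi : i = j
    · subst hi
      simpa using hq
    · rw [Pi.single_eq_of_ne hi, PowerSeries.order_zero]
      exact le_top
  have := ((hc _).mpr h1) 1
  simpa using this

include hc in
theorem xi_mul_mem (j : Fin s) (f : Fin s → PowerSeries k) (hf : f ∈ R)
    (hord : ((c j : ℕ) : ℕ∞) ≤ (f j).order) :
    Pi.mulSingle j (PowerSeries.X : PowerSeries k) * f ∈ R := by
  classical
  have hD : (Pi.single j ((PowerSeries.X - 1) * f j) : Fin s → PowerSeries k) ∈ R := by
    apply single_mem R c hc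
    refine le_trans hord (le_trans ?_ (PowerSeries.le_order_mul _ _))
    exact le_add_self
  have : Pi.mulSingle j (PowerSeries.X : PowerSeries k) * f =
      f + Pi.single j ((PowerSeries.X - 1) * f j) := by
    funext i
    by_cases hi : i = j
    · subst hi
      simp
      ring
    · simp [Pi.mulSingle_eq_of_ne hi, Pi.single_eq_of_ne hi]
  rw [this]
  exact R.add_mem hf hD

include hc in
theorem exists_eq_xi_mul (j : Fin s) (h : Fin s → PowerSeries k) (hh : h ∈ R)
    (hord : ((1 + c j : ℕ) : ℕ∞) ≤ (h j).order) :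
    ∃ f ∈ R, h = Pi.mulSingle j (PowerSeries.X : PowerSeries k) * f := by
  classical
  obtain ⟨q, hq1, hq2⟩ := Groth.Agent.S15146.exists_mul_eq_of_order_le
    (PowerSeries.X : PowerSeries k) (h j) 1 (c j) (by rw [PowerSeries.order_X]; rfl) hord
  have hD : (Pi.single j ((1 - PowerSeries.X) * q) : Fin s → PowerSeries k) ∈ R := by
    apply single_mem R c hc
    refine le_trans hq2 (le_trans ?_ (PowerSeries.le_order_mul _ _))
    exact le_add_self
  refine ⟨Function.update h j q, ?_, ?_⟩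
  · have : Function.update h j q = h + Pi.single j ((1 - PowerSeries.X) * q) := by
      funext i
      by_cases hi : i = j
      · subst hi
        simp [hq1]
        ring
      · simp [Function.update_of_ne hi, Pi.single_eq_of_ne hi]
    rw [this]
    exact R.add_mem hh hD
  · funext i
    by_cases hi : i = j
    · subst hi
      simp [hq1, mul_comm]
    · simp [Pi.mulSingle_eq_of_ne hi, Function.update_of_ne hi]

end Main


section Ideals

variable {k : Type u} [Field k] {s : ℕ} (R : Subalgebra k (Fin s → PowerSeries k))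

/-- image of an ideal of `R` in the ambient product, as a `k`-subspace -/
noncomputable def img (I : Ideal ↥R) : Submodule k (Fin s → PowerSeries k) :=
  (I.restrictScalars k).map R.val.toLinearMap

theorem coe_img (I : Ideal ↥R) :
    (img R I : Set (Fin s → PowerSeries k)) = Subtype.val '' (I : Set ↥R) := by
  ext g
  constructor
  · rintro ⟨y, hy, rfl⟩
    exact ⟨y, hy, rfl⟩
  · rintro ⟨y, hy, rfl⟩
    exact ⟨y, hy, rfl⟩

theorem img_eq_map (j : Fin s) (I J : Ideal ↥R)
    (hIJ : Subtype.val '' (J : Set ↥R) =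
      (fun f => Pi.mulSingle j (PowerSeries.X : PowerSeries k) * f) '' (Subtype.val '' (I : Set ↥R))) :
    img R J = (img R I).map (mulXi j) := by
  apply SetLike.coe_injective
  rw [coe_img, hIJ, Submodule.map_coe, coe_img]
  rfl

theorem map_eval_eq (j : Fin s) (I J : Ideal ↥R)
    (hIJ : Subtype.val '' (J : Set ↥R) =
      (fun f => Pi.mulSingle j (PowerSeries.X : PowerSeries k) * f) '' (Subtype.val '' (I : Set ↥R)))
    (i : Fin s) :
    Ideal.map ((Pi.evalAlgHom k (fun _ : Fin s => PowerSeries k) i).comp R.val) J =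
      Ideal.span {(Pi.mulSingle j (PowerSeries.X : PowerSeries k) : Fin s → PowerSeries k) i} *
        Ideal.map ((Pi.evalAlgHom k (fun _ : Fin s => PowerSeries k) i).comp R.val) I := by
  set φ := ((Pi.evalAlgHom k (fun _ : Fin s => PowerSeries k) i).comp R.val) with hφ
  have hφa : ∀ r : ↥R, φ r = (r : Fin s → PowerSeries k) i := fun r => rfl
  apply le_antisymm
  · rw [Ideal.map_le_iff_le_comap]
    intro h hh
    rw [Ideal.mem_comap, Ideal.mem_span_singleton_mul]
    have hmem : (h : Fin s → PowerSeries k) ∈ Subtype.val '' (J : Set ↥R) := ⟨h, hh, rfl⟩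
    rw [hIJ] at hmem
    obtain ⟨_, ⟨f, hf, rfl⟩, hfh⟩ := hmem
    refine ⟨φ f, Ideal.mem_map_of_mem _ hf, ?_⟩
    have := congr_fun hfh i
    simpa [hφa] using this
  · rw [Ideal.span_singleton_mul_le_iff]
    intro z hz
    refine Submodule.span_induction ?_ ?_ ?_ ?_ hz
    · rintro _ ⟨f, hf, rfl⟩
      have hmem : Pi.mulSingle j (PowerSeries.X : PowerSeries k) * (f : Fin s → PowerSeries k) ∈
          Subtype.val '' (J : Set ↥R) := by
        rw [hIJ]
        exact ⟨f, ⟨f, hf, rfl⟩, rfl⟩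
      obtain ⟨h, hh, hhf⟩ := hmem
      have h1 : (Pi.mulSingle j (PowerSeries.X : PowerSeries k) : Fin s → PowerSeries k) i * φ f
          = φ h := by
        have := congr_fun hhf i
        simpa [hφa] using this.symm
      rw [h1]
      exact Ideal.mem_map_of_mem _ hh
    · simp
    · intro x y _ _ hx hy
      rw [mul_add]
      exact Ideal.add_mem _ hx hy
    · intro a x _ hx
      rw [smul_eq_mul, mul_left_comm]
      exact Ideal.mul_mem_left _ _ hx

theorem range_val : LinearMap.range (R.val.toLinearMap) = Subalgebra.toSubmodule R := by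
  ext x
  constructor
  · rintro ⟨y, rfl⟩
    exact y.2
  · intro hx
    exact ⟨⟨x, hx⟩, rfl⟩

theorem finite_img_of_finite
    (hfin : Module.Finite k ((Fin s → PowerSeries k) ⧸ Subalgebra.toSubmodule R))
    (I : Ideal ↥R) (hI : Module.Finite k (↥R ⧸ I)) :
    Module.Finite k ((Fin s → PowerSeries k) ⧸ img R I) := by
  haveI : Module.Finite k (↥R ⧸ I.restrictScalars k) :=
    Module.Finite.equiv (Submodule.Quotient.restrictScalarsEquiv k I).symm
  haveI : Module.Finite k ((Fin s → PowerSeries k) ⧸ LinearMap.range (R.val.toLinearMap)) := by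
    rw [range_val]
    exact hfin
  exact finite_map_of_finite (R.val.toLinearMap) (I.restrictScalars k)

theorem colength_eq
    (hfin : Module.Finite k ((Fin s → PowerSeries k) ⧸ Subalgebra.toSubmodule R))
    (j : Fin s) (I J : Ideal ↥R)
    (hIJ : Subtype.val '' (J : Set ↥R) =
      (fun f => Pi.mulSingle j (PowerSeries.X : PowerSeries k) * f) '' (Subtype.val '' (I : Set ↥R)))
    (hJfin : Module.Finite k ((Fin s → PowerSeries k) ⧸ img R J)) :
    Module.Finite k (↥R ⧸ I) ∧ Module.Finite k (↥R ⧸ J) ∧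
      Module.finrank k (↥R ⧸ J) = Module.finrank k (↥R ⧸ I) + 1 := by
  have hJI := img_eq_map R j I J hIJ
  have hι : Function.Injective (R.val.toLinearMap) := Subtype.val_injective
  haveI hJ1 : Module.Finite k ((Fin s → PowerSeries k) ⧸ (img R I).map (mulXi j)) := by
    rw [← hJI]
    exact hJfin
  haveI hI1 : Module.Finite k ((Fin s → PowerSeries k) ⧸ img R I) :=
    finite_of_finite_map (mulXi j) (mulXi_injective j) (img R I)
  have e1 := finrank_quot_map_eq (mulXi j) (mulXi_injective j) (img R I)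
  rw [finrank_quot_range_mulXi, ← hJI] at e1
  haveI hI2 : Module.Finite k ((Fin s → PowerSeries k) ⧸
      (I.restrictScalars k).map R.val.toLinearMap) := hI1
  haveI hJ2 : Module.Finite k ((Fin s → PowerSeries k) ⧸
      (J.restrictScalars k).map R.val.toLinearMap) := hJfin
  have e2 := finrank_quot_map_eq (R.val.toLinearMap) hι (I.restrictScalars k)
  have e3 := finrank_quot_map_eq (R.val.toLinearMap) hι (J.restrictScalars k)
  rw [(Submodule.Quotient.restrictScalarsEquiv k I).finrank_eq] at e2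
  rw [(Submodule.Quotient.restrictScalarsEquiv k J).finrank_eq] at e3
  have hIf : Module.Finite k (↥R ⧸ I.restrictScalars k) :=
    finite_of_finite_map (R.val.toLinearMap) hι (I.restrictScalars k)
  have hJf : Module.Finite k (↥R ⧸ J.restrictScalars k) :=
    finite_of_finite_map (R.val.toLinearMap) hι (J.restrictScalars k)
  refine ⟨Module.Finite.equiv (Submodule.Quotient.restrictScalarsEquiv k I),
    Module.Finite.equiv (Submodule.Quotient.restrictScalarsEquiv k J), ?_⟩
  have e1' : Module.finrank k ((Fin s → PowerSeries k) ⧸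
      (J.restrictScalars k).map R.val.toLinearMap) = 1 + Module.finrank k ((Fin s → PowerSeries k) ⧸
      (I.restrictScalars k).map R.val.toLinearMap) := e1
  omega

end Ideals


section Final

variable {k : Type u} [Field k] {s : ℕ}

theorem xi_mul_pow (j i : Fin s) (a : Fin s → ℕ) :
    (Pi.mulSingle j (PowerSeries.X : PowerSeries k) : Fin s → PowerSeries k) i *
      PowerSeries.X ^ (a i) = PowerSeries.X ^ ((Function.update a j (a j + 1)) i) := by
  by_cases hi : i = j
  · subst hi
    rw [Pi.mulSingle_eq_same, Function.update_self, pow_succ']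
  · rw [Pi.mulSingle_eq_of_ne hi, Function.update_of_ne hi, one_mul]

theorem partA (R : Subalgebra k (Fin s → PowerSeries k))
    (hfin : Module.Finite k ((Fin s → PowerSeries k) ⧸ Subalgebra.toSubmodule R))
    (hloc : ∀ f ∈ R, ∀ i j : Fin s, PowerSeries.constantCoeff (f i) = PowerSeries.constantCoeff (f j))
    (c : Fin s → ℕ)
    (hc : ∀ f : Fin s → PowerSeries k,
      (∀ g : Fin s → PowerSeries k, g * f ∈ R) ↔ ∀ i, ((c i : ℕ) : ℕ∞) ≤ (f i).order)
    (j : Fin s) (d : ℕ) (a : Fin s → ℕ) (hj : c j ≤ a j)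
    (I : Ideal ↥R) (hIfin : Module.Finite k (↥R ⧸ I)) (hId : Module.finrank k (↥R ⧸ I) = d)
    (hIa : ∀ i : Fin s, Ideal.map ((Pi.evalAlgHom k (fun _ : Fin s => PowerSeries k) i).comp R.val) I = Ideal.span {PowerSeries.X ^ (a i)}) :
    ∃ J : Ideal ↥R, (Module.Finite k (↥R ⧸ J) ∧ Module.finrank k (↥R ⧸ J) = d + 1 ∧
      (∀ i : Fin s, Ideal.map ((Pi.evalAlgHom k (fun _ : Fin s => PowerSeries k) i).comp R.val) J = Ideal.span {PowerSeries.X ^ ((Function.update a j (a j + 1)) i)})) ∧
      (Subtype.val '' (J : Set ↥R)) = (fun f => Pi.mulSingle j PowerSeries.X * f) '' (Subtype.val '' (I : Set ↥R)) := by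
  obtain ⟨-, h47b⟩ := Groth.Agent.S15147.result k s R hfin hloc c hc I hIfin a hIa
  have hordI : ∀ f ∈ I, ((c j : ℕ) : ℕ∞) ≤ ((f : Fin s → PowerSeries k) j).order := by
    intro f hf
    refine le_trans ?_ (h47b f hf j)
    exact_mod_cast hj
  obtain ⟨J, hJmem⟩ : ∃ J : Ideal ↥R, ∀ h : ↥R, h ∈ J ↔ ∃ f ∈ I, (h : Fin s → PowerSeries k) =
        Pi.mulSingle j (PowerSeries.X : PowerSeries k) * (f : Fin s → PowerSeries k) :=
    ⟨{ carrier := {h : ↥R | ∃ f ∈ I, (h : Fin s → PowerSeries k) =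
        Pi.mulSingle j (PowerSeries.X : PowerSeries k) * (f : Fin s → PowerSeries k)}
       add_mem' := by
        rintro h h' ⟨f, hf, e⟩ ⟨f', hf', e'⟩
        refine ⟨f + f', I.add_mem hf hf', ?_⟩
        push_cast
        rw [e, e', mul_add]
       zero_mem' := ⟨0, I.zero_mem, by simp⟩
       smul_mem' := by
        rintro r h ⟨f, hf, e⟩
        refine ⟨r * f, I.mul_mem_left r hf, ?_⟩
        rw [smul_eq_mul]
        push_cast
        rw [e, mul_left_comm] }, fun h => Iff.rfl⟩
  have hIJ : Subtype.val '' (J : Set ↥R) =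
      (fun f => Pi.mulSingle j (PowerSeries.X : PowerSeries k) * f) '' (Subtype.val '' (I : Set ↥R)) := by
    ext g
    constructor
    · rintro ⟨h, hh, rfl⟩
      obtain ⟨f, hf, e⟩ := (hJmem h).mp hh
      exact ⟨f, ⟨f, hf, rfl⟩, e.symm⟩
    · rintro ⟨_, ⟨f, hf, rfl⟩, rfl⟩
      have hmem := xi_mul_mem R c hc j f f.2 (hordI f hf)
      exact ⟨⟨_, hmem⟩, (hJmem _).mpr ⟨f, hf, rfl⟩, rfl⟩
  have hI1 := finite_img_of_finite R hfin I hIfin
  have hJ1 : Module.Finite k ((Fin s → PowerSeries k) ⧸ img R J) := by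
    rw [img_eq_map R j I J hIJ]
    exact @finite_map_of_finite k _ _ _ _ _ _ _ (mulXi j) (img R I) hI1
      (finite_quot_range_mulXi j)
  obtain ⟨-, hJfin, hJd⟩ := colength_eq R hfin j I J hIJ hJ1
  refine ⟨J, ⟨hJfin, by rw [hJd, hId], ?_⟩, hIJ⟩
  intro i
  rw [map_eval_eq R j I J hIJ i, hIa i, Ideal.span_singleton_mul_span_singleton, xi_mul_pow]

theorem partB (R : Subalgebra k (Fin s → PowerSeries k))
    (hfin : Module.Finite k ((Fin s → PowerSeries k) ⧸ Subalgebra.toSubmodule R))
    (hloc : ∀ f ∈ R, ∀ i j : Fin s, PowerSeries.constantCoeff (f i) = PowerSeries.constantCoeff (f j))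
    (c : Fin s → ℕ)
    (hc : ∀ f : Fin s → PowerSeries k,
      (∀ g : Fin s → PowerSeries k, g * f ∈ R) ↔ ∀ i, ((c i : ℕ) : ℕ∞) ≤ (f i).order)
    (j : Fin s) (d : ℕ) (a : Fin s → ℕ) (hj : c j ≤ a j)
    (J : Ideal ↥R) (hJfin : Module.Finite k (↥R ⧸ J)) (hJd : Module.finrank k (↥R ⧸ J) = d + 1)
    (hJa : ∀ i : Fin s, Ideal.map ((Pi.evalAlgHom k (fun _ : Fin s => PowerSeries k) i).comp R.val) J = Ideal.span {PowerSeries.X ^ ((Function.update a j (a j + 1)) i)}) :
    ∃ I : Ideal ↥R, (Module.Finite k (↥R ⧸ I) ∧ Module.finrank k (↥R ⧸ I) = d ∧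
      (∀ i : Fin s, Ideal.map ((Pi.evalAlgHom k (fun _ : Fin s => PowerSeries k) i).comp R.val) I = Ideal.span {PowerSeries.X ^ (a i)})) ∧
      (Subtype.val '' (J : Set ↥R)) = (fun f => Pi.mulSingle j PowerSeries.X * f) '' (Subtype.val '' (I : Set ↥R)) := by
  obtain ⟨-, h47b⟩ := Groth.Agent.S15147.result k s R hfin hloc c hc J hJfin
    (Function.update a j (a j + 1)) hJa
  have hordJ : ∀ h ∈ J, ((1 + c j : ℕ) : ℕ∞) ≤ ((h : Fin s → PowerSeries k) j).order := by
    intro h hh
    refine le_trans ?_ (h47b h hh j)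
    rw [Function.update_self]
    exact_mod_cast (by omega : 1 + c j ≤ a j + 1)
  obtain ⟨I, hImem⟩ : ∃ I : Ideal ↥R, ∀ f : ↥R, f ∈ I ↔ ∃ h ∈ J, (h : Fin s → PowerSeries k) =
        Pi.mulSingle j (PowerSeries.X : PowerSeries k) * (f : Fin s → PowerSeries k) :=
    ⟨{ carrier := {f : ↥R | ∃ h ∈ J, (h : Fin s → PowerSeries k) =
        Pi.mulSingle j (PowerSeries.X : PowerSeries k) * (f : Fin s → PowerSeries k)}
       add_mem' := by
        rintro f f' ⟨h, hh, e⟩ ⟨h', hh', e'⟩
        refine ⟨h + h', J.add_mem hh hh', ?_⟩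
        push_cast
        rw [e, e', mul_add]
       zero_mem' := ⟨0, J.zero_mem, by simp⟩
       smul_mem' := by
        rintro r f ⟨h, hh, e⟩
        refine ⟨r * h, J.mul_mem_left r hh, ?_⟩
        rw [smul_eq_mul]
        push_cast
        rw [e, mul_left_comm] }, fun f => Iff.rfl⟩
  have hIJ : Subtype.val '' (J : Set ↥R) =
      (fun f => Pi.mulSingle j (PowerSeries.X : PowerSeries k) * f) '' (Subtype.val '' (I : Set ↥R)) := by
    ext g
    constructor
    · rintro ⟨h, hh, rfl⟩
      obtain ⟨f, hfR, hf⟩ := exists_eq_xi_mul R c hc j h h.2 (hordJ h hh)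
      exact ⟨f, ⟨⟨f, hfR⟩, (hImem _).mpr ⟨h, hh, hf⟩, rfl⟩, hf.symm⟩
    · rintro ⟨_, ⟨f, hf, rfl⟩, rfl⟩
      obtain ⟨h, hh, e⟩ := (hImem f).mp hf
      exact ⟨h, hh, e⟩
  have hJ1 := finite_img_of_finite R hfin J hJfin
  obtain ⟨hIfin, -, hd⟩ := colength_eq R hfin j I J hIJ hJ1
  refine ⟨I, ⟨hIfin, by omega, ?_⟩, hIJ⟩
  intro i
  have h1 := map_eval_eq R j I J hIJ i
  rw [hJa i, ← xi_mul_pow, ← Ideal.span_singleton_mul_span_singleton] at h1
  exact ((Ideal.span_singleton_mul_right_inj (xi_apply_ne_zero j i)).mp h1).symm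

end Final

theorem result (k : Type u) [Field k] (s : ℕ)
    (R : Subalgebra k (Fin s → PowerSeries k))
    (hfin : Module.Finite k ((Fin s → PowerSeries k) ⧸ Subalgebra.toSubmodule R))
    (hloc : ∀ f ∈ R, ∀ i j : Fin s, PowerSeries.constantCoeff (f i) = PowerSeries.constantCoeff (f j))
    (c : Fin s → ℕ)
    (hc : ∀ f : Fin s → PowerSeries k,
      (∀ g : Fin s → PowerSeries k, g * f ∈ R) ↔ ∀ i, ((c i : ℕ) : ℕ∞) ≤ (f i).order)
    (j : Fin s) (d : ℕ) (a : Fin s → ℕ) (hj : c j ≤ a j) :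
    (∀ I ∈ {I : Ideal ↥R | Module.Finite k (↥R ⧸ I) ∧ Module.finrank k (↥R ⧸ I) = d ∧ (∀ i : Fin s, Ideal.map ((Pi.evalAlgHom k (fun _ : Fin s => PowerSeries k) i).comp R.val) I = Ideal.span {PowerSeries.X ^ (a i)})},
      ∃ J ∈ {I : Ideal ↥R | Module.Finite k (↥R ⧸ I) ∧ Module.finrank k (↥R ⧸ I) = d + 1 ∧ (∀ i : Fin s, Ideal.map ((Pi.evalAlgHom k (fun _ : Fin s => PowerSeries k) i).comp R.val) I = Ideal.span {PowerSeries.X ^ ((Function.update a j (a j + 1)) i)})},
        (Subtype.val '' (J : Set ↥R)) = (fun f => Pi.mulSingle j PowerSeries.X * f) '' (Subtype.val '' (I : Set ↥R))) ∧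
    (∀ J ∈ {I : Ideal ↥R | Module.Finite k (↥R ⧸ I) ∧ Module.finrank k (↥R ⧸ I) = d + 1 ∧ (∀ i : Fin s, Ideal.map ((Pi.evalAlgHom k (fun _ : Fin s => PowerSeries k) i).comp R.val) I = Ideal.span {PowerSeries.X ^ ((Function.update a j (a j + 1)) i)})},
      ∃ I ∈ {I : Ideal ↥R | Module.Finite k (↥R ⧸ I) ∧ Module.finrank k (↥R ⧸ I) = d ∧ (∀ i : Fin s, Ideal.map ((Pi.evalAlgHom k (fun _ : Fin s => PowerSeries k) i).comp R.val) I = Ideal.span {PowerSeries.X ^ (a i)})},
        (Subtype.val '' (J : Set ↥R)) = (fun f => Pi.mulSingle j PowerSeries.X * f) '' (Subtype.val '' (I : Set ↥R))) := by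
  refine ⟨?_, ?_⟩
  · rintro I ⟨hIfin, hId, hIa⟩
    obtain ⟨J, hJ, hIJ⟩ := partA R hfin hloc c hc j d a hj I hIfin hId hIa
    exact ⟨J, hJ, hIJ⟩
  · rintro J ⟨hJfin, hJd, hJa⟩
    obtain ⟨I, hI, hIJ⟩ := partB R hfin hloc c hc j d a hj J hJfin hJd hJa
    exact ⟨I, hI, hIJ⟩

end Groth.Agent.S15149
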