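import Groth.Statements.S15150
import Mathlib

set_option autoImplicit false
universe u
open HilbZeta

namespace Groth.Agent.S15150

open TensorProduct

/-- In a finite-dimensional commutative algebra of dimension `d` over a field, the `d`-th power of
the nilradical vanishes. -/
theorem nilradical_pow_finrank_eq_bot (K : Type*) [Field K] (C : Type*) [CommRing C] [Algebra K C]
    [Module.Finite K C] (d : ℕ) (hd : Module.finrank K C = d) : (nilradical C) ^ d = ⊥ := by
  haveI : IsArtinianRing C := IsArtinianRing.of_finite K C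
  set N := nilradical C with hN
  obtain ⟨j, hj⟩ : ∃ j : ℕ, N ^ j = ⊥ := IsArtinianRing.isNilpotent_nilradical
  have hstab : ∀ k : ℕ, N ^ (k + 1) = N ^ k → N ^ k = ⊥ := by
    intro k hk
    have h1 : ∀ i : ℕ, N ^ (k + i) = N ^ k := by
      intro i
      induction i with
      | zero => rfl
      | succ i ih =>
        rw [show k + (i + 1) = (k + 1) + i by ring, pow_add, hk, ← pow_add, ih]
    rw [← h1 j, pow_add, hj, Ideal.mul_bot]
  have key : ∀ k : ℕ, N ^ k = ⊥ ∨
      Module.finrank K ((N ^ k).restrictScalars K) + k ≤ d := by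
    intro k
    induction k with
    | zero =>
      right
      rw [pow_zero, Ideal.one_eq_top, Submodule.restrictScalars_top, finrank_top, hd]
      exact le_refl _
    | succ k ih =>
      rcases ih with h | h
      · left
        rw [pow_succ, h, Ideal.bot_mul]
      · by_cases hEq : N ^ (k + 1) = N ^ k
        · left
          rw [hEq]
          exact hstab k hEq
        · right
          have hle : N ^ (k + 1) ≤ N ^ k := Ideal.pow_le_pow_right (Nat.le_succ k)
          have hlt : (N ^ (k + 1)).restrictScalars K < (N ^ k).restrictScalars K := by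
            refine lt_of_le_of_ne (fun x hx => hle hx) ?_
            intro hEq'
            apply hEq
            exact Submodule.restrictScalars_injective K C C hEq'
          have := Submodule.finrank_lt_finrank_of_lt hlt
          omega
  rcases key d with h | h
  · exact h
  · have h0 : Module.finrank K ((N ^ d).restrictScalars K) = 0 := by omega
    rw [Submodule.finrank_eq_zero] at h0
    apply Submodule.restrictScalars_injective K C C
    rw [h0]
    rfl

/-- Over a reduced ring, an element of a projective module which dies in every fibre is zero. -/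
theorem eq_zero_of_forall_fiber_eq_zero (A : Type u) [CommRing A] [IsReduced A]
    (B : Type u) [AddCommGroup B] [Module A B] [Module.Projective A B] (b : B)
    (h : ∀ p : PrimeSpectrum A, (1 : p.asIdeal.ResidueField) ⊗ₜ[A] b = 0) : b = 0 := by
  by_contra hb
  obtain ⟨φ, hφ⟩ := Module.Projective.exists_dual_ne_zero A hb
  have hnil : ¬ IsNilpotent (φ b) := fun hn => hφ hn.eq_zero
  rw [nilpotent_iff_mem_prime] at hnil
  push Not at hnil
  obtain ⟨J, hJ, hbJ⟩ := hnil
  have h1 := h ⟨J, hJ⟩
  have h2 := congrArg (LinearMap.lTensor J.ResidueField φ) h1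
  rw [LinearMap.lTensor_tmul, map_zero] at h2
  have h3 := congrArg (TensorProduct.rid A J.ResidueField) h2
  rw [TensorProduct.rid_tmul, map_zero] at h3
  apply hbJ
  rw [← Ideal.algebraMap_residueField_eq_zero, Algebra.algebraMap_eq_smul_one]
  exact h3

theorem result (A : Type u) [CommRing A] [IsReduced A]
    (S : Type u) [CommRing S] [Algebra A S] (π : S →ₐ[A] A) (I : Ideal S) (d : ℕ)
    [Module.Finite A (S ⧸ I)] [Module.Projective A (S ⧸ I)]
    (hrank : ∀ p : PrimeSpectrum A, Module.rankAtStalk (R := A) (S ⧸ I) p = d)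
    (hsupp : RingHom.ker π ≤ I.radical) :
    RingHom.ker π ^ d ≤ I := by
  intro x hx
  rw [← Ideal.Quotient.eq_zero_iff_mem]
  apply eq_zero_of_forall_fiber_eq_zero A (S ⧸ I)
  intro p
  set K := p.asIdeal.ResidueField with hK
  let C := K ⊗[A] (S ⧸ I)
  have hfin : Module.finrank K C = d := by
    rw [← hrank p, Module.rankAtStalk_eq]
  let ψ : S →+* C :=
    (Algebra.TensorProduct.includeRight : (S ⧸ I) →ₐ[A] K ⊗[A] (S ⧸ I)).toRingHom.comp
      (Ideal.Quotient.mk I)
  have hψ : ∀ s : S, ψ s = (1 : K) ⊗ₜ[A] (Ideal.Quotient.mk I s) := fun s => rfl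
  have hmap : Ideal.map ψ (RingHom.ker π) ≤ nilradical C := by
    rw [Ideal.map_le_iff_le_comap]
    intro y hy
    obtain ⟨n, hn⟩ := hsupp hy
    rw [Ideal.mem_comap, mem_nilradical]
    refine ⟨n, ?_⟩
    rw [← map_pow, hψ, Ideal.Quotient.eq_zero_iff_mem.mpr hn, TensorProduct.tmul_zero]
  have hmem : ψ x ∈ (nilradical C) ^ d := by
    have h1 : ψ x ∈ Ideal.map ψ (RingHom.ker π ^ d) := Ideal.mem_map_of_mem ψ hx
    rw [Ideal.map_pow] at h1
    exact Ideal.pow_right_mono hmap d h1
  rw [nilradical_pow_finrank_eq_bot K C d hfin] at hmem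
  exact hmem

end Groth.Agent.S15150
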