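import Groth.Statements.S15151
import Mathlib

set_option autoImplicit false
universe u
open CategoryTheory AlgebraicGeometry
open HilbZeta

namespace Groth.Agent.S15151

theorem eq_zero_of_flat {R C : Type*} [CommRing R] [IsDomain R] [CommRing C] (χ : R →+* C)
    (hχ : χ.Flat) (r : R) (hr : r ≠ 0) (c : C) (h : χ r * c = 0) : c = 0 := by
  letI := χ.toAlgebra
  have hflat : Module.Flat R C := hχ
  have hreg : IsSMulRegular C r :=
    Module.Flat.isSMulRegular_of_nonZeroDivisors (mem_nonZeroDivisors_of_ne_zero hr)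
  apply hreg
  change r • c = r • (0 : C)
  rw [smul_zero, Algebra.smul_def]
  exact h

theorem flat_of_torsionFree {R B : Type*} [CommRing R] [IsDedekindDomain R]
    [CommRing B] (φ : R →+* B)
    (h : ∀ r : R, r ≠ 0 → ∀ b : B, φ r * b = 0 → b = 0) : φ.Flat := by
  letI := φ.toAlgebra
  change Module.Flat R B
  have : Module.IsTorsionFree R B := by
    refine ⟨fun r hr b₁ b₂ hb => ?_⟩
    have hr0 : r ≠ 0 := hr.ne_zero
    have h1 : φ r * (b₁ - b₂) = 0 := by
      have : r • b₁ = r • b₂ := hb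
      rw [Algebra.smul_def, Algebra.smul_def] at this
      rw [mul_sub]
      exact sub_eq_zero.mpr this
    exact sub_eq_zero.mp (h r hr0 _ h1)
  infer_instance

theorem result (k : Type u) [Field k]
    (X Y : Scheme.{u}) (f : X ⟶ Y) (g : Y ⟶ Spec (CommRingCat.of (Polynomial k)))
    [QuasiCompact f] (hker : f.ker = ⊥) [Flat (f ≫ g)] : Flat g := by
  have := HasRingHomProperty.HasAffineProperty @Flat
  rw [HasAffineProperty.iff_of_isAffine (P := @Flat)]
  intro U
  rw [← RingHom.Flat.respectsIso.cancel_left_isIso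
    (Scheme.ΓSpecIso (CommRingCat.of (Polynomial k))).inv]
  apply flat_of_torsionFree (R := Polynomial k)
  intro r hr b hb
  -- it suffices to show the image in Γ(X, f⁻¹U) vanishes
  have hkerU : RingHom.ker (f.app U.1).hom = ⊥ := by
    rw [← Scheme.Hom.ker_apply f U, hker]
    rfl
  suffices hs : (f.app U.1).hom b = 0 by
    have : b ∈ RingHom.ker (f.app U.1).hom := hs
    rw [hkerU] at this
    exact this
  -- local vanishing
  have hloc : ∀ (W : X.affineOpens) (e : W.1 ≤ f ⁻¹ᵁ U.1), (f.appLE U.1 W.1 e).hom b = 0 := by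
    intro W e
    have hflatW : ((f ≫ g).appLE ⊤ W.1 (by simp)).hom.Flat :=
      Scheme.Hom.flat_appLE (f ≫ g) (isAffineOpen_top _) W.2 _
    have hcomp : g.appLE ⊤ U.1 (by simp) ≫ f.appLE U.1 W.1 e = (f ≫ g).appLE ⊤ W.1 (by simp) :=
      Scheme.Hom.appLE_comp_appLE f g ⊤ U.1 W.1 _ e
    have hflatW' : (((f ≫ g).appLE ⊤ W.1 (by simp)).hom.comp
        (Scheme.ΓSpecIso (CommRingCat.of (Polynomial k))).inv.hom).Flat :=
      (RingHom.Flat.respectsIso.cancel_left_isIso _ _).mpr hflatW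
    apply eq_zero_of_flat _ hflatW' r hr
    have h1 := congrArg (f.appLE U.1 W.1 e).hom hb
    rw [map_mul, map_zero] at h1
    rw [← h1]
    congr 1
    rw [← hcomp]
    rfl
  -- glue
  refine TopCat.Sheaf.eq_of_locally_eq' X.sheaf
    (fun i : {W : X.affineOpens // W.1 ≤ f ⁻¹ᵁ U.1} => i.1.1) (f ⁻¹ᵁ U.1)
    (fun i => homOfLE i.2) ?_ _ 0 ?_
  · intro x hx
    obtain ⟨_, ⟨W, hW, rfl⟩, hxW, hWU⟩ :=
      X.isBasis_affineOpens.exists_subset_of_mem_open hx (f ⁻¹ᵁ U.1).2
    exact TopologicalSpace.Opens.mem_iSup.mpr ⟨⟨⟨W, hW⟩, hWU⟩, hxW⟩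
  · intro i
    refine Eq.trans ?_ (map_zero _).symm
    exact hloc i.1 i.2

end Groth.Agent.S15151
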