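import Groth.Statements.S15152
import Mathlib

set_option autoImplicit false
universe u
open HilbZeta

set_option linter.unusedSectionVars false

namespace Groth.Agent.S15152Aux

open Polynomial

variable {k : Type u} [Field k] {s : ℕ}

theorem ord_ge_of_dvd (q : Polynomial k) (n : ℕ) (h : X ^ n ∣ q) :
    (n : ℕ∞) ≤ (q : PowerSeries k).order := by
  obtain ⟨q', rfl⟩ := h
  apply PowerSeries.le_order
  intro m hm
  have hm' : m < n := by exact_mod_cast hm
  rw [Polynomial.coeff_coe, Polynomial.coeff_X_pow_mul']
  rw [if_neg (by omega)]

theorem single_mem_span_aux (p : Polynomial k) (n : ℕ) (hp : ∀ a < n, p.coeff a = 0) :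
    X ^ n ∣ p := by
  rw [Polynomial.X_pow_dvd_iff]
  exact hp

theorem order_sub_trunc (φ : PowerSeries k) (n : ℕ) :
    (n : ℕ∞) ≤ (φ - ((PowerSeries.trunc n φ : Polynomial k) : PowerSeries k)).order := by
  apply PowerSeries.le_order
  intro m hm
  have hm' : m < n := by exact_mod_cast hm
  rw [map_sub, Polynomial.coeff_coe, PowerSeries.coeff_trunc, if_pos hm', sub_self]

/-- `Fin s → k[x]` is a finitely generated `k`-algebra -/
theorem pi_fg : (⊤ : Subalgebra k (Fin s → Polynomial k)).FG := by
  classical
  refine ⟨(Finset.univ.image fun i : Fin s => (Pi.single i 1 : Fin s → Polynomial k)) ∪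
    (Finset.univ.image fun i : Fin s => (Pi.single i X : Fin s → Polynomial k)), ?_⟩
  rw [eq_top_iff]
  intro g _
  set B := Algebra.adjoin k (((Finset.univ.image fun i : Fin s =>
    (Pi.single i 1 : Fin s → Polynomial k)) ∪
    (Finset.univ.image fun i : Fin s => (Pi.single i X : Fin s → Polynomial k)) : Finset _) :
    Set (Fin s → Polynomial k)) with hB
  have h1 : ∀ i : Fin s, (Pi.single i 1 : Fin s → Polynomial k) ∈ B := by
    intro i
    apply Algebra.subset_adjoin
    simp
  have hX : ∀ i : Fin s, (Pi.single i X : Fin s → Polynomial k) ∈ B := by
    intro i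
    apply Algebra.subset_adjoin
    simp
  have hmon : ∀ (i : Fin s) (a : ℕ) (r : k),
      (Pi.single i (monomial a r) : Fin s → Polynomial k) ∈ B := by
    intro i a r
    have : (Pi.single i (monomial a r) : Fin s → Polynomial k) =
        r • ((Pi.single i X : Fin s → Polynomial k) ^ a * Pi.single i 1) := by
      funext j
      by_cases hj : j = i
      · subst hj
        simp [← C_mul_X_pow_eq_monomial, Polynomial.smul_eq_C_mul]
      · simp [Pi.single_eq_of_ne hj]
    rw [this]
    exact B.smul_mem (B.mul_mem (B.pow_mem (hX i) a) (h1 i)) r
  have hsingle : ∀ (i : Fin s) (p : Polynomial k),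
      (Pi.single i p : Fin s → Polynomial k) ∈ B := by
    intro i p
    induction p using Polynomial.induction_on' with
    | add p q hp hq =>
      rw [Pi.single_add]
      exact B.add_mem hp hq
    | monomial a r => exact hmon i a r
  rw [← Finset.univ_sum_single g]
  exact B.sum_mem (fun i _ => hsingle i (g i))

end Groth.Agent.S15152Aux

namespace Groth.Agent.S15152

/-- Let k be a field, s a natural number and R a k-subalgebra of the product of s copies of the power
series ring k[[x]], of finite codimension δ over k and local with residue field k (all components of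
an element of R have the same constant term); write v_i for the x-adic order of the i-th component
of an s-tuple, and let c = (c_1, …, c_s) be the conductor exponents, so that an s-tuple f satisfies
f·g ∈ R for every s-tuple g exactly when v_i(f) ≥ c_i for all i (over an algebraically closed field
such an R is precisely the completed local ring of a reduced curve singularity having s branches
sitting inside its normalisation, δ is its delta invariant and the conductor ideal is generated by
the x_i^{c_i}). Let A be the k-subalgebra of the product of s polynomial rings k[x] consisting of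
the tuples whose image in the power series product lies in R, and m₀ its ideal of tuples with zero
constant terms. Then: A is of finite type over k and has no idempotents besides 0 and 1; the product
of polynomial rings is a finite A-module, and for some N every product of N elements of m₀
multiplies all of it into A; every element of R is approximated to any x-adic order by elements of
A; and for every N there is an M such that every element of A whose components are all divisible by
x^M lies in m₀^N. In words: Y = Spec A is a connected affine curve whose normalisation is the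
disjoint union of s affine lines and is an isomorphism away from the origin, and the completed local
ring of Y at the origin is R, compatibly with the inclusion of the polynomial product in the power
series product. (The published statement asserts the existence of such a curve Y and is over an
algebraically closed field; this row names Y and allows any field.) -/
theorem result (k : Type u) [Field k] (s : ℕ)
    (R : Subalgebra k (Fin s → PowerSeries k))
    (hfin : Module.Finite k ((Fin s → PowerSeries k) ⧸ Subalgebra.toSubmodule R))
    (hloc : ∀ f ∈ R, ∀ i j : Fin s, PowerSeries.constantCoeff (f i) = PowerSeries.constantCoeff (f j))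
    (c : Fin s → ℕ)
    (hc : ∀ f : Fin s → PowerSeries k,
      (∀ g : Fin s → PowerSeries k, g * f ∈ R) ↔ ∀ i, ((c i : ℕ) : ℕ∞) ≤ (f i).order)
    (A : Subalgebra k (Fin s → Polynomial k))
    (hA : ∀ g : Fin s → Polynomial k, g ∈ A ↔ (fun i => ((g i : Polynomial k) : PowerSeries k)) ∈ R) :
    Algebra.FiniteType k ↥A ∧
    (∀ e ∈ A, e * e = e → e = 0 ∨ e = 1) ∧
    Module.Finite ↥A (Fin s → Polynomial k) ∧
    (∃ N : ℕ, ∀ g : Fin N → (Fin s → Polynomial k),
      (∀ n, g n ∈ A ∧ ∀ i, (g n i).coeff 0 = 0) → ∀ p : Fin s → Polynomial k, p * ∏ n, g n ∈ A) ∧
    (∀ f ∈ R, ∀ N : ℕ, ∃ g ∈ A, ∀ i : Fin s, (N : ℕ∞) ≤ (f i - ((g i : Polynomial k) : PowerSeries k)).order) ∧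
    (∀ N : ℕ, ∃ M : ℕ, ∀ g : ↥A, (∀ i : Fin s, Polynomial.X ^ M ∣ (g : Fin s → Polynomial k) i) →
      g ∈ (Ideal.span {h : ↥A | ∀ i : Fin s, ((h : Fin s → Polynomial k) i).coeff 0 = 0}) ^ N) := by
  classical
  -- conductor facts
  have KR : ∀ f : Fin s → PowerSeries k, (∀ i, ((c i : ℕ) : ℕ∞) ≤ (f i).order) → f ∈ R := by
    intro f hf
    have := (hc f).mpr hf 1
    rwa [one_mul] at this
  have KA : ∀ g : Fin s → Polynomial k, (∀ i, Polynomial.X ^ (c i) ∣ g i) → g ∈ A := by
    intro g hg
    rw [hA]
    apply KR
    intro i
    exact Groth.Agent.S15152Aux.ord_ge_of_dvd (g i) (c i) (hg i)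
  have hcle : ∀ i : Fin s, c i ≤ ∑ j, c j := fun i =>
    Finset.single_le_sum (f := c) (fun j _ => Nat.zero_le _) (Finset.mem_univ i)
  -- part 3
  have h3 : Module.Finite ↥A (Fin s → Polynomial k) := by
    let v : Option (Σ i : Fin s, Fin (c i)) → (Fin s → Polynomial k) := fun o =>
      match o with
      | none => 1
      | some ⟨i, a⟩ => Pi.single i (Polynomial.X ^ (a : ℕ))
    refine ⟨⟨Finset.univ.image v, ?_⟩⟩
    rw [eq_top_iff]
    intro g _
    set Sp := Submodule.span ↥A ((Finset.univ.image v : Finset _) : Set (Fin s → Polynomial k))
      with hSp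
    have hv : ∀ o, v o ∈ Sp := by
      intro o
      apply Submodule.subset_span
      simp
    have hmon : ∀ (i : Fin s) (a : ℕ) (r : k),
        (Pi.single i (Polynomial.monomial a r) : Fin s → Polynomial k) ∈ Sp := by
      intro i a r
      by_cases ha : a < c i
      · have : (Pi.single i (Polynomial.monomial a r) : Fin s → Polynomial k) =
            (algebraMap k ↥A r) • v (some ⟨i, ⟨a, ha⟩⟩) := by
          rw [Subalgebra.smul_def]
          funext j
          rw [smul_eq_mul, Pi.mul_apply]
          by_cases hj : j = i
          · subst hj
            simp [v, ← Polynomial.C_mul_X_pow_eq_monomial, Polynomial.algebraMap_apply]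
          · simp [v, Pi.single_eq_of_ne hj]
        rw [this]
        exact Sp.smul_mem _ (hv (some ⟨i, ⟨a, ha⟩⟩))
      · have hmem : (Pi.single i (Polynomial.monomial a r) : Fin s → Polynomial k) ∈ A := by
          apply KA
          intro j
          by_cases hj : j = i
          · subst hj
            rw [Pi.single_eq_same, ← Polynomial.C_mul_X_pow_eq_monomial]
            exact Dvd.dvd.mul_left (pow_dvd_pow _ (by omega)) _
          · rw [Pi.single_eq_of_ne hj]
            exact dvd_zero _
        have : (Pi.single i (Polynomial.monomial a r) : Fin s → Polynomial k) =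
            (⟨_, hmem⟩ : ↥A) • v none := by
          rw [Subalgebra.smul_def]
          simp [v]
        rw [this]
        exact Sp.smul_mem _ (hv none)
    have hsingle : ∀ (i : Fin s) (p : Polynomial k),
        (Pi.single i p : Fin s → Polynomial k) ∈ Sp := by
      intro i p
      induction p using Polynomial.induction_on' with
      | add p q hp hq =>
        rw [Pi.single_add]
        exact Sp.add_mem hp hq
      | monomial a r => exact hmon i a r
    rw [← Finset.univ_sum_single g]
    exact Sp.sum_mem (fun i _ => hsingle i (g i))
  refine ⟨?_, ?_, h3, ?_, ?_, ?_⟩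
  · -- part 1: Artin–Tate
    refine ⟨?_⟩
    have hinj : Function.Injective (algebraMap ↥A (Fin s → Polynomial k)) := Subtype.val_injective
    exact fg_of_fg_of_fg k ↥A (Fin s → Polynomial k) Groth.Agent.S15152Aux.pi_fg h3.1 hinj
  · -- part 2
    intro e he hee
    have hcomp : ∀ i, e i = 0 ∨ e i = 1 := by
      intro i
      have h1 : e i * e i = e i := congrFun hee i
      have h2 : e i * (e i - 1) = 0 := by rw [mul_sub, h1, mul_one, sub_self]
      rcases mul_eq_zero.mp h2 with h | h
      · exact Or.inl h
      · exact Or.inr (sub_eq_zero.mp h)
    have hR := (hA e).mp he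
    have hconst : ∀ i j, (e i).coeff 0 = (e j).coeff 0 := by
      intro i j
      have := hloc _ hR i j
      simpa [Polynomial.coeff_coe] using this
    by_cases hs : ∃ i, e i = 1
    · obtain ⟨i₀, hi₀⟩ := hs
      right
      funext j
      rcases hcomp j with h | h
      · have := hconst i₀ j
        rw [hi₀, h] at this
        simp at this
      · exact h
    · left
      push Not at hs
      funext j
      rcases hcomp j with h | h
      · exact h
      · exact absurd h (hs j)
  · -- part 4
    refine ⟨∑ j, c j, ?_⟩
    intro g hg p
    apply KA
    intro i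
    rw [Pi.mul_apply, Finset.prod_apply]
    apply Dvd.dvd.mul_left
    have h1 : (Polynomial.X : Polynomial k) ^ (∑ j, c j) ∣ ∏ n : Fin (∑ j, c j), g n i := by
      have : (Polynomial.X : Polynomial k) ^ (∑ j, c j) =
          ∏ _n : Fin (∑ j, c j), (Polynomial.X : Polynomial k) := by
        rw [Finset.prod_const, Finset.card_univ, Fintype.card_fin]
      rw [this]
      apply Finset.prod_dvd_prod_of_dvd
      intro n _
      rw [Polynomial.X_dvd_iff]
      exact (hg n).2 i
    exact dvd_trans (pow_dvd_pow _ (hcle i)) h1
  · -- part 5
    intro f hf N
    set N' := N + ∑ j, c j with hN'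
    refine ⟨fun i => PowerSeries.trunc N' (f i), ?_, ?_⟩
    · rw [hA]
      have hdiff : (fun i => f i - ((PowerSeries.trunc N' (f i) : Polynomial k) : PowerSeries k)) ∈ R := by
        apply KR
        intro i
        refine le_trans ?_ (Groth.Agent.S15152Aux.order_sub_trunc (f i) N')
        exact_mod_cast le_trans (hcle i) (Nat.le_add_left _ _)
      have := R.sub_mem hf hdiff
      convert this using 1
      funext i
      simp
    · intro i
      refine le_trans ?_ (Groth.Agent.S15152Aux.order_sub_trunc (f i) N')
      exact_mod_cast Nat.le_add_right _ _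
  · -- part 6
    intro N
    cases N with
    | zero =>
      refine ⟨0, fun g _ => ?_⟩
      rw [pow_zero, Ideal.one_eq_top]
      exact Submodule.mem_top
    | succ n =>
      set C' := 1 + ∑ j, c j with hC'
      refine ⟨(n + 1) * C', ?_⟩
      intro g hg
      choose q hq using hg
      have hu : (fun _ : Fin s => (Polynomial.X : Polynomial k) ^ C') ∈ A := by
        apply KA
        intro i
        exact pow_dvd_pow _ (le_trans (hcle i) (Nat.le_add_left _ _))
      have hg' : (fun i : Fin s => (Polynomial.X : Polynomial k) ^ C' * q i) ∈ A := by
        apply KA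
        intro i
        exact Dvd.dvd.mul_right (pow_dvd_pow _ (le_trans (hcle i) (Nat.le_add_left _ _))) _
      have hgeq : g = (⟨_, hu⟩ : ↥A) ^ n * ⟨_, hg'⟩ := by
        apply Subtype.ext
        funext i
        simp only [Subalgebra.coe_mul, Subalgebra.coe_pow, Pi.mul_apply, Pi.pow_apply]
        rw [hq i]
        ring
      rw [hgeq, pow_succ]
      apply Ideal.mul_mem_mul
      · apply Ideal.pow_mem_pow
        apply Ideal.subset_span
        intro i
        simp only
        rw [Polynomial.coeff_X_pow, if_neg (by omega)]
      · apply Ideal.subset_span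
        intro i
        simp only
        rw [Polynomial.coeff_X_pow_mul', if_neg (by omega)]

end Groth.Agent.S15152
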