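import Groth.Statements.S15153
import Mathlib
import Groth.Agent.Lib.Helper71.FibreRank

set_option autoImplicit false
universe u
open TensorProduct
open HilbZeta

namespace Groth.Agent.S15153

section Helpers

theorem finrank_span_range_comp {K V W ι : Type*} [Field K] [AddCommGroup V] [Module K V]
    [AddCommGroup W] [Module K W] (f : V →ₗ[K] W) (hf : Function.Injective f) (g : ι → V) :
    Module.finrank K (Submodule.span K (Set.range (fun i => f (g i)))) =
      Module.finrank K (Submodule.span K (Set.range g)) := by
  have : Submodule.span K (Set.range (fun i => f (g i))) = (Submodule.span K (Set.range g)).map f := by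
    rw [Submodule.map_span, ← Set.range_comp]; rfl
  rw [this]
  exact (Submodule.equivMapOfInjective f hf _).finrank_eq.symm

variable (A : Type u) [CommRing A]
    (S : Type u) [CommRing S] [Algebra A S]
    (Q : Type u) [AddCommGroup Q] [Module A Q] [Module S Q] [IsScalarTower A S Q]

/-- the orbit map of a family of elements -/
noncomputable def psi {m : ℕ} (q : Fin m → Q) : S →ₗ[A] (Fin m → Q) :=
  LinearMap.pi (fun i => (LinearMap.toSpanSingleton S Q (q i)).restrictScalars A)

theorem psi_apply {m : ℕ} (q : Fin m → Q) (s : S) (i : Fin m) : psi A S Q q s i = s • q i := rfl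

theorem key (p : PrimeSpectrum A) {m : ℕ} (q : Fin m → Q)
    (hq : Submodule.span A (Set.range q) = ⊤) :
    Module.finrank p.asIdeal.ResidueField
        (Submodule.span p.asIdeal.ResidueField
          (Set.range fun s : S =>
            LinearMap.baseChange p.asIdeal.ResidueField (DistribSMul.toLinearMap A Q s))) =
      Module.finrank p.asIdeal.ResidueField
        (LinearMap.range ((psi A S Q q).baseChange p.asIdeal.ResidueField)) := by
  let ev : Module.End p.asIdeal.ResidueField (p.asIdeal.ResidueField ⊗[A] Q) →ₗ[p.asIdeal.ResidueField] (Fin m → p.asIdeal.ResidueField ⊗[A] Q) :=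
    LinearMap.pi (fun i => LinearMap.applyₗ ((1 : p.asIdeal.ResidueField) ⊗ₜ[A] q i))
  have hev : Function.Injective ev := by
    rw [injective_iff_map_eq_zero]
    intro T hT
    apply TensorProduct.AlgebraTensorModule.ext
    intro c x
    have h0 : (T.restrictScalars A).comp (TensorProduct.mk A p.asIdeal.ResidueField Q 1) = 0 := by
      apply LinearMap.ext_on hq
      rintro _ ⟨i, rfl⟩
      exact congrFun hT i
    have hcx : c ⊗ₜ[A] x = c • ((1 : p.asIdeal.ResidueField) ⊗ₜ[A] x) := by rw [smul_tmul', smul_eq_mul, mul_one]
    rw [hcx, map_smul]
    have := LinearMap.congr_fun h0 x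
    simp only [LinearMap.coe_comp, LinearMap.coe_restrictScalars, Function.comp_apply, mk_apply,
      LinearMap.zero_apply] at this
    simp [this]
  let Φ := TensorProduct.piRight A p.asIdeal.ResidueField p.asIdeal.ResidueField (fun _ : Fin m => Q)
  have h1 : ∀ s : S, ev (LinearMap.baseChange p.asIdeal.ResidueField (DistribSMul.toLinearMap A Q s)) =
      Φ ((1:p.asIdeal.ResidueField) ⊗ₜ[A] psi A S Q q s) := by
    intro s; ext i; simp [ev, Φ, psi_apply]
  have e1 := finrank_span_range_comp ev hev (fun s : S =>
    LinearMap.baseChange p.asIdeal.ResidueField (DistribSMul.toLinearMap A Q s))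
  have h1' : (fun s : S => ev (LinearMap.baseChange p.asIdeal.ResidueField
      (DistribSMul.toLinearMap A Q s))) =
      fun s => Φ.toLinearMap ((1:p.asIdeal.ResidueField) ⊗ₜ[A] psi A S Q q s) := funext h1
  rw [h1'] at e1
  have e2 := finrank_span_range_comp Φ.toLinearMap Φ.injective
    (fun s => (1:p.asIdeal.ResidueField) ⊗ₜ[A] psi A S Q q s)
  have e3 : Submodule.span p.asIdeal.ResidueField
      (Set.range (fun s => (1:p.asIdeal.ResidueField) ⊗ₜ[A] psi A S Q q s)) =
      LinearMap.range ((psi A S Q q).baseChange p.asIdeal.ResidueField) := by
    rw [LinearMap.range_eq_map, ← Helper71.FibreRank.span_one_tmul_eq_top p (X := S),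
      Submodule.map_span, ← Set.range_comp]
    rfl
  rw [e3] at e2
  exact e1.symm.trans e2


theorem main (A : Type u) [CommRing A] [IsNoetherianRing A]
    (S : Type u) [CommRing S] [Algebra A S]
    (Q : Type u) [AddCommGroup Q] [Module A Q] [Module S Q] [IsScalarTower A S Q]
    [Module.Finite A Q] (n : ℕ) :
    Topology.IsConstructible {p : PrimeSpectrum A |
      Module.finrank p.asIdeal.ResidueField
        (Submodule.span p.asIdeal.ResidueField
          (Set.range fun s : S =>
            LinearMap.baseChange p.asIdeal.ResidueField (DistribSMul.toLinearMap A Q s))) = n} := by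
  classical
  obtain ⟨m, q, hq⟩ := Module.Finite.exists_fin (R := A) (M := Q)
  obtain ⟨k, x, hx⟩ := Module.Finite.exists_fin (R := A) (M := Fin m → Q)
  have hset : {p : PrimeSpectrum A |
      Module.finrank p.asIdeal.ResidueField
        (Submodule.span p.asIdeal.ResidueField
          (Set.range fun s : S =>
            LinearMap.baseChange p.asIdeal.ResidueField (DistribSMul.toLinearMap A Q s))) = n} =
      ⋃ b ∈ (Finset.range (k + 1) : Set ℕ),
        ({p : PrimeSpectrum A | Helper71.FibreRank.fd
            ((Fin m → Q) ⧸ LinearMap.range (psi A S Q q)) p = b} ∩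
          {p : PrimeSpectrum A | Helper71.FibreRank.fd (Fin m → Q) p = n + b}) := by
    ext p
    have h1 := key A S Q p q hq
    have h2 := Helper71.FibreRank.finrank_range_baseChange_add p (psi A S Q q)
    have h3 := Helper71.FibreRank.fd_le_card p x hx
    simp only [Set.mem_ofPred_eq, Set.mem_iUnion, Set.mem_inter_iff, Finset.coe_range, Set.mem_Iio,
      exists_prop]
    rw [h1]
    constructor
    · intro h
      exact ⟨_, by omega, rfl, by omega⟩
    · rintro ⟨b, hb, h4, h5⟩
      omega
  rw [hset]
  exact Topology.IsConstructible.biUnion (Finset.finite_toSet _) fun b _ =>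
    (Helper71.FibreRank.isConstructible_fd_eq b).inter
      (Helper71.FibreRank.isConstructible_fd_eq (n + b))


end Helpers

/-- Let A be a Noetherian commutative ring, S a commutative A-algebra and Q an S-module which is finite
and flat as an A-module. For a prime p of A with residue field κ(p), multiplication by an element of
S induces a κ(p)-linear endomorphism of the fibre κ(p) ⊗_A Q; let φ(p) be the κ(p)-dimension of the
span of these endomorphisms, which is the colength of the annihilator of the fibre module κ(p) ⊗_A Q
in the fibre algebra κ(p) ⊗_A S (the length of the smallest subscheme of the fibre carrying it).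
Then p ↦ φ(p) is a constructible function: for every n the primes with φ(p) = n form a constructible
subset of Spec A. (The published statement is for a coherent sheaf, flat and finite over a
Noetherian base, on a family of reduced curve singularities with a section, and its function of the
base point is this colength; the curve hypotheses play no role and the row is the affine form over
any Noetherian ring.) -/
theorem result (A : Type u) [CommRing A] [IsNoetherianRing A]
    (S : Type u) [CommRing S] [Algebra A S]
    (Q : Type u) [AddCommGroup Q] [Module A Q] [Module S Q] [IsScalarTower A S Q]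
    [Module.Finite A Q] [Module.Flat A Q] (n : ℕ) :
    Topology.IsConstructible {p : PrimeSpectrum A |
      Module.finrank p.asIdeal.ResidueField
        (Submodule.span p.asIdeal.ResidueField
          (Set.range fun s : S =>
            LinearMap.baseChange p.asIdeal.ResidueField (DistribSMul.toLinearMap A Q s))) = n} := by
  exact main A S Q n

end Groth.Agent.S15153
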