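import Groth.Statements.S15159
import Mathlib

set_option autoImplicit false
open CAlg

namespace Groth.Agent.S15159

section aux
variable {K : Type*} [Field K] {H W : Type*} [AddCommGroup H] [Module K H]
  [AddCommGroup W] [Module K W]

def perp (q : H →ₗ[K] H →ₗ[K] W) (V : Submodule K H) : Submodule K H :=
  ⨅ (y : H) (_ : y ∈ V), LinearMap.ker (q.flip y)

lemma mem_perp {q : H →ₗ[K] H →ₗ[K] W} {V : Submodule K H} {x : H} :
    x ∈ perp q V ↔ ∀ y ∈ V, q x y = 0 := by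
  simp [perp, Submodule.mem_iInf, LinearMap.mem_ker, LinearMap.flip_apply]

lemma finrank_biSup [FiniteDimensional K H] {ι : Type*} [DecidableEq ι]
    (Hs : ι → Submodule K H) (hind : iSupIndep Hs) (S : Finset ι) :
    Module.finrank K ↥(⨆ i ∈ S, Hs i) = ∑ i ∈ S, Module.finrank K (Hs i) := by
  induction S using Finset.induction_on with
  | empty => simp
  | insert a S ha ih =>
    rw [Finset.iSup_insert, Finset.sum_insert ha, ← ih]
    have hd : Disjoint (Hs a) (⨆ i ∈ S, Hs i) := by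
      have := hind.disjoint_biSup (x := a) (y := (S : Set ι)) (by simpa using ha)
      simpa using this
    have h := Submodule.finrank_sup_add_finrank_inf_eq (Hs a) (⨆ i ∈ S, Hs i)
    rw [hd.eq_bot, finrank_bot, add_zero] at h
    exact h

lemma clamp_sum (m : ℤ) (T : ℕ) :
    ∑ t ∈ Finset.range T, ((if (t : ℤ) < m then (1 : ℤ) else 0) -
      (if m ≤ -((t : ℤ) + 1) then (1 : ℤ) else 0)) = max (min m T) (-(T : ℤ)) := by
  induction T with
  | zero => simp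
  | succ T ih =>
    rw [Finset.sum_range_succ, ih]
    push_cast
    split_ifs <;> omega

lemma clamp_sum_eq (m : ℤ) (T : ℕ) (h : m.natAbs ≤ T) :
    ∑ t ∈ Finset.range T, ((if (t : ℤ) < m then (1 : ℤ) else 0) -
      (if m ≤ -((t : ℤ) + 1) then (1 : ℤ) else 0)) = m := by
  rw [clamp_sum]
  omega

lemma layer_cake {ι : Type*} [Fintype ι] (m : ι → ℤ) (d : ι → ℕ) (T : ℕ)
    (hT : ∀ i, (m i).natAbs ≤ T) (a c : ℤ → ℕ)
    (ha : ∀ t, a t = ∑ i ∈ Finset.univ.filter (fun i => m i ≤ -t), d i)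
    (hc : ∀ t, c t = ∑ i ∈ Finset.univ.filter (fun i => t < m i), d i) :
    ∑ i, m i * (d i : ℤ) =
      ∑ t ∈ Finset.range T, ((c (t : ℤ) : ℤ) - (a ((t : ℤ) + 1) : ℤ)) := by
  have h1 : ∀ t : ℕ, ((c (t : ℤ) : ℤ) - (a ((t : ℤ) + 1) : ℤ)) =
      ∑ i, (d i : ℤ) * ((if (t : ℤ) < m i then (1 : ℤ) else 0) -
        (if m i ≤ -((t : ℤ) + 1) then (1 : ℤ) else 0)) := by
    intro t
    rw [ha, hc]
    push_cast
    rw [Finset.sum_filter, Finset.sum_filter, ← Finset.sum_sub_distrib]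
    refine Finset.sum_congr rfl fun i _ => ?_
    split_ifs <;> ring
  simp_rw [h1]
  rw [Finset.sum_comm]
  refine Finset.sum_congr rfl fun i _ => ?_
  rw [← Finset.mul_sum, clamp_sum_eq _ _ (hT i), mul_comm]

lemma vanish_biSup {ι : Type*} (q : H →ₗ[K] H →ₗ[K] W) (Hs : ι → Submodule K H)
    (S S' : Finset ι)
    (h : ∀ i ∈ S, ∀ j ∈ S', ∀ x ∈ Hs i, ∀ y ∈ Hs j, q x y = 0) :
    ∀ x ∈ ⨆ i ∈ S, Hs i, ∀ y ∈ ⨆ j ∈ S', Hs j, q x y = 0 := by
  have h1 : ∀ j ∈ S', ∀ y ∈ Hs j, (⨆ i ∈ S, Hs i) ≤ LinearMap.ker (q.flip y) := by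
    intro j hj y hy
    refine iSup₂_le fun i hi x hx => ?_
    simp [LinearMap.mem_ker, LinearMap.flip_apply, h i hi j hj x hx y hy]
  intro x hx
  have h2 : (⨆ j ∈ S', Hs j) ≤ LinearMap.ker (q x) := by
    refine iSup₂_le fun j hj y hy => ?_
    have := h1 j hj y hy hx
    simpa [LinearMap.mem_ker, LinearMap.flip_apply] using this
  intro y hy
  simpa [LinearMap.mem_ker] using h2 hy

lemma core [FiniteDimensional K H] {ι : Type*} [DecidableEq ι]
    (q : H →ₗ[K] H →ₗ[K] W) (Hs : ι → Submodule K H) (hind : iSupIndep Hs)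
    (SA SB : Finset ι)
    (hAA : ∀ i ∈ SA, ∀ j ∈ SA, ∀ x ∈ Hs i, ∀ y ∈ Hs j, q x y = 0)
    (hBA : ∀ j ∈ SB, ∀ i ∈ SA, ∀ x ∈ Hs j, ∀ y ∈ Hs i, q x y = 0) :
    (∀ x ∈ (⨆ i ∈ SA, Hs i), ∀ y ∈ (⨆ i ∈ SA, Hs i), q x y = 0) ∧
    Module.finrank K ↥(⨆ i ∈ SA, Hs i) = ∑ i ∈ SA, Module.finrank K (Hs i) ∧
    ∑ j ∈ SB, Module.finrank K (Hs j) ≤ Module.finrank K ↥(perp q (⨆ i ∈ SA, Hs i)) := by
  refine ⟨vanish_biSup q Hs SA SA hAA, finrank_biSup Hs hind SA, ?_⟩
  rw [← finrank_biSup Hs hind SB]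
  apply Submodule.finrank_mono
  intro x hx
  exact mem_perp.mpr (fun y hy => vanish_biSup q Hs SB SA hBA x hx y hy)

lemma finish {ι : Type*} [Fintype ι] (Hs : ι → Submodule K H) [FiniteDimensional K H]
    (m : ι → ℤ) (a c : ℤ → ℕ)
    (ha : ∀ t, a t = ∑ i ∈ Finset.univ.filter (fun i => m i ≤ -t), Module.finrank K (Hs i))
    (hc : ∀ t, c t = ∑ i ∈ Finset.univ.filter (fun i => t < m i), Module.finrank K (Hs i))
    (hne : ∃ i, m i ≠ 0 ∧ Hs i ≠ ⊥) (h0 : c 0 = 0) (h1 : a 1 = 0) : False := by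
  obtain ⟨i0, hm0, hH0⟩ := hne
  have hd0 : Module.finrank K (Hs i0) ≠ 0 := fun h => hH0 (Submodule.finrank_eq_zero.mp h)
  rw [hc, Finset.sum_eq_zero_iff] at h0
  rw [ha, Finset.sum_eq_zero_iff] at h1
  rcases lt_or_gt_of_ne hm0 with h | h
  · exact hd0 (h1 i0 (by simp; omega))
  · exact hd0 (h0 i0 (by simp; omega))

lemma setup [FiniteDimensional K H] {ι : Type*} [Fintype ι] [DecidableEq ι]
    (Hs : ι → Submodule K H) (hint : DirectSum.IsInternal Hs) (m : ι → ℤ) (t : ℤ) :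
    ∑ j ∈ Finset.univ.filter (fun j => m j ≤ t), Module.finrank K (Hs j) +
      ∑ j ∈ Finset.univ.filter (fun j => t < m j), Module.finrank K (Hs j) =
        Module.finrank K H := by
  have hind := hint.submodule_iSupIndep
  have htop := hint.submodule_iSup_eq_top
  have hn : Module.finrank K H = ∑ i, Module.finrank K (Hs i) := by
    have := finrank_biSup Hs hind Finset.univ
    have h : (⨆ i ∈ (Finset.univ : Finset ι), Hs i) = ⊤ := by simp [htop]
    rw [h, finrank_top] at this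
    exact this
  rw [hn, ← Finset.sum_filter_add_sum_filter_not Finset.univ (fun j => m j ≤ t)]
  congr 2
  ext j
  simp

lemma fwd0 [FiniteDimensional K H] (q : H →ₗ[K] H →ₗ[K] W)
    (hSS : ∀ V : Submodule K H, V ≠ ⊥ → (∀ x ∈ V, ∀ y ∈ V, q x y = 0) →
      Module.finrank K V + Module.finrank K ↥(perp q V) ≤ Module.finrank K H)
    (ι : Type) [Fintype ι] [DecidableEq ι] (Hs : ι → Submodule K H) (m : ι → ℤ)
    (hint : DirectSum.IsInternal Hs)
    (hsum : (∑ i, m i * (Module.finrank K (Hs i) : ℤ)) = 0)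
    (hne : ∃ i, m i ≠ 0 ∧ Hs i ≠ ⊥) :
    ∃ i j, (∃ x ∈ Hs i, ∃ y ∈ Hs j, q x y ≠ 0) ∧ m i + m j ≤ 0 := by
  by_contra hcon
  push Not at hcon
  have hvan : ∀ i j, m i + m j ≤ 0 → ∀ x ∈ Hs i, ∀ y ∈ Hs j, q x y = 0 := by
    intro i j hij x hx y hy
    by_contra hne'
    exact absurd (hcon i j ⟨x, hx, y, hy, hne'⟩) (not_lt.mpr hij)
  have hind := hint.submodule_iSupIndep
  obtain ⟨a, ha⟩ : ∃ a : ℤ → ℕ, ∀ t, a t =
      ∑ i ∈ Finset.univ.filter (fun i => m i ≤ -t), Module.finrank K (Hs i) := ⟨_, fun _ => rfl⟩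
  obtain ⟨c, hc⟩ : ∃ c : ℤ → ℕ, ∀ t, c t =
      ∑ i ∈ Finset.univ.filter (fun i => t < m i), Module.finrank K (Hs i) := ⟨_, fun _ => rfl⟩
  have key : ∀ t : ℤ, 1 ≤ t → a t ≤ c t := by
    intro t ht
    obtain ⟨hiso, hfr, hperp⟩ := core q Hs hind (Finset.univ.filter (fun i => m i ≤ -t))
      (Finset.univ.filter (fun j => m j ≤ t))
      (by
        intro i hi j hj
        simp only [Finset.mem_filter, Finset.mem_univ, true_and] at hi hj
        exact hvan i j (by omega))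
      (by
        intro j hj i hi
        simp only [Finset.mem_filter, Finset.mem_univ, true_and] at hi hj
        exact hvan j i (by omega))
    by_cases hV : (⨆ i ∈ Finset.univ.filter (fun i => m i ≤ -t), Hs i) = ⊥
    · have : a t = 0 := by rw [ha, ← hfr, hV, finrank_bot]
      omega
    · have h1 := hSS _ hV hiso
      have h2 := setup Hs hint m t
      rw [ha, hc]
      omega
  have hmono : ∀ t : ℤ, c (t + 1) ≤ c t := by
    intro t
    rw [hc, hc]
    refine Finset.sum_le_sum_of_subset (fun i hi => ?_)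
    simp only [Finset.mem_filter, Finset.mem_univ, true_and] at hi ⊢
    omega
  obtain ⟨T, hTdef⟩ : ∃ T : ℕ, T = 1 + ∑ i, (m i).natAbs := ⟨_, rfl⟩
  have hT : ∀ i, (m i).natAbs ≤ T := by
    intro i
    have : (m i).natAbs ≤ ∑ i, (m i).natAbs :=
      Finset.single_le_sum (f := fun i => (m i).natAbs) (fun _ _ => Nat.zero_le _)
        (Finset.mem_univ i)
    omega
  have hL := layer_cake m (fun i => Module.finrank K (Hs i)) T hT a c ha hc
  rw [hsum] at hL
  have hcT : c (T : ℤ) = 0 := by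
    rw [hc]
    refine Finset.sum_eq_zero (fun i hi => ?_)
    simp only [Finset.mem_filter, Finset.mem_univ, true_and] at hi
    have := hT i
    omega
  have htel : ∑ t ∈ Finset.range T, ((c (t : ℤ) : ℤ) - (c ((t : ℤ) + 1) : ℤ)) =
      (c 0 : ℤ) - c (T : ℤ) := by
    have := Finset.sum_range_sub' (fun t : ℕ => (c (t : ℤ) : ℤ)) T
    simpa using this
  have hle : ∑ t ∈ Finset.range T, ((c (t : ℤ) : ℤ) - (c ((t : ℤ) + 1) : ℤ)) ≤
      ∑ t ∈ Finset.range T, ((c (t : ℤ) : ℤ) - (a ((t : ℤ) + 1) : ℤ)) := by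
    refine Finset.sum_le_sum (fun t _ => ?_)
    have := key ((t : ℤ) + 1) (by omega)
    omega
  have hc0 : c 0 = 0 := by
    rw [htel, ← hL, hcT] at hle
    omega
  have ha1 : a 1 = 0 := by
    have h1 := key 1 le_rfl
    have h2 := hmono 0
    simp only [zero_add] at h2
    omega
  exact finish Hs m a c ha hc hne hc0 ha1

lemma fwd1 [FiniteDimensional K H] (q : H →ₗ[K] H →ₗ[K] W)
    (hSS : ∀ V : Submodule K H, V ≠ ⊥ → (∀ x ∈ V, ∀ y ∈ V, q x y = 0) →
      Module.finrank K V + Module.finrank K ↥(perp q V) < Module.finrank K H)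
    (ι : Type) [Fintype ι] [DecidableEq ι] (Hs : ι → Submodule K H) (m : ι → ℤ)
    (hint : DirectSum.IsInternal Hs)
    (hsum : (∑ i, m i * (Module.finrank K (Hs i) : ℤ)) = 0)
    (hne : ∃ i, m i ≠ 0 ∧ Hs i ≠ ⊥) :
    ∃ i j, (∃ x ∈ Hs i, ∃ y ∈ Hs j, q x y ≠ 0) ∧ m i + m j < 0 := by
  by_contra hcon
  push Not at hcon
  have hvan : ∀ i j, m i + m j < 0 → ∀ x ∈ Hs i, ∀ y ∈ Hs j, q x y = 0 := by
    intro i j hij x hx y hy
    by_contra hne'
    exact absurd (hcon i j ⟨x, hx, y, hy, hne'⟩) (not_le.mpr hij)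
  have hind := hint.submodule_iSupIndep
  obtain ⟨a, ha⟩ : ∃ a : ℤ → ℕ, ∀ t, a t =
      ∑ i ∈ Finset.univ.filter (fun i => m i ≤ -t), Module.finrank K (Hs i) := ⟨_, fun _ => rfl⟩
  obtain ⟨c, hc⟩ : ∃ c : ℤ → ℕ, ∀ t, c t =
      ∑ i ∈ Finset.univ.filter (fun i => t < m i), Module.finrank K (Hs i) := ⟨_, fun _ => rfl⟩
  have key : ∀ t : ℤ, 0 ≤ t → a (t + 1) ≤ c t ∧ (a (t + 1) ≠ 0 → a (t + 1) < c t) := by
    intro t ht
    obtain ⟨hiso, hfr, hperp⟩ := core q Hs hind (Finset.univ.filter (fun i => m i ≤ -(t + 1)))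
      (Finset.univ.filter (fun j => m j ≤ t))
      (by
        intro i hi j hj
        simp only [Finset.mem_filter, Finset.mem_univ, true_and] at hi hj
        exact hvan i j (by omega))
      (by
        intro j hj i hi
        simp only [Finset.mem_filter, Finset.mem_univ, true_and] at hi hj
        exact hvan j i (by omega))
    by_cases hV : (⨆ i ∈ Finset.univ.filter (fun i => m i ≤ -(t + 1)), Hs i) = ⊥
    · have : a (t + 1) = 0 := by rw [ha, ← hfr, hV, finrank_bot]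
      omega
    · have h1 := hSS _ hV hiso
      have h2 := setup Hs hint m t
      rw [ha, hc]
      omega
  obtain ⟨T, hTdef⟩ : ∃ T : ℕ, T = 1 + ∑ i, (m i).natAbs := ⟨_, rfl⟩
  have hT : ∀ i, (m i).natAbs ≤ T := by
    intro i
    have : (m i).natAbs ≤ ∑ i, (m i).natAbs :=
      Finset.single_le_sum (f := fun i => (m i).natAbs) (fun _ _ => Nat.zero_le _)
        (Finset.mem_univ i)
    omega
  have hL := layer_cake m (fun i => Module.finrank K (Hs i)) T hT a c ha hc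
  rw [hsum] at hL
  have hall := (Finset.sum_eq_zero_iff_of_nonneg (fun t _ => by
    have := (key (t : ℤ) (by omega)).1
    omega)).mp hL.symm
  have h00 := hall 0 (by simp; omega)
  have hk := key 0 le_rfl
  simp only [Nat.cast_zero, zero_add] at h00 hk
  have ha1 : a 1 = 0 := by
    by_contra hne1
    have := hk.2 hne1
    omega
  have hc0 : c 0 = 0 := by omega
  exact finish Hs m a c ha hc hne hc0 ha1

lemma bwd [FiniteDimensional K H] (q : H →ₗ[K] H →ₗ[K] W) (s : W →ₗ[K] W)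
    (hq : ∀ x y : H, q x y = s (q y x)) (hq0 : q ≠ 0) (δ : ℕ) (hδ : δ ≤ 1)
    (hN : ∀ (ι : Type) [Fintype ι] [DecidableEq ι] (Hs : ι → Submodule K H) (m : ι → ℤ),
        DirectSum.IsInternal Hs → (∑ i, m i * (Module.finrank K (Hs i) : ℤ)) = 0 →
        (∃ i, m i ≠ 0 ∧ Hs i ≠ ⊥) →
        ∃ i j, (∃ x ∈ Hs i, ∃ y ∈ Hs j, q x y ≠ 0) ∧ m i + m j + (δ : ℤ) ≤ 0)
    (V : Submodule K H) (hV : V ≠ ⊥) (hiso : ∀ x ∈ V, ∀ y ∈ V, q x y = 0) :
    Module.finrank K V + Module.finrank K ↥(perp q V) + δ ≤ Module.finrank K H := by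
  by_contra hlt
  push Not at hlt
  obtain ⟨P, hP⟩ : ∃ P : Submodule K H, P = perp q V := ⟨_, rfl⟩
  rw [← hP] at hlt
  have hVP : V ≤ P := fun x hx => hP ▸ mem_perp.mpr (fun y hy => hiso x hx y hy)
  obtain ⟨U, hU⟩ := Submodule.exists_isCompl V
  obtain ⟨V1, hV1⟩ : ∃ V1 : Submodule K H, V1 = U ⊓ P := ⟨_, rfl⟩
  obtain ⟨V2, hV2⟩ := Submodule.exists_isCompl P
  have h1 : Disjoint V V1 := hV1 ▸ hU.disjoint.mono_right inf_le_left
  have h2 : V ⊔ V1 = P := by
    rw [hV1, ← sup_inf_assoc_of_le U hVP, hU.sup_eq_top, top_inf_eq]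
  have hV1P : V1 ≤ P := hV1 ▸ inf_le_right
  have h3 : Disjoint (V ⊔ V1) V2 := h2 ▸ hV2.disjoint
  obtain ⟨f, hf⟩ : ∃ f : Fin 3 → Submodule K H, f = ![V, V1, V2] := ⟨_, rfl⟩
  have hf0 : f 0 = V := by rw [hf]; rfl
  have hf1 : f 1 = V1 := by rw [hf]; rfl
  have hf2 : f 2 = V2 := by rw [hf]; rfl
  have hind : iSupIndep f := by
    rw [iSupIndep_fin_three, hf0, hf1, hf2]
    refine ⟨h1.disjoint_sup_right_of_disjoint_sup_left h3, ?_, ?_⟩
    · rw [sup_comm]
      exact h1.symm.disjoint_sup_right_of_disjoint_sup_left (by rw [sup_comm]; exact h3)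
    · exact h3.symm
  have htop : ⨆ i, f i = ⊤ := by
    rw [iSup_fin_three, hf0, hf1, hf2, h2, hV2.sup_eq_top]
  have hint : DirectSum.IsInternal f :=
    DirectSum.isInternal_submodule_of_iSupIndep_of_iSup_eq_top hind htop
  obtain ⟨v, hv⟩ : ∃ v : ℕ, Module.finrank K V = v := ⟨_, rfl⟩
  obtain ⟨v1, hv1⟩ : ∃ v : ℕ, Module.finrank K V1 = v := ⟨_, rfl⟩
  obtain ⟨v2, hv2⟩ : ∃ v : ℕ, Module.finrank K V2 = v := ⟨_, rfl⟩
  have hdP : Module.finrank K P = v + v1 := by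
    have h := Submodule.finrank_sup_add_finrank_inf_eq V V1
    rw [h1.eq_bot, finrank_bot, add_zero, h2, hv, hv1] at h
    exact h
  have hdH : v + v1 + v2 = Module.finrank K H := by
    have h := Submodule.finrank_add_eq_of_isCompl hV2
    rw [hdP, hv2] at h
    exact h
  have hvpos : 0 < v := by
    rw [← hv]
    exact Nat.pos_of_ne_zero (fun h => hV (Submodule.finrank_eq_zero.mp h))
  rw [hdP, hv] at hlt
  have hv12 : v1 + v2 ≠ 0 := by
    intro h0
    have hVtop : V = ⊤ := Submodule.eq_top_of_finrank_eq (by rw [hv, ← hdH]; omega)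
    apply hq0
    ext x y
    simpa using hiso x (hVtop ▸ Submodule.mem_top) y (hVtop ▸ Submodule.mem_top)
  obtain ⟨m, hm⟩ : ∃ m : Fin 3 → ℤ,
      m = ![-((v1 : ℤ) + v2), (v : ℤ) - v2, (v : ℤ) + v1] := ⟨_, rfl⟩
  have hm0 : m 0 = -((v1 : ℤ) + v2) := by rw [hm]; rfl
  have hm1 : m 1 = (v : ℤ) - v2 := by rw [hm]; rfl
  have hm2 : m 2 = (v : ℤ) + v1 := by rw [hm]; rfl
  have hsum : (∑ i, m i * (Module.finrank K (f i) : ℤ)) = 0 := by
    rw [Fin.sum_univ_three, hf0, hf1, hf2, hm0, hm1, hm2, hv, hv1, hv2]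
    ring
  have hne : ∃ i, m i ≠ 0 ∧ f i ≠ ⊥ := by
    refine ⟨0, ?_, hf0 ▸ hV⟩
    rw [hm0]
    omega
  obtain ⟨i, j, ⟨x, hx, y, hy, hxy⟩, hle⟩ := hN (Fin 3) f m hint hsum hne
  have hVV1 : ∀ x ∈ V, ∀ y ∈ V1, q x y = 0 := by
    intro x hx y hy
    have hy' : y ∈ perp q V := hP ▸ hV1P hy
    rw [hq, mem_perp.mp hy' x hx, map_zero]
  have hV1V : ∀ x ∈ V1, ∀ y ∈ V, q x y = 0 := by
    intro x hx y hy
    have hx' : x ∈ perp q V := hP ▸ hV1P hx
    exact mem_perp.mp hx' y hy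
  fin_cases i <;> fin_cases j
  · exact hxy (hiso x (hf0 ▸ hx) y (hf0 ▸ hy))
  · exact hxy (hVV1 x (hf0 ▸ hx) y (hf1 ▸ hy))
  · change m 0 + m 2 + (δ : ℤ) ≤ 0 at hle
    rw [hm0, hm2] at hle
    omega
  · exact hxy (hV1V x (hf1 ▸ hx) y (hf0 ▸ hy))
  · change m 1 + m 1 + (δ : ℤ) ≤ 0 at hle
    rw [hm1] at hle
    omega
  · change m 1 + m 2 + (δ : ℤ) ≤ 0 at hle
    rw [hm1, hm2] at hle
    omega
  · change m 2 + m 0 + (δ : ℤ) ≤ 0 at hle
    rw [hm0, hm2] at hle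
    omega
  · change m 2 + m 1 + (δ : ℤ) ≤ 0 at hle
    rw [hm1, hm2] at hle
    omega
  · change m 2 + m 2 + (δ : ℤ) ≤ 0 at hle
    rw [hm2] at hle
    omega

end aux

/-- Let W be a finite-dimensional complex vector space with an involution s, H a finite-dimensional
complex vector space and q : H → H → W a nonzero bilinear map with q(x)(y) = s(q(y)(x)). Write V^⊥ =
{x | q(x)(y) = 0 for all y ∈ V} and call V totally isotropic when q vanishes on V × V. The pair (H,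
q) is semistable (dim V + dim V^⊥ ≤ dim H for every nonzero totally isotropic subspace V),
respectively stable (strict inequality), if and only if the line of q is semistable, respectively
stable, for the action of SL(H), the latter being expressed through one-parameter subgroups: for
every decomposition H = ⊕_i H_i into subspaces with integer weights m_i such that Σ_i m_i dim H_i =
0 and some nonzero H_i has nonzero weight, there are indices i, j with q(H_i, H_j) ≠ 0 and m_i + m_j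
≤ 0, respectively m_i + m_j < 0. (The published statement speaks of semistability and stability of
the point of the projective space of such forms under SL(H); this row states the numerical condition
on one-parameter subgroups to which that is equivalent and which the published argument verifies.) -/
theorem result
    (W : Type) [AddCommGroup W] [Module ℂ W] [FiniteDimensional ℂ W]
    (s : W →ₗ[ℂ] W) (hs : s ∘ₗ s = LinearMap.id)
    (H : Type) [AddCommGroup H] [Module ℂ H] [FiniteDimensional ℂ H]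
    (q : H →ₗ[ℂ] H →ₗ[ℂ] W) (hq : ∀ x y : H, q x y = s (q y x)) (hq0 : q ≠ 0) :
    ((∀ V : Submodule ℂ H, V ≠ ⊥ → (∀ x ∈ V, ∀ y ∈ V, q x y = 0) →
        Module.finrank ℂ V + Module.finrank ℂ ↥(⨅ (y : H) (_ : y ∈ V), LinearMap.ker (q.flip y) : Submodule ℂ H) ≤ Module.finrank ℂ H) ↔
      (∀ (ι : Type) [Fintype ι] [DecidableEq ι] (Hs : ι → Submodule ℂ H) (m : ι → ℤ),
        DirectSum.IsInternal Hs → (∑ i, m i * (Module.finrank ℂ (Hs i) : ℤ)) = 0 →
        (∃ i, m i ≠ 0 ∧ Hs i ≠ ⊥) →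
        ∃ i j, (∃ x ∈ Hs i, ∃ y ∈ Hs j, q x y ≠ 0) ∧ m i + m j ≤ 0)) ∧
    ((∀ V : Submodule ℂ H, V ≠ ⊥ → (∀ x ∈ V, ∀ y ∈ V, q x y = 0) →
        Module.finrank ℂ V + Module.finrank ℂ ↥(⨅ (y : H) (_ : y ∈ V), LinearMap.ker (q.flip y) : Submodule ℂ H) < Module.finrank ℂ H) ↔
      (∀ (ι : Type) [Fintype ι] [DecidableEq ι] (Hs : ι → Submodule ℂ H) (m : ι → ℤ),
        DirectSum.IsInternal Hs → (∑ i, m i * (Module.finrank ℂ (Hs i) : ℤ)) = 0 →
        (∃ i, m i ≠ 0 ∧ Hs i ≠ ⊥) →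
        ∃ i j, (∃ x ∈ Hs i, ∃ y ∈ Hs j, q x y ≠ 0) ∧ m i + m j < 0)) := by
  refine ⟨⟨fun h ι _ _ Hs m h1 h2 h3 => fwd0 q h ι Hs m h1 h2 h3, fun h V hV hiso => ?_⟩,
    ⟨fun h ι _ _ Hs m h1 h2 h3 => fwd1 q h ι Hs m h1 h2 h3, fun h V hV hiso => ?_⟩⟩
  · have := bwd q s hq hq0 0 (by omega) (fun ι _ _ Hs m h1 h2 h3 => by
      obtain ⟨i, j, hp, hle⟩ := h ι Hs m h1 h2 h3
      exact ⟨i, j, hp, by simpa using hle⟩) V hV hiso
    rw [Nat.add_zero] at this
    exact this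
  · have := bwd q s hq hq0 1 le_rfl (fun ι _ _ Hs m h1 h2 h3 => by
      obtain ⟨i, j, hp, hle⟩ := h ι Hs m h1 h2 h3
      exact ⟨i, j, hp, by push_cast; omega⟩) V hV hiso
    exact this

end Groth.Agent.S15159
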