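import Groth.Statements.S15162
import Mathlib

set_option autoImplicit false
open Matrix
open BddFin

namespace Groth.Agent.S15162

theorem det_sub_one_eq_zero_of_fixed (M : Matrix (Fin 2) (Fin 2) ℤ) (v : Fin 2 → ℤ)
    (hv : v ≠ 0) (h : M *ᵥ v = v) : (M - 1).det = 0 := by
  rw [← Matrix.exists_mulVec_eq_zero_iff]
  refine ⟨v, hv, ?_⟩
  rw [Matrix.sub_mulVec, h, Matrix.one_mulVec, sub_self]

theorem sq_sub_one_eq_zero (M : Matrix (Fin 2) (Fin 2) ℤ) (hdet : M.det = 1)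
    (h1 : (M - 1).det = 0) : (M - 1) * (M - 1) = 0 := by
  rw [Matrix.det_fin_two] at hdet h1
  simp only [Matrix.sub_apply, Matrix.one_apply_eq, Matrix.one_apply_ne, ne_eq, zero_ne_one,
    one_ne_zero, not_false_eq_true, sub_zero, Fin.isValue] at h1
  have htr : M 0 0 + M 1 1 = 2 := by linear_combination hdet - h1
  ext i j
  fin_cases i <;> fin_cases j
  · simp [Matrix.mul_apply, Fin.sum_univ_two]
    linear_combination (M 0 0 - 1) * htr - h1
  · simp [Matrix.mul_apply, Fin.sum_univ_two]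
    linear_combination (M 0 1) * htr
  · simp [Matrix.mul_apply, Fin.sum_univ_two]
    linear_combination (M 1 0) * htr
  · simp [Matrix.mul_apply, Fin.sum_univ_two]
    linear_combination (M 1 1 - 1) * htr - h1

theorem one_add_pow_of_sq_zero (N : Matrix (Fin 2) (Fin 2) ℤ) (h : N * N = 0) (n : ℕ) :
    (1 + N) ^ n = 1 + (n : ℤ) • N := by
  induction n with
  | zero => simp
  | succ n ih =>
    rw [pow_succ, ih]
    rw [add_mul, mul_add, mul_add, one_mul, mul_one, smul_mul_assoc, h, smul_zero]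
    push_cast
    rw [add_smul, one_smul, one_mul]
    abel

theorem pow_eq_of_sq_zero (M : Matrix (Fin 2) (Fin 2) ℤ) (h : (M - 1) * (M - 1) = 0) (n : ℕ) :
    M ^ n = 1 + (n : ℤ) • (M - 1) := by
  have := one_add_pow_of_sq_zero (M - 1) h n
  rwa [add_sub_cancel] at this

theorem eq_one_of_unipotent (M : Matrix (Fin 2) (Fin 2) ℤ) (hdet : M.det = 1)
    (h1 : (M - 1).det = 0) (n : ℕ) (hn : 0 < n) (hpow : M ^ n = 1) : M = 1 := by
  have h2 := pow_eq_of_sq_zero M (sq_sub_one_eq_zero M hdet h1) n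
  rw [hpow] at h2
  have h3 : (n : ℤ) • (M - 1) = 0 := by
    have := h2
    rw [eq_comm, add_eq_left] at this
    exact this
  have h4 : M - 1 = 0 := by
    rcases smul_eq_zero.mp h3 with h | h
    · exfalso
      have : (n : ℤ) ≠ 0 := by exact_mod_cast hn.ne'
      exact this h
    · exact h
  exact sub_eq_zero.mp h4

theorem det_eq (γ : Matrix.GeneralLinearGroup (Fin 2) ℤ) :
    (γ : Matrix (Fin 2) (Fin 2) ℤ).det = 1 ∨ (γ : Matrix (Fin 2) (Fin 2) ℤ).det = -1 := by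
  have : IsUnit (γ : Matrix (Fin 2) (Fin 2) ℤ).det :=
    (Matrix.isUnit_iff_isUnit_det _).mp γ.isUnit
  exact Int.isUnit_iff.mp this

theorem eq_one_of_mem_of_det (Γ : Subgroup (Matrix.GeneralLinearGroup (Fin 2) ℤ)) [Finite Γ]
    (h : ∀ γ ∈ Γ, ∃ v : Fin 2 → ℤ, v ≠ 0 ∧ (γ : Matrix (Fin 2) (Fin 2) ℤ) *ᵥ v = v)
    (γ : Matrix.GeneralLinearGroup (Fin 2) ℤ) (hγ : γ ∈ Γ)
    (hdet : (γ : Matrix (Fin 2) (Fin 2) ℤ).det = 1) : γ = 1 := by
  obtain ⟨v, hv, hfix⟩ := h γ hγ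
  have hfin : IsOfFinOrder (⟨γ, hγ⟩ : Γ) := isOfFinOrder_of_finite _
  obtain ⟨n, hn, hpow⟩ := hfin.exists_pow_eq_one
  have hpow' : (γ : Matrix (Fin 2) (Fin 2) ℤ) ^ n = 1 := by
    have h1 : γ ^ n = 1 := by
      have := congrArg (Subtype.val) hpow
      simpa using this
    have := congrArg (fun g : Matrix.GeneralLinearGroup (Fin 2) ℤ => (g : Matrix (Fin 2) (Fin 2) ℤ)) h1
    simpa using this
  have := eq_one_of_unipotent _ hdet (det_sub_one_eq_zero_of_fixed _ v hv hfix) n hn hpow'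
  apply Units.ext
  simpa using this

theorem result
    (Γ : Subgroup (Matrix.GeneralLinearGroup (Fin 2) ℤ)) [Finite Γ]
    (h : ∀ γ ∈ Γ, ∃ v : Fin 2 → ℤ, v ≠ 0 ∧ (γ : Matrix (Fin 2) (Fin 2) ℤ) *ᵥ v = v) :
    ∃ v : Fin 2 → ℤ, v ≠ 0 ∧ ∀ γ ∈ Γ, (γ : Matrix (Fin 2) (Fin 2) ℤ) *ᵥ v = v := by
  by_cases hall : ∀ γ ∈ Γ, γ = 1
  · refine ⟨![1, 0], ?_, ?_⟩
    · intro h0
      have := congr_fun h0 0
      simp at this
    · intro γ hγ
      rw [hall γ hγ]
      simp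
  · push Not at hall
    obtain ⟨γ0, hγ0, hne⟩ := hall
    obtain ⟨v, hv, hfix⟩ := h γ0 hγ0
    refine ⟨v, hv, ?_⟩
    have hdet0 : (γ0 : Matrix (Fin 2) (Fin 2) ℤ).det = -1 := by
      rcases det_eq γ0 with h1 | h1
      · exact absurd (eq_one_of_mem_of_det Γ h γ0 hγ0 h1) hne
      · exact h1
    intro γ hγ
    rcases det_eq γ with h1 | h1
    · rw [eq_one_of_mem_of_det Γ h γ hγ h1]
      simp
    · have hmem : γ0⁻¹ * γ ∈ Γ := Γ.mul_mem (Γ.inv_mem hγ0) hγ
      have hdet : ((γ0⁻¹ * γ : Matrix.GeneralLinearGroup (Fin 2) ℤ) : Matrix (Fin 2) (Fin 2) ℤ).det = 1 := by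
        have e : (γ0 : Matrix (Fin 2) (Fin 2) ℤ).det *
            ((γ0⁻¹ * γ : Matrix.GeneralLinearGroup (Fin 2) ℤ) : Matrix (Fin 2) (Fin 2) ℤ).det =
            (γ : Matrix (Fin 2) (Fin 2) ℤ).det := by
          rw [← Matrix.det_mul, ← Units.val_mul, mul_inv_cancel_left]
        rw [hdet0, h1] at e
        linarith
      have := eq_one_of_mem_of_det Γ h _ hmem hdet
      have hγeq : γ = γ0 := by
        rw [inv_mul_eq_one] at this
        exact this.symm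
      rw [hγeq]
      exact hfix

end Groth.Agent.S15162
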