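import Groth.Statements.S15163
import Groth.Agent.S15162
import Mathlib

set_option autoImplicit false
open Matrix
open BddFin

namespace Groth.Agent.S15163

theorem cayley_hamilton_two (M : Matrix (Fin 2) (Fin 2) ℤ) :
    M * M = M.trace • M - M.det • (1 : Matrix (Fin 2) (Fin 2) ℤ) := by
  ext i j
  fin_cases i <;> fin_cases j <;>
    simp only [Matrix.mul_apply, Fin.sum_univ_two, Matrix.sub_apply, Matrix.smul_apply,
      Matrix.one_apply_eq, Matrix.one_apply_ne, Matrix.trace, Matrix.diag, Matrix.det_fin_two,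
      smul_eq_mul, Fin.zero_eta, Fin.mk_one, Fin.isValue, ne_eq, zero_ne_one, one_ne_zero,
      not_false_eq_true, mul_zero, mul_one, sub_zero] <;> ring

theorem trace_pow_rec (M : Matrix (Fin 2) (Fin 2) ℤ) (n : ℕ) :
    (M ^ (n + 2)).trace = M.trace * (M ^ (n + 1)).trace - M.det * (M ^ n).trace := by
  have : M ^ (n + 2) = M.trace • M ^ (n + 1) - M.det • M ^ n := by
    rw [pow_add M n 2, pow_two, cayley_hamilton_two, mul_sub, mul_smul_comm, mul_smul_comm,
      mul_one, ← pow_succ]
  rw [this, Matrix.trace_sub, Matrix.trace_smul, Matrix.trace_smul]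
  simp [smul_eq_mul]

theorem abs_trace_le_two (M : Matrix (Fin 2) (Fin 2) ℤ) (hdet : M.det = 1 ∨ M.det = -1)
    (n : ℕ) (hn : 0 < n) (hpow : M ^ n = 1) : |M.trace| ≤ 2 := by
  by_contra hcon
  push Not at hcon
  have h3 : 3 ≤ |M.trace| := by omega
  have he : |M.det| = 1 := by
    rcases hdet with h | h <;> rw [h] <;> simp
  have key : ∀ k : ℕ, |(M ^ k).trace| < |(M ^ (k + 1)).trace| := by
    intro k
    induction k with
    | zero =>
      simp only [pow_zero, zero_add, pow_one]
      have : (1 : Matrix (Fin 2) (Fin 2) ℤ).trace = 2 := by simp [Matrix.trace, Fin.sum_univ_two]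
      rw [this]
      simpa using hcon
    | succ k ih =>
      rw [trace_pow_rec]
      have h1 := abs_sub_abs_le_abs_sub (M.trace * (M ^ (k + 1)).trace) (M.det * (M ^ k).trace)
      rw [abs_mul, abs_mul, he, one_mul] at h1
      have h2 : 0 ≤ |(M ^ (k + 1)).trace| := abs_nonneg _
      have h4 : 0 ≤ |(M ^ k).trace| := abs_nonneg _
      nlinarith
  have mono : ∀ k : ℕ, 0 < k → 2 < |(M ^ k).trace| := by
    intro k hk
    induction k with
    | zero => omega
    | succ k ih =>
      rcases Nat.eq_zero_or_pos k with h0 | h0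
      · subst h0
        simpa using hcon
      · exact lt_trans (ih h0) (key k)
  have := mono n hn
  rw [hpow] at this
  have h1 : (1 : Matrix (Fin 2) (Fin 2) ℤ).trace = 2 := by simp [Matrix.trace, Fin.sum_univ_two]
  rw [h1] at this
  simp at this

theorem det_sub_one_formula (M : Matrix (Fin 2) (Fin 2) ℤ) :
    (M - 1).det = M.det - M.trace + 1 := by
  simp [Matrix.det_fin_two, Matrix.trace, Fin.sum_univ_two]
  ring

theorem result
    (Γ : Subgroup (Matrix.GeneralLinearGroup (Fin 2) ℤ)) [Finite Γ] (d : ℕ) (hd : 6 < d)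
    (w : Fin 2 → ZMod d) (hw : ∀ m : ℕ, 0 < m → m < d → m • w ≠ 0)
    (hfix : ∀ γ ∈ Γ, ((γ : Matrix (Fin 2) (Fin 2) ℤ).map (Int.castRingHom (ZMod d))) *ᵥ w = w) :
    ∃ v : Fin 2 → ℤ, v ≠ 0 ∧ ∀ γ ∈ Γ, (γ : Matrix (Fin 2) (Fin 2) ℤ) *ᵥ v = v := by
  apply Groth.Agent.S15162.result Γ
  intro γ hγ
  set M : Matrix (Fin 2) (Fin 2) ℤ := (γ : Matrix (Fin 2) (Fin 2) ℤ) with hM
  -- finite order
  have hfin : IsOfFinOrder (⟨γ, hγ⟩ : Γ) := isOfFinOrder_of_finite _
  obtain ⟨n, hn, hpow⟩ := hfin.exists_pow_eq_one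
  have hpow' : M ^ n = 1 := by
    have h1 : γ ^ n = 1 := by
      have := congrArg (Subtype.val) hpow
      simpa using this
    have := congrArg (fun g : Matrix.GeneralLinearGroup (Fin 2) ℤ => (g : Matrix (Fin 2) (Fin 2) ℤ)) h1
    simpa using this
  have hdet := Groth.Agent.S15162.det_eq γ
  have htr := abs_trace_le_two M hdet n hn hpow'
  -- divisibility
  have hdvd : (d : ℤ) ∣ (M - 1).det := by
    set Mbar := M.map (Int.castRingHom (ZMod d)) with hMbar
    have h0 : (Mbar - 1) *ᵥ w = 0 := by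
      rw [Matrix.sub_mulVec, hfix γ hγ, Matrix.one_mulVec, sub_self]
    have h1 : (Mbar - 1).det • w = 0 := by
      have := congrArg (fun v => (Mbar - 1).adjugate *ᵥ v) h0
      simp only [Matrix.mulVec_mulVec, Matrix.adjugate_mul, Matrix.mulVec_zero] at this
      rw [Matrix.smul_mulVec, Matrix.one_mulVec] at this
      exact this
    have h2 : (Mbar - 1).det = (((M - 1).det : ℤ) : ZMod d) := by
      have := RingHom.map_det (Int.castRingHom (ZMod d)) (M - 1)
      rw [eq_intCast] at this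
      rw [this]
      congr 1
      ext i j
      simp [hMbar, Matrix.one_apply]
    rw [h2] at h1
    set δ := (M - 1).det with hδ
    have hdpos : (0 : ℤ) < d := by exact_mod_cast (by omega : 0 < d)
    have hm1 : 0 ≤ δ % d := Int.emod_nonneg _ hdpos.ne'
    have hm2 : δ % d < d := Int.emod_lt_of_pos _ hdpos
    by_contra hndvd
    have hm3 : δ % d ≠ 0 := fun h => hndvd (Int.dvd_of_emod_eq_zero h)
    have hmpos : 0 < (δ % d).toNat := by omega
    have hmlt : (δ % d).toNat < d := by omega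
    apply hw _ hmpos hmlt
    rw [← Nat.cast_smul_eq_nsmul (ZMod d)]
    have : (((δ % d).toNat : ℕ) : ZMod d) = ((δ : ℤ) : ZMod d) := by
      have e1 : (((δ % d).toNat : ℕ) : ℤ) = δ % d := Int.toNat_of_nonneg hm1
      have e2 : (((δ % d).toNat : ℕ) : ZMod d) = (((δ % d).toNat : ℤ) : ZMod d) :=
        (Int.cast_natCast _).symm
      rw [e2, e1, ZMod.intCast_mod]
    rw [this]
    exact h1
  have hzero : (M - 1).det = 0 := by
    apply Int.eq_zero_of_abs_lt_dvd hdvd
    rw [det_sub_one_formula]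
    have h6 : (6 : ℤ) < d := by exact_mod_cast hd
    have habs := abs_le.mp htr
    rcases hdet with h | h <;> rw [h] <;> rw [abs_lt] <;> constructor <;> linarith
  obtain ⟨v, hv, hv0⟩ := Matrix.exists_mulVec_eq_zero_iff.mpr hzero
  refine ⟨v, hv, ?_⟩
  rw [Matrix.sub_mulVec, Matrix.one_mulVec, sub_eq_zero] at hv0
  exact hv0

end Groth.Agent.S15163
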