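import Groth.Statements.S15164
import Mathlib

set_option autoImplicit false
universe u v
open BddFin

namespace Groth.Agent.S15164

theorem key {K : Type u} [Field K] (h2 : (2 : K) ≠ 0)
    {V : Type v} [AddCommGroup V] [Module K V]
    (q : QuadraticForm K V) (hq : q.Anisotropic)
    (g : V →ₗ[K] V) (hg : ∀ x : V, q (g x) = q x) (x : V)
    (h : (g - 1) ((g - 1) x) = 0) : (g - 1) x = 0 := by
  set w := (g - 1) x with hw
  have hgx : g x = x + w := by simp [hw]
  have hgw : g w = w := by
    have : g w - w = 0 := by simpa using h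
    exact sub_eq_zero.mp this
  have h1 : q (x + w) = q x := by rw [← hgx, hg]
  have h2' : q (x + w + w) = q (x + w) := by
    have : g (x + w) = x + w + w := by rw [map_add, hgx, hgw]
    rw [← this, hg]
  have e1 := QuadraticMap.map_add q x w
  have e2 := QuadraticMap.map_add q (x + w) w
  have e3 : QuadraticMap.polar q (x + w) w = QuadraticMap.polar q x w + QuadraticMap.polar q w w :=
    QuadraticMap.polar_add_left ..
  have e4 : QuadraticMap.polar q w w = 2 * q w := by
    simp [QuadraticMap.polar_self]
  have h3 : 2 * q w = 0 := by linear_combination h2' - e2 - e3 - e4 - h1 + e1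
  have : q w = 0 := by simpa [h2] using h3
  exact hq _ this

theorem pow_key {K : Type u} [Field K] (h2 : (2 : K) ≠ 0)
    {V : Type v} [AddCommGroup V] [Module K V]
    (q : QuadraticForm K V) (hq : q.Anisotropic)
    (g : V →ₗ[K] V) (hg : ∀ x : V, q (g x) = q x) (k : ℕ)
    (h : (g - 1) ^ (k + 1) = 0) : g - 1 = 0 := by
  induction k with
  | zero => simpa using h
  | succ k ih =>
    apply ih
    ext x
    have hx : ((g - 1) ^ (k + 1 + 1)) x = 0 := by rw [h]; rfl
    rw [pow_succ', pow_succ'] at hx
    simp only [Module.End.mul_apply] at hx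
    have := key h2 q hq g hg _ hx
    rw [pow_succ']
    simpa using this

theorem result
    (K : Type u) [Field K] (p : ℕ) [Fact p.Prime] [CharP K p] (hp : p ≠ 2)
    (V : Type v) [AddCommGroup V] [Module K V] [FiniteDimensional K V]
    (q : QuadraticForm K V) (hq : q.Anisotropic)
    (g : V ≃ₗ[K] V) (hg : ∀ x : V, q (g x) = q x) (hgp : g ^ p = 1) : g = 1 := by
  have hp0 : 0 < p := (Fact.out : p.Prime).pos
  have h2 : (2 : K) ≠ 0 := by
    intro h
    have h2' : ((2 : ℕ) : K) = 0 := by exact_mod_cast h
    rw [CharP.cast_eq_zero_iff K p] at h2'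
    have := (Nat.prime_dvd_prime_iff_eq (Fact.out : p.Prime) Nat.prime_two).mp h2'
    exact hp this
  have hpoly : ((Polynomial.X - 1 : Polynomial K)) ^ p = Polynomial.X ^ p - 1 := by
    rw [sub_pow_char]; simp
  have hgp' : (g : V →ₗ[K] V) ^ p = 1 := by
    have := congrArg (LinearEquiv.automorphismGroup.toLinearMapMonoidHom (R := K) (M := V)) hgp
    rw [map_pow, map_one] at this
    exact this
  have hN : ((g : V →ₗ[K] V) - 1) ^ p = 0 := by
    have := congrArg (Polynomial.aeval (g : V →ₗ[K] V)) hpoly
    simpa [hgp'] using this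
  obtain ⟨k, rfl⟩ : ∃ k, p = k + 1 := ⟨p - 1, by omega⟩
  have := pow_key h2 q hq (g : V →ₗ[K] V) hg k hN
  ext x
  have hx := congrArg (fun f : V →ₗ[K] V => f x) this
  simp only [LinearMap.sub_apply, LinearMap.zero_apply] at hx
  simpa [sub_eq_zero] using hx

end Groth.Agent.S15164
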