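import Groth.Statements.S15165
import Groth.Agent.S15164
import Mathlib

set_option autoImplicit false
universe u v
open Polynomial
open BddFin

namespace Groth.Agent.S15165

theorem pow_invariant {K : Type u} [Field K] {V : Type v} [AddCommGroup V] [Module K V]
    (q : QuadraticForm K V) (g : V ≃ₗ[K] V) (hg : ∀ x : V, q (g x) = q x) (k : ℕ) (x : V) :
    q ((g ^ k) x) = q x := by
  induction k with
  | zero => simp
  | succ k ih =>
    rw [pow_succ', LinearEquiv.mul_apply, hg, ih]

theorem result
    (K : Type u) [Field K] (hK : ∀ n : ℕ, 0 < n → (X ^ n - 1 : K[X]).Splits) (h2 : (2 : K) ≠ 0)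
    (V : Type v) [AddCommGroup V] [Module K V] [FiniteDimensional K V]
    (q : QuadraticForm K V) (hq : q.Anisotropic)
    (g : V ≃ₗ[K] V) (hg : ∀ x : V, q (g x) = q x) (d : ℕ) (hd : 0 < d) (hgd : g ^ d = 1) :
    g ^ 2 = 1 := by
  have hfin : IsOfFinOrder g := isOfFinOrder_iff_pow_eq_one.mpr ⟨d, hd, hgd⟩
  set m := orderOf g with hm
  have hmpos : 0 < m := hfin.orderOf_pos
  have hgm : g ^ m = 1 := pow_orderOf_eq_one g
  have hmK : (m : K) ≠ 0 := by
    intro h0
    obtain ⟨p, hp⟩ := CharP.exists K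
    have hpm : p ∣ m := (CharP.cast_eq_zero_iff K p m).mp h0
    have hp0 : p ≠ 0 := by
      rintro rfl
      rw [zero_dvd_iff] at hpm
      omega
    have hpprime : p.Prime := (CharP.char_is_prime_or_zero K p).resolve_right hp0
    haveI : Fact p.Prime := ⟨hpprime⟩
    have hp2 : p ≠ 2 := by
      rintro rfl
      apply h2
      have := CharP.cast_eq_zero K 2
      exact_mod_cast this
    obtain ⟨m', hm'⟩ := hpm
    have hpow : (g ^ m') ^ p = 1 := by rw [← pow_mul, mul_comm, ← hm', hgm]
    have h1 := Groth.Agent.S15164.result K p hp2 V q hq (g ^ m') (pow_invariant q g hg m') hpow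
    have hdvd : m ∣ m' := orderOf_dvd_of_pow_eq_one h1
    have hm'pos : 0 < m' := by
      rcases Nat.eq_zero_or_pos m' with h | h
      · subst h; omega
      · exact h
    have h3 := Nat.le_of_dvd hm'pos hdvd
    have h4 : 2 ≤ p := hpprime.two_le
    nlinarith
  -- the endomorphism
  set G : Module.End K V := (g : V →ₗ[K] V) with hG
  have hGpow : ∀ k : ℕ, G ^ k = ((g ^ k : V ≃ₗ[K] V) : V →ₗ[K] V) := by
    intro k
    have := map_pow (LinearEquiv.automorphismGroup.toLinearMapMonoidHom (R := K) (M := V)) g k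
    exact this.symm
  have hGm : G ^ m = 1 := by rw [hGpow, hgm]; rfl
  have hGinv : ∀ x : V, q (G x) = q x := hg
  have hXm : (X ^ m - 1 : K[X]) ≠ 0 := by
    have := X_pow_sub_C_ne_zero hmpos (1 : K)
    simpa using this
  have haeval : aeval G (X ^ m - 1 : K[X]) = 0 := by simp [hGm]
  have hdvd : minpoly K G ∣ X ^ m - 1 := minpoly.dvd K G haeval
  have hsplits : (minpoly K G).Splits := (hK m hmpos).of_dvd hXm hdvd
  have hsep : (minpoly K G).Separable := by
    have := separable_X_pow_sub_C (1 : K) hmK one_ne_zero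
    rw [map_one] at this
    exact this.of_dvd hdvd
  have hne : minpoly K G ≠ 0 := minpoly.ne_zero (LinearMap.isIntegral G)
  have hX2 : (X ^ 2 - 1 : K[X]) ≠ 0 := by
    have := X_pow_sub_C_ne_zero (by norm_num : 0 < 2) (1 : K)
    simpa using this
  have hroots : (minpoly K G).roots ≤ (X ^ 2 - 1 : K[X]).roots := by
    rw [Multiset.le_iff_subset (nodup_roots hsep)]
    intro ζ hζ
    rw [mem_roots hne] at hζ
    have hev : G.HasEigenvalue ζ := Module.End.hasEigenvalue_of_isRoot hζ
    obtain ⟨v, hv⟩ := hev.exists_hasEigenvector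
    have hv0 : v ≠ 0 := hv.2
    have hGv : G v = ζ • v := hv.apply_eq_smul
    have h1 : q v = (ζ * ζ) * q v := by
      conv_lhs => rw [← hGinv v, hGv, QuadraticMap.map_smul]
      rfl
    have hqv : q v ≠ 0 := fun h => hv0 (hq v h)
    have h3 : ζ * ζ = 1 := by
      have : (ζ * ζ - 1) * q v = 0 := by linear_combination -h1
      rcases mul_eq_zero.mp this with h | h
      · exact sub_eq_zero.mp h
      · exact absurd h hqv
    rw [mem_roots hX2]
    simp [IsRoot, pow_two, h3]
  have hdvd2 : minpoly K G ∣ X ^ 2 - 1 := hsplits.dvd_of_roots_le_roots hne hroots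
  have haeval2 : aeval G (X ^ 2 - 1 : K[X]) = 0 := by
    obtain ⟨c, hc⟩ := hdvd2
    rw [hc, map_mul, minpoly.aeval, zero_mul]
  have hG2 : G ^ 2 = 1 := by
    have := haeval2
    simp only [map_sub, map_pow, aeval_X, map_one] at this
    exact sub_eq_zero.mp this
  rw [hGpow] at hG2
  ext x
  have := LinearMap.congr_fun hG2 x
  simpa using this

end Groth.Agent.S15165
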