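import Groth.Statements.S15166
import Mathlib

set_option autoImplicit false
universe u v
open Polynomial
open BddFin

namespace Groth.Agent.S15166



section Count

variable {K : Type u} [Field K]

theorem restr_apply {V : Type v} [AddCommGroup V] [Module K V] (W W' : Submodule K V)
    (h : IsCompl W W') (s : Module.End K V) (hs : ∀ x ∈ W, s x ∈ W) (w : W) :
    (((Submodule.projectionOnto W W' h) ∘ₗ s ∘ₗ W.subtype) w : V) = s w := by
  have := Submodule.projectionOnto_apply_left h ⟨s w, hs w w.2⟩
  simp only [LinearMap.coe_comp, Function.comp_apply, Submodule.subtype_apply]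
  rw [this]

theorem inv_count (h2 : (2 : K) ≠ 0) : ∀ (n : ℕ) (V : Type v) [AddCommGroup V] [Module K V]
    [FiniteDimensional K V], Module.finrank K V = n → ∀ S : Finset (Module.End K V),
    (∀ s ∈ S, s * s = 1) → (∀ s ∈ S, ∀ t ∈ S, s * t = t * s) → S.card ≤ 2 ^ n := by
  intro n
  induction n using Nat.strong_induction_on with
  | _ n ih =>
  intro V _ _ _ hn S hinv hcomm
  classical
  by_cases hA : ∀ s ∈ S, s = 1 ∨ s = -1
  · by_cases hn0 : n = 0
    · subst hn0
      have hsub : Subsingleton V := Module.finrank_zero_iff.mp hn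
      have : ∀ s ∈ S, ∀ t ∈ S, s = t := by
        intro s _ t _
        ext x
        exact Subsingleton.elim _ _
      have := Finset.card_le_one.mpr this
      simpa using this
    · have hsub : S ⊆ {1, -1} := by
        intro s hs
        rcases hA s hs with h | h <;> simp [h]
      have h1 := Finset.card_le_card hsub
      have h2' : ({1, -1} : Finset (Module.End K V)).card ≤ 2 := Finset.card_le_two
      have h3 : 2 ^ 1 ≤ 2 ^ n := Nat.pow_le_pow_right (by norm_num) (by omega)
      omega
  · push Not at hA
    obtain ⟨g, hgS, hg1, hgm1⟩ := hA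
    have hgg : g * g = 1 := hinv g hgS
    have hggx : ∀ x, g (g x) = x := fun x => by
      have := congrArg (fun f => f x) hgg
      simpa using this
    set Wp : Submodule K V := LinearMap.ker (g - 1) with hWp
    set Wm : Submodule K V := LinearMap.ker (g + 1) with hWm
    have memWp : ∀ x, x ∈ Wp ↔ g x = x := by
      intro x
      rw [hWp, LinearMap.mem_ker, LinearMap.sub_apply, Module.End.one_apply, sub_eq_zero]
    have memWm : ∀ x, x ∈ Wm ↔ g x = -x := by
      intro x
      rw [hWm, LinearMap.mem_ker, LinearMap.add_apply, Module.End.one_apply,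
        add_eq_zero_iff_eq_neg]
    have hcompl : IsCompl Wp Wm := by
      refine IsCompl.of_eq ?_ ?_
      · rw [eq_bot_iff]
        intro x hx
        rw [Submodule.mem_inf, memWp, memWm] at hx
        have h2x : (2 : K) • x = 0 := by
          rw [two_smul]
          have : x = -x := hx.1.symm.trans hx.2
          nth_rewrite 1 [this]
          simp
        rw [Submodule.mem_bot]
        exact (smul_eq_zero.mp h2x).resolve_left h2
      · rw [eq_top_iff]
        intro x _
        rw [Submodule.mem_sup]
        refine ⟨(2 : K)⁻¹ • (x + g x), ?_, (2 : K)⁻¹ • (x - g x), ?_, ?_⟩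
        · rw [memWp, map_smul, map_add, hggx, add_comm]
        · rw [memWm, map_smul, map_sub, hggx, ← smul_neg, neg_sub]
        · rw [← smul_add]
          have : x + g x + (x - g x) = (2 : K) • x := by
            rw [two_smul]
            abel
          rw [this, smul_smul, inv_mul_cancel₀ h2, one_smul]
    have hWp_top : Wp ≠ ⊤ := by
      intro h
      apply hg1
      ext x
      have : x ∈ Wp := by rw [h]; trivial
      rw [memWp] at this
      simpa using this
    have hWm_top : Wm ≠ ⊤ := by
      intro h
      apply hgm1
      ext x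
      have : x ∈ Wm := by rw [h]; trivial
      rw [memWm] at this
      simpa using this
    have hdim := Submodule.finrank_add_eq_of_isCompl hcompl
    have hp_lt : Module.finrank K Wp < n := by
      rw [← hn]
      exact Submodule.finrank_lt hWp_top
    have hm_lt : Module.finrank K Wm < n := by
      rw [← hn]
      exact Submodule.finrank_lt hWm_top
    have presp : ∀ s ∈ S, ∀ x ∈ Wp, s x ∈ Wp := by
      intro s hs x hx
      rw [memWp] at hx ⊢
      have := congrArg (fun f => f x) (hcomm g hgS s hs)
      simp only [Module.End.mul_apply] at this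
      rw [this, hx]
    have presm : ∀ s ∈ S, ∀ x ∈ Wm, s x ∈ Wm := by
      intro s hs x hx
      rw [memWm] at hx ⊢
      have := congrArg (fun f => f x) (hcomm g hgS s hs)
      simp only [Module.End.mul_apply] at this
      rw [this, hx, map_neg]
    let rp : Module.End K V → Module.End K Wp := fun s =>
      (Submodule.projectionOnto Wp Wm hcompl) ∘ₗ s ∘ₗ Wp.subtype
    let rm : Module.End K V → Module.End K Wm := fun s =>
      (Submodule.projectionOnto Wm Wp hcompl.symm) ∘ₗ s ∘ₗ Wm.subtype
    have rp_apply : ∀ s ∈ S, ∀ w : Wp, ((rp s w : Wp) : V) = s w := fun s hs w =>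
      restr_apply Wp Wm hcompl s (presp s hs) w
    have rm_apply : ∀ s ∈ S, ∀ w : Wm, ((rm s w : Wm) : V) = s w := fun s hs w =>
      restr_apply Wm Wp hcompl.symm s (presm s hs) w
    have hSp : (S.image rp).card ≤ 2 ^ Module.finrank K Wp := by
      apply ih _ hp_lt Wp rfl
      · intro s' hs'
        obtain ⟨s, hs, rfl⟩ := Finset.mem_image.mp hs'
        ext w
        rw [Module.End.mul_apply, rp_apply s hs, rp_apply s hs, Module.End.one_apply]
        have := congrArg (fun f => f (w : V)) (hinv s hs)
        simpa using this
      · intro s' hs' t' ht'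
        obtain ⟨s, hs, rfl⟩ := Finset.mem_image.mp hs'
        obtain ⟨t, ht, rfl⟩ := Finset.mem_image.mp ht'
        ext w
        rw [Module.End.mul_apply, Module.End.mul_apply, rp_apply s hs, rp_apply t ht,
          rp_apply t ht, rp_apply s hs]
        have := congrArg (fun f => f (w : V)) (hcomm s hs t ht)
        simpa using this
    have hSm : (S.image rm).card ≤ 2 ^ Module.finrank K Wm := by
      apply ih _ hm_lt Wm rfl
      · intro s' hs'
        obtain ⟨s, hs, rfl⟩ := Finset.mem_image.mp hs'
        ext w
        rw [Module.End.mul_apply, rm_apply s hs, rm_apply s hs, Module.End.one_apply]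
        have := congrArg (fun f => f (w : V)) (hinv s hs)
        simpa using this
      · intro s' hs' t' ht'
        obtain ⟨s, hs, rfl⟩ := Finset.mem_image.mp hs'
        obtain ⟨t, ht, rfl⟩ := Finset.mem_image.mp ht'
        ext w
        rw [Module.End.mul_apply, Module.End.mul_apply, rm_apply s hs, rm_apply t ht,
          rm_apply t ht, rm_apply s hs]
        have := congrArg (fun f => f (w : V)) (hcomm s hs t ht)
        simpa using this
    have hinj : S.card ≤ ((S.image rp) ×ˢ (S.image rm)).card := by
      apply Finset.card_le_card_of_injOn (fun s => (rp s, rm s))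
      · intro s hs
        simp only [Finset.coe_product, Set.mem_prod, Finset.mem_coe]
        exact ⟨Finset.mem_image_of_mem _ hs, Finset.mem_image_of_mem _ hs⟩
      · intro s hs t ht hst
        simp only [Prod.mk.injEq] at hst
        ext x
        have hx : x ∈ Wp ⊔ Wm := by
          rw [hcompl.sup_eq_top]
          trivial
        obtain ⟨a, ha, b, hb, rfl⟩ := Submodule.mem_sup.mp hx
        rw [map_add, map_add]
        have e1 : s a = t a := by
          have h1 := rp_apply s hs ⟨a, ha⟩
          have h2 := rp_apply t ht ⟨a, ha⟩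
          rw [hst.1] at h1
          exact h1.symm.trans h2
        have e2 : s b = t b := by
          have h1 := rm_apply s hs ⟨b, hb⟩
          have h2 := rm_apply t ht ⟨b, hb⟩
          rw [hst.2] at h1
          exact h1.symm.trans h2
        rw [e1, e2]
    rw [Finset.card_product] at hinj
    calc S.card ≤ (S.image rp).card * (S.image rm).card := hinj
      _ ≤ 2 ^ Module.finrank K Wp * 2 ^ Module.finrank K Wm := Nat.mul_le_mul hSp hSm
      _ = 2 ^ n := by rw [← pow_add, hdim, hn]

end Count



section Isom

open Polynomial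

variable {K : Type u} [Field K] {V : Type v} [AddCommGroup V] [Module K V]

theorem eig_sq (q : QuadraticForm K V) (hq : q.Anisotropic) (f : Module.End K V)
    (hf : ∀ x, q (f x) = q x) (ζ : K) (u : V) (hu : u ≠ 0) (h : f u = ζ • u) : ζ * ζ = 1 := by
  have h1 := hf u
  rw [h, QuadraticMap.map_smul, smul_eq_mul] at h1
  have hq0 : q u ≠ 0 := fun h0 => hu (hq u h0)
  have : (ζ * ζ - 1) * q u = 0 := by linear_combination h1
  rcases mul_eq_zero.mp this with h' | h'
  · exact sub_eq_zero.mp h'
  · exact absurd h' hq0

theorem ker_sq (q : QuadraticForm K V) (hq : q.Anisotropic) (h2 : (2 : K) ≠ 0)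
    (f : Module.End K V) (hf : ∀ x, q (f x) = q x) (ε : K) (hε : ε * ε = 1) (w : V)
    (h : f (f w - ε • w) = ε • (f w - ε • w)) : f w - ε • w = 0 := by
  set z := f w - ε • w with hz
  have hfw : f w = ε • w + z := by rw [hz]; abel
  have hpol : ∀ x y, QuadraticMap.polar q (f x) (f y) = QuadraticMap.polar q x y := by
    intro x y
    unfold QuadraticMap.polar
    rw [← map_add, hf, hf, hf]
  have h1 := hpol w z
  rw [h, hfw, QuadraticMap.polar_add_left, QuadraticMap.polar_smul_left,
    QuadraticMap.polar_smul_right, QuadraticMap.polar_smul_right, QuadraticMap.polar_self] at h1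
  simp only [smul_eq_mul, nsmul_eq_mul, Nat.cast_ofNat] at h1
  have hε0 : ε ≠ 0 := by
    rintro rfl
    simp at hε
  have h3 : (2 * ε) * q z = 0 := by linear_combination h1 - (QuadraticMap.polar q w z) * hε
  have : q z = 0 := by
    rcases mul_eq_zero.mp h3 with h' | h'
    · exact absurd h' (mul_ne_zero h2 hε0)
    · exact h'
  exact hq z this

theorem saturate (q : QuadraticForm K V) (hq : q.Anisotropic) (h2 : (2 : K) ≠ 0)
    (f : Module.End K V) (hf : ∀ x, q (f x) = q x) (ζ : K) (v : V)
    (h : f (f (f v - ζ • v)) = f v - ζ • v) : f (f v) = v := by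
  by_contra hne
  set u := f (f v) - v with hu
  have hu0 : u ≠ 0 := sub_ne_zero.mpr hne
  have hfu : f u = ζ • u := by
    have e1 : f (f (f v - ζ • v)) = f (f (f v)) - ζ • f (f v) := by
      rw [map_sub, map_sub, map_smul, map_smul]
    rw [e1, sub_eq_iff_eq_add] at h
    rw [hu, map_sub, smul_sub, h]
    abel
  have hζ := eig_sq q hq f hf ζ u hu0 hfu
  have hsplit : u = (f (f v + ζ • v)) - ζ • (f v + ζ • v) := by
    rw [hu, map_add, map_smul, smul_add, smul_smul, hζ, one_smul]
    abel
  have key := ker_sq q hq h2 f hf ζ hζ (f v + ζ • v) (by rw [← hsplit]; exact hfu)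
  rw [← hsplit] at key
  exact hu0 key

theorem sq_eq_one (q : QuadraticForm K V) (hq : q.Anisotropic) (h2 : (2 : K) ≠ 0)
    (f : Module.End K V) (hf : ∀ x, q (f x) = q x) (n : ℕ) (hn : 0 < n)
    (hsplit : (X ^ n - 1 : K[X]).Splits) (hfn : f ^ n = 1) : f * f = 1 := by
  have hmonic : (X ^ n - 1 : K[X]).Monic := monic_X_pow_sub_C (1 : K) hn.ne'
  have hprod := hsplit.eq_prod_roots_of_monic hmonic
  have hM : ∀ M : Multiset K, ∀ v : V,
      f (f (aeval f ((M.map (fun a => X - C a)).prod) v)) = aeval f ((M.map (fun a => X - C a)).prod) v →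
      f (f v) = v := by
    intro M
    induction M using Multiset.induction_on with
    | empty =>
      intro v hv
      simpa using hv
    | cons ζ M ih =>
      intro v hv
      apply ih
      rw [Multiset.map_cons, Multiset.prod_cons, map_mul, Module.End.mul_apply] at hv
      have hact : ∀ y, aeval f (X - C ζ) y = f y - ζ • y := by
        intro y
        simp [Algebra.algebraMap_eq_smul_one]
      rw [hact] at hv
      exact saturate q hq h2 f hf ζ _ hv
  ext v
  rw [Module.End.mul_apply, Module.End.one_apply]
  apply hM (X ^ n - 1 : K[X]).roots v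
  rw [← hprod]
  have : aeval f (X ^ n - 1 : K[X]) = 0 := by
    rw [map_sub, map_pow, aeval_X, map_one, hfn, sub_self]
  rw [this]
  simp

end Isom


/-- Let K be a field of characteristic different from 2 such that K contains all roots of unity (for
every n ≥ 1 the polynomial X^n − 1 splits into linear factors over K), V a finite-dimensional
K-vector space and q a quadratic form on V that does not represent zero. Then every finite subgroup
of the group of K-linear automorphisms of V preserving q is abelian and has order at most 2 ^ (dim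
V). (The published statement also covers perfect fields of characteristic 2; this row is the case of
characteristic ≠ 2.) -/
theorem result
    (K : Type u) [Field K] (hK : ∀ n : ℕ, 0 < n → (X ^ n - 1 : K[X]).Splits) (h2 : (2 : K) ≠ 0)
    (V : Type v) [AddCommGroup V] [Module K V] [FiniteDimensional K V]
    (q : QuadraticForm K V) (hq : q.Anisotropic)
    (G : Subgroup (V ≃ₗ[K] V)) [Finite G] (hG : ∀ g ∈ G, ∀ x : V, q (g x) = q x) :
    (∀ g ∈ G, ∀ h ∈ G, g * h = h * g) ∧ Nat.card G ≤ 2 ^ Module.finrank K V := by
  classical
  have hcardpos : 0 < Nat.card G := Nat.card_pos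
  have hsqE : ∀ g ∈ G, (g : V →ₗ[K] V) * (g : V →ₗ[K] V) = 1 := by
    intro g hg
    have hpow : (⟨g, hg⟩ : G) ^ Nat.card G = 1 := pow_card_eq_one'
    have hpow' : g ^ Nat.card G = 1 := by
      have h1 := congrArg Subtype.val hpow
      rw [Subgroup.coe_pow, Subgroup.coe_one] at h1
      exact h1
    have hE : (g : V →ₗ[K] V) ^ Nat.card G = 1 := by
      have := congrArg (LinearEquiv.automorphismGroup.toLinearMapMonoidHom (R := K) (M := V)) hpow'
      rw [map_pow, map_one] at this
      exact this
    exact sq_eq_one q hq h2 (g : V →ₗ[K] V) (fun x => hG g hg x) (Nat.card G) hcardpos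
      (hK _ hcardpos) hE
  have hsq : ∀ g ∈ G, g * g = 1 := by
    intro g hg
    ext x
    have := congrArg (fun f : V →ₗ[K] V => f x) (hsqE g hg)
    simpa using this
  have hab : ∀ g ∈ G, ∀ h ∈ G, g * h = h * g := by
    intro g hg h hh
    have e1 : g = g⁻¹ := mul_eq_one_iff_eq_inv.mp (hsq g hg)
    have e2 : h = h⁻¹ := mul_eq_one_iff_eq_inv.mp (hsq h hh)
    have e3 : g * h = (g * h)⁻¹ := mul_eq_one_iff_eq_inv.mp (hsq (g * h) (G.mul_mem hg hh))
    rw [e3, mul_inv_rev, ← e1, ← e2]
  refine ⟨hab, ?_⟩
  have : Fintype G := Fintype.ofFinite G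
  let φ : G → Module.End K V := fun g => ((g : V ≃ₗ[K] V) : V →ₗ[K] V)
  have hφinj : Function.Injective φ := by
    intro a b hab'
    apply Subtype.ext
    exact LinearEquiv.toLinearMap_injective hab'
  have hcard : (Finset.univ.image φ).card = Nat.card G := by
    rw [Finset.card_image_of_injective _ hφinj, Finset.card_univ, Nat.card_eq_fintype_card]
  rw [← hcard]
  apply inv_count h2 (Module.finrank K V) V rfl
  · intro s hs
    obtain ⟨g, -, rfl⟩ := Finset.mem_image.mp hs
    exact hsqE g.1 g.2
  · intro s hs t ht
    obtain ⟨g, -, rfl⟩ := Finset.mem_image.mp hs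
    obtain ⟨h, -, rfl⟩ := Finset.mem_image.mp ht
    have := hab g.1 g.2 h.1 h.2
    have := congrArg (LinearEquiv.automorphismGroup.toLinearMapMonoidHom (R := K) (M := V)) this
    rw [map_mul, map_mul] at this
    exact this

end Groth.Agent.S15166
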