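import Groth.Statements.S15167
import Groth.Agent.Lib.Helper59.DegDvd

set_option autoImplicit false
universe u v
open Polynomial
open BddFin

namespace Groth.Agent.S15167

/-- Let K be a field such that K contains all roots of unity (for every n ≥ 1 the polynomial X^n − 1
splits into linear factors over K), A a central simple K-algebra of dimension n ^ 2, and x an
invertible element of A some power x ^ m (m ≥ 1) of which lies in K. Then there are a positive
integer r dividing n and elements a_i of K such that the minimal polynomial of x over K is the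
product of the polynomials X ^ r − a_i. -/
theorem result
    (K : Type u) [Field K] (hK : ∀ n : ℕ, 0 < n → (X ^ n - 1 : K[X]).Splits)
    (A : Type v) [Ring A] [Algebra K A] [Algebra.IsCentral K A] [IsSimpleRing A] [FiniteDimensional K A]
    (n : ℕ) (hn : Module.finrank K A = n ^ 2)
    (x : A) (hx : IsUnit x) (hxm : ∃ m : ℕ, 0 < m ∧ x ^ m ∈ (algebraMap K A).range) :
    ∃ r : ℕ, 0 < r ∧ r ∣ n ∧ ∃ s : Multiset K, minpoly K x = (s.map fun a : K => X ^ r - C a).prod := by
  classical
  obtain ⟨m, hm, a, ha⟩ := hxm
  have hint : IsIntegral K x := Algebra.IsIntegral.isIntegral x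
  have ha0 : a ≠ 0 := by
    rintro rfl
    rw [map_zero] at ha
    have h1 : IsUnit (x ^ m) := hx.pow m
    rw [← ha] at h1
    exact not_isUnit_zero h1
  set f := minpoly K x with hf
  have hfm : f.Monic := minpoly.monic hint
  have hf0 : f ≠ 0 := hfm.ne_zero
  have hfd : f ∣ X ^ m - C a := by
    apply minpoly.dvd
    simp [ha]
  -- factorisation into monic irreducibles
  set S := UniqueFactorizationMonoid.normalizedFactors f with hS
  have hSirr : ∀ g ∈ S, Irreducible g := fun g hg =>
    UniqueFactorizationMonoid.irreducible_of_normalized_factor g hg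
  have hSmon : ∀ g ∈ S, g.Monic := by
    intro g hg
    have h1 := UniqueFactorizationMonoid.normalize_normalized_factor g hg
    rw [← h1]
    exact Polynomial.monic_normalize (hSirr g hg).ne_zero
  have hSdvd : ∀ g ∈ S, g ∣ X ^ m - C a := fun g hg =>
    (UniqueFactorizationMonoid.dvd_of_mem_normalizedFactors hg).trans hfd
  have hprod : S.prod = f := by
    have h1 := UniqueFactorizationMonoid.prod_normalizedFactors hf0
    have h2 : (S.map id).prod.Monic := monic_multiset_prod_of_monic S id (fun g hg => hSmon g hg)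
    rw [Multiset.map_id] at h2
    exact eq_of_monic_of_associated h2 hfm h1
  -- a factor exists
  have hSne : S ≠ 0 := by
    intro h0
    rw [h0, Multiset.prod_zero] at hprod
    have := minpoly.natDegree_pos hint
    rw [← hf, ← hprod, natDegree_one] at this
    exact lt_irrefl 0 this
  obtain ⟨g₀, hg₀⟩ := Multiset.exists_mem_of_ne_zero hSne
  set r := g₀.natDegree with hr
  have hrpos : 0 < r := (hSirr g₀ hg₀).natDegree_pos
  have hdeg : ∀ g ∈ S, g.natDegree = r := by
    intro g hg
    apply le_antisymm
    · exact PA.natDegree_le_of_irreducible_dvd m hm (hK m hm) a ha0 g g₀ (hSirr g hg) (hSmon g hg)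
        (hSirr g₀ hg₀) (hSmon g₀ hg₀) (hSdvd g hg) (hSdvd g₀ hg₀)
    · exact PA.natDegree_le_of_irreducible_dvd m hm (hK m hm) a ha0 g₀ g (hSirr g₀ hg₀)
        (hSmon g₀ hg₀) (hSirr g hg) (hSmon g hg) (hSdvd g₀ hg₀) (hSdvd g hg)
  have hform : ∀ g ∈ S, g = X ^ r - C (-g.coeff 0) := by
    intro g hg
    obtain ⟨c, hc⟩ := PA.eq_X_pow_sub_C_of_dvd m hm (hK m hm) a ha0 g (hSirr g hg) (hSmon g hg)
      (hSdvd g hg)
    rw [hdeg g hg] at hc
    have h1 : g = X ^ r - C c := by
      symm
      apply eq_of_monic_of_dvd_of_natDegree_le (hSmon g hg) (monic_X_pow_sub_C c hrpos.ne') hc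
      rw [natDegree_X_pow_sub_C, hdeg g hg]
    have h2 : g.coeff 0 = -c := by
      rw [h1, coeff_sub, coeff_X_pow, coeff_C_zero, if_neg hrpos.ne, zero_sub]
    rw [h2, neg_neg]
    exact h1
  set s : Multiset K := S.map (fun g => -g.coeff 0) with hs
  have hsS : s.map (fun a : K => (X ^ r - C a : K[X])) = S := by
    rw [hs, Multiset.map_map]
    conv_rhs => rw [← Multiset.map_id S]
    apply Multiset.map_congr rfl
    intro g hg
    exact (hform g hg).symm
  refine ⟨r, hrpos, ?_, s, ?_⟩
  · -- divisibility
    have hsirr : ∀ b ∈ s, Irreducible (X ^ r - C b : K[X]) := by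
      intro b hb
      rw [hs, Multiset.mem_map] at hb
      obtain ⟨g, hg, rfl⟩ := hb
      rw [← hform g hg]
      exact hSirr g hg
    have hdimop : Module.finrank K Aᵐᵒᵖ = n ^ 2 := by
      rw [← (MulOpposite.opLinearEquiv K (M := A)).finrank_eq, hn]
    have key := PA.dvd_finrank_of_aeval_prod Aᵐᵒᵖ n r hrpos hdimop s hsirr A
      (Groth.Agent.Lib.Helper1.CSA.rmulHom (k := K) (A := A)) (Algebra.lmul K A x)
      (fun b => by
        ext v
        simp [mul_assoc])
      (by
        rw [hsS, hprod, Polynomial.aeval_algHom_apply, hf, minpoly.aeval, map_zero])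
    rw [hn, pow_two] at key
    have hnpos : 0 < n := by
      have : 0 < Module.finrank K A := Module.finrank_pos
      rw [hn] at this
      exact Nat.pos_of_ne_zero (by rintro rfl; simp at this)
    exact Nat.dvd_of_mul_dvd_mul_right hnpos key
  · rw [hsS, hprod]

end Groth.Agent.S15167
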