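import Groth.Statements.S15168
import Groth.Agent.Lib.Helper59.Kummer

set_option autoImplicit false
universe u v
open Polynomial
open BddFin

namespace Groth.Agent.S15168

/-- Let K be a field such that K contains all roots of unity (for every n ≥ 1 the polynomial X^n − 1
splits into linear factors over K), A a central division algebra of dimension n ^ 2 over K, and x an
element of A some power x ^ m (m ≥ 1) of which lies in K. Then x ^ n lies in K; that is, the order
of the class of x in the quotient of the unit group of A by that of K divides n. -/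
theorem result
    (K : Type u) [Field K] (hK : ∀ n : ℕ, 0 < n → (X ^ n - 1 : K[X]).Splits)
    (A : Type v) [DivisionRing A] [Algebra K A] [Algebra.IsCentral K A] [FiniteDimensional K A]
    (n : ℕ) (hn : Module.finrank K A = n ^ 2)
    (x : A) (hxm : ∃ m : ℕ, 0 < m ∧ x ^ m ∈ (algebraMap K A).range) :
    x ^ n ∈ (algebraMap K A).range := by
  have hn0 : n ≠ 0 := by
    rintro rfl
    have hpos : 0 < Module.finrank K A := Module.finrank_pos
    rw [hn] at hpos
    simp at hpos
  by_cases hx0 : x = 0
  · rw [hx0, zero_pow hn0]; exact ⟨0, map_zero _⟩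
  obtain ⟨m, hm, hxm⟩ := hxm
  obtain ⟨c, hc⟩ := PA.pow_natDegree_mem m hm (hK m hm) x hx0 hxm
  obtain ⟨e, he⟩ := PA.natDegree_minpoly_dvd n hn x
  refine ⟨c ^ e, ?_⟩
  rw [map_pow, hc, ← pow_mul, ← he]

end Groth.Agent.S15168
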