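import Groth.Statements.S1517
import Mathlib.RingTheory.Ideal.Span
import Mathlib.LinearAlgebra.Span.Basic
import Mathlib.LinearAlgebra.Finsupp.LinearCombination
import Mathlib.Algebra.BigOperators.Fin

set_option autoImplicit false
universe u
open Brauer

namespace Groth.Agent.S1517

variable {A : Type u} [Ring A]

lemma mul_mem_right (M : Submodule Aᵐᵒᵖ A) {m : A} (hm : m ∈ M) (a : A) : m * a ∈ M := by
  have : m * a = MulOpposite.op a • m := by simp
  rw [this]
  exact M.smul_mem _ hm

def leftMul (M : Submodule Aᵐᵒᵖ A) (m : M) : Module.End Aᵐᵒᵖ M where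
  toFun x := ⟨(m : A) * (x : A), mul_mem_right M m.2 _⟩
  map_add' x y := by
    ext
    simp [mul_add]
  map_smul' c x := by
    ext
    simp [mul_assoc]

lemma span_mul_mem_right (M : Submodule Aᵐᵒᵖ A) {x : A} (hx : x ∈ Ideal.span (M : Set A)) (b : A) :
    x * b ∈ Ideal.span (M : Set A) := by
  induction hx using Submodule.span_induction with
  | mem y hy => exact Ideal.subset_span (mul_mem_right M hy b)
  | zero => simp
  | add y z _ _ hy hz => rw [add_mul]; exact Ideal.add_mem _ hy hz
  | smul a y _ hy => rw [smul_eq_mul, mul_assoc]; exact Ideal.mul_mem_left _ a hy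

lemma one_mem_span [IsSimpleRing A] (M : Submodule Aᵐᵒᵖ A) (hM : M ≠ ⊥) :
    (1 : A) ∈ Ideal.span (M : Set A) := by
  let I : TwoSidedIdeal A := TwoSidedIdeal.mk' (Ideal.span (M : Set A) : Set A)
    (Ideal.zero_mem _) (fun hx hy => Ideal.add_mem _ hx hy) (fun hx => Ideal.neg_mem_iff _ |>.2 hx)
    (fun {x y} hy => Ideal.mul_mem_left _ x hy) (fun {x y} hx => span_mul_mem_right M hx y)
  have hI : I ≠ ⊥ := by
    intro h
    apply hM
    rw [eq_bot_iff]
    intro m hm
    have : m ∈ I := by
      rw [TwoSidedIdeal.mem_mk']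
      exact Ideal.subset_span hm
    rw [h] at this
    simpa using this
  have := IsSimpleRing.one_mem_of_ne_bot I hI
  rwa [TwoSidedIdeal.mem_mk'] at this

/-- Let A be a ring with no nontrivial two-sided ideals and M a nonzero right ideal, viewed as a right
A-module with endomorphism ring A'. Then every A'-linear endomorphism of M is right multiplication
by exactly one element of A; that is, the natural map from A to the bicommutant of M is a bijection. -/
theorem result (A : Type u) [Ring A] [IsSimpleRing A]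
    (M : Submodule Aᵐᵒᵖ A) (hM : M ≠ ⊥)
    (g : Module.End (Module.End Aᵐᵒᵖ M) M) :
    ∃! a : A, ∀ m : M, (g m : A) = (m : A) * a := by
  obtain ⟨n, a, m, h1⟩ := Submodule.mem_span_set'.1 (one_mem_span M hM)
  have key : ∀ (y x : M), ((g (leftMul M y x) : M) : A) = (y : A) * ((g x : M) : A) := by
    intro y x
    have := g.map_smul (leftMul M y) x
    have h2 : (leftMul M y) • x = leftMul M y x := rfl
    rw [h2] at this
    rw [this]
    rfl
  have hmem : ∀ i, (m i : A) ∈ M := fun i => (m i).2
  have hsum : ∑ i, a i * (m i : A) = 1 := by simpa using h1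
  have hex : ∀ x : M, ((g x : M) : A) = (x : A) * ∑ i, a i * ((g ⟨m i, hmem i⟩ : M) : A) := by
    intro x
    have hx1 : x = ∑ i, leftMul M ⟨(x : A) * a i, mul_mem_right M x.2 _⟩ ⟨m i, hmem i⟩ := by
      ext
      simp only [leftMul, LinearMap.coe_mk, AddHom.coe_mk, AddSubmonoidClass.coe_finsetSum]
      simp only [mul_assoc, ← Finset.mul_sum]
      rw [hsum, mul_one]
    conv_lhs => rw [hx1]
    rw [map_sum, AddSubmonoidClass.coe_finsetSum, Finset.mul_sum]
    refine Finset.sum_congr rfl fun i _ => ?_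
    rw [key, mul_assoc]
  refine ⟨∑ i, a i * ((g ⟨m i, hmem i⟩ : M) : A), hex, ?_⟩
  intro a' ha'
  have h3 : ∀ i, (m i : A) * a' = (m i : A) * ∑ i, a i * ((g ⟨m i, hmem i⟩ : M) : A) := by
    intro i
    rw [← ha' ⟨m i, hmem i⟩, hex ⟨m i, hmem i⟩]
  calc a' = (∑ i, a i * (m i : A)) * a' := by rw [hsum, one_mul]
    _ = ∑ i, a i * ((m i : A) * a') := by rw [Finset.sum_mul]; simp [mul_assoc]
    _ = ∑ i, a i * ((m i : A) * ∑ i, a i * ((g ⟨m i, hmem i⟩ : M) : A)) := by simp only [h3]
    _ = (∑ i, a i * (m i : A)) * ∑ i, a i * ((g ⟨m i, hmem i⟩ : M) : A) := by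
        rw [Finset.sum_mul]; simp [mul_assoc]
    _ = _ := by rw [hsum, one_mul]

end Groth.Agent.S1517
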