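import Groth.Statements.S15170
import Groth.Agent.Lib.Helper59.PAlgebra

set_option autoImplicit false
universe u v
open BddFin

namespace Groth.Agent.S15170

/-- (2) ⇒ (3): let K be a field with char K = p > 0 and A a central division K-algebra with dim_K A = p
^ 2. If v, u in A satisfy v ^ p ∈ K, u ^ p ∈ K and v * u - u * v = 1, then some Galois extension L
of K with [L : K] = p admits a K-algebra embedding into A (so A has a Galois subfield of degree p
over K). -/
theorem result
    (K : Type u) [Field K] (p : ℕ) [Fact p.Prime] [CharP K p]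
    (A : Type v) [DivisionRing A] [Algebra K A] [Algebra.IsCentral K A] [FiniteDimensional K A]
    (hA : Module.finrank K A = p ^ 2) (v u : A) (hv : v ^ p ∈ (algebraMap K A).range)
    (hu : u ^ p ∈ (algebraMap K A).range) (hvu : v * u - u * v = 1) :
    ∃ (L : Type v) (_ : Field L) (_ : Algebra K L), IsGalois K L ∧ Module.finrank K L = p ∧
      Nonempty (L →ₐ[K] A) := by
  have hp : p.Prime := Fact.out
  have : CharP A p := charP_of_injective_algebraMap (algebraMap K A).injective p
  have hu0 : u ≠ 0 := by
    rintro rfl
    simp at hvu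
  obtain ⟨x, hx⟩ : ∃ x : A, x = u * v := ⟨_, rfl⟩
  -- `x u = u (x + 1)`
  have hxu : x * u = u * (x + 1) := by
    have : x * u - u * x = u := by
      rw [hx]
      calc u * v * u - u * (u * v) = u * (v * u - u * v) := by noncomm_ring
        _ = u := by rw [hvu, mul_one]
    rw [mul_add, mul_one, sub_eq_iff_eq_add.mp this, add_comm]
  have hxu' : x * u ≠ u * x := by
    intro h
    rw [hxu, mul_add, mul_one] at h
    exact hu0 (by simpa using h)
  have hpow : ∀ n : ℕ, x ^ n * u = u * (x + 1) ^ n := by
    intro n
    induction n with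
    | zero => simp
    | succ n ih => rw [pow_succ, mul_assoc, hxu, ← mul_assoc, ih, mul_assoc, ← pow_succ]
  -- `z = x ^ p - x` commutes with `x` and `u`
  have hzu : Commute (x ^ p - x) u := by
    change (x ^ p - x) * u = u * (x ^ p - x)
    rw [sub_mul, hpow, hxu, add_pow_char_of_commute p (Commute.one_right x), one_pow]
    noncomm_ring
  have hzx : Commute (x ^ p - x) x :=
    ((Commute.refl x).pow_left p).sub_left (Commute.refl x)
  obtain ⟨a, ha⟩ := PA.mem_range_of_commute_pair hp hA x u hxu' (x ^ p - x) hzx hzu
  have hxK : x ∉ (algebraMap K A).range := by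
    rintro ⟨b, hb⟩
    apply hxu'
    rw [← hb]
    exact Algebra.commutes b u
  exact PA.exists_galois_of_artinSchreier p hA x a ha.symm hxK

end Groth.Agent.S15170
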