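import Groth.Statements.S15171
import Groth.Agent.Lib.Helper59.PAlgebra

set_option autoImplicit false
universe u v w
open BddFin

namespace Groth.Agent.S15171

/-- (3) ⇒ (1): let K be a field with char K = p > 0 and A a central division K-algebra with dim_K A = p
^ 2. If some Galois extension L of K with [L : K] = p admits a K-algebra embedding into A, then some
element of A is not separable over K. -/
theorem result
    (K : Type u) [Field K] (p : ℕ) [Fact p.Prime] [CharP K p]
    (A : Type v) [DivisionRing A] [Algebra K A] [Algebra.IsCentral K A] [FiniteDimensional K A]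
    (hA : Module.finrank K A = p ^ 2) (L : Type w) [Field L] [Algebra K L] [IsGalois K L]
    (hL : Module.finrank K L = p) (ι : L →ₐ[K] A) :
    ∃ v : A, ¬ IsSeparable K v := by
  have hp : p.Prime := Fact.out
  obtain ⟨σ, hσ1, hσp, hfix⟩ := PA.exists_sigma K p L hL
  obtain ⟨x, hx⟩ := PA.exists_artinSchreier K p L σ hσ1 hσp hfix
  have : CharP L p := charP_of_injective_algebraMap (algebraMap K L).injective p
  -- `x ^ p - x ∈ K`
  obtain ⟨a, ha⟩ := hfix (x ^ p - x) (by
    rw [map_sub, map_pow, hx, add_pow_char, one_pow]; ring)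
  -- `x ∉ K`
  have hxK : x ∉ (algebraMap K L).range := by
    rintro ⟨b, rfl⟩
    rw [AlgEquiv.commutes] at hx
    exact one_ne_zero (α := L) (by simpa using hx.symm)
  have hι : Function.Injective ι := ι.toRingHom.injective
  have hX : (ι x) ^ p - ι x ∈ (algebraMap K A).range := by
    refine ⟨a, ?_⟩
    rw [← map_pow, ← map_sub, ← ha, AlgHom.commutes]
  have hXK : ι x ∉ (algebraMap K A).range := by
    rintro ⟨b, hb⟩
    apply hxK
    refine ⟨b, hι ?_⟩
    rw [AlgHom.commutes, hb]
  obtain ⟨y, c, -, -, -, hyK, hyp⟩ := PA.exists_pow_mem_of_artinSchreier p hA (ι x) hX hXK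
  exact ⟨y, PA.not_isSeparable_of_pow_mem p y hyK hyp⟩

end Groth.Agent.S15171
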