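import Groth.Statements.S15172
import Mathlib

set_option autoImplicit false
universe u v
open Polynomial
open BddFin

namespace Groth.Agent.S15172

lemma key {D : Type*} [CommRing D] [IsDomain D] [DecidableEq D] (t : Finset D) (h0 : (0 : D) ∈ t)
    (hadd : ∀ a ∈ t, ∀ b ∈ t, a + b ∈ t) (d e : D) :
    ∏ a ∈ t, (d + e - a) = ∏ a ∈ t, (d - a) + ∏ a ∈ t, (e - a) := by
  have hAm : (∏ a ∈ t, (X + C (d - a)) : D[X]).Monic :=
    monic_prod_of_monic _ _ (fun a _ => monic_X_add_C _)
  have hBm : (∏ a ∈ t, (X - C a) : D[X]).Monic :=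
    monic_prod_of_monic _ _ (fun a _ => monic_X_sub_C _)
  have hAd : (∏ a ∈ t, (X + C (d - a)) : D[X]).natDegree = t.card := by
    rw [natDegree_prod_of_monic _ _ (fun a _ => monic_X_add_C _),
      Finset.sum_congr rfl (fun a _ => natDegree_X_add_C _)]
    simp
  have hBd : (∏ a ∈ t, (X - C a) : D[X]).natDegree = t.card := by
    rw [natDegree_prod_of_monic _ _ (fun a _ => monic_X_sub_C _),
      Finset.sum_congr rfl (fun a _ => natDegree_X_sub_C _)]
    simp
  have hcard : 0 < t.card := Finset.card_pos.mpr ⟨0, h0⟩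
  have hP : (∏ a ∈ t, (X + C (d - a)) : D[X]) - (∏ a ∈ t, (X - C a) : D[X])
      - C (∏ a ∈ t, (d - a)) = 0 := by
    apply eq_zero_of_natDegree_lt_card_of_eval_eq_zero' _ t
    · intro b hb
      have himg : t.image (· + b) = t := by
        apply Finset.eq_of_subset_of_card_le
        · intro x hx
          obtain ⟨a, ha, rfl⟩ := Finset.mem_image.mp hx
          exact hadd a ha b hb
        · rw [Finset.card_image_of_injective _ (add_left_injective b)]
      have hshift : ∏ a ∈ t, (b + (d - a)) = ∏ a ∈ t, (d - a) := by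
        conv_lhs => rw [← himg]
        rw [Finset.prod_image (fun x _ y _ h => add_left_injective b h)]
        apply Finset.prod_congr rfl
        intro a _
        ring
      have hzero : ∏ a ∈ t, (b - a) = 0 := Finset.prod_eq_zero hb (sub_self b)
      simp only [eval_sub, eval_prod, eval_add, eval_X, eval_C, hshift, hzero]
      ring
    · rw [natDegree_sub_C]
      have hlt : ((∏ a ∈ t, (X + C (d - a)) : D[X]) - (∏ a ∈ t, (X - C a) : D[X])).degree
          < (∏ a ∈ t, (X + C (d - a)) : D[X]).degree :=
        degree_sub_lt_left (by rw [degree_eq_natDegree hAm.ne_zero, degree_eq_natDegree hBm.ne_zero,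
          hAd, hBd]) hAm.ne_zero (by rw [hAm.leadingCoeff, hBm.leadingCoeff])
      rw [degree_eq_natDegree hAm.ne_zero, hAd] at hlt
      by_cases h : (∏ a ∈ t, (X + C (d - a)) : D[X]) - (∏ a ∈ t, (X - C a) : D[X]) = 0
      · rw [h]
        simpa using hcard
      · exact (natDegree_lt_iff_degree_lt h).mpr hlt
  have h1 := congrArg (eval e) hP
  simp only [eval_sub, eval_prod, eval_add, eval_X, eval_C, eval_zero] at h1
  have h2 : ∏ a ∈ t, (d + e - a) = ∏ a ∈ t, (e + (d - a)) := by
    apply Finset.prod_congr rfl
    intro a _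
    ring
  rw [h2]
  linear_combination h1

/-- Let L be a field of characteristic p > 0 and s a finite subset of L containing 0 and closed under
addition (a finite additive subgroup). Then the polynomial f = ∏_{a ∈ s} (X - a) is additive: f (x +
y) = f x + f y for all x, y in any commutative L-algebra (equivalently, as an identity of
polynomials in two variables). -/
theorem result
    (L : Type u) [Field L] (p : ℕ) [Fact p.Prime] [CharP L p] (s : Finset L) (h0 : (0 : L) ∈ s)
    (hadd : ∀ a ∈ s, ∀ b ∈ s, a + b ∈ s) (R : Type v) [CommRing R] [Algebra L R] (x y : R) :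
    aeval (x + y) (∏ a ∈ s, (X - C a)) = aeval x (∏ a ∈ s, (X - C a)) + aeval y (∏ a ∈ s, (X - C a)) := by
  classical
  have hι : Function.Injective (algebraMap L (MvPolynomial (Fin 2) L)) :=
    MvPolynomial.C_injective _ _
  have h := key (s.image (algebraMap L (MvPolynomial (Fin 2) L)))
    (Finset.mem_image.mpr ⟨0, h0, map_zero _⟩)
    (by
      intro a ha b hb
      obtain ⟨a', ha', rfl⟩ := Finset.mem_image.mp ha
      obtain ⟨b', hb', rfl⟩ := Finset.mem_image.mp hb
      exact Finset.mem_image.mpr ⟨a' + b', hadd a' ha' b' hb', map_add _ _ _⟩)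
    (MvPolynomial.X 0) (MvPolynomial.X 1)
  rw [Finset.prod_image (fun a _ b _ h => hι h), Finset.prod_image (fun a _ b _ h => hι h),
    Finset.prod_image (fun a _ b _ h => hι h)] at h
  have h3 := congrArg (MvPolynomial.aeval (R := L) ![x, y]) h
  simp only [map_prod, map_sub, map_add, MvPolynomial.aeval_X, AlgHom.commutes] at h3
  simp only [map_prod, map_sub, aeval_X, aeval_C]
  simpa using h3

end Groth.Agent.S15172
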