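import Groth.Statements.S15183
import Mathlib

set_option autoImplicit false
universe u v
open Polynomial
open BddFin

namespace Groth.Agent.S15183

lemma exists_primitiveRoot (K : Type*) [Field K] (hK : ∀ n : ℕ, 0 < n → (X ^ n - 1 : K[X]).Splits)
    (d : ℕ) (hd : 0 < d) (hdK : (d : K) ≠ 0) : ∃ ζ : K, IsPrimitiveRoot ζ d := by
  classical
  have : NeZero d := ⟨hd.ne'⟩
  rw [← card_rootsOfUnity_eq_iff_exists_isPrimitiveRoot]
  have hsep : (X ^ d - 1 : K[X]).Separable := by
    simpa using separable_X_pow_sub_C (1 : K) hdK one_ne_zero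
  have hcard : Multiset.card (nthRoots d (1 : K)) = d := by
    have := splits_iff_card_roots.mp (hK d hd)
    rw [nthRoots, C_1, this]
    simpa using natDegree_X_pow_sub_C (R := K) (n := d) (r := 1)
  have hnodup : (nthRoots d (1 : K)).Nodup := by
    rw [nthRoots, C_1]
    exact nodup_roots hsep
  rw [Nat.card_congr (rootsOfUnityEquivNthRoots K d), Nat.card_eq_fintype_card,
    Fintype.card_of_subtype (nthRoots d (1 : K)).toFinset (fun x => Multiset.mem_toFinset),
    Multiset.toFinset_card_of_nodup hnodup, hcard]

lemma exists_idem (A : Type*) [Ring A] [IsSemisimpleRing A] [IsDedekindFiniteMonoid A]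
    (y : A) (hy0 : y ≠ 0) (hyu : ¬ IsUnit y) : ∃ e : A, e * e = e ∧ e ≠ 0 ∧ e ≠ 1 := by
  obtain ⟨J, hJ⟩ := exists_isCompl (Ideal.span ({y} : Set A))
  have h1 : (1 : A) ∈ Ideal.span ({y} : Set A) ⊔ J := by
    rw [hJ.sup_eq_top]
    exact Submodule.mem_top
  obtain ⟨e, he, j, hj, hej⟩ := Submodule.mem_sup.mp h1
  have hyI : y ∈ Ideal.span ({y} : Set A) := Ideal.subset_span (Set.mem_singleton y)
  have hmul : e * e + e * j = e := by
    rw [← mul_add, hej, mul_one]
  have hejJ : e * j ∈ J := J.smul_mem e hj
  have hejI : e * j ∈ Ideal.span ({y} : Set A) := by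
    have : e * j = e - e * e := eq_sub_of_add_eq' hmul
    rw [this]
    exact Submodule.sub_mem _ he (Submodule.smul_mem _ e he)
  have hej0 : e * j = 0 := Submodule.disjoint_def.mp hJ.disjoint _ hejI hejJ
  refine ⟨e, ?_, ?_, ?_⟩
  · rw [hej0, add_zero] at hmul
    exact hmul
  · rintro rfl
    rw [zero_add] at hej
    subst hej
    have hyJ : y ∈ J := by
      have := J.smul_mem y hj
      simpa using this
    exact hy0 (Submodule.disjoint_def.mp hJ.disjoint _ hyI hyJ)
  · rintro rfl
    obtain ⟨a, ha⟩ := Ideal.mem_span_singleton'.mp he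
    exact hyu (IsUnit.of_mul_eq_one a (mul_eq_one_comm.mp ha))

/-- Let K be a field such that K contains all roots of unity (for every n ≥ 1 the polynomial X^n − 1
splits into linear factors over K), and A a finite-dimensional central simple K-algebra which is not
a division algebra (some non-zero element is not a unit). Then the quotient of the unit group of A
by that of K has elements of every finite order invertible in K: for every d ≥ 1 with d ≠ 0 in K
there is a unit x of A with x ^ d in K and x ^ k not in K for 0 < k < d. (The published assertion is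
phrased for the automorphism group of the Severi–Brauer variety of A, which is isomorphic to the
units of A modulo those of K; this row is the algebra-side statement its proof establishes.) -/
theorem result
    (K : Type u) [Field K] (hK : ∀ n : ℕ, 0 < n → (X ^ n - 1 : K[X]).Splits)
    (A : Type v) [Ring A] [Algebra K A] [Algebra.IsCentral K A] [IsSimpleRing A] [FiniteDimensional K A]
    (hA : ∃ y : A, y ≠ 0 ∧ ¬ IsUnit y) (d : ℕ) (hd : 0 < d) (hdK : (d : K) ≠ 0) :
    ∃ x : A, IsUnit x ∧ x ^ d ∈ (algebraMap K A).range ∧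
      ∀ k : ℕ, 0 < k → k < d → x ^ k ∉ (algebraMap K A).range := by
  obtain ⟨y, hy0, hyu⟩ := hA
  have : IsArtinianRing A := IsArtinianRing.of_finite K A
  obtain ⟨e, he, he0, he1⟩ := exists_idem A y hy0 hyu
  obtain ⟨ζ, hζ⟩ := exists_primitiveRoot K hK d hd hdK
  have hmul : ∀ a b : K, (a • e + (1 - e)) * (b • e + (1 - e)) = (a * b) • e + (1 - e) := by
    intro a b
    simp only [mul_add, add_mul, mul_sub, sub_mul, smul_mul_assoc, mul_smul_comm, he, smul_smul,
      mul_one, one_mul, sub_self, add_zero]
    module
  have hpow : ∀ k : ℕ, (ζ • e + (1 - e)) ^ k = (ζ ^ k) • e + (1 - e) := by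
    intro k
    induction k with
    | zero => simp
    | succ k ih => rw [pow_succ, ih, hmul, pow_succ]
  have h1e : (1 : A) - e ≠ 0 := fun h => he1 (sub_eq_zero.mp h).symm
  refine ⟨ζ • e + (1 - e), ?_, ?_, ?_⟩
  · apply IsUnit.of_pow_eq_one (n := d) _ hd.ne'
    rw [hpow, hζ.pow_eq_one]
    simp
  · refine ⟨1, ?_⟩
    rw [hpow, hζ.pow_eq_one]
    simp
  · rintro k hk0 hkd ⟨c, hc⟩
    rw [hpow, Algebra.algebraMap_eq_smul_one] at hc
    have hc1 : c • (1 - e) = 1 - e := by
      have := congrArg (fun t => t * (1 - e)) hc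
      simp only [add_mul, mul_sub, sub_mul, smul_mul_assoc, he, mul_one, one_mul, sub_self]
        at this
      rw [smul_sub, this]
      abel
    have hc2 : c = 1 := by
      have : (c - 1) • (1 - e) = 0 := by rw [sub_smul, hc1, one_smul, sub_self]
      rcases smul_eq_zero.mp this with h | h
      · exact sub_eq_zero.mp h
      · exact absurd h h1e
    have hc3 : (ζ ^ k) • e = e := by
      have := congrArg (fun t => t * e) hc
      simp only [add_mul, sub_mul, smul_mul_assoc, he, one_mul, sub_self, add_zero, hc2,
        one_smul] at this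
      exact this.symm
    have hc4 : ζ ^ k = 1 := by
      have : (ζ ^ k - 1) • e = 0 := by rw [sub_smul, hc3, one_smul, sub_self]
      rcases smul_eq_zero.mp this with h | h
      · exact sub_eq_zero.mp h
      · exact absurd h he0
    have hdvd := (hζ.pow_eq_one_iff_dvd k).mp hc4
    exact absurd (Nat.le_of_dvd hk0 hdvd) (not_le.mpr hkd)

end Groth.Agent.S15183
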