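import Groth.Statements.S15173
import Mathlib
import Groth.Agent.S15183

set_option autoImplicit false
universe u v
open Polynomial
open BddFin

namespace Groth.Agent.S15173

lemma GT {G : Type*} [Group G] (Z M : Subgroup G) (hZM : Z ≤ M)
    (hcomm : ∀ x ∈ M, ∀ y ∈ M, x * y = y * x) (p : ℕ) (hp : 0 < p) (hpow : ∀ x ∈ M, x ^ p ∈ Z)
    {ι : Type*} [Infinite ι] (u : ι → G) (huM : ∀ i, u i ∈ M)
    (hinj : ∀ i j, (u i)⁻¹ * u j ∈ Z → i = j) (N : ℕ) :
    ∃ H : Subgroup G, Z ≤ H ∧ N < Z.relIndex H := by
  classical
  let _ : CommGroup M :=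
    { (inferInstance : Group M) with mul_comm := fun a b => Subtype.ext (hcomm a a.2 b b.2) }
  have htors : IsMulTorsion (M ⧸ Z.subgroupOf M) := by
    intro g
    obtain ⟨x, rfl⟩ := QuotientGroup.mk_surjective g
    rw [isOfFinOrder_iff_pow_eq_one]
    refine ⟨p, hp, ?_⟩
    rw [← QuotientGroup.mk_pow, QuotientGroup.eq_one_iff]
    exact Subgroup.mem_subgroupOf.mpr (by simpa using hpow x x.2)
  obtain ⟨s, hs⟩ := Infinite.exists_subset_card_eq ι (N + 1)
  have hv : Function.Injective
      (fun i : ι => (QuotientGroup.mk' (Z.subgroupOf M)) ⟨u i, huM i⟩) := by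
    intro i j hij
    apply hinj
    have := QuotientGroup.eq.mp hij
    simpa [Subgroup.mem_subgroupOf] using this
  set π := QuotientGroup.mk' (Z.subgroupOf M) with hπ
  set v : ι → M ⧸ Z.subgroupOf M := fun i => π ⟨u i, huM i⟩ with hvdef
  let F : Subgroup (M ⧸ Z.subgroupOf M) :=
    Subgroup.closure ((s.image v : Finset _) : Set (M ⧸ Z.subgroupOf M))
  have hFG : Group.FG F := Group.closure_finset_fg _
  have hFfin : Finite F := CommGroup.finite_of_fg_isMulTorsion _ (htors.subgroup F)
  have hcardF : N + 1 ≤ Nat.card F := by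
    have h1 : ((s.image v : Finset _) : Set (M ⧸ Z.subgroupOf M)) ⊆ (F : Set _) :=
      Subgroup.subset_closure
    have h2 := Set.ncard_le_ncard h1 (Set.toFinite _)
    rw [Set.ncard_coe_finset, Finset.card_image_of_injective _ hv, hs] at h2
    rw [← Nat.card_coe_set_eq] at h2
    exact h2
  refine ⟨(F.comap π).map M.subtype, ?_, ?_⟩
  · intro z hz
    refine ⟨⟨z, hZM hz⟩, ?_, rfl⟩
    change π ⟨z, hZM hz⟩ ∈ F
    have : π ⟨z, hZM hz⟩ = 1 :=
      (QuotientGroup.eq_one_iff _).mpr (Subgroup.mem_subgroupOf.mpr hz)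
    rw [this]
    exact F.one_mem
  · have h1 : Z.relIndex ((F.comap π).map M.subtype)
        = ((Z.subgroupOf M).map M.subtype).relIndex ((F.comap π).map M.subtype) := by
      rw [Subgroup.map_subgroupOf_eq_of_le hZM]
    have h3 := Subgroup.relIndex_ker (F.comap π) (QuotientGroup.mk' (Z.subgroupOf M))
    rw [QuotientGroup.ker_mk'] at h3
    rw [h1, Subgroup.relIndex_map_map_of_injective _ _ M.subtype_injective, h3, hπ,
      Subgroup.map_comap_eq_self_of_surjective (QuotientGroup.mk'_surjective _)]
    omega


lemma infinite_of_splits (K : Type*) [Field K] (p : ℕ) [Fact p.Prime] [CharP K p]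
    (hK : ∀ n : ℕ, 0 < n → (X ^ n - 1 : K[X]).Splits) : Infinite K := by
  by_contra hfin
  rw [not_infinite_iff_finite] at hfin
  have := Fintype.ofFinite K
  have hq : ((Fintype.card K : ℕ) : K) = 0 := by
    rw [Nat.cast_card_eq_zero]
  have hne : ((Fintype.card K + 1 : ℕ) : K) ≠ 0 := by
    rw [Nat.cast_succ, hq, zero_add]
    exact one_ne_zero
  obtain ⟨ζ, hζ⟩ := Groth.Agent.S15183.exists_primitiveRoot K hK (Fintype.card K + 1)
    (Nat.succ_pos _) hne
  have hζ0 : ζ ≠ 0 := hζ.ne_zero (Nat.succ_ne_zero _)
  have h1 : ζ ^ (Fintype.card K - 1) = 1 := FiniteField.pow_card_sub_one_eq_one ζ hζ0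
  have h2 := (hζ.pow_eq_one_iff_dvd _).mp h1
  have hcard : 1 < Fintype.card K := Fintype.one_lt_card
  have := Nat.le_of_dvd (by omega) h2
  omega

section alg

variable {K : Type u} [Field K] {p : ℕ} [Fact p.Prime] [CharP K p]
  {A : Type v} [DivisionRing A] [Algebra K A]

lemma pow_mem_range {w : A} (hw : w ^ p ∈ (algebraMap K A).range) :
    ∀ x ∈ Algebra.adjoin K ({w} : Set A), x ^ p ∈ (algebraMap K A).range := by
  have : CharP A p := charP_of_injective_algebraMap (algebraMap K A).injective p
  intro x hx
  induction hx using Algebra.adjoin_induction with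
  | mem x hx =>
    rw [Set.mem_singleton_iff] at hx
    rw [hx]
    exact hw
  | algebraMap r => exact ⟨r ^ p, by simp⟩
  | add x y hx hy hx' hy' =>
    rw [add_pow_char_of_commute (p := p) (show Commute x y from setLike_mul_comm hx hy)]
    exact Subring.add_mem _ hx' hy'
  | mul x y hx hy hx' hy' =>
    rw [(show Commute x y from setLike_mul_comm hx hy).mul_pow]
    exact Subring.mul_mem _ hx' hy'

end alg

/-- Let K be a field of characteristic p > 0 such that K contains all roots of unity (for every n ≥ 1
the polynomial X^n − 1 splits into linear factors over K), and A a finite-dimensional central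
division algebra over K. If A contains an element w not in K with w ^ p in K, then the quotient of
the unit group of A by that of K has unbounded finite subgroups: for every N there is a subgroup H
of the units of A containing the units of K as a subgroup of finite index greater than N. (The
published statement assumes only that some element of A is inseparable over K and passes at once to
a purely inseparable subfield of degree p; this row assumes an element generating such a subfield
directly, which is what the rest of the printed argument uses.) -/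
theorem result
    (K : Type u) [Field K] (p : ℕ) [Fact p.Prime] [CharP K p] (hK : ∀ n : ℕ, 0 < n → (X ^ n - 1 : K[X]).Splits)
    (A : Type v) [DivisionRing A] [Algebra K A] [Algebra.IsCentral K A] [FiniteDimensional K A]
    (w : A) (hw : w ^ p ∈ (algebraMap K A).range) (hwK : w ∉ (algebraMap K A).range) (N : ℕ) :
    ∃ H : Subgroup Aˣ, (Units.map (algebraMap K A : K →* A)).range ≤ H ∧
      N < ((Units.map (algebraMap K A : K →* A)).range).relIndex H := by
  classical
  have hinf : Infinite K := infinite_of_splits K p hK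
  have hwK' : ∀ c : K, algebraMap K A c ≠ w := fun c hc => hwK ⟨c, hc⟩
  have hwB : w ∈ Algebra.adjoin K ({w} : Set A) := Algebra.subset_adjoin (Set.mem_singleton w)
  have hne : ∀ a : K, (1 : A) + a • w ≠ 0 := by
    intro a h
    by_cases ha : a = 0
    · simp [ha] at h
    · apply hwK' (-a⁻¹)
      have h' : a • w = -1 := eq_neg_of_add_eq_zero_right h
      calc algebraMap K A (-a⁻¹) = (-a⁻¹) • (1 : A) := Algebra.algebraMap_eq_smul_one _
        _ = a⁻¹ • (-(1 : A)) := by simp
        _ = a⁻¹ • (a • w) := by rw [h']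
        _ = w := by rw [smul_smul, inv_mul_cancel₀ ha, one_smul]
  have hxB : ∀ a : K, (1 : A) + a • w ∈ Algebra.adjoin K ({w} : Set A) := fun a =>
    Subalgebra.add_mem _ (Subalgebra.one_mem _) (Subalgebra.smul_mem _ hwB a)
  refine GT (Units.map (algebraMap K A : K →* A)).range
    (Algebra.adjoin K ({w} : Set A)).toSubmonoid.units ?_ ?_ p (Fact.out : p.Prime).pos ?_
    (fun a : K => Units.mk0 (1 + a • w) (hne a)) ?_ ?_ N
  · rintro _ ⟨c, rfl⟩
    rw [Submonoid.mem_units_iff]
    refine ⟨Subalgebra.algebraMap_mem _ _, ?_⟩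
    rw [← map_inv]
    exact Subalgebra.algebraMap_mem _ _
  · intro x hx y hy
    apply Units.ext
    rw [Units.val_mul, Units.val_mul]
    exact setLike_mul_comm (s := Algebra.adjoin K ({w} : Set A)) hx.1 hy.1
  · intro x hx
    obtain ⟨c, hc⟩ := pow_mem_range hw (x : A) hx.1
    have hc0 : c ≠ 0 := by
      rintro rfl
      rw [map_zero] at hc
      exact (x ^ p).ne_zero (by rw [Units.val_pow_eq_pow_val, ← hc])
    refine ⟨Units.mk0 c hc0, Units.ext ?_⟩
    simp [hc]
  · intro a
    rw [Submonoid.mem_units_iff]
    refine ⟨hxB a, ?_⟩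
    obtain ⟨c, hc⟩ := pow_mem_range hw _ (hxB a)
    have hp1 : p - 1 + 1 = p := Nat.sub_add_cancel (Fact.out : p.Prime).pos
    have hc0 : c ≠ 0 := by
      rintro rfl
      rw [map_zero] at hc
      exact hne a (pow_eq_zero_iff (Fact.out : p.Prime).ne_zero |>.mp hc.symm)
    have hinv : algebraMap K A c⁻¹ * (1 + a • w) ^ (p - 1) = (1 + a • w)⁻¹ := by
      apply eq_inv_of_mul_eq_one_left
      rw [mul_assoc, ← pow_succ, hp1, ← hc, ← map_mul, inv_mul_cancel₀ hc0, map_one]
    rw [Units.val_inv_eq_inv_val, Units.val_mk0, ← hinv]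
    exact Subalgebra.mul_mem _ (Subalgebra.algebraMap_mem _ _) (Subalgebra.pow_mem _ (hxB a) _)
  · rintro a b ⟨c, hc⟩
    have h0 : Units.mk0 (1 + a • w) (hne a) * Units.map (algebraMap K A : K →* A) c
        = Units.mk0 (1 + b • w) (hne b) := by
      rw [hc, mul_inv_cancel_left]
    have h1 : (1 + a • w) * algebraMap K A (c : K) = 1 + b • w := by
      have := congrArg Units.val h0
      simpa using this
    have h2 : (1 + a • w) * algebraMap K A (c : K) = (c : K) • (1 : A) + (a * (c : K)) • w := by
      rw [Algebra.algebraMap_eq_smul_one, mul_smul_comm, mul_one, smul_add, smul_smul,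
        mul_comm (c : K) a]
    have key : (1 - (c : K)) • (1 : A) + (b - a * (c : K)) • w = 0 := by
      have : (1 - (c : K)) • (1 : A) + (b - a * (c : K)) • w
          = (1 + b • w) - ((c : K) • (1 : A) + (a * (c : K)) • w) := by module
      rw [this, ← h2, h1, sub_self]
    by_cases hd : b - a * (c : K) = 0
    · rw [hd, zero_smul, add_zero] at key
      have hc1 : (1 : K) - (c : K) = 0 := by
        rcases smul_eq_zero.mp key with h | h
        · exact h
        · exact absurd h one_ne_zero
      have hc1' : (c : K) = 1 := (sub_eq_zero.mp hc1).symm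
      rw [hc1', mul_one] at hd
      exact (sub_eq_zero.mp hd).symm
    · exfalso
      apply hwK' (-(b - a * (c : K))⁻¹ * (1 - (c : K)))
      have h3 : (b - a * (c : K)) • w = -((1 - (c : K)) • (1 : A)) :=
        eq_neg_of_add_eq_zero_right key
      calc algebraMap K A (-(b - a * (c : K))⁻¹ * (1 - (c : K)))
          = (b - a * (c : K))⁻¹ • (-((1 - (c : K)) • (1 : A))) := by
            rw [Algebra.algebraMap_eq_smul_one, smul_neg, smul_smul, neg_mul, neg_smul]
        _ = (b - a * (c : K))⁻¹ • ((b - a * (c : K)) • w) := by rw [h3]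
        _ = w := by rw [smul_smul, inv_mul_cancel₀ hd, one_smul]

end Groth.Agent.S15173
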