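import Groth.Statements.S15180
import Mathlib
import Groth.Agent.Lib.Helper61.FS3
import Groth.Agent.Lib.Helper61.FS4

set_option autoImplicit false
universe u
open CategoryTheory MonoidalCategory CartesianMonoidalCategory MonObj GrpObj AlgebraicGeometry
open BddFin

namespace Groth.Agent.S15180
open CategoryTheory CategoryTheory.Limits AlgebraicGeometry MonoidalCategory

set_option backward.isDefEq.respectTransparency.types false
set_option maxHeartbeats 400000

/-- transport of the conclusion along an isomorphism of group schemes -/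
theorem transport {S : Scheme.{u}} {G G₀ H : Over S} [GrpObj G] [GrpObj G₀] [GrpObj H]
    (e : Grp.mk G ≅ Grp.mk G₀) (i : H ⟶ G)
    (h : ∃ φ₀ : G₀ ⟶ G₀, IsMonHom φ₀ ∧ AlgGrp.IsKernel (i ≫ e.hom.hom.hom) φ₀ ∧ Flat φ₀.left ∧
      Surjective φ₀.left) :
    ∃ φ : G ⟶ G, IsMonHom φ ∧ AlgGrp.IsKernel i φ ∧ Flat φ.left ∧ Surjective φ.left := by
  obtain ⟨φ₀, hm, hk, hf, hs⟩ := h
  have h1 : e.hom.hom.hom ≫ e.inv.hom.hom = 𝟙 G := congrArg (fun f => f.hom.hom) e.hom_inv_id
  have h2 : e.inv.hom.hom ≫ e.hom.hom.hom = 𝟙 G₀ := congrArg (fun f => f.hom.hom) e.inv_hom_id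
  let E : G ≅ G₀ := ⟨e.hom.hom.hom, e.inv.hom.hom, h1, h2⟩
  haveI : IsMonHom E.hom := (inferInstance : IsMonHom e.hom.hom.hom)
  haveI : IsMonHom E.inv := (inferInstance : IsMonHom e.inv.hom.hom)
  haveI := hm
  haveI : IsIso E.hom.left := (inferInstance : IsIso ((Over.forget _).map E.hom))
  haveI : IsIso E.inv.left := (inferInstance : IsIso ((Over.forget _).map E.inv))
  haveI := hf
  haveI := hs
  refine ⟨E.hom ≫ φ₀ ≫ E.inv, inferInstance, ?_, ?_, ?_⟩
  · unfold AlgGrp.IsKernel at hk ⊢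
    refine IsPullback.of_iso hk (Iso.refl _) E.symm (Iso.refl _) E.symm ?_ ?_ ?_ ?_
    · change (i ≫ E.hom) ≫ E.inv = 𝟙 _ ≫ i
      rw [Category.assoc, E.hom_inv_id, Category.comp_id, Category.id_comp]
    · change toUnit H ≫ 𝟙 _ = 𝟙 _ ≫ toUnit H
      rw [Category.comp_id, Category.id_comp]
    · change φ₀ ≫ E.inv = E.inv ≫ E.hom ≫ φ₀ ≫ E.inv
      rw [E.inv_hom_id_assoc]
    · change η[G₀] ≫ E.inv = 𝟙 _ ≫ η[G]
      rw [Category.id_comp]
      exact IsMonHom.one_hom E.inv
  · rw [Over.comp_left, Over.comp_left]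
    infer_instance
  · rw [Over.comp_left, Over.comp_left]
    infer_instance

theorem main
    (K : Type u) [Field K] (G H : Over (Spec (CommRingCat.of K))) [GrpObj G] [GrpObj H]
    (hG : Nonempty (Grp.mk G ≅ Grp.mk (Red.Ga (Spec (CommRingCat.of K)))) ∨
      Nonempty (Grp.mk G ≅ Grp.mk (Red.Gm (Spec (CommRingCat.of K)))))
    (i : H ⟶ G) [IsMonHom i] [Mono i] [IsFinite H.hom] :
    ∃ φ : G ⟶ G, IsMonHom φ ∧ AlgGrp.IsKernel i φ ∧ Flat φ.left ∧ Surjective φ.left := by
  rcases hG with ⟨⟨e⟩⟩ | ⟨⟨e⟩⟩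
  · refine transport e i ?_
    haveI : IsMonHom (e.hom.hom.hom : G ⟶ _) := inferInstance
    haveI : IsIso (e.hom.hom.hom : G ⟶ _) :=
      ⟨e.inv.hom.hom, congrArg (fun f => f.hom.hom) e.hom_inv_id,
        congrArg (fun f => f.hom.hom) e.inv_hom_id⟩
    exact Groth.Agent.Lib.Helper61.FS.Ga.main_Ga (H := H) (i := i ≫ e.hom.hom.hom)
  · refine transport e i ?_
    haveI : IsMonHom (e.hom.hom.hom : G ⟶ _) := inferInstance
    haveI : IsIso (e.hom.hom.hom : G ⟶ _) :=
      ⟨e.inv.hom.hom, congrArg (fun f => f.hom.hom) e.hom_inv_id,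
        congrArg (fun f => f.hom.hom) e.inv_hom_id⟩
    exact Groth.Agent.Lib.Helper61.FS.Gm.main_Gm (H := H) (i := i ≫ e.hom.hom.hom)

end Groth.Agent.S15180

namespace Groth.Agent.S15180

/-- Let K be an arbitrary field, G a K-group scheme isomorphic (as a group scheme) to 𝔾_a (additive) or
to 𝔾_m (multiplicative), and H a finite subgroup scheme of G (a monomorphic homomorphism H → G with
H finite over K). Then the quotient G/H is isomorphic to G; equivalently, there is a homomorphism of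
K-group schemes G → G which is flat and surjective and whose kernel is H. -/
theorem result
    (K : Type u) [Field K] (G H : Over (Spec (CommRingCat.of K))) [GrpObj G] [GrpObj H]
    (hG : Nonempty (Grp.mk G ≅ Grp.mk (Red.Ga (Spec (CommRingCat.of K)))) ∨
      Nonempty (Grp.mk G ≅ Grp.mk (Red.Gm (Spec (CommRingCat.of K)))))
    (i : H ⟶ G) [IsMonHom i] [Mono i] [IsFinite H.hom] :
    ∃ φ : G ⟶ G, IsMonHom φ ∧ AlgGrp.IsKernel i φ ∧ Flat φ.left ∧ Surjective φ.left := by
  exact main K G H hG i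

end Groth.Agent.S15180
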