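import Groth.Statements.S15185
import Groth.Agent.Lib.Helper21.KummerPow
import Groth.Agent.Lib.Helper21.DivAlgDeg
import Mathlib.Tactic

set_option autoImplicit false
universe u v
open Polynomial
open BddFin

namespace Groth.Agent.S15185

open Groth.Agent.Lib.Helper21

theorem eq_one_of_pow_char_pow_eq_one {K : Type u} [Field K] (p : ℕ) [Fact p.Prime] [CharP K p]
    (m : ℕ) (y : K) (h : y ^ p ^ m = 1) : y = 1 := by
  have h1 : (y - 1) ^ p ^ m = 0 := by
    rw [sub_pow_char_pow, h, one_pow, sub_self]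
  exact sub_eq_zero.mp (pow_eq_zero_iff (pow_pos (Fact.out : p.Prime).pos m).ne' |>.mp h1)

theorem exists_root_of_pow_eq_one {K : Type u} [Field K] (p : ℕ) [Fact p.Prime]
    (m n' : ℕ) (hn' : ¬ p ∣ n') (ζ : K) (hζ0 : ζ ≠ 0) (hζ : ζ ^ n' = 1) :
    ∃ η : K, η ^ p ^ m = ζ := by
  have hcop : Nat.Coprime (p ^ m) n' :=
    Nat.Coprime.pow_left m ((Nat.Prime.coprime_iff_not_dvd (Fact.out : p.Prime)).mpr hn')
  have hb := Nat.gcd_eq_gcd_ab (p ^ m) n'
  rw [hcop.gcd_eq_one] at hb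
  refine ⟨ζ ^ (Nat.gcdA (p ^ m) n'), ?_⟩
  have h1 : ζ = ζ ^ ((p ^ m : ℕ) * Nat.gcdA (p ^ m) n' + (n' : ℕ) * Nat.gcdB (p ^ m) n' : ℤ) := by
    rw [← hb]
    simp
  rw [zpow_add₀ hζ0, zpow_mul, zpow_mul, zpow_natCast, zpow_natCast, hζ, one_zpow, mul_one] at h1
  rw [← zpow_natCast, ← zpow_mul, mul_comm, zpow_mul, zpow_natCast]
  exact h1.symm

/-- Let K be a field of characteristic p > 0 such that K contains all roots of unity (for every n ≥ 1
the polynomial X^n − 1 splits into linear factors over K), A a central division algebra of dimension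
n ^ 2 over K, and write n = n' · p ^ m with n' prime to p; let N be the reduced norm of A. Consider
the kernel of the homomorphism from the units of A modulo those of K to Kˣ/(Kˣ)^(p^m) induced by N.
Every element of finite order of that kernel has order dividing n': if x ≠ 0 in A has x ^ r in K for
some r ≥ 1 and N x is a (p ^ m)-th power of a non-zero element of K, then x ^ n' lies in K. -/
theorem result
    (K : Type u) [Field K] (p : ℕ) [Fact p.Prime] [CharP K p] (hK : ∀ n : ℕ, 0 < n → (X ^ n - 1 : K[X]).Splits)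
    (A : Type v) [DivisionRing A] [Algebra K A] [Algebra.IsCentral K A] [FiniteDimensional K A]
    (n n' m : ℕ) (hA : Module.finrank K A = n ^ 2) (hn : n = n' * p ^ m) (hn' : ¬ p ∣ n')
    (N : A →* K) (hN : CSAGal.IsRedNorm K A N)
    (x : A) (hx : x ≠ 0) (hxr : ∃ r : ℕ, 0 < r ∧ x ^ r ∈ (algebraMap K A).range)
    (hNx : ∃ b : K, b ≠ 0 ∧ N x = b ^ (p ^ m)) :
    x ^ n' ∈ (algebraMap K A).range := by
  obtain ⟨r, hr, a, ha⟩ := hxr
  obtain ⟨b, hb0, hb⟩ := hNx
  have hint : IsIntegral K x := Algebra.IsIntegral.isIntegral x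
  obtain ⟨c₀, hc₀⟩ := exists_pow_natDegree_eq hK x hx hint r hr a ha.symm
  obtain ⟨e, he⟩ := natDegree_minpoly_dvd K A n hA x
  have hxn : x ^ n = algebraMap K A (c₀ ^ e) := by
    rw [he, pow_mul, hc₀, map_pow]
  set c := c₀ ^ e with hc
  have hw : (x ^ n') ^ p ^ m = algebraMap K A c := by
    rw [← pow_mul, ← hn, hxn]
  have hNw : N (x ^ n') ^ p ^ m = c ^ n := by
    rw [← map_pow, hw, redNorm_algebraMap K A n hA N hN c]
  have hNw2 : N (x ^ n') = (b ^ p ^ m) ^ n' := by
    rw [map_pow, hb]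
  have hn'pos : 0 < n' := by
    rcases Nat.eq_zero_or_pos n' with h | h
    · exact absurd (h ▸ dvd_zero p) hn'
    · exact h
  have hc0 : c ≠ 0 := by
    intro h0
    rw [h0, map_zero] at hw
    exact hx ((pow_eq_zero_iff hn'pos.ne').mp
      ((pow_eq_zero_iff (pow_pos (Fact.out : p.Prime).pos m).ne').mp hw))
  have hbp0 : b ^ p ^ m ≠ 0 := pow_ne_zero _ hb0
  have hζ : ((c / b ^ p ^ m) ^ n') ^ p ^ m = 1 := by
    have hBn : c ^ n = (b ^ p ^ m) ^ n := by rw [← hNw, hNw2, ← pow_mul, ← hn]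
    rw [← pow_mul, ← hn, div_pow, hBn, div_self (pow_ne_zero _ hbp0)]
  have hζ1 : (c / b ^ p ^ m) ^ n' = 1 := eq_one_of_pow_char_pow_eq_one p m _ hζ
  obtain ⟨η, hη⟩ := exists_root_of_pow_eq_one p m n' hn' (c / b ^ p ^ m)
    (div_ne_zero hc0 hbp0) hζ1
  have hcη : c = (η * b) ^ p ^ m := by
    rw [mul_pow, hη, div_mul_cancel₀ _ hbp0]
  have hcharA : CharP A p := charP_of_injective_algebraMap (algebraMap K A).injective p
  have hcomm : Commute (x ^ n') (algebraMap K A (η * b)) := (Algebra.commutes _ _).symm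
  have h0 : (x ^ n' - algebraMap K A (η * b)) ^ p ^ m = 0 := by
    rw [sub_pow_char_pow_of_commute _ _ hcomm, hw, hcη, map_pow, sub_self]
  have h1 := pow_eq_zero_iff (pow_pos (Fact.out : p.Prime).pos m).ne' |>.mp h0
  exact ⟨η * b, (sub_eq_zero.mp h1).symm⟩

end Groth.Agent.S15185
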