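import Groth.Statements.S15189
import Groth.Agent.Lib.Helper59.SBAut
import Groth.Agent.Lib.Helper59.SBFaithful
import Groth.Agent.Lib.Helper59.SBNilp
import Groth.Agent.Lib.Helper59.SBGroup

set_option autoImplicit false
universe u
open CategoryTheory CategoryTheory.Limits AlgebraicGeometry
open BddFin

namespace Groth.Agent.S15189

/-- Let p be 2 or 3, k an infinite field of characteristic p, A a central simple k-algebra of dimension
p², and X → Spec k the Severi–Brauer variety of A (X represents the functor of left ideals of A with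
projective quotient of corank p² − p; X has dimension p − 1). Then the group of automorphisms of X
over k has unbounded finite subgroups: for every N it has a finite subgroup of order greater than N. -/
theorem result
    (k : Type u) [Field k] [Infinite k] (p : ℕ) [Fact p.Prime] [CharP k p] (hp : p = 2 ∨ p = 3)
    (A : Type u) [Ring A] [Algebra k A] [Algebra.IsCentral k A] [IsSimpleRing A]
    (hA : Module.finrank k A = p * p)
    {X : Scheme.{u}} (f : X ⟶ Spec (CommRingCat.of k)) (hX : BrSev.IsSBOf k A (p * p - p) f) (N : ℕ) :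
    ∃ G : Subgroup (Aut (Over.mk f)), Finite G ∧ N < Nat.card G := by
  classical
  obtain ⟨st⟩ := hX
  have hp2 : 2 ≤ p := (Fact.out : p.Prime).two_le
  have hpos : 0 < Module.finrank k A := by rw [hA]; positivity
  haveI : Module.Finite k A := Module.finite_of_finrank_pos hpos
  haveI : CharP A p := charP_of_injective_algebraMap (FaithfulSMul.algebraMap_injective k A) p
  obtain ⟨y, hyK, s, hs⟩ :=
    Groth.Agent.Lib.Helper59.SBNilp.exists_noncentral_pow_central k A p hp hA
  -- the good parameters
  let good : Set k := {t | 1 + t ^ p * s ≠ 0}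
  have hgood_inf : good.Infinite := by
    have hsub : goodᶜ.Subsingleton := by
      intro t ht t' ht'
      simp only [good, Set.mem_compl_iff, Set.mem_setOf_eq, not_not] at ht ht'
      have hs0 : s ≠ 0 := by
        rintro rfl
        simp at ht
      have h1 : t ^ p * s = t' ^ p * s := by linear_combination ht - ht'
      have h2 : t ^ p = t' ^ p := mul_right_cancel₀ hs0 h1
      exact frobenius_inj k p h2
    have := hsub.finite.infinite_compl
    rwa [compl_compl] at this
  obtain ⟨F, hFsub, hFcard⟩ := hgood_inf.exists_subset_card_eq (N + 1)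
  have hpow : ∀ t : k, (1 + t • y) ^ p = algebraMap k A (1 + t ^ p * s) := by
    intro t
    have hc : Commute (1 : A) (t • y) := Commute.one_left _
    rw [add_pow_char_of_commute (p := p) hc, one_pow, smul_pow, ← hs, map_add, map_one, map_mul,
      ← Algebra.smul_def]
  have hunit : ∀ t ∈ good, IsUnit (1 + t • y) := by
    intro t ht
    have h1 : IsUnit ((1 + t • y) ^ p) := by
      rw [hpow]
      exact (IsUnit.mk0 _ ht).map (algebraMap k A)
    exact (isUnit_pow_iff (by omega)).mp h1
  let U : k → Aˣ := fun t => if h : IsUnit (1 + t • y) then h.unit else 1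
  have hU : ∀ t ∈ good, ((U t : Aˣ) : A) = 1 + t • y := by
    intro t ht
    simp only [U, dif_pos (hunit t ht)]
    rfl
  have hUcomm : ∀ t ∈ good, ∀ t' ∈ good, U t * U t' = U t' * U t := by
    intro t ht t' ht'
    apply Units.ext
    rw [Units.val_mul, Units.val_mul, hU t ht, hU t' ht']
    simp only [mul_add, add_mul, mul_one, one_mul, smul_mul_smul_comm, mul_comm t t']
    abel
  have hUpow : ∀ t (ht : t ∈ good), U t ^ p =
      Units.map (algebraMap k A : k →* A) (Units.mk0 (1 + t ^ p * s) ht) := by
    intro t ht
    apply Units.ext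
    rw [Units.val_pow_eq_pow_val, hU t ht, hpow]
    rfl
  let ξ := Groth.Agent.Lib.Helper59.SBAut.xi st
  let S : Set (Aut (Over.mk f)) := (fun t => ξ (U t)) '' (F : Set k)
  have hfin : Finite (Subgroup.closure S) := by
    apply Groth.Agent.Lib.Helper59.SBGroup.finite_closure_of_comm_torsion S
      (F.finite_toSet.image _) p (by omega)
    · rintro _ ⟨t, ht, rfl⟩ _ ⟨t', ht', rfl⟩
      change ξ (U t) * ξ (U t') = ξ (U t') * ξ (U t)
      rw [← map_mul, ← map_mul, hUcomm t (hFsub ht) t' (hFsub ht')]
    · rintro _ ⟨t, ht, rfl⟩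
      change ξ (U t) ^ p = 1
      rw [← map_pow, hUpow t (hFsub ht)]
      exact Groth.Agent.Lib.Helper59.SBAut.xi_algebraMap st _
  refine ⟨Subgroup.closure S, hfin, ?_⟩
  -- injectivity
  have hinj : ∀ t ∈ F, ∀ t' ∈ F, ξ (U t) = ξ (U t') → t = t' := by
    intro t ht t' ht' hξ
    have hact := Groth.Agent.Lib.Helper59.SBAut.act_eq_of_xi_eq st (U t) (U t') hξ
    obtain ⟨r, hr⟩ := Groth.Agent.Lib.Helper59.SBFaithful.faithful k A p hA ((U t')⁻¹ * U t)
      (by
        intro Nn
        rw [Groth.Agent.Lib.Helper59.SBAction.act_mul, hact,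
          ← Groth.Agent.Lib.Helper59.SBAction.act_mul, inv_mul_cancel,
          Groth.Agent.Lib.Helper59.SBAction.act_one])
    have h1 : ((U t' : Aˣ) : A) = (U t : A) * algebraMap k A r := by
      rw [← hr, mul_inv_rev, inv_inv, Units.val_mul, ← mul_assoc, Units.mul_inv, one_mul]
    rw [hU t (hFsub ht), hU t' (hFsub ht'), ← Algebra.commutes, Algebra.algebraMap_eq_smul_one,
      smul_mul_assoc, one_mul, smul_add, smul_smul] at h1
    have h2 : (t' - r * t) • y = (r - 1) • (1 : A) := by
      rw [sub_smul, sub_smul]
      have := h1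
      rw [one_smul]
      rw [← sub_eq_zero] at this ⊢
      rw [← this]
      abel
    have h3 : t' - r * t = 0 := by
      by_contra hne
      apply hyK
      refine ⟨(t' - r * t)⁻¹ * (r - 1), ?_⟩
      rw [Algebra.algebraMap_eq_smul_one, mul_smul, ← h2, smul_smul, inv_mul_cancel₀ hne, one_smul]
    rw [h3, zero_smul] at h2
    have h4 : r - 1 = 0 := by
      rcases smul_eq_zero.mp h2.symm with h | h
      · exact h
      · exact absurd h one_ne_zero
    have hr1 : r = 1 := sub_eq_zero.mp h4
    rw [hr1, one_mul] at h3
    exact (sub_eq_zero.mp h3).symm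
  have hcard : F.card ≤ Nat.card (Subgroup.closure S) := by
    let φ : F → Subgroup.closure S := fun t =>
      ⟨ξ (U t.1), Subgroup.subset_closure ⟨t.1, t.2, rfl⟩⟩
    have hφ : Function.Injective φ := by
      intro t t' h
      apply Subtype.ext
      exact hinj t.1 t.2 t'.1 t'.2 (congrArg Subtype.val h)
    have := Nat.card_le_card_of_injective φ hφ
    rwa [Nat.card_eq_fintype_card, Fintype.card_coe] at this
  omega

end Groth.Agent.S15189
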