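import Groth.Statements.S15224
import Mathlib.Data.Nat.Choose.Sum
import Mathlib.Tactic

set_option autoImplicit false
open Finset
open W4c2rk2extmaps

namespace Groth.Agent.S15224

lemma rat_identity (k : ℕ) (hk : 2 ≤ k) :
    (∑ i ∈ Finset.Ico 1 k, (-1 : ℚ) ^ (i - 1) * (((Nat.factorial i : ℚ))⁻¹ * ((Nat.factorial (k - i) : ℚ))⁻¹))
      + (-1 : ℚ) ^ (k - 1) * ((Nat.factorial k : ℚ))⁻¹ = ((Nat.factorial k : ℚ))⁻¹ := by
  have h0 : (∑ i ∈ Finset.range (k + 1), ((-1 : ℤ) ^ i * (k.choose i : ℤ))) = 0 :=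
    Int.alternating_sum_range_choose_of_ne (by omega)
  have h1 : (∑ i ∈ Finset.range (k + 1), ((-1 : ℚ) ^ i * (k.choose i : ℚ))) = 0 := by
    have := congrArg (Int.cast : ℤ → ℚ) h0
    push_cast at this
    exact this
  rw [Finset.sum_range_succ, Finset.range_eq_Ico, Finset.sum_eq_sum_Ico_succ_bot (by omega)] at h1
  simp only [pow_zero, Nat.choose_zero_right, Nat.cast_one, mul_one, zero_add, Nat.choose_self] at h1
  have hk0 : ((Nat.factorial k : ℚ)) ≠ 0 := by positivity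
  have h2 : ∀ i ∈ Finset.Ico 1 k, (-1 : ℚ) ^ (i - 1) * (((Nat.factorial i : ℚ))⁻¹ * ((Nat.factorial (k - i) : ℚ))⁻¹)
      = - ((Nat.factorial k : ℚ))⁻¹ * ((-1 : ℚ) ^ i * (k.choose i : ℚ)) := by
    intro i hi
    rw [Finset.mem_Ico] at hi
    have hi' : i ≤ k := by omega
    rw [Nat.cast_choose ℚ hi']
    have hi0 : ((Nat.factorial i : ℚ)) ≠ 0 := by positivity
    have hki0 : ((Nat.factorial (k - i) : ℚ)) ≠ 0 := by positivity
    obtain ⟨j, rfl⟩ : ∃ j, i = j + 1 := ⟨i - 1, by omega⟩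
    simp only [Nat.add_sub_cancel, pow_succ]
    field_simp
  rw [Finset.sum_congr rfl h2, ← Finset.mul_sum]
  obtain ⟨j, rfl⟩ : ∃ j, k = j + 1 := ⟨k - 1, by omega⟩
  simp only [Nat.add_sub_cancel] at h1 ⊢
  have h3 : (∑ i ∈ Finset.Ico 1 (j + 1), (-1 : ℚ) ^ i * ((j + 1).choose i : ℚ)) = -1 - (-1) ^ (j + 1) := by
    linear_combination h1
  rw [h3, pow_succ]
  ring

/-- In a commutative ℚ-algebra R let y be an element and put c_k = y^k / k! for every k. Then for k ≥ 2,
Σ_{i=1}^{k-1} (-1)^(i-1) c_i c_(k-i) + (-1)^(k-1) c_k = c_k. (The published statement concerns the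
Chern classes of a specific vector bundle on a Jacobian, which are of the form c_k = (4θ)^k / k!;
the printed argument establishes the identity for every sequence of this form in a commutative
ℚ-algebra, which is the form stated here.) -/
theorem result (R : Type*) [CommRing R] [Algebra ℚ R] (y : R)
    (c : ℕ → R) (hc : ∀ k : ℕ, c k = ((Nat.factorial k : ℚ)⁻¹) • y ^ k)
    (k : ℕ) (hk : 2 ≤ k) :
    (∑ i ∈ Finset.Ico 1 k, (-1 : R) ^ (i - 1) * c i * c (k - i)) + (-1 : R) ^ (k - 1) * c k = c k := by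
  have key : ∀ i ∈ Finset.Ico 1 k, (-1 : R) ^ (i - 1) * c i * c (k - i)
      = algebraMap ℚ R ((-1 : ℚ) ^ (i - 1) * (((Nat.factorial i : ℚ))⁻¹ * ((Nat.factorial (k - i) : ℚ))⁻¹)) * y ^ k := by
    intro i hi
    rw [Finset.mem_Ico] at hi
    have hy : y ^ k = y ^ i * y ^ (k - i) := by
      rw [← pow_add]
      congr 1
      omega
    rw [hc, hc, Algebra.smul_def, Algebra.smul_def, hy]
    simp only [map_mul, map_pow, map_neg, map_one]
    ring
  have key2 : (-1 : R) ^ (k - 1) * c k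
      = algebraMap ℚ R ((-1 : ℚ) ^ (k - 1) * ((Nat.factorial k : ℚ))⁻¹) * y ^ k := by
    rw [hc, Algebra.smul_def]
    simp only [map_mul, map_pow, map_neg, map_one]
    ring
  rw [Finset.sum_congr rfl key, key2, ← Finset.sum_mul, ← map_sum, ← add_mul, ← map_add,
    rat_identity k hk, hc, Algebra.smul_def]

end Groth.Agent.S15224
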