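import Groth.Statements.S15229
import Groth.Agent.S15224

set_option autoImplicit false
open Finset
open W4c2rk2extmaps

namespace Groth.Agent.S15229

lemma aux (R : Type*) [CommRing R] [Algebra ℚ R]
    (θ η : R) (g : ℕ) (c : ℕ → R) (hc : ∀ k : ℕ, c k = ((Nat.factorial k : ℚ)⁻¹) • ((4 : R) * θ) ^ k)
    (hθ : θ ^ (g + 1) = 0)
    (hrel : η ^ (g + 1) = ∑ i ∈ Finset.Ico 1 (g + 2), (-1 : R) ^ (i - 1) * c i * η ^ (g + 1 - i))
    (k : ℕ) : 1 ≤ k → k ≤ g →
    η ^ (g + k) * θ ^ (g - k) = c k * η ^ g * θ ^ (g - k) := by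
  induction k using Nat.strong_induction_on with
  | _ k ih =>
    intro hk1 hkg
    have e1 : η ^ (g + k) * θ ^ (g - k) = η ^ (g + 1) * (η ^ (k - 1) * θ ^ (g - k)) := by
      rw [← mul_assoc, ← pow_add]
      congr 2
      omega
    rw [e1, hrel, Finset.sum_mul]
    rw [← Finset.sum_Ico_consecutive _ (show 1 ≤ k by omega) (show k ≤ g + 2 by omega),
      Finset.sum_eq_sum_Ico_succ_bot (show k < g + 2 by omega)]
    have hbig : ∀ i ∈ Finset.Ico (k + 1) (g + 2),
        (-1 : R) ^ (i - 1) * c i * η ^ (g + 1 - i) * (η ^ (k - 1) * θ ^ (g - k)) = 0 := by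
      intro i hi
      rw [Finset.mem_Ico] at hi
      have h0 : c i * θ ^ (g - k) = 0 := by
        rw [hc, Algebra.smul_def, mul_pow, mul_assoc, mul_assoc, ← pow_add]
        have : i + (g - k) = (g + 1) + (i - k - 1) := by omega
        rw [this, pow_add, hθ]
        simp
      calc _ = (-1 : R) ^ (i - 1) * η ^ (g + 1 - i) * η ^ (k - 1) * (c i * θ ^ (g - k)) := by ring
        _ = 0 := by rw [h0, mul_zero]
    rw [Finset.sum_eq_zero hbig, add_zero]
    have hmid : (-1 : R) ^ (k - 1) * c k * η ^ (g + 1 - k) * (η ^ (k - 1) * θ ^ (g - k))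
        = (-1 : R) ^ (k - 1) * c k * (η ^ g * θ ^ (g - k)) := by
      have : η ^ (g + 1 - k) * η ^ (k - 1) = η ^ g := by
        rw [← pow_add]
        congr 1
        omega
      calc _ = (-1 : R) ^ (k - 1) * c k * (η ^ (g + 1 - k) * η ^ (k - 1)) * θ ^ (g - k) := by ring
        _ = _ := by rw [this]; ring
    have hsmall : ∀ i ∈ Finset.Ico 1 k,
        (-1 : R) ^ (i - 1) * c i * η ^ (g + 1 - i) * (η ^ (k - 1) * θ ^ (g - k))
          = ((-1 : R) ^ (i - 1) * c i * c (k - i)) * (η ^ g * θ ^ (g - k)) := by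
      intro i hi
      rw [Finset.mem_Ico] at hi
      have ih' := ih (k - i) (by omega) (by omega) (by omega)
      have h1 : η ^ (g + 1 - i) * η ^ (k - 1) = η ^ (g + (k - i)) := by
        rw [← pow_add]
        congr 1
        omega
      have h2 : c i * θ ^ (g - k)
          = algebraMap ℚ R ((Nat.factorial i : ℚ)⁻¹) * (4 : R) ^ i * θ ^ (g - (k - i)) := by
        rw [hc, Algebra.smul_def, mul_pow, mul_assoc, mul_assoc, mul_assoc, ← pow_add]
        congr 3
        omega
      calc _ = (-1 : R) ^ (i - 1) * (η ^ (g + 1 - i) * η ^ (k - 1)) * (c i * θ ^ (g - k)) := by ring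
        _ = (-1 : R) ^ (i - 1) * algebraMap ℚ R ((Nat.factorial i : ℚ)⁻¹) * (4 : R) ^ i
              * (η ^ (g + (k - i)) * θ ^ (g - (k - i))) := by rw [h1, h2]; ring
        _ = (-1 : R) ^ (i - 1) * algebraMap ℚ R ((Nat.factorial i : ℚ)⁻¹) * (4 : R) ^ i
              * (c (k - i) * η ^ g * θ ^ (g - (k - i))) := by rw [ih']
        _ = (-1 : R) ^ (i - 1) * c (k - i) * η ^ g
              * (algebraMap ℚ R ((Nat.factorial i : ℚ)⁻¹) * (4 : R) ^ i * θ ^ (g - (k - i))) := by ring
        _ = _ := by rw [← h2]; ring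
    rw [Finset.sum_congr rfl hsmall, hmid, ← Finset.sum_mul, ← add_mul]
    have hS : (∑ i ∈ Finset.Ico 1 k, (-1 : R) ^ (i - 1) * c i * c (k - i))
        + (-1 : R) ^ (k - 1) * c k = c k := by
      rcases Nat.lt_or_ge k 2 with h | h
      · have : k = 1 := by omega
        subst this
        simp
      · exact Groth.Agent.S15224.result R ((4 : R) * θ) c hc k h
    rw [hS]
    ring

/-- In a commutative ℚ-algebra R let θ, η be elements and g a natural number, and put c_k = (4θ)^k / k!.
Suppose θ^(g+1) = 0 and that η satisfies the relation η^(g+1) = Σ_{i=1}^{g+1} (-1)^(i-1) c_i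
η^(g+1-i). Then η^(g+k) θ^(g-k) = c_k η^g θ^(g-k) for every 1 ≤ k ≤ g. (The published statement
concerns the first Chern class η of the tautological line bundle on a projective bundle P(U) over a
g-dimensional Jacobian, with c_k the Chern classes of U, which are (4θ)^k / k!; there θ^(g+1)
vanishes for dimension reasons and the displayed relation is the projective-bundle relation, and the
printed argument derives the identity from exactly these three inputs, which is the form stated
here.) -/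
theorem result (R : Type*) [CommRing R] [Algebra ℚ R]
    (θ η : R) (g : ℕ) (c : ℕ → R) (hc : ∀ k : ℕ, c k = ((Nat.factorial k : ℚ)⁻¹) • ((4 : R) * θ) ^ k)
    (hθ : θ ^ (g + 1) = 0)
    (hrel : η ^ (g + 1) = ∑ i ∈ Finset.Ico 1 (g + 2), (-1 : R) ^ (i - 1) * c i * η ^ (g + 1 - i))
    (k : ℕ) (hk1 : 1 ≤ k) (hkg : k ≤ g) :
    η ^ (g + k) * θ ^ (g - k) = c k * η ^ g * θ ^ (g - k) := by
  exact aux R θ η g c hc hθ hrel k hk1 hkg

end Groth.Agent.S15229
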