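import Groth.Statements.S15231
import Mathlib.Tactic
import Groth.Agent.Lib.Helper43.TensSES
import Groth.Agent.Lib.Helper15.LDerived
import Groth.Agent.Lib.Helper15.LBCKFlat
import Groth.Agent.Lib.Helper15.LTKFlat
-- import your own Groth.Agent.* helpers here

set_option autoImplicit false
universe u
open CategoryTheory CategoryTheory.Limits
attribute [local instance] HasDerivedCategory.standard
open DRing

namespace Groth.Agent.S15231

/-- Let R be a Noetherian local commutative ring with residue field κ, let P be any object of D(R) and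
a, b integers. Suppose that H^i(P ⊗^L_R κ) = 0 for every i outside [a, b] (over the field κ this
says exactly that P ⊗^L_R κ has tor amplitude in [a, b] as an object of D(κ)). Then for every
R-module N of finite length, H^i(P ⊗^L_R N) = 0 for every i outside [a, b]. The derived base change
to κ and the derived tensor products with R-modules are the total left derived functors on D(R),
assumed to exist for every R-module (as they do). -/
theorem result (R : Type u) [CommRing R] [IsNoetherianRing R]
    [IsLocalRing R] [DRing.HasLBaseChange (IsLocalRing.residue R)] [∀ M : ModuleCat.{u} R, DRing.HasLTensor R M]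
    (P : Dual.D R) (a b : ℤ)
    (h : ∀ i : ℤ, (i < a ∨ b < i) →
      Subsingleton (Dual.HD (IsLocalRing.ResidueField R) ((DRing.LBaseChange (IsLocalRing.residue R)).obj P) i))
    (N : Type u) [AddCommGroup N] [Module R N] (hN : IsFiniteLength R N) (i : ℤ) (hi : i < a ∨ b < i) :
    Subsingleton (Dual.HD R ((DRing.LTensor R (ModuleCat.of R N)).obj P) i) := by
  -- a K-flat, termwise flat representative
  obtain ⟨F, π, -, hπ, hFK, hFflat, -⟩ :=
    Groth.Agent.Lib.Helper15.KProjRes.exists_kprojective_resolution (DerivedCategory.Q.objPreimage P)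
  haveI : IsIso (DerivedCategory.Q.map π) := by
    rw [DerivedCategory.isIso_Q_map_iff_quasiIso]; exact hπ
  have e : DRing.toD F ≅ P :=
    asIso (DerivedCategory.Q.map π) ≪≫ DerivedCategory.Q.objObjPreimageIso P
  -- the translation for modules
  have key : ∀ (M : ModuleCat.{u} R) (j : ℤ),
      Subsingleton (Dual.HD R ((DRing.LTensor R M).obj P) j) ↔
        ((Groth.Agent.Lib.Helper84.TensCx.tens M).obj F).ExactAt j := by
    intro M j
    have iso : (DRing.LTensor R M).obj P ≅
        DRing.toD ((Groth.Agent.Lib.Helper84.TensCx.tens M).obj F) :=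
      (DRing.LTensor R M).mapIso e.symm ≪≫
        Groth.Agent.Lib.Helper15.LTKFlat.ltIsoOfIsKFlat M F hFK ≪≫
        DerivedCategory.Q.mapIso (Groth.Agent.Lib.Helper84.FlatAmp.tensRightIso M F)
    constructor
    · intro h'
      exact Groth.Agent.Lib.Helper84.FlatAmp.exactAt_of_subsingleton_HD _ j
        (Groth.Agent.Lib.Helper84.FlatAmp.subsingleton_HD_of_iso iso j h')
    · intro h'
      exact Groth.Agent.Lib.Helper84.FlatAmp.subsingleton_HD_of_iso iso.symm j
        (Groth.Agent.Lib.Helper84.FlatAmp.subsingleton_HD_of_exactAt _ j h')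
  rw [key]
  refine Groth.Agent.Lib.Helper43.TensSES.exactAt_tens_of_isFiniteLength F hFflat i ?_ N hN
  -- the residue field
  have isoκ : (DRing.LBaseChange (IsLocalRing.residue R)).obj P ≅
      DRing.toD (Groth.Agent.Lib.Helper25.KFlat.extCx (IsLocalRing.residue R) F) :=
    (DRing.LBaseChange (IsLocalRing.residue R)).mapIso e.symm ≪≫
      Groth.Agent.Lib.Helper15.LBCKFlat.lbcIsoOfIsKFlat (IsLocalRing.residue R) F hFK
  have h1 : (Groth.Agent.Lib.Helper25.KFlat.extCx (IsLocalRing.residue R) F).ExactAt i :=
    Groth.Agent.Lib.Helper84.FlatAmp.exactAt_of_subsingleton_HD _ i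
      (Groth.Agent.Lib.Helper84.FlatAmp.subsingleton_HD_of_iso isoκ i (h i hi))
  have h2 := (Groth.Agent.Lib.Helper43.ResLocal.exactAt_res_iff (IsLocalRing.residue R) _ i).2 h1
  exact Groth.Agent.Lib.Helper43.ResTensor.exactAt_of_iso
    (Groth.Agent.Lib.Helper43.ResLocal.resExtIso (IsLocalRing.residue R) F) i h2

end Groth.Agent.S15231
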