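import Groth.Statements.S15232
import Mathlib.Tactic
import Groth.Agent.Lib.Helper43.FibreAmp
import Groth.Agent.Lib.Helper15.LBCKFlat
import Groth.Agent.Lib.Helper15.LDerived
import Groth.Agent.S6948
import Mathlib.RingTheory.Jacobson.Ideal
-- import your own Groth.Agent.* helpers here

set_option autoImplicit false
universe u
open CategoryTheory CategoryTheory.Limits
attribute [local instance] HasDerivedCategory.standard
open DRing

namespace Groth.Agent.S15232

/-- Let R be a Noetherian commutative ring and I an ideal contained in the Jacobson radical of R, and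
assume the derived base change D(R) → D(R/I) exists. Let P be a pseudo-coherent object of D(R) and
a, b integers. If P ⊗^L_R R/I has tor amplitude in [a, b] as an object of D(R/I), then P has tor
amplitude in [a, b] as an object of D(R). Tor amplitude is taken in the flat-representative form
(isomorphic in the derived category to a complex of flat modules vanishing outside [a, b]). -/
theorem result (R : Type u) [CommRing R] [IsNoetherianRing R]
    (I : Ideal R) (hI : I ≤ Ideal.jacobson (⊥ : Ideal R)) [DRing.HasLBaseChange (Ideal.Quotient.mk I)]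
    (P : Dual.D R) (hP : DRing.IsPseudoCoherent' R P) (a b : ℤ)
    (h : DRing.HasTorAmplitudeIn (R ⧸ I) a b ((DRing.LBaseChange (Ideal.Quotient.mk I)).obj P)) :
    DRing.HasTorAmplitudeIn R a b P := by
  obtain ⟨E, b₀, hEb, hEff, ⟨e⟩⟩ := hP
  have hflat : DRing.TermwiseFlat E := fun i => by
    haveI := (hEff i).2
    infer_instance
  have hFb := Groth.Agent.Lib.Helper84.FlatBC.vanishesAbove_extCx (Ideal.Quotient.mk I) E b₀ hEb
  have hFflat := Groth.Agent.Lib.Helper84.FlatBC.termwiseFlat_extCx (Ideal.Quotient.mk I) E hflat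
  have htorF : DRing.HasTorAmplitudeIn (R ⧸ I) a b
      (DRing.toD ((Groth.Agent.Lib.Helper84.FlatBC.extCx (Ideal.Quotient.mk I)).obj E)) :=
    Groth.Agent.Lib.Helper84.FlatAmp.torAmp_of_iso h
      ((DRing.LBaseChange (Ideal.Quotient.mk I)).mapIso e.symm ≪≫
        Groth.Agent.Lib.Helper15.LBCKFlat.lbcIsoOfFlat (Ideal.Quotient.mk I) E b₀ hEb hflat)
  refine Groth.Agent.Lib.Helper84.FlatAmp.torAmp_of_iso
    (Groth.Agent.Lib.Helper43.FibreAmp.torAmp_of_fibres E b₀ hEb hEff a b ?_) e
  intro m hm i hi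
  have hIm : I ≤ m := by
    refine hI.trans ?_
    have h1 : Ideal.jacobson (⊥ : Ideal R) ≤ Ideal.jacobson m := Ideal.jacobson_mono bot_le
    have h2 : Ideal.jacobson m = m := Ideal.jacobson_eq_self_of_isMaximal (H := hm)
    exact h2 ▸ h1
  let ρ : R ⧸ I →+* R ⧸ m := Ideal.Quotient.factor hIm
  have hρ : ρ.comp (Ideal.Quotient.mk I) = Ideal.Quotient.mk m := Ideal.Quotient.factor_comp_mk hIm
  have h2 : DRing.HasTorAmplitudeIn (R ⧸ m) a b
      (DRing.toD ((Groth.Agent.Lib.Helper84.FlatBC.extCx ρ).obj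
        ((Groth.Agent.Lib.Helper84.FlatBC.extCx (Ideal.Quotient.mk I)).obj E))) :=
    Groth.Agent.Lib.Helper84.FlatAmp.torAmp_of_iso
      (Groth.Agent.S6948.result ρ _ a b htorF)
      (Groth.Agent.Lib.Helper15.LBCKFlat.lbcIsoOfFlat ρ _ b₀ hFb hFflat)
  have h3 : ((Groth.Agent.Lib.Helper84.FlatBC.extCx ρ).obj
      ((Groth.Agent.Lib.Helper84.FlatBC.extCx (Ideal.Quotient.mk I)).obj E)).ExactAt i := by
    rw [HomologicalComplex.exactAt_iff_isZero_homology]
    refine IsZero.of_iso ?_ (Groth.Agent.Lib.Helper43.PCHomology.homologyIso _ i).symm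
    rcases hi with hi | hi
    · haveI := Groth.Agent.Lib.Helper84.FlatAmp.torAmp_isGE h2
      exact DerivedCategory.isZero_of_isGE _ a i hi
    · haveI := Groth.Agent.Lib.Helper84.FlatAmp.torAmp_isLE h2
      exact DerivedCategory.isZero_of_isLE _ b i hi
  have h4 := Groth.Agent.Lib.Helper43.FibreAmp.exactAt_of_iso
    (Groth.Agent.Lib.Helper43.FibreAmp.extCxComp (Ideal.Quotient.mk I) ρ E).symm i h3
  exact Groth.Agent.Lib.Helper43.FibreAmp.exactAt_extCx_of_eq hρ E i h4

end Groth.Agent.S15232
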