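import Groth.Statements.S15233
-- import your own Groth.Agent.* helpers here

set_option autoImplicit false
universe u
open CategoryTheory CategoryTheory.Limits Opposite
open CohSite

namespace Groth.Agent.S15233

/-- Let C be a small category with a Grothendieck topology J, and let B be a class of objects forming a
prebasis: for every object V and every covering sieve S of V, the arrows of S whose domain lies in B
generate a covering sieve of V. If F is a presheaf of abelian groups on C such that F(U) = 0 for
every object U in B, then the sheafification of F is zero. -/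
theorem result {C : Type u} [SmallCategory C] (J : GrothendieckTopology C)
    (B : ObjectProperty C)
    (hB : ∀ (V : C) (S : Sieve V), S ∈ J V →
      Sieve.generate (fun (U : C) => {g : U ⟶ V | S.arrows g ∧ B U}) ∈ J V)
    (F : Cᵒᵖ ⥤ AddCommGrpCat.{u}) (hF : ∀ U : C, B U → IsZero (F.obj (op U))) :
    IsZero ((presheafToSheaf J AddCommGrpCat.{u}).obj F) := by
  have hzero : ∀ (G : Sheaf J AddCommGrpCat.{u}) (φ : F ⟶ G.obj), φ = 0 := by
    intro G φ
    apply NatTrans.ext
    funext V
    obtain ⟨V⟩ := V
    have hS := hB V ⊤ (J.top_mem V)
    have hsep := (G.property (F.obj (op V)) _ hS).isSeparatedFor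
    apply hsep.ext
    rintro Y f ⟨U, h, g, ⟨-, hU⟩, rfl⟩
    have h1 : F.map g.op = 0 := (hF U hU).eq_of_tgt _ _
    have h2 : φ.app (op V) ≫ G.obj.map g.op = 0 := by
      rw [← φ.naturality, h1, zero_comp]
    simp
    rw [reassoc_of% h2, zero_comp]
  rw [IsZero.iff_id_eq_zero]
  apply ((sheafificationAdjunction J AddCommGrpCat.{u}).homEquiv F _).injective
  rw [hzero _ ((sheafificationAdjunction J AddCommGrpCat.{u}).homEquiv F _ (𝟙 _))]
  exact (hzero _ _).symm

end Groth.Agent.S15233
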