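import Groth.Statements.S15235
-- import your own Groth.Agent.* helpers here

set_option autoImplicit false
universe u
open CategoryTheory Opposite
open HomAlg3

namespace Groth.Agent.S15235

section aux

variable (F : ℕᵒᵖ ⥤ Type u)

/-- transition map -/
def tr {n m : ℕ} (h : n ≤ m) : F.obj (op m) → F.obj (op n) := F.map (homOfLE h).op

lemma tr_tr {a b c : ℕ} (h₁ : a ≤ b) (h₂ : b ≤ c) (x : F.obj (op c)) :
    tr F h₁ (tr F h₂ x) = tr F (h₁.trans h₂) x := by
  unfold tr
  rw [← Functor.map_comp_apply]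
  rfl

lemma tr_refl {a : ℕ} (x : F.obj (op a)) : tr F (le_refl a) x = x := by
  unfold tr
  have : (homOfLE (le_refl a)).op = 𝟙 (op a) := rfl
  rw [this, Functor.map_id_apply]

lemma map_eq_tr {i j : ℕᵒᵖ} (f : i ⟶ j) (x : F.obj i) :
    F.map f x = tr F (leOfHom f.unop) x := rfl

variable {F}

lemma tr_surj (j₀ : ℕ) (hs : ∀ j : ℕ, j₀ ≤ j → Function.Surjective (tr F (Nat.le_succ j)))
    {a b : ℕ} (ha : j₀ ≤ a) (hab : a ≤ b) : Function.Surjective (tr F hab) := by
  induction b, hab using Nat.le_induction with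
  | base => intro x; exact ⟨x, tr_refl F x⟩
  | succ b hab ih =>
    intro x
    obtain ⟨y, hy⟩ := ih x
    obtain ⟨z, hz⟩ := hs b (ha.trans hab) y
    refine ⟨z, ?_⟩
    rw [← hy, ← hz, tr_tr]

lemma tr_inj (j₀ : ℕ) (hs : ∀ j : ℕ, j₀ ≤ j → Function.Injective (tr F (Nat.le_succ j)))
    {a b : ℕ} (ha : j₀ ≤ a) (hab : a ≤ b) : Function.Injective (tr F hab) := by
  induction b, hab using Nat.le_induction with
  | base => intro x y h; rwa [tr_refl, tr_refl] at h
  | succ b hab ih =>
    intro x y h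
    apply hs b (ha.trans hab)
    apply ih
    rw [tr_tr, tr_tr]
    exact h

lemma isML (j₀ : ℕ) (hs : ∀ j : ℕ, j₀ ≤ j → Function.Surjective (tr F (Nat.le_succ j))) :
    F.IsMittagLeffler := by
  rintro ⟨n⟩
  refine ⟨op (max n j₀), (homOfLE (le_max_left n j₀)).op, ?_⟩
  rintro ⟨m⟩ g x ⟨y, rfl⟩
  have hnm : n ≤ m := leOfHom g.unop
  obtain ⟨z, hz⟩ := tr_surj j₀ hs (le_max_right n j₀) (le_max_right m (max n j₀)) y
  refine ⟨tr F (le_max_left m (max n j₀)) z, ?_⟩
  rw [map_eq_tr, map_eq_tr, tr_tr, ← hz, tr_tr]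

/-- the recursively chosen lifts -/
noncomputable def lifts (j₀ : ℕ) (hs : ∀ j : ℕ, j₀ ≤ j → Function.Surjective (tr F (Nat.le_succ j)))
    (x : F.obj (op j₀)) : ∀ n : ℕ, F.obj (op (j₀ + n))
  | 0 => x
  | n + 1 => Classical.choose (hs (j₀ + n) (Nat.le_add_right j₀ n) (lifts j₀ hs x n))

lemma lifts_succ (j₀ : ℕ) (hs : ∀ j : ℕ, j₀ ≤ j → Function.Surjective (tr F (Nat.le_succ j)))
    (x : F.obj (op j₀)) (n : ℕ) :
    tr F (Nat.le_succ (j₀ + n)) (lifts j₀ hs x (n + 1)) = lifts j₀ hs x n :=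
  Classical.choose_spec (hs (j₀ + n) (Nat.le_add_right j₀ n) (lifts j₀ hs x n))

lemma lifts_compat (j₀ : ℕ) (hs : ∀ j : ℕ, j₀ ≤ j → Function.Surjective (tr F (Nat.le_succ j)))
    (x : F.obj (op j₀)) {n m : ℕ} (h : n ≤ m) :
    tr F (Nat.add_le_add_left h j₀) (lifts j₀ hs x m) = lifts j₀ hs x n := by
  induction m, h using Nat.le_induction with
  | base => exact tr_refl F _
  | succ m h ih =>
    rw [← ih, ← lifts_succ j₀ hs x m, tr_tr]

lemma eval_surj (j₀ : ℕ) (hs : ∀ j : ℕ, j₀ ≤ j → Function.Surjective (tr F (Nat.le_succ j))) :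
    Function.Surjective (fun s : F.sections => s.1 (op j₀)) := by
  intro x
  refine ⟨⟨fun j => tr F (Nat.le_add_left j.unop j₀) (lifts j₀ hs x j.unop), ?_⟩, ?_⟩
  · rintro ⟨m⟩ ⟨n⟩ f
    have hnm : n ≤ m := leOfHom f.unop
    dsimp only
    rw [map_eq_tr, tr_tr, ← lifts_compat j₀ hs x hnm, tr_tr]
  · dsimp only
    exact lifts_compat j₀ hs x (Nat.zero_le j₀)

lemma eval_inj (j₀ : ℕ) (hs : ∀ j : ℕ, j₀ ≤ j → Function.Injective (tr F (Nat.le_succ j))) :
    Function.Injective (fun s : F.sections => s.1 (op j₀)) := by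
  intro s s' h
  dsimp only at h
  rw [Functor.sections_ext_iff]
  rintro ⟨n⟩
  rcases le_total n j₀ with hn | hn
  · have h1 := s.2 (homOfLE hn).op
    have h2 := s'.2 (homOfLE hn).op
    rw [← h1, ← h2, h]
  · apply tr_inj j₀ hs le_rfl hn
    have h1 := s.2 (homOfLE hn).op
    have h2 := s'.2 (homOfLE hn).op
    rw [map_eq_tr] at h1 h2
    rw [h1, h2, h]

end aux

/-- Let (G_j) be an inverse system of abelian groups indexed by the natural numbers, with transition
maps G_{j+1} → G_j, and let j₀ be a natural number such that the transition map G_{j+1} → G_j is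
surjective for every j ≥ j₀. Then: (a) the system satisfies the Mittag-Leffler condition; (b) the
evaluation map from the inverse limit (realised as the set of compatible families) to G_{j₀} is
surjective; (c) if in addition the transition maps G_{j+1} → G_j are injective for every j ≥ j₀,
that evaluation map is bijective. (The published statement indexes the system by the negative
integers and assumes j₀ ≥ 1; this row indexes it by the natural numbers and allows j₀ = 0, which
changes nothing.) -/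
theorem result (G : ℕᵒᵖ ⥤ AddCommGrpCat.{u})
    (j₀ : ℕ) (hs : ∀ j : ℕ, j₀ ≤ j → Function.Surjective (G.map (homOfLE (Nat.le_succ j)).op).hom) :
    (G ⋙ forget AddCommGrpCat.{u}).IsMittagLeffler ∧
      Function.Surjective (fun s : (G ⋙ forget AddCommGrpCat.{u}).sections => s.1 (op j₀)) ∧
      ((∀ j : ℕ, j₀ ≤ j → Function.Injective (G.map (homOfLE (Nat.le_succ j)).op).hom) →
        Function.Bijective (fun s : (G ⋙ forget AddCommGrpCat.{u}).sections => s.1 (op j₀))) := by
  have hs' : ∀ j : ℕ, j₀ ≤ j →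
      Function.Surjective (tr (G ⋙ forget AddCommGrpCat.{u}) (Nat.le_succ j)) := hs
  refine ⟨isML j₀ hs', eval_surj j₀ hs', fun hi => ⟨?_, eval_surj j₀ hs'⟩⟩
  have hi' : ∀ j : ℕ, j₀ ≤ j →
      Function.Injective (tr (G ⋙ forget AddCommGrpCat.{u}) (Nat.le_succ j)) := hi
  exact eval_inj j₀ hi'

end Groth.Agent.S15235
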