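import Groth.Statements.S15237
import Groth.Agent.Lib.Helper72.UncountableAvoid
import Groth.Agent.Lib.Helper72.DimLFT

set_option autoImplicit false
open CategoryTheory AlgebraicGeometry
universe u
open Variety
open Groth.Agent.Lib.Helper73

namespace Groth.Agent.S15237

/-- Let k be an uncountable field and X an irreducible k-scheme of finite type. Then the closed points
of X are not covered by countably many closed subsets of X different from X: for every sequence Z₀,
Z₁, … of closed subsets of X with Zₙ ≠ X for all n there is a closed point of X lying in no Zₙ. (The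
published statement is for an irreducible quasi-projective variety and says that the variety is not
a countable union of closed subsets different from it, a variety being read through its closed
points; with the generic point of the scheme that assertion would be immediate, so this row asks for
a closed point, and it assumes only finite type over k.) -/
theorem result (k : Type u) [Field k] [Uncountable k]
    (X : Scheme.{u}) (sX : X ⟶ Spec (CommRingCat.of k)) [IrreducibleSpace X]
    [LocallyOfFiniteType sX] [QuasiCompact sX]
    (Z : ℕ → TopologicalSpace.Closeds X) (hZ : ∀ n, (Z n : Set X) ≠ Set.univ) :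
    ∃ x : X, IsClosed ({x} : Set X) ∧ ∀ n, x ∉ Z n := by
  obtain ⟨U, hU, hgU, -⟩ :=
    exists_isAffineOpen_mem_and_subset (X := X) (x := genericPoint X) (U := ⊤) trivial
  let _ := chartAlgebra sX hU
  have hft := chart_finiteType sX hU
  -- the spectrum of `Γ(X, U)` is irreducible, so its nilradical is prime
  have hUd : Dense (U : Set X) := U.isOpen.dense ⟨_, hgU⟩
  have hirrU : IsIrreducible (U : Set X) :=
    ⟨⟨_, hgU⟩, (IrreducibleSpace.isIrreducible_univ X).isPreirreducible.open_subset U.isOpen
      (Set.subset_univ _)⟩
  have hirrS : IsIrreducible (Set.univ : Set (PrimeSpectrum Γ(X, U))) := by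
    have h1 : IsIrreducible (hU.fromSpec ⁻¹' (U : Set X)) :=
      hirrU.preimage hU.fromSpec.isOpenEmbedding
        (by rw [hU.range_fromSpec, Set.inter_self]; exact ⟨_, hgU⟩)
    have h2 : hU.fromSpec ⁻¹' (U : Set X) = Set.univ :=
      Set.eq_univ_of_forall fun p => by
        show hU.fromSpec p ∈ (U : Set X)
        rw [← hU.range_fromSpec]; exact ⟨p, rfl⟩
    rw [h2] at h1
    exact h1
  have hprime : (nilradical Γ(X, U)).IsPrime := by
    have h1 := (PrimeSpectrum.isIrreducible_zeroLocus_iff (⊥ : Ideal Γ(X, U))).mp (by
      rw [PrimeSpectrum.zeroLocus_bot]; exact hirrS)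
    exact h1
  let D := Γ(X, U) ⧸ nilradical Γ(X, U)
  have hD : IsDomain D := Ideal.Quotient.isDomain _
  -- choose a non-nilpotent function vanishing on `Z n ∩ U`
  have hex : ∀ n, ∃ g : Γ(X, U), g ∉ nilradical Γ(X, U) ∧
      ∀ p : PrimeSpectrum Γ(X, U), hU.fromSpec p ∈ Z n → g ∈ p.asIdeal := by
    intro n
    let T : Set (PrimeSpectrum Γ(X, U)) := hU.fromSpec ⁻¹' (Z n : Set X)
    have hTc : IsClosed T := (Z n).isClosed.preimage hU.fromSpec.continuous
    have hTne : T ≠ Set.univ := by
      intro hT
      apply hZ n
      have h1 : (U : Set X) ⊆ Z n := by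
        intro x hx
        rw [← hU.range_fromSpec] at hx
        obtain ⟨p, rfl⟩ := hx
        have : p ∈ T := by rw [hT]; trivial
        exact this
      have h2 := hUd.closure_eq ▸ closure_minimal h1 (Z n).isClosed
      exact Set.eq_univ_of_univ_subset h2
    have hT : PrimeSpectrum.zeroLocus (PrimeSpectrum.vanishingIdeal T : Set Γ(X, U)) = T := by
      rw [PrimeSpectrum.zeroLocus_vanishingIdeal_eq_closure, hTc.closure_eq]
    have hnot : ¬ (PrimeSpectrum.vanishingIdeal T ≤ nilradical Γ(X, U)) := by
      intro hle
      apply hTne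
      rw [← hT]
      refine Set.eq_univ_of_forall fun p => ?_
      rw [PrimeSpectrum.mem_zeroLocus]
      intro g hg
      exact nilradical_le_prime p.asIdeal (hle hg)
    obtain ⟨g, hgT, hgn⟩ := SetLike.not_le_iff_exists.mp hnot
    refine ⟨g, hgn, fun p hp => ?_⟩
    exact (PrimeSpectrum.mem_vanishingIdeal T g).mp hgT p hp
  choose g hgn hgZ using hex
  obtain ⟨m, hm, hmg⟩ := Groth.Agent.Lib.Helper72.UncountableAvoid.exists_maximal_avoiding k D
    (fun n => Ideal.Quotient.mk _ (g n))
    (fun n h => hgn n (Ideal.Quotient.eq_zero_iff_mem.mp h))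
  have hmax : (m.comap (Ideal.Quotient.mk (nilradical Γ(X, U)))).IsMaximal :=
    Ideal.comap_isMaximal_of_surjective _ Ideal.Quotient.mk_surjective
  let p : Spec Γ(X, U) := ⟨m.comap (Ideal.Quotient.mk (nilradical Γ(X, U))), hmax.isPrime⟩
  refine ⟨hU.fromSpec p, ?_, fun n hn => ?_⟩
  · apply Groth.Agent.Lib.Helper72.DimLFT.isClosed_singleton_of_trdegNat_eq_zero sX
    rw [chart_trdegNat sX hU p]
    exact quotDim_eq_zero_of_isMaximal k p hmax
  · exact hmg n (hgZ n p hn)

end Groth.Agent.S15237
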