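import Groth.Statements.S15241
import Groth.Agent.Lib.Helper72.KleimanFlat
import Groth.Agent.Lib.Helper72.KleimanDim
import Groth.Agent.Lib.Helper72.KleimanFibre

set_option autoImplicit false
universe u
open CategoryTheory CategoryTheory.Limits MonoidalCategory CartesianMonoidalCategory MonObj GrpObj AlgebraicGeometry
open AGF

namespace Groth.Agent.S15241

open Groth.Agent.Lib.Helper72 Groth.Agent.Lib.Helper72.KleimanSmooth
  Groth.Agent.Lib.Helper72.KleimanFlat
  Groth.Agent.Lib.Helper72.KleimanDim Groth.Agent.Lib.Helper72.KleimanFibre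
  Groth.Agent.Lib.Helper72.Equidim Groth.Agent.Lib.Helper72.OrbitAct

/-- Let k be an algebraically closed field of characteristic zero, G a group variety over k (an
integral, separated k-group scheme of finite type) acting on a variety X over k (integral,
separated, of finite type) of dimension n such that G(k) acts transitively on X(k), and let Y₁, Y₂
be closed irreducible subsets of X of dimensions r and s. Then for g in a nonempty open subset of G
the translate g · Y₁ meets Y₂ properly: there is a nonempty open V ⊆ G such that for every k-point g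
of G lying in V, the intersection of Y₂ with the image of Y₁ under x ↦ g · x is either empty or has
every irreducible component of dimension exactly r + s − n (and then n ≤ r + s). (The published
statement also asserts multiplicity one along each component, which is not stated here. The
published setting is over the complex numbers with G affine; this row assumes an algebraically
closed field of characteristic zero and any group variety, which is all the printed argument uses.) -/
theorem result (k : Type u) [Field k] [IsAlgClosed k] [CharZero k]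
    (G X : Over (Spec (CommRingCat.of k))) [GrpObj G] (a : AlgGrp.Action G X)
    [IsIntegral G.left] [IsSeparated G.hom] [LocallyOfFiniteType G.hom] [QuasiCompact G.hom]
    [IsIntegral X.left] [IsSeparated X.hom] [LocallyOfFiniteType X.hom] [QuasiCompact X.hom]
    (htrans : ∀ x x' : 𝟙_ (Over (Spec (CommRingCat.of k))) ⟶ X,
      ∃ σ : 𝟙_ (Over (Spec (CommRingCat.of k))) ⟶ G, CartesianMonoidalCategory.lift σ x ≫ a.act = x')
    (Y₁ Y₂ : Set ↥X.left) (h₁c : IsClosed Y₁) (h₁i : IsIrreducible Y₁) (h₂c : IsClosed Y₂) (h₂i : IsIrreducible Y₂)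
    (n r s : ℕ) (hn : topologicalKrullDim ↥X.left = n) (hr : topologicalKrullDim ↥Y₁ = r)
    (hs : topologicalKrullDim ↥Y₂ = s) :
    ∃ V : G.left.Opens, (V : Set ↥G.left).Nonempty ∧
      ∀ σ : 𝟙_ (Over (Spec (CommRingCat.of k))) ⟶ G, Set.range ⇑σ.left.base ⊆ (V : Set ↥G.left) →
        ⇑(CartesianMonoidalCategory.lift (CartesianMonoidalCategory.toUnit X ≫ σ) (𝟙 X) ≫ a.act).left.base '' Y₁ ∩ Y₂ = ∅ ∨
        (n ≤ r + s ∧ ∀ C ∈ irreducibleComponents
            ↥(⇑(CartesianMonoidalCategory.lift (CartesianMonoidalCategory.toUnit X ≫ σ) (𝟙 X) ≫ a.act).left.base '' Y₁ ∩ Y₂),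
          topologicalKrullDim ↥C = ((r + s - n : ℕ) : WithBot ℕ∞)) := by
  classical
  -- reduced closed subschemes on `Y₁`, `Y₂`
  obtain ⟨Z₁, i₁, hi₁c, hred₁, hr₁, -⟩ := GrpComp.exists_reduced_closedSubscheme Y₁ h₁c
  obtain ⟨Z₂, i₂, hi₂c, hred₂, hr₂, -⟩ := GrpComp.exists_reduced_closedSubscheme Y₂ h₂c
  haveI hirr₁ : IrreducibleSpace ↥Z₁ := GrpComp.irreducibleSpace_of_range i₁ (hr₁ ▸ h₁i)
  haveI hirr₂ : IrreducibleSpace ↥Z₂ := GrpComp.irreducibleSpace_of_range i₂ (hr₂ ▸ h₂i)
  have hdim₁ : topologicalKrullDim ↥Z₁ = r := by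
    rw [← hr]
    exact IsHomeomorph.topologicalKrullDim_eq _
      ((i₁.isEmbedding.toHomeomorph).trans (Homeomorph.setCongr hr₁)).isHomeomorph
  have hdim₂ : topologicalKrullDim ↥Z₂ = s := by
    rw [← hs]
    exact IsHomeomorph.topologicalKrullDim_eq _
      ((i₂.isEmbedding.toHomeomorph).trans (Homeomorph.setCongr hr₂)).isHomeomorph
  let Yo : Over (Spec (CommRingCat.of k)) := Over.mk (i₁ ≫ X.hom)
  let fo : Yo ⟶ X := Over.homMk i₁
  haveI hYl : LocallyOfFiniteType Yo.hom := inferInstanceAs (LocallyOfFiniteType (i₁ ≫ X.hom))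
  haveI hYq : QuasiCompact Yo.hom := inferInstanceAs (QuasiCompact (i₁ ≫ X.hom))
  haveI hZ2l : LocallyOfFiniteType (i₂ ≫ X.hom) := inferInstance
  haveI hHf : Flat (actMap a fo).left := flat_actMap G X a htrans Yo fo
  have hGYl : LocallyOfFiniteType (G ⊗ Yo).hom := locallyOfFiniteType_tensor_hom G Yo
  have hGYq : QuasiCompact (G ⊗ Yo).hom := quasiCompact_tensor_hom G Yo
  have hHw : (actMap a fo).left ≫ X.hom = (G ⊗ Yo).hom := Over.w _
  -- the total space `W = (G × Y₁) ×_X Y₂` and its projection to `G`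
  let qW : pullback (actMap a fo).left i₂ ⟶ Spec (CommRingCat.of k) :=
    pullback.snd (actMap a fo).left i₂ ≫ i₂ ≫ X.hom
  have hqW' : pullback.fst (actMap a fo).left i₂ ≫ (G ⊗ Yo).hom = qW := by
    rw [← hHw, pullback.condition_assoc]
  have hqWl : LocallyOfFiniteType qW := by rw [← hqW']; infer_instance
  have hqWq : QuasiCompact qW := by rw [← hqW']; infer_instance
  let q : pullback (actMap a fo).left i₂ ⟶ G.left :=
    pullback.fst (actMap a fo).left i₂ ≫ (fst G Yo).left
  have hq : q ≫ G.hom = qW := by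
    rw [← hqW', Category.assoc, Over.w (fst G Yo)]
  have hqlft : LocallyOfFiniteType q := by
    have : LocallyOfFiniteType (q ≫ G.hom) := by rw [hq]; infer_instance
    exact locallyOfFiniteType_of_comp q G.hom
  have hqqc : QuasiCompact q := FibDim.quasiCompact_of_ft qW G.hom q
  obtain ⟨Vo, hVd, hVf, -⟩ := Groth.Agent.Lib.Helper55.GR.generic_flatness_reduced q
  refine ⟨Vo, hVd.nonempty, ?_⟩
  intro σ hσ
  set T : Set ↥X.left := ⇑(CartesianMonoidalCategory.lift (CartesianMonoidalCategory.toUnit X ≫ σ) (𝟙 X) ≫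
    a.act).left.base '' Y₁ ∩ Y₂ with hT
  rcases Set.eq_empty_or_nonempty T with hemp | hnon
  · exact Or.inl hemp
  refine Or.inr ?_
  -- the translated inclusion
  have hfσ : i₁ ≫ (actTr a σ).left = (slice Yo σ).left ≫ (actMap a fo).left := by
    have : fo ≫ actTr a σ = slice Yo σ ≫ actMap a fo := by
      rw [slice_actMap, comp_actTr]
    exact congrArg CommaMorphism.left this
  have sq := isPullback_fibre (actMap a fo).left i₂ (fst G Yo).left (slice Yo σ).left Yo.hom σ.left
    (isPullback_slice_left σ) (i₁ ≫ (actTr a σ).left) hfσ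
  obtain ⟨ι', σ', sq'⟩ := exists_isPullback_restrict q _ _ σ.left sq Vo hσ
  -- `P` is homeomorphic to `T`
  have hrange : Set.range (pullback.fst (i₁ ≫ (actTr a σ).left) i₂ ≫ i₁ ≫ (actTr a σ).left) = T := by
    rw [Scheme.Hom.comp_base, TopCat.coe_comp, Set.range_comp, Scheme.Pullback.range_fst,
      Set.image_preimage_eq_inter_range, hr₂, Scheme.Hom.comp_base, TopCat.coe_comp, Set.range_comp,
      hr₁, Set.inter_comm]
    rfl
  let eP : ↥(pullback (i₁ ≫ (actTr a σ).left) i₂) ≃ₜ ↥T :=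
    ((pullback.fst (i₁ ≫ (actTr a σ).left) i₂ ≫ i₁ ≫ (actTr a σ).left).isEmbedding.toHomeomorph).trans
      (Homeomorph.setCongr hrange)
  haveI hTne : Nonempty ↥T := hnon.to_subtype
  haveI hPne : Nonempty ↥(pullback (i₁ ≫ (actTr a σ).left) i₂) := ⟨eP.symm hTne.some⟩
  obtain ⟨p₀⟩ := hPne
  haveI hPne : Nonempty ↥(pullback (i₁ ≫ (actTr a σ).left) i₂) := ⟨p₀⟩
  haveI hVne : Nonempty ↥(Vo : Scheme.{u}) := ⟨σ' (IsLocalRing.closedPoint k)⟩
  haveI hVint : IsIntegral (Vo : Scheme.{u}) := isIntegral_of_isOpenImmersion Vo.ι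
  haveI hWVne : Nonempty ↥((q ⁻¹ᵁ Vo : (pullback (actMap a fo).left i₂).Opens) : Scheme.{u}) :=
    ⟨ι' p₀⟩
  haveI hWne : Nonempty ↥(pullback (actMap a fo).left i₂) := ⟨(q ⁻¹ᵁ Vo).ι (ι' p₀)⟩
  haveI hGYne : Nonempty ↥(G ⊗ Yo).left :=
    ⟨pullback.fst (actMap a fo).left i₂ ((q ⁻¹ᵁ Vo).ι (ι' p₀))⟩
  -- dimension of `G`
  obtain ⟨dG, hdG, -⟩ := Groth.Agent.Lib.Helper22.FlatDim.exists_dim_irreducibleComponents_of_irreducible G.hom
  have hGeq : Equidim ↥G.left (dG : WithBot ℕ∞) := by
    rw [← hdG]; exact equidim_of_irreducible _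
  -- `G × Y₁`
  haveI : IrreducibleSpace ↥Yo.left := inferInstanceAs (IrreducibleSpace ↥Z₁)
  obtain ⟨e₁, d₁, h11, h12, h13⟩ := equidim_pullback G.hom (𝟙 (Spec (CommRingCat.of k))) Yo.hom
    G.hom (Category.comp_id _) dG hGeq Yo.hom
  rw [topologicalKrullDim_spec_field] at h11
  have hd₁ : d₁ = 0 := by exact_mod_cast h11.symm
  have hE1 : Equidim ↥(G ⊗ Yo).left ((r + dG : ℕ) : WithBot ℕ∞) := by
    have : topologicalKrullDim ↥Yo.left + (e₁ : WithBot ℕ∞) = ((r + dG : ℕ) : WithBot ℕ∞) := by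
      have : e₁ = dG := by omega
      rw [this]
      change topologicalKrullDim ↥Z₁ + _ = _
      rw [hdim₁]
      push_cast; rfl
    rw [← this]
    exact h13
  -- `W`
  obtain ⟨m, dX, h21, h22, h23⟩ := equidim_pullback (G ⊗ Yo).hom X.hom (i₂ ≫ X.hom)
    (actMap a fo).left hHw (r + dG) hE1 i₂
  have hdX : dX = n := by
    rw [hn] at h21; exact_mod_cast h21.symm
  have hE2 : Equidim ↥(pullback (actMap a fo).left i₂) ((s + m : ℕ) : WithBot ℕ∞) := by
    have : topologicalKrullDim ↥Z₂ + (m : WithBot ℕ∞) = ((s + m : ℕ) : WithBot ℕ∞) := by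
      rw [hdim₂]; push_cast; rfl
    rw [← this]
    exact h23
  -- restriction over `V`
  have hE2V := equidim_opens qW _ hE2 (q ⁻¹ᵁ Vo)
  have hdV : topologicalKrullDim ↥(Vo : Scheme.{u}) = (dG : WithBot ℕ∞) :=
    dim_eq_of_equidim (Vo.ι ≫ G.hom) _ (equidim_opens G.hom _ hGeq Vo)
  have hφ : (q ∣_ Vo) ≫ Vo.ι ≫ G.hom = (q ⁻¹ᵁ Vo).ι ≫ qW := by
    rw [morphismRestrict_ι_assoc, hq]
  obtain ⟨e, dV, h31, h32, h33⟩ := equidim_pullback ((q ⁻¹ᵁ Vo).ι ≫ qW) (Vo.ι ≫ G.hom)
    (𝟙 (Spec (CommRingCat.of k))) (q ∣_ Vo) hφ (s + m) hE2V σ'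
  have hdV' : dV = dG := by
    rw [hdV] at h31; exact_mod_cast h31.symm
  rw [topologicalKrullDim_spec_field, zero_add] at h33
  -- transfer to `T`
  have hEP : Equidim ↥(pullback (i₁ ≫ (actTr a σ).left) i₂) (e : WithBot ℕ∞) :=
    equidim_of_homeomorph (Scheme.homeoOfIso sq'.isoPullback).symm _ h33
  have hET : Equidim ↥T (e : WithBot ℕ∞) := equidim_of_homeomorph eP _ hEP
  have hnum : n + e = r + s := by omega
  refine ⟨by omega, fun C hC => ?_⟩
  rw [hET C hC]
  have : e = r + s - n := by omega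
  rw [this]

end Groth.Agent.S15241
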