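import Groth.Statements.S15247
import Groth.Agent.Lib.Helper83.HilbLower

set_option autoImplicit false
open Fano

namespace Groth.Agent.S15247

/-- Over ℂ, let Y be an irreducible closed subscheme of projective m-space of dimension m − d, where 1 ≤
d and d + 1 ≤ m. Then the hypersurfaces of degree d + 1 containing Y form a linear family of
codimension at least m + 1 (that is, greater than m) in the projective space of all hypersurfaces of
degree d + 1. Here Y is given by a homogeneous ideal I of ℂ[x_0, …, x_m] whose radical is prime and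
with dim ℂ[x_0, …, x_m]/I = m + 1 − d, a hypersurface contains Y when its form lies in I, and the
conclusion reads: the forms of degree d + 1 in I span a subspace of codimension at least m + 1 in
the space of all forms of degree d + 1. -/
theorem result (m d : ℕ) (hd : 1 ≤ d) (hdm : d + 1 ≤ m)
    (I : Ideal (MvPolynomial (Fin (m + 1)) ℂ))
    (hI : I.IsHomogeneous (CohB1.polyGrading m ℂ))
    (hirr : I.radical.IsPrime)
    (hdim : ringKrullDim (MvPolynomial (Fin (m + 1)) ℂ ⧸ I) = ((m + 1 - d : ℕ) : WithBot ℕ∞)) :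
    m + 1 + Module.finrank ℂ ↥(CohB1.polyGrading m ℂ (d + 1) ⊓ Submodule.restrictScalars ℂ I)
      ≤ Module.finrank ℂ (LefPen.Form m ℂ (d + 1)) := by
  classical
  set P := I.radical with hP
  set r := m + 1 - d with hr
  have hdimP : ringKrullDim (MvPolynomial (Fin (m + 1)) ℂ ⧸ P) = (r : WithBot ℕ∞) := by
    rw [ringKrullDim_quotient, hP, PrimeSpectrum.zeroLocus_radical, ← ringKrullDim_quotient, hdim]
  have : IsDomain (MvPolynomial (Fin (m + 1)) ℂ ⧸ P) := Ideal.Quotient.isDomain P
  have : Algebra.FiniteType ℂ (MvPolynomial (Fin (m + 1)) ℂ ⧸ P) :=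
    Algebra.FiniteType.of_surjective (Ideal.Quotient.mkₐ ℂ P) (Ideal.Quotient.mkₐ_surjective ℂ P)
  have hadj : Algebra.adjoin ℂ
      (Set.range fun i : Fin (m + 1) => Ideal.Quotient.mkₐ ℂ P (MvPolynomial.X i)) = ⊤ := by
    have h1 : (Set.range fun i : Fin (m + 1) => Ideal.Quotient.mkₐ ℂ P (MvPolynomial.X i)) =
        (Ideal.Quotient.mkₐ ℂ P) '' Set.range MvPolynomial.X := by
      rw [← Set.range_comp]; rfl
    rw [h1, ← AlgHom.map_adjoin, MvPolynomial.adjoin_range_X, Algebra.map_top,
      AlgHom.range_eq_top]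
    exact Ideal.Quotient.mkₐ_surjective ℂ P
  obtain ⟨τ, hτ, hind⟩ := Groth.Agent.Lib.Helper83.HilbLower.exists_algebraicIndependent_subfamily _ hadj r hdimP
  set H := CohB1.polyGrading m ℂ (d + 1) with hH
  have hHfin : Module.Finite ℂ H :=
    Module.Finite.iff_fg.mpr (MvPolynomial.homogeneousSubmodule_fg (Fin (m + 1)) ℂ (d + 1))
  let q : H →ₗ[ℂ] (MvPolynomial (Fin (m + 1)) ℂ ⧸ P) :=
    (Ideal.Quotient.mkₐ ℂ P).toLinearMap ∘ₗ H.subtype
  have hW : Module.finrank ℂ ↥(H ⊓ Submodule.restrictScalars ℂ I) ≤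
      Module.finrank ℂ (LinearMap.ker q) := by
    let j : ↥(H ⊓ Submodule.restrictScalars ℂ I) →ₗ[ℂ] LinearMap.ker q :=
      LinearMap.codRestrict _
        (LinearMap.codRestrict H (Submodule.subtype _) (fun x => x.2.1)) (by
        intro x
        rw [LinearMap.mem_ker]
        show Ideal.Quotient.mk P x.1 = 0
        rw [Ideal.Quotient.eq_zero_iff_mem]
        exact Ideal.le_radical x.2.2)
    apply LinearMap.finrank_le_finrank_of_injective (f := j)
    intro x y hxy
    apply Subtype.ext
    have := congrArg (fun z : LinearMap.ker q => (z.1.1 : MvPolynomial (Fin (m + 1)) ℂ)) hxy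
    exact this
  have hR : m + 1 ≤ Module.finrank ℂ (LinearMap.range q) := by
    let ρ₀ : MvPolynomial.homogeneousSubmodule (Fin r) ℂ (d + 1) →ₗ[ℂ] H :=
      LinearMap.codRestrict H ((MvPolynomial.rename τ).toLinearMap ∘ₗ Submodule.subtype _) (fun x => by
        show MvPolynomial.rename τ x.1 ∈ MvPolynomial.homogeneousSubmodule (Fin (m + 1)) ℂ (d + 1)
        rw [MvPolynomial.mem_homogeneousSubmodule]
        exact MvPolynomial.IsHomogeneous.rename_isHomogeneous ((MvPolynomial.mem_homogeneousSubmodule _ _).mp x.2))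
    have hq : ∀ x, q (ρ₀ x) = MvPolynomial.aeval (fun j => Ideal.Quotient.mkₐ ℂ P (MvPolynomial.X (τ j))) x.1 := by
      intro x
      show Ideal.Quotient.mkₐ ℂ P (MvPolynomial.rename τ x.1) = _
      rw [← AlgHom.comp_apply]
      congr 1
      ext i
      simp
    let ρ : MvPolynomial.homogeneousSubmodule (Fin r) ℂ (d + 1) →ₗ[ℂ] LinearMap.range q :=
      LinearMap.codRestrict (LinearMap.range q) (q ∘ₗ ρ₀) (fun x => ⟨ρ₀ x, rfl⟩)
    have hρ : Function.Injective ρ := by
      intro x y hxy
      have h1 : q (ρ₀ x) = q (ρ₀ y) := congrArg Subtype.val hxy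
      rw [hq, hq] at h1
      exact Subtype.ext (hind h1)
    have h2 := LinearMap.finrank_le_finrank_of_injective hρ
    rw [Groth.Agent.Lib.Helper84.finrank_homogeneousSubmodule, Fintype.card_fin] at h2
    have h3 : r + (d + 1) - 1 = m + 1 := by omega
    rw [h3] at h2
    exact (Groth.Agent.Lib.Helper83.HilbLower.le_choose (m + 1) (d + 1) (by omega) (by omega)).trans h2
  have h4 := LinearMap.finrank_range_add_finrank_ker q
  show m + 1 + Module.finrank ℂ ↥(H ⊓ Submodule.restrictScalars ℂ I) ≤ Module.finrank ℂ H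
  omega

end Groth.Agent.S15247
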