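import Groth.Statements.S15252
import Groth.Agent.Lib.Helper95.CL4
-- import your own Groth.Agent.* helpers here

set_option autoImplicit false
open Fano

namespace Groth.Agent.S15252

theorem exists_second (L : Submodule ℂ (Fin 5 → ℂ)) (hL : Module.finrank ℂ ↥L = 2)
    (p : Fin 5 → ℂ) (hp : p ∈ L) (hp0 : p ≠ 0) :
    ∃ q ∈ L, q ∉ Submodule.span ℂ {p} ∧ ∀ u ∈ L, ∃ x y : ℂ, u = x • p + y • q := by
  have hlt : Submodule.span ℂ {p} < L := by
    refine lt_of_le_of_ne ((Submodule.span_singleton_le_iff_mem _ _).mpr hp) ?_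
    intro h
    have h1 : Module.finrank ℂ ↥(Submodule.span ℂ {p}) = 1 := finrank_span_singleton hp0
    rw [h, hL] at h1
    omega
  obtain ⟨q, hqL, hq⟩ := SetLike.exists_of_lt hlt
  refine ⟨q, hqL, hq, ?_⟩
  have hli : LinearIndependent ℂ ![p, q] := by
    rw [LinearIndependent.pair_iff' hp0]
    intro a ha
    exact hq (Submodule.mem_span_singleton.mpr ⟨a, ha⟩)
  have hle : Submodule.span ℂ (Set.range ![p, q]) ≤ L := by
    rw [Submodule.span_le]
    rintro _ ⟨i, rfl⟩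
    fin_cases i
    · exact hp
    · exact hqL
  have hfr : Module.finrank ℂ ↥(Submodule.span ℂ (Set.range ![p, q])) = 2 := by
    rw [finrank_span_eq_card hli]; simp
  have heq : Submodule.span ℂ (Set.range ![p, q]) = L :=
    Submodule.eq_of_le_of_finrank_eq hle (by rw [hfr, hL])
  intro u hu
  rw [← heq, Submodule.mem_span_range_iff_exists_fun] at hu
  obtain ⟨c, rfl⟩ := hu
  exact ⟨c 0, c 1, by simp [Fin.sum_univ_two]⟩

/-- Let X be a smooth cubic hypersurface in projective 4-space over ℂ and let L₁, L₂ be two distinct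
lines on X which meet. Then there is a finite set G of points of L₁ such that every line on X
meeting both L₁ and L₂ passes through a point of G. Here X is given by a cubic form f in five
variables satisfying the Jacobian smoothness condition at every nonzero zero, a line on X is a
2-dimensional subspace of ℂ^5 on which f vanishes, two lines meet when the subspaces intersect
non-trivially, and a point of L₁ is a 1-dimensional subspace of it. (The published statement also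
covers two disjoint lines; this row assumes that L₁ and L₂ meet.) -/
theorem result
    (f : MvPolynomial (Fin 5) ℂ) (hf : f.IsHomogeneous 3)
    (hsm : ∀ u : Fin 5 → ℂ, u ≠ 0 → MvPolynomial.eval u f = 0 →
      ∃ i : Fin 5, MvPolynomial.eval u (MvPolynomial.pderiv i f) ≠ 0)
    (L₁ L₂ : Submodule ℂ (Fin 5 → ℂ)) (h₁ : Module.finrank ℂ ↥L₁ = 2) (h₂ : Module.finrank ℂ ↥L₂ = 2)
    (hf₁ : ∀ u ∈ L₁, MvPolynomial.eval u f = 0) (hf₂ : ∀ u ∈ L₂, MvPolynomial.eval u f = 0)
    (hne : L₁ ≠ L₂) (hmeet : L₁ ⊓ L₂ ≠ ⊥) :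
    ∃ G : Set (Submodule ℂ (Fin 5 → ℂ)), G.Finite ∧ (∀ g ∈ G, Module.finrank ℂ ↥g = 1 ∧ g ≤ L₁) ∧
      ∀ L : Submodule ℂ (Fin 5 → ℂ), Module.finrank ℂ ↥L = 2 → (∀ u ∈ L, MvPolynomial.eval u f = 0) →
        L ⊓ L₁ ≠ ⊥ → L ⊓ L₂ ≠ ⊥ → ∃ g ∈ G, g ≤ L := by
  classical
  obtain ⟨p, hp, hp0⟩ := Submodule.exists_mem_ne_zero_of_ne_bot hmeet
  have hp1 : p ∈ L₁ := (Submodule.mem_inf.mp hp).1
  have hp2 : p ∈ L₂ := (Submodule.mem_inf.mp hp).2
  obtain ⟨q₁, hq₁L, hq₁, hs₁⟩ := exists_second L₁ h₁ p hp1 hp0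
  obtain ⟨q₂, hq₂L, hq₂, hs₂⟩ := exists_second L₂ h₂ p hp2 hp0
  have hq₂1 : q₂ ∉ L₁ := by
    intro hmem
    apply hne
    symm
    apply Submodule.eq_of_le_of_finrank_eq
    · intro u hu
      obtain ⟨x, y, rfl⟩ := hs₂ u hu
      exact L₁.add_mem (L₁.smul_mem _ hp1) (L₁.smul_mem _ hmem)
    · rw [h₁, h₂]
  have hli2 : LinearIndependent ℂ ![p, q₁] := by
    rw [LinearIndependent.pair_iff' hp0]
    intro a ha
    exact hq₁ (Submodule.mem_span_singleton.mpr ⟨a, ha⟩)
  have hli : LinearIndependent ℂ ![q₂, p, q₁] := by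
    refine linearIndependent_finCons.mpr ⟨hli2, ?_⟩
    intro hmem
    apply hq₂1
    have hle : Submodule.span ℂ (Set.range ![p, q₁]) ≤ L₁ := by
      rw [Submodule.span_le]
      rintro _ ⟨i, rfl⟩
      fin_cases i
      · exact hp1
      · exact hq₁L
    exact hle hmem
  obtain ⟨c, hc⟩ := Groth.Agent.Lib.Helper95.CL1.factA f hf p q₁ q₂
    (fun x y => hf₁ _ (L₁.add_mem (L₁.smul_mem _ hp1) (L₁.smul_mem _ hq₁L)))
    (fun x z => hf₂ _ (L₂.add_mem (L₂.smul_mem _ hp2) (L₂.smul_mem _ hq₂L)))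
  set w : Fin 5 → ℂ := c 1 • p - c 0 • q₁ with hw
  have hwL : w ∈ L₁ := L₁.sub_mem (L₁.smul_mem _ hp1) (L₁.smul_mem _ hq₁L)
  refine ⟨{g | g = Submodule.span ℂ {p} ∨ (g = Submodule.span ℂ {w} ∧ w ≠ 0)}, ?_, ?_, ?_⟩
  · apply Set.Finite.subset (Set.toFinite {Submodule.span ℂ {p}, Submodule.span ℂ {w}})
    rintro g (rfl | ⟨rfl, _⟩)
    · simp
    · simp
  · rintro g (rfl | ⟨rfl, hw0⟩)
    · exact ⟨finrank_span_singleton hp0, (Submodule.span_singleton_le_iff_mem _ _).mpr hp1⟩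
    · exact ⟨finrank_span_singleton hw0, (Submodule.span_singleton_le_iff_mem _ _).mpr hwL⟩
  · intro L hL hfL hm1 hm2
    obtain ⟨u₁, hu₁, hu₁0⟩ := Submodule.exists_mem_ne_zero_of_ne_bot hm1
    obtain ⟨u₂, hu₂, hu₂0⟩ := Submodule.exists_mem_ne_zero_of_ne_bot hm2
    have hu₁L : u₁ ∈ L := (Submodule.mem_inf.mp hu₁).1
    have hu₂L : u₂ ∈ L := (Submodule.mem_inf.mp hu₂).1
    obtain ⟨x₁, y₁, e₁⟩ := hs₁ u₁ (Submodule.mem_inf.mp hu₁).2
    obtain ⟨x₂, z₂, e₂⟩ := hs₂ u₂ (Submodule.mem_inf.mp hu₂).2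
    have pcase : p ∈ L → ∃ g ∈ {g | g = Submodule.span ℂ {p} ∨
        (g = Submodule.span ℂ {w} ∧ w ≠ 0)}, g ≤ L := fun hpL =>
      ⟨Submodule.span ℂ {p}, Or.inl rfl, (Submodule.span_singleton_le_iff_mem _ _).mpr hpL⟩
    by_cases hy : y₁ = 0
    · apply pcase
      rw [hy, zero_smul, add_zero] at e₁
      have hx : x₁ ≠ 0 := by
        rintro rfl
        rw [zero_smul] at e₁
        exact hu₁0 e₁
      have := L.smul_mem x₁⁻¹ hu₁L
      rwa [e₁, inv_smul_smul₀ hx] at this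
    by_cases hz : z₂ = 0
    · apply pcase
      rw [hz, zero_smul, add_zero] at e₂
      have hx : x₂ ≠ 0 := by
        rintro rfl
        rw [zero_smul] at e₂
        exact hu₂0 e₂
      have := L.smul_mem x₂⁻¹ hu₂L
      rwa [e₂, inv_smul_smul₀ hx] at this
    have key : ∀ s t : ℂ, s * y₁ * (t * z₂) *
        (c 0 * (s * x₁ + t * x₂) + c 1 * (s * y₁) + c 2 * (t * z₂)) = 0 := by
      intro s t
      rw [← hc]
      have : (s * x₁ + t * x₂) • p + (s * y₁) • q₁ + (t * z₂) • q₂ = s • u₁ + t • u₂ := by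
        rw [e₁, e₂]; module
      rw [this]
      exact hfL _ (L.add_mem (L.smul_mem _ hu₁L) (L.smul_mem _ hu₂L))
    have k11 := key 1 1
    have k21 := key 2 1
    have hyz : y₁ * z₂ ≠ 0 := mul_ne_zero hy hz
    have l11 : c 0 * (x₁ + x₂) + c 1 * y₁ + c 2 * z₂ = 0 := by
      have : y₁ * z₂ * (c 0 * (x₁ + x₂) + c 1 * y₁ + c 2 * z₂) = 0 := by
        rw [← k11]; ring
      exact (mul_eq_zero.mp this).resolve_left hyz
    have l21 : c 0 * (2 * x₁ + x₂) + c 1 * (2 * y₁) + c 2 * z₂ = 0 := by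
      have : (2 * (y₁ * z₂)) * (c 0 * (2 * x₁ + x₂) + c 1 * (2 * y₁) + c 2 * z₂) = 0 := by
        rw [← k21]; ring
      exact (mul_eq_zero.mp this).resolve_left (mul_ne_zero two_ne_zero hyz)
    have l1 : c 0 * x₁ + c 1 * y₁ = 0 := by linear_combination l21 - l11
    have l2 : c 0 * x₂ + c 2 * z₂ = 0 := by linear_combination 2 * l11 - l21
    by_cases hc0 : c 0 = 0
    · exfalso
      have hc1 : c 1 = 0 := by
        rw [hc0, zero_mul, zero_add] at l1
        exact (mul_eq_zero.mp l1).resolve_right hy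
      have hc2 : c 2 = 0 := by
        rw [hc0, zero_mul, zero_add] at l2
        exact (mul_eq_zero.mp l2).resolve_right hz
      apply Groth.Agent.Lib.Helper95.CL4.no_plane f hf hsm q₂ p q₁ hli
      intro x y z
      have := hc y z x
      rw [hc0, hc1, hc2] at this
      have e : x • q₂ + y • p + z • q₁ = y • p + z • q₁ + x • q₂ := by module
      rw [e, this]; ring
    · have hwu : w = (-(c 0 / y₁)) • u₁ := by
        rw [hw, e₁]
        have hx₁ : x₁ = -(c 1 * y₁) / c 0 := by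
          field_simp
          linear_combination l1
        rw [hx₁]
        ext i
        simp only [Pi.sub_apply, Pi.smul_apply, Pi.add_apply, smul_eq_mul]
        field_simp
        ring
      have hwL' : w ∈ L := by rw [hwu]; exact L.smul_mem _ hu₁L
      have hw0 : w ≠ 0 := by
        rw [hwu]
        exact smul_ne_zero (neg_ne_zero.mpr (div_ne_zero hc0 hy)) hu₁0
      exact ⟨Submodule.span ℂ {w}, Or.inr ⟨rfl, hw0⟩,
        (Submodule.span_singleton_le_iff_mem _ _).mpr hwL'⟩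

end Groth.Agent.S15252
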