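import Groth.Statements.S15259
import Mathlib
import Groth.Agent.Lib.Helper7.EssFTCover

set_option autoImplicit false
set_option linter.style.haveILetI false
universe u
open CategoryTheory CategoryTheory.Limits AlgebraicGeometry TopologicalSpace
open W4c2seshadripos

namespace Groth.Agent.S15259

open CategoryTheory.Limits TopologicalSpace Opposite


/-- Call f : X → Y locally essentially of finite type when Y has a cover by affine opens U = Spec A such
that each f⁻¹(U) has a cover by affine opens Spec B with A → B essentially of finite type (a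
localization of a finite-type A-algebra; Mathlib's RingHom.EssFiniteType), and essentially of finite
type when moreover f is quasi-compact. Then f is essentially of finite type exactly when every
affine open U = Spec A of Y has f⁻¹(U) covered by finitely many affine opens V = Spec B of X with A
→ B essentially of finite type. -/
theorem result {X Y : Scheme.{u}} (f : X ⟶ Y) :
    ((∃ S : Set Y.affineOpens, (⋃ U ∈ S, ((U : Y.Opens) : Set ↥Y)) = Set.univ ∧
      ∀ U ∈ S, ∃ T : Set X.affineOpens, (⋃ V ∈ T, ((V : X.Opens) : Set ↥X)) = ((f ⁻¹ᵁ (U : Y.Opens)) : Set ↥X) ∧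
        ∀ V ∈ T, ∃ e : (V : X.Opens) ≤ f ⁻¹ᵁ (U : Y.Opens), (f.appLE (U : Y.Opens) (V : X.Opens) e).hom.EssFiniteType) ∧ QuasiCompact f) ↔
    ∀ U : Y.affineOpens, ∃ T : Set X.affineOpens, T.Finite ∧ (⋃ V ∈ T, ((V : X.Opens) : Set ↥X)) = ((f ⁻¹ᵁ (U : Y.Opens)) : Set ↥X) ∧
        ∀ V ∈ T, ∃ e : (V : X.Opens) ≤ f ⁻¹ᵁ (U : Y.Opens), (f.appLE (U : Y.Opens) (V : X.Opens) e).hom.EssFiniteType := by
  constructor
  · rintro ⟨h, hqc⟩ U
    haveI := Groth.Agent.Lib.Helper7.EssFTCover.locallyEssFiniteType_of_cover f h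
    obtain ⟨T, hT, hTe⟩ := Groth.Agent.Lib.Helper7.EssFTCover.exists_cover f U
    have hc : IsCompact ((f ⁻¹ᵁ (U : Y.Opens) : X.Opens) : Set X) :=
      (quasiCompact_iff_forall_isAffineOpen (f := f)).1 hqc U.1 U.2
    obtain ⟨t, ht⟩ := hc.elim_finite_subcover (fun V : T => ((V.1 : X.Opens) : Set X))
      (fun V => (V.1 : X.Opens).isOpen) (by
        intro x hx
        have hx' : x ∈ (⋃ V ∈ T, ((V : X.Opens) : Set ↥X)) := by rw [hT]; exact hx
        obtain ⟨V, hV⟩ := Set.mem_iUnion.1 hx'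
        obtain ⟨hVT, hxV⟩ := Set.mem_iUnion.1 hV
        exact Set.mem_iUnion.2 ⟨⟨V, hVT⟩, hxV⟩)
    refine ⟨(fun V : T => V.1) '' (t : Set T), (t.finite_toSet).image _, ?_, ?_⟩
    · apply Set.Subset.antisymm
      · intro x hx
        obtain ⟨V, hV⟩ := Set.mem_iUnion.1 hx
        obtain ⟨⟨W, -, rfl⟩, hxV⟩ := Set.mem_iUnion.1 hV
        obtain ⟨e, -⟩ := hTe W.1 W.2
        exact e hxV
      · intro x hx
        obtain ⟨W, hW⟩ := Set.mem_iUnion.1 (ht hx)
        obtain ⟨hWt, hxW⟩ := Set.mem_iUnion.1 hW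
        exact Set.mem_iUnion.2 ⟨W.1, Set.mem_iUnion.2 ⟨⟨W, hWt, rfl⟩, hxW⟩⟩
    · rintro V ⟨W, -, rfl⟩
      exact hTe W.1 W.2
  · intro h
    refine ⟨⟨Set.univ, ?_, fun U _ => ?_⟩, ?_⟩
    · apply Set.eq_univ_of_forall
      intro y
      obtain ⟨_, ⟨V, hV : IsAffineOpen V, rfl⟩, hyV, -⟩ :=
        (Y.isBasis_affineOpens).exists_subset_of_mem_open (Set.mem_univ y) isOpen_univ
      exact Set.mem_iUnion.2 ⟨⟨V, hV⟩, Set.mem_iUnion.2 ⟨Set.mem_univ _, hyV⟩⟩
    · obtain ⟨T, -, hT, hTe⟩ := h U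
      exact ⟨T, hT, hTe⟩
    · rw [quasiCompact_iff_forall_isAffineOpen]
      intro U hU
      obtain ⟨T, hfin, hT, -⟩ := h ⟨U, hU⟩
      change IsCompact ((f ⁻¹ᵁ U : X.Opens) : Set X)
      have : ((f ⁻¹ᵁ U : X.Opens) : Set X) = ⋃ V ∈ T, ((V : X.Opens) : Set ↥X) := hT.symm
      rw [this]
      exact hfin.isCompact_biUnion fun V _ => V.2.isCompact

end Groth.Agent.S15259
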