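import Groth.Statements.S1526
import Groth.Agent.Lib.Helper21.ZeroDimCoh

set_option autoImplicit false
universe u
open CategoryTheory CategoryTheory.Limits AlgebraicGeometry
open Variety

namespace Groth.Agent.S1526

/-- On a proper scheme over a field, a coherent module whose support has dimension at most zero has
vanishing cohomology in all positive degrees. -/
theorem result (k : Type u) [Field k] (X : Scheme.{u}) [X.Over (Spec (CommRingCat.of k))] [IsProper (X ↘ (Spec (CommRingCat.of k)))]
    (F : X.Modules) (hF : Coh.IsCoh F) (hsupp : topologicalKrullDim (CohB1.support F) ≤ 0)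
    (i : ℕ) (hi : 1 ≤ i) : Subsingleton (Coh.HH X F i) := by
  obtain ⟨n, rfl⟩ : ∃ n, i = n + 1 := ⟨i - 1, by omega⟩
  haveI : F.IsQuasicoherent := hF.1
  haveI : IsLocallyNoetherian X :=
    LocallyOfFiniteType.isLocallyNoetherian (X ↘ (Spec (CommRingCat.of k)))
  haveI : CompactSpace X :=
    QuasiCompact.compactSpace_of_compactSpace (X ↘ (Spec (CommRingCat.of k)))
  haveI : IsNoetherian X := {}
  obtain ⟨Z, hZc, hZ⟩ := Groth.Agent.Lib.Helper21.ZeroDimCoh.exists_finset_of_dim_le_zero
    (CohB1.support F) (Groth.Agent.Lib.Helper21.Devissage.isClosed_support_of_isCoh hF) hsupp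
  exact Groth.Agent.Lib.Helper21.ZeroDimCoh.subsingleton_HH_of_finite_support F Z hZc hZ n

end Groth.Agent.S1526
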