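import Groth.Statements.S15260

set_option autoImplicit false
universe u
open CategoryTheory CategoryTheory.Limits AlgebraicGeometry TopologicalSpace
open W4c2seshadripos

namespace Groth.Agent.S15260

/-- Say a morphism of schemes h : S → T is locally essentially of finite type when for every affine open
U = Spec A of T the preimage h⁻¹(U) is covered by affine opens V = Spec B of S with A → B
essentially of finite type (a localization of a finite-type A-algebra; this is the every-affine-open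
form of the notion). If f : X → Y and g : Y → Z are locally essentially of finite type then so is f
≫ g. (The published statement also covers the quasi-compact variant, essentially of finite type;
that case follows since quasi-compact morphisms are stable under composition.) -/
theorem result {X Y Z : Scheme.{u}} (f : X ⟶ Y) (g : Y ⟶ Z)
    (hf : ∀ U : Y.affineOpens, ∃ T : Set X.affineOpens, (⋃ V ∈ T, ((V : X.Opens) : Set ↥X)) = ((f ⁻¹ᵁ (U : Y.Opens)) : Set ↥X) ∧
        ∀ V ∈ T, ∃ e : (V : X.Opens) ≤ f ⁻¹ᵁ (U : Y.Opens), (f.appLE (U : Y.Opens) (V : X.Opens) e).hom.EssFiniteType)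
    (hg : ∀ U : Z.affineOpens, ∃ T : Set Y.affineOpens, (⋃ V ∈ T, ((V : Y.Opens) : Set ↥Y)) = ((g ⁻¹ᵁ (U : Z.Opens)) : Set ↥Y) ∧
        ∀ V ∈ T, ∃ e : (V : Y.Opens) ≤ g ⁻¹ᵁ (U : Z.Opens), (g.appLE (U : Z.Opens) (V : Y.Opens) e).hom.EssFiniteType)
    (U : Z.affineOpens) :
    ∃ T : Set X.affineOpens, (⋃ V ∈ T, ((V : X.Opens) : Set ↥X)) = (((f ≫ g) ⁻¹ᵁ (U : Z.Opens)) : Set ↥X) ∧
        ∀ V ∈ T, ∃ e : (V : X.Opens) ≤ (f ≫ g) ⁻¹ᵁ (U : Z.Opens), ((f ≫ g).appLE (U : Z.Opens) (V : X.Opens) e).hom.EssFiniteType := by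
  obtain ⟨TU, hTU1, hTU2⟩ := hg U
  choose Tf hTf1 hTf2 using hf
  refine ⟨⋃ V ∈ TU, Tf V, ?_, ?_⟩
  · apply Set.Subset.antisymm
    · intro x hx
      simp only [Set.mem_iUnion, exists_prop] at hx
      obtain ⟨W, ⟨V, hV, hW⟩, hxW⟩ := hx
      obtain ⟨e2, -⟩ := hTf2 V W hW
      obtain ⟨e1, -⟩ := hTU2 V hV
      have h1 : f.base x ∈ (V : Y.Opens) := e2 hxW
      have h2 : g.base (f.base x) ∈ (U : Z.Opens) := e1 h1
      simpa using h2
    · intro x hx
      have h2 : g.base (f.base x) ∈ (U : Z.Opens) := by simpa using hx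
      have h3 : f.base x ∈ ((g ⁻¹ᵁ (U : Z.Opens)) : Set ↥Y) := h2
      rw [← hTU1] at h3
      simp only [Set.mem_iUnion, exists_prop] at h3
      obtain ⟨V, hV, hxV⟩ := h3
      have h4 : x ∈ ((f ⁻¹ᵁ (V : Y.Opens)) : Set ↥X) := hxV
      rw [← hTf1 V] at h4
      simp only [Set.mem_iUnion, exists_prop] at h4
      obtain ⟨W, hW, hxW⟩ := h4
      simp only [Set.mem_iUnion, exists_prop]
      exact ⟨W, ⟨V, hV, hW⟩, hxW⟩
  · intro W hW
    simp only [Set.mem_iUnion, exists_prop] at hW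
    obtain ⟨V, hV, hW⟩ := hW
    obtain ⟨e2, h2⟩ := hTf2 V W hW
    obtain ⟨e1, h1⟩ := hTU2 V hV
    refine ⟨e2.trans ((Opens.map f.base).map (homOfLE e1)).le, ?_⟩
    rw [← Scheme.Hom.appLE_comp_appLE f g (U : Z.Opens) (V : Y.Opens) (W : X.Opens) e1 e2,
      CommRingCat.hom_comp]
    exact h1.comp h2

end Groth.Agent.S15260
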