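import Groth.Statements.S15261
import Mathlib
import Groth.Agent.Lib.Helper7.EssFTCover

set_option autoImplicit false
set_option linter.style.haveILetI false
universe u
open CategoryTheory CategoryTheory.Limits AlgebraicGeometry TopologicalSpace
open W4c2seshadripos

namespace Groth.Agent.S15261

open CategoryTheory.Limits TopologicalSpace Opposite


/-- Say a morphism of schemes h : S → T is locally essentially of finite type when for every affine open
U = Spec A of T the preimage h⁻¹(U) is covered by affine opens V = Spec B of S with A → B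
essentially of finite type (the every-affine-open form of the notion). If f : X → Y is locally
essentially of finite type and g : Y' → Y is any morphism of schemes, then the base change X ×_Y Y'
→ Y' is locally essentially of finite type. (The quasi-compact variant, essentially of finite type,
follows since quasi-compactness is stable under base change.) -/
theorem result {X Y Y' : Scheme.{u}} (f : X ⟶ Y) (g : Y' ⟶ Y)
    (hf : ∀ U : Y.affineOpens, ∃ T : Set X.affineOpens, (⋃ V ∈ T, ((V : X.Opens) : Set ↥X)) = ((f ⁻¹ᵁ (U : Y.Opens)) : Set ↥X) ∧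
        ∀ V ∈ T, ∃ e : (V : X.Opens) ≤ f ⁻¹ᵁ (U : Y.Opens), (f.appLE (U : Y.Opens) (V : X.Opens) e).hom.EssFiniteType)
    (U : Y'.affineOpens) :
    ∃ T : Set (pullback f g).affineOpens, (⋃ V ∈ T, ((V : (pullback f g).Opens) : Set ↥(pullback f g))) = (((pullback.snd f g) ⁻¹ᵁ (U : Y'.Opens)) : Set ↥(pullback f g)) ∧
        ∀ V ∈ T, ∃ e : (V : (pullback f g).Opens) ≤ (pullback.snd f g) ⁻¹ᵁ (U : Y'.Opens), ((pullback.snd f g).appLE (U : Y'.Opens) (V : (pullback f g).Opens) e).hom.EssFiniteType := by
  have h1 : EssFT.LocallyEssFiniteType f := by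
    apply Groth.Agent.Lib.Helper7.EssFTCover.locallyEssFiniteType_of_cover
    refine ⟨Set.univ, ?_, fun U _ => hf U⟩
    apply Set.eq_univ_of_forall
    intro y
    obtain ⟨_, ⟨V, hV : IsAffineOpen V, rfl⟩, hyV, -⟩ :=
      (Y.isBasis_affineOpens).exists_subset_of_mem_open (Set.mem_univ y) isOpen_univ
    exact Set.mem_iUnion.2 ⟨⟨V, hV⟩, Set.mem_iUnion.2 ⟨Set.mem_univ _, hyV⟩⟩
  haveI hstab : MorphismProperty.IsStableUnderBaseChange @EssFT.LocallyEssFiniteType.{u} :=
    HasRingHomProperty.isStableUnderBaseChange
      (RingHom.locally_isStableUnderBaseChange RingHom.EssFiniteType.respectsIso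
        RingHom.EssFiniteType.isStableUnderBaseChange)
  haveI h2 : EssFT.LocallyEssFiniteType (pullback.snd f g) :=
    MorphismProperty.of_isPullback (P := @EssFT.LocallyEssFiniteType.{u})
      (IsPullback.of_hasPullback f g) h1
  exact Groth.Agent.Lib.Helper7.EssFTCover.exists_cover (pullback.snd f g) U

end Groth.Agent.S15261
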