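import Mathlib
import Groth.Statements.S15283
import Groth.Agent.Lib.Helper9.ValComp2

set_option autoImplicit false
universe u
open CAlg

namespace Groth.Agent.S15283

/-- Let L/K be a finite extension of valued fields, v_L extending v_K up to equivalence, such that the
valuation rings K° and L° both have finitely many prime ideals, and let P be a prime ideal of L°
lying over the prime p of K°. Then v_K is composed from the valuation of K with ring the
localization (K°)_p and the valuation of the residue field of (K°)_p with ring K°/p, and similarly
for v_L with (L°)_P and L°/P. If the induced homomorphisms (K°)_p → (L°)_P and K°/p → L°/P are both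
étale, then K° → L° is étale. (For finite extensions of valued fields of finite height, being
unramified is the same as the map of valuation rings being étale, so this is the statement that an
extension composed from two unramified extensions is unramified.) -/
theorem result
    {K L Γ₀ Γ₁ : Type u} [Field K] [Field L] [Algebra K L] [FiniteDimensional K L]
    [LinearOrderedCommGroupWithZero Γ₀] [LinearOrderedCommGroupWithZero Γ₁]
    (vK : Valuation K Γ₀) (vL : Valuation L Γ₁) [vK.HasExtension vL]
    [Finite (PrimeSpectrum vK.valuationSubring)] [Finite (PrimeSpectrum vL.valuationSubring)]
    (P : Ideal vL.valuationSubring) [P.IsPrime]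
    (hA : (Localization.localRingHom (Ideal.comap (algebraMap vK.valuationSubring vL.valuationSubring) P) P
      (algebraMap vK.valuationSubring vL.valuationSubring) rfl).Etale)
    (hB : (Ideal.quotientMap P (algebraMap vK.valuationSubring vL.valuationSubring)
      (le_refl (Ideal.comap (algebraMap vK.valuationSubring vL.valuationSubring) P))).Etale) :
    Algebra.Etale vK.valuationSubring vL.valuationSubring := by
  have hinj : Function.Injective
      (algebraMap vK.valuationSubring vL.valuationSubring) := by
    intro x y h
    have h1 : ((algebraMap vK.valuationSubring vL.valuationSubring x : vL.valuationSubring) : L) =
        ((algebraMap vK.valuationSubring vL.valuationSubring y : vL.valuationSubring) : L) := by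
      rw [h]
    rw [Valuation.HasExtension.coe_algebraMap_valuationSubring_eq,
      Valuation.HasExtension.coe_algebraMap_valuationSubring_eq] at h1
    exact Subtype.ext ((algebraMap K L).injective h1)
  exact Groth.Agent.Lib.Helper9.ValComp.etale_of_atPrime_of_quotient hinj P hA hB

end Groth.Agent.S15283
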