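import Groth.Statements.S15285

set_option autoImplicit false
universe v v' u u'
open PicCat

namespace Groth.Agent.S15285

open CategoryTheory MonoidalCategory

section
variable {C : Type u} [Category.{v} C] [MonoidalCategory C]

def act (X : C) (φ : 𝟙_ C ⟶ 𝟙_ C) : X ⟶ X := (λ_ X).inv ≫ (φ ▷ X) ≫ (λ_ X).hom

theorem act_bijective (X : C) (h : (tensorRight X).IsEquivalence) :
    Function.Bijective (act X) := by
  haveI := h
  constructor
  · intro φ ψ hφψ
    have h1 : φ ▷ X = ψ ▷ X := by
      have := congrArg (fun g => (λ_ X).hom ≫ g ≫ (λ_ X).inv) hφψ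
      simpa [act] using this
    exact (tensorRight X).map_injective h1
  · intro g
    obtain ⟨φ, hφ⟩ := (tensorRight X).map_surjective ((λ_ X).hom ≫ g ≫ (λ_ X).inv)
    refine ⟨φ, ?_⟩
    have hφ' : φ ▷ X = (λ_ X).hom ≫ g ≫ (λ_ X).inv := hφ
    simp [act, hφ']

end

section
variable {C : Type u} [Category.{v} C] [MonoidalCategory C]
variable {D : Type u'} [Category.{v'} D] [MonoidalCategory D]

open Functor.LaxMonoidal in
theorem map_act (F : C ⥤ D) [F.LaxMonoidal] [IsIso (ε F)] (X : C) [IsIso (μ F (𝟙_ C) X)]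
    (φ : 𝟙_ C ⟶ 𝟙_ C) :
    F.map (act X φ) = act (F.obj X) (ε F ≫ F.map φ ≫ inv (ε F)) := by
  rw [← cancel_epi (λ_ (F.obj X)).hom]
  have lhs : (λ_ (F.obj X)).hom ≫ F.map (act X φ) =
      ε F ▷ F.obj X ≫ F.map φ ▷ F.obj X ≫ μ F (𝟙_ C) X ≫ F.map (λ_ X).hom := by
    rw [left_unitality, act, Functor.map_comp, Functor.map_comp, Category.assoc, Category.assoc,
      ← Functor.map_comp_assoc, Iso.hom_inv_id, Functor.map_id, Category.id_comp,
      ← μ_natural_left_assoc]
  have rhs : (λ_ (F.obj X)).hom ≫ act (F.obj X) (ε F ≫ F.map φ ≫ inv (ε F)) =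
      ε F ▷ F.obj X ≫ F.map φ ▷ F.obj X ≫ μ F (𝟙_ C) X ≫ F.map (λ_ X).hom := by
    rw [act, Iso.hom_inv_id_assoc, comp_whiskerRight, comp_whiskerRight, Category.assoc,
      Category.assoc]
    congr 2
    rw [left_unitality, ← comp_whiskerRight_assoc, IsIso.inv_hom_id, id_whiskerRight,
      Category.id_comp]
  rw [lhs, rhs]

end

open CategoryTheory MonoidalCategory in
/-- Let C and D be Picard categories (monoidal groupoids in which tensoring on either side with any
object is an equivalence of categories) and F : C ⥤ D a lax monoidal functor. If F induces a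
bijection on isomorphism classes of objects (it is essentially surjective, and F X ≅ F Y only when X
≅ Y) and a bijection on endomorphisms of the unit object, then F is an equivalence of categories. -/
theorem result
    {C : Type u} [Category.{v} C] [MonoidalCategory C] [IsGroupoid C]
    {D : Type u'} [Category.{v'} D] [MonoidalCategory D] [IsGroupoid D]
    (hC : ∀ X : C, (tensorLeft X).IsEquivalence ∧ (tensorRight X).IsEquivalence)
    (hD : ∀ X : D, (tensorLeft X).IsEquivalence ∧ (tensorRight X).IsEquivalence)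
    (F : C ⥤ D) [F.LaxMonoidal] [F.EssSurj]
    (h0 : ∀ X Y : C, Nonempty (F.obj X ≅ F.obj Y) → Nonempty (X ≅ Y))
    (h1 : Function.Bijective (fun φ : 𝟙_ C ⟶ 𝟙_ C => F.map φ)) :
    F.IsEquivalence := by
  have hε : IsIso (Functor.LaxMonoidal.ε F) := IsGroupoid.all_isIso _
  have hμ : ∀ X : C, IsIso (Functor.LaxMonoidal.μ F (𝟙_ C) X) := fun X => IsGroupoid.all_isIso _
  have hEnd : ∀ X : C, Function.Bijective (fun g : X ⟶ X => F.map g) := by
    intro X
    have hcX := act_bijective X (hC X).2
    have hdX := act_bijective (F.obj X) (hD (F.obj X)).2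
    have hconj : Function.Bijective
        (fun ψ : F.obj (𝟙_ C) ⟶ F.obj (𝟙_ C) =>
          Functor.LaxMonoidal.ε F ≫ ψ ≫ inv (Functor.LaxMonoidal.ε F)) := by
      constructor
      · intro ψ ψ' hψ
        have := congrArg (fun g => inv (Functor.LaxMonoidal.ε F) ≫ g ≫ Functor.LaxMonoidal.ε F) hψ
        simpa using this
      · intro g
        refine ⟨inv (Functor.LaxMonoidal.ε F) ≫ g ≫ Functor.LaxMonoidal.ε F, ?_⟩
        simp
    have hcomp : (fun g : X ⟶ X => F.map g) ∘ act X =
        act (F.obj X) ∘ (fun ψ : F.obj (𝟙_ C) ⟶ F.obj (𝟙_ C) =>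
          Functor.LaxMonoidal.ε F ≫ ψ ≫ inv (Functor.LaxMonoidal.ε F)) ∘
          (fun φ : 𝟙_ C ⟶ 𝟙_ C => F.map φ) := by
      funext φ
      haveI := hμ X
      exact map_act F X φ
    have hbij : Function.Bijective ((fun g : X ⟶ X => F.map g) ∘ act X) := by
      rw [hcomp]
      exact hdX.comp (hconj.comp h1)
    exact (Function.Bijective.of_comp_iff _ hcX).mp hbij
  have hfaithful : F.Faithful := by
    constructor
    intro X Y f g hfg
    have : IsIso g := IsGroupoid.all_isIso _
    have h2 : F.map (f ≫ inv g) = F.map (𝟙 X) := by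
      rw [Functor.map_comp, hfg, ← Functor.map_comp, IsIso.hom_inv_id]
    have h3 := (hEnd X).1 h2
    rw [← cancel_mono (inv g), h3, IsIso.hom_inv_id]
  have hfull : F.Full := by
    constructor
    intro X Y h
    have : IsIso h := IsGroupoid.all_isIso _
    obtain ⟨e⟩ := h0 X Y ⟨asIso h⟩
    obtain ⟨k, hk⟩ := (hEnd X).2 (h ≫ inv (F.map e.hom))
    refine ⟨k ≫ e.hom, ?_⟩
    have hk' : F.map k = h ≫ inv (F.map e.hom) := hk
    rw [Functor.map_comp, hk', Category.assoc, IsIso.inv_hom_id, Category.comp_id]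
  exact { faithful := hfaithful, full := hfull, essSurj := inferInstance }

end Groth.Agent.S15285
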