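import Groth.Statements.S15286

set_option autoImplicit false
universe v v' u u'
open PicCat

namespace Groth.Agent.S15286

open CategoryTheory MonoidalCategory

section
variable {D : Type u'} [Category.{v'} D] [MonoidalCategory D]

def act (Z : D) (ψ : 𝟙_ D ⟶ 𝟙_ D) : Z ⟶ Z := (λ_ Z).inv ≫ (ψ ▷ Z) ≫ (λ_ Z).hom

theorem act_id (Z : D) : act Z (𝟙 _) = 𝟙 Z := by simp [act]

theorem act_comp (Z : D) (ψ ψ' : 𝟙_ D ⟶ 𝟙_ D) : act Z (ψ ≫ ψ') = act Z ψ ≫ act Z ψ' := by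
  simp [act]

theorem act_naturality {Z Z' : D} (f : Z ⟶ Z') (ψ : 𝟙_ D ⟶ 𝟙_ D) :
    act Z ψ ≫ f = f ≫ act Z' ψ := by
  simp only [act, Category.assoc]
  rw [← leftUnitor_naturality, ← whisker_exchange_assoc, leftUnitor_inv_naturality_assoc]

theorem act_bijective (X : D) (h : (tensorRight X).IsEquivalence) :
    Function.Bijective (act X) := by
  haveI := h
  constructor
  · intro φ ψ hφψ
    have h1 : φ ▷ X = ψ ▷ X := by
      have := congrArg (fun g => (λ_ X).hom ≫ g ≫ (λ_ X).inv) hφψ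
      simpa [act] using this
    exact (tensorRight X).map_injective h1
  · intro g
    obtain ⟨φ, hφ⟩ := (tensorRight X).map_surjective ((λ_ X).hom ≫ g ≫ (λ_ X).inv)
    refine ⟨φ, ?_⟩
    have hφ' : φ ▷ X = (λ_ X).hom ≫ g ≫ (λ_ X).inv := hφ
    simp [act, hφ']

theorem act_whiskerRight (Z Z' : D) (ψ : 𝟙_ D ⟶ 𝟙_ D) : act Z ψ ▷ Z' = act (Z ⊗ Z') ψ := by
  simp only [act, comp_whiskerRight, leftUnitor_tensor_hom, leftUnitor_tensor_inv, whiskerRight_tensor,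
    Category.assoc, Iso.hom_inv_id_assoc, Iso.inv_hom_id_assoc]

variable [BraidedCategory D]

theorem act_eq_right (Z : D) (ψ : 𝟙_ D ⟶ 𝟙_ D) :
    act Z ψ = (ρ_ Z).inv ≫ (Z ◁ ψ) ≫ (ρ_ Z).hom := by
  have h := BraidedCategory.braiding_naturality_left ψ Z
  simp only [braiding_tensorUnit_left, Category.assoc] at h
  rw [act, ← cancel_mono (ρ_ Z).inv, ← cancel_epi (λ_ Z).hom]
  simp only [Category.assoc, Iso.hom_inv_id_assoc, Iso.hom_inv_id, Category.comp_id]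
  exact h

theorem whiskerLeft_act (Z Z' : D) (ψ : 𝟙_ D ⟶ 𝟙_ D) : Z ◁ act Z' ψ = act (Z ⊗ Z') ψ := by
  rw [← act_whiskerRight, act_eq_right Z ψ, act]
  simp only [whiskerLeft_comp, comp_whiskerRight, whisker_assoc, Category.assoc]
  rw [← triangle, ← triangle_assoc_comp_right_inv]
  simp

theorem tensorHom_act (Z Z' : D) (ψ ψ' : 𝟙_ D ⟶ 𝟙_ D) :
    act Z ψ ⊗ₘ act Z' ψ' = act (Z ⊗ Z') (ψ ≫ ψ') := by
  rw [tensorHom_def, act_whiskerRight, whiskerLeft_act, ← act_comp]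

theorem tensorHom_act' (Z Z' : D) (ψ ψ' : 𝟙_ D ⟶ 𝟙_ D) :
    act Z ψ ⊗ₘ act Z' ψ' = act (Z ⊗ Z') (ψ' ≫ ψ) := by
  rw [tensorHom_def', act_whiskerRight, whiskerLeft_act, ← act_comp]

end

section main

variable {C : Type u} [Category.{v} C] [MonoidalCategory C] [IsGroupoid C]
    {D : Type u'} [Category.{v'} D] [MonoidalCategory D] [BraidedCategory D] [IsGroupoid D]
    (hD : ∀ X : D, (tensorLeft X).IsEquivalence ∧ (tensorRight X).IsEquivalence)
    (F G : C ⥤ D) [F.LaxMonoidal] [G.LaxMonoidal] (θ₀ : F ⟶ G) [NatTrans.IsMonoidal θ₀]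

open Functor.LaxMonoidal

include hD in
theorem part1 (θ : F ⟶ G) [NatTrans.IsMonoidal θ] :
    ∃! χ : Skeleton C →* End (𝟙_ D), ∀ X : C,
        θ.app X = θ₀.app X ≫ act (G.obj X) (χ (toSkeleton X) : 𝟙_ D ⟶ 𝟙_ D) := by
  have hθ₀ : ∀ X, IsIso (θ₀.app X) := fun X => IsGroupoid.all_isIso _
  have hinj : ∀ Z : D, Function.Injective (act Z) := fun Z => (act_bijective Z (hD Z).2).1
  have hex : ∀ X, ∃ ψ, act (G.obj X) ψ = inv (θ₀.app X) ≫ θ.app X :=
    fun X => (act_bijective _ (hD _).2).2 _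
  choose ψ hψ using hex
  have hψ' : ∀ X, θ₀.app X ≫ act (G.obj X) (ψ X) = θ.app X := by
    intro X
    rw [hψ X, IsIso.hom_inv_id_assoc]
  have hchar : ∀ X (c : 𝟙_ D ⟶ 𝟙_ D), θ₀.app X ≫ act (G.obj X) c = θ.app X → c = ψ X := by
    intro X c hc
    apply hinj (G.obj X)
    rw [← cancel_epi (θ₀.app X), hc, hψ']
  have hiso : ∀ X Y : C, (X ≅ Y) → ψ X = ψ Y := by
    intro X Y e
    apply hchar Y
    have : IsIso (F.map e.hom) := inferInstance
    rw [← cancel_epi (F.map e.hom), θ.naturality, θ₀.naturality_assoc, ← act_naturality,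
      reassoc_of% (hψ' X)]
  have hone : ψ (𝟙_ C) = 𝟙 _ := by
    symm
    apply hchar
    rw [act_id, Category.comp_id]
    have hε : IsIso (ε F) := IsGroupoid.all_isIso _
    rw [← cancel_epi (ε F), NatTrans.IsMonoidal.unit, NatTrans.IsMonoidal.unit]
  have hmul : ∀ X Y : C, ψ (X ⊗ Y) = ψ Y ≫ ψ X := by
    intro X Y
    symm
    apply hchar
    have hμ : IsIso (μ F X Y) := IsGroupoid.all_isIso _
    rw [← cancel_epi (μ F X Y), NatTrans.IsMonoidal.tensor, NatTrans.IsMonoidal.tensor_assoc,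
      ← act_naturality, ← tensorHom_act', tensorHom_comp_tensorHom_assoc, hψ', hψ']
  have hout : ∀ X : C, ψ (toSkeleton X).out = ψ X := by
    intro X
    obtain ⟨e⟩ := Quotient.mk_out (s := isIsomorphicSetoid C) X
    exact hiso _ _ e
  let χ : Skeleton C →* End (𝟙_ D) :=
    { toFun := fun s => (ψ s.out : 𝟙_ D ⟶ 𝟙_ D)
      map_one' := by
        show ψ (toSkeleton (𝟙_ C)).out = 𝟙 _
        rw [hout, hone]
      map_mul' := by
        intro s t
        show ψ (toSkeleton (s.out ⊗ t.out)).out = ψ t.out ≫ ψ s.out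
        rw [hout, hmul] }
  have hχ : ∀ X : C, (χ (toSkeleton X) : 𝟙_ D ⟶ 𝟙_ D) = ψ X := hout
  refine ⟨χ, ?_, ?_⟩
  · intro X
    rw [hχ, hψ']
  · intro χ' hχ'
    ext s
    obtain ⟨X, rfl⟩ : ∃ X : C, toSkeleton X = s := ⟨s.out, Quotient.out_eq s⟩
    show (χ' (toSkeleton X) : 𝟙_ D ⟶ 𝟙_ D) = (χ (toSkeleton X) : 𝟙_ D ⟶ 𝟙_ D)
    rw [hχ]
    apply hchar
    exact (hχ' X).symm

theorem part2 (χ : Skeleton C →* End (𝟙_ D)) :
    ∃ θ : F ⟶ G, NatTrans.IsMonoidal θ ∧ ∀ X : C,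
        θ.app X = θ₀.app X ≫ act (G.obj X) (χ (toSkeleton X) : 𝟙_ D ⟶ 𝟙_ D) := by
  let θ : F ⟶ G :=
    { app := fun X => θ₀.app X ≫ act (G.obj X) (χ (toSkeleton X) : 𝟙_ D ⟶ 𝟙_ D)
      naturality := by
        intro X Y f
        have : IsIso f := IsGroupoid.all_isIso _
        have e : toSkeleton X = toSkeleton Y := congr_toSkeleton_of_iso (asIso f)
        rw [θ₀.naturality_assoc, ← act_naturality, e, Category.assoc] }
  refine ⟨θ, ⟨?_, ?_⟩, fun X => rfl⟩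
  · show ε F ≫ θ₀.app (𝟙_ C) ≫ act (G.obj (𝟙_ C)) (χ (toSkeleton (𝟙_ C)) : 𝟙_ D ⟶ 𝟙_ D) = ε G
    have h1 : (χ (toSkeleton (𝟙_ C)) : 𝟙_ D ⟶ 𝟙_ D) = 𝟙 _ := by
      have : toSkeleton (𝟙_ C) = (1 : Skeleton C) := rfl
      rw [this, map_one]
      rfl
    rw [h1, act_id, Category.comp_id, NatTrans.IsMonoidal.unit]
  · intro X Y
    show μ F X Y ≫ θ₀.app (X ⊗ Y) ≫ act (G.obj (X ⊗ Y)) (χ (toSkeleton (X ⊗ Y)) : 𝟙_ D ⟶ 𝟙_ D) =
      ((θ₀.app X ≫ act (G.obj X) (χ (toSkeleton X) : 𝟙_ D ⟶ 𝟙_ D)) ⊗ₘ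
        (θ₀.app Y ≫ act (G.obj Y) (χ (toSkeleton Y) : 𝟙_ D ⟶ 𝟙_ D))) ≫ μ G X Y
    have h1 : (χ (toSkeleton (X ⊗ Y)) : 𝟙_ D ⟶ 𝟙_ D) =
        (χ (toSkeleton Y) : 𝟙_ D ⟶ 𝟙_ D) ≫ (χ (toSkeleton X) : 𝟙_ D ⟶ 𝟙_ D) := by
      rw [Skeleton.toSkeleton_tensorObj, map_mul]
      rfl
    rw [h1, NatTrans.IsMonoidal.tensor_assoc, ← act_naturality, ← tensorHom_act',
      tensorHom_comp_tensorHom_assoc]

end main

open CategoryTheory MonoidalCategory in
/-- Let C be a Picard category, D a commutative (braided) Picard category, F, G : C ⥤ D lax monoidal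
functors and θ₀ : F ⟶ G a monoidal natural transformation. Identify an endomorphism φ of the unit of
D with the automorphism λ⁻¹ ≫ (φ ▷ Z) ≫ λ of any object Z. Then the monoidal natural transformations
F ⟶ G form a torsor under the monoid homomorphisms χ from the monoid of isomorphism classes of C to
End(𝟙_D): every monoidal θ : F ⟶ G is X ↦ θ₀_X ≫ (action of χ[X] on G X) for a unique such χ, and
for every χ this formula defines a monoidal natural transformation. (The published statement allows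
D non-commutative; for a non-braided monoidal groupoid the classes so obtained are crossed rather
than plain homomorphisms, so D is taken braided here.) -/
theorem result
    {C : Type u} [Category.{v} C] [MonoidalCategory C] [IsGroupoid C]
    {D : Type u'} [Category.{v'} D] [MonoidalCategory D] [BraidedCategory D] [IsGroupoid D]
    (hC : ∀ X : C, (tensorLeft X).IsEquivalence ∧ (tensorRight X).IsEquivalence)
    (hD : ∀ X : D, (tensorLeft X).IsEquivalence ∧ (tensorRight X).IsEquivalence)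
    (F G : C ⥤ D) [F.LaxMonoidal] [G.LaxMonoidal] (θ₀ : F ⟶ G) [NatTrans.IsMonoidal θ₀] :
    (∀ θ : F ⟶ G, NatTrans.IsMonoidal θ →
      ∃! χ : Skeleton C →* End (𝟙_ D), ∀ X : C,
        θ.app X = θ₀.app X ≫ (λ_ (G.obj X)).inv ≫
          ((χ (toSkeleton X) : 𝟙_ D ⟶ 𝟙_ D) ▷ G.obj X) ≫ (λ_ (G.obj X)).hom) ∧
    (∀ χ : Skeleton C →* End (𝟙_ D), ∃ θ : F ⟶ G, NatTrans.IsMonoidal θ ∧ ∀ X : C,
        θ.app X = θ₀.app X ≫ (λ_ (G.obj X)).inv ≫
          ((χ (toSkeleton X) : 𝟙_ D ⟶ 𝟙_ D) ▷ G.obj X) ≫ (λ_ (G.obj X)).hom) := by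
  refine ⟨fun θ hθ => ?_, fun χ => ?_⟩
  · exact part1 hD F G θ₀ θ
  · exact part2 F G θ₀ χ

end Groth.Agent.S15286
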