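import Groth.Statements.S15287
import Groth.Agent.Lib.Helper35.FinTwist

set_option autoImplicit false
universe u
open CategoryTheory AlgebraicGeometry
open PicF

namespace Groth.Agent.S15287

/-- Let Y be a scheme proper over a field k carrying an ample invertible O_Y-module A, let L be an
invertible O_Y-module and y_1, …, y_m finitely many points of Y. Then there is N₀ such that for
every N ≥ N₀ the module L ⊗ A^{⊗ N} has a global section generating it at every y_i (each y_i lies
in the largest open over which the section is a basis). (The published statement takes Y projective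
over k and A very ample; this row takes Y proper over k and A ample.) -/
theorem result
    (k : Type u) [Field k] (Y : Scheme.{u}) (f : Y ⟶ Spec (CommRingCat.of k)) [IsProper f]
    (A : Y.Modules) (hA : CohB1.IsAmple A) (L : Y.Modules) (hL : PicF.IsInvertible L)
    (ι : Type) [Finite ι] (y : ι → ↥Y) :
    ∃ N₀ : ℕ, ∀ N : ℕ, N₀ ≤ N →
      ∃ s : Coh.structureModule Y ⟶ CohB1.tensorMod L (CohB1.tensorPow A N),
        ∀ i : ι, y i ∈ CohB1.genLocus (CohB1.tensorMod L (CohB1.tensorPow A N)) s := by
  classical
  haveI := Fintype.ofFinite ι
  obtain ⟨m, hm, W, hW, h⟩ := Groth.Agent.Lib.Helper35.FinTwist.exists_sections hA hL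
    (Finset.univ.image y)
  choose n hn using h
  refine ⟨m * (Finset.range m).sup n, fun N hN => ?_⟩
  have hq : n (N % m) ≤ N / m := by
    have h1 : n (N % m) ≤ (Finset.range m).sup n :=
      Finset.le_sup (f := n) (Finset.mem_range.mpr (Nat.mod_lt N hm))
    have h2 : (Finset.range m).sup n ≤ N / m := by
      have := Nat.div_le_div_right (c := m) hN
      rwa [Nat.mul_div_cancel_left _ hm] at this
    exact h1.trans h2
  have h1 := hn (N % m) (N / m) hq
  rw [Nat.mod_add_div N m] at h1
  obtain ⟨σ, hσ⟩ := h1
  exact ⟨σ, fun i => hσ (hW _ (Finset.mem_image_of_mem y (Finset.mem_univ i)))⟩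

end Groth.Agent.S15287
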