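import Groth.Statements.S15292
import Mathlib
-- import your own Groth.Agent.* helpers here

set_option autoImplicit false
universe u
open DeRham

namespace Groth.Agent.S15292

open exteriorPower in
theorem gen_induction {R A : Type u} [CommRing R] [CommRing A] [Algebra R A] (p : ℕ)
    {P : ↥(⋀[A]^p (Ω[A⁄R])) → Prop} (h0 : P 0) (hadd : ∀ x y, P x → P y → P (x + y))
    (hgen : ∀ (b₀ : A) (b : Fin p → A), P (DeRham.gen (KaehlerDifferential.D R A) p b₀ b))
    (x : ↥(⋀[A]^p (Ω[A⁄R]))) : P x := by
  let gs : Set ↥(⋀[A]^p (Ω[A⁄R])) :=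
    {x | ∃ (b₀ : A) (b : Fin p → A), x = DeRham.gen (KaehlerDifferential.D R A) p b₀ b}
  let S : Submodule A ↥(⋀[A]^p (Ω[A⁄R])) :=
    { carrier := AddSubmonoid.closure gs
      zero_mem' := (AddSubmonoid.closure gs).zero_mem
      add_mem' := (AddSubmonoid.closure gs).add_mem
      smul_mem' := by
        intro a x hx
        induction hx using AddSubmonoid.closure_induction with
        | mem x hx =>
          obtain ⟨b₀, b, rfl⟩ := hx
          apply AddSubmonoid.subset_closure
          exact ⟨a * b₀, b, by simp [DeRham.gen, mul_smul]⟩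
        | zero => rw [smul_zero]; exact (AddSubmonoid.closure gs).zero_mem
        | add x y _ _ hx hy => rw [smul_add]; exact (AddSubmonoid.closure gs).add_mem hx hy }
  have hS : S = ⊤ := by
    rw [eq_top_iff, ← exteriorPower.ιMulti_span_of_span A p (Ω[A⁄R])
      (KaehlerDifferential.span_range_derivation R A), Submodule.span_le]
    rintro _ ⟨m, hm, rfl⟩
    have hm' : ∀ i, ∃ b, KaehlerDifferential.D R A b = m i := fun i => hm ⟨i, rfl⟩
    choose b hb using hm'
    apply AddSubmonoid.subset_closure
    refine ⟨1, b, ?_⟩
    simp only [DeRham.gen, one_smul]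
    congr 1
    ext i
    exact (hb i).symm
  have hx : x ∈ AddSubmonoid.closure gs := by
    have : x ∈ S := by rw [hS]; trivial
    exact this
  induction hx using AddSubmonoid.closure_induction with
  | mem x hx => obtain ⟨b₀, b, rfl⟩ := hx; exact hgen b₀ b
  | zero => exact h0
  | add x y _ _ hx hy => exact hadd x y hx hy


open exteriorPower in
/-- Let R → A be a ring map and d a family of R-linear maps from p-forms to (p+1)-forms on the exterior
powers of the Kähler differentials of A over R, p ≥ 0, satisfying the de Rham rule d(b₀ db₁ ∧ … ∧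
db_p) = db₀ ∧ db₁ ∧ … ∧ db_p for all p and all bᵢ in A. Then the composite of two consecutive d is
zero in every degree; together with the rule this says that d is a de Rham differential of the
Kähler differentials. -/
theorem result (R A : Type u) [CommRing R] [CommRing A] [Algebra R A]
    (d : ∀ p : ℕ, ↥(⋀[A]^p (Ω[A⁄R])) →ₗ[R] ↥(⋀[A]^(p + 1) (Ω[A⁄R])))
    (hd : DeRham.IsRule (KaehlerDifferential.D R A) d) :
    DeRham.IsDiff (KaehlerDifferential.D R A) d := by
  refine ⟨hd, fun p => ?_⟩
  apply LinearMap.ext
  intro x
  change d (p + 1) (d p x) = 0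
  induction x using gen_induction with
  | h0 => simp
  | hadd x y hx hy => rw [map_add, map_add, hx, hy, add_zero]
  | hgen b₀ b =>
    rw [hd p b₀ b]
    have h1 : exteriorPower.ιMulti A (p + 1)
        (Fin.cons (KaehlerDifferential.D R A b₀) (fun i => KaehlerDifferential.D R A (b i))) =
        DeRham.gen (KaehlerDifferential.D R A) (p + 1) 1 (Fin.cons b₀ b) := by
      simp only [DeRham.gen, one_smul]
      congr 1
      ext i
      refine Fin.cases ?_ (fun j => ?_) i <;> simp
    rw [h1, hd (p + 1) 1 (Fin.cons b₀ b)]
    apply AlternatingMap.map_coord_zero _ 0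
    simp

end Groth.Agent.S15292
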