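import Groth.Statements.S15296
import Groth.Agent.Lib.Helper97.DeRhamRec

set_option autoImplicit false
universe u
open DeRham

namespace Groth.Agent.S15296

open exteriorPower in
/-- Let R → A be a ring map, π a surjective A-linear map from the Kähler differentials of A over R onto
an A-module Ω', δ = π ∘ d the induced derivation A → Ω', and d_A a de Rham differential of the
Kähler differentials. Suppose the kernel of π is generated over A by elements ω with π(ω) = 0 whose
differential d_A(ω) is killed by the second exterior power of π. Then the exterior powers of Ω' over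
A carry a de Rham differential for δ: a family of R-linear maps d from p-forms to (p+1)-forms with
d(f₀ δf₁ ∧ … ∧ δf_p) = δf₀ ∧ δf₁ ∧ … ∧ δf_p and d ∘ d = 0; moreover d is compatible with d_A through
the exterior powers of π. -/
theorem result (R A Ω' : Type u) [CommRing R] [CommRing A] [Algebra R A]
    [AddCommGroup Ω'] [Module A Ω'] [Module R Ω'] [IsScalarTower R A Ω']
    (π : Ω[A⁄R] →ₗ[A] Ω') (hπ : Function.Surjective π)
    (dA : ∀ p : ℕ, ↥(⋀[A]^p (Ω[A⁄R])) →ₗ[R] ↥(⋀[A]^(p + 1) (Ω[A⁄R])))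
    (hdA : DeRham.IsDiff (KaehlerDifferential.D R A) dA)
    (hker : LinearMap.ker π ≤ Submodule.span A {ω : Ω[A⁄R] | π ω = 0 ∧
      exteriorPower.map 2 π (dA 1 ((exteriorPower.oneEquiv A (Ω[A⁄R])).symm ω)) = 0}) :
    ∃ d : ∀ p : ℕ, ↥(⋀[A]^p Ω') →ₗ[R] ↥(⋀[A]^(p + 1) Ω'),
      DeRham.IsDiff (π.compDer (KaehlerDifferential.D R A)) d ∧
        ∀ (p : ℕ) (x : ↥(⋀[A]^p (Ω[A⁄R]))),
          d p (exteriorPower.map p π x) = exteriorPower.map (p + 1) π (dA p x) := by
  classical
  let hK := Groth.Agent.Lib.Helper97.DeRhamRec.kaehlerData R A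
  -- the given family is the restriction of the constructed differential
  have hcoe : ∀ (p : ℕ) (y : ↥(⋀[A]^p (Ω[A⁄R]))),
      ((dA p y : ↥(⋀[A]^(p + 1) (Ω[A⁄R]))) : ExteriorAlgebra A (Ω[A⁄R])) =
        hK.dAdd (y : ExteriorAlgebra A (Ω[A⁄R])) := by
    intro p y
    exact hK.coe_eq_of_rule (fun p => (dA p).toAddMonoidHom) (fun p b₀ b => hdA.1 p b₀ b) p y
  -- the kernel condition
  have hk : ∀ ω : Ω[A⁄R], π ω = 0 →
      Groth.Agent.Lib.Helper97.DeRhamRec.mapTD (KaehlerDifferential.D R A) π (hK.f ω) = 0 := by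
    intro ω hω
    have hle : Submodule.span A {ω : Ω[A⁄R] | π ω = 0 ∧
        exteriorPower.map 2 π (dA 1 ((exteriorPower.oneEquiv A (Ω[A⁄R])).symm ω)) = 0} ≤
        LinearMap.ker ((Groth.Agent.Lib.Helper97.DeRhamRec.mapTD
          (KaehlerDifferential.D R A) π).toLinearMap ∘ₗ hK.f) := by
      rw [Submodule.span_le]
      rintro ω ⟨h1, h2⟩
      rw [SetLike.mem_coe, LinearMap.mem_ker, LinearMap.comp_apply]
      refine Groth.Agent.Lib.Helper97.DeRhamD.T.ext ?_ ?_
      · change ExteriorAlgebra.map π (Groth.Agent.Lib.Helper97.DeRhamD.T.fst (hK.f ω)) = 0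
        rw [hK.fst_f, ExteriorAlgebra.map_apply_ι, h1, map_zero]
      · change ExteriorAlgebra.map π (Groth.Agent.Lib.Helper97.DeRhamD.T.snd (hK.f ω)) = 0
        rw [← hK.dAdd_ι, ← Groth.Agent.Lib.Helper97.DeRhamRec.coe_oneEquiv_symm, ← hcoe,
          ← Groth.Agent.Lib.Helper97.DeRhamRec.coe_map, h2]
        rfl
    exact hle (hker hω)
  let h' := hK.quot hπ hk
  refine ⟨fun p => h'.dDeg p, ⟨?_, ?_⟩, ?_⟩
  · intro p b₀ b
    apply Subtype.ext
    rw [Groth.Agent.Lib.Helper97.DeRhamRec.Data.dDeg_coe]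
    unfold DeRham.gen
    rw [Submodule.coe_smul, exteriorPower.ιMulti_apply_coe, exteriorPower.ιMulti_apply_coe]
    exact h'.dAdd_gen p b₀ b
  · intro p
    refine LinearMap.ext fun x => Subtype.ext ?_
    rw [LinearMap.comp_apply, Groth.Agent.Lib.Helper97.DeRhamRec.Data.dDeg_coe,
      Groth.Agent.Lib.Helper97.DeRhamRec.Data.dDeg_coe, h'.dAdd_dAdd]
    rfl
  · intro p x
    apply Subtype.ext
    rw [Groth.Agent.Lib.Helper97.DeRhamRec.Data.dDeg_coe,
      Groth.Agent.Lib.Helper97.DeRhamRec.coe_map, hK.quot_dAdd hπ hk,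
      Groth.Agent.Lib.Helper97.DeRhamRec.coe_map, hcoe]

end Groth.Agent.S15296
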