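import Groth.Statements.S15297
import Groth.Agent.S15292
import Mathlib.Tactic

set_option autoImplicit false
universe u
open DeRham

namespace Groth.Agent.S15297

open exteriorPower in
theorem comm_gen {R A : Type u} [CommRing R] [CommRing A] [Algebra R A]
    (d : ∀ p : ℕ, ↥(⋀[A]^p (Ω[A⁄R])) →ₗ[R] ↥(⋀[A]^(p + 1) (Ω[A⁄R])))
    (hd : DeRham.IsRule (KaehlerDifferential.D R A) d) (p : ℕ) (b c : A) (bs : Fin p → A) :
    d p (b • DeRham.gen (KaehlerDifferential.D R A) p c bs) -
      b • d p (DeRham.gen (KaehlerDifferential.D R A) p c bs) =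
      c • ιMulti A (p + 1) (Fin.cons (KaehlerDifferential.D R A b)
        (fun i => KaehlerDifferential.D R A (bs i))) := by
  have h1 : b • DeRham.gen (KaehlerDifferential.D R A) p c bs =
      DeRham.gen (KaehlerDifferential.D R A) p (b * c) bs := by
    simp [DeRham.gen, mul_smul]
  rw [h1, hd p (b * c) bs, hd p c bs, Derivation.leibniz]
  have h2 := (ιMulti A (p + 1) (M := Ω[A⁄R])).toMultilinearMap.cons_add
    (fun i => KaehlerDifferential.D R A (bs i)) (b • KaehlerDifferential.D R A c)
    (c • KaehlerDifferential.D R A b)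
  have h3 := (ιMulti A (p + 1) (M := Ω[A⁄R])).toMultilinearMap.cons_smul
    (fun i => KaehlerDifferential.D R A (bs i)) b (KaehlerDifferential.D R A c)
  have h4 := (ιMulti A (p + 1) (M := Ω[A⁄R])).toMultilinearMap.cons_smul
    (fun i => KaehlerDifferential.D R A (bs i)) c (KaehlerDifferential.D R A b)
  simp only [AlternatingMap.coe_multilinearMap] at h2 h3 h4
  rw [h2, h3, h4]
  abel

open exteriorPower in
/-- Let R → A be a ring map and d a de Rham differential of the Kähler differentials of A over R. Then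
each d from p-forms to (p+1)-forms, an R-linear map between A-modules, is a differential operator of
order at most 1 relative to R → A: every commutator of d with multiplication by an element of A is
A-linear. -/
theorem result (R A : Type u) [CommRing R] [CommRing A] [Algebra R A]
    (d : ∀ p : ℕ, ↥(⋀[A]^p (Ω[A⁄R])) →ₗ[R] ↥(⋀[A]^(p + 1) (Ω[A⁄R])))
    (hd : DeRham.IsDiff (KaehlerDifferential.D R A) d) (p : ℕ) :
    Diff16.IsDiffOpLE R A ↥(⋀[A]^p (Ω[A⁄R])) ↥(⋀[A]^(p + 1) (Ω[A⁄R])) 1 (d p) := by
  intro b a ω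
  have hc : ∀ ω : ↥(⋀[A]^p (Ω[A⁄R])),
      Diff16.commutator R A ↥(⋀[A]^p (Ω[A⁄R])) ↥(⋀[A]^(p + 1) (Ω[A⁄R])) (d p) b ω =
        d p (b • ω) - b • d p ω := by
    intro ω
    simp [Diff16.commutator]
  rw [hc, hc]
  induction ω using Groth.Agent.S15292.gen_induction with
  | h0 => simp
  | hadd x y hx hy =>
    simp only [smul_add, map_add] at hx hy ⊢
    rw [add_sub_add_comm, hx, hy, ← smul_add, add_sub_add_comm]
  | hgen c bs =>
    have h1 : a • DeRham.gen (KaehlerDifferential.D R A) p c bs =
        DeRham.gen (KaehlerDifferential.D R A) p (a * c) bs := by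
      simp [DeRham.gen, mul_smul]
    rw [h1, comm_gen d hd.1, comm_gen d hd.1, mul_smul]

end Groth.Agent.S15297
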