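import Groth.Statements.S15298
import Groth.Agent.Lib.Helper61.FSAdicComplete
import Groth.Agent.Lib.Helper61.PSEval
import Mathlib.RingTheory.AdicCompletion.Functoriality
import Mathlib.RingTheory.AdicCompletion.Completeness

set_option autoImplicit false
universe u
open CAlg

namespace Groth.Agent.S15298

/-- Let k be a field, A a Noetherian k-algebra and x a non-zero-divisor of A such that A is separated
and complete for the (x)-adic topology, and assume that B = A/xA is formally smooth over k. Then A
is a power series ring over B in the variable x: there is a k-algebra isomorphism e : B[[T]] ≅ A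
with e(T) = x whose reduction modulo x is the constant-coefficient map, i.e. e(f) ≡ f(0) mod x for
every power series f. -/
theorem result (k A : Type u) [Field k]
    [CommRing A] [Algebra k A] [IsNoetherianRing A] (x : A) (hx : x ∈ nonZeroDivisors A)
    [IsAdicComplete (Ideal.span {x}) A] [Algebra.FormallySmooth k (A ⧸ Ideal.span {x})] :
    ∃ e : PowerSeries (A ⧸ Ideal.span {x}) ≃ₐ[k] A,
      e PowerSeries.X = x ∧
      ∀ f : PowerSeries (A ⧸ Ideal.span {x}),
        Ideal.Quotient.mk (Ideal.span {x}) (e f) = PowerSeries.constantCoeff f := by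
  classical
  open Groth.Agent.Lib.Helper61.FSAdic in
  set J : Ideal A := Ideal.span {x} with hJ
  have hL : Lifts (⊥ : Ideal k) (algebraMap k (A ⧸ J)) (⊥ : Ideal (A ⧸ J)) := by
    intro C _ K hK φ _ u hu _
    letI : Algebra k C := φ.toAlgebra
    let u' : (A ⧸ J) →ₐ[k] C ⧸ K := { u with commutes' := fun a => DFunLike.congr_fun hu a }
    obtain ⟨w, hw⟩ := Algebra.FormallySmooth.exists_lift K hK u'
    refine ⟨w.toRingHom, RingHom.ext fun a => w.commutes a, RingHom.ext fun b => ?_⟩
    exact DFunLike.congr_fun hw b
  haveI : IsHausdorff (J.map (Ideal.Quotient.mk J)) (A ⧸ J) := by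
    rw [Ideal.map_quotient_self]
    infer_instance
  obtain ⟨s, hs1, hs2, -⟩ := lift_to_complete hL J (algebraMap k A)
    ⟨1, by rw [pow_one, Ideal.map_bot]; exact bot_le⟩ J
    ⟨1, by rw [pow_one]⟩ (RingHom.id (A ⧸ J)) (RingHom.ext fun c => rfl)
    ⟨1, by rw [pow_one, Ideal.map_bot]; exact bot_le⟩
  have hs2' : ∀ b : A ⧸ J, Ideal.Quotient.mk J (s b) = b := fun b => DFunLike.congr_fun hs2 b
  have hs1' : ∀ c : k, s (algebraMap k (A ⧸ J) c) = algebraMap k A c := fun c =>
    DFunLike.congr_fun hs1 c
  letI : Algebra (A ⧸ J) A := s.toAlgebra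
  obtain ⟨ψ, hψ⟩ := Groth.Agent.Lib.Helper61.PSEval.exists_eval_one (A ⧸ J) A x
  have hψC : ∀ b : A ⧸ J, ψ (PowerSeries.C b) = s b := by
    intro b
    exact ψ.commutes b
  -- reduction modulo `x` is the constant coefficient
  have hmk : ∀ f : PowerSeries (A ⧸ J), Ideal.Quotient.mk J (ψ f) = PowerSeries.constantCoeff f := by
    intro f
    conv_lhs => rw [PowerSeries.eq_X_mul_shift_add_const f]
    rw [map_add, map_mul, hψ, hψC, map_add, map_mul, hs2']
    have : Ideal.Quotient.mk J x = 0 :=
      Ideal.Quotient.eq_zero_iff_mem.mpr (Ideal.subset_span rfl)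
    rw [this, zero_mul, zero_add]
  have hinj : Function.Injective ψ := by
    rw [injective_iff_map_eq_zero]
    have key : ∀ n : ℕ, ∀ f : PowerSeries (A ⧸ J), ψ f = 0 → PowerSeries.coeff n f = 0 := by
      intro n
      induction n with
      | zero =>
        intro f hf
        rw [PowerSeries.coeff_zero_eq_constantCoeff_apply, ← hmk, hf, map_zero]
      | succ n ih =>
        intro f hf
        have h0 : PowerSeries.constantCoeff f = 0 := by rw [← hmk, hf, map_zero]
        have h1 := PowerSeries.eq_X_mul_shift_add_const f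
        rw [h0, map_zero, add_zero] at h1
        have h2 : x * ψ (PowerSeries.mk fun p => PowerSeries.coeff (p + 1) f) = 0 := by
          rw [← hψ, ← map_mul, ← h1, hf]
        have h3 : ψ (PowerSeries.mk fun p => PowerSeries.coeff (p + 1) f) = 0 := by
          have := (mem_nonZeroDivisors_iff_left.mp hx) _ (by rwa [mul_comm] at h2)
          exact this
        have h4 := ih _ h3
        rwa [PowerSeries.coeff_mk] at h4
    intro f hf
    ext n
    rw [key n f hf, map_zero]
  have hsurj : Function.Surjective ψ := by
    have hmap : (Ideal.span {PowerSeries.X} : Ideal (PowerSeries (A ⧸ J))).map ψ.toRingHom = J := by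
      rw [Ideal.map_span, Set.image_singleton]
      change Ideal.span {ψ PowerSeries.X} = J
      rw [hψ]
    haveI : IsHausdorff ((Ideal.span {PowerSeries.X} : Ideal (PowerSeries (A ⧸ J))).map
        ψ.toRingHom) A := by
      rw [hmap]
      infer_instance
    have h : Function.Surjective ψ.toRingHom := by
      apply surjective_of_mk_map_comp_surjective
        (I := (Ideal.span {PowerSeries.X} : Ideal (PowerSeries (A ⧸ J))))
      intro y
      obtain ⟨a, rfl⟩ := Ideal.Quotient.mk_surjective y
      refine ⟨PowerSeries.C (Ideal.Quotient.mk J a), ?_⟩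
      rw [RingHom.comp_apply]
      apply Ideal.Quotient.eq.mpr
      rw [hmap]
      change ψ (PowerSeries.C (Ideal.Quotient.mk J a)) - a ∈ J
      rw [hψC, ← Ideal.Quotient.eq, hs2']
    exact h
  let ψk : PowerSeries (A ⧸ J) →ₐ[k] A :=
    { ψ.toRingHom with
      commutes' := fun c => by
        change ψ (algebraMap k (PowerSeries (A ⧸ J)) c) = _
        rw [PowerSeries.algebraMap_apply, hψC, hs1'] }
  refine ⟨AlgEquiv.ofBijective ψk ⟨hinj, hsurj⟩, hψ, hmk⟩

end Groth.Agent.S15298
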