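import Groth.Statements.S15300
import Groth.Agent.Lib.Helper13.MLLimHomology

set_option autoImplicit false
universe u
open HomAlg3

namespace Groth.Agent.S15300

section Helpers

open CategoryTheory CategoryTheory.Limits Opposite HomologicalComplex
open Groth.Agent.Lib.Helper13.MLLim Groth.Agent.Lib.Helper13.MLLimHomology

/-- lift of a homomorphism through an injective homomorphism containing its image -/
noncomputable def liftInj {A B C : Type*} [AddCommGroup A] [AddCommGroup B] [AddCommGroup C]
    (f : A →+ C) (i : B →+ C) (hi : Function.Injective i) (h : ∀ a, f a ∈ i.range) : A →+ B :=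
  (AddMonoidHom.ofInjective hi).symm.toAddMonoidHom.comp (f.codRestrict i.range h)

lemma liftInj_spec {A B C : Type*} [AddCommGroup A] [AddCommGroup B] [AddCommGroup C]
    (f : A →+ C) (i : B →+ C) (hi : Function.Injective i) (h : ∀ a, f a ∈ i.range) (a : A) :
    i (liftInj f i hi h a) = f a := by
  change i ((AddMonoidHom.ofInjective hi).symm (f.codRestrict i.range h a)) = f a
  rw [AddMonoidHom.apply_ofInjective_symm]
  rfl

/-- the product of a family of homomorphisms -/
def piMap {A B : ℕ → Type u} [∀ n, AddCommGroup (A n)] [∀ n, AddCommGroup (B n)]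
    (f : ∀ n, A n →+ B n) : (∀ n, A n) →+ (∀ n, B n) :=
  AddMonoidHom.pi (fun n => (f n).comp (Pi.evalAddMonoidHom _ n))

@[simp] lemma piMap_apply {A B : ℕ → Type u} [∀ n, AddCommGroup (A n)]
    [∀ n, AddCommGroup (B n)] (f : ∀ n, A n →+ B n) (x : ∀ n, A n) (n : ℕ) :
    piMap f x n = f n (x n) := rfl

lemma towerDiff_surjective (G : ℕ → Type u) [∀ n, AddCommGroup (G n)]
    (t : ∀ n, G (n + 1) →+ G n) (ht : ∀ n, Function.Surjective (t n)) :
    Function.Surjective (Formal2.towerDiff G t) := by
  intro z
  choose r hr using ht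
  let y : ∀ n, G n := fun n => Nat.rec (motive := G) 0 (fun n yn => r n (yn - z n)) n
  have hy : ∀ n, y (n + 1) = r n (y n - z n) := fun n => rfl
  refine ⟨y, funext fun n => ?_⟩
  change y n - t n (y (n + 1)) = z n
  rw [hy, hr]
  abel

lemma compat_of_succ (F : ℕᵒᵖ ⥤ AddCommGrpCat.{u}) (s : ∀ j : ℕᵒᵖ, F.obj j)
    (hs : ∀ n : ℕ, (F.map (homOfLE (Nat.le_succ n)).op).hom (s (op (n + 1))) = s (op n)) :
    ∀ ⦃i j : ℕᵒᵖ⦄ (f : i ⟶ j), (F.map f).hom (s i) = s j := by
  intro i j f
  have hle : j.unop ≤ i.unop := leOfHom f.unop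
  have key : ∀ (b a : ℕ) (h : b ≤ a), (F.map (homOfLE h).op).hom (s (op a)) = s (op b) := by
    intro b a h
    induction a, h using Nat.le_induction with
    | base =>
      have : (homOfLE (le_refl b)).op = 𝟙 (op b) := Subsingleton.elim _ _
      rw [this, F.map_id]; rfl
    | succ a h ih =>
      have : (homOfLE (Nat.le_succ_of_le h)).op =
          (homOfLE (Nat.le_succ a)).op ≫ (homOfLE h).op := Subsingleton.elim _ _
      rw [this, F.map_comp]
      change (F.map (homOfLE h).op).hom
        ((F.map (homOfLE (Nat.le_succ a)).op).hom (s (op (a + 1)))) = _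
      rw [hs, ih]
  have hf : f = (homOfLE hle).op := Subsingleton.elim _ _
  rw [hf]
  exact key _ _ hle

lemma isMittagLeffler_of_surjective_succ (F : ℕᵒᵖ ⥤ AddCommGrpCat.{u})
    (hF : ∀ n : ℕ, Function.Surjective (F.map (homOfLE (Nat.le_succ n)).op).hom) :
    (F ⋙ forget AddCommGrpCat).IsMittagLeffler := by
  have key : ∀ (b a : ℕ) (h : b ≤ a), Function.Surjective (F.map (homOfLE h).op).hom := by
    intro b a h
    induction a, h using Nat.le_induction with
    | base =>
      have : (homOfLE (le_refl b)).op = 𝟙 (op b) := Subsingleton.elim _ _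
      rw [this, F.map_id]
      exact fun x => ⟨x, rfl⟩
    | succ a h ih =>
      have : (homOfLE (Nat.le_succ_of_le h)).op =
          (homOfLE (Nat.le_succ a)).op ≫ (homOfLE h).op := Subsingleton.elim _ _
      rw [this, F.map_comp]
      exact ih.comp (hF a)
  rw [isMittagLeffler_iff]
  intro j
  refine ⟨j, 𝟙 j, fun k g x => ?_⟩
  have hle : j.unop ≤ k.unop := leOfHom g.unop
  have hg : g = (homOfLE hle).op := Subsingleton.elim _ _
  obtain ⟨y, hy⟩ := key _ _ hle x
  refine ⟨y, ?_⟩
  rw [hg, F.map_id]
  exact hy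

end Helpers

open CategoryTheory CategoryTheory.Limits Opposite HomologicalComplex
open Groth.Agent.Lib.Helper13.MLLim Groth.Agent.Lib.Helper13.MLLimHomology

section Helpers

end Helpers

open CategoryTheory CategoryTheory.Limits Opposite in
/-- For abelian groups, let (A_n)_n be a tower of cochain complexes of abelian groups, indexed by the
natural numbers, all of whose transition maps A_{n+1}^p → A_n^p are surjective. Then for every p
there is a short exact sequence 0 → lim¹_n h^(p-1)(A_n) → h^p(lim_n A_n) → lim_n h^p(A_n) → 0: the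
comparison map h^p(lim A_n) → lim h^p(A_n) is surjective and its kernel is isomorphic to lim¹ of the
tower of the (p-1)-st cohomology groups (existence of an isomorphism only). (The published statement
is made in an axiomatic setting that also covers quasi-coherent sheaves; this row is the case of
abelian groups.) -/
theorem result
    (K : ℕᵒᵖ ⥤ HomologicalComplex AddCommGrpCat.{u} (ComplexShape.up ℤ))
    (hK : ∀ (n : ℕ) (q : ℤ), Function.Surjective ((K.map (homOfLE (Nat.le_succ n)).op).f q).hom)
    (p q : ℤ) (hqp : q + 1 = p) :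
    Function.Surjective (limit.post K (HomologicalComplex.homologyFunctor _ _ p)).hom ∧
      Nonempty ((limit.post K (HomologicalComplex.homologyFunctor _ _ p)).hom.ker ≃+
        Formal2.limOne (fun n => (K.obj (op n)).homology q)
          (fun n => (HomologicalComplex.homologyMap (K.map (homOfLE (Nat.le_succ n)).op) q).hom)) := by
  classical
  have hcof : ∃ s : Set ℕ, s.Countable ∧ ∀ i, ∃ j ∈ s, i ≤ j :=
    ⟨Set.univ, Set.countable_univ, fun i => ⟨i, trivial, le_rfl⟩⟩
  have hML : ∀ r : ℤ,
      ((K ⋙ HomologicalComplex.eval _ _ r) ⋙ forget AddCommGrpCat).IsMittagLeffler :=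
    fun r => isMittagLeffler_of_surjective_succ (K ⋙ HomologicalComplex.eval _ _ r)
      (fun n => hK n r)
  have hsurj := post_surjective hcof K q p hqp (hML q)
  refine ⟨hsurj, ?_⟩
  -- notation
  obtain ⟨Kn, hKn⟩ : ∃ Kn : ℕ → HomologicalComplex AddCommGrpCat.{u} (ComplexShape.up ℤ),
      Kn = fun n => K.obj (op n) := ⟨_, rfl⟩
  obtain ⟨T, hT⟩ : ∃ T : ∀ n, K.obj (op (n + 1)) ⟶ K.obj (op n),
      T = fun n => K.map (homOfLE (Nat.le_succ n)).op := ⟨_, rfl⟩
  subst hKn
  have hTs : ∀ n (r : ℤ), Function.Surjective ((T n).f r).hom := by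
    intro n r; rw [hT]; exact hK n r
  have hTπ : ∀ n, limit.π K (op (n + 1)) ≫ T n = limit.π K (op n) := by
    intro n; rw [hT]; exact limit.w K _
  change Nonempty ((limit.post K (HomologicalComplex.homologyFunctor _ _ p)).hom.ker ≃+
    Formal2.limOne (fun n => (K.obj (op n)).homology q)
      (fun n => (HomologicalComplex.homologyMap
        ((fun n => K.map (homOfLE (Nat.le_succ n)).op) n) q).hom))
  rw [← hT]
  -- compatibility of sections along `T` suffices
  have hcompat : ∀ (F : HomologicalComplex AddCommGrpCat.{u} (ComplexShape.up ℤ) ⥤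
      AddCommGrpCat.{u}) (s : ∀ j : ℕᵒᵖ, (K ⋙ F).obj j)
      (_ : ∀ n : ℕ, (F.map (T n)).hom (s (op (n + 1))) = s (op n)),
      ∀ ⦃i j : ℕᵒᵖ⦄ (f : i ⟶ j), ((K ⋙ F).map f).hom (s i) = s j := by
    intro F s hs
    apply compat_of_succ (K ⋙ F) s
    intro n
    have := hs n
    rw [hT] at this
    exact this
  clear hT hK
  -- towers
  let D := Formal2.towerDiff (fun n => (K.obj (op n)).X q) (fun n => ((T n).f q).hom)
  let DH := Formal2.towerDiff (fun n => (K.obj (op n)).homology q)
    (fun n => (HomologicalComplex.homologyMap (T n) q).hom)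
  have hD : ∀ (y : ∀ n, (K.obj (op n)).X q) n, D y n = y n - ((T n).f q).hom (y (n + 1)) :=
    fun y n => rfl
  have hDH : ∀ (g : ∀ n, (K.obj (op n)).homology q) n,
      DH g n = g n - (HomologicalComplex.homologyMap (T n) q).hom (g (n + 1)) := fun g n => rfl
  let dP : (∀ n, (K.obj (op n)).X q) →+ (∀ n, (K.obj (op n)).X p) :=
    piMap (fun n => ((K.obj (op n)).d q p).hom)
  let S : AddSubgroup (∀ n, (K.obj (op n)).X q) := (dP.comp D).ker
  have hSmem : ∀ y : ∀ n, (K.obj (op n)).X q,
      y ∈ S ↔ ∀ n, ((K.obj (op n)).d q p).hom (D y n) = 0 := by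
    intro y
    constructor
    · intro hy n; exact congrFun hy n
    · intro hy; exact funext hy
  let iP : (∀ n, (K.obj (op n)).cycles q) →+ (∀ n, (K.obj (op n)).X q) :=
    piMap (fun n => ((K.obj (op n)).iCycles q).hom)
  have iP_inj : Function.Injective iP := fun a b h =>
    funext fun n => iCycles_injective _ q (congrFun h n)
  have hS : ∀ y : S, (D.comp S.subtype) y ∈ iP.range := by
    intro y
    have hy := (hSmem y.1).1 y.2
    choose c hc using fun n => exists_cycles (K.obj (op n)) q p hqp (D y.1 n) (hy n)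
    exact ⟨c, funext hc⟩
  let cyc : S →+ (∀ n, (K.obj (op n)).cycles q) := liftInj (D.comp S.subtype) iP iP_inj hS
  have cyc_spec : ∀ (y : S) n, ((K.obj (op n)).iCycles q).hom (cyc y n) = D y.1 n :=
    fun y n => congrFun (liftInj_spec (D.comp S.subtype) iP iP_inj hS y) n
  let πP : (∀ n, (K.obj (op n)).cycles q) →+ (∀ n, (K.obj (op n)).homology q) :=
    piMap (fun n => ((K.obj (op n)).homologyπ q).hom)
  let Θ : S →+ Formal2.limOne (fun n => (K.obj (op n)).homology q)
      (fun n => (HomologicalComplex.homologyMap (T n) q).hom) :=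
    (QuotientAddGroup.mk' _).comp (πP.comp cyc)
  have hΘ : ∀ y : S, Θ y = QuotientAddGroup.mk (πP (cyc y)) := fun y => rfl
  -- the cycle of the limit attached to an element of `S`
  let tcP : (∀ n, (K.obj (op n)).X q) →+ (∀ n, (K.obj (op n)).cycles p) :=
    piMap (fun n => ((K.obj (op n)).toCycles q p).hom)
  let resZ : (limit K).cycles p →+ (∀ n, (K.obj (op n)).cycles p) :=
    AddMonoidHom.pi (fun n => (cyclesMap (limit.π K (op n)) p).hom)
  have resZ_inj : Function.Injective resZ := fun a b h =>
    cycles_ext K p a b (fun j => congrFun h j.unop)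
  have htc0 : ∀ n (x : (K.obj (op n)).X q), ((K.obj (op n)).d q p).hom x = 0 →
      ((K.obj (op n)).toCycles q p).hom x = 0 := by
    intro n x hx
    apply iCycles_injective _ p
    rw [iCycles_toCycles_apply, hx, map_zero]
  have hζ : ∀ y : S, (tcP.comp S.subtype) y ∈ resZ.range := by
    intro y
    have hy := (hSmem y.1).1 y.2
    obtain ⟨c, hc⟩ := cycles_exists K p
      (fun j => ((K.obj j).toCycles q p).hom (y.1 j.unop))
      (hcompat (cyclesFunctor _ _ p) _ (fun n => by
        change (cyclesMap (T n) p).hom (((K.obj (op (n + 1))).toCycles q p).hom (y.1 (n + 1))) =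
          ((K.obj (op n)).toCycles q p).hom (y.1 n)
        rw [toCycles_cyclesMap_apply]
        have h0 := htc0 n _ (hy n)
        rw [hD, map_sub, sub_eq_zero] at h0
        exact h0.symm))
    exact ⟨c, funext fun n => hc (op n)⟩
  let ζ : S →+ (limit K).cycles p := liftInj (tcP.comp S.subtype) resZ resZ_inj hζ
  have ζ_spec : ∀ (y : S) n, (cyclesMap (limit.π K (op n)) p).hom (ζ y) =
      ((K.obj (op n)).toCycles q p).hom (y.1 n) :=
    fun y n => congrFun (liftInj_spec (tcP.comp S.subtype) resZ resZ_inj hζ y) n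
  let Ψ₀ : S →+ (limit K).homology p := ((limit K).homologyπ p).hom.comp ζ
  have hΨ₀ : ∀ y : S, Ψ₀ y = ((limit K).homologyπ p).hom (ζ y) := fun y => rfl
  let P : ↑((limit K).homology p) →+
      ↑(limit (K ⋙ HomologicalComplex.homologyFunctor AddCommGrpCat (ComplexShape.up ℤ) p)) :=
    (limit.post K (HomologicalComplex.homologyFunctor _ _ p)).hom
  have hP : ∀ (w : (limit K).homology p) (j : ℕᵒᵖ),
      (limit.π (K ⋙ HomologicalComplex.homologyFunctor _ _ p) j).hom (P w) =
        (homologyMap (limit.π K j) p).hom w := fun w j => post_apply K p j w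
  have hpostker : ∀ w : (limit K).homology p,
      w ∈ P.ker ↔ ∀ n, (homologyMap (limit.π K (op n)) p).hom w = 0 := by
    intro w
    rw [AddMonoidHom.mem_ker]
    constructor
    · intro hw n
      rw [← hP, hw]
      exact map_zero _
    · intro hw
      apply cone_ext (limit.isLimit (K ⋙ HomologicalComplex.homologyFunctor _ _ p))
      intro j
      change (limit.π (K ⋙ HomologicalComplex.homologyFunctor _ _ p) j).hom (P w) =
        (limit.π (K ⋙ HomologicalComplex.homologyFunctor _ _ p) j).hom 0
      rw [hP, map_zero]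
      exact hw j.unop
  have hΨ₀ker : ∀ y : S, Ψ₀ y ∈ P.ker := by
    intro y
    rw [hpostker]
    intro n
    rw [hΨ₀, ← homologyπ_cyclesMap_apply, ζ_spec]
    have h0 := ConcreteCategory.congr_hom ((K.obj (op n)).toCycles_comp_homologyπ q p) (y.1 n)
    exact h0
  let Ψ : S →+ P.ker := Ψ₀.codRestrict _ hΨ₀ker
  have hΨ : ∀ y : S, (Ψ y).1 = ((limit K).homologyπ p).hom (ζ y) := fun y => rfl
  -- surjectivity of Ψ
  have hΨsurj : Function.Surjective Ψ := by
    rintro ⟨w, hw⟩
    rw [hpostker] at hw
    obtain ⟨c, rfl⟩ := homologyπ_surjective (limit K) p w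
    have hb : ∀ n, ∃ v : (K.obj (op n)).X q,
        ((K.obj (op n)).toCycles q p).hom v = (cyclesMap (limit.π K (op n)) p).hom c := by
      intro n
      have h0 : ((K.obj (op n)).homologyπ p).hom ((cyclesMap (limit.π K (op n)) p).hom c) = 0 := by
        rw [homologyπ_cyclesMap_apply]; exact hw n
      have : (cyclesMap (limit.π K (op n)) p).hom c ∈ ((K.obj (op n)).homologyπ p).hom.ker := h0
      rw [ker_homologyπ (K.obj (op n)) q p hqp] at this
      exact this
    choose v hv using hb
    have hvS : v ∈ S := by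
      rw [hSmem]
      intro n
      rw [hD, map_sub, ← d_apply_comm, ← iCycles_toCycles_apply, ← iCycles_toCycles_apply,
        hv, hv, iCycles_cyclesMap_apply, iCycles_cyclesMap_apply, sub_eq_zero]
      have h1 := ConcreteCategory.congr_hom
        (congrArg (fun φ => φ.f p) (hTπ n)) (((limit K).iCycles p).hom c)
      exact h1.symm
    refine ⟨⟨v, hvS⟩, ?_⟩
    apply Subtype.ext
    rw [hΨ]
    congr 1
    apply resZ_inj
    funext n
    change (cyclesMap (limit.π K (op n)) p).hom (ζ ⟨v, hvS⟩) = (cyclesMap (limit.π K (op n)) p).hom c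
    rw [ζ_spec, hv]
  -- surjectivity of Θ
  have hΘsurj : Function.Surjective Θ := by
    intro l
    obtain ⟨h, rfl⟩ := QuotientAddGroup.mk_surjective l
    choose z hz using fun n => homologyπ_surjective (K.obj (op n)) q (h n)
    obtain ⟨y, hy⟩ := towerDiff_surjective (fun n => (K.obj (op n)).X q)
      (fun n => ((T n).f q).hom) (fun n => hTs n q) (iP z)
    have hyS : y ∈ S := by
      rw [hSmem]
      intro n
      have : D y n = ((K.obj (op n)).iCycles q).hom (z n) := congrFun hy n
      rw [this, d_iCycles_apply]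
    refine ⟨⟨y, hyS⟩, ?_⟩
    rw [hΘ]
    congr 1
    have : cyc ⟨y, hyS⟩ = z := by
      apply iP_inj
      funext n
      change ((K.obj (op n)).iCycles q).hom (cyc ⟨y, hyS⟩ n) = ((K.obj (op n)).iCycles q).hom (z n)
      rw [cyc_spec]
      exact congrFun hy n
    rw [this]
    funext n
    exact hz n
  obtain ⟨r, hr⟩ : ∃ r : ℤ, r + 1 = q := ⟨q - 1, by omega⟩
  have hTe : ∀ (n : ℕ) (s : ℤ) (e : (limit K).X s),
      ((T n).f s).hom (((limit.π K (op (n + 1))).f s).hom e) = ((limit.π K (op n)).f s).hom e := by
    intro n s e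
    have := ConcreteCategory.congr_hom (congrArg (fun φ => φ.f s) (hTπ n)) e
    exact this
  have hker : Ψ.ker = Θ.ker := by
    ext y
    rw [AddMonoidHom.mem_ker, AddMonoidHom.mem_ker]
    constructor
    · intro hy
      have h0 : ((limit K).homologyπ p).hom (ζ y) = 0 := by
        have := congrArg Subtype.val hy
        exact this
      have hmem : ζ y ∈ ((limit K).homologyπ p).hom.ker := h0
      rw [ker_homologyπ (limit K) q p hqp] at hmem
      obtain ⟨e, he⟩ := hmem
      have hc : ∀ n, ∃ c : (K.obj (op n)).cycles q,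
          ((K.obj (op n)).iCycles q).hom c = y.1 n - ((limit.π K (op n)).f q).hom e := by
        intro n
        have h1 : ((K.obj (op n)).toCycles q p).hom
            (y.1 n - ((limit.π K (op n)).f q).hom e) = 0 := by
          rw [map_sub, ← toCycles_cyclesMap_apply, he, ζ_spec, sub_self]
        have hmem' : y.1 n - ((limit.π K (op n)).f q).hom e ∈
            ((K.obj (op n)).toCycles q p).hom.ker := h1
        rw [ker_toCycles _ q p hqp] at hmem'
        exact hmem'
      choose c hc using hc
      rw [hΘ, QuotientAddGroup.eq_zero_iff]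
      refine ⟨fun n => ((K.obj (op n)).homologyπ q).hom (c n), ?_⟩
      funext n
      change DH _ n = ((K.obj (op n)).homologyπ q).hom (cyc y n)
      rw [hDH, ← homologyπ_cyclesMap_apply, ← map_sub]
      congr 1
      apply iCycles_injective _ q
      rw [map_sub, iCycles_cyclesMap_apply, hc, hc, cyc_spec, hD, map_sub, hTe]
      abel
    · intro hy
      rw [hΘ, QuotientAddGroup.eq_zero_iff] at hy
      obtain ⟨g, hg⟩ := hy
      choose c hc using fun n => homologyπ_surjective (K.obj (op n)) q (g n)
      have hu : ∀ n, ∃ u : (K.obj (op n)).X r, ((K.obj (op n)).toCycles r q).hom u =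
          cyc y n - (c n - (cyclesMap (T n) q).hom (c (n + 1))) := by
        intro n
        have h1 : ((K.obj (op n)).homologyπ q).hom
            (cyc y n - (c n - (cyclesMap (T n) q).hom (c (n + 1)))) = 0 := by
          rw [map_sub, map_sub, homologyπ_cyclesMap_apply, hc, hc]
          have h2 : DH g n = ((K.obj (op n)).homologyπ q).hom (cyc y n) := congrFun hg n
          rw [hDH] at h2
          rw [h2, sub_self]
        have hmem : cyc y n - (c n - (cyclesMap (T n) q).hom (c (n + 1))) ∈
            ((K.obj (op n)).homologyπ q).hom.ker := h1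
        rw [ker_homologyπ _ r q hr] at hmem
        exact hmem
      choose u hu using hu
      obtain ⟨ρ, hρ⟩ := towerDiff_surjective (fun n => (K.obj (op n)).X r)
        (fun n => ((T n).f r).hom) (fun n => hTs n r) u
      obtain ⟨e', he'def⟩ : ∃ e' : ∀ n, (K.obj (op n)).X q, ∀ n, e' n =
          y.1 n - ((K.obj (op n)).iCycles q).hom (c n) - ((K.obj (op n)).d r q).hom (ρ n) :=
        ⟨_, fun n => rfl⟩
      have he' : ∀ n, ((T n).f q).hom (e' (n + 1)) = e' n := by
        intro n
        have hρn : ρ n - ((T n).f r).hom (ρ (n + 1)) = u n := congrFun hρ n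
        have h3 := congrArg ((K.obj (op n)).iCycles q).hom (hu n)
        rw [iCycles_toCycles_apply, map_sub, map_sub, cyc_spec, hD, iCycles_cyclesMap_apply,
          ← hρn, map_sub] at h3
        rw [he'def, he'def, map_sub, map_sub, d_apply_comm]
        have h4 : ((K.obj (op n)).d r q).hom (((T n).f r).hom (ρ (n + 1))) =
            ((K.obj (op n)).d r q).hom (ρ n) -
              (y.1 n - ((T n).f q).hom (y.1 (n + 1)) -
                (((K.obj (op n)).iCycles q).hom (c n) -
                  ((T n).f q).hom (((K.obj (op (n + 1))).iCycles q).hom (c (n + 1))))) := by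
          rw [← h3]; abel
        rw [h4]
        abel
      obtain ⟨e, he⟩ := X_exists K q (fun j => e' j.unop)
        (hcompat (HomologicalComplex.eval _ _ q) (fun j => e' j.unop) he')
      have hζe : ((limit K).toCycles q p).hom e = ζ y := by
        apply resZ_inj
        funext n
        change (cyclesMap (limit.π K (op n)) p).hom (((limit K).toCycles q p).hom e) =
          (cyclesMap (limit.π K (op n)) p).hom (ζ y)
        rw [toCycles_cyclesMap_apply, ζ_spec, he (op n)]
        change ((K.obj (op n)).toCycles q p).hom (e' n) = _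
        rw [he'def, map_sub, map_sub, htc0 n _ (d_iCycles_apply _ q p (c n)),
          htc0 n (((K.obj (op n)).d r q).hom (ρ n))
            (ConcreteCategory.congr_hom ((K.obj (op n)).d_comp_d r q p) (ρ n)),
          sub_zero, sub_zero]
      apply Subtype.ext
      rw [hΨ, ← hζe]
      have h0 := ConcreteCategory.congr_hom ((limit K).toCycles_comp_homologyπ q p) e
      exact h0
  exact ⟨(QuotientAddGroup.quotientKerEquivOfSurjective Ψ hΨsurj).symm.trans
    ((QuotientAddGroup.quotientAddEquivOfEq hker).trans
      (QuotientAddGroup.quotientKerEquivOfSurjective Θ hΘsurj))⟩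

end Groth.Agent.S15300
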