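import Groth.Statements.S15302
import Groth.Agent.Lib.Helper84.SplitRes

set_option autoImplicit false
universe v u
open HomAlg3

namespace Groth.Agent.S15302

open CategoryTheory CategoryTheory.Limits in
/-- In an abelian category with enough injectives, let α : G ⟶ F be a morphism and I an injective
resolution of F. Then G has an injective resolution J together with a morphism of cochain complexes
β : J ⟶ I lying over α (the augmentations commute with α and β) such that for every p there are an
object K^p and an isomorphism J^p ≅ I^p ⊕ K^p identifying β^p with the projection onto the first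
factor (so K^p is injective as well). (The published statement is for abelian sheaves on a
topological space; its proof uses only an embedding of G into an injective object and cokernels, so
the row is stated in any abelian category with enough injectives.) -/
theorem result {C : Type u} [Category.{v} C] [Abelian C]
    [EnoughInjectives C] {G F : C} (α : G ⟶ F) (I : InjectiveResolution F) :
    ∃ (J : InjectiveResolution G) (β : J.cocomplex ⟶ I.cocomplex),
      J.ι ≫ β = (CochainComplex.single₀ C).map α ≫ I.ι ∧
      ∀ p : ℕ, ∃ (K : C) (e : J.cocomplex.X p ≅ I.cocomplex.X p ⊞ K), β.f p = e.hom ≫ biprod.fst := by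
  classical
  let K₀ : InjectiveResolution G := InjectiveResolution.of G
  let γ := InjectiveResolution.desc α I K₀
  have hγ : K₀.ι ≫ γ = (CochainComplex.single₀ C).map α ≫ I.ι :=
    InjectiveResolution.desc_commutes α I K₀
  have hinjsh : ∀ p, Injective ((Groth.Agent.Lib.Helper84.SplitRes.sh I.cocomplex).X p) := by
    intro p
    cases p with
    | zero => exact Injective.zero_injective
    | succ p => exact I.injective p
  have hqi : QuasiIso (biprod.inl : K₀.cocomplex ⟶
      K₀.cocomplex ⊞ Groth.Agent.Lib.Helper84.SplitRes.disk I.cocomplex) :=
    (Groth.Agent.Lib.Helper84.SplitRes.inlEquiv K₀.cocomplex I.cocomplex).quasiIso_hom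
  let J : InjectiveResolution G :=
    { cocomplex := K₀.cocomplex ⊞ Groth.Agent.Lib.Helper84.SplitRes.disk I.cocomplex
      injective := fun p => by
        have := hinjsh p
        exact Injective.of_iso (HomologicalComplex.biprodXIso K₀.cocomplex
          (Groth.Agent.Lib.Helper84.SplitRes.disk I.cocomplex) p).symm inferInstance
      ι := K₀.ι ≫ biprod.inl
      quasiIso := inferInstance }
  refine ⟨J, biprod.desc γ (Groth.Agent.Lib.Helper84.SplitRes.q I.cocomplex), ?_, ?_⟩
  · change (K₀.ι ≫ biprod.inl) ≫ biprod.desc γ _ = _
    rw [Category.assoc, biprod.inl_desc, hγ]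
  · intro p
    refine ⟨K₀.cocomplex.X p ⊞ (Groth.Agent.Lib.Helper84.SplitRes.sh I.cocomplex).X p,
      HomologicalComplex.biprodXIso K₀.cocomplex
          (Groth.Agent.Lib.Helper84.SplitRes.disk I.cocomplex) p ≪≫
        Groth.Agent.Lib.Helper84.SplitRes.shear (γ.f p)
          (Groth.Agent.Lib.Helper84.SplitRes.t I.cocomplex p), ?_⟩
    rw [Iso.trans_hom, Category.assoc, Groth.Agent.Lib.Helper84.SplitRes.shear_hom_fst,
      ← cancel_epi (HomologicalComplex.biprodXIso K₀.cocomplex
          (Groth.Agent.Lib.Helper84.SplitRes.disk I.cocomplex) p).inv, Iso.inv_hom_id_assoc]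
    apply biprod.hom_ext'
    · rw [HomologicalComplex.inl_biprodXIso_inv_assoc, ← HomologicalComplex.comp_f,
        biprod.inl_desc, biprod.inl_desc]
    · rw [HomologicalComplex.inr_biprodXIso_inv_assoc, ← HomologicalComplex.comp_f,
        biprod.inr_desc, biprod.inr_desc]
      rfl

end Groth.Agent.S15302
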