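import Groth.Statements.S15319
import Mathlib.Tactic
import Mathlib.RingTheory.MvPowerSeries.NoZeroDivisors

set_option autoImplicit false
universe u
open ArLef ArLef.NodeAlg

namespace Groth.Agent.S15319

section Helpers

set_option linter.unusedSectionVars false

variable {B : Type u} [CommRing B] [IsDomain B] (π : B)

theorem pi_regular_aux (hπ0 : π ≠ 0) (f : MvPowerSeries (Fin 2) B)
    (hf : MvPowerSeries.C π * f ∈ Ideal.span
      {(MvPowerSeries.X 0 * MvPowerSeries.X 1 - MvPowerSeries.C π : MvPowerSeries (Fin 2) B)}) :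
    f ∈ Ideal.span
      {(MvPowerSeries.X 0 * MvPowerSeries.X 1 - MvPowerSeries.C π : MvPowerSeries (Fin 2) B)} := by
  rw [Ideal.mem_span_singleton'] at hf ⊢
  obtain ⟨g, hg⟩ := hf
  set δ : Fin 2 →₀ ℕ := Finsupp.single 0 1 + Finsupp.single 1 1 with hδ
  have hXX : (MvPowerSeries.X 0 * MvPowerSeries.X 1 : MvPowerSeries (Fin 2) B) =
      MvPowerSeries.monomial δ 1 := by
    rw [MvPowerSeries.X_def, MvPowerSeries.X_def, MvPowerSeries.monomial_mul_monomial, mul_one]
  have hcoef : ∀ m : Fin 2 →₀ ℕ, MvPowerSeries.coeff m g =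
      π * (MvPowerSeries.coeff (δ + m) f + MvPowerSeries.coeff (δ + m) g) := by
    intro m
    have h1 := congrArg (MvPowerSeries.coeff (δ + m)) hg
    rw [mul_sub, map_sub, hXX, mul_comm g, MvPowerSeries.coeff_add_monomial_mul, one_mul,
      mul_comm g, MvPowerSeries.coeff_C_mul, MvPowerSeries.coeff_C_mul] at h1
    linear_combination h1
  set g' : MvPowerSeries (Fin 2) B :=
    fun m => MvPowerSeries.coeff (δ + m) f + MvPowerSeries.coeff (δ + m) g with hg'
  have hgg' : g = MvPowerSeries.C π * g' := by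
    ext m
    rw [MvPowerSeries.coeff_C_mul, hcoef m]
    rfl
  refine ⟨g', ?_⟩
  have hC : (MvPowerSeries.C π : MvPowerSeries (Fin 2) B) ≠ 0 := by
    intro h
    have := congrArg MvPowerSeries.constantCoeff h
    rw [MvPowerSeries.constantCoeff_C, map_zero] at this
    exact hπ0 this
  apply mul_left_cancel₀ hC
  rw [← hg, hgg']
  ring

theorem pi_regular (hπ0 : π ≠ 0) (x : ArLef.NodeAlg B π)
    (hx : algebraMap B (ArLef.NodeAlg B π) π * x = 0) : x = 0 := by
  obtain ⟨f, rfl⟩ := Ideal.Quotient.mk_surjective x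
  have h1 : algebraMap B (ArLef.NodeAlg B π) π = Ideal.Quotient.mk _ (MvPowerSeries.C π) := rfl
  rw [h1, ← map_mul, Ideal.Quotient.eq_zero_iff_mem] at hx
  rw [Ideal.Quotient.eq_zero_iff_mem]
  exact pi_regular_aux π hπ0 f hx

theorem pi_pow_regular (hπ0 : π ≠ 0) (j : ℕ) (x : ArLef.NodeAlg B π)
    (hx : algebraMap B (ArLef.NodeAlg B π) π ^ j * x = 0) : x = 0 := by
  induction j generalizing x with
  | zero => simpa using hx
  | succ j ih =>
    rw [pow_succ, mul_assoc] at hx
    exact pi_regular π hπ0 x (ih _ hx)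

theorem t_mul_e : ArLef.NodeAlg.t π * ArLef.NodeAlg.e π = algebraMap B (ArLef.NodeAlg B π) π := by
  have h1 : algebraMap B (ArLef.NodeAlg B π) π = Ideal.Quotient.mk _ (MvPowerSeries.C π) := rfl
  rw [h1]
  unfold ArLef.NodeAlg.t ArLef.NodeAlg.e
  rw [← map_mul, Ideal.Quotient.eq]
  exact Ideal.subset_span rfl

theorem span_t_e_ne_top (hπ : ¬ IsUnit π) :
    Ideal.span ({ArLef.NodeAlg.t π, ArLef.NodeAlg.e π} : Set (ArLef.NodeAlg B π)) ≠ ⊤ := by
  intro htop
  let ψ : ArLef.NodeAlg B π →+* B ⧸ Ideal.span ({π} : Set B) :=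
    Ideal.Quotient.lift _ ((Ideal.Quotient.mk (Ideal.span ({π} : Set B))).comp
      MvPowerSeries.constantCoeff) (by
        intro a ha
        rw [Ideal.mem_span_singleton'] at ha
        obtain ⟨c, rfl⟩ := ha
        rw [RingHom.comp_apply, map_mul, map_sub, map_mul (MvPowerSeries.constantCoeff),
          MvPowerSeries.constantCoeff_X, zero_mul, zero_sub, MvPowerSeries.constantCoeff_C,
          Ideal.Quotient.eq_zero_iff_mem]
        exact Ideal.mul_mem_left _ _ (neg_mem (Ideal.subset_span rfl)))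
  have hle : Ideal.span ({ArLef.NodeAlg.t π, ArLef.NodeAlg.e π} : Set (ArLef.NodeAlg B π)) ≤
      RingHom.ker ψ := by
    rw [Ideal.span_le]
    rintro x (rfl | rfl)
    · change ψ (Ideal.Quotient.mk _ (MvPowerSeries.X 0)) = 0
      rw [Ideal.Quotient.lift_mk, RingHom.comp_apply, MvPowerSeries.constantCoeff_X, map_zero]
    · change ψ (Ideal.Quotient.mk _ (MvPowerSeries.X 1)) = 0
      rw [Ideal.Quotient.lift_mk, RingHom.comp_apply, MvPowerSeries.constantCoeff_X, map_zero]
  rw [htop] at hle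
  have h1 : (1 : ArLef.NodeAlg B π) ∈ RingHom.ker ψ := hle Submodule.mem_top
  rw [RingHom.mem_ker, map_one] at h1
  have h2 : (1 : B) ∈ Ideal.span ({π} : Set B) := by
    rw [← Ideal.Quotient.eq_zero_iff_mem, map_one]
    exact h1
  exact hπ (Ideal.span_singleton_eq_top.mp ((Ideal.eq_top_iff_one _).mpr h2))

end Helpers


/-- Let B be a discrete valuation ring with uniformizer π, N = B[[t, e]]/(te - π) the complete local
ring of a semi-stable arithmetic surface over B at a singular point of the closed fibre, and σ a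
ring automorphism of N sending π to π + γ π^j with γ a unit of B and j ≥ 1 (σ lies over an
automorphism τ of B with v(τ(π) - π) = j). Then the fixed-point ideal of σ is not contained in (π^j)
= (t^j e^j): the two branches through the point cannot both occur with multiplicity j in the
divisorial part of the fixed locus. (The published setting has B complete with algebraically closed
residue field.) -/
theorem result (B : Type u) [CommRing B] [IsDomain B] [IsDiscreteValuationRing B] (π : B) (hπ : Irreducible π)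
    (j : ℕ) (hj : 1 ≤ j) (γ : B) (hγ : IsUnit γ)
    (σ : ArLef.NodeAlg B π ≃+* ArLef.NodeAlg B π)
    (hσ : σ (algebraMap B (ArLef.NodeAlg B π) π) = algebraMap B (ArLef.NodeAlg B π) (π + γ * π ^ j)) :
    ¬ ArLef.fixIdeal σ ≤ Ideal.span ({algebraMap B (ArLef.NodeAlg B π) (π ^ j)} : Set (ArLef.NodeAlg B π)) := by
  intro hle
  have hπ0 : π ≠ 0 := hπ.ne_zero
  have ht : σ (ArLef.NodeAlg.t π) - ArLef.NodeAlg.t π ∈ ArLef.fixIdeal σ :=
    Ideal.subset_span ⟨_, rfl⟩
  have he : σ (ArLef.NodeAlg.e π) - ArLef.NodeAlg.e π ∈ ArLef.fixIdeal σ :=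
    Ideal.subset_span ⟨_, rfl⟩
  obtain ⟨a, ha⟩ := Ideal.mem_span_singleton'.mp (hle ht)
  obtain ⟨b, hb⟩ := Ideal.mem_span_singleton'.mp (hle he)
  rw [map_pow] at ha hb
  have hte := t_mul_e π
  have h1 : σ (algebraMap B (ArLef.NodeAlg B π) π) =
      σ (ArLef.NodeAlg.t π) * σ (ArLef.NodeAlg.e π) := by
    rw [← map_mul, hte]
  rw [hσ, map_add, map_mul, map_pow] at h1
  obtain ⟨m, rfl⟩ : ∃ m, j = m + 1 := ⟨j - 1, by omega⟩
  have h2 : algebraMap B (ArLef.NodeAlg B π) π ^ (m + 1) *
      (a * ArLef.NodeAlg.e π + b * ArLef.NodeAlg.t π +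
        algebraMap B (ArLef.NodeAlg B π) π ^ (m + 1) * a * b -
        algebraMap B (ArLef.NodeAlg B π) γ) = 0 := by
    have e1 : σ (ArLef.NodeAlg.t π) =
        ArLef.NodeAlg.t π + a * algebraMap B (ArLef.NodeAlg B π) π ^ (m + 1) := by
      rw [ha]; ring
    have e2 : σ (ArLef.NodeAlg.e π) =
        ArLef.NodeAlg.e π + b * algebraMap B (ArLef.NodeAlg B π) π ^ (m + 1) := by
      rw [hb]; ring
    rw [e1, e2] at h1
    linear_combination (-1 : ArLef.NodeAlg B π) * h1 - hte
  have h3 := pi_pow_regular π hπ0 (m + 1) _ h2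
  have h4 : algebraMap B (ArLef.NodeAlg B π) γ ∈
      Ideal.span ({ArLef.NodeAlg.t π, ArLef.NodeAlg.e π} : Set (ArLef.NodeAlg B π)) := by
    have h5 : algebraMap B (ArLef.NodeAlg B π) γ =
        a * ArLef.NodeAlg.e π + b * ArLef.NodeAlg.t π +
          algebraMap B (ArLef.NodeAlg B π) π ^ m * a * b * ArLef.NodeAlg.e π *
            ArLef.NodeAlg.t π := by
      have := sub_eq_zero.mp h3
      rw [← this, pow_succ, ← hte]
      ring
    rw [h5]
    have hts : ArLef.NodeAlg.t π ∈
        Ideal.span ({ArLef.NodeAlg.t π, ArLef.NodeAlg.e π} : Set (ArLef.NodeAlg B π)) :=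
      Ideal.subset_span (Set.mem_insert _ _)
    have hes : ArLef.NodeAlg.e π ∈
        Ideal.span ({ArLef.NodeAlg.t π, ArLef.NodeAlg.e π} : Set (ArLef.NodeAlg B π)) :=
      Ideal.subset_span (Set.mem_insert_of_mem _ rfl)
    exact Ideal.add_mem _ (Ideal.add_mem _ (Ideal.mul_mem_left _ _ hes)
      (Ideal.mul_mem_left _ _ hts)) (Ideal.mul_mem_left _ _ hts)
  exact span_t_e_ne_top π hπ.not_isUnit
    (Ideal.eq_top_of_isUnit_mem _ h4 (hγ.map _))

end Groth.Agent.S15319
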