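import Groth.Statements.S15322
import Mathlib.AlgebraicGeometry.Morphisms.FormallyUnramified

set_option autoImplicit false
universe u
open CategoryTheory AlgebraicGeometry
open ArLef

namespace Groth.Agent.S15322

open CategoryTheory.Limits

set_option backward.isDefEq.respectTransparency false in
theorem isOpenImmersion_equalizer_ι_left {S : Scheme.{u}} {X Y : Over S}
    [IsOpenImmersion (pullback.diagonal Y.hom)]
    (f g : X ⟶ Y) : IsOpenImmersion (equalizer.ι f g).left := by
  refine MorphismProperty.of_isPullback (P := @IsOpenImmersion)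
    ((Limits.isPullback_equalizer_prod f g).map (Over.forget _)).flip ?_
  rw [← MorphismProperty.cancel_right_of_respectsIso @IsOpenImmersion _
    (Over.prodLeftIsoPullback Y Y).hom]
  convert! (inferInstance : IsOpenImmersion (pullback.diagonal Y.hom))
  ext1 <;> simp [← Over.comp_left]

theorem rigidity {X D C Z : Scheme.{u}} (f : D ⟶ C) [FormallyUnramified f] [LocallyOfFiniteType f]
    [IsSeparated f] [ConnectedSpace X] (ρ₁ ρ₂ : X ⟶ D) (h : ρ₁ ≫ f = ρ₂ ≫ f)
    [Nonempty Z] (z : Z ⟶ X) (hz : z ≫ ρ₁ = z ≫ ρ₂) : ρ₁ = ρ₂ := by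
  let X' : Over C := Over.mk (ρ₁ ≫ f)
  let Y' : Over C := Over.mk f
  let Z' : Over C := Over.mk (z ≫ ρ₁ ≫ f)
  let f' : X' ⟶ Y' := Over.homMk ρ₁
  let g' : X' ⟶ Y' := Over.homMk ρ₂ h.symm
  let z' : Z' ⟶ X' := Over.homMk z
  have : IsSeparated Y'.hom := ‹_›
  have : IsOpenImmersion (pullback.diagonal Y'.hom) :=
    inferInstanceAs (IsOpenImmersion (pullback.diagonal f))
  have hopen : IsOpenImmersion (equalizer.ι f' g').left := isOpenImmersion_equalizer_ι_left f' g'
  have hclosed : IsClosedImmersion (equalizer.ι f' g').left := inferInstance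
  set ι : (equalizer f' g').left ⟶ X := (equalizer.ι f' g').left with hι
  have hzeq : z' ≫ f' = z' ≫ g' := by
    ext1
    exact hz
  have hfac : (equalizer.lift z' hzeq).left ≫ ι = z := by
    rw [hι, ← Over.comp_left, equalizer.lift_ι]
    rfl
  have hclopen : IsClopen (Set.range ι.base) :=
    ⟨(Scheme.Hom.isClosedEmbedding ι).isClosed_range, (Scheme.Hom.isOpenEmbedding ι).isOpen_range⟩
  have hne : (Set.range ι.base).Nonempty := by
    obtain ⟨z0⟩ := ‹Nonempty Z›
    exact ⟨ι.base ((equalizer.lift z' hzeq).left.base z0), Set.mem_range_self _⟩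
  have huniv : Set.range ι.base = Set.univ := hclopen.eq_univ hne
  have hiso : IsIso ι := by
    apply isIso_of_isOpenImmersion_of_opensRange_eq_top
    ext x
    simp [huniv]
  rw [← cancel_epi ι]
  exact congr($(equalizer.condition f' g').left)

/-- Let f : D → C be a morphism, τ an automorphism of C and σ an automorphism of D with σ f = f τ; call
σ a good lifting of τ when the fixed-point scheme of σ is the full preimage of that of τ, i.e. every
morphism z : Z → D with z f τ = z f has z σ = z. If f is etale, separated and surjective with D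
connected and the fixed-point scheme of τ is non-empty (some point of C, with its residue field, is
fixed by τ), then τ has at most one good lifting. (The published statement is for a finite etale
cover of smooth projective irreducible curves over a field and a non-trivial τ; the argument uses
only the hypotheses stated here.) -/
theorem result {C D : Scheme.{u}} (f : D ⟶ C) [Etale f] [IsSeparated f] [Surjective f]
    [ConnectedSpace D] (τ : C ≅ C) (σ σ' : D ≅ D)
    (hσ : σ.hom ≫ f = f ≫ τ.hom) (hσ' : σ'.hom ≫ f = f ≫ τ.hom)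
    (good : ∀ (Z : Scheme.{u}) (z : Z ⟶ D), z ≫ f ≫ τ.hom = z ≫ f → z ≫ σ.hom = z)
    (good' : ∀ (Z : Scheme.{u}) (z : Z ⟶ D), z ≫ f ≫ τ.hom = z ≫ f → z ≫ σ'.hom = z)
    (x : C) (hx : C.fromSpecResidueField x ≫ τ.hom = C.fromSpecResidueField x) :
    σ = σ' := by
  obtain ⟨d, hd⟩ := f.surjective x
  subst hd
  let z := D.fromSpecResidueField d
  have hzf : z ≫ f = Spec.map (f.residueFieldMap d) ≫ C.fromSpecResidueField (f.base d) :=
    (Scheme.Hom.SpecMap_residueFieldMap_fromSpecResidueField f d).symm
  have hzτ : z ≫ f ≫ τ.hom = z ≫ f := by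
    rw [← Category.assoc, hzf, Category.assoc, hx]
  have h1 := good _ z hzτ
  have h2 := good' _ z hzτ
  have hinv : σ.inv ≫ f = f ≫ τ.inv := by
    rw [Iso.inv_comp_eq, ← Category.assoc, hσ, Category.assoc, Iso.hom_inv_id, Category.comp_id]
  have key : σ'.hom ≫ σ.inv = 𝟙 D := by
    apply rigidity f (σ'.hom ≫ σ.inv) (𝟙 D) ?_ z ?_
    · rw [Category.assoc, hinv, ← Category.assoc, hσ', Category.assoc, Iso.hom_inv_id,
        Category.comp_id, Category.id_comp]
    · rw [← Category.assoc, h2, Category.comp_id]
      nth_rw 1 [← h1]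
      rw [Category.assoc, Iso.hom_inv_id, Category.comp_id]
  ext1
  have := (Iso.comp_inv_eq σ).mp key
  rw [Category.id_comp] at this
  exact this.symm

end Groth.Agent.S15322
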