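import Groth.Statements.S15327
import Mathlib.Tactic
import Mathlib.LinearAlgebra.Matrix.ToLinearEquiv
import Mathlib.LinearAlgebra.Matrix.DotProduct

set_option autoImplicit false
open ArLef ArLef.BlowupGraph

namespace Groth.Agent.S15327

section Helpers

open Matrix

variable {n : ℕ} (G : ArLef.BlowupGraph n)

theorem tt_rec (k m : Fin n) :
    G.tt k m = if m < k then 0 else if m = k then 1 else ∑ p ∈ G.par m, G.tt k p := by
  unfold ArLef.BlowupGraph.tt
  rw [ArLef.BlowupGraph.ttN]
  simp only [Fin.val_fin_lt, Fin.val_inj]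
  split_ifs with h1 h2
  · rfl
  · rfl
  · rw [Finset.sum_attach _ (fun p => G.ttN k.1 p)]
    unfold ArLef.BlowupGraph.parN
    rw [dif_pos m.2, Finset.sum_map]
    rfl

noncomputable def P : Matrix (Fin n) (Fin n) ℚ :=
  fun m p => if m = p then 1 else if p ∈ G.par m then -1 else 0

noncomputable def T : Matrix (Fin n) (Fin n) ℚ := fun k m => (G.tt k m : ℚ)

theorem not_mem_par_self (m : Fin n) : m ∉ G.par m := fun h => lt_irrefl _ (G.par_lt m m h)

theorem T_mul_Pt : T G * (P G)ᵀ = 1 := by
  ext k m
  rw [Matrix.mul_apply]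
  simp only [Matrix.transpose_apply, P, T]
  have h1 : ∀ p, (G.tt k p : ℚ) * (if m = p then 1 else if p ∈ G.par m then -1 else 0) =
      (if p = m then (G.tt k m : ℚ) else 0) - (if p ∈ G.par m then (G.tt k p : ℚ) else 0) := by
    intro p
    by_cases hmp : m = p
    · subst hmp
      simp [not_mem_par_self G m]
    · have : ¬ p = m := fun h => hmp h.symm
      by_cases hp : p ∈ G.par m <;> simp [hmp, this, hp]
  simp_rw [h1]
  rw [Finset.sum_sub_distrib, Finset.sum_ite_eq' Finset.univ m, if_pos (Finset.mem_univ _),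
    ← Finset.sum_filter, Finset.filter_mem_eq_inter, Finset.univ_inter]
  have hlt : ∀ p ∈ G.par m, m ≤ k → G.tt k p = 0 := by
    intro p hp hmk
    rw [tt_rec G k p, if_pos (lt_of_lt_of_le (G.par_lt m p hp) hmk)]
  rw [tt_rec G k m]
  rcases lt_trichotomy m k with h | h | h
  · rw [if_pos h, Matrix.one_apply_ne (ne_of_gt h)]
    rw [Finset.sum_eq_zero]
    · simp
    · intro p hp
      rw [hlt p hp h.le]; simp
  · subst h
    rw [if_neg (lt_irrefl _), if_pos rfl, Matrix.one_apply_eq]
    rw [Finset.sum_eq_zero]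
    · simp
    · intro p hp
      rw [hlt p hp le_rfl]; simp
  · rw [if_neg (not_lt.mpr h.le), if_neg (ne_of_gt h), Matrix.one_apply_ne (ne_of_lt h)]
    push_cast
    ring

theorem par_eq_pair {m p q : Fin n} (hp : p ∈ G.par m) (hq : q ∈ G.par m) (hpq : p < q) :
    G.par m = {p, q} := by
  symm
  apply Finset.eq_of_subset_of_card_le
  · intro x hx
    rw [Finset.mem_insert, Finset.mem_singleton] at hx
    rcases hx with rfl | rfl <;> assumption
  · rw [Finset.card_pair (ne_of_lt hpq)]
    exact G.card_le_two m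

theorem adj_iff_of_lt {p q : Fin n} (hpq : p < q) :
    G.Adj p q ↔ (p ∈ G.par q ∧ ∀ m, q < m → G.par m ≠ {p, q}) := by
  unfold ArLef.BlowupGraph.Adj
  constructor
  · rintro (h | h)
    · exact h
    · exact absurd (G.par_lt p q h.1) (not_lt.mpr hpq.le)
  · intro h; exact Or.inl h

theorem adj_comm (p q : Fin n) : G.Adj p q ↔ G.Adj q p := by
  unfold ArLef.BlowupGraph.Adj
  exact or_comm

theorem card_both_le_one {p q : Fin n} (hpq : p < q) :
    (Finset.univ.filter fun m => p ∈ G.par m ∧ q ∈ G.par m).card ≤ 1 := by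
  rw [Finset.card_le_one]
  intro m1 hm1 m2 hm2
  rw [Finset.mem_filter] at hm1 hm2
  by_contra hne
  rcases lt_or_gt_of_ne hne with h | h
  · have := (G.meet_of_two m2 p q hm2.2.1 hm2.2.2 hpq).2 m1 (G.par_lt m1 q hm1.2.2) h
    exact this (par_eq_pair G hm1.2.1 hm1.2.2 hpq)
  · have := (G.meet_of_two m1 p q hm1.2.1 hm1.2.2 hpq).2 m2 (G.par_lt m2 q hm2.2.2) h
    exact this (par_eq_pair G hm2.2.1 hm2.2.2 hpq)

theorem offdiag_of_lt {p q : Fin n} (hpq : p < q) :
    ∑ m, P G m p * P G m q = -(if G.Adj p q then (1 : ℚ) else 0) := by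
  have h1 : ∀ m, P G m p * P G m q =
      (if m = q then (if p ∈ G.par q then (-1 : ℚ) else 0) else 0) +
        (if p ∈ G.par m ∧ q ∈ G.par m then (1 : ℚ) else 0) := by
    intro m
    unfold P
    by_cases hmq : m = q
    · subst hmq
      have hne : ¬ m = p := fun h => (ne_of_lt hpq) h.symm
      simp [hne, not_mem_par_self G m]
    · by_cases hmp : m = p
      · subst hmp
        have hq' : q ∉ G.par m := fun h => absurd (G.par_lt m q h) (not_lt.mpr hpq.le)
        simp [hmq, hq', not_mem_par_self G m]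
      · by_cases h1 : p ∈ G.par m <;> by_cases h2 : q ∈ G.par m <;> simp [hmq, hmp, h1, h2]
  simp_rw [h1]
  rw [Finset.sum_add_distrib, Finset.sum_ite_eq' Finset.univ q, if_pos (Finset.mem_univ _),
    Finset.sum_boole]
  have hcard := card_both_le_one G hpq
  have hadj := adj_iff_of_lt G hpq
  by_cases hpar : p ∈ G.par q
  · rw [if_pos hpar]
    by_cases hex : ∃ m, p ∈ G.par m ∧ q ∈ G.par m
    · obtain ⟨m, hm1, hm2⟩ := hex
      have hc : (Finset.univ.filter fun m => p ∈ G.par m ∧ q ∈ G.par m).card = 1 := by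
        apply le_antisymm hcard
        exact Finset.card_pos.mpr ⟨m, Finset.mem_filter.mpr ⟨Finset.mem_univ _, hm1, hm2⟩⟩
      rw [hc, if_neg]
      · norm_num
      · intro hA
        exact (hadj.mp hA).2 m (G.par_lt m q hm2) (par_eq_pair G hm1 hm2 hpq)
    · have hc : (Finset.univ.filter fun m => p ∈ G.par m ∧ q ∈ G.par m).card = 0 := by
        rw [Finset.card_eq_zero, Finset.filter_eq_empty_iff]
        intro m _ hm
        exact hex ⟨m, hm⟩
      rw [hc, if_pos]
      · norm_num
      · refine hadj.mpr ⟨hpar, fun m _ hm => hex ⟨m, ?_⟩⟩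
        rw [hm]; simp
  · rw [if_neg hpar, if_neg (fun h => hpar (hadj.mp h).1)]
    have hc : (Finset.univ.filter fun m => p ∈ G.par m ∧ q ∈ G.par m).card = 0 := by
      rw [Finset.card_eq_zero, Finset.filter_eq_empty_iff]
      intro m _ hm
      exact hpar (G.meet_of_two m p q hm.1 hm.2 hpq).1
    rw [hc]; norm_num

theorem diag_entry (p : Fin n) : ∑ m, P G m p * P G m p = -(G.selfInt p : ℚ) := by
  have h1 : ∀ m, P G m p * P G m p =
      (if m = p then (1 : ℚ) else 0) + (if p ∈ G.par m then (1 : ℚ) else 0) := by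
    intro m
    unfold P
    by_cases hmp : m = p
    · subst hmp
      simp [not_mem_par_self G m]
    · by_cases h1 : p ∈ G.par m <;> simp [hmp, h1]
  simp_rw [h1]
  rw [Finset.sum_add_distrib, Finset.sum_ite_eq' Finset.univ p, if_pos (Finset.mem_univ _),
    Finset.sum_boole]
  unfold ArLef.BlowupGraph.selfInt
  push_cast
  ring

theorem mat_eq : G.mat = -((P G)ᵀ * P G) := by
  ext p q
  rw [Matrix.neg_apply, Matrix.mul_apply]
  simp only [Matrix.transpose_apply]
  unfold ArLef.BlowupGraph.mat
  rcases lt_trichotomy p q with h | h | h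
  · rw [if_neg (ne_of_lt h), offdiag_of_lt G h, neg_neg]
  · subst h
    rw [if_pos rfl, diag_entry, neg_neg]
  · rw [if_neg (ne_of_gt h)]
    have : ∑ m, P G m p * P G m q = ∑ m, P G m q * P G m p :=
      Finset.sum_congr rfl fun m _ => mul_comm _ _
    rw [this, offdiag_of_lt G h, neg_neg]
    simp only [adj_comm G p q]

noncomputable def W : Matrix (Fin n) (Fin n) ℚ := (T G)ᵀ * T G

theorem W_apply (i j : Fin n) : W G i j = (G.mult i j : ℚ) := by
  unfold W ArLef.BlowupGraph.mult
  rw [Matrix.mul_apply]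
  push_cast
  rfl

theorem Pt_mul_T : (P G)ᵀ * T G = 1 := mul_eq_one_comm.mp (T_mul_Pt G)

theorem P_mul_Tt : P G * (T G)ᵀ = 1 := by
  have := congrArg Matrix.transpose (T_mul_Pt G)
  rwa [Matrix.transpose_mul, Matrix.transpose_transpose, Matrix.transpose_one] at this

theorem Tt_mul_P : (T G)ᵀ * P G = 1 := mul_eq_one_comm.mp (P_mul_Tt G)

theorem W_mul_mat : W G * G.mat = -1 := by
  rw [mat_eq, W, Matrix.mul_neg, Matrix.mul_assoc, ← Matrix.mul_assoc (T G), T_mul_Pt,
    Matrix.one_mul, Tt_mul_P]

theorem mat_symm (i j : Fin n) : G.mat i j = G.mat j i := by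
  have h : G.matᵀ = G.mat := by
    rw [mat_eq, Matrix.transpose_neg, Matrix.transpose_mul, Matrix.transpose_transpose]
  have := congrFun (congrFun h j) i
  rwa [Matrix.transpose_apply] at this

theorem sum_ext_zero (I : Finset (Fin n)) (f : Fin n → ℚ) (hf : ∀ x, x ∉ I → f x = 0) :
    ∑ x, f x = ∑ a : I, f a.1 := by
  rw [Finset.sum_coe_sort I f]
  exact (Finset.sum_subset (Finset.subset_univ I) (fun x _ hx => hf x hx)).symm

theorem det_sub_ne_zero (I : Finset (Fin n)) :
    (G.mat.submatrix (fun x : I => x.1) (fun x : I => x.1)).det ≠ 0 := by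
  intro hdet
  obtain ⟨v, hv0, hv⟩ := Matrix.exists_mulVec_eq_zero_iff.mpr hdet
  let v' : Fin n → ℚ := fun x => if h : x ∈ I then v ⟨x, h⟩ else 0
  have hv'1 : ∀ a : I, v' a.1 = v a := fun a => by simp [v', a.2]
  have hv'0 : ∀ x, x ∉ I → v' x = 0 := fun x hx => by simp [v', hx]
  have h1 : ∀ a : I, (G.mat *ᵥ v') a.1 = 0 := by
    intro a
    have := congrFun hv a
    rw [Matrix.mulVec, dotProduct] at this
    rw [Matrix.mulVec, dotProduct,
      sum_ext_zero I (fun x => G.mat a.1 x * v' x) (fun x hx => by simp [hv'0 x hx])]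
    rw [Pi.zero_apply] at this
    rw [← this]
    apply Finset.sum_congr rfl
    intro b _
    simp only [Matrix.submatrix_apply, hv'1]
  have h2 : v' ⬝ᵥ (G.mat *ᵥ v') = 0 := by
    rw [dotProduct]
    apply Finset.sum_eq_zero
    intro x _
    by_cases hx : x ∈ I
    · rw [h1 ⟨x, hx⟩, mul_zero]
    · rw [hv'0 x hx, zero_mul]
  have h3 : (P G *ᵥ v') ⬝ᵥ (P G *ᵥ v') = 0 := by
    rw [mat_eq, Matrix.neg_mulVec, dotProduct_neg, ← Matrix.mulVec_mulVec, Matrix.dotProduct_mulVec,
      Matrix.vecMul_transpose] at h2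
    exact neg_eq_zero.mp h2
  have h4 : P G *ᵥ v' = 0 := dotProduct_self_eq_zero.mp h3
  have h5 : v' = 0 := by
    have := congrArg (fun w => (T G)ᵀ *ᵥ w) h4
    simp only [Matrix.mulVec_mulVec, Tt_mul_P, Matrix.one_mulVec, Matrix.mulVec_zero] at this
    exact this
  apply hv0
  funext a
  have := congrFun h5 a.1
  rw [hv'1] at this
  exact this

theorem pairing_eq_zero_of_mem (I : Finset (Fin n)) (i j : Fin n) (hj : j ∈ I) :
    G.pairing I i j = 0 := by
  unfold ArLef.BlowupGraph.pairing
  have hD : IsUnit (G.mat.submatrix (fun x : I => x.1) (fun x : I => x.1)).det :=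
    isUnit_iff_ne_zero.mpr (det_sub_ne_zero G I)
  have hinv := Matrix.nonsing_inv_mul _ hD
  have h1 : ∀ a : I, ∑ b : I, G.mat i a.1 *
      (G.mat.submatrix (fun x : I => x.1) (fun x : I => x.1))⁻¹ a b * G.mat b.1 j =
      G.mat i a.1 * (if a = ⟨j, hj⟩ then 1 else 0) := by
    intro a
    have := congrFun (congrFun hinv a) ⟨j, hj⟩
    rw [Matrix.mul_apply, Matrix.one_apply] at this
    rw [← this, Finset.mul_sum]
    apply Finset.sum_congr rfl
    intro b _
    rw [mul_assoc]
    rfl
  simp_rw [h1]
  simp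

theorem inner_sum (I : Finset (Fin n)) (i i' : Fin n) (hi : i ∉ I) :
    ∑ j ∈ Finset.univ.filter (fun j => j ∉ I), (G.mult i j : ℚ) * G.pairing I i' j =
      -(if i = i' then (1 : ℚ) else 0) := by
  have h1 : ∑ j ∈ Finset.univ.filter (fun j => j ∉ I), (G.mult i j : ℚ) * G.pairing I i' j =
      ∑ j, W G i j * G.pairing I i' j := by
    rw [Finset.sum_filter]
    apply Finset.sum_congr rfl
    intro j _
    by_cases hj : j ∈ I
    · simp [hj, pairing_eq_zero_of_mem G I i' j hj]
    · simp [hj, W_apply]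
  rw [h1]
  unfold ArLef.BlowupGraph.pairing
  simp_rw [mul_sub]
  rw [Finset.sum_sub_distrib]
  have h2 : ∑ j, W G i j * G.mat i' j = -(if i = i' then (1 : ℚ) else 0) := by
    have := congrFun (congrFun (W_mul_mat G) i) i'
    rw [Matrix.mul_apply, Matrix.neg_apply, Matrix.one_apply] at this
    rw [← this]
    apply Finset.sum_congr rfl
    intro j _
    rw [mat_symm G i' j]
  have h3 : ∑ j, W G i j * ∑ a : I, ∑ b : I, G.mat i' a.1 *
      (G.mat.submatrix (fun x : I => x.1) (fun x : I => x.1))⁻¹ a b * G.mat b.1 j = 0 := by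
    simp_rw [Finset.mul_sum]
    rw [Finset.sum_comm]
    apply Finset.sum_eq_zero
    intro a _
    rw [Finset.sum_comm]
    apply Finset.sum_eq_zero
    intro b _
    have := congrFun (congrFun (W_mul_mat G) i) b.1
    have hib : i ≠ b.1 := fun h => hi (by rw [h]; exact b.2)
    rw [Matrix.mul_apply, Matrix.neg_apply, Matrix.one_apply_ne hib] at this
    calc ∑ j, W G i j * (G.mat i' a.1 *
          (G.mat.submatrix (fun x : I => x.1) (fun x : I => x.1))⁻¹ a b * G.mat b.1 j)
        = G.mat i' a.1 * (G.mat.submatrix (fun x : I => x.1) (fun x : I => x.1))⁻¹ a b *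
            ∑ j, W G i j * G.mat j b.1 := by
          rw [Finset.mul_sum]
          apply Finset.sum_congr rfl
          intro j _
          rw [mat_symm G b.1 j]
          ring
      _ = 0 := by rw [this]; simp
  rw [h2, h3, sub_zero]

end Helpers

/-- Let Φ be the labelled dual graph of the exceptional curves of n successive blow-ups of closed points
starting from a regular surface with algebraically closed residue fields (vertices = exceptional
curves in order of creation, labels = intersection numbers), I any set of vertices (the curves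
contracted to a normal surface) and σ a permutation of the vertices preserving all intersection
numbers and the set I. Let e_{ij} be the multiplicity of E_i × E_j in the fibre square of the
composite blow-down (the sum over k of c^k_i c^k_j, c^k the total transform of the k-th exceptional
curve) and (E_i · E_j)_I Mumford's rational intersection number of the images after contracting I.
Then the sum over i, j outside I of e_{ij} (σ E_i · E_j)_I equals minus the number of σ-fixed
vertices outside I. (Stated for the dual graphs realized with all residue fields equal to the base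
field, which is the case the published argument realizes geometrically.) -/
theorem result (n : ℕ) (G : ArLef.BlowupGraph n) (I : Finset (Fin n))
    (σ : Equiv.Perm (Fin n)) (hσ : ∀ i j : Fin n, G.mat (σ i) (σ j) = G.mat i j)
    (hσI : ∀ i : Fin n, σ i ∈ I ↔ i ∈ I) :
    G.lNum I σ = ArLef.BlowupGraph.rNum I σ := by
  unfold ArLef.BlowupGraph.lNum ArLef.BlowupGraph.rNum
  rw [Finset.sum_congr rfl (fun i hi => inner_sum G I i (σ i) (Finset.mem_filter.mp hi).2)]
  rw [Finset.sum_neg_distrib, Finset.sum_boole, Finset.filter_filter]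
  congr 3
  ext x
  simp only [Finset.mem_filter, Finset.mem_univ, true_and]
  exact ⟨fun h => ⟨h.1, h.2.symm⟩, fun h => ⟨h.1, h.2.symm⟩⟩

end Groth.Agent.S15327
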