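import Groth.Statements.S15329

set_option autoImplicit false
open TensorProduct LaurentPolynomial
universe u v
open CAlg

namespace Groth.Agent.S15329

theorem gen_eq (k : Type u) [Field k] (E : Type v) [AddCommGroup E] [Module k E]
    (α : Module.Dual k E) (p n : ℤ) (v : E) :
    T p * (TensorProduct.AlgebraTensorModule.rid k k[T;T⁻¹] k[T;T⁻¹])
      (LinearMap.baseChange k[T;T⁻¹] α (T n ⊗ₜ[k] v)) = α v • (T (p + n) : k[T;T⁻¹]) := by
  rw [LinearMap.baseChange_tmul, TensorProduct.AlgebraTensorModule.rid_tmul, mul_smul_comm, ← T_add]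

theorem smul_mem_range (k : Type u) [Field k] (c : k) (z : k[T;T⁻¹])
    (hz : z ∈ (Polynomial.toLaurent : Polynomial k →+* k[T;T⁻¹]).range) :
    c • z ∈ (Polynomial.toLaurent : Polynomial k →+* k[T;T⁻¹]).range := by
  obtain ⟨f, rfl⟩ := hz
  refine ⟨Polynomial.C c * f, ?_⟩
  rw [Polynomial.toLaurent_C_mul_eq, smul_eq_C_mul]

theorem T_nonneg_mem_range (k : Type u) [Field k] (n : ℤ) (hn : 0 ≤ n) :
    (T n : k[T;T⁻¹]) ∈ (Polynomial.toLaurent : Polynomial k →+* k[T;T⁻¹]).range := by
  obtain ⟨m, rfl⟩ := Int.eq_ofNat_of_zero_le hn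
  exact ⟨Polynomial.X ^ m, Polynomial.toLaurent_X_pow m⟩

theorem eq_zero_of_smul_T_neg_one_mem (k : Type u) [Field k] (c : k)
    (h : c • (T (-1) : k[T;T⁻¹]) ∈ (Polynomial.toLaurent : Polynomial k →+* k[T;T⁻¹]).range) :
    c = 0 := by
  obtain ⟨f, hf⟩ := h
  have h1 : trunc (Polynomial.toLaurent f) = f := Polynomial.trunc_toLaurent f
  rw [hf, smul_eq_C_mul, trunc_C_mul_T] at h1
  simp only [show ¬ (0 : ℤ) ≤ -1 by decide, if_false] at h1
  rw [← h1, map_zero, smul_eq_C_mul] at hf
  have h2 : C c * T (-1) * T 1 = (0 : k[T;T⁻¹]) := by rw [← hf, zero_mul]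
  rw [mul_T_assoc] at h2
  simp only [show (-1 : ℤ) + 1 = 0 by decide, T_zero, mul_one] at h2
  have h3 := congrArg (fun q : k[T;T⁻¹] => q.coeff 0) h2
  simpa using h3

/-- Let k be a field, E a k-vector space and F an increasing ℤ-indexed filtration of E by subspaces. In
E[T, T⁻¹] = k[T, T⁻¹] ⊗ E the Rees module of (E, F) is the k-span of the elements T^n ⊗ v with v ∈ F
n; it is the module of global sections of the equivariant bundle on the affine line attached to (E,
F), and E[T, T⁻¹] that of its sections away from the origin. For a linear form α on E and an integer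
p, the k[T, T⁻¹]-linear form m ↦ T^p · (id ⊗ α)(m) is the invariant section α of the dual bundle
away from the origin multiplied by T^p, and it extends over the origin exactly when it maps the Rees
module into the polynomial subring k[T]. This happens if and only if α vanishes on F(−p − 1); so the
dual equivariant bundle corresponds to the dual space filtered by the annihilators of the F(−p − 1).
(The published statement has the annihilator of F(−p + 1), over the complex numbers; for E = k with
F n = 0 for n < 0 and F n = E for n ≥ 0 the form with p = 0 and α ≠ 0 maps the Rees module into k[T]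
although α does not vanish on F(1) = E, and the published argument gives the index −p − 1, which
this row states, over any field.) -/
theorem result
    (k : Type u) [Field k] (E : Type v) [AddCommGroup E] [Module k E]
    (F : ℤ → Submodule k E) (hF : Monotone F)
    (α : Module.Dual k E) (p : ℤ) :
    (∀ m ∈ Submodule.span k {x : k[T;T⁻¹] ⊗[k] E | ∃ (n : ℤ) (v : E), v ∈ F n ∧ x = T n ⊗ₜ[k] v},
      T p * (TensorProduct.AlgebraTensorModule.rid k k[T;T⁻¹] k[T;T⁻¹]) (LinearMap.baseChange k[T;T⁻¹] α m)
        ∈ (Polynomial.toLaurent : Polynomial k →+* k[T;T⁻¹]).range) ↔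
    ∀ v ∈ F (-p - 1), α v = 0 := by
  constructor
  · intro h v hv
    have hm := h (T (-p - 1) ⊗ₜ[k] v) (Submodule.subset_span ⟨-p - 1, v, hv, rfl⟩)
    rw [gen_eq] at hm
    have : p + (-p - 1) = -1 := by ring
    rw [this] at hm
    exact eq_zero_of_smul_T_neg_one_mem k _ hm
  · intro h m hm
    induction hm using Submodule.span_induction with
    | mem x hx =>
      obtain ⟨n, v, hv, rfl⟩ := hx
      rw [gen_eq]
      by_cases hn : 0 ≤ p + n
      · exact smul_mem_range k _ _ (T_nonneg_mem_range k _ hn)
      · have hle : n ≤ -p - 1 := by omega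
        rw [h v (hF hle hv), zero_smul]
        exact Subring.zero_mem _
    | zero =>
      simp only [map_zero, mul_zero]
      exact Subring.zero_mem _
    | add x y _ _ hx hy =>
      rw [map_add, map_add, mul_add]
      exact Subring.add_mem _ hx hy
    | smul c x _ hx =>
      have e1 : LinearMap.baseChange k[T;T⁻¹] α (c • x) = c • LinearMap.baseChange k[T;T⁻¹] α x :=
        LinearMap.map_smul_of_tower _ c x
      have e2 : (TensorProduct.AlgebraTensorModule.rid k k[T;T⁻¹] k[T;T⁻¹])
          (c • LinearMap.baseChange k[T;T⁻¹] α x) =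
          c • (TensorProduct.AlgebraTensorModule.rid k k[T;T⁻¹] k[T;T⁻¹])
            (LinearMap.baseChange k[T;T⁻¹] α x) :=
        LinearMap.map_smul_of_tower _ c _
      rw [e1, e2, mul_smul_comm]
      exact smul_mem_range k _ _ hx

end Groth.Agent.S15329
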