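import Groth.Statements.S1534
import Groth.Agent.Lib.Helper72.CurveH0

set_option autoImplicit false
universe u
open CategoryTheory CategoryTheory.Limits AlgebraicGeometry
open Curves

namespace Groth.Agent.S1534

/-- A proper scheme of dimension one over a field k whose global functions are k is connected, all of
its local rings are Cohen–Macaulay, and every irreducible component has dimension one. -/
theorem result (k : Type u) [Field k] (X : Scheme.{u}) [X.Over (Spec (CommRingCat.of k))]
    [IsProper (X ↘ (Spec (CommRingCat.of k)))] (hdim : topologicalKrullDim X = 1) (h0 : Module.finrank k (Coh.HH X (Coh.structureModule X) 0) = 1) :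
    ConnectedSpace X ∧ (∀ x : X, LocCoh.IsCohenMacaulayLocalRing (X.presheaf.stalk x)) ∧
      ∀ Z ∈ irreducibleComponents (X : Type u), topologicalKrullDim Z = 1 := by
  haveI : IsLocallyNoetherian X :=
    LocallyOfFiniteType.isLocallyNoetherian (X ↘ (Spec (CommRingCat.of k)))
  haveI : CompactSpace X :=
    QuasiCompact.compactSpace_of_compactSpace (X ↘ (Spec (CommRingCat.of k)))
  haveI : IsNoetherian X := {}
  haveI : PreconnectedSpace X := Groth.Agent.Lib.Helper72.CurveH0.preconnectedSpace k X h0
  haveI : Nonempty X := by
    have h1 : (1 : WithBot ℕ∞) ≤ topologicalKrullDim X := hdim.ge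
    unfold topologicalKrullDim at h1
    rw [Order.one_le_krullDim_iff] at h1
    obtain ⟨a, -, -⟩ := h1
    exact a.isIrreducible'.nonempty.to_type
  refine ⟨ConnectedSpace.mk ‹_›, fun x => Groth.Agent.Lib.Helper72.CurveH0.isCM_stalk k X hdim h0 x, fun Z hZ =>
    Groth.Agent.Lib.Helper72.CurveH0.dim_component X hdim Z hZ⟩

end Groth.Agent.S1534
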