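import Groth.Statements.S15347
import Mathlib.AlgebraicGeometry.Stalk
import Mathlib.AlgebraicGeometry.Morphisms.ClosedImmersion
import Mathlib.AlgebraicGeometry.Morphisms.Proper

set_option autoImplicit false
set_option linter.style.haveILetI false
universe u
open CategoryTheory CategoryTheory.Limits AlgebraicGeometry
open Mor

namespace Groth.Agent.S15347


open AlgebraicGeometry CategoryTheory CategoryTheory.Limits TopologicalSpace Opposite

set_option backward.isDefEq.respectTransparency false in
lemma part1 {X Y : Scheme.{u}} (f : Y ⟶ X) [IsImmersion f] (S : ValuativeCommSq f)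
    (l₀ : Spec (CommRingCat.of (IsLocalRing.ResidueField S.R)) ⟶ Y)
    (hl₀ : l₀ ≫ f = Spec.map (CommRingCat.ofHom (IsLocalRing.residue S.R)) ≫ S.i₂) :
    S.commSq.HasLift := by
  have hcl : S.i₂ (IsLocalRing.closedPoint S.R) ∈ f.coborderRange := by
    have h1 : (l₀ ≫ f) default = (Spec.map (CommRingCat.ofHom (IsLocalRing.residue S.R)) ≫ S.i₂)
        default := by rw [hl₀]
    rw [Scheme.Hom.comp_apply, Scheme.Hom.comp_apply] at h1
    have h2 : (Spec.map (CommRingCat.ofHom (IsLocalRing.residue S.R))) default =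
        IsLocalRing.closedPoint S.R := IsLocalRing.PrimeSpectrum.comap_residue _ _
    rw [h2] at h1
    rw [← h1]
    exact subset_coborder ⟨_, rfl⟩
  have htop : S.i₂ ⁻¹ᵁ f.coborderRange = ⊤ :=
    Scheme.preimage_eq_top_of_closedPoint_mem (R := CommRingCat.of S.R) S.i₂ hcl
  have hrange : Set.range S.i₂ ⊆ Set.range f.coborderRange.ι := by
    rintro _ ⟨p, rfl⟩
    have hp : p ∈ S.i₂ ⁻¹ᵁ f.coborderRange := by rw [htop]; trivial
    simpa using hp
  let i₂' : Spec (.of S.R) ⟶ f.coborderRange := IsOpenImmersion.lift f.coborderRange.ι S.i₂ hrange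
  have hi₂' : i₂' ≫ f.coborderRange.ι = S.i₂ := IsOpenImmersion.lift_fac _ _ _
  have hE : ValuativeCriterion.Existence f.liftCoborder := by
    have h0 : UniversallyClosed f.liftCoborder := inferInstance
    rw [UniversallyClosed.eq_valuativeCriterion] at h0
    exact h0.1
  let S' : ValuativeCommSq f.liftCoborder :=
    { R := S.R, K := S.K, i₁ := S.i₁, i₂ := i₂',
      commSq := ⟨by
        rw [← cancel_mono f.coborderRange.ι, Category.assoc, Category.assoc, hi₂',
          Scheme.Hom.liftCoborder_ι]
        exact S.commSq.w⟩ }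
  obtain ⟨⟨l⟩⟩ := hE S'
  have h3 : l.l ≫ f = S.i₂ := by
    have h4 : l.l ≫ f.liftCoborder ≫ f.coborderRange.ι = S.i₂ := by
      rw [← Category.assoc, l.fac_right, hi₂']
    rwa [Scheme.Hom.liftCoborder_ι] at h4
  exact ⟨⟨⟨l.l, l.fac_left, h3⟩⟩⟩

set_option backward.isDefEq.respectTransparency false in
lemma part2 {X Y : Scheme.{u}} (f : Y ⟶ X) [IsImmersion f] (A : Type u) [CommRing A] [IsDomain A]
    (s : Spec (CommRingCat.of A) ⟶ X) (D : Set ↥(Spec (CommRingCat.of A))) (hD : Dense D)
    (hl : ∀ p ∈ D, ∃ l : Spec ((Spec (CommRingCat.of A)).residueField p) ⟶ Y,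
            l ≫ f = (Spec (CommRingCat.of A)).fromSpecResidueField p ≫ s) :
    ∃ U : (Spec (CommRingCat.of A)).Opens, (U : Set ↥(Spec (CommRingCat.of A))).Nonempty ∧
            ∃ l : (U : Scheme.{u}) ⟶ Y, l ≫ f = U.ι ≫ s := by
  have hDr : ∀ p ∈ D, s p ∈ Set.range f := by
    intro p hp
    obtain ⟨l, hl'⟩ := hl p hp
    have h1 : (l ≫ f) default =
        ((Spec (CommRingCat.of A)).fromSpecResidueField p ≫ s) default := by rw [hl']
    rw [Scheme.Hom.comp_apply, Scheme.Hom.comp_apply, Scheme.fromSpecResidueField_apply] at h1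
    exact ⟨_, h1⟩
  let W : (Spec (CommRingCat.of A)).Opens := s ⁻¹ᵁ f.coborderRange
  have hDW : D ⊆ (W : Set ↥(Spec (CommRingCat.of A))) := fun p hp => subset_coborder (hDr p hp)
  have hne : (W : Set ↥(Spec (CommRingCat.of A))).Nonempty := hD.nonempty.mono hDW
  let sW : W.toScheme ⟶ f.coborderRange.toScheme := s ∣_ f.coborderRange
  have hsW : sW ≫ f.coborderRange.ι = W.ι ≫ s := morphismRestrict_ι s f.coborderRange
  let π := pullback.snd f.liftCoborder sW
  haveI : IsClosedImmersion π := inferInstance
  haveI : Surjective π := ⟨by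
    have hcl : IsClosed (Set.range π) := π.isClosedEmbedding.isClosed_range
    have hD' : Dense (W.ι ⁻¹' D) := hD.preimage W.ι.isOpenEmbedding.isOpenMap
    have hsub : W.ι ⁻¹' D ⊆ Set.range π := by
      intro w hw
      obtain ⟨y, hy⟩ := hDr _ hw
      have h2 : f.liftCoborder y = sW w := by
        apply f.coborderRange.ι.isEmbedding.injective
        rw [← Scheme.Hom.comp_apply, ← Scheme.Hom.comp_apply, Scheme.Hom.liftCoborder_ι, hsW,
          Scheme.Hom.comp_apply]
        exact hy
      obtain ⟨z, -, hz⟩ := Scheme.Pullback.exists_preimage_pullback (f := f.liftCoborder)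
        (g := sW) y w h2
      exact ⟨z, hz⟩
    intro w
    have h3 : closure (W.ι ⁻¹' D) ⊆ Set.range π := hcl.closure_subset_iff.mpr hsub
    exact h3 (hD' w)⟩
  haveI : IsReduced W.toScheme := isReduced_of_isOpenImmersion W.ι
  haveI : IsIso π := isIso_of_isClosedImmersion_of_surjective π
  refine ⟨W, hne, inv π ≫ pullback.fst _ _, ?_⟩
  have h5 : (inv π ≫ pullback.fst f.liftCoborder sW) ≫ f.liftCoborder ≫ f.coborderRange.ι =
      W.ι ≫ s := by
    rw [Category.assoc, pullback.condition_assoc, hsW, IsIso.inv_hom_id_assoc]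
  rwa [Scheme.Hom.liftCoborder_ι] at h5

theorem result' {X Y : Scheme.{u}} (f : Y ⟶ X) [IsImmersion f] :
    (∀ S : ValuativeCommSq f,
        (∃ l₀ : Spec (CommRingCat.of (IsLocalRing.ResidueField S.R)) ⟶ Y,
            l₀ ≫ f = Spec.map (CommRingCat.ofHom (IsLocalRing.residue S.R)) ≫ S.i₂) →
          S.commSq.HasLift) ∧
      ∀ (A : Type u) [CommRing A] [IsDomain A] (s : Spec (CommRingCat.of A) ⟶ X) (D : Set ↥(Spec (CommRingCat.of A))),
        Dense D →
        (∀ p ∈ D, ∃ l : Spec ((Spec (CommRingCat.of A)).residueField p) ⟶ Y,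
            l ≫ f = (Spec (CommRingCat.of A)).fromSpecResidueField p ≫ s) →
          ∃ U : (Spec (CommRingCat.of A)).Opens, (U : Set ↥(Spec (CommRingCat.of A))).Nonempty ∧
            ∃ l : (U : Scheme.{u}) ⟶ Y, l ≫ f = U.ι ≫ s :=
  ⟨fun S ⟨l₀, hl₀⟩ => part1 f S l₀ hl₀, fun A _ _ s D hD hl => part2 f A s D hD hl⟩



/-- Let f : Y ⟶ X be an immersion of schemes. Then: for every valuation ring A with fraction field K and
every commutative square Spec K ⟶ Y, Spec A ⟶ X over f such that some morphism from the spectrum of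
the residue field of A to Y lies over Spec A ⟶ X, the square admits a lift; and for every integral
domain A and every morphism s : Spec A ⟶ X such that the points of a dense subset of Spec A lift to
Y (the residue field of each such point maps to Y over s), there is a nonempty open subscheme U of
Spec A with a morphism U ⟶ Y over s. (The published statement is for a representable, locally
finitely presented morphism of algebraic stacks with locally Noetherian target and a quasi-compact
immersion, and also lists that f is a monomorphism; this row is the case of schemes, for any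
immersion and any target.) -/
theorem result {X Y : Scheme.{u}} (f : Y ⟶ X) [IsImmersion f] :
    (∀ S : ValuativeCommSq f,
        (∃ l₀ : Spec (CommRingCat.of (IsLocalRing.ResidueField S.R)) ⟶ Y,
            l₀ ≫ f = Spec.map (CommRingCat.ofHom (IsLocalRing.residue S.R)) ≫ S.i₂) →
          S.commSq.HasLift) ∧
      ∀ (A : Type u) [CommRing A] [IsDomain A] (s : Spec (CommRingCat.of A) ⟶ X) (D : Set ↥(Spec (CommRingCat.of A))),
        Dense D →
        (∀ p ∈ D, ∃ l : Spec ((Spec (CommRingCat.of A)).residueField p) ⟶ Y,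
            l ≫ f = (Spec (CommRingCat.of A)).fromSpecResidueField p ≫ s) →
          ∃ U : (Spec (CommRingCat.of A)).Opens, (U : Set ↥(Spec (CommRingCat.of A))).Nonempty ∧
            ∃ l : (U : Scheme.{u}) ⟶ Y, l ≫ f = U.ι ≫ s := by
  exact result' f

end Groth.Agent.S15347
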