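import Groth.Statements.S15349
import Mathlib

set_option autoImplicit false
universe u
open CategoryTheory CategoryTheory.Limits AlgebraicGeometry
open Mor

namespace Groth.Agent.S15349

section helpers
open CategoryTheory CategoryTheory.Limits AlgebraicGeometry TopologicalSpace TensorProduct


/-- An epimorphism of fields is surjective. -/
lemma surjective_of_isEpi_field (K L : Type*) [Field K] [Field L] [Algebra K L]
    [Algebra.IsEpi K L] : Function.Surjective (algebraMap K L) := by
  let R' := (Algebra.linearMap K L).range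
  rcases subsingleton_or_nontrivial (L ⧸ R') with h | _
  · rwa [Submodule.Quotient.subsingleton_iff, LinearMap.range_eq_top] at h
  have : Subsingleton ((L ⧸ R') ⊗[K] (L ⧸ R')) := by
    refine subsingleton_of_forall_eq 0 fun y ↦ ?_
    induction y with
    | zero => rfl
    | add a b e₁ e₂ => rwa [e₁, zero_add]
    | tmul x y =>
      obtain ⟨x, rfl⟩ := R'.mkQ_surjective x
      obtain ⟨y, rfl⟩ := R'.mkQ_surjective y
      obtain ⟨s, hs⟩ : ∃ s, 1 ⊗ₜ[K] s = x ⊗ₜ[K] y := by
        use x * y
        trans x ⊗ₜ 1 * 1 ⊗ₜ y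
        · simp [(Algebra.isEpi_iff_forall_one_tmul_eq K L).mp]
        · simp
      have : R'.mkQ 1 = 0 := (Submodule.Quotient.mk_eq_zero R').mpr ⟨1, map_one (algebraMap K L)⟩
      rw [← TensorProduct.map_tmul R'.mkQ R'.mkQ, ← hs, TensorProduct.map_tmul, this, zero_tmul]
  cases false_of_nontrivial_of_subsingleton ((L ⧸ R') ⊗[K] (L ⧸ R'))

lemma isIso_residueFieldMap_of_mono {X Y : Scheme.{u}} (f : Y ⟶ X) [Mono f] (y : Y) :
    IsIso (f.residueFieldMap y) := by
  have h1 : Spec.map (f.residueFieldMap y) ≫ X.fromSpecResidueField (f y) =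
      Y.fromSpecResidueField y ≫ f := Scheme.Hom.SpecMap_residueFieldMap_fromSpecResidueField f y
  haveI : Mono (Spec.map (f.residueFieldMap y)) := by
    haveI : Mono (Spec.map (f.residueFieldMap y) ≫ X.fromSpecResidueField (f y)) := by
      rw [h1]; infer_instance
    exact mono_of_mono _ (X.fromSpecResidueField (f y))
  haveI : Epi (f.residueFieldMap y) := by
    have : Mono (f.residueFieldMap y).op := Scheme.Spec.mono_of_mono_map ‹_›
    exact unop_epi_of_mono (f.residueFieldMap y).op
  algebraize [(f.residueFieldMap y).hom]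
  haveI : Algebra.IsEpi (X.residueField (f y)) (Y.residueField y) :=
    CommRingCat.epi_iff_epi.mp ‹Epi (f.residueFieldMap y)›
  have hs := surjective_of_isEpi_field (X.residueField (f y)) (Y.residueField y)
  exact (ConcreteCategory.isIso_iff_bijective _).mpr ⟨RingHom.injective _, hs⟩

lemma lift_of_mono {X Y : Scheme.{u}} (f : Y ⟶ X) [Mono f] (x : X) (hx : x ∈ Set.range f) :
    ∃ l : Spec (X.residueField x) ⟶ Y, l ≫ f = X.fromSpecResidueField x := by
  obtain ⟨y, rfl⟩ := hx
  haveI := isIso_residueFieldMap_of_mono f y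
  refine ⟨Spec.map (inv (f.residueFieldMap y)) ≫ Y.fromSpecResidueField y, ?_⟩
  rw [Category.assoc, ← Scheme.Hom.SpecMap_residueFieldMap_fromSpecResidueField,
    ← Spec.map_comp_assoc, IsIso.hom_inv_id, Spec.map_id, Category.id_comp]

/-- The lifting hypothesis. -/
def HC {X Y : Scheme.{u}} (f : Y ⟶ X) : Prop :=
  ∀ (A : Type u) [CommRing A] [IsDomain A] (s : Spec (CommRingCat.of A) ⟶ X) (D : Set ↥(Spec (CommRingCat.of A))),
        Dense D →
        (∀ p ∈ D, ∃ l : Spec ((Spec (CommRingCat.of A)).residueField p) ⟶ Y,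
            l ≫ f = (Spec (CommRingCat.of A)).fromSpecResidueField p ≫ s) →
          ∃ U : (Spec (CommRingCat.of A)).Opens, (U : Set ↥(Spec (CommRingCat.of A))).Nonempty ∧
            ∃ l : (U : Scheme.{u}) ⟶ Y, l ≫ f = U.ι ≫ s

lemma irreducible_case {X Y : Scheme.{u}} (f : Y ⟶ X) [Mono f] (hc : HC f)
    (R : Type u) [CommRing R] [IsNoetherianRing R] (φ : Spec (CommRingCat.of R) ⟶ X)
    (T : Closeds (PrimeSpectrum R)) (hT : IsIrreducible (T : Set (PrimeSpectrum R)))
    (H : ∀ T' < T, IsCompact (f ⁻¹' (φ '' (T' : Set (PrimeSpectrum R))))) :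
    IsCompact (f ⁻¹' (φ '' (T : Set (PrimeSpectrum R)))) := by
  set 𝔭 := PrimeSpectrum.vanishingIdeal (T : Set (PrimeSpectrum R)) with h𝔭
  haveI : 𝔭.IsPrime := (PrimeSpectrum.isIrreducible_iff_vanishingIdeal_isPrime).mp hT
  have hT𝔭 : (T : Set (PrimeSpectrum R)) = PrimeSpectrum.zeroLocus 𝔭 := by
    rw [h𝔭, PrimeSpectrum.zeroLocus_vanishingIdeal_eq_closure, T.isClosed.closure_eq]
  let q : Spec (CommRingCat.of (R ⧸ 𝔭)) ⟶ Spec (CommRingCat.of R) :=
    Spec.map (CommRingCat.ofHom (Ideal.Quotient.mk 𝔭))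
  have hq : Topology.IsClosedEmbedding q :=
    PrimeSpectrum.isClosedEmbedding_comap_of_surjective _ _ Ideal.Quotient.mk_surjective
  have hqr : Set.range q = (T : Set (PrimeSpectrum R)) := by
    rw [hT𝔭]
    have := _root_.range_comap_of_surjective _ (Ideal.Quotient.mk 𝔭)
      Ideal.Quotient.mk_surjective
    rw [Ideal.mk_ker] at this
    exact this
  have hfinj : Function.Injective f := f.injective
  have hqT : ∀ a, q a ∈ (T : Set (PrimeSpectrum R)) := fun a => by
    rw [← hqr]; exact Set.mem_range_self a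
  let s : Spec (CommRingCat.of (R ⧸ 𝔭)) ⟶ X := q ≫ φ
  let D : Set ↥(Spec (CommRingCat.of (R ⧸ 𝔭))) := s ⁻¹' (Set.range f)
  have hlift : ∀ p ∈ D, ∃ l : Spec ((Spec (CommRingCat.of (R ⧸ 𝔭))).residueField p) ⟶ Y,
      l ≫ f = (Spec (CommRingCat.of (R ⧸ 𝔭))).fromSpecResidueField p ≫ s := by
    intro p hp
    obtain ⟨l₀, hl₀⟩ := lift_of_mono f (s p) hp
    refine ⟨Spec.map (s.residueFieldMap p) ≫ l₀, ?_⟩
    rw [Category.assoc, hl₀, Scheme.Hom.SpecMap_residueFieldMap_fromSpecResidueField]
  have himg : ∀ W : Set ↥(Spec (CommRingCat.of (R ⧸ 𝔭))), s '' W = φ '' (q '' W) := by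
    intro W
    rw [Set.image_image]
    rfl
  by_cases hD : Dense D
  · obtain ⟨U, hUne, l, hl⟩ := hc (R ⧸ 𝔭) s D hD hlift
    let T' : Closeds (PrimeSpectrum R) :=
      ⟨q '' ((U : Set ↥(Spec (CommRingCat.of (R ⧸ 𝔭))))ᶜ), hq.isClosedMap _ U.isOpen.isClosed_compl⟩
    have hT' : T' < T := by
      refine lt_of_le_of_ne ?_ ?_
      · intro t ht
        obtain ⟨a, -, rfl⟩ := ht
        exact hqT a
      · intro heq
        obtain ⟨u, hu⟩ := hUne
        have : q u ∈ (T' : Set (PrimeSpectrum R)) := by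
          rw [heq]; exact hqr ▸ Set.mem_range_self u
        obtain ⟨a, ha, hau⟩ := this
        exact ha (hq.injective hau ▸ hu)
    have hcov : f ⁻¹' (φ '' (T : Set (PrimeSpectrum R))) =
        Set.range l ∪ f ⁻¹' (φ '' (T' : Set (PrimeSpectrum R))) := by
      ext y
      simp only [Set.mem_preimage, Set.mem_union, Set.mem_range]
      constructor
      · rintro ⟨t, ht, hty⟩
        rw [← hqr] at ht
        obtain ⟨a, rfl⟩ := ht
        by_cases ha : a ∈ (U : Set ↥(Spec (CommRingCat.of (R ⧸ 𝔭))))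
        · left
          refine ⟨⟨a, ha⟩, hfinj ?_⟩
          have := congr($hl ⟨a, ha⟩)
          simp only [Scheme.Hom.comp_apply] at this
          rw [this, ← hty]
          rfl
        · right
          exact ⟨q a, ⟨a, ha, rfl⟩, hty⟩
      · rintro (⟨u, rfl⟩ | ⟨t, ht, hty⟩)
        · have := congr($hl u)
          simp only [Scheme.Hom.comp_apply] at this
          refine ⟨q (U.ι u), hqr ▸ Set.mem_range_self _, ?_⟩
          rw [this]
          rfl
        · exact ⟨t, hT'.le ht, hty⟩
    rw [hcov]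
    haveI : CompactSpace ↥(U : Scheme.{u}) :=
      isCompact_iff_compactSpace.mp (NoetherianSpace.isCompact (U : Set ↥(Spec (CommRingCat.of (R ⧸ 𝔭)))))
    exact (isCompact_range l.continuous).union (H T' hT')
  · let T' : Closeds (PrimeSpectrum R) := ⟨q '' closure D, hq.isClosedMap _ isClosed_closure⟩
    have hT' : T' < T := by
      refine lt_of_le_of_ne ?_ ?_
      · intro t ht
        obtain ⟨a, -, rfl⟩ := ht
        exact hqT a
      · intro heq
        apply hD
        rw [dense_iff_closure_eq, Set.eq_univ_iff_forall]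
        intro a
        have : q a ∈ (T' : Set (PrimeSpectrum R)) := by
          rw [heq]; exact hqr ▸ Set.mem_range_self a
        obtain ⟨b, hb, hba⟩ := this
        exact hq.injective hba ▸ hb
    have hcov : f ⁻¹' (φ '' (T : Set (PrimeSpectrum R))) =
        f ⁻¹' (φ '' (T' : Set (PrimeSpectrum R))) := by
      ext y
      simp only [Set.mem_preimage]
      constructor
      · rintro ⟨t, ht, hty⟩
        rw [← hqr] at ht
        obtain ⟨a, rfl⟩ := ht
        refine ⟨q a, ⟨a, subset_closure ?_, rfl⟩, hty⟩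
        exact ⟨y, hty.symm⟩
      · rintro ⟨t, ht, hty⟩
        exact ⟨t, hT'.le ht, hty⟩
    rw [hcov]
    exact H T' hT'

lemma key {X Y : Scheme.{u}} (f : Y ⟶ X) [Mono f] (hc : HC f)
    (R : Type u) [CommRing R] [IsNoetherianRing R] (φ : Spec (CommRingCat.of R) ⟶ X)
    (T : Closeds (PrimeSpectrum R)) :
    IsCompact (f ⁻¹' (φ '' (T : Set (PrimeSpectrum R)))) := by
  apply wellFounded_lt.induction T; clear T
  intro T H
  rcases eq_or_ne T ⊥ with rfl | h₀
  · have : f ⁻¹' (φ '' ((⊥ : Closeds (PrimeSpectrum R)) : Set (PrimeSpectrum R))) = ∅ := by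
      ext y
      simp only [Set.mem_preimage, Set.mem_image, Set.mem_empty_iff_false, iff_false]
      rintro ⟨t, ht, -⟩
      exact ht
    rw [this]; exact isCompact_empty
  by_cases h₁ : IsPreirreducible (T : Set (PrimeSpectrum R))
  · replace h₁ : IsIrreducible (T : Set (PrimeSpectrum R)) := ⟨Closeds.coe_nonempty.2 h₀, h₁⟩
    exact irreducible_case f hc R φ T h₁ H
  · simp only [isPreirreducible_iff_isClosed_union_isClosed, not_forall, not_or] at h₁
    obtain ⟨z₁, z₂, hz₁, hz₂, h, hz₁', hz₂'⟩ := h₁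
    lift z₁ to Closeds (PrimeSpectrum R) using hz₁
    lift z₂ to Closeds (PrimeSpectrum R) using hz₂
    have c1 := H (T ⊓ z₁) (inf_lt_left.2 hz₁')
    have c2 := H (T ⊓ z₂) (inf_lt_left.2 hz₂')
    have hU : f ⁻¹' (φ '' (T : Set (PrimeSpectrum R))) =
        f ⁻¹' (φ '' ((T ⊓ z₁ : Closeds (PrimeSpectrum R)) : Set (PrimeSpectrum R))) ∪
          f ⁻¹' (φ '' ((T ⊓ z₂ : Closeds (PrimeSpectrum R)) : Set (PrimeSpectrum R))) := by
      ext y
      simp only [Set.mem_union, Set.mem_preimage]
      constructor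
      · rintro ⟨t, ht, hty⟩
        rcases h ht with h' | h'
        · exact Or.inl ⟨t, ⟨ht, h'⟩, hty⟩
        · exact Or.inr ⟨t, ⟨ht, h'⟩, hty⟩
      · rintro (⟨t, ⟨ht, -⟩, hty⟩ | ⟨t, ⟨ht, -⟩, hty⟩) <;> exact ⟨t, ht, hty⟩
    rw [hU]
    exact c1.union c2

end helpers

/-- Let X be a locally Noetherian scheme and f : Y ⟶ X a monomorphism locally of finite presentation
such that, for every integral domain A and every morphism s : Spec A ⟶ X for which the points of a
dense subset of Spec A lift to Y (the residue field of each such point maps to Y over s), some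
nonempty open subscheme of Spec A maps to Y over s. Then f is quasi-compact. (The published remark
is for a representable morphism of algebraic stacks; this row is the case of schemes.) -/
theorem result {X Y : Scheme.{u}} [IsLocallyNoetherian X]
    (f : Y ⟶ X) [LocallyOfFinitePresentation f] [Mono f]
    (hc : ∀ (A : Type u) [CommRing A] [IsDomain A] (s : Spec (CommRingCat.of A) ⟶ X) (D : Set ↥(Spec (CommRingCat.of A))),
        Dense D →
        (∀ p ∈ D, ∃ l : Spec ((Spec (CommRingCat.of A)).residueField p) ⟶ Y,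
            l ≫ f = (Spec (CommRingCat.of A)).fromSpecResidueField p ≫ s) →
          ∃ U : (Spec (CommRingCat.of A)).Opens, (U : Set ↥(Spec (CommRingCat.of A))).Nonempty ∧
            ∃ l : (U : Scheme.{u}) ⟶ Y, l ≫ f = U.ι ≫ s) :
    QuasiCompact f := by
  rw [quasiCompact_iff_forall_isAffineOpen]
  intro V hV
  haveI : IsNoetherianRing Γ(X, V) := IsLocallyNoetherian.component_noetherian ⟨V, hV⟩
  have h := key f hc Γ(X, V) hV.fromSpec ⊤
  have hr : hV.fromSpec '' ((⊤ : TopologicalSpace.Closeds (PrimeSpectrum Γ(X, V))) : Set (PrimeSpectrum Γ(X, V))) =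
      (V : Set X) := by
    rw [← hV.range_fromSpec]
    ext x
    constructor
    · rintro ⟨t, -, rfl⟩; exact ⟨t, rfl⟩
    · rintro ⟨t, rfl⟩; exact ⟨t, trivial, rfl⟩
  rw [hr] at h
  exact h

end Groth.Agent.S15349
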