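import Groth.Statements.S15348
import Mathlib
import Groth.Agent.S15346
import Groth.Agent.S15349

set_option autoImplicit false
universe u
open CategoryTheory CategoryTheory.Limits AlgebraicGeometry
open Mor

namespace Groth.Agent.S15348

section helpers
open CategoryTheory CategoryTheory.Limits AlgebraicGeometry TopologicalSpace


lemma exists_specializes_of_mem_closure_range_comap {R S : Type*} [CommRing R] [CommRing S]
    (φ : R →+* S) (x : PrimeSpectrum R)
    (hx : x ∈ closure (Set.range (PrimeSpectrum.comap φ))) :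
    ∃ p, PrimeSpectrum.comap φ p ⤳ x := by
  rw [← Set.image_univ, ← PrimeSpectrum.zeroLocus_bot,
    PrimeSpectrum.closure_image_comap_zeroLocus] at hx
  obtain ⟨q, hq₁, hq₂⟩ := Ideal.exists_minimalPrimes_le hx
  obtain ⟨p', hp', hp'', hpq⟩ := Ideal.exists_comap_eq_of_mem_minimalPrimes φ _ hq₁
  refine ⟨⟨p', hp'⟩, (PrimeSpectrum.le_iff_specializes _ x).mp ?_⟩
  change Ideal.comap φ p' ≤ x.asIdeal
  rw [hpq]; exact hq₂

/-- For a quasi-compact morphism, every point in the closure of the range is a specialization of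
a point of the range. -/
lemma exists_specializes_of_mem_closure_range {X Y : Scheme.{u}} (f : X ⟶ Y) [QuasiCompact f]
    (y : Y) (hy : y ∈ closure (Set.range f)) : ∃ x, f x ⤳ y := by
  obtain ⟨_, ⟨U, hU : IsAffineOpen U, rfl⟩, hyU, -⟩ :=
    Y.isBasis_affineOpens.exists_subset_of_mem_open (Set.mem_univ y) isOpen_univ
  have hc : IsCompact (f ⁻¹ᵁ U : Set X) := f.isCompact_preimage hU.isCompact
  obtain ⟨R, h, hh⟩ := (isCompact_iff_exists (U := f ⁻¹ᵁ U)).mp hc
  have hk : Set.range (h ≫ f) ⊆ Set.range hU.fromSpec := by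
    rw [hU.range_fromSpec]
    rintro _ ⟨a, rfl⟩
    have : h a ∈ (f ⁻¹ᵁ U : Set X) := hh ▸ Set.mem_range_self a
    exact this
  let k'' : Spec R ⟶ Spec Γ(Y, U) := IsOpenImmersion.lift hU.fromSpec (h ≫ f) hk
  have hk'' : k'' ≫ hU.fromSpec = h ≫ f := IsOpenImmersion.lift_fac _ _ _
  obtain ⟨y₀, rfl⟩ : y ∈ Set.range hU.fromSpec := by rw [hU.range_fromSpec]; exact hyU
  have hy₀ : y₀ ∈ closure (Set.range k'') := by
    rw [hU.fromSpec.isOpenEmbedding.isInducing.closure_eq_preimage_closure_image, Set.mem_preimage,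
      ← Set.range_comp]
    have : (hU.fromSpec : _ → _) ∘ (k'' : _ → _) = (h ≫ f : _ → _) := by
      rw [← hk'']; rfl
    rw [this]
    rw [mem_closure_iff] at hy ⊢
    intro V hV hyV
    obtain ⟨_, ⟨hz1, hz2⟩, ⟨x, rfl⟩⟩ := hy (V ∩ U) (hV.inter U.isOpen) ⟨hyV, hyU⟩
    have hx : x ∈ Set.range h := by rw [hh]; exact hz2
    obtain ⟨a, rfl⟩ := hx
    exact ⟨_, hz1, ⟨a, rfl⟩⟩
  obtain ⟨φ, hφ⟩ : ∃ φ : Γ(Y, U) ⟶ R, Spec.map φ = k'' := ⟨Spec.preimage k'', Spec.map_preimage _⟩
  have hy₀' : y₀ ∈ closure (Set.range (PrimeSpectrum.comap φ.hom)) := by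
    rw [← hφ] at hy₀; exact hy₀
  obtain ⟨p, hp⟩ := exists_specializes_of_mem_closure_range_comap φ.hom y₀ hy₀'
  refine ⟨h p, ?_⟩
  have h1 : f (h p) = hU.fromSpec (k'' p) := by
    rw [← Scheme.Hom.comp_apply, ← Scheme.Hom.comp_apply, hk'']
  rw [h1, ← hφ]
  exact hp.map hU.fromSpec.continuous

lemma core {X Y : Scheme.{u}} (f : Y ⟶ X) [Mono f] [LocallyOfFiniteType f] [QuasiCompact f]
    (hrefl : ∀ (X' : Scheme.{u}) (g : X' ⟶ X) (y₀ y₁ : ↥(pullback f g)),
        (pullback.snd f g).base y₁ ⤳ (pullback.snd f g).base y₀ → y₁ ⤳ y₀) :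
    IsImmersion f := by
  haveI : LocallyQuasiFinite f := inferInstance
  have hjg : f.toNormalization ≫ f.fromNormalization = f := f.toNormalization_fromNormalization
  haveI : IsOpenImmersion f.toNormalization := inferInstance
  -- the section σ : Y → Y ×_X Y'
  let σ : Y ⟶ pullback f f.fromNormalization :=
    pullback.lift (𝟙 Y) f.toNormalization (by rw [Category.id_comp, hjg])
  haveI : IsClosedImmersion σ := by
    haveI : IsClosedImmersion (σ ≫ pullback.fst f f.fromNormalization) := by
      rw [pullback.lift_fst]; infer_instance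
    exact IsClosedImmersion.of_comp σ (pullback.fst f f.fromNormalization)
  have hσ2 : ∀ y, pullback.snd f f.fromNormalization (σ y) = f.toNormalization y := by
    intro y
    rw [← Scheme.Hom.comp_apply, pullback.lift_snd]
  -- key claim
  have key : ∀ y' : f.normalization, f.fromNormalization y' ∈ Set.range f →
      y' ∈ Set.range f.toNormalization := by
    rintro y' ⟨y, hy⟩
    obtain ⟨y₁, hy₁⟩ := exists_specializes_of_mem_closure_range f.toNormalization y'
      (by rw [f.toNormalization.denseRange.closure_eq]; exact Set.mem_univ _)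
    obtain ⟨π, hπ1, hπ2⟩ := Scheme.Pullback.exists_preimage_pullback y y' hy
    have hsp : σ y₁ ⤳ π := hrefl _ f.fromNormalization π (σ y₁) (by
      change pullback.snd f f.fromNormalization (σ y₁) ⤳ pullback.snd f f.fromNormalization π
      rw [hπ2, hσ2]; exact hy₁)
    have hmem : π ∈ Set.range σ :=
      hsp.mem_closed σ.isClosedEmbedding.isClosed_range ⟨y₁, rfl⟩
    obtain ⟨y₂, rfl⟩ := hmem
    exact ⟨y₂, by rw [← hπ2, hσ2]⟩
  -- the open W
  let W : X.Opens := ⟨(f.fromNormalization '' (Set.range f.toNormalization)ᶜ)ᶜ,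
    (f.fromNormalization.isClosedMap _
      f.toNormalization.isOpenEmbedding.isOpen_range.isClosed_compl).isOpen_compl⟩
  have hfW : Set.range f ⊆ (W : Set X) := by
    rintro _ ⟨y, rfl⟩ ⟨y', hy', hyy'⟩
    exact hy' (key y' ⟨y, hyy'.symm⟩)
  have hgW : ∀ y' : f.normalization, f.fromNormalization y' ∈ W →
      y' ∈ Set.range f.toNormalization := by
    intro y' hy'
    by_contra hn
    exact hy' ⟨y', hn, rfl⟩
  let f' : Y ⟶ W := IsOpenImmersion.lift W.ι f (by rw [Scheme.Opens.range_ι]; exact hfW)
  have hf' : f' ≫ W.ι = f := IsOpenImmersion.lift_fac _ _ _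
  have hjW' : Set.range f.toNormalization ⊆ Set.range (f.fromNormalization ⁻¹ᵁ W).ι := by
    rw [Scheme.Opens.range_ι]
    rintro _ ⟨y, rfl⟩
    change f.fromNormalization (f.toNormalization y) ∈ W
    rw [← Scheme.Hom.comp_apply, hjg]
    exact hfW ⟨y, rfl⟩
  let jW : Y ⟶ (f.fromNormalization ⁻¹ᵁ W) :=
    IsOpenImmersion.lift (f.fromNormalization ⁻¹ᵁ W).ι f.toNormalization hjW'
  have hjW : jW ≫ (f.fromNormalization ⁻¹ᵁ W).ι = f.toNormalization :=
    IsOpenImmersion.lift_fac _ _ _
  haveI : IsOpenImmersion jW := by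
    haveI : IsOpenImmersion (jW ≫ (f.fromNormalization ⁻¹ᵁ W).ι) := by rw [hjW]; infer_instance
    exact IsOpenImmersion.of_comp jW (f.fromNormalization ⁻¹ᵁ W).ι
  haveI : Surjective jW := by
    constructor
    intro y'
    obtain ⟨y, hy⟩ := hgW y'.1 y'.2
    refine ⟨y, (f.fromNormalization ⁻¹ᵁ W).ι.injective ?_⟩
    rw [← Scheme.Hom.comp_apply, hjW, hy]
    rfl
  haveI : IsIso jW := (isIso_iff_isOpenImmersion_and_surjective _).mpr ⟨inferInstance, inferInstance⟩
  have hfac : f' = jW ≫ (f.fromNormalization ∣_ W) := by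
    rw [← cancel_mono W.ι, Category.assoc, morphismRestrict_ι, reassoc_of% hjW, hjg, hf']
  haveI : IsIntegralHom f' := by rw [hfac]; infer_instance
  haveI : LocallyOfFiniteType f' := by
    haveI : LocallyOfFiniteType (f' ≫ W.ι) := by rw [hf']; infer_instance
    exact locallyOfFiniteType_of_comp f' W.ι
  haveI : IsFinite f' := (IsFinite.iff_isIntegralHom_and_locallyOfFiniteType _).mpr ⟨‹_›, ‹_›⟩
  haveI : Mono f' := mono_of_mono_fac hf'
  haveI : IsClosedImmersion f' := (IsClosedImmersion.iff_isFinite_and_mono _).mpr ⟨‹_›, ‹_›⟩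
  rw [← hf']
  infer_instance

end helpers

/-- Let X be a locally Noetherian scheme and f : Y ⟶ X a monomorphism locally of finite presentation.
Assume: for every discrete valuation ring A with fraction field K and every commutative square Spec
K ⟶ Y, Spec A ⟶ X over f such that some morphism from the spectrum of the residue field of A to Y
lies over Spec A ⟶ X, the square admits a lift; and for every integral domain A and every morphism s
: Spec A ⟶ X such that the points of a dense subset of Spec A lift to Y (the residue field of each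
such point maps to Y over s), some nonempty open subscheme of Spec A maps to Y over s. Then f is an
immersion (f is then also quasi-compact; that is not part of this statement). (The published
statement is for a representable morphism of algebraic stacks; this row is the case of schemes.) -/
theorem result {X Y : Scheme.{u}} [IsLocallyNoetherian X]
    (f : Y ⟶ X) [LocallyOfFinitePresentation f] [Mono f]
    (hb : ∀ S : ValuativeCommSq f, IsDiscreteValuationRing S.R →
        (∃ l₀ : Spec (CommRingCat.of (IsLocalRing.ResidueField S.R)) ⟶ Y,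
            l₀ ≫ f = Spec.map (CommRingCat.ofHom (IsLocalRing.residue S.R)) ≫ S.i₂) →
          S.commSq.HasLift)
    (hc : ∀ (A : Type u) [CommRing A] [IsDomain A] (s : Spec (CommRingCat.of A) ⟶ X) (D : Set ↥(Spec (CommRingCat.of A))),
        Dense D →
        (∀ p ∈ D, ∃ l : Spec ((Spec (CommRingCat.of A)).residueField p) ⟶ Y,
            l ≫ f = (Spec (CommRingCat.of A)).fromSpecResidueField p ≫ s) →
          ∃ U : (Spec (CommRingCat.of A)).Opens, (U : Set ↥(Spec (CommRingCat.of A))).Nonempty ∧
            ∃ l : (U : Scheme.{u}) ⟶ Y, l ≫ f = U.ι ≫ s) :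
    IsImmersion f := by
  haveI : QuasiCompact f := Groth.Agent.S15349.result f hc
  exact core f (Groth.Agent.S15346.result f hb)

end Groth.Agent.S15348
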