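import Groth.Statements.S15352
import Groth.Agent.Lib.Helper72.GrpGeneric

set_option autoImplicit false
universe u
open CategoryTheory CategoryTheory.Limits MonoidalCategory CartesianMonoidalCategory MonObj GrpObj AlgebraicGeometry
open GrpSch

namespace Groth.Agent.S15352

/-- Let k be an algebraically closed field, G a group scheme locally of finite type over k, G⁰ ⊆ G the
connected component of the unit point, and U a nonempty open subscheme of G contained in G⁰. Then
every point of G⁰ is in the image of the morphism U ×_k U ⟶ G, (g, h) ↦ g·h⁻¹. (The published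
statement writes U as an open of G mapping to G⁰ × G⁰; this row makes the containment U ⊆ G⁰
explicit.) -/
theorem result (k : Type u) [Field k] [IsAlgClosed k]
    (G : Over (Spec (CommRingCat.of k))) [GrpObj G] [LocallyOfFiniteType G.hom] (U : G.left.Opens)
    (hne : (U : Set ↥G.left).Nonempty)
    (hU : (U : Set ↥G.left) ⊆ connectedComponent (η[G].left.base (IsLocalRing.closedPoint k))) :
    connectedComponent (η[G].left.base (IsLocalRing.closedPoint k)) ⊆ Set.range
      ((((Over.homMk U.ι rfl : Over.mk (U.ι ≫ G.hom) ⟶ G) ⊗ₘ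
          ((Over.homMk U.ι rfl : Over.mk (U.ι ≫ G.hom) ⟶ G) ≫ ι[G])) ≫ μ[G]).left.base) := by
  open Groth.Agent.Lib.Helper72.GrpComp Groth.Agent.Lib.Helper72.GrpConn
    Groth.Agent.Lib.Helper72.GrpGen in
  have h₀ := irreducibleComponent_mem_irreducibleComponents (ePt G)
  have he : ePt G ∈ irreducibleComponent (ePt G) := mem_irreducibleComponent
  have key : connectedComponent (η[G].left.base (IsLocalRing.closedPoint k)) =
      irreducibleComponent (ePt G) := connectedComponent_ePt G h₀ he
  rw [key] at hU ⊢
  intro x hx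
  obtain ⟨q, hq1, hq2, hq3⟩ := exists_mul_inv_of_open G h₀ he U hne hU hx
  have hinv : ∀ y, invS G (invS G y) = y := fun y => app_eq (invS_invS G) y
  have hq : q ∈ Set.range (pullback.map (U.ι ≫ G.hom) (U.ι ≫ G.hom) G.hom G.hom U.ι
      (U.ι ≫ invS G) (𝟙 _) (by simp) (by
        rw [Category.comp_id, Category.assoc]
        congr 1
        exact (Over.w ι[G]).symm)) := by
    rw [Scheme.Pullback.range_map]
    refine ⟨?_, ?_⟩
    · show pullback.fst G.hom G.hom q ∈ Set.range U.ι
      rw [Scheme.Opens.range_ι]
      exact hq1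
    · show pullback.snd G.hom G.hom q ∈ Set.range (U.ι ≫ invS G)
      have h1 : invS G (pullback.snd G.hom G.hom q) ∈ Set.range U.ι := by
        rw [Scheme.Opens.range_ι]
        exact hq2
      obtain ⟨r, hr⟩ := h1
      exact ⟨r, by rw [Scheme.Hom.comp_apply, hr, hinv]⟩
  obtain ⟨r, rfl⟩ := hq
  exact ⟨r, hq3⟩

end Groth.Agent.S15352
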