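import Groth.Statements.S16707
import Mathlib

set_option autoImplicit false
universe u v
open CAlg

namespace Groth.Agent.S16707

open TensorProduct in
theorem subsingleton_of_tensor (A : Type u) [CommRing A] (I : Ideal A) (hI : IsNilpotent I)
    (P : Type v) [AddCommGroup P] [Module A P] (h : Subsingleton ((A ⧸ I) ⊗[A] P)) :
    Subsingleton P := by
  have h1 : Subsingleton (P ⧸ (I • (⊤ : Submodule A P))) :=
    (TensorProduct.quotTensorEquivQuotSMul P I).symm.toEquiv.subsingleton
  have h2 : I • (⊤ : Submodule A P) = ⊤ := Submodule.Quotient.subsingleton_iff.mp h1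
  have h3 : ∀ n : ℕ, I ^ n • (⊤ : Submodule A P) = ⊤ := by
    intro n
    induction n with
    | zero => simp
    | succ n ih => rw [pow_succ, Submodule.mul_smul, h2, ih]
  obtain ⟨n, hn⟩ := hI
  have h4 := h3 n
  rw [hn] at h4
  have h5 : (⊥ : Submodule A P) = ⊤ := by
    rw [← h4]
    simp
  exact (Submodule.subsingleton_iff A).mp (subsingleton_of_bot_eq_top h5)


open TensorProduct in
/-- Let A be a commutative ring, I a nilpotent ideal of A and f : M → N a homomorphism of A-modules with
N flat over A (no finiteness assumption on M or N). If the base change of f to A/I, that is M/IM →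
N/IN, is bijective, then f is bijective. -/
theorem result (A : Type u) [CommRing A] (I : Ideal A)
    (hI : IsNilpotent I) (M N : Type v) [AddCommGroup M] [Module A M] [AddCommGroup N] [Module A N]
    [Module.Flat A N] (f : M →ₗ[A] N)
    (hf : Function.Bijective (f.baseChange (A ⧸ I))) :
    Function.Bijective f := by
  have hfl : (f.baseChange (A ⧸ I) : (A ⧸ I) ⊗[A] M → (A ⧸ I) ⊗[A] N) = f.lTensor (A ⧸ I) := rfl
  rw [hfl] at hf
  have hsurj : Function.Surjective f := by
    have hex : Function.Exact f (LinearMap.range f).mkQ := LinearMap.exact_map_mkQ_range f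
    have h1 := lTensor_exact (A ⧸ I) hex (Submodule.mkQ_surjective _)
    have h2 : Function.Surjective ((LinearMap.range f).mkQ.lTensor (A ⧸ I)) :=
      LinearMap.lTensor_surjective _ (Submodule.mkQ_surjective _)
    have h3 : Subsingleton ((A ⧸ I) ⊗[A] (N ⧸ LinearMap.range f)) := by
      refine ⟨fun x y => ?_⟩
      obtain ⟨x', rfl⟩ := h2 x
      obtain ⟨y', rfl⟩ := h2 y
      obtain ⟨x'', rfl⟩ := hf.2 x'
      obtain ⟨y'', rfl⟩ := hf.2 y'
      rw [h1.apply_apply_eq_zero, h1.apply_apply_eq_zero]
    have h4 := subsingleton_of_tensor A I hI _ h3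
    rw [← LinearMap.range_eq_top]
    exact Submodule.Quotient.subsingleton_iff.mp h4
  refine ⟨?_, hsurj⟩
  have hex : Function.Exact (LinearMap.ker f).subtype f := LinearMap.exact_subtype_ker_map f
  have h1 := lTensor_exact (A ⧸ I) hex hsurj
  have h2 : Function.Injective ((LinearMap.ker f).subtype.lTensor (A ⧸ I)) :=
    LinearMap.lTensor_injective_of_exact_of_flat f hsurj _ (Submodule.injective_subtype _) hex _
  have h3 : Subsingleton ((A ⧸ I) ⊗[A] (LinearMap.ker f)) := by
    refine ⟨fun x y => ?_⟩
    apply h2
    apply hf.1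
    rw [h1.apply_apply_eq_zero, h1.apply_apply_eq_zero]
  have h4 := subsingleton_of_tensor A I hI _ h3
  rw [← LinearMap.ker_eq_bot]
  exact (Submodule.subsingleton_iff_eq_bot).mp h4

end Groth.Agent.S16707
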