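import Groth.Statements.S15353
import Mathlib
import Groth.Agent.S16707

set_option autoImplicit false
universe u
open CAlg

namespace Groth.Agent.S15353

open TensorProduct in
theorem exists_one_tmul {R : Type u} [CommRing R] (I : Ideal R) (P : Type u) [AddCommGroup P]
    [Module R P] (x : (R ⧸ I) ⊗[R] P) : ∃ p : P, x = 1 ⊗ₜ p := by
  induction x using TensorProduct.induction_on with
  | zero => exact ⟨0, by simp⟩
  | tmul a p =>
    obtain ⟨r, rfl⟩ := Ideal.Quotient.mk_surjective a
    refine ⟨r • p, ?_⟩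
    rw [TensorProduct.tmul_smul, TensorProduct.smul_tmul', Algebra.smul_def, mul_one]
    rfl
  | add x y hx hy =>
    obtain ⟨p, rfl⟩ := hx
    obtain ⟨q, rfl⟩ := hy
    exact ⟨p + q, by rw [TensorProduct.tmul_add]⟩

open TensorProduct in
theorem key {R : Type u} [CommRing R] (I : Ideal R) (hI : IsNilpotent I) (P : Type u)
    [AddCommGroup P] [Module R P] [Module.Projective R P]
    (θ : (R ⧸ I) ⊗[R] P ≃ₗ[R ⧸ I] (R ⧸ I)) : Nonempty (P ≃ₗ[R] R) := by
  obtain ⟨m, hm⟩ := exists_one_tmul I P (θ.symm 1)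
  have hθm : θ (1 ⊗ₜ m) = 1 := by rw [← hm]; simp
  let φ : R →ₗ[R] P := LinearMap.toSpanSingleton R P m
  have hφ : ∀ r, θ (1 ⊗ₜ φ r) = Ideal.Quotient.mk I r := by
    intro r
    have h1 : (1 : R ⧸ I) ⊗ₜ[R] φ r = (Ideal.Quotient.mk I r) • ((1 : R ⧸ I) ⊗ₜ[R] m) := by
      show (1 : R ⧸ I) ⊗ₜ[R] (r • m) = _
      rw [TensorProduct.tmul_smul, TensorProduct.smul_tmul', TensorProduct.smul_tmul',
        Algebra.smul_def, mul_one, smul_eq_mul, mul_one]
      rfl
    rw [h1, map_smul, hθm, smul_eq_mul, mul_one]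
  have hsurj : Function.Surjective φ := by
    rw [← LinearMap.range_eq_top, ← Submodule.Quotient.subsingleton_iff]
    apply Groth.Agent.S16707.subsingleton_of_tensor R I hI
    have hz : ∀ x : (R ⧸ I) ⊗[R] (P ⧸ LinearMap.range φ), x = 0 := by
      intro x
      obtain ⟨q, rfl⟩ := exists_one_tmul I _ x
      obtain ⟨p, rfl⟩ := Submodule.mkQ_surjective _ q
      obtain ⟨r, hr⟩ := Ideal.Quotient.mk_surjective (θ (1 ⊗ₜ p))
      have h2 : (1 : R ⧸ I) ⊗ₜ[R] p = 1 ⊗ₜ φ r := by
        apply θ.injective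
        rw [hφ, hr]
      have h3 : (1 : R ⧸ I) ⊗ₜ[R] (Submodule.mkQ (LinearMap.range φ) p) =
          LinearMap.lTensor (R ⧸ I) (Submodule.mkQ (LinearMap.range φ)) (1 ⊗ₜ p) := rfl
      rw [h3, h2, LinearMap.lTensor_tmul]
      have : Submodule.mkQ (LinearMap.range φ) (φ r) = 0 := by
        rw [Submodule.mkQ_apply, Submodule.Quotient.mk_eq_zero]
        exact ⟨r, rfl⟩
      rw [this, TensorProduct.tmul_zero]
    exact ⟨fun x y => by rw [hz x, hz y]⟩
  obtain ⟨σ, hσ⟩ := Module.projective_lifting_property φ LinearMap.id hsurj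
  have hσ' : ∀ x, φ (σ x) = x := fun x => by
    have := congrArg (fun g => g x) hσ
    simpa using this
  have hkerI : ∀ r, φ r = 0 → r ∈ I := by
    intro r hr
    have := hφ r
    rw [hr, TensorProduct.tmul_zero, map_zero] at this
    exact Ideal.Quotient.eq_zero_iff_mem.mp this.symm
  have hε : ∀ r, σ (φ r) = r * σ m := by
    intro r
    show σ (r • m) = _
    rw [map_smul, smul_eq_mul]
  have he : IsIdempotentElem (σ m) := by
    show σ m * σ m = σ m
    rw [← hε, hσ']
  have h1e : 1 - σ m = 0 := by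
    apply he.one_sub.eq_zero_of_isNilpotent
    obtain ⟨n, hn⟩ := hI
    refine ⟨n, ?_⟩
    have hmem : 1 - σ m ∈ I := by
      apply hkerI
      rw [map_sub, hσ']
      show (1 : R) • m - m = 0
      rw [one_smul, sub_self]
    have : (1 - σ m) ^ n ∈ I ^ n := Ideal.pow_mem_pow hmem n
    rw [hn] at this
    exact this
  have hinj : Function.Injective φ := by
    rw [injective_iff_map_eq_zero]
    intro r hr
    have h2 : r * σ m = 0 := by rw [← hε, hr, map_zero]
    have h3 : σ m = 1 := (sub_eq_zero.mp h1e).symm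
    rw [h3, mul_one] at h2
    exact h2
  exact ⟨(LinearEquiv.ofBijective φ ⟨hinj, hsurj⟩).symm⟩


open TensorProduct Matrix in
theorem lift_proj {R : Type u} [CommRing R] (I : Ideal R) (hI : IsNilpotent I) (N : Type u)
    [AddCommGroup N] [Module (R ⧸ I) N] [Module.Finite (R ⧸ I) N] [Module.Projective (R ⧸ I) N] :
    ∃ (P : Type u) (_ : AddCommGroup P) (_ : Module R P) (_ : Module.Finite R P)
      (_ : Module.Projective R P), Nonempty ((R ⧸ I) ⊗[R] P ≃ₗ[R ⧸ I] N) := by
  classical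
  obtain ⟨n, π, hπ⟩ := Module.Finite.exists_fin' (R ⧸ I) N
  obtain ⟨s, hs⟩ := Module.projective_lifting_property π LinearMap.id hπ
  have hs' : ∀ x, π (s x) = x := fun x => by
    have := congrArg (fun g => g x) hs
    simpa using this
  let E : Matrix (Fin n) (Fin n) (R ⧸ I) := LinearMap.toMatrix' (s ∘ₗ π)
  have hEtoLin : Matrix.toLin' E = s ∘ₗ π := Matrix.toLin'_toMatrix' _
  have hE : IsIdempotentElem E := by
    show E * E = E
    rw [← LinearMap.toMatrix'_comp]
    congr 1
    refine LinearMap.ext fun x => ?_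
    show s (π (s (π x))) = s (π x)
    rw [hs']
  let fn : Matrix (Fin n) (Fin n) R →+* Matrix (Fin n) (Fin n) (R ⧸ I) :=
    (Ideal.Quotient.mk I).mapMatrix
  have hrange : E ∈ fn.range := by
    refine ⟨Matrix.of fun i j => Function.surjInv Ideal.Quotient.mk_surjective (E i j), ?_⟩
    ext i j
    simp [fn, Function.surjInv_eq]
  have hnil : ∀ X ∈ RingHom.ker fn, IsNilpotent X := by
    intro X hX
    have hXI : ∀ i j, X i j ∈ I := fun i j => by
      have := congrFun (congrFun hX i) j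
      exact Ideal.Quotient.eq_zero_iff_mem.mp this
    obtain ⟨k₀, hk₀⟩ := hI
    have hpow : ∀ k, ∀ i j, (X ^ (k + 1)) i j ∈ I ^ (k + 1) := by
      intro k
      induction k with
      | zero => simpa using hXI
      | succ k ih =>
        intro i j
        rw [pow_succ X, Matrix.mul_apply]
        refine Ideal.sum_mem _ (fun l _ => ?_)
        rw [pow_succ I]
        exact Ideal.mul_mem_mul (ih i l) (hXI l j)
    refine ⟨k₀ + 1, ?_⟩
    ext i j
    have := hpow k₀ i j
    rw [pow_succ I, hk₀] at this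
    simpa using this
  obtain ⟨E', hE', hfE'⟩ := exists_isIdempotentElem_eq_of_ker_isNilpotent fn hnil E hrange hE
  let P : Submodule R (Fin n → R) := LinearMap.range (Matrix.toLin' E')
  have hfix : ∀ v ∈ P, Matrix.toLin' E' v = v := by
    rintro _ ⟨w, rfl⟩
    rw [← Matrix.toLin'_mul_apply, hE'.eq]
  have hproj : Module.Projective R P :=
    Module.Projective.of_split P.subtype (Matrix.toLin' E').rangeRestrict (by
      ext v : 1
      apply Subtype.ext
      exact hfix v.1 v.2)
  letI : Module R N := Module.compHom N (Ideal.Quotient.mk I)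
  have : IsScalarTower R (R ⧸ I) N := IsScalarTower.of_algebraMap_smul fun r x => rfl
  let mkv : (Fin n → R) →ₗ[R] (Fin n → R ⧸ I) := (Algebra.linearMap R (R ⧸ I)).compLeft (Fin n)
  have hmkv : ∀ w, mkv (Matrix.toLin' E' w) = Matrix.toLin' E (mkv w) := by
    intro w
    ext i
    have := RingHom.map_mulVec (Ideal.Quotient.mk I) E' w i
    have e1 : mkv w = ⇑(Ideal.Quotient.mk I) ∘ w := rfl
    rw [← hfE', e1]
    simpa [mkv, fn] using this
  let ψ : P →ₗ[R] N := (π.restrictScalars R) ∘ₗ mkv ∘ₗ P.subtype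
  let Ψ : (R ⧸ I) ⊗[R] P →ₗ[R ⧸ I] N := LinearMap.liftBaseChange (R ⧸ I) ψ
  refine ⟨P, inferInstance, inferInstance, inferInstance, hproj, ⟨LinearEquiv.ofBijective Ψ ⟨?_, ?_⟩⟩⟩
  · rw [injective_iff_map_eq_zero]
    intro x hx
    obtain ⟨v, rfl⟩ := exists_one_tmul I P x
    have h1 : π (mkv v.1) = 0 := by
      have : Ψ (1 ⊗ₜ v) = π (mkv v.1) := by
        simp [Ψ, ψ]
      rw [← this]; exact hx
    have h2 : mkv v.1 = 0 := by
      have := hmkv v.1
      rw [hfix v.1 v.2, hEtoLin, LinearMap.comp_apply, h1, map_zero] at this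
      exact this
    have h3 : ∀ i, v.1 i ∈ I := fun i => by
      have := congrFun h2 i
      exact Ideal.Quotient.eq_zero_iff_mem.mp this
    let w : Fin n → P := fun j =>
      ⟨Matrix.toLin' E' (fun j' => if j = j' then 1 else 0), ⟨_, rfl⟩⟩
    have h4 : v = ∑ j, v.1 j • w j := by
      apply Subtype.ext
      rw [Submodule.coe_sum]
      simp only [Submodule.coe_smul, w]
      conv_lhs => rw [← hfix v.1 v.2]
      exact LinearMap.pi_apply_eq_sum_univ _ _
    rw [h4, TensorProduct.tmul_sum]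
    refine Finset.sum_eq_zero fun j _ => ?_
    rw [TensorProduct.tmul_smul, TensorProduct.smul_tmul', Algebra.smul_def, mul_one]
    have : algebraMap R (R ⧸ I) (v.1 j) = 0 := Ideal.Quotient.eq_zero_iff_mem.mpr (h3 j)
    rw [this, TensorProduct.zero_tmul]
  · intro l
    let v₀ : Fin n → R := fun i => Function.surjInv Ideal.Quotient.mk_surjective (s l i)
    have hv₀ : mkv v₀ = s l := by
      ext i
      simp [mkv, v₀, Function.surjInv_eq]
    refine ⟨1 ⊗ₜ ⟨Matrix.toLin' E' v₀, ⟨v₀, rfl⟩⟩, ?_⟩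
    have : Ψ (1 ⊗ₜ ⟨Matrix.toLin' E' v₀, ⟨v₀, rfl⟩⟩) = π (mkv (Matrix.toLin' E' v₀)) := by
      simp [Ψ, ψ]
    rw [this, hmkv, hv₀, hEtoLin, LinearMap.comp_apply, hs', hs']


open TensorProduct CommRing in
theorem main {R : Type u} [CommRing R] (I : Ideal R) (hI : IsNilpotent I) :
    Function.Bijective (Pic.mapAlgebra R (R ⧸ I)) := by
  constructor
  · rw [injective_iff_map_eq_one]
    intro M hM
    rw [Pic.mapAlgebra_apply, Pic.mk_eq_one_iff] at hM
    obtain ⟨θ⟩ := hM
    obtain ⟨e⟩ := key I hI M θ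
    rw [← Pic.mk_eq_self (M := M), Pic.mk_eq_one_iff]
    exact ⟨e⟩
  · intro L
    obtain ⟨P, _, _, _, _, ⟨eP⟩⟩ := lift_proj I hI L
    obtain ⟨P₂, _, _, _, _, ⟨eP₂⟩⟩ := lift_proj I hI (Module.Dual (R ⧸ I) L)
    let θ : (R ⧸ I) ⊗[R] (P₂ ⊗[R] P) ≃ₗ[R ⧸ I] (R ⧸ I) :=
      AlgebraTensorModule.distribBaseChange R (R ⧸ I) P₂ P ≪≫ₗ TensorProduct.congr eP₂ eP ≪≫ₗ
        Module.Invertible.linearEquiv (R ⧸ I) L
    obtain ⟨e⟩ := key I hI (P₂ ⊗[R] P) θ
    have : Module.Invertible R P := Module.Invertible.right e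
    refine ⟨Pic.mk R P, ?_⟩
    rw [Pic.mapAlgebra_apply, Pic.mk_eq_iff]
    exact ⟨AlgebraTensorModule.congr (LinearEquiv.refl _ _) (Pic.mk.linearEquiv R P) ≪≫ₗ eP⟩

/-- Let f : A' → A be a surjective ring homomorphism whose kernel is a nilpotent ideal. Then the induced
homomorphism of Picard groups Pic(A') → Pic(A), base change of invertible modules along f, is
bijective. -/
theorem result {A' A : Type u} [CommRing A'] [CommRing A]
    (f : A' →+* A) (hf : Function.Surjective f) (hker : IsNilpotent (RingHom.ker f)) :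
    Function.Bijective (CommRing.Pic.mapRingHom f) := by
  have hmk : Function.Bijective (CommRing.Pic.mapRingHom (Ideal.Quotient.mk (RingHom.ker f))) := by
    have := CommRing.Pic.mapRingHom_algebraMap (R := A') (A := A' ⧸ RingHom.ker f)
    rw [Ideal.Quotient.algebraMap_eq] at this
    rw [this]
    exact main (RingHom.ker f) hker
  let e : A' ⧸ RingHom.ker f ≃+* A := RingHom.quotientKerEquivOfSurjective hf
  have hcomp : f = (e : A' ⧸ RingHom.ker f →+* A).comp (Ideal.Quotient.mk (RingHom.ker f)) := by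
    ext x
    simp [e]
  have he : Function.Bijective (CommRing.Pic.mapRingHom (e : A' ⧸ RingHom.ker f →+* A)) := by
    refine Function.bijective_iff_has_inverse.mpr
      ⟨CommRing.Pic.mapRingHom (e.symm : A →+* A' ⧸ RingHom.ker f), fun M => ?_, fun M => ?_⟩
    · rw [CommRing.Pic.mapRingHom_mapRingHom]
      have : (e.symm : A →+* A' ⧸ RingHom.ker f).comp (e : A' ⧸ RingHom.ker f →+* A) =
          RingHom.id _ := by ext x; simp
      rw [this, CommRing.Pic.mapRingHom_id_apply]
    · rw [CommRing.Pic.mapRingHom_mapRingHom]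
      have : (e : A' ⧸ RingHom.ker f →+* A).comp (e.symm : A →+* A' ⧸ RingHom.ker f) =
          RingHom.id _ := by ext x; simp
      rw [this, CommRing.Pic.mapRingHom_id_apply]
  rw [hcomp, ← CommRing.Pic.mapRingHom_comp_mapRingHom]
  exact he.comp hmk

end Groth.Agent.S15353
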