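import Groth.Statements.S15354
import Mathlib

set_option autoImplicit false
universe u
open CategoryTheory CategoryTheory.Limits AlgebraicGeometry
open Mor

namespace Groth.Agent.S15354

/-- Let f : Y ⟶ X be a morphism of schemes, A a valuation ring with fraction field K and residue field
k, and ξ, η : Spec A ⟶ Y two A-points of Y over the same A-point of X. If ξ and η restrict to the
same K-point and to the same k-point of Y, then ξ = η. (The published statement is an equivalence,
for algebraic spaces locally of finite presentation over a Noetherian scheme, between local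
separatedness of f and conditions (a), (b); this row is the necessity of (a) in the case of schemes,
where no hypothesis on f is needed.) -/
theorem result {X Y : Scheme.{u}} (f : Y ⟶ X)
    (A : Type u) [CommRing A] [IsDomain A] [ValuationRing A] (K : Type u) [Field K] [Algebra A K]
    [IsFractionRing A K] (ξ η : Spec (CommRingCat.of A) ⟶ Y) (hf : ξ ≫ f = η ≫ f)
    (hK : Spec.map (CommRingCat.ofHom (algebraMap A K)) ≫ ξ = Spec.map (CommRingCat.ofHom (algebraMap A K)) ≫ η)
    (hk : Spec.map (CommRingCat.ofHom (IsLocalRing.residue A)) ≫ ξ =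
      Spec.map (CommRingCat.ofHom (IsLocalRing.residue A)) ≫ η) :
    ξ = η := by
  have hpt : ξ (IsLocalRing.closedPoint A) = η (IsLocalRing.closedPoint A) := by
    have h0 : Spec.map (CommRingCat.ofHom (IsLocalRing.residue A))
        (IsLocalRing.closedPoint (IsLocalRing.ResidueField A)) = IsLocalRing.closedPoint A :=
      IsLocalRing.comap_closedPoint (IsLocalRing.residue A)
    have h1 := congrArg (fun g => g (IsLocalRing.closedPoint (IsLocalRing.ResidueField A))) hk
    simp only [Scheme.Hom.comp_apply] at h1
    rw [h0] at h1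
    exact h1
  obtain ⟨V, hV, hyV⟩ : ∃ V : Y.Opens, IsAffineOpen V ∧ ξ (IsLocalRing.closedPoint A) ∈ V := by
    obtain ⟨_, ⟨V, hV, rfl⟩, hyV, -⟩ := Y.isBasis_affineOpens.exists_subset_of_mem_open
      (Set.mem_univ (ξ (IsLocalRing.closedPoint A))) isOpen_univ
    exact ⟨V, hV, hyV⟩
  have h1 : ξ ⁻¹ᵁ V = ⊤ := Scheme.preimage_eq_top_of_closedPoint_mem (R := CommRingCat.of A) ξ hyV
  have h2 : η ⁻¹ᵁ V = ⊤ := Scheme.preimage_eq_top_of_closedPoint_mem (R := CommRingCat.of A) η
    (hpt ▸ hyV)
  have hr1 : Set.range ξ ⊆ Set.range V.ι := by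
    rintro _ ⟨x, rfl⟩
    have : x ∈ ξ ⁻¹ᵁ V := by rw [h1]; trivial
    simpa using this
  have hr2 : Set.range η ⊆ Set.range V.ι := by
    rintro _ ⟨x, rfl⟩
    have : x ∈ η ⁻¹ᵁ V := by rw [h2]; trivial
    simpa using this
  have e1 := IsOpenImmersion.lift_fac V.ι ξ hr1
  have e2 := IsOpenImmersion.lift_fac V.ι η hr2
  rw [← e1, ← e2]
  congr 1
  have : IsAffine (V : Scheme.{u}) := hV
  apply ext_of_isAffine
  have hK' : Spec.map (CommRingCat.ofHom (algebraMap A K)) ≫ IsOpenImmersion.lift V.ι ξ hr1 =
      Spec.map (CommRingCat.ofHom (algebraMap A K)) ≫ IsOpenImmersion.lift V.ι η hr2 := by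
    rw [← cancel_mono V.ι, Category.assoc, Category.assoc, e1, e2, hK]
  have h3 := congrArg Scheme.Hom.appTop hK'
  simp only [Scheme.Hom.comp_appTop] at h3
  have hinj : Function.Injective (Spec.map (CommRingCat.ofHom (algebraMap A K))).appTop := by
    have hnat := Scheme.ΓSpecIso_naturality (CommRingCat.ofHom (algebraMap A K))
    have h7 : (Spec.map (CommRingCat.ofHom (algebraMap A K))).appTop =
        (Scheme.ΓSpecIso (CommRingCat.of A)).hom ≫ CommRingCat.ofHom (algebraMap A K) ≫
          (Scheme.ΓSpecIso (CommRingCat.of K)).inv := by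
      rw [← Category.assoc, ← hnat, Category.assoc, Iso.hom_inv_id, Category.comp_id]
    rw [h7]
    intro a b hab
    simp only [CommRingCat.comp_apply] at hab
    have h8 := (ConcreteCategory.bijective_of_isIso (Scheme.ΓSpecIso (CommRingCat.of K)).inv).1 hab
    have h9 := (IsFractionRing.injective A K) h8
    exact (ConcreteCategory.bijective_of_isIso (Scheme.ΓSpecIso (CommRingCat.of A)).hom).1 h9
  ext x
  apply hinj
  exact congrArg (fun g => g x) h3

end Groth.Agent.S15354
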