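import Groth.Statements.S15355
import Mathlib

set_option autoImplicit false
universe u
open CategoryTheory CategoryTheory.Limits AlgebraicGeometry
open Mor

namespace Groth.Agent.S15355

/-- Let f : Y ⟶ X be a morphism of schemes, A an integral domain and ξ, η : Spec A ⟶ Y two A-points of Y
over the same A-point of X. If ξ and η induce the same κ(p)-point of Y at every point p of some
dense subset of Spec A, then ξ and η agree on a nonempty open subscheme of Spec A. (The published
statement is an equivalence, for algebraic spaces locally of finite presentation over a Noetherian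
scheme, between local separatedness of f and conditions (a), (b); this row is the necessity of (b)
in the case of schemes, where no hypothesis on f is needed.) -/
theorem result {X Y : Scheme.{u}} (f : Y ⟶ X)
    (A : Type u) [CommRing A] [IsDomain A] (ξ η : Spec (CommRingCat.of A) ⟶ Y) (hf : ξ ≫ f = η ≫ f)
    (D : Set ↥(Spec (CommRingCat.of A))) (hD : Dense D)
    (hpt : ∀ p ∈ D, (Spec (CommRingCat.of A)).fromSpecResidueField p ≫ ξ =
      (Spec (CommRingCat.of A)).fromSpecResidueField p ≫ η) :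
    ∃ U : (Spec (CommRingCat.of A)).Opens, (U : Set ↥(Spec (CommRingCat.of A))).Nonempty ∧ U.ι ≫ ξ = U.ι ≫ η := by
  classical
  obtain ⟨p₀, hp₀⟩ : D.Nonempty := by
    have : Nonempty ↥(Spec (CommRingCat.of A)) := by
      change Nonempty (PrimeSpectrum A)
      infer_instance
    exact hD.nonempty
  have hpts : ∀ p ∈ D, ξ p = η p := by
    intro p hp
    have h1 := congrArg (fun g => g (IsLocalRing.closedPoint ((Spec (CommRingCat.of A)).residueField p)))
      (hpt p hp)
    simpa only [Scheme.Hom.comp_apply, Scheme.fromSpecResidueField_apply] using h1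
  obtain ⟨V, hV, hyV⟩ : ∃ V : Y.Opens, IsAffineOpen V ∧ ξ p₀ ∈ V := by
    obtain ⟨_, ⟨V, hV, rfl⟩, hyV, -⟩ := Y.isBasis_affineOpens.exists_subset_of_mem_open
      (Set.mem_univ (ξ p₀)) isOpen_univ
    exact ⟨V, hV, hyV⟩
  let U : (Spec (CommRingCat.of A)).Opens := ξ ⁻¹ᵁ V ⊓ η ⁻¹ᵁ V
  have hp₀U : p₀ ∈ U := ⟨hyV, by
    change η p₀ ∈ V
    rw [← hpts p₀ hp₀]; exact hyV⟩
  refine ⟨U, ⟨p₀, hp₀U⟩, ?_⟩
  have hr1 : Set.range (U.ι ≫ ξ) ⊆ Set.range V.ι := by
    rintro _ ⟨x, rfl⟩
    have : (U.ι x) ∈ ξ ⁻¹ᵁ V := x.2.1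
    simpa using this
  have hr2 : Set.range (U.ι ≫ η) ⊆ Set.range V.ι := by
    rintro _ ⟨x, rfl⟩
    have : (U.ι x) ∈ η ⁻¹ᵁ V := x.2.2
    simpa using this
  have e1 := IsOpenImmersion.lift_fac V.ι (U.ι ≫ ξ) hr1
  have e2 := IsOpenImmersion.lift_fac V.ι (U.ι ≫ η) hr2
  rw [← e1, ← e2]
  congr 1
  have : IsAffine (V : Scheme.{u}) := hV
  apply ext_of_isAffine
  ext b
  rw [← sub_eq_zero]
  set ξ' := IsOpenImmersion.lift V.ι (U.ι ≫ ξ) hr1 with hξ'
  set η' := IsOpenImmersion.lift V.ι (U.ι ≫ η) hr2 with hη'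
  set s : Γ((U : Scheme.{u}), ⊤) := ξ'.appTop b - η'.appTop b with hs
  have hred : IsReduced (Spec (CommRingCat.of A)) := inferInstance
  apply eq_zero_of_basicOpen_eq_bot (X := (U : Scheme.{u})) (U := ⊤) s
  by_contra hne
  obtain ⟨u, hu⟩ : ((U : Scheme.{u}).basicOpen s : Set ↥(U : Scheme.{u})).Nonempty := by
    rw [Set.nonempty_iff_ne_empty]
    intro h
    apply hne
    ext x
    simp [h]
  have hopen : IsOpen (U.ι '' ((U : Scheme.{u}).basicOpen s : Set ↥(U : Scheme.{u}))) :=
    U.ι.isOpenEmbedding.isOpenMap _ ((U : Scheme.{u}).basicOpen s).2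
  obtain ⟨p, hpD, hpim⟩ : ∃ p ∈ D, p ∈ U.ι '' ((U : Scheme.{u}).basicOpen s : Set ↥(U : Scheme.{u})) := by
    obtain ⟨p, hp1, hp2⟩ := hD.inter_open_nonempty _ hopen ⟨U.ι u, u, hu, rfl⟩
    exact ⟨p, hp2, hp1⟩
  obtain ⟨u', hu', rfl⟩ := hpim
  have hrq : Set.range ((Spec (CommRingCat.of A)).fromSpecResidueField (U.ι u')) ⊆ Set.range U.ι := by
    rintro _ ⟨x, rfl⟩
    rw [Scheme.fromSpecResidueField_apply]
    exact ⟨u', rfl⟩
  set q := IsOpenImmersion.lift U.ι ((Spec (CommRingCat.of A)).fromSpecResidueField (U.ι u')) hrq with hq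
  have eq := IsOpenImmersion.lift_fac U.ι ((Spec (CommRingCat.of A)).fromSpecResidueField (U.ι u')) hrq
  have hqq : q ≫ ξ' = q ≫ η' := by
    rw [← cancel_mono V.ι, Category.assoc, Category.assoc, e1, e2, ← Category.assoc, ← Category.assoc,
      eq]
    exact hpt _ hpD
  have hqs : q.appTop s = 0 := by
    have h3 := congrArg Scheme.Hom.appTop hqq
    simp only [Scheme.Hom.comp_appTop] at h3
    have h4 := congrArg (fun g => g b) h3
    simp only [CommRingCat.comp_apply] at h4
    rw [hs, map_sub, sub_eq_zero]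
    exact h4
  have hpre := Scheme.preimage_basicOpen_top q s
  rw [hqs, Scheme.basicOpen_zero] at hpre
  have hqpt : q (IsLocalRing.closedPoint _) = u' := by
    apply U.ι.isOpenEmbedding.injective
    have := congrArg (fun g => g (IsLocalRing.closedPoint _)) eq
    simpa only [Scheme.Hom.comp_apply, Scheme.fromSpecResidueField_apply] using this
  have : IsLocalRing.closedPoint _ ∈ q ⁻¹ᵁ ((U : Scheme.{u}).basicOpen s) := by
    change q (IsLocalRing.closedPoint _) ∈ (U : Scheme.{u}).basicOpen s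
    rw [hqpt]
    exact hu'
  rw [hpre] at this
  exact this

end Groth.Agent.S15355
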