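import Groth.Statements.S1536
import Mathlib
import Groth.Agent.Lib.Helper51.H0Const

set_option autoImplicit false
universe u
open CategoryTheory CategoryTheory.Limits AlgebraicGeometry
open Variety

namespace Groth.Agent.S1536

/-- For a proper scheme X over a field k which is geometrically reduced and geometrically connected,
H^0(X, O_X) is one-dimensional over k, i.e. the global functions are the constants. -/
theorem result (k : Type u) [Field k] (X : Scheme.{u}) [X.Over (Spec (CommRingCat.of k))] [IsProper (X ↘ (Spec (CommRingCat.of k)))]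
    [GeometricallyReduced (X ↘ (Spec (CommRingCat.of k)))] [GeometricallyConnected (X ↘ (Spec (CommRingCat.of k)))] :
    Module.finrank k (Coh.HH X (Coh.structureModule X) 0) = 1 := by
  classical
  have hbij := Groth.Agent.Lib.Helper51.bijective_toGlobal (X ↘ (Spec (CommRingCat.of k)))
  let e := Groth.Agent.Lib.Helper51.h0Equiv X
  haveI : Nontrivial (Coh.Γtop X) := hbij.1.nontrivial
  let v := e.symm 1
  have hv : v ≠ 0 := by
    intro h
    have h1 : e v = 1 := e.apply_symm_apply 1
    rw [h, map_zero] at h1
    exact zero_ne_one h1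
  refine (finrank_eq_one_iff_of_nonzero' v hv).mpr fun w => ?_
  obtain ⟨c, hc⟩ := hbij.2 (e w)
  refine ⟨c, e.injective ?_⟩
  change e ((Coh.toGlobal (X ↘ (Spec (CommRingCat.of k))) c : Coh.Γtop X) • v) = e w
  rw [Groth.Agent.Lib.Helper51.h0Equiv_smul, hc]
  change e w * e (e.symm 1) = e w
  rw [e.apply_symm_apply, mul_one]

end Groth.Agent.S1536
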