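import Groth.Statements.S15362
-- import your own Groth.Agent.* helpers here
import Mathlib
import Groth.Agent.Lib.Helper90.Isoc20

set_option autoImplicit false
universe u v w
open CAlg

namespace Groth.Agent.S15362

/-- For an algebraically closed field L of characteristic p > 0, a commutative L-algebra R integral over
L, and a finitely presented R-module M carrying an additive endomorphism φ with φ(r·m) = r^p·φ(m)
for r ∈ R, m ∈ M, the map m ↦ φ(m) − m is onto. (R is taken of exponential characteristic p so that
its Frobenius is a ring endomorphism; for a non-zero L-algebra this is automatic.) -/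
theorem result (p : ℕ) [Fact p.Prime]
    (L : Type u) [Field L] [IsAlgClosed L] [CharP L p]
    (R : Type v) [CommRing R] [Algebra L R] [Algebra.IsIntegral L R] [ExpChar R p]
    (M : Type w) [AddCommGroup M] [Module R M] [Module.FinitePresentation R M]
    (φ : M →ₛₗ[frobenius R p] M) :
    Function.Surjective fun m : M => φ m - m := by
  classical
  intro m
  letI : Module L M := Module.compHom M (algebraMap L R)
  haveI : IsScalarTower L R M := ⟨fun l r x => by
    show (l • r) • x = algebraMap L R l • (r • x)
    rw [Algebra.smul_def, mul_smul]⟩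
  obtain ⟨n, s, hs⟩ := Module.Finite.exists_fin (R := R) (M := M)
  have hmem : ∀ x : M, ∃ c : Fin n → R, ∑ i, c i • s i = x := fun x =>
    (Submodule.mem_span_range_iff_exists_fun R).mp (hs ▸ Submodule.mem_top)
  choose c hc using hmem
  let T : Finset R := (Finset.univ.image fun ij : Fin n × Fin n => c (φ (s ij.1)) ij.2) ∪
    Finset.univ.image (c m)
  let A : Subalgebra L R := Algebra.adjoin L (T : Set R)
  haveI hA : Module.Finite L A :=
    Algebra.finite_adjoin_of_finite_of_isIntegral T.finite_toSet
      fun x _ => Algebra.IsIntegral.isIntegral x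
  have hT1 : ∀ i j, c (φ (s i)) j ∈ A := fun i j =>
    Algebra.subset_adjoin (Finset.mem_coe.mpr (Finset.mem_union_left _
      (Finset.mem_image.mpr ⟨(i, j), Finset.mem_univ _, rfl⟩)))
  have hT2 : ∀ j, c m j ∈ A := fun j =>
    Algebra.subset_adjoin (Finset.mem_coe.mpr (Finset.mem_union_right _
      (Finset.mem_image.mpr ⟨j, Finset.mem_univ _, rfl⟩)))
  let Ψ : (Fin n → A) →ₗ[L] M :=
    { toFun := fun f => ∑ i, (f i : R) • s i
      map_add' := fun f g => by
        simp only [Pi.add_apply, Subalgebra.coe_add, add_smul, Finset.sum_add_distrib]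
      map_smul' := fun l f => by
        simp only [Pi.smul_apply, RingHom.id_apply, Finset.smul_sum]
        refine Finset.sum_congr rfl fun i _ => ?_
        rw [Subalgebra.coe_smul, smul_assoc] }
  have hΨ : ∀ f, Ψ f = ∑ i, (f i : R) • s i := fun _ => rfl
  let N : Submodule L M := LinearMap.range Ψ
  haveI : FiniteDimensional L N := inferInstance
  have hst : ∀ x ∈ N, φ x ∈ N := by
    rintro x ⟨f, rfl⟩
    refine ⟨fun j => ⟨∑ i, (f i : R) ^ p * c (φ (s i)) j, ?_⟩, ?_⟩
    · exact A.sum_mem fun i _ => A.mul_mem (A.pow_mem (f i).2 _) (hT1 i j)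
    · rw [hΨ, hΨ, map_sum]
      simp only [map_smulₛₗ, frobenius_def]
      calc ∑ j, (∑ i, (f i : R) ^ p * c (φ (s i)) j) • s j
          = ∑ j, ∑ i, ((f i : R) ^ p * c (φ (s i)) j) • s j := by
            refine Finset.sum_congr rfl fun j _ => ?_
            rw [Finset.sum_smul]
        _ = ∑ i, ∑ j, ((f i : R) ^ p * c (φ (s i)) j) • s j := Finset.sum_comm
        _ = ∑ i, (f i : R) ^ p • φ (s i) := by
            refine Finset.sum_congr rfl fun i _ => ?_
            conv_rhs => rw [← hc (φ (s i)), Finset.smul_sum]
            refine Finset.sum_congr rfl fun j _ => ?_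
            rw [mul_smul]
  let φN : N →ₛₗ[frobenius L p] N :=
    { toFun := fun x => ⟨φ x, hst x x.2⟩
      map_add' := fun x y => by
        apply Subtype.ext
        simp only [Submodule.coe_add, map_add]
      map_smul' := fun l x => by
        apply Subtype.ext
        simp only [Submodule.coe_smul]
        rw [← algebraMap_smul R l (x : M), map_smulₛₗ, frobenius_def, ← map_pow, algebraMap_smul,
          frobenius_def] }
  have hmN : m ∈ N := ⟨fun j => ⟨c m j, hT2 j⟩, by rw [hΨ]; exact hc m⟩
  have hψ : ∀ t : L, frobenius L p t = t ^ (p ^ 1) := fun t => by rw [pow_one, frobenius_def]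
  obtain ⟨x, hx⟩ := Groth.Agent.Lib.Helper90.IsocLib.lang_surj p Nat.one_pos hψ φN ⟨-m, N.neg_mem hmN⟩
  refine ⟨x, ?_⟩
  have h1 : (x : M) - φ x = -m := congrArg Subtype.val hx
  show φ (x : M) - x = m
  rw [← neg_sub, h1, neg_neg]

end Groth.Agent.S15362
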