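import Groth.Statements.S15363
import Mathlib

set_option autoImplicit false
universe u
open CategoryTheory AlgebraicGeometry
open SekSuwa

namespace Groth.Agent.S15363
open CategoryTheory AlgebraicGeometry
open SekSuwa

theorem regular_of_flat {R : Type u} [CommRing R] {X : Scheme.{u}}
    (p : X ⟶ Spec (CommRingCat.of R)) [Flat p]
    (lam : R) (hlam : lam ∈ nonZeroDivisors R) (s : Γ(X, ⊤))
    (hs : ((Scheme.ΓSpecIso (.of R)).inv ≫ p.appTop).hom lam * s = 0) : s = 0 := by
  refine X.sheaf.eq_of_locally_eq' (fun i : X.affineOpens => (i : X.Opens)) ⊤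
    (fun i => homOfLE le_top) ?_ s 0 ?_
  · rw [iSup_affineOpens_eq_top]
  · intro V
    rw [map_zero]
    have hflat := Scheme.Hom.flat_appLE p (isAffineOpen_top (Spec (.of R))) V.2
      (le_top : V.1 ≤ p ⁻¹ᵁ ⊤)
    have hθ : ((Scheme.ΓSpecIso (.of R)).inv ≫ p.appLE ⊤ V.1 le_top).hom.Flat := by
      rw [CommRingCat.hom_comp]
      refine RingHom.Flat.comp ?_ hflat
      exact RingHom.Flat.of_bijective
        (ConcreteCategory.bijective_of_isIso (Scheme.ΓSpecIso (.of R)).inv)
    have hres : ((Scheme.ΓSpecIso (.of R)).inv ≫ p.appLE ⊤ V.1 le_top).hom lam *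
        (X.presheaf.map (homOfLE (le_top : V.1 ≤ ⊤)).op).hom s = 0 := by
      have h1 := congrArg (X.presheaf.map (homOfLE (le_top : V.1 ≤ ⊤)).op).hom hs
      rw [map_mul, map_zero] at h1
      exact h1
    letI : Algebra R Γ(X, V.1) :=
      ((Scheme.ΓSpecIso (.of R)).inv ≫ p.appLE ⊤ V.1 le_top).hom.toAlgebra
    haveI : Module.Flat R Γ(X, V.1) := hθ
    have hreg := Module.Flat.isSMulRegular_of_nonZeroDivisors (M := Γ(X, V.1)) hlam
    have h2 : lam • ((X.presheaf.map (homOfLE (le_top : V.1 ≤ ⊤)).op).hom s) =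
        lam • (0 : Γ(X, V.1)) := by
      rw [smul_zero, Algebra.smul_def]
      exact hres
    exact hreg h2

theorem main (R : Type u) [CommRing R] (p : ℕ) (lam : R) (h : SekSuwa.DivCond lam p)
    (G : Over (Spec (CommRingCat.of R))) [Flat G.hom]
    (f g : G ⟶ SekSuwa.GK R lam p h)
    (hfg : f ≫ SekSuwa.alphaN R lam p h = g ≫ SekSuwa.alphaN R lam p h) : f = g := by
  apply Over.OverMorphism.ext
  obtain ⟨fl, hfl⟩ : ∃ fl : G.left ⟶ Spec (CommRingCat.of (SekSuwa.AK R lam p h)), fl = f.left :=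
    ⟨_, rfl⟩
  obtain ⟨gl, hgl⟩ : ∃ gl : G.left ⟶ Spec (CommRingCat.of (SekSuwa.AK R lam p h)), gl = g.left :=
    ⟨_, rfl⟩
  rw [← hfl, ← hgl]
  -- structure maps
  have hwf : fl ≫ Spec.map (CommRingCat.ofHom (algebraMap R (SekSuwa.AK R lam p h))) = G.hom := by
    rw [hfl]; exact Over.w f
  have hwg : gl ≫ Spec.map (CommRingCat.ofHom (algebraMap R (SekSuwa.AK R lam p h))) = G.hom := by
    rw [hgl]; exact Over.w g
  have hα : fl ≫ Spec.map (CommRingCat.ofHom
      ((SekSuwa.alphaNHom R lam p h : MonoidAlgebra R (Multiplicative (ZMod p)) →+* SekSuwa.AK R lam p h))) =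
      gl ≫ Spec.map (CommRingCat.ofHom
      ((SekSuwa.alphaNHom R lam p h : MonoidAlgebra R (Multiplicative (ZMod p)) →+* SekSuwa.AK R lam p h))) := by
    rw [hfl, hgl]
    exact congrArg (fun k => k.left) hfg
  obtain ⟨φf, hφf⟩ : ∃ φf : CommRingCat.of (SekSuwa.AK R lam p h) ⟶ Γ(G.left, ⊤),
      φf = (Scheme.ΓSpecIso (.of (SekSuwa.AK R lam p h))).inv ≫ fl.appTop := ⟨_, rfl⟩
  obtain ⟨φg, hφg⟩ : ∃ φg : CommRingCat.of (SekSuwa.AK R lam p h) ⟶ Γ(G.left, ⊤),
      φg = (Scheme.ΓSpecIso (.of (SekSuwa.AK R lam p h))).inv ≫ gl.appTop := ⟨_, rfl⟩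
  obtain ⟨ρ, hρ⟩ : ∃ ρ : CommRingCat.of R ⟶ Γ(G.left, ⊤),
      ρ = (Scheme.ΓSpecIso (.of R)).inv ≫ G.hom.appTop := ⟨_, rfl⟩
  have h3f : CommRingCat.ofHom (algebraMap R (SekSuwa.AK R lam p h)) ≫ φf = ρ := by
    rw [hφf, hρ, ← hwf, Scheme.ΓSpecIso_inv_naturality_assoc, Scheme.Hom.comp_appTop]
  have h3g : CommRingCat.ofHom (algebraMap R (SekSuwa.AK R lam p h)) ≫ φg = ρ := by
    rw [hφg, hρ, ← hwg, Scheme.ΓSpecIso_inv_naturality_assoc, Scheme.Hom.comp_appTop]
  have h4 : CommRingCat.ofHom ((SekSuwa.alphaNHom R lam p h : MonoidAlgebra R (Multiplicative (ZMod p)) →+* SekSuwa.AK R lam p h)) ≫ φf =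
      CommRingCat.ofHom ((SekSuwa.alphaNHom R lam p h : MonoidAlgebra R (Multiplicative (ZMod p)) →+* SekSuwa.AK R lam p h)) ≫ φg := by
    rw [hφf, hφg, Scheme.ΓSpecIso_inv_naturality_assoc, Scheme.ΓSpecIso_inv_naturality_assoc,
      ← Scheme.Hom.comp_appTop, ← Scheme.Hom.comp_appTop, hα]
  -- elementwise facts
  have e3f : ∀ r : R, φf.hom (algebraMap R _ r) = ρ.hom r := fun r => by
    rw [← h3f]; rfl
  have e3g : ∀ r : R, φg.hom (algebraMap R _ r) = ρ.hom r := fun r => by
    rw [← h3g]; rfl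
  have e5 : φf.hom (1 + lam • (SekSuwa.AK.t : SekSuwa.AK R lam p h)) =
      φg.hom (1 + lam • (SekSuwa.AK.t : SekSuwa.AK R lam p h)) := by
    have := congrArg (fun k => k.hom
      (MonoidAlgebra.single (Multiplicative.ofAdd (1 : ZMod p)) (1 : R))) h4
    simp only [CommRingCat.hom_comp, CommRingCat.hom_ofHom, RingHom.comp_apply] at this
    have e := SekSuwa.alphaNHom_single_one R lam p h
    have e' : ((SekSuwa.alphaNHom R lam p h : MonoidAlgebra R (Multiplicative (ZMod p)) →+* SekSuwa.AK R lam p h))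
        (MonoidAlgebra.single (Multiplicative.ofAdd (1 : ZMod p)) (1 : R)) =
        1 + lam • (SekSuwa.AK.t : SekSuwa.AK R lam p h) := e
    rw [e'] at this
    exact this
  have e7 : φf.hom (SekSuwa.AK.t : SekSuwa.AK R lam p h) = φg.hom SekSuwa.AK.t := by
    have h5 : ρ.hom lam * (φf.hom (SekSuwa.AK.t : SekSuwa.AK R lam p h) -
        φg.hom SekSuwa.AK.t) = 0 := by
      have := e5
      rw [map_add, map_add, map_one, map_one, Algebra.smul_def, map_mul, map_mul, e3f, e3g] at this
      rw [mul_sub, sub_eq_zero]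
      exact add_left_cancel this
    have h6 := regular_of_flat G.hom lam h.nzd _ (by rw [← hρ]; exact h5)
    exact sub_eq_zero.mp h6
  have e8 : φf.hom (SekSuwa.AK.inv : SekSuwa.AK R lam p h) = φg.hom SekSuwa.AK.inv := by
    have hu : (SekSuwa.AK.inv : SekSuwa.AK R lam p h) *
        (1 + lam • (SekSuwa.AK.t : SekSuwa.AK R lam p h)) = 1 := by
      have := congrArg (SekSuwa.AK.mkHom R lam p h) (SekSuwa.A.inv_mul_u (R := R) (lam := lam))
      rw [map_mul, map_one, SekSuwa.AK.mkHom_u] at this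
      exact this
    have h1 := congrArg φf.hom hu
    have h2 := congrArg φg.hom hu
    rw [map_mul, map_one] at h1 h2
    calc φf.hom SekSuwa.AK.inv = φf.hom SekSuwa.AK.inv * (φg.hom SekSuwa.AK.inv *
          φg.hom (1 + lam • (SekSuwa.AK.t : SekSuwa.AK R lam p h))) := by rw [h2, mul_one]
      _ = (φf.hom SekSuwa.AK.inv * φf.hom (1 + lam • (SekSuwa.AK.t : SekSuwa.AK R lam p h))) *
          φg.hom SekSuwa.AK.inv := by rw [e5]; ring
      _ = φg.hom SekSuwa.AK.inv := by rw [h1, one_mul]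
  -- conclude
  letI : Algebra R Γ(G.left, ⊤) := ρ.hom.toAlgebra
  have key : φf.hom = φg.hom := by
    have := SekSuwa.AK.algHom_ext (R := R) (lam := lam) (N := p) (h := h)
      (f := ({ φf.hom with commutes' := e3f } : SekSuwa.AK R lam p h →ₐ[R] Γ(G.left, ⊤)))
      (g := ({ φg.hom with commutes' := e3g } : SekSuwa.AK R lam p h →ₐ[R] Γ(G.left, ⊤)))
      e7 e8
    exact RingHom.ext (fun x => DFunLike.congr_fun this x)
  have key' : φf = φg := CommRingCat.hom_ext key
  apply AlgebraicGeometry.ext_to_Spec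
  simp only [Scheme.Γ_map_op]
  exact hφf.symm.trans (key'.trans hφg)

end Groth.Agent.S15363

namespace Groth.Agent.S15363

/-- Let R be an integral domain, p a prime and λ ∈ R a non-zero element with λ^p dividing (1 + λX)^p −
1, so that the congruence group scheme G_λ = Spec R[T]/(P_λ(T)) of level λ and its homomorphism θ_λ
: G_λ → μ_p, X ↦ 1 + λT, are defined. For every scheme G flat over Spec R, composition with θ_λ is
injective on R-morphisms G → G_λ; in particular θ_λ induces an injective map from the homomorphisms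
G → G_λ of a flat R-group scheme G to its homomorphisms G → μ_p. (The published statement is over
the ring of integers of an algebraic closure of a complete discretely valued field of mixed
characteristic, for finite flat commutative group schemes killed by p; the published argument, that
θ_λ is an isomorphism on the generic fibre and G is flat, gives the form stated here.) -/
theorem result (R : Type u) [CommRing R] [IsDomain R]
    (p : ℕ) [Fact p.Prime] (lam : R) (h : SekSuwa.DivCond lam p)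
    (G : Over (Spec (CommRingCat.of R))) [Flat G.hom]
    (f g : G ⟶ SekSuwa.GK R lam p h)
    (hfg : f ≫ SekSuwa.alphaN R lam p h = g ≫ SekSuwa.alphaN R lam p h) : f = g := by
  exact main R p lam h G f g hfg

end Groth.Agent.S15363
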