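import Groth.Statements.S15365
import Mathlib

set_option autoImplicit false
universe u
open scoped BigOperators
open CAlg

namespace Groth.Agent.S15365

open Algebra MvPolynomial

section
variable (p : ℕ) [Fact p.Prime] (A : Type u) [CommRing A] [CharP A p] (n : ℕ)
  (h : Matrix (Fin n) (Fin n) A)

/-- the relations -/
noncomputable abbrev rel (j : Fin n) : MvPolynomial (Fin n) A :=
  (X j : MvPolynomial (Fin n) A) ^ p - ∑ i : Fin n, C (h i j) * X i

/-- the algebra -/
abbrev Bp := MvPolynomial (Fin n) A ⧸ Ideal.span (Set.range (rel p A n h))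

/-- the naive presentation -/
noncomputable def P₀ : PreSubmersivePresentation A (Bp p A n h) (Fin n) (Fin n) :=
  PreSubmersivePresentation.naive (v := rel p A n h) id Function.injective_id

omit [Fact p.Prime] in
theorem P₀_jacobian :
    (P₀ p A n h).jacobian = algebraMap A (Bp p A n h) ((-h).det) := by
  classical
  rw [PreSubmersivePresentation.jacobian_eq_jacobiMatrix_det]
  have hp0 : ((p : ℕ) : MvPolynomial (Fin n) A) = 0 := by
    rw [← map_natCast (C : A →+* MvPolynomial (Fin n) A), CharP.cast_eq_zero, map_zero]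
  have hM : (P₀ p A n h).jacobiMatrix = (-h).map (C : A →+* MvPolynomial (Fin n) A) := by
    ext i j
    rw [P₀, PreSubmersivePresentation.jacobiMatrix_naive]
    simp only [id_eq, rel, map_sub, pderiv_pow, pderiv_X, map_sum, Matrix.map_apply,
      Matrix.neg_apply, map_neg]
    rw [hp0, zero_mul, zero_mul, zero_sub]
    congr 1
    rw [Finset.sum_eq_single i]
    · rw [Derivation.leibniz, pderiv_C, pderiv_X, Pi.single_eq_same]
      simp
    · intro k _ hk
      rw [Derivation.leibniz, pderiv_C, pderiv_X, Pi.single_eq_of_ne hk]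
      simp
    · intro hi; exact absurd (Finset.mem_univ i) hi
  rw [hM, ← RingHom.mapMatrix_apply, ← RingHom.map_det, Generators.algebraMap_apply, aeval_C]

omit [Fact p.Prime] in
theorem etale_of_isUnit (hu : IsUnit h.det) : Algebra.Etale A (Bp p A n h) := by
  have hjac : IsUnit (P₀ p A n h).jacobian := by
    rw [P₀_jacobian]
    refine IsUnit.map _ ?_
    rw [Matrix.det_neg]
    exact ((isUnit_neg_one (α := A)).pow _).mul hu
  let SP : SubmersivePresentation A (Bp p A n h) (Fin n) (Fin n) :=
    { toPreSubmersivePresentation := P₀ p A n h, jacobian_isUnit := hjac }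
  have : IsStandardSmoothOfRelativeDimension 0 A (Bp p A n h) :=
    SP.isStandardSmoothOfRelativeDimension (by simp [Presentation.dimension])
  infer_instance

theorem isUnit_of_unramified [Algebra.FormallyUnramified A (Bp p A n h)] : IsUnit h.det := by
  classical
  let N : Submodule A (Fin n → A) := LinearMap.range (Matrix.mulVecLin h)
  let e : Fin n → (Fin n → A) ⧸ N := fun i => N.mkQ (Pi.single i 1)
  have hp2 : 2 ≤ p := (Fact.out : p.Prime).two_le
  let φ1 : MvPolynomial (Fin n) A →ₐ[A] TrivSqZeroExt A ((Fin n → A) ⧸ N) := aeval (fun _ => 0)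
  let φ2 : MvPolynomial (Fin n) A →ₐ[A] TrivSqZeroExt A ((Fin n → A) ⧸ N) :=
    aeval (fun i => TrivSqZeroExt.inr (e i))
  have h1 : ∀ j, φ1 (rel p A n h j) = 0 := by
    intro j
    simp only [φ1, rel, map_sub, map_pow, aeval_X, map_sum, map_mul, mul_zero,
      Finset.sum_const_zero, sub_zero]
    exact zero_pow (by omega)
  have hcol : ∀ j, ∑ i, h i j • e i = 0 := by
    intro j
    have : ∑ i, h i j • e i = N.mkQ (∑ i, h i j • (Pi.single i 1 : Fin n → A)) := by
      simp only [map_sum, map_smul, e]
    rw [this]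
    have hmem : ∑ i, h i j • (Pi.single i 1 : Fin n → A) ∈ N := by
      refine ⟨Pi.single j 1, ?_⟩
      ext k
      simp [Finset.sum_apply, Pi.single_apply]
    exact (Submodule.Quotient.mk_eq_zero N).mpr hmem
  have h2 : ∀ j, φ2 (rel p A n h j) = 0 := by
    intro j
    have hpow : (TrivSqZeroExt.inr (e j) : TrivSqZeroExt A ((Fin n → A) ⧸ N)) ^ p = 0 := by
      obtain ⟨m, rfl⟩ : ∃ m, p = m + 2 := ⟨p - 2, by omega⟩
      rw [pow_add, pow_two, TrivSqZeroExt.inr_mul_inr, mul_zero]
    have hsum : ∑ i, φ2 (C (h i j) * X i) = 0 := by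
      have : ∀ i, φ2 (C (h i j) * X i) = TrivSqZeroExt.inr (h i j • e i) := by
        intro i
        rw [← smul_eq_C_mul, map_smul, TrivSqZeroExt.inr_smul]
        simp [φ2]
      simp only [this]
      rw [← TrivSqZeroExt.inr_sum, hcol, TrivSqZeroExt.inr_zero]
    simp only [rel, map_sub, map_pow, map_sum, hsum, sub_zero]
    simpa [φ2] using hpow
  have hle1 : ∀ a ∈ Ideal.span (Set.range (rel p A n h)), φ1 a = 0 := by
    intro a ha
    have : Ideal.span (Set.range (rel p A n h)) ≤ RingHom.ker φ1.toRingHom := by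
      rw [Ideal.span_le]; rintro _ ⟨j, rfl⟩; exact h1 j
    exact this ha
  have hle2 : ∀ a ∈ Ideal.span (Set.range (rel p A n h)), φ2 a = 0 := by
    intro a ha
    have : Ideal.span (Set.range (rel p A n h)) ≤ RingHom.ker φ2.toRingHom := by
      rw [Ideal.span_le]; rintro _ ⟨j, rfl⟩; exact h2 j
    exact this ha
  let g1 : Bp p A n h →ₐ[A] TrivSqZeroExt A ((Fin n → A) ⧸ N) := Ideal.Quotient.liftₐ _ φ1 hle1
  let g2 : Bp p A n h →ₐ[A] TrivSqZeroExt A ((Fin n → A) ⧸ N) := Ideal.Quotient.liftₐ _ φ2 hle2
  have hfst : (TrivSqZeroExt.fstHom A A ((Fin n → A) ⧸ N)).comp g1 =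
      (TrivSqZeroExt.fstHom A A ((Fin n → A) ⧸ N)).comp g2 := by
    apply Ideal.Quotient.algHom_ext
    apply MvPolynomial.algHom_ext
    intro i
    simp [g1, g2, φ1, φ2]
  have heq : g1 = g2 := by
    refine Algebra.FormallyUnramified.ext (TrivSqZeroExt.kerIdeal A ((Fin n → A) ⧸ N))
      ⟨2, TrivSqZeroExt.kerIdeal_sq _ _⟩ ?_
    intro x
    rw [Ideal.Quotient.eq, TrivSqZeroExt.kerIdeal, RingHom.mem_ker, map_sub, sub_eq_zero]
    exact AlgHom.congr_fun hfst x
  have hei : ∀ i, e i = 0 := by
    intro i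
    have := AlgHom.congr_fun heq (Ideal.Quotient.mk _ (X i))
    have h3 : g1 (Ideal.Quotient.mk _ (X i)) = 0 := by simp [g1, φ1]
    have h4 : g2 (Ideal.Quotient.mk _ (X i)) = TrivSqZeroExt.inr (e i) := by simp [g2, φ2]
    rw [h3, h4] at this
    exact (TrivSqZeroExt.inr_injective (R := A) (by rw [← this, TrivSqZeroExt.inr_zero]))
  have hN : N = ⊤ := by
    rw [_root_.eq_top_iff]
    intro v _
    have hv : v = ∑ i, v i • (Pi.single i 1 : Fin n → A) := by
      ext k; simp [Finset.sum_apply, Pi.single_apply]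
    rw [hv]
    refine Submodule.sum_mem _ fun i _ => Submodule.smul_mem _ _ ?_
    have := hei i
    simpa [e] using this
  have hsurj : Function.Surjective h.mulVec := by
    intro v
    have : v ∈ N := hN ▸ Submodule.mem_top
    obtain ⟨w, hw⟩ := this
    exact ⟨w, hw⟩
  exact (Matrix.isUnit_iff_isUnit_det h).mp (Matrix.mulVec_surjective_iff_isUnit.mp hsurj)

end

/-- Let A be a commutative ring of characteristic p > 0 and (h_{ij})_{1 ≤ i,j ≤ n} a square matrix over
A, the matrix of a commutative p-Lie algebra (L, φ) with L free with basis e_1, …, e_n and φ(e_j) =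
Σ_i h_{ij} e_i. The associated finite group scheme Spec A[X_1, …, X_n]/(X_j^p − Σ_i h_{ij} X_i)_{1 ≤
j ≤ n} is étale over A if and only if the matrix (h_{ij}) is invertible, i.e. its determinant is a
unit of A. Only the algebra structure enters this assertion. -/
theorem result (p : ℕ) [Fact p.Prime]
    (A : Type u) [CommRing A] [CharP A p] (n : ℕ) (h : Matrix (Fin n) (Fin n) A) :
    Algebra.Etale A (MvPolynomial (Fin n) A ⧸ Ideal.span (Set.range fun j : Fin n =>
        (MvPolynomial.X j : MvPolynomial (Fin n) A) ^ p -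
          ∑ i : Fin n, MvPolynomial.C (h i j) * MvPolynomial.X i)) ↔
      IsUnit h.det := by
  constructor
  · intro het
    have : Algebra.FormallyUnramified A (Bp p A n h) := inferInstance
    exact isUnit_of_unramified p A n h
  · intro hu
    exact etale_of_isUnit p A n h hu

end Groth.Agent.S15365
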