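import Groth.Statements.S15367
import Mathlib

set_option autoImplicit false
universe u v
open TensorProduct
open CAlg

namespace Groth.Agent.S15367

section comp
variable {R : Type*} [CommRing R] [IsDomain R]

/-- For `x z ≠ 0` in a domain, `Hom(R/(x), R/(xz)) ≃ R/(x)`. -/
theorem homEquiv (x z : R) (hx : x ≠ 0) (hz : z ≠ 0) (I J : Submodule R R)
    (hI : I = Submodule.span R {x}) (hJ : J = Submodule.span R {x * z}) :
    Nonempty ((R ⧸ I →ₗ[R] R ⧸ J) ≃ₗ[R] R ⧸ I) := by
  subst hI hJ
  have hmk0 : ∀ r : R, (Submodule.Quotient.mk r : R ⧸ Submodule.span R {x * z}) = 0 ↔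
      ∃ s, r = s * (x * z) := by
    intro r
    rw [Submodule.Quotient.mk_eq_zero, Submodule.mem_span_singleton]
    constructor
    · rintro ⟨s, hs⟩; exact ⟨s, hs.symm⟩
    · rintro ⟨s, hs⟩; exact ⟨s, hs.symm⟩
  have hmkx : ∀ r : R, (Submodule.Quotient.mk r : R ⧸ Submodule.span R {x}) = 0 ↔
      ∃ s, r = s * x := by
    intro r
    rw [Submodule.Quotient.mk_eq_zero, Submodule.mem_span_singleton]
    constructor
    · rintro ⟨s, hs⟩; exact ⟨s, hs.symm⟩
    · rintro ⟨s, hs⟩; exact ⟨s, hs.symm⟩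
  let θ : (R ⧸ Submodule.span R {x}) →ₗ[R] (R ⧸ Submodule.span R {x * z}) :=
    (Submodule.span R {x}).liftQ (z • (Submodule.span R {x * z}).mkQ) (by
      rw [Submodule.span_le, Set.singleton_subset_iff, SetLike.mem_coe, LinearMap.mem_ker,
        LinearMap.smul_apply, Submodule.mkQ_apply, ← Submodule.Quotient.mk_smul, hmk0]
      exact ⟨1, by rw [smul_eq_mul]; ring⟩)
  have hθ : ∀ r : R, θ (Submodule.Quotient.mk r) = Submodule.Quotient.mk (z * r) := by
    intro r
    simp only [θ, Submodule.liftQ_apply, LinearMap.smul_apply, Submodule.mkQ_apply,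
      ← Submodule.Quotient.mk_smul, smul_eq_mul]
  let ψ₀ : R →ₗ[R] ((R ⧸ Submodule.span R {x}) →ₗ[R] (R ⧸ Submodule.span R {x * z})) :=
    LinearMap.toSpanSingleton R _ θ
  have hψ₀ : ∀ r, ψ₀ r = r • θ := fun r => rfl
  have hker : Submodule.span R {x} ≤ LinearMap.ker ψ₀ := by
    rw [Submodule.span_le, Set.singleton_subset_iff, SetLike.mem_coe, LinearMap.mem_ker, hψ₀]
    apply Submodule.linearMap_qext
    apply LinearMap.ext_ring
    simp only [LinearMap.comp_apply, Submodule.mkQ_apply, LinearMap.smul_apply, hθ,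
      LinearMap.zero_apply, ← Submodule.Quotient.mk_smul, smul_eq_mul, hmk0]
    exact ⟨1, by ring⟩
  let ψ := (Submodule.span R {x}).liftQ ψ₀ hker
  have hψ : ∀ r : R, ψ (Submodule.Quotient.mk r) = r • θ := fun r => rfl
  have hinj : Function.Injective ψ := by
    rw [injective_iff_map_eq_zero]
    intro y hy
    obtain ⟨r, rfl⟩ := Submodule.Quotient.mk_surjective _ y
    rw [hψ] at hy
    have h1 := LinearMap.congr_fun hy (Submodule.Quotient.mk 1)
    rw [LinearMap.smul_apply, hθ, LinearMap.zero_apply, ← Submodule.Quotient.mk_smul, hmk0] at h1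
    obtain ⟨s, hs⟩ := h1
    rw [hmkx]
    refine ⟨s, ?_⟩
    have h2 : (r - s * x) * z = 0 := by
      rw [smul_eq_mul] at hs
      linear_combination hs
    rcases mul_eq_zero.mp h2 with h3 | h3
    · exact sub_eq_zero.mp h3
    · exact absurd h3 hz
  have hsurj : Function.Surjective ψ := by
    intro g
    obtain ⟨q, hq⟩ := Submodule.Quotient.mk_surjective _ (g (Submodule.Quotient.mk 1))
    have h1 : (Submodule.Quotient.mk (x * q) : R ⧸ Submodule.span R {x * z}) = 0 := by
      have h2 : (Submodule.Quotient.mk (x * q) : R ⧸ Submodule.span R {x * z}) =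
          x • g (Submodule.Quotient.mk 1) := by
        rw [← hq, ← Submodule.Quotient.mk_smul, smul_eq_mul]
      rw [h2, ← map_smul, ← Submodule.Quotient.mk_smul, smul_eq_mul, mul_one]
      have : (Submodule.Quotient.mk x : R ⧸ Submodule.span R {x}) = 0 := by
        rw [hmkx]; exact ⟨1, by ring⟩
      rw [this, map_zero]
    rw [hmk0] at h1
    obtain ⟨s, hs⟩ := h1
    have h3 : q = s * z := by
      have h4 : x * (q - s * z) = 0 := by linear_combination hs
      rcases mul_eq_zero.mp h4 with h5 | h5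
      · exact absurd h5 hx
      · exact sub_eq_zero.mp h5
    refine ⟨Submodule.Quotient.mk s, ?_⟩
    rw [hψ]
    apply Submodule.linearMap_qext
    apply LinearMap.ext_ring
    simp only [LinearMap.comp_apply, Submodule.mkQ_apply, LinearMap.smul_apply, hθ,
      ← Submodule.Quotient.mk_smul, smul_eq_mul]
    rw [← hq, h3, mul_one]
  exact ⟨(LinearEquiv.ofBijective ψ ⟨hinj, hsurj⟩).symm⟩

end comp

end Groth.Agent.S15367

namespace Groth.Agent.S15367

/-- Let R be a discrete valuation ring with uniformizer π and residue field k, n ≥ 0, and M₀ a finitely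
generated module over R/πⁿR, viewed as an R-module killed by πⁿ; put M₀* = Hom_R(M₀, R/πⁿR). Then
dim_k(M₀*/πM₀*) = dim_k(M₀/πM₀). The published lemma is stated for a finitely presented module over
the quotient of the ring of integers of an algebraic closure of K by the elements of valuation ≥ t,
with its dual into that quotient ring, and the published proof reduces it by descent to exactly this
statement over the valuation ring of a finite extension of K; the row states that step. -/
theorem result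
    (R : Type u) [CommRing R] [IsDomain R] [IsDiscreteValuationRing R] (ϖ : R) (hϖ : Irreducible ϖ) (n : ℕ)
    (M : Type v) [AddCommGroup M] [Module R M] [Module.Finite R M] (hM : ∀ m : M, ϖ ^ n • m = 0) :
    Module.finrank (IsLocalRing.ResidueField R)
        (IsLocalRing.ResidueField R ⊗[R] (M →ₗ[R] (R ⧸ Ideal.span {ϖ ^ n}))) =
      Module.finrank (IsLocalRing.ResidueField R) (IsLocalRing.ResidueField R ⊗[R] M) := by
  classical
  have hϖ0 : ϖ ≠ 0 := hϖ.ne_zero
  have hpow0 : ϖ ^ n ≠ 0 := pow_ne_zero n hϖ0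
  have htors : Module.IsTorsion R M := by
    intro m
    exact ⟨⟨ϖ ^ n, mem_nonZeroDivisors_of_ne_zero hpow0⟩, hM m⟩
  obtain ⟨ι, _, p, hp, e, ⟨φ⟩⟩ := Module.equiv_directSum_of_isTorsion htors
  have hdiv : ∀ i, p i ^ e i ∣ ϖ ^ n := by
    intro i
    have h0 := hM (φ.symm (DirectSum.of (fun i => R ⧸ R ∙ p i ^ e i) i
      (Submodule.Quotient.mk 1)))
    rw [← map_smul, LinearEquiv.map_eq_zero_iff, ← DirectSum.of_smul] at h0
    have h1 : (ϖ ^ n • (Submodule.Quotient.mk 1 : R ⧸ R ∙ p i ^ e i)) = 0 := by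
      apply DirectSum.of_injective (β := fun i => R ⧸ R ∙ p i ^ e i) i
      rw [h0, map_zero]
    rw [← Submodule.Quotient.mk_smul, smul_eq_mul, mul_one, Submodule.Quotient.mk_eq_zero,
      Submodule.mem_span_singleton] at h1
    obtain ⟨a, ha⟩ := h1
    exact ⟨a, by rw [← ha, smul_eq_mul, mul_comm]⟩
  choose z hz using hdiv
  have hcomp : ∀ i, Nonempty (((R ⧸ R ∙ p i ^ e i) →ₗ[R] R ⧸ Ideal.span {ϖ ^ n}) ≃ₗ[R]
      (R ⧸ R ∙ p i ^ e i)) := fun i =>
    homEquiv (p i ^ e i) (z i) (pow_ne_zero _ (hp i).ne_zero)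
      (fun h0 => hpow0 (by rw [hz i, h0, mul_zero])) _ _ rfl (by rw [hz i])
  let E2 : (DirectSum ι (fun i => R ⧸ R ∙ p i ^ e i)) ≃ₗ[R] (∀ i, R ⧸ R ∙ p i ^ e i) :=
    DirectSum.linearEquivFunOnFintype R ι _
  let tot : (M →ₗ[R] R ⧸ Ideal.span {ϖ ^ n}) ≃ₗ[R] M :=
    (LinearEquiv.congrLeft (R ⧸ Ideal.span {ϖ ^ n}) R φ) ≪≫ₗ
    (LinearEquiv.congrLeft (R ⧸ Ideal.span {ϖ ^ n}) R E2) ≪≫ₗ
    (LinearMap.lsum R (fun i => R ⧸ R ∙ p i ^ e i) R).symm ≪≫ₗ
    (LinearEquiv.piCongrRight (fun i => (hcomp i).some)) ≪≫ₗ E2.symm ≪≫ₗ φ.symm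
  exact LinearEquiv.finrank_eq
    (TensorProduct.AlgebraTensorModule.congr
      (LinearEquiv.refl (IsLocalRing.ResidueField R) (IsLocalRing.ResidueField R)) tot)

end Groth.Agent.S15367
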