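import Groth.Statements.S15368
import Mathlib

set_option autoImplicit false
universe u v
open TensorProduct
open CAlg

namespace Groth.Agent.S15368

open Submodule in
theorem spanFinrank_le_of_pid (R : Type u) [CommRing R] [IsDomain R] [IsPrincipalIdealRing R]
    (M : Type v) [AddCommGroup M] [Module R M] [Module.Finite R M] (N : Submodule R M) :
    N.spanFinrank ≤ (⊤ : Submodule R M).spanFinrank := by
  classical
  obtain ⟨s, hs1, hs2⟩ := (Module.Finite.fg_top (R := R) (M := M)).exists_span_finset_card_eq_spanFinrank
  let π : (s → R) →ₗ[R] M := Fintype.linearCombination R (fun i : s => (i : M))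
  have hπ : Function.Surjective π := by
    rw [← LinearMap.range_eq_top]
    rw [Fintype.range_linearCombination]
    simpa using hs2
  let N' : Submodule R (s → R) := N.comap π
  have hmap : N'.map π = N := Submodule.map_comap_eq_of_surjective hπ N
  have hN'fg : N'.FG := IsNoetherian.noetherian N'
  have h1 : N.spanFinrank ≤ N'.spanFinrank := by
    rw [← hmap]
    exact spanFinrank_map_le_of_fg π hN'fg
  have hfree : Module.Free R N' := inferInstance
  have h2 : N'.spanFinrank = Module.finrank R N' := by
    rw [Module.finrank_eq_spanFinrank_of_free, spanFinrank_top]
  have h3 : Module.finrank R N' ≤ Module.finrank R (s → R) := Submodule.finrank_le N'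
  have h4 : Module.finrank R (s → R) = s.card := by
    simp
  omega

theorem finrank_tensor_eq (R : Type u) [CommRing R] [IsLocalRing R]
    (M : Type v) [AddCommGroup M] [Module R M] [Module.Finite R M] :
    Module.finrank (IsLocalRing.ResidueField R) (IsLocalRing.ResidueField R ⊗[R] M) =
      (⊤ : Submodule R M).spanFinrank := by
  rw [← TensorProduct.spanFinrank_top_eq_of_residueField (⊤ : Submodule R M) Module.Finite.fg_top,
    ← Module.finrank_eq_spanFinrank_of_free]
  exact (TensorProduct.AlgebraTensorModule.congr
    (LinearEquiv.refl (IsLocalRing.ResidueField R) (IsLocalRing.ResidueField R))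
    (Submodule.topEquiv (R := R) (M := M))).symm.finrank_eq


/-- Let R be a discrete valuation ring with uniformizer π and residue field k, n ≥ 0, M₀ a finitely
generated R-module killed by πⁿ and N₀ a submodule of M₀. Then dim_k(N₀/πN₀) ≤ dim_k(M₀/πM₀). The
published lemma is stated for a finitely presented submodule N of a finitely presented module M over
the quotient of the ring of integers of an algebraic closure of K by the elements of valuation ≥ t,
and the published proof reduces it by descent to exactly this statement over the valuation ring of a
finite extension of K (comparing π-torsion with π-cotorsion by additivity of length); the row states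
that step. -/
theorem result
    (R : Type u) [CommRing R] [IsDomain R] [IsDiscreteValuationRing R] (ϖ : R) (hϖ : Irreducible ϖ) (n : ℕ)
    (M : Type v) [AddCommGroup M] [Module R M] [Module.Finite R M] (hM : ∀ m : M, ϖ ^ n • m = 0)
    (N : Submodule R M) :
    Module.finrank (IsLocalRing.ResidueField R) (IsLocalRing.ResidueField R ⊗[R] N) ≤
      Module.finrank (IsLocalRing.ResidueField R) (IsLocalRing.ResidueField R ⊗[R] M) := by
  have hNfg : N.FG := IsNoetherian.noetherian N
  have : Module.Finite R N := Module.Finite.iff_fg.mpr hNfg
  rw [finrank_tensor_eq R M, Module.finrank_eq_spanFinrank_of_free,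
    TensorProduct.spanFinrank_top_eq_of_residueField N hNfg]
  exact spanFinrank_le_of_pid R M N

end Groth.Agent.S15368
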