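import Groth.Statements.S15383
import Groth.Prelude.Def_GmPts
import Mathlib

set_option autoImplicit false
universe u
open GmDual

namespace Groth.Agent.S15383

section
open CategoryTheory CategoryTheory.Limits AlgebraicGeometry Opposite

theorem exists_free_away (R M : Type*) [CommRing R] [AddCommGroup M] [Module R M]
    [Module.FinitePresentation R M] [Module.Flat R M] (p : PrimeSpectrum R) :
    ∃ r : R, r ∉ p.asIdeal ∧
      Module.Free (Localization.Away r) (LocalizedModule (Submonoid.powers r) M) := by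
  have hfin : Module.Finite R M := inferInstance
  have : Module.Free (Localization.AtPrime p.asIdeal) (LocalizedModule p.asIdeal.primeCompl M) :=
    Module.free_of_flat_of_isLocalRing
  obtain ⟨r, hr, hr', _⟩ := Module.FinitePresentation.exists_free_localizedModule_powers
    p.asIdeal.primeCompl (LocalizedModule.mkLinearMap p.asIdeal.primeCompl M)
    (Localization.AtPrime p.asIdeal)
  exact ⟨r, hr, hr'⟩

attribute [local instance] RingHomInvPair.of_ringEquiv in
theorem free_of_isLocalizedModule {R : Type*} [CommRing R] (S : Submonoid R) {M Mₛ : Type*}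
    [AddCommGroup M] [Module R M] [AddCommGroup Mₛ] [Module R Mₛ] (f : M →ₗ[R] Mₛ)
    [IsLocalizedModule S f] (Rₛ : Type*) [CommRing Rₛ] [Algebra R Rₛ] [IsLocalization S Rₛ]
    [Module Rₛ Mₛ] [IsScalarTower R Rₛ Mₛ]
    (h : Module.Free (Localization S) (LocalizedModule S M)) : Module.Free Rₛ Mₛ := by
  set e := (IsLocalization.algEquiv S (Localization S) Rₛ).toRingEquiv
  refine (Module.Free.iff_of_equiv (σ := e) ?_).mp h
  refine { __ := IsLocalizedModule.iso S f, map_smul' := ?_ }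
  intro r x
  obtain ⟨r, s, rfl⟩ := IsLocalization.exists_mk'_eq S r
  apply ((Module.End.isUnit_iff _).mp (IsLocalizedModule.map_units f s)).1
  simp [e, ← map_smul, ← smul_assoc]

theorem free_of_algIsPushout {R S T P : Type*} [CommRing R] [CommRing S] [CommRing T] [CommRing P]
    [Algebra R S] [Algebra R T] [Algebra S P] [Algebra T P] [Algebra R P] [IsScalarTower R S P]
    [IsScalarTower R T P] (hp : Algebra.IsPushout R S T P) (r : R) [IsLocalization.Away r T]
    (hfree : Module.Free (Localization.Away r) (LocalizedModule (Submonoid.powers r) S)) :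
    Module.Free T P := by
  have hbc : IsBaseChange T (IsScalarTower.toAlgHom R S P).toLinearMap := hp.symm.out
  have hlm : IsLocalizedModule (Submonoid.powers r) (IsScalarTower.toAlgHom R S P).toLinearMap :=
    (isLocalizedModule_iff_isBaseChange (Submonoid.powers r) T _).mpr hbc
  exact free_of_isLocalizedModule (Submonoid.powers r) (IsScalarTower.toAlgHom R S P).toLinearMap T
    hfree

theorem free_of_isPullback {S P Q : Scheme.{u}} [IsAffine S] [IsAffine P] (p : P ⟶ S) (r : Γ(S, ⊤))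
    (q : Q ⟶ (S.basicOpen r).toScheme) (j' : Q ⟶ P) (hpb : IsPullback q j' (S.basicOpen r).ι p)
    [Algebra Γ(S, ⊤) Γ(P, ⊤)] (halg : algebraMap Γ(S, ⊤) Γ(P, ⊤) = p.appTop.hom)
    (hfree : Module.Free (Localization.Away r) (LocalizedModule (Submonoid.powers r) Γ(P, ⊤))) :
    @Module.Free Γ((S.basicOpen r).toScheme, ⊤) Γ(Q, ⊤) _ _
      (RingHom.toAlgebra q.appTop.hom).toModule := by
  have hVaff : IsAffine (S.basicOpen r).toScheme := (isAffineOpen_top S).basicOpen r
  have hpo := (isPushout_appTop_of_isPullback hpb).flip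
  algebraize [j'.appTop.hom, q.appTop.hom, (j'.appTop.hom.comp (algebraMap Γ(S, ⊤) Γ(P, ⊤)))]
  have hw := congr($(hpo.1.1).hom)
  have : IsScalarTower Γ(S, ⊤) Γ((S.basicOpen r).toScheme, ⊤) Γ(Q, ⊤) := .of_algebraMap_eq' <| by
    rw [RingHom.algebraMap_toAlgebra, halg]
    exact hw
  have hp : Algebra.IsPushout Γ(S, ⊤) Γ(P, ⊤) Γ((S.basicOpen r).toScheme, ⊤) Γ(Q, ⊤) := by
    have e1 : (CommRingCat.ofHom (algebraMap Γ(S, ⊤) Γ(P, ⊤)) : Γ(S, ⊤) ⟶ Γ(P, ⊤)) = p.appTop :=
      CommRingCat.hom_ext halg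
    rw [← e1] at hpo
    exact CommRingCat.isPushout_iff_isPushout.mp hpo
  exact free_of_algIsPushout hp r hfree

theorem mem_basicOpen_of_notMem {S : Scheme.{u}} [IsAffine S] (x : S) (r : Γ(S, ⊤))
    (hr : r ∉ (S.isoSpec.hom x : PrimeSpectrum Γ(S, ⊤)).asIdeal) : x ∈ S.basicOpen r := by
  rw [← Scheme.toSpecΓ_preimage_basicOpen]
  rw [Scheme.isoSpec_hom] at hr
  exact hr

theorem exists_affine_nhd (Y : Scheme.{u}) (x : Y) : ∃ V₀ : Y.Opens, IsAffineOpen V₀ ∧ x ∈ V₀ := by
  obtain ⟨_, ⟨V₀, hV₀, rfl⟩, hxV₀, -⟩ :=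
    Y.isBasis_affineOpens.exists_subset_of_mem_open (Set.mem_univ x) isOpen_univ
  exact ⟨V₀, hV₀, hxV₀⟩

theorem local_free {X X' : Scheme.{u}} (f : X' ⟶ X) [IsFinite f] [Flat f] [IsLocallyNoetherian X]
    (T : Over X) (x : T.left) :
    ∃ (V : Scheme.{u}) (j : V ⟶ T.left), IsOpenImmersion j ∧ IsAffine V ∧ x ∈ Set.range j ∧
      (pullback.fst (j ≫ T.hom) f).appTop.hom.Finite ∧
      @Module.Free Γ(V, ⊤) Γ(pullback (j ≫ T.hom) f, ⊤) _ _
        (RingHom.toAlgebra (pullback.fst (j ≫ T.hom) f).appTop.hom).toModule := by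
  obtain ⟨V₀, hV₀, hxV₀⟩ := exists_affine_nhd T.left x
  have hS : IsAffine V₀.toScheme := hV₀
  have hP : IsAffine (pullback (V₀.ι ≫ T.hom) f) := inferInstance
  have hfin : (pullback.fst (V₀.ι ≫ T.hom) f).appTop.hom.Finite :=
    (pullback.fst (V₀.ι ≫ T.hom) f).finite_appTop
  have hflat : (pullback.fst (V₀.ι ≫ T.hom) f).appTop.hom.Flat :=
    (pullback.fst (V₀.ι ≫ T.hom) f).flat_appTop
  have hfp : (pullback.fst (V₀.ι ≫ T.hom) f).appTop.hom.FinitePresentation :=
    (pullback.fst (V₀.ι ≫ T.hom) f).finitePresentation_appTop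
  algebraize [(pullback.fst (V₀.ι ≫ T.hom) f).appTop.hom]
  have hmfp : Module.FinitePresentation Γ(V₀.toScheme, ⊤) Γ(pullback (V₀.ι ≫ T.hom) f, ⊤) :=
    Module.FinitePresentation.of_finite_of_finitePresentation _ _
  obtain ⟨r, hr, hfree⟩ := exists_free_away Γ(V₀.toScheme, ⊤) Γ(pullback (V₀.ι ≫ T.hom) f, ⊤)
    (V₀.toScheme.isoSpec.hom ⟨x, hxV₀⟩)
  have hxD : (⟨x, hxV₀⟩ : V₀.toScheme) ∈ V₀.toScheme.basicOpen r := mem_basicOpen_of_notMem _ r hr
  have hVaff : IsAffine (V₀.toScheme.basicOpen r).toScheme := (isAffineOpen_top V₀.toScheme).basicOpen r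
  refine ⟨(V₀.toScheme.basicOpen r).toScheme, (V₀.toScheme.basicOpen r).ι ≫ V₀.ι, inferInstance,
    hVaff, ⟨⟨⟨x, hxV₀⟩, hxD⟩, rfl⟩, Scheme.Hom.finite_appTop _, ?_⟩
  have hpb : IsPullback (pullback.fst (((V₀.toScheme.basicOpen r).ι ≫ V₀.ι) ≫ T.hom) f)
      (pullback.lift (pullback.fst (((V₀.toScheme.basicOpen r).ι ≫ V₀.ι) ≫ T.hom) f ≫
        (V₀.toScheme.basicOpen r).ι) (pullback.snd _ _)
        (by rw [← pullback.condition]; simp) : pullback (((V₀.toScheme.basicOpen r).ι ≫ V₀.ι) ≫ T.hom) f ⟶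
          pullback (V₀.ι ≫ T.hom) f)
      (V₀.toScheme.basicOpen r).ι (pullback.fst (V₀.ι ≫ T.hom) f) := by
    refine IsPullback.of_bot (v₂₁ := pullback.snd (V₀.ι ≫ T.hom) f) (v₂₂ := V₀.ι ≫ T.hom) (h₃₁ := f)
      ?_ (pullback.lift_fst _ _ _).symm (IsPullback.of_hasPullback (V₀.ι ≫ T.hom) f)
    have := IsPullback.of_hasPullback (((V₀.toScheme.basicOpen r).ι ≫ V₀.ι) ≫ T.hom) f
    rw [pullback.lift_snd, ← Category.assoc]
    exact this
  exact free_of_isPullback (pullback.fst (V₀.ι ≫ T.hom) f) r _ _ hpb rfl hfree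

theorem normPt_comp {X X' : Scheme.{u}} (f : X' ⟶ X)
    (N : CGrpSh3.pushGm Scheme.fppfPrecoverage f ⟶ CGrpSh2.Gm Scheme.fppfPrecoverage X)
    {T₁ T : Over X} (g : T₁ ⟶ T) (t' : (Over.pullback f).obj T ⟶ Red.Gm X') :
    CGrpSh3.normPt Scheme.fppfPrecoverage f N T₁ ((Over.pullback f).map g ≫ t') =
      g ≫ CGrpSh3.normPt Scheme.fppfPrecoverage f N T t' := by
  have h := congrArg (fun k => (ConcreteCategory.hom k) (ULift.up (Additive.ofMul t')))
    (N.hom.naturality g.op)
  exact congrArg (fun z => z.down.toMul) h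

theorem normPt_eq_of_free {X X' : Scheme.{u}} (f : X' ⟶ X)
    (N N' : CGrpSh3.pushGm Scheme.fppfPrecoverage f ⟶ CGrpSh2.Gm Scheme.fppfPrecoverage X)
    (hN : CGrpSh3.IsNormMap Scheme.fppfPrecoverage f N)
    (hN' : CGrpSh3.IsNormMap Scheme.fppfPrecoverage f N')
    (T₁ : Over X) [IsAffine T₁.left]
    (hfin : (pullback.fst T₁.hom f).appTop.hom.Finite)
    (hfree : @Module.Free Γ(T₁.left, ⊤) Γ(pullback T₁.hom f, ⊤) _ _
      (RingHom.toAlgebra (pullback.fst T₁.hom f).appTop.hom).toModule)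
    (t'' : (Over.pullback f).obj T₁ ⟶ Red.Gm X') :
    CGrpSh3.normPt Scheme.fppfPrecoverage f N T₁ t'' =
      CGrpSh3.normPt Scheme.fppfPrecoverage f N' T₁ t'' := by
  apply GmPts.gmFn_injective
  have h1 := @hN T₁ _ (RingHom.toAlgebra (pullback.fst T₁.hom f).appTop.hom) hfin hfree
    (fun a => rfl) t''
  have h2 := @hN' T₁ _ (RingHom.toAlgebra (pullback.fst T₁.hom f).appTop.hom) hfin hfree
    (fun a => rfl) t''
  exact h1.trans h2.symm

theorem normPt_eq {X X' : Scheme.{u}} (f : X' ⟶ X) [IsFinite f] [Flat f] [IsLocallyNoetherian X]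
    (N N' : CGrpSh3.pushGm Scheme.fppfPrecoverage f ⟶ CGrpSh2.Gm Scheme.fppfPrecoverage X)
    (hN : CGrpSh3.IsNormMap Scheme.fppfPrecoverage f N)
    (hN' : CGrpSh3.IsNormMap Scheme.fppfPrecoverage f N')
    (T : Over X) (t' : (Over.pullback f).obj T ⟶ Red.Gm X') :
    CGrpSh3.normPt Scheme.fppfPrecoverage f N T t' =
      CGrpSh3.normPt Scheme.fppfPrecoverage f N' T t' := by
  choose V j hj using local_free f T
  let 𝒰 : T.left.OpenCover := Scheme.Cover.mkOfCovers T.left (fun x => V x) (fun x => j x)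
    (fun x => ⟨x, (hj x).2.2.1⟩) (fun x => (hj x).1)
  apply Over.OverMorphism.ext
  refine 𝒰.hom_ext _ _ fun x => ?_
  have hnat := normPt_comp f N (Over.homMk (j x) rfl : Over.mk (j x ≫ T.hom) ⟶ T) t'
  have hnat' := normPt_comp f N' (Over.homMk (j x) rfl : Over.mk (j x ≫ T.hom) ⟶ T) t'
  have haff : IsAffine (Over.mk (j x ≫ T.hom)).left := (hj x).2.1
  have heq := normPt_eq_of_free f N N' hN hN' (Over.mk (j x ≫ T.hom)) (hj x).2.2.2.1 (hj x).2.2.2.2
    ((Over.pullback f).map (Over.homMk (j x) rfl : Over.mk (j x ≫ T.hom) ⟶ T) ≫ t')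
  have := hnat.symm.trans (heq.trans hnat')
  exact congrArg (fun k => k.left) this

theorem main (X X' : Scheme.{u}) (f : X' ⟶ X) [IsFinite f] [Flat f]
    [AlgebraicGeometry.IsNoetherian X]
    (N N' : CGrpSh3.pushGm Scheme.fppfPrecoverage f ⟶ CGrpSh2.Gm Scheme.fppfPrecoverage X)
    (hN : CGrpSh3.IsNormMap Scheme.fppfPrecoverage f N) (hN' : CGrpSh3.IsNormMap Scheme.fppfPrecoverage f N') :
    N = N' := by
  refine Sheaf.hom_ext (NatTrans.ext (funext fun T => AddCommGrpCat.ext fun x => ?_))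
  have h := normPt_eq f N N' hN hN' T.unop x.down.toMul
  rw [CGrpSh3.normPt_def, CGrpSh3.normPt_def] at h
  exact ULift.ext _ _ (Additive.toMul.injective h)

end

open CategoryTheory AlgebraicGeometry in

open CategoryTheory AlgebraicGeometry in
/-- Let f : X' ⟶ X be a finite flat morphism of Noetherian schemes (so finite locally free). A morphism
of abelian sheaves N : f_* 𝔾_{m,X'} ⟶ 𝔾_{m,X} on the big fppf site of X is called a norm map of f
when, on every affine test scheme T over X for which the functions of T ×_X X' form a finite free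
algebra over those of T, it sends an invertible function on T ×_X X' to the determinant of
multiplication by it. Two norm maps of f are equal: a norm map is determined by its affine-local
description by determinants. -/
theorem result (X X' : Scheme.{u}) (f : X' ⟶ X) [IsFinite f] [Flat f]
    [AlgebraicGeometry.IsNoetherian X]
    (N N' : CGrpSh3.pushGm Scheme.fppfPrecoverage f ⟶ CGrpSh2.Gm Scheme.fppfPrecoverage X)
    (hN : CGrpSh3.IsNormMap Scheme.fppfPrecoverage f N) (hN' : CGrpSh3.IsNormMap Scheme.fppfPrecoverage f N') :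
    N = N' := by
  exact Groth.Agent.S15383.main X X' f N N' hN hN'

end Groth.Agent.S15383
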