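import Groth.Statements.S15384
import Groth.Agent.S15383
import Groth.Prelude.Def_GmPts
import Mathlib

set_option autoImplicit false
universe u
open GmDual

namespace Groth.Agent.S15384

section
open CategoryTheory CategoryTheory.Limits AlgebraicGeometry Opposite
open MonoidalCategory CartesianMonoidalCategory MonObj

theorem norm_of_isPushout {R S R' S' : Type*} [CommRing R] [CommRing S] [CommRing R'] [CommRing S']
    [Algebra R S] [Algebra R R'] [Algebra S S'] [Algebra R' S'] [Algebra R S']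
    [IsScalarTower R S S'] [IsScalarTower R R' S'] (h : Algebra.IsPushout R S R' S')
    [Module.Free R S] [Module.Finite R S] (s : S) :
    Algebra.norm R' (algebraMap S S' s) = algebraMap R R' (Algebra.norm R s) := by
  classical
  have ibc : IsBaseChange R' (IsScalarTower.toAlgHom R S S').toLinearMap := h.symm.out
  rw [Algebra.norm_eq_matrix_det (Module.Free.chooseBasis R S),
    Algebra.norm_eq_matrix_det (ibc.basis (Module.Free.chooseBasis R S)), RingHom.map_det]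
  congr 1
  ext i j
  have h1 : (ibc.basis (Module.Free.chooseBasis R S)) j =
      algebraMap S S' ((Module.Free.chooseBasis R S) j) := ibc.basis_apply _ j
  have h2 : algebraMap S S' s * algebraMap S S' ((Module.Free.chooseBasis R S) j) =
      (IsScalarTower.toAlgHom R S S').toLinearMap (s * (Module.Free.chooseBasis R S) j) := by
    simp
  rw [Algebra.leftMulMatrix_eq_repr_mul, h1, h2, ibc.basis_repr_comp_apply]
  simp [Algebra.leftMulMatrix_eq_repr_mul]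

theorem free_of_isPushout {R S R' S' : Type*} [CommRing R] [CommRing S] [CommRing R'] [CommRing S']
    [Algebra R S] [Algebra R R'] [Algebra S S'] [Algebra R' S'] [Algebra R S']
    [IsScalarTower R S S'] [IsScalarTower R R' S'] (h : Algebra.IsPushout R S R' S')
    [Module.Free R S] : Module.Free R' S' :=
  IsBaseChange.free (h.symm.out)

noncomputable abbrev sec {P T : Scheme.{u}} (p : P ⟶ T) (V : T.Opens) : Γ(T, V) ⟶ Γ(P, p ⁻¹ᵁ V) :=
  p.appLE V (p ⁻¹ᵁ V) le_rfl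

theorem preimage_le_of_sq {P T P₁ T₁ : Scheme.{u}} {p : P ⟶ T} {g : T₁ ⟶ T} {g' : P₁ ⟶ P}
    {p₁ : P₁ ⟶ T₁} (H : IsPullback g' p₁ p g) {V : T.Opens} {W : T₁.Opens} (hWV : W ≤ g ⁻¹ᵁ V) :
    p₁ ⁻¹ᵁ W ≤ g' ⁻¹ᵁ (p ⁻¹ᵁ V) := by
  intro y hy
  have h1 : g (p₁ y) ∈ V := hWV hy
  have h2 : p (g' y) = g (p₁ y) := by
    rw [← Scheme.Hom.comp_apply, ← Scheme.Hom.comp_apply, H.w]
  change p (g' y) ∈ V
  rw [h2]
  exact h1

theorem isPushout_sec {P T P₁ T₁ : Scheme.{u}} {p : P ⟶ T} {g : T₁ ⟶ T} {g' : P₁ ⟶ P}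
    {p₁ : P₁ ⟶ T₁} (H : IsPullback g' p₁ p g) [IsAffineHom p] {V : T.Opens} {W : T₁.Opens}
    (hV : IsAffineOpen V) (hW : IsAffineOpen W) (hWV : W ≤ g ⁻¹ᵁ V) :
    IsPushout (sec p V) (g.appLE V W hWV)
      (g'.appLE (p ⁻¹ᵁ V) (p₁ ⁻¹ᵁ W) (preimage_le_of_sq H hWV)) (sec p₁ W) := by
  have hUY : p₁ ⁻¹ᵁ W = g' ⁻¹ᵁ (p ⁻¹ᵁ V) ⊓ p₁ ⁻¹ᵁ W :=
    (inf_eq_right.mpr (preimage_le_of_sq H hWV)).symm
  have := isIso_pushoutSection_of_isAffineOpen H hWV (le_refl (p ⁻¹ᵁ V)) hUY hV hW (hV.preimage p)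
  exact (isIso_pushoutSection_iff H hWV (le_refl (p ⁻¹ᵁ V)) hUY).mp this

noncomputable def nrm {P T : Scheme.{u}} (p : P ⟶ T) (V : T.Opens) (s : Γ(P, p ⁻¹ᵁ V)) : Γ(T, V) :=
  @Algebra.norm Γ(T, V) Γ(P, p ⁻¹ᵁ V) _ _ (sec p V).hom.toAlgebra s

def Good {P T : Scheme.{u}} (p : P ⟶ T) (V : T.Opens) : Prop :=
  IsAffineOpen V ∧
    @Module.Free Γ(T, V) Γ(P, p ⁻¹ᵁ V) _ _ (sec p V).hom.toAlgebra.toModule

theorem sec_finite {P T : Scheme.{u}} (p : P ⟶ T) [IsFinite p] {V : T.Opens} (hV : IsAffineOpen V) :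
    (sec p V).hom.Finite := by
  have := p.finite_app V hV
  rwa [p.app_eq_appLE] at this

theorem nrm_one {P T : Scheme.{u}} (p : P ⟶ T) (V : T.Opens) : nrm p V 1 = 1 :=
  map_one _

theorem nrm_mul {P T : Scheme.{u}} (p : P ⟶ T) (V : T.Opens) (s t : Γ(P, p ⁻¹ᵁ V)) :
    nrm p V (s * t) = nrm p V s * nrm p V t := by
  unfold nrm
  exact map_mul _ _ _

theorem bc {P T P₁ T₁ : Scheme.{u}} {p : P ⟶ T} {g : T₁ ⟶ T} {g' : P₁ ⟶ P}
    {p₁ : P₁ ⟶ T₁} (H : IsPullback g' p₁ p g) [IsFinite p] {V : T.Opens} {W : T₁.Opens}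
    (hV : Good p V) (hW : IsAffineOpen W) (hWV : W ≤ g ⁻¹ᵁ V) :
    Good p₁ W ∧ ∀ s : Γ(P, p ⁻¹ᵁ V),
      nrm p₁ W (g'.appLE (p ⁻¹ᵁ V) (p₁ ⁻¹ᵁ W) (preimage_le_of_sq H hWV) s) =
        g.appLE V W hWV (nrm p V s) := by
  have hpo := isPushout_sec H hV.1 hW hWV
  have hfin := sec_finite p hV.1
  algebraize [(sec p V).hom, (g.appLE V W hWV).hom,
    (g'.appLE (p ⁻¹ᵁ V) (p₁ ⁻¹ᵁ W) (preimage_le_of_sq H hWV)).hom, (sec p₁ W).hom,
    ((g'.appLE (p ⁻¹ᵁ V) (p₁ ⁻¹ᵁ W) (preimage_le_of_sq H hWV)).hom.comp (sec p V).hom)]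
  have : IsScalarTower Γ(T, V) Γ(T₁, W) Γ(P₁, p₁ ⁻¹ᵁ W) :=
    .of_algebraMap_eq' <| congr($(hpo.1.1).hom)
  have hp : Algebra.IsPushout Γ(T, V) Γ(P, p ⁻¹ᵁ V) Γ(T₁, W) Γ(P₁, p₁ ⁻¹ᵁ W) :=
    CommRingCat.isPushout_iff_isPushout.mp hpo
  have hfree : Module.Free Γ(T, V) Γ(P, p ⁻¹ᵁ V) := hV.2
  exact ⟨⟨hW, free_of_isPushout hp⟩, fun s => norm_of_isPushout hp s⟩

theorem id_appLE' (T : Scheme.{u}) (V W : T.Opens) (h : W ≤ (𝟙 T) ⁻¹ᵁ V) :
    Scheme.Hom.appLE (𝟙 T) V W h = T.presheaf.map (homOfLE h).op := by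
  rw [Scheme.Hom.appLE]
  simp only [Scheme.Hom.id_app]
  exact Category.id_comp _

theorem bc_id {P T : Scheme.{u}} (p : P ⟶ T) [IsFinite p] {V W : T.Opens}
    (hV : Good p V) (hW : IsAffineOpen W) (hWV : W ≤ V) :
    Good p W ∧ ∀ s : Γ(P, p ⁻¹ᵁ V),
      nrm p W (P.presheaf.map (homOfLE (show p ⁻¹ᵁ W ≤ p ⁻¹ᵁ V from
        fun _ hy => hWV hy)).op s) = T.presheaf.map (homOfLE hWV).op (nrm p V s) := by
  have h := bc (IsPullback.id_horiz p) hV hW hWV
  refine ⟨h.1, fun s => ?_⟩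
  have h2 := h.2 s
  rw [id_appLE', id_appLE'] at h2
  exact h2

theorem mem_basicOpen_of_notMem' {T : Scheme.{u}} {V₀ : T.Opens} (hV₀ : IsAffineOpen V₀) (x : T)
    (hx : x ∈ V₀) (r : Γ(T, V₀)) (hr : r ∉ (hV₀.primeIdealOf ⟨x, hx⟩).asIdeal) :
    x ∈ T.basicOpen r := by
  have h1 : hV₀.fromSpec (hV₀.primeIdealOf ⟨x, hx⟩) = x := hV₀.fromSpec_primeIdealOf ⟨x, hx⟩
  have h2 : hV₀.primeIdealOf ⟨x, hx⟩ ∈ hV₀.fromSpec ⁻¹ᵁ T.basicOpen r := by
    rw [hV₀.fromSpec_preimage_basicOpen]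
    exact hr
  rw [← h1]
  exact h2

theorem exists_good {P T : Scheme.{u}} (p : P ⟶ T) [IsFinite p] [Flat p]
    [LocallyOfFinitePresentation p] (x : T) : ∃ V : T.Opens, Good p V ∧ x ∈ V := by
  obtain ⟨V₀, hV₀, hxV₀⟩ := Groth.Agent.S15383.exists_affine_nhd T x
  have hfin := sec_finite p hV₀
  have hflat : (sec p V₀).hom.Flat := p.flat_appLE hV₀ (hV₀.preimage p) le_rfl
  have hfp : (sec p V₀).hom.FinitePresentation :=
    p.finitePresentation_appLE hV₀ (hV₀.preimage p) le_rfl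
  algebraize [(sec p V₀).hom]
  have hmfp : Module.FinitePresentation Γ(T, V₀) Γ(P, p ⁻¹ᵁ V₀) :=
    Module.FinitePresentation.of_finite_of_finitePresentation _ _
  obtain ⟨r, hr, hfree⟩ := Groth.Agent.S15383.exists_free_away Γ(T, V₀) Γ(P, p ⁻¹ᵁ V₀)
    (hV₀.primeIdealOf ⟨x, hxV₀⟩)
  have hxD : x ∈ T.basicOpen r := mem_basicOpen_of_notMem' hV₀ x hxV₀ r hr
  have hW : IsAffineOpen (T.basicOpen r) := hV₀.basicOpen r
  refine ⟨T.basicOpen r, ⟨hW, ?_⟩, hxD⟩
  have hle : p ⁻¹ᵁ T.basicOpen r ≤ p ⁻¹ᵁ V₀ := fun _ hy => T.basicOpen_le r hy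
  have hpo : IsPushout (sec p V₀) (T.presheaf.map (homOfLE (T.basicOpen_le r)).op)
      (P.presheaf.map (homOfLE hle).op) (sec p (T.basicOpen r)) := by
    have h := isPushout_sec (IsPullback.id_horiz p) hV₀ hW (T.basicOpen_le r)
    rw [id_appLE', id_appLE'] at h
    exact h
  have hloc := hV₀.isLocalization_basicOpen r
  algebraize [(T.presheaf.map (homOfLE (T.basicOpen_le r)).op).hom,
    (P.presheaf.map (homOfLE hle).op).hom, (sec p (T.basicOpen r)).hom,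
    ((P.presheaf.map (homOfLE hle).op).hom.comp (sec p V₀).hom)]
  have : IsScalarTower Γ(T, V₀) Γ(T, T.basicOpen r) Γ(P, p ⁻¹ᵁ T.basicOpen r) :=
    .of_algebraMap_eq' <| congr($(hpo.1.1).hom)
  have hp : Algebra.IsPushout Γ(T, V₀) Γ(P, p ⁻¹ᵁ V₀) Γ(T, T.basicOpen r)
      Γ(P, p ⁻¹ᵁ T.basicOpen r) := CommRingCat.isPushout_iff_isPushout.mp hpo
  exact Groth.Agent.S15383.free_of_algIsPushout hp r hfree

theorem res_res {T : Scheme.{u}} {U V W : T.Opens} (a : W ⟶ V) (b : V ⟶ U) (c : W ⟶ U)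
    (s : Γ(T, U)) : T.presheaf.map a.op (T.presheaf.map b.op s) = T.presheaf.map c.op s := by
  rw [← ConcreteCategory.comp_apply, ← Functor.map_comp, ← op_comp]
  rfl

theorem exists_affine_nhd_le (Y : Scheme.{u}) (O : Y.Opens) (x : Y) (hx : x ∈ O) :
    ∃ W : Y.Opens, IsAffineOpen W ∧ x ∈ W ∧ W ≤ O := by
  obtain ⟨_, ⟨W, hW, rfl⟩, hxW, hWO⟩ :=
    Y.isBasis_affineOpens.exists_subset_of_mem_open hx O.isOpen
  exact ⟨W, hW, hxW, hWO⟩

theorem nrm_res {P T : Scheme.{u}} (p : P ⟶ T) [IsFinite p] {V W : T.Opens}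
    (hV : Good p V) (hW : IsAffineOpen W) (hWV : W ≤ V) (u : Γ(P, ⊤)) :
    T.presheaf.map (homOfLE hWV).op (nrm p V (P.presheaf.map (homOfLE (le_top : p ⁻¹ᵁ V ≤ ⊤)).op u)) =
      nrm p W (P.presheaf.map (homOfLE (le_top : p ⁻¹ᵁ W ≤ ⊤)).op u) := by
  rw [← (bc_id p hV hW hWV).2, res_res]

theorem exists_normSec {P T : Scheme.{u}} (p : P ⟶ T) [IsFinite p] [Flat p]
    [LocallyOfFinitePresentation p] (u : Γ(P, ⊤)) :
    ∃ s : Γ(T, ⊤), ∀ (V : T.Opens), Good p V →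
      T.presheaf.map (homOfLE (le_top : V ≤ ⊤)).op s =
        nrm p V (P.presheaf.map (homOfLE (le_top : p ⁻¹ᵁ V ≤ ⊤)).op u) := by
  let Idx := {V : T.Opens // Good p V}
  let U : Idx → T.Opens := fun i => i.1
  let sf : ∀ i : Idx, Γ(T, U i) := fun i =>
    nrm p i.1 (P.presheaf.map (homOfLE (le_top : p ⁻¹ᵁ i.1 ≤ ⊤)).op u)
  have hcompat : TopCat.Presheaf.IsCompatible T.presheaf U sf := by
    intro i j
    refine T.IsSheaf.section_ext (U := op (U i ⊓ U j)) fun x hx => ?_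
    obtain ⟨W, hW, hxW, hWle⟩ := exists_affine_nhd_le T (U i ⊓ U j) x hx
    refine ⟨W, hWle, hxW, ?_⟩
    rw [res_res _ _ (homOfLE (hWle.trans inf_le_left)),
      res_res _ _ (homOfLE (hWle.trans inf_le_right))]
    exact (nrm_res p i.2 hW (hWle.trans inf_le_left) u).trans
      (nrm_res p j.2 hW (hWle.trans inf_le_right) u).symm
  have hcover : (⊤ : T.Opens) ≤ iSup U := by
    intro x _
    obtain ⟨V, hV, hxV⟩ := exists_good p x
    exact TopologicalSpace.Opens.mem_iSup.mpr ⟨⟨V, hV⟩, hxV⟩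
  obtain ⟨s, hs, -⟩ := TopCat.Sheaf.existsUnique_gluing' T.sheaf U ⊤
    (fun i => homOfLE le_top) hcover sf hcompat
  exact ⟨s, fun V hV => hs ⟨V, hV⟩⟩

noncomputable def normSec {P T : Scheme.{u}} (p : P ⟶ T) [IsFinite p] [Flat p]
    [LocallyOfFinitePresentation p] (u : Γ(P, ⊤)) : Γ(T, ⊤) := (exists_normSec p u).choose

theorem normSec_spec {P T : Scheme.{u}} (p : P ⟶ T) [IsFinite p] [Flat p]
    [LocallyOfFinitePresentation p] (u : Γ(P, ⊤)) (V : T.Opens) (hV : Good p V) :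
    T.presheaf.map (homOfLE (le_top : V ≤ ⊤)).op (normSec p u) =
      nrm p V (P.presheaf.map (homOfLE (le_top : p ⁻¹ᵁ V ≤ ⊤)).op u) :=
  (exists_normSec p u).choose_spec V hV

theorem eq_of_good {P T : Scheme.{u}} (p : P ⟶ T) [IsFinite p] [Flat p]
    [LocallyOfFinitePresentation p] (s t : Γ(T, ⊤))
    (h : ∀ (V : T.Opens), Good p V → T.presheaf.map (homOfLE (le_top : V ≤ ⊤)).op s =
      T.presheaf.map (homOfLE (le_top : V ≤ ⊤)).op t) : s = t := by
  refine T.IsSheaf.section_ext (U := op ⊤) fun x _ => ?_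
  obtain ⟨V, hV, hxV⟩ := exists_good p x
  exact ⟨V, le_top, hxV, h V hV⟩

theorem normSec_one {P T : Scheme.{u}} (p : P ⟶ T) [IsFinite p] [Flat p]
    [LocallyOfFinitePresentation p] : normSec p 1 = 1 := by
  refine eq_of_good p _ _ fun V hV => ?_
  rw [normSec_spec p 1 V hV, map_one, map_one, nrm_one]

theorem normSec_mul {P T : Scheme.{u}} (p : P ⟶ T) [IsFinite p] [Flat p]
    [LocallyOfFinitePresentation p] (u u' : Γ(P, ⊤)) :
    normSec p (u * u') = normSec p u * normSec p u' := by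
  refine eq_of_good p _ _ fun V hV => ?_
  rw [normSec_spec p _ V hV, map_mul, map_mul, nrm_mul, normSec_spec p _ V hV,
    normSec_spec p _ V hV]

theorem appTop_res {X Y : Scheme.{u}} (f : X ⟶ Y) (U : Y.Opens) (W : X.Opens) (e : W ≤ f ⁻¹ᵁ U)
    (s : Γ(Y, ⊤)) :
    X.presheaf.map (homOfLE (le_top : W ≤ ⊤)).op (f.appTop s) =
      f.appLE U W e (Y.presheaf.map (homOfLE (le_top : U ≤ ⊤)).op s) := by
  have h : f.appTop ≫ X.presheaf.map (homOfLE (le_top : W ≤ ⊤)).op =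
      Y.presheaf.map (homOfLE (le_top : U ≤ ⊤)).op ≫ f.appLE U W e := by
    rw [Scheme.Hom.map_appLE]
    rfl
  exact congr($h s)

theorem normSec_bc {P T P₁ T₁ : Scheme.{u}} {p : P ⟶ T} {g : T₁ ⟶ T} {g' : P₁ ⟶ P}
    {p₁ : P₁ ⟶ T₁} (H : IsPullback g' p₁ p g) [IsFinite p] [Flat p]
    [LocallyOfFinitePresentation p] [IsFinite p₁] [Flat p₁] [LocallyOfFinitePresentation p₁]
    (u : Γ(P, ⊤)) : normSec p₁ (g'.appTop u) = g.appTop (normSec p u) := by
  refine T₁.IsSheaf.section_ext (U := op ⊤) fun x _ => ?_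
  obtain ⟨V, hV, hxV⟩ := exists_good p (g x)
  obtain ⟨W, hW, hxW, hWle⟩ := exists_affine_nhd_le T₁ (g ⁻¹ᵁ V) x hxV
  refine ⟨W, le_top, hxW, ?_⟩
  have hb := bc H hV hW hWle
  rw [normSec_spec p₁ _ W hb.1, appTop_res g' (p ⁻¹ᵁ V) (p₁ ⁻¹ᵁ W) (preimage_le_of_sq H hWle),
    hb.2, appTop_res g V W hWle, normSec_spec p u V hV]

theorem res_self {T : Scheme.{u}} {U : T.Opens} (a : U ⟶ U) (s : Γ(T, U)) :
    T.presheaf.map a.op s = s := by
  have : a = 𝟙 U := Subsingleton.elim _ _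
  rw [this, op_id, CategoryTheory.Functor.map_id]
  rfl

theorem normSec_of_free {P T : Scheme.{u}} (p : P ⟶ T) [IsFinite p] [Flat p]
    [LocallyOfFinitePresentation p] [IsAffine T]
    (hfree : @Module.Free Γ(T, ⊤) Γ(P, ⊤) _ _ (RingHom.toAlgebra p.appTop.hom).toModule)
    (u : Γ(P, ⊤)) :
    normSec p u = @Algebra.norm Γ(T, ⊤) Γ(P, ⊤) _ _ (RingHom.toAlgebra p.appTop.hom) u := by
  have e : sec p ⊤ = p.appTop := p.appLE_eq_app
  have hg : Good p ⊤ := by
    refine ⟨isAffineOpen_top T, ?_⟩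
    rw [e]
    exact hfree
  have h := normSec_spec p u ⊤ hg
  rw [res_self] at h
  rw [h]
  unfold nrm
  rw [e]
  congr 1
  exact res_self (T := P) (U := ⊤) (homOfLE le_top) u

noncomputable def normHom {P T : Scheme.{u}} (p : P ⟶ T) [IsFinite p] [Flat p]
    [LocallyOfFinitePresentation p] : Γ(P, ⊤) →* Γ(T, ⊤) where
  toFun := normSec p
  map_one' := normSec_one p
  map_mul' := normSec_mul p

theorem isPullback_map {X X' : Scheme.{u}} (f : X' ⟶ X) {T₁ T : Over X} (g : T₁ ⟶ T) :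
    IsPullback ((Over.pullback f).map g).left (pullback.fst T₁.hom f) (pullback.fst T.hom f)
      g.left := by
  refine (IsPullback.of_bot (v₂₁ := pullback.snd T.hom f) (v₂₂ := T.hom) (h₃₁ := f) ?_ ?_
    (IsPullback.of_hasPullback T.hom f)).flip
  · have h := IsPullback.of_hasPullback T₁.hom f
    have e1 : ((Over.pullback f).map g).left ≫ pullback.snd T.hom f = pullback.snd T₁.hom f :=
      pullback.lift_snd _ _ _
    rw [e1, Over.w g]
    exact h
  · exact (pullback.lift_fst _ _ _).symm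

variable {X X' : Scheme.{u}} (f : X' ⟶ X) [IsFinite f] [Flat f] [IsLocallyNoetherian X]

noncomputable def phi (T : Over X) : ((Over.pullback f).obj T ⟶ Red.Gm X') →* (T ⟶ Red.Gm X) :=
  (GmPts.equiv T).symm.toMonoidHom.comp
    ((Units.map (normHom (pullback.fst T.hom f))).comp
      (GmPts.equiv ((Over.pullback f).obj T)).toMonoidHom)

theorem gmFn_phi (T : Over X) (t' : (Over.pullback f).obj T ⟶ Red.Gm X') :
    Red.gmFn (phi f T t') = normSec (pullback.fst T.hom f) (Red.gmFn t') :=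
  GmPts.gmFn_ptOfUnit _

theorem phi_nat {T₁ T : Over X} (g : T₁ ⟶ T) (t' : (Over.pullback f).obj T ⟶ Red.Gm X') :
    phi f T₁ ((Over.pullback f).map g ≫ t') = g ≫ phi f T t' := by
  apply GmPts.gmFn_injective
  change Red.gmFn (phi f T₁ ((Over.pullback f).map g ≫ t')) = Red.gmFn (g ≫ phi f T t')
  rw [gmFn_phi, GmPts.gmFn_comp, GmPts.gmFn_comp, gmFn_phi]
  exact normSec_bc (isPullback_map f g) (Red.gmFn t')


noncomputable def normApp (T : Over X) :
    (CGrpSh3.pushGm Scheme.fppfPrecoverage f).obj.obj (op T) ⟶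
      (CGrpSh2.Gm Scheme.fppfPrecoverage X).obj.obj (op T) :=
  AddCommGrpCat.ofHom
    { toFun := fun x => ULift.up (Additive.ofMul (phi f T x.down.toMul))
      map_zero' := ULift.ext _ _ (congrArg Additive.ofMul (map_one (phi f T)))
      map_add' := fun x y => ULift.ext _ _
        (congrArg Additive.ofMul (map_mul (phi f T) x.down.toMul y.down.toMul)) }

noncomputable def normMap :
    CGrpSh3.pushGm Scheme.fppfPrecoverage f ⟶ CGrpSh2.Gm Scheme.fppfPrecoverage X :=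
  ⟨{ app := fun T => normApp f T.unop
     naturality := fun T T₁ g => by
       refine AddCommGrpCat.ext fun x => ULift.ext _ _ ?_
       exact congrArg Additive.ofMul (phi_nat f g.unop x.down.toMul) }⟩

theorem normMap_isNormMap : CGrpSh3.IsNormMap Scheme.fppfPrecoverage f (normMap f) := by
  intro T _ alg hfin hfree halg t'
  have e : alg = RingHom.toAlgebra (pullback.fst T.hom f).appTop.hom :=
    Algebra.algebra_ext _ _ (fun a => halg a)
  subst e
  have h1 : CGrpSh3.normPt Scheme.fppfPrecoverage f (normMap f) T t' = phi f T t' := rfl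
  rw [h1, gmFn_phi]
  exact normSec_of_free (pullback.fst T.hom f) hfree (Red.gmFn t')

theorem main (X X' : Scheme.{u}) (f : X' ⟶ X) [IsFinite f] [Flat f]
    [AlgebraicGeometry.IsNoetherian X] :
    ∃ N : CGrpSh3.pushGm Scheme.fppfPrecoverage f ⟶ CGrpSh2.Gm Scheme.fppfPrecoverage X,
      CGrpSh3.IsNormMap Scheme.fppfPrecoverage f N :=
  ⟨normMap f, normMap_isNormMap f⟩

end

open CategoryTheory AlgebraicGeometry in

open CategoryTheory AlgebraicGeometry in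
/-- Let f : X' ⟶ X be a finite flat morphism of Noetherian schemes (so finite locally free). There is a
morphism of abelian sheaves N : f_* 𝔾_{m,X'} ⟶ 𝔾_{m,X} on the big fppf site of X which is a norm map
of f: on every affine test scheme T over X for which the functions of T ×_X X' form a finite free
algebra over those of T (structure map the pullback of functions along the projection), N sends an
invertible function on T ×_X X' to the determinant of multiplication by it. -/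
theorem result (X X' : Scheme.{u}) (f : X' ⟶ X) [IsFinite f] [Flat f]
    [AlgebraicGeometry.IsNoetherian X] :
    ∃ N : CGrpSh3.pushGm Scheme.fppfPrecoverage f ⟶ CGrpSh2.Gm Scheme.fppfPrecoverage X,
      CGrpSh3.IsNormMap Scheme.fppfPrecoverage f N := by
  exact Groth.Agent.S15384.main X X' f

end Groth.Agent.S15384
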