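import Groth.Statements.S15391
import Mathlib

set_option autoImplicit false
universe u
open TensorProduct
open TorFree

namespace Groth.Agent.S15391

theorem exists_smul_eq_zero_of_minimal (R : Type u) [CommRing R] [IsReduced R]
    (M : Type u) [AddCommGroup M] [Module R M] (p : Ideal R) (hp : p ∈ minimalPrimes R)
    [p.IsPrime] (t : M)
    (ht : (1 : p.ResidueField) ⊗ₜ[R] t = (0 : p.ResidueField ⊗[R] M)) :
    ∃ s : R, s ∉ p ∧ s • t = 0 := by
  have hsub : Subsingleton (PrimeSpectrum (Localization.AtPrime p)) :=
    IsLocalization.subsingleton_primeSpectrum_of_mem_minimalPrimes p hp _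
  have hmax : IsLocalRing.maximalIdeal (Localization.AtPrime p) = ⊥ := by
    have h1 : nilradical (Localization.AtPrime p) = ⊥ := nilradical_eq_bot_iff.mpr inferInstance
    rw [← h1, nilradical_eq_sInf]
    apply le_antisymm
    · apply le_sInf
      intro J hJ
      have : (⟨J, hJ⟩ : PrimeSpectrum (Localization.AtPrime p)) =
          ⟨IsLocalRing.maximalIdeal _, inferInstance⟩ := Subsingleton.elim _ _
      have := congrArg PrimeSpectrum.asIdeal this
      simp only at this
      rw [this]
    · exact sInf_le (inferInstance : (IsLocalRing.maximalIdeal (Localization.AtPrime p)).IsPrime)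
  have hinj : Function.Injective (algebraMap (Localization.AtPrime p) p.ResidueField) := by
    rw [RingHom.injective_iff_ker_eq_bot]
    rw [← hmax]
    exact IsLocalRing.ker_residue
  have hbij : Function.Bijective (algebraMap (Localization.AtPrime p) p.ResidueField) :=
    ⟨hinj, IsLocalRing.residue_surjective⟩
  let e : Localization.AtPrime p ≃ₗ[R] p.ResidueField :=
    LinearEquiv.ofBijective
      ((IsScalarTower.toAlgHom R (Localization.AtPrime p) p.ResidueField).toLinearMap) hbij
  have h2 : (1 : Localization.AtPrime p) ⊗ₜ[R] t = (0 : Localization.AtPrime p ⊗[R] M) := by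
    have := congrArg (LinearMap.rTensor M e.symm.toLinearMap) ht
    simp only [LinearMap.rTensor_tmul, map_zero] at this
    rw [← this]
    congr 1
    apply e.injective
    simp [e]
  have h3 := (IsLocalizedModule.eq_zero_iff p.primeCompl
    (TensorProduct.mk R (Localization.AtPrime p) M 1) (m := t)).mp h2
  obtain ⟨c, hc⟩ := h3
  exact ⟨c.1, c.2, hc⟩


/-- Let R be a reduced Noetherian commutative ring, M a finitely generated torsion-free R-module (no
non-zero element of M is annihilated by a non-zero-divisor of R), and t an element of M whose image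
1 ⊗ t in the fibre κ(p) ⊗_R M vanishes for every prime ideal p of R, κ(p) being the residue field at
p. Then t = 0. This is the affine form of the claim that a global section of a coherent torsion-free
module on a reduced Noetherian scheme which vanishes in every fibre is zero. -/
theorem result (R : Type u) [CommRing R] [IsReduced R] [IsNoetherianRing R]
    (M : Type u) [AddCommGroup M] [Module R M] [Module.Finite R M] [Module.IsTorsionFree R M]
    (t : M) (ht : ∀ p : PrimeSpectrum R, (1 : p.asIdeal.ResidueField) ⊗ₜ[R] t = (0 : p.asIdeal.ResidueField ⊗[R] M)) :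
    t = 0 := by
  classical
  let I : Ideal R := LinearMap.ker (LinearMap.toSpanSingleton R M t)
  have hI : ∀ r : R, r ∈ I ↔ r • t = 0 := fun r => by
    simp [I, LinearMap.mem_ker]
  have hfin := minimalPrimes.finite_of_isNoetherianRing R
  have hnot : ¬ ((I : Set R) ⊆ ⋃ p ∈ (hfin.toFinset : Set (Ideal R)), (p : Set R)) := by
    intro hsub
    have hprime : ∀ i ∈ hfin.toFinset, i ≠ (⊥ : Ideal R) → i ≠ (⊥ : Ideal R) → i.IsPrime := by
      intro i hi _ _
      exact ((Set.Finite.mem_toFinset hfin).mp hi).1.1
    have := (Ideal.subset_union_prime (s := hfin.toFinset) (f := fun p => p) ⊥ ⊥ hprime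
      (I := I)).mp hsub
    obtain ⟨p, hp, hIp⟩ := this
    have hpmin : p ∈ minimalPrimes R := (Set.Finite.mem_toFinset hfin).mp hp
    have : p.IsPrime := hpmin.1.1
    obtain ⟨s, hs, hst⟩ := exists_smul_eq_zero_of_minimal R M p hpmin t (ht ⟨p, inferInstance⟩)
    exact hs (hIp ((hI s).mpr hst))
  rw [Set.not_subset] at hnot
  obtain ⟨r, hrI, hr⟩ := hnot
  have hr' : r ∉ ⋃ p ∈ (⊥ : Ideal R).minimalPrimes, (p : Set R) := by
    intro h
    apply hr
    simp only [Set.mem_iUnion] at h ⊢
    obtain ⟨p, hp, hrp⟩ := h
    exact ⟨p, (Set.Finite.mem_toFinset hfin).mpr hp, hrp⟩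
  rw [Ideal.iUnion_minimalPrimes] at hr'
  have hrad : (⊥ : Ideal R).radical = ⊥ := nilradical_eq_bot_iff.mpr inferInstance
  simp only [hrad, Ideal.mem_bot, Set.mem_ofPred_eq, not_exists, not_and] at hr'
  have hreg : IsRegular r := by
    have hl : IsLeftRegular r := by
      rw [isLeftRegular_iff_right_eq_zero_of_mul]
      intro y hy
      by_contra hy0
      exact hr' y hy0 hy
    exact (Commute.isRegular_iff (fun b => Commute.all r b)).mpr hl
  have := hreg.isSMulRegular (M := M)
  apply this
  simp only [smul_zero]
  exact (hI r).mp hrI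

end Groth.Agent.S15391
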