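import Groth.Statements.S1540
import Mathlib
import Groth.Agent.Lib.Helper51.GenFibre

set_option autoImplicit false
universe u
open CategoryTheory CategoryTheory.Limits AlgebraicGeometry
attribute [local instance] Curv2.resAlgebra Curv2.stalkAlgebra
open Variety

namespace Groth.Agent.S1540

/-- An irreducible scheme X over k with generic point ξ is geometrically irreducible if and only if the
separable algebraic closure of k in the residue field of ξ is k itself. -/
theorem result (k : Type u) [Field k] (X : Scheme.{u}) [X.Over (Spec (CommRingCat.of k))] [IrreducibleSpace X] :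
    GeometricallyIrreducible (X ↘ (Spec (CommRingCat.of k))) ↔
      ∀ a : X.residueField (genericPoint X), IsSeparable k a → a ∈ Set.range (algebraMap k (X.residueField (genericPoint X))) := by
  have hξ : IsGenericPoint (genericPoint X) Set.univ := genericPoint_spec X
  have hφ : Spec.map (CommRingCat.ofHom (algebraMap k (X.residueField (genericPoint X)))) =
      X.fromSpecResidueField (genericPoint X) ≫ (X ↘ Spec (CommRingCat.of k)) :=
    Groth.Agent.Lib.Helper51.specMap_resMap k X (genericPoint X)
  constructor
  · intro hG a ha
    have hirr : IrreducibleSpace ↥(pullback (X ↘ Spec (CommRingCat.of k))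
        (Spec.map (CommRingCat.ofHom (algebraMap k (IntermediateField.adjoin k {a}))))) :=
      GeometricallyIrreducible.geometrically_irreducibleSpace
        (f := X ↘ Spec (CommRingCat.of k)) _ _ _ (IsPullback.of_hasPullback _ _)
    rw [Groth.Agent.Lib.Helper51.irreducibleSpace_pullback_iff_genericFibre
      (X ↘ Spec (CommRingCat.of k)) (genericPoint X) hξ hφ] at hirr
    exact Groth.Agent.Lib.Helper51.mem_range_of_irreducibleSpace_tensor a ha
  · intro h
    refine Groth.Agent.Lib.Helper51.geometricallyIrreducible_of_forall_finite_separable _ ?_
    intro K _ _ _ _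
    rw [Groth.Agent.Lib.Helper51.irreducibleSpace_pullback_iff_genericFibre
      (X ↘ Spec (CommRingCat.of k)) (genericPoint X) hξ hφ]
    have hdom : IsDomain (TensorProduct k (X.residueField (genericPoint X)) K) :=
      Groth.Agent.Lib.Helper51.isDomain_tensor_of_relSepClosed h
    infer_instance

end Groth.Agent.S1540
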