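import Groth.Statements.S15412
import Mathlib.Tactic

set_option autoImplicit false
universe w v u
open CategoryTheory Opposite
open Bitors

namespace Groth.Agent.S15412

variable {C : Type u} [Category.{v} C] {J : GrothendieckTopology C}
  {G H : Sheaf J GrpCat.{w}} {P : NonAbH1.GSheaf G}

theorem isomFamily_ext (φ₁ φ₂ : Bitors.IsomFamily P H)
    (h : ∀ (U : Cᵒᵖ) (p : P.P.obj.obj U) (x : H.obj.obj U), φ₁.φ p x = φ₂.φ p x) : φ₁ = φ₂ := by
  cases φ₁ with
  | mk f1 a1 b1 =>
    cases φ₂ with
    | mk f2 a2 b2 =>
      have e : @f1 = @f2 := by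
        funext U p
        exact MulEquiv.ext (h U p)
      subst e
      rfl

theorem rightStr_ext (ρ₁ ρ₂ : Bitors.RightStr P H)
    (h : ∀ (U : Cᵒᵖ) (p : P.P.obj.obj U) (x : H.obj.obj U), ρ₁.rsmul p x = ρ₂.rsmul p x) :
    ρ₁ = ρ₂ := by
  cases ρ₁ with
  | mk f1 a1 b1 c1 d1 e1 =>
    cases ρ₂ with
    | mk f2 a2 b2 c2 d2 e2 =>
      have e : @f1 = @f2 := by
        funext U p x
        exact h U p x
      subst e
      rfl

theorem smul_cancel (hP : P.IsPseudoTorsor) {U : Cᵒᵖ} (p : P.P.obj.obj U) (g g' : G.obj.obj U)
    (h : P.smul g p = P.smul g' p) : g = g' :=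
  (hP U p (P.smul g' p)).unique h rfl

/-- On a site, let G and H be sheaves of groups and P a sheaf of sets with a left G-action which is
simply transitive on every set of sections P(U). The right H-actions on P that are compatible with
restriction, commute with the G-action and are simply transitive on every P(U) (for P a G-torsor:
the structures of (G, H)-bitorsor on P) correspond exactly to the families of group isomorphisms φ_p
: H(U) ≃ G(U), one for each section p of P over each U, compatible with restriction and with φ_{g·p}
= g φ_p g⁻¹ (the equivariant maps from P to the sheaf of isomorphisms from H to G); the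
correspondence is the rule p · h = φ_p(h) · p, and the statement is that every right structure
arises by this rule from exactly one family and every family from exactly one right structure. (The
published statement takes P a left G-torsor; only the simple transitivity of the G-action on
sections enters, so local existence of sections is not assumed.) -/
theorem result
    {C : Type u} [Category.{v} C] {J : GrothendieckTopology C}
    (G H : Sheaf J GrpCat.{w}) (P : NonAbH1.GSheaf G) (hP : P.IsPseudoTorsor) :
    (∀ ρ : Bitors.RightStr P H, ∃! φ : Bitors.IsomFamily P H,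
        ∀ (U : Cᵒᵖ) (p : P.P.obj.obj U) (h : H.obj.obj U), ρ.rsmul p h = P.smul (φ.φ p h) p) ∧
    (∀ φ : Bitors.IsomFamily P H, ∃! ρ : Bitors.RightStr P H,
        ∀ (U : Cᵒᵖ) (p : P.P.obj.obj U) (h : H.obj.obj U), ρ.rsmul p h = P.smul (φ.φ p h) p) := by
  constructor
  · intro ρ
    have key : ∀ (U : Cᵒᵖ) (p : P.P.obj.obj U) (h : H.obj.obj U),
        ∃ g : G.obj.obj U, P.smul g p = ρ.rsmul p h := fun U p h => (hP U p (ρ.rsmul p h)).exists
    choose f hf using key
    have key2 : ∀ (U : Cᵒᵖ) (p : P.P.obj.obj U) (g : G.obj.obj U),
        ∃ h : H.obj.obj U, ρ.rsmul p h = P.smul g p :=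
      fun U p g => (ρ.existsUnique_rsmul p (P.smul g p)).exists
    choose k hk using key2
    have rcancel : ∀ (U : Cᵒᵖ) (p : P.P.obj.obj U) (h h' : H.obj.obj U),
        ρ.rsmul p h = ρ.rsmul p h' → h = h' :=
      fun U p h h' e => (ρ.existsUnique_rsmul p (ρ.rsmul p h')).unique e rfl
    let Φ : Bitors.IsomFamily P H :=
      { φ := fun {U} p =>
          { toFun := fun h => f U p h
            invFun := fun g => k U p g
            left_inv := fun h => by
              apply rcancel U p
              rw [hk, hf]
            right_inv := fun g => by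
              apply smul_cancel hP p
              rw [hf, hk]
            map_mul' := fun h h' => by
              apply smul_cancel hP p
              rw [hf, P.mul_smul, hf, ← ρ.smul_rsmul, hf, ρ.rsmul_mul] }
        map_φ := fun {U V} r p h => by
          apply smul_cancel hP (P.P.obj.map r p)
          change P.smul (G.obj.map r (f U p h)) _ = P.smul (f V _ _) _
          rw [← P.map_smul, hf, hf, ρ.map_rsmul]
        φ_smul := fun {U} g p h => by
          apply smul_cancel hP (P.smul g p)
          change P.smul (f U _ h) _ = P.smul (g * f U p h * g⁻¹) _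
          rw [hf, P.mul_smul, ← P.mul_smul g⁻¹ g p, inv_mul_cancel, P.one_smul, P.mul_smul, hf,
            ρ.smul_rsmul] }
    refine ⟨Φ, fun U p h => (hf U p h).symm, ?_⟩
    intro φ' hφ'
    apply isomFamily_ext
    intro U p h
    apply smul_cancel hP p
    change P.smul (φ'.φ p h) p = P.smul (f U p h) p
    rw [← hφ', hf]
  · intro φ
    let R : Bitors.RightStr P H :=
      { rsmul := fun {U} p h => P.smul (φ.φ p h) p
        rsmul_one := fun {U} p => by
          change P.smul (φ.φ p 1) p = p
          rw [map_one, P.one_smul]
        rsmul_mul := fun {U} p h h' => by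
          change P.smul (φ.φ p (h * h')) p = P.smul (φ.φ (P.smul (φ.φ p h) p) h') (P.smul (φ.φ p h) p)
          rw [φ.φ_smul, ← P.mul_smul, map_mul, inv_mul_cancel_right]
        map_rsmul := fun {U V} r p h => by
          change P.P.obj.map r (P.smul (φ.φ p h) p) = P.smul (φ.φ _ _) _
          rw [P.map_smul, φ.map_φ]
        smul_rsmul := fun {U} g p h => by
          change P.smul (φ.φ (P.smul g p) h) (P.smul g p) = P.smul g (P.smul (φ.φ p h) p)
          rw [φ.φ_smul, ← P.mul_smul, ← P.mul_smul, inv_mul_cancel_right]
        existsUnique_rsmul := fun {U} p q => by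
          obtain ⟨g, hg, hgu⟩ := hP U p q
          refine ⟨(φ.φ p).symm g, ?_, ?_⟩
          · change P.smul (φ.φ p ((φ.φ p).symm g)) p = q
            rw [MulEquiv.apply_symm_apply, hg]
          · intro h' hh'
            have : φ.φ p h' = g := hgu _ hh'
            rw [← this, MulEquiv.symm_apply_apply] }
    refine ⟨R, fun U p h => rfl, ?_⟩
    intro ρ' hρ'
    apply rightStr_ext
    intro U p h
    rw [hρ']

end Groth.Agent.S15412
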