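import Groth.Statements.S15414
-- import your own Groth.Agent.* helpers here
import Mathlib.CategoryTheory.Sites.Sheaf
import Mathlib.Algebra.Category.Grp.Basic
import Mathlib.GroupTheory.FreeGroup.Basic

set_option autoImplicit false
universe w v u
open CategoryTheory Opposite
open Bitors

namespace Groth.Agent.S15414

theorem sep {C : Type u} [Category.{v} C] {J : GrothendieckTopology C}
    (G : Sheaf J GrpCat.{w}) (X : C) (S : Sieve X) (hS : S ∈ J X) (x y : G.obj.obj (op X))
    (hxy : ∀ (Y : C) (f : Y ⟶ X), S f → G.obj.map f.op x = G.obj.map f.op y) : x = y := by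
  have h2 := (G.property (GrpCat.of (FreeGroup PUnit.{w + 1}))).isSeparated S hS
  let α : GrpCat.of (FreeGroup PUnit.{w + 1}) ⟶ G.obj.obj (op X) :=
    GrpCat.ofHom (FreeGroup.lift (fun _ => x))
  let β : GrpCat.of (FreeGroup PUnit.{w + 1}) ⟶ G.obj.obj (op X) :=
    GrpCat.ofHom (FreeGroup.lift (fun _ => y))
  have hαβ : α = β := by
    refine h2.ext ?_
    intro Y f hf
    change α ≫ G.obj.map f.op = β ≫ G.obj.map f.op
    ext u
    simpa [α, β] using hxy Y f hf
  have := congr($(hαβ).hom (FreeGroup.of PUnit.unit))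
  simpa [α, β] using this

theorem key
    {C : Type u} [Category.{v} C] {J : GrothendieckTopology C}
    (G H : Sheaf J GrpCat.{w}) (P P' : NonAbH1.GSheaf G) (hP' : P'.IsPseudoTorsor)
    (ρ : Bitors.RightStr P H) (ρ' : Bitors.RightStr P' H)
    (φ : Bitors.IsomFamily P H) (φ' : Bitors.IsomFamily P' H)
    (hρ : ∀ (U : Cᵒᵖ) (p : P.P.obj.obj U) (h : H.obj.obj U), ρ.rsmul p h = P.smul (φ.φ p h) p)
    (hρ' : ∀ (U : Cᵒᵖ) (p : P'.P.obj.obj U) (h : H.obj.obj U), ρ'.rsmul p h = P'.smul (φ'.φ p h) p)
    (f : P ⟶ P') :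
    (∀ (U : Cᵒᵖ) (p : P.P.obj.obj U) (h : H.obj.obj U),
        f.hom.hom.app U (ρ.rsmul p h) = ρ'.rsmul (f.hom.hom.app U p) h) ↔
      ∀ (U : Cᵒᵖ) (p : P.P.obj.obj U) (h : H.obj.obj U),
        φ.φ p h = φ'.φ (f.hom.hom.app U p) h := by
  constructor
  · intro hf U p h
    have h1 := hf U p h
    rw [hρ, hρ', f.map_smul] at h1
    obtain ⟨g, -, hg⟩ := hP' U (f.hom.hom.app U p) (P'.smul (φ.φ p h) (f.hom.hom.app U p))
    rw [hg _ rfl, hg _ h1.symm]
  · intro hφ U p h
    rw [hρ, hρ', f.map_smul, hφ]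

theorem f_map {C : Type u} [Category.{v} C] {J : GrothendieckTopology C}
    {G : Sheaf J GrpCat.{w}} {P P' : NonAbH1.GSheaf G} (f : P ⟶ P') {U V : Cᵒᵖ} (a : U ⟶ V)
    (q : P.P.obj.obj U) :
    f.hom.hom.app V (P.P.obj.map a q) = P'.P.obj.map a (f.hom.hom.app U q) := by
  have := f.hom.hom.naturality a
  exact congr($this q)


/-- On a site, let G and H be sheaves of groups and P, P' sheaves of sets with left G-actions, simply
transitive on every set of sections, carrying right H-actions ρ, ρ' (compatible with restriction,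
commuting with G, simply transitive section-wise) given by families of group isomorphisms φ, φ'
through p · h = φ_p(h) · p and p' · h = φ'_{p'}(h) · p'. Let Y be an object that covers the site
(for every object U the arrows V → U whose source admits a morphism to Y form a covering sieve), let
p and p' be sections of P and P' over Y, let f : P → P' be a G-equivariant morphism of sheaves and g
a section of G over Y with f(p) = g · p'. Then f commutes with the right H-actions if and only if
φ_{p|V}(h) = g|_V φ'_{p'|V}(h) (g|_V)⁻¹ for every object V with a morphism to Y, along which p, p'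
and g are restricted, and every section h of H over V; that is, the isomorphism family of p equals
the conjugate by g of the isomorphism family of p', as isomorphisms between the sheaves H and G
restricted over Y. (The published statement takes P and P' to be (G, H)-bitorsors trivialised by a
section over a cover Y → S; only the simple transitivity of the G-actions on sections and the
covering property of Y enter.) -/
theorem result
    {C : Type u} [Category.{v} C] {J : GrothendieckTopology C}
    (G H : Sheaf J GrpCat.{w}) (P P' : NonAbH1.GSheaf G)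
    (hP : P.IsPseudoTorsor) (hP' : P'.IsPseudoTorsor)
    (ρ : Bitors.RightStr P H) (ρ' : Bitors.RightStr P' H)
    (φ : Bitors.IsomFamily P H) (φ' : Bitors.IsomFamily P' H)
    (hρ : ∀ (U : Cᵒᵖ) (q : P.P.obj.obj U) (h : H.obj.obj U), ρ.rsmul q h = P.smul (φ.φ q h) q)
    (hρ' : ∀ (U : Cᵒᵖ) (q : P'.P.obj.obj U) (h : H.obj.obj U), ρ'.rsmul q h = P'.smul (φ'.φ q h) q)
    (Y : C) (hY : J.CoversTop (fun _ : PUnit.{w + 1} => Y))
    (p : P.P.obj.obj (op Y)) (p' : P'.P.obj.obj (op Y)) (f : P ⟶ P') (g : G.obj.obj (op Y))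
    (hg : f.hom.hom.app (op Y) p = P'.smul g p') :
    (∀ (U : Cᵒᵖ) (q : P.P.obj.obj U) (h : H.obj.obj U),
        f.hom.hom.app U (ρ.rsmul q h) = ρ'.rsmul (f.hom.hom.app U q) h) ↔
      ∀ (V : C) (t : V ⟶ Y) (h : H.obj.obj (op V)),
        φ.φ (P.P.obj.map t.op p) h =
          G.obj.map t.op g * φ'.φ (P'.P.obj.map t.op p') h * (G.obj.map t.op g)⁻¹ := by
  rw [key G H P P' hP' ρ ρ' φ φ' hρ hρ' f]
  have hfp : ∀ (V : C) (t : V ⟶ Y), f.hom.hom.app (op V) (P.P.obj.map t.op p) =
      P'.smul (G.obj.map t.op g) (P'.P.obj.map t.op p') := by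
    intro V t
    rw [f_map, hg, P'.map_smul]
  constructor
  · intro hφ V t h
    rw [hφ, hfp, φ'.φ_smul]
  · intro hc U q h
    refine sep G U.unop _ (hY U.unop) _ _ ?_
    rintro V a ⟨i, ⟨t0⟩⟩
    have t : V ⟶ Y := t0
    have e1 := φ.map_φ a.op q h
    have e2 := φ'.map_φ a.op (f.hom.hom.app U q) h
    rw [e1, e2]
    obtain ⟨g₁, hg₁, -⟩ := hP (op V) (P.P.obj.map t.op p) (P.P.obj.map a.op q)
    rw [← f_map, ← hg₁, f.map_smul, hfp, φ.φ_smul, φ'.φ_smul, φ'.φ_smul, hc]

end Groth.Agent.S15414
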