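import Groth.Statements.S15415
import Groth.Agent.Lib.Helper1.H90Alg
import Groth.Agent.Lib.Helper1.RedNormGalois
import Groth.Agent.Lib.Helper65.GalDescent

set_option autoImplicit false
universe u v w
open scoped TensorProduct
attribute [local instance] CSAGal.tensorAction GpH1.unitsAction
open GalCoh

namespace Groth.Agent.S15415

/-- For a central simple algebra over a field, the first Galois cohomology set of its norm-one group is
identified with the nonzero scalars modulo the reduced norms of units, by the boundary map of the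
sequence norm-one units → units → nonzero scalars. Finite-level form: let k be a field, K a finite
Galois extension of k whose Galois group acts on K ⊗_k A through the first factor, A a
finite-dimensional central simple k-algebra split by K, N the reduced norm of A over k and N_K the
reduced norm of K ⊗_k A over K. Then (i) every 1-cocycle a with values in the units of K ⊗_k A of
reduced norm one is of the form a σ = b⁻¹ · σ(b) for a unit b whose reduced norm is an element c of
kˣ; and (ii) for units b, b' of K ⊗_k A with reduced norms c, c' in kˣ, the cocycles σ ↦ b⁻¹σ(b) and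
σ ↦ b'⁻¹σ(b') are cohomologous through a unit of reduced norm one if and only if c' = N(x) · c for
some unit x of A. (Since K splits A the reduced norm N_K takes every value in kˣ, so (i) and (ii)
say that c ↦ class of b⁻¹σ(b), N_K b = c, is a well-defined bijection from kˣ/N(Aˣ) onto the
cohomology set of the norm-one units. The published statement is for the absolute Galois group of a
field of characteristic different from 2, an assumption playing no role here; this row is the
finite-level form over a splitting field.) -/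
theorem result
    (k : Type u) [Field k] (K : Type v) [Field K] [Algebra k K] [FiniteDimensional k K] [IsGalois k K]
    (A : Type w) [Ring A] [Algebra k A] [Algebra.IsCentral k A] [IsSimpleRing A] [FiniteDimensional k A]
    (hA : Curves.Splits k A K)
    (N : A →* k) (hN : CSAGal.IsRedNorm k A N)
    (NK : (K ⊗[k] A) →* K) (hNK : CSAGal.IsRedNorm K (K ⊗[k] A) NK) :
    (∀ a : GpH1.OneCocycle (K ≃ₐ[k] K) (K ⊗[k] A)ˣ, (∀ σ, NK (a σ : K ⊗[k] A) = 1) →
        ∃ (c : kˣ) (b : (K ⊗[k] A)ˣ), NK (b : K ⊗[k] A) = algebraMap k K (c : k) ∧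
          ∀ σ : K ≃ₐ[k] K, a σ = b⁻¹ * σ • b) ∧
    (∀ (c c' : kˣ) (b b' : (K ⊗[k] A)ˣ),
        NK (b : K ⊗[k] A) = algebraMap k K (c : k) → NK (b' : K ⊗[k] A) = algebraMap k K (c' : k) →
        ((∃ s : (K ⊗[k] A)ˣ, NK (s : K ⊗[k] A) = 1 ∧
            ∀ σ : K ≃ₐ[k] K, b'⁻¹ * σ • b' = s⁻¹ * (b⁻¹ * σ • b) * σ • s) ↔
          ∃ x : Aˣ, (c' : k) = N (x : A) * (c : k))) := by
  obtain ⟨n, hn, ⟨φ⟩⟩ := hA
  have hntT : Nontrivial (K ⊗[k] A) := by
    have : NeZero n := ⟨hn⟩
    exact φ.toEquiv.nontrivial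
  have hsm : ∀ (σ : K ≃ₐ[k] K) (t : K ⊗[k] A), NK (σ • t) = σ (NK t) :=
    fun σ t => Groth.Agent.Lib.Helper1.RedNormGalois.redNorm_smul hNK φ σ t
  have h1t : ∀ y : A, NK ((1 : K) ⊗ₜ[k] y) = algebraMap k K (N y) :=
    fun y => Groth.Agent.Lib.Helper1.RedNormGalois.redNorm_one_tmul hN hNK φ y
  have hinv : ∀ u : (K ⊗[k] A)ˣ, NK ((↑u⁻¹ : K ⊗[k] A)) = (NK (u : K ⊗[k] A))⁻¹ :=
    fun u => map_units_inv NK u
  have hne : ∀ u : (K ⊗[k] A)ˣ, NK (u : K ⊗[k] A) ≠ 0 := fun u => (u.isUnit.map NK).ne_zero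
  have hcne : ∀ c : kˣ, algebraMap k K (c : k) ≠ 0 := fun c =>
    (map_ne_zero (algebraMap k K)).mpr c.ne_zero
  refine ⟨?_, ?_⟩
  · intro a ha
    obtain ⟨b, hb⟩ := Groth.Agent.Lib.Helper1.H90Alg.exists_coboundary a
    have hfix : ∀ σ : K ≃ₐ[k] K, σ (NK (b : K ⊗[k] A)) = NK (b : K ⊗[k] A) := by
      intro σ
      have h := ha σ
      rw [hb σ, Units.val_mul, map_mul, hinv, Groth.Agent.Lib.Helper1.H90Alg.units_smul_val,
        hsm] at h
      exact ((inv_mul_eq_one₀ (hne b)).mp h).symm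
    have hmem : NK (b : K ⊗[k] A) ∈ (⊥ : IntermediateField k K) :=
      (IsGalois.mem_bot_iff_fixed _).mpr hfix
    obtain ⟨c0, hc0⟩ := IntermediateField.mem_bot.mp hmem
    have hc0ne : c0 ≠ 0 := by
      rintro rfl
      rw [map_zero] at hc0
      exact hne b hc0.symm
    exact ⟨Units.mk0 c0 hc0ne, b, hc0.symm, hb⟩
  · intro c c' b b' hb hb'
    constructor
    · rintro ⟨s, hs, h⟩
      have hz : ∀ σ : K ≃ₐ[k] K, σ • (b' * s⁻¹ * b⁻¹) = b' * s⁻¹ * b⁻¹ := by
        intro σ
        have h' : σ • b' = b' * (s⁻¹ * (b⁻¹ * σ • b) * σ • s) := by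
          rw [← h σ]
          group
        rw [smul_mul', smul_mul', smul_inv', smul_inv', h']
        group
      have hzv : ∀ σ : K ≃ₐ[k] K,
          σ • ((b' * s⁻¹ * b⁻¹ : (K ⊗[k] A)ˣ) : K ⊗[k] A) = ((b' * s⁻¹ * b⁻¹ : (K ⊗[k] A)ˣ) : K ⊗[k] A) :=
        fun σ => congrArg Units.val (hz σ)
      have hzv' : ∀ σ : K ≃ₐ[k] K,
          σ • ((↑(b' * s⁻¹ * b⁻¹)⁻¹ : K ⊗[k] A)) = (↑(b' * s⁻¹ * b⁻¹)⁻¹ : K ⊗[k] A) :=
        fun σ => congrArg (fun u : (K ⊗[k] A)ˣ => (↑u⁻¹ : K ⊗[k] A)) (hz σ)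
      obtain ⟨x, hx⟩ := Groth.Agent.Lib.Helper65.GalDescent.exists_eq_one_tmul _ hzv
      obtain ⟨x', hx'⟩ := Groth.Agent.Lib.Helper65.GalDescent.exists_eq_one_tmul _ hzv'
      have hxx' : x * x' = 1 := by
        apply Groth.Agent.Lib.Helper65.GalDescent.one_tmul_injective (k := k) (K := K)
        show (1 : K) ⊗ₜ[k] (x * x') = (1 : K) ⊗ₜ[k] (1 : A)
        rw [← one_mul (1 : K), ← Algebra.TensorProduct.tmul_mul_tmul, ← hx, ← hx', Units.mul_inv,
          one_mul, Algebra.TensorProduct.one_def]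
      have hx'x : x' * x = 1 := by
        apply Groth.Agent.Lib.Helper65.GalDescent.one_tmul_injective (k := k) (K := K)
        show (1 : K) ⊗ₜ[k] (x' * x) = (1 : K) ⊗ₜ[k] (1 : A)
        rw [← one_mul (1 : K), ← Algebra.TensorProduct.tmul_mul_tmul, ← hx, ← hx', Units.inv_mul,
          one_mul, Algebra.TensorProduct.one_def]
      refine ⟨⟨x, x', hxx', hx'x⟩, ?_⟩
      have hNz : NK ((b' * s⁻¹ * b⁻¹ : (K ⊗[k] A)ˣ) : K ⊗[k] A)
          = algebraMap k K c' * (algebraMap k K c)⁻¹ := by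
        rw [Units.val_mul, Units.val_mul, map_mul, map_mul, hinv, hinv, hs, hb, hb', inv_one,
          mul_one]
      rw [hx, h1t] at hNz
      apply (algebraMap k K).injective
      show algebraMap k K (c' : k) = algebraMap k K (N x * (c : k))
      rw [map_mul, hNz, inv_mul_cancel_right₀ (hcne c)]
    · rintro ⟨x, hx⟩
      let X : (K ⊗[k] A)ˣ :=
        Units.map ((Algebra.TensorProduct.includeRight : A →ₐ[k] K ⊗[k] A) : A →* K ⊗[k] A) x
      have hXv : (X : K ⊗[k] A) = (1 : K) ⊗ₜ[k] (x : A) := rfl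
      have hX : ∀ σ : K ≃ₐ[k] K, σ • X = X := fun σ => Units.ext (by
        rw [Groth.Agent.Lib.Helper1.H90Alg.units_smul_val, hXv,
          Groth.Agent.Lib.Helper1.H90Alg.smul_one_tmul])
      have hNx : algebraMap k K (N (x : A)) ≠ 0 :=
        (map_ne_zero (algebraMap k K)).mpr (x.isUnit.map N).ne_zero
      refine ⟨b⁻¹ * X⁻¹ * b', ?_, fun σ => ?_⟩
      · rw [Units.val_mul, Units.val_mul, map_mul, map_mul, hinv, hinv, hb, hb', hXv, h1t, hx,
          map_mul]
        have := hcne c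
        field_simp
      · rw [smul_mul', smul_mul', smul_inv', smul_inv', hX]
        group

end Groth.Agent.S15415
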