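import Groth.Statements.S1542
import Mathlib
import Groth.Agent.Lib.Helper51.GeomRedAt

set_option autoImplicit false
universe u
open CategoryTheory CategoryTheory.Limits AlgebraicGeometry
open Variety

namespace Groth.Agent.S1542

/-- Geometric reducedness at a point passes to every generisation of that point. -/
theorem result (k : Type u) [Field k] (X : Scheme.{u}) [X.Over (Spec (CommRingCat.of k))] (x x' : X) (h : x' ⤳ x)
    (hx : Curv2.IsGeomReducedAt k X x) : Curv2.IsGeomReducedAt k X x' := by
  letI := Curv2.stalkAlgebra k X x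
  have hψ : Spec.map (CommRingCat.ofHom (algebraMap k (X.presheaf.stalk x))) =
      X.fromSpecStalk x ≫ (X ↘ Spec (CommRingCat.of k)) :=
    Groth.Agent.Lib.Helper51.specMap_stalkMapOf (X ↘ Spec (CommRingCat.of k)) x
  haveI : Algebra.IsGeometricallyReduced k (X.presheaf.stalk x) :=
    (Groth.Agent.Lib.Helper51.isGeomReducedAt_iff (X ↘ Spec (CommRingCat.of k)) x hψ).mp hx
  intro K _ _ y hy
  exact Groth.Agent.Lib.Helper51.isReduced_stalk_of_isGeometricallyReduced_of_specializes
    (X ↘ Spec (CommRingCat.of k)) x hψ K y (by
      have : (Curv2.bcFst k X K) y = x' := hy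
      rw [this]; exact h)

end Groth.Agent.S1542
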