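import Groth.Statements.S15427
import Groth.Agent.Lib.Helper8.GrSyzBasic

set_option autoImplicit false
universe u
open GrSyz

namespace Groth.Agent.S15427

/-- Let k be a field, S = k[x_0, …, x_r] graded by degree, 𝔪 = (x_0, …, x_r), M a finitely generated
ℤ-graded S-module and F a graded free resolution of M by free modules of finite rank with chosen
homogeneous bases, written as matrices d_i : F_{i+1} → F_i together with the images aug b ∈ M of the
basis of F_0. Then F is a minimal complex (every matrix entry lies in 𝔪) if and only if every map of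
the resolution carries its basis to an irredundant (minimal) family of generators of its image: for
each b, aug b is not in the S-span of the remaining aug b', and for each i and each column of d_i,
that column is not in the S-span of the remaining columns. -/
theorem result (k : Type u) [Field k] (r : ℕ)
    (M : Type u) [AddCommGroup M] [Module k M] [Module (MvPolynomial (Fin (r + 1)) k) M]
    [IsScalarTower k (MvPolynomial (Fin (r + 1)) k) M] [Module.Finite (MvPolynomial (Fin (r + 1)) k) M]
    (ℳ : ℤ → Submodule k M) [DirectSum.Decomposition ℳ] [SetLike.GradedSMul (GrSyz.stdGr k (Fin (r + 1))) ℳ]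
    (F : GrSyz.FreeRes (GrSyz.stdGr k (Fin (r + 1))) ℳ) :
    F.IsMinimal (GrSyz.irrel (GrSyz.stdGr k (Fin (r + 1)))).toIdeal ↔
      ((∀ b : Fin (F.rk 0), F.aug b ∉ Submodule.span (MvPolynomial (Fin (r + 1)) k) (F.aug '' {b' | b' ≠ b})) ∧
        ∀ (i : ℕ) (b : Fin (F.rk (i + 1))),
          (fun a => F.d i a b) ∉ Submodule.span (MvPolynomial (Fin (r + 1)) k) ((fun b' a => F.d i a b') '' {b' | b' ≠ b})) := by
  constructor
  · intro hF
    refine ⟨fun b hb => ?_, fun i b hb => ?_⟩
    · obtain ⟨c, hcb, hc⟩ := Groth.Agent.Lib.Helper8.GrSyzBasic.exists_fun_of_mem_span_image_ne hb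
      have hker : Fintype.linearCombination (MvPolynomial (Fin (r + 1)) k) F.aug
          (Pi.single b 1 - c) = 0 := by
        rw [map_sub, Fintype.linearCombination_apply, Fintype.linearCombination_apply, hc]
        simp [Pi.single_apply]
      have := Groth.Agent.Lib.Helper8.GrSyzBasic.coord_mem_of_mem_ker_aug hF hker b
      rw [Pi.sub_apply, Pi.single_eq_same, hcb, sub_zero] at this
      exact Groth.Agent.Lib.Helper8.GrSyzBasic.one_not_mem_irrel this
    · obtain ⟨c, hcb, hc⟩ := Groth.Agent.Lib.Helper8.GrSyzBasic.exists_fun_of_mem_span_image_ne hb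
      have hker : (F.d i).mulVec (Pi.single b 1 - c) = 0 := by
        rw [Matrix.mulVec_sub, Matrix.mulVec_single_one]
        funext a
        have := congrFun hc a
        simp only [Finset.sum_apply, Pi.smul_apply, smul_eq_mul] at this
        simp only [Pi.sub_apply, Matrix.col_apply, Matrix.mulVec, dotProduct, Pi.zero_apply]
        rw [← this, sub_eq_zero]
        exact Finset.sum_congr rfl fun j _ => mul_comm _ _
      have := Groth.Agent.Lib.Helper8.GrSyzBasic.coord_mem_of_mem_ker_d hF i hker b
      rw [Pi.sub_apply, Pi.single_eq_same, hcb, sub_zero] at this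
      exact Groth.Agent.Lib.Helper8.GrSyzBasic.one_not_mem_irrel this
  · rintro ⟨h0, h1⟩ i a b
    by_contra hnot
    obtain ⟨-, hu⟩ :=
      Groth.Agent.Lib.Helper8.GrSyzBasic.isUnit_of_mem_stdGr_of_not_mem_irrel (F.d_mem i a b) hnot
    cases i with
    | zero =>
      have hz := Groth.Agent.Lib.Helper8.GrSyzBasic.aug_d F (Pi.single b 1)
      rw [Matrix.mulVec_single_one, Fintype.linearCombination_apply] at hz
      exact h0 a (Groth.Agent.Lib.Helper8.GrSyzBasic.mem_span_image_ne_of_sum_eq_zero
        (c := fun a' => F.d 0 a' b) hu hz)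
    | succ i' =>
      have hz := Groth.Agent.Lib.Helper8.GrSyzBasic.d_mulVec_d F i' (Pi.single b 1)
      rw [Matrix.mulVec_single_one] at hz
      refine h1 i' a (Groth.Agent.Lib.Helper8.GrSyzBasic.mem_span_image_ne_of_sum_eq_zero
        (v := fun b' a'' => F.d i' a'' b') (c := fun a' => F.d (i' + 1) a' b) hu ?_)
      funext a''
      have := congrFun hz a''
      simp only [Matrix.mulVec, dotProduct, Matrix.col_apply] at this
      simp only [Finset.sum_apply, Pi.smul_apply, smul_eq_mul, Pi.zero_apply]
      rw [Pi.zero_apply] at this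
      rw [← this]
      exact Finset.sum_congr rfl fun j _ => mul_comm _ _

end Groth.Agent.S15427
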