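import Groth.Statements.S15431
import Groth.Agent.Lib.Helper8.GrSyzBasic

set_option autoImplicit false
universe u
open GrSyz

namespace Groth.Agent.S15431

/-- Let k be a field, S = k[x_0, …, x_r] graded by degree, 𝔪 = (x_0, …, x_r), M a finitely generated
ℤ-graded S-module and F a minimal graded free resolution of M by free modules of finite rank with
homogeneous bases (all matrix entries in 𝔪), so that its basis degrees give the graded Betti
numbers. If for some i the graded Betti numbers β_{i,j} vanish for all j < d, that is every basis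
vector of F_i has degree at least d, then β_{i+1,j+1} = 0 for all j < d: every basis vector of
F_{i+1} has degree at least d + 1. -/
theorem result (k : Type u) [Field k] (r : ℕ)
    (M : Type u) [AddCommGroup M] [Module k M] [Module (MvPolynomial (Fin (r + 1)) k) M]
    [IsScalarTower k (MvPolynomial (Fin (r + 1)) k) M] [Module.Finite (MvPolynomial (Fin (r + 1)) k) M]
    (ℳ : ℤ → Submodule k M) [DirectSum.Decomposition ℳ] [SetLike.GradedSMul (GrSyz.stdGr k (Fin (r + 1))) ℳ]
    (F : GrSyz.FreeRes (GrSyz.stdGr k (Fin (r + 1))) ℳ) (hF : F.IsMinimal (GrSyz.irrel (GrSyz.stdGr k (Fin (r + 1)))).toIdeal) (i : ℕ) (d : ℤ)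
    (h : ∀ a : Fin (F.rk i), d ≤ F.deg i a) (b : Fin (F.rk (i + 1))) :
    d + 1 ≤ F.deg (i + 1) b := by
  by_contra hlt
  have hle : F.deg (i + 1) b ≤ d := by omega
  have hcol : ∀ a, F.d i a b = 0 := fun a =>
    Groth.Agent.Lib.Helper8.GrSyzBasic.eq_zero_of_mem_irrel_of_mem_stdGr_nonpos
      (by have := h a; omega) (F.d_mem i a b) (hF i a b)
  have hker : (F.d i).mulVec (Pi.single b 1) = 0 := by
    rw [Matrix.mulVec_single_one]
    funext a
    exact hcol a
  have := Groth.Agent.Lib.Helper8.GrSyzBasic.coord_mem_of_mem_ker_d hF i hker b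
  rw [Pi.single_eq_same] at this
  exact Groth.Agent.Lib.Helper8.GrSyzBasic.one_not_mem_irrel this

end Groth.Agent.S15431
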