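import Groth.Statements.S15436
import Groth.Agent.Lib.Helper8.GrSyzBasic
import Groth.Agent.Lib.Helper8.ResOfExact
import Mathlib.CategoryTheory.Monoidal.Tor
import Mathlib.Algebra.Category.ModuleCat.Monoidal.Basic
import Mathlib.RingTheory.Length
import Mathlib.LinearAlgebra.TensorProduct.Pi
import Mathlib.RingTheory.SimpleModule.Basic

set_option autoImplicit false
universe u
open GrSyz

namespace Groth.Agent.S15436

open CategoryTheory MonoidalCategory Groth.Agent.Lib.Helper8.GrSyzBasic

section Irrel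

variable {k : Type u} [Field k] {σ : Type*}

theorem mem_irrel_of_constantCoeff_eq_zero {p : MvPolynomial σ k}
    (h : MvPolynomial.constantCoeff p = 0) : p ∈ (irrel (stdGr k σ)).toIdeal := by
  rw [p.as_sum]
  refine Ideal.sum_mem _ fun v _ => ?_
  by_cases hv : v = 0
  · subst hv
    have : MvPolynomial.coeff 0 p = 0 := h
    rw [this, map_zero]
    exact Ideal.zero_mem _
  · exact mem_irrel_of_mem_stdGr_pos (weight_one_pos hv)
      ((mem_stdGr_iff k σ _ _).2 (MvPolynomial.isWeightedHomogeneous_monomial _ _ _ rfl))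

theorem irrel_eq_ker :
    (irrel (stdGr k σ)).toIdeal =
      RingHom.ker (MvPolynomial.constantCoeff : MvPolynomial σ k →+* k) :=
  le_antisymm irrel_le_ker_constantCoeff fun _ hp =>
    mem_irrel_of_constantCoeff_eq_zero ((RingHom.mem_ker).1 hp)

theorem irrel_isMaximal : (irrel (stdGr k σ)).toIdeal.IsMaximal := by
  rw [irrel_eq_ker]
  exact RingHom.ker_isMaximal_of_surjective _ (fun c => ⟨MvPolynomial.C c, by simp⟩)

end Irrel

section Tensor

variable {R : Type u} [CommRing R]

theorem lTensor_mulVecLin_eq_zero (𝔪 : Ideal R) {m n : ℕ} (A : Matrix (Fin m) (Fin n) R)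
    (hA : ∀ a b, A a b ∈ 𝔪) : (Matrix.mulVecLin A).lTensor (R ⧸ 𝔪) = 0 := by
  apply TensorProduct.ext'
  intro x v
  rw [LinearMap.lTensor_tmul, LinearMap.zero_apply]
  apply (TensorProduct.piScalarRight R R (R ⧸ 𝔪) (Fin m)).injective
  rw [TensorProduct.piScalarRight_apply, TensorProduct.piScalarRightHom_tmul, map_zero]
  funext j
  obtain ⟨y, rfl⟩ := Ideal.Quotient.mk_surjective x
  have hmem : Matrix.mulVecLin A v j ∈ 𝔪 := by
    rw [Matrix.mulVecLin_apply, Matrix.mulVec, dotProduct]
    exact Ideal.sum_mem _ fun b _ => Ideal.mul_mem_right _ _ (hA j b)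
  change Matrix.mulVecLin A v j • (Ideal.Quotient.mk 𝔪 y) = 0
  rw [← Ideal.Quotient.mk_eq_mk, ← Submodule.Quotient.mk_smul, Submodule.Quotient.mk_eq_zero,
    smul_eq_mul]
  exact Ideal.mul_mem_right _ _ hmem

theorem length_tensor_pi (𝔪 : Ideal R) [h𝔪 : 𝔪.IsMaximal] (n : ℕ) :
    Module.length R (TensorProduct R (R ⧸ 𝔪) (Fin n → R)) = (n : ℕ∞) := by
  have : IsSimpleModule R (R ⧸ 𝔪) := isSimpleModule_iff_isCoatom.mpr h𝔪.out
  rw [(TensorProduct.piScalarRight R R (R ⧸ 𝔪) (Fin n)).length_eq, Module.length_pi,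
    Module.length_eq_one, mul_one, ENat.card_eq_coe_fintype_card, Fintype.card_fin]

end Tensor

/-- Let k be a field, S = k[x_0, …, x_r] graded by degree, 𝔪 = (x_0, …, x_r), M a finitely generated
ℤ-graded S-module and F a minimal graded free resolution of M by free modules of finite rank with
homogeneous bases (all matrix entries in 𝔪). Then for every i the rank of F_i (the number of
elements of a minimal generating set of the i-th syzygy module) equals the length, i.e. the
dimension over k = S/𝔪, of Tor_i^S(S/𝔪, M), where Tor_i is the i-th left derived functor of S/𝔪 ⊗_S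
− on S-modules. (The published statement is the degree-by-degree refinement: F_i has exactly dim_k
Tor_i^S(k, M)_j basis vectors of degree j; the grading on Tor is not available here, so the counts
are summed over j.) -/
theorem result (k : Type u) [Field k] (r : ℕ)
    (M : Type u) [AddCommGroup M] [Module k M] [Module (MvPolynomial (Fin (r + 1)) k) M]
    [IsScalarTower k (MvPolynomial (Fin (r + 1)) k) M] [Module.Finite (MvPolynomial (Fin (r + 1)) k) M]
    (ℳ : ℤ → Submodule k M) [DirectSum.Decomposition ℳ] [SetLike.GradedSMul (GrSyz.stdGr k (Fin (r + 1))) ℳ]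
    (F : GrSyz.FreeRes (GrSyz.stdGr k (Fin (r + 1))) ℳ) (hF : F.IsMinimal (GrSyz.irrel (GrSyz.stdGr k (Fin (r + 1)))).toIdeal) (i : ℕ) :
    Module.length (MvPolynomial (Fin (r + 1)) k)
        (((CategoryTheory.Tor (ModuleCat.{u} (MvPolynomial (Fin (r + 1)) k)) i).obj
            (ModuleCat.of (MvPolynomial (Fin (r + 1)) k) ((MvPolynomial (Fin (r + 1)) k) ⧸ (GrSyz.irrel (GrSyz.stdGr k (Fin (r + 1)))).toIdeal))).obj
          (ModuleCat.of (MvPolynomial (Fin (r + 1)) k) M)) = (F.rk i : ℕ∞) := by
  have h𝔪 : (GrSyz.irrel (GrSyz.stdGr k (Fin (r + 1)))).toIdeal.IsMaximal := irrel_isMaximal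
  have hd : ∀ n, (F.dLin n).comp (F.dLin (n + 1)) = 0 := fun n =>
    LinearMap.ext fun w => d_mulVec_d F n w
  have hε : F.augLin.comp (F.dLin 0) = 0 := LinearMap.ext fun w => aug_d F w
  let P := Groth.Agent.Lib.Helper8.ResOfExact.res
    (fun n => Fin (F.rk n) → MvPolynomial (Fin (r + 1)) k) (fun n => F.dLin n) F.augLin hd hε
    F.aug_surjective F.exact_zero F.exact_succ
  let N := ModuleCat.of (MvPolynomial (Fin (r + 1)) k)
    ((MvPolynomial (Fin (r + 1)) k) ⧸ (GrSyz.irrel (GrSyz.stdGr k (Fin (r + 1)))).toIdeal)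
  have e : ((Tor (ModuleCat.{u} (MvPolynomial (Fin (r + 1)) k)) i).obj N).obj
      (ModuleCat.of (MvPolynomial (Fin (r + 1)) k) M) ≅
      (((tensorLeft N).mapHomologicalComplex _).obj P.complex).homology i :=
    P.isoLeftDerivedObj (tensorLeft N) i
  have hK : ∀ a b, (((tensorLeft N).mapHomologicalComplex _).obj P.complex).d a b = 0 := by
    intro a b
    rw [Functor.mapHomologicalComplex_obj_d]
    by_cases hab : a = b + 1
    · subst hab
      change (tensorLeft N).map ((Groth.Agent.Lib.Helper8.ResOfExact.cx _ _ hd).d (b + 1) b) = 0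
      rw [Groth.Agent.Lib.Helper8.ResOfExact.cx_d]
      apply ModuleCat.hom_ext
      exact lTensor_mulVecLin_eq_zero _ (F.d b) (hF b)
    · have : P.complex.d a b = 0 := P.complex.shape a b (fun h => hab h.symm)
      rw [this, Functor.map_zero]
      rfl
  have e2 : (((tensorLeft N).mapHomologicalComplex _).obj P.complex).homology i ≅
      (((tensorLeft N).mapHomologicalComplex _).obj P.complex).X i :=
    (ShortComplex.HomologyData.ofZeros
      ((((tensorLeft N).mapHomologicalComplex _).obj P.complex).sc i) (hK _ _) (hK _ _)).left.homologyIso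
  rw [(e ≪≫ e2).toLinearEquiv.length_eq]
  exact length_tensor_pi _ (F.rk i)

end Groth.Agent.S15436
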