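import Groth.Statements.S15437
import Groth.Agent.S15428

set_option autoImplicit false
universe u
open GrSyz

namespace Groth.Agent.S15437

theorem finsum_B {k : Type u} [Field k] {r : ℕ}
    {M : Type u} [AddCommGroup M] [Module k M] [Module (MvPolynomial (Fin (r + 1)) k) M]
    {ℳ : ℤ → Submodule k M} [DirectSum.Decomposition ℳ]
    [SetLike.GradedSMul (GrSyz.stdGr k (Fin (r + 1))) ℳ]
    (F : GrSyz.FreeRes (GrSyz.stdGr k (Fin (r + 1))) ℳ) (m : ℕ) (g : ℤ → ℤ) :
    ∑ᶠ j : ℤ, (∑ i ∈ Finset.range (m + 1), (-1 : ℤ) ^ i * (F.betti i j : ℤ)) * g j =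
      ∑ i ∈ Finset.range (m + 1), (-1 : ℤ) ^ i * ∑ b : Fin (F.rk i), g (F.deg i b) := by
  classical
  have hbetti : ∀ i j, (F.betti i j : ℤ) =
      ∑ b : Fin (F.rk i), if F.deg i b = j then (1 : ℤ) else 0 := by
    intro i j
    unfold GrSyz.FreeRes.betti
    rw [Finset.card_filter]
    push_cast
    rfl
  rw [finsum_eq_sum_of_support_subset
    (s := (Finset.range (m + 1)).biUnion (fun i => Finset.univ.image (F.deg i)))]
  · simp_rw [Finset.sum_mul]
    rw [Finset.sum_comm]
    apply Finset.sum_congr rfl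
    intro i hi
    simp_rw [mul_assoc]
    rw [← Finset.mul_sum]
    congr 1
    simp_rw [hbetti, Finset.sum_mul]
    rw [Finset.sum_comm]
    apply Finset.sum_congr rfl
    intro b _
    simp_rw [ite_mul, one_mul, zero_mul]
    rw [Finset.sum_ite_eq, if_pos]
    exact Finset.mem_biUnion.mpr ⟨i, hi, Finset.mem_image_of_mem _ (Finset.mem_univ b)⟩
  · intro j hj
    rw [Function.mem_support] at hj
    by_contra hjS
    apply hj
    have h0 : ∀ i ∈ Finset.range (m + 1), (F.betti i j : ℤ) = 0 := by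
      intro i hi
      rw [hbetti]
      apply Finset.sum_eq_zero
      intro b _
      rw [if_neg]
      intro h
      exact hjS (Finset.mem_coe.mpr (Finset.mem_biUnion.mpr
        ⟨i, hi, Finset.mem_image.mpr ⟨b, Finset.mem_univ _, h⟩⟩))
    rw [Finset.sum_eq_zero (fun i hi => by rw [h0 i hi, mul_zero]), zero_mul]


/-- Let k be a field, S = k[x_0, …, x_r] graded by degree and M a ℤ-graded S-module with a finite graded
free resolution F of length at most m by free modules of finite rank with homogeneous bases; write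
β_{i,j} for the number of basis vectors of F_i of degree j (the graded Betti numbers when F is
minimal) and B_j = Σ_{i ≤ m} (−1)^i β_{i,j}. Then for every integer d, dim_k M_d = Σ_j B_j C(r + d −
j, r), where a binomial with d < j counts as zero and only finitely many j contribute; and the B_j
are recovered from the Hilbert function by B_j = dim_k M_j − Σ_{n < j} B_n C(r + j − n, r). (Stated
for any finite graded free resolution; the published statement takes the minimal one.) -/
theorem result (k : Type u) [Field k] (r : ℕ)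
    (M : Type u) [AddCommGroup M] [Module k M] [Module (MvPolynomial (Fin (r + 1)) k) M]
    [IsScalarTower k (MvPolynomial (Fin (r + 1)) k) M] [Module.Finite (MvPolynomial (Fin (r + 1)) k) M]
    (ℳ : ℤ → Submodule k M) [DirectSum.Decomposition ℳ] [SetLike.GradedSMul (GrSyz.stdGr k (Fin (r + 1))) ℳ]
    (F : GrSyz.FreeRes (GrSyz.stdGr k (Fin (r + 1))) ℳ) (m : ℕ) (hF : F.HasLengthLE m) :
    (∀ d : ℤ, (Module.finrank k ↥(ℳ d) : ℤ) =
        ∑ᶠ j : ℤ, (∑ i ∈ Finset.range (m + 1), (-1 : ℤ) ^ i * (F.betti i j : ℤ)) *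
          (if j ≤ d then ((Nat.choose (r + (d - j).toNat) r : ℕ) : ℤ) else 0)) ∧
      ∀ j : ℤ, (∑ i ∈ Finset.range (m + 1), (-1 : ℤ) ^ i * (F.betti i j : ℤ)) =
        (Module.finrank k ↥(ℳ j) : ℤ) -
          ∑ᶠ n : ℤ, (if n < j then (∑ i ∈ Finset.range (m + 1), (-1 : ℤ) ^ i * (F.betti i n : ℤ)) * ((Nat.choose (r + (j - n).toNat) r : ℕ) : ℤ) else 0) := by
  have part1 : ∀ d : ℤ, (Module.finrank k ↥(ℳ d) : ℤ) =
      ∑ᶠ j : ℤ, (∑ i ∈ Finset.range (m + 1), (-1 : ℤ) ^ i * (F.betti i j : ℤ)) *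
        (if j ≤ d then ((Nat.choose (r + (d - j).toNat) r : ℕ) : ℤ) else 0) := by
    intro d
    rw [finsum_B F m (fun j => if j ≤ d then ((Nat.choose (r + (d - j).toNat) r : ℕ) : ℤ) else 0)]
    exact Groth.Agent.S15428.result k r M ℳ F m hF d
  refine ⟨part1, fun j => ?_⟩
  have h1 := part1 j
  rw [finsum_B F m
    (fun n => if n ≤ j then ((Nat.choose (r + (j - n).toNat) r : ℕ) : ℤ) else 0)] at h1
  have hsplit : ∀ n : ℤ, (if n ≤ j then ((Nat.choose (r + (j - n).toNat) r : ℕ) : ℤ) else 0) =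
      (if n = j then (1 : ℤ) else 0) +
        (if n < j then ((Nat.choose (r + (j - n).toNat) r : ℕ) : ℤ) else 0) := by
    intro n
    rcases lt_trichotomy n j with h | h | h
    · rw [if_pos h.le, if_neg (ne_of_lt h), if_pos h, zero_add]
    · subst h
      simp
    · rw [if_neg (not_le.mpr h), if_neg (ne_of_gt h), if_neg (not_lt.mpr h.le), add_zero]
  simp_rw [hsplit, Finset.sum_add_distrib, mul_add] at h1
  rw [Finset.sum_add_distrib] at h1
  rw [← finsum_B F m (fun n => if n = j then (1 : ℤ) else 0),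
    ← finsum_B F m
      (fun n => if n < j then ((Nat.choose (r + (j - n).toNat) r : ℕ) : ℤ) else 0)] at h1
  have h2 : ∑ᶠ n : ℤ, (∑ i ∈ Finset.range (m + 1), (-1 : ℤ) ^ i * (F.betti i n : ℤ)) *
      (if n = j then (1 : ℤ) else 0) =
      ∑ i ∈ Finset.range (m + 1), (-1 : ℤ) ^ i * (F.betti i j : ℤ) := by
    rw [finsum_eq_single _ j]
    · rw [if_pos rfl, mul_one]
    · intro n hn
      rw [if_neg hn, mul_zero]
  have h3 : ∀ n : ℤ, (if n < j then (∑ i ∈ Finset.range (m + 1), (-1 : ℤ) ^ i *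
      (F.betti i n : ℤ)) * ((Nat.choose (r + (j - n).toNat) r : ℕ) : ℤ) else 0) =
      (∑ i ∈ Finset.range (m + 1), (-1 : ℤ) ^ i * (F.betti i n : ℤ)) *
        (if n < j then ((Nat.choose (r + (j - n).toNat) r : ℕ) : ℤ) else 0) := by
    intro n
    split_ifs <;> simp
  simp_rw [h3]
  rw [h2] at h1
  rw [h1]
  ring

end Groth.Agent.S15437
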