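import Groth.Statements.S1544
import Mathlib
import Groth.Agent.Lib.Helper51.GenericRed

set_option autoImplicit false
universe u
open CategoryTheory CategoryTheory.Limits AlgebraicGeometry
attribute [local instance] Curv2.resAlgebra Curv2.stalkAlgebra
open Variety

namespace Groth.Agent.S1544

/-- For an integral scheme over k, geometric reducedness of the scheme is equivalent to geometric
reducedness over k of the function field (the local ring at the generic point), i.e. a separable
extension of k in the sense of commutative algebra. The source states this for varieties;
integrality is what the proof uses. -/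
theorem result (k : Type u) [Field k] (X : Scheme.{u}) [X.Over (Spec (CommRingCat.of k))] [IsIntegral X] :
    GeometricallyReduced (X ↘ (Spec (CommRingCat.of k))) ↔ Algebra.IsGeometricallyReduced k X.functionField := by
  have hψ := Groth.Agent.Lib.Helper51.specMap_stalkMapOf (X ↘ Spec (CommRingCat.of k)) (genericPoint X)
  constructor
  · intro hG
    refine (Groth.Agent.Lib.Helper51.isGeomReducedAt_iff (X ↘ Spec (CommRingCat.of k))
      (genericPoint X) hψ).mp ?_
    intro K _ _ y _
    haveI : AlgebraicGeometry.IsReduced (pullback (X ↘ Spec (CommRingCat.of k))
        (Spec.map (CommRingCat.ofHom (algebraMap k K)))) :=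
      GeometricallyReduced.geometrically_isReduced (f := X ↘ Spec (CommRingCat.of k)) _ _ _
        (IsPullback.of_hasPullback _ _)
    infer_instance
  · intro h
    apply Groth.Agent.Lib.Helper51.geometricallyReduced_of_generic
    intro η hη
    have h1 : closure {η} = Set.univ := by
      rw [irreducibleComponents_eq_singleton] at hη
      exact hη
    have h2 : η = genericPoint X := by
      have h3 : IsGenericPoint η Set.univ := h1
      exact h3.eq (genericPoint_spec X)
    subst h2
    exact h

end Groth.Agent.S1544
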