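import Groth.Statements.S15448
-- import your own Groth.Agent.* helpers here
import Groth.Agent.Lib.Helper33.WeilLib
import Groth.Agent.Lib.Helper33.WeilDim

set_option autoImplicit false
universe u v
open CategoryTheory AlgebraicGeometry
open WeilCoh

namespace Groth.Agent.S15448
open WeilCoh Groth.Agent.Lib.Helper33.WeilLib Groth.Agent.Lib.Helper33.WeilDim


/-- For a Weil cohomology theory H^* (coefficients in K of characteristic zero, on nonsingular connected
projective varieties over an algebraically closed field k), a morphism f : X → Y of such varieties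
and an irreducible closed subvariety Z ⊆ X, f_*(cl(Z)) = deg(Z/f(Z)) · cl(f(Z)). Here Z is given by
its generic point ξ, f(Z) is the closed irreducible subset with generic point f(ξ), and deg(Z/f(Z))
is the degree of κ(ξ) over κ(f(ξ)), equal to 0 when this extension is infinite, i.e. when dim f(Z) <
dim Z; both sides are read in the total cohomology ring of Y. -/
theorem result (k : Type u) [Field k] [IsAlgClosed k] (K : Type v) [Field K] [CharZero K]
    (T : WeilCoh.Theory k K) (X Y : WeilCoh.Var k) (f : X ⟶ Y)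
    (ξ : ↥X.obj.left) :
    (T.push f (2 * (WeilCoh.codim X.obj.left ξ : ℤ)) ⟨T.cl X ξ, T.cl_mem X ξ⟩ : T.H Y) =
      ((WeilCoh.sm f).residueDegree ξ : K) • T.cl Y (WeilCoh.sm f ξ) := by
  have hcp := codim_add_pdim X ξ
  have hR : (((WeilCoh.sm f).residueDegree ξ : K) • T.cl Y (WeilCoh.sm f ξ)) ∈
      T.gr Y (2 * (WeilCoh.codim X.obj.left ξ : ℤ) + 2 * (dim Y.obj.left : ℤ) - 2 * (dim X.obj.left : ℤ)) := by
    by_cases hd : (WeilCoh.sm f).residueDegree ξ = 0
    · rw [hd, Nat.cast_zero, zero_smul]; exact Submodule.zero_mem _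
    · have hp := pdim_map_of_residueDegree_ne_zero f ξ hd
      have hcp' := codim_add_pdim Y (WeilCoh.sm f ξ)
      have e : 2 * (WeilCoh.codim Y.obj.left (WeilCoh.sm f ξ) : ℤ) =
          2 * (WeilCoh.codim X.obj.left ξ : ℤ) + 2 * (dim Y.obj.left : ℤ) - 2 * (dim X.obj.left : ℤ) := by
        omega
      rw [← e]
      exact Submodule.smul_mem _ _ (T.cl_mem Y _)
  refine eq_of_tr_mul T (Subtype.property _) hR fun b hb => ?_
  rw [tr_push_mul', smul_mul_assoc, map_smul, smul_eq_mul]
  refine T.cl_push f ξ b ?_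
  have e : 2 * (dim Y.obj.left : ℤ) - (2 * (WeilCoh.codim X.obj.left ξ : ℤ) + 2 * (dim Y.obj.left : ℤ) - 2 * (dim X.obj.left : ℤ)) = 2 * (pdim X.obj.left ξ : ℤ) := by
    omega
  rw [← e]; exact hb

end Groth.Agent.S15448
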