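import Groth.Statements.S15449
-- import your own Groth.Agent.* helpers here
import Groth.Agent.Lib.Helper33.WeilLib

set_option autoImplicit false
universe u v
open CategoryTheory AlgebraicGeometry
open WeilCoh

namespace Groth.Agent.S15449
open Groth.Agent.Lib.Helper33.WeilLib WeilCoh


/-- For a Weil cohomology theory H^* (coefficients in K of characteristic zero, on nonsingular connected
projective varieties over an algebraically closed field k), such varieties X and Y with product X ×
Y and projections p, q, and α ∈ H^i(Y): p_*(q^*(α)) = Tr_Y(α) (as a multiple of 1 ∈ H^0(X)) if i = 2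
dim Y, and p_*(q^*(α)) = 0 otherwise. The product is any object Q with morphisms p : Q → X, q : Q →
Y forming a cartesian square over Spec k; both sides are read in the total cohomology ring of X. -/
theorem result (k : Type u) [Field k] [IsAlgClosed k] (K : Type v) [Field K] [CharZero K]
    (T : WeilCoh.Theory k K) (X Y Q : WeilCoh.Var k) (p : Q ⟶ X) (q : Q ⟶ Y)
    (hQ : WeilCoh.IsProd p q) (i : ℤ) (a : ↥(T.gr Y i)) :
    (i = 2 * (WeilCoh.dim Y.obj.left : ℤ) →
      (T.push p i ⟨T.pull q a, T.pull_mem q i a a.2⟩ : T.H X) = algebraMap K (T.H X) (T.tr Y a)) ∧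
    (i ≠ 2 * (WeilCoh.dim Y.obj.left : ℤ) →
      (T.push p i ⟨T.pull q a, T.pull_mem q i a a.2⟩ : T.H X) = 0) := by
  have hdim := dim_prod T p q hQ
  constructor
  · intro hi
    have h1 : (T.push p i ⟨T.pull q a, T.pull_mem q i a a.2⟩ : T.H X) ∈ T.gr X 0 := by
      have := (T.push p i ⟨T.pull q a, T.pull_mem q i a a.2⟩).2
      convert this using 2
      omega
    refine eq_of_tr_mul T h1 (algebraMap_mem T X _) fun b hb => ?_
    rw [tr_push_mul' T p i _ b]
    show T.tr Q (T.pull q (a : T.H Y) * T.pull p b) = _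
    have hb' : b ∈ T.gr X (2 * (WeilCoh.dim X.obj.left : ℤ)) := by
      convert hb using 2; ring
    have ha' : (a : T.H Y) ∈ T.gr Y (2 * (WeilCoh.dim Y.obj.left : ℤ)) := hi ▸ a.2
    rw [T.gradedComm Q _ _ _ _ (T.pull_mem q _ _ ha') (T.pull_mem p _ _ hb')]
    have hev : ((2 * (WeilCoh.dim Y.obj.left : ℤ)).natAbs * (2 * (WeilCoh.dim X.obj.left : ℤ)).natAbs) =
        2 * (2 * WeilCoh.dim Y.obj.left * WeilCoh.dim X.obj.left) := by
      have e1 : (2 * (WeilCoh.dim Y.obj.left : ℤ)).natAbs = 2 * WeilCoh.dim Y.obj.left := by omega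
      have e2 : (2 * (WeilCoh.dim X.obj.left : ℤ)).natAbs = 2 * WeilCoh.dim X.obj.left := by omega
      rw [e1, e2]; ring
    rw [hev, pow_mul, neg_one_sq, one_pow, one_smul, T.tr_prod p q hQ b a hb' ha',
      Algebra.algebraMap_eq_smul_one, smul_mul_assoc, one_mul, map_smul, smul_eq_mul, mul_comm]
  · intro hi
    rcases lt_or_gt_of_ne hi with h | h
    · exact eq_zero_of_mem_of_vanish T (T.push p i ⟨T.pull q a, T.pull_mem q i a a.2⟩).2
        (Or.inl (by omega))
    · have ha0 : (a : T.H Y) = 0 := eq_zero_of_mem_of_vanish T a.2 (Or.inr h)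
      have : (⟨T.pull q a, T.pull_mem q i a a.2⟩ : T.gr Q i) = 0 := by
        apply Subtype.ext
        show T.pull q (a : T.H Y) = 0
        rw [ha0, map_zero]
      rw [this, map_zero]
      rfl

end Groth.Agent.S15449
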