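import Groth.Statements.S15451
-- import your own Groth.Agent.* helpers here
import Groth.Agent.Lib.Helper33.WeilGraph
import Groth.Agent.Lib.Helper33.WeilKun

set_option autoImplicit false
universe u v
open CategoryTheory AlgebraicGeometry
open WeilCoh

namespace Groth.Agent.S15451
open Groth.Agent.Lib.Helper33.WeilGraph Groth.Agent.Lib.Helper33.WeilLib
  Groth.Agent.Lib.Helper33.WeilKun WeilCoh

section
variable {k : Type u} [Field k] [IsAlgClosed k] {K : Type v} [Field K] [CharZero K]
    (T : WeilCoh.Theory k K) {X P : WeilCoh.Var k} (p q : P ⟶ X) (hP : WeilCoh.IsProd p q)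

include hP in
/-- trace of a product of two "decomposable" classes on `X × X` -/
theorem tr_term {d1 s : ℤ} (E F a b : T.H X) (hF : F ∈ T.gr X d1) (ha : a ∈ T.gr X s) :
    T.tr P (T.pull p E * T.pull q F * (T.pull p a * T.pull q b)) =
      (-1 : K) ^ (d1.natAbs * s.natAbs) * (T.tr X (E * a) * T.tr X (F * b)) := by
  have hc := T.gradedComm P d1 s (T.pull q F) (T.pull p a) (T.pull_mem q d1 F hF) (T.pull_mem p s a ha)
  have : T.pull p E * T.pull q F * (T.pull p a * T.pull q b) =
      ((-1 : K) ^ (d1.natAbs * s.natAbs)) • (T.pull p (E * a) * T.pull q (F * b)) := by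
    rw [map_mul, map_mul]
    calc T.pull p E * T.pull q F * (T.pull p a * T.pull q b)
        = T.pull p E * (T.pull q F * T.pull p a) * T.pull q b := by noncomm_ring
      _ = T.pull p E * (((-1 : K) ^ (d1.natAbs * s.natAbs)) • (T.pull p a * T.pull q F)) * T.pull q b := by
          rw [hc]
      _ = ((-1 : K) ^ (d1.natAbs * s.natAbs)) • (T.pull p E * T.pull p a * (T.pull q F * T.pull q b)) := by
          rw [mul_smul_comm, smul_mul_assoc]
          congr 1
          noncomm_ring
  rw [this, map_smul, smul_eq_mul, tr_prod' T p q hP]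

/-- pairing against the dual family computes coordinates -/
theorem tr_dual_coord (X : WeilCoh.Var k) {r : ℕ} {ι : Type} [Fintype ι] [DecidableEq ι]
    (e : Module.Basis ι K ↥(T.gr X (r : ℤ)))
    (f : ι → ↥(T.gr X (2 * (WeilCoh.dim X.obj.left : ℤ) - r)))
    (hef : ∀ i l : ι, T.tr X ((f l : T.H X) * (e i : T.H X)) = if i = l then 1 else 0)
    (b : ↥(T.gr X (r : ℤ))) (i : ι) :
    T.tr X ((f i : T.H X) * (b : T.H X)) = e.repr b i := by
  have hb : (b : T.H X) = ∑ l, e.repr b l • (e l : T.H X) := by
    have h0 := congrArg (Subtype.val) (e.sum_repr b)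
    rw [← h0]
    simp only [Submodule.coe_sum, Submodule.coe_smul]
  rw [hb, Finset.mul_sum, map_sum]
  simp only [mul_smul_comm, map_smul, smul_eq_mul, hef, mul_ite, mul_one, mul_zero]
  rw [Finset.sum_ite_eq']
  simp

end


/-- Let H^* be a Weil cohomology theory (coefficients in K of characteristic zero, on nonsingular
connected projective varieties over an algebraically closed field k), φ an endomorphism of such a
variety X of dimension n, p, q the projections of X × X and Γ_φ the graph of φ. If (e^r_i)_i is a
basis of H^r(X) and (f^{2n−r}_i)_i the dual basis of H^{2n−r}(X) for Poincaré duality,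
Tr_X(f^{2n−r}_ℓ ∪ e^r_i) = δ_{i,ℓ}, for every 0 ≤ r ≤ 2n, then cl(Γ_φ) = Σ_{r=0}^{2n} Σ_i
p^*(φ^*(e^r_i)) ∪ q^*(f^{2n−r}_i) in H^{2n}(X × X). Here X × X is any object P with a cartesian
square p, q : P → X over Spec k, Γ_φ is the closure of the image of the generic point of X under the
section j = (id, φ) of p, and the f^{2n−r}_i are any family satisfying the duality relations. -/
theorem result (k : Type u) [Field k] [IsAlgClosed k] (K : Type v) [Field K] [CharZero K]
    (T : WeilCoh.Theory k K)
    (X P : WeilCoh.Var k) [IrreducibleSpace ↥X.obj.left] (φ : X ⟶ X)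
    (p q : P ⟶ X) (hP : WeilCoh.IsProd p q) (j : X ⟶ P) (hjp : j ≫ p = 𝟙 X) (hjq : j ≫ q = φ)
    (ι : ℕ → Type) [∀ r, Fintype (ι r)] [∀ r, DecidableEq (ι r)]
    (e : (r : ℕ) → Module.Basis (ι r) K ↥(T.gr X (r : ℤ)))
    (f : (r : ℕ) → ι r → ↥(T.gr X (2 * (WeilCoh.dim X.obj.left : ℤ) - r)))
    (hef : ∀ r, r ≤ 2 * WeilCoh.dim X.obj.left → ∀ i l : ι r,
      T.tr X ((f r l : T.H X) * (e r i : T.H X)) = if i = l then 1 else 0) :
    T.cl P (WeilCoh.sm j (genericPoint ↥X.obj.left)) =
      ∑ r ∈ Finset.range (2 * WeilCoh.dim X.obj.left + 1), ∑ i : ι r,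
        T.pull p (T.pull φ (e r i : T.H X)) * T.pull q (f r i : T.H X) := by
  have hdim := dim_prod T p q hP
  have hcod := codim_section T p q hP j hjp
  have hcod' : (codim P.obj.left (sm j (genericPoint X.obj.left)) : ℤ) =
      dim P.obj.left - dim X.obj.left := by rw [hcod, hdim]; ring
  have hΓ : T.cl P (sm j (genericPoint X.obj.left)) ∈ T.gr P (2 * (dim X.obj.left : ℤ)) := by
    have := T.cl_mem P (sm j (genericPoint X.obj.left))
    rw [hcod] at this
    exact this
  have hR : (∑ r ∈ Finset.range (2 * WeilCoh.dim X.obj.left + 1), ∑ i : ι r,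
        T.pull p (T.pull φ (e r i : T.H X)) * T.pull q (f r i : T.H X)) ∈
      T.gr P (2 * (dim X.obj.left : ℤ)) := by
    refine Submodule.sum_mem _ fun r _ => Submodule.sum_mem _ fun i _ => ?_
    have := SetLike.mul_mem_graded (T.pull_mem p r _ (T.pull_mem φ r _ (e r i).2))
      (T.pull_mem q _ _ (f r i).2)
    convert this using 2
    ring
  have e1 : ∀ b : T.H X, T.pull j (T.pull q b) = T.pull φ b := by
    intro b
    rw [← hjq, T.pull_comp]; rfl
  have e2 : ∀ a : T.H X, T.pull j (T.pull p a) = a := by
    intro a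
    have := T.pull_comp j p
    rw [hjp, T.pull_id] at this
    exact (congrArg (fun g : T.H X →ₐ[K] T.H X => g a) this).symm
  have key : ∀ c : T.H P, T.tr P (T.cl P (sm j (genericPoint X.obj.left)) * c) =
      T.tr P ((∑ r ∈ Finset.range (2 * WeilCoh.dim X.obj.left + 1), ∑ i : ι r,
        T.pull p (T.pull φ (e r i : T.H X)) * T.pull q (f r i : T.H X)) * c) := by
    intro c
    induction c using kunneth_induction T p q hP with
    | hom s t a b ha hb =>
      rw [tr_cl_section_mul T p j hjp hcod', map_mul, e1, e2, Finset.sum_mul, map_sum]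
      simp only [Finset.sum_mul, map_sum]
      simp only [tr_term T p q hP _ _ a b (f _ _).2 ha]
      -- now a sum of products of traces
      by_cases htr : t < 0 ∨ 2 * (dim X.obj.left : ℤ) < t
      · rw [eq_zero_of_mem_of_vanish T hb htr]
        simp
      · push Not at htr
        obtain ⟨ht0, ht1⟩ := htr
        lift t to ℕ using ht0
        have ht1' : t ≤ 2 * dim X.obj.left := by exact_mod_cast ht1
        rw [Finset.sum_eq_single t]
        · -- the term r = t
          have hco : ∀ i : ι t, T.tr X ((f t i : T.H X) * b) = (e t).repr ⟨b, hb⟩ i :=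
            fun i => tr_dual_coord T X (e t) (f t) (hef t ht1') ⟨b, hb⟩ i
          simp only [hco]
          have hb' : b = ∑ l, (e t).repr ⟨b, hb⟩ l • (e t l : T.H X) := by
            have h0 : (↑(∑ i, ((e t).repr ⟨b, hb⟩) i • (e t) i) : T.H X) = b :=
              congrArg (Subtype.val) ((e t).sum_repr ⟨b, hb⟩)
            conv_lhs => rw [← h0]
            simp only [Submodule.coe_sum, Submodule.coe_smul]
          have hsum : ∑ i : ι t, (-1 : K) ^ ((2 * (dim X.obj.left : ℤ) - t).natAbs * s.natAbs) *
              (T.tr X (T.pull φ (e t i : T.H X) * a) * (e t).repr ⟨b, hb⟩ i) =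
              (-1 : K) ^ ((2 * (dim X.obj.left : ℤ) - t).natAbs * s.natAbs) *
                T.tr X (T.pull φ b * a) := by
            rw [← Finset.mul_sum]
            congr 1
            conv_rhs => rw [hb', map_sum, Finset.sum_mul, map_sum]
            refine Finset.sum_congr rfl fun i _ => ?_
            rw [map_smul, smul_mul_assoc, map_smul, smul_eq_mul, mul_comm]
          rw [hsum]
          by_cases hst : s + t = 2 * (dim X.obj.left : ℤ)
          · have hc := T.gradedComm X t s (T.pull φ b) a (T.pull_mem φ t b hb) ha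
            rw [hc, map_smul, smul_eq_mul, ← mul_assoc, ← pow_add]
            have hs0 : 0 ≤ s := by omega
            lift s to ℕ using hs0
            have hev : Even ((2 * (dim X.obj.left : ℤ) - t).natAbs * (s : ℤ).natAbs +
                (t : ℤ).natAbs * (s : ℤ).natAbs) := by
              have h1 : (2 * (dim X.obj.left : ℤ) - t).natAbs = s := by omega
              have h2 : ((s : ℕ) : ℤ).natAbs = s := Int.natAbs_natCast s
              have h3 : ((t : ℕ) : ℤ).natAbs = t := Int.natAbs_natCast t
              rw [h1, h2, h3, ← add_mul]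
              have : s + t = 2 * dim X.obj.left := by exact_mod_cast hst
              rw [this]
              exact (even_two_mul _).mul_right _
            rw [hev.neg_one_pow, one_mul]
          · rw [tr_mul_eq_zero T ha (T.pull_mem φ t b hb) hst,
              tr_mul_eq_zero T (T.pull_mem φ t b hb) ha (by omega), mul_zero]
        · intro r _ hr
          refine Finset.sum_eq_zero fun i _ => ?_
          rw [tr_mul_eq_zero T (f r i).2 hb (by omega), mul_zero, mul_zero]
        · intro hnot
          exact absurd (Finset.mem_range.2 (by omega)) hnot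
    | zero => simp
    | add c c' h h' => rw [mul_add, map_add, mul_add, map_add, h, h']
  exact eq_of_tr_mul T hΓ hR fun c _ => key c

end Groth.Agent.S15451
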