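import Groth.Statements.S15450
-- import your own Groth.Agent.* helpers here
import Groth.Agent.S15451

set_option autoImplicit false
universe u v
open CategoryTheory AlgebraicGeometry
open WeilCoh

namespace Groth.Agent.S15450
open Groth.Agent.Lib.Helper33.WeilGraph Groth.Agent.Lib.Helper33.WeilLib
  Groth.Agent.Lib.Helper33.WeilKun WeilCoh

section
variable {k : Type u} [Field k] [IsAlgClosed k] {K : Type v} [Field K] [CharZero K]
    (T : WeilCoh.Theory k K) (X : WeilCoh.Var k)

/-- index types of bases of the cohomology groups -/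
abbrev II (r : ℕ) : Type := Fin (Module.finrank K ↥(T.gr X (r : ℤ)))

/-- chosen bases -/
noncomputable def ee (r : ℕ) : Module.Basis (II T X r) K ↥(T.gr X (r : ℤ)) :=
  Module.finBasis K ↥(T.gr X (r : ℤ))

/-- dual families for Poincaré duality -/
noncomputable def ff (r : ℕ) (l : II T X r) : ↥(T.gr X (2 * (WeilCoh.dim X.obj.left : ℤ) - r)) :=
  haveI := T.duality X (2 * (WeilCoh.dim X.obj.left : ℤ) - r) r (by ring)
  (pairing K (T.gr X (2 * (WeilCoh.dim X.obj.left : ℤ) - r)) (T.gr X (r : ℤ)) (T.tr X)).toPerfPair.symm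
    ((ee T X r).coord l)

theorem ff_spec (r : ℕ) (i l : II T X r) :
    T.tr X ((ff T X r l : T.H X) * (ee T X r i : T.H X)) = if i = l then 1 else 0 := by
  haveI := T.duality X (2 * (WeilCoh.dim X.obj.left : ℤ) - r) r (by ring)
  have h := LinearMap.apply_symm_toPerfPair_self
    (pairing K (T.gr X (2 * (WeilCoh.dim X.obj.left : ℤ) - r)) (T.gr X (r : ℤ)) (T.tr X))
    ((ee T X r).coord l)
  have h2 := LinearMap.congr_fun h (ee T X r i)
  have h3 : T.tr X ((ff T X r l : T.H X) * (ee T X r i : T.H X)) = (ee T X r).coord l (ee T X r i) := h2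
  rw [h3, Module.Basis.coord_apply, Module.Basis.repr_self, Finsupp.single_apply]

theorem neg_one_pow_mul_sub (r n : ℕ) (h : r ≤ 2 * n) : (-1 : K) ^ (r * (2 * n - r)) = (-1 : K) ^ r := by
  rcases Nat.even_or_odd r with hr | hr
  · rw [hr.neg_one_pow, (hr.mul_right _).neg_one_pow]
  · have h2 : Odd (2 * n - r) := Nat.Even.sub_odd h (even_two_mul n) hr
    rw [hr.neg_one_pow, (hr.mul h2).neg_one_pow]

/-- the degree `r` contribution to the Lefschetz number -/
theorem sum_tr_eq (φ : X ⟶ X) (r : ℕ) (hr : r ≤ 2 * WeilCoh.dim X.obj.left) :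
    ∑ i : II T X r, T.tr X (T.pull φ (ee T X r i : T.H X) * (ff T X r i : T.H X)) =
      (-1 : K) ^ r * LinearMap.trace K ↥(T.gr X (r : ℤ)) (T.pullDeg φ (r : ℤ)) := by
  rw [LinearMap.trace_eq_matrix_trace K (ee T X r), Matrix.trace, Finset.mul_sum]
  refine Finset.sum_congr rfl fun i _ => ?_
  rw [Matrix.diag_apply, LinearMap.toMatrix_apply]
  have hc := T.gradedComm X r (2 * (WeilCoh.dim X.obj.left : ℤ) - r) (T.pull φ (ee T X r i : T.H X))
    (ff T X r i : T.H X) (T.pull_mem φ r _ (ee T X r i).2) (ff T X r i).2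
  rw [hc, map_smul, smul_eq_mul]
  have hco := Groth.Agent.S15451.tr_dual_coord T X (ee T X r) (ff T X r) (ff_spec T X r)
    (T.pullDeg φ (r : ℤ) (ee T X r i)) i
  have hco' : T.tr X ((ff T X r i : T.H X) * T.pull φ (ee T X r i : T.H X)) =
      (ee T X r).repr (T.pullDeg φ (r : ℤ) (ee T X r i)) i := hco
  rw [hco']
  congr 1
  have h1 : ((r : ℕ) : ℤ).natAbs = r := Int.natAbs_natCast r
  have h2 : (2 * (WeilCoh.dim X.obj.left : ℤ) - r).natAbs = 2 * WeilCoh.dim X.obj.left - r := by omega
  rw [h1, h2]
  exact neg_one_pow_mul_sub r _ hr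

end


/-- Let H^* be a Weil cohomology theory (coefficients in K of characteristic zero, on nonsingular
connected projective varieties over an algebraically closed field k), φ an endomorphism of such a
variety X, and Γ_φ, Δ ⊂ X × X the graph of φ and the diagonal. Then (Γ_φ · Δ) = Σ_{i=0}^{2 dim X}
(−1)^i trace(φ^* | H^i(X)). The intersection number is written in the form Tr_{X×X}(cl(Γ_φ) ∪ cl(Δ))
that the argument establishes (it equals the Chow-ring intersection number once the cycle class map
is known to be a ring homomorphism compatible with degrees); X × X is any object P with a cartesian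
square p, q : P → X over Spec k, Γ_φ and Δ are the closures of the images of the generic point of X
under the sections j = (id, φ) and d = (id, id) of p. -/
theorem result (k : Type u) [Field k] [IsAlgClosed k] (K : Type v) [Field K] [CharZero K]
    (T : WeilCoh.Theory k K)
    (X P : WeilCoh.Var k) [IrreducibleSpace ↥X.obj.left] (φ : X ⟶ X)
    (p q : P ⟶ X) (hP : WeilCoh.IsProd p q) (j d : X ⟶ P)
    (hjp : j ≫ p = 𝟙 X) (hjq : j ≫ q = φ) (hdp : d ≫ p = 𝟙 X) (hdq : d ≫ q = 𝟙 X) :
    T.tr P (T.cl P (WeilCoh.sm j (genericPoint ↥X.obj.left)) * T.cl P (WeilCoh.sm d (genericPoint ↥X.obj.left))) =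
      ∑ i ∈ Finset.range (2 * WeilCoh.dim X.obj.left + 1),
        (-1 : K) ^ i * LinearMap.trace K ↥(T.gr X (i : ℤ)) (T.pullDeg φ (i : ℤ)) := by
  have hdim := dim_prod T p q hP
  have hcodj := codim_section T p q hP j hjp
  have hcodd := codim_section T p q hP d hdp
  have hcod' : (codim P.obj.left (sm d (genericPoint X.obj.left)) : ℤ) =
      dim P.obj.left - dim X.obj.left := by rw [hcodd, hdim]; ring
  -- commute the two classes
  have hc := T.gradedComm P _ _ _ _ (T.cl_mem P (sm j (genericPoint X.obj.left)))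
    (T.cl_mem P (sm d (genericPoint X.obj.left)))
  rw [hcodj, hcodd] at hc
  have hev : Even ((2 * (dim X.obj.left : ℤ)).natAbs * (2 * (dim X.obj.left : ℤ)).natAbs) := by
    have : (2 * (dim X.obj.left : ℤ)).natAbs = 2 * dim X.obj.left := by omega
    rw [this]
    exact (even_two_mul _).mul_right _
  rw [hev.neg_one_pow, one_smul] at hc
  rw [hc, tr_cl_section_mul T p d hdp hcod']
  -- decompose the class of the graph
  have hS := Groth.Agent.S15451.result k K T X P φ p q hP j hjp hjq (fun r => II T X r) (ee T X)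
    (ff T X) (fun r _ i l => ff_spec T X r i l)
  rw [hS, map_sum, map_sum]
  refine Finset.sum_congr rfl fun r hr => ?_
  have hr' : r ≤ 2 * dim X.obj.left := by
    have := Finset.mem_range.1 hr
    omega
  rw [← sum_tr_eq T X φ r hr', map_sum, map_sum]
  refine Finset.sum_congr rfl fun i _ => ?_
  have e1 : ∀ b : T.H X, T.pull d (T.pull q b) = b := by
    intro b
    have := T.pull_comp d q
    rw [hdq, T.pull_id] at this
    exact (congrArg (fun g : T.H X →ₐ[K] T.H X => g b) this).symm
  have e2 : ∀ a : T.H X, T.pull d (T.pull p a) = a := by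
    intro a
    have := T.pull_comp d p
    rw [hdp, T.pull_id] at this
    exact (congrArg (fun g : T.H X →ₐ[K] T.H X => g a) this).symm
  rw [map_mul, e1, e2]

end Groth.Agent.S15450
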