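import Groth.Statements.S15452
-- import your own Groth.Agent.* helpers here
import Groth.Agent.Lib.Helper33.WeilZeta
import Groth.Agent.Lib.Helper33.DetSeries
import Groth.Agent.Lib.Helper33.WeilCorr

set_option autoImplicit false
universe u v
open CategoryTheory AlgebraicGeometry
open WeilCoh

namespace Groth.Agent.S15452

open WeilCoh Groth.Agent.Lib.Helper33.WeilLib Groth.Agent.Lib.Helper33.WeilGraph
  Groth.Agent.Lib.Helper33.WeilFrobFix Groth.Agent.Lib.Helper33.WeilZeta
  Groth.Agent.Lib.Helper33.WeilCorr Groth.Agent.Lib.Helper33.DetSeries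

section PS

/-- alternating sums split into even and odd parts -/
theorem alt_sum_split' {K : Type*} [CommRing K] (a : ℕ → K) (n : ℕ) :
    ∑ i ∈ Finset.range (2 * n + 1), (-1 : K) ^ i * a i =
      ∑ i ∈ Finset.range (n + 1), a (2 * i) - ∑ i ∈ Finset.range n, a (2 * i + 1) := by
  induction n with
  | zero => simp
  | succ n ih =>
    have h1 : (-1 : K) ^ (2 * n + 1) = -1 := by rw [pow_succ, pow_mul]; simp
    have h2 : (-1 : K) ^ (2 * n + 1 + 1) = 1 := by rw [pow_succ, h1]; simp
    have e1 : ∑ i ∈ Finset.range (2 * (n + 1) + 1), (-1 : K) ^ i * a i =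
        ∑ i ∈ Finset.range (2 * n + 1), (-1 : K) ^ i * a i - a (2 * n + 1) + a (2 * n + 2) := by
      rw [show 2 * (n + 1) + 1 = (2 * n + 1) + 1 + 1 by ring, Finset.sum_range_succ,
        Finset.sum_range_succ, h1, h2]
      ring
    have e2 : ∑ i ∈ Finset.range (n + 1 + 1), a (2 * i) =
        ∑ i ∈ Finset.range (n + 1), a (2 * i) + a (2 * n + 2) := by
      rw [Finset.sum_range_succ, show 2 * (n + 1) = 2 * n + 2 by ring]
    have e3 : ∑ i ∈ Finset.range (n + 1), a (2 * i + 1) =
        ∑ i ∈ Finset.range n, a (2 * i + 1) + a (2 * n + 1) := by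
      rw [Finset.sum_range_succ]
    rw [e1, e2, e3, ih]
    ring

theorem derivative_map {K : Type*} [Field K] [CharZero K] (y : PowerSeries ℚ) :
    PowerSeries.derivative K (PowerSeries.map (algebraMap ℚ K) y) =
      PowerSeries.map (algebraMap ℚ K) (PowerSeries.derivative ℚ y) := by
  ext m
  rw [PowerSeries.coeff_derivative, PowerSeries.coeff_map, PowerSeries.coeff_map,
    PowerSeries.coeff_derivative, map_mul, map_add, map_one, map_natCast]

theorem constantCoeff_reverse_charpoly {K V : Type*} [Field K] [AddCommGroup V] [Module K V]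
    [FiniteDimensional K V] (φ : V →ₗ[K] V) :
    PowerSeries.constantCoeff ((φ.charpoly.reverse : Polynomial K) : PowerSeries K) = 1 := by
  rw [← PowerSeries.coeff_zero_eq_constantCoeff_apply, Polynomial.coeff_coe,
    Polynomial.coeff_zero_reverse, (LinearMap.charpoly_monic φ).leadingCoeff]

/-- abstract form of the cohomological expression of the zeta function -/
theorem zeta_abstract {K : Type*} [Field K] [CharZero K] (n : ℕ) (N : ℕ → ℕ)
    (V : ℕ → Type*) [∀ j, AddCommGroup (V j)] [∀ j, Module K (V j)]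
    [∀ j, FiniteDimensional K (V j)] (φ : ∀ j, V j →ₗ[K] V j)
    (h : ∀ m : ℕ, ∑ j ∈ Finset.range (2 * n + 1),
      (-1 : K) ^ j * LinearMap.trace K _ ((φ j) ^ (m + 1)) = (N (m + 1) : K)) :
    PowerSeries.map (algebraMap ℚ K)
        (PowerSeries.subst (PowerSeries.mk fun m => (N m : ℚ) / m) (PowerSeries.exp ℚ)) *
        (∏ i ∈ Finset.range (n + 1),
          (((φ (2 * i)).charpoly.reverse : Polynomial K) : PowerSeries K)) =
      ∏ i ∈ Finset.range n,
        (((φ (2 * i + 1)).charpoly.reverse : Polynomial K) : PowerSeries K) := by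
  set L : PowerSeries ℚ := PowerSeries.mk fun m => (N m : ℚ) / m with hL
  have hL0 : PowerSeries.constantCoeff L = 0 := by
    rw [← PowerSeries.coeff_zero_eq_constantCoeff_apply, hL, PowerSeries.coeff_mk]
    simp
  obtain ⟨hZ', hZ0⟩ := derivative_exp_subst L hL0
  set Z := PowerSeries.subst L (PowerSeries.exp ℚ) with hZ
  set Tr : ℕ → PowerSeries K := fun j =>
    PowerSeries.mk fun m => LinearMap.trace K (V j) ((φ j) ^ (m + 1)) with hTr
  set E : PowerSeries K := ∑ i ∈ Finset.range (n + 1), Tr (2 * i) with hE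
  set O : PowerSeries K := ∑ i ∈ Finset.range n, Tr (2 * i + 1) with hO
  -- derivative of `L`
  have hL' : PowerSeries.map (algebraMap ℚ K) (PowerSeries.derivative ℚ L) = E - O := by
    ext m
    rw [PowerSeries.coeff_map, PowerSeries.coeff_derivative, hL, PowerSeries.coeff_mk, map_sub,
      hE, hO, map_sum, map_sum]
    simp only [hTr, PowerSeries.coeff_mk]
    rw [← alt_sum_split' (fun j => LinearMap.trace K (V j) ((φ j) ^ (m + 1))) n, h m]
    have hne : ((m : ℚ) + 1) ≠ 0 := Nat.cast_add_one_ne_zero m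
    rw [Nat.cast_add, Nat.cast_one, div_mul_cancel₀ _ hne, map_natCast]
  have hV' := derivative_prod_of_log (Finset.range (n + 1))
    (fun i => (((φ (2 * i)).charpoly.reverse : Polynomial K) : PowerSeries K))
    (fun i => -Tr (2 * i)) (fun i _ => derivative_reverse_charpoly (φ (2 * i)))
  have hW' := derivative_prod_of_log (Finset.range n)
    (fun i => (((φ (2 * i + 1)).charpoly.reverse : Polynomial K) : PowerSeries K))
    (fun i => -Tr (2 * i + 1)) (fun i _ => derivative_reverse_charpoly (φ (2 * i + 1)))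
  rw [Finset.sum_neg_distrib] at hV' hW'
  apply eq_of_derivative_eq_mul (-O)
  · rw [Derivation.leibniz, hV', derivative_map, hZ', map_mul, hL']
    simp only [smul_eq_mul]
    ring
  · exact hW'
  · rw [map_mul, map_prod, map_prod]
    rw [Finset.prod_congr rfl (fun i _ => constantCoeff_reverse_charpoly (φ (2 * i))),
      Finset.prod_congr rfl (fun i _ => constantCoeff_reverse_charpoly (φ (2 * i + 1)))]
    rw [Finset.prod_const_one, Finset.prod_const_one, mul_one,
      ← PowerSeries.coeff_zero_eq_constantCoeff_apply, PowerSeries.coeff_map,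
      PowerSeries.coeff_zero_eq_constantCoeff_apply, hZ0, map_one]

end PS

section Trace
variable {k₀ k : Type u} [Field k₀] [Finite k₀] [Field k] [IsAlgClosed k] [Algebra k₀ k]
  {K : Type v} [Field K] [CharZero K] (T : WeilCoh.Theory k K)

theorem pullDeg_iter {Xb : Var k} (F : Xb ⟶ Xb) (j : ℤ) (m : ℕ) :
    T.pullDeg (iter F m) j = (T.pullDeg F j) ^ m := by
  induction m with
  | zero =>
    apply LinearMap.ext; intro a; apply Subtype.ext
    show T.pull (𝟙 Xb) a.1 = a.1
    rw [T.pull_id]; rfl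
  | succ m ih =>
    rw [pow_succ, ← ih]
    apply LinearMap.ext; intro a; apply Subtype.ext
    show T.pull (iter F m ≫ F) a.1 = T.pull (iter F m) (T.pull F a.1)
    rw [T.pull_comp]; rfl

theorem sm_iter {X : Scheme.{u}} {Xb : Var k} (π : Xb.obj.left ⟶ X) (FX : X ⟶ X) (F : Xb ⟶ Xb)
    (hF : WeilCoh.sm F ≫ π = π ≫ FX) (m : ℕ) :
    WeilCoh.sm (iter F m) ≫ π = π ≫ iter FX m := by
  induction m with
  | zero =>
    show WeilCoh.sm (𝟙 Xb) ≫ π = π ≫ 𝟙 X
    rw [sm_id, Category.id_comp, Category.comp_id]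
  | succ m ih =>
    show WeilCoh.sm (iter F m ≫ F) ≫ π = π ≫ (iter FX m ≫ FX)
    rw [sm_comp, Category.assoc, hF, ← Category.assoc, ih, Category.assoc]

theorem trace_pow_eq_nPts {X : Scheme.{u}} (f : X ⟶ Spec (CommRingCat.of k₀))
    [LocallyOfFiniteType f]
    (FX : X ⟶ X) (hle : ∀ U : X.Opens, U ≤ FX ⁻¹ᵁ U)
    (hFapp : ∀ (U : X.Opens) (s : Γ(X, U)), (FX.appLE U U (hle U)).hom s = s ^ Nat.card k₀)
    (Xb : WeilCoh.Var k) (π : Xb.obj.left ⟶ X)
    (hπ : IsPullback π Xb.obj.hom f (Spec.map (CommRingCat.ofHom (algebraMap k₀ k))))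
    (F : Xb ⟶ Xb) (hF : WeilCoh.sm F ≫ π = π ≫ FX)
    (Pb : WeilCoh.Var k) (p q : Pb ⟶ Xb) (hP : WeilCoh.IsProd p q) (m : ℕ) :
    ∑ j ∈ Finset.range (2 * dim Xb.obj.left + 1),
      (-1 : K) ^ j * LinearMap.trace K _ ((T.pullDeg F (j : ℤ)) ^ (m + 1)) =
      (Zeta.nPts f (m + 1) : K) := by
  have h := trace_eq_nPts f (m + 1) (iter FX (m + 1)) (iter_le FX hle (m + 1))
    (iter_appLE FX hle (Nat.card k₀) hFapp (m + 1)) Xb π hπ (iter F (m + 1))
    (sm_iter π FX F hF (m + 1)) Pb p q (prodLift p q hP (𝟙 Xb) (𝟙 Xb))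
    (prodLift p q hP (iter F (m + 1)) (𝟙 Xb)) (prodLift_fst _ _ _ _ _) (prodLift_snd _ _ _ _ _)
    (prodLift_fst _ _ _ _ _) (prodLift_snd _ _ _ _ _) hP T (Nat.succ_ne_zero m)
  simp only [pullDeg_iter] at h
  exact h

end Trace


/-- Let k₀ be a finite field with q elements, k an algebraically closed field containing k₀, H^* a Weil
cohomology theory, with coefficient field K of characteristic zero, on nonsingular connected
projective varieties over k, X a scheme of finite type over k₀ whose base change X̄ = X ×_{k₀} k is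
such a variety (as it is when X is nonsingular, projective and geometrically connected), and F =
Frob_{X,q} × id the k-endomorphism of X̄ induced by the q-Frobenius of X; let n = dim X̄ and P_i(t)
= det(Id − t F^* | H^i(X̄)). Then Z(X, t) = P_1(t) P_3(t) ⋯ P_{2n−1}(t) / (P_0(t) P_2(t) ⋯
P_{2n}(t)); stated multiplied out in K⟦t⟧, with Z(X, t) = exp(Σ_m N_m t^m / m) ∈ ℚ⟦t⟧ mapped to K⟦t⟧
and P_i the reverse of the characteristic polynomial of F^* on H^i(X̄). The q-Frobenius of X is
pinned as the endomorphism that is the identity on points and the q-th power on sections, X̄ as a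
cartesian square over Spec k → Spec k₀, and F by its compatibility with the projection to X; the
product X̄ ×_k X̄, on which the proof applies the trace formula to the graphs of the powers of F, is
given as any object of the category with a cartesian square p, q to X̄ over Spec k. (The published
statement takes k to be an algebraic closure of the prime field; this row allows any algebraically
closed field containing k₀.) -/
theorem result (k₀ : Type u) [Field k₀] [Finite k₀] (k : Type u) [Field k] [IsAlgClosed k] [Algebra k₀ k]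
    (K : Type v) [Field K] [CharZero K] (T : WeilCoh.Theory k K)
    {X : Scheme.{u}} (f : X ⟶ Spec (CommRingCat.of k₀)) [LocallyOfFiniteType f] [QuasiCompact f]
    (FX : X ⟶ X) (hFb : FX.base = 𝟙 _) (hle : ∀ U : X.Opens, U ≤ FX ⁻¹ᵁ U)
    (hFapp : ∀ (U : X.Opens) (s : Γ(X, U)), (FX.appLE U U (hle U)).hom s = s ^ Nat.card k₀)
    (Xb : WeilCoh.Var k) (π : Xb.obj.left ⟶ X)
    (hπ : IsPullback π Xb.obj.hom f (Spec.map (CommRingCat.ofHom (algebraMap k₀ k))))
    (F : Xb ⟶ Xb) (hF : WeilCoh.sm F ≫ π = π ≫ FX)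
    (Pb : WeilCoh.Var k) (p q : Pb ⟶ Xb) (hP : WeilCoh.IsProd p q) :
    PowerSeries.map (algebraMap ℚ K) (Zeta.zetaFun f) *
        (∏ i ∈ Finset.range (WeilCoh.dim Xb.obj.left + 1),
          ((LinearMap.charpoly (T.pullDeg F ((2 * i : ℕ) : ℤ))).reverse : PowerSeries K)) =
      ∏ i ∈ Finset.range (WeilCoh.dim Xb.obj.left),
        ((LinearMap.charpoly (T.pullDeg F ((2 * i + 1 : ℕ) : ℤ))).reverse : PowerSeries K) := by
  exact zeta_abstract (WeilCoh.dim Xb.obj.left) (Zeta.nPts f)
    (fun j => T.gr Xb ((j : ℕ) : ℤ)) (fun j => T.pullDeg F ((j : ℕ) : ℤ))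
    (trace_pow_eq_nPts T f FX hle hFapp Xb π hπ F hF Pb p q hP)

end Groth.Agent.S15452
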