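import Groth.Statements.S15453
-- import your own Groth.Agent.* helpers here
import Groth.Agent.S15452

set_option autoImplicit false
universe u v
open CategoryTheory AlgebraicGeometry
open WeilCoh

namespace Groth.Agent.S15453

/-- descent of rationality of a power series from `K` to `ℚ` -/
theorem rational_descent {K : Type*} [Field K] [CharZero K] (Z : PowerSeries ℚ)
    (V W : Polynomial K) (hV : V ≠ 0)
    (h : PowerSeries.map (algebraMap ℚ K) Z * (V : PowerSeries K) = (W : PowerSeries K)) :
    ∃ P Q : Polynomial ℚ, Q ≠ 0 ∧ Z * (Q : PowerSeries ℚ) = (P : PowerSeries ℚ) := by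
  classical
  -- a ℚ-linear functional not vanishing on some coefficient of `V`
  obtain ⟨j, hj⟩ : ∃ j, V.coeff j ≠ 0 := by
    by_contra hcon
    push Not at hcon
    exact hV (Polynomial.ext fun j => by rw [hcon j, Polynomial.coeff_zero])
  set b := Module.Basis.ofVectorSpace ℚ K with hb
  obtain ⟨i, hi⟩ : ∃ i, b.repr (V.coeff j) i ≠ 0 := by
    by_contra hcon
    push Not at hcon
    apply hj
    apply b.repr.injective
    rw [map_zero]
    ext i
    exact hcon i
  set φ : K →ₗ[ℚ] ℚ := b.coord i with hφ
  have hφj : φ (V.coeff j) ≠ 0 := hi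
  -- the polynomials
  set Q : Polynomial ℚ := ∑ n ∈ Finset.range (V.natDegree + 1), Polynomial.monomial n (φ (V.coeff n))
    with hQ
  set P : Polynomial ℚ := ∑ n ∈ Finset.range (W.natDegree + 1), Polynomial.monomial n (φ (W.coeff n))
    with hP
  have hQc : ∀ n, Q.coeff n = φ (V.coeff n) := by
    intro n
    rw [hQ, Polynomial.finsetSum_coeff]
    simp only [Polynomial.coeff_monomial]
    rw [Finset.sum_ite_eq' (Finset.range (V.natDegree + 1)) n]
    split_ifs with hn
    · rfl
    · rw [Finset.mem_range, not_lt] at hn
      rw [Polynomial.coeff_eq_zero_of_natDegree_lt (by omega), map_zero]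
  have hPc : ∀ n, P.coeff n = φ (W.coeff n) := by
    intro n
    rw [hP, Polynomial.finsetSum_coeff]
    simp only [Polynomial.coeff_monomial]
    rw [Finset.sum_ite_eq' (Finset.range (W.natDegree + 1)) n]
    split_ifs with hn
    · rfl
    · rw [Finset.mem_range, not_lt] at hn
      rw [Polynomial.coeff_eq_zero_of_natDegree_lt (by omega), map_zero]
  refine ⟨P, Q, ?_, ?_⟩
  · intro hQ0
    apply hφj
    rw [← hQc, hQ0, Polynomial.coeff_zero]
  · ext n
    have hn : φ (PowerSeries.coeff n (PowerSeries.map (algebraMap ℚ K) Z * (V : PowerSeries K))) =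
        φ (PowerSeries.coeff n (W : PowerSeries K)) := congrArg (fun y => φ (PowerSeries.coeff n y)) h
    rw [Polynomial.coeff_coe] at hn
    rw [Polynomial.coeff_coe, hPc, ← hn, PowerSeries.coeff_mul, PowerSeries.coeff_mul, map_sum]
    refine Finset.sum_congr rfl fun x _ => ?_
    rw [Polynomial.coeff_coe, Polynomial.coeff_coe, hQc, PowerSeries.coeff_map,
      ← Algebra.smul_def', map_smul, smul_eq_mul]


/-- Let k₀ be a finite field with q elements, k an algebraically closed field containing k₀, H^* a Weil
cohomology theory, with coefficient field K of characteristic zero, on nonsingular connected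
projective varieties over k, X a scheme of finite type over k₀ whose base change X̄ = X ×_{k₀} k is
such a variety (as it is when X is nonsingular, projective and geometrically connected), and F =
Frob_{X,q} × id the k-endomorphism of X̄ induced by the q-Frobenius of X. Then Z(X, t) ∈ ℚ(t): there
are polynomials P, Q ∈ ℚ[t], Q ≠ 0, with Z(X, t) · Q(t) = P(t) in ℚ⟦t⟧. (The existence of the Weil
cohomology theory is the hypothesis; F and the product square enter only to fix the setting of the
cohomological proof.) The q-Frobenius of X is pinned as the endomorphism that is the identity on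
points and the q-th power on sections, X̄ as a cartesian square over Spec k → Spec k₀, and F by its
compatibility with the projection to X; the product X̄ ×_k X̄, on which the proof applies the trace
formula, is given as any object of the category with a cartesian square p, q to X̄ over Spec k. (The
published statement takes k to be an algebraic closure of the prime field; this row allows any
algebraically closed field containing k₀.) -/
theorem result (k₀ : Type u) [Field k₀] [Finite k₀] (k : Type u) [Field k] [IsAlgClosed k] [Algebra k₀ k]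
    (K : Type v) [Field K] [CharZero K] (T : WeilCoh.Theory k K)
    {X : Scheme.{u}} (f : X ⟶ Spec (CommRingCat.of k₀)) [LocallyOfFiniteType f] [QuasiCompact f]
    (FX : X ⟶ X) (hFb : FX.base = 𝟙 _) (hle : ∀ U : X.Opens, U ≤ FX ⁻¹ᵁ U)
    (hFapp : ∀ (U : X.Opens) (s : Γ(X, U)), (FX.appLE U U (hle U)).hom s = s ^ Nat.card k₀)
    (Xb : WeilCoh.Var k) (π : Xb.obj.left ⟶ X)
    (hπ : IsPullback π Xb.obj.hom f (Spec.map (CommRingCat.ofHom (algebraMap k₀ k))))
    (F : Xb ⟶ Xb) (hF : WeilCoh.sm F ≫ π = π ≫ FX)
    (Pb : WeilCoh.Var k) (p q : Pb ⟶ Xb) (hP : WeilCoh.IsProd p q) :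
    ∃ P Q : Polynomial ℚ, Q ≠ 0 ∧ Zeta.zetaFun f * (Q : PowerSeries ℚ) = (P : PowerSeries ℚ) := by
  have h := Groth.Agent.S15452.result k₀ k K T f FX hFb hle hFapp Xb π hπ F hF Pb p q hP
  have hc : ∀ (s : Finset ℕ) (g : ℕ → Polynomial K),
      ∏ i ∈ s, ((g i : Polynomial K) : PowerSeries K) = ((∏ i ∈ s, g i : Polynomial K) : PowerSeries K) :=
    fun s g => (map_prod (Polynomial.coeToPowerSeries.ringHom (R := K)) g s).symm
  rw [hc, hc] at h
  refine rational_descent _ _ _ ?_ h
  rw [Finset.prod_ne_zero_iff]
  intro i _ h0
  have := Polynomial.reverse_eq_zero.1 h0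
  exact (LinearMap.charpoly_monic _).ne_zero this

end Groth.Agent.S15453
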