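import Groth.Statements.S15454
-- import your own Groth.Agent.* helpers here
import Groth.Agent.Lib.Helper33.WeilFrob

set_option autoImplicit false
universe u v
open CategoryTheory AlgebraicGeometry
open WeilCoh

namespace Groth.Agent.S15454
open WeilCoh Groth.Agent.Lib.Helper33.WeilLib Groth.Agent.Lib.Helper33.WeilFrob

/-- if two endomorphisms are adjoint up to the scalar `lam` for a perfect pairing, the product of
their determinants is `lam ^ dim` -/
theorem det_mul_det_of_pairing {K : Type v} [Field K] {V W : Type*} [AddCommGroup V] [Module K V]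
    [AddCommGroup W] [Module K W] [Module.Finite K V] [Module.Finite K W]
    (B : V →ₗ[K] W →ₗ[K] K) [B.IsPerfPair] (φ : V →ₗ[K] V) (ψ : W →ₗ[K] W) (lam : K)
    (h : ∀ v w, B (φ v) (ψ w) = lam * B v w) :
    LinearMap.det ψ * LinearMap.det φ = lam ^ Module.finrank K V := by
  let e : V ≃ₗ[K] Module.Dual K W := B.toPerfPair
  have hcomp : ψ.dualMap ∘ₗ ((e : V →ₗ[K] Module.Dual K W) ∘ₗ φ ∘ₗ (e.symm : Module.Dual K W →ₗ[K] V)) =
      lam • LinearMap.id := by
    apply LinearMap.ext
    intro g
    apply LinearMap.ext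
    intro w
    obtain ⟨v, rfl⟩ := e.surjective g
    simp only [LinearMap.coe_comp, LinearEquiv.coe_coe, Function.comp_apply,
      LinearEquiv.symm_apply_apply, LinearMap.dualMap_apply, LinearMap.smul_apply,
      LinearMap.id_coe, id_eq, smul_eq_mul]
    exact h v w
  have hdet := congrArg LinearMap.det hcomp
  rw [LinearMap.det_comp, LinearMap.det_dualMap, LinearMap.det_conj, LinearMap.det_smul,
    LinearMap.det_id, mul_one, Subspace.dual_finrank_eq] at hdet
  rw [hdet, Module.finrank_of_isPerfPair B]


/-- Let k₀ be a finite field with q elements, k an algebraically closed field containing k₀, H^* a Weil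
cohomology theory, with coefficient field K of characteristic zero, on nonsingular connected
projective varieties over k, X a scheme of finite type over k₀ whose base change X̄ = X ×_{k₀} k is
such a variety (as it is when X is nonsingular, projective and geometrically connected), and F =
Frob_{X,q} × id the k-endomorphism of X̄ induced by the q-Frobenius of X; let n = dim X̄ and B_i =
dim_K H^i(X̄). Then det(F^* | H^{2n−i}(X̄)) = q^{n B_i} / det(F^* | H^i(X̄)), stated as det(F^* |
H^{2n−i}(X̄)) · det(F^* | H^i(X̄)) = q^{n B_i}, for every integer i (both sides are 1 outside 0 ≤ i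
≤ 2n). The q-Frobenius of X is pinned as the endomorphism that is the identity on points and the
q-th power on sections, X̄ as a cartesian square over Spec k → Spec k₀, and F by its compatibility
with the projection to X. -/
theorem result (k₀ : Type u) [Field k₀] [Finite k₀] (k : Type u) [Field k] [IsAlgClosed k] [Algebra k₀ k]
    (K : Type v) [Field K] [CharZero K] (T : WeilCoh.Theory k K)
    {X : Scheme.{u}} (f : X ⟶ Spec (CommRingCat.of k₀)) [LocallyOfFiniteType f] [QuasiCompact f]
    (FX : X ⟶ X) (hFb : FX.base = 𝟙 _) (hle : ∀ U : X.Opens, U ≤ FX ⁻¹ᵁ U)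
    (hFapp : ∀ (U : X.Opens) (s : Γ(X, U)), (FX.appLE U U (hle U)).hom s = s ^ Nat.card k₀)
    (Xb : WeilCoh.Var k) (π : Xb.obj.left ⟶ X)
    (hπ : IsPullback π Xb.obj.hom f (Spec.map (CommRingCat.ofHom (algebraMap k₀ k))))
    (F : Xb ⟶ Xb) (hF : WeilCoh.sm F ≫ π = π ≫ FX) (i : ℤ) :
    LinearMap.det (T.pullDeg F (2 * (WeilCoh.dim Xb.obj.left : ℤ) - i)) * LinearMap.det (T.pullDeg F i) =
      (Nat.card k₀ : K) ^ (WeilCoh.dim Xb.obj.left * Module.finrank K ↥(T.gr Xb i)) := by
  haveI := T.duality Xb i (2 * (WeilCoh.dim Xb.obj.left : ℤ) - i) (by ring)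
  rw [pow_mul]
  refine det_mul_det_of_pairing
    (pairing K (T.gr Xb i) (T.gr Xb (2 * (WeilCoh.dim Xb.obj.left : ℤ) - i)) (T.tr Xb))
    (T.pullDeg F i) (T.pullDeg F (2 * (WeilCoh.dim Xb.obj.left : ℤ) - i)) _ ?_
  intro v w
  show T.tr Xb (T.pull F (v : T.H Xb) * T.pull F (w : T.H Xb)) = _ * T.tr Xb ((v : T.H Xb) * (w : T.H Xb))
  rw [← map_mul, tr_pull_frobenius f FX hle hFapp Xb π hπ F hF T]

end Groth.Agent.S15454
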