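import Groth.Statements.S15456
-- import your own Groth.Agent.* helpers here
import Groth.Agent.S15454
import Groth.Agent.S15455
import Groth.Agent.Lib.Helper33.SkewEven
import Groth.Agent.Lib.Helper33.WeilLib

set_option autoImplicit false
universe u v
open CategoryTheory AlgebraicGeometry
open WeilCoh

namespace Groth.Agent.S15456
open WeilCoh Groth.Agent.Lib.Helper33.WeilLib Groth.Agent.Lib.Helper33.SkewEven

section
variable {k : Type u} [Field k] [IsAlgClosed k] {K : Type v} [Field K] [CharZero K]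
  (T : WeilCoh.Theory k K) {Xb : WeilCoh.Var k} (F : Xb ⟶ Xb)

theorem charpoly_congr {a b : ℤ} (h : a = b) :
    (T.pullDeg F a).charpoly = (T.pullDeg F b).charpoly := by subst h; rfl

theorem det_congr {a b : ℤ} (h : a = b) :
    LinearMap.det (T.pullDeg F a) = LinearMap.det (T.pullDeg F b) := by subst h; rfl

theorem finrank_congr {a b : ℤ} (h : a = b) :
    Module.finrank K ↥(T.gr Xb a) = Module.finrank K ↥(T.gr Xb b) := by subst h; rfl

/-- the middle cohomology in odd degree has even dimension -/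
theorem even_finrank_mid (n : ℕ) (hn : WeilCoh.dim Xb.obj.left = n) (hodd : Odd n) :
    Even (Module.finrank K ↥(T.gr Xb (n : ℤ))) := by
  haveI := T.duality Xb (n : ℤ) (n : ℤ) (by rw [hn]; ring)
  refine even_finrank_of_skew (pairing K (T.gr Xb (n : ℤ)) (T.gr Xb (n : ℤ)) (T.tr Xb)) ?_
  intro v w
  show T.tr Xb ((v : T.H Xb) * (w : T.H Xb)) = - T.tr Xb ((w : T.H Xb) * (v : T.H Xb))
  have hc := T.gradedComm Xb (n : ℤ) (n : ℤ) v w v.2 w.2
  rw [hc, Int.natAbs_natCast, (hodd.mul hodd).neg_one_pow, map_smul, smul_eq_mul, neg_one_mul]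

end

theorem zeta_fe_abstract {K : Type v} [Field K] (n : ℕ) (q : K) (hq : q ≠ 0)
    (Bf : ℕ → ℕ) (χ : ℕ → Polynomial K) (dt : ℕ → K)
    (hdeg : ∀ j, (χ j).natDegree = Bf j)
    (hBsymm : ∀ j ≤ 2 * n, Bf (2 * n - j) = Bf j)
    (hdet : ∀ j ≤ 2 * n, dt (2 * n - j) * dt j = (q ^ n) ^ Bf j)
    (hfe : ∀ j ≤ 2 * n, dt j • (χ (2 * n - j)).reverse =
      (-1 : Polynomial K) ^ Bf j * (χ j).comp (Polynomial.C (q ^ n) * Polynomial.X))
    (hmid : Odd n → Even (Bf n)) :
    ∃ ε : K, (ε = 1 ∨ ε = -1) ∧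
      Polynomial.aeval ((RatFunc.X : RatFunc K)⁻¹ * RatFunc.C (q ^ n)⁻¹)
          (∏ i ∈ Finset.range n, (χ (2 * i + 1)).reverse) /
        Polynomial.aeval ((RatFunc.X : RatFunc K)⁻¹ * RatFunc.C (q ^ n)⁻¹)
          (∏ i ∈ Finset.range (n + 1), (χ (2 * i)).reverse) =
      RatFunc.C ε * RatFunc.C q ^ ((n : ℤ) * (∑ i ∈ Finset.range (2 * n + 1), (-1 : ℤ) ^ i * (Bf i : ℤ)) / 2) *
        (RatFunc.X : RatFunc K) ^ (∑ i ∈ Finset.range (2 * n + 1), (-1 : ℤ) ^ i * (Bf i : ℤ)) *
        (algebraMap (Polynomial K) (RatFunc K) (∏ i ∈ Finset.range n, (χ (2 * i + 1)).reverse) /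
         algebraMap (Polynomial K) (RatFunc K) (∏ i ∈ Finset.range (n + 1), (χ (2 * i)).reverse)) := by
  classical
  have hlam0 : (q ^ n) ≠ 0 := pow_ne_zero _ hq
  have ht0 : (RatFunc.X : RatFunc K) ≠ 0 := RatFunc.X_ne_zero
  have hQ0 : (RatFunc.C q : RatFunc K) ≠ 0 := by
    rw [Ne, map_eq_zero]; exact hq
  obtain ⟨x, hx⟩ : ∃ x : RatFunc K, x = RatFunc.C (q ^ n) * RatFunc.X := ⟨_, rfl⟩
  have hx0 : x ≠ 0 := by
    rw [hx]; exact mul_ne_zero (by rw [Ne, map_eq_zero]; exact hlam0) ht0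
  obtain ⟨s, hs⟩ : ∃ s : RatFunc K, s = (RatFunc.X : RatFunc K)⁻¹ * RatFunc.C (q ^ n)⁻¹ := ⟨_, rfl⟩
  have hxs : s = x⁻¹ := by rw [hs, hx, mul_inv, map_inv₀, mul_comm]
  rw [← hs]
  obtain ⟨c, hc⟩ : ∃ c : ℕ → K, c = fun j => (-1) ^ Bf j * dt j := ⟨_, rfl⟩
  -- the key pointwise identity
  have hkey : ∀ j ≤ 2 * n, Polynomial.aeval s (χ j).reverse * x ^ Bf j =
      RatFunc.C (c j) * Polynomial.aeval (RatFunc.X : RatFunc K) (χ (2 * n - j)).reverse := by
    intro j hj
    letI : Invertible x := invertibleOfNonzero hx0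
    have h1 := Polynomial.eval₂_reverse_mul_pow (algebraMap K (RatFunc K)) x (χ j)
    rw [invOf_eq_inv, ← hxs, hdeg, ← Polynomial.aeval_def, ← Polynomial.aeval_def] at h1
    have h2 := congrArg (Polynomial.aeval (RatFunc.X : RatFunc K)) (hfe j hj)
    rw [map_smul, map_mul, map_pow, map_neg, map_one, Polynomial.aeval_comp, map_mul,
      Polynomial.aeval_C, Polynomial.aeval_X, RatFunc.algebraMap_eq_C, ← hx] at h2
    have hsq : ((-1 : RatFunc K) ^ Bf j) * ((-1) ^ Bf j) = 1 := by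
      rw [← mul_pow]; simp
    rw [h1, hc]
    simp only [map_mul, map_pow, map_neg, map_one]
    rw [Algebra.smul_def, RatFunc.algebraMap_eq_C] at h2
    rw [mul_assoc, h2, ← mul_assoc, hsq, one_mul]
  -- odd and even products
  have hN : Polynomial.aeval s (∏ i ∈ Finset.range n, (χ (2 * i + 1)).reverse) *
        x ^ (∑ i ∈ Finset.range n, Bf (2 * i + 1)) =
      RatFunc.C (∏ i ∈ Finset.range n, c (2 * i + 1)) *
        Polynomial.aeval (RatFunc.X : RatFunc K) (∏ i ∈ Finset.range n, (χ (2 * i + 1)).reverse) := by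
    rw [map_prod, ← Finset.prod_pow_eq_pow_sum, ← Finset.prod_mul_distrib, map_prod, map_prod,
      ← prod_reflect_odd (fun j => Polynomial.aeval (RatFunc.X : RatFunc K) (χ j).reverse) n,
      ← Finset.prod_mul_distrib]
    refine Finset.prod_congr rfl fun i hi => ?_
    rw [Finset.mem_range] at hi
    exact hkey (2 * i + 1) (by omega)
  have hD : Polynomial.aeval s (∏ i ∈ Finset.range (n + 1), (χ (2 * i)).reverse) *
        x ^ (∑ i ∈ Finset.range (n + 1), Bf (2 * i)) =
      RatFunc.C (∏ i ∈ Finset.range (n + 1), c (2 * i)) *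
        Polynomial.aeval (RatFunc.X : RatFunc K)
          (∏ i ∈ Finset.range (n + 1), (χ (2 * i)).reverse) := by
    rw [map_prod, ← Finset.prod_pow_eq_pow_sum, ← Finset.prod_mul_distrib, map_prod, map_prod,
      ← prod_reflect_even (fun j => Polynomial.aeval (RatFunc.X : RatFunc K) (χ j).reverse) n,
      ← Finset.prod_mul_distrib]
    refine Finset.prod_congr rfl fun i hi => ?_
    rw [Finset.mem_range] at hi
    exact hkey (2 * i) (by omega)
  -- squares of the constants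
  have hcc : ∀ j ≤ 2 * n, c (2 * n - j) * c j = (q ^ n) ^ Bf j := by
    intro j hj
    have hsq : ((-1 : K) ^ Bf j) * ((-1) ^ Bf j) = 1 := by
      rw [← mul_pow]; simp
    rw [hc]
    show (-1) ^ Bf (2 * n - j) * dt (2 * n - j) * ((-1) ^ Bf j * dt j) = _
    rw [hBsymm j hj]
    calc (-1 : K) ^ Bf j * dt (2 * n - j) * ((-1) ^ Bf j * dt j)
        = ((-1) ^ Bf j * (-1) ^ Bf j) * (dt (2 * n - j) * dt j) := by ring
      _ = _ := by rw [hsq, one_mul, hdet j hj]
  have hcO : (∏ i ∈ Finset.range n, c (2 * i + 1)) ^ 2 =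
      (q ^ n) ^ (∑ i ∈ Finset.range n, Bf (2 * i + 1)) := by
    rw [sq]
    conv_lhs => arg 1; rw [← prod_reflect_odd c n]
    rw [← Finset.prod_mul_distrib, ← Finset.prod_pow_eq_pow_sum]
    refine Finset.prod_congr rfl fun i hi => ?_
    rw [Finset.mem_range] at hi
    exact hcc (2 * i + 1) (by omega)
  have hcE : (∏ i ∈ Finset.range (n + 1), c (2 * i)) ^ 2 =
      (q ^ n) ^ (∑ i ∈ Finset.range (n + 1), Bf (2 * i)) := by
    rw [sq]
    conv_lhs => arg 1; rw [← prod_reflect_even c n]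
    rw [← Finset.prod_mul_distrib, ← Finset.prod_pow_eq_pow_sum]
    refine Finset.prod_congr rfl fun i hi => ?_
    rw [Finset.mem_range] at hi
    exact hcc (2 * i) (by omega)
  obtain ⟨BO, hBO⟩ : ∃ BO : ℕ, BO = ∑ i ∈ Finset.range n, Bf (2 * i + 1) := ⟨_, rfl⟩
  obtain ⟨BE, hBE⟩ : ∃ BE : ℕ, BE = ∑ i ∈ Finset.range (n + 1), Bf (2 * i) := ⟨_, rfl⟩
  obtain ⟨cO, hcO'⟩ : ∃ cO : K, cO = ∏ i ∈ Finset.range n, c (2 * i + 1) := ⟨_, rfl⟩
  obtain ⟨cE, hcE'⟩ : ∃ cE : K, cE = ∏ i ∈ Finset.range (n + 1), c (2 * i) := ⟨_, rfl⟩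
  rw [← hBO, ← hcO'] at hN hcO
  rw [← hBE, ← hcE'] at hD hcE
  -- Euler characteristic
  obtain ⟨E, hE'⟩ : ∃ E : ℤ, E = ∑ i ∈ Finset.range (2 * n + 1), (-1 : ℤ) ^ i * (Bf i : ℤ) :=
    ⟨_, rfl⟩
  have hE : E = (BE : ℤ) - (BO : ℤ) := by
    rw [hE', alt_sum_split (fun i => (Bf i : ℤ)) n, hBE, hBO]
    push_cast
    rfl
  rw [← hE']
  have hdvd : (2 : ℤ) ∣ (n : ℤ) * E := by
    rcases Nat.even_or_odd n with hn | hn
    · exact even_iff_two_dvd.1 (((Int.even_coe_nat n).2 hn).mul_right E)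
    · have hBEe : Even BE := by
        rw [hBE]
        refine even_sum_of_symm (fun i => Bf (2 * i)) (n + 1) ?_ ?_
        · intro i hi
          show Bf (2 * (n + 1 - 1 - i)) = Bf (2 * i)
          rw [← hBsymm (2 * i) (by omega)]
          congr 1
          omega
        · intro i hi heq
          exfalso
          rcases hn with ⟨m, hm⟩
          omega
      have hBOe : Even BO := by
        rw [hBO]
        refine even_sum_of_symm (fun i => Bf (2 * i + 1)) n ?_ ?_
        · intro i hi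
          show Bf (2 * (n - 1 - i) + 1) = Bf (2 * i + 1)
          rw [← hBsymm (2 * i + 1) (by omega)]
          congr 1
          omega
        · intro i hi heq
          show Even (Bf (2 * i + 1))
          have : 2 * i + 1 = n := by omega
          rw [this]
          exact hmid hn
      have hEe : Even E := by
        rw [hE]
        exact ((Int.even_coe_nat BE).2 hBEe).sub ((Int.even_coe_nat BO).2 hBOe)
      exact even_iff_two_dvd.1 (hEe.mul_left _)
  obtain ⟨h, hh⟩ : ∃ h : ℤ, h = (n : ℤ) * E / 2 := ⟨_, rfl⟩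
  have h2 : 2 * h = (n : ℤ) * E := by rw [hh]; exact Int.mul_ediv_cancel' hdvd
  rw [← hh]
  -- the constant
  have hsq : (cO / cE) ^ 2 = (q ^ (-h)) ^ 2 := by
    rw [div_pow, hcO, hcE, ← pow_mul, ← pow_mul, ← zpow_natCast, ← zpow_natCast q (n * BE),
      ← zpow_sub₀ hq, ← zpow_natCast (q ^ (-h)) 2, ← zpow_mul]
    congr 1
    push_cast
    have : (n : ℤ) * E = (n : ℤ) * BE - (n : ℤ) * BO := by rw [hE]; ring
    linarith
  obtain ⟨ε, hε, ha⟩ : ∃ ε : K, (ε = 1 ∨ ε = -1) ∧ cO / cE = ε * q ^ (-h) := by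
    rcases sq_eq_sq_iff_eq_or_eq_neg.1 hsq with h' | h'
    · exact ⟨1, Or.inl rfl, by rw [h', one_mul]⟩
    · exact ⟨-1, Or.inr rfl, by rw [h', neg_one_mul]⟩
  refine ⟨ε, hε, ?_⟩
  have hN' := eq_div_of_mul_eq (pow_ne_zero _ hx0) hN
  have hD' := eq_div_of_mul_eq (pow_ne_zero _ hx0) hD
  rw [hN', hD', RatFunc.aeval_X_left_eq_algebraMap, RatFunc.aeval_X_left_eq_algebraMap]
  have gen : ∀ (a b c d e f : RatFunc K),
      (a * b / c) / (d * e / f) = (a / d) * (f / c) * (b / e) := by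
    intros
    simp only [div_eq_mul_inv, mul_inv, inv_inv]
    ring
  rw [gen, ← map_div₀, ha, map_mul, map_zpow₀, ← zpow_natCast x BE, ← zpow_natCast x BO,
    ← zpow_sub₀ hx0, ← hE, hx, mul_zpow, map_pow, ← zpow_natCast (RatFunc.C q) n, ← zpow_mul]
  have hexp : (RatFunc.C q : RatFunc K) ^ (-h) * (RatFunc.C q) ^ ((n : ℤ) * E) = (RatFunc.C q) ^ h := by
    rw [← zpow_add₀ hQ0]
    congr 1
    linarith
  rw [← hexp]
  ring


/-- Let k₀ be a finite field with q elements, k an algebraically closed field containing k₀, H^* a Weil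
cohomology theory, with coefficient field K of characteristic zero, on nonsingular connected
projective varieties over k, X a scheme of finite type over k₀ whose base change X̄ = X ×_{k₀} k is
such a variety (as it is when X is nonsingular, projective and geometrically connected), and F =
Frob_{X,q} × id the k-endomorphism of X̄ induced by the q-Frobenius of X; let n = dim X̄ and E =
(Δ²) the self-intersection of the diagonal of X̄, which equals Σ_i (−1)^i dim_K H^i(X̄). Then Z(X,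
1/(q^n t)) = ± q^{nE/2} t^E Z(X, t). Stated in the field K(t) of rational functions for Z(t) = P_1
P_3 ⋯ P_{2n−1} / (P_0 P_2 ⋯ P_{2n}), P_i(t) = det(Id − t F^* | H^i(X̄)) (the reverse of the
characteristic polynomial), which is the zeta function of X by its cohomological factorisation; E is
written as the alternating sum of the dimensions, nE is even, and the sign is left unspecified as in
the published statement. The q-Frobenius of X is pinned as the endomorphism that is the identity on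
points and the q-th power on sections, X̄ as a cartesian square over Spec k → Spec k₀, and F by its
compatibility with the projection to X. -/
theorem result (k₀ : Type u) [Field k₀] [Finite k₀] (k : Type u) [Field k] [IsAlgClosed k] [Algebra k₀ k]
    (K : Type v) [Field K] [CharZero K] (T : WeilCoh.Theory k K)
    {X : Scheme.{u}} (f : X ⟶ Spec (CommRingCat.of k₀)) [LocallyOfFiniteType f] [QuasiCompact f]
    (FX : X ⟶ X) (hFb : FX.base = 𝟙 _) (hle : ∀ U : X.Opens, U ≤ FX ⁻¹ᵁ U)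
    (hFapp : ∀ (U : X.Opens) (s : Γ(X, U)), (FX.appLE U U (hle U)).hom s = s ^ Nat.card k₀)
    (Xb : WeilCoh.Var k) (π : Xb.obj.left ⟶ X)
    (hπ : IsPullback π Xb.obj.hom f (Spec.map (CommRingCat.ofHom (algebraMap k₀ k))))
    (F : Xb ⟶ Xb) (hF : WeilCoh.sm F ≫ π = π ≫ FX) :
    ∃ ε : K, (ε = 1 ∨ ε = -1) ∧
      Polynomial.aeval ((RatFunc.X : RatFunc K)⁻¹ * RatFunc.C ((Nat.card k₀ : K) ^ WeilCoh.dim Xb.obj.left)⁻¹)
          (∏ i ∈ Finset.range (WeilCoh.dim Xb.obj.left),
            (LinearMap.charpoly (T.pullDeg F ((2 * i + 1 : ℕ) : ℤ))).reverse) /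
        Polynomial.aeval ((RatFunc.X : RatFunc K)⁻¹ * RatFunc.C ((Nat.card k₀ : K) ^ WeilCoh.dim Xb.obj.left)⁻¹)
          (∏ i ∈ Finset.range (WeilCoh.dim Xb.obj.left + 1),
            (LinearMap.charpoly (T.pullDeg F ((2 * i : ℕ) : ℤ))).reverse) =
      RatFunc.C ε * RatFunc.C (Nat.card k₀ : K) ^ ((WeilCoh.dim Xb.obj.left : ℤ) * (∑ i ∈ Finset.range (2 * WeilCoh.dim Xb.obj.left + 1), (-1 : ℤ) ^ i * (Module.finrank K ↥(T.gr Xb (i : ℤ)) : ℤ)) / 2) *
        (RatFunc.X : RatFunc K) ^ (∑ i ∈ Finset.range (2 * WeilCoh.dim Xb.obj.left + 1), (-1 : ℤ) ^ i * (Module.finrank K ↥(T.gr Xb (i : ℤ)) : ℤ)) *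
        (algebraMap (Polynomial K) (RatFunc K)
          (∏ i ∈ Finset.range (WeilCoh.dim Xb.obj.left),
            (LinearMap.charpoly (T.pullDeg F ((2 * i + 1 : ℕ) : ℤ))).reverse) /
         algebraMap (Polynomial K) (RatFunc K)
          (∏ i ∈ Finset.range (WeilCoh.dim Xb.obj.left + 1),
            (LinearMap.charpoly (T.pullDeg F ((2 * i : ℕ) : ℤ))).reverse)) := by
  have hq : (Nat.card k₀ : K) ≠ 0 := Nat.cast_ne_zero.2 Nat.card_pos.ne'
  have hcast : ∀ j ≤ 2 * WeilCoh.dim Xb.obj.left,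
      (2 * (WeilCoh.dim Xb.obj.left : ℤ) - (j : ℤ)) = ((2 * WeilCoh.dim Xb.obj.left - j : ℕ) : ℤ) := by
    intro j hj
    rw [Nat.cast_sub hj]
    push_cast
    ring
  exact zeta_fe_abstract (WeilCoh.dim Xb.obj.left) (Nat.card k₀ : K) hq
    (fun j => Module.finrank K ↥(T.gr Xb (j : ℤ)))
    (fun j => LinearMap.charpoly (T.pullDeg F (j : ℤ)))
    (fun j => LinearMap.det (T.pullDeg F (j : ℤ)))
    (fun j => LinearMap.charpoly_natDegree _)
    (fun j hj => by
      haveI := T.duality Xb (j : ℤ) (2 * (WeilCoh.dim Xb.obj.left : ℤ) - j) (by ring)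
      show Module.finrank K ↥(T.gr Xb ((2 * WeilCoh.dim Xb.obj.left - j : ℕ) : ℤ)) =
        Module.finrank K ↥(T.gr Xb (j : ℤ))
      rw [← finrank_congr T (hcast j hj)]
      exact (Module.finrank_of_isPerfPair (pairing K (T.gr Xb (j : ℤ))
        (T.gr Xb (2 * (WeilCoh.dim Xb.obj.left : ℤ) - j)) (T.tr Xb))).symm)
    (fun j hj => by
      have := Groth.Agent.S15454.result k₀ k K T f FX hFb hle hFapp Xb π hπ F hF (j : ℤ)
      rw [pow_mul, det_congr T F (hcast j hj)] at this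
      exact this)
    (fun j hj => by
      have := Groth.Agent.S15455.result k₀ k K T f FX hFb hle hFapp Xb π hπ F hF (j : ℤ)
      rw [charpoly_congr T F (hcast j hj)] at this
      exact this)
    (fun hodd => even_finrank_mid T _ rfl hodd)

end Groth.Agent.S15456
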