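import Groth.Statements.S15458
-- import your own Groth.Agent.* helpers here
import Groth.Agent.Lib.Helper33.WeilLib
import Groth.Agent.Lib.Helper33.WeilDim
import Groth.Agent.Lib.Helper33.WeilCyc

set_option autoImplicit false
universe u v
open CategoryTheory AlgebraicGeometry
open WeilCoh

namespace Groth.Agent.S15458
open WeilCoh Groth.Agent.Lib.Helper33.WeilLib Groth.Agent.Lib.Helper33.WeilDim
  Groth.Agent.Lib.Helper33.WeilCyc


/-- The cycle class map is compatible with push-forward: for a Weil cohomology theory H^* (coefficients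
in K of characteristic zero, on nonsingular connected projective varieties over an algebraically
closed field k), a morphism f : X → Y of such varieties and a cycle α on X, f_*(cl(α)) = cl(f_*(α)).
Stated through the identity characterising the cohomological push-forward: Tr_Y(cl(f_* α) ∪ β) =
Tr_X(cl(α) ∪ f^*(β)) for every β ∈ H^*(Y), where f_* α is the proper push-forward of cycles (the
coefficient of [V] goes to deg(V/f(V)) [f(V)], and to 0 when f(V) has smaller dimension) for the
dimension functions δ_X, δ_Y induced from weight 0 on Spec k. -/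
theorem result (k : Type u) [Field k] [IsAlgClosed k] (K : Type v) [Field K] [CharZero K]
    (T : WeilCoh.Theory k K) (X Y : WeilCoh.Var k) (f : X ⟶ Y)
    [QuasiCompact (WeilCoh.sm f)]
    (δX : ↥X.obj.left → ℤ) (hδX : Cyc.DeltaCompat X.obj.hom δX (fun _ => 0))
    (δY : ↥Y.obj.left → ℤ) (hδY : Cyc.DeltaCompat Y.obj.hom δY (fun _ => 0))
    (α : AlgebraicCycle X.obj.left ℤ) (b : T.H Y) :
    T.tr Y (T.clCyc Y (AlgebraicCycle.map (WeilCoh.sm f) δX δY α) * b) =
      T.tr X (T.clCyc X α * T.pull f b) := by
  classical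
  haveI := quasiCompact_hom X
  haveI := quasiCompact_hom Y
  have hfin := support_finite X α
  set s : Finset X.obj.left := hfin.toFinset with hs
  have hsupp : ∀ x, x ∉ s → α x = 0 := by
    intro x hx
    by_contra h
    exact hx (hfin.mem_toFinset.2 h)
  set β := AlgebraicCycle.map (WeilCoh.sm f) δX δY α with hβ
  -- β y as a finite sum
  have hβy : ∀ y, β y = ∑ x ∈ s.filter (fun x => WeilCoh.sm f x = y),
      α x * (((WeilCoh.sm f).residueDegree x : ℕ) : ℤ) := by
    intro y
    rw [hβ]
    unfold AlgebraicCycle.map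
    rw [Function.locallyFinsupp.map_apply]
    rw [finsum_mem_eq_sum_of_inter_support_eq (t := s.filter (fun x => WeilCoh.sm f x = y))]
    · refine Finset.sum_congr rfl fun x _ => ?_
      rw [mapCoeff_eq f δX hδX δY hδY x]
    · ext x
      simp only [Set.mem_inter_iff, Set.mem_preimage, Set.mem_singleton_iff, Function.mem_support,
        Finset.coe_filter, Set.mem_ofPred_eq]
      constructor
      · rintro ⟨h1, h2⟩
        refine ⟨⟨?_, h1⟩, h2⟩
        by_contra hx
        exact h2 (by rw [hsupp x hx, zero_mul])
      · rintro ⟨⟨_, h1⟩, h2⟩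
        exact ⟨h1, h2⟩
  have hβsupp : ∀ y, y ∉ s.image (WeilCoh.sm f) → β y = 0 := by
    intro y hy
    rw [hβy y]
    refine Finset.sum_eq_zero fun x hx => ?_
    rw [Finset.mem_filter] at hx
    exact absurd (Finset.mem_image.2 ⟨x, hx.1, hx.2⟩) hy
  -- expand both cycle classes
  have hX : T.clCyc X α = ∑ x ∈ s, ((α x : ℤ) : K) • T.cl X x := by
    unfold TheoryOn.clCyc
    refine finsum_eq_sum_of_support_subset _ fun x hx => ?_
    by_contra hxs
    apply hx
    simp [hsupp x hxs]
  have hY : T.clCyc Y β = ∑ y ∈ s.image (WeilCoh.sm f), ((β y : ℤ) : K) • T.cl Y y := by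
    unfold TheoryOn.clCyc
    refine finsum_eq_sum_of_support_subset _ fun y hy => ?_
    by_contra hys
    apply hy
    simp [hβsupp y hys]
  rw [hX, hY, Finset.sum_mul, Finset.sum_mul, map_sum, map_sum]
  rw [Finset.sum_image' (h := fun x => ((α x : ℤ) : K) *
    (((WeilCoh.sm f).residueDegree x : K) * T.tr Y (T.cl Y (WeilCoh.sm f x) * b)))]
  · refine Finset.sum_congr rfl fun x _ => ?_
    rw [smul_mul_assoc, map_smul, smul_eq_mul, tr_cl_mul_pull T f x b]
  · intro x hx
    rw [smul_mul_assoc, map_smul, smul_eq_mul, hβy, Int.cast_sum, Finset.sum_mul]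
    refine Finset.sum_congr rfl fun x' hx' => ?_
    rw [Finset.mem_filter] at hx'
    rw [hx'.2]
    push_cast
    ring

end Groth.Agent.S15458
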