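import Groth.Statements.S15465
import Mathlib

set_option autoImplicit false
universe v u
open HomAlg

namespace Groth.Agent.S15465

open CategoryTheory CategoryTheory.Limits in
theorem aux
    {C : Type u} [Category.{v} C] [Abelian C] (S : ShortComplex C) {A₂ A₃ C₁ C₂ : C}
    (i₁ : S.X₁ ⟶ A₂) (p₁ : A₂ ⟶ A₃) (wA : i₁ ≫ p₁ = 0) (hA : (ShortComplex.mk i₁ p₁ wA).ShortExact)
    (i₂ : A₂ ⟶ S.X₂) (π₂ : S.X₂ ⟶ C₂) (wB : i₂ ≫ π₂ = 0) (hB : (ShortComplex.mk i₂ π₂ wB).ShortExact)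
    (j : C₁ ⟶ C₂) (q : C₂ ⟶ S.X₃) (wC : j ≫ q = 0) (hC : (ShortComplex.mk j q wC).ShortExact)
    (hSf : S.f = i₁ ≫ i₂) (hSg : S.g = π₂ ≫ q)
    (h₂ : i₂ ≫ S.g = 0) (h₃ : S.f ≫ π₂ = 0)
    (f : A₃ ⟶ S.homology)
    (g : S.homology ⟶ C₁)
    (hf : p₁ ≫ f = S.liftCycles i₂ h₂ ≫ S.homologyπ)
    (hg : g ≫ j = S.homologyι ≫ S.descOpcycles π₂ h₃) :
    ∃ wfg : f ≫ g = 0, (ShortComplex.mk f g wfg).ShortExact := by
  have : Epi p₁ := hA.epi_g
  have : Mono i₁ := hA.mono_f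
  have : Mono i₂ := hB.mono_f
  have : Epi π₂ := hB.epi_g
  have : Mono j := hC.mono_f
  have : Epi q := hC.epi_g
  have hkey : S.homologyπ ≫ g ≫ j = S.iCycles ≫ π₂ := by
    rw [hg, S.homology_π_ι_assoc, S.p_descOpcycles]
  have wfg : f ≫ g = 0 := by
    rw [← cancel_epi p₁, ← cancel_mono j]
    simp only [Category.assoc, comp_zero, zero_comp]
    rw [reassoc_of% hf, hkey, S.liftCycles_i_assoc, wB]
  refine ⟨wfg, ?_⟩
  have hmono : Mono f := by
    rw [Preadditive.mono_iff_cancel_zero]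
    intro T x hx
    obtain ⟨T', π, hπ, x₂, hx₂⟩ := surjective_up_to_refinements_of_epi p₁ x
    have h1 : (x₂ ≫ S.liftCycles i₂ h₂) ≫ S.homologyπ = 0 := by
      rw [Category.assoc, ← hf, ← Category.assoc, ← hx₂, Category.assoc, hx, comp_zero]
    obtain ⟨T'', π', hπ', x₁, hx₁⟩ := (S.comp_homologyπ_eq_zero_iff_up_to_refinements _).mp h1
    have h2 : π' ≫ x₂ = x₁ ≫ i₁ := by
      rw [← cancel_mono i₂]
      have := congrArg (· ≫ S.iCycles) hx₁
      simpa [hSf] using this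
    rw [← cancel_epi π, ← cancel_epi π']
    rw [hx₂, ← Category.assoc, h2, Category.assoc, wA, comp_zero, comp_zero, comp_zero]
  have hepi : Epi g := by
    rw [epi_iff_surjective_up_to_refinements]
    intro T y
    obtain ⟨T', π, hπ, b, hb⟩ := surjective_up_to_refinements_of_epi π₂ (y ≫ j)
    have hb0 : b ≫ S.g = 0 := by
      rw [hSg, ← Category.assoc, ← hb, Category.assoc, Category.assoc, wC, comp_zero, comp_zero]
    refine ⟨T', π, hπ, S.liftCycles b hb0 ≫ S.homologyπ, ?_⟩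
    rw [← cancel_mono j, Category.assoc, Category.assoc, Category.assoc, hkey,
      S.liftCycles_i_assoc, hb]
  have hexact : (ShortComplex.mk f g wfg).Exact := by
    rw [ShortComplex.exact_iff_exact_up_to_refinements]
    intro T k hk
    dsimp at k hk
    obtain ⟨T', π, hπ, z, hz⟩ := surjective_up_to_refinements_of_epi S.homologyπ k
    have h1 : (z ≫ S.iCycles) ≫ π₂ = 0 := by
      rw [Category.assoc, ← hkey, ← Category.assoc, ← Category.assoc, ← hz, Category.assoc,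
        Category.assoc, reassoc_of% hk, zero_comp, comp_zero]
    obtain ⟨T'', π', hπ', a₂, ha₂⟩ := hB.exact.exact_up_to_refinements (z ≫ S.iCycles) h1
    dsimp at a₂ ha₂
    refine ⟨T'', π' ≫ π, epi_comp _ _, a₂ ≫ p₁, ?_⟩
    dsimp
    have h2 : π' ≫ z = a₂ ≫ S.liftCycles i₂ h₂ := by
      rw [← cancel_mono S.iCycles, Category.assoc, Category.assoc, S.liftCycles_i, ha₂]
    rw [Category.assoc, hz, Category.assoc, hf, ← Category.assoc, ← Category.assoc, h2]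
  exact { exact := hexact, mono_f := hmono, epi_g := hepi }


open CategoryTheory CategoryTheory.Limits in
/-- In an abelian category let 0 → A₂ → B₂ → C₂ → 0 (maps i₂, π₂), 0 → A₁ → A₂ → A₃ → 0 (maps i₁, p₁)
and 0 → C₁ → C₂ → C₃ → 0 (maps j, q) be short exact sequences, let α = i₁ ≫ i₂ : A₁ → B₂ and β = π₂
≫ q : B₂ → C₃, and let K = ker β / im α be the homology object of the complex A₁ → B₂ → C₃. Let f :
A₃ → K be the map induced by i₂ (the unique map whose composite with p₁ is the homology class of the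
cycle i₂) and g : K → C₁ the map induced by π₂ (the unique map whose composite with j is the map K →
C₂ induced by π₂). Then 0 → A₃ → K → C₁ → 0, with maps f and g, is a short exact sequence. (The
hypotheses w, h₂, h₃ are consequences of i₂ ≫ π₂ = 0, carried so that the maps can be named; the
published statement assumes in addition that the category has enough injective objects, which plays
no role in this assertion.) -/
theorem result
    {C : Type u} [Category.{v} C] [Abelian C] {A₁ A₂ A₃ B₂ C₁ C₂ C₃ : C}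
    (i₁ : A₁ ⟶ A₂) (p₁ : A₂ ⟶ A₃) (wA : i₁ ≫ p₁ = 0) (hA : (ShortComplex.mk i₁ p₁ wA).ShortExact)
    (i₂ : A₂ ⟶ B₂) (π₂ : B₂ ⟶ C₂) (wB : i₂ ≫ π₂ = 0) (hB : (ShortComplex.mk i₂ π₂ wB).ShortExact)
    (j : C₁ ⟶ C₂) (q : C₂ ⟶ C₃) (wC : j ≫ q = 0) (hC : (ShortComplex.mk j q wC).ShortExact)
    (w : (i₁ ≫ i₂) ≫ (π₂ ≫ q) = 0) (h₂ : i₂ ≫ (π₂ ≫ q) = 0) (h₃ : (i₁ ≫ i₂) ≫ π₂ = 0)
    (f : A₃ ⟶ (CategoryTheory.ShortComplex.mk (i₁ ≫ i₂) (π₂ ≫ q) w).homology)
    (g : (CategoryTheory.ShortComplex.mk (i₁ ≫ i₂) (π₂ ≫ q) w).homology ⟶ C₁)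
    (hf : p₁ ≫ f = (CategoryTheory.ShortComplex.mk (i₁ ≫ i₂) (π₂ ≫ q) w).liftCycles i₂ h₂ ≫ (CategoryTheory.ShortComplex.mk (i₁ ≫ i₂) (π₂ ≫ q) w).homologyπ)
    (hg : g ≫ j = (CategoryTheory.ShortComplex.mk (i₁ ≫ i₂) (π₂ ≫ q) w).homologyι ≫ (CategoryTheory.ShortComplex.mk (i₁ ≫ i₂) (π₂ ≫ q) w).descOpcycles π₂ h₃) :
    ∃ wfg : f ≫ g = 0, (ShortComplex.mk f g wfg).ShortExact := by
  exact aux (CategoryTheory.ShortComplex.mk (i₁ ≫ i₂) (π₂ ≫ q) w) i₁ p₁ wA hA i₂ π₂ wB hB j q wC hC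
    rfl rfl h₂ h₃ f g hf hg

end Groth.Agent.S15465
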