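import Groth.Statements.S15480
import Groth.Statements.S15480
import Groth.Agent.Lib.Helper10.QcOpen2
import Groth.Agent.Lib.Helper10.IsoNatSymm
import Groth.Agent.Lib.Helper17.DiagCover

set_option autoImplicit false
universe u
open CategoryTheory AlgebraicGeometry
open IsoNat

namespace Groth.Agent.S15480

section Aux
open CategoryTheory AlgebraicGeometry
open IsoNat


open Groth.Agent.Lib.Helper17 Groth.Agent.Lib.Helper17.PTS
open Groth.Agent.Lib.Helper10.OST Groth.Agent.Lib.Helper10.QCO Groth.Agent.Lib.Helper10.INP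

theorem main
    (S : Scheme.{u}) [QuasiSeparatedSpace S]
    (𝒳 𝒴 : AlgSt.Cat S)
    (h𝒳 : AlgSt.IsAlgStack Scheme.fppfPrecoverage 𝒳)
    (h𝒴 : AlgSt.IsAlgStack Scheme.fppfPrecoverage 𝒴)
    (𝒳' 𝒴' : AlgSt.Cat S)
    (h𝒳' : AlgSt.IsAlgStack Scheme.fppfPrecoverage 𝒳')
    (h𝒴' : AlgSt.IsAlgStack Scheme.fppfPrecoverage 𝒴')
    (h𝒴'd : AlgSt.RepByAlgSpWith (AlgSp.IsSeparatedMor ⊓ AlgSp.IsQuasiCompactMor)
      (FibCat.diag (FibCat.toSelf 𝒴')))
    (f : 𝒳 ⥤ᵇ 𝒴) (f' : 𝒳' ⥤ᵇ 𝒴') (φ : IsoNat.FIsoSq f f')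
    (hf : AlgSt.IsQuasiCompactMor Scheme.fppfPrecoverage f) :
    AlgSt.IsQuasiCompactMor Scheme.fppfPrecoverage f' := by
  have hX := h𝒳.isStack.1
  have hY := h𝒴.isStack.1
  have hX' := h𝒳'.isStack.1
  have hY' := h𝒴'.isStack.1
  have hΔ' : AlgSt.RepByAlgSpWith AlgSp.IsQuasiCompactMor (FibCat.diag (FibCat.toSelf 𝒴')) :=
    DDC.repWith_mono (fun _ _ _ _ _ h => h.2) _ h𝒴'd
  apply isQuasiCompactMor_of_forall_QT hX' h𝒴' hΔ' f'
  intro T'' hT''o hT''c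
  rw [isQuasiCompact_fp_QT_iff h𝒳' h𝒴' f' T'' hT''o]
  -- the corresponding open subset of `|𝒴|`
  have hTo : IsOpen (β φ.tgt ⁻¹' T'') := (continuous_β hY h𝒴' φ.tgt).isOpen_preimage T'' hT''o
  have hTc : IsCompact (β φ.tgt ⁻¹' T'') := by
    have e : β φ.tgt ⁻¹' T'' = β (fIsoSymm hY hY' φ.tgt) '' T'' := by
      ext η
      constructor
      · intro hη
        exact ⟨β φ.tgt η, hη, β_symm_β hY hY' φ.tgt η⟩
      · rintro ⟨η', hη', rfl⟩
        change β φ.tgt (β (fIsoSymm hY hY' φ.tgt) η') ∈ T''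
        rw [β_β_symm hY hY' φ.tgt η']
        exact hη'
    rw [e]
    exact hT''c.image (continuous_β hY' h𝒴 (fIsoSymm hY hY' φ.tgt))
  have hOS := isOpenSubstack_QT h𝒴 _ hTo
  have hq := hf (AlgSt.fullSub 𝒴 (QT (β φ.tgt ⁻¹' T''))) hOS.2.1
    (isQuasiCompact_fullSub_QT h𝒴 _ hTo hTc) (AlgSt.subIncl 𝒴 _)
  rw [isQuasiCompact_fp_QT_iff h𝒳 h𝒴 f _ hTo] at hq
  have e2 : AlgSt.Points.map f' ⁻¹' T'' =
      β φ.src '' (AlgSt.Points.map f ⁻¹' (β φ.tgt ⁻¹' T'')) := by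
    ext ξ'
    constructor
    · intro hξ'
      obtain ⟨ξ, rfl⟩ := β_surjective hX φ.src ξ'
      refine ⟨ξ, ?_, rfl⟩
      change β φ.tgt (AlgSt.Points.map f ξ) ∈ T''
      rw [β_map hX hY f f' φ ξ]
      exact hξ'
    · rintro ⟨ξ, hξ, rfl⟩
      change AlgSt.Points.map f' (β φ.src ξ) ∈ T''
      rw [← β_map hX hY f f' φ ξ]
      exact hξ
  rw [e2]
  exact hq.image (continuous_β hX h𝒳' φ.src)


end Aux

/-- Quasi-compactness of a morphism of algebraic stacks is detected by the induced map of presheaves of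
isomorphism classes. Let f : 𝒳 → 𝒴 and f' : 𝒳' → 𝒴' be morphisms of algebraic stacks over a
quasi-separated scheme S with isomorphisms of the presheaves of isomorphism classes of 𝒳 with 𝒳' and
of 𝒴 with 𝒴' under which the induced maps correspond. If f is quasi-compact (its base change to
every quasi-compact algebraic stack is quasi-compact) then so is f'. Here an algebraic stack over a
quasi-separated scheme S means a stack in groupoids for the fppf topology with a smooth surjective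
atlas from a scheme, whose diagonal is representable by separated quasi-compact morphisms of
algebraic spaces and whose inertia is locally of finite presentation over it. -/
theorem result
    (S : Scheme.{u}) [QuasiSeparatedSpace S]
    (𝒳 𝒴 : AlgSt.Cat S)
    (h𝒳 : AlgSt.IsAlgStack Scheme.fppfPrecoverage 𝒳)
    (h𝒳d : AlgSt.RepByAlgSpWith (AlgSp.IsSeparatedMor ⊓ AlgSp.IsQuasiCompactMor)
      (FibCat.diag (FibCat.toSelf 𝒳)))
    (h𝒳i : AlgSt.RepByAlgSpWith (AlgSp.LocP @LocallyOfFinitePresentation)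
      (FibCat.inertiaToBase (FibCat.toSelf 𝒳)))
    (h𝒴 : AlgSt.IsAlgStack Scheme.fppfPrecoverage 𝒴)
    (h𝒴d : AlgSt.RepByAlgSpWith (AlgSp.IsSeparatedMor ⊓ AlgSp.IsQuasiCompactMor)
      (FibCat.diag (FibCat.toSelf 𝒴)))
    (h𝒴i : AlgSt.RepByAlgSpWith (AlgSp.LocP @LocallyOfFinitePresentation)
      (FibCat.inertiaToBase (FibCat.toSelf 𝒴)))
    (𝒳' 𝒴' : AlgSt.Cat S)
    (h𝒳' : AlgSt.IsAlgStack Scheme.fppfPrecoverage 𝒳')
    (h𝒳'd : AlgSt.RepByAlgSpWith (AlgSp.IsSeparatedMor ⊓ AlgSp.IsQuasiCompactMor)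
      (FibCat.diag (FibCat.toSelf 𝒳')))
    (h𝒳'i : AlgSt.RepByAlgSpWith (AlgSp.LocP @LocallyOfFinitePresentation)
      (FibCat.inertiaToBase (FibCat.toSelf 𝒳')))
    (h𝒴' : AlgSt.IsAlgStack Scheme.fppfPrecoverage 𝒴')
    (h𝒴'd : AlgSt.RepByAlgSpWith (AlgSp.IsSeparatedMor ⊓ AlgSp.IsQuasiCompactMor)
      (FibCat.diag (FibCat.toSelf 𝒴')))
    (h𝒴'i : AlgSt.RepByAlgSpWith (AlgSp.LocP @LocallyOfFinitePresentation)
      (FibCat.inertiaToBase (FibCat.toSelf 𝒴')))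
    (f : 𝒳 ⥤ᵇ 𝒴) (f' : 𝒳' ⥤ᵇ 𝒴') (φ : IsoNat.FIsoSq f f')
    (hf : AlgSt.IsQuasiCompactMor Scheme.fppfPrecoverage f) :
    AlgSt.IsQuasiCompactMor Scheme.fppfPrecoverage f' := by
  exact main S 𝒳 𝒴 h𝒳 h𝒴 𝒳' 𝒴' h𝒳' h𝒴' h𝒴'd f f' φ hf

end Groth.Agent.S15480
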