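import Groth.Statements.S15488
import Mathlib

set_option autoImplicit false
universe u
open IsoNat

namespace Groth.Agent.S15488

section aux

variable {A : Type u} [CommRing A] {G : Type u} [Group G] (g : G) (l : A)

noncomputable def qq (h : G) : G ⧸ Subgroup.zpowers g := QuotientGroup.mk h⁻¹

noncomputable def tau (q : G ⧸ Subgroup.zpowers g) : G := (q.out)⁻¹

theorem exists_decomp [Finite G] (h : G) : ∃ k : ℕ, g ^ k * tau g (qq g h) = h := by
  obtain ⟨z, hz⟩ := QuotientGroup.mk_out_eq_mul (Subgroup.zpowers g) h⁻¹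
  have hzmem : (z : G) ∈ Submonoid.powers g :=
    mem_powers_iff_mem_zpowers.mpr z.2
  obtain ⟨k, hk⟩ := Submonoid.mem_powers_iff _ _ |>.mp hzmem
  refine ⟨k, ?_⟩
  unfold tau qq
  rw [hz, hk]
  group

noncomputable def kk [Finite G] (h : G) : ℕ := Classical.choose (exists_decomp g h)

theorem kk_spec [Finite G] (h : G) : g ^ kk g h * tau g (qq g h) = h := Classical.choose_spec (exists_decomp g h)

theorem pow_compat (hl : l ^ orderOf g = 1) {a b : ℕ} {x : G} (h : g ^ a * x = g ^ b * x) :
    l ^ a = l ^ b := by
  have h1 : g ^ a = g ^ b := mul_right_cancel h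
  have h2 : a ≡ b [MOD orderOf g] := pow_eq_pow_iff_modEq.mp h1
  rw [pow_eq_pow_mod a hl, pow_eq_pow_mod b hl, h2]

theorem qq_tau (q : G ⧸ Subgroup.zpowers g) : qq g (tau g q) = q := by
  unfold qq tau
  rw [inv_inv]
  exact QuotientGroup.out_eq' q

theorem qq_mul (h : G) : qq g (g * h) = qq g h := by
  unfold qq
  rw [QuotientGroup.eq]
  have : (g * h)⁻¹⁻¹ * h⁻¹ = g := by group
  rw [this]
  exact Subgroup.mem_zpowers g

noncomputable def Phi : (G → A) →ₗ[A] ((G ⧸ Subgroup.zpowers g) → A) :=
  LinearMap.funLeft A A (tau g)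

noncomputable def Psi [Finite G] : ((G ⧸ Subgroup.zpowers g) → A) →ₗ[A] (G → A) where
  toFun w := fun h => l ^ kk g h * w (qq g h)
  map_add' w w' := by
    ext h
    simp [mul_add]
  map_smul' c w := by
    ext h
    simp only [Pi.smul_apply, smul_eq_mul, RingHom.id_apply]
    ring

theorem Phi_Psi [Finite G] (hl : l ^ orderOf g = 1) (w : (G ⧸ Subgroup.zpowers g) → A) :
    Phi g (Psi g l w) = w := by
  ext q
  change l ^ kk g (tau g q) * w (qq g (tau g q)) = w q
  rw [qq_tau]
  have h1 := kk_spec g (tau g q)
  rw [qq_tau] at h1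
  have h2 : l ^ kk g (tau g q) = l ^ 0 := by
    apply pow_compat g l hl (x := tau g q)
    rw [h1, pow_zero, one_mul]
  rw [h2, pow_zero, one_mul]

theorem Psi_mem [Finite G] (hl : l ^ orderOf g = 1) (w : (G ⧸ Subgroup.zpowers g) → A) :
    Psi g l w ∈ LinearMap.ker (LinearMap.funLeft A A (fun h : G => g * h) - l • LinearMap.id) := by
  rw [LinearMap.mem_ker]
  ext h
  simp only [LinearMap.sub_apply, LinearMap.smul_apply, LinearMap.id_coe, id_eq, Pi.sub_apply,
    Pi.smul_apply, smul_eq_mul, Pi.zero_apply, LinearMap.funLeft_apply]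
  change l ^ kk g (g * h) * w (qq g (g * h)) - l * (l ^ kk g h * w (qq g h)) = 0
  rw [qq_mul]
  have h1 := kk_spec g (g * h)
  rw [qq_mul] at h1
  have h2 : l ^ kk g (g * h) = l ^ (kk g h + 1) := by
    apply pow_compat g l hl (x := tau g (qq g h))
    rw [h1, pow_succ', mul_assoc, kk_spec]
  rw [h2]
  ring

theorem pow_apply_of_mem (v : G → A)
    (hv : v ∈ LinearMap.ker (LinearMap.funLeft A A (fun h : G => g * h) - l • LinearMap.id))
    (k : ℕ) (h : G) : v (g ^ k * h) = l ^ k * v h := by
  have hv' : ∀ h, v (g * h) = l * v h := by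
    intro h
    rw [LinearMap.mem_ker] at hv
    have := congrFun hv h
    simp only [LinearMap.sub_apply, LinearMap.smul_apply, LinearMap.id_coe, id_eq, Pi.sub_apply,
      Pi.smul_apply, smul_eq_mul, Pi.zero_apply, LinearMap.funLeft_apply] at this
    exact sub_eq_zero.mp this
  induction k with
  | zero => simp
  | succ k ih => rw [pow_succ', mul_assoc, hv', ih, pow_succ']; ring

theorem Psi_Phi [Finite G] (v : G → A)
    (hv : v ∈ LinearMap.ker (LinearMap.funLeft A A (fun h : G => g * h) - l • LinearMap.id)) :
    Psi g l (Phi g v) = v := by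
  ext h
  change l ^ kk g h * v (tau g (qq g h)) = v h
  rw [← pow_apply_of_mem g l v hv, kk_spec]

end aux


/-- Let A be a nontrivial commutative ring, G a finite group, g an element of G of order ν and l an
element of A with l ^ ν = 1. In the free A-module of functions G → A (the regular representation, g
acting by translation v ↦ v(g·)), the submodule of v with v(g h) = l v(h) for all h is a direct
summand, free of rank |G| / ν (stated as: free, rank · ν = |G|, and a complementary submodule
exists). (The published statement is over an arbitrary ring and also covers Hom(A^N, −) of the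
regular representation, which follows; nontriviality of A is needed for the rank to be meaningful.) -/
theorem result
    (A : Type u) [CommRing A] [Nontrivial A] (G : Type u) [Group G] [Finite G]
    (g : G) (l : A) (hl : l ^ orderOf g = 1) :
    Module.Free A (LinearMap.ker (LinearMap.funLeft A A (fun h : G => g * h) - l • LinearMap.id)) ∧
      Module.finrank A (LinearMap.ker (LinearMap.funLeft A A (fun h : G => g * h) - l • LinearMap.id)) * orderOf g = Nat.card G ∧
      ∃ E' : Submodule A (G → A), IsCompl (LinearMap.ker (LinearMap.funLeft A A (fun h : G => g * h) - l • LinearMap.id)) E' := by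
  classical
  set K := LinearMap.ker (LinearMap.funLeft A A (fun h : G => g * h) - l • LinearMap.id) with hK
  let Ψ' : ((G ⧸ Subgroup.zpowers g) → A) →ₗ[A] K :=
    LinearMap.codRestrict K (Psi g l) (Psi_mem g l hl)
  let e : K ≃ₗ[A] ((G ⧸ Subgroup.zpowers g) → A) :=
    LinearEquiv.ofLinearMap ((Phi g).comp K.subtype) Ψ'
      (LinearMap.ext fun w => Phi_Psi g l hl w)
      (LinearMap.ext fun v => Subtype.ext (Psi_Phi g l v.1 v.2))
  refine ⟨Module.Free.of_equiv e.symm, ?_, ?_⟩
  · rw [e.finrank_eq]
    have := Fintype.ofFinite (G ⧸ Subgroup.zpowers g)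
    rw [Module.finrank_fintype_fun_eq_card, Subgroup.card_eq_card_quotient_mul_card_subgroup
      (Subgroup.zpowers g), Nat.card_zpowers, Nat.card_eq_fintype_card]
  · refine ⟨_, LinearMap.isCompl_of_proj (f := Ψ'.comp (Phi g)) ?_⟩
    intro v
    apply Subtype.ext
    exact Psi_Phi g l v.1 v.2

end Groth.Agent.S15488
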