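import Groth.Statements.S1549
import Mathlib
import Groth.Agent.Lib.Helper51.NoethOpen
import Groth.Agent.Lib.Helper51.GeomIrr
import Groth.Agent.Lib.Helper19.Sm.SmoothDescent
import Groth.Agent.Lib.Helper49.MacLane2

set_option autoImplicit false
universe u
open CategoryTheory CategoryTheory.Limits AlgebraicGeometry
open Variety

namespace Groth.Agent.S1549

/-- For a reduced scheme locally of finite type over k, being geometrically reduced is equivalent to
having a dense open subscheme that is smooth over k. -/
theorem result (k : Type u) [Field k] (X : Scheme.{u}) [X.Over (Spec (CommRingCat.of k))] [IsReduced X] [LocallyOfFiniteType (X ↘ (Spec (CommRingCat.of k)))] :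
    GeometricallyReduced (X ↘ (Spec (CommRingCat.of k))) ↔ ∃ U : X.Opens, Dense (U : Set X) ∧ Smooth (U.ι ≫ (X ↘ (Spec (CommRingCat.of k)))) := by
  classical
  set f := X ↘ (Spec (CommRingCat.of k)) with hf
  haveI : IsLocallyNoetherian X := LocallyOfFiniteType.isLocallyNoetherian f
  constructor
  · intro hgr
    refine ⟨f.smoothLocus, ?_, Groth.Agent.Lib.Helper19.smooth_ι_smoothLocus f⟩
    let g := Spec.map (CommRingCat.ofHom (algebraMap k (AlgebraicClosure k)))
    haveI : IsReduced (Limits.pullback f g) :=
      GeometricallyReduced.geometrically_isReduced _ _ _ (.of_hasPullback _ _)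
    have hd := (Limits.pullback.snd f g).dense_smoothLocus_of_perfectField
    have hsurj : Function.Surjective (Limits.pullback.fst f g) :=
      (Groth.Agent.Lib.Helper51.surjective_pullback_fst_field f (AlgebraicClosure k)).surj
    have h1 := hsurj.denseRange.dense_image (Limits.pullback.fst f g).continuous hd
    refine h1.mono ?_
    rintro _ ⟨x', hx', rfl⟩
    exact Groth.Agent.Lib.Helper19.mem_smoothLocus_of_isPullback_of_flat f g _ _
      (IsPullback.of_hasPullback f g) x' hx'
  · rintro ⟨U, hUd, hUs⟩
    apply Groth.Agent.Lib.Helper51.geometricallyReduced_of_generic f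
    intro η hη
    have hηU : η ∈ U := by
      obtain ⟨V, hηV, hV⟩ := Groth.Agent.Lib.Helper51.exists_open_forall_maximal_specializes η
      obtain ⟨v, hvV, hvU⟩ := hUd.inter_open_nonempty V V.2 ⟨η, hηV⟩
      obtain ⟨η', hη'v, hη'⟩ :=
        Groth.Agent.Lib.Helper51.exists_specializes_closure_mem_irreducibleComponents v
      have h1 : η' ⤳ η := hV v hvV η' hη' hη'v
      have h2 : η' = η :=
        Groth.Agent.Lib.Helper51.eq_of_specializes_of_closure_mem_irreducibleComponents hη h1
      subst h2
      exact hη'v.mem_open U.2 hvU
    have hsm : η ∈ f.smoothLocus :=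
      (Groth.Agent.Lib.Helper19.mem_smoothLocus_iff_exists_nhd f η).mpr ⟨U, hηU, hUs⟩
    rw [Scheme.Hom.mem_smoothLocus] at hsm
    letI := Groth.Agent.Lib.Helper51.stalkAlg f η
    -- the composite `k → O_{Spec k, f η} → O_{X, η}` is formally smooth
    have hloc : (StructureSheaf.toStalk k (f η)).hom.FormallySmooth := by
      letI := StructureSheaf.stalkAlgebra k (f η)
      haveI : IsLocalization.AtPrime ((Spec.structureSheaf k).presheaf.stalk (f η))
        (f η).asIdeal := StructureSheaf.IsLocalization.to_stalk k (f η)
      have : Algebra.FormallySmooth k ((Spec.structureSheaf k).presheaf.stalk (f η)) :=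
        Algebra.FormallySmooth.of_isLocalization (f η).asIdeal.primeCompl
      exact (RingHom.formallySmooth_algebraMap).mpr this
    have hcomp : algebraMap k (X.presheaf.stalk η) =
        (f.stalkMap η).hom.comp (StructureSheaf.toStalk k (f η)).hom := by
      have h2 := Scheme.Hom.germ_stalkMap f ⊤ η trivial
      change _ = (((Scheme.ΓSpecIso (CommRingCat.of k)).inv ≫
        (Spec (CommRingCat.of k)).presheaf.germ ⊤ (f η) trivial) ≫ f.stalkMap η).hom
      rw [Category.assoc, h2]
      rfl
    have hfs : Algebra.FormallySmooth k (X.presheaf.stalk η) := by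
      rw [← RingHom.formallySmooth_algebraMap, hcomp]
      exact RingHom.FormallySmooth.stableUnderComposition _ _ hloc hsm
    let hF : Field (X.presheaf.stalk η) :=
      (isField_stalk_of_closure_mem_irreducibleComponents X η hη).toField
    exact @Groth.Agent.Lib.Helper49.MacLane.geomReduced_of_formallySmooth k (X.presheaf.stalk η) _ hF
      (Groth.Agent.Lib.Helper51.stalkAlg f η) hfs

end Groth.Agent.S1549
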