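import Groth.Statements.S15491
-- import your own Groth.Agent.* helpers here

set_option autoImplicit false
universe v u
open CategoryTheory CategoryTheory.Functor
open IsoNat

namespace Groth.Agent.S15491

open CategoryTheory.Limits CategoryTheory.Limits.CategoricalPullback

section

variable {B A' B' A'' B'' : Type u} [Category.{v} B] [Category.{v} A'] [Category.{v} B']
    [Category.{v} A''] [Category.{v} B'']
    (r : B ⥤ B') (t' : A' ⥤ B') (l' : A' ⥤ A'') (r' : B' ⥤ B'') (t'' : A'' ⥤ B'')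
    (e₂ : t' ⋙ r' ≅ l' ⋙ t'')

def Phi : r ⊡ t' ⥤ (r ⋙ r') ⊡ t'' where
  obj x :=
    { fst := x.fst
      snd := l'.obj x.snd
      iso := r'.mapIso x.iso ≪≫ e₂.app x.snd }
  map {x y} f :=
    { fst := f.fst
      snd := l'.map f.snd
      w := by
        have h1 := f.w
        have h2 := e₂.hom.naturality f.snd
        dsimp at h2 ⊢
        rw [← Category.assoc, ← r'.map_comp, h1, r'.map_comp, Category.assoc, h2, Category.assoc] }
  map_id x := by
    apply CategoricalPullback.hom_ext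
    · rfl
    · exact l'.map_id _
  map_comp f g := by
    apply CategoricalPullback.hom_ext
    · rfl
    · exact l'.map_comp _ _

abbrev cmp (t' : A' ⥤ B') (l' : A' ⥤ A'') (r' : B' ⥤ B'') (t'' : A'' ⥤ B'')
    (e₂ : t' ⋙ r' ≅ l' ⋙ t'') : A' ⥤ r' ⊡ t'' :=
  (CategoricalPullback.CatCommSqOver.toFunctorToCategoricalPullback r' t'' A').obj ⟨t', l', e₂⟩

lemma faithful_aux [(cmp t' l' r' t'' e₂).Faithful] {a₁ a₂ : A'} (f g : a₁ ⟶ a₂)
    (h1 : t'.map f = t'.map g) (h2 : l'.map f = l'.map g) : f = g := by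
  apply (cmp t' l' r' t'' e₂).map_injective
  apply CategoricalPullback.hom_ext
  · exact h1
  · exact h2

lemma full_aux [(cmp t' l' r' t'' e₂).Full] {a₁ a₂ : A'} (h : t'.obj a₁ ⟶ t'.obj a₂)
    (g : l'.obj a₁ ⟶ l'.obj a₂)
    (hw : r'.map h ≫ e₂.hom.app a₂ = e₂.hom.app a₁ ≫ t''.map g) :
    ∃ f : a₁ ⟶ a₂, t'.map f = h ∧ l'.map f = g := by
  let m : (cmp t' l' r' t'' e₂).obj a₁ ⟶ (cmp t' l' r' t'' e₂).obj a₂ :=
    { fst := h, snd := g, w := hw }
  obtain ⟨f, hf⟩ := (cmp t' l' r' t'' e₂).map_surjective m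
  refine ⟨f, ?_, ?_⟩
  · have := congrArg (fun q => CategoricalPullback.Hom.fst q) hf
    exact this
  · have := congrArg (fun q => CategoricalPullback.Hom.snd q) hf
    exact this

lemma essSurj_aux [(cmp t' l' r' t'' e₂).EssSurj] (b' : B') (a'' : A'')
    (ψ : r'.obj b' ≅ t''.obj a'') :
    ∃ (a' : A') (α : t'.obj a' ≅ b') (β : l'.obj a' ≅ a''),
      r'.map α.hom ≫ ψ.hom = e₂.hom.app a' ≫ t''.map β.hom := by
  let z : r' ⊡ t'' := { fst := b', snd := a'', iso := ψ }
  obtain ⟨a', ⟨φ⟩⟩ := Functor.EssSurj.mem_essImage (F := cmp t' l' r' t'' e₂) z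
  refine ⟨a', (CategoricalPullback.π₁ r' t'').mapIso φ,
    (CategoricalPullback.π₂ r' t'').mapIso φ, ?_⟩
  exact φ.hom.w

lemma phi_faithful [(cmp t' l' r' t'' e₂).Faithful] : (Phi r t' l' r' t'' e₂).Faithful where
  map_injective := by
    intro x y f g hfg
    have h1 : f.fst = g.fst := by
      have := congrArg (fun q => CategoricalPullback.Hom.fst q) hfg
      exact this
    have h2 : l'.map f.snd = l'.map g.snd := by
      have := congrArg (fun q => CategoricalPullback.Hom.snd q) hfg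
      exact this
    apply CategoricalPullback.hom_ext h1
    apply faithful_aux t' l' r' t'' e₂ _ _ _ h2
    have hf := f.w
    have hg := g.w
    rw [← cancel_epi x.iso.hom, ← hf, ← hg, h1]

lemma phi_full_aux [(cmp t' l' r' t'' e₂).Full] (x y : r ⊡ t') (g₁ : x.fst ⟶ y.fst)
    (g₂ : l'.obj x.snd ⟶ l'.obj y.snd)
    (hw : r'.map (r.map g₁) ≫ r'.map y.iso.hom ≫ e₂.hom.app y.snd =
      (r'.map x.iso.hom ≫ e₂.hom.app x.snd) ≫ t''.map g₂) :
    ∃ f₂ : x.snd ⟶ y.snd, r.map g₁ ≫ y.iso.hom = x.iso.hom ≫ t'.map f₂ ∧ l'.map f₂ = g₂ := by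
  obtain ⟨f₂, hf1, hf2⟩ := full_aux t' l' r' t'' e₂ (x.iso.inv ≫ r.map g₁ ≫ y.iso.hom) g₂ (by
    simp only [Functor.map_comp, Category.assoc]
    rw [hw]
    simp only [Category.assoc]
    rw [← r'.map_comp_assoc, Iso.inv_hom_id, r'.map_id, Category.id_comp])
  refine ⟨f₂, ?_, hf2⟩
  rw [hf1, Iso.hom_inv_id_assoc]

lemma phi_full [(cmp t' l' r' t'' e₂).Full] : (Phi r t' l' r' t'' e₂).Full where
  map_surjective := by
    intro x y g
    obtain ⟨f₂, hf1, hf2⟩ := phi_full_aux r t' l' r' t'' e₂ x y g.fst g.snd (by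
      have := g.w
      simpa [Phi] using this)
    refine ⟨{ fst := g.fst, snd := f₂, w := hf1 }, ?_⟩
    apply CategoricalPullback.hom_ext
    · rfl
    · exact hf2

lemma phi_essSurj [(cmp t' l' r' t'' e₂).EssSurj] : (Phi r t' l' r' t'' e₂).EssSurj where
  mem_essImage := by
    intro y
    obtain ⟨a', α, β, hw⟩ := essSurj_aux t' l' r' t'' e₂ (r.obj y.fst) y.snd y.iso
    refine ⟨{ fst := y.fst, snd := a', iso := α.symm }, ⟨?_⟩⟩
    refine CategoricalPullback.mkIso (Iso.refl _) β ?_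
    change (r ⋙ r').map (𝟙 y.fst) ≫ y.iso.hom =
      (r'.map α.inv ≫ e₂.hom.app a') ≫ t''.map β.hom
    rw [Functor.map_id, Category.id_comp, Category.assoc, ← hw, ← r'.map_comp_assoc,
      Iso.inv_hom_id, r'.map_id, Category.id_comp]

lemma phi_isEquivalence [(cmp t' l' r' t'' e₂).IsEquivalence] :
    (Phi r t' l' r' t'' e₂).IsEquivalence where
  faithful := phi_faithful r t' l' r' t'' e₂
  full := phi_full r t' l' r' t'' e₂
  essSurj := phi_essSurj r t' l' r' t'' e₂

end

/-- Pasting of 2-cartesian squares, stated in the 2-category of categories. Consider functors t : A → B,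
t' : A' → B', t'' : A'' → B'' and l : A → A', r : B → B', l' : A' → A'', r' : B' → B'' with natural
isomorphisms e₁ : t ⋙ r ≅ l ⋙ t' and e₂ : t' ⋙ r' ≅ l' ⋙ t''. If the lower square (t', l', r', t'',
e₂) is 2-cartesian (its comparison functor to the 2-fibre product is an equivalence), then the upper
square (t, l, r, t', e₁) is 2-cartesian if and only if the outer rectangle (t, l ⋙ l', r ⋙ r', t'')
with the pasted isomorphism is. (The published statement is for an arbitrary 2-category whose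
2-morphisms are invertible; this row is the case of categories, functors and natural isomorphisms.) -/
theorem result
    {A B A' B' A'' B'' : Type u} [Category.{v} A] [Category.{v} B] [Category.{v} A'] [Category.{v} B']
    [Category.{v} A''] [Category.{v} B'']
    (t : A ⥤ B) (l : A ⥤ A') (r : B ⥤ B') (t' : A' ⥤ B') (l' : A' ⥤ A'') (r' : B' ⥤ B'') (t'' : A'' ⥤ B'')
    (e₁ : t ⋙ r ≅ l ⋙ t') (e₂ : t' ⋙ r' ≅ l' ⋙ t'')
    (h₂ : FibCat.IsTwoCart t' l' r' t'' e₂) :
    FibCat.IsTwoCart t l r t' e₁ ↔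
      FibCat.IsTwoCart t (l ⋙ l') (r ⋙ r') t''
        ((Functor.associator t r r').symm ≪≫ isoWhiskerRight e₁ r' ≪≫ Functor.associator l t' r' ≪≫
          isoWhiskerLeft l e₂ ≪≫ (Functor.associator l l' t'').symm) := by
  have : (cmp t' l' r' t'' e₂).IsEquivalence := h₂
  have := phi_isEquivalence r t' l' r' t'' e₂
  have hiso : (CategoricalPullback.CatCommSqOver.toFunctorToCategoricalPullback r t' A).obj
        ⟨t, l, e₁⟩ ⋙ Phi r t' l' r' t'' e₂ ≅
      (CategoricalPullback.CatCommSqOver.toFunctorToCategoricalPullback (r ⋙ r') t'' A).obj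
        ⟨t, l ⋙ l', (Functor.associator t r r').symm ≪≫ isoWhiskerRight e₁ r' ≪≫
          Functor.associator l t' r' ≪≫ isoWhiskerLeft l e₂ ≪≫
          (Functor.associator l l' t'').symm⟩ :=
    NatIso.ofComponents
      (fun x => CategoricalPullback.mkIso (Iso.refl (t.obj x)) (Iso.refl (l'.obj (l.obj x))) (by
        change (r ⋙ r').map (𝟙 (t.obj x)) ≫ (𝟙 _ ≫ r'.map (e₁.hom.app x) ≫ 𝟙 _ ≫
          e₂.hom.app (l.obj x) ≫ 𝟙 _) = (r'.map (e₁.hom.app x) ≫ e₂.hom.app (l.obj x)) ≫
          t''.map (𝟙 (l'.obj (l.obj x)))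
        simp))
      (fun {x y} f => by
        apply CategoricalPullback.hom_ext
        · change t.map f ≫ 𝟙 (t.obj y) = 𝟙 (t.obj x) ≫ t.map f
          simp
        · change l'.map (l.map f) ≫ 𝟙 (l'.obj (l.obj y)) = 𝟙 (l'.obj (l.obj x)) ≫ l'.map (l.map f)
          simp)
  unfold FibCat.IsTwoCart
  rw [← Functor.isEquivalence_iff_of_iso hiso]
  constructor
  · intro h
    have := h
    infer_instance
  · intro h
    have := h
    exact Functor.isEquivalence_of_comp_right _ (Phi r t' l' r' t'' e₂)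

end Groth.Agent.S15491
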