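import Groth.Statements.S15492
import Groth.Statements.S15492
import Groth.Agent.Lib.Helper10.IsoNatPts
import Groth.Agent.Lib.Helper10.OpenSubT3

set_option autoImplicit false
universe u
open CategoryTheory AlgebraicGeometry
open IsoNat

namespace Groth.Agent.S15492

section Aux
open CategoryTheory AlgebraicGeometry
open IsoNat

open Groth.Agent.Lib.Helper17 Groth.Agent.Lib.Helper10.OST Groth.Agent.Lib.Helper10.INP
  Groth.Agent.Lib.Helper17.PTS

variable {S : Scheme.{u}} {𝒴 : AlgSt.Cat S}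

theorem exists_section_of_forall_mem {X : Scheme.{u}} (V : X.Opens) (h : ∀ x : ↥X, x ∈ V) :
    ∃ g : X ⟶ ↑V, g ≫ V.ι = 𝟙 X :=
  ⟨IsOpenImmersion.lift V.ι (𝟙 X) (by
      rw [Scheme.Opens.range_ι]
      rintro _ ⟨x, rfl⟩
      exact h x), IsOpenImmersion.lift_fac _ _ _⟩

theorem mem_of_factor {X Y : Scheme.{u}} (V : X.Opens) (h : Y ⟶ X) (g' : Y ⟶ ↑V)
    (hg : g' ≫ V.ι = h) (s : ↥Y) : h s ∈ V := by
  rw [← hg]
  exact (g' s).2

section
variable (W : ∀ T : Over S, Set (IsoCl 𝒴 T))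
  (hWpull : ∀ (T' T : Over S) (g : T' ⟶ T) (x' : 𝒴.p.Fiber T') (x : 𝒴.p.Fiber T) (a : x'.1 ⟶ x.1),
      𝒴.p.IsHomLift g a → cls x ∈ W T → cls x' ∈ W T')
  (hWopen : ∀ (T : Over S) (x : 𝒴.p.Fiber T), ∃ V : T.left.Opens,
      ∀ (T' : Over S) (g : T' ⟶ T) (x' : 𝒴.p.Fiber T') (a : x'.1 ⟶ x.1), 𝒴.p.IsHomLift g a →
        (cls x' ∈ W T' ↔ ∃ g' : T'.left ⟶ ↑V, g' ≫ V.ι = g.left))

/-- the class of a field-valued point lies in `W` -/
def Wp (p : AlgSt.FPt 𝒴) : Prop := cls (fib p) ∈ W (Over.mk p.str)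

/-- the subset of `|𝒴|` cut out by `W` -/
def TW : Set (AlgSt.Points 𝒴) := {ξ | ∃ p : AlgSt.FPt 𝒴, Wp W p ∧ AlgSt.Points.mk p = ξ}

include hWpull hWopen in
theorem wp_iff_of_hom (p p' : AlgSt.FPt 𝒴) (a : p'.obj ⟶ p.obj) : Wp W p ↔ Wp W p' := by
  obtain ⟨g, hg⟩ := exists_base_hom p' p a
  constructor
  · exact hWpull _ _ g (fib p') (fib p) a hg
  · intro h'
    obtain ⟨V, hV⟩ := hWopen (Over.mk p.str) (fib p)
    obtain ⟨g', hg'⟩ := (hV _ g (fib p') a hg).mp h'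
    -- `V` is everything
    have hne : Nonempty ↥(Spec (CommRingCat.of p'.K)) :=
      inferInstanceAs (Nonempty (PrimeSpectrum p'.K))
    obtain ⟨s⟩ := hne
    have hs : g.left s ∈ V := mem_of_factor V g.left g' hg' s
    have hsub : Subsingleton ↥(Spec (CommRingCat.of p.K)) :=
      inferInstanceAs (Subsingleton (PrimeSpectrum p.K))
    have hall : ∀ x : ↥(Over.mk p.str).left, x ∈ V := fun x => by
      have : x = g.left s := hsub.elim _ _
      rw [this]; exact hs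
    obtain ⟨g'', hg''⟩ := exists_section_of_forall_mem V hall
    exact (hV _ (𝟙 _) (fib p) (𝟙 _) (IsHomLift.id p.lies)).mpr ⟨g'', hg''⟩

include hWpull hWopen in
theorem mem_TW_iff (h𝒴 : FibCat.IsFibGrpd 𝒴.p) (p : AlgSt.FPt 𝒴) :
    AlgSt.Points.mk p ∈ TW W ↔ Wp W p := by
  constructor
  · rintro ⟨p', hp', h⟩
    obtain ⟨r, a, a', -⟩ := (mk_eq_mk_iff h𝒴 _ _).mp h
    exact (wp_iff_of_hom W hWpull hWopen p r a').mpr
      ((wp_iff_of_hom W hWpull hWopen p' r a).mp hp')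
  · intro h
    exact ⟨p, h, rfl⟩

theorem mem_V_iff (T₀ : Over S) (x₀ : 𝒴.p.Fiber T₀) (V : T₀.left.Opens)
    (hV : ∀ (T' : Over S) (g : T' ⟶ T₀) (x' : 𝒴.p.Fiber T') (a : x'.1 ⟶ x₀.1), 𝒴.p.IsHomLift g a →
        (cls x' ∈ W T' ↔ ∃ g' : T'.left ⟶ ↑V, g' ≫ V.ι = g.left))
    (t : ↥T₀.left)
    (x' : 𝒴.p.Fiber (Over.mk (T₀.left.fromSpecResidueField t ≫ T₀.hom)))
    (a : x'.1 ⟶ x₀.1)
    (ha : 𝒴.p.IsHomLift (Over.homMk (T₀.left.fromSpecResidueField t) rfl :
      Over.mk (T₀.left.fromSpecResidueField t ≫ T₀.hom) ⟶ T₀) a) :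
    cls x' ∈ W _ ↔ t ∈ V := by
  rw [hV _ _ x' a ha]
  constructor
  · rintro ⟨g', hg'⟩
    have hne : Nonempty ↥(Spec (T₀.left.residueField t)) :=
      inferInstanceAs (Nonempty (PrimeSpectrum (T₀.left.residueField t)))
    obtain ⟨s⟩ := hne
    have h1 : (T₀.left.fromSpecResidueField t) s ∈ V :=
      mem_of_factor V (T₀.left.fromSpecResidueField t) g' hg' s
    rwa [Scheme.fromSpecResidueField_apply] at h1
  · intro ht
    refine ⟨IsOpenImmersion.lift V.ι (T₀.left.fromSpecResidueField t) ?_,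
      IsOpenImmersion.lift_fac _ _ _⟩
    rw [Scheme.range_fromSpecResidueField, Scheme.Opens.range_ι]
    exact Set.singleton_subset_iff.mpr ht

include hWpull hWopen in
theorem isOpen_TW (h𝒴 : FibCat.IsFibGrpd 𝒴.p) : IsOpen (TW W) := by
  intro U x _
  obtain ⟨V, hV⟩ := hWopen U ⟨x.obj (Over.mk (𝟙 U)), x.w_obj (Over.mk (𝟙 U))⟩
  have e : AlgSt.Points.ofChart x ⁻¹' TW W = (V : Set ↥U.left) := by
    ext u
    let ι : Over.mk (U.left.fromSpecResidueField u ≫ U.hom) ⟶ U :=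
      Over.homMk (U.left.fromSpecResidueField u) rfl
    let m : (Over.mk ι : Over U) ⟶ Over.mk (𝟙 U) := Over.homMk ι (by simp)
    let pu : AlgSt.FPt 𝒴 :=
      { K := ↥(U.left.residueField u)
        str := U.left.fromSpecResidueField u ≫ U.hom
        obj := x.obj (Over.mk ι)
        lies := x.w_obj _ }
    change AlgSt.Points.mk pu ∈ TW W ↔ u ∈ V
    rw [mem_TW_iff W hWpull hWopen h𝒴]
    have hxm : 𝒴.p.IsHomLift ι (x.map m) := by
      have h1 : (FibCat.overCat U).p.IsHomLift ι m := hl_of_eq rfl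
      infer_instance
    exact mem_V_iff W U _ V hV u (fib pu) (x.map m) hxm
  rw [e]
  exact V.2

include hWpull hWopen in
theorem Q_iff_QT (h𝒴 : FibCat.IsFibGrpd 𝒴.p) (η : 𝒴.obj) :
    cls (⟨η, rfl⟩ : 𝒴.p.Fiber (𝒴.p.obj η)) ∈ W (𝒴.p.obj η) ↔ QT (TW W) η := by
  constructor
  · intro hQ p m
    have hm : 𝒴.p.IsHomLift (eqToHom p.lies.symm ≫ 𝒴.p.map m) m :=
      IsHomLift.of_fac 𝒴.p _ m p.lies rfl (by simp)
    exact ⟨p, hWpull _ _ _ (fib p) ⟨η, rfl⟩ m hm hQ, rfl⟩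
  · intro hQT
    obtain ⟨V, hV⟩ := hWopen (𝒴.p.obj η) ⟨η, rfl⟩
    have hall : ∀ t : ↥(𝒴.p.obj η).left, t ∈ V := by
      intro t
      let g : Over.mk ((𝒴.p.obj η).left.fromSpecResidueField t ≫ (𝒴.p.obj η).hom) ⟶ 𝒴.p.obj η :=
        Over.homMk ((𝒴.p.obj η).left.fromSpecResidueField t) rfl
      obtain ⟨y, a, ha⟩ := h𝒴.exists_lift (x := η) g
      let pt : AlgSt.FPt 𝒴 :=
        { K := ↥((𝒴.p.obj η).left.residueField t)
          str := (𝒴.p.obj η).left.fromSpecResidueField t ≫ (𝒴.p.obj η).hom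
          obj := y
          lies := hl_dom ha }
      have h1 : AlgSt.Points.mk pt ∈ TW W := hQT pt a
      rw [mem_TW_iff W hWpull hWopen h𝒴] at h1
      exact (mem_V_iff W _ ⟨η, rfl⟩ V hV t (fib pt) a ha).mp h1
    obtain ⟨g'', hg''⟩ := exists_section_of_forall_mem V hall
    exact (hV _ (𝟙 _) ⟨η, rfl⟩ (𝟙 η) (IsHomLift.id rfl)).mpr ⟨g'', hg''⟩

include hWpull hWopen in
theorem main (h𝒴 : AlgSt.IsAlgStack Scheme.fppfPrecoverage 𝒴) :
    AlgSt.IsOpenSubstack 𝒴 (fun η => cls (⟨η, rfl⟩ : 𝒴.p.Fiber (𝒴.p.obj η)) ∈ W (𝒴.p.obj η))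
      Scheme.fppfPrecoverage := by
  have e : (fun η => cls (⟨η, rfl⟩ : 𝒴.p.Fiber (𝒴.p.obj η)) ∈ W (𝒴.p.obj η)) = QT (TW W) :=
    funext fun η => propext (Q_iff_QT W hWpull hWopen h𝒴.isStack.1 η)
  rw [e]
  exact isOpenSubstack_QT h𝒴 (TW W) (isOpen_TW W hWpull hWopen h𝒴.isStack.1)

end


end Aux

/-- Open subfunctors of the presheaf of isomorphism classes come from open substacks. Let 𝒴 be an
algebraic stack over a quasi-separated scheme S and W a subfunctor of its presheaf of isomorphism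
classes — a set W(T) of isomorphism classes over each T, stable under pullback — which is open: for
every object x over T there is an open subscheme V of T such that a pullback of x along g : T' → T
has class in W(T') exactly when g factors through V. Then the strictly full subcategory of 𝒴 on the
objects whose class lies in W is an open substack (the converse direction, that an open substack
gives an open subfunctor, is immediate from the definitions, and the two constructions are mutually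
inverse). Here an algebraic stack over a quasi-separated scheme S means a stack in groupoids for the
fppf topology with a smooth surjective atlas from a scheme, whose diagonal is representable by
separated quasi-compact morphisms of algebraic spaces and whose inertia is locally of finite
presentation over it. (The published statement is for an arbitrary stack; this row takes 𝒴
algebraic.) -/
theorem result
    (S : Scheme.{u}) [QuasiSeparatedSpace S]
    (𝒴 : AlgSt.Cat S)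
    (h𝒴 : AlgSt.IsAlgStack Scheme.fppfPrecoverage 𝒴)
    (h𝒴d : AlgSt.RepByAlgSpWith (AlgSp.IsSeparatedMor ⊓ AlgSp.IsQuasiCompactMor)
      (FibCat.diag (FibCat.toSelf 𝒴)))
    (h𝒴i : AlgSt.RepByAlgSpWith (AlgSp.LocP @LocallyOfFinitePresentation)
      (FibCat.inertiaToBase (FibCat.toSelf 𝒴)))
    (W : ∀ T : Over S, Set (IsoNat.IsoCl 𝒴 T))
    (hWpull : ∀ (T' T : Over S) (g : T' ⟶ T) (x' : 𝒴.p.Fiber T') (x : 𝒴.p.Fiber T) (a : x'.1 ⟶ x.1),
      𝒴.p.IsHomLift g a → IsoNat.cls x ∈ W T → IsoNat.cls x' ∈ W T')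
    (hWopen : ∀ (T : Over S) (x : 𝒴.p.Fiber T), ∃ V : T.left.Opens,
      ∀ (T' : Over S) (g : T' ⟶ T) (x' : 𝒴.p.Fiber T') (a : x'.1 ⟶ x.1), 𝒴.p.IsHomLift g a →
        (IsoNat.cls x' ∈ W T' ↔ ∃ g' : T'.left ⟶ ↑V, g' ≫ V.ι = g.left)) :
    AlgSt.IsOpenSubstack 𝒴 (fun η => IsoNat.cls (⟨η, rfl⟩ : 𝒴.p.Fiber (𝒴.p.obj η)) ∈ W (𝒴.p.obj η))
      Scheme.fppfPrecoverage := by
  exact main W hWpull hWopen h𝒴

end Groth.Agent.S15492
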