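import Groth.Statements.S15494
import Mathlib
-- import your own Groth.Agent.* helpers here

set_option autoImplicit false
universe u v
open Dieud

namespace Groth.Agent.S15494

/-- Let W be a commutative ring with a ring endomorphism σ, p a natural number, M a W-module and F an
additive self-map of M with F (w • m) = σ w • F m. Let d ≥ 1, c ≥ 1, h = d + c, and let e_1, …, e_h,
… be vectors of M on which F acts through a display matrix in normal form: F e_i = e_{i+1} for 1 ≤ i
< d; F e_d = Σ_{i=1}^{d} a_{i,d} e_i + e_{d+1}; F e_j = Σ_{i=1}^{d} p a_{i,j} e_i + p e_{j+1} for d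
< j < h; F e_h = Σ_{i=1}^{d} p a_{i,h} e_i. Then F^h e_1 = Σ_{i=1}^{d} Σ_{j=d}^{h} p^{j-d}
σ^{h-j}(a_{i,j}) F^{h+i-j-1} e_1. (The published statement is for the Dieudonné module of a
p-divisible group of dimension d and height h over the Witt ring of a field of characteristic p,
with σ the Frobenius and e_1, …, e_h a basis; this row keeps only the relations which the printed
computation uses, so W, σ, p and the vectors are arbitrary.) -/
theorem result
    (W : Type u) [CommRing W] (σ : W →+* W) (p : ℕ)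
    (M : Type v) [AddCommGroup M] [Module W M]
    (F : M →+ M) (hF : ∀ (w : W) (m : M), F (w • m) = σ w • F m)
    (d c : ℕ) (hd : 0 < d) (hc : 0 < c)
    (a : ℕ → ℕ → W) (e : ℕ → M)
    (h1 : ∀ i : ℕ, 1 ≤ i → i < d → F (e i) = e (i + 1))
    (h2 : F (e d) = (∑ i ∈ Finset.Icc 1 d, a i d • e i) + e (d + 1))
    (h3 : ∀ j : ℕ, d < j → j < d + c →
      F (e j) = (∑ i ∈ Finset.Icc 1 d, ((p : W) * a i j) • e i) + (p : W) • e (j + 1))
    (h4 : F (e (d + c)) = ∑ i ∈ Finset.Icc 1 d, ((p : W) * a i (d + c)) • e i) :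
    (⇑F)^[d + c] (e 1) = ∑ i ∈ Finset.Icc 1 d, ∑ j ∈ Finset.Icc d (d + c),
      ((p : W) ^ (j - d) * (⇑σ)^[d + c - j] (a i j)) • (⇑F)^[d + c + i - j - 1] (e 1) := by
  obtain ⟨c, rfl⟩ : ∃ c', c = c' + 1 := ⟨c - 1, by omega⟩
  have hσp : ∀ n : ℕ, σ ((p : W) ^ n) = (p : W) ^ n := by intro n; simp
  have hA : ∀ t, t < d → (⇑F)^[t] (e 1) = e (t + 1) := by
    intro t
    induction t with
    | zero => intro _; rfl
    | succ t ih =>
      intro ht
      rw [Function.iterate_succ_apply', ih (by omega), h1 (t+1) (by omega) (by omega)]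
  have hA' : ∀ i, 1 ≤ i → i ≤ d → e i = (⇑F)^[i - 1] (e 1) := by
    intro i hi hid
    rw [hA (i - 1) (by omega)]
    congr 1; omega
  set G : ℕ → M := fun t => ∑ i ∈ Finset.Icc 1 d, ∑ j ∈ Finset.Icc d (d + t),
      ((p : W) ^ (j - d) * (⇑σ)^[d + t - j] (a i j)) • (⇑F)^[d + t + i - j - 1] (e 1) with hG
  have hstep : ∀ t, F (G t) + ∑ i ∈ Finset.Icc 1 d, ((p : W) ^ (t + 1) * a i (d + t + 1)) • e i
      = G (t + 1) := by
    intro t
    simp only [hG]
    rw [map_sum, ← Finset.sum_add_distrib]
    refine Finset.sum_congr rfl fun i hi => ?_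
    rw [Finset.mem_Icc] at hi
    rw [show d + (t + 1) = (d + t) + 1 by ring, Finset.sum_Icc_succ_top (by omega : d ≤ d + t + 1)]
    congr 1
    · rw [map_sum]
      refine Finset.sum_congr rfl fun j hj => ?_
      rw [Finset.mem_Icc] at hj
      have e1 : d + t + 1 - j = (d + t - j) + 1 := by omega
      have e2 : d + t + 1 + i - j - 1 = (d + t + i - j - 1) + 1 := by omega
      rw [hF, map_mul, hσp, e1, e2, Function.iterate_succ_apply' (⇑F),
        Function.iterate_succ_apply' (⇑σ)]
    · have e1 : d + t + 1 - d = t + 1 := by omega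
      have e2 : d + t + 1 - (d + t + 1) = 0 := by omega
      have e3 : d + t + 1 + i - (d + t + 1) - 1 = i - 1 := by omega
      rw [e1, e2, e3, ← hA' i hi.1 hi.2]; rfl
  have hQ : ∀ t, t < c + 1 → (⇑F)^[d + t] (e 1) = G t + (p : W) ^ t • e (d + t + 1) := by
    intro t
    induction t with
    | zero =>
      intro _
      have h0 : (⇑F)^[d + 0] (e 1) = F ((⇑F)^[d - 1] (e 1)) := by
        rw [← Function.iterate_succ_apply' (⇑F) (d - 1) (e 1)]; congr 1
        simp only [Nat.succ_eq_add_one]; omega
      rw [h0, hA (d - 1) (by omega), show d - 1 + 1 = d by omega, h2]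
      simp only [hG, add_zero, Finset.Icc_self, Finset.sum_singleton, Nat.sub_self, pow_zero,
        one_mul, Function.iterate_zero, id, one_smul]
      congr 1
      refine Finset.sum_congr rfl fun i hi => ?_
      rw [Finset.mem_Icc] at hi
      rw [hA' i hi.1 hi.2]
      congr 2; omega
    | succ t ih =>
      intro ht
      rw [show d + (t + 1) = (d + t) + 1 by ring, Function.iterate_succ_apply', ih (by omega),
        map_add, hF, hσp, h3 (d + t + 1) (by omega) (by omega), smul_add, Finset.smul_sum,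
        ← add_assoc, ← hstep t]
      congr 1
      · congr 1
        refine Finset.sum_congr rfl fun i _ => ?_
        rw [smul_smul, pow_succ, mul_assoc]
      · rw [smul_smul, pow_succ]
  have hfin : (⇑F)^[d + (c + 1)] (e 1) = G (c + 1) := by
    have h0 : (⇑F)^[d + (c + 1)] (e 1) = F ((⇑F)^[d + c] (e 1)) :=
      Function.iterate_succ_apply' (⇑F) (d + c) (e 1)
    rw [h0, hQ c (by omega), map_add, hF, hσp, show d + c + 1 = d + (c + 1) by omega, h4,
      Finset.smul_sum, ← hstep c]
    congr 1
    refine Finset.sum_congr rfl fun i _ => ?_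
    rw [smul_smul, pow_succ, mul_assoc]
    rfl
  rw [hfin]

end Groth.Agent.S15494
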