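import Groth.Statements.S15495
import Mathlib
-- import your own Groth.Agent.* helpers here

set_option autoImplicit false
universe u
open CAlg

namespace Groth.Agent.S15495

/-- In an Artinian local ring R whose maximal ideal m contains the prime number p, the multiplicative
group 1 + m is annihilated under some power of p: there is n with (1 + x)^(p^n) = 1 for every x in
m. (The published text makes this assertion inside a proof, for Artinian local algebras over the
Witt ring of a perfect field of characteristic p; only p ∈ m and the nilpotence of m are used.) -/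
theorem result
    (R : Type u) [CommRing R] [IsLocalRing R] [IsArtinianRing R]
    (p : ℕ) (hp : p.Prime) (hpm : (p : R) ∈ IsLocalRing.maximalIdeal R) :
    ∃ n : ℕ, ∀ x ∈ IsLocalRing.maximalIdeal R, (1 + x) ^ (p ^ n) = 1 := by
  set m := IsLocalRing.maximalIdeal R with hm
  obtain ⟨N, hN⟩ : ∃ N : ℕ, m ^ N = ⊥ := by
    have h := IsArtinianRing.isNilpotent_jacobson_bot (R := R)
    rw [IsLocalRing.jacobson_eq_maximalIdeal _ bot_ne_top] at h
    exact h
  have step : ∀ k : ℕ, 1 ≤ k → ∀ x ∈ m ^ k, ∃ y ∈ m ^ (k + 1), (1 + x) ^ p = 1 + y := by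
    intro k hk x hx
    obtain ⟨r, hr⟩ := exists_add_pow_prime_eq hp (1 : R) x
    refine ⟨x ^ p + p * 1 * x * r, ?_, ?_⟩
    · apply Ideal.add_mem
      · have h2 : 2 ≤ p := hp.two_le
        have : x ^ p ∈ (m ^ k) ^ p := Ideal.pow_mem_pow hx p
        rw [← pow_mul] at this
        exact Ideal.pow_le_pow_right (by nlinarith) this
      · rw [pow_succ']
        have : (p : R) * 1 * x * r = (p : R) * (x * r) := by ring
        rw [this]
        exact Ideal.mul_mem_mul hpm (Ideal.mul_mem_right _ _ hx)
    · rw [hr]; ring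
  have main : ∀ n : ℕ, ∀ x ∈ m, ∃ y ∈ m ^ (n + 1), (1 + x) ^ (p ^ n) = 1 + y := by
    intro n
    induction n with
    | zero => intro x hx; exact ⟨x, by simpa using hx, by simp⟩
    | succ n ih =>
      intro x hx
      obtain ⟨y, hy, hy'⟩ := ih x hx
      obtain ⟨z, hz, hz'⟩ := step (n + 1) (by omega) y hy
      exact ⟨z, hz, by rw [pow_succ, pow_mul, hy', hz']⟩
  refine ⟨N, fun x hx => ?_⟩
  obtain ⟨y, hy, hy'⟩ := main N x hx
  have : y = 0 := by
    have h1 : m ^ (N + 1) ≤ m ^ N := Ideal.pow_le_pow_right (by omega)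
    have := h1 hy
    rw [hN] at this
    simpa using this
  rw [hy', this, add_zero]

end Groth.Agent.S15495
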