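import Groth.Statements.S15498
import Mathlib
-- import your own Groth.Agent.* helpers here

set_option autoImplicit false
open NewtonPoly

namespace Groth.Agent.S15498

/-- Let m, n ≥ 1 be coprime, h = m + n, δ the segment from (0,0) to (h,m) (the isoclinic Newton polygon
of slope m/h) and ρ the ordinary polygon with n slopes 0 followed with m slopes 1, so ρ(i) = max(0,
i − n). The integer points (i,j), 0 ≤ i ≤ h, on or above ρ and strictly below δ — that is max(0, i −
n) ≤ j and j·h < i·m — are (m−1)(n−1)/2 + (m+n−1) in number (which equals mn − r for r =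
(m−1)(n−1)/2). (The published text works under m ≥ n > 0 coprime; the inequality m ≥ n is not used
and not assumed.) -/
theorem result
    (m n : ℕ) (hm : 0 < m) (hn : 0 < n) (hmn : Nat.Coprime m n) :
    ((Finset.range (m + n + 1) ×ˢ Finset.range (m + 1)).filter
      (fun ij : ℕ × ℕ => ij.1 ≤ ij.2 + n ∧ ij.2 * (m + n) < ij.1 * m)).card
      = (m - 1) * (n - 1) / 2 + (m + n - 1) := by
  classical
  set S := (Finset.range (m + n + 1) ×ˢ Finset.range (m + 1)).filter
      (fun ij : ℕ × ℕ => ij.1 ≤ ij.2 + n ∧ ij.2 * (m + n) < ij.1 * m) with hS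
  set P := Finset.range (n + 1) ×ˢ Finset.range (m + 1) with hP
  set A := P.filter (fun ij : ℕ × ℕ => ij.2 * n < ij.1 * m) with hA
  set B := P.filter (fun ij : ℕ × ℕ => ij.1 * m < ij.2 * n) with hB
  set C := P.filter (fun ij : ℕ × ℕ => ij.2 * n = ij.1 * m) with hC
  have hSA : S.card = A.card := by
    refine Finset.card_nbij' (fun ij => (ij.1 - ij.2, ij.2)) (fun ij => (ij.1 + ij.2, ij.2))
      ?_ ?_ ?_ ?_
    · rintro ⟨i, j⟩ hij
      simp only [hS, hA, hP, Finset.coe_filter, Finset.mem_product, Finset.mem_range,
        Set.mem_setOf_eq] at hij ⊢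
      obtain ⟨⟨h1, h2⟩, h3, h4⟩ := hij
      have hji : j < i := by
        by_contra hcon
        rw [not_lt] at hcon
        have : i * m ≤ j * (m + n) := by nlinarith
        omega
      refine ⟨⟨by omega, h2⟩, ?_⟩
      obtain ⟨k, rfl⟩ := Nat.exists_eq_add_of_le hji.le
      simp only [Nat.add_sub_cancel_left]
      nlinarith
    · rintro ⟨i, j⟩ hij
      simp only [hS, hA, hP, Finset.coe_filter, Finset.mem_product, Finset.mem_range,
        Set.mem_setOf_eq] at hij ⊢
      obtain ⟨⟨h1, h2⟩, h3⟩ := hij
      refine ⟨⟨by omega, h2⟩, by omega, by nlinarith⟩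
    · rintro ⟨i, j⟩ hij
      simp only [hS, Finset.coe_filter, Finset.mem_product, Finset.mem_range,
        Set.mem_setOf_eq] at hij
      obtain ⟨⟨h1, h2⟩, h3, h4⟩ := hij
      have hji : j < i := by
        by_contra hcon
        rw [not_lt] at hcon
        have : i * m ≤ j * (m + n) := by nlinarith
        omega
      simp only [Prod.mk.injEq, and_true]
      omega
    · rintro ⟨i, j⟩ hij
      simp
  have hAB : A.card = B.card := by
    refine Finset.card_nbij' (fun ij => (n - ij.1, m - ij.2)) (fun ij => (n - ij.1, m - ij.2))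
      ?_ ?_ ?_ ?_
    · rintro ⟨i, j⟩ hij
      simp only [hA, hB, hP, Finset.coe_filter, Finset.mem_product, Finset.mem_range,
        Set.mem_setOf_eq] at hij ⊢
      obtain ⟨⟨h1, h2⟩, h3⟩ := hij
      refine ⟨⟨by omega, by omega⟩, ?_⟩
      obtain ⟨k, hk⟩ := Nat.exists_eq_add_of_le (Nat.lt_succ_iff.1 h1)
      obtain ⟨l, hl⟩ := Nat.exists_eq_add_of_le (Nat.lt_succ_iff.1 h2)
      have e1 : n - i = k := by omega
      have e2 : m - j = l := by omega
      rw [e1, e2]
      subst hk hl
      nlinarith
    · rintro ⟨i, j⟩ hij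
      simp only [hA, hB, hP, Finset.coe_filter, Finset.mem_product, Finset.mem_range,
        Set.mem_setOf_eq] at hij ⊢
      obtain ⟨⟨h1, h2⟩, h3⟩ := hij
      refine ⟨⟨by omega, by omega⟩, ?_⟩
      obtain ⟨k, hk⟩ := Nat.exists_eq_add_of_le (Nat.lt_succ_iff.1 h1)
      obtain ⟨l, hl⟩ := Nat.exists_eq_add_of_le (Nat.lt_succ_iff.1 h2)
      have e1 : n - i = k := by omega
      have e2 : m - j = l := by omega
      rw [e1, e2]
      subst hk hl
      nlinarith
    · rintro ⟨i, j⟩ hij
      simp only [hA, hP, Finset.coe_filter, Finset.mem_product, Finset.mem_range,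
        Set.mem_setOf_eq] at hij
      simp only [Prod.mk.injEq]
      omega
    · rintro ⟨i, j⟩ hij
      simp only [hB, hP, Finset.coe_filter, Finset.mem_product, Finset.mem_range,
        Set.mem_setOf_eq] at hij
      simp only [Prod.mk.injEq]
      omega
  have hsum : A.card + B.card + C.card = (n + 1) * (m + 1) := by
    have hPc : P.card = (n + 1) * (m + 1) := by
      simp [hP, Finset.card_product]
    rw [← hPc, hA, hB, hC, Finset.card_filter, Finset.card_filter, Finset.card_filter,
      ← Finset.sum_add_distrib, ← Finset.sum_add_distrib, Finset.card_eq_sum_ones]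
    refine Finset.sum_congr rfl fun x _ => ?_
    split_ifs <;> omega
  have hCc : C.card = 2 := by
    have : C = {((0 : ℕ), (0 : ℕ)), (n, m)} := by
      ext ⟨i, j⟩
      simp only [hC, hP, Finset.mem_filter, Finset.mem_product, Finset.mem_range,
        Finset.mem_insert, Finset.mem_singleton, Prod.mk.injEq]
      constructor
      · rintro ⟨⟨h1, h2⟩, h3⟩
        have hdvd : m ∣ j := by
          have : m ∣ j * n := ⟨i, by rw [h3, mul_comm]⟩
          exact hmn.dvd_of_dvd_mul_right this
        obtain ⟨k, rfl⟩ := hdvd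
        have hk : k ≤ 1 := by
          by_contra hk
          rw [not_le] at hk
          have : m * 2 ≤ m * k := Nat.mul_le_mul_left m hk
          omega
        interval_cases k
        · left
          simp only [mul_zero, zero_mul] at h3
          have : i = 0 := by
            rcases Nat.eq_zero_or_pos i with h | h
            · exact h
            · exfalso
              have : 0 < i * m := Nat.mul_pos h hm
              omega
          simp [this]
        · right
          simp only [mul_one] at h3 ⊢
          refine ⟨?_, trivial⟩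
          have : m * n = m * i := by rw [h3, mul_comm]
          exact (Nat.eq_of_mul_eq_mul_left hm this).symm
      · rintro (⟨rfl, rfl⟩ | ⟨rfl, rfl⟩)
        · simp
        · refine ⟨⟨by omega, by omega⟩, mul_comm _ _⟩
    rw [this, Finset.card_pair]
    simp only [ne_eq, Prod.mk.injEq, not_and]
    omega
  rw [hSA]
  obtain ⟨m', rfl⟩ : ∃ m', m = m' + 1 := ⟨m - 1, by omega⟩
  obtain ⟨n', rfl⟩ : ∃ n', n = n' + 1 := ⟨n - 1, by omega⟩
  simp only [Nat.add_sub_cancel]
  have h2 : 2 * A.card = m' * n' + 2 * (m' + n' + 1) := by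
    have : A.card + A.card + 2 = (n' + 1 + 1) * (m' + 1 + 1) := by rw [← hsum, ← hAB, hCc]
    nlinarith
  have : m' + 1 + (n' + 1) - 1 = m' + n' + 1 := by omega
  rw [this]
  omega

end Groth.Agent.S15498
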