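import Groth.Statements.S15499
import Groth.Agent.Lib.Helper47.HorrocksCover

set_option autoImplicit false
open Polynomial LaurentPolynomial
open scoped TensorProduct
universe u
open CAlg

namespace Groth.Agent.S15499

/-- Let S = Spec R be a smooth connected affine complex variety, so that R is a finitely generated
smooth ℂ-algebra and an integral domain, and let F be a locally free sheaf of finite rank on the
projective line over S, presented by its two standard charts: a finitely generated projective
R[X]-module P on the affine line over S, a finitely generated projective R[X]-module P' on the chart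
at infinity, and an identification of their base changes to R[X, X⁻¹] that is additive, bijective
and semilinear over the R-algebra involution X ↦ X⁻¹. Then S is covered by basic open sets D(g_1),
…, D(g_n) such that F restricted to the affine line over each D(g_i) is free: the localisation of P
at g_i is a free module over the localisation of R[X] at g_i. -/
theorem result
    (R : Type u) [CommRing R] [IsDomain R] [Algebra ℂ R] [Algebra.FiniteType ℂ R]
    [Algebra.Smooth ℂ R]
    (P : Type u) [AddCommGroup P] [Module R[X] P] [Module.Finite R[X] P]
    [Module.Projective R[X] P]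
    (P' : Type u) [AddCommGroup P'] [Module R[X] P'] [Module.Finite R[X] P']
    [Module.Projective R[X] P']
    (e : R[T;T⁻¹] ⊗[R[X]] P ≃+ R[T;T⁻¹] ⊗[R[X]] P')
    (he : ∀ (a : R[T;T⁻¹]) (m : R[T;T⁻¹] ⊗[R[X]] P),
      e (a • m) = LaurentPolynomial.invert a • e m) :
    ∃ (n : ℕ) (g : Fin n → R), Ideal.span (Set.range g) = ⊤ ∧
      ∀ i, Module.Free (Localization.Away (Polynomial.C (g i) : R[X]))
        (LocalizedModule (Submonoid.powers (Polynomial.C (g i) : R[X])) P) := by
  open Groth.Agent.Lib.Helper47.Horrocks in
  have : Module.Finite R (Fib R P') := (FibrePair.ofQuotient R P').finite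
  have : Module.Projective R (Fib R P') := (FibrePair.ofQuotient R P').projective
  have : Module.Finite R (Fib R P) := (FibrePair.ofQuotient R P).finite
  have : Module.Projective R (Fib R P) := (FibrePair.ofQuotient R P).projective
  obtain ⟨h, u, v, hh, h1, h2⟩ := exists_monic_isogeny_of_P1 (M := P) (N := P')
    e.toAddMonoidHom he e.bijective
  obtain ⟨ε⟩ := extended_of_monic_isogeny h hh u v h1 h2
  obtain ⟨n, g, hg, hfree⟩ := exists_cover_free_away (R := R) (Fib R P)
  refine ⟨n, g, hg, fun i => ?_⟩
  have := hfree i
  obtain ⟨m, u', v', k, h1', h2'⟩ := exists_isogeny_of_free_away (R := R) (Fib R P) (g i)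
  exact free_away_of_equiv (g i) u' v' k h1' h2' P ε.symm

end Groth.Agent.S15499
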