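import Groth.Statements.S15504
import Mathlib
-- import your own Groth.Agent.* helpers here

set_option autoImplicit false
universe u v
open FrobAlg

namespace Groth.Agent.S15504

open scoped nonZeroDivisors in
theorem artinian_of_torsion (W : Type u) [CommRing W] [IsDomain W] [IsNoetherianRing W]
    [Ring.KrullDimLE 1 W] (M : Type v) [AddCommGroup M] [Module W M] [Module.Finite W M]
    (hM : Module.IsTorsion W M) : IsArtinian W M := by
  obtain ⟨a, ha1, ha2⟩ := Submodule.annihilator_top_inter_nonZeroDivisors hM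
  have hfl : IsFiniteLength W (W ⧸ Ideal.span {a}) := isFiniteLength_quotient_span_singleton W ha2
  rw [isFiniteLength_iff_isNoetherian_isArtinian] at hfl
  haveI : IsArtinianRing (W ⧸ Ideal.span {a}) := isArtinian_of_tower W hfl.2
  have htors : Module.IsTorsionBySet W M (Ideal.span {a} : Ideal W) := by
    rw [Module.isTorsionBySet_iff_subseteq_ker_lsmul]
    intro b hb
    rw [SetLike.mem_coe, Ideal.mem_span_singleton'] at hb
    obtain ⟨c, rfl⟩ := hb
    rw [SetLike.mem_coe, LinearMap.mem_ker]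
    ext m
    have : a • m = 0 := by
      rw [SetLike.mem_coe, Submodule.mem_annihilator] at ha1
      exact ha1 m Submodule.mem_top
    simp [mul_smul, this]
  letI : Module (W ⧸ Ideal.span {a}) M := htors.module
  haveI : IsScalarTower W (W ⧸ Ideal.span {a}) M := htors.isScalarTower
  haveI : Module.Finite (W ⧸ Ideal.span {a}) M := Module.Finite.of_restrictScalars_finite W _ M
  haveI : IsArtinian (W ⧸ Ideal.span {a}) M := inferInstance
  exact isArtinian_of_surjective_algebraMap (R := W ⧸ Ideal.span {a}) Ideal.Quotient.mk_surjective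

theorem fitting (W : Type u) [CommRing W] (M : Type v) [AddCommGroup M] [Module W M]
    [IsNoetherian W M] [IsArtinian W M] (e : W ≃+* W)
    (φ : M →ₛₗ[(e : W →+* W)] M) :
    ∃ Ms Mn : Submodule W M, IsCompl Ms Mn ∧
      Set.MapsTo φ Ms Ms ∧ Set.MapsTo φ Mn Mn ∧ Set.BijOn φ Ms Ms ∧
      ∃ r : ℕ, ∀ x ∈ Mn, (⇑φ)^[r] x = 0 := by
  have hadd : ∀ (n : ℕ) (x y : M), (⇑φ)^[n] (x + y) = (⇑φ)^[n] x + (⇑φ)^[n] y := by
    intro n
    induction n with
    | zero => intro x y; rfl
    | succ n ih => intro x y; rw [Function.iterate_succ_apply', Function.iterate_succ_apply',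
        Function.iterate_succ_apply', ih, map_add]
  have hzero : ∀ n : ℕ, (⇑φ)^[n] 0 = 0 := by
    intro n
    induction n with
    | zero => rfl
    | succ n ih => rw [Function.iterate_succ_apply', ih, map_zero]
  have hsmul : ∀ (n : ℕ) (a : W) (x : M), (⇑φ)^[n] (a • x) = ((⇑e)^[n] a) • (⇑φ)^[n] x := by
    intro n
    induction n with
    | zero => intro a x; rfl
    | succ n ih => intro a x; rw [Function.iterate_succ_apply', ih, map_smulₛₗ,
        Function.iterate_succ_apply' (⇑e), Function.iterate_succ_apply' (⇑φ)]; rfl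
  have hneg : ∀ (n : ℕ) (x : M), (⇑φ)^[n] (-x) = -(⇑φ)^[n] x := by
    intro n x
    have := hadd n x (-x)
    rw [add_neg_cancel, hzero] at this
    exact (neg_eq_of_add_eq_zero_right this.symm).symm
  have hsub : ∀ (n : ℕ) (x y : M), (⇑φ)^[n] (x - y) = (⇑φ)^[n] x - (⇑φ)^[n] y := by
    intro n x y
    rw [sub_eq_add_neg, hadd, hneg, ← sub_eq_add_neg]
  have hesurj : ∀ (n : ℕ) (a : W), ∃ b : W, (⇑e)^[n] b = a := by
    intro n
    induction n with
    | zero => intro a; exact ⟨a, rfl⟩
    | succ n ih =>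
      intro a
      obtain ⟨b, hb⟩ := ih a
      exact ⟨e.symm b, by rw [Function.iterate_succ_apply, e.apply_symm_apply, hb]⟩
  let K : ℕ → Submodule W M := fun n =>
    { carrier := {x | (⇑φ)^[n] x = 0}
      add_mem' := by
        intro x y hx hy
        simp only [Set.mem_ofPred_eq] at hx hy ⊢
        rw [hadd, hx, hy, add_zero]
      zero_mem' := hzero n
      smul_mem' := by
        intro a x hx
        simp only [Set.mem_ofPred_eq] at hx ⊢
        rw [hsmul, hx, smul_zero] }
  let R : ℕ → Submodule W M := fun n =>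
    { carrier := Set.range ((⇑φ)^[n])
      add_mem' := by
        rintro _ _ ⟨x, rfl⟩ ⟨y, rfl⟩
        exact ⟨x + y, hadd n x y⟩
      zero_mem' := ⟨0, hzero n⟩
      smul_mem' := by
        rintro a _ ⟨x, rfl⟩
        obtain ⟨b, hb⟩ := hesurj n a
        exact ⟨b • x, by rw [hsmul, hb]⟩ }
  have hKmem : ∀ n x, x ∈ K n ↔ (⇑φ)^[n] x = 0 := fun n x => Iff.rfl
  have hRmem : ∀ n x, x ∈ R n ↔ ∃ y, (⇑φ)^[n] y = x := fun n x => Iff.rfl
  have hKmono : Monotone K := by
    apply monotone_nat_of_le_succ
    intro n x hx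
    rw [hKmem] at hx ⊢
    rw [Function.iterate_succ_apply', hx, map_zero]
  have hRanti : Antitone R := by
    apply antitone_nat_of_succ_le
    rintro n x ⟨y, rfl⟩
    exact ⟨φ y, by rw [← Function.iterate_succ_apply]⟩
  obtain ⟨n1, hn1⟩ := monotone_stabilizes_iff_noetherian.mpr (inferInstance : IsNoetherian W M)
    ⟨K, hKmono⟩
  obtain ⟨n2, hn2⟩ := IsArtinian.monotone_stabilizes (R := W) (M := M)
    ⟨fun n => OrderDual.toDual (R n), fun a b hab => hRanti hab⟩
  set N := max n1 n2 with hN
  have hK : ∀ m, N ≤ m → K m = K N := by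
    intro m hm
    have h1 := hn1 m (le_trans (le_max_left _ _) hm)
    have h2 := hn1 N (le_max_left _ _)
    exact h1.symm.trans h2
  have hR : ∀ m, N ≤ m → R m = R N := by
    intro m hm
    have h1 : R n2 = R m := hn2 m (le_trans (le_max_right _ _) hm)
    have h2 : R n2 = R N := hn2 N (le_max_right _ _)
    exact h1.symm.trans h2
  have hdisj : ∀ x, x ∈ R N → x ∈ K N → x = 0 := by
    rintro x ⟨y, rfl⟩ hx
    rw [hKmem, ← Function.iterate_add_apply] at hx
    have : y ∈ K (N + N) := hx
    rw [hK (N + N) (by omega)] at this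
    exact this
  refine ⟨R N, K N, ⟨?_, ?_⟩, ?_, ?_, ⟨?_, ?_, ?_⟩, N, fun x hx => hx⟩
  · rw [Submodule.disjoint_def]
    exact hdisj
  · rw [Submodule.codisjoint_iff_exists_add_eq]
    intro z
    have h1 : (⇑φ)^[N] z ∈ R N := ⟨z, rfl⟩
    rw [← hR (N + N) (by omega)] at h1
    obtain ⟨y, hy⟩ := h1
    refine ⟨(⇑φ)^[N] y, z - (⇑φ)^[N] y, ⟨y, rfl⟩, ?_, by abel⟩
    rw [hKmem, hsub, ← Function.iterate_add_apply, hy, sub_self]
  · rintro x ⟨y, rfl⟩
    exact ⟨φ y, by rw [← Function.iterate_succ_apply, Function.iterate_succ_apply']⟩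
  · intro x hx
    rw [SetLike.mem_coe, hKmem] at hx ⊢
    rw [← Function.iterate_succ_apply, Function.iterate_succ_apply', hx, map_zero]
  · rintro x ⟨y, rfl⟩
    exact ⟨φ y, by rw [← Function.iterate_succ_apply, Function.iterate_succ_apply']⟩
  · intro x hx x' hx' hxx'
    have hd : x - x' ∈ R N := Submodule.sub_mem _ hx hx'
    have hk : x - x' ∈ K N := by
      rw [← hK (N + 1) (by omega), hKmem, Function.iterate_succ_apply, map_sub, hxx', sub_self,
        hzero]
    exact sub_eq_zero.1 (hdisj _ hd hk)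
  · intro x hx
    have : x ∈ R (N + 1) := by rw [hR (N + 1) (by omega)]; exact hx
    obtain ⟨y, hy⟩ := this
    exact ⟨(⇑φ)^[N] y, ⟨y, rfl⟩, by rw [← hy, Function.iterate_succ_apply']⟩

/-- Let k be an algebraically closed field of characteristic p, W = W(k) the ring of p-typical Witt
vectors, M a finitely generated torsion W-module and φ a p⁻¹-linear endomorphism of M (additive,
with φ(a·m) = σ⁻¹(a)·φ(m) for the Frobenius automorphism σ of W). Then M = M_s ⊕ M_n for two
φ-stable submodules, with φ bijective on M_s and nilpotent on M_n (one iterate of φ kills M_n). -/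
theorem result (p : ℕ) [Fact p.Prime]
    (k : Type u) [Field k] [CharP k p] [IsAlgClosed k]
    (M : Type v) [AddCommGroup M] [Module (WittVector p k) M] [Module.Finite (WittVector p k) M]
    (hM : Module.IsTorsion (WittVector p k) M)
    (φ : M →ₛₗ[((WittVector.frobeniusEquiv p k).symm : WittVector p k →+* WittVector p k)] M) :
    ∃ Ms Mn : Submodule (WittVector p k) M, IsCompl Ms Mn ∧
      Set.MapsTo φ Ms Ms ∧ Set.MapsTo φ Mn Mn ∧ Set.BijOn φ Ms Ms ∧
      ∃ r : ℕ, ∀ x ∈ Mn, (⇑φ)^[r] x = 0 := by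
  haveI : IsArtinian (WittVector p k) M := artinian_of_torsion (WittVector p k) M hM
  exact fitting (WittVector p k) M (WittVector.frobeniusEquiv p k).symm φ

end Groth.Agent.S15504
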