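import Groth.Statements.S15505
import Mathlib
-- import your own Groth.Agent.* helpers here

set_option autoImplicit false
universe u v w
open FrobAlg

namespace Groth.Agent.S15505

open Polynomial in
theorem key (p : ℕ) [Fact p.Prime] (k : Type u) [Field k] [CharP k p] (x : k) (hx : x ^ p = x) :
    ∃ c : ZMod p, ZMod.castHom (dvd_refl p) k c = x := by
  classical
  have hp : p.Prime := Fact.out
  set f := ZMod.castHom (dvd_refl p) k with hf
  have hinj : Function.Injective f := f.injective
  let P : k[X] := X ^ p - X
  have hP : P ≠ 0 := FiniteField.X_pow_card_sub_X_ne_zero k hp.one_lt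
  have hdeg : P.natDegree = p := FiniteField.X_pow_card_sub_X_natDegree_eq k hp.one_lt
  have hsub : Finset.univ.image f ⊆ P.roots.toFinset := by
    intro y hy
    obtain ⟨c, -, rfl⟩ := Finset.mem_image.1 hy
    rw [Multiset.mem_toFinset, mem_roots hP]
    simp only [P, IsRoot.def, eval_sub, eval_pow, eval_X]
    rw [← map_pow, ZMod.pow_card, sub_self]
  have hcard : (Finset.univ.image f).card = p := by
    rw [Finset.card_image_of_injective _ hinj, Finset.card_univ, ZMod.card]
  have hle : P.roots.toFinset.card ≤ p :=
    (Multiset.toFinset_card_le _).trans ((Polynomial.card_roots' P).trans hdeg.le)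
  have heq := Finset.eq_of_subset_of_card_le hsub (by omega)
  have hmem : x ∈ P.roots.toFinset := by
    rw [Multiset.mem_toFinset, mem_roots hP]
    simp only [P, IsRoot.def, eval_sub, eval_pow, eval_X]
    rw [hx, sub_self]
  rw [← heq] at hmem
  obtain ⟨c, -, hc⟩ := Finset.mem_image.1 hmem
  exact ⟨c, hc⟩

/-- Let k be an algebraically closed field of characteristic p, V a k-vector space, φ a p⁻¹-linear
endomorphism of V (additive, φ(a·v) = a^{1/p}·φ(v)) and b a finite basis of V consisting of vectors
fixed by φ. Then the vectors fixed by φ are exactly the combinations of the b_i with coefficients in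
the prime field: v is fixed if and only if v = Σ c_i·b_i with all c_i in the image of ℤ/p. -/
theorem result (p : ℕ) [Fact p.Prime]
    (k : Type u) [Field k] [CharP k p] [IsAlgClosed k]
    (V : Type v) [AddCommGroup V] [Module k V]
    (φ : V →ₛₗ[((frobeniusEquiv k p).symm : k →+* k)] V)
    {ι : Type w} [Fintype ι] (b : Module.Basis ι k V) (hb : ∀ i, φ (b i) = b i) (v : V) :
    φ v = v ↔ ∃ c : ι → ZMod p, v = ∑ i, (ZMod.castHom (dvd_refl p) k (c i)) • b i := by
  classical
  have hφ : ∀ c : ι → k, φ (∑ i, c i • b i) = ∑ i, ((frobeniusEquiv k p).symm (c i)) • b i := by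
    intro c
    rw [map_sum]
    refine Finset.sum_congr rfl fun i _ => ?_
    rw [map_smulₛₗ, hb]
    rfl
  constructor
  · intro h
    have hv : v = ∑ i, b.repr v i • b i := (b.sum_repr v).symm
    have h1 : φ v = ∑ i, ((frobeniusEquiv k p).symm (b.repr v i)) • b i := by
      conv_lhs => rw [hv]
      exact hφ _
    rw [h] at h1
    have h2 : ∀ i, b.repr v i = (frobeniusEquiv k p).symm (b.repr v i) := by
      intro i
      have := congrArg (fun w => b.repr w i) h1
      simp only [Module.Basis.repr_sum_self] at this
      exact this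
    have h3 : ∀ i, (b.repr v i) ^ p = b.repr v i := by
      intro i
      conv_lhs => rw [h2 i]
      exact frobeniusEquiv_symm_pow_p k p _
    choose c hc using fun i => key p k (b.repr v i) (h3 i)
    refine ⟨c, ?_⟩
    conv_lhs => rw [hv]
    exact Finset.sum_congr rfl fun i _ => by rw [hc]
  · rintro ⟨c, rfl⟩
    rw [hφ]
    refine Finset.sum_congr rfl fun i _ => ?_
    congr 1
    have : (ZMod.castHom (dvd_refl p) k (c i)) = (ZMod.castHom (dvd_refl p) k (c i)) ^ p := by
      rw [← map_pow, ZMod.pow_card]
    conv_lhs => rw [this]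
    exact frobeniusEquiv_symm_pow k p _

end Groth.Agent.S15505
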