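import Groth.Statements.S15506
import Mathlib

set_option autoImplicit false
set_option linter.style.haveILetI false
universe u
open CategoryTheory AlgebraicGeometry
open EtBase

namespace Groth.Agent.S15506

open CategoryTheory.Limits TopologicalSpace Opposite

/-- An element of an extension of an algebraically closed field which is integral lies in it. -/
lemma exists_algebraMap_eq_of_isIntegral {K Ω : Type u} [Field K] [Field Ω] [Algebra K Ω]
    [IsAlgClosed K] (x : Ω) (hx : IsIntegral K x) : ∃ a : K, algebraMap K Ω a = x := by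
  have hb := IsAlgClosed.algebraMap_bijective_of_isIntegral (k := K) (K := integralClosure K Ω)
  obtain ⟨a, ha⟩ := hb.2 ⟨x, hx⟩
  exact ⟨a, congr($(ha).1)⟩

/-- `Spec` of a field extension is an epimorphism of schemes. -/
lemma epi_SpecMap_field {K Ω : Type u} [Field K] [Field Ω] [Algebra K Ω] :
    Epi (Spec.map (CommRingCat.ofHom (algebraMap K Ω))) := by
  haveI : Flat (Spec.map (CommRingCat.ofHom (algebraMap K Ω))) := by
    rw [Flat.SpecMap_iff]
    change (algebraMap K Ω).Flat
    rw [RingHom.flat_algebraMap_iff]
    infer_instance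
  haveI : Surjective (Spec.map (CommRingCat.ofHom (algebraMap K Ω))) := by
    refine ⟨fun x => ⟨⟨⊥, Ideal.isPrime_bot⟩, ?_⟩⟩
    exact Subsingleton.elim (α := PrimeSpectrum K) _ _
  exact Flat.epi_of_flat_of_surjective _

/-- Ring-level factorization. -/
lemma exists_factor {k K Ω R : Type u} [Field k] [Field K] [Field Ω] [CommRing R] [Algebra k K]
    [IsAlgClosed K] [Algebra K Ω] [Algebra k Ω] [IsScalarTower k K Ω]
    (α : k →+* R) (hα : α.Etale) (χ : R →+* Ω) (hχ : χ.comp α = algebraMap k Ω) :
    ∃ ψ : R →+* K, (algebraMap K Ω).comp ψ = χ ∧ ψ.comp α = algebraMap k K := by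
  letI := α.toAlgebra
  haveI : Algebra.Etale k R := hα
  haveI : Module.Finite k R := Algebra.FormallyUnramified.finite_of_free k R
  let χ' : R →ₐ[k] Ω := { χ with commutes' := fun x => congr($(hχ) x) }
  have hmem : ∀ r : R, χ r ∈ (algebraMap K Ω).range := by
    intro r
    have h1 : IsIntegral k r := Algebra.IsIntegral.isIntegral r
    have h2 : IsIntegral k (χ' r) := h1.map χ'
    have h3 : IsIntegral K (χ r) := h2.tower_top
    obtain ⟨a, ha⟩ := exists_algebraMap_eq_of_isIntegral (χ r) h3
    exact ⟨a, ha⟩
  let e : K ≃+* (algebraMap K Ω).range :=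
    RingEquiv.ofBijective (algebraMap K Ω).rangeRestrict
      ⟨fun a b hab => (algebraMap K Ω).injective congr($(hab).1),
        (algebraMap K Ω).rangeRestrict_surjective⟩
  let ψ : R →+* K := e.symm.toRingHom.comp (χ.codRestrict (algebraMap K Ω).range hmem)
  have hψ : ∀ r, algebraMap K Ω (ψ r) = χ r := by
    intro r
    have : e (ψ r) = χ.codRestrict (algebraMap K Ω).range hmem r := e.apply_symm_apply _
    exact congr($(this).1)
  refine ⟨ψ, RingHom.ext hψ, ?_⟩
  ext x
  apply (algebraMap K Ω).injective
  rw [RingHom.comp_apply, hψ, ← IsScalarTower.algebraMap_apply]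
  exact congr($(hχ) x)


/-- Let k be a field, K an algebraic closure of k (an algebraically closed field algebraic over k), Ω a
field containing K, and Z a scheme étale over Spec k. Composition with Spec Ω → Spec K is a
bijection from the k-morphisms Spec K → Z onto the k-morphisms Spec Ω → Z: two k-morphisms Spec K →
Z that agree on Spec Ω are equal, and every k-morphism Spec Ω → Z factors through Spec K. (The
published statement is the case where k has characteristic zero with a chosen embedding of its
algebraic closure into the complex numbers, Ω = ℂ, and Z is the scheme of isomorphisms between two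
K3 surfaces over k, known there to be étale over k; this row states the fact about an arbitrary
étale k-scheme that the argument establishes.) -/
theorem result
    (k K Ω : Type u) [Field k] [Field K] [Field Ω] [Algebra k K] [IsAlgClosed K] [Algebra.IsAlgebraic k K]
    [Algebra K Ω] [Algebra k Ω] [IsScalarTower k K Ω]
    (Z : Scheme.{u}) (f : Z ⟶ Spec (CommRingCat.of k)) [AlgebraicGeometry.Etale f] :
    (∀ g₁ g₂ : Spec (CommRingCat.of K) ⟶ Z,
        g₁ ≫ f = Spec.map (CommRingCat.ofHom (algebraMap k K)) →
        g₂ ≫ f = Spec.map (CommRingCat.ofHom (algebraMap k K)) →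
        Spec.map (CommRingCat.ofHom (algebraMap K Ω)) ≫ g₁ = Spec.map (CommRingCat.ofHom (algebraMap K Ω)) ≫ g₂ →
        g₁ = g₂) ∧
    (∀ h : Spec (CommRingCat.of Ω) ⟶ Z, h ≫ f = Spec.map (CommRingCat.ofHom (algebraMap k Ω)) →
        ∃ g : Spec (CommRingCat.of K) ⟶ Z, g ≫ f = Spec.map (CommRingCat.ofHom (algebraMap k K)) ∧
          Spec.map (CommRingCat.ofHom (algebraMap K Ω)) ≫ g = h) := by
  constructor
  · intro g₁ g₂ _ _ h
    haveI := epi_SpecMap_field (K := K) (Ω := Ω)
    exact (cancel_epi _).mp h
  · intro h hh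
    let p₀ : Spec (CommRingCat.of Ω) := ⟨⊥, Ideal.isPrime_bot⟩
    obtain ⟨R, j, hj, y, hy⟩ := Scheme.exists_Spec_apply_eq (h.base p₀)
    have hr : Set.range h.base ⊆ Set.range j.base := by
      rintro _ ⟨p, rfl⟩
      have : p = p₀ := Subsingleton.elim (α := PrimeSpectrum Ω) _ _
      rw [this]
      exact ⟨y, hy⟩
    let h' : Spec (CommRingCat.of Ω) ⟶ Spec R := IsOpenImmersion.lift j h hr
    have hh' : h' ≫ j = h := IsOpenImmersion.lift_fac j h hr
    let α : CommRingCat.of k ⟶ R := Spec.preimage (j ≫ f)
    have hα : Spec.map α = j ≫ f := Spec.map_preimage _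
    let χ : R ⟶ CommRingCat.of Ω := Spec.preimage h'
    have hχ : Spec.map χ = h' := Spec.map_preimage _
    have hαet : α.hom.Etale := by
      haveI : Etale (Spec.map α) := by rw [hα]; infer_instance
      exact (HasRingHomProperty.Spec_iff (P := @Etale)).mp inferInstance
    have hcomp : α ≫ χ = CommRingCat.ofHom (algebraMap k Ω) := by
      apply Spec.map_injective
      rw [Spec.map_comp, hχ, hα, ← Category.assoc, hh', hh]
    have hcomp' : χ.hom.comp α.hom = algebraMap k Ω := congr($(hcomp).hom)
    obtain ⟨ψ, hψ1, hψ2⟩ := exists_factor (K := K) α.hom hαet χ.hom hcomp'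
    refine ⟨Spec.map (CommRingCat.ofHom ψ) ≫ j, ?_, ?_⟩
    · rw [Category.assoc, ← hα, ← Spec.map_comp]
      congr 1
      ext x
      exact congr($(hψ2) x)
    · rw [← Category.assoc, ← Spec.map_comp, ← hh', ← hχ]
      congr 2
      ext x
      exact congr($(hψ1) x)

end Groth.Agent.S15506
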