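import Groth.Statements.S15512
import Groth.Agent.Lib.Helper76.RegularLocalExt
import Mathlib.RingTheory.LocalProperties.ProjectiveDimension
import Mathlib.RingTheory.Ideal.Height

set_option autoImplicit false
universe u
open CategoryTheory
open CAlg

namespace Groth.Agent.S15512

theorem exists_exact_pd_of_lt (A : Type u) [CommRing A] (M : ModuleCat.{u} A)
    (hM : ¬ Limits.IsZero M) (D : ℕ) (h : HasProjectiveDimensionLT M D) :
    ∃ e : ℕ, e + 1 ≤ D ∧ HasProjectiveDimensionLT M (e + 1) ∧ ¬ HasProjectiveDimensionLT M e := by
  classical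
  have hex : ∃ n, HasProjectiveDimensionLT M n := ⟨D, h⟩
  have hmin : ∀ {m : ℕ}, m < Nat.find hex → ¬ HasProjectiveDimensionLT M m := fun hm => Nat.find_min hex hm
  have hspec := Nat.find_spec hex
  have hle : Nat.find hex ≤ D := Nat.find_min' hex h
  have hpos : Nat.find hex ≠ 0 := by
    intro h0
    rw [h0] at hspec
    exact hM (isZero_of_hasProjectiveDimensionLT_zero M)
  obtain ⟨e, he⟩ := Nat.exists_eq_succ_of_ne_zero hpos
  refine ⟨e, by omega, ?_, ?_⟩
  · rw [← Nat.succ_eq_add_one, ← he]; exact hspec
  · exact hmin (by omega)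

/-- Let A be a Noetherian ring which is regular (its localization at every maximal ideal is a regular
local ring) and of finite Krull dimension, M a finitely generated A-module and d a natural number.
If Ext^i_A(M, A) vanishes for every i > d, then the projective dimension of M is at most d. -/
theorem result (A : Type u) [CommRing A]
    [IsNoetherianRing A] (hreg : ∀ m : MaximalSpectrum A, IsRegularLocalRing (Localization.AtPrime m.asIdeal))
    (hdim : ringKrullDim A < ⊤) (M : Type u) [AddCommGroup M] [Module A M] [Module.Finite A M] (d : ℕ)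
    (h : ∀ i : ℕ, d < i → Subsingleton (Abelian.Ext (ModuleCat.of A M) (ModuleCat.of A A) i)) :
    HasProjectiveDimensionLT (ModuleCat.of A M) (d + 1) := by
  by_cases hM : Limits.IsZero (ModuleCat.of A M)
  · have := hM.hasProjectiveDimensionLT_zero
    exact hasProjectiveDimensionLT_of_ge _ 0 (d + 1) (Nat.zero_le _)
  -- a natural-number bound on the dimension
  obtain ⟨D, hD⟩ : ∃ D : ℕ, ringKrullDim A ≤ D := by
    cases hA : ringKrullDim A with
    | bot => exact ⟨0, bot_le⟩
    | coe a =>
      cases a with
      | top => rw [hA] at hdim; exact absurd hdim (lt_irrefl _)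
      | coe n => exact ⟨n, le_rfl⟩
  have hglob : HasProjectiveDimensionLE (ModuleCat.of A M) D := by
    rw [ModuleCat.hasProjectiveDimensionLE_iff_forall_maximalSpectrum]
    intro m
    have := hreg m
    obtain ⟨dm, hdm⟩ : ∃ dm : ℕ, ringKrullDim (Localization.AtPrime m.asIdeal) = dm := by
      have hd' : ringKrullDim (Localization.AtPrime m.asIdeal) ≠ ⊥ := ringKrullDim_ne_bot
      have hd'' : ringKrullDim (Localization.AtPrime m.asIdeal) ≠ ⊤ := ringKrullDim_ne_top
      cases h : ringKrullDim (Localization.AtPrime m.asIdeal) with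
      | bot => exact absurd h hd'
      | coe a =>
        cases a with
        | top => exact absurd h hd''
        | coe n => exact ⟨n, rfl⟩
    have hle : dm ≤ D := by
      have h1 : ringKrullDim (Localization.AtPrime m.asIdeal) ≤ ringKrullDim A := by
        rw [IsLocalization.AtPrime.ringKrullDim_eq_height m.asIdeal]
        exact Ideal.height_le_ringKrullDim_of_ne_top Ideal.IsPrime.ne_top'
      rw [hdm] at h1
      exact_mod_cast h1.trans hD
    have h2 := Groth.Agent.Lib.Helper76.hasProjectiveDimensionLT_of_isRegularLocalRing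
      (Localization.AtPrime m.asIdeal) dm hdm
      (Shrink.{u} (LocalizedModule m.asIdeal.primeCompl M))
    have h3 : HasProjectiveDimensionLT
        ((ModuleCat.of A M).localizedModule m.asIdeal.primeCompl) (dm + 1) := h2
    exact @hasProjectiveDimensionLT_of_ge _ _ _ _ (dm + 1) (D + 1) (by omega) h3
  obtain ⟨e, -, he1, he2⟩ := exists_exact_pd_of_lt A (ModuleCat.of A M) hM (D + 1) hglob
  have hnt := Groth.Agent.Lib.Helper76.ext_self_nontrivial_of_projectiveDimension M e he1 he2
  have heq : e ≤ d := by
    by_contra hlt
    push Not at hlt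
    have := h e hlt
    exact not_subsingleton _ this
  exact hasProjectiveDimensionLT_of_ge _ (e + 1) (d + 1) (by omega)

end Groth.Agent.S15512
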