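import Groth.Statements.S15514
import Groth.Agent.Lib.Helper26.SheafHomDual6
import Groth.Agent.Lib.Helper4.ExtAdj
import Groth.Agent.Lib.Helper12.FlatBridge
import Groth.Agent.Lib.Helper2.DCohFlat

set_option autoImplicit false
universe u
open CategoryTheory CategoryTheory.Limits AlgebraicGeometry
open Coherent

namespace Groth.Agent.S15514


section Aux
open Groth.Agent.Lib.Helper26 Groth.Agent.Lib.Helper26.SheafHomDual Groth.Agent.Lib.Helper26.ProjFormula Scheme.Modules

theorem main {X : Scheme.{u}} (E : X.Modules)
    (hE : FlatMod.IsFinLocFree E) (F G : X.Modules) [ModSite.HasSheafHom (O := X.sheaf) E]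
    [HasExt.{u} X.Modules] (i : ℕ) :
    Nonempty (Abelian.Ext ((tR E).obj F) G i ≃+ Abelian.Ext F ((tR (dual E)).obj G) i) := by
  have hei := QCohRpush.enoughInjectives_modules X
  let adj' : tR E ⊣ tR (dual E) := (adjE E).ofNatIsoRight (deltaIso E hE).symm
  have hl := preservesFiniteLimits_tR_dual E hE
  have hc := preservesFiniteColimits_tR (dual E)
  have hflat : PreservesFiniteLimits (tR E) ∧ PreservesFiniteColimits (tR E) :=
    Groth.Agent.Lib.Helper12.FlatBridge.isFlat_of_flatMod E
      (Groth.Agent.Lib.Helper2.DCohFlat.isFlat_of_isFinLocFree E hE)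
  have hm : (tR E).PreservesMonomorphisms := by
    have := hflat.1
    infer_instance
  have hinj : ∀ I : X.Modules, Injective I → Injective ((tR (dual E)).obj I) := by
    intro I hI
    exact Injective.injective_of_adjoint adj' I
  exact ⟨Groth.Agent.Lib.Helper4.ExtAdj.ΘEquiv adj' hinj F G i⟩
end Aux



/-- Let X be a scheme, E a finite locally free O_X-module with dual E^∨ = Hom_{O_X}(E, O_X), and F, G
arbitrary O_X-modules. Then for every i the group Ext^i_{O_X}(F ⊗ E, G), computed in the category of
all O_X-modules, is isomorphic to Ext^i_{O_X}(F, G ⊗ E^∨). (Existence of an additive isomorphism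
only; the published identification is the natural one, and the published statement is for an
arbitrary ringed space. The published statement says only that E is locally free; finite rank, which
its proof uses, is assumed here. The internal Hom functor of E and the Ext groups of O_X-modules are
the stated instance hypotheses, both true.) -/
theorem result (X : Scheme.{u}) (E : X.Modules)
    (hE : FlatMod.IsFinLocFree E) (F G : X.Modules) [ModSite.HasSheafHom (O := X.sheaf) E]
    [HasExt.{u} X.Modules] (i : ℕ) :
    Nonempty (Abelian.Ext (CohB1.tensorMod F E) G i ≃+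
      Abelian.Ext F (CohB1.tensorMod G ((ModSite.sheafHom (O := X.sheaf) E).obj (Coh.structureModule X))) i) := by
  exact main E hE F G i

end Groth.Agent.S15514
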