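import Groth.Statements.S15520
import Groth.Agent.Lib.Helper68.FrameLoc
import Groth.Agent.Lib.Helper68.LeraySite

set_option autoImplicit false
universe u
open CategoryTheory CategoryTheory.Limits AlgebraicGeometry
open Coherent

namespace Groth.Agent.S15520

/-- Let X be a scheme, F and G O_X-modules, and E_• → F → 0 a resolution of F whose terms E_i are finite
locally free O_X-modules: E is a chain complex indexed by the natural numbers with an augmentation π
: E_0 → F such that E is exact in every positive degree and E_1 → E_0 → F → 0 is exact. Let C be the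
cochain complex Hom_{O_X}(E_•, G), given with identifications C^i ≅ Hom_{O_X}(E_i, G) under which
its differentials are the maps induced by the differentials of E (contravariant functoriality of the
internal Hom). Then for every i the i-th cohomology object of C is isomorphic to the Ext sheaf
Ext^i_{O_X}(F, G), the i-th right derived functor of the internal Hom functor Hom(F, -) evaluated at
G. (Existence of an isomorphism of O_X-modules only; the published statement is for a ringed space.
The internal Hom functors and injective resolutions are the stated instance hypotheses, all true.) -/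
theorem result (X : Scheme.{u}) (F G : X.Modules)
    (E : ChainComplex X.Modules ℕ) (π : E.X 0 ⟶ F) [Epi π] (hπ : E.d 1 0 ≫ π = 0)
    (hex0 : (ShortComplex.mk (E.d 1 0) π hπ).Exact) (hex : ∀ j : ℕ, E.ExactAt (j + 1))
    (hE : ∀ j : ℕ, FlatMod.IsFinLocFree (E.X j))
    [∀ j : ℕ, ModSite.HasSheafHom (O := X.sheaf) (E.X j)] [ModSite.HasSheafHom (O := X.sheaf) F]
    [HasInjectiveResolutions (ModSite.Mod X.sheaf)]
    (C : CochainComplex X.Modules ℕ) (e : ∀ j : ℕ, C.X j ≅ (ModSite.sheafHom (O := X.sheaf) (E.X j)).obj G)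
    (hC : ∀ j : ℕ, C.d j (j + 1) ≫ (e (j + 1)).hom =
      (e j).hom ≫ (ExtSupp.sheafHomMap (O := X.sheaf) (E.d (j + 1) j)).app G)
    (i : ℕ) :
    Nonempty (C.homology i ≅ (ModSite.extSh (O := X.sheaf) F i).obj G) := by
  let P := Scheme.Modules.pushforwardId X
  have hAdd : ∀ (M : ModSite.Mod X.sheaf) [ModSite.HasSheafHom (O := X.sheaf) M],
      (Groth.Agent.Lib.Helper68.RelExt2.T (𝟙 X) M).Additive := fun M _ => Groth.Agent.Lib.Helper68.RelExt2.additive_T (𝟙 X) M
  have hAdd' : ∀ (M : ModSite.Mod X.sheaf) [ModSite.HasSheafHom (O := X.sheaf) M],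
      (ModSite.sheafHom (O := X.sheaf) M).Additive := fun M _ =>
    (ModSite.sheafHomAdj (O := X.sheaf) M).right_adjoint_additive
  let θ : ∀ (M : ModSite.Mod X.sheaf) [ModSite.HasSheafHom (O := X.sheaf) M],
      Groth.Agent.Lib.Helper68.RelExt2.T (𝟙 X) M ≅ ModSite.sheafHom (O := X.sheaf) M := fun M _ =>
    Functor.isoWhiskerLeft (ModSite.sheafHom (O := X.sheaf) M) P ≪≫ Functor.rightUnitor _
  haveI : ∀ j : ℕ, (Groth.Agent.Lib.Helper68.RelExt2.T (𝟙 X) (E.X j)).Additive := fun j => hAdd _
  haveI : (Groth.Agent.Lib.Helper68.RelExt2.T (𝟙 X) F).Additive := hAdd _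
  haveI : ∀ j : ℕ, (ModSite.sheafHom (O := X.sheaf) (E.X j)).Additive := fun j => hAdd' _
  haveI : (ModSite.sheafHom (O := X.sheaf) F).Additive := hAdd' _
  have hL : ∀ (j : ℕ) (p : ℕ), 1 ≤ p →
      IsZero (((Groth.Agent.Lib.Helper68.RelExt2.T (𝟙 X) (E.X j)).rightDerived p).obj G) := by
    intro j p hp
    obtain ⟨q, rfl⟩ : ∃ q, p = q + 1 := ⟨p - 1, by lia⟩
    exact (Groth.Agent.Lib.Helper68.FrameLoc.isZero_extSh_succ_of_isFinLocFree (E.X j) (hE j) q G).of_iso
      ((@Groth.Agent.Lib.Helper68.LeraySite.rightDerivedIsoOfIso (ModSite.Mod X.sheaf) X.Modules _ _ _ _ _ _ _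
        (hAdd _) (hAdd' _) (θ (E.X j)) (q + 1)).app G)
  let e' : ∀ j : ℕ, C.X j ≅ (Scheme.Modules.pushforward (𝟙 X)).obj
      ((ModSite.sheafHom (O := X.sheaf) (E.X j)).obj G) := fun j => e j ≪≫ (P.app _).symm
  have hC' : ∀ j : ℕ, C.d j (j + 1) ≫ (e' (j + 1)).hom =
      (e' j).hom ≫ (Scheme.Modules.pushforward (𝟙 X)).map
        ((ExtSupp.sheafHomMap (O := X.sheaf) (E.d (j + 1) j)).app G) := by
    intro j
    change C.d j (j + 1) ≫ (e (j + 1)).hom ≫ P.inv.app _ =
      ((e j).hom ≫ P.inv.app _) ≫ _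
    rw [← Category.assoc, hC j, Category.assoc, Category.assoc]
    congr 1
  haveI hEpi : Epi (C := ModSite.Mod X.sheaf) π := ‹Epi π›
  obtain ⟨a⟩ := Groth.Agent.Lib.Helper68.RelExt2.nonempty_homology_iso_of_resolution (𝟙 X) F G E π hπ hex0 hex hL C e' hC' i
  exact ⟨a ≪≫ (@Groth.Agent.Lib.Helper68.LeraySite.rightDerivedIsoOfIso (ModSite.Mod X.sheaf) X.Modules _ _ _ _ _ _ _
        (hAdd _) (hAdd' _) (θ F) i).app G⟩

end Groth.Agent.S15520
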