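import Groth.Statements.S15524
import Mathlib

set_option autoImplicit false
open Finset
open Zeta

namespace Groth.Agent.S15524
open Filter Topology

theorem strictMono_add_le {φ : ℕ → ℕ} (hφ : StrictMono φ) (a k : ℕ) : φ a + k ≤ φ (a + k) := by
  induction k with
  | zero => simp
  | succ k ih =>
    have := hφ (show a + k < a + (k + 1) by omega)
    omega

theorem norm_le_one_of_bounded {n : ℕ} (β : Fin n → ℂ) (C : ℝ)
    (h : ∀ N : ℕ, 1 ≤ N → ‖∑ i, β i ^ N‖ ≤ C) (i : Fin n) : ‖β i‖ ≤ 1 := by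
  by_contra hi
  push Not at hi
  set r := ‖β i‖ with hr
  -- unit vectors
  set u : Fin n → ℂ := fun j => if β j = 0 then 1 else β j / (‖β j‖ : ℂ) with hu
  have hu1 : ∀ j, ‖u j‖ = 1 := by
    intro j
    simp only [hu]
    split_ifs with h0
    · simp
    · rw [norm_div, Complex.norm_real, norm_norm, div_self (norm_ne_zero_iff.mpr h0)]
  have hβ : ∀ j (N : ℕ), 1 ≤ N → β j ^ N = ((‖β j‖ ^ N : ℝ) : ℂ) * u j ^ N := by
    intro j N hN
    simp only [hu]
    split_ifs with h0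
    · rw [h0, zero_pow (by omega), norm_zero, zero_pow (by omega)]; simp
    · rw [Complex.ofReal_pow, ← mul_pow, mul_div_cancel₀]
      exact Complex.ofReal_ne_zero.mpr (norm_ne_zero_iff.mpr h0)
  -- compactness
  let x : ℕ → (Fin n → ℂ) := fun k j => u j ^ k
  have hx : ∀ k, x k ∈ Metric.closedBall (0 : Fin n → ℂ) 1 := by
    intro k
    rw [mem_closedBall_zero_iff, pi_norm_le_iff_of_nonneg zero_le_one]
    intro j
    simp [x, hu1]
  obtain ⟨a, -, φ, hφ, hlim⟩ := (isCompact_closedBall (0 : Fin n → ℂ) 1).tendsto_subseq hx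
  obtain ⟨J, hJ⟩ := (Metric.tendsto_atTop.mp hlim) (1 / 4) (by norm_num)
  -- growth
  have hgrow : Tendsto (fun N : ℕ => r ^ N) atTop atTop := tendsto_pow_atTop_atTop_of_one_lt hi
  obtain ⟨N₀, hN₀⟩ := (hgrow.eventually (eventually_gt_atTop (2 * C))).exists_forall_of_atTop
  set N := φ (J + (N₀ + 1)) - φ J with hN
  have hNle : φ J + (N₀ + 1) ≤ φ (J + (N₀ + 1)) := strictMono_add_le hφ J (N₀ + 1)
  have hN1 : 1 ≤ N := by omega
  have hNN₀ : N₀ ≤ N := by omega
  have hφsum : φ (J + (N₀ + 1)) = φ J + N := by omega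
  have hclose : ∀ l, ‖u l ^ N - 1‖ < 1 / 2 := by
    intro l
    have h1 : dist (x (φ (J + (N₀ + 1)))) (x (φ J)) < 1 / 2 := by
      have d1 := hJ (J + (N₀ + 1)) (by omega)
      have d2 := hJ J le_rfl
      calc dist (x (φ (J + (N₀ + 1)))) (x (φ J))
          ≤ dist (x (φ (J + (N₀ + 1)))) a + dist (x (φ J)) a := dist_triangle_right _ _ _
        _ < 1 / 4 + 1 / 4 := add_lt_add d1 d2
        _ = 1 / 2 := by norm_num
    have h2 : dist (x (φ (J + (N₀ + 1))) l) (x (φ J) l) ≤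
        dist (x (φ (J + (N₀ + 1)))) (x (φ J)) := dist_le_pi_dist _ _ l
    have h3 : x (φ (J + (N₀ + 1))) l - x (φ J) l = u l ^ φ J * (u l ^ N - 1) := by
      simp only [x]; rw [hφsum, pow_add]; ring
    rw [dist_eq_norm, h3, norm_mul, norm_pow, hu1, one_pow, one_mul] at h2
    exact lt_of_le_of_lt h2 h1
  have hre : ∀ l, 1 / 2 ≤ (u l ^ N).re := by
    intro l
    have h1 : |(u l ^ N - 1).re| ≤ ‖u l ^ N - 1‖ := Complex.abs_re_le_norm _
    have h2 := hclose l
    have h3 : (u l ^ N - 1).re = (u l ^ N).re - 1 := by simp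
    rw [h3] at h1
    have := abs_le.mp h1
    linarith [this.1]
  have hsum : r ^ N / 2 ≤ (∑ l, β l ^ N).re := by
    rw [Complex.re_sum]
    have hterm : ∀ l, ‖β l‖ ^ N / 2 ≤ (β l ^ N).re := by
      intro l
      rw [hβ l N hN1, Complex.re_ofReal_mul]
      have := hre l
      have hp : 0 ≤ ‖β l‖ ^ N := by positivity
      nlinarith
    calc r ^ N / 2 = ∑ l ∈ ({i} : Finset (Fin n)), ‖β l‖ ^ N / 2 := by simp [hr]
      _ ≤ ∑ l, ‖β l‖ ^ N / 2 := by
        apply Finset.sum_le_sum_of_subset_of_nonneg (Finset.subset_univ _)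
        intro l _ _; positivity
      _ ≤ ∑ l, (β l ^ N).re := Finset.sum_le_sum fun l _ => hterm l
  have h4 := h N hN1
  have h5 : (∑ l, β l ^ N).re ≤ ‖∑ l, β l ^ N‖ := Complex.re_le_norm _
  have h6 := hN₀ N hNN₀
  linarith


theorem main {g : ℕ} (q : ℕ) (hq : 0 < q)
    (α : Fin (2 * g) → ℂ) (σ : Equiv.Perm (Fin (2 * g))) (hσ : ∀ i, α (σ i) * α i = q)
    (d : ℕ) (hd : 0 < d) (C : ℝ)
    (hC : ∀ N : ℕ, 1 ≤ N → ‖∑ i, α i ^ (d * N)‖ ≤ C * (q : ℝ) ^ ((d : ℝ) * N / 2))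
    (i : Fin (2 * g)) : ‖α i‖ ^ 2 = q := by
  have hq0 : (0 : ℝ) < q := by exact_mod_cast hq
  set Q : ℝ := (q : ℝ) ^ ((d : ℝ) / 2) with hQ
  have hQpos : 0 < Q := Real.rpow_pos_of_pos hq0 _
  have hQN : ∀ N : ℕ, Q ^ N = (q : ℝ) ^ ((d : ℝ) * N / 2) := by
    intro N
    rw [hQ, ← Real.rpow_natCast, ← Real.rpow_mul hq0.le]
    congr 1; ring
  have hQ2 : Q ^ 2 = (q : ℝ) ^ d := by
    rw [hQN 2, ← Real.rpow_natCast]
    congr 1; push_cast; ring
  have hbound : ∀ j, ‖α j‖ ^ d ≤ Q := by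
    intro j
    have := norm_le_one_of_bounded (fun j => α j ^ d / (Q : ℂ)) C (by
      intro N hN
      have h1 : ∑ i, (α i ^ d / (Q : ℂ)) ^ N = (∑ i, α i ^ (d * N)) / ((Q ^ N : ℝ) : ℂ) := by
        rw [Finset.sum_div]
        refine Finset.sum_congr rfl fun i _ => ?_
        rw [div_pow, ← pow_mul, Complex.ofReal_pow]
      rw [h1, norm_div, Complex.norm_real, Real.norm_of_nonneg (by positivity),
        div_le_iff₀ (by positivity), hQN N]
      exact hC N hN) j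
    simp only [norm_div, norm_pow, Complex.norm_real, Real.norm_of_nonneg hQpos.le] at this
    rwa [div_le_one hQpos] at this
  have hprod : ‖α (σ i)‖ ^ d * ‖α i‖ ^ d = Q ^ 2 := by
    rw [← mul_pow, ← norm_mul, hσ i, hQ2]
    simp
  have h1 := hbound i
  have h2 := hbound (σ i)
  have hge : Q ≤ ‖α i‖ ^ d := by
    by_contra hlt
    push Not at hlt
    have hp : 0 ≤ ‖α (σ i)‖ ^ d := by positivity
    have hp' : 0 ≤ ‖α i‖ ^ d := by positivity
    nlinarith
  have heq : ‖α i‖ ^ d = Q := le_antisymm h1 hge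
  have h3 : (‖α i‖ ^ 2) ^ d = ((q : ℝ)) ^ d := by
    rw [← pow_mul, mul_comm, pow_mul, heq, hQ2]
  exact (pow_left_inj₀ (by positivity) (by positivity) hd.ne').mp h3

end Groth.Agent.S15524

namespace Groth.Agent.S15524

/-- Let q ≥ 1 and let α_1, …, α_{2g} be complex numbers permuted by α ↦ q/α, i.e. α_{σ(i)} α_i = q for a
permutation σ of the indices; these play the role of the inverse roots of the numerator of the zeta
function of a curve over a field with q elements, for which #X(F_{q^N}) = q^N + 1 − Σ_i α_i^N. If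
for some d ≥ 1 and real C one has |Σ_i α_i^{dN}| ≤ C q^{dN/2} for every N ≥ 1, then |α_i|^2 = q for
every i (the Riemann hypothesis for the curve). -/
theorem result {g : ℕ} (q : ℕ) (hq : 0 < q)
    (α : Fin (2 * g) → ℂ) (σ : Equiv.Perm (Fin (2 * g))) (hσ : ∀ i, α (σ i) * α i = q)
    (d : ℕ) (hd : 0 < d) (C : ℝ)
    (hC : ∀ N : ℕ, 1 ≤ N → ‖∑ i, α i ^ (d * N)‖ ≤ C * (q : ℝ) ^ ((d : ℝ) * N / 2))
    (i : Fin (2 * g)) : ‖α i‖ ^ 2 = q := by
  exact main q hq α σ hσ d hd C hC i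

end Groth.Agent.S15524
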