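import Groth.Statements.S15525
import Mathlib
-- import your own Groth.Agent.* helpers here

set_option autoImplicit false
universe u
open Zeta

namespace Groth.Agent.S15525

open Polynomial in
theorem reverse_X_sub_C' (a : ℂ) : (X - C a : ℂ[X]).reverse = 1 - C a * X := by
  rw [Polynomial.reverse, natDegree_X_sub_C, reflect_sub, reflect_one_X, reflect_C, pow_one]

open Polynomial in
theorem aux (s : Multiset ℂ) (hs : ∀ z ∈ s, z ≠ 0) :
    (-1 : ℂ[X]) ^ (Multiset.card s) * C (s.prod)⁻¹ * ((s.map (fun z => X - C z)).prod).reverse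
      = (s.map (fun z => X - C z⁻¹)).prod := by
  induction s using Multiset.induction_on with
  | empty => simpa using Polynomial.reverse_C (1 : ℂ)
  | cons a s ih =>
    have ha : a ≠ 0 := hs a (Multiset.mem_cons_self a s)
    have ih' := ih (fun z hz => hs z (Multiset.mem_cons_of_mem hz))
    rw [Multiset.map_cons, Multiset.prod_cons, Multiset.map_cons, Multiset.prod_cons,
      Multiset.card_cons, Multiset.prod_cons, ← ih', Polynomial.reverse_mul_of_domain,
      reverse_X_sub_C', mul_inv, C_mul, pow_succ]
    have h1 : (C a⁻¹ * C a : ℂ[X]) = 1 := by rw [← C_mul, inv_mul_cancel₀ ha, C_1]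
    have h2 : (X - C a⁻¹ : ℂ[X]) = -1 * C a⁻¹ * (1 - C a * X) := by
      linear_combination (-X : ℂ[X]) * h1
    rw [h2]
    ring

theorem conj_fix (P : Polynomial ℂ) :
    (P * P.map (starRingEnd ℂ)).map (starRingEnd ℂ) = P * P.map (starRingEnd ℂ) := by
  rw [Polynomial.map_mul, Polynomial.map_map, mul_comm]
  congr 1
  have : (starRingEnd ℂ).comp (starRingEnd ℂ) = RingHom.id ℂ := by
    ext z; simp
  rw [this, Polynomial.map_id]

/-- Let L be a field with a ring embedding ι into ℂ and M an r × r matrix over L all of whose
eigenvalues, the complex roots of its characteristic polynomial mapped along ι, have absolute value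
1. Then every coefficient of the characteristic polynomial of the block-diagonal matrix with blocks
M and the inverse transpose of M is mapped by ι into ℝ. This is the pointwise content of the
assertion that for a lisse sheaf F pure of weight 0 the sum of F and its dual is real, the Frobenius
of the dual acting by the inverse transpose. -/
theorem result (L : Type u) [Field L] (ι : L →+* ℂ)
    {r : ℕ} (M : Matrix (Fin r) (Fin r) L)
    (hM : ∀ z ∈ ((Matrix.charpoly M).map ι).roots, ‖z‖ = 1) (n : ℕ) :
    (ι ((Matrix.fromBlocks M 0 0 (M⁻¹).transpose).charpoly.coeff n)).im = 0 := by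
  classical
  open Polynomial in
  set P : ℂ[X] := (Matrix.charpoly M).map ι with hP
  set s := P.roots with hs
  have hPmonic : P.Monic := (Matrix.charpoly_monic M).map ι
  have hsplit : P.Splits := IsAlgClosed.splits P
  have hPprod : P = (s.map (fun z => Polynomial.X - Polynomial.C z)).prod :=
    hsplit.eq_prod_roots_of_monic hPmonic
  have hs0 : ∀ z ∈ s, z ≠ 0 := fun z hz h0 => by
    have := hM z hz
    rw [h0, norm_zero] at this
    exact zero_ne_one this
  have hdegP : P.natDegree = r := by
    rw [hP, Polynomial.natDegree_map, Matrix.charpoly_natDegree_eq_dim, Fintype.card_fin]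
  have hcard : Multiset.card s = r := by
    rw [← hdegP]; exact hsplit.natDegree_eq_card_roots.symm
  have hdet : ι M.det = s.prod := by
    have h1 := hsplit.coeff_zero_eq_prod_roots_of_monic hPmonic
    rw [hdegP] at h1
    have h2 := Matrix.det_eq_sign_charpoly_coeff M
    rw [Fintype.card_fin] at h2
    rw [h2, map_mul, map_pow, map_neg, map_one, ← Polynomial.coeff_map, ← hP, h1, ← mul_assoc,
      ← pow_add, ← two_mul, pow_mul]
    simp [← hs]
  have hdet0 : M.det ≠ 0 := by
    intro h0
    have : s.prod = 0 := by rw [← hdet, h0, map_zero]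
    rw [Multiset.prod_eq_zero_iff] at this
    exact hs0 0 this rfl
  have hMunit : IsUnit M := (Matrix.isUnit_iff_isUnit_det M).2 (isUnit_iff_ne_zero.2 hdet0)
  have hQ : (Matrix.fromBlocks M 0 0 (M⁻¹).transpose).charpoly = M.charpoly * (M⁻¹).charpoly := by
    rw [Matrix.charpoly_fromBlocks_zero₁₂, Matrix.charpoly_transpose]
  have hrevmap : (M.charpoly.reverse).map ι = P.reverse := by
    rw [Polynomial.reverse, Polynomial.reverse, hP, Polynomial.natDegree_map,
      Polynomial.reflect_map]
  have hinv : ((M⁻¹).charpoly).map ι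
      = (s.map (fun z => Polynomial.X - Polynomial.C z⁻¹)).prod := by
    rw [Matrix.charpoly_inv M hMunit, ← Matrix.reverse_charpoly, Polynomial.map_mul,
      Polynomial.map_mul, Polynomial.map_pow, Polynomial.map_neg, Polynomial.map_one,
      Polynomial.map_C, hrevmap, Fintype.card_fin, ← aux s hs0, hcard, Ring.inverse_eq_inv',
      map_inv₀, hdet, ← hPprod]
  have hconj : ∀ z ∈ s, z⁻¹ = (starRingEnd ℂ) z := fun z hz => Complex.inv_eq_conj (hM z hz)
  have hinv' : ((M⁻¹).charpoly).map ι = P.map (starRingEnd ℂ) := by
    rw [hinv]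
    conv_rhs => rw [hPprod]
    rw [Polynomial.map_multiset_prod, Multiset.map_map]
    congr 1
    refine Multiset.map_congr rfl fun z hz => ?_
    simp [hconj z hz]
  have hfix := conj_fix P
  have hcoeff : ι ((Matrix.fromBlocks M 0 0 (M⁻¹).transpose).charpoly.coeff n)
      = (P * P.map (starRingEnd ℂ)).coeff n := by
    rw [hQ, ← Polynomial.coeff_map, Polynomial.map_mul, hinv']
  rw [hcoeff, ← Complex.conj_eq_iff_im, ← Polynomial.coeff_map, hfix]

end Groth.Agent.S15525
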