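import Groth.Statements.S15526
import Mathlib
-- import your own Groth.Agent.* helpers here

set_option autoImplicit false
universe u
open MvPolynomial
open CAlg

namespace Groth.Agent.S15526

/-- Let R be a commutative ring, P ∈ R[x] a monic polynomial of degree 2g + 1, and A = R[x, y, z]/(y^2 −
P(x), yz − 1). Then every element of A is a finite sum Σ_n Q_n(x) y^n over integers n, negative
powers of y meaning powers of z, with each Q_n ∈ R[x] of degree at most 2g: the R-submodule of A
spanned by the classes of x^i y^n and x^i z^n with i ≤ 2g and n ≥ 0 is all of A. (The published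
statement takes for R the ring of Witt vectors of a finite field and for P a lift of a separable
polynomial; the argument uses only that P is monic of degree 2g + 1.) -/
theorem result (R : Type u) [CommRing R] (g : ℕ)
    (P : Polynomial R) (hP : P.Monic) (hdeg : P.natDegree = 2 * g + 1) :
    Submodule.span R {a : MvPolynomial (Fin 3) R ⧸
        Ideal.span ({X 1 ^ 2 - Polynomial.aeval (X 0 : MvPolynomial (Fin 3) R) P, X 1 * X 2 - 1} :
          Set (MvPolynomial (Fin 3) R)) |
        ∃ i n : ℕ, i ≤ 2 * g ∧
          (a = Ideal.Quotient.mk _ (X 0 ^ i * X 1 ^ n) ∨ a = Ideal.Quotient.mk _ (X 0 ^ i * X 2 ^ n))} =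
      ⊤ := by
  classical
  set I : Ideal (MvPolynomial (Fin 3) R) :=
    Ideal.span ({X 1 ^ 2 - Polynomial.aeval (X 0 : MvPolynomial (Fin 3) R) P, X 1 * X 2 - 1} :
          Set (MvPolynomial (Fin 3) R)) with hI
  set x : MvPolynomial (Fin 3) R ⧸ I := Ideal.Quotient.mk I (X 0) with hx
  set y : MvPolynomial (Fin 3) R ⧸ I := Ideal.Quotient.mk I (X 1) with hy
  set z : MvPolynomial (Fin 3) R ⧸ I := Ideal.Quotient.mk I (X 2) with hz
  set S : Submodule R (MvPolynomial (Fin 3) R ⧸ I) := Submodule.span R {a : MvPolynomial (Fin 3) R ⧸ I |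
        ∃ i n : ℕ, i ≤ 2 * g ∧
          (a = Ideal.Quotient.mk I (X 0 ^ i * X 1 ^ n) ∨ a = Ideal.Quotient.mk I (X 0 ^ i * X 2 ^ n))}
    with hS
  have hyz : y * z = 1 := by
    rw [hy, hz, ← map_mul, ← map_one (Ideal.Quotient.mk I), Ideal.Quotient.eq]
    exact Ideal.subset_span (by simp)
  have hy2 : y ^ 2 = Polynomial.aeval x P := by
    have h1 : Polynomial.aeval x P = Ideal.Quotient.mk I (Polynomial.aeval (X 0) P) := by
      have := Polynomial.aeval_algHom_apply (Ideal.Quotient.mkₐ R I) (X 0 : MvPolynomial (Fin 3) R) P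
      simpa using this
    rw [h1, hy, ← map_pow, Ideal.Quotient.eq]
    exact Ideal.subset_span (by simp)
  have hmy : ∀ i n : ℕ, i ≤ 2 * g → x ^ i * y ^ n ∈ S := by
    intro i n hi
    apply Submodule.subset_span
    exact ⟨i, n, hi, Or.inl (by simp [hx, hy])⟩
  have hmz : ∀ i n : ℕ, i ≤ 2 * g → x ^ i * z ^ n ∈ S := by
    intro i n hi
    apply Submodule.subset_span
    exact ⟨i, n, hi, Or.inr (by simp [hx, hz])⟩
  have hxpow : x ^ (2 * g + 1) = y ^ 2 - ∑ j ∈ Finset.range (2 * g + 1), P.coeff j • x ^ j := by
    rw [hy2, Polynomial.aeval_eq_sum_range, hdeg, Finset.sum_range_succ]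
    have : P.coeff (2 * g + 1) = 1 := by rw [← hdeg]; exact hP.coeff_natDegree
    rw [this, one_smul]
    ring
  have hy2z : ∀ n : ℕ, y ^ 2 * z ^ n ∈ S := by
    intro n
    rcases n with _ | _ | m
    · have := hmy 0 2 (by omega)
      rwa [pow_zero, one_mul, ← mul_one (y ^ 2), ← pow_zero z] at this
    · have : y ^ 2 * z ^ (0 + 1) = x ^ 0 * y ^ 1 := by
        simp only [zero_add, pow_one, pow_zero, one_mul]
        rw [pow_two, mul_assoc, hyz, mul_one]
      rw [this]; exact hmy 0 1 (by omega)
    · have : y ^ 2 * z ^ (m + 1 + 1) = x ^ 0 * z ^ m := by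
        rw [pow_zero, one_mul, show m + 1 + 1 = m + 2 by ring, pow_add, mul_comm (z ^ m),
          ← mul_assoc, ← mul_pow, hyz, one_pow, one_mul]
      rw [this]; exact hmz 0 m (by omega)
  have hclx : ∀ s ∈ S, x * s ∈ S := by
    intro s hs
    have : S.map (LinearMap.mulLeft R x) ≤ S := by
      rw [hS, Submodule.map_span_le]
      rintro a ⟨i, n, hi, rfl | rfl⟩
      · rw [LinearMap.mulLeft_apply, map_mul, map_pow, map_pow, ← hx, ← hy, ← mul_assoc, ← pow_succ']
        by_cases hi' : i + 1 ≤ 2 * g
        · exact hmy (i + 1) n hi'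
        · have : i = 2 * g := by omega
          subst this
          rw [hxpow, sub_mul, Finset.sum_mul]
          refine Submodule.sub_mem _ ?_ (Submodule.sum_mem _ fun j hj => ?_)
          · rw [← pow_add]
            have := hmy 0 (2 + n) (by omega)
            rwa [pow_zero, one_mul] at this
          · rw [smul_mul_assoc]
            exact Submodule.smul_mem _ _ (hmy j n (by rw [Finset.mem_range] at hj; omega))
      · rw [LinearMap.mulLeft_apply, map_mul, map_pow, map_pow, ← hx, ← hz, ← mul_assoc, ← pow_succ']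
        by_cases hi' : i + 1 ≤ 2 * g
        · exact hmz (i + 1) n hi'
        · have : i = 2 * g := by omega
          subst this
          rw [hxpow, sub_mul, Finset.sum_mul]
          refine Submodule.sub_mem _ (hy2z n) (Submodule.sum_mem _ fun j hj => ?_)
          rw [smul_mul_assoc]
          exact Submodule.smul_mem _ _ (hmz j n (by rw [Finset.mem_range] at hj; omega))
    exact this (Submodule.mem_map_of_mem hs)
  have hcly : ∀ s ∈ S, y * s ∈ S := by
    intro s hs
    have : S.map (LinearMap.mulLeft R y) ≤ S := by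
      rw [hS, Submodule.map_span_le]
      rintro a ⟨i, n, hi, rfl | rfl⟩
      · rw [LinearMap.mulLeft_apply, map_mul, map_pow, map_pow, ← hx, ← hy, mul_left_comm,
          ← pow_succ']
        exact hmy i (n + 1) hi
      · rw [LinearMap.mulLeft_apply, map_mul, map_pow, map_pow, ← hx, ← hz, mul_left_comm]
        rcases n with _ | m
        · rw [pow_zero, mul_one]
          have := hmy i 1 hi
          rwa [pow_one] at this
        · rw [pow_succ', ← mul_assoc y, hyz, one_mul]; exact hmz i m hi
    exact this (Submodule.mem_map_of_mem hs)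
  have hclz : ∀ s ∈ S, z * s ∈ S := by
    intro s hs
    have : S.map (LinearMap.mulLeft R z) ≤ S := by
      rw [hS, Submodule.map_span_le]
      rintro a ⟨i, n, hi, rfl | rfl⟩
      · rw [LinearMap.mulLeft_apply, map_mul, map_pow, map_pow, ← hx, ← hy, mul_left_comm]
        rcases n with _ | m
        · rw [pow_zero, mul_one]
          have := hmz i 1 hi
          rwa [pow_one] at this
        · rw [pow_succ', ← mul_assoc z, mul_comm z y, hyz, one_mul]; exact hmy i m hi
      · rw [LinearMap.mulLeft_apply, map_mul, map_pow, map_pow, ← hx, ← hz, mul_left_comm,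
          ← pow_succ']
        exact hmz i (n + 1) hi
    exact this (Submodule.mem_map_of_mem hs)
  have hone : (1 : MvPolynomial (Fin 3) R ⧸ I) ∈ S := by
    have := hmy 0 0 (by omega)
    rwa [pow_zero, pow_zero, one_mul] at this
  rw [eq_top_iff]
  rintro a -
  obtain ⟨p, rfl⟩ := Ideal.Quotient.mk_surjective a
  induction p using MvPolynomial.induction_on with
  | C c =>
    have : Ideal.Quotient.mk I (C c) = c • (1 : MvPolynomial (Fin 3) R ⧸ I) := by
      rw [← MvPolynomial.algebraMap_eq, ← Ideal.Quotient.mkₐ_eq_mk R, AlgHom.commutes,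
        Algebra.algebraMap_eq_smul_one]
    rw [this]
    exact Submodule.smul_mem _ _ hone
  | add p q hp hq => rw [map_add]; exact Submodule.add_mem _ hp hq
  | mul_X p i hp =>
    rw [map_mul, mul_comm]
    fin_cases i
    · exact hclx _ hp
    · exact hcly _ hp
    · exact hclz _ hp

end Groth.Agent.S15526
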