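import Groth.Statements.S1554
import Groth.Agent.Lib.Helper73.DimFormula.FibreGeneric

set_option autoImplicit false
universe u
open CategoryTheory CategoryTheory.Limits AlgebraicGeometry
open Variety

namespace Groth.Agent.S1554

/-- Let f : X → Y be locally of finite type, x a point with image y such that the local ring of Y at y
is Noetherian of dimension at most one, and d a natural number such that the local fibre dimension
is d at the generic points of the irreducible components of X passing through x. Then the local
dimension at x of the fibre over y equals d. -/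
theorem result {X Y : Scheme.{u}} (f : X ⟶ Y) [LocallyOfFiniteType f]
    (x : X) [IsNoetherianRing (Y.presheaf.stalk (f.base x))] (hdimY : ringKrullDim (Y.presheaf.stalk (f.base x)) ≤ 1) (d : ℕ)
    (hgen : ∀ Z ∈ irreducibleComponents (X : Type u), x ∈ Z → ∀ η : X, IsGenericPoint η Z → FlatMor.fibreDimAt f η = d) :
    FlatMor.fibreDimAt f x = d := by
  open Groth.Agent.Lib.Helper73 in
  obtain ⟨ξ, η, hξx, hfξ, hξmax, hξ, hηξ, hZ, hxZ, hηZ⟩ := exists_fibre_generic_and_generic f x
  have hdη := hgen _ hZ hxZ η hηZ
  apply le_antisymm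
  · by_cases hne : η = ξ
    · subst hne
      rw [hξ, ← fibreDimAt_eq_resTrdegNat_of_maximal f η hξmax, hdη]
    · have h1 := resTrdegNat_add_one_le_of_specializes_of_ne f ξ η hηξ hne (f x) hfξ
      have h2 : ((resTrdegNat f η : ℕ) : WithBot ℕ∞) ≤ (d : WithBot ℕ∞) := by
        rw [← hdη]
        exact resTrdegNat_le_fibreDimAt f η
      have h3 : ((resTrdegNat f ξ : ℕ) : WithBot ℕ∞) + 1 ≤ 1 + (d : WithBot ℕ∞) :=
        h1.trans (add_le_add hdimY h2)
      rw [hξ]
      have h4 : resTrdegNat f ξ + 1 ≤ 1 + d := by exact_mod_cast h3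
      have h5 : resTrdegNat f ξ ≤ d := by omega
      exact_mod_cast h5
  · rw [← hdη]
    exact fibreDimAt_le_of_specializes f (hηξ.trans hξx)

end Groth.Agent.S1554
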