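import Groth.Statements.S15546
import Mathlib
-- import your own Groth.Agent.* helpers here

set_option autoImplicit false
open scoped TensorProduct
universe u
open Unram

namespace Groth.Agent.S15546

/-- Let E be a finite extension of a field k which is not separable over k, and K an algebraic closure
of k. Then E ⊗_k K has a nonzero nilpotent element. -/
theorem result (k E K : Type u) [Field k] [Field E]
    [Algebra k E] [FiniteDimensional k E] [Field K] [Algebra k K] [IsAlgClosure k K]
    (h : ¬ Algebra.IsSeparable k E) : ∃ x : E ⊗[k] K, x ≠ 0 ∧ IsNilpotent x := by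
  classical
  haveI : IsAlgClosed K := IsAlgClosure.isAlgClosed k
  suffices hmain : ∃ y : K ⊗[k] E, y ≠ 0 ∧ IsNilpotent y by
    obtain ⟨y, hy0, hyn⟩ := hmain
    refine ⟨(Algebra.TensorProduct.comm k K E) y, ?_, hyn.map _⟩
    intro h0
    apply hy0
    exact (Algebra.TensorProduct.comm k K E).injective (by rw [h0, map_zero])
  rw [Algebra.isSeparable_def] at h
  push Not at h
  obtain ⟨x, hx⟩ := h
  have hxint : IsIntegral k x := Algebra.IsIntegral.isIntegral x
  set f := minpoly k x with hf
  set n := f.natDegree with hn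
  set fK := f.map (algebraMap k K) with hfK
  have hfK0 : fK ≠ 0 := (Polynomial.map_ne_zero_iff (algebraMap k K).injective).2 (minpoly.ne_zero hxint)
  have hnsep : ¬ fK.Separable := by
    rw [hfK, Polynomial.separable_map]; exact hx
  rw [PerfectField.separable_iff_squarefree] at hnsep
  obtain ⟨q, hqq, hqu⟩ : ∃ q : Polynomial K, q * q ∣ fK ∧ ¬ IsUnit q := by
    by_contra hcon
    push Not at hcon
    exact hnsep hcon
  obtain ⟨g, hg⟩ := hqq
  have hq0 : q ≠ 0 := by rintro rfl; simp at hg; exact hfK0 hg
  have hg0 : g ≠ 0 := by rintro rfl; simp at hg; exact hfK0 hg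
  have hqdeg : 1 ≤ q.natDegree := by
    by_contra hcon
    have : q.natDegree = 0 := by omega
    obtain ⟨c, rfl⟩ := Polynomial.natDegree_eq_zero.1 this
    apply hqu
    have hc : c ≠ 0 := by rintro rfl; simp at hq0
    exact Polynomial.isUnit_C.2 (isUnit_iff_ne_zero.2 hc)
  have hdegfK : fK.natDegree = n := by rw [hfK, Polynomial.natDegree_map]
  set r := q * g with hr
  have hr0 : r ≠ 0 := mul_ne_zero hq0 hg0
  have hrdeg : r.natDegree < n := by
    rw [← hdegfK, hg, hr, Polynomial.natDegree_mul (mul_ne_zero hq0 hq0) hg0,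
      Polynomial.natDegree_mul hq0 hq0, Polynomial.natDegree_mul hq0 hg0]
    omega
  let z : K ⊗[k] E := (1 : K) ⊗ₜ[k] x
  have hzf : Polynomial.aeval z fK = 0 := by
    rw [hfK, Polynomial.aeval_map_algebraMap]
    have : z = (Algebra.TensorProduct.includeRight : E →ₐ[k] K ⊗[k] E) x := rfl
    rw [this, Polynomial.aeval_algHom_apply, hf, minpoly.aeval, map_zero]
  have hli : LinearIndependent K (fun i : Fin n => (1 : K) ⊗ₜ[k] (x ^ (i : ℕ))) :=
    Module.Flat.linearIndependent_one_tmul (linearIndependent_pow x)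
  have hinj : ∀ s : Polynomial K, s.natDegree < n → Polynomial.aeval z s = 0 → s = 0 := by
    intro s hs hs0
    rw [Polynomial.aeval_eq_sum_range' hs, ← Fin.sum_univ_eq_sum_range (fun i => s.coeff i • z ^ i)] at hs0
    have hs1 : ∑ i : Fin n, s.coeff (i : ℕ) • ((1 : K) ⊗ₜ[k] (x ^ (i : ℕ))) = 0 := by
      rw [← hs0]
      refine Finset.sum_congr rfl fun i _ => ?_
      simp only [z, Algebra.TensorProduct.tmul_pow, one_pow]
    have hs2 := Fintype.linearIndependent_iff.1 hli (fun i => s.coeff (i : ℕ)) hs1
    ext i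
    by_cases hi : i < n
    · simpa using hs2 ⟨i, hi⟩
    · simp only [Polynomial.coeff_zero]
      exact Polynomial.coeff_eq_zero_of_natDegree_lt (by omega)
  refine ⟨Polynomial.aeval z r, fun h0 => hr0 (hinj r hrdeg h0), 2, ?_⟩
  rw [← map_pow]
  have : r ^ 2 = fK * g := by rw [hg, hr]; ring
  rw [this, map_mul, hzf, zero_mul]

end Groth.Agent.S15546
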