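import Groth.Statements.S15547
import Mathlib

set_option autoImplicit false
open CategoryTheory AlgebraicGeometry TopologicalSpace
universe u
open Coherent

namespace Groth.Agent.S15547

section Aux
open CategoryTheory AlgebraicGeometry TopologicalSpace Opposite

theorem isUnit_res_of_eq_basicOpen {Z : Scheme.{u}} {V : Z.Opens} (f : Γ(Z, V)) (D : Z.Opens)
    (hD : D = Z.basicOpen f) (hle : D ≤ V) :
    IsUnit (Z.presheaf.map (homOfLE hle).op f) := by
  subst hD
  exact RingedSpace.isUnit_res_basicOpen Z.toRingedSpace f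

theorem exists_of_eq_basicOpen {Z : Scheme.{u}} {V : Z.Opens} (hV : IsAffineOpen V) (f : Γ(Z, V))
    (D : Z.Opens) (hD : D = Z.basicOpen f) (hle : D ≤ V) (s : Γ(Z, D)) :
    ∃ (n : ℕ) (b : Γ(Z, V)), s * (Z.presheaf.map (homOfLE hle).op f) ^ n =
      Z.presheaf.map (homOfLE hle).op b := by
  subst hD
  obtain ⟨n, y, hy⟩ := exists_eq_pow_mul_of_isAffineOpen Z V hV f s
  exact ⟨n, y, by rw [mul_comm]; exact hy.symm⟩

theorem exists_pow_mul_eq_zero_of_eq_basicOpen {Z : Scheme.{u}} {V : Z.Opens} (hV : IsAffineOpen V)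
    (f : Γ(Z, V)) (D : Z.Opens) (hD : D = Z.basicOpen f) (hle : D ≤ V) (b : Γ(Z, V))
    (hb : Z.presheaf.map (homOfLE hle).op b = 0) :
    ∃ n : ℕ, f ^ n * b = 0 := by
  subst hD
  exact exists_pow_mul_eq_zero_of_res_basicOpen_eq_zero_of_isAffineOpen Z hV b f hb

section
variable {Z X : Scheme.{u}} (g : Z ⟶ X) {U : X.Opens} (hU : IsAffineOpen U)
  (hV : IsAffineOpen (g ⁻¹ᵁ U)) (x : X) (hxU : x ∈ U)

theorem isUnit_germ_app (a : Γ(X, U)) (hxa : x ∈ X.basicOpen a) :
    IsUnit (((g.base _* Z.presheaf).germ U x hxU).hom (g.app U a)) := by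
  have hle : X.basicOpen a ≤ U := X.basicOpen_le a
  have h1 : ((g.base _* Z.presheaf).germ U x hxU).hom (g.app U a) =
      ((g.base _* Z.presheaf).germ (X.basicOpen a) x hxa).hom
        ((g.base _* Z.presheaf).map (homOfLE hle).op (g.app U a)) :=
    (TopCat.Presheaf.germ_res_apply (g.base _* Z.presheaf) (homOfLE hle) x hxa _).symm
  rw [h1]
  apply IsUnit.map
  exact isUnit_res_of_eq_basicOpen (g.app U a) (g ⁻¹ᵁ X.basicOpen a)
    (Scheme.preimage_basicOpen g a) (g.preimage_mono hle)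

include hU hV in
theorem germ_surj (c : (g.base _* Z.presheaf).stalk x) :
    ∃ (a : Γ(X, U)) (_ : x ∈ X.basicOpen a) (b : Γ(Z, g ⁻¹ᵁ U)),
      c * ((g.base _* Z.presheaf).germ U x hxU).hom (g.app U a) =
        ((g.base _* Z.presheaf).germ U x hxU).hom b := by
  obtain ⟨W, hxW, s, rfl⟩ := TopCat.Presheaf.exists_germ_eq (g.base _* Z.presheaf) c
  obtain ⟨a, haW, hxa⟩ := hU.exists_basicOpen_le ⟨x, hxW⟩ hxU
  have hle : X.basicOpen a ≤ U := X.basicOpen_le a
  obtain ⟨n, b, hb⟩ := exists_of_eq_basicOpen hV (g.app U a) (g ⁻¹ᵁ X.basicOpen a)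
    (Scheme.preimage_basicOpen g a) (g.preimage_mono hle)
    ((g.base _* Z.presheaf).map (homOfLE haW).op s)
  refine ⟨a ^ (n + 1), ?_, b * g.app U a, ?_⟩
  · rw [Scheme.basicOpen_pow X a (Nat.succ_pos n)]
    exact hxa
  · have e1 : ∀ t : Γ(Z, g ⁻¹ᵁ U), ((g.base _* Z.presheaf).germ U x hxU).hom t =
        ((g.base _* Z.presheaf).germ (X.basicOpen a) x hxa).hom
          (Z.presheaf.map (homOfLE (g.preimage_mono hle)).op t) := fun t =>
      (TopCat.Presheaf.germ_res_apply (g.base _* Z.presheaf) (homOfLE hle) x hxa t).symm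
    have e2 : ((g.base _* Z.presheaf).germ W x hxW).hom s =
        ((g.base _* Z.presheaf).germ (X.basicOpen a) x hxa).hom
          ((g.base _* Z.presheaf).map (homOfLE haW).op s) :=
      (TopCat.Presheaf.germ_res_apply (g.base _* Z.presheaf) (homOfLE haW) x hxa s).symm
    change ((g.base _* Z.presheaf).germ W x hxW).hom s * _ = _
    rw [e1, e1, e2, ← map_mul]
    congr 1
    rw [map_pow, map_pow, map_mul, pow_succ, ← mul_assoc, hb]

include hU hV in
theorem germ_eq_zero (b : Γ(Z, g ⁻¹ᵁ U))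
    (hb : ((g.base _* Z.presheaf).germ U x hxU).hom b = 0) :
    ∃ (a : Γ(X, U)) (_ : x ∈ X.basicOpen a), g.app U a * b = 0 := by
  have h0 : ((g.base _* Z.presheaf).germ U x hxU).hom b =
      ((g.base _* Z.presheaf).germ U x hxU).hom 0 := by rw [hb, map_zero]
  obtain ⟨W, hxW, iU, iV, e⟩ :=
    TopCat.Presheaf.germ_eq (g.base _* Z.presheaf) x hxU hxU b 0 h0
  obtain ⟨a, haW, hxa⟩ := hU.exists_basicOpen_le ⟨x, hxW⟩ hxU
  have hle : X.basicOpen a ≤ U := X.basicOpen_le a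
  have hb' : Z.presheaf.map (homOfLE (g.preimage_mono hle)).op b = 0 := by
    have h2 := congrArg ((g.base _* Z.presheaf).map (homOfLE haW).op).hom e
    rw [map_zero, map_zero] at h2
    rw [← h2]
    change _ = (((g.base _* Z.presheaf).map iU.op) ≫ ((g.base _* Z.presheaf).map (homOfLE haW).op)).hom b
    rw [← Functor.map_comp]
    rfl
  obtain ⟨n, hn⟩ := exists_pow_mul_eq_zero_of_eq_basicOpen hV (g.app U a) _
    (Scheme.preimage_basicOpen g a) (g.preimage_mono hle) b hb'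
  refine ⟨a ^ (n + 1), ?_, ?_⟩
  · rw [Scheme.basicOpen_pow X a (Nat.succ_pos n)]
    exact hxa
  · rw [map_pow, pow_succ', mul_assoc, hn, mul_zero]

end


theorem germ_comp_stalkMap {Z X : Scheme.{u}} (g : Z ⟶ X) (U : X.Opens) (z : Z) (x : X)
    (hz : g.base z = x) (hxU : x ∈ U) :
    (g.base _* Z.presheaf).germ U x hxU ≫
        ((g.base _* Z.presheaf).stalkCongr (Inseparable.of_eq hz)).inv ≫
        TopCat.Presheaf.stalkPushforward CommRingCat g.base Z.presheaf z =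
      Z.presheaf.germ (g ⁻¹ᵁ U) z (by subst hz; exact hxU) := by
  subst hz
  simp [TopCat.Presheaf.stalkCongr, TopCat.Presheaf.stalkPushforward_germ]

theorem asIdeal_primeIdealOf {X : Scheme.{u}} {U : X.Opens} (hU : IsAffineOpen U) (x : X) (hxU : x ∈ U) :
    (hU.primeIdealOf ⟨x, hxU⟩).asIdeal =
      Ideal.comap (X.presheaf.germ U x hxU).hom (IsLocalRing.maximalIdeal _) := by
  rw [hU.primeIdealOf_eq_map_closedPoint ⟨x, hxU⟩]
  rfl

theorem mem_primeCompl_iff {X : Scheme.{u}} {U : X.Opens} (hU : IsAffineOpen U) (x : X) (hxU : x ∈ U)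
    (a : Γ(X, U)) : a ∈ (hU.primeIdealOf ⟨x, hxU⟩).asIdeal.primeCompl ↔ x ∈ X.basicOpen a := by
  rw [Scheme.mem_basicOpen X a x hxU, Ideal.mem_primeCompl_iff, asIdeal_primeIdealOf, Ideal.mem_comap,
    IsLocalRing.mem_maximalIdeal, mem_nonunits_iff, not_not]


theorem main {Z X : Scheme.{u}} (g : Z ⟶ X) [IsFinite g] (x : X) :
    Set.BijOn (fun z : {z : Z // g.base z = x} =>
        Ideal.comap (((g.base _* Z.presheaf).stalkCongr (Inseparable.of_eq z.2)).inv ≫
            TopCat.Presheaf.stalkPushforward CommRingCat g.base Z.presheaf z.1).hom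
          (IsLocalRing.maximalIdeal (Z.presheaf.stalk z.1)))
      Set.univ {I : Ideal ((g.base _* Z.presheaf).stalk x) | I.IsMaximal} := by
  obtain ⟨U, hU, hxU⟩ : ∃ U : X.Opens, IsAffineOpen U ∧ x ∈ U := by
    obtain ⟨U, hU, hxU, -⟩ := exists_isAffineOpen_mem_and_subset (X := X) (U := ⊤) (x := x) (by simp)
    exact ⟨U, hU, hxU⟩
  have hV : IsAffineOpen (g ⁻¹ᵁ U) := hU.preimage g
  let γ : Γ(Z, g ⁻¹ᵁ U) →+* (g.base _* Z.presheaf).stalk x :=
    ((g.base _* Z.presheaf).germ U x hxU).hom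
  let φ : Γ(X, U) →+* Γ(Z, g ⁻¹ᵁ U) := (g.app U).hom
  letI : Algebra Γ(X, U) Γ(Z, g ⁻¹ᵁ U) := φ.toAlgebra
  letI : Algebra Γ(Z, g ⁻¹ᵁ U) ((g.base _* Z.presheaf).stalk x) := γ.toAlgebra
  letI : Algebra Γ(X, U) ((g.base _* Z.presheaf).stalk x) := (γ.comp φ).toAlgebra
  haveI : IsScalarTower Γ(X, U) Γ(Z, g ⁻¹ᵁ U) ((g.base _* Z.presheaf).stalk x) :=
    IsScalarTower.of_algebraMap_eq' rfl
  let p : Ideal Γ(X, U) := (hU.primeIdealOf ⟨x, hxU⟩).asIdeal
  have hp : ∀ a : Γ(X, U), a ∈ p.primeCompl ↔ x ∈ X.basicOpen a := mem_primeCompl_iff hU x hxU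
  haveI hloc : IsLocalization (Algebra.algebraMapSubmonoid Γ(Z, g ⁻¹ᵁ U) p.primeCompl)
      ((g.base _* Z.presheaf).stalk x) := by
    rw [isLocalization_iff]
    refine ⟨?_, ?_, ?_⟩
    · rintro ⟨_, a, ha, rfl⟩
      exact isUnit_germ_app g x hxU a ((hp a).mp ha)
    · intro c
      obtain ⟨a, hxa, b, hb⟩ := germ_surj g hU hV x hxU c
      exact ⟨(b, ⟨algebraMap _ _ a, a, (hp a).mpr hxa, rfl⟩), hb⟩
    · intro b1 b2 h
      have h0 : γ (b1 - b2) = 0 := by rw [map_sub, sub_eq_zero]; exact h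
      obtain ⟨a, hxa, hab⟩ := germ_eq_zero g hU hV x hxU _ h0
      refine ⟨⟨algebraMap _ _ a, a, (hp a).mpr hxa, rfl⟩, ?_⟩
      rw [mul_sub, sub_eq_zero] at hab
      exact hab
  haveI hint : Algebra.IsIntegral Γ(X, U) Γ(Z, g ⁻¹ᵁ U) := by
    have hfin : φ.Finite := IsFinite.finite_app g U hU
    haveI : Module.Finite Γ(X, U) Γ(Z, g ⁻¹ᵁ U) := hfin
    infer_instance
  let ι : Localization.AtPrime p →+* (g.base _* Z.presheaf).stalk x :=
    IsLocalization.map ((g.base _* Z.presheaf).stalk x) (algebraMap Γ(X, U) Γ(Z, g ⁻¹ᵁ U))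
      (show p.primeCompl ≤ (Algebra.algebraMapSubmonoid Γ(Z, g ⁻¹ᵁ U) p.primeCompl).comap _ from
        Submonoid.le_comap_map _)
  have hι : ι.IsIntegral := isIntegral_localization (R := Γ(X, U)) (M := p.primeCompl)
    (S := Γ(Z, g ⁻¹ᵁ U)) (Rₘ := Localization.AtPrime p) (Sₘ := (g.base _* Z.presheaf).stalk x)
  have hιcomp : ι.comp (algebraMap Γ(X, U) (Localization.AtPrime p)) =
      (algebraMap Γ(Z, g ⁻¹ᵁ U) ((g.base _* Z.presheaf).stalk x)).comp
        (algebraMap Γ(X, U) Γ(Z, g ⁻¹ᵁ U)) := IsLocalization.map_comp _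
  have hcomapA : ∀ Q : Ideal ((g.base _* Z.presheaf).stalk x),
      Q.comap (algebraMap Γ(X, U) ((g.base _* Z.presheaf).stalk x)) =
        (Q.comap ι).comap (algebraMap Γ(X, U) (Localization.AtPrime p)) := by
    intro Q
    rw [Ideal.comap_comap, hιcomp]
    rfl
  have hM1 : ∀ (Q : Ideal ((g.base _* Z.presheaf).stalk x)), Q.IsMaximal →
      Q.comap (algebraMap Γ(X, U) ((g.base _* Z.presheaf).stalk x)) = p := by
    intro Q hQ
    haveI := hQ
    have h1 : (Q.comap ι).IsMaximal := Ideal.isMaximal_comap_of_isIntegral_of_isMaximal' ι hι Q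
    rw [hcomapA, IsLocalRing.eq_maximalIdeal h1]
    exact IsLocalization.AtPrime.under_maximalIdeal (Localization.AtPrime p) p
  have hM2 : ∀ (Q : Ideal ((g.base _* Z.presheaf).stalk x)), Q.IsPrime →
      Q.comap (algebraMap Γ(X, U) ((g.base _* Z.presheaf).stalk x)) = p → Q.IsMaximal := by
    intro Q hQ hQp
    haveI := hQ
    rw [hcomapA] at hQp
    have h1 : Q.comap ι = IsLocalRing.maximalIdeal (Localization.AtPrime p) := by
      rw [← IsLocalization.map_under p.primeCompl (Localization.AtPrime p) (Q.comap ι), Ideal.under_def, hQp]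
      exact IsLocalization.AtPrime.map_eq_maximalIdeal p (Localization.AtPrime p)
    have h2 : (Q.comap ι).IsMaximal := by rw [h1]; infer_instance
    exact Ideal.isMaximal_of_isIntegral_of_isMaximal_comap' ι hι Q h2
  have hq : ∀ (z : Z) (hz : g.base z = x) (hzV : z ∈ g ⁻¹ᵁ U),
      (Ideal.comap (((g.base _* Z.presheaf).stalkCongr (Inseparable.of_eq hz)).inv ≫
            TopCat.Presheaf.stalkPushforward CommRingCat g.base Z.presheaf z).hom
          (IsLocalRing.maximalIdeal (Z.presheaf.stalk z))).comap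
            (algebraMap Γ(Z, g ⁻¹ᵁ U) ((g.base _* Z.presheaf).stalk x)) =
        (hV.primeIdealOf ⟨z, hzV⟩).asIdeal := by
    intro z hz hzV
    rw [asIdeal_primeIdealOf hV z hzV, Ideal.comap_comap, ← germ_comp_stalkMap g U z x hz hxU]
    rfl
  have hpA : ∀ (z : Z) (hz : g.base z = x) (hzV : z ∈ g ⁻¹ᵁ U),
      (hV.primeIdealOf ⟨z, hzV⟩).asIdeal.comap (algebraMap Γ(X, U) Γ(Z, g ⁻¹ᵁ U)) = p := by
    intro z hz hzV
    have h1 := IsAffineOpen.comap_primeIdealOf_appLE (f := g) U hU (g ⁻¹ᵁ U) hV le_rfl hzV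
    have h2 : (⟨g.base z, hzV⟩ : U) = ⟨x, hxU⟩ := Subtype.ext hz
    have h3 := congrArg PrimeSpectrum.asIdeal h1
    rw [Scheme.Hom.appLE_eq_app] at h3
    refine h3.trans ?_
    change (hU.primeIdealOf ⟨g.base z, hzV⟩).asIdeal = (hU.primeIdealOf ⟨x, hxU⟩).asIdeal
    rw [h2]
  have hzV_of : ∀ (z : Z), g.base z = x → z ∈ g ⁻¹ᵁ U := by
    intro z hz
    change g.base z ∈ U
    rw [hz]; exact hxU
  refine ⟨?_, ?_, ?_⟩
  · -- MapsTo
    rintro ⟨z, hz⟩ -
    apply hM2 _ (Ideal.comap_isPrime _ _)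
    have hzV := hzV_of z hz
    have e1 : algebraMap Γ(X, U) ((g.base _* Z.presheaf).stalk x) =
        (algebraMap Γ(Z, g ⁻¹ᵁ U) ((g.base _* Z.presheaf).stalk x)).comp
          (algebraMap Γ(X, U) Γ(Z, g ⁻¹ᵁ U)) := rfl
    rw [e1, ← Ideal.comap_comap]
    erw [hq z hz hzV]
    exact hpA z hz hzV
  · -- InjOn
    rintro ⟨z1, hz1⟩ - ⟨z2, hz2⟩ - h
    have h1 := hq z1 hz1 (hzV_of z1 hz1)
    have h2 := hq z2 hz2 (hzV_of z2 hz2)
    dsimp only at h
    rw [h] at h1
    have h3 : hV.primeIdealOf ⟨z1, hzV_of z1 hz1⟩ = hV.primeIdealOf ⟨z2, hzV_of z2 hz2⟩ :=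
      PrimeSpectrum.ext (h1.symm.trans h2)
    have h4 := hV.fromSpec_primeIdealOf ⟨z1, hzV_of z1 hz1⟩
    rw [h3, hV.fromSpec_primeIdealOf] at h4
    exact Subtype.ext h4.symm
  · -- SurjOn
    intro Q hQ
    have hQmax : Q.IsMaximal := hQ
    haveI hQprime : Q.IsPrime := hQmax.isPrime
    let y : PrimeSpectrum Γ(Z, g ⁻¹ᵁ U) :=
      ⟨Q.comap (algebraMap Γ(Z, g ⁻¹ᵁ U) ((g.base _* Z.presheaf).stalk x)), inferInstance⟩
    let z : Z := hV.fromSpec y
    have hzV : z ∈ g ⁻¹ᵁ U := by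
      rw [← SetLike.mem_coe, ← hV.range_fromSpec]
      exact ⟨y, rfl⟩
    have hy : hV.primeIdealOf ⟨z, hzV⟩ = y :=
      hV.fromSpec.isOpenEmbedding.injective (hV.fromSpec_primeIdealOf ⟨z, hzV⟩)
    have hgz : g.base z = x := by
      have h1 := IsAffineOpen.comap_primeIdealOf_appLE (f := g) U hU (g ⁻¹ᵁ U) hV le_rfl hzV
      rw [hy] at h1
      have h2 : hU.primeIdealOf ⟨g.base z, hzV⟩ = hU.primeIdealOf ⟨x, hxU⟩ := by
        rw [← h1]
        apply PrimeSpectrum.ext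
        rw [Scheme.Hom.appLE_eq_app]
        change (Q.comap (algebraMap Γ(Z, g ⁻¹ᵁ U) ((g.base _* Z.presheaf).stalk x))).comap
          (algebraMap Γ(X, U) Γ(Z, g ⁻¹ᵁ U)) = p
        rw [Ideal.comap_comap]
        exact hM1 Q hQmax
      have h3 := hU.fromSpec_primeIdealOf ⟨g.base z, hzV⟩
      rw [h2, hU.fromSpec_primeIdealOf] at h3
      exact h3.symm
    refine ⟨⟨z, hgz⟩, Set.mem_univ _, ?_⟩
    have h1 := hq z hgz hzV
    rw [hy] at h1
    dsimp only
    rw [← IsLocalization.map_under (Algebra.algebraMapSubmonoid Γ(Z, g ⁻¹ᵁ U) p.primeCompl)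
      ((g.base _* Z.presheaf).stalk x) Q, Ideal.under_def,
      ← IsLocalization.map_under (Algebra.algebraMapSubmonoid Γ(Z, g ⁻¹ᵁ U) p.primeCompl)
      ((g.base _* Z.presheaf).stalk x) (Ideal.comap _ _), Ideal.under_def, h1]


end Aux

/-- Let g : Z ⟶ X be a finite morphism of schemes (Z is the spectrum of the finite quasi-coherent
O_X-algebra C = g_*O_Z) and x a point of X. Then the points of Z over x correspond bijectively to
the maximal ideals of the stalk C_x = (g_*O_Z)_x: the map sending z with g(z) = x to the preimage of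
the maximal ideal of O_{Z,z} under the canonical map (g_*O_Z)_x ⟶ O_{Z,z} is a bijection from the
fibre onto the set of maximal ideals. -/
theorem result {Z X : Scheme.{u}} (g : Z ⟶ X)
    [IsFinite g] (x : X) :
    Set.BijOn (fun z : {z : Z // g.base z = x} =>
        Ideal.comap (((g.base _* Z.presheaf).stalkCongr (Inseparable.of_eq z.2)).inv ≫
            TopCat.Presheaf.stalkPushforward CommRingCat g.base Z.presheaf z.1).hom
          (IsLocalRing.maximalIdeal (Z.presheaf.stalk z.1)))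
      Set.univ {I : Ideal ((g.base _* Z.presheaf).stalk x) | I.IsMaximal} := by
  exact main g x

end Groth.Agent.S15547
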