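import Groth.Statements.S15549
-- import your own Groth.Agent.* helpers here
import Mathlib.RingTheory.GradedAlgebra.Radical

set_option autoImplicit false
universe u
open CategoryTheory AlgebraicGeometry
open LocCoh

namespace Groth.Agent.S15549

open TopologicalSpace Opposite

theorem alpha_eq_zero_iff {R σ : Type u} [CommRing R] [SetLike σ R] [AddSubgroupClass σ R]
    (𝒜 : ℕ → σ) [GradedRing 𝒜] {M τ : Type u} [AddCommGroup M] [Module R M] [SetLike τ M] [AddSubgroupClass τ M]
    (ℳ : ℕ → τ) [SetLike.GradedSMul 𝒜 ℳ]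
    (i : ℕ) (m : ℳ i) :
    GrMod.alpha 𝒜 ℳ i m = 0 ↔
      ∀ x : ProjectiveSpectrum 𝒜, ∃ s : R, s ∉ x.asHomogeneousIdeal ∧ s • (m : M) = 0 := by
  have h0 : GrMod.alpha 𝒜 ℳ i m = 0 ↔ GrMod.globalOf 𝒜 ℳ m = 0 := Iff.rfl
  rw [h0, Subtype.ext_iff, funext_iff]
  constructor
  · intro h x
    have h2 := congr(($(h ⟨x, trivial⟩) : GrMod.LocMod 𝒜 (M := M) x))
    rw [GrMod.globalOf_apply_coe] at h2
    change LocalizedModule.mk (m : M) 1 = 0 at h2
    rw [← LocalizedModule.zero_mk 1, LocalizedModule.mk_eq] at h2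
    obtain ⟨u, hu⟩ := h2
    refine ⟨u.1, u.2, ?_⟩
    simpa [Submonoid.smul_def] using hu
  · intro h x
    obtain ⟨s, hs, hsm⟩ := h x.1
    apply Subtype.ext
    rw [GrMod.globalOf_apply_coe]
    change LocalizedModule.mk (m : M) 1 = 0
    rw [← LocalizedModule.zero_mk 1, LocalizedModule.mk_eq]
    exact ⟨⟨s, hs⟩, by simpa [Submonoid.smul_def] using hsm⟩


theorem ann_isHomogeneous {R σ : Type u} [CommRing R] [SetLike σ R] [AddSubgroupClass σ R]
    (𝒜 : ℕ → σ) [GradedRing 𝒜] {M τ : Type u} [AddCommGroup M] [Module R M] [SetLike τ M]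
    [AddSubgroupClass τ M]
    (ℳ : ℕ → τ) [SetLike.GradedSMul 𝒜 ℳ] [DirectSum.Decomposition ℳ]
    (i : ℕ) (m : ℳ i) :
    (LinearMap.ker (LinearMap.toSpanSingleton R M (m : M))).IsHomogeneous 𝒜 := by
  classical
  intro j r hr
  rw [LinearMap.mem_ker, LinearMap.toSpanSingleton_apply] at hr ⊢
  have hsum : ∑ j' ∈ (DirectSum.decompose 𝒜 r).support,
      (DirectSum.decompose 𝒜 r j' : R) • (m : M) = 0 := by
    rw [← Finset.sum_smul, DirectSum.sum_support_decompose, hr]
  let π : M →+ M := (AddSubmonoidClass.subtype (ℳ (j + i))).comp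
    ((DFinsupp.evalAddMonoidHom (j + i)).comp (DirectSum.decomposeAddEquiv ℳ).toAddMonoidHom)
  have hπ : ∀ (j' : ℕ) (y : M), y ∈ ℳ (j' + i) → π y = if j' = j then y else 0 := by
    intro j' y hy
    change ((DirectSum.decompose ℳ y) (j + i) : M) = _
    split_ifs with h
    · subst h
      exact DirectSum.decompose_of_mem_same ℳ hy
    · exact DirectSum.decompose_of_mem_ne ℳ hy (by omega)
  have h2 := congr(π $hsum)
  rw [map_sum, map_zero] at h2
  have h3 : ∀ j' ∈ (DirectSum.decompose 𝒜 r).support,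
      π ((DirectSum.decompose 𝒜 r j' : R) • (m : M)) =
        if j' = j then (DirectSum.decompose 𝒜 r j' : R) • (m : M) else 0 := fun j' _ =>
    hπ j' _ (SetLike.GradedSMul.smul_mem (DirectSum.decompose 𝒜 r j').2 m.2)
  rw [Finset.sum_congr rfl h3, Finset.sum_ite_eq'] at h2
  by_cases hj : j ∈ (DirectSum.decompose 𝒜 r).support
  · rwa [if_pos hj] at h2
  · rw [DFinsupp.notMem_support_iff] at hj
    rw [hj]
    simp


/-- Let R be a Noetherian commutative ring, positively graded by additive subgroups R_d, with irrelevant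
ideal R_+ and X = Proj R, and let M be a graded R-module which is the direct sum of its pieces M_i,
i ≥ 0 (non-negatively graded here). For every i and every m ∈ M_i, the global section of M(i)~
defined by m (the value m/1 at every point) is zero if and only if some power of R_+ annihilates m.
Equivalently, degree by degree, the kernel of the canonical map from M to the direct sum over all n
of Γ(X, M(n)~) is the R_+-power-torsion submodule H^0_{R_+}(M). -/
theorem result {R σ : Type u} [CommRing R] [IsNoetherianRing R] [SetLike σ R] [AddSubgroupClass σ R]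
    (𝒜 : ℕ → σ) [GradedRing 𝒜] {M τ : Type u} [AddCommGroup M] [Module R M] [SetLike τ M] [AddSubgroupClass τ M]
    (ℳ : ℕ → τ) [SetLike.GradedSMul 𝒜 ℳ] [DirectSum.Decomposition ℳ]
    (i : ℕ) (m : ℳ i) :
    GrMod.alpha 𝒜 ℳ i m = 0 ↔
      ∃ k : ℕ, ∀ r : R, r ∈ (HomogeneousIdeal.irrelevant 𝒜).toIdeal ^ k → r • (m : M) = 0 := by
  rw [alpha_eq_zero_iff]
  let I : Ideal R := LinearMap.ker (LinearMap.toSpanSingleton R M (m : M))
  have hI : I.IsHomogeneous 𝒜 := ann_isHomogeneous 𝒜 ℳ i m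
  have hmem : ∀ r : R, r ∈ I ↔ r • (m : M) = 0 := fun r => by
    rw [LinearMap.mem_ker, LinearMap.toSpanSingleton_apply]
  constructor
  · intro h
    have hle : (HomogeneousIdeal.irrelevant 𝒜).toIdeal ≤ I.radical := by
      intro f hf
      by_contra hfI
      rw [hI.radical_eq, Ideal.mem_sInf] at hfI
      push Not at hfI
      obtain ⟨J, ⟨hJh, hIJ, hJp⟩, hfJ⟩ := hfI
      let x : ProjectiveSpectrum 𝒜 := ⟨⟨J, hJh⟩, hJp, fun hle => hfJ (hle hf)⟩
      obtain ⟨s, hs, hsm⟩ := h x
      exact hs (hIJ ((hmem s).mpr hsm))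
    obtain ⟨k, hk⟩ := Ideal.exists_pow_le_of_le_radical_of_fg hle (IsNoetherian.noetherian _)
    exact ⟨k, fun r hr => (hmem r).mp (hk hr)⟩
  · rintro ⟨k, hk⟩ x
    have hx := x.not_irrelevant_le
    obtain ⟨f, hf, hfx⟩ := SetLike.not_le_iff_exists.mp hx
    refine ⟨f ^ k, fun h => hfx (x.isPrime.mem_of_pow_mem k h), hk _ (Ideal.pow_mem_pow hf k)⟩

end Groth.Agent.S15549
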