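import Groth.Statements.S15550
import Groth.Agent.Lib.Helper98.GrCechH0
import Groth.Agent.Lib.Helper98.AffineKoszul
import Groth.Agent.Lib.Helper98.GrSerreBridge
import Groth.Agent.S5173

set_option autoImplicit false
universe u
open CategoryTheory AlgebraicGeometry Opposite
open LocCoh

namespace Groth.Agent.S15550

section Helpers

open TopologicalSpace
open Groth.Agent.Lib.Helper98.GrCechCover Groth.Agent.Lib.Helper98.GrCechLoc
open Groth.Agent.Lib.Helper98.GrCechH0 Groth.Agent.Lib.Helper98.AffineKoszul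

variable {A : Type u} [CommRing A]

lemma iSup_VS (fs : List A) :
    iSup (VS (CommRingCat.of A) fs) = LocCoh.puncturedOpen A (Ideal.span {a | a ∈ fs}) := by
  ext x
  simp only [SetLike.mem_coe, Opens.mem_iSup]
  constructor
  · rintro ⟨i, hi⟩ hx
    have hx' : (show PrimeSpectrum A from x) ∈
        PrimeSpectrum.zeroLocus (R := A) (Ideal.span {a | a ∈ fs} : Set A) := hx
    rw [PrimeSpectrum.mem_zeroLocus] at hx'
    exact hi (hx' (Ideal.subset_span (List.get_mem fs i.down)))
  · intro hx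
    have hx' : ¬ ((show PrimeSpectrum A from x) ∈
        PrimeSpectrum.zeroLocus (R := A) (Ideal.span {a | a ∈ fs} : Set A)) := hx
    rw [PrimeSpectrum.mem_zeroLocus, SetLike.coe_subset_coe, Ideal.span_le] at hx'
    obtain ⟨a, ha, hax⟩ := Set.not_subset.1 hx'
    obtain ⟨i, hi⟩ := List.mem_iff_get.1 ha
    refine ⟨⟨i⟩, ?_⟩
    change fs.get i ∉ (show PrimeSpectrum A from x).asIdeal
    rw [hi]
    exact hax

lemma surj_top (M : ModuleCat.{u} A) :
    Function.Surjective (tO (CommRingCat.of A) M ⊤) := by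
  haveI : IsIso (tilde.toOpen (R := CommRingCat.of A) M ⊤) :=
    tilde.isIso_toOpen_top (R := CommRingCat.of A) (M := M)
  exact (ConcreteCategory.bijective_of_isIso (tilde.toOpen (R := CommRingCat.of A) M ⊤)).2

theorem specSide' (fs : List A) (M : ModuleCat.{u} A) (W : (Spec (CommRingCat.of A)).Opens)
    (hW : W = LocCoh.puncturedOpen A (Ideal.span {a | a ∈ fs})) :
    Nonempty (((Coh.toAb (tilde (R := CommRingCat.of A) M)).obj.obj (op W) ⧸
      (tO (CommRingCat.of A) M W).toAddMonoidHom.range) ≃+ CohIII.koszulHLim fs M 1) := by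
  subst hW
  obtain ⟨e⟩ := cokerEquiv A fs M
  have hr : (tO (CommRingCat.of A) M
      (LocCoh.puncturedOpen A (Ideal.span {a | a ∈ fs}))).toAddMonoidHom.range =
      ((Coh.toAb (tilde (R := CommRingCat.of A) M)).obj.map
        (homOfLE (le_top : LocCoh.puncturedOpen A (Ideal.span {a | a ∈ fs}) ≤ ⊤)).op).hom.range := by
    ext x
    constructor
    · rintro ⟨m, rfl⟩
      exact ⟨tO (CommRingCat.of A) M ⊤ m, rfl⟩
    · rintro ⟨y, rfl⟩
      obtain ⟨m, rfl⟩ := surj_top M y
      exact ⟨m, rfl⟩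
  obtain ⟨e'⟩ := quot_congr _ _ (AddEquiv.refl _) (show AddSubgroup.map (AddEquiv.refl _).toAddMonoidHom
    (tO (CommRingCat.of A) M
      (LocCoh.puncturedOpen A (Ideal.span {a | a ∈ fs}))).toAddMonoidHom.range = _ from
      (AddSubgroup.map_id _).trans hr)
  exact ⟨e'.trans e⟩

theorem main {R σ : Type u} [CommRing R] [IsNoetherianRing R] [SetLike σ R] [AddSubgroupClass σ R]
    (𝒜 : ℕ → σ) [GradedRing 𝒜] {M τ : Type u} [AddCommGroup M] [Module R M] [SetLike τ M] [AddSubgroupClass τ M]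
    (ℳ : ℕ → τ) [SetLike.GradedSMul 𝒜 ℳ] [DirectSum.Decomposition ℳ] :
    Nonempty ((DirectSum ℤ (fun n : ℤ => ((GrMod.tilde 𝒜 ℳ n).val.obj (op ⊤) : Type u)) ⧸
        AddSubgroup.closure (⋃ i : ℕ, Set.range (fun m : ℳ i =>
          DirectSum.of (fun n : ℤ => ((GrMod.tilde 𝒜 ℳ n).val.obj (op ⊤) : Type u)) (i : ℤ)
            (GrMod.alpha 𝒜 ℳ i m)))) ≃+
      LocCoh.H (HomogeneousIdeal.irrelevant 𝒜).toIdeal 1 M) := by
  obtain ⟨r, f, d, hf, hd, hspan⟩ := Groth.Agent.Lib.Helper98.GrSerreBridge.exists_gens 𝒜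
  have hfs : ∀ a ∈ List.ofFn f, ∃ e : ℕ, 0 < e ∧ a ∈ 𝒜 e := by
    intro a ha
    obtain ⟨j, rfl⟩ := (List.mem_ofFn' f a).1 ha
    exact ⟨d j, hd j, hf j⟩
  have hex : ∀ i : Fin (List.ofFn f).length, ∃ e : ℕ, 0 < e ∧ (List.ofFn f).get i ∈ 𝒜 e :=
    fun i => hfs _ (List.get_mem _ i)
  choose dg hdg using hex
  have hset : {a | a ∈ List.ofFn f} = Set.range f := by
    ext a
    exact List.mem_ofFn' f a
  have hI : (HomogeneousIdeal.irrelevant 𝒜).toIdeal = Ideal.span {a | a ∈ List.ofFn f} := by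
    rw [hset]
    exact hspan
  have hcov : iSup (UP (CommRingCat.of R) 𝒜 (List.ofFn f)) = ⊤ := by
    rw [eq_top_iff]
    intro x _
    by_contra hx
    apply x.not_irrelevant_le
    change (HomogeneousIdeal.irrelevant 𝒜).toIdeal ≤ x.asHomogeneousIdeal.toIdeal
    rw [hI, Ideal.span_le]
    intro a ha
    obtain ⟨i, rfl⟩ := List.mem_iff_get.1 ha
    by_contra hax
    exact hx (Opens.mem_iSup.2 ⟨⟨i⟩, hax⟩)
  obtain ⟨e1⟩ := coker_equiv (CommRingCat.of R) 𝒜 (ModuleCat.of R M) ℳ (List.ofFn f) dg hdg hcov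
  obtain ⟨e2⟩ := specSide' (List.ofFn f) (ModuleCat.of R M) _ (iSup_VS (List.ofFn f))
  obtain ⟨e3⟩ := Groth.Agent.S5173.result R (List.ofFn f) M 1
  rw [hI]
  exact ⟨(e1.trans e2).trans e3.symm.toAddEquiv⟩

end Helpers


/-- Let R be a Noetherian commutative ring, positively graded by additive subgroups R_d, with irrelevant
ideal R_+ and X = Proj R, and let M be a graded R-module which is the direct sum of its pieces M_i,
i ≥ 0 (non-negatively graded here). Consider the canonical map from M to the direct sum over all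
integers n of the groups of global sections Γ(X, M(n)~), which on M_i is m ↦ m/1. Its cokernel — the
quotient of that direct sum by the subgroup generated by the images of all the M_i — is isomorphic
to the first local cohomology module H^1_{R_+}(M) of M with support in R_+. Together with the
description of the kernel as H^0_{R_+}(M) this is the four-term exact sequence 0 → H^0_{R_+}(M) → M
→ ⊕_n Γ(X, M(n)~) → H^1_{R_+}(M) → 0. (The published statement's isomorphism is canonical and linear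
over R_0; this row asserts only the existence of an additive isomorphism.) -/
theorem result {R σ : Type u} [CommRing R] [IsNoetherianRing R] [SetLike σ R] [AddSubgroupClass σ R]
    (𝒜 : ℕ → σ) [GradedRing 𝒜] {M τ : Type u} [AddCommGroup M] [Module R M] [SetLike τ M] [AddSubgroupClass τ M]
    (ℳ : ℕ → τ) [SetLike.GradedSMul 𝒜 ℳ] [DirectSum.Decomposition ℳ] :
    Nonempty ((DirectSum ℤ (fun n : ℤ => ((GrMod.tilde 𝒜 ℳ n).val.obj (op ⊤) : Type u)) ⧸
        AddSubgroup.closure (⋃ i : ℕ, Set.range (fun m : ℳ i =>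
          DirectSum.of (fun n : ℤ => ((GrMod.tilde 𝒜 ℳ n).val.obj (op ⊤) : Type u)) (i : ℤ)
            (GrMod.alpha 𝒜 ℳ i m)))) ≃+
      LocCoh.H (HomogeneousIdeal.irrelevant 𝒜).toIdeal 1 M) := by
  exact main 𝒜 ℳ

end Groth.Agent.S15550
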