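import Groth.Statements.S1556
import Mathlib
import Groth.Agent.Lib.Helper51.SmoothStalk
import Groth.Agent.S13844
-- import your own Groth.Agent.* helpers here

set_option autoImplicit false
universe u
open CategoryTheory CategoryTheory.Limits AlgebraicGeometry
attribute [local instance] Curv2.resAlgebra
open Variety

namespace Groth.Agent.S1556
set_option linter.style.haveILetI false
open Groth.Agent.Lib.Helper51 IsLocalRing

/-- A closed point of an integral scheme of dimension one is not the generic point: its local ring
is not a field. -/
theorem maximalIdeal_stalk_ne_bot {X : Scheme.{u}} [IsIntegral X] (hdim : topologicalKrullDim X = 1)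
    (x : X) (hx : IsClosed ({x} : Set X)) : maximalIdeal (X.presheaf.stalk x) ≠ ⊥ := by
  intro hbot
  have hfield : IsField (X.presheaf.stalk x) := IsLocalRing.isField_iff_maximalIdeal_eq.mpr hbot
  have h0 : ringKrullDim (X.presheaf.stalk x) = 0 := by
    letI := hfield.toField
    exact ringKrullDim_eq_zero_of_field _
  rw [ringKrullDim_stalk_eq_coheight] at h0
  have h0' : Order.coheight x = 0 := by exact_mod_cast h0
  rw [Order.coheight_eq_zero] at h0'
  have h1 : genericPoint X ⤳ x := genericPoint_specializes x
  have h2 : x ≤ genericPoint X := h1
  have h3 : genericPoint X ≤ x := h0' h2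
  have h4 : x ⤳ genericPoint X := h3
  have h5 : x = genericPoint X := (h4.antisymm h1).eq
  have h6 : ({x} : Set X) = Set.univ := by
    rw [← hx.closure_eq, h5, genericPoint_closure]
  haveI : Subsingleton X := by
    refine ⟨fun a b => ?_⟩
    have ha : a ∈ ({x} : Set X) := h6 ▸ Set.mem_univ a
    have hb : b ∈ ({x} : Set X) := h6 ▸ Set.mem_univ b
    rw [Set.mem_singleton_iff] at ha hb
    rw [ha, hb]
  have := topologicalKrullDim_zero_of_discreteTopology X
  rw [hdim] at this
  exact absurd this (by decide)


/-- Let X be a curve over k (integral, separated, of finite type, of dimension one) and x a closed point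
whose residue field is separable over k. Then the local ring at x is a discrete valuation ring if
and only if x lies in the smooth locus of X → Spec k. -/
theorem result (k : Type u) [Field k] (X : Scheme.{u}) [X.Over (Spec (CommRingCat.of k))] [IsIntegral X]
    [IsSeparated (X ↘ (Spec (CommRingCat.of k)))] [LocallyOfFinitePresentation (X ↘ (Spec (CommRingCat.of k)))] [QuasiCompact (X ↘ (Spec (CommRingCat.of k)))]
    (hdim : topologicalKrullDim X = 1) (x : X) (hx : IsClosed ({x} : Set X))
    [Algebra.IsSeparable k (X.residueField x)] :
    IsDiscreteValuationRing (X.presheaf.stalk x) ↔ x ∈ (X ↘ (Spec (CommRingCat.of k))).smoothLocus := by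
  haveI : IsLocallyNoetherian X :=
    LocallyOfFiniteType.isLocallyNoetherian (X ↘ (Spec (CommRingCat.of k)))
  constructor
  · intro hdvr
    haveI : IsRegularLocalRing (X.presheaf.stalk x) := inferInstance
    refine mem_smoothLocus_of_isRegularLocalRing_stalk (X ↘ (Spec (CommRingCat.of k))) x ?_
    haveI : Algebra.FormallyEtale k (X.residueField x) := Algebra.FormallyEtale.of_isSeparable k _
    have h1 : (algebraMap k (X.residueField x)).FormallySmooth :=
      RingHom.formallySmooth_algebraMap.mpr inferInstance
    letI := stalkAlg (X ↘ (Spec (CommRingCat.of k))) x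
    rw [← RingHom.formallySmooth_algebraMap]
    exact h1
  · intro hsm
    haveI : IsRegularLocalRing (X.presheaf.stalk x) :=
      isRegularLocalRing_stalk_of_mem_smoothLocus (X ↘ (Spec (CommRingCat.of k))) x hsm
    have hdim1 : ringKrullDim (X.presheaf.stalk x) ≤ 1 :=
      Groth.Agent.S13844.ringKrullDim_stalk_le 1 hdim.le x
    have hfr := (IsRegularLocalRing.iff_finrank_cotangentSpace
      (R := X.presheaf.stalk x)).mp inferInstance
    have h5 : Module.finrank (ResidueField (X.presheaf.stalk x))
        (CotangentSpace (X.presheaf.stalk x)) ≤ 1 := by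
      rw [← hfr] at hdim1
      exact_mod_cast hdim1
    haveI : IsPrincipalIdealRing (X.presheaf.stalk x) :=
      ((tfae_of_isNoetherianRing_of_isLocalRing_of_isDomain (X.presheaf.stalk x)).out 5 0).mp h5
    exact { not_a_field' := maximalIdeal_stalk_ne_bot hdim x hx }


end Groth.Agent.S1556
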