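import Groth.Statements.S15560
import Groth.Agent.Lib.Helper80.Kron

set_option autoImplicit false
universe u v w
open KronMod

namespace Groth.Agent.S15560

/-- Let f be a Kronecker module with n arrows over a field K, from a space V of dimension d₋₁ > 0 to a
space W of dimension d₀ > 0. If n·d₋₁ < d₀ or n·d₀ < d₋₁, then f is not semistable; that is, there
are no semistable Kronecker modules of dimension vector (d₋₁, d₀). (The published statement assumes
K algebraically closed of characteristic zero and n ≥ 2; this row allows any field K and any number
n of arrows.) -/
theorem result (K : Type u) [Field K] (V : Type v) (W : Type w)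
    [AddCommGroup V] [Module K V] [FiniteDimensional K V]
    [AddCommGroup W] [Module K W] [FiniteDimensional K W]
    (n : ℕ) (f : Fin n → (V →ₗ[K] W))
    (hV : 0 < Module.finrank K V) (hW : 0 < Module.finrank K W)
    (h : n * Module.finrank K V < Module.finrank K W ∨ n * Module.finrank K W < Module.finrank K V) :
    ¬ KronMod.IsSemistable f := by
  classical
  intro hss
  rcases h with h | h
  · have hVtop : (⊤ : Submodule K V) ≠ ⊥ := by
      intro h'
      have := finrank_top K V
      rw [h', finrank_bot] at this
      omega
    have hr : Module.finrank K (LinearMap.range (Groth.Agent.Lib.Helper80.Kron.sumMap f)) ≤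
        n * Module.finrank K V := by
      rw [← Groth.Agent.Lib.Helper80.Kron.finrank_fun]
      exact LinearMap.finrank_range_le _
    have hne : LinearMap.range (Groth.Agent.Lib.Helper80.Kron.sumMap f) ≠ ⊤ := by
      intro h'
      rw [h', finrank_top] at hr
      omega
    have := hss.2 ⊤ _ (Groth.Agent.Lib.Helper80.Kron.isSubrep_top_range f)
      (fun h' => hVtop h'.1) (fun h' => hne h'.2)
    rw [finrank_top, mul_comm] at this
    have := Nat.le_of_mul_le_mul_left this hV
    omega
  · have hWtop : (⊥ : Submodule K W) ≠ ⊤ := by
      intro h'
      have := finrank_top K W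
      rw [← h', finrank_bot] at this
      omega
    have hk : Module.finrank K V ≤
        n * Module.finrank K W + Module.finrank K (LinearMap.ker (Groth.Agent.Lib.Helper80.Kron.piMap f)) := by
      have h1 := LinearMap.finrank_range_add_finrank_ker (Groth.Agent.Lib.Helper80.Kron.piMap f)
      have h2 : Module.finrank K (LinearMap.range (Groth.Agent.Lib.Helper80.Kron.piMap f)) ≤
          n * Module.finrank K W := by
        rw [← Groth.Agent.Lib.Helper80.Kron.finrank_fun]
        exact Submodule.finrank_le _
      omega
    have hne : LinearMap.ker (Groth.Agent.Lib.Helper80.Kron.piMap f) ≠ ⊥ := by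
      intro h'
      rw [h', finrank_bot] at hk
      omega
    have := hss.2 _ ⊥ (Groth.Agent.Lib.Helper80.Kron.isSubrep_ker_bot f)
      (fun h' => hne h'.1) (fun h' => hWtop h'.2)
    rw [finrank_bot, mul_zero, Nat.le_zero, mul_eq_zero] at this
    rcases this with h' | h'
    · omega
    · exact hne (Submodule.finrank_eq_zero.mp h')

end Groth.Agent.S15560
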