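import Groth.Statements.S15563
import Groth.Agent.Lib.Helper80.Kron

set_option autoImplicit false
universe u v w
open KronMod

namespace Groth.Agent.S15563

/-- Let f be a Kronecker module with n arrows over a field K, from V of dimension d₋₁ > 0 to W of
dimension n·d₋₁. Then f is stable if and only if f is semistable and d₋₁ = 1: for d₋₁ = 1 every
semistable module is stable (so the stable locus of K(n; 1, n) is the one point), while for d₋₁ > 1
no module is stable. (The published statement assumes K algebraically closed of characteristic zero
and n ≥ 2; this row allows any field K and any number n of arrows.) -/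
theorem result (K : Type u) [Field K] (V : Type v) (W : Type w)
    [AddCommGroup V] [Module K V] [FiniteDimensional K V]
    [AddCommGroup W] [Module K W] [FiniteDimensional K W]
    (n : ℕ) (f : Fin n → (V →ₗ[K] W))
    (hV : 0 < Module.finrank K V) (hW : Module.finrank K W = n * Module.finrank K V) :
    KronMod.IsStable f ↔ (KronMod.IsSemistable f ∧ Module.finrank K V = 1) := by
  classical
  constructor
  · intro hst
    refine ⟨Groth.Agent.Lib.Helper80.Kron.isSemistable_of_isStable hst, ?_⟩
    by_contra hne
    have h2 : 2 ≤ Module.finrank K V := by omega
    obtain ⟨v, hv⟩ := Module.finrank_pos_iff_exists_ne_zero.mp hV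
    have hV'1 : Module.finrank K (Submodule.span K ({v} : Set V)) = 1 := finrank_span_singleton hv
    have hW'n : Module.finrank K (Submodule.span K (Set.range fun j => f j v)) ≤ n := by
      have := finrank_range_le_card (R := K) (fun j => f j v)
      rw [Fintype.card_fin] at this
      exact this
    have hsub : KronMod.IsSubrep f (Submodule.span K ({v} : Set V))
        (Submodule.span K (Set.range fun j => f j v)) := by
      rintro j _ ⟨x, hx, rfl⟩
      obtain ⟨c, rfl⟩ := Submodule.mem_span_singleton.mp hx
      rw [map_smul]
      exact Submodule.smul_mem _ _ (Submodule.subset_span ⟨j, rfl⟩)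
    have := hst.2 _ _ hsub
      (fun h => by rw [h.1, finrank_bot] at hV'1; omega)
      (fun h => by rw [h.1, finrank_top] at hV'1; omega)
    rw [hV'1, mul_one, hW] at this
    have h3 : Module.finrank K V * Module.finrank K (Submodule.span K (Set.range fun j => f j v)) ≤
        Module.finrank K V * n := Nat.mul_le_mul_left _ hW'n
    rw [mul_comm n] at this
    omega
  · rintro ⟨hss, h1⟩
    have hb := (Groth.Agent.Lib.Helper80.Kron.isSemistable_iff_sumMap_bijective f hV hW).mp hss
    refine ⟨hss.1, ?_⟩
    intro V' W' hsub hbot htop
    have hV'le : Module.finrank K V' ≤ 1 := h1 ▸ Submodule.finrank_le V'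
    rcases Nat.eq_zero_or_pos (Module.finrank K V') with h0 | hpos
    · have hV'bot : V' = ⊥ := Submodule.finrank_eq_zero.mp h0
      have hW'ne : W' ≠ ⊥ := fun h => hbot ⟨hV'bot, h⟩
      have hW'pos : 0 < Module.finrank K W' := by
        rcases Nat.eq_zero_or_pos (Module.finrank K W') with h | h
        · exact absurd (Submodule.finrank_eq_zero.mp h) hW'ne
        · exact h
      rw [h0, mul_zero, h1, one_mul]
      exact hW'pos
    · exfalso
      have hV'top : V' = ⊤ := Submodule.eq_top_of_finrank_eq (by omega)
      subst hV'top
      have hr := Groth.Agent.Lib.Helper80.Kron.range_le_of_isSubrep_top hsub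
      rw [LinearMap.range_eq_top.mpr hb.2, top_le_iff] at hr
      exact htop ⟨rfl, hr⟩

end Groth.Agent.S15563
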