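import Groth.Statements.S15564
import Groth.Agent.Lib.Helper80.Kron

set_option autoImplicit false
universe u v w
open KronMod

namespace Groth.Agent.S15564

/-- For a Kronecker module f with n arrows over a field K between one-dimensional spaces V and W,
semistability, stability and f ≠ 0 are equivalent: the semistable locus and the stable locus of
dimension vector (1, 1) are both the complement of the zero module. (The published statement assumes
K algebraically closed of characteristic zero and n ≥ 2; this row allows any field K and any n.) -/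
theorem result (K : Type u) [Field K] (V : Type v) (W : Type w)
    [AddCommGroup V] [Module K V] [FiniteDimensional K V]
    [AddCommGroup W] [Module K W] [FiniteDimensional K W]
    (n : ℕ) (f : Fin n → (V →ₗ[K] W))
    (hV : Module.finrank K V = 1) (hW : Module.finrank K W = 1) :
    (KronMod.IsSemistable f ↔ f ≠ 0) ∧ (KronMod.IsStable f ↔ f ≠ 0) := by
  classical
  have hVpos : 0 < Module.finrank K V := by omega
  have hWpos : 0 < Module.finrank K W := by omega
  have hss_ne : KronMod.IsSemistable f → f ≠ 0 := by
    intro hss hf0
    have hsub : KronMod.IsSubrep f ⊤ ⊥ := by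
      rintro j _ ⟨x, -, rfl⟩
      rw [hf0]
      simp
    have := hss.2 ⊤ ⊥ hsub
      (fun h => Groth.Agent.Lib.Helper80.Kron.top_ne_bot_of_finrank_pos hVpos h.1)
      (fun h => Groth.Agent.Lib.Helper80.Kron.top_ne_bot_of_finrank_pos hWpos h.2.symm)
    rw [finrank_top, finrank_bot, hV, hW] at this
    omega
  have hne_st : f ≠ 0 → KronMod.IsStable f := by
    intro hf
    obtain ⟨j, hj⟩ : ∃ j, f j ≠ 0 := by
      by_contra hcon
      push Not at hcon
      exact hf (funext hcon)
    obtain ⟨v, hv⟩ : ∃ v, f j v ≠ 0 := by
      by_contra hcon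
      push Not at hcon
      exact hj (LinearMap.ext hcon)
    refine ⟨by omega, ?_⟩
    intro V' W' hsub hbot htop
    have hV'le : Module.finrank K V' ≤ 1 := hV ▸ Submodule.finrank_le V'
    have hW'le : Module.finrank K W' ≤ 1 := hW ▸ Submodule.finrank_le W'
    rw [hV, hW, one_mul, one_mul]
    rcases Nat.eq_zero_or_pos (Module.finrank K V') with h0 | hpos
    · have hV'bot : V' = ⊥ := Submodule.finrank_eq_zero.mp h0
      have hW'ne : W' ≠ ⊥ := fun h => hbot ⟨hV'bot, h⟩
      rw [h0]
      rcases Nat.eq_zero_or_pos (Module.finrank K W') with h | h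
      · exact absurd (Submodule.finrank_eq_zero.mp h) hW'ne
      · exact h
    · exfalso
      have hV'top : V' = ⊤ := Submodule.eq_top_of_finrank_eq (by omega)
      subst hV'top
      have hmem : f j v ∈ W' := hsub j ⟨v, trivial, rfl⟩
      have hW'pos : 0 < Module.finrank K W' := by
        rcases Nat.eq_zero_or_pos (Module.finrank K W') with h | h
        · have : W' = ⊥ := Submodule.finrank_eq_zero.mp h
          rw [this, Submodule.mem_bot] at hmem
          exact absurd hmem hv
        · exact h
      have hW'top : W' = ⊤ := Submodule.eq_top_of_finrank_eq (by omega)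
      exact htop ⟨rfl, hW'top⟩
  exact ⟨⟨hss_ne, fun h => Groth.Agent.Lib.Helper80.Kron.isSemistable_of_isStable (hne_st h)⟩,
    ⟨fun h => hss_ne (Groth.Agent.Lib.Helper80.Kron.isSemistable_of_isStable h), hne_st⟩⟩

end Groth.Agent.S15564
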