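import Groth.Statements.S15565
import Groth.Agent.Lib.Helper80.Kron
import Mathlib.LinearAlgebra.Eigenspace.Triangularizable
import Mathlib.Tactic.FinCases

set_option autoImplicit false
universe u v w
open KronMod

namespace Groth.Agent.S15565

/-- Over an algebraically closed field K, a Kronecker module with two arrows between spaces V and W of
the same dimension k ≥ 2 is never stable: the stable locus of dimension vector (k, k) for the
Kronecker quiver with two arrows is empty. (The published statement also assumes characteristic
zero; this row does not.) -/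
theorem result (K : Type u) [Field K] [IsAlgClosed K] (V : Type v) (W : Type w)
    [AddCommGroup V] [Module K V] [FiniteDimensional K V]
    [AddCommGroup W] [Module K W] [FiniteDimensional K W]
    (f : Fin 2 → (V →ₗ[K] W)) (k : ℕ) (hk : 2 ≤ k)
    (hV : Module.finrank K V = k) (hW : Module.finrank K W = k) :
    ¬ KronMod.IsStable f := by
  classical
  intro hst
  have hVpos : 0 < Module.finrank K V := by omega
  have hnt : Nontrivial V := Module.finrank_pos_iff.mp hVpos
  obtain ⟨v, hv, w, hw0, hw1⟩ : ∃ v : V, v ≠ 0 ∧ ∃ w : W, f 0 v ∈ Submodule.span K {w} ∧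
      f 1 v ∈ Submodule.span K {w} := by
    by_cases hinj : Function.Injective (f 1)
    · have hbij : Function.Bijective (f 1) :=
        ⟨hinj, (LinearMap.injective_iff_surjective_of_finrank_eq_finrank (hV.trans hW.symm)).mp hinj⟩
      let e : V ≃ₗ[K] W := LinearEquiv.ofBijective (f 1) hbij
      let T : Module.End K V := (e.symm : W →ₗ[K] V) ∘ₗ f 0
      obtain ⟨μ, hμ⟩ := Module.End.exists_eigenvalue T
      obtain ⟨v, hv⟩ := hμ.exists_hasEigenvector
      refine ⟨v, hv.2, f 1 v, ?_, Submodule.mem_span_singleton_self _⟩
      have h1 : T v = μ • v := hv.apply_eq_smul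
      have h2 : f 0 v = e (T v) := by simp [T]
      rw [h2, h1, map_smul]
      exact Submodule.smul_mem _ _ (Submodule.mem_span_singleton_self _)
    · have : LinearMap.ker (f 1) ≠ ⊥ := fun h => hinj (LinearMap.ker_eq_bot.mp h)
      obtain ⟨v, hvk, hv0⟩ := Submodule.exists_mem_ne_zero_of_ne_bot this
      refine ⟨v, hv0, f 0 v, Submodule.mem_span_singleton_self _, ?_⟩
      rw [LinearMap.mem_ker.mp hvk]
      exact Submodule.zero_mem _
  have hV'1 : Module.finrank K (Submodule.span K ({v} : Set V)) = 1 := finrank_span_singleton hv
  have hW'1 : Module.finrank K (Submodule.span K ({w} : Set W)) ≤ 1 := by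
    have := finrank_span_le_card (R := K) ({w} : Set W)
    simpa using this
  have hsub : KronMod.IsSubrep f (Submodule.span K ({v} : Set V)) (Submodule.span K ({w} : Set W)) := by
    rintro j _ ⟨x, hx, rfl⟩
    obtain ⟨c, rfl⟩ := Submodule.mem_span_singleton.mp hx
    rw [map_smul]
    refine Submodule.smul_mem _ _ ?_
    fin_cases j
    · exact hw0
    · exact hw1
  have := hst.2 _ _ hsub
    (fun h => by rw [h.1, finrank_bot] at hV'1; omega)
    (fun h => by rw [h.1, finrank_top] at hV'1; omega)
  rw [hV'1, mul_one, hV, hW] at this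
  have h3 : k * Module.finrank K (Submodule.span K ({w} : Set W)) ≤ k * 1 :=
    Nat.mul_le_mul_left _ hW'1
  omega

end Groth.Agent.S15565
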