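import Groth.Statements.S15566
import Groth.Agent.Lib.Helper80.Kron

set_option autoImplicit false
universe u v w
open KronMod

namespace Groth.Agent.S15566

/-- Case of dimension vector (2, 2). Over an algebraically closed field K, if a Kronecker module f with
n arrows between two-dimensional spaces V and W is semistable, then some linear combination Σ_j z_j
f_j of its arrows is a linear isomorphism V → W (equivalently, the determinant of the generic
combination is not identically zero): the semistable locus of dimension vector (2, 2) lies in the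
open set of modules whose generic combination is invertible. (The published statement, over an
algebraically closed field of characteristic zero, covers dimension vectors (1, 1) and (2, 2) for
every n ≥ 2 and (k, k) for two arrows; this row states the (2, 2) case, for any n and without the
characteristic assumption.) -/
theorem result (K : Type u) [Field K] [IsAlgClosed K] (V : Type v) (W : Type w)
    [AddCommGroup V] [Module K V] [FiniteDimensional K V]
    [AddCommGroup W] [Module K W] [FiniteDimensional K W]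
    (n : ℕ) (f : Fin n → (V →ₗ[K] W))
    (hV : Module.finrank K V = 2) (hW : Module.finrank K W = 2)
    (hf : KronMod.IsSemistable f) :
    ∃ z : Fin n → K, Function.Bijective ((∑ j, z j • f j : V →ₗ[K] W) : V → W) := by
  classical
  by_contra hcon
  push Not at hcon
  have hVpos : 0 < Module.finrank K V := by omega
  have hWpos : 0 < Module.finrank K W := by omega
  let L : Submodule K (V →ₗ[K] W) := Submodule.span K (Set.range f)
  have hfL : ∀ j, f j ∈ L := fun j => Submodule.subset_span ⟨j, rfl⟩
  -- every element of L is singular, hence of rank ≤ 1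
  have hsing : ∀ g ∈ L, ¬ Function.Injective g := by
    intro g hg hinj
    obtain ⟨z, rfl⟩ := (Submodule.mem_span_range_iff_exists_fun K).mp hg
    exact hcon z ⟨hinj,
      (LinearMap.injective_iff_surjective_of_finrank_eq_finrank (hV.trans hW.symm)).mp hinj⟩
  have hR : ∀ g ∈ L, ∀ x, g x ≠ 0 → ∀ y, g y ∈ Submodule.span K {g x} := by
    intro g hg x hx y
    have hker : LinearMap.ker g ≠ ⊥ := fun h => hsing g hg (LinearMap.ker_eq_bot.mp h)
    have hkpos : 0 < Module.finrank K (LinearMap.ker g) := by
      rcases Nat.eq_zero_or_pos (Module.finrank K (LinearMap.ker g)) with h | h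
      · exact absurd (Submodule.finrank_eq_zero.mp h) hker
      · exact h
    have hrn := LinearMap.finrank_range_add_finrank_ker g
    have hle : Submodule.span K {g x} ≤ LinearMap.range g := by
      rw [Submodule.span_singleton_le_iff_mem]
      exact ⟨x, rfl⟩
    have h1 : Module.finrank K (Submodule.span K {g x}) = 1 := finrank_span_singleton hx
    have heq : Submodule.span K {g x} = LinearMap.range g :=
      Submodule.eq_of_le_of_finrank_le hle (by omega)
    rw [heq]
    exact ⟨y, rfl⟩
  -- no common kernel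
  have hN : ∀ v : V, v ≠ 0 → ∃ g ∈ L, g v ≠ 0 := by
    intro v hv
    by_contra hall
    push Not at hall
    have hV'1 : Module.finrank K (Submodule.span K ({v} : Set V)) = 1 := finrank_span_singleton hv
    have hsub : KronMod.IsSubrep f (Submodule.span K ({v} : Set V)) ⊥ := by
      rintro j _ ⟨x, hx, rfl⟩
      obtain ⟨c, rfl⟩ := Submodule.mem_span_singleton.mp hx
      rw [map_smul, hall (f j) (hfL j), smul_zero]
      exact Submodule.zero_mem _
    have := hf.2 _ _ hsub
      (fun h => by rw [h.1, finrank_bot] at hV'1; omega)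
      (fun h => Groth.Agent.Lib.Helper80.Kron.top_ne_bot_of_finrank_pos hWpos h.2.symm)
    rw [hV'1, finrank_bot, hW, hV] at this
    omega
  -- no common image line
  have hI : ∀ w : W, ∃ g ∈ L, ∃ u, g u ∉ Submodule.span K {w} := by
    intro w
    by_contra hall
    push Not at hall
    have hW'1 : Module.finrank K (Submodule.span K ({w} : Set W)) ≤ 1 := by
      have := finrank_span_le_card (R := K) ({w} : Set W)
      simpa using this
    have hsub : KronMod.IsSubrep f ⊤ (Submodule.span K ({w} : Set W)) := by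
      rintro j _ ⟨x, -, rfl⟩
      exact hall (f j) (hfL j) x
    have := hf.2 _ _ hsub
      (fun h => Groth.Agent.Lib.Helper80.Kron.top_ne_bot_of_finrank_pos hVpos h.1)
      (fun h => by rw [h.2, finrank_top] at hW'1; omega)
    rw [finrank_top, hW, hV] at this
    omega
  have hnt : Nontrivial V := Module.finrank_pos_iff.mp hVpos
  obtain ⟨x₀, hx₀⟩ := exists_ne (0 : V)
  obtain ⟨g₀, hg₀L, hg₀x⟩ := hN x₀ hx₀
  -- kernel vector and image vector of g₀
  have hker₀ : LinearMap.ker g₀ ≠ ⊥ := fun h => hsing g₀ hg₀L (LinearMap.ker_eq_bot.mp h)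
  obtain ⟨v₀, hv₀k, hv₀⟩ := Submodule.exists_mem_ne_zero_of_ne_bot hker₀
  have hg₀v₀ : g₀ v₀ = 0 := LinearMap.mem_ker.mp hv₀k
  set w₀ := g₀ x₀ with hw₀
  -- (1)
  have h1 : ∀ g ∈ L, g v₀ ∈ Submodule.span K {w₀} := by
    intro g hg
    by_contra hgv
    have hgv0 : g v₀ ≠ 0 := fun h => hgv (h ▸ Submodule.zero_mem _)
    have ha : g x₀ ∈ Submodule.span K {g v₀} := hR g hg v₀ hgv0 x₀
    have hb : (g + g₀) x₀ ∈ Submodule.span K {(g + g₀) v₀} :=
      hR (g + g₀) (L.add_mem hg hg₀L) v₀ (by rw [LinearMap.add_apply, hg₀v₀, add_zero]; exact hgv0) x₀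
    rw [LinearMap.add_apply, LinearMap.add_apply, hg₀v₀, add_zero] at hb
    have hc : w₀ ∈ Submodule.span K {g v₀} := by
      have := Submodule.sub_mem _ hb ha
      rwa [add_sub_cancel_left] at this
    obtain ⟨c, hc⟩ := Submodule.mem_span_singleton.mp hc
    have hc0 : c ≠ 0 := by
      rintro rfl
      rw [zero_smul] at hc
      exact hg₀x hc.symm
    apply hgv
    rw [Submodule.mem_span_singleton]
    refine ⟨c⁻¹, ?_⟩
    rw [← hc, smul_smul, inv_mul_cancel₀ hc0, one_smul]
  -- (2)
  obtain ⟨g₁, hg₁L, hg₁v₀⟩ := hN v₀ hv₀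
  -- (3)
  obtain ⟨g₂, hg₂L, u, hg₂u⟩ := hI w₀
  have hg₂u0 : g₂ u ≠ 0 := fun h => hg₂u (h ▸ Submodule.zero_mem _)
  have hg₂v₀ : g₂ v₀ = 0 := by
    obtain ⟨c, hc⟩ := Submodule.mem_span_singleton.mp (h1 g₂ hg₂L)
    obtain ⟨d, hd⟩ := Submodule.mem_span_singleton.mp (hR g₂ hg₂L u hg₂u0 v₀)
    by_cases hd0 : d = 0
    · rw [← hd, hd0, zero_smul]
    · exfalso
      apply hg₂u
      rw [Submodule.mem_span_singleton]
      refine ⟨d⁻¹ * c, ?_⟩
      rw [mul_smul, hc, ← hd, smul_smul, inv_mul_cancel₀ hd0, one_smul]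
  -- (4)
  have hg₃v₀ : (g₁ + g₂) v₀ = g₁ v₀ := by rw [LinearMap.add_apply, hg₂v₀, add_zero]
  have h4 : (g₁ + g₂) u ∈ Submodule.span K {(g₁ + g₂) v₀} :=
    hR (g₁ + g₂) (L.add_mem hg₁L hg₂L) v₀ (by rw [hg₃v₀]; exact hg₁v₀) u
  rw [hg₃v₀] at h4
  have h5 : g₁ u ∈ Submodule.span K {g₁ v₀} := hR g₁ hg₁L v₀ hg₁v₀ u
  have h6 : g₂ u ∈ Submodule.span K {g₁ v₀} := by
    have := Submodule.sub_mem _ h4 h5
    rwa [LinearMap.add_apply, add_sub_cancel_left] at this
  have h7 : Submodule.span K {g₁ v₀} ≤ Submodule.span K {w₀} := by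
    rw [Submodule.span_singleton_le_iff_mem]
    exact h1 g₁ hg₁L
  exact hg₂u (h7 h6)

end Groth.Agent.S15566
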