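import Groth.Statements.S15568
import Mathlib.Tactic
import Mathlib.Topology.Order.IntermediateValue
import Mathlib.Topology.Algebra.Monoid
import Mathlib.Topology.Algebra.Ring.Real

set_option autoImplicit false
universe u
open QuiverStab

namespace Groth.Agent.S15568

/-- pairing -/
noncomputable def pr {I : Type u} [Fintype I] (d' : I → ℕ) (θ : I → ℝ) : ℝ := ∑ i, θ i * (d' i : ℝ)

theorem pr_cont {I : Type u} [Fintype I] (d' : I → ℕ) : Continuous (pr d') := by
  unfold pr
  exact continuous_finsetSum _ (fun i _ => (continuous_apply i).mul continuous_const)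

theorem pr_comb {I : Type u} [Fintype I] (d' : I → ℕ) (θ₁ θ₂ : I → ℝ) (t : ℝ) :
    pr d' (fun i => (1 - t) * θ₁ i + t * θ₂ i) = (1 - t) * pr d' θ₁ + t * pr d' θ₂ := by
  unfold pr
  rw [Finset.mul_sum, Finset.mul_sum, ← Finset.sum_add_distrib]
  exact Finset.sum_congr rfl (fun i _ => by ring)

theorem sign_comb (a b t : ℝ) (ht0 : 0 ≤ t) (ht1 : t ≤ 1) (h : SignType.sign a = SignType.sign b) :
    SignType.sign ((1 - t) * a + t * b) = SignType.sign a := by
  rcases lt_trichotomy a 0 with ha | ha | ha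
  · have hb : b < 0 := by
      rw [sign_neg ha] at h
      exact sign_eq_neg_one_iff.mp h.symm
    rw [sign_neg ha, sign_eq_neg_one_iff]
    rcases eq_or_lt_of_le ht0 with rfl | ht
    · simpa using ha
    · nlinarith
  · subst ha
    have hb : b = 0 := by
      rw [sign_zero] at h
      exact sign_eq_zero_iff.mp h.symm
    subst hb
    simp
  · have hb : 0 < b := by
      rw [sign_pos ha] at h
      exact sign_eq_one_iff.mp h.symm
    rw [sign_pos ha, sign_eq_one_iff]
    rcases eq_or_lt_of_le ht0 with rfl | ht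
    · simpa using ha
    · nlinarith


/-- Walls and chambers for stability weights of a quiver. Let I be the finite vertex set, d ∈ ℕ^I a
dimension vector, and call two weights θ₁, θ₂ ∈ ℝ^I orthogonal to d numerically equivalent when, for
every d′ ≤ d in ℕ^I, the numbers θ₁·d′ and θ₂·d′ are both positive, both negative or both zero. The
walls are the hyperplanes W(d′) = {θ ⊥ d : θ·d′ = 0} of d^⊥ for d′ ≤ d such that d is not a multiple
of d′. Then θ₁ and θ₂ are numerically equivalent if and only if there is a set J₁ of such d′ for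
which θ₁ and θ₂ lie in the same connected component of the locally closed subset of d^⊥ consisting
of the weights lying on W(d₁) for every d₁ ∈ J₁ and off W(d₂) for every other wall W(d₂). (Only the
quiver's vertex set enters; multiples are taken with natural-number factors.) -/
theorem result
    (I : Type u) [Fintype I] (d : I → ℕ) (θ₁ θ₂ : I → ℝ)
    (h₁ : ∑ i, θ₁ i * (d i : ℝ) = 0) (h₂ : ∑ i, θ₂ i * (d i : ℝ) = 0) :
    (∀ d' : I → ℕ, d' ≤ d →
        SignType.sign (∑ i, θ₁ i * (d' i : ℝ)) = SignType.sign (∑ i, θ₂ i * (d' i : ℝ))) ↔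
    ∃ J₁ : Set (I → ℕ), J₁ ⊆ {d' | d' ≤ d ∧ ¬ ∃ m : ℕ, d = m • d'} ∧
      θ₂ ∈ connectedComponentIn
        {θ : I → ℝ | ∑ i, θ i * (d i : ℝ) = 0 ∧ (∀ d₁ ∈ J₁, ∑ i, θ i * (d₁ i : ℝ) = 0) ∧
          ∀ d₂ : I → ℕ, d₂ ≤ d → (¬ ∃ m : ℕ, d = m • d₂) → d₂ ∉ J₁ →
            ∑ i, θ i * (d₂ i : ℝ) ≠ 0} θ₁ := by
  constructor
  · intro H
    let J₁ : Set (I → ℕ) := {d' | (d' ≤ d ∧ ¬ ∃ m : ℕ, d = m • d') ∧ pr d' θ₁ = 0}
    refine ⟨J₁, fun d' hd' => hd'.1, ?_⟩
    set S : Set (I → ℝ) := {θ : I → ℝ | ∑ i, θ i * (d i : ℝ) = 0 ∧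
      (∀ d₁ ∈ J₁, ∑ i, θ i * (d₁ i : ℝ) = 0) ∧
      ∀ d₂ : I → ℕ, d₂ ≤ d → (¬ ∃ m : ℕ, d = m • d₂) → d₂ ∉ J₁ →
        ∑ i, θ i * (d₂ i : ℝ) ≠ 0} with hS
    let γ : ℝ → (I → ℝ) := fun t i => (1 - t) * θ₁ i + t * θ₂ i
    have hγc : Continuous γ := by
      refine continuous_pi fun i => ?_
      exact ((continuous_const.sub continuous_id).mul continuous_const).add
        (continuous_id.mul continuous_const)
    have hseg : IsPreconnected (γ '' Set.Icc (0 : ℝ) 1) :=
      isPreconnected_Icc.image γ hγc.continuousOn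
    have hsign : ∀ d' : I → ℕ, d' ≤ d → ∀ t ∈ Set.Icc (0 : ℝ) 1,
        SignType.sign (pr d' (γ t)) = SignType.sign (pr d' θ₁) := by
      intro d' hd' t ht
      rw [pr_comb]
      exact sign_comb _ _ t ht.1 ht.2 (H d' hd')
    have hsub : γ '' Set.Icc (0 : ℝ) 1 ⊆ S := by
      rintro _ ⟨t, ht, rfl⟩
      refine ⟨?_, ?_, ?_⟩
      · have := hsign d le_rfl t ht
        have h0 : pr d θ₁ = 0 := h₁
        rw [h0, sign_zero, sign_eq_zero_iff] at this
        exact this
      · intro d₁ hd₁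
        have := hsign d₁ hd₁.1.1 t ht
        rw [hd₁.2, sign_zero, sign_eq_zero_iff] at this
        exact this
      · intro d₂ hd₂ hm hnot h0
        have := hsign d₂ hd₂ t ht
        have h0' : pr d₂ (γ t) = 0 := h0
        rw [h0', sign_zero] at this
        exact hnot ⟨⟨hd₂, hm⟩, sign_eq_zero_iff.mp this.symm⟩
    have hθ₁ : θ₁ ∈ γ '' Set.Icc (0 : ℝ) 1 :=
      ⟨0, ⟨le_rfl, zero_le_one⟩, by ext i; simp [γ]⟩
    have hθ₂ : θ₂ ∈ γ '' Set.Icc (0 : ℝ) 1 :=
      ⟨1, ⟨zero_le_one, le_rfl⟩, by ext i; simp [γ]⟩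
    exact hseg.subset_connectedComponentIn hθ₁ hsub hθ₂
  · rintro ⟨J₁, hJ₁, hmem⟩ d' hd'
    set S : Set (I → ℝ) := {θ : I → ℝ | ∑ i, θ i * (d i : ℝ) = 0 ∧
      (∀ d₁ ∈ J₁, ∑ i, θ i * (d₁ i : ℝ) = 0) ∧
      ∀ d₂ : I → ℕ, d₂ ≤ d → (¬ ∃ m : ℕ, d = m • d₂) → d₂ ∉ J₁ →
        ∑ i, θ i * (d₂ i : ℝ) ≠ 0} with hS
    have hC : IsPreconnected (connectedComponentIn S θ₁) := isPreconnected_connectedComponentIn
    have hCS : connectedComponentIn S θ₁ ⊆ S := connectedComponentIn_subset S θ₁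
    have hθ₁S : θ₁ ∈ S := by
      by_contra hn
      rw [connectedComponentIn_eq_empty hn] at hmem
      exact hmem
    have hθ₁C : θ₁ ∈ connectedComponentIn S θ₁ := mem_connectedComponentIn hθ₁S
    have hθ₂S : θ₂ ∈ S := hCS hmem
    change SignType.sign (pr d' θ₁) = SignType.sign (pr d' θ₂)
    by_cases hm : ∃ m : ℕ, d = m • d'
    · obtain ⟨m, hm⟩ := hm
      have hz : ∀ θ : I → ℝ, pr d θ = 0 → pr d' θ = 0 := by
        intro θ hθ
        rcases Nat.eq_zero_or_pos m with rfl | hmpos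
        · have hd0 : d = 0 := by simpa using hm
          have hd'0 : d' = 0 := by
            ext i
            have := hd' i
            rw [hd0] at this
            simpa using this
          simp [pr, hd'0]
        · have : pr d θ = (m : ℝ) * pr d' θ := by
            unfold pr
            rw [Finset.mul_sum]
            refine Finset.sum_congr rfl fun i _ => ?_
            rw [hm]
            simp only [Pi.smul_apply, smul_eq_mul, Nat.cast_mul]
            ring
          rw [this] at hθ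
          have hm0 : (m : ℝ) ≠ 0 := by positivity
          exact (mul_eq_zero.mp hθ).resolve_left hm0
      rw [hz θ₁ h₁, hz θ₂ h₂]
    · by_cases hJ : d' ∈ J₁
      · have e1 : pr d' θ₁ = 0 := hθ₁S.2.1 d' hJ
        have e2 : pr d' θ₂ = 0 := hθ₂S.2.1 d' hJ
        rw [e1, e2]
      · have hne : ∀ θ ∈ connectedComponentIn S θ₁, pr d' θ ≠ 0 :=
          fun θ hθ => (hCS hθ).2.2 d' hd' hm hJ
        have hcont : ContinuousOn (pr d') (connectedComponentIn S θ₁) :=
          (pr_cont d').continuousOn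
        have n1 := hne θ₁ hθ₁C
        have n2 := hne θ₂ hmem
        rcases lt_or_gt_of_ne n1 with a1 | a1 <;> rcases lt_or_gt_of_ne n2 with a2 | a2
        · rw [sign_neg a1, sign_neg a2]
        · exfalso
          obtain ⟨θ, hθ, h0⟩ := hC.intermediate_value hθ₁C hmem hcont ⟨a1.le, a2.le⟩
          exact hne θ hθ h0
        · exfalso
          obtain ⟨θ, hθ, h0⟩ := hC.intermediate_value hmem hθ₁C hcont ⟨a2.le, a1.le⟩
          exact hne θ hθ h0
        · rw [sign_pos a1, sign_pos a2]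

end Groth.Agent.S15568
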