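import Groth.Statements.S15570
import Groth.Agent.Lib.Helper80.Kron
import Mathlib.LinearAlgebra.Dual.Lemmas

set_option autoImplicit false
universe u v w
open KronMod

namespace Groth.Agent.S15570

/-- Let f be a Kronecker module with n arrows over a field K, from V of dimension n·d₀ to W of dimension
d₀ > 0. Then f is stable if and only if f is semistable and d₀ = 1: for d₀ = 1 every semistable
module is stable (the stable locus of K(n; n, 1) is the one point), while for d₀ > 1 no module is
stable. This is the case dual to dimension vector (d₋₁, n·d₋₁). (The published statement assumes K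
algebraically closed of characteristic zero and n ≥ 2; this row allows any field K and any number n
of arrows.) -/
theorem result (K : Type u) [Field K] (V : Type v) (W : Type w)
    [AddCommGroup V] [Module K V] [FiniteDimensional K V]
    [AddCommGroup W] [Module K W] [FiniteDimensional K W]
    (n : ℕ) (f : Fin n → (V →ₗ[K] W))
    (hW : 0 < Module.finrank K W) (hV : Module.finrank K V = n * Module.finrank K W) :
    KronMod.IsStable f ↔ (KronMod.IsSemistable f ∧ Module.finrank K W = 1) := by
  classical
  constructor
  · intro hst
    refine ⟨Groth.Agent.Lib.Helper80.Kron.isSemistable_of_isStable hst, ?_⟩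
    by_contra hne
    have h2 : 2 ≤ Module.finrank K W := by omega
    -- a nonzero functional on W
    obtain ⟨w, hw⟩ := Module.finrank_pos_iff_exists_ne_zero.mp hW
    obtain ⟨φ, hφ⟩ : ∃ φ : W →ₗ[K] K, φ w ≠ 0 := by
      by_contra hcon
      push Not at hcon
      exact hw ((Module.forall_dual_apply_eq_zero_iff K w).mp hcon)
    have hφsurj : Function.Surjective φ := by
      intro c
      refine ⟨(c / φ w) • w, ?_⟩
      rw [map_smul, smul_eq_mul, div_mul_cancel₀ _ hφ]
    have hkerφ : Module.finrank K (LinearMap.ker φ) + 1 = Module.finrank K W := by
      have := LinearMap.finrank_range_add_finrank_ker φ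
      rw [LinearMap.range_eq_top.mpr hφsurj, finrank_top, Module.finrank_self] at this
      omega
    let ψ : V →ₗ[K] (Fin n → K) := LinearMap.pi fun j => φ ∘ₗ f j
    have hkerψ : Module.finrank K V ≤ n + Module.finrank K (LinearMap.ker ψ) := by
      have h1 := LinearMap.finrank_range_add_finrank_ker ψ
      have h2 : Module.finrank K (LinearMap.range ψ) ≤ n := by
        have := Submodule.finrank_le (LinearMap.range ψ)
        rwa [Module.finrank_fin_fun] at this
      omega
    have hsub : KronMod.IsSubrep f (LinearMap.ker ψ) (LinearMap.ker φ) := by
      rintro j _ ⟨x, hx, rfl⟩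
      have : ψ x = 0 := hx
      exact congrFun this j
    have := hst.2 _ _ hsub
      (fun h => by rw [h.2, finrank_bot] at hkerφ; omega)
      (fun h => by rw [h.2, finrank_top] at hkerφ; omega)
    rw [hV] at this hkerψ
    have hW' : Module.finrank K (LinearMap.ker φ) = Module.finrank K W - 1 := by omega
    rw [hW'] at this
    have h3 : n * (Module.finrank K W - 1) ≤ Module.finrank K (LinearMap.ker ψ) := by
      have : n * Module.finrank K W = n * (Module.finrank K W - 1) + n := by
        have : Module.finrank K W = (Module.finrank K W - 1) + 1 := by omega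
        conv_lhs => rw [this]
        ring
      omega
    have h4 : Module.finrank K W * (n * (Module.finrank K W - 1)) ≤
        Module.finrank K W * Module.finrank K (LinearMap.ker ψ) := Nat.mul_le_mul_left _ h3
    have h5 : Module.finrank K W * (n * (Module.finrank K W - 1)) =
        n * Module.finrank K W * (Module.finrank K W - 1) := by ring
    omega
  · rintro ⟨hss, h1⟩
    have hb := (Groth.Agent.Lib.Helper80.Kron.isSemistable_iff_piMap_bijective f hW hV).mp hss
    refine ⟨hss.1, ?_⟩
    intro V' W' hsub hbot htop
    have hW'le : Module.finrank K W' ≤ 1 := h1 ▸ Submodule.finrank_le W'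
    rcases Nat.eq_zero_or_pos (Module.finrank K W') with h0 | hpos
    · exfalso
      have hW'bot : W' = ⊥ := Submodule.finrank_eq_zero.mp h0
      subst hW'bot
      have hk := Groth.Agent.Lib.Helper80.Kron.le_ker_of_isSubrep_bot hsub
      rw [LinearMap.ker_eq_bot.mpr hb.1, le_bot_iff] at hk
      exact hbot ⟨hk, rfl⟩
    · have hW'top : W' = ⊤ := Submodule.eq_top_of_finrank_eq (by omega)
      have hV'ne : V' ≠ ⊤ := fun h => htop ⟨h, hW'top⟩
      have hlt : Module.finrank K V' < Module.finrank K V := Submodule.finrank_lt hV'ne
      have hW'1 : Module.finrank K W' = 1 := by omega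
      rw [hW'1, mul_one, h1, one_mul]
      exact hlt

end Groth.Agent.S15570
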