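import Groth.Statements.S15575
import Groth.Agent.Lib.Helper80.RInv4
import Groth.Agent.S15574

set_option autoImplicit false
universe u v
open scoped TensorProduct
open RInv

namespace Groth.Agent.S15575

/-- Let `R` be a commutative ring with an involution `lam` and fixed ring `S` (no finiteness assumed).
If the localisation of `R` at a prime `p` of `S` is quadratic etale over `S_p`, then there is `s ∉
p` with `R[1/s]` quadratic etale over `S[1/s]`; in particular the set of such primes is open in
`Spec S`. Localisations of `R` are written as base changes `S_p ⊗ R` and `S_s ⊗ R`. -/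
theorem result (S : Type u) (R : Type v) [CommRing S] [CommRing R]
    [Algebra S R] (lam : R ≃+* R) (hlam : Function.Involutive lam) (hS : RInv.IsFixedRing S R lam)
    (p : PrimeSpectrum S)
    (hp : RInv.IsQuadEtale (Localization.AtPrime p.asIdeal) (Localization.AtPrime p.asIdeal ⊗[S] R)) :
    ∃ s : S, s ∉ p.asIdeal ∧
      RInv.IsQuadEtale (Localization.Away s) (Localization.Away s ⊗[S] R) := by
  have hfix := Groth.Agent.Lib.Helper80.RInvLib.isFixedRing_baseChange
    (Localization.AtPrime p.asIdeal) hS
  have hinv := Groth.Agent.Lib.Helper80.RInvLib.lamBC_involutive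
    (Localization.AtPrime p.asIdeal) hlam hS
  obtain ⟨r', hr'⟩ := Groth.Agent.S15574.result (Localization.AtPrime p.asIdeal)
    (Localization.AtPrime p.asIdeal ⊗[S] R) _ hinv hfix hp
  obtain ⟨x, hunit⟩ := Groth.Agent.Lib.Helper80.RInvLib.exists_isUnit_one_tmul_sub hS
    p.asIdeal.primeCompl (Localization.AtPrime p.asIdeal) hr'
  let _ := Algebra.TensorProduct.rightAlgebra (R := S) (A := Localization.AtPrime p.asIdeal)
    (B := R)
  have hloc : IsLocalization (Algebra.algebraMapSubmonoid R p.asIdeal.primeCompl)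
      (Localization.AtPrime p.asIdeal ⊗[S] R) :=
    IsLocalization.tensorRight (R := S) (S := R) (Localization.AtPrime p.asIdeal)
      p.asIdeal.primeCompl
  obtain ⟨m, hm, hdvd⟩ := Groth.Agent.Lib.Helper80.RInvLib.exists_dvd_of_isUnit_algebraMap
    (Algebra.algebraMapSubmonoid R p.asIdeal.primeCompl)
    (B := Localization.AtPrime p.asIdeal ⊗[S] R) (x := x - lam x) hunit
  obtain ⟨s, hs, rfl⟩ := hm
  refine ⟨s, hs, ?_⟩
  have hfix' := Groth.Agent.Lib.Helper80.RInvLib.isFixedRing_baseChange
    (Localization.Away s) hS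
  have hinv' := Groth.Agent.Lib.Helper80.RInvLib.lamBC_involutive
    (Localization.Away s) hlam hS
  refine Groth.Agent.Lib.Helper80.RInvLib.isQuadEtale_of_isUnit hinv' hfix'
    (r := (1 : Localization.Away s) ⊗ₜ[S] x) ?_
  change IsUnit (_ - (Groth.Agent.Lib.Helper80.RInvLib.lamBC (Localization.Away s) hS) _)
  rw [Groth.Agent.Lib.Helper80.RInvLib.lamBC_tmul, ← TensorProduct.tmul_sub]
  obtain ⟨y, hy⟩ := hdvd
  have h2 : ((1 : Localization.Away s) ⊗ₜ[S] (x - lam x)) * ((1 : Localization.Away s) ⊗ₜ[S] y) =
      algebraMap (Localization.Away s) (Localization.Away s ⊗[S] R)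
        (algebraMap S (Localization.Away s) s) := by
    rw [Algebra.TensorProduct.tmul_mul_tmul, one_mul, ← hy,
      Groth.Agent.Lib.Helper80.RInvLib.one_tmul_algebraMap]
  have h3 : IsUnit (((1 : Localization.Away s) ⊗ₜ[S] (x - lam x)) *
      ((1 : Localization.Away s) ⊗ₜ[S] y)) := by
    rw [h2]
    exact (IsLocalization.Away.algebraMap_isUnit s).map _
  exact isUnit_of_mul_isUnit_left h3

end Groth.Agent.S15575
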