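import Groth.Statements.S15578
import Groth.Agent.Lib.Helper69.HensIntegralU
import Groth.Agent.Lib.Helper80.RInv3
import Groth.Agent.Lib.Helper9.HenselSplit

set_option autoImplicit false
universe u v
open RInv

namespace Groth.Agent.S15578

/-- Let `R` be a commutative ring with an involution `lam` whose fixed ring `S` is strictly henselian
(henselian local with separably closed residue field). Then `R` is isomorphic to a product of
finitely many strictly henselian local rings (existence of a ring isomorphism with such a product). -/
theorem result (S : Type u) (R : Type v) [CommRing S] [CommRing R]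
    [Algebra S R] (lam : R ≃+* R) (hlam : Function.Involutive lam) (hS : RInv.IsFixedRing S R lam)
    [HenselianLocalRing S] [IsSepClosed (IsLocalRing.ResidueField S)] :
    ∃ (ι : Type) (_ : Fintype ι) (T : ι → Type v) (_ : ∀ i, CommRing (T i))
      (_ : ∀ i, HenselianLocalRing (T i)),
      (∀ i, IsSepClosed (IsLocalRing.ResidueField (T i))) ∧ Nonempty (R ≃+* (∀ i, T i)) := by
  classical
  haveI : Nontrivial R := Groth.Agent.Lib.Helper80.RInvLib.nontrivial_of_isFixedRing hS
  -- `R` is integral over `S`
  haveI hint : Algebra.IsIntegral S R := ⟨fun x => by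
    obtain ⟨t, ht⟩ := Groth.Agent.Lib.Helper80.RInvLib.exists_trace hlam hS x
    obtain ⟨n, hn⟩ := Groth.Agent.Lib.Helper80.RInvLib.exists_norm hlam hS x
    refine ⟨Polynomial.X ^ 2 - Polynomial.C t * Polynomial.X + Polynomial.C n, ?_, ?_⟩
    · have h1 : (Polynomial.X ^ 2 - Polynomial.C t * Polynomial.X + Polynomial.C n : Polynomial S) =
          Polynomial.X ^ 2 + (- Polynomial.C t * Polynomial.X + Polynomial.C n) := by ring
      rw [h1]
      apply Polynomial.monic_X_pow_add
      refine lt_of_le_of_lt (Polynomial.degree_add_le _ _) ?_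
      refine max_lt ?_ ?_
      · refine lt_of_le_of_lt (Polynomial.degree_mul_le _ _) ?_
        rw [Polynomial.degree_X]
        have : (- Polynomial.C t : Polynomial S).degree ≤ 0 := by
          rw [Polynomial.degree_neg]; exact Polynomial.degree_C_le
        calc (- Polynomial.C t : Polynomial S).degree + 1 ≤ 0 + 1 := by gcongr
          _ < ((2 : ℕ) : WithBot ℕ) := by norm_num
      · exact lt_of_le_of_lt Polynomial.degree_C_le (by norm_num)
    · simp only [Polynomial.eval₂_add, Polynomial.eval₂_sub, Polynomial.eval₂_pow,
        Polynomial.eval₂_X, Polynomial.eval₂_mul, Polynomial.eval₂_C, ht, hn]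
      ring⟩
  obtain ⟨M, hM⟩ := Ideal.exists_maximal R
  by_cases hMM : M.comap lam = M
  · -- `R` is local
    haveI hloc : IsLocalRing R :=
      Groth.Agent.Lib.Helper80.RInvLib.isLocalRing_of_comap_eq hlam hS hM hMM
    have hH : HenselianLocalRing R :=
      Groth.Agent.Lib.Helper69.HensIntegralU.henselianLocalRing_of_isIntegral S R
    have hsc : IsSepClosed (IsLocalRing.ResidueField R) :=
      Groth.Agent.Lib.Helper69.HensIntegralU.isSepClosed_residueField_of_isIntegral S R
    refine ⟨Unit, inferInstance, fun _ => R, fun _ => inferInstance, fun _ => hH, fun _ => ?_,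
      ⟨(RingEquiv.piUnique (fun _ : Unit => R)).symm⟩⟩
    exact hsc
  · -- two maximal ideals: `R` is finite over `S`
    obtain ⟨r, hr⟩ : ∃ r : R, lam r - r ∉ M := by
      by_contra h
      push Not at h
      apply hMM
      ext x
      rw [Ideal.mem_comap]
      constructor
      · intro hx
        have : x = lam x - (lam x - x) := by ring
        rw [this]
        exact M.sub_mem hx (h x)
      · intro hx
        have : lam x = (lam x - x) + x := by ring
        rw [this]
        exact M.add_mem (h x) hx
    obtain ⟨r', hu⟩ := Groth.Agent.Lib.Helper80.RInvLib.exists_isUnit_sub_of_not_mem hlam hS hM hr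
    have hq := Groth.Agent.Lib.Helper80.RInvLib.isQuadEtale_of_isUnit hlam hS hu
    haveI hfin : Module.Finite S R := hq.1
    obtain ⟨n, e, he, hloc⟩ :=
      Groth.Agent.Lib.Helper9.exists_completeOrthogonalIdempotents_of_finite (R := S) R
    have hH : ∀ i, HenselianLocalRing (R ⧸ Ideal.span {1 - e i}) := fun i => by
      haveI := hloc i
      exact Groth.Agent.Lib.Helper69.HensIntegralU.henselianLocalRing_of_isIntegral S _
    refine ⟨Fin n, inferInstance, fun i => R ⧸ Ideal.span {1 - e i}, fun _ => inferInstance, hH,
      fun i => ?_, ⟨RingEquiv.ofBijective _ he.bijective_pi⟩⟩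
    haveI := hloc i
    exact Groth.Agent.Lib.Helper69.HensIntegralU.isSepClosed_residueField_of_isIntegral S _

end Groth.Agent.S15578
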