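import Groth.Statements.S15579
import Mathlib.RingTheory.Unramified.Field
import Mathlib.RingTheory.Ideal.GoingUp
-- import your own Groth.Agent.* helpers here

set_option autoImplicit false
universe u v
open RInv

namespace Groth.Agent.S15579

/-- For a local ring `S` with maximal ideal `m` and a quadratic etale `S`-algebra `R`, the Jacobson
radical of `R` is `mR`. -/
theorem result (S : Type u) (R : Type v) [CommRing S]
    [CommRing R] [Algebra S R] [IsLocalRing S] (hq : RInv.IsQuadEtale S R) :
    Ring.jacobson R = (IsLocalRing.maximalIdeal S).map (algebraMap S R) := by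
  obtain ⟨hfin, -, hunr, -⟩ := hq
  haveI := hfin
  haveI := hunr
  haveI : Algebra.IsIntegral S R := Algebra.IsIntegral.of_finite S R
  apply le_antisymm
  · have hrad := Algebra.FormallyUnramified.isRadical_map_isMaximal (A := S) R
      (IsLocalRing.maximalIdeal S)
    rw [← hrad.radical, Ideal.radical_eq_sInf]
    refine le_sInf fun P hP => ?_
    obtain ⟨hle, hPprime⟩ := hP
    haveI := hPprime
    have hcomap : (P.comap (algebraMap S R)).IsMaximal := by
      have h1 : IsLocalRing.maximalIdeal S ≤ P.comap (algebraMap S R) :=
        Ideal.map_le_iff_le_comap.1 hle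
      have h2 : P.comap (algebraMap S R) ≠ ⊤ := Ideal.comap_ne_top _ hPprime.ne_top
      rw [← (IsLocalRing.maximalIdeal.isMaximal S).eq_of_le h2 h1]
      exact IsLocalRing.maximalIdeal.isMaximal S
    haveI : P.IsMaximal := Ideal.IsIntegral.isMaximal_of_isMaximal_comap (R := S) P hcomap
    exact Ring.jacobson_le_of_isMaximal P
  · rw [Ring.jacobson_eq_sInf_isMaximal]
    refine le_sInf fun M hM => ?_
    haveI : M.IsMaximal := hM
    have hcomap : (M.comap (algebraMap S R)).IsMaximal :=
      Ideal.isMaximal_comap_of_isIntegral_of_isMaximal (R := S) M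
    rw [Ideal.map_le_iff_le_comap, IsLocalRing.eq_maximalIdeal hcomap]

end Groth.Agent.S15579
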