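import Groth.Statements.S15585
import Mathlib

set_option autoImplicit false
universe u v
open RInv

namespace Groth.Agent.S15585

section

theorem field_or_prod (k : Type u) (A : Type v) [Field k] [CommRing A] [Algebra k A]
    [Module.Finite k A] [IsReduced A] (h2 : Module.finrank k A = 2) :
    IsField A ∨ Nonempty (A ≃ₐ[k] k × k) := by
  have hnt : Nontrivial A := by
    apply Module.nontrivial_of_finrank_pos (R := k)
    omega
  by_cases hF : IsField A
  · exact Or.inl hF
  right
  obtain ⟨x, hx0, hxu⟩ : ∃ x : A, x ≠ 0 ∧ ¬ IsUnit x := by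
    by_contra hcon
    push Not at hcon
    apply hF
    refine ⟨⟨0, 1, zero_ne_one⟩, mul_comm, fun {a} ha => ?_⟩
    obtain ⟨u, rfl⟩ := hcon a ha
    exact ⟨↑u⁻¹, u.mul_inv⟩
  let I : Submodule k A := (Ideal.span {x}).restrictScalars k
  have hxI : x ∈ I := Ideal.subset_span rfl
  have hItop : I ≠ ⊤ := by
    intro h
    apply hxu
    have h1 : (1 : A) ∈ I := h ▸ Submodule.mem_top
    have h1' : (1 : A) ∈ Ideal.span {x} := h1
    rw [Ideal.mem_span_singleton'] at h1'
    obtain ⟨a, ha⟩ := h1'
    exact IsUnit.of_mul_eq_one a (by rw [mul_comm]; exact ha)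
  have hIbot : I ≠ ⊥ := by
    intro h
    apply hx0
    have : x ∈ (⊥ : Submodule k A) := h ▸ hxI
    simpa using this
  have hlt := Submodule.finrank_lt hItop
  have hge := Submodule.one_le_finrank_iff.mpr hIbot
  have hI1 : Module.finrank k I = 1 := by omega
  have hxI0 : (⟨x, hxI⟩ : I) ≠ 0 := fun h => hx0 (congrArg Subtype.val h)
  have hsp := (finrank_eq_one_iff_of_nonzero' (⟨x, hxI⟩ : I) hxI0).mp hI1
  have hx2I : x * x ∈ I := Ideal.mul_mem_left _ _ (Ideal.subset_span rfl)
  obtain ⟨b, hb⟩ := hsp ⟨x * x, hx2I⟩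
  have hb' : b • x = x * x := congrArg Subtype.val hb
  have hb0 : b ≠ 0 := by
    rintro rfl
    rw [zero_smul] at hb'
    apply hx0
    have : IsNilpotent x := ⟨2, by rw [pow_two]; exact hb'.symm⟩
    exact this.eq_zero
  obtain ⟨e, he_def⟩ : ∃ e : A, e = b⁻¹ • x := ⟨_, rfl⟩
  have he : e * e = e := by
    rw [he_def, smul_mul_smul_comm, ← hb', smul_smul, mul_assoc, inv_mul_cancel₀ hb0, mul_one]
  have he0 : e ≠ 0 := by
    intro h
    apply hx0
    have : b • e = x := by
      rw [he_def, smul_smul, mul_inv_cancel₀ hb0, one_smul]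
    rw [← this, h, smul_zero]
  have he1 : (1 : A) - e ≠ 0 := by
    intro h
    apply hxu
    have h1 : e = 1 := (sub_eq_zero.mp h).symm
    have : x * (b⁻¹ • (1 : A)) = 1 := by
      rw [mul_smul_comm, mul_one, ← he_def]
      exact h1
    exact IsUnit.of_mul_eq_one _ this
  have hee : e * (1 - e) = 0 := by rw [mul_sub, mul_one, he, sub_self]
  have h1e : (1 - e) * (1 - e) = 1 - e := by
    rw [sub_mul, one_mul, mul_sub, mul_one, he, sub_self, sub_zero]
  let φ : k × k →ₐ[k] A :=
    { toFun := fun p => p.1 • e + p.2 • (1 - e)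
      map_one' := by simp
      map_mul' := fun p q => by
        have hfe : (1 - e) * e = 0 := by rw [mul_comm]; exact hee
        simp only [Prod.fst_mul, Prod.snd_mul, add_mul, mul_add, smul_mul_smul_comm, he, h1e,
          hee, hfe, smul_zero, add_zero, zero_add]
      map_zero' := by simp
      map_add' := fun p q => by
        simp only [Prod.fst_add, Prod.snd_add, add_smul]
        abel
      commutes' := fun r => by
        simp only [Algebra.algebraMap_eq_smul_one]
        change (r • (1 : k)) • e + (r • (1 : k)) • (1 - e) = r • 1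
        rw [smul_eq_mul, mul_one, ← smul_add, add_sub_cancel] }
  have hφinj : Function.Injective φ := by
    rw [injective_iff_map_eq_zero]
    rintro ⟨s, t⟩ hst
    change s • e + t • (1 - e) = 0 at hst
    have h1 : s • e = 0 := by
      have := congrArg (fun z => e * z) hst
      simp only [mul_add, mul_smul_comm, he, hee, smul_zero, add_zero, mul_zero] at this
      exact this
    have h2 : t • (1 - e) = 0 := by
      have := congrArg (fun z => (1 - e) * z) hst
      simp only [mul_add, mul_smul_comm, h1e, mul_comm (1 - e) e, hee, smul_zero, zero_add,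
        mul_zero] at this
      exact this
    have hs : s = 0 := (smul_eq_zero.mp h1).resolve_right he0
    have ht : t = 0 := (smul_eq_zero.mp h2).resolve_right he1
    rw [hs, ht]
    rfl
  have hfr : Module.finrank k (k × k) = Module.finrank k A := by
    rw [h2, Module.finrank_prod, Module.finrank_self]
  have hφsurj : Function.Surjective φ :=
    (LinearMap.injective_iff_surjective_of_finrank_eq_finrank hfr (f := φ.toLinearMap)).mp hφinj
  exact ⟨(AlgEquiv.ofBijective φ ⟨hφinj, hφsurj⟩).symm⟩

end

/-- For a local ring `S` (maximal ideal `m`, residue field `k`) and a quadratic etale `S`-algebra `R`,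
the ring `R/mR` is a field that is a separable extension of `k` of degree 2, or else it is
isomorphic as a `k`-algebra to `k × k`. -/
theorem result (S : Type u) (R : Type v) [CommRing S]
    [CommRing R] [Algebra S R] [IsLocalRing S] (hq : RInv.IsQuadEtale S R) :
    (IsField (R ⧸ (IsLocalRing.maximalIdeal S).map (algebraMap S R)) ∧
      Module.finrank (S ⧸ IsLocalRing.maximalIdeal S)
        (R ⧸ (IsLocalRing.maximalIdeal S).map (algebraMap S R)) = 2 ∧
      Algebra.IsSeparable (S ⧸ IsLocalRing.maximalIdeal S)
        (R ⧸ (IsLocalRing.maximalIdeal S).map (algebraMap S R))) ∨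
    Nonempty ((R ⧸ (IsLocalRing.maximalIdeal S).map (algebraMap S R)) ≃ₐ[S ⧸ IsLocalRing.maximalIdeal S]
      ((S ⧸ IsLocalRing.maximalIdeal S) × (S ⧸ IsLocalRing.maximalIdeal S))) := by
  obtain ⟨hfin, hproj, hunr, hrank⟩ := hq
  let _ : Field (S ⧸ IsLocalRing.maximalIdeal S) := Ideal.Quotient.field _
  have hfree : Module.Free S R := Module.free_of_flat_of_isLocalRing
  have hrk : Module.finrank S R = 2 := by
    have := hrank (IsLocalRing.closedPoint S)
    rw [Module.rankAtStalk_eq_finrank_of_free] at this
    exact this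
  have hfinS : Module.Finite S (R ⧸ (IsLocalRing.maximalIdeal S).map (algebraMap S R)) :=
    Module.Finite.of_surjective (Ideal.Quotient.mkₐ S _).toLinearMap
      (Ideal.Quotient.mkₐ_surjective S _)
  have hfink : Module.Finite (S ⧸ IsLocalRing.maximalIdeal S)
      (R ⧸ (IsLocalRing.maximalIdeal S).map (algebraMap S R)) :=
    Module.Finite.of_restrictScalars_finite S _ _
  have hunrS : Algebra.FormallyUnramified S
      (R ⧸ (IsLocalRing.maximalIdeal S).map (algebraMap S R)) :=
    Algebra.FormallyUnramified.of_surjective (Ideal.Quotient.mkₐ S _)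
      (Ideal.Quotient.mkₐ_surjective S _)
  have hunrk : Algebra.FormallyUnramified (S ⧸ IsLocalRing.maximalIdeal S)
      (R ⧸ (IsLocalRing.maximalIdeal S).map (algebraMap S R)) :=
    Algebra.FormallyUnramified.of_restrictScalars S _ _
  have hred : IsReduced (R ⧸ (IsLocalRing.maximalIdeal S).map (algebraMap S R)) :=
    Algebra.FormallyUnramified.isReduced_of_field (S ⧸ IsLocalRing.maximalIdeal S) _
  have hdim : Module.finrank (S ⧸ IsLocalRing.maximalIdeal S)
      (R ⧸ (IsLocalRing.maximalIdeal S).map (algebraMap S R)) = 2 := by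
    rw [IsLocalRing.finrank_quotient_map, hrk]
  rcases field_or_prod (S ⧸ IsLocalRing.maximalIdeal S)
    (R ⧸ (IsLocalRing.maximalIdeal S).map (algebraMap S R)) hdim with hF | hP
  · left
    refine ⟨hF, hdim, ?_⟩
    let _ : Field (R ⧸ (IsLocalRing.maximalIdeal S).map (algebraMap S R)) := hF.toField
    exact Algebra.FormallyUnramified.isSeparable (S ⧸ IsLocalRing.maximalIdeal S) _
  · exact Or.inr hP

end Groth.Agent.S15585
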