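import Groth.Statements.S15580
import Groth.Agent.S15585
import Mathlib

set_option autoImplicit false
universe u v
open RInv

namespace Groth.Agent.S15580

section
open Polynomial

theorem mR_le_max {S : Type u} {R : Type v} [CommRing S] [CommRing R] [Algebra S R]
    [IsLocalRing S] [Module.Finite S R] (M : Ideal R) [M.IsMaximal] :
    (IsLocalRing.maximalIdeal S).map (algebraMap S R) ≤ M := by
  have : Algebra.IsIntegral S R := Algebra.IsIntegral.of_finite S R
  have hcomap : (M.comap (algebraMap S R)).IsMaximal :=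
    Ideal.isMaximal_comap_of_isIntegral_of_isMaximal (R := S) M
  rw [Ideal.map_le_iff_le_comap, IsLocalRing.eq_maximalIdeal hcomap]

theorem unit_of_quot {S : Type u} {R : Type v} [CommRing S] [CommRing R] [Algebra S R]
    [IsLocalRing S] [Module.Finite S R] (a b : R)
    (hab : a * b - 1 ∈ (IsLocalRing.maximalIdeal S).map (algebraMap S R)) : IsUnit a := by
  have h1 : IsUnit (a * b) := by
    by_contra h
    obtain ⟨M, hM, habM⟩ := exists_max_ideal_of_mem_nonunits h
    have hj : a * b - 1 ∈ M := mR_le_max M hab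
    have : (1 : R) ∈ M := by
      have := M.sub_mem habM hj
      simpa using this
    exact hM.ne_top ((Ideal.eq_top_iff_one M).mpr this)
  exact isUnit_of_mul_isUnit_left h1

theorem quot_facts (S : Type u) (R : Type v) [CommRing S] [CommRing R] [Algebra S R]
    [IsLocalRing S] (hq : RInv.IsQuadEtale S R) :
    Module.Finite (S ⧸ IsLocalRing.maximalIdeal S)
      (R ⧸ (IsLocalRing.maximalIdeal S).map (algebraMap S R)) ∧
    Algebra.FormallyUnramified (S ⧸ IsLocalRing.maximalIdeal S)
      (R ⧸ (IsLocalRing.maximalIdeal S).map (algebraMap S R)) ∧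
    IsReduced (R ⧸ (IsLocalRing.maximalIdeal S).map (algebraMap S R)) ∧
    Module.finrank (S ⧸ IsLocalRing.maximalIdeal S)
      (R ⧸ (IsLocalRing.maximalIdeal S).map (algebraMap S R)) = 2 := by
  obtain ⟨hfin, hproj, hunr, hrank⟩ := hq
  let _ : Field (S ⧸ IsLocalRing.maximalIdeal S) := Ideal.Quotient.field _
  have hfree : Module.Free S R := Module.free_of_flat_of_isLocalRing
  have hrk : Module.finrank S R = 2 := by
    have := hrank (IsLocalRing.closedPoint S)
    rw [Module.rankAtStalk_eq_finrank_of_free] at this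
    exact this
  have hfinS : Module.Finite S (R ⧸ (IsLocalRing.maximalIdeal S).map (algebraMap S R)) :=
    Module.Finite.of_surjective (Ideal.Quotient.mkₐ S _).toLinearMap
      (Ideal.Quotient.mkₐ_surjective S _)
  have hfink : Module.Finite (S ⧸ IsLocalRing.maximalIdeal S)
      (R ⧸ (IsLocalRing.maximalIdeal S).map (algebraMap S R)) :=
    Module.Finite.of_restrictScalars_finite S _ _
  have hunrS : Algebra.FormallyUnramified S
      (R ⧸ (IsLocalRing.maximalIdeal S).map (algebraMap S R)) :=
    Algebra.FormallyUnramified.of_surjective (Ideal.Quotient.mkₐ S _)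
      (Ideal.Quotient.mkₐ_surjective S _)
  have hunrk : Algebra.FormallyUnramified (S ⧸ IsLocalRing.maximalIdeal S)
      (R ⧸ (IsLocalRing.maximalIdeal S).map (algebraMap S R)) :=
    Algebra.FormallyUnramified.of_restrictScalars S _ _
  have hred : IsReduced (R ⧸ (IsLocalRing.maximalIdeal S).map (algebraMap S R)) :=
    Algebra.FormallyUnramified.isReduced_of_field (S ⧸ IsLocalRing.maximalIdeal S) _
  refine ⟨hfink, hunrk, hred, ?_⟩
  rw [IsLocalRing.finrank_quotient_map, hrk]

theorem galois_field_case (S : Type u) (R : Type v) [CommRing S] [CommRing R] [Algebra S R]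
    (lam : R ≃+* R) (hS : RInv.IsFixedRing S R lam) (hlam : Function.Involutive lam)
    [IsLocalRing S] (hq : RInv.IsQuadEtale S R)
    (hmax : ((IsLocalRing.maximalIdeal S).map (algebraMap S R)).IsMaximal)
    (hall : ∀ c : R, c - lam c ∈ (IsLocalRing.maximalIdeal S).map (algebraMap S R)) : False := by
  obtain ⟨hfink, hunrk, hred, hdim⟩ := quot_facts S R hq
  let _ : Field (S ⧸ IsLocalRing.maximalIdeal S) := Ideal.Quotient.field _
  have hF : IsField (R ⧸ (IsLocalRing.maximalIdeal S).map (algebraMap S R)) :=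
    (Ideal.Quotient.maximal_ideal_iff_isField_quotient _).mp hmax
  let _ : Field (R ⧸ (IsLocalRing.maximalIdeal S).map (algebraMap S R)) := hF.toField
  have hsep : Algebra.IsSeparable (S ⧸ IsLocalRing.maximalIdeal S)
      (R ⧸ (IsLocalRing.maximalIdeal S).map (algebraMap S R)) :=
    Algebra.FormallyUnramified.isSeparable (S ⧸ IsLocalRing.maximalIdeal S) _
  have hfix : ∀ y : R, lam y = y → ∃ s : S, algebraMap S R s = y := fun y hy => (hS.2 y).mp hy
  have key : ∀ x : R, ∃ c : S ⧸ IsLocalRing.maximalIdeal S,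
      c • (1 : R ⧸ (IsLocalRing.maximalIdeal S).map (algebraMap S R)) =
        Ideal.Quotient.mk _ x := by
    intro x
    obtain ⟨t, ht⟩ := hfix (x + lam x) (by rw [map_add, hlam x, add_comm])
    obtain ⟨n, hn⟩ := hfix (x * lam x) (by rw [map_mul, hlam x, mul_comm])
    let xb : R ⧸ (IsLocalRing.maximalIdeal S).map (algebraMap S R) := Ideal.Quotient.mk _ x
    let tb : S ⧸ IsLocalRing.maximalIdeal S := Ideal.Quotient.mk _ t
    let nb : S ⧸ IsLocalRing.maximalIdeal S := Ideal.Quotient.mk _ n
    have htb : algebraMap (S ⧸ IsLocalRing.maximalIdeal S)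
        (R ⧸ (IsLocalRing.maximalIdeal S).map (algebraMap S R)) tb =
        Ideal.Quotient.mk _ (x + lam x) := by
      rw [← ht]; exact Ideal.Quotient.algebraMap_quotient_map_quotient t
    have hnb : algebraMap (S ⧸ IsLocalRing.maximalIdeal S)
        (R ⧸ (IsLocalRing.maximalIdeal S).map (algebraMap S R)) nb =
        Ideal.Quotient.mk _ (x * lam x) := by
      rw [← hn]; exact Ideal.Quotient.algebraMap_quotient_map_quotient n
    have hlx : (Ideal.Quotient.mk ((IsLocalRing.maximalIdeal S).map (algebraMap S R))) (lam x) =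
        xb := by
      rw [eq_comm, Ideal.Quotient.eq]
      exact hall x
    let g : (S ⧸ IsLocalRing.maximalIdeal S)[X] := C 1 * X ^ 2 + C (-tb) * X + C nb
    have hg0 : aeval xb g = 0 := by
      simp only [g, map_add, map_mul, map_pow, aeval_C, aeval_X, map_one, map_neg, htb, hnb,
        hlx, one_mul]
      change xb ^ 2 + -(xb + xb) * xb + xb * xb = 0
      ring
    have hder : derivative g = C 2 * X + C (-tb) := by
      simp only [g, derivative_add, derivative_mul, derivative_C, derivative_X_pow, derivative_X,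
        zero_mul, zero_add, mul_one, add_zero, map_one, one_mul, Nat.cast_ofNat,
        Nat.add_one_sub_one, pow_one]
    have hg' : aeval xb (derivative g) = 0 := by
      rw [hder]
      simp only [map_add, map_mul, aeval_C, aeval_X, map_neg, htb, hlx, map_ofNat]
      change 2 * xb + -(xb + xb) = 0
      ring
    have hgdeg : g.natDegree = 2 := natDegree_quadratic one_ne_zero
    have hgne : g ≠ 0 := fun h => by rw [h, natDegree_zero] at hgdeg; omega
    obtain ⟨q, hq⟩ := minpoly.dvd (S ⧸ IsLocalRing.maximalIdeal S) xb hg0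
    have hpsep := Algebra.IsSeparable.isSeparable (S ⧸ IsLocalRing.maximalIdeal S) xb
    have hp0 : aeval xb (minpoly (S ⧸ IsLocalRing.maximalIdeal S) xb) = 0 := minpoly.aeval _ _
    have hp' := hpsep.aeval_derivative_ne_zero hp0
    have hq0 : aeval xb q = 0 := by
      have := hg'
      rw [hq, derivative_mul, map_add, map_mul, map_mul, hp0, zero_mul, add_zero] at this
      exact (mul_eq_zero.mp this).resolve_left hp'
    obtain ⟨q', hq'⟩ := minpoly.dvd (S ⧸ IsLocalRing.maximalIdeal S) xb hq0
    have hpne : minpoly (S ⧸ IsLocalRing.maximalIdeal S) xb ≠ 0 := fun h => by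
      rw [hq, h, zero_mul] at hgne; exact hgne rfl
    have hq'ne : q' ≠ 0 := fun h => by
      rw [hq, hq', h, mul_zero, mul_zero] at hgne; exact hgne rfl
    have hdeg : g.natDegree = (minpoly (S ⧸ IsLocalRing.maximalIdeal S) xb).natDegree +
        ((minpoly (S ⧸ IsLocalRing.maximalIdeal S) xb).natDegree + q'.natDegree) := by
      rw [hq, hq', natDegree_mul hpne (mul_ne_zero hpne hq'ne), natDegree_mul hpne hq'ne]
    have hpos : 0 < (minpoly (S ⧸ IsLocalRing.maximalIdeal S) xb).natDegree :=
      minpoly.natDegree_pos (Algebra.IsIntegral.isIntegral xb)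
    have hone : (minpoly (S ⧸ IsLocalRing.maximalIdeal S) xb).natDegree = 1 := by omega
    have hdeg1 : (minpoly (S ⧸ IsLocalRing.maximalIdeal S) xb).degree = 1 := by
      rw [degree_eq_natDegree hpne, hone]; rfl
    obtain ⟨c, hc⟩ := minpoly.degree_eq_one_iff.mp hdeg1
    exact ⟨c, by rw [← Algebra.algebraMap_eq_smul_one]; exact hc⟩
  have h1 : Module.finrank (S ⧸ IsLocalRing.maximalIdeal S)
      (R ⧸ (IsLocalRing.maximalIdeal S).map (algebraMap S R)) = 1 := by
    rw [finrank_eq_one_iff_of_nonzero' (1 : R ⧸ (IsLocalRing.maximalIdeal S).map (algebraMap S R))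
      one_ne_zero]
    intro w
    obtain ⟨x, rfl⟩ := Ideal.Quotient.mk_surjective w
    exact key x
  omega

theorem galois (S : Type u) (R : Type v) [CommRing S] [CommRing R] [Algebra S R]
    (lam : R ≃+* R) (hS : RInv.IsFixedRing S R lam) (hlam : Function.Involutive lam)
    [IsLocalRing S] (hq : RInv.IsQuadEtale S R) (M : Ideal R) [hM : M.IsMaximal] :
    ∃ c : R, c - lam c ∉ M := by
  by_contra hcon
  push Not at hcon
  have hfinSR : Module.Finite S R := hq.1
  have hle : (IsLocalRing.maximalIdeal S).map (algebraMap S R) ≤ M := mR_le_max M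
  by_cases hMeq : M = (IsLocalRing.maximalIdeal S).map (algebraMap S R)
  · exact galois_field_case S R lam hS hlam hq (hMeq ▸ hM) (fun c => hMeq ▸ hcon c)
  obtain ⟨hfink, hunrk, hred, hdim⟩ := quot_facts S R hq
  let _ : Field (S ⧸ IsLocalRing.maximalIdeal S) := Ideal.Quotient.field _
  have hfixS : ∀ s : S, lam (algebraMap S R s) = algebraMap S R s := fun s =>
    (hS.2 _).mpr ⟨s, rfl⟩
  have hlam_mR : ∀ x ∈ (IsLocalRing.maximalIdeal S).map (algebraMap S R),
      lam x ∈ (IsLocalRing.maximalIdeal S).map (algebraMap S R) := by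
    have : (IsLocalRing.maximalIdeal S).map (algebraMap S R) ≤
        ((IsLocalRing.maximalIdeal S).map (algebraMap S R)).comap (lam : R →+* R) := by
      rw [Ideal.map_le_iff_le_comap]
      intro s hs
      rw [Ideal.mem_comap, Ideal.mem_comap]
      change lam (algebraMap S R s) ∈ _
      rw [hfixS]
      exact Ideal.mem_map_of_mem _ hs
    exact fun x hx => this hx
  obtain ⟨z, hzM, hzm⟩ := SetLike.exists_of_lt (lt_of_le_of_ne hle (Ne.symm hMeq))
  let Mb : Submodule (S ⧸ IsLocalRing.maximalIdeal S)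
      (R ⧸ (IsLocalRing.maximalIdeal S).map (algebraMap S R)) :=
    (M.map (Ideal.Quotient.mk ((IsLocalRing.maximalIdeal S).map (algebraMap S R)))).restrictScalars _
  have hmem : ∀ x : R, Ideal.Quotient.mk ((IsLocalRing.maximalIdeal S).map (algebraMap S R)) x ∈ Mb ↔
      x ∈ M := fun x => Ideal.mem_quotient_iff_mem hle
  have hMbtop : Mb ≠ ⊤ := by
    intro h
    have h1 : Ideal.Quotient.mk ((IsLocalRing.maximalIdeal S).map (algebraMap S R)) 1 ∈ Mb := by
      rw [h]; exact Submodule.mem_top
    exact hM.ne_top ((Ideal.eq_top_iff_one M).mpr ((hmem 1).mp h1))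
  have hzb : Ideal.Quotient.mk ((IsLocalRing.maximalIdeal S).map (algebraMap S R)) z ≠ 0 := by
    rw [Ne, Ideal.Quotient.eq_zero_iff_mem]; exact hzm
  have hzMb : Ideal.Quotient.mk ((IsLocalRing.maximalIdeal S).map (algebraMap S R)) z ∈ Mb :=
    (hmem z).mpr hzM
  have hMbbot : Mb ≠ ⊥ := by
    intro h
    rw [h, Submodule.mem_bot] at hzMb
    exact hzb hzMb
  have hlt := Submodule.finrank_lt hMbtop
  have hge := Submodule.one_le_finrank_iff.mpr hMbbot
  have hMb1 : Module.finrank (S ⧸ IsLocalRing.maximalIdeal S) Mb = 1 := by omega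
  have hv0 : (⟨_, hzMb⟩ : Mb) ≠ 0 := fun h => hzb (congrArg Subtype.val h)
  have hsp := (finrank_eq_one_iff_of_nonzero' (⟨_, hzMb⟩ : Mb) hv0).mp hMb1
  have hlzM : lam z ∈ M := by
    have := M.sub_mem hzM (hcon z)
    simpa using this
  obtain ⟨ub, hub⟩ := hsp ⟨_, (hmem (lam z)).mpr hlzM⟩
  have hub' : ub • Ideal.Quotient.mk ((IsLocalRing.maximalIdeal S).map (algebraMap S R)) z =
      Ideal.Quotient.mk _ (lam z) := congrArg Subtype.val hub
  have hnm : z * lam z ∈ (IsLocalRing.maximalIdeal S).map (algebraMap S R) := by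
    obtain ⟨n, hn⟩ := (hS.2 (z * lam z)).mp (by rw [map_mul, hlam z, mul_comm])
    have hnM : algebraMap S R n ∈ M := hn ▸ M.mul_mem_right _ hzM
    have hnm : n ∈ IsLocalRing.maximalIdeal S := by
      have h1 : M.comap (algebraMap S R) ≠ ⊤ := Ideal.comap_ne_top _ hM.ne_top
      exact IsLocalRing.le_maximalIdeal h1 hnM
    rw [← hn]
    exact Ideal.mem_map_of_mem _ hnm
  have hprod : Ideal.Quotient.mk ((IsLocalRing.maximalIdeal S).map (algebraMap S R)) z *
      Ideal.Quotient.mk _ (lam z) = 0 := by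
    rw [← map_mul, Ideal.Quotient.eq_zero_iff_mem]; exact hnm
  rw [← hub', mul_smul_comm] at hprod
  rcases smul_eq_zero.mp hprod with hu0 | hzz
  · rw [hu0, zero_smul] at hub'
    have h1 : lam z ∈ (IsLocalRing.maximalIdeal S).map (algebraMap S R) :=
      Ideal.Quotient.eq_zero_iff_mem.mp hub'.symm
    have h2 := hlam_mR _ h1
    rw [hlam z] at h2
    exact hzm h2
  · have : IsNilpotent (Ideal.Quotient.mk ((IsLocalRing.maximalIdeal S).map (algebraMap S R)) z) :=
      ⟨2, by rw [pow_two]; exact hzz⟩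
    exact hzb this.eq_zero

end

/-- Let `S` be a local ring, `R` a quadratic etale `S`-algebra and `lam` an involution of `R` with fixed
ring `S`. Then every unit `r` of `R` with `lam r * r = 1` can be written `a⁻¹ * lam a` for a unit
`a` of `R`. -/
theorem result (S : Type u) (R : Type v) [CommRing S] [CommRing R]
    [Algebra S R] (lam : R ≃+* R) (hlam : Function.Involutive lam) (hS : RInv.IsFixedRing S R lam)
    [IsLocalRing S] (hq : RInv.IsQuadEtale S R) (r : Rˣ) (hr : lam r * r = 1) :
    ∃ a : Rˣ, (r : R) = (a⁻¹ : Rˣ) * lam a := by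
  have hfinSR : Module.Finite S R := hq.1
  suffices hc : ∃ c : R, IsUnit (c + lam c * lam r) by
    obtain ⟨c, hcu⟩ := hc
    obtain ⟨a, ha⟩ := hcu
    refine ⟨a, ?_⟩
    have h1 : lam (a : R) = a * r := by
      rw [ha, map_add, map_mul, hlam c, hlam (r : R), add_mul, mul_assoc, hr, mul_one, add_comm]
    rw [h1, ← mul_assoc, Units.inv_mul, one_mul]
  obtain ⟨hfink, hunrk, hred, hdim⟩ := quot_facts S R hq
  let _ : Field (S ⧸ IsLocalRing.maximalIdeal S) := Ideal.Quotient.field _
  have hP : ∀ (M : Ideal R) [M.IsMaximal], ∃ c : R, c + lam c * lam r ∉ M := by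
    intro M hM
    by_contra hall
    push Not at hall
    obtain ⟨c, hc⟩ := galois S R lam hS hlam hq M
    apply hc
    have h1 : (1 : R) + lam r ∈ M := by
      have := hall 1
      simpa using this
    have : c - lam c = (c + lam c * lam r) - lam c * (1 + lam r) := by ring
    rw [this]
    exact M.sub_mem (hall c) (M.mul_mem_left _ h1)
  rcases Groth.Agent.S15585.field_or_prod (S ⧸ IsLocalRing.maximalIdeal S)
    (R ⧸ (IsLocalRing.maximalIdeal S).map (algebraMap S R)) hdim with hF | hψ
  · have hmax : ((IsLocalRing.maximalIdeal S).map (algebraMap S R)).IsMaximal :=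
      Ideal.Quotient.maximal_of_isField _ hF
    obtain ⟨c, hc⟩ := @hP _ hmax
    refine ⟨c, ?_⟩
    have hne : Ideal.Quotient.mk ((IsLocalRing.maximalIdeal S).map (algebraMap S R))
        (c + lam c * lam r) ≠ 0 := by
      rw [Ne, Ideal.Quotient.eq_zero_iff_mem]; exact hc
    obtain ⟨bb, hbb⟩ := hF.mul_inv_cancel hne
    obtain ⟨b, rfl⟩ := Ideal.Quotient.mk_surjective bb
    apply unit_of_quot (S := S) _ b
    rw [← Ideal.Quotient.eq_zero_iff_mem, map_sub, map_mul, hbb, map_one, sub_self]
  · obtain ⟨ψ⟩ := hψ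
    let f₁ : R →+* (S ⧸ IsLocalRing.maximalIdeal S) :=
      (RingHom.fst _ _).comp ((ψ.toAlgHom.toRingHom).comp
        (Ideal.Quotient.mk ((IsLocalRing.maximalIdeal S).map (algebraMap S R))))
    let f₂ : R →+* (S ⧸ IsLocalRing.maximalIdeal S) :=
      (RingHom.snd _ _).comp ((ψ.toAlgHom.toRingHom).comp
        (Ideal.Quotient.mk ((IsLocalRing.maximalIdeal S).map (algebraMap S R))))
    have hf₁ : Function.Surjective f₁ := by
      intro y
      obtain ⟨x, hx⟩ := Ideal.Quotient.mk_surjective (ψ.symm (y, 0))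
      refine ⟨x, ?_⟩
      change (ψ (Ideal.Quotient.mk _ x)).1 = y
      rw [hx, AlgEquiv.apply_symm_apply]
    have hf₂ : Function.Surjective f₂ := by
      intro y
      obtain ⟨x, hx⟩ := Ideal.Quotient.mk_surjective (ψ.symm (0, y))
      refine ⟨x, ?_⟩
      change (ψ (Ideal.Quotient.mk _ x)).2 = y
      rw [hx, AlgEquiv.apply_symm_apply]
    have hM₁ : (RingHom.ker f₁).IsMaximal := RingHom.ker_isMaximal_of_surjective f₁ hf₁
    have hM₂ : (RingHom.ker f₂).IsMaximal := RingHom.ker_isMaximal_of_surjective f₂ hf₂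
    obtain ⟨c₁, hc₁⟩ := hP (RingHom.ker f₁)
    obtain ⟨c₂, hc₂⟩ := hP (RingHom.ker f₂)
    have hadd : ∀ c c' : R, (c + c') + lam (c + c') * lam r =
        (c + lam c * lam r) + (c' + lam c' * lam r) := by
      intro c c'
      rw [map_add]; ring
    obtain ⟨c, hcM₁, hcM₂⟩ : ∃ c : R, c + lam c * lam r ∉ RingHom.ker f₁ ∧
        c + lam c * lam r ∉ RingHom.ker f₂ := by
      by_cases h12 : c₁ + lam c₁ * lam r ∈ RingHom.ker f₂
      · by_cases h21 : c₂ + lam c₂ * lam r ∈ RingHom.ker f₁
        · refine ⟨c₁ + c₂, ?_, ?_⟩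
          · rw [hadd]
            intro h
            apply hc₁
            have := (RingHom.ker f₁).sub_mem h h21
            simpa using this
          · rw [hadd]
            intro h
            apply hc₂
            have := (RingHom.ker f₂).sub_mem h h12
            simpa using this
        · exact ⟨c₂, h21, hc₂⟩
      · exact ⟨c₁, hc₁, h12⟩
    refine ⟨c, ?_⟩
    have hu : f₁ (c + lam c * lam r) ≠ 0 := fun h => hcM₁ (RingHom.mem_ker.mpr h)
    have hv : f₂ (c + lam c * lam r) ≠ 0 := fun h => hcM₂ (RingHom.mem_ker.mpr h)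
    obtain ⟨b, hb⟩ := Ideal.Quotient.mk_surjective
      (ψ.symm ((f₁ (c + lam c * lam r))⁻¹, (f₂ (c + lam c * lam r))⁻¹))
    apply unit_of_quot (S := S) _ b
    rw [← Ideal.Quotient.eq_zero_iff_mem, map_sub, map_mul, hb, map_one, sub_eq_zero]
    apply ψ.injective
    rw [map_mul, AlgEquiv.apply_symm_apply, map_one]
    apply Prod.ext
    · change f₁ (c + lam c * lam r) * (f₁ (c + lam c * lam r))⁻¹ = 1
      exact mul_inv_cancel₀ hu
    · change f₂ (c + lam c * lam r) * (f₂ (c + lam c * lam r))⁻¹ = 1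
      exact mul_inv_cancel₀ hv

end Groth.Agent.S15580
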