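import Groth.Statements.S15581
import Mathlib.Tactic.Ring
import Mathlib.Tactic.LinearCombination
-- import your own Groth.Agent.* helpers here

set_option autoImplicit false
universe u v
open RInv

namespace Groth.Agent.S15581

/-- Let `A` be a commutative ring with an involution `lam` whose fixed ring `B` is local with `2`
invertible. Then `Jac(A)^2 ⊆ Jac(B) A`. -/
theorem result (B : Type u) (A : Type v) [CommRing B]
    [CommRing A] [Algebra B A] (lam : A ≃+* A) (hlam : Function.Involutive lam)
    (hB : RInv.IsFixedRing B A lam) [IsLocalRing B] (h2 : IsUnit (2 : B)) :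
    (Ring.jacobson A) ^ 2 ≤ (IsLocalRing.maximalIdeal B).map (algebraMap B A) := by
  obtain ⟨hinj, hfix⟩ := hB
  haveI : Nontrivial A := hinj.nontrivial
  set J := Ring.jacobson A with hJ
  set I := (IsLocalRing.maximalIdeal B).map (algebraMap B A) with hI
  have hJtop : J ≠ ⊤ := (Ring.jacobson_lt_top A).ne
  haveI : RingHomSurjective (lam : A →+* A) := ⟨lam.surjective⟩
  have hlamJ : ∀ a ∈ J, lam a ∈ J := fun a ha =>
    Ring.le_comap_jacobson (f := (lam : A →+* A)) ha
  -- fixed elements of J lie in I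
  have hfixJ : ∀ x ∈ J, lam x = x → x ∈ I := by
    intro x hx hlx
    obtain ⟨b, rfl⟩ := (hfix x).1 hlx
    have hb : b ∈ IsLocalRing.maximalIdeal B := by
      rw [IsLocalRing.mem_maximalIdeal]
      intro hu
      exact hJtop (Ideal.eq_top_of_isUnit_mem _ hx (hu.map (algebraMap B A)))
    exact Ideal.mem_map_of_mem _ hb
  obtain ⟨t, ht⟩ := h2.exists_right_inv
  set c := algebraMap B A t with hc
  have hc2 : 2 * c = 1 := by
    rw [hc, ← map_ofNat (algebraMap B A) 2, ← map_mul, ht, map_one]
  have hlc : lam c = c := (hfix c).2 ⟨t, rfl⟩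
  rw [pow_two, Ideal.mul_le]
  intro a ha a' ha'
  have hs : c * (a + lam a) ∈ I := by
    apply hfixJ
    · exact Ideal.mul_mem_left _ _ (Ideal.add_mem _ ha (hlamJ a ha))
    · rw [map_mul, map_add, hlam a, hlc]; ring
  have hs' : c * (a' + lam a') ∈ I := by
    apply hfixJ
    · exact Ideal.mul_mem_left _ _ (Ideal.add_mem _ ha' (hlamJ a' ha'))
    · rw [map_mul, map_add, hlam a', hlc]; ring
  have hdd : (c * (a - lam a)) * (c * (a' - lam a')) ∈ I := by
    apply hfixJ
    · exact Ideal.mul_mem_right _ _ (Ideal.mul_mem_left _ _ (Ideal.sub_mem _ ha (hlamJ a ha)))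
    · rw [map_mul, map_mul, map_mul, map_sub, map_sub, hlam a, hlam a', hlc]; ring
  have key : a * a' = (c * (a + lam a)) * (c * (a' + lam a')) +
      (c * (a + lam a)) * (c * (a' - lam a')) + (c * (a' + lam a')) * (c * (a - lam a)) +
      (c * (a - lam a)) * (c * (a' - lam a')) := by
    linear_combination (-(a * a') * (2 * c + 1)) * hc2
  rw [key]
  refine Ideal.add_mem _ (Ideal.add_mem _ (Ideal.add_mem _ ?_ ?_) ?_) hdd
  · exact Ideal.mul_mem_right _ _ hs
  · exact Ideal.mul_mem_right _ _ hs
  · exact Ideal.mul_mem_right _ _ hs'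

end Groth.Agent.S15581
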