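import Groth.Statements.S15582
import Mathlib

set_option autoImplicit false
universe u
open CategoryTheory TopologicalSpace
open CohTop

namespace Groth.Agent.S15582

section Aux
open CategoryTheory TopologicalSpace Opposite


variable {X : TopCat.{u}}

lemma sec_eq_of_eq_bot (F : TopCat.Sheaf (Type u) X) (V : Opens X) (hV : V = ⊥)
    (a b : ToType (F.1.obj (op V))) : a = b := by
  refine F.eq_of_locally_eq' (fun i : PEmpty.{1} => (PEmpty.elim i : Opens X)) V
    (fun i => PEmpty.elim i) ?_ a b (fun i => PEmpty.elim i)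
  rw [hV]; exact bot_le

lemma res_res (F : TopCat.Presheaf (Type u) X) {U V W : Opens X} (h1 : V ≤ W) (h2 : U ≤ V)
    (s : ToType (F.obj (op W))) :
    F.map (homOfLE h2).op (F.map (homOfLE h1).op s) = F.map (homOfLE (h2.trans h1)).op s := by
  rw [← ConcreteCategory.comp_apply, ← F.map_comp]
  rfl

lemma nat_res {F G : TopCat.Presheaf (Type u) X} (φ : F ⟶ G) {U V : Opens X} (h : U ≤ V)
    (s : ToType (F.obj (op V))) :
    φ.app (op U) (F.map (homOfLE h).op s) = G.map (homOfLE h).op (φ.app (op V) s) := by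
  rw [← ConcreteCategory.comp_apply, φ.naturality, ConcreteCategory.comp_apply]

theorem main
    {X Y : TopCat.{u}} (π : X ⟶ Y)
    (h1 : ∀ (y : Y) (U : Set X), IsOpen U → π ⁻¹' {y} ⊆ U →
      ∃ V : Set Y, IsOpen V ∧ y ∈ V ∧ π ⁻¹' V ⊆ U)
    (h2 : ∀ y : Y, (π ⁻¹' {y}).Finite ∧ ∃ U : X → Set X,
      (∀ x ∈ π ⁻¹' {y}, IsOpen (U x) ∧ x ∈ U x) ∧ (π ⁻¹' {y}).PairwiseDisjoint U) :
    (TopCat.Sheaf.pushforward (Type u) π).PreservesEpimorphisms := by
  constructor
  intro F G φ hφ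
  have hls : TopCat.Presheaf.IsLocallySurjective φ.hom :=
    (Sheaf.isLocallySurjective_iff_epi φ).mpr hφ
  refine (Sheaf.isLocallySurjective_iff_epi (J := Opens.grothendieckTopology Y)
    ((TopCat.Sheaf.pushforward (Type u) π).map φ)).mp ?_
  change TopCat.Presheaf.IsLocallySurjective ((TopCat.Presheaf.pushforward _ π).map φ.hom)
  rw [TopCat.Presheaf.isLocallySurjective_iff] at hls ⊢
  intro V s y hy
  obtain ⟨hfin, Us, hUs, hdisj⟩ := h2 y
  have hloc : ∀ x : (π ⁻¹' {y} : Set X), ∃ (W : Opens X) (hW : W ≤ (Opens.map π).obj V),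
      (x : X) ∈ W ∧ (W : Set X) ⊆ Us x ∧
      ∃ t : ToType (F.1.obj (op W)), φ.hom.app (op W) t = G.1.map (homOfLE hW).op s := by
    intro x
    have hxV : (x : X) ∈ (Opens.map π).obj V := by
      have : π x = y := x.2
      change π x ∈ V
      rw [this]; exact hy
    obtain ⟨W, hWle, ⟨t, ht⟩, hxW⟩ := hls ((Opens.map π).obj V) s x hxV
    obtain ⟨hUo, hxU⟩ := hUs x x.2
    refine ⟨W ⊓ ⟨Us x, hUo⟩, inf_le_left.trans hWle, ⟨hxW, hxU⟩, inf_le_right,
      F.1.map (homOfLE inf_le_left).op t, ?_⟩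
    rw [nat_res, ht]
    exact res_res G.1 hWle inf_le_left s
  choose W hW hxW hWU t ht using hloc
  have hcompat : TopCat.Presheaf.IsCompatible F.1 W t := by
    intro i j
    by_cases hij : i = j
    · subst hij; rfl
    · apply sec_eq_of_eq_bot F
      rw [eq_bot_iff]
      intro z hz
      have hd := hdisj i.2 j.2 (fun h => hij (Subtype.ext h))
      exact (Set.disjoint_left.mp hd (hWU i hz.1) (hWU j hz.2)).elim
  obtain ⟨T, hT, -⟩ := F.existsUnique_gluing W t hcompat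
  have hZ : π ⁻¹' {y} ⊆ ((iSup W : Opens X) : Set X) :=
    fun x hx => Opens.mem_iSup.mpr ⟨⟨x, hx⟩, hxW ⟨x, hx⟩⟩
  obtain ⟨V₀, hV₀o, hyV₀, hV₀⟩ := h1 y _ (iSup W).2 hZ
  have hsupV : iSup W ≤ (Opens.map π).obj V := iSup_le hW
  have key : φ.hom.app (op (iSup W)) T = G.1.map (homOfLE hsupV).op s := by
    apply G.eq_of_locally_eq W
    intro i
    have h3 : F.1.map (Opens.leSupr W i).op T = t i := hT i
    have h4 := nat_res φ.hom (le_iSup W i) T
    change φ.hom.app (op (W i)) (F.1.map (Opens.leSupr W i).op T) = _ at h4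
    rw [h3, ht] at h4
    change G.1.map (homOfLE (le_iSup W i)).op _ = G.1.map (homOfLE (le_iSup W i)).op _
    rw [← h4, res_res]
  have hV' : (Opens.map π).obj (⟨V₀, hV₀o⟩ ⊓ V) ≤ iSup W := fun z hz => hV₀ hz.1
  refine ⟨⟨V₀, hV₀o⟩ ⊓ V, inf_le_right, ⟨F.1.map (homOfLE hV').op T, ?_⟩, ⟨hyV₀, hy⟩⟩
  change φ.hom.app (op ((Opens.map π).obj (⟨V₀, hV₀o⟩ ⊓ V))) (F.1.map (homOfLE hV').op T) =
    G.1.map (homOfLE (show (Opens.map π).obj (⟨V₀, hV₀o⟩ ⊓ V) ≤ (Opens.map π).obj V from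
      fun z hz => hz.2)).op s
  rw [nat_res, key, res_res]


end Aux

/-- Let `π : X → Y` be a continuous map such that every open set containing a fibre `π⁻¹(y)` contains
the preimage of an open neighbourhood of `y`, and such that every fibre is finite with its points
separated by pairwise disjoint open sets of `X`. Then the direct image of sheaves of sets along `π`
preserves epimorphisms. -/
theorem result
    {X Y : TopCat.{u}} (π : X ⟶ Y)
    (h1 : ∀ (y : Y) (U : Set X), IsOpen U → π ⁻¹' {y} ⊆ U →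
      ∃ V : Set Y, IsOpen V ∧ y ∈ V ∧ π ⁻¹' V ⊆ U)
    (h2 : ∀ y : Y, (π ⁻¹' {y}).Finite ∧ ∃ U : X → Set X,
      (∀ x ∈ π ⁻¹' {y}, IsOpen (U x) ∧ x ∈ U x) ∧ (π ⁻¹' {y}).PairwiseDisjoint U) :
    (TopCat.Sheaf.pushforward (Type u) π).PreservesEpimorphisms := by
  exact main π h1 h2

end Groth.Agent.S15582
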