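import Groth.Statements.S15583
import Groth.Agent.Lib.Helper1.HermDiagI
open Groth.Agent.Lib.Helper1.HermDiag

set_option autoImplicit false
universe u v
open RInv

namespace Groth.Agent.S15583

/-- Let `A` be a commutative ring with an involution `lam` whose fixed ring `B` is local, let `ε = ±1`,
and let `h` be an invertible `n × n` matrix over `A` that is `(ε, lam)`-hermitian: `h` equals `ε`
times the transpose of `lam` applied entrywise to `h`. If `lam` is not the identity modulo the
Jacobson radical of `A`, or `ε ≠ -1` modulo that radical, or `n` is odd, then `h` is congruent to a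
diagonal matrix: there is an invertible `v` with `(lam v)ᵀ h v` diagonal. -/
theorem result (B : Type u) (A : Type v) [CommRing B] [CommRing A]
    [Algebra B A] (lam : A ≃+* A) (hlam : Function.Involutive lam) (hB : RInv.IsFixedRing B A lam)
    [IsLocalRing B] (n : ℕ) (ε : A) (hε : ε = 1 ∨ ε = -1) (h : Matrix (Fin n) (Fin n) A)
    (hh : IsUnit h) (herm : ε • (h.map lam).transpose = h)
    (hcase : (∃ a : A, lam a - a ∉ Ring.jacobson A) ∨ ε + 1 ∉ Ring.jacobson A ∨ Odd n) :
    ∃ v : Matrix (Fin n) (Fin n) A, IsUnit v ∧
      ∃ d : Fin n → A, (v.map lam).transpose * h * v = Matrix.diagonal d := by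
  classical
  obtain ⟨hinj, hfix⟩ := hB
  have hεunit : IsUnit ε := by
    rcases hε with rfl | rfl
    · exact isUnit_one
    · exact isUnit_one.neg
  have hεε : ε * ε = 1 := by rcases hε with rfl | rfl <;> ring
  have hdet : IsUnit h.det := (Matrix.isUnit_iff_isUnit_det h).mp hh
  have hHerm : Herm lam ε h := herm
  suffices H : Diagble lam h by
    obtain ⟨v, d, hd, hv⟩ := H
    refine ⟨v, ?_, d, hv⟩
    rw [Matrix.isUnit_iff_isUnit_det]
    have h1 := congrArg Matrix.det hv
    rw [Matrix.det_mul, Matrix.det_mul, Matrix.det_diagonal] at h1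
    have h2 : IsUnit (∏ i, d i) := IsUnit.prod_univ_iff.mpr hd
    rw [← h1] at h2
    exact isUnit_of_mul_isUnit_right h2
  have hnt : Nontrivial A := hinj.nontrivial
  obtain ⟨M, hM⟩ := Ideal.exists_maximal A
  by_cases hMM : Ideal.comap (lam : A →+* A) M = M
  · have hloc : IsLocalRing A := by
      apply IsLocalRing.of_unique_max_ideal
      refine ⟨M, hM, ?_⟩
      intro N hN
      rcases maximal_eq_or hlam hfix M N with h1 | h1
      · exact h1
      · rw [h1, hMM]
    apply local_diagble hlam hεunit h hHerm hdet
    rw [← IsLocalRing.ringJacobson_eq_maximalIdeal, Fintype.card_fin]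
    exact hcase
  · apply split_diagble hlam hεunit hεε M hM hMM _ _ h hHerm hdet
    · intro x hx hx'
      rw [Ring.jacobson_eq_sInf_isMaximal, Ideal.mem_sInf]
      intro N hN
      have hN' : N.IsMaximal := hN
      rcases maximal_eq_or hlam hfix M N with h1 | h1
      · rw [h1]; exact hx
      · rw [h1]; exact hx'
    · intro x hx hx'
      by_contra hnu
      obtain ⟨N, hN, hxN⟩ := exists_max_ideal_of_mem_nonunits hnu
      rcases maximal_eq_or hlam hfix M N with h1 | h1
      · rw [h1] at hxN; exact hx hxN
      · rw [h1] at hxN; exact hx' hxN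

end Groth.Agent.S15583
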