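import Groth.Statements.S15584
import Groth.Agent.Lib.Helper1.HermDiagL
open Groth.Agent.Lib.Helper1.HermDiag

set_option autoImplicit false
universe u v
open RInv

namespace Groth.Agent.S15584

/-- Let `A` be a commutative ring with an involution `lam` whose fixed ring `B` is local; assume `lam`
is the identity modulo the Jacobson radical of `A`, that `2` is invertible in `A`, and that `h` is
an invertible `n × n` matrix with `h = -(lam h)ᵀ`. Then `n` is even and there is an invertible `v`
such that `(lam v)ᵀ h v` is a block sum of `2 × 2` blocks on the index pairs `{2k, 2k+1}`, each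
congruent to `[[0,1],[-1,0]]` modulo the Jacobson radical. (The published statement writes the
congruence with the plain transpose `vᵀ h v`; its proof computes the Gram matrix of the hermitian
form `(x, y) ↦ (lam x)ᵀ h y` in a new basis, which is `(lam v)ᵀ h v`, and that is what is stated
here.) -/
theorem result (B : Type u) (A : Type v) [CommRing B] [CommRing A]
    [Algebra B A] (lam : A ≃+* A) (hlam : Function.Involutive lam) (hB : RInv.IsFixedRing B A lam)
    [IsLocalRing B] (n : ℕ) (hid : ∀ a : A, lam a - a ∈ Ring.jacobson A) (h2 : IsUnit (2 : A))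
    (h : Matrix (Fin n) (Fin n) A) (hh : IsUnit h) (herm : -(h.map lam).transpose = h) :
    Even n ∧ ∃ v : Matrix (Fin n) (Fin n) A, IsUnit v ∧
      ∀ i j : Fin n,
        (i.val / 2 ≠ j.val / 2 → ((v.map lam).transpose * h * v) i j = 0) ∧
        (i.val / 2 = j.val / 2 → (Even i.val ↔ Even j.val) →
          ((v.map lam).transpose * h * v) i j ∈ Ring.jacobson A) ∧
        (i.val / 2 = j.val / 2 → Even i.val → ¬ Even j.val →
          ((v.map lam).transpose * h * v) i j - 1 ∈ Ring.jacobson A) ∧
        (i.val / 2 = j.val / 2 → ¬ Even i.val → Even j.val →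
          ((v.map lam).transpose * h * v) i j + 1 ∈ Ring.jacobson A) := by
  classical
  obtain ⟨hinj, hfix⟩ := hB
  have hnt : Nontrivial A := hinj.nontrivial
  obtain ⟨M, hM⟩ := Ideal.exists_maximal A
  have hMM : Ideal.comap (lam : A →+* A) M = M := by
    by_contra hne
    have hM'max : (Ideal.comap (lam : A →+* A) M).IsMaximal :=
      Ideal.comap_isMaximal_of_surjective (lam : A →+* A) lam.surjective
    have hsup := Ideal.IsMaximal.coprime_of_ne hM hM'max (Ne.symm hne)
    have h1 : (1 : A) ∈ M ⊔ Ideal.comap (lam : A →+* A) M := by rw [hsup]; trivial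
    obtain ⟨p, hp, c, hc, hpc⟩ := Submodule.mem_sup.mp h1
    have hc1 : lam c ∈ M := hc
    have hc2 : lam c - c ∈ M := Ring.jacobson_le_of_isMaximal M (hid c)
    have hc3 : c ∈ M := by
      have := Ideal.sub_mem _ hc1 hc2
      simpa using this
    have : (1 : A) ∈ M := by rw [← hpc]; exact Ideal.add_mem _ hp hc3
    exact hM.ne_top ((Ideal.eq_top_iff_one _).mpr this)
  have hloc : IsLocalRing A := by
    apply IsLocalRing.of_unique_max_ideal
    refine ⟨M, hM, ?_⟩
    intro N hN
    rcases maximal_eq_or hlam hfix M N with h1 | h1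
    · exact h1
    · rw [h1, hMM]
  rw [IsLocalRing.ringJacobson_eq_maximalIdeal] at hid ⊢
  have hdet : IsUnit h.det := (Matrix.isUnit_iff_isUnit_det h).mp hh
  have hHerm : Herm lam (-1) h := by
    unfold Herm
    rw [neg_one_smul]; exact herm
  have heven : Even n := by
    have := skew_even_card hid h2 hHerm hdet
    rwa [Fintype.card_fin] at this
  refine ⟨heven, ?_⟩
  obtain ⟨m, hm⟩ := heven
  obtain ⟨v, hv, hc1, hc2⟩ := skew_main hlam hid h2 m n (by omega) h hHerm hdet
  refine ⟨v, (Matrix.isUnit_iff_isUnit_det v).mpr hv, ?_⟩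
  have hG := hHerm.congr hlam v
  intro i j
  refine ⟨hc1 i j, ?_, hc2 i j, ?_⟩
  · intro hij hpar
    have hval : (i : ℕ) = (j : ℕ) := by
      rw [Nat.even_iff, Nat.even_iff] at hpar
      omega
    have : i = j := Fin.ext hval
    subst this
    exact skew_diag_mem hid h2 hG i
  · intro hij hi hj
    have h1 := hc2 j i hij.symm hj hi
    have h3 := hG.apply i j
    have h4 : ((v.map lam).transpose * h * v) i j + 1
        = -(lam (((v.map lam).transpose * h * v) j i - 1)) := by
      rw [map_sub, map_one]
      linear_combination -h3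
    rw [h4]
    exact neg_mem (lam_mem hlam h1)

end Groth.Agent.S15584
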