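import Groth.Statements.S15589
import Groth.Agent.Lib.Helper3.BranchLocus2
-- import your own Groth.Agent.* helpers here

set_option autoImplicit false
universe u v
open scoped TensorProduct
open RInv

namespace Groth.Agent.S15589

/-- Let `R` be a commutative ring with an involution `lam` and fixed ring `S`, `W ⊆ Spec S` the branch
locus (primes `p` with `S_p ⊗_S R` not quadratic etale over `S_p`), `I` its vanishing ideal and `J =
rad(IR)`. Then `Spec(R/J) → Spec(S/I)` is a homeomorphism; if `2` is a unit of `S`, the ring map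
`S/I → R/J` is moreover bijective, so the reduced preimage of the branch locus maps isomorphically
onto it. Affine-local form of the statement for a good quotient of schemes by an involution (the
hypothesis `I ≤ J ∩ S` holds automatically and only serves to write down the map). -/
theorem result (S : Type u) (R : Type v) [CommRing S] [CommRing R]
    [Algebra S R] (lam : R ≃+* R) (hlam : Function.Involutive lam) (hS : RInv.IsFixedRing S R lam)
    (W : Set (PrimeSpectrum S))
    (hW : W = {p : PrimeSpectrum S | ¬ RInv.IsQuadEtale (Localization.AtPrime p.asIdeal) (Localization.AtPrime p.asIdeal ⊗[S] R)})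
    (J : Ideal R) (hJ : J = ((PrimeSpectrum.vanishingIdeal W).map (algebraMap S R)).radical)
    (hIJ : PrimeSpectrum.vanishingIdeal W ≤ J.comap (algebraMap S R)) :
    IsHomeomorph (PrimeSpectrum.comap (Ideal.quotientMap J (algebraMap S R) hIJ)) ∧
      (IsUnit (2 : S) → Function.Bijective (Ideal.quotientMap J (algebraMap S R) hIJ)) := by
  subst hW
  subst hJ
  set W := {p : PrimeSpectrum S | ¬ RInv.IsQuadEtale
    (Localization.AtPrime p.asIdeal) (Localization.AtPrime p.asIdeal ⊗[S] R)} with hWdef
  set I := PrimeSpectrum.vanishingIdeal W with hI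
  set J := (I.map (algebraMap S R)).radical with hJ
  set φ := Ideal.quotientMap J (algebraMap S R) hIJ with hφ
  have hint := Groth.Agent.Lib.Helper3.BranchLocus.isIntegral_of_isFixedRing hlam hS
  have hclosed : IsClosed W := Groth.Agent.Lib.Helper3.BranchLocus.isClosed_branch hlam hS
  have htriv : ∀ r : R, lam r - r ∈ J := fun r =>
    Groth.Agent.Lib.Helper3.BranchLocus.sub_mem_radical hlam hS r
  have hφmk : ∀ s : S, φ (Ideal.Quotient.mk I s) = Ideal.Quotient.mk J (algebraMap S R s) :=
    fun s => Ideal.quotientMap_mk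
  -- integrality of the quotient map
  have hφint : φ.IsIntegral := by
    intro x
    obtain ⟨r, rfl⟩ := Ideal.Quotient.mk_surjective x
    obtain ⟨P, hP, hPr⟩ := hint r
    refine ⟨P.map (Ideal.Quotient.mk I), hP.map _, ?_⟩
    rw [Polynomial.eval₂_map]
    have hcomp : φ.comp (Ideal.Quotient.mk I) = (Ideal.Quotient.mk J).comp (algebraMap S R) := by
      ext s
      exact hφmk s
    rw [hcomp, ← Polynomial.hom_eval₂, hPr, map_zero]
  -- primes over a branch point
  have hover : ∀ p : PrimeSpectrum S, I ≤ p.asIdeal →
      ∃ q : PrimeSpectrum R, q.asIdeal.comap (algebraMap S R) = p.asIdeal ∧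
        (∀ r : R, lam r - r ∈ q.asIdeal) ∧ J ≤ q.asIdeal := by
    intro p hp
    have hp' : p ∈ PrimeSpectrum.zeroLocus (I : Set S) := hp
    rw [hI, PrimeSpectrum.zeroLocus_vanishingIdeal_eq_closure, hclosed.closure_eq] at hp'
    obtain ⟨q, hq1, hq2⟩ := Groth.Agent.Lib.Helper3.BranchLocus.exists_trivial_over hlam hS p hp'
    refine ⟨q, hq1, hq2, ?_⟩
    haveI := q.isPrime
    rw [hJ, Ideal.IsPrime.radical_le_iff inferInstance, Ideal.map_le_iff_le_comap, hq1]
    exact hp
  constructor
  · rw [isHomeomorph_iff_continuous_isClosedMap_bijective]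
    refine ⟨PrimeSpectrum.continuous_comap φ,
      PrimeSpectrum.isClosedMap_comap_of_isIntegral φ hφint, ?_, ?_⟩
    · -- injective
      intro Q₁ Q₂ h
      apply PrimeSpectrum.comap_injective_of_surjective (Ideal.Quotient.mk J)
        Ideal.Quotient.mk_surjective
      set q₁ := PrimeSpectrum.comap (Ideal.Quotient.mk J) Q₁ with hq₁
      set q₂ := PrimeSpectrum.comap (Ideal.Quotient.mk J) Q₂ with hq₂
      have hJq₁ : J ≤ q₁.asIdeal := by
        intro x hx
        show Ideal.Quotient.mk J x ∈ Q₁.asIdeal
        rw [Ideal.Quotient.eq_zero_iff_mem.mpr hx]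
        exact Ideal.zero_mem _
      have hc : ∀ Q : PrimeSpectrum (R ⧸ J),
          (PrimeSpectrum.comap (Ideal.Quotient.mk J) Q).asIdeal.comap (algebraMap S R) =
            (PrimeSpectrum.comap (Ideal.Quotient.mk I) (PrimeSpectrum.comap φ Q)).asIdeal := by
        intro Q
        ext s
        show Ideal.Quotient.mk J (algebraMap S R s) ∈ Q.asIdeal ↔
          φ (Ideal.Quotient.mk I s) ∈ Q.asIdeal
        rw [hφmk]
      haveI := q₁.isPrime
      haveI := q₂.isPrime
      ext1
      refine (Groth.Agent.Lib.Helper3.BranchLocus.eq_of_comap_eq_of_trivial hlam hS q₁.asIdeal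
        q₂.asIdeal ?_ (fun r => hJq₁ (htriv r))).symm
      rw [hq₁, hq₂, hc, hc, h]
    · -- surjective
      intro P
      set p := PrimeSpectrum.comap (Ideal.Quotient.mk I) P with hp
      have hIp : I ≤ p.asIdeal := by
        intro x hx
        show Ideal.Quotient.mk I x ∈ P.asIdeal
        rw [Ideal.Quotient.eq_zero_iff_mem.mpr hx]
        exact Ideal.zero_mem _
      obtain ⟨q, hq1, -, hq3⟩ := hover p hIp
      have hqr : q ∈ Set.range (PrimeSpectrum.comap (Ideal.Quotient.mk J)) := by
        rw [range_comap_of_surjective _ _ Ideal.Quotient.mk_surjective,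
          Ideal.mk_ker]
        exact hq3
      obtain ⟨Q, hQ⟩ := hqr
      refine ⟨Q, ?_⟩
      apply PrimeSpectrum.comap_injective_of_surjective (Ideal.Quotient.mk I)
        Ideal.Quotient.mk_surjective
      ext1
      ext s
      show φ (Ideal.Quotient.mk I s) ∈ Q.asIdeal ↔ s ∈ p.asIdeal
      rw [hφmk, ← hq1, ← hQ]
      rfl
  · intro h2
    constructor
    · -- injective
      rw [injective_iff_map_eq_zero]
      intro x hx
      obtain ⟨s, rfl⟩ := Ideal.Quotient.mk_surjective x
      rw [hφmk, Ideal.Quotient.eq_zero_iff_mem] at hx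
      rw [Ideal.Quotient.eq_zero_iff_mem, PrimeSpectrum.mem_vanishingIdeal]
      intro p hp
      have hIp : I ≤ p.asIdeal := by
        intro x hx
        exact (PrimeSpectrum.mem_vanishingIdeal _ _).mp hx p hp
      obtain ⟨q, hq1, -, hq3⟩ := hover p hIp
      rw [← hq1]
      exact hq3 hx
    · -- surjective
      intro x
      obtain ⟨r, rfl⟩ := Ideal.Quotient.mk_surjective x
      obtain ⟨u, hu⟩ := h2.exists_left_inv
      obtain ⟨t, ht⟩ := Groth.Agent.Lib.Helper80.RInvLib.exists_trace hlam hS r
      refine ⟨Ideal.Quotient.mk I (u * t), ?_⟩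
      rw [hφmk, Ideal.Quotient.eq]
      have hu' : algebraMap S R u * 2 = 1 := by
        have := congrArg (algebraMap S R) hu
        rwa [map_mul, map_ofNat, map_one] at this
      have : algebraMap S R (u * t) - r = algebraMap S R u * (lam r - r) := by
        rw [map_mul, ht]
        linear_combination r * hu'
      rw [this]
      exact J.mul_mem_left _ (htriv r)

end Groth.Agent.S15589
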