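import Groth.Statements.S15590
import Mathlib.Tactic
import Mathlib.RingTheory.Flat.FaithfullyFlat.Algebra
import Mathlib.RingTheory.Finiteness.Descent
import Mathlib.RingTheory.Ideal.GoingUp

set_option autoImplicit false
universe u v
open CAlg

namespace Groth.Agent.S15590

/-- Let A → B be an injective homomorphism of commutative rings which makes B a finite flat A-module,
and suppose B is a Dedekind domain (Noetherian, integrally closed, of Krull dimension at most one; a
field is allowed). Then A is a Dedekind domain. -/
theorem result (A : Type u) (B : Type v)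
    [CommRing A] [CommRing B] [Algebra A B] [IsDedekindDomain B]
    (hinj : Function.Injective (algebraMap A B)) [Module.Finite A B] [Module.Flat A B] :
    IsDedekindDomain A := by
  have hdom : IsDomain A := hinj.isDomain _
  have hfaith : FaithfulSMul A B := (faithfulSMul_iff_algebraMap_injective A B).mpr hinj
  have hint : Algebra.IsIntegral A B := Algebra.IsIntegral.of_finite A B
  have hff : Module.FaithfullyFlat A B := inferInstance
  have hnoeth : IsNoetherianRing A := by
    rw [isNoetherianRing_iff_ideal_fg]
    intro I
    exact Ideal.FG.of_FG_map_of_faithfullyFlat (S := B) (IsNoetherian.noetherian _)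
  have hdim : Ring.DimensionLEOne A := by
    constructor
    intro p hp0 hp
    obtain ⟨P, hP, hPp⟩ := Ideal.exists_isPrime_liesOver_of_faithfullyFlat (B := B) p
    have hP0 : P ≠ ⊥ := by
      rintro rfl
      apply hp0
      rw [hPp.over]
      ext x
      simp
    have hPmax : P.IsMaximal := Ring.DimensionLEOne.maximalOfPrime hP0 hP
    rw [hPp.over]
    exact Ideal.isMaximal_comap_of_isIntegral_of_isMaximal P
  refine @IsDedekindDomain.mk A _ hdom ?_
  rw [isDedekindRing_iff A (FractionRing A)]
  refine ⟨hnoeth, hdim, ?_⟩
  intro x hx
  obtain ⟨a, s, hs, rfl⟩ := IsFractionRing.div_surjective (A := A) x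
  have hs0 : s ≠ 0 := nonZeroDivisors.ne_zero hs
  let L := FractionRing B
  let g : FractionRing A →+* L := IsLocalization.lift (M := nonZeroDivisors A)
    (g := (algebraMap B L).comp (algebraMap A B)) (by
      intro y
      apply IsUnit.mk0
      simp only [RingHom.coe_comp, Function.comp_apply, ne_eq]
      rw [(IsFractionRing.injective B L).eq_iff' (map_zero _), hinj.eq_iff' (map_zero _)]
      exact nonZeroDivisors.ne_zero y.2)
  have hg : ∀ y : A, g (algebraMap A (FractionRing A) y) = algebraMap B L (algebraMap A B y) :=
    fun y => IsLocalization.lift_eq _ y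
  have hgx : IsIntegral B (g (algebraMap A (FractionRing A) a / algebraMap A (FractionRing A) s)) :=
    IsIntegral.map_of_comp_eq (algebraMap A B) g (by ext y; simp [hg]) hx
  obtain ⟨b, hb⟩ := (isIntegrallyClosed_iff L).mp inferInstance hgx
  have hsK : algebraMap A (FractionRing A) s ≠ 0 := by
    rw [Ne, (IsFractionRing.injective A (FractionRing A)).eq_iff' (map_zero _)]
    exact hs0
  have hbs : b * algebraMap A B s = algebraMap A B a := by
    apply IsFractionRing.injective B L
    rw [map_mul, hb, ← hg, ← hg, ← map_mul, div_mul_cancel₀ _ hsK]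
  have hmem : a ∈ (Ideal.map (algebraMap A B) (Ideal.span {s})).comap (algebraMap A B) := by
    rw [Ideal.mem_comap, ← hbs, Ideal.map_span, Set.image_singleton]
    exact Ideal.mul_mem_left _ _ (Ideal.subset_span rfl)
  rw [Ideal.comap_map_eq_self_of_faithfullyFlat, Ideal.mem_span_singleton] at hmem
  obtain ⟨a', rfl⟩ := hmem
  refine ⟨a', ?_⟩
  rw [map_mul, mul_div_cancel_left₀ _ hsK]

end Groth.Agent.S15590
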