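import Groth.Statements.S15592
import Mathlib
import Groth.Agent.Lib.Helper71.FixPtGa
import Groth.Agent.Lib.Helper75.FixPtT2
import Groth.Agent.Lib.Helper25.FixPtT3
import Groth.Agent.Lib.Helper35.FixPtT4

set_option autoImplicit false
universe u
open CategoryTheory MonoidalCategory CartesianMonoidalCategory MonObj GrpObj AlgebraicGeometry
open AlgGrp

namespace Groth.Agent.S15592

/-- The case of a one-dimensional group. Let k be a field, X a proper k-scheme having a k-rational
point, and G a k-group scheme isomorphic, as a k-group scheme, to the additive group or to the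
multiplicative group over k. Then every action of G on X fixes some k-rational point of X: there is
a k-point x with g · x = x for all points g of G with values in any k-scheme. (This is the
one-dimensional case of the fixed point property of k-split solvable groups acting on proper
k-schemes with a rational point, to which the general case reduces by induction along a composition
series.) -/
theorem result (k : Type u) [Field k]
    (G X : Over (Spec (CommRingCat.of k))) [GrpObj G]
    (hG : Nonempty (Grp.mk G ≅ Grp.mk (Red.Ga (Spec (CommRingCat.of k)))) ∨ Nonempty (Grp.mk G ≅ Grp.mk (Red.Gm (Spec (CommRingCat.of k)))))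
    [IsProper X.hom] (x₀ : 𝟙_ (Over (Spec (CommRingCat.of k))) ⟶ X) (a : AlgGrp.Action G X) :
    ∃ x : 𝟙_ (Over (Spec (CommRingCat.of k))) ⟶ X, a.IsFixedPt x := by
  open Groth.Agent.Lib.Helper71.FixPt Groth.Agent.Lib.Lead.GaTorsor Groth.Agent.Lib.Lead.GmTorsor in
  rcases hG with ⟨⟨e⟩⟩ | ⟨⟨e⟩⟩
  · refine Groth.Agent.Lib.Helper25.FixPtT3.fixed_of_iso e (fun a' => ?_) a
    obtain ⟨c, hc⟩ := Groth.Agent.Lib.Helper75.FixPtT2.exists_extension k X (LL k)
      (smul a' (pt (CommRingCat.of k) (𝟙 _) (invX k)) (toUnit _ ≫ x₀))
    refine ⟨origin ≫ c, Groth.Agent.Lib.Helper35.FixPtT4.isFixedPt_of_affine k a' _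
      (fun B _ _ g => ?_)⟩
    exact fixed_affine_Ga a' x₀ c hc g
  · refine Groth.Agent.Lib.Helper25.FixPtT3.fixed_of_iso e (fun a' => ?_) a
    obtain ⟨c, hc⟩ := Groth.Agent.Lib.Helper75.FixPtT2.exists_extension k X (LL k)
      (smul a' (ptm (CommRingCat.of k) (𝟙 _) (unitX k)) (toUnit _ ≫ x₀))
    refine ⟨origin ≫ c, Groth.Agent.Lib.Helper35.FixPtT4.isFixedPt_of_affine k a' _
      (fun B _ _ g => ?_)⟩
    exact fixed_affine_Gm a' x₀ c hc g

end Groth.Agent.S15592
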