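import Groth.Statements.S15594
import Mathlib.Tactic
import Mathlib.LinearAlgebra.TensorProduct.Basis
import Mathlib.LinearAlgebra.Basis.VectorSpace

set_option autoImplicit false
universe u
open TensorProduct
open AGF

namespace Groth.Agent.S15594

/-- Affine form. Let k ⊆ K be a field extension, A a commutative k-algebra and S a set of k-algebra
homomorphisms A → k (rational points of Spec A). The ideal ⋂_{σ ∈ S} ker σ cuts out the Zariski
closure of S with its reduced structure, and its extension to K ⊗_k A equals ⋂_{σ ∈ S} ker σ_K,
where σ_K : K ⊗_k A → K is the K-algebra map induced by σ. In words: the closure of a set of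
rational points is formed compatibly with extension of the ground field. (The published statement is
for schemes locally of finite type; this affine row assumes no finiteness, which the argument does
not use.) -/
theorem result (k K A : Type u) [Field k] [Field K] [Algebra k K]
    [CommRing A] [Algebra k A] (S : Set (A →ₐ[k] k)) :
    Ideal.map (Algebra.TensorProduct.includeRight : A →ₐ[k] K ⊗[k] A) (⨅ σ ∈ S, RingHom.ker σ) =
      ⨅ σ ∈ S, RingHom.ker ((Algebra.TensorProduct.rid k K K).toAlgHom.comp
        (Algebra.TensorProduct.map (AlgHom.id K K) σ)) := by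
  classical
  apply le_antisymm
  · rw [Ideal.map_le_iff_le_comap]
    intro a ha
    simp only [Ideal.mem_iInf, RingHom.mem_ker] at ha
    simp only [Ideal.mem_comap, Ideal.mem_iInf, RingHom.mem_ker]
    intro σ hσ
    simp [ha σ hσ]
  · intro x hx
    simp only [Ideal.mem_iInf, RingHom.mem_ker] at hx
    let ℬ := Module.Basis.ofVectorSpace k K
    obtain ⟨c, rfl⟩ := TensorProduct.eq_repr_basis_left ℬ x
    have hc : ∀ σ ∈ S, ∀ i, σ (c i) = 0 := by
      intro σ hσ
      have h := hx σ hσ
      rw [Finsupp.sum, map_sum] at h
      have h' : ∑ i ∈ c.support, σ (c i) • ℬ i = 0 := by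
        rw [← h]
        refine Finset.sum_congr rfl fun i _ => ?_
        simp
      intro i
      by_cases hi : i ∈ c.support
      · exact (linearIndependent_iff'.mp ℬ.linearIndependent) c.support (fun i => σ (c i)) h' i hi
      · rw [Finsupp.notMem_support_iff.mp hi, map_zero]
    rw [Finsupp.sum]
    refine Ideal.sum_mem _ fun i _ => ?_
    have : ℬ i ⊗ₜ[k] c i = (ℬ i ⊗ₜ[k] (1 : A)) *
        (Algebra.TensorProduct.includeRight : A →ₐ[k] K ⊗[k] A) (c i) := by
      simp
    rw [this]
    refine Ideal.mul_mem_left _ _ (Ideal.mem_map_of_mem _ ?_)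
    simp only [Ideal.mem_iInf, RingHom.mem_ker]
    exact fun σ hσ => hc σ hσ i

end Groth.Agent.S15594
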