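import Groth.Statements.S15596
import Mathlib

set_option autoImplicit false
universe u
open CategoryTheory MonoidalCategory CartesianMonoidalCategory MonObj GrpObj AlgebraicGeometry
open AlgGrp

namespace Groth.Agent.S15596

/-- Let k be an algebraically closed field, H a smooth k-group scheme of finite type, and U a dense open
subset of H. Then every k-rational point h of H is of the form u₂ · u₁⁻¹ for k-rational points u₁,
u₂ of H whose underlying points lie in U. -/
theorem result (k : Type u) [Field k] [IsAlgClosed k]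
    (H : Over (Spec (CommRingCat.of k))) [GrpObj H] [Smooth H.hom] [QuasiCompact H.hom]
    (U : H.left.Opens) (hU : Dense (U : Set ↥H.left)) (h : 𝟙_ (Over (Spec (CommRingCat.of k))) ⟶ H) :
    ∃ u₁ u₂ : 𝟙_ (Over (Spec (CommRingCat.of k))) ⟶ H,
      u₁.left.base (IsLocalRing.closedPoint k) ∈ U ∧ u₂.left.base (IsLocalRing.closedPoint k) ∈ U ∧
        h = u₂ * u₁⁻¹ := by
  classical
  let E := 𝟙_ (Over (Spec (CommRingCat.of k)))
  let pt : ↥E.left := (IsLocalRing.closedPoint k : PrimeSpectrum k)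
  haveI : LocallyOfFiniteType H.hom := inferInstance
  haveI : JacobsonSpace ↥H.left := LocallyOfFiniteType.jacobsonSpace H.hom
  -- left translation by h
  let L : (E ⟶ H) → (H ⟶ H) := fun a => (toUnit H ≫ a) * 𝟙 H
  have hL : ∀ (a : E ⟶ H) {T : Over (Spec (CommRingCat.of k))} (α : T ⟶ H),
      α ≫ L a = (toUnit T ≫ a) * α := by
    intro a T α
    show α ≫ ((toUnit H ≫ a) * 𝟙 H) = _
    rw [MonObj.comp_mul, Category.comp_id, ← Category.assoc]
    congr 2
    exact toUnit_unique _ _
  have hLL : ∀ a : E ⟶ H, L a ≫ L a⁻¹ = 𝟙 H := by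
    intro a
    rw [hL]
    show (toUnit H ≫ a⁻¹) * ((toUnit H ≫ a) * 𝟙 H) = 𝟙 H
    rw [GrpObj.comp_inv]
    group
  have hLL' : L h⁻¹ ≫ L h = 𝟙 H := by
    have := hLL h⁻¹
    rwa [_root_.inv_inv] at this
  let e : H.left ≅ H.left := ⟨(L h).left, (L h⁻¹).left, by rw [← Over.comp_left, hLL h]; rfl,
    by rw [← Over.comp_left, hLL']; rfl⟩
  let φ : ↥H.left ≃ₜ ↥H.left := Scheme.homeoOfIso e
  -- a closed point in the intersection of U and its translate
  let V : Set ↥H.left := (U : Set ↥H.left) ∩ φ ⁻¹' (U : Set ↥H.left)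
  have hVopen : IsOpen V := U.2.inter (U.2.preimage φ.continuous)
  have hVne : V.Nonempty := by
    have hd : Dense (φ ⁻¹' (U : Set ↥H.left)) := by
      have := hU.preimage φ.isOpenMap
      exact this
    obtain ⟨x, hx1, hx2⟩ := hd.inter_open_nonempty _ U.2 ⟨_, (hU.nonempty_iff.mpr ⟨η[H].left pt⟩).some_mem⟩
    exact ⟨x, hx1, hx2⟩
  obtain ⟨x, ⟨hxU, hxU'⟩, hx⟩ := nonempty_inter_closedPoints hVne hVopen.isLocallyClosed
  have hx' : IsClosed {x} := hx
  let u₁ : E ⟶ H := Over.homMk (pointOfClosedPoint H.hom x hx') (pointOfClosedPoint_comp H.hom x hx')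
  have hu₁ : u₁.left pt = x := pointOfClosedPoint_apply H.hom x hx' pt
  refine ⟨u₁, h * u₁, ?_, ?_, by group⟩
  · exact hu₁ ▸ hxU
  · have e1 : u₁ ≫ L h = h * u₁ := by
      rw [hL, show toUnit E = 𝟙 E from toUnit_unique _ _, Category.id_comp]
    have e2 := congrArg (fun ψ => ψ.left pt) e1
    simp only [Over.comp_left, Scheme.Hom.comp_apply] at e2
    show (h * u₁).left pt ∈ U
    rw [← e2, hu₁]
    exact hxU'

end Groth.Agent.S15596
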