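import Groth.Statements.S15598
import Groth.Agent.Lib.Helper72.OrbitClosed
import Groth.Agent.Lib.Helper72.StabPullback
import Groth.Agent.Lib.Helper30.SmoothReduced
import Groth.Agent.Lib.Helper55.GR.Scheme
import Groth.Agent.Lib.Helper19.Grp.OrbitHomogeneity
import Groth.Agent.Lib.Helper19.Grp.FlatBaseChangePt

set_option autoImplicit false
universe u
open CategoryTheory MonoidalCategory CartesianMonoidalCategory MonObj GrpObj AlgebraicGeometry
open AlgGrp

namespace Groth.Agent.S15598

open Groth.Agent.Lib.Helper72 Groth.Agent.Lib.Helper72.OrbitDim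
  Groth.Agent.Lib.Helper72.OrbitClosed Groth.Agent.Lib.Helper72.OrbitAct
  Groth.Agent.Lib.Helper72.GrpTrans Groth.Agent.Lib.Helper72.GrpConn
  Groth.Agent.Lib.Helper72.GrpGen Groth.Agent.Lib.Helper72.GrpComp

/-- Connected components of a Noetherian space are open. -/
lemma isOpen_connectedComponent_of_noetherianSpace {Y : Type*} [TopologicalSpace Y]
    [TopologicalSpace.NoetherianSpace Y] (y : Y) : IsOpen (connectedComponent y) := by
  have hfin := TopologicalSpace.NoetherianSpace.finite_irreducibleComponents (α := Y)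
  have hcompl : (connectedComponent y)ᶜ =
      ⋃ Z ∈ {Z ∈ irreducibleComponents Y | Disjoint Z (connectedComponent y)}, Z := by
    ext t
    simp only [Set.mem_compl_iff, Set.mem_iUnion, Set.mem_setOf_eq, exists_prop]
    constructor
    · intro ht
      refine ⟨irreducibleComponent t, ⟨irreducibleComponent_mem_irreducibleComponents t, ?_⟩,
        mem_irreducibleComponent⟩
      rw [Set.disjoint_iff_inter_eq_empty, ← Set.not_nonempty_iff_eq_empty]
      rintro ⟨w, hw1, hw2⟩
      apply ht
      have hconn : IsPreconnected (irreducibleComponent t) :=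
        isIrreducible_irreducibleComponent.isPreirreducible.isPreconnected
      have hsub : irreducibleComponent t ⊆ connectedComponent w :=
        hconn.subset_connectedComponent hw1
      rw [connectedComponent_eq hw2]
      exact hsub mem_irreducibleComponent
    · rintro ⟨Z, ⟨-, hZ⟩, htZ⟩ ht
      exact Set.disjoint_left.mp hZ htZ ht
  rw [← isClosed_compl_iff, hcompl]
  refine Set.Finite.isClosed_biUnion (hfin.subset (fun Z hZ => hZ.1)) fun Z hZ => ?_
  exact isClosed_of_mem_irreducibleComponents Z hZ.1

/-- Let k be an algebraically closed field, G a k-group scheme of finite type, and X a smooth connected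
k-scheme with an action of G. Suppose that for some k-point x₀ of X the orbit map g ↦ g · x₀ from G
to X is surjective, and that the stabilizer of x₀, a subgroup scheme H ⟶ G whose points are exactly
the points g of G with g · x₀ = x₀, is connected. Then G is connected. (Stated over an algebraically
closed field, to which the general case reduces since a k-group scheme of finite type is connected
exactly when it is geometrically connected.) -/
theorem result (k : Type u) [Field k] [IsAlgClosed k]
    (G X : Over (Spec (CommRingCat.of k))) [GrpObj G] [LocallyOfFiniteType G.hom] [QuasiCompact G.hom]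
    [Smooth X.hom] [ConnectedSpace ↥X.left] (a : AlgGrp.Action G X) (x₀ : 𝟙_ (Over (Spec (CommRingCat.of k))) ⟶ X)
    (hsurj : Surjective (a.orbitMap x₀).left)
    (H : Over (Spec (CommRingCat.of k))) [GrpObj H] (i : H ⟶ G) [IsMonHom i] [Mono i]
    (hH : ∀ (T : Over (Spec (CommRingCat.of k))) (g : T ⟶ G), (∃ h : T ⟶ H, h ≫ i = g) ↔ g ≫ a.orbitMap x₀ = toUnit T ≫ x₀)
    [ConnectedSpace ↥H.left] : ConnectedSpace ↥G.left := by
  classical
  have hXred : AlgebraicGeometry.IsReduced X.left :=
    Groth.Agent.Lib.Helper30.SmoothReduced.isReduced_of_smooth_scheme X.hom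
  have hlfpX : LocallyOfFinitePresentation X.hom := inferInstance
  have hlftX : LocallyOfFiniteType X.hom := inferInstance
  have hNX : IsLocallyNoetherian X.left := LocallyOfFiniteType.isLocallyNoetherian X.hom
  have hJX : JacobsonSpace X.left := LocallyOfFiniteType.jacobsonSpace X.hom
  have hJG : JacobsonSpace G.left := LocallyOfFiniteType.jacobsonSpace G.hom
  have hNG := noetherianSpace_of_ft G.hom
  have hw : (a.orbitMap x₀).left ≫ X.hom = G.hom := Over.w _
  -- the orbit map is flat, hence open
  have hlft : LocallyOfFiniteType (a.orbitMap x₀).left := by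
    have : LocallyOfFiniteType ((a.orbitMap x₀).left ≫ X.hom) := by rw [hw]; infer_instance
    exact locallyOfFiniteType_of_comp _ X.hom
  have hqc : QuasiCompact (a.orbitMap x₀).left :=
    ⟨fun U _ _ => TopologicalSpace.NoetherianSpace.isCompact _⟩
  obtain ⟨U, hUd, hUf, -⟩ :=
    Groth.Agent.Lib.Helper55.GR.generic_flatness_reduced (a.orbitMap x₀).left
  have hneX : Nonempty ↥X.left := ⟨x₀.left (IsLocalRing.closedPoint k)⟩
  obtain ⟨o, ho⟩ := hUd.nonempty
  obtain ⟨g, rfl⟩ := (a.orbitMap x₀).left.surjective o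
  haveI : Flat (((a.orbitMap x₀).left ⁻¹ᵁ U).ι ≫ (a.orbitMap x₀).left) := by
    rw [← morphismRestrict_ι]
    infer_instance
  have hflat : Flat (a.orbitMap x₀).left :=
    Groth.Agent.Lib.Helper19.flat_orbitMap_of_exists_flat_stalkMap a x₀
      ⟨g, Groth.Agent.Lib.Helper19.flat_stalkMap_of_ι_comp (a.orbitMap x₀).left
        ((a.orbitMap x₀).left ⁻¹ᵁ U) g ho⟩
  have hfp : LocallyOfFinitePresentation (a.orbitMap x₀).left :=
    LocallyOfFinitePresentation.iff_locallyOfFiniteType.mpr hlft
  have hopen : IsOpenMap (a.orbitMap x₀).left := (a.orbitMap x₀).left.isOpenMap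
  -- the identity component
  set C : Set G.left := connectedComponent (ePt G) with hC
  have hCo : IsOpen C := isOpen_connectedComponent_of_noetherianSpace _
  have hCc : IsClosed C := isClosed_connectedComponent
  have hV : IsOpen ((a.orbitMap x₀).left '' C) := hopen _ hCo
  have hV' : IsOpen ((a.orbitMap x₀).left '' Cᶜ) := hopen _ hCc.isOpen_compl
  -- the two images are disjoint
  have hdisj : Disjoint ((a.orbitMap x₀).left '' C) ((a.orbitMap x₀).left '' Cᶜ) := by
    rw [Set.disjoint_iff_inter_eq_empty, ← Set.not_nonempty_iff_eq_empty]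
    intro hne
    obtain ⟨y, ⟨hyV, hyV'⟩, hyc⟩ := nonempty_inter_closedPoints hne (hV.inter hV').isLocallyClosed
    have hyc' : IsClosed ({y} : Set X.left) := hyc
    have hfib : IsClosed ((a.orbitMap x₀).left ⁻¹' {y}) :=
      hyc'.preimage (a.orbitMap x₀).left.continuous
    obtain ⟨g₀, ⟨hg₀C, hg₀y⟩, hg₀c⟩ := nonempty_inter_closedPoints
      (Z := C ∩ (a.orbitMap x₀).left ⁻¹' {y})
      (by obtain ⟨t, ht, hty⟩ := hyV; exact ⟨t, ht, hty⟩)
      (hCo.isLocallyClosed.inter hfib.isLocallyClosed)
    obtain ⟨g₁, ⟨hg₁C, hg₁y⟩, hg₁c⟩ := nonempty_inter_closedPoints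
      (Z := Cᶜ ∩ (a.orbitMap x₀).left ⁻¹' {y})
      (by obtain ⟨t, ht, hty⟩ := hyV'; exact ⟨t, ht, hty⟩)
      (hCc.isOpen_compl.isLocallyClosed.inter hfib.isLocallyClosed)
    obtain ⟨z₀, rfl⟩ := exists_ptVal_eq G g₀ hg₀c
    obtain ⟨z₁, rfl⟩ := exists_ptVal_eq G g₁ hg₁c
    -- the two rational points have the same image
    have heq : z₀ ≫ a.orbitMap x₀ = z₁ ≫ a.orbitMap x₀ := by
      have h0 : (z₀ ≫ a.orbitMap x₀).left (IsLocalRing.closedPoint k) =
          (z₁ ≫ a.orbitMap x₀).left (IsLocalRing.closedPoint k) :=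
        (hg₀y : (a.orbitMap x₀).left (ptVal G z₀) = y).trans
          (hg₁y : (a.orbitMap x₀).left (ptVal G z₁) = y).symm
      have hinj := (pointEquivClosedPoint X.hom).injective
      have h1 : (⟨(z₀ ≫ a.orbitMap x₀).left, Over.w _⟩ :
          {p : Spec (CommRingCat.of k) ⟶ X.left // p ≫ X.hom = 𝟙 _}) =
          ⟨(z₁ ≫ a.orbitMap x₀).left, Over.w _⟩ := by
        apply hinj
        apply Subtype.ext
        exact h0
      ext1
      exact congrArg Subtype.val h1
    have hfix : (z₀⁻¹ * z₁) ≫ a.orbitMap x₀ = toUnit _ ≫ x₀ := by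
      rw [StabPullback.mul_comp_orbitMap, ← heq, ← StabPullback.mul_comp_orbitMap,
        inv_mul_cancel, StabPullback.one_comp_orbitMap]
    obtain ⟨h', hh'⟩ := (hH _ (z₀⁻¹ * z₁)).mpr hfix
    -- the point `z₀⁻¹ z₁` lies in the identity component
    have hhC : ptVal G (z₀⁻¹ * z₁) ∈ C := by
      have hconn : _root_.IsConnected (Set.range i.left) := isConnected_range i.left.continuous
      have he : ePt G ∈ Set.range i.left := by
        refine ⟨η[H].left (IsLocalRing.closedPoint k), ?_⟩
        exact app_eq (congrArg CommaMorphism.left (IsMonHom.one_hom (f := i)) :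
          η[H].left ≫ i.left = η[G].left) _
      have hsub : Set.range i.left ⊆ C := hconn.isPreconnected.subset_connectedComponent he
      apply hsub
      refine ⟨h'.left (IsLocalRing.closedPoint k), ?_⟩
      exact app_eq (congrArg CommaMorphism.left hh' : h'.left ≫ i.left = (z₀⁻¹ * z₁).left) _
    -- translate
    have hz₁ : ptVal G z₁ = (rtr (z₀⁻¹ * z₁)).left (ptVal G z₀) := by
      have h1 : z₀ ≫ rtr (z₀⁻¹ * z₁) = z₁ := by
        rw [point_rtr, mul_inv_cancel_left]
      exact (app_eq (congrArg CommaMorphism.left h1 :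
        z₀.left ≫ (rtr (z₀⁻¹ * z₁)).left = z₁.left) _).symm
    have himg : (rtr (z₀⁻¹ * z₁)).left '' C ⊆ C := by
      have hconn : _root_.IsPreconnected ((rtr (z₀⁻¹ * z₁)).left '' C) :=
        isPreconnected_connectedComponent.image _ (rtr (z₀⁻¹ * z₁)).left.continuous.continuousOn
      have hmem : ptVal G (z₀⁻¹ * z₁) ∈ (rtr (z₀⁻¹ * z₁)).left '' C :=
        ⟨ePt G, mem_connectedComponent, rtr_ePt G _⟩
      have := hconn.subset_connectedComponent hmem
      rwa [← connectedComponent_eq hhC] at this
    apply hg₁C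
    rw [hz₁]
    exact himg ⟨_, hg₀C, rfl⟩
  -- conclude by connectedness of `X`
  have hcover : (a.orbitMap x₀).left '' C ∪ (a.orbitMap x₀).left '' Cᶜ = Set.univ := by
    rw [← Set.image_union, Set.union_compl_self, Set.image_univ]
    exact Set.range_eq_univ.mpr (a.orbitMap x₀).left.surjective
  have hclopen : IsClopen ((a.orbitMap x₀).left '' C) := by
    refine ⟨?_, hV⟩
    have : ((a.orbitMap x₀).left '' C)ᶜ = (a.orbitMap x₀).left '' Cᶜ := by
      ext t
      constructor
      · intro ht
        have : t ∈ (a.orbitMap x₀).left '' C ∪ (a.orbitMap x₀).left '' Cᶜ := hcover ▸ trivial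
        exact this.resolve_left ht
      · intro ht ht'
        exact Set.disjoint_left.mp hdisj ht' ht
    rw [← isOpen_compl_iff, this]
    exact hV'
  have hne : ((a.orbitMap x₀).left '' C).Nonempty := ⟨_, ePt G, mem_connectedComponent, rfl⟩
  have huniv := hclopen.eq_univ hne
  have hCuniv : C = Set.univ := by
    rw [Set.eq_univ_iff_forall]
    intro t
    by_contra ht
    have h1 : (a.orbitMap x₀).left t ∈ (a.orbitMap x₀).left '' Cᶜ := ⟨t, ht, rfl⟩
    have h2 : (a.orbitMap x₀).left t ∈ (a.orbitMap x₀).left '' C := huniv ▸ trivial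
    exact Set.disjoint_left.mp hdisj h2 h1
  exact connectedSpace_iff_connectedComponent.mpr ⟨ePt G, hCuniv⟩

end Groth.Agent.S15598
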