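import Groth.Statements.S1560
import Mathlib
import Groth.Agent.Lib.Helper51.GeomRedAt

set_option autoImplicit false
universe u
open CategoryTheory CategoryTheory.Limits AlgebraicGeometry
open Variety

namespace Groth.Agent.S1560

/-- Let X be a scheme over a perfect field k and x a point whose local ring is reduced. Then X is
geometrically reduced at x. -/
theorem result (k : Type u) [Field k] (X : Scheme.{u}) [X.Over (Spec (CommRingCat.of k))] [PerfectField k] (x : X)
    [IsReduced (X.presheaf.stalk x)] : Curv2.IsGeomReducedAt k X x := by
  letI := Curv2.stalkAlgebra k X x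
  have hψ : Spec.map (CommRingCat.ofHom (algebraMap k (X.presheaf.stalk x))) =
      X.fromSpecStalk x ≫ (X ↘ Spec (CommRingCat.of k)) :=
    Groth.Agent.Lib.Helper51.specMap_stalkMapOf (X ↘ Spec (CommRingCat.of k)) x
  haveI : Algebra.IsGeometricallyReduced k (X.presheaf.stalk x) :=
    Groth.Agent.Lib.Helper51.isGeometricallyReduced_of_perfectField_of_isReduced
  exact (Groth.Agent.Lib.Helper51.isGeomReducedAt_iff (X ↘ Spec (CommRingCat.of k)) x hψ).mpr
    inferInstance

end Groth.Agent.S1560
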