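import Groth.Statements.S15605
import Mathlib.Tactic
import Mathlib.LinearAlgebra.TensorProduct.Basis
import Mathlib.LinearAlgebra.Basis.VectorSpace
import Mathlib.LinearAlgebra.TensorProduct.RightExactness

set_option autoImplicit false
universe u
open TensorProduct
open AGF

namespace Groth.Agent.S15605

open TensorProduct in
theorem inj (k B B' : Type u) [Field k] [CommRing B] [Algebra k B] [CommRing B'] [Algebra k B']
    (T : Set (B →ₐ[k] k)) (T' : Set (B' →ₐ[k] k))
    (hT : ∀ b : B, (∀ τ ∈ T, τ b = 0) → b = 0) (hT' : ∀ b : B', (∀ τ ∈ T', τ b = 0) → b = 0)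
    (y : B ⊗[k] B')
    (hy : ∀ τ ∈ T, ∀ τ' ∈ T', (Algebra.TensorProduct.lmul' (S := k) k).comp
      (Algebra.TensorProduct.map τ τ') y = 0) : y = 0 := by
  classical
  let ℬ := Module.Basis.ofVectorSpace k B
  obtain ⟨c, rfl⟩ := TensorProduct.eq_repr_basis_left ℬ y
  have hc : ∀ i, c i = 0 := by
    intro i
    apply hT'
    intro τ' hτ'
    have hb : (∑ j ∈ c.support, τ' (c j) • ℬ j) = 0 := by
      apply hT
      intro τ hτ
      have h := hy τ hτ τ' hτ'
      rw [Finsupp.sum, map_sum] at h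
      rw [map_sum, ← h]
      refine Finset.sum_congr rfl fun j _ => ?_
      simp [mul_comm]
    by_cases hi : i ∈ c.support
    · exact (linearIndependent_iff'.mp ℬ.linearIndependent) c.support (fun j => τ' (c j)) hb i hi
    · rw [Finsupp.notMem_support_iff.mp hi, map_zero]
  have : c = 0 := Finsupp.ext hc
  rw [this]
  simp


/-- Affine form. Let k be a field, A and A' finitely generated commutative k-algebras and S, S' sets of
k-algebra homomorphisms A → k, A' → k. The closure of a set of rational points of Spec A is cut out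
by the intersection of their kernels. Compatibility of these closures with products: in A ⊗_k A',
the intersection over (σ, σ') ∈ S × S' of the kernels of σ ⊗ σ' : A ⊗_k A' → k equals the ideal
generated by the images of ⋂_{σ} ker σ and of ⋂_{σ'} ker σ'. -/
theorem result (k A A' : Type u) [Field k] [CommRing A] [Algebra k A]
    [Algebra.FiniteType k A] [CommRing A'] [Algebra k A'] [Algebra.FiniteType k A']
    (S : Set (A →ₐ[k] k)) (S' : Set (A' →ₐ[k] k)) :
    (⨅ σ ∈ S, ⨅ σ' ∈ S', RingHom.ker ((Algebra.TensorProduct.lmul' (S := k) k).comp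
        (Algebra.TensorProduct.map σ σ'))) =
      Ideal.map (Algebra.TensorProduct.includeLeft : A →ₐ[k] A ⊗[k] A') (⨅ σ ∈ S, RingHom.ker σ) ⊔
        Ideal.map (Algebra.TensorProduct.includeRight : A' →ₐ[k] A ⊗[k] A') (⨅ σ' ∈ S', RingHom.ker σ') := by
  set I : Ideal A := ⨅ σ ∈ S, RingHom.ker σ with hI
  set I' : Ideal A' := ⨅ σ' ∈ S', RingHom.ker σ' with hI'
  let f : A →ₐ[k] A ⧸ I := Ideal.Quotient.mkₐ k I
  let g : A' →ₐ[k] A' ⧸ I' := Ideal.Quotient.mkₐ k I'
  have hf : Function.Surjective f := Ideal.Quotient.mkₐ_surjective k I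
  have hg : Function.Surjective g := Ideal.Quotient.mkₐ_surjective k I'
  have hker := Algebra.TensorProduct.map_ker f g hf hg
  rw [show RingHom.ker f = I from Ideal.Quotient.mkₐ_ker k I,
    show RingHom.ker g = I' from Ideal.Quotient.mkₐ_ker k I'] at hker
  rw [← hker]
  have hσI : ∀ σ ∈ S, ∀ a ∈ I, σ a = 0 := by
    intro σ hσ a ha
    rw [hI] at ha
    simp only [Ideal.mem_iInf, RingHom.mem_ker] at ha
    exact ha σ hσ
  have hσI' : ∀ σ ∈ S', ∀ a ∈ I', σ a = 0 := by
    intro σ hσ a ha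
    rw [hI'] at ha
    simp only [Ideal.mem_iInf, RingHom.mem_ker] at ha
    exact ha σ hσ
  let T : Set ((A ⧸ I) →ₐ[k] k) := {τ | τ.comp f ∈ S}
  let T' : Set ((A' ⧸ I') →ₐ[k] k) := {τ | τ.comp g ∈ S'}
  have hT : ∀ b : A ⧸ I, (∀ τ ∈ T, τ b = 0) → b = 0 := by
    intro b hb
    obtain ⟨a, rfl⟩ := hf b
    change Ideal.Quotient.mk I a = 0
    rw [Ideal.Quotient.eq_zero_iff_mem, hI]
    simp only [Ideal.mem_iInf, RingHom.mem_ker]
    intro σ hσ
    have hmem : Ideal.Quotient.liftₐ I σ (hσI σ hσ) ∈ T := by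
      change (Ideal.Quotient.liftₐ I σ (hσI σ hσ)).comp f ∈ S
      convert hσ
      ext a
      simp [f]
    simpa [f] using hb _ hmem
  have hT' : ∀ b : A' ⧸ I', (∀ τ ∈ T', τ b = 0) → b = 0 := by
    intro b hb
    obtain ⟨a, rfl⟩ := hg b
    change Ideal.Quotient.mk I' a = 0
    rw [Ideal.Quotient.eq_zero_iff_mem, hI']
    simp only [Ideal.mem_iInf, RingHom.mem_ker]
    intro σ hσ
    have hmem : Ideal.Quotient.liftₐ I' σ (hσI' σ hσ) ∈ T' := by
      change (Ideal.Quotient.liftₐ I' σ (hσI' σ hσ)).comp g ∈ S'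
      convert hσ
      ext a
      simp [g]
    simpa [g] using hb _ hmem
  ext x
  simp only [Ideal.mem_iInf, RingHom.mem_ker]
  constructor
  · intro hx
    apply inj k (A ⧸ I) (A' ⧸ I') T T' hT hT'
    intro τ hτ τ' hτ'
    have := hx (τ.comp f) hτ (τ'.comp g) hτ'
    rw [Algebra.TensorProduct.map_comp] at this
    exact this
  · intro hx σ hσ σ' hσ'
    have e1 : σ = (Ideal.Quotient.liftₐ I σ (hσI σ hσ)).comp f := by
      ext a; simp [f]
    have e2 : σ' = (Ideal.Quotient.liftₐ I' σ' (hσI' σ' hσ')).comp g := by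
      ext a; simp [g]
    rw [e1, e2, Algebra.TensorProduct.map_comp]
    simp only [AlgHom.coe_comp, Function.comp_apply]
    have hx' : (Algebra.TensorProduct.map f g) x = 0 := hx
    rw [hx', map_zero, map_zero]

end Groth.Agent.S15605
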