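import Groth.Statements.S1561
import Mathlib
import Groth.Agent.Lib.Helper51.SmoothStalk

set_option autoImplicit false
universe u
open CategoryTheory CategoryTheory.Limits AlgebraicGeometry
open Variety

namespace Groth.Agent.S1561

/-- Let X be reduced and locally of finite type over a perfect field k. Then a point lies in the smooth
locus of X → Spec k exactly when its local ring is regular, and this locus is dense in X. -/
theorem result (k : Type u) [Field k] (X : Scheme.{u}) [X.Over (Spec (CommRingCat.of k))] [PerfectField k] [IsReduced X]
    [LocallyOfFinitePresentation (X ↘ (Spec (CommRingCat.of k)))] :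
    (∀ x : X, x ∈ (X ↘ (Spec (CommRingCat.of k))).smoothLocus ↔ IsRegularLocalRing (X.presheaf.stalk x)) ∧
      Dense ((X ↘ (Spec (CommRingCat.of k))).smoothLocus : Set X) := by
  exact ⟨fun x => Groth.Agent.Lib.Helper51.mem_smoothLocus_iff_isRegularLocalRing_stalk_of_perfectField
    (X ↘ (Spec (CommRingCat.of k))) x,
    (X ↘ (Spec (CommRingCat.of k))).dense_smoothLocus_of_perfectField⟩

end Groth.Agent.S1561
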