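import Groth.Statements.S15634
import Groth.Agent.Lib.Helper35.SchFin0

set_option autoImplicit false
universe u
open SchFin SchFin.RSpace

namespace Groth.Agent.S15634

open Groth.Agent.Lib.Helper35 TensorProduct

lemma tmul_one_eq_one_tmul (X : RSpace.{u}) (hX : X.IsSchematic) {x y : X.pt} (h : x ≤ y) :
    letI : Algebra (X.ring x) (X.ring y) := (X.res h).toAlgebra
    ∀ a : X.ring y, a ⊗ₜ[X.ring x] (1 : X.ring y) = (1 : X.ring y) ⊗ₜ[X.ring x] a := by
  letI : Algebra (X.ring x) (X.ring y) := (X.res h).toAlgebra
  obtain ⟨E, hE⟩ := sch0_ringEquiv X hX h h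
  intro a
  apply E.injective
  rw [hE, hE, map_one, mul_one, one_mul]

open SchFin in
/-- In a schematic finite space the restriction maps of rings along x ≤ y are epimorphisms of rings: two
ring maps out of the ring of y into a commutative ring which agree after composition with the
restriction map from the ring of x are equal. (The published statement also asserts flatness of the
restriction maps, which here is part of the standing finite-space condition, and a second clause for
affine spaces recalled without proof; only the epimorphism clause, the degree-zero case of the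
schematic condition, is stated.) -/
theorem result (X : RSpace.{u}) (hX : X.IsSchematic) {x y : X.pt} (h : x ≤ y)
    {T : Type u} [CommRing T] (g₁ g₂ : X.ring y →+* T) (hg : g₁.comp (X.res h) = g₂.comp (X.res h)) :
    g₁ = g₂ := by
  letI : Algebra (X.ring x) (X.ring y) := (X.res h).toAlgebra
  letI : Algebra (X.ring x) T := (g₁.comp (X.res h)).toAlgebra
  let G₁ : X.ring y →ₐ[X.ring x] T := { g₁ with commutes' := fun _ => rfl }
  let G₂ : X.ring y →ₐ[X.ring x] T :=
    { g₂ with commutes' := fun a => (RingHom.congr_fun hg a).symm }
  let P := Algebra.TensorProduct.productMap G₁ G₂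
  ext a
  have h1 : P (a ⊗ₜ 1) = g₁ a := by
    rw [Algebra.TensorProduct.productMap_apply_tmul]
    change g₁ a * g₂ 1 = g₁ a
    rw [map_one, mul_one]
  have h2 : P (1 ⊗ₜ a) = g₂ a := by
    rw [Algebra.TensorProduct.productMap_apply_tmul]
    change g₁ 1 * g₂ a = g₂ a
    rw [map_one, one_mul]
  rw [← h1, ← h2, tmul_one_eq_one_tmul X hX h a]

end Groth.Agent.S15634
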