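import Groth.Statements.S15612
import Groth.Agent.S15611

set_option autoImplicit false
universe u
open SchFin SchFin.RSpace SchFin.RSpace.Pair

namespace Groth.Agent.S15612

lemma aux (X : RSpace.{u}) (hX : X.IsSchematic) {x y : X.pt} (h : x ≤ y)
    (q : PrimeSpectrum (X.ring y)) :
    Function.Bijective (RSpace.Pair.κMap (X := X) ⟨x, PrimeSpectrum.comap (X.res h) q⟩ ⟨y, q⟩ h rfl) := by
  have hb := Groth.Agent.S15611.result X hX h q.asIdeal
  refine ⟨RingHom.injective _, ?_⟩
  intro z
  obtain ⟨w, rfl⟩ := IsLocalRing.residue_surjective z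
  obtain ⟨v, rfl⟩ := hb.2 w
  refine ⟨IsLocalRing.residue _ v, ?_⟩
  exact IsLocalRing.ResidueField.map_residue
    (Localization.localRingHom ((q.asIdeal).comap (X.res h)) q.asIdeal (X.res h) rfl) v

open SchFin in
/-- In a schematic finite space, for a pair (x, P) below a pair (y, Q) (x ≤ y and P the contraction of
the prime Q along the restriction map of rings) the induced map of residue fields from that of (x,
P) to that of (y, Q) is bijective. -/
theorem result (X : RSpace.{u}) (hX : X.IsSchematic) (a b : X.Pair)
    (h : a.1 ≤ b.1) (hp : PrimeSpectrum.comap (X.res h) b.2 = a.2) :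
    Function.Bijective (RSpace.Pair.κMap a b h hp) := by
  obtain ⟨x, p⟩ := a
  obtain ⟨y, q⟩ := b
  have h' : x ≤ y := h
  have hp' : PrimeSpectrum.comap (X.res h') q = p := hp
  subst hp'
  exact aux X hX h' q

end Groth.Agent.S15612
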