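import Groth.Statements.S15613
import Groth.Agent.Lib.Helper35.SchFin0
import Groth.Agent.Lib.Helper35.TensorPrime

set_option autoImplicit false
universe u
open SchFin SchFin.GeomPt

namespace Groth.Agent.S15613

open Groth.Agent.Lib.Helper35 TensorProduct

lemma tensor_subsingleton (X : RSpace.{u}) {Ω : Type u} [Field Ω]
    [IsAlgClosed Ω] (ξ : GeomPt X Ω) {x' : X.pt} (hx : ξ.base < x') :
    letI : Algebra (X.ring ξ.base) (X.ring x') := (X.res hx.le).toAlgebra
    letI : Algebra (X.ring ξ.base) Ω := ξ.toField.toAlgebra
    Subsingleton (X.ring x' ⊗[X.ring ξ.base] Ω) := by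
  letI iA : Algebra (X.ring ξ.base) (X.ring x') := (X.res hx.le).toAlgebra
  letI iB : Algebra (X.ring ξ.base) Ω := ξ.toField.toAlgebra
  have hBC := (ξ.isSchematic.2.2 0 PUnit.unit PUnit.unit le_rfl ξ.base x' hx.le).2
  unfold IsBCAlong at hBC
  let f := ξ.hom
  let φ := Coef.ofHom f ξ.base (f.wedge PUnit.unit ξ.base) (f.wedge_subset_pre PUnit.unit ξ.base)
  let φ' := Coef.ofHom f x' (f.wedge PUnit.unit x') (f.wedge_subset_pre PUnit.unit x')
  letI iM : Module (X.ring ξ.base) (H φ' (RSpace.point Ω).str 0) := Module.compHom _ (X.res hx.le)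
  haveI iT : IsScalarTower (X.ring ξ.base) (X.ring x') (H φ' (RSpace.point Ω).str 0) :=
    IsScalarTower.of_algebraMap_smul fun _ _ => rfl
  let e := hBC.equiv
  have hempty : IsEmpty (f.wedge PUnit.unit x') := by
    constructor
    rintro ⟨q, hq⟩
    exact not_le_of_gt hx hq.2
  haveI : IsEmpty (Chain (f.wedge PUnit.unit x') 0) := by
    constructor
    intro σ
    exact hempty.false (σ 0)
  haveI hsub : Subsingleton (H φ' (RSpace.point Ω).str 0) := by
    have : Subsingleton (cocycles φ' (RSpace.point Ω).str 0) := by
      constructor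
      intro a b
      apply Subtype.ext
      funext σ
      exact isEmptyElim σ
    exact (Submodule.mkQ_surjective _).subsingleton
  have hU : f.wedge PUnit.unit ξ.base ⊆ (RSpace.point Ω).up PUnit.unit := f.wedge_subset_up _ _
  have hmem : PUnit.unit ∈ f.wedge PUnit.unit ξ.base := ⟨le_rfl, le_rfl⟩
  let α : Ω →ₗ[X.ring ξ.base] H φ (RSpace.point Ω).str 0 :=
    { toFun := fun b => H.mk φ (RSpace.point Ω).str 0
        (cocycleOfSect φ ((RSpace.point Ω).resSect PUnit.unit _ hU b))
      map_add' := fun b b' => by
        have h1 : (RSpace.point Ω).resSect PUnit.unit _ hU (b + b') =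
            (RSpace.point Ω).resSect PUnit.unit _ hU b +
              (RSpace.point Ω).resSect PUnit.unit _ hU b' :=
          map_add ((RSpace.point Ω).resSect PUnit.unit _ hU) b b'
        rw [h1, cocycleOfSect_add, map_add]
      map_smul' := fun a b => by
        rw [RingHom.id_apply, ← map_smul]
        congr 1
        apply Subtype.ext
        funext σ
        change ξ.toField a * b = ξ.toField (X.res _ a) * b
        rw [X.res_self] }
  have hα : Function.Bijective α :=
    (H0_mk_bijective φ (RSpace.point Ω).str).comp ((cocycleOfSect_bijective φ).comp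
      (resSect_bijective (RSpace.point Ω) PUnit.unit _ hU hmem))
  let αe := LinearEquiv.ofBijective α hα
  let E := (LinearEquiv.lTensor (X.ring x') αe).toEquiv.trans e.toEquiv
  exact E.injective.subsingleton

open SchFin in
/-- For a geometric point of a schematic finite space with values in an algebraically closed field,
hitting the point x with ring map from the ring of x to the field, the kernel of that ring map does
not lift to any point strictly above x: no prime of the ring of such a point contracts to it along
the restriction map. -/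
theorem result (X : RSpace.{u}) (hX : X.IsSchematic) {Ω : Type u} [Field Ω]
    [IsAlgClosed Ω] (ξ : GeomPt X Ω) {x' : X.pt} (hx : ξ.base < x') (P : Ideal (X.ring x')) [P.IsPrime] :
    P.comap (X.res hx.le) ≠ RingHom.ker ξ.toField := by
  letI iA : Algebra (X.ring ξ.base) (X.ring x') := (X.res hx.le).toAlgebra
  letI iB : Algebra (X.ring ξ.base) Ω := ξ.toField.toAlgebra
  intro hP
  haveI hsub := tensor_subsingleton X ξ hx
  have hbot : (⊥ : Ideal Ω).IsPrime := Ideal.isPrime_bot
  obtain ⟨𝔮, h𝔮, -, -⟩ := exists_prime_tensor (R := X.ring ξ.base) P (⊥ : Ideal Ω) hP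
  exact h𝔮.ne_top (Subsingleton.elim _ _)

end Groth.Agent.S15613
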