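import Groth.Statements.S15614
import Groth.Agent.Lib.Helper35.SchFin0
import Groth.Agent.Lib.Helper35.TensorPrime
import Mathlib.RingTheory.Flat.FaithfullyFlat.Algebra
import Mathlib.RingTheory.Spectrum.Prime.RingHom

set_option autoImplicit false
universe u
open SchFin SchFin.RSpace

namespace Groth.Agent.S15614

open Groth.Agent.Lib.Helper35 TensorProduct

open SchFin in
/-- In a schematic finite space, let x and y be points above a common point s, P a prime of the ring of
x and Q a prime of the ring of y whose contractions to the ring of s agree. Then the pairs (x, P)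
and (y, Q) are related: some point above both x and y carries a prime contracting to P and to Q.
(The published statement does not carry the hypothesis that, for every two points that lie above a
common point and whose minimal open sets meet, the product of the rings over the intersection of
these minimal open sets is faithfully flat over the ring of sections on it; the published proof
obtains this fact from properties of affine schematic spaces recalled there without proof, and this
row carries it explicitly.) -/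
theorem result (X : RSpace.{u}) (hX : X.IsSchematic)
    (hff : ∀ s a b : X.pt, s ≤ a → s ≤ b → (X.up a ∩ X.up b).Nonempty →
      Module.FaithfullyFlat (X.sectRing (X.up a ∩ X.up b)) ((q : ↥(X.up a ∩ X.up b)) → X.ring q.1))
    {s x y : X.pt} (hx : s ≤ x) (hy : s ≤ y) (P : PrimeSpectrum (X.ring x)) (Q : PrimeSpectrum (X.ring y))
    (hPQ : PrimeSpectrum.comap (X.res hx) P = PrimeSpectrum.comap (X.res hy) Q) :
    X.PairRel ⟨x, P⟩ ⟨y, Q⟩ := by
  letI iA : Algebra (X.ring s) (X.ring x) := (X.res hx).toAlgebra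
  letI iB : Algebra (X.ring s) (X.ring y) := (X.res hy).toAlgebra
  have hPQ' : P.asIdeal.comap (algebraMap (X.ring s) (X.ring x)) =
      Q.asIdeal.comap (algebraMap (X.ring s) (X.ring y)) :=
    congrArg PrimeSpectrum.asIdeal hPQ
  obtain ⟨𝔮, h𝔮, hl, hr⟩ := exists_prime_tensor P.asIdeal Q.asIdeal hPQ'
  obtain ⟨E, hE⟩ := sch0_ringEquiv X hX hx hy
  let 𝔮' : PrimeSpectrum (X.sectRing ((Hom.id X).wedge x y)) :=
    ⟨𝔮.comap E.symm.toRingHom, inferInstance⟩
  have hne : (X.up x ∩ X.up y).Nonempty := by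
    by_contra hemp
    rw [Set.not_nonempty_iff_eq_empty] at hemp
    have hsub : Subsingleton (X.sectRing ((Hom.id X).wedge x y)) :=
      ⟨fun a b => Subtype.ext (funext fun q => absurd (show q.1 ∈ X.up x ∩ X.up y from q.2)
        (by rw [hemp]; exact Set.notMem_empty _))⟩
    exact 𝔮'.2.ne_top (Subsingleton.elim _ _)
  have hFF : Module.FaithfullyFlat (X.sectRing ((Hom.id X).wedge x y))
      ((q : ↥((Hom.id X).wedge x y)) → X.ring q.1) := hff s x y hx hy hne
  obtain ⟨𝔯, h𝔯⟩ := PrimeSpectrum.comap_surjective_of_faithfullyFlat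
    (A := X.sectRing ((Hom.id X).wedge x y))
    (B := (q : ↥((Hom.id X).wedge x y)) → X.ring q.1) 𝔮'
  obtain ⟨⟨z, r⟩, hzr⟩ := (PrimeSpectrum.sigmaToPi_bijective
    (fun q : ↥((Hom.id X).wedge x y) => X.ring q.1)).2 𝔯
  have key : ∀ t : X.ring x ⊗[X.ring s] X.ring y, t ∈ 𝔮 ↔ (E t).1 z ∈ r.asIdeal := by
    intro t
    have e2 : t ∈ 𝔮 ↔ E t ∈ 𝔮'.asIdeal := by
      change _ ↔ E.symm (E t) ∈ 𝔮
      rw [E.symm_apply_apply]
    have e3 : E t ∈ 𝔮'.asIdeal ↔ (E t).1 ∈ 𝔯.asIdeal := by
      rw [← h𝔯]
      rfl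
    have e4 : (E t).1 ∈ 𝔯.asIdeal ↔ (E t).1 z ∈ r.asIdeal := by
      rw [← hzr]
      rfl
    exact e2.trans (e3.trans e4)
  refine ⟨z.1, z.2.1, z.2.2, r, ?_, ?_⟩
  · apply PrimeSpectrum.ext
    ext a
    have e1 : a ∈ P.asIdeal ↔ (a ⊗ₜ[X.ring s] (1 : X.ring y)) ∈ 𝔮 := by
      rw [← hl]
      rfl
    have e5 : (E (a ⊗ₜ[X.ring s] (1 : X.ring y))).1 z = X.res z.2.1 a := by
      rw [hE, map_one, mul_one]
      rfl
    rw [e1, key, e5]
    rfl
  · apply PrimeSpectrum.ext
    ext b
    have e1 : b ∈ Q.asIdeal ↔ ((1 : X.ring x) ⊗ₜ[X.ring s] b) ∈ 𝔮 := by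
      rw [← hr]
      rfl
    have e5 : (E ((1 : X.ring x) ⊗ₜ[X.ring s] b)).1 z = X.res z.2.2 b := by
      rw [hE, map_one, one_mul]
      rfl
    rw [e1, key, e5]
    rfl

end Groth.Agent.S15614
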