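import Groth.Statements.S15616
import Groth.Agent.S15615
import Mathlib.Order.Preorder.Finite

set_option autoImplicit false
universe u
open SchFin SchFin.RSpace

namespace Groth.Agent.S15616

open Groth.Agent.S15615

open SchFin in
/-- In a schematic finite space every schematic point, that is, every class of pairs (a point with a
prime of its ring), has exactly one representative whose point lies above the points of all
representatives of the class. (The published statement does not carry the hypothesis that, for every
two points that lie above a common point and whose minimal open sets meet, the product of the rings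
over the intersection of these minimal open sets is faithfully flat over the ring of sections on it;
the published proof obtains this fact from properties of affine schematic spaces recalled there
without proof, and this row carries it explicitly.) -/
theorem result (X : RSpace.{u}) (hX : X.IsSchematic)
    (hff : ∀ s a b : X.pt, s ≤ a → s ≤ b → (X.up a ∩ X.up b).Nonempty →
      Module.FaithfullyFlat (X.sectRing (X.up a ∩ X.up b)) ((q : ↥(X.up a ∩ X.up b)) → X.ring q.1))
    (c : X.SchPt) :
    ∃! a : X.Pair, Quot.mk X.PairRel a = c ∧ ∀ b : X.Pair, Quot.mk X.PairRel b = c → b.1 ≤ a.1 := by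
  have heq : Equivalence X.PairRel := Groth.Agent.S15615.result X hX hff
  have hq : ∀ a b : X.Pair, Quot.mk X.PairRel a = Quot.mk X.PairRel b ↔ X.PairRel a b :=
    fun a b => Quot.eq.trans heq.eqvGen_iff
  obtain ⟨a₀, rfl⟩ := Quot.exists_rep c
  obtain ⟨a, ha, hmax⟩ := Set.Finite.exists_maximalFor' (Sigma.fst : X.Pair → X.pt)
    {b : X.Pair | X.PairRel b a₀} (Set.toFinite _) ⟨a₀, heq.refl a₀⟩
  have hbound : ∀ b : X.Pair, X.PairRel b a₀ → b.1 ≤ a.1 := by
    intro b hb
    obtain ⟨z, hbz, haz, r, h1, h2⟩ := heq.trans hb (heq.symm ha)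
    have hzr : X.PairRel ⟨z, r⟩ a := ⟨z, le_refl z, haz, r, comap_res_self X _ _ _, h2⟩
    have hz : z ≤ a.1 := hmax (show (⟨z, r⟩ : X.Pair) ∈ {b : X.Pair | X.PairRel b a₀} from
      heq.trans hzr ha) haz
    exact hbz.trans hz
  refine ⟨a, ⟨(hq a a₀).mpr ha, fun b hb => hbound b ((hq b a₀).mp hb)⟩, ?_⟩
  rintro a' ⟨ha', hb'⟩
  have ha'rel : X.PairRel a' a₀ := (hq a' a₀).mp ha'
  have h1 : a'.1 ≤ a.1 := hbound a' ha'rel
  have h2 : a.1 ≤ a'.1 := hb' a ((hq a a₀).mpr ha)
  obtain ⟨z, haz, ha'z, r, e1, e2⟩ := heq.trans ha (heq.symm ha'rel)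
  have hzr : X.PairRel ⟨z, r⟩ a := ⟨z, le_refl z, haz, r, comap_res_self X _ _ _, e1⟩
  have hz : z ≤ a.1 := hbound ⟨z, r⟩ (heq.trans hzr ha)
  obtain ⟨p, P⟩ := a
  obtain ⟨p', P'⟩ := a'
  have hpp : p' = p := le_antisymm h1 h2
  subst hpp
  have hzp : z = p' := le_antisymm hz haz
  subst hzp
  have eP : P = r := e1.symm.trans (comap_res_self X _ _ _)
  have eP' : P' = r := e2.symm.trans (comap_res_self X _ _ _)
  rw [eP, eP']

end Groth.Agent.S15616
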