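import Groth.Statements.S15619
import Groth.Agent.Lib.Helper35.SchFinAff

set_option autoImplicit false
universe u
open SchFin SchFin.Alg

namespace Groth.Agent.S15619

open SchFin in
/-- Let X be a schematic finite space, A a quasi-coherent algebra on X and U an affine up-closed set of
points. Then the value of A at every point of U is faithfully flat over the ring of that point if
and only if the ring of sections of A over U is faithfully flat over the ring of sections of the
rings over U, through the natural ring map. (The published statement ranges over affine open
subsets; this row states the criterion for one affine up-closed subset and carries explicitly the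
hypotheses that the product of the rings of the points of U is faithfully flat over the ring of
sections of the rings over U, and likewise for the algebra; these hold for every affine open subset
and every quasi-coherent algebra by results the published proof uses and recalls without proof.) -/
theorem result (X : RSpace.{u}) (hX : X.IsSchematic) (A : Alg X)
    (hA : A.IsQcoh)
    (U : Set X.pt) (hU' : IsUpperSet U) (hUa : (X.restrict U).IsAffine)
    (hφ : Module.FaithfullyFlat (X.sectRing U) ((q : ↥U) → X.ring q.1))
    (hψ : (A.total.sectRing U).subtype.FaithfullyFlat) :
    (∀ q : X.pt, q ∈ U → Module.FaithfullyFlat (X.ring q) (A.carrier q)) ↔ (A.sectMap U).FaithfullyFlat := by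
  constructor
  · intro h
    exact Groth.Agent.Lib.Helper35.faithfullyFlat_of_pi (ι := ↥U) (O := fun i => X.ring i.1)
      (A := fun i => A.carrier i.1) (A.sectMap U) (fun i => X.evalRing U i)
      (fun i => algebraMap (X.ring i.1) (A.carrier i.1)) (fun i => A.total.evalRing U i)
      (fun _ _ => rfl) (fun _ _ _ => rfl) hφ (fun _ _ _ => rfl) hψ
      (fun i => RingHom.faithfullyFlat_algebraMap_iff.mpr (h i.1 i.2))
  · intro h q hq
    letI i1 : Algebra (X.sectRing U) (X.ring q) := (X.evalRing U ⟨q, hq⟩).toAlgebra
    letI i2 : Algebra (X.sectRing U) (A.total.sectRing U) := (A.sectMap U).toAlgebra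
    letI i3 : Module (X.sectRing U) (A.carrier q) := Module.compHom _ (X.evalRing U ⟨q, hq⟩)
    haveI i4 : IsScalarTower (X.sectRing U) (X.ring q) (A.carrier q) :=
      IsScalarTower.of_algebraMap_smul fun _ _ => rfl
    haveI : Module.FaithfullyFlat (X.sectRing U) (A.total.sectRing U) := h
    have hbc := Groth.Agent.Lib.Helper35.isBaseChange_eval X A U hA hUa ⟨q, hq⟩
    exact Module.FaithfullyFlat.of_linearEquiv (R := X.ring q)
      (M := TensorProduct (X.sectRing U) (X.ring q) (A.total.sectRing U)) hbc.equiv.symm

end Groth.Agent.S15619
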