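import Groth.Statements.S2463
-- import your own Groth.Agent.* helpers here
import Groth.Agent.Lib.Helper49.JacAdic4

set_option autoImplicit false
universe u
open EGA41

namespace Groth.Agent.S2463

open EGA41
open TensorProduct KaehlerDifferential IsLocalRing Groth.Agent.Lib.Helper49.JacAdic

open TensorProduct KaehlerDifferential in
/-- Let B be a formally smooth A-algebra (discrete topologies), B → C a surjection with kernel J such
that J/J² is a finitely generated module (over B, equivalently over C), and p a prime of C. The
following are equivalent: the local ring C_p is formally smooth over A; the map κ(p) ⊗ J/J² → κ(p) ⊗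
(C ⊗_B Ω_{B/A}) induced by d is injective (tensor products over B, which agree with those over C =
B/J); there is f ∈ C outside p with C_f formally smooth over A. -/
theorem result {A B C : Type u} [CommRing A] [CommRing B] [CommRing C] [Algebra A B] [Algebra B C] [Algebra A C]
    [IsScalarTower A B C] [Algebra.FormallySmooth A B] (hsurj : Function.Surjective (algebraMap B C))
    [Module.Finite B (RingHom.ker (algebraMap B C)).Cotangent] (p : Ideal C) [p.IsPrime] :
    [Algebra.FormallySmooth A (Localization.AtPrime p),
     Function.Injective ((kerCotangentToTensor A B C).lTensor p.ResidueField),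
     ∃ f : C, f ∉ p ∧ Algebra.FormallySmooth A (Localization.Away f)].TFAE := by
  tfae_have 1 ↔ 2 := formallySmooth_atPrime_iff hsurj p
  tfae_have 1 → 3 := by
    intro h
    obtain ⟨f, hf, l, hl⟩ :=
      (formallySmooth_localization_iff hsurj p.primeCompl (Localization.AtPrime p)).mp h
    refine ⟨f, hf, ?_⟩
    exact (formallySmooth_localization_iff hsurj (Submonoid.powers f) (Localization.Away f)).mpr
      ⟨f, Submonoid.mem_powers f, l, hl⟩
  tfae_have 3 → 1 := by
    rintro ⟨f, hf, h⟩
    obtain ⟨g, hg, l, hl⟩ :=
      (formallySmooth_localization_iff hsurj (Submonoid.powers f) (Localization.Away f)).mp h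
    refine (formallySmooth_localization_iff hsurj p.primeCompl (Localization.AtPrime p)).mpr
      ⟨g, ?_, l, hl⟩
    obtain ⟨n, rfl⟩ := hg
    exact fun hmem => hf (Ideal.IsPrime.mem_of_pow_mem inferInstance n hmem)
  tfae_finish

end Groth.Agent.S2463
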