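import Groth.Statements.S4578
-- import your own Groth.Agent.* helpers here
import Groth.Agent.Lib.Helper49.JacAdic4
import Groth.Agent.Lib.Helper49.GeomRegFS7
import Groth.Agent.S2463

set_option autoImplicit false
universe u
open IsLocalRing
open EGA41

namespace Groth.Agent.S4578

open EGA41
open TensorProduct KaehlerDifferential IsLocalRing Groth.Agent.Lib.Helper49.JacAdic
  Groth.Agent.Lib.Helper49.GeomRegFS

theorem adic_of_formallySmooth {R S : Type u} [CommRing R] [CommRing S] [Algebra R S]
    [Algebra.FormallySmooth R S] (𝔫 : Ideal S) : CAlgX.IsAdicFormallySmooth R S 𝔫 := by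
  intro C _ _ J hJ ψ _
  obtain ⟨χ, hχ⟩ := Algebra.FormallySmooth.comp_surjective R S J hJ ψ
  exact ⟨χ, hχ⟩

/-- Let k₀ be a field, k an extension field of k₀ which is separable (formally smooth) over k₀, C a
k-algebra of finite type and p a prime ideal of C. The following are equivalent: C_p is formally
smooth over k₀ (discrete topologies); C_p is formally smooth over k₀ for the adic topology of its
maximal ideal; C_f is formally smooth over k₀ for some f ∉ p; C_p is geometrically regular over k₀.
(The published statement adds that the set of primes p having these properties is open in Spec C;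
that openness is not stated here.) -/
theorem result {k₀ k C : Type u} [Field k₀] [Field k] [Algebra k₀ k]
    [Algebra.FormallySmooth k₀ k] [CommRing C] [Algebra k C] [Algebra k₀ C] [IsScalarTower k₀ k C]
    [Algebra.FiniteType k C]
    (p : Ideal C) [p.IsPrime] :
    [Algebra.FormallySmooth k₀ (Localization.AtPrime p),
     CAlgX.IsAdicFormallySmooth k₀ (Localization.AtPrime p) (maximalIdeal (Localization.AtPrime p)),
     ∃ f : C, f ∉ p ∧ Algebra.FormallySmooth k₀ (Localization.Away f),
     CAlg.IsGeometricallyRegular k₀ (Localization.AtPrime p)].TFAE := by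
  obtain ⟨n, f₀, hf₀⟩ := Algebra.FiniteType.iff_quotient_mvPolynomial''.mp
    (inferInstance : Algebra.FiniteType k C)
  letI : Algebra (MvPolynomial (Fin n) k) C := f₀.toRingHom.toAlgebra
  have hsurj : Function.Surjective (algebraMap (MvPolynomial (Fin n) k) C) := hf₀
  have htower : IsScalarTower k₀ (MvPolynomial (Fin n) k) C := by
    refine IsScalarTower.of_algebraMap_eq fun x => ?_
    rw [IsScalarTower.algebraMap_apply k₀ k (MvPolynomial (Fin n) k),
      IsScalarTower.algebraMap_apply k₀ k C]
    exact (f₀.commutes (algebraMap k₀ k x)).symm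
  have hfsB : Algebra.FormallySmooth k₀ (MvPolynomial (Fin n) k) :=
    Algebra.FormallySmooth.comp k₀ k _
  have hfin : Module.Finite (MvPolynomial (Fin n) k)
      (RingHom.ker (algebraMap (MvPolynomial (Fin n) k) C)).Cotangent := by
    have h1 : Module.Finite (MvPolynomial (Fin n) k)
        (RingHom.ker (algebraMap (MvPolynomial (Fin n) k) C)) :=
      Module.Finite.of_fg (IsNoetherian.noetherian _)
    exact Module.Finite.of_surjective _ (Ideal.toCotangent_surjective _)
  have hNC : IsNoetherianRing C := Algebra.FiniteType.isNoetherianRing k C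
  have hNCp : IsNoetherianRing (Localization.AtPrime p) :=
    IsLocalization.isNoetherianRing p.primeCompl _ inferInstance
  have h2463 := Groth.Agent.S2463.result (A := k₀) hsurj p
  tfae_have 1 ↔ 3 := h2463.out 0 2
  tfae_have 1 → 2 := fun h => adic_of_formallySmooth _
  tfae_have 2 → 1 := by
    intro h
    let φ₀ : MvPolynomial (Fin n) k →ₐ[k₀] Localization.AtPrime p :=
      (IsScalarTower.toAlgHom k₀ C (Localization.AtPrime p)).comp
        (IsScalarTower.toAlgHom k₀ (MvPolynomial (Fin n) k) C)
    refine formallySmooth_of_isAdicFormallySmooth_of_algHom φ₀ ?_ h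
    intro s
    obtain ⟨c, t, rfl⟩ := IsLocalization.exists_mk'_eq p.primeCompl s
    obtain ⟨a, rfl⟩ := hsurj c
    obtain ⟨m, hm⟩ := hsurj t
    refine ⟨a, m, ?_, ?_⟩
    · change IsUnit (algebraMap C (Localization.AtPrime p)
        (algebraMap (MvPolynomial (Fin n) k) C m))
      rw [hm]
      exact IsLocalization.map_units _ t
    · change _ * algebraMap C (Localization.AtPrime p)
        (algebraMap (MvPolynomial (Fin n) k) C m) =
        algebraMap C (Localization.AtPrime p) (algebraMap (MvPolynomial (Fin n) k) C a)
      rw [hm]
      exact IsLocalization.mk'_spec _ _ t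
  tfae_have 4 ↔ 2 := isGeometricallyRegular_iff_isAdicFormallySmooth
  tfae_finish

end Groth.Agent.S4578
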