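import Groth.Statements.S1562
import Mathlib
import Groth.Agent.Lib.Helper51.SmoothStalk
import Groth.Agent.Lib.Helper51.StalkBCProp
import Groth.Agent.Lib.Helper19.Sm.SmoothDescent
import Groth.Agent.Lib.Helper56.UnivReg
import Groth.Agent.Lib.Helper77.RegularLocalization
import Groth.Agent.S4578

set_option autoImplicit false
universe u
open CategoryTheory CategoryTheory.Limits AlgebraicGeometry
open Variety

namespace Groth.Agent.S1562

/-- Let X be locally of finite type over a field k and x a point of X. Then X is geometrically regular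
at x (regular local rings at all points over x after every finitely generated field extension) if
and only if x lies in the smooth locus of X → Spec k. -/
theorem result (k : Type u) [Field k] (X : Scheme.{u}) [X.Over (Spec (CommRingCat.of k))] [LocallyOfFinitePresentation (X ↘ (Spec (CommRingCat.of k)))] (x : X) :
    Curv2.IsGeomRegularAt k X x ↔ x ∈ (X ↘ (Spec (CommRingCat.of k))).smoothLocus := by
  classical
  set f := X ↘ (Spec (CommRingCat.of k)) with hf
  haveI : IsLocallyNoetherian X := LocallyOfFiniteType.isLocallyNoetherian f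
  constructor
  · intro hreg
    rw [Groth.Agent.Lib.Helper51.mem_smoothLocus_iff_formallySmooth_stalk]
    letI := Groth.Agent.Lib.Helper51.stalkAlg f x
    -- (1) geometric regularity of the local ring
    have hgr : CAlg.IsGeometricallyRegular k (X.presheaf.stalk x) := by
      intro k' _ _ hfin
      haveI := hfin
      haveI : IsNoetherianRing (TensorProduct k (X.presheaf.stalk x) k') :=
        Groth.Agent.Lib.Helper56.isNoetherianRing_tensor_essFiniteType k k' (X.presheaf.stalk x)
      have h1 : IsRegularRing (TensorProduct k (X.presheaf.stalk x) k') := by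
        apply Groth.Agent.Lib.Helper77.RegularLocalization.isRegularRing_of_maximal
        intro 𝔐 h𝔐
        exact Groth.Agent.Lib.Helper51.atMaximal_of_forall_stalk f x
          (Groth.Agent.Lib.Helper51.specMap_stalkMapOf f x) k' (fun R _ => IsRegularLocalRing R)
          (fun R S _ _ e h => by haveI := h; exact IsRegularLocalRing.of_ringEquiv e)
          (fun y hy => hreg k' (IntermediateField.fg_of_noetherian ⊤) y hy) 𝔐
      exact IsRegularRing.of_ringEquiv
        (Algebra.TensorProduct.comm k (X.presheaf.stalk x) k').toRingEquiv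
    -- (2) transport to the localisation of a finite type algebra and apply S4578
    obtain ⟨_, ⟨V, hV : IsAffineOpen V, rfl⟩, hxV, -⟩ :=
      (X.isBasis_affineOpens).exists_subset_of_mem_open (Set.mem_univ x) isOpen_univ
    let φ : k →+* Γ(X, V) :=
      (f.appLE ⊤ V le_top).hom.comp (Scheme.ΓSpecIso (CommRingCat.of k)).inv.hom
    letI : Algebra k Γ(X, V) := φ.toAlgebra
    haveI : Algebra.FiniteType k Γ(X, V) := by
      have h1 : (f.appLE ⊤ V le_top).hom.FiniteType := f.finiteType_appLE (isAffineOpen_top _) hV _
      have h2 : (Scheme.ΓSpecIso (CommRingCat.of k)).inv.hom.FiniteType :=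
        RingHom.FiniteType.of_surjective _
          (ConcreteCategory.bijective_of_isIso (Scheme.ΓSpecIso (CommRingCat.of k)).inv).2
      exact h1.comp h2
    letI : Algebra Γ(X, V) (X.presheaf.stalk x) :=
      TopCat.Presheaf.algebra_section_stalk X.presheaf (⟨x, hxV⟩ : V)
    haveI hloc : IsLocalization.AtPrime (X.presheaf.stalk x) (hV.primeIdealOf ⟨x, hxV⟩).asIdeal :=
      hV.isLocalization_stalk ⟨x, hxV⟩
    haveI : IsScalarTower k Γ(X, V) (X.presheaf.stalk x) := by
      refine IsScalarTower.of_algebraMap_eq' ?_
      have h1 : f.appLE ⊤ V le_top ≫ X.presheaf.germ V x hxV =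
          f.appTop ≫ X.presheaf.germ ⊤ x trivial := by
        simp only [Scheme.Hom.appLE, Scheme.Hom.appTop, Category.assoc]
        congr 1
        exact X.presheaf.germ_res _ x hxV
      have h2 := congrArg (fun F => F.hom.comp (Scheme.ΓSpecIso (CommRingCat.of k)).inv.hom) h1
      exact h2.symm
    let e : Localization.AtPrime (hV.primeIdealOf ⟨x, hxV⟩).asIdeal ≃ₐ[Γ(X, V)] X.presheaf.stalk x :=
      IsLocalization.algEquiv (hV.primeIdealOf ⟨x, hxV⟩).asIdeal.primeCompl _ _
    let ek : Localization.AtPrime (hV.primeIdealOf ⟨x, hxV⟩).asIdeal ≃ₐ[k] X.presheaf.stalk x :=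
      e.restrictScalars k
    have hgr' : CAlg.IsGeometricallyRegular k
        (Localization.AtPrime (hV.primeIdealOf ⟨x, hxV⟩).asIdeal) := by
      intro k' _ _ hfin
      haveI := hgr k' hfin
      exact IsRegularRing.of_ringEquiv
        (Algebra.TensorProduct.congr (AlgEquiv.refl (R := k) (A₁ := k')) ek.symm).toRingEquiv
    have hfs := ((Groth.Agent.S4578.result (k₀ := k) (k := k) (C := Γ(X, V))
      (hV.primeIdealOf ⟨x, hxV⟩).asIdeal).out 3 0).mp hgr'
    haveI := hfs
    exact Algebra.FormallySmooth.of_equiv ek
  · intro hx k' _ _ hfg x' hx'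
    let g := Spec.map (CommRingCat.ofHom (algebraMap k k'))
    have h1 : x' ∈ (Limits.pullback.snd f g).smoothLocus := by
      refine Groth.Agent.Lib.Helper19.preimage_smoothLocus_le_of_isPullback f g _ _
        (IsPullback.of_hasPullback f g) ?_
      change (Limits.pullback.fst f g) x' ∈ f.smoothLocus
      rw [show (Limits.pullback.fst f g) x' = x from hx']
      exact hx
    exact Groth.Agent.Lib.Helper51.isRegularLocalRing_stalk_of_mem_smoothLocus _ x' h1

end Groth.Agent.S1562
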