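import Groth.Statements.S15620
import Groth.Agent.Lib.Helper35.SchFinAff
import Mathlib.RingTheory.TensorProduct.Finite

set_option autoImplicit false
universe u
open SchFin SchFin.Alg

namespace Groth.Agent.S15620

open SchFin in
/-- Let X be a schematic finite space, A a quasi-coherent algebra on X and U an affine up-closed set of
points. Then the value of A at every point of U is a finite module over the ring of that point if
and only if the ring map from the sections of the rings over U to the sections of A over U is
finite. (The published statement ranges over affine open subsets; this row states the criterion for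
one affine up-closed subset and carries explicitly the hypothesis that the product of the rings of
the points of U is faithfully flat over the ring of sections of the rings over U, which holds for
every affine open subset by a result the published proof uses and recalls without proof.) -/
theorem result (X : RSpace.{u}) (hX : X.IsSchematic) (A : Alg X) (hA : A.IsQcoh)
    (U : Set X.pt) (hU' : IsUpperSet U) (hUa : (X.restrict U).IsAffine)
    (hφ : Module.FaithfullyFlat (X.sectRing U) ((q : ↥U) → X.ring q.1)) :
    (∀ q : X.pt, q ∈ U → Module.Finite (X.ring q) (A.carrier q)) ↔ (A.sectMap U).Finite := by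
  constructor
  · intro h
    letI i2 : Algebra (X.sectRing U) (A.total.sectRing U) := (A.sectMap U).toAlgebra
    letI i1 : ∀ i : ↥U, Algebra (X.sectRing U) (X.ring i.1) := fun i => (X.evalRing U i).toAlgebra
    letI i3 : ∀ i : ↥U, Module (X.sectRing U) (A.carrier i.1) :=
      fun i => Module.compHom _ (X.evalRing U i)
    haveI i4 : ∀ i : ↥U, IsScalarTower (X.sectRing U) (X.ring i.1) (A.carrier i.1) :=
      fun i => IsScalarTower.of_algebraMap_smul fun _ _ => rfl
    change Module.Finite (X.sectRing U) (A.total.sectRing U)
    exact Groth.Agent.Lib.Helper35.finite_of_pi (ι := ↥U) (O := fun i => X.ring i.1)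
      (A := fun i => A.carrier i.1) (fun i => Groth.Agent.Lib.Helper35.evLin X A U i)
      (fun i => Groth.Agent.Lib.Helper35.isBaseChange_eval X A U hA hUa i)
      (fun _ _ _ => rfl) hφ (fun i => h i.1 i.2)
  · intro h q hq
    letI i1 : Algebra (X.sectRing U) (X.ring q) := (X.evalRing U ⟨q, hq⟩).toAlgebra
    letI i2 : Algebra (X.sectRing U) (A.total.sectRing U) := (A.sectMap U).toAlgebra
    letI i3 : Module (X.sectRing U) (A.carrier q) := Module.compHom _ (X.evalRing U ⟨q, hq⟩)
    haveI i4 : IsScalarTower (X.sectRing U) (X.ring q) (A.carrier q) :=
      IsScalarTower.of_algebraMap_smul fun _ _ => rfl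
    haveI : Module.Finite (X.sectRing U) (A.total.sectRing U) := h
    have hbc := Groth.Agent.Lib.Helper35.isBaseChange_eval X A U hA hUa ⟨q, hq⟩
    exact Module.Finite.equiv hbc.equiv

end Groth.Agent.S15620
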