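import Groth.Statements.S15621
import Groth.Agent.Lib.Helper69.FEt
import Mathlib.CategoryTheory.Limits.Shapes.Pullback.HasPullback
import Mathlib.CategoryTheory.Limits.Shapes.Terminal
-- import your own Groth.Agent.* helpers here

set_option autoImplicit false
universe u
open SchFin SchFin.FEt

namespace Groth.Agent.S15621

open SchFin CategoryTheory CategoryTheory.Limits in
/-- For a schematic finite space, the category of étale covers (quasi-coherent algebras whose value at
every point is finite and étale over the ring of that point, with algebra maps compatible with
restriction as morphisms) has an initial object and has pushouts. (In the published statement these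
are the initial object and the finite direct sums over a third object of that category, given by the
rings themselves and by tensor products of algebras.) -/
theorem result (X : RSpace.{u}) (hX : X.IsSchematic) :
    HasInitial (FEt X) ∧ HasPushouts (FEt X) := by
  constructor
  · have hI : IsInitial (Groth.Agent.Lib.Helper69.strFEt X) :=
      IsInitial.ofUniqueHom
        (fun Y => ObjectProperty.homMk (Groth.Agent.Lib.Helper69.strHom Y.obj))
        (fun Y m => by
          apply ObjectProperty.hom_ext
          exact Groth.Agent.Lib.Helper69.strHom_unique m.hom)
    exact hI.hasInitial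
  · have : ∀ {A B C : FEt X} {f : A ⟶ B} {g : A ⟶ C}, HasColimit (span f g) := by
      intro A B C f g
      obtain ⟨P, hP, inl, inr, hcomm, huniv⟩ :=
        Groth.Agent.Lib.Helper69.exists_pushout hX.1 A.property B.property C.property f.hom g.hom
      choose desc hdesc huniq using huniv
      let P' : FEt X := ⟨P, hP⟩
      let inl' : B ⟶ P' := ObjectProperty.homMk inl
      let inr' : C ⟶ P' := ObjectProperty.homMk inr
      have hcomm' : f ≫ inl' = g ≫ inr' := ObjectProperty.hom_ext _ hcomm
      have hs : ∀ s : PushoutCocone f g, f.hom ≫ s.inl.hom = g.hom ≫ s.inr.hom := fun s =>
        congrArg (fun k => k.hom) s.condition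
      refine HasColimit.mk ⟨PushoutCocone.mk inl' inr' hcomm', PushoutCocone.IsColimit.mk hcomm'
        (fun s => ObjectProperty.homMk (desc s.pt.obj s.inl.hom s.inr.hom (hs s))) ?_ ?_ ?_⟩
      · intro s
        apply ObjectProperty.hom_ext
        exact (hdesc s.pt.obj s.inl.hom s.inr.hom (hs s)).1
      · intro s
        apply ObjectProperty.hom_ext
        exact (hdesc s.pt.obj s.inl.hom s.inr.hom (hs s)).2
      · intro s m h1 h2
        apply ObjectProperty.hom_ext
        exact huniq s.pt.obj s.inl.hom s.inr.hom (hs s) m.hom (congrArg (fun k => k.hom) h1)
          (congrArg (fun k => k.hom) h2)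
    exact hasPushouts_of_hasColimit_span _

end Groth.Agent.S15621
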