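import Groth.Statements.S15622
import Groth.Agent.Lib.Helper69.FEt
import Mathlib.CategoryTheory.Limits.Shapes.BinaryProducts
import Mathlib.CategoryTheory.Limits.Shapes.Terminal
-- import your own Groth.Agent.* helpers here

set_option autoImplicit false
universe u
open SchFin SchFin.FEt

namespace Groth.Agent.S15622

open SchFin CategoryTheory CategoryTheory.Limits in
/-- For a schematic finite space, the category of étale covers (quasi-coherent algebras whose value at
every point is finite and étale over the ring of that point) has a terminal object and has binary
products. (In the published statement: finite direct products, the terminal object being the zero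
algebra.) -/
theorem result (X : RSpace.{u}) (hX : X.IsSchematic) :
    HasTerminal (FEt X) ∧ HasBinaryProducts (FEt X) := by
  constructor
  · let Z : FEt X := ⟨Groth.Agent.Lib.Helper69.zeroAlg X, Groth.Agent.Lib.Helper69.zeroAlg_isEtCover X⟩
    have hZ : IsTerminal Z :=
      IsTerminal.ofUniqueHom
        (fun Y => ObjectProperty.homMk (Groth.Agent.Lib.Helper69.toZeroAlg Y.obj))
        (fun Y m => by
          apply ObjectProperty.hom_ext
          exact Groth.Agent.Lib.Helper69.toZeroAlg_unique m.hom)
    exact hZ.hasTerminal
  · have : ∀ {A B : FEt X}, HasLimit (pair A B) := by
      intro A B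
      let P : FEt X := ⟨Groth.Agent.Lib.Helper69.prodAlg A.obj B.obj,
        Groth.Agent.Lib.Helper69.prodAlg_isEtCover A.property B.property⟩
      let fst : P ⟶ A := ObjectProperty.homMk (Groth.Agent.Lib.Helper69.prodFst A.obj B.obj)
      let snd : P ⟶ B := ObjectProperty.homMk (Groth.Agent.Lib.Helper69.prodSnd A.obj B.obj)
      refine HasLimit.mk ⟨BinaryFan.mk fst snd, BinaryFan.isLimitMk
        (fun s => ObjectProperty.homMk (Groth.Agent.Lib.Helper69.prodLift s.fst.hom s.snd.hom))
        ?_ ?_ ?_⟩
      · intro s
        apply ObjectProperty.hom_ext
        apply Alg.hom_ext
        intro p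
        apply AlgHom.ext
        intro a
        rfl
      · intro s
        apply ObjectProperty.hom_ext
        apply Alg.hom_ext
        intro p
        apply AlgHom.ext
        intro a
        rfl
      · intro s m h1 h2
        apply ObjectProperty.hom_ext
        apply Alg.hom_ext
        intro p
        apply AlgHom.ext
        intro a
        have e1 := congrArg (fun k => k.hom.app p a) h1
        have e2 := congrArg (fun k => k.hom.app p a) h2
        exact Prod.ext e1 e2
    exact hasBinaryProducts_of_hasLimit_pair _

end Groth.Agent.S15622
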