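import Groth.Statements.S15625
import Groth.Agent.Lib.Helper69.FEt
-- import your own Groth.Agent.* helpers here

set_option autoImplicit false
universe u
open SchFin SchFin.FEt

namespace Groth.Agent.S15625

open SchFin CategoryTheory in
/-- Over a schematic finite space, every morphism of étale covers factors, inside the category of étale
covers, as a morphism that is surjective at every point followed by one that is injective at every
point (in particular as an epimorphism followed by a monomorphism; the middle object is the quotient
by the kernel). -/
theorem result (X : RSpace.{u}) (hX : X.IsSchematic) {A B : FEt X}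
    (f : A ⟶ B) :
    ∃ (Q : FEt X) (g : A ⟶ Q) (h : Q ⟶ B), g ≫ h = f ∧ (∀ p : X.pt, Function.Surjective (g.hom.app p)) ∧
      ∀ p : X.pt, Function.Injective (h.hom.app p) := by
  obtain ⟨e, he1, he2, he3⟩ :=
    Groth.Agent.Lib.Helper69.exists_kerIdem hX.1 A.property B.property f.hom
  have hmem : ∀ p, f.hom.app p (e p) = 0 := by
    intro p
    have : e p ∈ RingHom.ker (f.hom.app p) := by
      rw [he2 p]; exact Ideal.mem_span_singleton_self _
    exact this
  refine ⟨⟨Groth.Agent.Lib.Helper69.quotAlg A.obj e he3,
      Groth.Agent.Lib.Helper69.quotAlg_isEtCover A.obj e he3 A.property he1⟩,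
    ObjectProperty.homMk (Groth.Agent.Lib.Helper69.quotMk A.obj e he3),
    ObjectProperty.homMk (Groth.Agent.Lib.Helper69.quotLift A.obj e he3 f.hom hmem), ?_, ?_, ?_⟩
  · apply ObjectProperty.hom_ext
    apply Alg.hom_ext
    intro p
    apply AlgHom.ext
    intro a
    rfl
  · intro p
    exact Ideal.Quotient.mk_surjective
  · intro p
    refine RingHom.lift_injective_of_ker_le_ideal (Ideal.span {e p}) _ ?_
    rw [← he2 p]
    exact le_rfl

end Groth.Agent.S15625
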