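import Groth.Statements.S15626
import Groth.Agent.Lib.Helper69.FEt
-- import your own Groth.Agent.* helpers here

set_option autoImplicit false
universe u
open SchFin SchFin.FEt

namespace Groth.Agent.S15626

open SchFin CategoryTheory in
/-- Over a schematic finite space, a monomorphism in the category of étale covers is injective at every
point (the converse implication being elementary). -/
theorem result (X : RSpace.{u}) (hX : X.IsSchematic) {A B : FEt X} (f : A ⟶ B)
    [Mono f] (p : X.pt) : Function.Injective (f.hom.app p) := by
  obtain ⟨e, he1, he2, he3⟩ :=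
    Groth.Agent.Lib.Helper69.exists_kerIdem hX.1 A.property B.property f.hom
  have hmem : ∀ p, f.hom.app p (e p) = 0 := by
    intro p
    have : e p ∈ RingHom.ker (f.hom.app p) := by
      rw [he2 p]; exact Ideal.mem_span_singleton_self _
    exact this
  let C : FEt X := ⟨Groth.Agent.Lib.Helper69.prodAlg A.obj A.obj,
    Groth.Agent.Lib.Helper69.prodAlg_isEtCover A.property A.property⟩
  let u : C ⟶ A := ObjectProperty.homMk (Groth.Agent.Lib.Helper69.prodFst A.obj A.obj)
  let v : C ⟶ A := ObjectProperty.homMk (Groth.Agent.Lib.Helper69.idemMix A.obj e he1 he3)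
  have huv : u ≫ f = v ≫ f := by
    apply ObjectProperty.hom_ext
    apply Alg.hom_ext
    intro q
    apply AlgHom.ext
    intro x
    show f.hom.app q x.1 = f.hom.app q (x.1 * (1 - e q) + x.2 * e q)
    rw [map_add, map_mul, map_mul, map_sub, map_one, hmem q]
    ring
  have huv' : u = v := (cancel_mono f).mp huv
  have hep : e p = 0 := by
    have := congrArg (fun k => k.hom.app p ((0, 1) : A.obj.carrier p × A.obj.carrier p)) huv'
    have h2 : (0 : A.obj.carrier p) = (0 : A.obj.carrier p) * (1 - e p) + 1 * e p := this
    rw [zero_mul, one_mul, zero_add] at h2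
    exact h2.symm
  have hker : RingHom.ker (f.hom.app p) = ⊥ := by
    rw [he2 p, hep]
    simp
  exact (RingHom.injective_iff_ker_eq_bot _).mpr hker

end Groth.Agent.S15626
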