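import Groth.Statements.S15628
import Groth.Agent.Lib.Helper69.FEt
import Mathlib.CategoryTheory.Limits.Shapes.BinaryProducts
-- import your own Groth.Agent.* helpers here

set_option autoImplicit false
universe u
open SchFin SchFin.FEt

namespace Groth.Agent.S15628

open SchFin CategoryTheory CategoryTheory.Limits in
/-- Over a schematic finite space, a morphism f from an étale cover A to an étale cover B which is
surjective at every point identifies B with a direct factor of A: there are an étale cover D and a
morphism from A to D which together with f exhibit A as the product of B and D in the category of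
étale covers. (The published statement assumes f an epimorphism of étale covers and first shows that
epimorphisms are exactly the pointwise surjective morphisms, a step resting on an extension result
for quasi-coherent modules recalled there without proof; this row takes f surjective at every
point.) -/
theorem result (X : RSpace.{u}) (hX : X.IsSchematic)
    {A B : FEt X} (f : A ⟶ B) (hf : ∀ p : X.pt, Function.Surjective (f.hom.app p)) :
    ∃ (D : FEt X) (π : A ⟶ D), Nonempty (IsLimit (BinaryFan.mk f π)) := by
  obtain ⟨e, he1, he2, he3⟩ :=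
    Groth.Agent.Lib.Helper69.exists_kerIdem hX.1 A.property B.property f.hom
  have he3' : ∀ {p q : X.pt} (h : p ≤ q), A.obj.res h (1 - e p) = 1 - e q := by
    intro p q h
    rw [map_sub, map_one, he3 h]
  let D : FEt X := ⟨Groth.Agent.Lib.Helper69.quotAlg A.obj (fun p => 1 - e p) he3',
    Groth.Agent.Lib.Helper69.quotAlg_isEtCover A.obj _ he3' A.property (fun p => (he1 p).one_sub)⟩
  let π : A ⟶ D := ObjectProperty.homMk (Groth.Agent.Lib.Helper69.quotMk A.obj _ he3')
  let φ : A.obj ⟶ Groth.Agent.Lib.Helper69.prodAlg B.obj D.obj :=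
    Groth.Agent.Lib.Helper69.prodLift f.hom π.hom
  have hφ : ∀ p, Function.Bijective (φ.app p) := by
    intro p
    refine Groth.Agent.Lib.Helper69.bijective_prod_of_idem (f.hom.app p) (π.hom.app p) (e p)
      (he1 p) (hf p) Ideal.Quotient.mk_surjective (he2 p) ?_
    exact Ideal.mk_ker
  let ψ := Groth.Agent.Lib.Helper69.invOfBijective φ hφ
  have hφψ : φ ≫ ψ = 𝟙 _ := Groth.Agent.Lib.Helper69.hom_invOfBijective φ hφ
  have hψφ : ψ ≫ φ = 𝟙 _ := Groth.Agent.Lib.Helper69.invOfBijective_hom φ hφ
  have hφ1 : φ ≫ Groth.Agent.Lib.Helper69.prodFst B.obj D.obj = f.hom := by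
    apply Alg.hom_ext; intro p; apply AlgHom.ext; intro a; rfl
  have hφ2 : φ ≫ Groth.Agent.Lib.Helper69.prodSnd B.obj D.obj = π.hom := by
    apply Alg.hom_ext; intro p; apply AlgHom.ext; intro a; rfl
  have hlift1 : ∀ {C : Alg X} (u : C ⟶ B.obj) (v : C ⟶ D.obj),
      (Groth.Agent.Lib.Helper69.prodLift u v ≫ ψ) ≫ f.hom = u := by
    intro C u v
    rw [← hφ1, Category.assoc, ← Category.assoc ψ, hψφ, Category.id_comp]
    apply Alg.hom_ext; intro p; apply AlgHom.ext; intro a; rfl
  have hlift2 : ∀ {C : Alg X} (u : C ⟶ B.obj) (v : C ⟶ D.obj),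
      (Groth.Agent.Lib.Helper69.prodLift u v ≫ ψ) ≫ π.hom = v := by
    intro C u v
    rw [← hφ2, Category.assoc, ← Category.assoc ψ, hψφ, Category.id_comp]
    apply Alg.hom_ext; intro p; apply AlgHom.ext; intro a; rfl
  have huniq : ∀ {C : Alg X} (u : C ⟶ B.obj) (v : C ⟶ D.obj) (m : C ⟶ A.obj),
      m ≫ f.hom = u → m ≫ π.hom = v → m = Groth.Agent.Lib.Helper69.prodLift u v ≫ ψ := by
    intro C u v m h1' h2'
    have : m ≫ φ = Groth.Agent.Lib.Helper69.prodLift u v := by
      apply Alg.hom_ext; intro p; apply AlgHom.ext; intro a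
      have e1 := congrArg (fun k => k.app p a) h1'
      have e2 := congrArg (fun k => k.app p a) h2'
      exact Prod.ext e1 e2
    rw [← this, Category.assoc, hφψ, Category.comp_id]
  refine ⟨D, π, ⟨BinaryFan.isLimitMk
    (fun s => ObjectProperty.homMk
      (Groth.Agent.Lib.Helper69.prodLift (A := B.obj) (B := D.obj) s.fst.hom s.snd.hom ≫ ψ))
      ?_ ?_ ?_⟩⟩
  · intro s
    apply ObjectProperty.hom_ext
    exact hlift1 (C := s.pt.obj) s.fst.hom s.snd.hom
  · intro s
    apply ObjectProperty.hom_ext
    exact hlift2 (C := s.pt.obj) s.fst.hom s.snd.hom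
  · intro s m h1 h2
    apply ObjectProperty.hom_ext
    exact huniq (C := s.pt.obj) s.fst.hom s.snd.hom m.hom (congrArg (fun k => k.hom) h1)
      (congrArg (fun k => k.hom) h2)

end Groth.Agent.S15628
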