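import Groth.Statements.S15629
import Groth.Agent.Lib.Helper69.InvFEt
import Mathlib.CategoryTheory.SingleObj
import Mathlib.CategoryTheory.Limits.HasLimits
-- import your own Groth.Agent.* helpers here

set_option autoImplicit false
universe u
open SchFin SchFin.FEt

namespace Groth.Agent.S15629

open SchFin CategoryTheory CategoryTheory.Limits in
/-- Over a well-connected schematic finite space, the category of étale covers has, for every finite
group G, limits of diagrams indexed by the one-object category of G; that is, for every action of G
on an étale cover A there is an étale cover (the invariants of A, pointwise) through which exactly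
the G-invariant morphisms into A factor. (The published statement speaks of contravariant
categorical quotients by finite subgroups of the automorphism group; an action through a group
homomorphism has the same invariants as its image.) (This row carries as a hypothesis the local
triviality of étale covers — for every étale cover A there are a quasi-coherent algebra B, finite
and faithfully flat at every point, and a natural number n with B_p ⊗ A_p isomorphic to B_p^n as a
B_p-algebra at every point p — which holds for well-connected schematic spaces, the published proof
of that fact going by way of an equivalence of quasi-coherent modules along qc-isomorphisms recalled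
without proof; the published statement does not carry it.) -/
theorem result (X : RSpace.{u}) (hX : X.IsSchematic) (hwc : X.IsWellConnected)
    (hlt : ∀ A : FEt X, ∃ (B : Alg X) (n : ℕ), B.IsCovering ∧
      ∀ p : X.pt, Nonempty (TensorProduct (X.ring p) (B.carrier p) (A.obj.carrier p) ≃ₐ[B.carrier p] (Fin n → B.carrier p)))
    (G : Type u) [Group G] [Finite G] : HasLimitsOfShape (SingleObj G) (FEt X) := by
  classical
  constructor
  intro K
  let A : FEt X := K.obj (SingleObj.star G)
  let σ : G → (A.obj ⟶ A.obj) := fun g =>
    (K.map (show SingleObj.star G ⟶ SingleObj.star G from g)).hom
  let I : FEt X := ⟨Groth.Agent.Lib.Helper69.invAlg A.obj σ,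
    Groth.Agent.Lib.Helper69.invAlg_isEtCover A.obj σ hX.1 A.property (hlt A)⟩
  let π : I ⟶ A := ObjectProperty.homMk (Groth.Agent.Lib.Helper69.invIncl A.obj σ)
  have hπ : ∀ g : G, π ≫ K.map (show SingleObj.star G ⟶ SingleObj.star G from g) = π := by
    intro g
    apply ObjectProperty.hom_ext
    exact Groth.Agent.Lib.Helper69.invIncl_comp A.obj σ g
  let c : Cone K :=
    { pt := I
      π :=
        { app := fun _ => π
          naturality := fun j j' f => by
            show 𝟙 I ≫ π = π ≫ K.map f
            rw [Category.id_comp]
            exact (hπ f).symm } }
  have hs : ∀ (s : Cone K) (g : G),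
      (s.π.app (SingleObj.star G)).hom ≫ σ g = (s.π.app (SingleObj.star G)).hom := by
    intro s g
    have h1 := s.π.naturality (show SingleObj.star G ⟶ SingleObj.star G from g)
    have h2 : s.π.app (SingleObj.star G) =
        s.π.app (SingleObj.star G) ≫ K.map (show SingleObj.star G ⟶ SingleObj.star G from g) := by
      rw [← h1]
      exact (Category.id_comp _).symm
    exact (congrArg (fun k => k.hom) h2).symm
  refine HasLimit.mk ⟨c,
    { lift := fun s => ObjectProperty.homMk
        (Groth.Agent.Lib.Helper69.invLift A.obj σ (s.π.app (SingleObj.star G)).hom (hs s))
      fac := fun s j => ?_
      uniq := fun s m hm => ?_ }⟩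
  · apply ObjectProperty.hom_ext
    exact Groth.Agent.Lib.Helper69.invLift_incl A.obj σ _ (hs s)
  · apply ObjectProperty.hom_ext
    apply Groth.Agent.Lib.Helper69.inv_hom_ext
    refine Eq.trans ?_ (Groth.Agent.Lib.Helper69.invLift_incl A.obj σ _ (hs s)).symm
    exact congrArg (fun k => k.hom) (hm (SingleObj.star G))

end Groth.Agent.S15629
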