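import Groth.Statements.S1563
import Mathlib
import Groth.Agent.Lib.Helper51.FlatBC
import Groth.Agent.Lib.Helper51.GenericRed
import Groth.Agent.S7605
import Groth.Agent.S0565

set_option autoImplicit false
universe u
open CategoryTheory CategoryTheory.Limits AlgebraicGeometry
open Variety

namespace Groth.Agent.S1563

/-- Geometric regularity descends along a morphism f of locally Noetherian k-schemes which is flat at
the point x (the map of local rings at x is flat): if X has it at x then Y has it at f(x). -/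
theorem result (k : Type u) [Field k] (X Y : Scheme.{u}) [X.Over (Spec (CommRingCat.of k))] [Y.Over (Spec (CommRingCat.of k))]
    [IsLocallyNoetherian X] [IsLocallyNoetherian Y] (f : X ⟶ Y) (hf : f ≫ (Y ↘ (Spec (CommRingCat.of k))) = X ↘ (Spec (CommRingCat.of k)))
    (x : X) (hflat : (f.stalkMap x).hom.Flat) (hx : Curv2.IsGeomRegularAt k X x) :
    Curv2.IsGeomRegularAt k Y (f.base x) := by
  classical
  intro K _ _ hK y' hy'
  letI : Algebra k ↥(X.presheaf.stalk x) :=
    Groth.Agent.Lib.Helper51.stalkAlg (X ↘ (Spec (CommRingCat.of k))) x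
  letI : Algebra k ↥(Y.presheaf.stalk (f x)) :=
    Groth.Agent.Lib.Helper51.stalkAlg (Y ↘ (Spec (CommRingCat.of k))) (f x)
  have hψX := Groth.Agent.Lib.Helper51.specMap_stalkMapOf (X ↘ (Spec (CommRingCat.of k))) x
  have hψY := Groth.Agent.Lib.Helper51.specMap_stalkMapOf (Y ↘ (Spec (CommRingCat.of k))) (f x)
  obtain ⟨x', hx'1, hx'2⟩ := Groth.Agent.Lib.Helper51.exists_bcHom_eq
    (X ↘ (Spec (CommRingCat.of k))) (Y ↘ (Spec (CommRingCat.of k))) f hf K x y' hy'
  haveI hreg : IsRegularLocalRing ↥((Limits.pullback (X ↘ (Spec (CommRingCat.of k)))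
      (Spec.map (CommRingCat.ofHom (algebraMap k K)))).presheaf.stalk x') := hx K hK x' hx'1
  have hfl := Groth.Agent.Lib.Helper51.flat_stalkMap_bcHom
    (X ↘ (Spec (CommRingCat.of k))) (Y ↘ (Spec (CommRingCat.of k))) f hf K x hψX hψY hflat x' hx'1
  subst hx'2
  haveI hN : IsLocallyNoetherian (Limits.pullback (Y ↘ (Spec (CommRingCat.of k)))
      (Spec.map (CommRingCat.ofHom (algebraMap k K)))) :=
    (Groth.Agent.S7605.result k Y K hK).mp inferInstance
  algebraize [((Groth.Agent.Lib.Helper51.bcHom (X ↘ (Spec (CommRingCat.of k)))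
    (Y ↘ (Spec (CommRingCat.of k))) f hf K).stalkMap x').hom]
  haveI : IsLocalHom (algebraMap
      ↥((Limits.pullback (Y ↘ (Spec (CommRingCat.of k)))
        (Spec.map (CommRingCat.ofHom (algebraMap k K)))).presheaf.stalk
        (Groth.Agent.Lib.Helper51.bcHom (X ↘ (Spec (CommRingCat.of k)))
          (Y ↘ (Spec (CommRingCat.of k))) f hf K x'))
      ↥((Limits.pullback (X ↘ (Spec (CommRingCat.of k)))
        (Spec.map (CommRingCat.ofHom (algebraMap k K)))).presheaf.stalk x')) :=
    inferInstanceAs (IsLocalHom ((Groth.Agent.Lib.Helper51.bcHom (X ↘ (Spec (CommRingCat.of k)))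
      (Y ↘ (Spec (CommRingCat.of k))) f hf K).stalkMap x').hom)
  exact Groth.Agent.S0565.result _
    ↥((Limits.pullback (X ↘ (Spec (CommRingCat.of k)))
        (Spec.map (CommRingCat.ofHom (algebraMap k K)))).presheaf.stalk x')

end Groth.Agent.S1563
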