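import Groth.Statements.S15631
import Groth.Agent.Lib.Helper69.FibRank
import Groth.Agent.S15630
-- import your own Groth.Agent.* helpers here

set_option autoImplicit false
universe u
open SchFin SchFin.GeomPt

namespace Groth.Agent.S15631

open SchFin CategoryTheory in
/-- For a well-connected schematic finite space and a geometric point with values in an algebraically
closed field, the fibre functor at that point (an étale cover A goes to the prime spectrum of Ω ⊗
A_x, x the point hit), on the opposite of the category of étale covers, reflects isomorphisms. (This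
row carries as a hypothesis the local triviality of étale covers — for every étale cover A there are
a quasi-coherent algebra B, finite and faithfully flat at every point, and a natural number n with
B_p ⊗ A_p isomorphic to B_p^n as a B_p-algebra at every point p — which holds for well-connected
schematic spaces, the published proof of that fact going by way of an equivalence of quasi-coherent
modules along qc-isomorphisms recalled without proof; the published statement does not carry it.) -/
theorem result (X : RSpace.{u}) (hX : X.IsSchematic)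
    (hwc : X.IsWellConnected)
    (hlt : ∀ A : FEt X, ∃ (B : Alg X) (n : ℕ), B.IsCovering ∧
      ∀ p : X.pt, Nonempty (TensorProduct (X.ring p) (B.carrier p) (A.obj.carrier p) ≃ₐ[B.carrier p] (Fin n → B.carrier p)))
    {Ω : Type u} [Field Ω] [IsAlgClosed Ω] (ξ : GeomPt X Ω) : ξ.fibFunctor.ReflectsIsomorphisms := by
  constructor
  intro A' B' f hf
  have hbij : Function.Bijective (ξ.fibMap f.unop.hom) :=
    (FintypeCat.equivEquivIso.symm (asIso (ξ.fibFunctor.map f))).bijective
  have hAe := A'.unop.property
  have hBe := B'.unop.property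
  letI := Groth.Agent.Lib.Helper69.ptAlgebra ξ
  obtain ⟨e, he1, he2, he3⟩ :=
    Groth.Agent.Lib.Helper69.exists_kerIdem hX.1 hBe hAe f.unop.hom
  have hge : ∀ p, f.unop.hom.app p (e p) = 0 := by
    intro p
    have : e p ∈ RingHom.ker (f.unop.hom.app p) := by
      rw [he2 p]; exact Ideal.mem_span_singleton_self _
    exact this
  have he3' : ∀ {p q : X.pt} (h : p ≤ q), B'.unop.obj.res h (1 - e p) = 1 - e q := by
    intro p q h
    rw [map_sub, map_one, he3 h]
  have hD : (Groth.Agent.Lib.Helper69.quotAlg B'.unop.obj (fun p => 1 - e p) he3').IsEtCover :=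
    Groth.Agent.Lib.Helper69.quotAlg_isEtCover _ _ he3' hBe (fun p => (he1 p).one_sub)
  have hempty : IsEmpty (ξ.Fib (Groth.Agent.Lib.Helper69.quotAlg B'.unop.obj (fun p => 1 - e p) he3')) := by
    constructor
    intro w
    obtain ⟨δ, rfl⟩ := (Groth.Agent.Lib.Helper69.ptToFib_bijective ξ _ hD).2 w
    obtain ⟨y, hy⟩ := hbij.2 (Groth.Agent.Lib.Helper69.ptToFib ξ B'.unop.obj
      (δ.comp ((Groth.Agent.Lib.Helper69.quotMk B'.unop.obj (fun p => 1 - e p) he3').app ξ.base)))
    obtain ⟨α, rfl⟩ := (Groth.Agent.Lib.Helper69.ptToFib_bijective ξ _ hAe).2 y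
    rw [Groth.Agent.Lib.Helper69.fibMap_ptToFib] at hy
    have h1 := (Groth.Agent.Lib.Helper69.ptToFib_bijective ξ _ hBe).1 hy
    have h2 := congrArg (fun k => k (e ξ.base)) h1
    have h3 : α (f.unop.hom.app ξ.base (e ξ.base)) =
      δ (Ideal.Quotient.mk (Ideal.span {1 - e ξ.base}) (e ξ.base)) := h2
    rw [hge, map_zero] at h3
    have h4 : Ideal.Quotient.mk (Ideal.span {1 - e ξ.base}) (e ξ.base) = 1 := by
      rw [← map_one (Ideal.Quotient.mk (Ideal.span {1 - e ξ.base})), eq_comm, Ideal.Quotient.eq]
      exact Ideal.mem_span_singleton_self _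
    have h5 : δ (Ideal.Quotient.mk (Ideal.span {1 - e ξ.base}) (e ξ.base)) = 1 :=
      (congrArg δ h4).trans (map_one δ)
    rw [h5] at h3
    exact zero_ne_one h3
  have hrank0 : ∀ (p : X.pt) (P : PrimeSpectrum (X.ring p)),
      Module.rankAtStalk ((Groth.Agent.Lib.Helper69.quotAlg B'.unop.obj (fun p => 1 - e p) he3').carrier p) P = 0 := by
    intro p P
    rw [Groth.Agent.Lib.Helper69.rank_const hX.1 hwc hD p ξ.base P
      (Groth.Agent.Lib.Helper69.basePrime ξ), ← Groth.Agent.Lib.Helper69.card_fib_eq_rank ξ _ hD]
    exact Nat.card_of_isEmpty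
  have hinj : ∀ p : X.pt, Function.Injective (f.unop.hom.app p) := by
    intro p
    have := (hD.2 p).1
    have := (hD.2 p).2
    have hsub : Subsingleton
        ((Groth.Agent.Lib.Helper69.quotAlg B'.unop.obj (fun p => 1 - e p) he3').carrier p) := by
      rw [← Module.rankAtStalk_eq_zero_iff_subsingleton (R := X.ring p)]
      funext P
      exact hrank0 p P
    have h1 : (1 : B'.unop.obj.carrier p) ∈ Ideal.span {1 - e p} :=
      (Ideal.Quotient.eq_zero_iff_mem).mp
        (hsub.elim (Ideal.Quotient.mk (Ideal.span {1 - e p}) 1) 0)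
    rw [Ideal.mem_span_singleton'] at h1
    obtain ⟨c, hc⟩ := h1
    have hep : e p = 0 := by
      have : c * (1 - e p) * e p = e p := by rw [hc, one_mul]
      rw [mul_assoc, sub_mul, one_mul, (he1 p).eq, sub_self, mul_zero] at this
      exact this.symm
    have hker : RingHom.ker (f.unop.hom.app p) = ⊥ := by
      rw [he2 p, hep]
      simp
    exact (RingHom.injective_iff_ker_eq_bot _).mpr hker
  have hcard : Nat.card (ξ.Fib A'.unop.obj) = Nat.card (ξ.Fib B'.unop.obj) :=
    Nat.card_congr (Equiv.ofBijective _ hbij)
  have hrank : ∀ (p : X.pt) (P : PrimeSpectrum (X.ring p)),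
      Module.rankAtStalk (B'.unop.obj.carrier p) P = Module.rankAtStalk (A'.unop.obj.carrier p) P := by
    intro p P
    rw [Groth.Agent.Lib.Helper69.rank_const hX.1 hwc hBe p ξ.base P
        (Groth.Agent.Lib.Helper69.basePrime ξ),
      Groth.Agent.Lib.Helper69.rank_const hX.1 hwc hAe p ξ.base P
        (Groth.Agent.Lib.Helper69.basePrime ξ),
      ← Groth.Agent.Lib.Helper69.card_fib_eq_rank ξ _ hBe,
      ← Groth.Agent.Lib.Helper69.card_fib_eq_rank ξ _ hAe, hcard]
  have hiso : IsIso f.unop := Groth.Agent.S15630.result X hX hwc hlt f.unop hinj hrank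
  exact (isIso_unop_iff f).mp hiso

end Groth.Agent.S15631
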