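import Groth.Statements.S15633
import Groth.Agent.Lib.Helper69.Fib
import Groth.Agent.S15626
import Groth.Agent.S15622
import Mathlib.CategoryTheory.Limits.Constructions.FiniteProductsOfBinaryProducts
import Mathlib.CategoryTheory.Limits.Preserves.Shapes.Terminal
import Mathlib.CategoryTheory.Limits.Preserves.Shapes.Pullbacks
import Mathlib.CategoryTheory.Limits.Preserves.Shapes.BinaryProducts
import Mathlib.CategoryTheory.Limits.Shapes.Opposites.Products
import Mathlib.CategoryTheory.Limits.Opposites
-- import your own Groth.Agent.* helpers here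

set_option autoImplicit false
universe u
open SchFin SchFin.GeomPt

namespace Groth.Agent.S15633

open SchFin CategoryTheory CategoryTheory.Limits Groth.Agent.Lib.Helper69

section

variable {X : RSpace.{u}} (hX : X.IsSchematic) {Ω : Type u} [Field Ω] [IsAlgClosed Ω]
  (ξ : GeomPt X Ω)

theorem map_apply {A' B' : (FEt X)ᵒᵖ} (f : A' ⟶ B') (y : ξ.Fib A'.unop.obj) :
    (ξ.fibFunctor.map f).hom y = ξ.fibMap f.unop.hom y := rfl

include hX in
theorem part1 : PreservesLimitsOfShape (Discrete PEmpty.{1}) ξ.fibFunctor := by
  have hI : IsInitial (strFEt X) :=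
    IsInitial.ofUniqueHom (fun Y => ObjectProperty.homMk (strHom Y.obj))
      (fun Y m => by
        apply ObjectProperty.hom_ext
        exact strHom_unique m.hom)
  have hT : IsTerminal (Opposite.op (strFEt X)) := terminalOpOfInitial hI
  have hFT : IsTerminal (ξ.fibFunctor.obj (Opposite.op (strFEt X))) := by
    have hs := fib_str_subsingleton ξ
    exact IsTerminal.ofUniqueHom
      (fun Y => FintypeCat.homMk (fun _ => Classical.choice (fib_str_nonempty ξ)))
      (fun Y m => by
        apply FintypeCat.hom_ext
        intro t
        exact hs.elim _ _)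
  have : PreservesLimit (Functor.empty.{0} (FEt X)ᵒᵖ) ξ.fibFunctor :=
    preservesLimit_of_preserves_limit_cone hT
      ((isLimitMapConeEmptyConeEquiv ξ.fibFunctor _).symm hFT)
  exact preservesLimitsOfShape_pempty_of_preservesTerminal ξ.fibFunctor

include hX in
theorem part4 : ξ.fibFunctor.PreservesEpimorphisms := by
  constructor
  intro A' B' f hf
  have hinj := Groth.Agent.S15626.result X hX f.unop ξ.base
  have hs := fibMap_surjective_of_injective ξ hX.1 B'.unop.property A'.unop.property
    f.unop.hom hinj
  exact ConcreteCategory.epi_of_surjective (ξ.fibFunctor.map f) hs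

theorem part3_initial : PreservesColimitsOfShape (Discrete PEmpty.{1}) ξ.fibFunctor := by
  let Z : FEt X := ⟨zeroAlg X, zeroAlg_isEtCover X⟩
  have hT : IsTerminal Z :=
    IsTerminal.ofUniqueHom (fun Y => ObjectProperty.homMk (toZeroAlg Y.obj))
      (fun Y m => by
        apply ObjectProperty.hom_ext
        exact toZeroAlg_unique m.hom)
  have hI : IsInitial (Opposite.op Z) := initialOpOfTerminal hT
  have hE := fib_zero_isEmpty ξ
  have hFI : IsInitial (ξ.fibFunctor.obj (Opposite.op Z)) :=
    IsInitial.ofUniqueHom (fun Y => FintypeCat.homMk (fun y => hE.elim y))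
      (fun Y m => by
        apply FintypeCat.hom_ext
        intro t
        exact hE.elim t)
  have : PreservesColimit (Functor.empty.{0} (FEt X)ᵒᵖ) ξ.fibFunctor :=
    preservesColimit_of_preserves_colimit_cocone hI
      ((isColimitMapCoconeEmptyCoconeEquiv ξ.fibFunctor _).symm hFI)
  exact preservesColimitsOfShape_pempty_of_preservesInitial ξ.fibFunctor

theorem part3_pair (A' B' : (FEt X)ᵒᵖ) : PreservesColimit (pair A' B') ξ.fibFunctor := by
  let P : FEt X := ⟨prodAlg A'.unop.obj B'.unop.obj,
    prodAlg_isEtCover A'.unop.property B'.unop.property⟩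
  let fst : P ⟶ A'.unop := ObjectProperty.homMk (prodFst A'.unop.obj B'.unop.obj)
  let snd : P ⟶ B'.unop := ObjectProperty.homMk (prodSnd A'.unop.obj B'.unop.obj)
  have hcolim : IsColimit (BinaryCofan.mk (X := A') (Y := B') fst.op snd.op) := by
    refine BinaryCofan.isColimitMk
      (fun s => (ObjectProperty.homMk (prodLift s.inl.unop.hom s.inr.unop.hom) :
        s.pt.unop ⟶ P).op) ?_ ?_ ?_
    · intro s
      apply Quiver.Hom.unop_inj
      apply ObjectProperty.hom_ext
      apply Alg.hom_ext; intro p; apply AlgHom.ext; intro a; rfl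
    · intro s
      apply Quiver.Hom.unop_inj
      apply ObjectProperty.hom_ext
      apply Alg.hom_ext; intro p; apply AlgHom.ext; intro a; rfl
    · intro s m h1 h2
      apply Quiver.Hom.unop_inj
      apply ObjectProperty.hom_ext
      apply Alg.hom_ext; intro p; apply AlgHom.ext; intro a
      have e1 := congrArg (fun k => k.unop.hom.app p a) h1
      have e2 := congrArg (fun k => k.unop.hom.app p a) h2
      exact Prod.ext e1 e2
  apply preservesColimit_of_preserves_colimit_cocone hcolim
  refine (isColimitMapCoconeBinaryCofanEquiv ξ.fibFunctor fst.op snd.op).symm ?_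
  obtain ⟨hi1, hi2, hdisj, hcov⟩ := fib_prod ξ A'.unop.property B'.unop.property
  classical
  refine BinaryCofan.isColimitMk
    (fun s => FintypeCat.homMk (fun w =>
      if h : ∃ y, ξ.fibMap (prodFst A'.unop.obj B'.unop.obj) y = w then s.inl.hom h.choose
      else s.inr.hom ((hcov w).resolve_left h).choose)) ?_ ?_ ?_
  · intro s
    apply FintypeCat.hom_ext
    intro y
    have h : ∃ y', ξ.fibMap (prodFst A'.unop.obj B'.unop.obj) y' =
        ξ.fibMap (prodFst A'.unop.obj B'.unop.obj) y := ⟨y, rfl⟩
    show (if h : ∃ y', ξ.fibMap (prodFst A'.unop.obj B'.unop.obj) y' =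
        ξ.fibMap (prodFst A'.unop.obj B'.unop.obj) y then s.inl.hom h.choose
      else s.inr.hom ((hcov _).resolve_left h).choose) = s.inl.hom y
    rw [dif_pos h, hi1 h.choose_spec]
  · intro s
    apply FintypeCat.hom_ext
    intro z
    have h : ¬ ∃ y', ξ.fibMap (prodFst A'.unop.obj B'.unop.obj) y' =
        ξ.fibMap (prodSnd A'.unop.obj B'.unop.obj) z := by
      rintro ⟨y', hy'⟩
      exact hdisj y' z hy'
    show (if h : ∃ y', ξ.fibMap (prodFst A'.unop.obj B'.unop.obj) y' =
        ξ.fibMap (prodSnd A'.unop.obj B'.unop.obj) z then s.inl.hom h.choose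
      else s.inr.hom ((hcov _).resolve_left h).choose) = s.inr.hom z
    rw [dif_neg h, hi2 ((hcov _).resolve_left h).choose_spec]
  · intro s m h1 h2
    apply FintypeCat.hom_ext
    intro w
    show m.hom w = (if h : ∃ y, ξ.fibMap (prodFst A'.unop.obj B'.unop.obj) y = w then
        s.inl.hom h.choose else s.inr.hom ((hcov w).resolve_left h).choose)
    by_cases h : ∃ y, ξ.fibMap (prodFst A'.unop.obj B'.unop.obj) y = w
    · rw [dif_pos h]
      have := congrArg (fun k => k.hom h.choose) h1
      have e : m.hom (ξ.fibMap (prodFst A'.unop.obj B'.unop.obj) h.choose) =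
        s.inl.hom h.choose := this
      rw [h.choose_spec] at e
      exact e
    · rw [dif_neg h]
      have := congrArg (fun k => k.hom ((hcov w).resolve_left h).choose) h2
      have e : m.hom (ξ.fibMap (prodSnd A'.unop.obj B'.unop.obj)
        ((hcov w).resolve_left h).choose) = s.inr.hom ((hcov w).resolve_left h).choose := this
      rw [((hcov w).resolve_left h).choose_spec] at e
      exact e

include hX in
theorem part3 : PreservesFiniteCoproducts ξ.fibFunctor := by
  have hTB := Groth.Agent.S15622.result X hX
  have := hTB.1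
  have := hTB.2
  have : HasFiniteProducts (FEt X) := hasFiniteProducts_of_has_binary_and_terminal
  have : PreservesColimitsOfShape (Discrete PEmpty.{1}) ξ.fibFunctor := part3_initial ξ
  have : PreservesColimitsOfShape (Discrete WalkingPair) ξ.fibFunctor := by
    constructor
    intro K
    have := part3_pair ξ (K.obj ⟨WalkingPair.left⟩) (K.obj ⟨WalkingPair.right⟩)
    exact preservesColimit_of_iso_diagram ξ.fibFunctor (diagramIsoPair K).symm
  exact ⟨fun n => preservesShape_fin_of_preserves_binary_and_initial ξ.fibFunctor n⟩

include hX in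
theorem part2_cospan {A' B' C' : (FEt X)ᵒᵖ} (f : B' ⟶ A') (g : C' ⟶ A') :
    PreservesLimit (cospan f g) ξ.fibFunctor := by
  obtain ⟨P, hP, inl, inr, hcomm, huniv, hpt⟩ :=
    exists_pushout_pt hX.1 A'.unop.property B'.unop.property C'.unop.property
      f.unop.hom g.unop.hom
  choose desc hdesc huniq using huniv
  let P' : FEt X := ⟨P, hP⟩
  let inl' : B'.unop ⟶ P' := ObjectProperty.homMk inl
  let inr' : C'.unop ⟶ P' := ObjectProperty.homMk inr
  have hc : inl'.op ≫ f = inr'.op ≫ g := by
    apply Quiver.Hom.unop_inj
    apply ObjectProperty.hom_ext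
    exact hcomm
  have hs : ∀ s : PullbackCone f g, f.unop.hom ≫ s.fst.unop.hom = g.unop.hom ≫ s.snd.unop.hom :=
    fun s => congrArg (fun k => k.unop.hom) s.condition
  have hlim : IsLimit (PullbackCone.mk inl'.op inr'.op hc) := by
    refine PullbackCone.IsLimit.mk hc
      (fun s => (ObjectProperty.homMk (desc s.pt.unop.obj s.fst.unop.hom s.snd.unop.hom (hs s)) :
        P' ⟶ s.pt.unop).op) ?_ ?_ ?_
    · intro s
      apply Quiver.Hom.unop_inj
      apply ObjectProperty.hom_ext
      exact (hdesc s.pt.unop.obj s.fst.unop.hom s.snd.unop.hom (hs s)).1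
    · intro s
      apply Quiver.Hom.unop_inj
      apply ObjectProperty.hom_ext
      exact (hdesc s.pt.unop.obj s.fst.unop.hom s.snd.unop.hom (hs s)).2
    · intro s m h1 h2
      apply Quiver.Hom.unop_inj
      apply ObjectProperty.hom_ext
      exact huniq s.pt.unop.obj s.fst.unop.hom s.snd.unop.hom (hs s) m.unop.hom
        (congrArg (fun k => k.unop.hom) h1) (congrArg (fun k => k.unop.hom) h2)
  apply preservesLimit_of_preserves_limit_cone hlim
  refine (isLimitMapConePullbackConeEquiv ξ.fibFunctor hc).symm ?_
  letI := ptAlgebra ξ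
  have hfp := fib_pushout ξ A'.unop.property B'.unop.property C'.unop.property hP
    f.unop.hom g.unop.hom inl inr (hpt ξ.base Ω).1 (hpt ξ.base Ω).2
  have hcond : ∀ (s : PullbackCone (ξ.fibFunctor.map f) (ξ.fibFunctor.map g)) (t : s.pt),
      ξ.fibMap f.unop.hom (s.fst.hom t) = ξ.fibMap g.unop.hom (s.snd.hom t) := by
    intro s t
    exact congrArg (fun k => k.hom t) s.condition
  refine PullbackCone.IsLimit.mk _
    (fun s => FintypeCat.homMk (fun t => (hfp (s.fst.hom t) (s.snd.hom t) (hcond s t)).choose))
    ?_ ?_ ?_
  · intro s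
    apply FintypeCat.hom_ext
    intro t
    exact (hfp (s.fst.hom t) (s.snd.hom t) (hcond s t)).choose_spec.1.1
  · intro s
    apply FintypeCat.hom_ext
    intro t
    exact (hfp (s.fst.hom t) (s.snd.hom t) (hcond s t)).choose_spec.1.2
  · intro s m h1 h2
    apply FintypeCat.hom_ext
    intro t
    refine (hfp (s.fst.hom t) (s.snd.hom t) (hcond s t)).choose_spec.2 (m.hom t) ?_ ?_
    · exact congrArg (fun k => k.hom t) h1
    · exact congrArg (fun k => k.hom t) h2

include hX in
theorem part2 : PreservesLimitsOfShape WalkingCospan ξ.fibFunctor := by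
  constructor
  intro K
  have := part2_cospan hX ξ (K.map WalkingCospan.Hom.inl) (K.map WalkingCospan.Hom.inr)
  exact preservesLimit_of_iso_diagram ξ.fibFunctor (diagramIsoCospan K).symm

end

open SchFin CategoryTheory CategoryTheory.Limits in
/-- For a schematic finite space and a geometric point with values in an algebraically closed field Ω,
the fibre functor at that point, from the opposite of the category of étale covers to finite sets
(an étale cover A goes to the prime spectrum of Ω ⊗ A_x, x the point hit), preserves terminal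
objects, pullbacks, finite coproducts and epimorphisms. (The published statement also includes
quotients by finite groups of automorphisms, whose existence rests on local triviality of étale
covers; that clause is part of the Galois-category row and is omitted here. The published statement
sits inside an argument for a well-connected space; these four clauses use no connectedness.) -/
theorem result (X : RSpace.{u}) (hX : X.IsSchematic)
    {Ω : Type u} [Field Ω] [IsAlgClosed Ω] (ξ : GeomPt X Ω) :
    PreservesLimitsOfShape (Discrete PEmpty.{1}) ξ.fibFunctor ∧ PreservesLimitsOfShape WalkingCospan ξ.fibFunctor ∧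
      PreservesFiniteCoproducts ξ.fibFunctor ∧ ξ.fibFunctor.PreservesEpimorphisms :=
  ⟨part1 hX ξ, part2 hX ξ, part3 hX ξ, part4 hX ξ⟩

end Groth.Agent.S15633
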