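import Groth.Statements.S15632
import Groth.Agent.S15621
import Groth.Agent.S15622
import Groth.Agent.S15628
import Groth.Agent.S15631
import Groth.Agent.S15633
import Groth.Agent.Lib.Helper69.FibInv
import Mathlib.CategoryTheory.SingleObj
import Mathlib.CategoryTheory.Limits.Opposites
import Mathlib.CategoryTheory.Limits.Shapes.Opposites.Pullbacks
import Mathlib.CategoryTheory.Limits.Shapes.Opposites.Products
import Mathlib.CategoryTheory.Limits.Constructions.FiniteProductsOfBinaryProducts
-- import your own Groth.Agent.* helpers here

set_option autoImplicit false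
universe u
open SchFin SchFin.GeomPt

namespace Groth.Agent.S15632

open SchFin CategoryTheory CategoryTheory.Limits Groth.Agent.Lib.Helper69

section Quot

variable {X : RSpace.{u}} {G : Type u} [Group G] (J : SingleObj G ⥤ (FEt X)ᵒᵖ)

/-- the étale cover on which the group acts -/
abbrev baseObj : FEt X := (J.obj (SingleObj.star G)).unop

/-- the action, as endomorphisms of the underlying algebra -/
def sig (g : G) : (baseObj J).obj ⟶ (baseObj J).obj :=
  (J.map (show SingleObj.star G ⟶ SingleObj.star G from g)).unop.hom

theorem sig_one : sig J 1 = 𝟙 _ := by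
  have h : J.map (show SingleObj.star G ⟶ SingleObj.star G from (1 : G)) = 𝟙 _ := by
    rw [← SingleObj.id_as_one]; exact J.map_id _
  unfold sig
  rw [h]
  rfl

theorem sig_mul (g h : G) : sig J (g * h) = sig J g ≫ sig J h := by
  have h0 : J.map (show SingleObj.star G ⟶ SingleObj.star G from (g * h)) =
      J.map (show SingleObj.star G ⟶ SingleObj.star G from h) ≫
        J.map (show SingleObj.star G ⟶ SingleObj.star G from g) := by
    rw [← J.map_comp]; rfl
  unfold sig
  rw [h0]
  rfl

variable (hX : X.IsFinSp)
  (hlt : ∀ A : FEt X, ∃ (B : Alg X) (n : ℕ), B.IsCovering ∧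
      ∀ p : X.pt, Nonempty (TensorProduct (X.ring p) (B.carrier p) (A.obj.carrier p) ≃ₐ[B.carrier p] (Fin n → B.carrier p)))
  [Finite G]

/-- the invariants -/
def invObj : FEt X :=
  ⟨invAlg (baseObj J).obj (sig J),
    invAlg_isEtCover (baseObj J).obj (sig J) hX (baseObj J).property (hlt (baseObj J))⟩

/-- the inclusion of the invariants -/
def incl : invObj J hX hlt ⟶ baseObj J := ObjectProperty.homMk (invIncl (baseObj J).obj (sig J))

theorem incl_comp (g : G) :
    incl J hX hlt ≫ (J.map (show SingleObj.star G ⟶ SingleObj.star G from g)).unop =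
      incl J hX hlt := by
  apply ObjectProperty.hom_ext
  exact invIncl_comp (baseObj J).obj (sig J) g

/-- the quotient cocone -/
def quotCocone : Cocone J where
  pt := Opposite.op (invObj J hX hlt)
  ι :=
    { app := fun _ => (incl J hX hlt).op
      naturality := fun j j' f => by
        show J.map f ≫ (incl J hX hlt).op = (incl J hX hlt).op ≫ 𝟙 _
        rw [Category.comp_id]
        apply Quiver.Hom.unop_inj
        exact incl_comp J hX hlt f }

theorem cocone_inv (s : Cocone J) (g : G) :
    (s.ι.app (SingleObj.star G)).unop.hom ≫ sig J g = (s.ι.app (SingleObj.star G)).unop.hom := by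
  have h1 := s.ι.naturality (show SingleObj.star G ⟶ SingleObj.star G from g)
  have h2 : J.map (show SingleObj.star G ⟶ SingleObj.star G from g) ≫ s.ι.app (SingleObj.star G) =
      s.ι.app (SingleObj.star G) := by
    rw [h1]; exact Category.comp_id _
  exact congrArg (fun k => k.unop.hom) h2

/-- the quotient cocone is a colimit -/
def quotIsColimit : IsColimit (quotCocone J hX hlt) where
  desc s := (ObjectProperty.homMk (invLift (baseObj J).obj (sig J)
    (s.ι.app (SingleObj.star G)).unop.hom (cocone_inv J s)) :
      s.pt.unop ⟶ invObj J hX hlt).op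
  fac s j := by
    apply Quiver.Hom.unop_inj
    apply ObjectProperty.hom_ext
    exact invLift_incl (baseObj J).obj (sig J) _ (cocone_inv J s)
  uniq s m hm := by
    apply Quiver.Hom.unop_inj
    apply ObjectProperty.hom_ext
    apply inv_hom_ext
    refine Eq.trans ?_ (invLift_incl (baseObj J).obj (sig J) _ (cocone_inv J s)).symm
    exact congrArg (fun k => k.unop.hom) (hm (SingleObj.star G))

variable {Ω : Type u} [Field Ω] [IsAlgClosed Ω] (ξ : GeomPt X Ω)

theorem map_apply {A' B' : (FEt X)ᵒᵖ} (f : A' ⟶ B') (y : ξ.Fib A'.unop.obj) :
    (ξ.fibFunctor.map f).hom y = ξ.fibMap f.unop.hom y := rfl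

include hX hlt in
theorem preservesQuot : PreservesColimit J ξ.fibFunctor := by
  classical
  apply preservesColimit_of_preserves_colimit_cocone (quotIsColimit J hX hlt)
  have hsurj : Function.Surjective (ξ.fibMap (invIncl (baseObj J).obj (sig J))) :=
    fib_inv_surjective ξ hX (baseObj J).property (sig J) (invObj J hX hlt).property
  have horb : ∀ y y' : ξ.Fib (baseObj J).obj,
      ξ.fibMap (invIncl (baseObj J).obj (sig J)) y = ξ.fibMap (invIncl (baseObj J).obj (sig J)) y' →
        ∃ g, y' = ξ.fibMap (sig J g) y :=
    fun y y' hy => fib_inv_orbit ξ (baseObj J).property (sig J) (sig_one J) (sig_mul J)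
      (invObj J hX hlt).property y y' hy
  have hnat : ∀ (s : Cocone (J ⋙ ξ.fibFunctor)) (g : G) (y : ξ.Fib (baseObj J).obj),
      (s.ι.app (SingleObj.star G)).hom (ξ.fibMap (sig J g) y) =
        (s.ι.app (SingleObj.star G)).hom y := by
    intro s g y
    have h1 := s.ι.naturality (show SingleObj.star G ⟶ SingleObj.star G from g)
    have h2 := congrArg (fun k => k.hom y) h1
    exact h2
  refine
    { desc := fun s => FintypeCat.homMk (fun w => (s.ι.app (SingleObj.star G)).hom (hsurj w).choose)
      fac := fun s j => ?_
      uniq := fun s m hm => ?_ }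
  · apply FintypeCat.hom_ext
    intro y
    show (s.ι.app (SingleObj.star G)).hom
      (hsurj (ξ.fibMap (invIncl (baseObj J).obj (sig J)) y)).choose = (s.ι.app j).hom y
    obtain ⟨g, hg⟩ := horb y _
      (hsurj (ξ.fibMap (invIncl (baseObj J).obj (sig J)) y)).choose_spec.symm
    rw [hg, hnat]
    rfl
  · apply FintypeCat.hom_ext
    intro w
    show m.hom w = (s.ι.app (SingleObj.star G)).hom (hsurj w).choose
    have h1 := congrArg (fun k => k.hom (hsurj w).choose) (hm (SingleObj.star G))
    have h2 : m.hom (ξ.fibMap (invIncl (baseObj J).obj (sig J)) (hsurj w).choose) =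
        (s.ι.app (SingleObj.star G)).hom (hsurj w).choose := h1
    have h3 : ξ.fibMap (invIncl (baseObj J).obj (sig J)) (hsurj w).choose = w :=
      (hsurj w).choose_spec
    exact (congrArg (fun z => m.hom z) h3).symm.trans h2

end Quot

open SchFin CategoryTheory in
/-- For a well-connected schematic finite space and a geometric point with values in an algebraically
closed field, the opposite of the category of étale covers, with the fibre functor at that point (an
étale cover A goes to the prime spectrum of Ω ⊗ A_x, x the point hit), is a Galois category: a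
pre-Galois category for which that functor is a fibre functor. (The published statement assumes the
space only connected and reduces to the well-connected case through a pointwise construction and a
comparison of geometric points resting on a result recalled without proof; this row takes the space
well-connected. It carries two hypotheses the published statement does not: the local triviality of
étale covers — for every étale cover A, a quasi-coherent algebra B, finite and faithfully flat at
every point, and n with B_p ⊗ A_p isomorphic to B_p^n as B_p-algebras at every point — and the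
pointwise surjectivity of epimorphisms of étale covers; both hold for every such space, each being
proved in the published text by way of a result on quasi-coherent modules recalled without proof.) -/
theorem result (X : RSpace.{u}) (hX : X.IsSchematic)
    (hwc : X.IsWellConnected)
    (hlt : ∀ A : FEt X, ∃ (B : Alg X) (n : ℕ), B.IsCovering ∧
      ∀ p : X.pt, Nonempty (TensorProduct (X.ring p) (B.carrier p) (A.obj.carrier p) ≃ₐ[B.carrier p] (Fin n → B.carrier p)))
    (hepi : ∀ (A B : FEt X) (f : A ⟶ B), Epi f → ∀ p : X.pt, Function.Surjective (f.hom.app p))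
    {Ω : Type u} [Field Ω] [IsAlgClosed Ω] (ξ : GeomPt X Ω) :
    ∃ h : PreGaloisCategory (FEt X)ᵒᵖ, @PreGaloisCategory.FiberFunctor (FEt X)ᵒᵖ _ h ξ.fibFunctor := by
  have h621 := Groth.Agent.S15621.result X hX
  have h622 := Groth.Agent.S15622.result X hX
  have h633 := Groth.Agent.S15633.result X hX ξ
  have h631 := Groth.Agent.S15631.result X hX hwc hlt ξ
  have : Limits.HasInitial (FEt X) := h621.1
  have : Limits.HasPushouts (FEt X) := h621.2
  have : Limits.HasTerminal (FEt X) := h622.1
  have : Limits.HasBinaryProducts (FEt X) := h622.2
  have : Limits.HasFiniteProducts (FEt X) := hasFiniteProducts_of_has_binary_and_terminal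
  have h : PreGaloisCategory (FEt X)ᵒᵖ :=
    { hasTerminal := inferInstance
      hasPullbacks := inferInstance
      hasFiniteCoproducts := inferInstance
      hasQuotientsByFiniteGroups := fun G _ _ =>
        ⟨fun J => Limits.HasColimit.mk ⟨quotCocone J hX.1 hlt, quotIsColimit J hX.1 hlt⟩⟩
      monoInducesIsoOnDirectSummand := by
        intro Y' Z' i hi
        have hepi' : Epi i.unop := inferInstance
        have hsurj := hepi Z'.unop Y'.unop i.unop hepi'
        obtain ⟨D, π, ⟨hl⟩⟩ := Groth.Agent.S15628.result X hX i.unop hsurj
        refine ⟨Opposite.op D, π.op, ⟨?_⟩⟩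
        refine Limits.BinaryCofan.isColimitMk
          (fun s => (hl.lift (Limits.BinaryFan.mk s.inl.unop s.inr.unop)).op) ?_ ?_ ?_
        · intro s
          apply Quiver.Hom.unop_inj
          exact hl.fac (Limits.BinaryFan.mk s.inl.unop s.inr.unop) ⟨Limits.WalkingPair.left⟩
        · intro s
          apply Quiver.Hom.unop_inj
          exact hl.fac (Limits.BinaryFan.mk s.inl.unop s.inr.unop) ⟨Limits.WalkingPair.right⟩
        · intro s m h1 h2
          apply Quiver.Hom.unop_inj
          apply hl.uniq (Limits.BinaryFan.mk s.inl.unop s.inr.unop) m.unop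
          rintro ⟨j⟩
          cases j
          · exact congrArg Quiver.Hom.unop h1
          · exact congrArg Quiver.Hom.unop h2 }
  refine ⟨h, ?_⟩
  exact @PreGaloisCategory.FiberFunctor.mk _ _ h _ h633.1 h633.2.1 h633.2.2.1 h633.2.2.2
    (fun G _ _ => ⟨fun {J} => preservesQuot J hX.1 hlt ξ⟩) h631

end Groth.Agent.S15632
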