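import Groth.Statements.S1567
import Groth.Agent.Lib.Helper29.QCohUnit
import Mathlib.RingTheory.Ideal.KrullsHeightTheorem

set_option autoImplicit false
universe u
open CategoryTheory CategoryTheory.Limits AlgebraicGeometry
open Divisors

namespace Groth.Agent.S1567

open Groth.Agent.Lib.Helper29.QCohLoc

/-- Let X be locally Noetherian and D a locally principal closed subscheme. At a point ξ of D that is
maximal in D under generisation (a generic point of a component of D), the local ring of X has
dimension at most one. -/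
theorem result (X : Scheme.{u}) [IsLocallyNoetherian X]
    (D : X.IdealSheafData) (hD : Curv2.IsLocPrincipal D) (ξ : X)
    (hξ : ξ ∈ (D.support : Set X)) (hgen : ∀ y ∈ (D.support : Set X), y ⤳ ξ → y = ξ) :
    ringKrullDim (X.presheaf.stalk ξ) ≤ 1 := by
  obtain ⟨U, hξU, f, hf⟩ := hD ξ hξ
  have hU : IsAffineOpen U.1 := U.2
  have : IsNoetherianRing Γ(X, U.1) := IsLocallyNoetherian.component_noetherian U
  set p := (hU.primeIdealOf ⟨ξ, hξU⟩).asIdeal with hp
  have hfp : f ∈ p := by
    rw [hp, mem_primeIdealOf_iff]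
    have h1 : ξ ∈ D.support := hξ
    rw [Scheme.IdealSheafData.mem_support_iff_of_mem hξU, hf, Scheme.zeroLocus_span,
      Scheme.mem_zeroLocus_iff] at h1
    simpa using h1
  have hmin : p ∈ (Ideal.span {f}).minimalPrimes := by
    refine ⟨⟨inferInstance, (Ideal.span_singleton_le_iff_mem _).mpr hfp⟩, ?_⟩
    rintro q ⟨hq, hfq⟩ hqp
    obtain ⟨y, hy, hyq⟩ := exists_point_of_prime hU q
    have hyD : y ∈ D.support := by
      rw [Scheme.IdealSheafData.mem_support_iff_of_mem hy, hf, Scheme.zeroLocus_span,
        Scheme.mem_zeroLocus_iff]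
      intro g hg
      rw [Set.mem_singleton_iff] at hg
      subst hg
      rw [← mem_primeIdealOf_iff hU y hy, hyq]
      exact (Ideal.span_singleton_le_iff_mem _).mp hfq
    have hspec : y ⤳ ξ := specializes_of_primeIdealOf_le hU hξU hy (by rw [hyq]; exact hqp)
    have := hgen y hyD hspec
    subst this
    rw [← hyq]
  have hht : p.height ≤ 1 := Ideal.height_le_one_of_isPrincipal_of_mem_minimalPrimes _ _ hmin
  let _ := X.presheaf.algebra_section_stalk ⟨ξ, hξU⟩
  have : IsLocalization.AtPrime (X.presheaf.stalk ξ) p := hU.isLocalization_stalk ⟨ξ, hξU⟩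
  rw [IsLocalization.AtPrime.ringKrullDim_eq_height p (X.presheaf.stalk ξ)]
  exact_mod_cast hht

end Groth.Agent.S1567
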