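import Groth.Statements.S15695
import Mathlib

set_option autoImplicit false
universe u
open CategoryTheory AlgebraicGeometry
open RatVar

namespace Groth.Agent.S15695

theorem away_lift_injective {R S T : Type*} [CommRing R] [CommRing S] [CommRing T] [Algebra R S]
    (x : R) [IsLocalization.Away x S] (g : R →+* T) (hg : IsUnit (g x))
    (hinj : Function.Injective g) :
    Function.Injective (IsLocalization.Away.lift (S := S) x hg) := by
  rw [injective_iff_map_eq_zero]
  intro y hy
  obtain ⟨r, ⟨_, m, rfl⟩, rfl⟩ := IsLocalization.exists_mk'_eq (Submonoid.powers x) y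
  have h := IsLocalization.mk'_spec S r (⟨x ^ m, m, rfl⟩ : Submonoid.powers x)
  have h2 := congrArg (IsLocalization.Away.lift (S := S) x hg) h
  rw [map_mul, hy, zero_mul, IsLocalization.Away.lift_eq] at h2
  have : r = 0 := hinj (by rw [← h2, map_zero])
  subst this
  exact IsLocalization.mk'_zero _

set_option maxHeartbeats 1600000 in
theorem alg_spread {k : Type u} [Field k] {n : ℕ} {R : Type u} [CommRing R] [IsDomain R]
    [Algebra k R]
    (π : MvPolynomial (Fin n) k →ₐ[k] R) (hπ : Function.Surjective π)
    [hI : (RingHom.ker (π : MvPolynomial (Fin n) k →+* R)).IsPrime]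
    (ρ : R →+* Localization.AtPrime (RingHom.ker (π : MvPolynomial (Fin n) k →+* R)))
    (hρres : ∀ p : MvPolynomial (Fin n) k,
      IsLocalRing.residue (Localization.AtPrime (RingHom.ker (π : MvPolynomial (Fin n) k →+* R)))
        (ρ (π p)) = IsLocalRing.residue _ (algebraMap (MvPolynomial (Fin n) k) _ p))
    (hρk : ∀ c : k, ρ (algebraMap k R c) =
      algebraMap k (Localization.AtPrime (RingHom.ker (π : MvPolynomial (Fin n) k →+* R))) c) :
    ∃ s₀ : MvPolynomial (Fin n) k, π s₀ ≠ 0 ∧
      ∃ (ρs : R →+* Localization.Away s₀)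
        (πs : Localization.Away s₀ →+* Localization.Away (π s₀)),
        (∀ p, πs (algebraMap (MvPolynomial (Fin n) k) (Localization.Away s₀) p) =
          algebraMap R (Localization.Away (π s₀)) (π p)) ∧
        (∀ r, πs (ρs r) = algebraMap R (Localization.Away (π s₀)) r) ∧
        (∀ c : k, ρs (algebraMap k R c) =
          algebraMap (MvPolynomial (Fin n) k) (Localization.Away s₀) (MvPolynomial.C c)) := by
  classical
  set P := MvPolynomial (Fin n) k with hP
  set I := RingHom.ker (π : P →+* R) with hIdef
  set A := Localization.AtPrime I with hA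
  -- common denominator
  obtain ⟨b, hb⟩ := IsLocalization.exist_integer_multiples_of_finset I.primeCompl
    (Finset.univ.image (fun i : Fin n => ρ (π (MvPolynomial.X i))))
  have hb' : ∀ i : Fin n, ∃ p : P, algebraMap P A p = (b : P) • ρ (π (MvPolynomial.X i)) :=
    fun i => hb _ (Finset.mem_image_of_mem _ (Finset.mem_univ i))
  choose pp hpp using hb'
  set s₀ : P := (b : P) with hs₀def
  have hs₀I : s₀ ∉ I := b.2
  have hs₀ : π s₀ ≠ 0 := fun h => hs₀I (RingHom.mem_ker.mpr h)
  refine ⟨s₀, hs₀, ?_⟩
  have hu : IsUnit (algebraMap P A s₀) := IsLocalization.map_units A (⟨s₀, b.2⟩ : I.primeCompl)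
  have hAinj : Function.Injective (algebraMap P A) :=
    IsLocalization.injective A (Ideal.primeCompl_le_nonZeroDivisors I)
  let τ : Localization.Away s₀ →+* A := IsLocalization.Away.lift s₀ hu
  have hτ : ∀ p, τ (algebraMap P (Localization.Away s₀) p) = algebraMap P A p :=
    fun p => IsLocalization.Away.lift_eq s₀ hu p
  have hτinj : Function.Injective τ := away_lift_injective s₀ _ hu hAinj
  let q : Fin n → Localization.Away s₀ := fun i =>
    IsLocalization.mk' (Localization.Away s₀) (pp i)
      (⟨s₀, Submonoid.mem_powers s₀⟩ : Submonoid.powers s₀)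
  have hq : ∀ i, τ (q i) = ρ (π (MvPolynomial.X i)) := by
    intro i
    have h := IsLocalization.mk'_spec (Localization.Away s₀) (pp i)
      (⟨s₀, Submonoid.mem_powers s₀⟩ : Submonoid.powers s₀)
    have h2 := congrArg τ h
    rw [map_mul, hτ, hτ, hpp, Algebra.smul_def, mul_comm] at h2
    exact hu.mul_left_cancel h2
  let ρ₀ : P →ₐ[k] Localization.Away s₀ := MvPolynomial.aeval q
  have hτρ₀ : (τ.comp (ρ₀ : P →+* Localization.Away s₀)) = ρ.comp (π : P →+* R) := by
    apply MvPolynomial.ringHom_ext
    · intro c
      simp only [RingHom.comp_apply, RingHom.coe_coe]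
      rw [show ρ₀ (MvPolynomial.C c) = algebraMap k (Localization.Away s₀) c from
          MvPolynomial.aeval_C q c,
        IsScalarTower.algebraMap_apply k P (Localization.Away s₀), hτ,
        ← IsScalarTower.algebraMap_apply k P A, ← hρk c]
      congr 1
      exact (π.commutes c).symm
    · intro i
      simp only [RingHom.comp_apply, RingHom.coe_coe]
      rw [show ρ₀ (MvPolynomial.X i) = q i from MvPolynomial.aeval_X q i, hq]
  have hker : RingHom.ker (π : P →+* R) ≤ RingHom.ker (ρ₀ : P →+* Localization.Away s₀) := by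
    intro p hp
    rw [RingHom.mem_ker] at hp ⊢
    apply hτinj
    have := congr($hτρ₀ p)
    simp only [RingHom.comp_apply] at this
    rw [this, hp, map_zero, map_zero]
  let ρs : R →+* Localization.Away s₀ :=
    (π : P →+* R).liftOfSurjective hπ ⟨(ρ₀ : P →+* Localization.Away s₀), hker⟩
  have hρs : ∀ p, ρs (π p) = ρ₀ p := fun p =>
    RingHom.liftOfSurjective_comp_apply (π : P →+* R) hπ ⟨_, hker⟩ p
  have hτρs : ∀ r, τ (ρs r) = ρ r := by
    intro r
    obtain ⟨p, rfl⟩ := hπ r
    rw [hρs]
    exact congr($hτρ₀ p)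
  let πs : Localization.Away s₀ →+* Localization.Away (π s₀) :=
    IsLocalization.Away.lift s₀ (g := (algebraMap R (Localization.Away (π s₀))).comp
      (π : P →+* R)) (IsLocalization.Away.algebraMap_isUnit (π s₀))
  have hπs : ∀ p, πs (algebraMap P (Localization.Away s₀) p) =
      algebraMap R (Localization.Away (π s₀)) (π p) :=
    fun p => IsLocalization.Away.lift_eq s₀ _ p
  refine ⟨ρs, πs, hπs, ?_, ?_⟩
  · -- key identity
    have hker' : RingHom.ker (π : P →+* R) ≤
        RingHom.ker ((IsLocalRing.residue A).comp (algebraMap P A)) := by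
      intro p hp
      rw [RingHom.mem_ker, RingHom.comp_apply, IsLocalRing.residue_eq_zero_iff]
      exact (IsLocalization.AtPrime.to_map_mem_maximal_iff A I p).mpr hp
    let γ : R →+* IsLocalRing.ResidueField A :=
      (π : P →+* R).liftOfSurjective hπ ⟨_, hker'⟩
    have hγ : ∀ p, γ (π p) = IsLocalRing.residue A (algebraMap P A p) := fun p =>
      RingHom.liftOfSurjective_comp_apply (π : P →+* R) hπ ⟨_, hker'⟩ p
    have hγinj : Function.Injective γ := by
      rw [injective_iff_map_eq_zero]
      intro r hr
      obtain ⟨p, rfl⟩ := hπ r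
      rw [hγ, IsLocalRing.residue_eq_zero_iff,
        IsLocalization.AtPrime.to_map_mem_maximal_iff A I p] at hr
      exact RingHom.mem_ker.mp hr
    have hresρ : ∀ r, IsLocalRing.residue A (ρ r) = γ r := by
      intro r
      obtain ⟨p, rfl⟩ := hπ r
      rw [hρres, hγ]
    have hγu : IsUnit (γ (π s₀)) :=
      IsUnit.mk0 _ (fun h => hs₀ (hγinj (by rw [h, map_zero])))
    let θ : Localization.Away (π s₀) →+* IsLocalRing.ResidueField A :=
      IsLocalization.Away.lift (π s₀) hγu
    have hθ : ∀ r, θ (algebraMap R (Localization.Away (π s₀)) r) = γ r :=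
      fun r => IsLocalization.Away.lift_eq (π s₀) hγu r
    have hθinj : Function.Injective θ := away_lift_injective (π s₀) _ hγu hγinj
    have hθπ : θ.comp πs = (IsLocalRing.residue A).comp τ := by
      apply IsLocalization.ringHom_ext (Submonoid.powers s₀)
      refine RingHom.ext fun p => ?_
      simp only [RingHom.comp_apply]
      rw [hπs, hθ, hγ, hτ]
    intro r
    apply hθinj
    have := congr($hθπ (ρs r))
    simp only [RingHom.comp_apply] at this
    rw [this, hτρs, hresρ, hθ]
  · intro c
    rw [← π.commutes c, hρs]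
    rw [show ρ₀ (algebraMap k P c) = algebraMap k (Localization.Away s₀) c from
      ρ₀.commutes c]
    rw [IsScalarTower.algebraMap_apply k P (Localization.Away s₀)]
    rfl

theorem range_subset_of_closedPoint {A : Type u} [CommRing A] [IsLocalRing A] {Z : Scheme.{u}}
    (h : Spec (CommRingCat.of A) ⟶ Z) (O : Z.Opens)
    (hcl : h.base (IsLocalRing.closedPoint A) ∈ O) : Set.range h.base ⊆ (O : Set Z) := by
  rintro _ ⟨w, rfl⟩
  have hsp : @Specializes (↥(Spec (CommRingCat.of A))) _ w (IsLocalRing.closedPoint A) :=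
    (PrimeSpectrum.le_iff_specializes (w : PrimeSpectrum A) (IsLocalRing.closedPoint A)).mp
      (IsLocalRing.le_maximalIdeal w.isPrime.ne_top)
  exact (hsp.map h.continuous).mem_open O.isOpen hcl

theorem residue_base_eq (A : Type u) [CommRing A] [IsLocalRing A]
    (pt : Spec (CommRingCat.of (IsLocalRing.ResidueField A))) :
    (Spec.map (CommRingCat.ofHom (IsLocalRing.residue A))).base pt =
      IsLocalRing.closedPoint A := by
  apply PrimeSpectrum.ext
  change Ideal.comap (IsLocalRing.residue A) pt.asIdeal = IsLocalRing.maximalIdeal A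
  rw [Ideal.eq_bot_of_prime pt.asIdeal, ← RingHom.ker_eq_comap_bot, IsLocalRing.ker_residue]

set_option maxHeartbeats 3200000 in

/-- Let X be an integral scheme of finite type over a field k. The following are equivalent. (i) There
are a non-empty open subscheme U of X, an open subscheme Y of an affine space Spec k[x_1, ..., x_n]
and k-morphisms U → Y → U whose composite is the identity of U. (ii) There is a non-empty open
subscheme V of X such that for every local k-algebra A with residue field κ, every k-morphism Spec κ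
→ V lifts along Spec κ → Spec A to a k-morphism Spec A → V. (Local k-algebras are taken in the
universe of k.) -/
theorem result (k : Type u) [Field k] (X : Scheme.{u})
    (f : X ⟶ Spec (CommRingCat.of k)) [IsIntegral X] [LocallyOfFiniteType f] [QuasiCompact f] :
    (∃ (U : X.Opens) (n : ℕ) (Y : (Spec (CommRingCat.of (MvPolynomial (Fin n) k))).Opens)
        (a : (U : Scheme.{u}) ⟶ (Y : Scheme.{u})) (b : (Y : Scheme.{u}) ⟶ (U : Scheme.{u})),
        (U : Set X).Nonempty ∧ a ≫ b = 𝟙 (U : Scheme.{u}) ∧
        a ≫ Y.ι ≫ Spec.map (CommRingCat.ofHom (algebraMap k (MvPolynomial (Fin n) k))) = U.ι ≫ f ∧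
        b ≫ U.ι ≫ f = Y.ι ≫ Spec.map (CommRingCat.ofHom (algebraMap k (MvPolynomial (Fin n) k)))) ↔
    (∃ V : X.Opens, (V : Set X).Nonempty ∧
      ∀ (A : Type u) [CommRing A] [IsLocalRing A] [Algebra k A]
        (g : Spec (CommRingCat.of (IsLocalRing.ResidueField A)) ⟶ (V : Scheme.{u})),
        g ≫ V.ι ≫ f = Spec.map (CommRingCat.ofHom ((IsLocalRing.residue A).comp (algebraMap k A))) →
        ∃ g' : Spec (CommRingCat.of A) ⟶ (V : Scheme.{u}),
          Spec.map (CommRingCat.ofHom (IsLocalRing.residue A)) ≫ g' = g ∧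
          g' ≫ V.ι ≫ f = Spec.map (CommRingCat.ofHom (algebraMap k A))) := by
  classical
  constructor
  · rintro ⟨U, n, Y, a, b, hUne, hab, ha, hb⟩
    refine ⟨U, hUne, ?_⟩
    intro A _ _ _ g hg
    let φ : Spec (CommRingCat.of (IsLocalRing.ResidueField A)) ⟶
        Spec (CommRingCat.of (MvPolynomial (Fin n) k)) := g ≫ a ≫ Y.ι
    let e := Spec.preimage φ
    have he : Spec.map e = φ := Spec.map_preimage _
    have heC : ∀ c : k, e.hom (MvPolynomial.C c) =
        IsLocalRing.residue A (algebraMap k A c) := by
      have h1 : Spec.map (CommRingCat.ofHom (algebraMap k (MvPolynomial (Fin n) k)) ≫ e) =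
          Spec.map (CommRingCat.ofHom ((IsLocalRing.residue A).comp (algebraMap k A))) := by
        rw [Spec.map_comp, he, ← hg]
        simp only [φ, Category.assoc]
        rw [ha]
      have h2 := Spec.map_injective h1
      intro c
      exact congr($(h2).hom c)
    choose cf hcf using fun i : Fin n =>
      Ideal.Quotient.mk_surjective (I := IsLocalRing.maximalIdeal A) (e.hom (MvPolynomial.X i))
    let E : MvPolynomial (Fin n) k →ₐ[k] A := MvPolynomial.aeval cf
    have hE : (IsLocalRing.residue A).comp (E : MvPolynomial (Fin n) k →+* A) = e.hom := by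
      apply MvPolynomial.ringHom_ext
      · intro c
        simp only [RingHom.comp_apply, RingHom.coe_coe]
        rw [show E (MvPolynomial.C c) = algebraMap k A c from MvPolynomial.aeval_C cf c, heC]
      · intro i
        simp only [RingHom.comp_apply, RingHom.coe_coe]
        rw [show E (MvPolynomial.X i) = cf i from MvPolynomial.aeval_X cf i]
        exact hcf i
    let h₀ : Spec (CommRingCat.of A) ⟶ Spec (CommRingCat.of (MvPolynomial (Fin n) k)) :=
      Spec.map (CommRingCat.ofHom (E : MvPolynomial (Fin n) k →+* A))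
    have hres : Spec.map (CommRingCat.ofHom (IsLocalRing.residue A)) ≫ h₀ = φ := by
      rw [← he, ← Spec.map_comp]
      congr 1
      refine CommRingCat.hom_ext (RingHom.ext fun x => ?_)
      exact congr($hE x)
    have hrange : Set.range h₀.base ⊆ Set.range Y.ι.base := by
      rw [Scheme.Opens.range_ι]
      apply range_subset_of_closedPoint
      let pt : Spec (CommRingCat.of (IsLocalRing.ResidueField A)) :=
        (default : PrimeSpectrum (IsLocalRing.ResidueField A))
      rw [← residue_base_eq A pt]
      have h2 : h₀.base ((Spec.map (CommRingCat.ofHom (IsLocalRing.residue A))).base pt) =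
          φ.base pt := by rw [← hres]; rfl
      rw [h2]
      have h3 : Y.ι.base (a.base (g.base pt)) ∈ Set.range Y.ι.base := ⟨_, rfl⟩
      rw [Scheme.Opens.range_ι] at h3
      exact h3
    let h := IsOpenImmersion.lift Y.ι h₀ hrange
    have hh : h ≫ Y.ι = h₀ := IsOpenImmersion.lift_fac _ _ _
    refine ⟨h ≫ b, ?_, ?_⟩
    · have h3 : Spec.map (CommRingCat.ofHom (IsLocalRing.residue A)) ≫ h = g ≫ a := by
        rw [← cancel_mono Y.ι, Category.assoc, hh, hres, Category.assoc]
      rw [← Category.assoc, h3, Category.assoc, hab, Category.comp_id]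
    · rw [Category.assoc, hb, ← Category.assoc, hh, ← Spec.map_comp]
      congr 1
      ext c
      exact E.commutes c
  · rintro ⟨V, ⟨v, hv⟩, hV⟩
    obtain ⟨V', hV'aff, hvV', hV'V⟩ := exists_isAffineOpen_mem_and_subset (X := X) (x := v)
      (U := V) hv
    let iV' := hV'aff.fromSpec
    letI algR : Algebra k Γ(X, V') := (Spec.preimage (iV' ≫ f)).hom.toAlgebra
    have hRf : Spec.map (CommRingCat.ofHom (algebraMap k Γ(X, V'))) = iV' ≫ f :=
      Spec.map_preimage _
    have hft : Algebra.FiniteType k Γ(X, V') := by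
      have h1 : LocallyOfFiniteType (iV' ≫ f) := inferInstance
      rw [← hRf, HasRingHomProperty.Spec_iff (P := @LocallyOfFiniteType)] at h1
      exact RingHom.finiteType_algebraMap.mp h1
    haveI : Nonempty V' := ⟨⟨v, hvV'⟩⟩
    haveI : IsDomain Γ(X, V') := inferInstance
    obtain ⟨n, π, hπ⟩ := Algebra.FiniteType.iff_quotient_mvPolynomial''.mp hft
    haveI hI : (RingHom.ker (π : MvPolynomial (Fin n) k →+* Γ(X, V'))).IsPrime :=
      RingHom.ker_isPrime _
    let A := Localization.AtPrime (RingHom.ker (π : MvPolynomial (Fin n) k →+* Γ(X, V')))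
    have hker' : RingHom.ker (π : MvPolynomial (Fin n) k →+* Γ(X, V')) ≤
        RingHom.ker ((IsLocalRing.residue A).comp (algebraMap (MvPolynomial (Fin n) k) A)) := by
      intro p hp
      rw [RingHom.mem_ker, RingHom.comp_apply, IsLocalRing.residue_eq_zero_iff]
      exact (IsLocalization.AtPrime.to_map_mem_maximal_iff A _ p).mpr hp
    let γ : Γ(X, V') →+* IsLocalRing.ResidueField A :=
      (π : MvPolynomial (Fin n) k →+* Γ(X, V')).liftOfSurjective hπ ⟨_, hker'⟩
    have hγ : ∀ p, γ (π p) = IsLocalRing.residue A (algebraMap (MvPolynomial (Fin n) k) A p) :=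
      fun p => RingHom.liftOfSurjective_comp_apply
        (π : MvPolynomial (Fin n) k →+* Γ(X, V')) hπ ⟨_, hker'⟩ p
    have hrV : Set.range iV'.base ⊆ Set.range V.ι.base := by
      rw [Scheme.Opens.range_ι]
      have : Set.range iV'.base = V' := hV'aff.range_fromSpec
      rw [this]
      exact hV'V
    let jV' := IsOpenImmersion.lift V.ι iV' hrV
    have hjV' : jV' ≫ V.ι = iV' := IsOpenImmersion.lift_fac _ _ _
    haveI : IsOpenImmersion (jV' ≫ V.ι) := by rw [hjV']; infer_instance
    haveI : IsOpenImmersion jV' := IsOpenImmersion.of_comp jV' V.ι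
    let g : Spec (CommRingCat.of (IsLocalRing.ResidueField A)) ⟶ (V : Scheme.{u}) :=
      Spec.map (CommRingCat.ofHom γ) ≫ jV'
    have hg : g ≫ V.ι ≫ f =
        Spec.map (CommRingCat.ofHom ((IsLocalRing.residue A).comp (algebraMap k A))) := by
      simp only [g, Category.assoc]
      rw [← Category.assoc jV', hjV', ← hRf, ← Spec.map_comp]
      congr 1
      ext c
      change γ (algebraMap k Γ(X, V') c) = IsLocalRing.residue A (algebraMap k A c)
      rw [← π.commutes c, hγ, ← IsScalarTower.algebraMap_apply]
    obtain ⟨g', hg'1, hg'2⟩ := hV A g hg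
    have hrange' : Set.range g'.base ⊆ Set.range jV'.base := by
      have h1 := range_subset_of_closedPoint g' jV'.opensRange (by
        let pt : Spec (CommRingCat.of (IsLocalRing.ResidueField A)) :=
          (default : PrimeSpectrum (IsLocalRing.ResidueField A))
        rw [← residue_base_eq A pt]
        have h2 : g'.base ((Spec.map (CommRingCat.ofHom (IsLocalRing.residue A))).base pt) =
            g.base pt := by rw [← hg'1]; rfl
        rw [h2]
        exact ⟨(Spec.map (CommRingCat.ofHom γ)).base pt, rfl⟩)
      exact h1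
    let g'' := IsOpenImmersion.lift jV' g' hrange'
    have hg'' : g'' ≫ jV' = g' := IsOpenImmersion.lift_fac _ _ _
    let ρc := Spec.preimage g''
    have hρc : Spec.map ρc = g'' := Spec.map_preimage _
    have hρres : ∀ r, IsLocalRing.residue A (ρc.hom r) = γ r := by
      have h1 : Spec.map (ρc ≫ CommRingCat.ofHom (IsLocalRing.residue A)) =
          Spec.map (CommRingCat.ofHom γ) := by
        rw [Spec.map_comp, hρc, ← cancel_mono jV', Category.assoc, hg'', hg'1]
      have h2 := Spec.map_injective h1
      intro r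
      exact congr($(h2).hom r)
    have hρk : ∀ c : k, ρc.hom (algebraMap k Γ(X, V') c) = algebraMap k A c := by
      have h1 : Spec.map (CommRingCat.ofHom (algebraMap k Γ(X, V')) ≫ ρc) =
          Spec.map (CommRingCat.ofHom (algebraMap k A)) := by
        rw [Spec.map_comp, hρc, hRf, ← hjV']
        simp only [Category.assoc]
        rw [← Category.assoc, hg'', hg'2]
      have h2 := Spec.map_injective h1
      intro c
      exact congr($(h2).hom c)
    obtain ⟨s₀, hs₀, ρs, πs, hπs, hπρ, hρsk⟩ :=
      alg_spread π hπ ρc.hom (fun p => by rw [hρres, hγ]) hρk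
    -- geometry
    let loc : Spec (CommRingCat.of (Localization.Away (π s₀))) ⟶ Spec Γ(X, V') :=
      Spec.map (CommRingCat.ofHom (algebraMap Γ(X, V') (Localization.Away (π s₀))))
    let iS : Spec (CommRingCat.of (Localization.Away s₀)) ⟶
        Spec (CommRingCat.of (MvPolynomial (Fin n) k)) :=
      Spec.map (CommRingCat.ofHom (algebraMap (MvPolynomial (Fin n) k) (Localization.Away s₀)))
    haveI : IsOpenImmersion loc := inferInstance
    haveI : IsOpenImmersion iS := inferInstance
    let b₀ : Spec (CommRingCat.of (Localization.Away s₀)) ⟶ Spec Γ(X, V') :=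
      Spec.map (CommRingCat.ofHom ρs)
    let cs : Spec (CommRingCat.of (Localization.Away (π s₀))) ⟶
        Spec (CommRingCat.of (Localization.Away s₀)) := Spec.map (CommRingCat.ofHom πs)
    let cπ : Spec Γ(X, V') ⟶ Spec (CommRingCat.of (MvPolynomial (Fin n) k)) :=
      Spec.map (CommRingCat.ofHom (π : MvPolynomial (Fin n) k →+* Γ(X, V')))
    have hcsb : cs ≫ b₀ = loc := by
      simp only [cs, b₀, loc]
      rw [← Spec.map_comp]
      congr 1
      ext r
      exact hπρ r
    have hcsi : cs ≫ iS = loc ≫ cπ := by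
      simp only [cs, iS, loc, cπ]
      rw [← Spec.map_comp, ← Spec.map_comp]
      congr 1
      refine CommRingCat.hom_ext (RingHom.ext fun p => ?_)
      exact hπs p
    have hcπ : cπ ≫ Spec.map (CommRingCat.ofHom (algebraMap k (MvPolynomial (Fin n) k))) =
        Spec.map (CommRingCat.ofHom (algebraMap k Γ(X, V'))) := by
      simp only [cπ]
      rw [← Spec.map_comp]
      congr 1
      ext c
      exact π.commutes c
    have hb₀k : b₀ ≫ Spec.map (CommRingCat.ofHom (algebraMap k Γ(X, V'))) =
        iS ≫ Spec.map (CommRingCat.ofHom (algebraMap k (MvPolynomial (Fin n) k))) := by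
      simp only [b₀, iS]
      rw [← Spec.map_comp, ← Spec.map_comp]
      congr 1
      ext c
      exact hρsk c
    let Y₀ : (Spec (CommRingCat.of (Localization.Away s₀))).Opens := b₀ ⁻¹ᵁ loc.opensRange
    let iU : Spec (CommRingCat.of (Localization.Away (π s₀))) ⟶ X := loc ≫ iV'
    haveI : IsOpenImmersion iU := inferInstance
    let iY : (Y₀ : Scheme.{u}) ⟶ Spec (CommRingCat.of (MvPolynomial (Fin n) k)) := Y₀.ι ≫ iS
    haveI : IsOpenImmersion iY := inferInstance
    let eU := iU.isoOpensRange
    let eY := iY.isoOpensRange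
    have heU : eU.hom ≫ iU.opensRange.ι = iU := iU.isoOpensRange_hom_ι
    have heY : eY.hom ≫ iY.opensRange.ι = iY := iY.isoOpensRange_hom_ι
    have heU' : iU.opensRange.ι = eU.inv ≫ iU := (Iso.eq_inv_comp eU).mpr heU
    have heY' : iY.opensRange.ι = eY.inv ≫ iY := (Iso.eq_inv_comp eY).mpr heY
    have hrβ : Set.range (Y₀.ι ≫ b₀).base ⊆ Set.range loc.base := by
      rintro _ ⟨y, rfl⟩
      have h3 : Y₀.ι.base y ∈ Set.range Y₀.ι.base := ⟨_, rfl⟩
      rw [Scheme.Opens.range_ι] at h3
      exact h3
    let β' := IsOpenImmersion.lift loc (Y₀.ι ≫ b₀) hrβ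
    have hβ' : β' ≫ loc = Y₀.ι ≫ b₀ := IsOpenImmersion.lift_fac _ _ _
    have hrα : Set.range cs.base ⊆ Set.range Y₀.ι.base := by
      rw [Scheme.Opens.range_ι]
      rintro _ ⟨u, rfl⟩
      change b₀.base (cs.base u) ∈ Set.range loc.base
      have : b₀.base (cs.base u) = loc.base u := by rw [← hcsb]; rfl
      rw [this]
      exact ⟨u, rfl⟩
    let α' := IsOpenImmersion.lift Y₀.ι cs hrα
    have hα' : α' ≫ Y₀.ι = cs := IsOpenImmersion.lift_fac _ _ _
    have hαβ : α' ≫ β' = 𝟙 _ := by
      rw [← cancel_mono loc, Category.assoc, hβ', ← Category.assoc, hα', hcsb, Category.id_comp]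
    -- nonemptiness
    have hinjR : Function.Injective (algebraMap Γ(X, V') (Localization.Away (π s₀))) :=
      IsLocalization.injective (Localization.Away (π s₀))
        (powers_le_nonZeroDivisors_of_noZeroDivisors hs₀)
    haveI : Nontrivial (Localization.Away (π s₀)) := hinjR.nontrivial
    obtain ⟨u₀⟩ : Nonempty (PrimeSpectrum (Localization.Away (π s₀))) := inferInstance
    refine ⟨iU.opensRange, n, iY.opensRange, eU.inv ≫ α' ≫ eY.hom, eY.inv ≫ β' ≫ eU.hom,
      ⟨iU.base u₀, ⟨u₀, rfl⟩⟩, ?_, ?_, ?_⟩
    · simp only [Category.assoc, Iso.hom_inv_id_assoc]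
      rw [← Category.assoc α', hαβ, Category.id_comp, Iso.inv_hom_id]
    · rw [heU', heY']
      simp only [Category.assoc, Iso.hom_inv_id_assoc]
      simp only [iY, iU, Category.assoc]
      rw [← Category.assoc α', hα', ← Category.assoc cs, hcsi, Category.assoc, hcπ, hRf]
    · rw [heU', heY']
      simp only [Category.assoc, Iso.hom_inv_id_assoc]
      simp only [iY, iU, Category.assoc]
      rw [← Category.assoc β', hβ', Category.assoc, ← hRf, hb₀k]

end Groth.Agent.S15695
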