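import Groth.Statements.S15699
import Mathlib

set_option autoImplicit false
universe u
open CategoryTheory CategoryTheory.Limits AlgebraicGeometry
open RatVar

namespace Groth.Agent.S15699

section

variable {k : Type u} [Field k]

lemma iso_inv_hom_apply {A B : Scheme.{u}} (e : A ≅ B) (x : A) : e.inv (e.hom x) = x :=
  congr(($(e.hom_inv_id)).base x)

/-- reindexing isomorphism of affine spaces -/
noncomputable def renIso (k : Type u) [Field k] {ν : Type u} {n : ℕ} (eqv : ν ≃ Fin n) :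
    Spec (CommRingCat.of (MvPolynomial ν k)) ≅ Spec (CommRingCat.of (MvPolynomial (Fin n) k)) where
  hom := Spec.map (CommRingCat.ofHom
    (MvPolynomial.rename eqv.symm : MvPolynomial (Fin n) k →ₐ[k] MvPolynomial ν k).toRingHom)
  inv := Spec.map (CommRingCat.ofHom
    (MvPolynomial.rename eqv : MvPolynomial ν k →ₐ[k] MvPolynomial (Fin n) k).toRingHom)
  hom_inv_id := by
    rw [← Spec.map_comp, ← Spec.map_id]
    congr 1
    apply CommRingCat.hom_ext
    apply RingHom.ext
    intro x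
    change MvPolynomial.rename eqv.symm (MvPolynomial.rename eqv x) = x
    rw [MvPolynomial.rename_rename, Equiv.symm_comp_self, MvPolynomial.rename_id_apply]
  inv_hom_id := by
    rw [← Spec.map_comp, ← Spec.map_id]
    congr 1
    apply CommRingCat.hom_ext
    apply RingHom.ext
    intro x
    change MvPolynomial.rename eqv (MvPolynomial.rename eqv.symm x) = x
    rw [MvPolynomial.rename_rename, Equiv.self_comp_symm, MvPolynomial.rename_id_apply]

lemma renIso_inv_over {ν : Type u} {n : ℕ} (eqv : ν ≃ Fin n) :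
    (renIso k eqv).inv ≫ Spec.map (CommRingCat.ofHom (algebraMap k (MvPolynomial ν k))) =
      Spec.map (CommRingCat.ofHom (algebraMap k (MvPolynomial (Fin n) k))) := by
  change Spec.map _ ≫ Spec.map _ = _
  rw [← Spec.map_comp]
  congr 1
  apply CommRingCat.hom_ext
  apply RingHom.ext
  intro x
  exact (MvPolynomial.rename eqv : MvPolynomial ν k →ₐ[k] MvPolynomial (Fin n) k).commutes x

/-- a dense open of an affine space which is locally of finite type has finitely many variables -/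
lemma finite_of_lft {ν : Type u} (T' : (Spec (CommRingCat.of (MvPolynomial ν k))).Opens)
    (hne : (T' : Set (Spec (CommRingCat.of (MvPolynomial ν k)))).Nonempty)
    (hlft : LocallyOfFiniteType
      (T'.ι ≫ Spec.map (CommRingCat.ofHom (algebraMap k (MvPolynomial ν k))))) : Finite ν := by
  obtain ⟨t, ht⟩ := hne
  let T₀ : Set (PrimeSpectrum (MvPolynomial ν k)) :=
    (T' : Set ↥(Spec (CommRingCat.of (MvPolynomial ν k))))
  have ht₀ : (t : PrimeSpectrum (MvPolynomial ν k)) ∈ T₀ := ht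
  have hT₀ : IsOpen T₀ := T'.isOpen
  obtain ⟨_, ⟨h, rfl⟩, hth, hhT⟩ :=
    PrimeSpectrum.isTopologicalBasis_basic_opens.exists_subset_of_mem_open ht₀ hT₀
  have hh0 : h ≠ 0 := by
    rintro rfl
    have : (0 : MvPolynomial ν k) ∉ t.asIdeal := hth
    exact this (Ideal.zero_mem _)
  have hgM : Submonoid.powers h ≤ nonZeroDivisors (MvPolynomial ν k) :=
    powers_le_nonZeroDivisors_of_noZeroDivisors hh0
  haveI : IsDomain (Localization.Away h) := IsLocalization.isDomain_localization hgM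
  set ιh : Spec (CommRingCat.of (Localization.Away h)) ⟶
      Spec (CommRingCat.of (MvPolynomial ν k)) :=
    Spec.map (CommRingCat.ofHom (algebraMap (MvPolynomial ν k) (Localization.Away h))) with hιh
  haveI : IsOpenImmersion ιh := by rw [hιh]; infer_instance
  have hrange : Set.range ιh = ((PrimeSpectrum.basicOpen h :
      TopologicalSpace.Opens (PrimeSpectrum (MvPolynomial ν k))) :
      Set (PrimeSpectrum (MvPolynomial ν k))) := by
    rw [← PrimeSpectrum.localization_away_comap_range (Localization.Away h) h]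
    rfl
  have hsub : Set.range ιh ⊆ Set.range T'.ι := by
    rw [hrange, Scheme.Opens.range_ι]
    exact hhT
  let j := IsOpenImmersion.lift T'.ι ιh hsub
  have hj : j ≫ T'.ι = ιh := IsOpenImmersion.lift_fac _ _ _
  haveI : IsOpenImmersion (j ≫ T'.ι) := by rw [hj]; infer_instance
  haveI : IsOpenImmersion j := IsOpenImmersion.of_comp j T'.ι
  have h1 : LocallyOfFiniteType
      (j ≫ T'.ι ≫ Spec.map (CommRingCat.ofHom (algebraMap k (MvPolynomial ν k)))) := inferInstance
  have h2 : j ≫ T'.ι ≫ Spec.map (CommRingCat.ofHom (algebraMap k (MvPolynomial ν k))) =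
      Spec.map (CommRingCat.ofHom (algebraMap k (Localization.Away h))) := by
    rw [← Category.assoc, hj, hιh, ← Spec.map_comp]
    congr 1
  rw [h2, HasRingHomProperty.Spec_iff (P := @LocallyOfFiniteType)] at h1
  have h4 : Algebra.FiniteType k (Localization.Away h) := RingHom.finiteType_algebraMap.mp h1
  have hx : AlgebraicIndependent k (fun i : ν =>
      algebraMap (MvPolynomial ν k) (Localization.Away h) (MvPolynomial.X i)) :=
    (MvPolynomial.algebraicIndependent_X ν k).map'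
      (f := IsScalarTower.toAlgHom k (MvPolynomial ν k) (Localization.Away h))
      (IsLocalization.injective (Localization.Away h) hgM)
  have h5 := hx.lift_cardinalMk_le_trdeg
  have h6 : Algebra.trdeg k (Localization.Away h) < Cardinal.aleph0 :=
    trdeg_lt_aleph0_of_finiteType
  rw [← Cardinal.lt_aleph0_iff_finite]
  have h7 : Cardinal.lift.{u} (Cardinal.mk ν) < Cardinal.aleph0 := by
    refine lt_of_le_of_lt h5 ?_
    rw [Cardinal.lift_lt_aleph0]
    exact h6
  simpa using h7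

/-- a `k`-rational point in a nonempty open of affine space over an infinite field -/
lemma exists_kpoint [Infinite k] (n : ℕ)
    (T : (Spec (CommRingCat.of (MvPolynomial (Fin n) k))).Opens)
    (hne : (T : Set (Spec (CommRingCat.of (MvPolynomial (Fin n) k)))).Nonempty) :
    ∃ p : Spec (CommRingCat.of k) ⟶ Spec (CommRingCat.of (MvPolynomial (Fin n) k)),
      p ≫ Spec.map (CommRingCat.ofHom (algebraMap k (MvPolynomial (Fin n) k))) = 𝟙 _ ∧
        ∀ s, p s ∈ T := by
  obtain ⟨t, ht⟩ := hne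
  let T₀ : Set (PrimeSpectrum (MvPolynomial (Fin n) k)) :=
    (T : Set ↥(Spec (CommRingCat.of (MvPolynomial (Fin n) k))))
  have ht₀ : (t : PrimeSpectrum (MvPolynomial (Fin n) k)) ∈ T₀ := ht
  have hT₀ : IsOpen T₀ := T.isOpen
  obtain ⟨_, ⟨h, rfl⟩, hth, hhT⟩ :=
    PrimeSpectrum.isTopologicalBasis_basic_opens.exists_subset_of_mem_open ht₀ hT₀
  have hh0 : h ≠ 0 := by
    rintro rfl
    have : (0 : MvPolynomial (Fin n) k) ∉ t.asIdeal := hth
    exact this (Ideal.zero_mem _)
  obtain ⟨c, hc⟩ : ∃ c : Fin n → k, MvPolynomial.eval c h ≠ 0 := by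
    by_contra hcon
    simp only [not_exists, not_not] at hcon
    exact hh0 (MvPolynomial.funext (fun x => by rw [hcon x, map_zero]))
  refine ⟨Spec.map (CommRingCat.ofHom (MvPolynomial.eval c)), ?_, ?_⟩
  · rw [← Spec.map_comp, ← Spec.map_id]
    congr 1
    apply CommRingCat.hom_ext
    apply RingHom.ext
    intro x
    change MvPolynomial.eval c (algebraMap k (MvPolynomial (Fin n) k) x) = x
    rw [MvPolynomial.algebraMap_eq, MvPolynomial.eval_C]
  · intro s
    apply hhT
    change h ∉ Ideal.comap (MvPolynomial.eval c) s.asIdeal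
    intro hmem
    have h1 : MvPolynomial.eval c h ∈ s.asIdeal := hmem
    exact s.isPrime.ne_top (Ideal.eq_top_of_isUnit_mem _ h1 (IsUnit.mk0 _ hc))

set_option maxHeartbeats 1600000 in
theorem main {X Y : Scheme.{u}} (f : X ⟶ Spec (CommRingCat.of k))
    (g : Y ⟶ Spec (CommRingCat.of k)) (n : ℕ)
    (V : (pullback f g).Opens) (T : (Spec (CommRingCat.of (MvPolynomial (Fin n) k))).Opens)
    (ε : (V : Scheme.{u}) ≅ (T : Scheme.{u}))
    (hε : ε.hom ≫ T.ι ≫ Spec.map (CommRingCat.ofHom (algebraMap k (MvPolynomial (Fin n) k))) =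
      V.ι ≫ pullback.fst f g ≫ f)
    (p : Spec (CommRingCat.of k) ⟶ Spec (CommRingCat.of (MvPolynomial (Fin n) k)))
    (hp : p ≫ Spec.map (CommRingCat.ofHom (algebraMap k (MvPolynomial (Fin n) k))) = 𝟙 _)
    (hpT : ∀ s, p s ∈ T) :
    ∃ (U : X.Opens) (Y' : (Spec (CommRingCat.of (MvPolynomial (Fin n) k))).Opens)
        (a : (U : Scheme.{u}) ⟶ (Y' : Scheme.{u})) (b : (Y' : Scheme.{u}) ⟶ (U : Scheme.{u})),
        (U : Set X).Nonempty ∧ a ≫ b = 𝟙 (U : Scheme.{u}) ∧
        a ≫ Y'.ι ≫ Spec.map (CommRingCat.ofHom (algebraMap k (MvPolynomial (Fin n) k))) = U.ι ≫ f ∧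
        b ≫ U.ι ≫ f = Y'.ι ≫ Spec.map (CommRingCat.ofHom (algebraMap k (MvPolynomial (Fin n) k))) := by
  set pA := Spec.map (CommRingCat.ofHom (algebraMap k (MvPolynomial (Fin n) k))) with hpA
  let γ : (T : Scheme.{u}) ⟶ pullback f g := ε.inv ≫ V.ι
  have hγ : γ ≫ pullback.fst f g ≫ f = T.ι ≫ pA := by
    change (ε.inv ≫ V.ι) ≫ pullback.fst f g ≫ f = _
    rw [Category.assoc, ← hε, Iso.inv_hom_id_assoc]
  have hpr : Set.range p ⊆ Set.range T.ι := by
    rw [Scheme.Opens.range_ι]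
    rintro _ ⟨s, rfl⟩
    exact hpT s
  let p' : Spec (CommRingCat.of k) ⟶ (T : Scheme.{u}) := IsOpenImmersion.lift T.ι p hpr
  have hp' : p' ≫ T.ι = p := IsOpenImmersion.lift_fac _ _ _
  let ζ : Spec (CommRingCat.of k) ⟶ pullback f g := p' ≫ γ
  have hζ : ζ ≫ pullback.fst f g ≫ f = 𝟙 _ := by
    change (p' ≫ γ) ≫ pullback.fst f g ≫ f = _
    rw [Category.assoc, hγ, ← Category.assoc, hp', hp]
  let y₀ : Spec (CommRingCat.of k) ⟶ Y := ζ ≫ pullback.snd f g
  have hy₀ : y₀ ≫ g = 𝟙 _ := by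
    change (ζ ≫ pullback.snd f g) ≫ g = _
    rw [Category.assoc, ← pullback.condition, hζ]
  let s : X ⟶ pullback f g := pullback.lift (𝟙 X) (f ≫ y₀)
    (by rw [Category.id_comp, Category.assoc, hy₀, Category.comp_id])
  have hs1 : s ≫ pullback.fst f g = 𝟙 X := pullback.lift_fst _ _ _
  have hs2 : s ≫ pullback.snd f g = f ≫ y₀ := pullback.lift_snd _ _ _
  let U : X.Opens := s ⁻¹ᵁ V
  have hζs : (ζ ≫ pullback.fst f g) ≫ s = ζ := by
    apply pullback.hom_ext
    · rw [Category.assoc, hs1, Category.comp_id]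
    · rw [Category.assoc, hs2, ← Category.assoc, Category.assoc ζ, hζ, Category.id_comp]
  have hUne : (U : Set X).Nonempty := by
    obtain ⟨pt⟩ : Nonempty (Spec (CommRingCat.of k)) := inferInstance
    refine ⟨(ζ ≫ pullback.fst f g) pt, ?_⟩
    change s ((ζ ≫ pullback.fst f g) pt) ∈ V
    rw [← Scheme.Hom.comp_apply, hζs]
    change (p' ≫ ε.inv ≫ V.ι) pt ∈ V
    rw [Scheme.Hom.comp_apply, Scheme.Hom.comp_apply]
    exact (ε.inv (p' pt)).2
  have hrV : Set.range (U.ι ≫ s) ⊆ Set.range V.ι := by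
    rw [Scheme.Opens.range_ι]
    rintro _ ⟨u, rfl⟩
    exact u.2
  let liftV : (U : Scheme.{u}) ⟶ (V : Scheme.{u}) := IsOpenImmersion.lift V.ι (U.ι ≫ s) hrV
  have hliftV : liftV ≫ V.ι = U.ι ≫ s := IsOpenImmersion.lift_fac _ _ _
  let a₁ : (U : Scheme.{u}) ⟶ Spec (CommRingCat.of (MvPolynomial (Fin n) k)) :=
    liftV ≫ ε.hom ≫ T.ι
  let b₁ : (T : Scheme.{u}) ⟶ X := γ ≫ pullback.fst f g
  have hkey : liftV ≫ ε.hom ≫ b₁ = U.ι := by
    change liftV ≫ ε.hom ≫ (ε.inv ≫ V.ι) ≫ pullback.fst f g = _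
    rw [Category.assoc, Iso.hom_inv_id_assoc, ← Category.assoc, hliftV, Category.assoc, hs1,
      Category.comp_id]
  let Y' : (Spec (CommRingCat.of (MvPolynomial (Fin n) k))).Opens := T.ι ''ᵁ (b₁ ⁻¹ᵁ U)
  have hle : Y' ≤ T := by
    rintro _ ⟨t, _, rfl⟩
    exact t.2
  have hra : Set.range a₁ ⊆ Set.range Y'.ι := by
    rw [Scheme.Opens.range_ι]
    rintro _ ⟨u, rfl⟩
    refine ⟨ε.hom (liftV u), ?_, ?_⟩
    · change b₁ (ε.hom (liftV u)) ∈ U
      rw [← Scheme.Hom.comp_apply, ← Scheme.Hom.comp_apply, hkey]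
      exact u.2
    · change T.ι (ε.hom (liftV u)) = (liftV ≫ ε.hom ≫ T.ι) u
      rw [Scheme.Hom.comp_apply, Scheme.Hom.comp_apply]
  let a : (U : Scheme.{u}) ⟶ (Y' : Scheme.{u}) := IsOpenImmersion.lift Y'.ι a₁ hra
  have ha : a ≫ Y'.ι = a₁ := IsOpenImmersion.lift_fac _ _ _
  let hom' : (Y' : Scheme.{u}) ⟶ (T : Scheme.{u}) :=
    (Spec (CommRingCat.of (MvPolynomial (Fin n) k))).homOfLE hle
  have hhom' : hom' ≫ T.ι = Y'.ι := Scheme.homOfLE_ι _ _
  have hrb : Set.range (hom' ≫ b₁) ⊆ Set.range U.ι := by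
    rw [Scheme.Opens.range_ι]
    rintro _ ⟨y', rfl⟩
    obtain ⟨t, ht, hty⟩ := y'.2
    have hty' : T.ι t = Y'.ι y' := hty
    have h1 : t = hom' y' := T.ι.isOpenEmbedding.injective (by
      rw [hty', ← Scheme.Hom.comp_apply, hhom'])
    rw [Scheme.Hom.comp_apply, ← h1]
    exact ht
  let b : (Y' : Scheme.{u}) ⟶ (U : Scheme.{u}) := IsOpenImmersion.lift U.ι (hom' ≫ b₁) hrb
  have hb : b ≫ U.ι = hom' ≫ b₁ := IsOpenImmersion.lift_fac _ _ _
  have hah : a ≫ hom' = liftV ≫ ε.hom := by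
    rw [← cancel_mono T.ι, Category.assoc, hhom', ha, Category.assoc]
  refine ⟨U, Y', a, b, hUne, ?_, ?_, ?_⟩
  · rw [← cancel_mono U.ι, Category.assoc, hb, ← Category.assoc, hah, Category.assoc, hkey,
      Category.id_comp]
  · rw [← Category.assoc, ha]
    change (liftV ≫ ε.hom ≫ T.ι) ≫ pA = _
    rw [Category.assoc, Category.assoc, hε, ← Category.assoc, hliftV, Category.assoc,
      ← Category.assoc s, hs1, Category.id_comp]
  · rw [← Category.assoc, hb, Category.assoc]
    change hom' ≫ (γ ≫ pullback.fst f g) ≫ f = _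
    rw [Category.assoc, hγ, ← Category.assoc, hhom']

end

/-- A direct factor of a k-rational variety is retract rational over k. Here k is an infinite field, X
and Y are integral schemes of finite type over k whose fibre product over k is integral and rational
over k (birational over k, through dense open subschemes, to an affine space over k); the conclusion
is that some non-empty open subscheme U of X admits k-morphisms U → Y' → U with composite the
identity, Y' an open subscheme of an affine space Spec k[x_1, ..., x_n]. (The published statement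
allows any field k; the argument picks a k-rational point of the given open set, so k is taken
infinite here.) -/
theorem result (k : Type u) [Field k] [Infinite k]
    (X Y : Scheme.{u}) (f : X ⟶ Spec (CommRingCat.of k)) (g : Y ⟶ Spec (CommRingCat.of k))
    [IsIntegral X] [LocallyOfFiniteType f] [QuasiCompact f]
    [IsIntegral Y] [LocallyOfFiniteType g] [QuasiCompact g] [IsIntegral (pullback f g)]
    [Scheme.IsRationalOver (pullback.fst f g ≫ f)] :
    ∃ (U : X.Opens) (n : ℕ) (Y' : (Spec (CommRingCat.of (MvPolynomial (Fin n) k))).Opens)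
        (a : (U : Scheme.{u}) ⟶ (Y' : Scheme.{u})) (b : (Y' : Scheme.{u}) ⟶ (U : Scheme.{u})),
        (U : Set X).Nonempty ∧ a ≫ b = 𝟙 (U : Scheme.{u}) ∧
        a ≫ Y'.ι ≫ Spec.map (CommRingCat.ofHom (algebraMap k (MvPolynomial (Fin n) k))) = U.ι ≫ f ∧
        b ≫ U.ι ≫ f = Y'.ι ≫ Spec.map (CommRingCat.ofHom (algebraMap k (MvPolynomial (Fin n) k))) := by
  obtain ⟨ν, pi, hover⟩ :=
    Scheme.IsRationalOver.exists_birationalOver_affineSpace (pullback.fst f g ≫ f)
  -- hover : pi.iso.hom ≫ pi.target.ι ≫ (𝔸 ↘ S) = pi.source.ι ≫ (fst ≫ f)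
  have hover' : pi.iso.hom ≫ pi.target.ι ≫ (𝔸(ν; Spec (CommRingCat.of k)) ↘ Spec (CommRingCat.of k)) =
      pi.source.ι ≫ pullback.fst f g ≫ f := hover
  obtain ⟨v₀, hv₀⟩ := pi.dense_source.nonempty
  set σ := AffineSpace.SpecIso ν (CommRingCat.of k) with hσ
  have hσover : σ.inv ≫ (𝔸(ν; Spec (CommRingCat.of k)) ↘ Spec (CommRingCat.of k)) =
      Spec.map (CommRingCat.ofHom (algebraMap k (MvPolynomial ν k))) :=
    AffineSpace.SpecIso_inv_over (n := ν) (CommRingCat.of k)
  -- finiteness of ν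
  have hfin : Finite ν := by
    apply finite_of_lft (k := k) (σ.inv ⁻¹ᵁ pi.target)
    · refine ⟨σ.hom (pi.target.ι (pi.iso.hom ⟨v₀, hv₀⟩)), ?_⟩
      change σ.inv (σ.hom (pi.target.ι (pi.iso.hom ⟨v₀, hv₀⟩))) ∈ pi.target
      rw [iso_inv_hom_apply]
      exact (pi.iso.hom ⟨v₀, hv₀⟩).2
    · have h1 : (σ.inv ⁻¹ᵁ pi.target).ι ≫
          Spec.map (CommRingCat.ofHom (algebraMap k (MvPolynomial ν k))) =
          (σ.inv ∣_ pi.target) ≫ pi.iso.inv ≫ pi.source.ι ≫ pullback.fst f g ≫ f := by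
        rw [← hover', Iso.inv_hom_id_assoc, ← hσover, ← Category.assoc, ← Category.assoc,
          morphismRestrict_ι]
      rw [h1]
      infer_instance
  obtain ⟨n, ⟨eqv⟩⟩ := Finite.exists_equiv_fin ν
  set Sg := σ ≪≫ renIso k eqv with hSg
  have hSgover : Sg.inv ≫ (𝔸(ν; Spec (CommRingCat.of k)) ↘ Spec (CommRingCat.of k)) =
      Spec.map (CommRingCat.ofHom (algebraMap k (MvPolynomial (Fin n) k))) := by
    rw [hSg, Iso.trans_inv, Category.assoc, hσover, renIso_inv_over]
  set T := Sg.inv ⁻¹ᵁ pi.target with hT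
  have hTne : (T : Set (Spec (CommRingCat.of (MvPolynomial (Fin n) k)))).Nonempty := by
    refine ⟨Sg.hom (pi.target.ι (pi.iso.hom ⟨v₀, hv₀⟩)), ?_⟩
    change Sg.inv (Sg.hom (pi.target.ι (pi.iso.hom ⟨v₀, hv₀⟩))) ∈ pi.target
    rw [iso_inv_hom_apply]
    exact (pi.iso.hom ⟨v₀, hv₀⟩).2
  obtain ⟨p, hp, hpT⟩ := exists_kpoint (k := k) n T hTne
  let r := Sg.inv ∣_ pi.target
  have hr : r ≫ pi.target.ι = T.ι ≫ Sg.inv := morphismRestrict_ι _ _
  let ε : (pi.source : Scheme.{u}) ≅ (T : Scheme.{u}) := pi.iso ≪≫ (asIso r).symm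
  have hrinv : inv r ≫ T.ι = pi.target.ι ≫ Sg.hom := by
    rw [IsIso.inv_comp_eq, ← Category.assoc, hr, Category.assoc, Iso.inv_hom_id, Category.comp_id]
  have hε : ε.hom ≫ T.ι ≫ Spec.map (CommRingCat.ofHom (algebraMap k (MvPolynomial (Fin n) k))) =
      pi.source.ι ≫ pullback.fst f g ≫ f := by
    change (pi.iso.hom ≫ inv r) ≫ T.ι ≫ _ = _
    rw [Category.assoc, ← Category.assoc (inv r), hrinv, ← hSgover, Category.assoc,
      Iso.hom_inv_id_assoc, hover']
  obtain ⟨U, Y', a, b, h1, h2, h3, h4⟩ := main f g n pi.source T ε hε p hp hpT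
  exact ⟨U, n, Y', a, b, h1, h2, h3, h4⟩

end Groth.Agent.S15699
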