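import Groth.Statements.S15700
import Mathlib
import Groth.Agent.Lib.Helper80.SliceDom
import Groth.Agent.Lib.Helper80.DimNN

set_option autoImplicit false
universe u
open CategoryTheory AlgebraicGeometry
open RatVar

namespace Groth.Agent.S15700

open Groth.Agent.Lib.Helper73 Groth.Agent.Lib.Helper80.SliceDom Groth.Agent.Lib.Helper80.DimNN

section

variable {k : Type u} [Field k] {X : Scheme.{u}} (f : X ⟶ Spec (CommRingCat.of k)) [IsIntegral X]
  [LocallyOfFiniteType f]

lemma dim_eq_trdegNat_genericPoint :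
    topologicalKrullDim X = ((trdegNat f (genericPoint X) : ℕ) : WithBot ℕ∞) := by
  rw [topologicalKrullDim_eq_iSup_trdegNat f]
  apply le_antisymm
  · refine iSup_le fun x => ?_
    have := (isDimFun_trdegNat f).le_of_specializes (genericPoint_specializes x)
    exact_mod_cast this
  · exact le_iSup (fun x : X => ((trdegNat f x : ℕ∞) : WithBot ℕ∞)) (genericPoint X)

omit [LocallyOfFiniteType f] in
lemma isDominant_of_apply_eq_genericPoint {Y : Scheme.{u}} (ψ : Y ⟶ X) (y : Y)
    (hy : ψ y = genericPoint X) : IsDominant ψ := by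
  constructor
  have h1 : closure ({genericPoint X} : Set X) = Set.univ := (genericPoint_spec X).def
  rw [DenseRange, dense_iff_closure_eq, ← Set.univ_subset_iff, ← h1]
  exact closure_mono (Set.singleton_subset_iff.mpr ⟨y, hy⟩)

variable (k) in
lemma lft_pA (n : ℕ) : LocallyOfFiniteType
    (Spec.map (CommRingCat.ofHom (algebraMap k (MvPolynomial (Fin n) k)))) := by
  rw [HasRingHomProperty.Spec_iff (P := @LocallyOfFiniteType)]
  exact RingHom.finiteType_algebraMap.mpr inferInstance

lemma trdegNat_affine_le (n : ℕ) (a : Spec (CommRingCat.of (MvPolynomial (Fin n) k))) :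
    have := lft_pA k n
    trdegNat (Spec.map (CommRingCat.ofHom (algebraMap k (MvPolynomial (Fin n) k)))) a ≤ n := by
  have := lft_pA k n
  have h1 := topologicalKrullDim_eq_iSup_trdegNat
    (Spec.map (CommRingCat.ofHom (algebraMap k (MvPolynomial (Fin n) k))))
  have h2 : topologicalKrullDim (Spec (CommRingCat.of (MvPolynomial (Fin n) k))) =
      (n : WithBot ℕ∞) := by
    change topologicalKrullDim (PrimeSpectrum (MvPolynomial (Fin n) k)) = _
    rw [PrimeSpectrum.topologicalKrullDim_eq_ringKrullDim]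
    exact ringKrullDim_mvPolynomial_field k n
  have h3 := le_iSup (fun x : Spec (CommRingCat.of (MvPolynomial (Fin n) k)) =>
    ((trdegNat (Spec.map (CommRingCat.ofHom (algebraMap k (MvPolynomial (Fin n) k)))) x : ℕ∞) :
      WithBot ℕ∞)) a
  rw [← h1, h2] at h3
  exact_mod_cast h3

set_option maxHeartbeats 1600000 in
theorem main_step [Infinite k] (n : ℕ)
    (W : (Spec (CommRingCat.of (MvPolynomial (Fin n) k))).Opens) (φ : (W : Scheme.{u}) ⟶ X)
    (hφ : φ ≫ f = W.ι ≫ Spec.map (CommRingCat.ofHom (algebraMap k (MvPolynomial (Fin n) k))))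
    (w : (W : Scheme.{u})) (hw : φ w = genericPoint X) :
    ((n : WithBot ℕ∞) = topologicalKrullDim X) ∨
    ∃ (i : Fin n) (c : k) (a : (W : Scheme.{u})),
      (MvPolynomial.X i - MvPolynomial.C c : MvPolynomial (Fin n) k) ∈ (W.ι a).asIdeal ∧
        φ a = genericPoint X := by
  classical
  have := lft_pA k n
  obtain ⟨U, hU, hηU, -⟩ := exists_isAffineOpen_mem_and_subset (X := X) (x := genericPoint X)
    (U := ⊤) trivial
  let V : Set (PrimeSpectrum (MvPolynomial (Fin n) k)) := W.ι '' (φ ⁻¹' (U : Set X))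
  have hVo : IsOpen V := W.ι.isOpenEmbedding.isOpenMap _ (U.isOpen.preimage φ.continuous)
  have hwV : (W.ι w : PrimeSpectrum _) ∈ V := ⟨w, by change φ w ∈ U; rw [hw]; exact hηU, rfl⟩
  obtain ⟨_, ⟨g, rfl⟩, hwg, hgV⟩ :=
    PrimeSpectrum.isTopologicalBasis_basic_opens.exists_subset_of_mem_open hwV hVo
  have hg0 : g ≠ 0 := by
    rintro rfl
    have : (0 : MvPolynomial (Fin n) k) ∉ (W.ι w).asIdeal := hwg
    exact this (Ideal.zero_mem _)
  have hgM : Submonoid.powers g ≤ nonZeroDivisors (MvPolynomial (Fin n) k) :=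
    powers_le_nonZeroDivisors_of_noZeroDivisors hg0
  haveI : IsDomain (Localization.Away g) := IsLocalization.isDomain_localization hgM
  set pA := Spec.map (CommRingCat.ofHom (algebraMap k (MvPolynomial (Fin n) k))) with hpA
  set ιg : Spec (CommRingCat.of (Localization.Away g)) ⟶
      Spec (CommRingCat.of (MvPolynomial (Fin n) k)) :=
    Spec.map (CommRingCat.ofHom (algebraMap (MvPolynomial (Fin n) k) (Localization.Away g)))
    with hιg
  haveI : IsOpenImmersion ιg := by rw [hιg]; infer_instance
  have hrange : Set.range ιg = ((PrimeSpectrum.basicOpen g :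
      TopologicalSpace.Opens (PrimeSpectrum (MvPolynomial (Fin n) k))) :
      Set (PrimeSpectrum (MvPolynomial (Fin n) k))) := by
    rw [← PrimeSpectrum.localization_away_comap_range (Localization.Away g) g]
    rfl
  have hsub : Set.range ιg ⊆ Set.range W.ι := by
    rw [hrange, Scheme.Opens.range_ι]
    intro a ha
    obtain ⟨v, _, rfl⟩ := hgV ha
    exact v.2
  let j := IsOpenImmersion.lift W.ι ιg hsub
  have hj : j ≫ W.ι = ιg := IsOpenImmersion.lift_fac _ _ _
  have hρU : ∀ r, (j ≫ φ) r ∈ U := by
    intro r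
    have h1 : ιg r ∈ ((PrimeSpectrum.basicOpen g :
        TopologicalSpace.Opens (PrimeSpectrum (MvPolynomial (Fin n) k))) :
        Set (PrimeSpectrum (MvPolynomial (Fin n) k))) := hrange ▸ Set.mem_range_self r
    obtain ⟨v, hv, hvr⟩ := hgV h1
    have h2 : v = j r := W.ι.isOpenEmbedding.injective (by
      rw [hvr, ← Scheme.Hom.comp_apply, hj])
    rw [Scheme.Hom.comp_apply, ← h2]
    exact hv
  have hsub' : Set.range (j ≫ φ) ⊆ Set.range hU.fromSpec := by
    rw [hU.range_fromSpec]
    rintro _ ⟨r, rfl⟩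
    exact hρU r
  let ρ' := IsOpenImmersion.lift hU.fromSpec (j ≫ φ) hsub'
  have hρ' : ρ' ≫ hU.fromSpec = j ≫ φ := IsOpenImmersion.lift_fac _ _ _
  let α' : Γ(X, U) ⟶ CommRingCat.of (Localization.Away g) := Spec.preimage ρ'
  have hα' : Spec.map α' = ρ' := Spec.map_preimage _
  letI := chartAlgebra f hU
  haveI := chart_finiteType f hU
  haveI : Nonempty U := ⟨⟨_, hηU⟩⟩
  haveI : IsDomain Γ(X, U) := inferInstance
  have hcompat : ∀ c : k, α'.hom (algebraMap k Γ(X, U) c) =
      algebraMap k (Localization.Away g) c := by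
    have h1 : Spec.map (CommRingCat.ofHom (algebraMap k Γ(X, U)) ≫ α') =
        Spec.map (CommRingCat.ofHom (algebraMap k (MvPolynomial (Fin n) k)) ≫
          CommRingCat.ofHom (algebraMap (MvPolynomial (Fin n) k) (Localization.Away g))) := by
      rw [Spec.map_comp, Spec.map_comp, hα', chart_specMap f hU]
      calc ρ' ≫ hU.fromSpec ≫ f = (ρ' ≫ hU.fromSpec) ≫ f := (Category.assoc _ _ _).symm
        _ = (j ≫ φ) ≫ f := by rw [hρ']
        _ = j ≫ W.ι ≫ pA := by rw [Category.assoc, hφ]
        _ = ιg ≫ pA := by rw [← Category.assoc, hj]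
    have h2 := Spec.map_injective h1
    intro c
    have h3 := congrArg (fun ψ => ψ.hom c) h2
    simp only [CommRingCat.hom_comp, CommRingCat.hom_ofHom, RingHom.comp_apply] at h3
    rw [h3, ← IsScalarTower.algebraMap_apply]
  letI : Algebra Γ(X, U) (Localization.Away g) := α'.hom.toAlgebra
  haveI : IsScalarTower k Γ(X, U) (Localization.Away g) :=
    IsScalarTower.of_algebraMap_eq (fun c => (hcompat c).symm)
  -- the point over `w`
  have hwg' : W.ι w ∈ Set.range ιg := by rw [hrange]; exact hwg
  obtain ⟨r₀, hr₀⟩ := hwg'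
  have hjr₀ : j r₀ = w := W.ι.isOpenEmbedding.injective (by
    rw [← Scheme.Hom.comp_apply, hj, hr₀])
  have hρr₀ : hU.fromSpec (ρ' r₀) = genericPoint X := by
    rw [← Scheme.Hom.comp_apply, hρ', Scheme.Hom.comp_apply, hjr₀, hw]
  have hηB : (ρ' r₀).asIdeal = ⊥ := by
    have h1 : hU.fromSpec (ρ' r₀) ⤳ hU.fromSpec (gen Γ(X, U) : Spec Γ(X, U)) := by
      rw [hρr₀]; exact genericPoint_specializes _
    have h2 : ρ' r₀ ⤳ (gen Γ(X, U) : Spec Γ(X, U)) :=
      hU.fromSpec.isOpenEmbedding.isEmbedding.isInducing.specializes_iff.mp h1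
    have h3 : (ρ' r₀).asIdeal ≤ (gen Γ(X, U)).asIdeal :=
      (PrimeSpectrum.le_iff_specializes _ _).mpr h2
    exact le_bot_iff.mp h3
  have hcomap : ∀ r : Spec (CommRingCat.of (Localization.Away g)),
      (ρ' r).asIdeal = Ideal.comap α'.hom r.asIdeal := by
    intro r; rw [← hα']; rfl
  have hαinj : Function.Injective α'.hom := by
    rw [injective_iff_map_eq_zero]
    intro b hb
    have : b ∈ (ρ' r₀).asIdeal := by
      rw [hcomap]; change α'.hom b ∈ r₀.asIdeal; rw [hb]; exact Ideal.zero_mem _
    rw [hηB] at this; exact this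
  haveI : FaithfulSMul Γ(X, U) (Localization.Away g) :=
    (faithfulSMul_iff_algebraMap_injective _ _).mpr hαinj
  have hdimX := dim_eq_trdegNat_genericPoint f
  have hdB : ringKrullDim Γ(X, U) = ((trdegNat f (genericPoint X) : ℕ) : WithBot ℕ∞) := by
    have h1 := chart_trdegNat f hU (ρ' r₀)
    rw [hρr₀] at h1
    have h2 := coe_quotDim k (A := Γ(X, U)) (ρ' r₀)
    rw [← h1, hηB] at h2
    rw [h2]
    exact (ringKrullDim_eq_of_ringEquiv (RingEquiv.quotientBot Γ(X, U))).symm
  have hdn : trdegNat f (genericPoint X) ≤ n := by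
    have h1 := trdegNat_le_of_hom f (W.ι ≫ pA) φ hφ w
    rw [hw, trdegNat_opens] at h1
    exact h1.trans (trdegNat_affine_le n _)
  by_cases htr : ∃ i : Fin n, Transcendental Γ(X, U)
      (algebraMap (MvPolynomial (Fin n) k) (Localization.Away g) (MvPolynomial.X i))
  · right
    obtain ⟨i, hi⟩ := htr
    obtain ⟨c, q, hq, hyq, hqB⟩ := exists_slice (k := k) (B := Γ(X, U))
      (R := Localization.Away g) _ hi
    let r₁ : Spec (CommRingCat.of (Localization.Away g)) := ⟨q, hq⟩
    refine ⟨i, c, j r₁, ?_, ?_⟩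
    · have h1 : W.ι (j r₁) = ιg r₁ := by rw [← Scheme.Hom.comp_apply, hj]
      rw [h1]
      change algebraMap (MvPolynomial (Fin n) k) (Localization.Away g)
        (MvPolynomial.X i - MvPolynomial.C c) ∈ q
      rw [map_sub]
      have : algebraMap (MvPolynomial (Fin n) k) (Localization.Away g) (MvPolynomial.C c) =
          algebraMap k (Localization.Away g) c := by
        rw [IsScalarTower.algebraMap_apply k (MvPolynomial (Fin n) k) (Localization.Away g)]
        rfl
      rw [this]; exact hyq
    · have h1 : ρ' r₁ = ρ' r₀ := by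
        apply PrimeSpectrum.ext
        rw [hcomap, hηB]; exact hqB
      have h2 : hU.fromSpec (ρ' r₁) = φ (j r₁) := by
        rw [← Scheme.Hom.comp_apply, hρ', Scheme.Hom.comp_apply]
      rw [← h2, h1, hρr₀]
  · left
    have halg : ∀ i, IsAlgebraic Γ(X, U)
        (algebraMap (MvPolynomial (Fin n) k) (Localization.Away g) (MvPolynomial.X i)) := by
      intro i
      by_contra hcon
      exact htr ⟨i, hcon⟩
    have hx : AlgebraicIndependent k (fun i : Fin n =>
        algebraMap (MvPolynomial (Fin n) k) (Localization.Away g) (MvPolynomial.X i)) :=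
      (MvPolynomial.algebraicIndependent_X (Fin n) k).map'
        (f := IsScalarTower.toAlgHom k (MvPolynomial (Fin n) k) (Localization.Away g))
        (IsLocalization.injective (Localization.Away g) hgM)
    have hnd := le_of_forall_isAlgebraic (k := k) (B := Γ(X, U)) (R := Localization.Away g) n _
      hdB _ hx halg
    rw [hdimX]
    have : n = trdegNat f (genericPoint X) := le_antisymm hnd hdn
    rw [← this]

set_option maxHeartbeats 1600000 in
theorem claim [Infinite k] : ∀ (n : ℕ)
    (W : (Spec (CommRingCat.of (MvPolynomial (Fin n) k))).Opens) (φ : (W : Scheme.{u}) ⟶ X)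
    (_ : φ ≫ f = W.ι ≫ Spec.map (CommRingCat.ofHom (algebraMap k (MvPolynomial (Fin n) k))))
    (w : (W : Scheme.{u})) (_ : φ w = genericPoint X),
    ∃ (m : ℕ) (W' : (Spec (CommRingCat.of (MvPolynomial (Fin m) k))).Opens)
      (ψ : (W' : Scheme.{u}) ⟶ X),
      (W' : Set ↑(Spec (CommRingCat.of (MvPolynomial (Fin m) k)))).Nonempty ∧ IsDominant ψ ∧
      ψ ≫ f = W'.ι ≫ Spec.map (CommRingCat.ofHom (algebraMap k (MvPolynomial (Fin m) k))) ∧
      (m : WithBot ℕ∞) = topologicalKrullDim X := by
  intro n
  induction n with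
  | zero =>
    intro W φ hφ w hw
    rcases main_step f 0 W φ hφ w hw with h | ⟨i, -⟩
    · exact ⟨0, W, φ, ⟨w.1, w.2⟩, isDominant_of_apply_eq_genericPoint φ w hw, hφ, h⟩
    · exact i.elim0
  | succ n ih =>
    intro W φ hφ w hw
    rcases main_step f (n + 1) W φ hφ w hw with h | ⟨i, c, a, ha, hφa⟩
    · exact ⟨n + 1, W, φ, ⟨w.1, w.2⟩, isDominant_of_apply_eq_genericPoint φ w hw, hφ, h⟩
    · let evr : MvPolynomial (Fin (n + 1)) k →+* MvPolynomial (Fin n) k :=
        (evAt (k := k) n i c).toRingHom
      have hevs : Function.Surjective evr := evAt_surjective n i c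
      let h : Spec (CommRingCat.of (MvPolynomial (Fin n) k)) ⟶
          Spec (CommRingCat.of (MvPolynomial (Fin (n + 1)) k)) :=
        Spec.map (CommRingCat.ofHom evr)
      have hpA : h ≫ Spec.map (CommRingCat.ofHom (algebraMap k (MvPolynomial (Fin (n + 1)) k))) =
          Spec.map (CommRingCat.ofHom (algebraMap k (MvPolynomial (Fin n) k))) := by
        rw [← Spec.map_comp]
        congr 1
        apply CommRingCat.hom_ext
        apply RingHom.ext
        intro x
        exact (evAt (k := k) n i c).commutes x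
      let W' := h ⁻¹ᵁ W
      let φ' : (W' : Scheme.{u}) ⟶ X := (h ∣_ W) ≫ φ
      have hφ' : φ' ≫ f =
          W'.ι ≫ Spec.map (CommRingCat.ofHom (algebraMap k (MvPolynomial (Fin n) k))) := by
        calc ((h ∣_ W) ≫ φ) ≫ f
            = (h ∣_ W) ≫ W.ι ≫
              Spec.map (CommRingCat.ofHom (algebraMap k (MvPolynomial (Fin (n + 1)) k))) := by
              rw [Category.assoc, hφ]
          _ = (W'.ι ≫ h) ≫
              Spec.map (CommRingCat.ofHom (algebraMap k (MvPolynomial (Fin (n + 1)) k))) := by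
              rw [← Category.assoc, morphismRestrict_ι]
          _ = W'.ι ≫ Spec.map (CommRingCat.ofHom (algebraMap k (MvPolynomial (Fin n) k))) := by
              rw [Category.assoc, hpA]
      have hker : RingHom.ker evr ≤ (W.ι a).asIdeal := by
        intro p hp
        have h1 := ker_evAt_le n i c hp
        exact (Ideal.span_singleton_le_iff_mem _).mpr ha h1
      have hprime : (Ideal.map evr (W.ι a).asIdeal).IsPrime :=
        Ideal.map_isPrime_of_surjective hevs hker
      let a' : Spec (CommRingCat.of (MvPolynomial (Fin n) k)) :=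
        ⟨Ideal.map evr (W.ι a).asIdeal, hprime⟩
      have ha' : h a' = W.ι a := by
        apply PrimeSpectrum.ext
        change Ideal.comap evr (Ideal.map evr (W.ι a).asIdeal) = (W.ι a).asIdeal
        rw [Ideal.comap_map_of_surjective _ hevs]
        exact sup_eq_left.mpr hker
      have ha'W : a' ∈ W' := by
        change h a' ∈ W
        rw [ha']
        exact a.2
      let w' : (W' : Scheme.{u}) := ⟨a', ha'W⟩
      have hw' : φ' w' = genericPoint X := by
        have h1 : (h ∣_ W) w' = a := W.ι.isOpenEmbedding.injective (by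
          rw [← Scheme.Hom.comp_apply, morphismRestrict_ι, Scheme.Hom.comp_apply]
          exact ha')
        rw [Scheme.Hom.comp_apply, h1, hφa]
      exact ih W' φ' hφ' w' hw'

end

/-- Over an infinite field k, an integral scheme X of finite type over k that admits a dominant
k-morphism from a k-rational variety admits one from a k-rational variety of the same dimension as
X. Stated with open subschemes of affine spaces: if a non-empty open subscheme of Spec k[x_1, ...,
x_n] maps dominantly to X over k, then some non-empty open subscheme of some Spec k[x_1, ..., x_m]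
with m = dim X maps dominantly to X over k. -/
theorem result (k : Type u) [Field k] [Infinite k]
    (X : Scheme.{u}) (f : X ⟶ Spec (CommRingCat.of k)) [IsIntegral X] [LocallyOfFiniteType f] [QuasiCompact f]
    (n : ℕ) (W : (Spec (CommRingCat.of (MvPolynomial (Fin n) k))).Opens) (hW : (W : Set ↑(Spec (CommRingCat.of (MvPolynomial (Fin n) k)))).Nonempty)
    (φ : (W : Scheme.{u}) ⟶ X) [IsDominant φ] (hφ : φ ≫ f = W.ι ≫ Spec.map (CommRingCat.ofHom (algebraMap k (MvPolynomial (Fin n) k)))) :
    ∃ (m : ℕ) (W' : (Spec (CommRingCat.of (MvPolynomial (Fin m) k))).Opens) (ψ : (W' : Scheme.{u}) ⟶ X),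
      (W' : Set ↑(Spec (CommRingCat.of (MvPolynomial (Fin m) k)))).Nonempty ∧ IsDominant ψ ∧ ψ ≫ f = W'.ι ≫ Spec.map (CommRingCat.ofHom (algebraMap k (MvPolynomial (Fin m) k))) ∧
      (m : WithBot ℕ∞) = topologicalKrullDim X := by
  haveI : Nonempty W := hW.to_subtype
  haveI : IsIntegral (W : Scheme.{u}) := inferInstance
  have hgen : φ (genericPoint (W : Scheme.{u})) = genericPoint X := by
    have h1 := (genericPoint_spec (W : Scheme.{u})).image φ.continuous
    rw [Set.image_univ, (IsDominant.denseRange (f := φ)).closure_range] at h1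
    exact h1.eq (genericPoint_spec X)
  exact claim f n W φ hφ (genericPoint (W : Scheme.{u})) hgen

end Groth.Agent.S15700
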