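import Groth.Statements.S15701
import Mathlib

set_option autoImplicit false
universe u
open CategoryTheory AlgebraicGeometry
open RatVar

namespace Groth.Agent.S15701

open Limits

section
variable {X : Scheme.{u}}

/-- the fixed locus of an endomorphism -/
noncomputable def fixSet (a : X ⟶ X) : Set X := Set.range (equalizer.ι a (𝟙 X)).base

lemma fixSet_isClosed [X.IsSeparated] (a : X ⟶ X) : IsClosed (fixSet a) :=
  (equalizer.ι a (𝟙 X)).isClosedEmbedding.isClosed_range

lemma range_subset_fixSet {T : Scheme.{u}} (a : X ⟶ X) (t : T ⟶ X) (h : t ≫ a = t) :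
    Set.range t.base ⊆ fixSet a := by
  rintro _ ⟨y, rfl⟩
  have h' : t ≫ a = t ≫ 𝟙 X := by rw [h, Category.comp_id]
  refine ⟨(equalizer.lift t h').base y, ?_⟩
  exact congr(($(equalizer.lift_ι t h')).base y)

lemma eq_id_of_fixSet_eq_univ [IsReduced X] [X.IsSeparated] (a : X ⟶ X)
    (h : fixSet a = Set.univ) : a = 𝟙 X := by
  have : Surjective (equalizer.ι a (𝟙 X)) :=
    ⟨fun x => by have : x ∈ fixSet a := h ▸ Set.mem_univ x; exact this⟩
  exact ext_of_isDominant (equalizer.ι a (𝟙 X)) (equalizer.condition _ _)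

end

/-- A faithful action of a finite group on a geometrically integral variety is almost free. Here k is a
field of characteristic zero, X is an integral separated scheme of finite type over k, and the
finite group G acts on X by k-automorphisms through an injective homomorphism to Aut X; the
conclusion is a non-empty G-stable open subscheme U of X such that for every field K and every
morphism Spec K → X whose image lies in U, an element of G fixing that K-point is the identity. (X
is taken separated: for the affine line with a doubled origin and the involution exchanging the two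
origins the action is faithful while every point off the origins is fixed, so no such U exists;
integrality replaces geometric integrality, which is all the codimension argument uses.) -/
theorem result (k : Type u) [Field k] [CharZero k]
    (X : Scheme.{u}) (f : X ⟶ Spec (CommRingCat.of k)) [IsIntegral X] [LocallyOfFiniteType f]
    [QuasiCompact f] [IsSeparated f]
    (G : Type u) [Group G] [Finite G] (ρ : G →* Aut X)
    (hρ : ∀ g : G, (ρ g).hom ≫ f = f) (hfaith : Function.Injective ρ) :
    ∃ U : X.Opens, (U : Set X).Nonempty ∧ (∀ g : G, (ρ g).hom ⁻¹ᵁ U = U) ∧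
      ∀ (K : Type u) [Field K] (x : Spec (CommRingCat.of K) ⟶ X),
        Set.range x.base ⊆ (U : Set X) → ∀ g : G, x ≫ (ρ g).hom = x → g = 1 := by
  classical
  have hXsep : X.IsSeparated :=
    (HasAffineProperty.iff_of_isAffine (P := @IsSeparated) (f := f)).mp inferInstance
  have hmul : ∀ a b : G, (ρ (a * b)).hom = (ρ b).hom ≫ (ρ a).hom := by
    intro a b; rw [map_mul]; rfl
  have hone : (ρ 1).hom = 𝟙 X := by rw [map_one]; rfl
  let B : Set X := ⋃ g ∈ {g : G | g ≠ 1}, fixSet (ρ g).hom
  have hBc : IsClosed B := (Set.toFinite _).isClosed_biUnion (fun g _ => fixSet_isClosed _)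
  have hne : ∀ g : G, g ≠ 1 → fixSet (ρ g).hom ≠ Set.univ := by
    intro g hg h
    apply hg
    apply hfaith
    have := eq_id_of_fixSet_eq_univ _ h
    rw [map_one]
    exact Iso.ext this
  have hmap : ∀ (h g : G) (x : X), x ∈ fixSet (ρ g).hom →
      (ρ h).hom.base x ∈ fixSet (ρ (h * g * h⁻¹)).hom := by
    intro h g x hx
    obtain ⟨y, rfl⟩ := hx
    apply range_subset_fixSet (ρ (h * g * h⁻¹)).hom
      (equalizer.ι (ρ g).hom (𝟙 X) ≫ (ρ h).hom) ?_ ⟨y, rfl⟩
    rw [Category.assoc, ← hmul]
    have : h * g * h⁻¹ * h = h * g := by group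
    rw [this, hmul, ← Category.assoc, equalizer.condition, Category.comp_id]
  refine ⟨⟨Bᶜ, hBc.isOpen_compl⟩, ?_, ?_, ?_⟩
  · refine ⟨genericPoint X, ?_⟩
    intro hmem
    obtain ⟨g, hg, hx⟩ := Set.mem_iUnion₂.mp hmem
    apply hne g hg
    have h1 : closure {genericPoint X} ⊆ fixSet (ρ g).hom :=
      closure_minimal (Set.singleton_subset_iff.mpr hx) (fixSet_isClosed _)
    rw [(genericPoint_spec X).def] at h1
    exact Set.univ_subset_iff.mp h1
  · intro h
    ext x
    change (ρ h).hom.base x ∈ Bᶜ ↔ x ∈ Bᶜ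
    rw [Set.mem_compl_iff, Set.mem_compl_iff, not_iff_not]
    constructor
    · intro hx
      obtain ⟨g, hg, hx⟩ := Set.mem_iUnion₂.mp hx
      have h2 := hmap h⁻¹ g _ hx
      have h3 : (ρ h).hom ≫ (ρ h⁻¹).hom = 𝟙 X := by
        rw [← hmul, inv_mul_cancel, hone]
      have h4 : (ρ h⁻¹).hom.base ((ρ h).hom.base x) = x := congr(($h3).base x)
      rw [h4] at h2
      refine Set.mem_iUnion₂.mpr ⟨h⁻¹ * g * h⁻¹⁻¹, ?_, h2⟩
      intro e
      exact hg (conj_eq_one_iff.mp e)
    · intro hx
      obtain ⟨g, hg, hx⟩ := Set.mem_iUnion₂.mp hx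
      refine Set.mem_iUnion₂.mpr ⟨h * g * h⁻¹, ?_, hmap h g x hx⟩
      intro e
      exact hg (conj_eq_one_iff.mp e)
  · intro K _ x hx g hg
    by_contra hne1
    have h1 := range_subset_fixSet (ρ g).hom x hg
    obtain ⟨y⟩ : Nonempty (Spec (CommRingCat.of K)) := inferInstance
    have h2 : x.base y ∈ Bᶜ := hx ⟨y, rfl⟩
    apply h2
    exact Set.mem_iUnion₂.mpr ⟨g, hne1, h1 ⟨y, rfl⟩⟩

end Groth.Agent.S15701
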