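import Groth.Statements.S15702
import Groth.Agent.Lib.Helper32.Rosenlicht.SemiInv

set_option autoImplicit false
universe u
open GLin

namespace Groth.Agent.S15702

/-- Let k be algebraically closed of characteristic zero, let G be a connected linear algebraic group
over k without non-trivial characters acting on an integral affine k-variety Spec B of finite type
with B a unique factorisation domain; then the field of G-invariant rational functions is the
fraction field of the ring of invariants B^G. In coordinate-ring form: A is a commutative Hopf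
algebra of finite type over k, a domain, whose only group-like element is 1; B is a k-algebra of
finite type, a domain and a unique factorisation monoid, with a coaction of A that is an algebra
map; k-points φ : A →ₐ[k] k act on B through the coaction. If f, g ∈ B, g ≠ 0, satisfy (φ·f) g = f
(φ·g) for all φ, then f g' = f' g for some f', g' ∈ B fixed by all φ with g' ≠ 0. (The published
lemma allows G disconnected with character-free identity component; this row is the connected case
treated first in its proof.) -/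
theorem result (k : Type u) [Field k] [IsAlgClosed k] [CharZero k]
    (A : Type u) [CommRing A] [HopfAlgebra k A] [Algebra.FiniteType k A] [IsDomain A]
    (hchar : ∀ a : A, IsGroupLikeElem k a → a = 1)
    (B : Type u) [CommRing B] [Algebra k B] [Algebra.FiniteType k B] [IsDomain B] [UniqueFactorizationMonoid B]
    [HopfRep.Comod k A B] [GLin.IsCoactAlg k A B]
    (f g : B) (hg : g ≠ 0)
    (hinv : ∀ φ : A →ₐ[k] k, HopfRep.Comod.act k A B φ f * g = f * HopfRep.Comod.act k A B φ g) :
    ∃ f' g' : B, (∀ φ : A →ₐ[k] k, HopfRep.Comod.act k A B φ f' = f') ∧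
      (∀ φ : A →ₐ[k] k, HopfRep.Comod.act k A B φ g' = g') ∧ g' ≠ 0 ∧ f * g' = f' * g := by
  classical
  have hσ : ∀ (φ : A →ₐ[k] k) (b : B), HopfRep.Comod.act k A B φ b =
      Groth.Agent.Lib.Helper81.InvRational.actAlg (A := A) (R := B) φ b :=
    fun φ b => (Groth.Agent.Lib.Helper81.InvRational.actAlg_apply φ b).symm
  have hinvt : ∀ b : B, (∃ a : A, IsGroupLikeElem k a ∧
      HopfRep.Comod.coact (k := k) (A := A) b = b ⊗ₜ[k] a) →
      ∀ φ : A →ₐ[k] k, HopfRep.Comod.act k A B φ b = b := by
    rintro b ⟨a, ha, hb⟩ φ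
    rw [hchar a ha] at hb
    unfold HopfRep.Comod.act
    simp [hb]
  by_cases hf0 : f = 0
  · refine ⟨0, 1, ?_, ?_, one_ne_zero, ?_⟩
    · intro φ
      simp
    · intro φ
      rw [hσ, map_one]
    · rw [hf0]
      simp
  obtain ⟨f', g', d, hrel, hf, hg'⟩ := UniqueFactorizationMonoid.exists_reduced_factors f hf0 g
  have hd : d ≠ 0 := by
    rintro rfl
    exact hg (by rw [← hg', zero_mul])
  have hf'0 : f' ≠ 0 := by
    rintro rfl
    exact hf0 (by rw [← hf, mul_zero])
  have hg'0 : g' ≠ 0 := by
    rintro rfl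
    exact hg (by rw [← hg', mul_zero])
  have hσne : ∀ (φ : A →ₐ[k] k) (b : B), b ≠ 0 →
      Groth.Agent.Lib.Helper81.InvRational.actAlg (A := A) (R := B) φ b ≠ 0 :=
    fun φ b hb => Groth.Agent.Lib.Helper81.InvRational.actAlg_ne_zero φ hb
  have hrel' : ∀ φ : A →ₐ[k] k,
      Groth.Agent.Lib.Helper81.InvRational.actAlg (A := A) (R := B) φ f' * g' =
        f' * Groth.Agent.Lib.Helper81.InvRational.actAlg (A := A) (R := B) φ g' := by
    intro φ
    have := hinv φ
    rw [hσ, hσ, ← hf, ← hg', map_mul, map_mul] at this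
    have hne : Groth.Agent.Lib.Helper81.InvRational.actAlg (A := A) (R := B) φ d * d ≠ 0 :=
      mul_ne_zero (hσne φ d hd) hd
    apply mul_left_cancel₀ hne
    linear_combination this
  have hσinv : ∀ (φ : A →ₐ[k] k) (b : B),
      Groth.Agent.Lib.Helper81.InvRational.actAlg (A := A) (R := B) φ
        (Groth.Agent.Lib.Helper81.InvRational.actAlg (A := A) (R := B)
          (Groth.Agent.Lib.Helper32.Rosenlicht.cinv φ) b) = b := by
    intro φ b
    rw [← sub_eq_zero]
    apply Groth.Agent.Lib.Helper32.Rosenlicht.eq_zero_of_forall_algHom k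
    intro z
    rw [map_sub, sub_eq_zero, Groth.Agent.Lib.Helper81.InvRational.apply_actAlg,
      Groth.Agent.Lib.Helper81.InvRational.apply_actAlg,
      ← Groth.Agent.Lib.Helper32.Rosenlicht.actPt_cmul,
      Groth.Agent.Lib.Helper32.Rosenlicht.cmul_cinv,
      Groth.Agent.Lib.Helper32.Rosenlicht.actPt_cone]
  have hsemi : ∀ b c : B, IsRelPrime b c →
      (∀ φ : A →ₐ[k] k, Groth.Agent.Lib.Helper81.InvRational.actAlg (A := A) (R := B) φ b * c =
        b * Groth.Agent.Lib.Helper81.InvRational.actAlg (A := A) (R := B) φ c) → b ≠ 0 →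
      ∃ a : A, IsGroupLikeElem k a ∧ HopfRep.Comod.coact (k := k) (A := A) b = b ⊗ₜ[k] a := by
    intro b c hbc hrel hb0
    have hdvd : ∀ φ : A →ₐ[k] k,
        b ∣ Groth.Agent.Lib.Helper81.InvRational.actAlg (A := A) (R := B) φ b :=
      fun φ => hbc.dvd_of_dvd_mul_right ⟨_, hrel φ⟩
    have hunit : ∀ φ : A →ₐ[k] k, ∃ u : Bˣ,
        Groth.Agent.Lib.Helper81.InvRational.actAlg (A := A) (R := B) φ b = u * b := by
      intro φ
      have h2 : Groth.Agent.Lib.Helper81.InvRational.actAlg (A := A) (R := B) φ b ∣ b := by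
        have := map_dvd (Groth.Agent.Lib.Helper81.InvRational.actAlg (A := A) (R := B) φ)
          (hdvd (Groth.Agent.Lib.Helper32.Rosenlicht.cinv φ))
        rwa [hσinv] at this
      obtain ⟨u, hu⟩ := associated_of_dvd_dvd (hdvd φ) h2
      exact ⟨u, by rw [← hu, mul_comm]⟩
    apply Groth.Agent.Lib.Helper32.Rosenlicht.exists_groupLike_of_semiinvariant b hb0
    · intro φ x hx
      obtain ⟨u, hu⟩ := hunit φ
      rw [← Groth.Agent.Lib.Helper81.InvRational.apply_actAlg, hu, map_mul]
      exact mul_ne_zero ((u.isUnit.map x).ne_zero) hx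
    · intro φ x hx
      obtain ⟨u, hu⟩ := hunit φ
      rw [← Groth.Agent.Lib.Helper81.InvRational.apply_actAlg, hu, map_mul, hx, mul_zero]
  refine ⟨f', g', hinvt f' (hsemi f' g' hrel hrel' hf'0), hinvt g' (hsemi g' f' hrel.symm ?_ hg'0),
    hg'0, ?_⟩
  · intro φ
    have := hrel' φ
    linear_combination -this
  · rw [← hf, ← hg']
    ring

end Groth.Agent.S15702
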