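import Groth.Statements.S15705
import Groth.Agent.Lib.Helper32.Units.Weights
import Groth.Agent.Lib.Helper32.Rosenlicht.Domain
import Groth.Agent.Lib.Helper96.CartierG

set_option autoImplicit false
universe u
open GLin

namespace Groth.Agent.S15705

/-- Let k be algebraically closed of characteristic zero, G a linear algebraic group and X a factorial
affine G-variety with k[X]* = k*; then there is a G-invariant affine open U of X such that the field
of G-invariant rational functions is the fraction field of k[U]^G. In coordinate-ring form: A is a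
commutative Hopf algebra of finite type over k coacting by an algebra map on B, a finitely generated
k-algebra which is a domain and a unique factorisation monoid all of whose units are scalars;
k-points φ : A →ₐ[k] k of G act on B through the coaction. Conclusion: there is h ≠ 0 in B with D(h)
stable under every φ (φ·h divides a power of h) such that whenever a, b ∈ B, b ≠ 0, satisfy (φ·a) b
= a (φ·b) for all φ (the fraction a/b is invariant), there are c, d ∈ B and exponents r, t with d ≠
0, with c/h^r and d/h^t invariant in B[1/h] — that is (φ·c) h^r = c (φ·h)^r and (φ·d) h^t = d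
(φ·h)^t for all φ — and a d h^r = b c h^t (so a/b = (c/h^r)/(d/h^t)). -/
theorem result (k : Type u) [Field k] [IsAlgClosed k] [CharZero k]
    (A : Type u) [CommRing A] [HopfAlgebra k A] [Algebra.FiniteType k A]
    (B : Type u) [CommRing B] [Algebra k B] [Algebra.FiniteType k B] [IsDomain B] [UniqueFactorizationMonoid B]
    (hunits : ∀ u : Bˣ, ∃ c : k, algebraMap k B c = u)
    [HopfRep.Comod k A B] [GLin.IsCoactAlg k A B] :
    ∃ h : B, h ≠ 0 ∧ (∀ φ : A →ₐ[k] k, ∃ (N : ℕ) (u : B), HopfRep.Comod.act k A B φ h * u = h ^ N) ∧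
      ∀ a b : B, b ≠ 0 → (∀ φ : A →ₐ[k] k, HopfRep.Comod.act k A B φ a * b = a * HopfRep.Comod.act k A B φ b) →
        ∃ (c d : B) (r t : ℕ), d ≠ 0 ∧
          (∀ φ : A →ₐ[k] k, HopfRep.Comod.act k A B φ c * h ^ r = c * (HopfRep.Comod.act k A B φ h) ^ r) ∧
          (∀ φ : A →ₐ[k] k, HopfRep.Comod.act k A B φ d * h ^ t = d * (HopfRep.Comod.act k A B φ h) ^ t) ∧
          a * d * h ^ r = b * c * h ^ t := by
  classical
  haveI : IsReduced A := Groth.Agent.Lib.Helper96.Cartier.isReduced k A
  haveI hfin : Module.Finite ℤ (Additive (GroupLike k A)) :=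
    Groth.Agent.Lib.Helper32.Units.finite_int_groupLike k A
  haveI : IsNoetherian ℤ (Additive (GroupLike k A)) := inferInstance
  let W : Set (Additive (GroupLike k A)) :=
    {x | ∃ b : B, b ≠ 0 ∧ Groth.Agent.Lib.Helper32.Units.SemiInv b (Additive.toMul x)}
  have hWfg : (Submodule.span ℤ W).FG := IsNoetherian.noetherian _
  obtain ⟨s', hs'W, hspan⟩ := (Submodule.fg_span_iff_fg_span_finset_subset W).mp hWfg
  choose! β hβ0 hβ using fun x (hx : x ∈ W) => hx
  let h : B := ∏ x ∈ s', β x
  let χh : GroupLike k A := ∏ x ∈ s', Additive.toMul x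
  have hh : Groth.Agent.Lib.Helper32.Units.SemiInv h χh :=
    Groth.Agent.Lib.Helper32.Units.SemiInv.prod s' β (fun x => Additive.toMul x)
      (fun x hx => hβ x (hs'W hx))
  have hh0 : h ≠ 0 := Finset.prod_ne_zero_iff.mpr (fun x hx => hβ0 x (hs'W hx))
  have hunitφ : ∀ (φ : A →ₐ[k] k) (χ : GroupLike k A), φ χ.val ≠ 0 :=
    fun φ χ => (χ.2.isUnit.map φ).ne_zero
  refine ⟨h, hh0, ?_, ?_⟩
  · intro φ
    refine ⟨1, algebraMap k B (φ χh.val)⁻¹, ?_⟩
    rw [hh.act φ, pow_one, Algebra.smul_def, mul_assoc, mul_comm h, ← mul_assoc, ← map_mul,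
      mul_inv_cancel₀ (hunitφ φ χh), map_one, one_mul]
  · intro a b hb hinv
    by_cases ha : a = 0
    · refine ⟨0, 1, 0, 0, one_ne_zero, ?_, ?_, ?_⟩
      · intro φ
        simp
      · intro φ
        rw [← Groth.Agent.Lib.Helper81.InvRational.actAlg_apply, map_one]
        simp
      · rw [ha]
        simp
    have hσ : ∀ (φ : A →ₐ[k] k) (b : B), HopfRep.Comod.act k A B φ b =
        Groth.Agent.Lib.Helper81.InvRational.actAlg (A := A) (R := B) φ b :=
      fun φ b => (Groth.Agent.Lib.Helper81.InvRational.actAlg_apply φ b).symm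
    obtain ⟨a', b', d₀, hrel, hfa, hfb⟩ := UniqueFactorizationMonoid.exists_reduced_factors a ha b
    have hd₀ : d₀ ≠ 0 := by
      rintro rfl
      exact hb (by rw [← hfb, zero_mul])
    have ha'0 : a' ≠ 0 := by
      rintro rfl
      exact ha (by rw [← hfa, mul_zero])
    have hb'0 : b' ≠ 0 := by
      rintro rfl
      exact hb (by rw [← hfb, mul_zero])
    have hσne : ∀ (φ : A →ₐ[k] k) (b : B), b ≠ 0 →
        Groth.Agent.Lib.Helper81.InvRational.actAlg (A := A) (R := B) φ b ≠ 0 :=
      fun φ b hb => Groth.Agent.Lib.Helper81.InvRational.actAlg_ne_zero φ hb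
    have hrel' : ∀ φ : A →ₐ[k] k,
        Groth.Agent.Lib.Helper81.InvRational.actAlg (A := A) (R := B) φ a' * b' =
          a' * Groth.Agent.Lib.Helper81.InvRational.actAlg (A := A) (R := B) φ b' := by
      intro φ
      have := hinv φ
      rw [hσ, hσ, ← hfa, ← hfb, map_mul, map_mul] at this
      have hne : Groth.Agent.Lib.Helper81.InvRational.actAlg (A := A) (R := B) φ d₀ * d₀ ≠ 0 :=
        mul_ne_zero (hσne φ d₀ hd₀) hd₀
      apply mul_left_cancel₀ hne
      linear_combination this
    have hσinv : ∀ (φ : A →ₐ[k] k) (b : B),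
        Groth.Agent.Lib.Helper81.InvRational.actAlg (A := A) (R := B) φ
          (Groth.Agent.Lib.Helper81.InvRational.actAlg (A := A) (R := B)
            (Groth.Agent.Lib.Helper32.Rosenlicht.cinv φ) b) = b := by
      intro φ b
      rw [← sub_eq_zero]
      apply Groth.Agent.Lib.Helper32.Rosenlicht.eq_zero_of_forall_algHom k
      intro z
      rw [map_sub, sub_eq_zero, Groth.Agent.Lib.Helper81.InvRational.apply_actAlg,
        Groth.Agent.Lib.Helper81.InvRational.apply_actAlg,
        ← Groth.Agent.Lib.Helper32.Rosenlicht.actPt_cmul,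
        Groth.Agent.Lib.Helper32.Rosenlicht.cmul_cinv,
        Groth.Agent.Lib.Helper32.Rosenlicht.actPt_cone]
    have hsemi : ∀ b c : B, IsRelPrime b c →
        (∀ φ : A →ₐ[k] k, Groth.Agent.Lib.Helper81.InvRational.actAlg (A := A) (R := B) φ b * c =
          b * Groth.Agent.Lib.Helper81.InvRational.actAlg (A := A) (R := B) φ c) → b ≠ 0 →
        ∃ χ : GroupLike k A, Groth.Agent.Lib.Helper32.Units.SemiInv b χ := by
      intro b c hbc hrel hb0
      have hdvd : ∀ φ : A →ₐ[k] k,
          b ∣ Groth.Agent.Lib.Helper81.InvRational.actAlg (A := A) (R := B) φ b :=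
        fun φ => hbc.dvd_of_dvd_mul_right ⟨_, hrel φ⟩
      apply Groth.Agent.Lib.Helper32.Units.exists_groupLike_of_scalar b hb0
      intro φ
      have h2 : Groth.Agent.Lib.Helper81.InvRational.actAlg (A := A) (R := B) φ b ∣ b := by
        have := map_dvd (Groth.Agent.Lib.Helper81.InvRational.actAlg (A := A) (R := B) φ)
          (hdvd (Groth.Agent.Lib.Helper32.Rosenlicht.cinv φ))
        rwa [hσinv] at this
      obtain ⟨u, hu⟩ := associated_of_dvd_dvd (hdvd φ) h2
      obtain ⟨c, hc⟩ := hunits u
      refine ⟨c, ?_⟩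
      rw [← hu, Algebra.smul_def, hc, mul_comm]
    obtain ⟨χa, hχa⟩ := hsemi a' b' hrel hrel' ha'0
    obtain ⟨χb, hχb⟩ := hsemi b' a' hrel.symm (fun φ => by
      have := hrel' φ
      linear_combination -this) hb'0
    have hχab : χb = χa := by
      apply GroupLike.ext
      rw [← sub_eq_zero]
      apply Groth.Agent.Lib.Helper32.Rosenlicht.eq_zero_of_forall_algHom_of_isReduced (k := k)
      intro φ
      have := hrel' φ
      rw [← hσ, ← hσ, hχa.act φ, hχb.act φ] at this
      have h3 : (φ χa.val - φ χb.val) • (a' * b') = 0 := by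
        rw [sub_smul]
        rw [smul_mul_assoc, mul_smul_comm] at this
        rw [this, sub_self]
      rcases smul_eq_zero.mp h3 with h4 | h4
      · rw [map_sub]
        linear_combination -h4
      · exact absurd h4 (mul_ne_zero ha'0 hb'0)
    rw [hχab] at hχb
    have hxW : Additive.ofMul χa ∈ W := ⟨a', ha'0, hχa⟩
    have hxs : Additive.ofMul χa ∈ Submodule.span ℤ (s' : Set (Additive (GroupLike k A))) := by
      rw [← hspan]
      exact Submodule.subset_span hxW
    obtain ⟨n, -, hn⟩ := Submodule.mem_span_finset.mp hxs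
    have hn' : ∏ y ∈ s', (Additive.toMul y) ^ (n y) = χa := by
      have := congrArg Additive.toMul hn
      rw [toMul_sum] at this
      simpa using this
    let r : ℕ := ∑ y ∈ s', (n y).natAbs
    have hr : ∀ y ∈ s', n y ≤ (r : ℤ) := by
      intro y hy
      have h1 : (n y).natAbs ≤ r := Finset.single_le_sum (f := fun y => (n y).natAbs)
        (fun _ _ => Nat.zero_le _) hy
      have h2 : n y ≤ ((n y).natAbs : ℤ) := Int.le_natAbs
      omega
    let e : Additive (GroupLike k A) → ℕ := fun y => ((r : ℤ) - n y).toNat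
    have he : ∀ y ∈ s', ((e y : ℕ) : ℤ) = (r : ℤ) - n y := by
      intro y hy
      exact Int.toNat_of_nonneg (by have := hr y hy; omega)
    let Q : B := ∏ y ∈ s', (β y) ^ (e y)
    let χQ : GroupLike k A := ∏ y ∈ s', (Additive.toMul y) ^ (e y)
    have hQ : Groth.Agent.Lib.Helper32.Units.SemiInv Q χQ :=
      Groth.Agent.Lib.Helper32.Units.SemiInv.prod s' (fun y => (β y) ^ (e y))
        (fun y => (Additive.toMul y) ^ (e y)) (fun y hy => (hβ y (hs'W hy)).pow (e y))
    have hQ0 : Q ≠ 0 := Finset.prod_ne_zero_iff.mpr (fun y hy => pow_ne_zero _ (hβ0 y (hs'W hy)))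
    have hweight : χa * χQ = χh ^ r := by
      rw [← hn']
      show (∏ y ∈ s', (Additive.toMul y) ^ (n y)) * (∏ y ∈ s', (Additive.toMul y) ^ (e y)) =
        (∏ y ∈ s', Additive.toMul y) ^ r
      rw [← Finset.prod_mul_distrib, ← Finset.prod_pow]
      apply Finset.prod_congr rfl
      intro y hy
      rw [← zpow_natCast (Additive.toMul y) (e y), ← zpow_add, he y hy, ← zpow_natCast]
      congr 1
      ring
    have hcd : ∀ (c : B), Groth.Agent.Lib.Helper32.Units.SemiInv c χa →
        ∀ φ : A →ₐ[k] k, HopfRep.Comod.act k A B φ (c * Q) * h ^ r =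
          (c * Q) * (HopfRep.Comod.act k A B φ h) ^ r := by
      intro c hc φ
      rw [(hc.mul hQ).act φ, hh.act φ, hweight, smul_pow, smul_mul_assoc, mul_smul_comm]
      congr 1
      show φ (χh.val ^ r) = _
      rw [map_pow]
    refine ⟨a' * Q, b' * Q, r, r, mul_ne_zero hb'0 hQ0, hcd a' hχa, hcd b' hχb, ?_⟩
    rw [← hfa, ← hfb]
    ring

end Groth.Agent.S15705
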