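import Groth.Statements.S15708
import Mathlib.Tactic

set_option autoImplicit false
universe u v
open CAlg

namespace Groth.Agent.S15708

open DirectSum in
/-- a homogeneous ideal not contained in a prime has a homogeneous element outside the prime -/
theorem exists_homog_notMem {R : Type u} {A : Type v} [CommRing R] [CommRing A]
    [Algebra R A] (𝒜 : ℕ → Submodule R A) [GradedRing 𝒜]
    (J : Ideal A) (hJ : J.IsHomogeneous 𝒜) (p : Ideal A) (hJp : ¬ J ≤ p) :
    ∃ (i : ℕ) (x : A), x ∈ 𝒜 i ∧ x ∈ J ∧ x ∉ p := by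
  classical
  rw [SetLike.not_le_iff_exists] at hJp
  obtain ⟨x, hxJ, hxp⟩ := hJp
  by_contra hcon
  push Not at hcon
  apply hxp
  rw [← DirectSum.sum_support_decompose 𝒜 x]
  refine p.sum_mem fun i _ => ?_
  exact hcon i _ (SetLike.coe_mem _) (hJ i hxJ)

/-- single prime case -/
theorem single {R : Type u} {A : Type v} [CommRing R] [CommRing A]
    [Algebra R A] (𝒜 : ℕ → Submodule R A) [GradedRing 𝒜]
    (J : Ideal A) (hJ : J.IsHomogeneous 𝒜) (p : Ideal A) [hp : p.IsPrime]
    (hirr : ¬ (HomogeneousIdeal.irrelevant 𝒜).toIdeal ≤ p) (hJp : ¬ J ≤ p) :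
    ∃ (z : A) (n : ℕ), 0 < n ∧ z ∈ 𝒜 n ∧ z ∈ J ∧ z ∉ p := by
  obtain ⟨i, x, hxi, hxJ, hxp⟩ := exists_homog_notMem 𝒜 J hJ p hJp
  obtain ⟨j, y, hyj, hyI, hyp⟩ := exists_homog_notMem 𝒜 _
    (HomogeneousIdeal.irrelevant 𝒜).isHomogeneous p hirr
  have hj : 0 < j := by
    rcases Nat.eq_zero_or_pos j with rfl | h
    · exfalso
      apply hyp
      have h0 : GradedRing.proj 𝒜 0 y = 0 := (HomogeneousIdeal.mem_irrelevant_iff 𝒜 y).mp hyI
      rw [GradedRing.proj_apply, DirectSum.decompose_of_mem_same 𝒜 hyj] at h0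
      rw [h0]
      exact p.zero_mem
    · exact h
  refine ⟨x * y, i + j, by omega, SetLike.mul_mem_graded hxi hyj, J.mul_mem_right _ hxJ, ?_⟩
  intro h
  rcases hp.mem_or_mem h with h | h
  · exact hxp h
  · exact hyp h

theorem avoid {R : Type u} {A : Type v} [CommRing R] [CommRing A]
    [Algebra R A] (𝒜 : ℕ → Submodule R A) [GradedRing 𝒜] (J : Ideal A) :
    ∀ (P : Finset (Ideal A)),
      (∀ p ∈ P, p.IsPrime ∧ ∃ (z : A) (n : ℕ), 0 < n ∧ z ∈ 𝒜 n ∧ z ∈ J ∧ z ∉ p) →
      ∃ (z : A) (n : ℕ), 0 < n ∧ z ∈ 𝒜 n ∧ z ∈ J ∧ ∀ p ∈ P, z ∉ p := by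
  classical
  intro P
  induction P using Finset.strongInduction with
  | H P ih =>
    intro hP
    rcases P.eq_empty_or_nonempty with rfl | hne
    · exact ⟨0, 1, one_pos, zero_mem _, zero_mem _, by simp⟩
    have hz : ∀ p ∈ P, ∃ (z : A) (n : ℕ), 0 < n ∧ z ∈ 𝒜 n ∧ z ∈ J ∧
        ∀ q ∈ P.erase p, z ∉ q := by
      intro p hp
      exact ih (P.erase p) (Finset.erase_ssubset hp)
        (fun q hq => hP q (Finset.mem_of_mem_erase hq))
    by_cases hex : ∃ p ∈ P, ∃ (z : A) (n : ℕ), 0 < n ∧ z ∈ 𝒜 n ∧ z ∈ J ∧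
        (∀ q ∈ P.erase p, z ∉ q) ∧ z ∉ p
    · obtain ⟨p, hp, z, n, hn, hzn, hzJ, hzq, hzp⟩ := hex
      refine ⟨z, n, hn, hzn, hzJ, fun q hq => ?_⟩
      by_cases hqp : q = p
      · rw [hqp]; exact hzp
      · exact hzq q (Finset.mem_erase.mpr ⟨hqp, hq⟩)
    · push Not at hex
      choose! z n hn hzn hzJ hzq using hz
      have hzp : ∀ p ∈ P, z p ∈ p := fun p hp =>
        hex p hp (z p) (n p) (hn p hp) (hzn p hp) (hzJ p hp) (hzq p hp)
      obtain ⟨p₁, hp₁⟩ := hne
      rcases (P.erase p₁).eq_empty_or_nonempty with hQ | hQ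
      · obtain ⟨_, z', n', hn', hzn', hzJ', hzp'⟩ := hP p₁ hp₁
        refine ⟨z', n', hn', hzn', hzJ', fun q hq => ?_⟩
        have : q = p₁ := by
          by_contra hne'
          have : q ∈ P.erase p₁ := Finset.mem_erase.mpr ⟨hne', hq⟩
          rw [hQ] at this
          exact absurd this (Finset.notMem_empty q)
        rw [this]; exact hzp'
      · set Q := P.erase p₁ with hQdef
        have hQP : ∀ q ∈ Q, q ∈ P := fun q hq => Finset.mem_of_mem_erase hq
        have hQne : ∀ q ∈ Q, q ≠ p₁ := fun q hq => Finset.ne_of_mem_erase hq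
        let u := z p₁
        let a := n p₁
        let w := ∏ q ∈ Q, z q
        let b := ∑ q ∈ Q, n q
        have ha : 0 < a := hn p₁ hp₁
        have hb : 0 < b := Finset.sum_pos (fun q hq => hn q (hQP q hq)) hQ
        have hu : u ∈ 𝒜 a := hzn p₁ hp₁
        have hw : w ∈ 𝒜 b := SetLike.prod_mem_graded 𝒜 _ _ (fun q hq => hzn q (hQP q hq))
        have hprime₁ : p₁.IsPrime := (hP p₁ hp₁).1
        have hup₁ : u ∈ p₁ := hzp p₁ hp₁
        have hwp₁ : w ∉ p₁ := by
          intro h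
          obtain ⟨q, hq, hzq'⟩ := (Ideal.IsPrime.prod_mem_iff).mp h
          exact hzq q (hQP q hq) p₁ (Finset.mem_erase.mpr ⟨(hQne q hq).symm, hp₁⟩) hzq'
        have hwq : ∀ q ∈ Q, w ∈ q := fun q hq =>
          Ideal.mem_of_dvd _ (Finset.dvd_prod_of_mem z hq) (hzp q (hQP q hq))
        have huq : ∀ q ∈ Q, u ∉ q := fun q hq => hzq p₁ hp₁ q hq
        refine ⟨u ^ b + w ^ a, a * b, Nat.mul_pos ha hb, ?_, ?_, ?_⟩
        · refine Submodule.add_mem _ ?_ ?_
          · have := SetLike.pow_mem_graded b hu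
            rwa [smul_eq_mul, mul_comm] at this
          · have := SetLike.pow_mem_graded a hw
            rwa [smul_eq_mul] at this
        · refine J.add_mem (Ideal.pow_mem_of_mem J (hzJ p₁ hp₁) b hb) ?_
          obtain ⟨q, hq⟩ := hQ
          have hwJ : w ∈ J := Ideal.mem_of_dvd _ (Finset.dvd_prod_of_mem z hq) (hzJ q (hQP q hq))
          exact Ideal.pow_mem_of_mem J hwJ a ha
        · intro q hq hmem
          by_cases hqp : q = p₁
          · subst hqp
            have h1 : u ^ b ∈ q := Ideal.pow_mem_of_mem q hup₁ b hb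
            have h2 : w ^ a ∈ q := by
              have := q.sub_mem hmem h1
              simpa using this
            exact hwp₁ (hprime₁.mem_of_pow_mem a h2)
          · have hqQ : q ∈ Q := Finset.mem_erase.mpr ⟨hqp, hq⟩
            have hprime : q.IsPrime := (hP q hq).1
            have h1 : w ^ a ∈ q := Ideal.pow_mem_of_mem q (hwq q hqQ) a ha
            have h2 : u ^ b ∈ q := by
              have := q.sub_mem hmem h1
              simpa using this
            exact huq q hqQ (hprime.mem_of_pow_mem b h2)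


/-- Let A be a Noetherian commutative ring graded by the natural numbers, J a homogeneous ideal, and
p_1, ..., p_r finitely many prime ideals such that no p_i contains the irrelevant ideal A_+ and no
p_i contains J. Then there is a homogeneous element z of positive degree with z in J and z in no
p_i. -/
theorem result {R : Type u} {A : Type v} [CommRing R] [CommRing A]
    [Algebra R A] [IsNoetherianRing A] (𝒜 : ℕ → Submodule R A) [GradedRing 𝒜]
    (J : Ideal A) (hJ : J.IsHomogeneous 𝒜) (P : Finset (Ideal A))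
    (hP : ∀ p ∈ P, p.IsPrime ∧ ¬ (HomogeneousIdeal.irrelevant 𝒜).toIdeal ≤ p ∧ ¬ J ≤ p) :
    ∃ (z : A) (n : ℕ), 0 < n ∧ z ∈ 𝒜 n ∧ z ∈ J ∧ ∀ p ∈ P, z ∉ p := by
  refine avoid 𝒜 J P fun p hp => ⟨(hP p hp).1, ?_⟩
  have := (hP p hp).1
  exact single 𝒜 J hJ p (hP p hp).2.1 (hP p hp).2.2

end Groth.Agent.S15708
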