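import Groth.Statements.S15712
import Groth.Agent.Lib.Helper67.Depth
import Groth.Agent.Lib.Helper29.AssNoeth
import Groth.Agent.Lib.Helper29.QCohQcqs
import Mathlib.RingTheory.Ideal.Height

set_option autoImplicit false
universe u
open CategoryTheory AlgebraicGeometry TopologicalSpace
open RatSing

namespace Groth.Agent.S15712

open Groth.Agent.Lib.Helper67
open Groth.Agent.Lib.Helper29.QCohLoc

/-- around a minimal prime of a Noetherian ring there is a basic open inside its closure -/
theorem exists_notMem_forall_le_of_minimal {A : Type*} [CommRing A] [IsNoetherianRing A]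
    (p : Ideal A) (hp : p ∈ minimalPrimes A) :
    ∃ b : A, b ∉ p ∧ ∀ q : Ideal A, q.IsPrime → b ∉ q → p ≤ q := by
  classical
  have hpp : p.IsPrime := hp.1.1
  have hfin : (minimalPrimes A).Finite := minimalPrimes.finite_of_isNoetherianRing A
  let S : Finset (Ideal A) := hfin.toFinset.erase p
  have hex : ∀ q' ∈ S, ∃ c : A, c ∈ q' ∧ c ∉ p := by
    intro q' hq'
    rw [Finset.mem_erase, Set.Finite.mem_toFinset] at hq'
    by_contra hcon
    push Not at hcon
    have hle : q' ≤ p := hcon
    have : p ≤ q' := hp.2 ⟨hq'.2.1.1, bot_le⟩ hle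
    exact hq'.1 (le_antisymm hle this)
  choose! c hc1 hc2 using hex
  refine ⟨∏ q' ∈ S, c q', ?_, ?_⟩
  · intro hmem
    obtain ⟨q', hq', hcq'⟩ := (hpp.prod_mem_iff).mp hmem
    exact hc2 q' hq' hcq'
  · intro q hq hbq
    obtain ⟨q'', hq'', hle⟩ := Ideal.exists_minimalPrimes_le (I := ⊥) (J := q) bot_le
    by_cases h : q'' = p
    · exact h ▸ hle
    · exfalso
      have hmem : q'' ∈ S := by
        rw [Finset.mem_erase, Set.Finite.mem_toFinset]
        exact ⟨h, hq''⟩
      apply hbq
      obtain ⟨d, hd⟩ := Finset.dvd_prod_of_mem c hmem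
      rw [hd]
      exact Ideal.mul_mem_right _ _ (hle (hc1 q'' hmem))


/-- Let X be a locally Noetherian scheme with Serre's property (S_1), i.e. every local ring O_{X,x} has
depth at least min(1, dim O_{X,x}) (for instance X Cohen–Macaulay), and let U ⊆ X be open. Then
scheme-theoretic density of U in X is equivalent to U being dense as a subset. (The published
statement assumes every scheme excellent, in particular locally Noetherian.) -/
theorem result (X : Scheme.{u}) [IsLocallyNoetherian X]
    (hS1 : ∀ x : X, min (1 : WithBot ℕ∞) (ringKrullDim (X.presheaf.stalk x)) ≤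
      ((LocCoh.depth (X.presheaf.stalk x) (X.presheaf.stalk x) : ℕ∞) : WithBot ℕ∞))
    (U : X.Opens) : CInt.IsSchematicallyDense U ↔ Dense (U : Set X) := by
  constructor
  · intro hsd
    rw [dense_iff_inter_open]
    intro V hV hVne
    by_contra hcon
    rw [Set.not_nonempty_iff_eq_empty] at hcon
    let V' : X.Opens := ⟨V, hV⟩
    have hbot : V' ⊓ U = ⊥ := by
      ext z
      simp only [Opens.coe_inf, Opens.coe_bot, Set.mem_empty_iff_false, iff_false]
      intro hz
      have : z ∈ V ∩ (U : Set X) := hz
      rw [hcon] at this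
      exact this
    have hinj := hsd V'
    have hss : Subsingleton Γ(X, V' ⊓ U) := by
      rw [hbot]; infer_instance
    have : Nonempty V' := hVne.to_subtype
    have hnt : Nontrivial Γ(X, V') := inferInstance
    obtain ⟨a, b, hab⟩ := hnt
    exact hab (hinj (Subsingleton.elim _ _))
  · intro hd V
    rw [injective_iff_map_eq_zero]
    intro a ha
    by_contra hane
    let F := Coh.structureModule X
    have hne' : ofSec X a ≠ 0 := fun h => hane (ofSec_injective X (h.trans (ofSec_zero X).symm))
    -- a point where the germ is nonzero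
    obtain ⟨x, hxV, hx⟩ : ∃ (x : X) (hx : x ∈ V), F.presheaf.germ V x hx (ofSec X a) ≠ 0 := by
      by_contra hcon
      push Not at hcon
      apply hne'
      apply section_ext' F
      intro x hx
      rw [hcon x hx, map_zero]
    obtain ⟨W, hW, hxW, hWV⟩ := exists_isAffineOpen_mem_and_subset hxV
    replace hWV : W ≤ V := hWV
    have hN : IsNoetherianRing Γ(X, W) := IsLocallyNoetherian.component_noetherian ⟨W, hW⟩
    have hF := locAt_structureModule X hW
    set s := F.presheaf.map (homOfLE hWV).op (ofSec X a) with hs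
    have hsx : F.presheaf.germ W x hxW s ≠ 0 := by
      rw [hs, germ_res]
      exact hx
    obtain ⟨y, hyW, hyAss, -, hys⟩ := exists_isAssPoint_specializes F hW hF x hxW s hsx
    -- y is a point of dimension zero
    have hyass' := (isAssPoint_structureModule_iff X y).mp hyAss
    have hdepth : LocCoh.depth (X.presheaf.stalk y) (X.presheaf.stalk y) = 0 :=
      (depth_eq_zero_iff (X.presheaf.stalk y)).mpr hyass'
    have hdim : ringKrullDim (X.presheaf.stalk y) ≤ 0 := by
      have h1 := hS1 y
      rw [hdepth, min_le_iff] at h1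
      rcases h1 with h1 | h1
      · exact absurd h1 (by
          rw [WithBot.coe_zero]
          exact not_le_of_gt zero_lt_one)
      · exact h1
    let _ := X.presheaf.algebra_section_stalk ⟨y, hyW⟩
    have hloc := hW.isLocalization_stalk ⟨y, hyW⟩
    have hmin : (hW.primeIdealOf ⟨y, hyW⟩).asIdeal ∈ minimalPrimes Γ(X, W) := by
      rw [← Ideal.height_eq_zero_iff]
      have := IsLocalization.AtPrime.ringKrullDim_eq_height (hW.primeIdealOf ⟨y, hyW⟩).asIdeal
        (X.presheaf.stalk y)
      rw [this] at hdim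
      have h2 : ((hW.primeIdealOf ⟨y, hyW⟩).asIdeal.height : WithBot ℕ∞) ≤ ((0 : ℕ∞) : WithBot ℕ∞) :=
        hdim
      rw [WithBot.coe_le_coe] at h2
      exact le_antisymm h2 bot_le
    obtain ⟨b, hb1, hb2⟩ := exists_notMem_forall_le_of_minimal _ hmin
    have hyb : y ∈ X.basicOpen b := by
      by_contra h
      exact hb1 ((mem_primeIdealOf_iff hW y hyW b).mpr h)
    -- density gives a point of U in D(b)
    obtain ⟨z, hzb, hzU⟩ := (dense_iff_inter_open.mp hd) _ (X.basicOpen b).isOpen ⟨y, hyb⟩
    have hzW : z ∈ W := X.basicOpen_le b hzb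
    have hle : (hW.primeIdealOf ⟨y, hyW⟩).asIdeal ≤ (hW.primeIdealOf ⟨z, hzW⟩).asIdeal :=
      hb2 _ (hW.primeIdealOf ⟨z, hzW⟩).isPrime
        (fun h => ((mem_primeIdealOf_iff hW z hzW b).mp h) hzb)
    have hyz : y ⤳ z := specializes_of_primeIdealOf_le hW hzW hyW hle
    have hyU : y ∈ U := hyz.mem_open U.isOpen hzU
    apply hys
    have hyVU : y ∈ V ⊓ U := ⟨hWV hyW, hyU⟩
    have h0 : F.presheaf.map (homOfLE (inf_le_left : V ⊓ U ≤ V)).op (ofSec X a) = 0 := by
      rw [ofSec_res, ha, ofSec_zero]
    have h1 : F.presheaf.germ V y (hWV hyW) (ofSec X a) = 0 := by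
      rw [← germ_res F V (V ⊓ U) inf_le_left y hyVU, h0, map_zero]
    rw [hs, germ_res]
    exact h1

end Groth.Agent.S15712
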