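import Groth.Statements.S15715
import Groth.Agent.Lib.Lead.QCohAff
import Groth.Agent.Lib.Helper2.KerSec
import Mathlib.RingTheory.Ideal.AssociatedPrime.Finiteness

set_option autoImplicit false
universe u
open CategoryTheory AlgebraicGeometry TopologicalSpace
open RatSing

namespace Groth.Agent.S15715

/-- Let X be a locally Noetherian scheme, φ : F → G a homomorphism of O_X-modules with F quasi-coherent
and torsion-free (over every affine open V, no nonzero section of F is killed by a regular element
of O_X(V)), and U a scheme-theoretically dense open subset of X such that the restriction of φ to U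
is injective. Then φ is injective. (The published statement allows an arbitrary O_X-module F; for
the skyscraper sheaf on the affine line over a field, placed at a closed point with value the local
ring at that point, which is torsion-free in this sense, the zero map to the zero module is
injective over the dense open complement of the point but not injective. This row takes F
quasi-coherent.) -/
theorem result (X : Scheme.{u})
    [IsLocallyNoetherian X] (F G : X.Modules) (hF : Coh.IsQCoh F)
    (htf : ∀ V : X.affineOpens, Submodule.torsion Γ(X, V.1) (F.val.obj (Opposite.op V.1)) = ⊥)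
    (φ : F ⟶ G) (U : X.Opens) (hU : CInt.IsSchematicallyDense U)
    (hφU : ∀ V : X.Opens, V ≤ U → Function.Injective ⇑(ConcreteCategory.hom (φ.val.app (Opposite.op V)))) (V : X.Opens) :
    Function.Injective ⇑(ConcreteCategory.hom (φ.val.app (Opposite.op V))) := by
  classical
  haveI : F.IsQuasicoherent := hF
  -- naturality in elementwise form
  have nat : ∀ (V₁ V₂ : X.Opens) (h : V₂ ≤ V₁) (s : Γ(F, V₁)),
      φ.app V₂ (F.presheaf.map (homOfLE h).op s) = G.presheaf.map (homOfLE h).op (φ.app V₁ s) :=
    fun V₁ V₂ h s => Groth.Agent.Lib.Helper2.KerSec.naturality_apply φ (homOfLE h) s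
  -- step 1: affine case
  have key : ∀ W : X.Opens, IsAffineOpen W → ∀ s : Γ(F, W), φ.app W s = 0 → s = 0 := by
    intro W hW s hs
    haveI : IsNoetherianRing Γ(X, W) := IsLocallyNoetherian.component_noetherian ⟨W, hW⟩
    have h1 : ∀ f : Γ(X, W), X.basicOpen f ≤ U → ∃ n : ℕ, f ^ n • s = 0 := by
      intro f hf
      apply Groth.Agent.Lib.Lead.QCohAff.exists_pow_smul_eq_zero F hW f s
      apply hφU _ hf
      refine Eq.trans ?_ (map_zero _).symm
      have := nat W (X.basicOpen f) (X.basicOpen_le f) s
      rw [hs, map_zero] at this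
      exact this
    let I : Ideal Γ(X, W) := LinearMap.ker (LinearMap.toSpanSingleton Γ(X, W) Γ(F, W) s)
    by_cases hd : Disjoint (I : Set Γ(X, W)) (nonZeroDivisors Γ(X, W))
    · exfalso
      have hlt := Ideal.bot_lt_annihilator_of_disjoint_nonZeroDivisors hd
      obtain ⟨a, ha, ha0⟩ := SetLike.exists_of_lt hlt
      apply ha0
      rw [Ideal.mem_bot]
      apply hU W
      refine Eq.trans ?_ (map_zero _).symm
      refine TopCat.Presheaf.section_ext X.sheaf _ _ _ (fun x hx => ?_)
      obtain ⟨f, hfU, hxf⟩ := hW.exists_basicOpen_le (V := W ⊓ U) ⟨x, hx⟩ hx.1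
      obtain ⟨n, hn⟩ := h1 f (hfU.trans inf_le_right)
      have hfn : f ^ n ∈ I := hn
      have haf : a * f ^ n = 0 := by
        have := Module.mem_annihilator.mp ha ⟨f ^ n, hfn⟩
        exact congrArg Subtype.val this
      have hunit : IsUnit (X.presheaf.germ W x hx.1 f) := (X.mem_basicOpen f x hx.1).mp hxf
      have h2 : X.presheaf.germ W x hx.1 a * (X.presheaf.germ W x hx.1 f) ^ n = 0 := by
        rw [← map_pow, ← map_mul, haf, map_zero]
      have h3 : X.presheaf.germ W x hx.1 a = 0 := by
        have := (hunit.pow n).mul_left_eq_zero.mp h2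
        exact this
      refine Eq.trans ?_ (map_zero _).symm
      change X.presheaf.germ (W ⊓ U) x hx (X.presheaf.map (homOfLE inf_le_left).op a) = 0
      rw [TopCat.Presheaf.germ_res_apply]
      exact h3
    · rw [Set.not_disjoint_iff] at hd
      obtain ⟨r, hrI, hr⟩ := hd
      have hmem : s ∈ Submodule.torsion Γ(X, W) (F.val.obj (Opposite.op W)) := ⟨⟨r, hr⟩, hrI⟩
      rw [htf ⟨W, hW⟩] at hmem
      exact hmem
  -- step 2: general V
  rw [injective_iff_map_eq_zero]
  intro s hs
  refine TopCat.Presheaf.section_ext ⟨F.presheaf, F.isSheaf⟩ V _ _ (fun y hy => ?_)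
  obtain ⟨_, ⟨W, hW : IsAffineOpen W, rfl⟩, hyW, hWV⟩ :=
    X.isBasis_affineOpens.exists_subset_of_mem_open hy V.2
  have hWV' : W ≤ V := hWV
  have h1 := TopCat.Presheaf.germ_res_apply F.presheaf (homOfLE hWV') y hyW s
  have h2 : F.presheaf.map (homOfLE hWV').op s = 0 := by
    apply key W hW
    have := nat V W hWV' s
    rw [this]
    have hs' : φ.app V s = 0 := hs
    rw [hs', map_zero]
  rw [h2, map_zero] at h1
  refine Eq.trans ?_ (map_zero _).symm
  exact h1.symm

end Groth.Agent.S15715
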