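import Groth.Statements.S15717
import Groth.Agent.Lib.Helper67.SuppLoc

set_option autoImplicit false
universe u
open CAlg

namespace Groth.Agent.S15717

/-- Let R be a Cohen–Macaulay local ring and I an ideal of R with R/I equidimensional (all minimal
primes p over I have the same dim R/p). Then there is a regular sequence r_1, ..., r_n in I such
that the closed subscheme V(r_1, ..., r_n) of Spec R, a local complete intersection, contains V(I),
has the same dimension as V(I), and has the irreducible components of V(I) among its irreducible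
components: dim R/(r_1, ..., r_n) = dim R/I and every minimal prime over I is a minimal prime over
(r_1, ..., r_n). The sequence is asked to be weakly regular (each r_i a non-zero-divisor modulo the
previous ones), which for I proper is the same as regular and which also covers I = R with the
sequence (1). -/
theorem result (R : Type u) [CommRing R]
    [LocCoh.IsCohenMacaulayLocalRing R] (I : Ideal R)
    (hI : ∀ p ∈ I.minimalPrimes, ringKrullDim (R ⧸ p) = ringKrullDim (R ⧸ I)) :
    ∃ rs : List R, RingTheory.Sequence.IsWeaklyRegular R rs ∧ Ideal.ofList rs ≤ I ∧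
      ringKrullDim (R ⧸ Ideal.ofList rs) = ringKrullDim (R ⧸ I) ∧
      I.minimalPrimes ⊆ (Ideal.ofList rs).minimalPrimes := by
  open Groth.Agent.Lib.Helper67 in
  by_cases hItop : I = ⊤
  · subst hItop
    refine ⟨[1], ?_, le_top, ?_, ?_⟩
    · rw [RingTheory.Sequence.isWeaklyRegular_singleton_iff]
      exact IsSMulRegular.one R
    · have : Ideal.ofList ([1] : List R) = ⊤ := by
        rw [Ideal.ofList_singleton, Ideal.span_singleton_one]
      rw [this]
    · intro p hp
      exact absurd hp.1.2 (fun h => hp.1.1.ne_top (top_le_iff.mp h))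
  have hCM : LocCoh.IsCohenMacaulayModule R R :=
    LocCoh.IsCohenMacaulayLocalRing.supportDim_eq_depth
  have hIR : I • (⊤ : Submodule R R) ≠ ⊤ := prime_smul_top_ne_top R hItop
  obtain ⟨rs, -, hreg, hmem, hmax⟩ := exists_maximal_extension I R hIR []
    (RingTheory.Sequence.IsWeaklyRegular.nil R R) (by simp)
  have hlen := length_eq_idealDepth_of_maximal I R hIR rs hreg hmem hmax
  have hle : Ideal.ofList rs ≤ I := ofList_le_of_mem I hmem
  have hmemm : ∀ x ∈ rs, x ∈ IsLocalRing.maximalIdeal R :=
    fun x hx => IsLocalRing.le_maximalIdeal hItop (hmem x hx)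
  have equivJ : ∀ J : Ideal R, Nonempty ((R ⧸ J • (⊤ : Submodule R R)) ≃ₗ[R] (R ⧸ J)) := fun J =>
    ⟨Submodule.quotEquivOfEq _ _ (by simp [Ideal.mul_top])⟩
  have hdimJ : ∀ J : Ideal R, ringKrullDim (R ⧸ J) =
      Module.supportDim R (R ⧸ J • (⊤ : Submodule R R)) := fun J => by
    obtain ⟨e⟩ := equivJ J
    rw [Module.supportDim_eq_of_equiv e, Module.supportDim_quotient_eq_ringKrullDim]
  have h1 := supportDim_eq_add_idealDepth_of_CM R hCM I hItop
  have h2 := (isWeaklyRegular_iff_supportDim_of_CM R hCM rs hmemm).mp hreg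
  have hdim : ringKrullDim (R ⧸ Ideal.ofList rs) = ringKrullDim (R ⧸ I) := by
    rw [hdimJ, hdimJ]
    apply withBot_enat_add_natCast_cancel rs.length
    rw [h2, h1, ← hlen]
    rfl
  refine ⟨rs, hreg, hle, hdim, ?_⟩
  intro p hp
  have hpp : p.IsPrime := hp.1.1
  have hN := isCohenMacaulayModule_quot_ofList rs R hCM hmemm hreg
  have hntN := nontrivial_of_isCohenMacaulayModule hN
  obtain ⟨k, hk⟩ := supportDim_eq_natCast (R := R)
    (R ⧸ Ideal.ofList rs • (⊤ : Submodule R R))
  have hann : Module.annihilator R (R ⧸ Ideal.ofList rs • (⊤ : Submodule R R)) =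
      Ideal.ofList rs := by
    obtain ⟨e⟩ := equivJ (Ideal.ofList rs)
    rw [e.annihilator_eq, Ideal.annihilator_quotient]
  have hkp : ringKrullDim (R ⧸ p) = (k : WithBot ℕ∞) := by
    rw [hI p hp, ← hdim, hdimJ, hk]
  refine ⟨⟨hpp, le_trans hle hp.1.2⟩, ?_⟩
  intro q hq hqp
  have hqprime : q.IsPrime := hq.1
  obtain ⟨q', hq', hq'q⟩ := Ideal.exists_minimalPrimes_le (J := q) (I := Ideal.ofList rs) hq.2
  have hq'prime : q'.IsPrime := hq'.1.1
  have hq'ass : q' ∈ associatedPrimes R (R ⧸ Ideal.ofList rs • (⊤ : Submodule R R)) := by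
    apply Module.associatedPrimes.minimalPrimes_annihilator_subset_associatedPrimes
    rw [hann]
    exact hq'
  have hq'dim := ringKrullDim_quotient_eq_supportDim_of_CM _ hN hq'ass
  rw [hk] at hq'dim
  have hq'p : q' ≤ p := le_trans hq'q hqp
  have heq : q' = p := by
    by_contra hne
    have hlt : q' < p := lt_of_le_of_ne hq'p hne
    have h3 := ringKrullDim_quotient_succ_le_of_lt hlt
    rw [hkp, hq'dim] at h3
    have h5 : ((k + 1 : ℕ) : WithBot ℕ∞) ≤ (k : ℕ) := by push_cast; exact h3
    have h6 : k + 1 ≤ k := by exact_mod_cast h5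
    omega
  rw [← heq]
  exact hq'q

end Groth.Agent.S15717
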