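import Groth.Statements.S15724
import Groth.Agent.Lib.Helper91.InvHilb

set_option autoImplicit false
universe u
open W4c2invhilbsl2

namespace Groth.Agent.S15724

/-- Grade the polynomial ring k[X₀,…,X₄] over a field k by ℤ × ℤ/m, giving X₀ weight (1,0), X₁ and X₂
weight (−p,−1), and X₃ and X₄ weight (q,1), where 0 < p < q are coprime integers and m ≥ 1, and let
P be the principal ideal generated by the weight-zero element X₀^(q−p) − X₁X₄ + X₂X₃ (the equation
of an affine hypersurface). Then every polynomial homogeneous of the weight of X₁ is congruent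
modulo P to some a·X₁ + b·X₂ with a and b homogeneous of weight zero, and every polynomial
homogeneous of the weight of X₃ is congruent modulo P to some a·X₃ + b·X₄ with a and b homogeneous
of weight zero. Equivalently, in the coordinate ring of the hypersurface the weight pieces of the
weights of X₁ and of X₃ are generated over the weight-zero subring (the ring of invariants of the
diagonal action of a one-dimensional torus times the group of m-th roots of unity with these
weights) by X₁, X₂ and by X₃, X₄ respectively. (For the weight of X₁ the congruence is already an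
equality in the polynomial ring; for the weight of X₃ the hypersurface equation is needed, e.g.
X₀^(q+p)X₁ has that weight when m divides 2.) -/
theorem result (k : Type u) [Field k] (p q m : ℕ) (hp : 0 < p) (hpq : p < q) (hcop : Nat.Coprime p q) (hm : 0 < m) (f : MvPolynomial (Fin 5) k) :
    (f ∈ MvPolynomial.weightedHomogeneousSubmodule k (W4c2invhilbsl2.wt5 p q m) (W4c2invhilbsl2.wt5 p q m 1) →
      ∃ a b : MvPolynomial (Fin 5) k, a ∈ MvPolynomial.weightedHomogeneousSubmodule k (W4c2invhilbsl2.wt5 p q m) 0 ∧ b ∈ MvPolynomial.weightedHomogeneousSubmodule k (W4c2invhilbsl2.wt5 p q m) 0 ∧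
        f - (a * MvPolynomial.X (1 : Fin 5) + b * MvPolynomial.X (2 : Fin 5)) ∈ Ideal.span {MvPolynomial.X (0 : Fin 5) ^ (q - p) - MvPolynomial.X 1 * MvPolynomial.X 4 + MvPolynomial.X 2 * MvPolynomial.X 3}) ∧
    (f ∈ MvPolynomial.weightedHomogeneousSubmodule k (W4c2invhilbsl2.wt5 p q m) (W4c2invhilbsl2.wt5 p q m 3) →
      ∃ a b : MvPolynomial (Fin 5) k, a ∈ MvPolynomial.weightedHomogeneousSubmodule k (W4c2invhilbsl2.wt5 p q m) 0 ∧ b ∈ MvPolynomial.weightedHomogeneousSubmodule k (W4c2invhilbsl2.wt5 p q m) 0 ∧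
        f - (a * MvPolynomial.X (3 : Fin 5) + b * MvPolynomial.X (4 : Fin 5)) ∈ Ideal.span {MvPolynomial.X (0 : Fin 5) ^ (q - p) - MvPolynomial.X 1 * MvPolynomial.X 4 + MvPolynomial.X 2 * MvPolynomial.X 3}) := by
  classical
  have hpZ : (0 : ℤ) < p := by exact_mod_cast hp
  have hpqZ : (p : ℤ) < q := by exact_mod_cast hpq
  have hw1 : wt5 p q m 1 = (-(p : ℤ), (-1 : ZMod m)) := rfl
  have hw2 : wt5 p q m 2 = (-(p : ℤ), (-1 : ZMod m)) := rfl
  have hw3 : wt5 p q m 3 = ((q : ℤ), (1 : ZMod m)) := rfl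
  constructor
  · intro hf
    open MvPolynomial Groth.Agent.Lib.Helper48.HJ in
    obtain ⟨a, ha, hfa⟩ := decomp_of_cover (wt5 p q m) (wt5 p q m 1) f hf
      (Finset.univ : Finset (Fin 2)) ![vec5 0 1 0 0 0, vec5 0 0 1 0 0]
      (by
        intro j _
        fin_cases j
        · show Finsupp.weight (wt5 p q m) (vec5 0 1 0 0 0) = _
          rw [wt5_weight, hw1]
          simp
        · show Finsupp.weight (wt5 p q m) (vec5 0 0 1 0 0) = _
          rw [wt5_weight, hw1]
          simp)
      (fun d => if 1 ≤ d 1 then (0 : Fin 2) else 1)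
      (by
        intro d hd
        refine ⟨Finset.mem_univ _, ?_⟩
        have hwd : Finsupp.weight (wt5 p q m) d = wt5 p q m 1 := hf (mem_support_iff.mp hd)
        rw [wt5_weight, hw1, Prod.mk.injEq] at hwd
        obtain ⟨h1, -⟩ := hwd
        split_ifs with c1
        · show vec5 0 1 0 0 0 ≤ d
          rw [vec5_le_iff]; omega
        · show vec5 0 0 1 0 0 ≤ d
          rw [vec5_le_iff]
          refine ⟨Nat.zero_le _, Nat.zero_le _, ?_, Nat.zero_le _, Nat.zero_le _⟩
          by_contra hc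
          have h10 : (d 1 : ℤ) = 0 := by exact_mod_cast (by omega : d 1 = 0)
          have h20 : (d 2 : ℤ) = 0 := by exact_mod_cast (by omega : d 2 = 0)
          rw [h10, h20] at h1
          have : (0 : ℤ) ≤ (q : ℤ) * ((d 3 : ℤ) + d 4) := by positivity
          have : (0 : ℤ) ≤ d 0 := by positivity
          simp only [add_zero, mul_zero, sub_zero] at h1
          omega)
    refine ⟨a 0, a 1, ha 0, ha 1, ?_⟩
    have e0 : (MvPolynomial.monomial (Groth.Agent.Lib.Helper48.HJ.vec5 0 1 0 0 0) (1 : k)) =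
        MvPolynomial.X 1 := by
      rw [Groth.Agent.Lib.Helper48.HJ.monomial_vec5]; simp
    have e1 : (MvPolynomial.monomial (Groth.Agent.Lib.Helper48.HJ.vec5 0 0 1 0 0) (1 : k)) =
        MvPolynomial.X 2 := by
      rw [Groth.Agent.Lib.Helper48.HJ.monomial_vec5]; simp
    have hsum : f = a 0 * MvPolynomial.X 1 + a 1 * MvPolynomial.X 2 := by
      rw [← e0, ← e1]
      conv_lhs => rw [hfa]
      rw [Fin.sum_univ_two]
      rfl
    rw [← hsum, sub_self]
    exact Submodule.zero_mem _
  · intro hf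
    open MvPolynomial Groth.Agent.Lib.Helper48.HJ in
    obtain ⟨a, ha, hfa⟩ := Groth.Agent.Lib.Helper91.InvHilb.decomp_of_cover' (wt5 p q m)
      (wt5 p q m 3) f hf
      (Finset.univ : Finset (Fin 3)) ![vec5 0 0 0 1 0, vec5 0 0 0 0 1, vec5 (q - p) 0 0 0 0]
      (fun d => if 1 ≤ d 3 then (0 : Fin 3) else if 1 ≤ d 4 then 1 else 2)
      (by
        intro d hd
        refine ⟨Finset.mem_univ _, ?_⟩
        have hwd : Finsupp.weight (wt5 p q m) d = wt5 p q m 3 := hf (mem_support_iff.mp hd)
        rw [wt5_weight, hw3, Prod.mk.injEq] at hwd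
        obtain ⟨h1, -⟩ := hwd
        split_ifs with c1 c2
        · show vec5 0 0 0 1 0 ≤ d
          rw [vec5_le_iff]; omega
        · show vec5 0 0 0 0 1 ≤ d
          rw [vec5_le_iff]; omega
        · show vec5 (q - p) 0 0 0 0 ≤ d
          rw [vec5_le_iff]
          refine ⟨?_, Nat.zero_le _, Nat.zero_le _, Nat.zero_le _, Nat.zero_le _⟩
          have h30 : (d 3 : ℤ) = 0 := by exact_mod_cast (by omega : d 3 = 0)
          have h40 : (d 4 : ℤ) = 0 := by exact_mod_cast (by omega : d 4 = 0)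
          rw [h30, h40] at h1
          simp only [add_zero, mul_zero] at h1
          have : (0 : ℤ) ≤ (p : ℤ) * ((d 1 : ℤ) + d 2) := by positivity
          have hcast : ((q - p : ℕ) : ℤ) = (q : ℤ) - p := Nat.cast_sub hpq.le
          omega)
    have e0 : (MvPolynomial.monomial (Groth.Agent.Lib.Helper48.HJ.vec5 0 0 0 1 0) (1 : k)) =
        MvPolynomial.X 3 := by
      rw [Groth.Agent.Lib.Helper48.HJ.monomial_vec5]; simp
    have e1 : (MvPolynomial.monomial (Groth.Agent.Lib.Helper48.HJ.vec5 0 0 0 0 1) (1 : k)) =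
        MvPolynomial.X 4 := by
      rw [Groth.Agent.Lib.Helper48.HJ.monomial_vec5]; simp
    have e2 : (MvPolynomial.monomial (Groth.Agent.Lib.Helper48.HJ.vec5 (q - p) 0 0 0 0) (1 : k)) =
        MvPolynomial.X 0 ^ (q - p) := by
      rw [Groth.Agent.Lib.Helper48.HJ.monomial_vec5]; simp
    have hsum : f = a 0 * MvPolynomial.X 3 + a 1 * MvPolynomial.X 4 +
        a 2 * MvPolynomial.X 0 ^ (q - p) := by
      rw [← e0, ← e1, ← e2]
      conv_lhs => rw [hfa]
      rw [Fin.sum_univ_three]
      rfl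
    have ha0 : a 0 ∈ MvPolynomial.weightedHomogeneousSubmodule k (wt5 p q m) 0 := by
      have := ha 0
      have hz : wt5 p q m 3 - Finsupp.weight (wt5 p q m)
          ((![Groth.Agent.Lib.Helper48.HJ.vec5 0 0 0 1 0, Groth.Agent.Lib.Helper48.HJ.vec5 0 0 0 0 1,
            Groth.Agent.Lib.Helper48.HJ.vec5 (q - p) 0 0 0 0] : Fin 3 → Fin 5 →₀ ℕ) 0) = 0 := by
        show wt5 p q m 3 - Finsupp.weight (wt5 p q m)
          (Groth.Agent.Lib.Helper48.HJ.vec5 0 0 0 1 0) = 0
        rw [Groth.Agent.Lib.Helper48.HJ.wt5_weight, hw3]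
        simp
      rwa [hz] at this
    have ha1 : a 1 ∈ MvPolynomial.weightedHomogeneousSubmodule k (wt5 p q m) 0 := by
      have := ha 1
      have hz : wt5 p q m 3 - Finsupp.weight (wt5 p q m)
          ((![Groth.Agent.Lib.Helper48.HJ.vec5 0 0 0 1 0, Groth.Agent.Lib.Helper48.HJ.vec5 0 0 0 0 1,
            Groth.Agent.Lib.Helper48.HJ.vec5 (q - p) 0 0 0 0] : Fin 3 → Fin 5 →₀ ℕ) 1) = 0 := by
        show wt5 p q m 3 - Finsupp.weight (wt5 p q m)
          (Groth.Agent.Lib.Helper48.HJ.vec5 0 0 0 0 1) = 0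
        rw [Groth.Agent.Lib.Helper48.HJ.wt5_weight, hw3]
        simp
      rwa [hz] at this
    have ha2 : a 2 ∈ MvPolynomial.weightedHomogeneousSubmodule k (wt5 p q m)
        ((p : ℤ), (1 : ZMod m)) := by
      have := ha 2
      have hz : wt5 p q m 3 - Finsupp.weight (wt5 p q m)
          ((![Groth.Agent.Lib.Helper48.HJ.vec5 0 0 0 1 0, Groth.Agent.Lib.Helper48.HJ.vec5 0 0 0 0 1,
            Groth.Agent.Lib.Helper48.HJ.vec5 (q - p) 0 0 0 0] : Fin 3 → Fin 5 →₀ ℕ) 2) =
            ((p : ℤ), (1 : ZMod m)) := by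
        show wt5 p q m 3 - Finsupp.weight (wt5 p q m)
          (Groth.Agent.Lib.Helper48.HJ.vec5 (q - p) 0 0 0 0) = _
        rw [Groth.Agent.Lib.Helper48.HJ.wt5_weight, hw3]
        simp [Nat.cast_sub hpq.le]
      rwa [hz] at this
    have ha2X1 : a 2 * MvPolynomial.X 1 ∈
        MvPolynomial.weightedHomogeneousSubmodule k (wt5 p q m) 0 := by
      rw [MvPolynomial.mem_weightedHomogeneousSubmodule] at ha2 ⊢
      have := ha2.mul (MvPolynomial.isWeightedHomogeneous_X k (wt5 p q m) (1 : Fin 5))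
      rw [hw1] at this
      have hz : (((p : ℤ), (1 : ZMod m)) + (-(p : ℤ), (-1 : ZMod m))) = 0 := by
        ext <;> simp
      rwa [hz] at this
    have ha2X2 : a 2 * MvPolynomial.X 2 ∈
        MvPolynomial.weightedHomogeneousSubmodule k (wt5 p q m) 0 := by
      rw [MvPolynomial.mem_weightedHomogeneousSubmodule] at ha2 ⊢
      have := ha2.mul (MvPolynomial.isWeightedHomogeneous_X k (wt5 p q m) (2 : Fin 5))
      rw [hw2] at this
      have hz : (((p : ℤ), (1 : ZMod m)) + (-(p : ℤ), (-1 : ZMod m))) = 0 := by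
        ext <;> simp
      rwa [hz] at this
    refine ⟨a 0 - a 2 * MvPolynomial.X 2, a 1 + a 2 * MvPolynomial.X 1,
      Submodule.sub_mem _ ha0 ha2X2, Submodule.add_mem _ ha1 ha2X1, ?_⟩
    have : f - ((a 0 - a 2 * MvPolynomial.X 2) * MvPolynomial.X (3 : Fin 5) +
        (a 1 + a 2 * MvPolynomial.X 1) * MvPolynomial.X (4 : Fin 5)) =
        a 2 * (MvPolynomial.X (0 : Fin 5) ^ (q - p) - MvPolynomial.X 1 * MvPolynomial.X 4 +
          MvPolynomial.X 2 * MvPolynomial.X 3) := by
      conv_lhs => rw [hsum]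
      ring
    rw [this]
    exact Ideal.mul_mem_left _ _ (Ideal.subset_span rfl)

end Groth.Agent.S15724
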