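import Groth.Statements.S15725
import Groth.Agent.Lib.Helper48.HJMono

set_option autoImplicit false
universe u
open W4c2invhilbsl2

namespace Groth.Agent.S15725

/-- Grade the polynomial ring k[X₀,X₁,X₂] over a field k by ℤ × ℤ/m, giving X₀ weight (1,0), X₁ weight
(−p,−1) and X₂ weight (q,1), where 0 < p < q are coprime integers and m ≥ 1 (this three-variable
ring stands for the subring k[X₀,X₁,Xⱼ], j = 3 or 4, of the five-variable ring with the same
weights). Then every polynomial homogeneous of weight (q−p, 0) can be written a·X₀^(q−p) + b·X₁X₂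
with a and b homogeneous of weight zero; in other words the weight-(q−p, 0) piece is generated by
X₀^(q−p) and X₁X₂ as a module over the weight-zero subring. -/
theorem result (k : Type u) [Field k] (p q m : ℕ) (hp : 0 < p) (hpq : p < q) (hcop : Nat.Coprime p q) (hm : 0 < m) (f : MvPolynomial (Fin 3) k)
    (hf : f ∈ MvPolynomial.weightedHomogeneousSubmodule k (W4c2invhilbsl2.wt3 p q m) ((q : ℤ) - (p : ℤ), (0 : ZMod m))) :
    ∃ a b : MvPolynomial (Fin 3) k, a ∈ MvPolynomial.weightedHomogeneousSubmodule k (W4c2invhilbsl2.wt3 p q m) 0 ∧ b ∈ MvPolynomial.weightedHomogeneousSubmodule k (W4c2invhilbsl2.wt3 p q m) 0 ∧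
      f = a * MvPolynomial.X (0 : Fin 3) ^ (q - p) + b * (MvPolynomial.X (1 : Fin 3) * MvPolynomial.X (2 : Fin 3)) := by
  classical
  open MvPolynomial Groth.Agent.Lib.Helper48.HJ in
  have key : ∀ d ∈ f.support, (if vec3 (q - p) 0 0 ≤ d then (0 : Fin 2) else 1) ∈
      (Finset.univ : Finset (Fin 2)) ∧
      (![vec3 (q - p) 0 0, vec3 0 1 1] : Fin 2 → Fin 3 →₀ ℕ)
        (if vec3 (q - p) 0 0 ≤ d then (0 : Fin 2) else 1) ≤ d := by
    intro d hd
    refine ⟨Finset.mem_univ _, ?_⟩
    have hwd : Finsupp.weight (wt3 p q m) d = ((q : ℤ) - p, (0 : ZMod m)) :=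
      hf (mem_support_iff.mp hd)
    rw [wt3_weight, Prod.mk.injEq] at hwd
    obtain ⟨h1, -⟩ := hwd
    split_ifs with h
    · simpa using h
    · simp only [Matrix.cons_val_one, Matrix.cons_val_zero, Matrix.cons_val_fin_one]
      rw [vec3_le_iff] at h ⊢
      simp only [Nat.zero_le, and_self, and_true, true_and] at h ⊢
      push Not at h
      have h' : (d 0 : ℤ) < (q : ℤ) - p := by
        have : ((q - p : ℕ) : ℤ) = (q : ℤ) - p := Nat.cast_sub hpq.le
        omega
      have hpZ : (0 : ℤ) < p := by exact_mod_cast hp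
      have hpqZ : (p : ℤ) < q := by exact_mod_cast hpq
      constructor
      · by_contra hb
        have hb0 : d 1 = 0 := by omega
        rw [hb0] at h1
        simp only [Nat.cast_zero, mul_zero, sub_zero] at h1
        have : (0 : ℤ) ≤ (q : ℤ) * d 2 := by positivity
        rcases Nat.eq_zero_or_pos (d 2) with h2 | h2
        · rw [h2] at h1; simp at h1; omega
        · have : (q : ℤ) * 1 ≤ q * d 2 := by
            apply mul_le_mul_of_nonneg_left _ (by omega)
            exact_mod_cast h2
          have : (0 : ℤ) ≤ d 0 := by positivity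
          omega
      · by_contra hc
        have hc0 : d 2 = 0 := by omega
        rw [hc0] at h1
        simp only [Nat.cast_zero, mul_zero, add_zero] at h1
        have : (0 : ℤ) ≤ (p : ℤ) * d 1 := by positivity
        omega
  open MvPolynomial Groth.Agent.Lib.Helper48.HJ in
  obtain ⟨a, ha, hfa⟩ := decomp_of_cover (wt3 p q m) ((q : ℤ) - p, (0 : ZMod m)) f hf
    (Finset.univ : Finset (Fin 2)) ![vec3 (q - p) 0 0, vec3 0 1 1]
    (by
      intro j _
      fin_cases j
      · simp only [Fin.zero_eta, Matrix.cons_val_zero]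
        rw [wt3_weight]
        simp [Nat.cast_sub hpq.le]
      · simp only [Fin.mk_one, Matrix.cons_val_one, Matrix.cons_val_zero, Matrix.cons_val_fin_one]
        rw [wt3_weight]
        simp
        ring)
    (fun d => if vec3 (q - p) 0 0 ≤ d then (0 : Fin 2) else 1) key
  refine ⟨a 0, a 1, ha 0, ha 1, ?_⟩
  rw [hfa, Fin.sum_univ_two]
  simp only [Matrix.cons_val_zero, Matrix.cons_val_one, Matrix.cons_val_fin_one]
  rw [Groth.Agent.Lib.Helper48.HJ.monomial_vec3, Groth.Agent.Lib.Helper48.HJ.monomial_vec3]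
  simp

end Groth.Agent.S15725
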