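import Groth.Statements.S15726
import Groth.Agent.Lib.Helper48.HJMono

set_option autoImplicit false
universe u
open W4c2invhilbsl2

namespace Groth.Agent.S15726

/-- Grade the polynomial ring k[X₀,…,X₄] over a field k by ℤ × ℤ/m, giving X₀ weight (1,0), X₁ and X₂
weight (−p,−1), and X₃ and X₄ weight (q,1), where 0 < p < q are coprime integers and m ≥ 1. Then
modulo the principal ideal generated by the weight-zero element X₀^(q−p) − X₁X₄ + X₂X₃ (the equation
of an affine hypersurface), every polynomial homogeneous of weight (q−p, 0) is congruent to a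
combination a₁₃X₁X₃ + a₁₄X₁X₄ + a₂₃X₂X₃ + a₂₄X₂X₄ whose four coefficients are homogeneous of weight
zero. Equivalently, in the coordinate ring of the hypersurface the weight-(q−p, 0) piece is
generated over the weight-zero subring (the invariant ring of the diagonal action with these
weights) by the span of the four products XₐX_b with a ∈ {1,2} and b ∈ {3,4}. (The published
statement is over the complex numbers; this row takes any field.) -/
theorem result (k : Type u) [Field k] (p q m : ℕ) (hp : 0 < p) (hpq : p < q) (hcop : Nat.Coprime p q) (hm : 0 < m) (f : MvPolynomial (Fin 5) k)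
    (hf : f ∈ MvPolynomial.weightedHomogeneousSubmodule k (W4c2invhilbsl2.wt5 p q m) ((q : ℤ) - (p : ℤ), (0 : ZMod m))) :
    ∃ a₁₃ a₁₄ a₂₃ a₂₄ : MvPolynomial (Fin 5) k,
      a₁₃ ∈ MvPolynomial.weightedHomogeneousSubmodule k (W4c2invhilbsl2.wt5 p q m) 0 ∧ a₁₄ ∈ MvPolynomial.weightedHomogeneousSubmodule k (W4c2invhilbsl2.wt5 p q m) 0 ∧ a₂₃ ∈ MvPolynomial.weightedHomogeneousSubmodule k (W4c2invhilbsl2.wt5 p q m) 0 ∧ a₂₄ ∈ MvPolynomial.weightedHomogeneousSubmodule k (W4c2invhilbsl2.wt5 p q m) 0 ∧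
      f - (a₁₃ * (MvPolynomial.X (1 : Fin 5) * MvPolynomial.X 3) + a₁₄ * (MvPolynomial.X (1 : Fin 5) * MvPolynomial.X 4) +
          a₂₃ * (MvPolynomial.X (2 : Fin 5) * MvPolynomial.X 3) + a₂₄ * (MvPolynomial.X (2 : Fin 5) * MvPolynomial.X 4)) ∈
        Ideal.span {MvPolynomial.X (0 : Fin 5) ^ (q - p) - MvPolynomial.X 1 * MvPolynomial.X 4 + MvPolynomial.X 2 * MvPolynomial.X 3} := by
  classical
  open MvPolynomial Groth.Agent.Lib.Helper48.HJ in
  have key : ∀ d ∈ f.support,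
      (if 1 ≤ d 1 ∧ 1 ≤ d 3 then (1 : Fin 5) else if 1 ≤ d 1 ∧ 1 ≤ d 4 then 2
        else if 1 ≤ d 2 ∧ 1 ≤ d 3 then 3 else if 1 ≤ d 2 ∧ 1 ≤ d 4 then 4 else 0) ∈
      (Finset.univ : Finset (Fin 5)) ∧
      (![vec5 (q - p) 0 0 0 0, vec5 0 1 0 1 0, vec5 0 1 0 0 1, vec5 0 0 1 1 0, vec5 0 0 1 0 1] :
          Fin 5 → Fin 5 →₀ ℕ)
        (if 1 ≤ d 1 ∧ 1 ≤ d 3 then (1 : Fin 5) else if 1 ≤ d 1 ∧ 1 ≤ d 4 then 2
        else if 1 ≤ d 2 ∧ 1 ≤ d 3 then 3 else if 1 ≤ d 2 ∧ 1 ≤ d 4 then 4 else 0) ≤ d := by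
    intro d hd
    refine ⟨Finset.mem_univ _, ?_⟩
    have hwd : Finsupp.weight (wt5 p q m) d = ((q : ℤ) - p, (0 : ZMod m)) :=
      hf (mem_support_iff.mp hd)
    rw [wt5_weight, Prod.mk.injEq] at hwd
    obtain ⟨h1, -⟩ := hwd
    split_ifs with c1 c2 c3 c4
    · show vec5 0 1 0 1 0 ≤ d
      rw [vec5_le_iff]; omega
    · show vec5 0 1 0 0 1 ≤ d
      rw [vec5_le_iff]; omega
    · show vec5 0 0 1 1 0 ≤ d
      rw [vec5_le_iff]; omega
    · show vec5 0 0 1 0 1 ≤ d
      rw [vec5_le_iff]; omega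
    · show vec5 (q - p) 0 0 0 0 ≤ d
      rw [vec5_le_iff]
      refine ⟨?_, Nat.zero_le _, Nat.zero_le _, Nat.zero_le _, Nat.zero_le _⟩
      have hpZ : (0 : ℤ) < p := by exact_mod_cast hp
      have hpqZ : (p : ℤ) < q := by exact_mod_cast hpq
      have hcast : ((q - p : ℕ) : ℤ) = (q : ℤ) - p := Nat.cast_sub hpq.le
      have hcase : (d 1 + d 2 = 0) ∨ (d 3 + d 4 = 0) := by omega
      have hgoal : ((q : ℤ) - p) ≤ d 0 := by
        rcases hcase with hB | hC
        · have hB' : ((d 1 : ℤ) + d 2) = 0 := by exact_mod_cast hB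
          rw [hB'] at h1
          simp only [mul_zero, sub_zero] at h1
          rcases Nat.eq_zero_or_pos (d 3 + d 4) with h34 | h34
          · have h34' : ((d 3 : ℤ) + d 4) = 0 := by exact_mod_cast h34
            rw [h34'] at h1; simp at h1; omega
          · have h34' : (1 : ℤ) ≤ (d 3 : ℤ) + d 4 := by exact_mod_cast h34
            have : (q : ℤ) * 1 ≤ q * ((d 3 : ℤ) + d 4) :=
              mul_le_mul_of_nonneg_left h34' (by omega)
            have : (0 : ℤ) ≤ d 0 := by positivity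
            omega
        · have hC' : ((d 3 : ℤ) + d 4) = 0 := by exact_mod_cast hC
          rw [hC'] at h1
          simp only [mul_zero, add_zero] at h1
          have : (0 : ℤ) ≤ (p : ℤ) * ((d 1 : ℤ) + d 2) := by positivity
          omega
      omega
  open MvPolynomial Groth.Agent.Lib.Helper48.HJ in
  obtain ⟨a, ha, hfa⟩ := decomp_of_cover (wt5 p q m) ((q : ℤ) - p, (0 : ZMod m)) f hf
    (Finset.univ : Finset (Fin 5))
    ![vec5 (q - p) 0 0 0 0, vec5 0 1 0 1 0, vec5 0 1 0 0 1, vec5 0 0 1 1 0, vec5 0 0 1 0 1]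
    (by
      intro j _
      fin_cases j
      · show Finsupp.weight (wt5 p q m) (vec5 (q - p) 0 0 0 0) = _
        rw [wt5_weight]
        simp [Nat.cast_sub hpq.le]
      · show Finsupp.weight (wt5 p q m) (vec5 0 1 0 1 0) = _
        rw [wt5_weight]
        simp
        ring
      · show Finsupp.weight (wt5 p q m) (vec5 0 1 0 0 1) = _
        rw [wt5_weight]
        simp
        ring
      · show Finsupp.weight (wt5 p q m) (vec5 0 0 1 1 0) = _
        rw [wt5_weight]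
        simp
        ring
      · show Finsupp.weight (wt5 p q m) (vec5 0 0 1 0 1) = _
        rw [wt5_weight]
        simp
        ring)
    (fun d => if 1 ≤ d 1 ∧ 1 ≤ d 3 then (1 : Fin 5) else if 1 ≤ d 1 ∧ 1 ≤ d 4 then 2
        else if 1 ≤ d 2 ∧ 1 ≤ d 3 then 3 else if 1 ≤ d 2 ∧ 1 ≤ d 4 then 4 else 0) key
  refine ⟨a 1, a 2 + a 0, a 3 - a 0, a 4, ha 1, Submodule.add_mem _ (ha 2) (ha 0),
    Submodule.sub_mem _ (ha 3) (ha 0), ha 4, ?_⟩
  have e0 : (MvPolynomial.monomial (Groth.Agent.Lib.Helper48.HJ.vec5 (q - p) 0 0 0 0) (1 : k)) =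
      MvPolynomial.X 0 ^ (q - p) := by
    rw [Groth.Agent.Lib.Helper48.HJ.monomial_vec5]; simp
  have e1 : (MvPolynomial.monomial (Groth.Agent.Lib.Helper48.HJ.vec5 0 1 0 1 0) (1 : k)) =
      MvPolynomial.X 1 * MvPolynomial.X 3 := by
    rw [Groth.Agent.Lib.Helper48.HJ.monomial_vec5]; simp
  have e2 : (MvPolynomial.monomial (Groth.Agent.Lib.Helper48.HJ.vec5 0 1 0 0 1) (1 : k)) =
      MvPolynomial.X 1 * MvPolynomial.X 4 := by
    rw [Groth.Agent.Lib.Helper48.HJ.monomial_vec5]; simp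
  have e3 : (MvPolynomial.monomial (Groth.Agent.Lib.Helper48.HJ.vec5 0 0 1 1 0) (1 : k)) =
      MvPolynomial.X 2 * MvPolynomial.X 3 := by
    rw [Groth.Agent.Lib.Helper48.HJ.monomial_vec5]; simp
  have e4 : (MvPolynomial.monomial (Groth.Agent.Lib.Helper48.HJ.vec5 0 0 1 0 1) (1 : k)) =
      MvPolynomial.X 2 * MvPolynomial.X 4 := by
    rw [Groth.Agent.Lib.Helper48.HJ.monomial_vec5]; simp
  have hsum : f = a 0 * MvPolynomial.X 0 ^ (q - p) + a 1 * (MvPolynomial.X 1 * MvPolynomial.X 3)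
      + a 2 * (MvPolynomial.X 1 * MvPolynomial.X 4) + a 3 * (MvPolynomial.X 2 * MvPolynomial.X 3)
      + a 4 * (MvPolynomial.X 2 * MvPolynomial.X 4) := by
    rw [← e0, ← e1, ← e2, ← e3, ← e4]
    conv_lhs => rw [hfa]
    rw [Fin.sum_univ_five]
    rfl
  have : f - (a 1 * (MvPolynomial.X (1 : Fin 5) * MvPolynomial.X 3) +
      (a 2 + a 0) * (MvPolynomial.X (1 : Fin 5) * MvPolynomial.X 4) +
      (a 3 - a 0) * (MvPolynomial.X (2 : Fin 5) * MvPolynomial.X 3) +
      a 4 * (MvPolynomial.X (2 : Fin 5) * MvPolynomial.X 4)) =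
      a 0 * (MvPolynomial.X (0 : Fin 5) ^ (q - p) - MvPolynomial.X 1 * MvPolynomial.X 4 +
        MvPolynomial.X 2 * MvPolynomial.X 3) := by
    conv_lhs => rw [hsum]
    ring
  rw [this]
  exact Ideal.mul_mem_left _ _ (Ideal.subset_span rfl)

end Groth.Agent.S15726
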