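import Groth.Statements.S15729
import Groth.Agent.Lib.Helper48.HJMono

set_option autoImplicit false
universe u
open W4c2invhilbsl2

namespace Groth.Agent.S15729

open Groth.Agent.Lib.Helper48

/-- Let 0 < p < q be coprime integers and m ≥ 1 such that q − p does not divide m; put g = gcd(m, q−p),
b = (q−p)/g, α = ⌊mp/(q−p)⌋, β = the remainder of mp modulo q−p and t = (q−p−β)/g, so that 1 ≤ t <
b, and let b/t = c₁ − 1/(c₂ − 1/(⋯ − 1/c_r)) be the negative-regular (Hirzebruch–Jung) continued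
fraction expansion with every cᵢ ≥ 2; set P₀ = 0, P₁ = 1, Q₀ = −1, Q₁ = 0, Pᵢ = cᵢ₋₁Pᵢ₋₁ − Pᵢ₋₂, Qᵢ
= cᵢ₋₁Qᵢ₋₁ − Qᵢ₋₂ for 2 ≤ i ≤ r+1, and eᵢ = (α+1+m)Pᵢ − Qᵢ, lᵢ = (α+1)Pᵢ − Qᵢ, nᵢ = q·lᵢ − p·eᵢ,
which are non-negative integers for 0 ≤ i ≤ r+1. Grade the polynomial ring k[X₀,X₁,X₂] over a field
k by ℤ × ℤ/m with weights (1,0), (−p,−1), (q,1) (it stands for k[X₀,X₁,Xⱼ], j = 3 or 4, inside the
five-variable ring). Then for every 1 ≤ i ≤ r, every polynomial homogeneous of weight (nᵢ, 0) can be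
written a·X₀^(nᵢ) + b·X₁^(eᵢ)X₂^(lᵢ) with a and b homogeneous of weight zero; that is, the
weight-(nᵢ,0) piece is generated over the weight-zero subring by X₀^(nᵢ) and X₁^(eᵢ)X₂^(lᵢ). -/
theorem result (k : Type u) [Field k] (p q m : ℕ) (hp : 0 < p) (hpq : p < q) (hcop : Nat.Coprime p q) (hm : 0 < m) (hnt : ¬ (q - p ∣ m)) (c : List ℤ) (hc : W4c2invhilbsl2.IsHJDigits p q m c) (i : ℕ) (hi : 1 ≤ i) (hir : i ≤ c.length)
    (f : MvPolynomial (Fin 3) k) (hf : f ∈ MvPolynomial.weightedHomogeneousSubmodule k (W4c2invhilbsl2.wt3 p q m) (W4c2invhilbsl2.nN p q m c i, (0 : ZMod m))) :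
    ∃ a b : MvPolynomial (Fin 3) k, a ∈ MvPolynomial.weightedHomogeneousSubmodule k (W4c2invhilbsl2.wt3 p q m) 0 ∧ b ∈ MvPolynomial.weightedHomogeneousSubmodule k (W4c2invhilbsl2.wt3 p q m) 0 ∧
      f = a * MvPolynomial.X (0 : Fin 3) ^ (W4c2invhilbsl2.nN p q m c i).toNat +
        b * (MvPolynomial.X (1 : Fin 3) ^ (W4c2invhilbsl2.eE p q m c i).toNat * MvPolynomial.X (2 : Fin 3) ^ (W4c2invhilbsl2.lL p q m c i).toNat) := by
  classical
  obtain ⟨j, rfl⟩ : ∃ j, i = j + 1 := ⟨i - 1, by omega⟩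
  have hj : j ≤ c.length := by omega
  set N := (W4c2invhilbsl2.nN p q m c (j + 1)).toNat with hN
  set E := (W4c2invhilbsl2.eE p q m c (j + 1)).toNat with hE
  set L := (W4c2invhilbsl2.lL p q m c (j + 1)).toNat with hL
  let u : Bool → (Fin 3 →₀ ℕ) := fun b => if b then HJ.vec3 N 0 0 else HJ.vec3 0 E L
  let sel : (Fin 3 →₀ ℕ) → Bool := fun d => decide (HJ.vec3 N 0 0 ≤ d)
  obtain ⟨a, ha, hfa⟩ := HJ.decomp_of_cover (W4c2invhilbsl2.wt3 p q m)
    (W4c2invhilbsl2.nN p q m c (j + 1), (0 : ZMod m)) f hf Finset.univ u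
    (by
      intro b _
      cases b
      · exact HJ.weight_vecEL hp hpq hcop hm hnt c hc j hj
      · exact HJ.weight_vecN hp hpq hcop hm hnt c hc j hj)
    sel
    (by
      intro d hd
      refine ⟨Finset.mem_univ _, ?_⟩
      have hwd := hf (MvPolynomial.mem_support_iff.mp hd)
      by_cases h : HJ.vec3 N 0 0 ≤ d
      · have : sel d = true := by simp [sel, h]
        rw [this]; exact h
      · have : sel d = false := by simp [sel, h]
        rw [this]
        rcases HJ.cover3 hp hpq hcop hm hnt c hc j hj d hwd with h' | h'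
        · exact absurd h' h
        · exact h')
  refine ⟨a true, a false, ha true, ha false, ?_⟩
  rw [Fintype.sum_bool] at hfa
  simp only [u, if_true, Bool.false_eq_true, if_false, HJ.monomial_vec3, pow_zero, mul_one,
    one_mul] at hfa
  exact hfa

end Groth.Agent.S15729
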