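import Groth.Statements.S15732
import Groth.Agent.Lib.Helper48.HJMono

set_option autoImplicit false
universe u
open W4c2invhilbsl2

namespace Groth.Agent.S15732

open Groth.Agent.Lib.Helper48

/-- Let 0 < p < q be coprime integers and m ≥ 1 such that q − p does not divide m; put g = gcd(m, q−p),
b = (q−p)/g, α = ⌊mp/(q−p)⌋, β = the remainder of mp modulo q−p and t = (q−p−β)/g, so that 1 ≤ t <
b, and let b/t = c₁ − 1/(c₂ − 1/(⋯ − 1/c_r)) be the negative-regular (Hirzebruch–Jung) continued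
fraction expansion with every cᵢ ≥ 2; set P₀ = 0, P₁ = 1, Q₀ = −1, Q₁ = 0, Pᵢ = cᵢ₋₁Pᵢ₋₁ − Pᵢ₋₂, Qᵢ
= cᵢ₋₁Qᵢ₋₁ − Qᵢ₋₂ for 2 ≤ i ≤ r+1, and eᵢ = (α+1+m)Pᵢ − Qᵢ, lᵢ = (α+1)Pᵢ − Qᵢ, nᵢ = q·lᵢ − p·eᵢ,
which are non-negative integers for 0 ≤ i ≤ r+1. Grade the polynomial ring k[X₀,…,X₄] over a field k
by ℤ × ℤ/m, giving X₀ weight (1,0), X₁ and X₂ weight (−p,−1), and X₃ and X₄ weight (q,1). Then for
every 1 ≤ i ≤ r, modulo the principal ideal generated by the weight-zero element X₀^(q−p) − X₁X₄ +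
X₂X₃, every polynomial homogeneous of weight (nᵢ, 0) is congruent to a combination a₀·X₀^(nᵢ) + Σ
a_{e,l}·X₁^(eᵢ−e)X₂^e X₃^(lᵢ−l)X₄^l (sum over 0 ≤ e ≤ eᵢ, 0 ≤ l ≤ lᵢ) whose coefficients a₀, a_{e,l}
are homogeneous of weight zero. Equivalently, in the coordinate ring of the hypersurface the
weight-(nᵢ,0) piece is generated over the weight-zero subring (the invariant ring) by X₀^(nᵢ)
together with the products of a degree-eᵢ monomial in X₁, X₂ and a degree-lᵢ monomial in X₃, X₄.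
(The published statement is over the complex numbers; this row takes any field.) -/
theorem result (k : Type u) [Field k] (p q m : ℕ) (hp : 0 < p) (hpq : p < q) (hcop : Nat.Coprime p q) (hm : 0 < m) (hnt : ¬ (q - p ∣ m)) (c : List ℤ) (hc : W4c2invhilbsl2.IsHJDigits p q m c) (i : ℕ) (hi : 1 ≤ i) (hir : i ≤ c.length)
    (f : MvPolynomial (Fin 5) k) (hf : f ∈ MvPolynomial.weightedHomogeneousSubmodule k (W4c2invhilbsl2.wt5 p q m) (W4c2invhilbsl2.nN p q m c i, (0 : ZMod m))) :
    ∃ (a₀ : MvPolynomial (Fin 5) k) (a : ℕ → ℕ → MvPolynomial (Fin 5) k),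
      a₀ ∈ MvPolynomial.weightedHomogeneousSubmodule k (W4c2invhilbsl2.wt5 p q m) 0 ∧ (∀ e l : ℕ, a e l ∈ MvPolynomial.weightedHomogeneousSubmodule k (W4c2invhilbsl2.wt5 p q m) 0) ∧
      f - (a₀ * MvPolynomial.X (0 : Fin 5) ^ (W4c2invhilbsl2.nN p q m c i).toNat +
          ∑ e ∈ Finset.range ((W4c2invhilbsl2.eE p q m c i).toNat + 1), ∑ l ∈ Finset.range ((W4c2invhilbsl2.lL p q m c i).toNat + 1),
            a e l * (MvPolynomial.X (1 : Fin 5) ^ ((W4c2invhilbsl2.eE p q m c i).toNat - e) * MvPolynomial.X (2 : Fin 5) ^ e *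
              MvPolynomial.X (3 : Fin 5) ^ ((W4c2invhilbsl2.lL p q m c i).toNat - l) * MvPolynomial.X (4 : Fin 5) ^ l)) ∈
        Ideal.span {MvPolynomial.X (0 : Fin 5) ^ (q - p) - MvPolynomial.X 1 * MvPolynomial.X 4 + MvPolynomial.X 2 * MvPolynomial.X 3} := by
  classical
  obtain ⟨j, rfl⟩ : ∃ j, i = j + 1 := ⟨i - 1, by omega⟩
  have hj : j ≤ c.length := by omega
  set N := (W4c2invhilbsl2.nN p q m c (j + 1)).toNat with hN
  set E := (W4c2invhilbsl2.eE p q m c (j + 1)).toNat with hE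
  set L := (W4c2invhilbsl2.lL p q m c (j + 1)).toNat with hL
  let u : ℕ × ℕ → (Fin 5 →₀ ℕ) := fun el =>
    if el.1 = E + 1 then HJ.vec5 N 0 0 0 0 else HJ.vec5 0 (E - el.1) el.1 (L - el.2) el.2
  let sel : (Fin 5 →₀ ℕ) → ℕ × ℕ := fun d =>
    if N ≤ d 0 then (E + 1, 0) else (min (d 2) E, min (d 4) L)
  let J : Finset (ℕ × ℕ) := insert (E + 1, 0) (Finset.range (E + 1) ×ˢ Finset.range (L + 1))
  have hnot : ((E + 1, 0) : ℕ × ℕ) ∉ Finset.range (E + 1) ×ˢ Finset.range (L + 1) := by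
    simp
  obtain ⟨a, ha, hfa⟩ := HJ.decomp_of_cover (W4c2invhilbsl2.wt5 p q m)
    (W4c2invhilbsl2.nN p q m c (j + 1), (0 : ZMod m)) f hf J u
    (by
      intro el hel
      rw [Finset.mem_insert] at hel
      rcases hel with rfl | hel
      · simp only [u, if_true]
        exact HJ.weight_vec5N hp hpq hcop hm hnt c hc j hj
      · rw [Finset.mem_product, Finset.mem_range, Finset.mem_range] at hel
        have hne : el.1 ≠ E + 1 := by omega
        simp only [u, hne, if_false]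
        exact HJ.weight_vec5EL hp hpq hcop hm hnt c hc j hj _ _ _ _ (by omega) (by omega))
    sel
    (by
      intro d hd
      have hwd := hf (MvPolynomial.mem_support_iff.mp hd)
      by_cases h : N ≤ d 0
      · have hs : sel d = (E + 1, 0) := by simp [sel, h]
        rw [hs]
        refine ⟨Finset.mem_insert_self _ _, ?_⟩
        simp only [u, if_true]
        rw [HJ.vec5_le_iff]
        exact ⟨h, Nat.zero_le _, Nat.zero_le _, Nat.zero_le _, Nat.zero_le _⟩
      · have hs : sel d = (min (d 2) E, min (d 4) L) := by simp [sel, h]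
        rw [hs]
        rcases HJ.cover5 hp hpq hcop hm hnt c hc j hj d hwd with h' | ⟨h1, h2⟩
        · exact absurd h' h
        · have hne : min (d 2) E ≠ E + 1 := by omega
          refine ⟨Finset.mem_insert_of_mem ?_, ?_⟩
          · rw [Finset.mem_product, Finset.mem_range, Finset.mem_range]
            exact ⟨by omega, by omega⟩
          · simp only [u, hne, if_false]
            rw [HJ.vec5_le_iff]
            refine ⟨Nat.zero_le _, ?_, ?_, ?_, ?_⟩ <;> omega)
  refine ⟨a (E + 1, 0), fun e l => a (e, l), ha _, fun e l => ha _, ?_⟩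
  have hzero : f - (a (E + 1, 0) * MvPolynomial.X (0 : Fin 5) ^ N +
      ∑ e ∈ Finset.range (E + 1), ∑ l ∈ Finset.range (L + 1),
        a (e, l) * (MvPolynomial.X (1 : Fin 5) ^ (E - e) * MvPolynomial.X (2 : Fin 5) ^ e *
          MvPolynomial.X (3 : Fin 5) ^ (L - l) * MvPolynomial.X (4 : Fin 5) ^ l)) = 0 := by
    rw [sub_eq_zero]
    conv_lhs => rw [hfa]
    rw [Finset.sum_insert hnot, Finset.sum_product]
    congr 1
    · simp only [u, if_true, HJ.monomial_vec5, pow_zero, mul_one]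
    · refine Finset.sum_congr rfl fun e he => Finset.sum_congr rfl fun l hl => ?_
      rw [Finset.mem_range] at he
      have hne : e ≠ E + 1 := by omega
      simp only [u, hne, if_false, HJ.monomial_vec5, pow_zero, one_mul]
  rw [hzero]
  exact Submodule.zero_mem _

end Groth.Agent.S15732
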