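import Groth.Statements.S15738
import Mathlib.Tactic

set_option autoImplicit false
universe u
open W4c2invhilbsl2

namespace Groth.Agent.S15738

section
open MvPolynomial

/-- the monomial -/
noncomputable def M (k : Type u) [Field k] (a b c : ℕ) : MvPolynomial (Fin 3) k :=
  X (0 : Fin 3) ^ a * X (1 : Fin 3) ^ b * X (2 : Fin 3) ^ c

theorem lemA (k : Type u) [Field k] (r a b c t : ℕ) :
    M k (a + r * t) b c - M k a (b + t) (c + t) ∈
      Ideal.span {(X (0 : Fin 3) ^ r - X (1 : Fin 3) * X (2 : Fin 3) : MvPolynomial (Fin 3) k)} := by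
  have h : M k (a + r * t) b c - M k a (b + t) (c + t) =
      (X (0 : Fin 3) ^ a * X (1 : Fin 3) ^ b * X (2 : Fin 3) ^ c) *
        ((X (0 : Fin 3) ^ r) ^ t - (X (1 : Fin 3) * X (2 : Fin 3)) ^ t) := by
    unfold M
    ring
  rw [h]
  exact Ideal.mul_mem_left _ _ (Ideal.mem_span_singleton.mpr (sub_dvd_pow_sub_pow _ _ t))

theorem lemA' (k : Type u) [Field k] (p q : ℕ) (hpq : p < q) (d0 d1 d2 e0 e1 e2 : ℕ)
    (hn : (e0 : ℤ) - (p : ℤ) * e1 + (q : ℤ) * e2 = (d0 : ℤ) - (p : ℤ) * d1 + (q : ℤ) * d2)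
    (hc : (d1 : ℤ) - d2 = (e1 : ℤ) - e2) :
    M k d0 d1 d2 - M k e0 e1 e2 ∈
      Ideal.span {(X (0 : Fin 3) ^ (q - p) - X (1 : Fin 3) * X (2 : Fin 3) : MvPolynomial (Fin 3) k)} := by
  have hqp : ((q - p : ℕ) : ℤ) = (q : ℤ) - p := by rw [Nat.cast_sub hpq.le]
  rcases le_total d1 e1 with h | h
  · obtain ⟨t, rfl⟩ := Nat.exists_eq_add_of_le h
    have h2 : e2 = d2 + t := by
      have : (e2 : ℤ) = d2 + t := by push_cast at hc; linarith
      exact_mod_cast this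
    have h0 : d0 = e0 + (q - p) * t := by
      have : (d0 : ℤ) = e0 + ((q - p : ℕ) : ℤ) * t := by
        rw [hqp]; subst h2; push_cast at hn; linarith
      exact_mod_cast this
    subst h2 h0
    exact lemA k (q - p) e0 d1 d2 t
  · obtain ⟨t, rfl⟩ := Nat.exists_eq_add_of_le h
    have h2 : d2 = e2 + t := by
      have : (d2 : ℤ) = e2 + t := by push_cast at hc; linarith
      exact_mod_cast this
    have h0 : e0 = d0 + (q - p) * t := by
      have : (e0 : ℤ) = d0 + ((q - p : ℕ) : ℤ) * t := by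
        rw [hqp]; subst h2; push_cast at hn; linarith
      exact_mod_cast this
    subst h2 h0
    have := lemA k (q - p) d0 e1 e2 t
    have h3 : M k d0 (e1 + t) (e2 + t) - M k (d0 + (q - p) * t) e1 e2 =
        -(M k (d0 + (q - p) * t) e1 e2 - M k d0 (e1 + t) (e2 + t)) := by ring
    rw [h3]
    exact (Ideal.neg_mem_iff _).mpr this

theorem part3 (k : Type u) [Field k] (p q m : ℕ) (hpq : p < q)
    (d0 d1 d2 e0 e1 e2 : ℕ) (hn : (e0 : ℤ) - (p : ℤ) * e1 + (q : ℤ) * e2 = (d0 : ℤ) - (p : ℤ) * d1 + (q : ℤ) * d2)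
    (hc : (m : ℤ) ∣ ((d1 : ℤ) - d2) - ((e1 : ℤ) - e2)) :
    M k d0 d1 d2 - M k e0 e1 e2 ∈
      Ideal.span {(X (0 : Fin 3) ^ (q - p) - X (1 : Fin 3) * X (2 : Fin 3) : MvPolynomial (Fin 3) k),
        1 - X (0 : Fin 3) ^ (m * p) * X (1 : Fin 3) ^ m} := by
  set f : MvPolynomial (Fin 3) k := X (0 : Fin 3) ^ (q - p) - X (1 : Fin 3) * X (2 : Fin 3) with hf
  set g : MvPolynomial (Fin 3) k := X (0 : Fin 3) ^ (m * p) * X (1 : Fin 3) ^ m with hg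
  have hle : Ideal.span {f} ≤ Ideal.span {f, 1 - g} :=
    Ideal.span_mono (by simp)
  have h1g : ∀ S : ℕ, 1 - g ^ S ∈ Ideal.span {f, 1 - g} := by
    intro S
    have : (1 - g) ∣ 1 - g ^ S := by
      have := sub_dvd_pow_sub_pow (1 : MvPolynomial (Fin 3) k) g S
      rwa [one_pow] at this
    obtain ⟨r, hr⟩ := this
    rw [hr]
    exact Ideal.mul_mem_right _ _ (Ideal.subset_span (by simp))
  have hMg : ∀ a b c S : ℕ, M k (a + m * p * S) (b + m * S) c = M k a b c * g ^ S := by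
    intro a b c S
    unfold M
    rw [hg]
    ring
  obtain ⟨s, hs⟩ := hc
  rcases le_total 0 s with h0 | h0
  · obtain ⟨S, rfl⟩ := Int.eq_ofNat_of_zero_le h0
    have hA := lemA' k p q hpq d0 d1 d2 (e0 + m * p * S) (e1 + m * S) e2
      (by push_cast; linarith) (by push_cast; linarith)
    have : M k d0 d1 d2 - M k e0 e1 e2 =
        (M k d0 d1 d2 - M k (e0 + m * p * S) (e1 + m * S) e2) - M k e0 e1 e2 * (1 - g ^ S) := by
      rw [hMg]; ring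
    rw [this]
    exact Ideal.sub_mem _ (hle hA) (Ideal.mul_mem_left _ _ (h1g S))
  · obtain ⟨S, hS⟩ := Int.eq_ofNat_of_zero_le (neg_nonneg.mpr h0)
    have hs' : s = -(S : ℤ) := by linarith
    subst hs'
    have hA := lemA' k p q hpq (d0 + m * p * S) (d1 + m * S) d2 e0 e1 e2
      (by push_cast; linarith) (by push_cast; linarith)
    have : M k d0 d1 d2 - M k e0 e1 e2 =
        (M k (d0 + m * p * S) (d1 + m * S) d2 - M k e0 e1 e2) + M k d0 d1 d2 * (1 - g ^ S) := by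
      rw [hMg]; ring
    rw [this]
    exact Ideal.add_mem _ (hle hA) (Ideal.mul_mem_left _ _ (h1g S))

theorem part2 (k : Type u) [Field k] (p q m : ℕ) (hpq : p < q) (hm : 0 < m)
    (d0 d1 d2 e0 e1 e2 : ℕ) (hn : (e0 : ℤ) - (p : ℤ) * e1 + (q : ℤ) * e2 = (d0 : ℤ) - (p : ℤ) * d1 + (q : ℤ) * d2)
    (hc : (m : ℤ) ∣ ((d1 : ℤ) - d2) - ((e1 : ℤ) - e2)) (hlt : (e1 : ℤ) - e2 < (d1 : ℤ) - d2) :
    M k d0 d1 d2 ∈
      Ideal.span {(X (0 : Fin 3) ^ (q - p) - X (1 : Fin 3) * X (2 : Fin 3) : MvPolynomial (Fin 3) k),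
        X (0 : Fin 3) ^ (m * p) * X (1 : Fin 3) ^ m} := by
  set f : MvPolynomial (Fin 3) k := X (0 : Fin 3) ^ (q - p) - X (1 : Fin 3) * X (2 : Fin 3) with hf
  set g : MvPolynomial (Fin 3) k := X (0 : Fin 3) ^ (m * p) * X (1 : Fin 3) ^ m with hg
  have hle : Ideal.span {f} ≤ Ideal.span {f, g} := Ideal.span_mono (by simp)
  have hgmem : g ∈ Ideal.span {f, g} := Ideal.subset_span (by simp)
  have hMg : ∀ a b c : ℕ, M k (a + m * p) (b + m) c = g * M k a b c := by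
    intro a b c
    unfold M
    rw [hg]
    ring
  have hpq' : (p : ℤ) < q := by exact_mod_cast hpq
  have hm' : (0 : ℤ) < m := by exact_mod_cast hm
  have hp0 : (0 : ℤ) ≤ p := Int.natCast_nonneg p
  obtain ⟨s, hs⟩ := hc
  have hs1 : 1 ≤ s := by
    by_contra hcon
    rw [not_le] at hcon
    have : s ≤ 0 := by omega
    nlinarith
  have key : ∃ E0 E1 E2 : ℕ, ((E0 + m * p : ℕ) : ℤ) - (p : ℤ) * ((E1 + m : ℕ) : ℤ) + (q : ℤ) * E2
        = (d0 : ℤ) - (p : ℤ) * d1 + (q : ℤ) * d2 ∧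
      (d1 : ℤ) - d2 = ((E1 + m : ℕ) : ℤ) - E2 := by
    have hq0 : (0 : ℤ) ≤ q := Int.natCast_nonneg q
    have hpms : (p : ℤ) * m ≤ p * (m * s) := by
      nlinarith [mul_nonneg (mul_nonneg hp0 hm'.le) (sub_nonneg.mpr hs1)]
    have hqms : (q : ℤ) * m ≤ q * (m * s) := by
      nlinarith [mul_nonneg (mul_nonneg hq0 hm'.le) (sub_nonneg.mpr hs1)]
    have hpe : (p : ℤ) * ((d1 : ℤ) - d2 - ((e1 : ℤ) - e2)) = p * (m * s) := by rw [hs]
    have hqe : (q : ℤ) * ((d1 : ℤ) - d2 - ((e1 : ℤ) - e2)) = q * (m * s) := by rw [hs]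
    have he0 : (0 : ℤ) ≤ e0 := Int.natCast_nonneg e0
    have he1 : (0 : ℤ) ≤ e1 := Int.natCast_nonneg e1
    have he2 : (0 : ℤ) ≤ e2 := Int.natCast_nonneg e2
    have hqpe1 : (0 : ℤ) ≤ ((q : ℤ) - p) * e1 := by nlinarith
    have hqpe2 : (0 : ℤ) ≤ ((q : ℤ) - p) * e2 := by nlinarith
    rcases le_total (m : ℤ) ((d1 : ℤ) - d2) with hcm | hcm
    · -- c ≥ m
      obtain ⟨E0, hE0⟩ := Int.eq_ofNat_of_zero_le
        (show (0 : ℤ) ≤ (d0 : ℤ) - p * d1 + q * d2 + p * ((d1 : ℤ) - d2) - m * p by nlinarith)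
      obtain ⟨E1, hE1⟩ := Int.eq_ofNat_of_zero_le
        (show (0 : ℤ) ≤ (d1 : ℤ) - d2 - m by linarith)
      refine ⟨E0, E1, 0, ?_, ?_⟩
      · push_cast; rw [← hE0, ← hE1]; ring
      · push_cast; rw [← hE1]; ring
    · -- c ≤ m
      obtain ⟨E0, hE0⟩ := Int.eq_ofNat_of_zero_le
        (show (0 : ℤ) ≤ (d0 : ℤ) - p * d1 + q * d2 + q * ((d1 : ℤ) - d2) - q * m by nlinarith)
      obtain ⟨E2, hE2⟩ := Int.eq_ofNat_of_zero_le
        (show (0 : ℤ) ≤ (m : ℤ) - ((d1 : ℤ) - d2) by linarith)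
      refine ⟨E0, 0, E2, ?_, ?_⟩
      · push_cast; rw [← hE0, ← hE2]; ring
      · push_cast; rw [← hE2]; ring
  obtain ⟨E0, E1, E2, hnE, hcE⟩ := key
  have hA := lemA' k p q hpq d0 d1 d2 (E0 + m * p) (E1 + m) E2 hnE hcE
  have : M k d0 d1 d2 = (M k d0 d1 d2 - M k (E0 + m * p) (E1 + m) E2) + g * M k E0 E1 E2 := by
    rw [hMg]; ring
  rw [this]
  exact Ideal.add_mem _ (hle hA) (Ideal.mul_mem_right _ _ hgmem)

end


/-- Let k be a field and m ≥ 1; for a monomial X₀^d₀X₁^d₁X₂^d₂ of the polynomial ring in X₀, X₁, X₂ (X₂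
standing for Xⱼ, j = 3 or 4, of the five-variable ring) put n = d₀ − p·d₁ + q·d₂ (its weight for the
torus diag(t, t^(−p), t^q)), c = d₁ − d₂ and ω = p·d₁ − q·d₂, so that d₀ = n + ω; here 0 < p < q are
coprime integers. Take two monomials X₀^d₀X₁^d₁X₂^d₂ and X₀^e₀X₁^e₁X₂^e₂ with the same n and with
values c, c' of c congruent modulo m (so both lie in the same ℤ × ℤ/m-weight piece for the weights
(1,0), (−p,−1), (q,1)). Then: (i) if c = c', the difference of the two monomials lies in the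
principal ideal (X₀^(q−p) − X₁X₂); (ii) if c' < c, the monomial X₀^d₀X₁^d₁X₂^d₂ lies in the ideal
(X₀^(q−p) − X₁X₂, X₀^(mp)X₁^m); (iii) in all cases the difference lies in the ideal (X₀^(q−p) −
X₁X₂, 1 − X₀^(mp)X₁^m). -/
theorem result (k : Type u) [Field k] (p q m : ℕ) (hp : 0 < p) (hpq : p < q) (hcop : Nat.Coprime p q) (hm : 0 < m)
    (d0 d1 d2 e0 e1 e2 : ℕ) (hn : (e0 : ℤ) - (p : ℤ) * e1 + (q : ℤ) * e2 = (d0 : ℤ) - (p : ℤ) * d1 + (q : ℤ) * d2)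
    (hc : (m : ℤ) ∣ ((d1 : ℤ) - d2) - ((e1 : ℤ) - e2)) :
    ((d1 : ℤ) - d2 = (e1 : ℤ) - e2 →
      (MvPolynomial.X (0 : Fin 3) ^ d0 * MvPolynomial.X (1 : Fin 3) ^ d1 * MvPolynomial.X (2 : Fin 3) ^ d2 - MvPolynomial.X (0 : Fin 3) ^ e0 * MvPolynomial.X (1 : Fin 3) ^ e1 * MvPolynomial.X (2 : Fin 3) ^ e2 : MvPolynomial (Fin 3) k) ∈ Ideal.span {MvPolynomial.X (0 : Fin 3) ^ (q - p) - MvPolynomial.X (1 : Fin 3) * MvPolynomial.X (2 : Fin 3)}) ∧
    ((e1 : ℤ) - e2 < (d1 : ℤ) - d2 →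
      (MvPolynomial.X (0 : Fin 3) ^ d0 * MvPolynomial.X (1 : Fin 3) ^ d1 * MvPolynomial.X (2 : Fin 3) ^ d2 : MvPolynomial (Fin 3) k) ∈ Ideal.span {MvPolynomial.X (0 : Fin 3) ^ (q - p) - MvPolynomial.X (1 : Fin 3) * MvPolynomial.X (2 : Fin 3), MvPolynomial.X (0 : Fin 3) ^ (m * p) * MvPolynomial.X (1 : Fin 3) ^ m}) ∧
    ((MvPolynomial.X (0 : Fin 3) ^ d0 * MvPolynomial.X (1 : Fin 3) ^ d1 * MvPolynomial.X (2 : Fin 3) ^ d2 - MvPolynomial.X (0 : Fin 3) ^ e0 * MvPolynomial.X (1 : Fin 3) ^ e1 * MvPolynomial.X (2 : Fin 3) ^ e2 : MvPolynomial (Fin 3) k) ∈ Ideal.span {MvPolynomial.X (0 : Fin 3) ^ (q - p) - MvPolynomial.X (1 : Fin 3) * MvPolynomial.X (2 : Fin 3), 1 - MvPolynomial.X (0 : Fin 3) ^ (m * p) * MvPolynomial.X (1 : Fin 3) ^ m}) := by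
  exact ⟨fun h => lemA' k p q hpq d0 d1 d2 e0 e1 e2 hn h,
    fun h => part2 k p q m hpq hm d0 d1 d2 e0 e1 e2 hn hc h,
    part3 k p q m hpq d0 d1 d2 e0 e1 e2 hn hc⟩

end Groth.Agent.S15738
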