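import Groth.Statements.S15739
import Mathlib.Tactic

set_option autoImplicit false
universe u
open W4c2invhilbsl2

namespace Groth.Agent.S15739

/-- arithmetic core -/
theorem arith (p q m : ℕ) (hpq : p < q) (hcop : Nat.Coprime p q) (hm : 0 < m)
    (d0 d1 d2 e0 e1 e2 : ℕ) (hn : (e0 : ℤ) - (p : ℤ) * e1 + (q : ℤ) * e2 = (d0 : ℤ) - (p : ℤ) * d1 + (q : ℤ) * d2)
    (hcd : (m : ℤ) ∣ (d1 : ℤ) - d2) (hce : (m : ℤ) ∣ (e1 : ℤ) - e2)
    (hd0 : d0 < Nat.gcd m (q - p)) (he0 : e0 < Nat.gcd m (q - p)) :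
    d0 = e0 ∧ ∃ v : ℤ, (e1 : ℤ) - d1 = q * ((m / Nat.gcd m (q - p) : ℕ) : ℤ) * v ∧
      (e2 : ℤ) - d2 = p * ((m / Nat.gcd m (q - p) : ℕ) : ℤ) * v ∧
      ((d1 : ℤ) - d2) - ((e1 : ℤ) - e2) =
        ((m : ℤ) * ((q - p) / Nat.gcd m (q - p) : ℕ)) * (-v) ∧
      (((d1 : ℤ) - d2 < (e1 : ℤ) - e2) → 0 < v) := by
  set g := Nat.gcd m (q - p) with hg
  set a := m / g with ha
  set b := (q - p) / g with hb
  have hgpos : 0 < g := Nat.gcd_pos_of_pos_left _ hm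
  have hma : m = g * a := (Nat.mul_div_cancel' (Nat.gcd_dvd_left m (q - p))).symm
  have hqpb : q - p = g * b := (Nat.mul_div_cancel' (Nat.gcd_dvd_right m (q - p))).symm
  have hab : Nat.Coprime a b := Nat.coprime_div_gcd_div_gcd hgpos
  have hqp : ((q - p : ℕ) : ℤ) = (q : ℤ) - p := by rw [Nat.cast_sub hpq.le]
  have hqpb' : (q : ℤ) - p = g * b := by rw [← hqp, hqpb]; push_cast; ring
  have hma' : (m : ℤ) = g * a := by rw [hma]; push_cast; ring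
  have hgm : (g : ℤ) ∣ m := ⟨a, hma'⟩
  have hgqp : (g : ℤ) ∣ (q : ℤ) - p := ⟨b, hqpb'⟩
  -- step 1
  have h1 : (g : ℤ) ∣ (d0 : ℤ) - e0 := by
    have : (d0 : ℤ) - e0 = p * (((d1 : ℤ) - d2) - ((e1 : ℤ) - e2)) - ((q : ℤ) - p) * ((d2 : ℤ) - e2) := by
      linarith
    rw [this]
    exact dvd_sub (Dvd.dvd.mul_left (dvd_sub (hgm.trans hcd) (hgm.trans hce)) _)
      (Dvd.dvd.mul_right hgqp _)
  have h0 : d0 = e0 := by
    have habs : |(d0 : ℤ) - e0| < g := by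
      rw [abs_lt]
      have hd0' : (d0 : ℤ) < g := by exact_mod_cast hd0
      have he0' : (e0 : ℤ) < g := by exact_mod_cast he0
      have := Int.natCast_nonneg d0
      have := Int.natCast_nonneg e0
      constructor <;> linarith
    have := Int.eq_zero_of_abs_lt_dvd h1 habs
    have : (d0 : ℤ) = e0 := by linarith
    exact_mod_cast this
  refine ⟨h0, ?_⟩
  -- step 2
  have h2 : (p : ℤ) * ((e1 : ℤ) - d1) = q * ((e2 : ℤ) - d2) := by
    have : (d0 : ℤ) = e0 := by exact_mod_cast h0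
    linarith
  have hcop' : IsCoprime (q : ℤ) (p : ℤ) := by
    have := Nat.isCoprime_iff_coprime.mpr hcop
    exact this.symm
  have hq0 : (q : ℤ) ≠ 0 := by
    have : 0 < q := lt_of_le_of_lt (Nat.zero_le p) hpq
    exact_mod_cast this.ne'
  have h3 : (q : ℤ) ∣ (e1 : ℤ) - d1 := hcop'.dvd_of_dvd_mul_left ⟨(e2 : ℤ) - d2, h2⟩
  obtain ⟨u, hu⟩ := h3
  have hu2 : (e2 : ℤ) - d2 = p * u := by
    have : (q : ℤ) * ((e2 : ℤ) - d2) = q * (p * u) := by rw [← h2, hu]; ring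
    exact mul_left_cancel₀ hq0 this
  -- step 3
  have h4 : (m : ℤ) ∣ ((q : ℤ) - p) * u := by
    have : ((q : ℤ) - p) * u = ((e1 : ℤ) - e2) - ((d1 : ℤ) - d2) := by rw [sub_mul, ← hu, ← hu2]; ring
    rw [this]
    exact dvd_sub hce hcd
  have h5 : (a : ℤ) ∣ (b : ℤ) * u := by
    rw [hma', hqpb', mul_assoc] at h4
    have hg0 : (g : ℤ) ≠ 0 := by exact_mod_cast hgpos.ne'
    exact (mul_dvd_mul_iff_left hg0).mp h4
  have hab' : IsCoprime (a : ℤ) (b : ℤ) := Nat.isCoprime_iff_coprime.mpr hab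
  obtain ⟨v, hv⟩ := hab'.dvd_of_dvd_mul_left h5
  have e1' : (e1 : ℤ) - d1 = q * (a : ℤ) * v := by rw [hu, hv]; ring
  have e2' : (e2 : ℤ) - d2 = p * (a : ℤ) * v := by rw [hu2, hv]; ring
  have e3 : ((d1 : ℤ) - d2) - ((e1 : ℤ) - e2) = ((m : ℤ) * (b : ℤ)) * (-v) := by
    have : ((d1 : ℤ) - d2) - ((e1 : ℤ) - e2) = -(((q : ℤ) - p) * a * v) := by linarith
    rw [this, hqpb', hma']; ring
  refine ⟨v, e1', e2', e3, ?_⟩
  intro hlt
  have hmb : (0 : ℤ) < (m : ℤ) * b := by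
    have hbpos : 0 < b := by
      rcases Nat.eq_zero_or_pos b with hb0 | hbp
      · exfalso
        rw [hb0, mul_zero] at hqpb
        omega
      · exact hbp
    have : 0 < m * b := Nat.mul_pos hm hbpos
    exact_mod_cast this
  by_contra hv0
  rw [not_lt] at hv0
  have : 0 ≤ ((m : ℤ) * (b : ℤ)) * (-v) := mul_nonneg hmb.le (neg_nonneg.mpr hv0)
  linarith


/-- Let k be a field and m ≥ 1, put g = gcd(m, q−p), a = m/g and b = (q−p)/g; for a monomial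
X₀^d₀X₁^d₁X₂^d₂ of the polynomial ring in X₀, X₁, X₂ (X₂ standing for Xⱼ, j = 3 or 4, of the
five-variable ring) put n = d₀ − p·d₁ + q·d₂ (its weight for the torus diag(t, t^(−p), t^q)), c = d₁
− d₂ and ω = p·d₁ − q·d₂, so that d₀ = n + ω; here 0 < p < q are coprime integers. Take two
monomials X₀^d₀X₁^d₁X₂^d₂ and X₀^e₀X₁^e₁X₂^e₂ with the same n, where 0 ≤ n < q − p, whose values c
and c' of c are both divisible by m, and with d₀ < g and e₀ < g (so each has the least ω for its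
pair (n, c), as g ≤ q − p). Then: (i) d₀ = e₀, i.e. the two values of ω agree, and m·b divides c −
c'; (ii) if c < c', then X₀^e₀X₁^e₁X₂^e₂ is a multiple of X₀^d₀X₁^d₁X₂^d₂ · X₁^(aq)X₂^(ap); (iii)
the difference of the two monomials lies in the principal ideal (1 − X₁^(aq)X₂^(ap)). -/
theorem result (k : Type u) [Field k] (p q m : ℕ) (hp : 0 < p) (hpq : p < q) (hcop : Nat.Coprime p q) (hm : 0 < m)
    (d0 d1 d2 e0 e1 e2 : ℕ) (hn : (e0 : ℤ) - (p : ℤ) * e1 + (q : ℤ) * e2 = (d0 : ℤ) - (p : ℤ) * d1 + (q : ℤ) * d2)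
    (hn0 : 0 ≤ (d0 : ℤ) - (p : ℤ) * d1 + (q : ℤ) * d2) (hnq : (d0 : ℤ) - (p : ℤ) * d1 + (q : ℤ) * d2 < (q : ℤ) - p)
    (hcd : (m : ℤ) ∣ (d1 : ℤ) - d2) (hce : (m : ℤ) ∣ (e1 : ℤ) - e2)
    (hd0 : d0 < Nat.gcd m (q - p)) (he0 : e0 < Nat.gcd m (q - p)) :
    (d0 = e0 ∧ ((m : ℤ) * ((q - p) / Nat.gcd m (q - p) : ℕ)) ∣ ((d1 : ℤ) - d2) - ((e1 : ℤ) - e2)) ∧
    ((d1 : ℤ) - d2 < (e1 : ℤ) - e2 →
      (MvPolynomial.X (0 : Fin 3) ^ d0 * MvPolynomial.X (1 : Fin 3) ^ d1 * MvPolynomial.X (2 : Fin 3) ^ d2 * (MvPolynomial.X (1 : Fin 3) ^ (m / Nat.gcd m (q - p) * q) * MvPolynomial.X (2 : Fin 3) ^ (m / Nat.gcd m (q - p) * p)) : MvPolynomial (Fin 3) k) ∣ MvPolynomial.X (0 : Fin 3) ^ e0 * MvPolynomial.X (1 : Fin 3) ^ e1 * MvPolynomial.X (2 : Fin 3) ^ e2) ∧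
    ((MvPolynomial.X (0 : Fin 3) ^ e0 * MvPolynomial.X (1 : Fin 3) ^ e1 * MvPolynomial.X (2 : Fin 3) ^ e2 - MvPolynomial.X (0 : Fin 3) ^ d0 * MvPolynomial.X (1 : Fin 3) ^ d1 * MvPolynomial.X (2 : Fin 3) ^ d2 : MvPolynomial (Fin 3) k) ∈
      Ideal.span {(1 : MvPolynomial (Fin 3) k) - MvPolynomial.X (1 : Fin 3) ^ (m / Nat.gcd m (q - p) * q) * MvPolynomial.X (2 : Fin 3) ^ (m / Nat.gcd m (q - p) * p)}) := by
  obtain ⟨h0, v, hv1, hv2, hv3, hv4⟩ := arith p q m hpq hcop hm d0 d1 d2 e0 e1 e2 hn hcd hce hd0 he0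
  set a := m / Nat.gcd m (q - p) with ha
  set h : MvPolynomial (Fin 3) k := MvPolynomial.X (1 : Fin 3) ^ (a * q) * MvPolynomial.X (2 : Fin 3) ^ (a * p) with hh
  have h1h : ∀ V : ℕ, 1 - h ^ V ∈ Ideal.span {1 - h} := by
    intro V
    have : (1 - h) ∣ 1 - h ^ V := by
      have := sub_dvd_pow_sub_pow (1 : MvPolynomial (Fin 3) k) h V
      rwa [one_pow] at this
    exact Ideal.mem_span_singleton.mpr this
  have hMh : ∀ (x y z V : ℕ), (MvPolynomial.X (0 : Fin 3) ^ x * MvPolynomial.X (1 : Fin 3) ^ (y + a * q * V) *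
      MvPolynomial.X (2 : Fin 3) ^ (z + a * p * V) : MvPolynomial (Fin 3) k) =
      MvPolynomial.X (0 : Fin 3) ^ x * MvPolynomial.X (1 : Fin 3) ^ y * MvPolynomial.X (2 : Fin 3) ^ z * h ^ V := by
    intro x y z V
    rw [hh]; ring
  subst h0
  refine ⟨⟨rfl, ⟨-v, hv3⟩⟩, ?_, ?_⟩
  · intro hlt
    have hvpos := hv4 hlt
    obtain ⟨V, rfl⟩ := Int.eq_ofNat_of_zero_le hvpos.le
    have hV : 0 < V := by exact_mod_cast hvpos
    have he1 : e1 = d1 + a * q * V := by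
      have : (e1 : ℤ) = d1 + a * q * V := by linarith
      exact_mod_cast this
    have he2 : e2 = d2 + a * p * V := by
      have : (e2 : ℤ) = d2 + a * p * V := by linarith
      exact_mod_cast this
    rw [he1, he2, hMh]
    obtain ⟨V', rfl⟩ := Nat.exists_eq_succ_of_ne_zero hV.ne'
    exact ⟨h ^ V', by rw [pow_succ]; ring⟩
  · rcases le_total 0 v with hv0 | hv0
    · obtain ⟨V, rfl⟩ := Int.eq_ofNat_of_zero_le hv0
      have he1 : e1 = d1 + a * q * V := by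
        have : (e1 : ℤ) = d1 + a * q * V := by linarith
        exact_mod_cast this
      have he2 : e2 = d2 + a * p * V := by
        have : (e2 : ℤ) = d2 + a * p * V := by linarith
        exact_mod_cast this
      rw [he1, he2, hMh]
      have : (MvPolynomial.X (0 : Fin 3) ^ d0 * MvPolynomial.X (1 : Fin 3) ^ d1 * MvPolynomial.X (2 : Fin 3) ^ d2 * h ^ V -
          MvPolynomial.X (0 : Fin 3) ^ d0 * MvPolynomial.X (1 : Fin 3) ^ d1 * MvPolynomial.X (2 : Fin 3) ^ d2 : MvPolynomial (Fin 3) k) =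
          -(MvPolynomial.X (0 : Fin 3) ^ d0 * MvPolynomial.X (1 : Fin 3) ^ d1 * MvPolynomial.X (2 : Fin 3) ^ d2) * (1 - h ^ V) := by ring
      rw [this]
      exact Ideal.mul_mem_left _ _ (h1h V)
    · obtain ⟨V, hV⟩ := Int.eq_ofNat_of_zero_le (neg_nonneg.mpr hv0)
      have hvV : v = -(V : ℤ) := by linarith
      subst hvV
      have hd1 : d1 = e1 + a * q * V := by
        have : (d1 : ℤ) = e1 + a * q * V := by linarith
        exact_mod_cast this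
      have hd2 : d2 = e2 + a * p * V := by
        have : (d2 : ℤ) = e2 + a * p * V := by linarith
        exact_mod_cast this
      rw [hd1, hd2, hMh]
      have : (MvPolynomial.X (0 : Fin 3) ^ d0 * MvPolynomial.X (1 : Fin 3) ^ e1 * MvPolynomial.X (2 : Fin 3) ^ e2 -
          MvPolynomial.X (0 : Fin 3) ^ d0 * MvPolynomial.X (1 : Fin 3) ^ e1 * MvPolynomial.X (2 : Fin 3) ^ e2 * h ^ V : MvPolynomial (Fin 3) k) =
          (MvPolynomial.X (0 : Fin 3) ^ d0 * MvPolynomial.X (1 : Fin 3) ^ e1 * MvPolynomial.X (2 : Fin 3) ^ e2) * (1 - h ^ V) := by ring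
      rw [this]
      exact Ideal.mul_mem_left _ _ (h1h V)

end Groth.Agent.S15739
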