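import Groth.Statements.S15748
import Groth.Agent.Lib.Helper33.WeilLib
import Groth.Agent.Lib.Helper33.WeilKun
import Mathlib

set_option autoImplicit false
universe u v
open CategoryTheory AlgebraicGeometry
open WeilCoh

namespace Groth.Agent.S15748

section

open Groth.Agent.Lib.Helper33.WeilLib Groth.Agent.Lib.Helper33.WeilKun

variable {k : Type u} [Field k] [IsAlgClosed k] {K : Type v} [Field K] [CharZero K]
  (T : WeilCoh.Theory k K) {X Y P : WeilCoh.Var k} (p : P ⟶ X) (q : P ⟶ Y)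

noncomputable def Psi (u : T.H P) (i j : ℤ) :
    T.gr X i →ₗ[K] Module.Dual K (T.gr Y (2 * (dim Y.obj.left : ℤ) - j)) :=
  LinearMap.mk₂ K (fun b c => T.tr P (T.pull p (b : T.H X) * u * T.pull q (c : T.H Y)))
    (by intro b b' c; simp only [Submodule.coe_add, map_add, add_mul])
    (by intro r b c; simp only [Submodule.coe_smul, map_smul, smul_mul_assoc, smul_eq_mul])
    (by intro b c c'; simp only [Submodule.coe_add, map_add, mul_add])
    (by intro r b c; simp only [Submodule.coe_smul, map_smul, mul_smul_comm, smul_eq_mul])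

noncomputable def act (u : T.H P) (i j : ℤ) : T.gr X i →ₗ[K] T.gr Y j :=
  have := T.duality Y j (2 * (dim Y.obj.left : ℤ) - j) (by ring)
  (pairing K (T.gr Y j) (T.gr Y (2 * (dim Y.obj.left : ℤ) - j))
    (T.tr Y)).toPerfPair.symm.toLinearMap ∘ₗ Psi T p q u i j

theorem act_spec (u : T.H P) (i j : ℤ) (b : T.gr X i)
    (c : T.gr Y (2 * (dim Y.obj.left : ℤ) - j)) :
    T.tr Y ((act T p q u i j b : T.H Y) * (c : T.H Y)) =
      T.tr P (T.pull p (b : T.H X) * u * T.pull q (c : T.H Y)) := by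
  have := T.duality Y j (2 * (dim Y.obj.left : ℤ) - j) (by ring)
  have h := LinearMap.apply_symm_toPerfPair_self
    (pairing K (T.gr Y j) (T.gr Y (2 * (dim Y.obj.left : ℤ) - j)) (T.tr Y)) (Psi T p q u i j b)
  exact LinearMap.congr_fun h c

theorem act_eq' (u : T.H P) (i j : ℤ) (b : T.gr X i) (z : T.gr Y j)
    (h : ∀ c : T.gr Y (2 * (dim Y.obj.left : ℤ) - j),
      T.tr Y ((z : T.H Y) * (c : T.H Y)) =
        T.tr P (T.pull p (b : T.H X) * u * T.pull q (c : T.H Y))) :
    act T p q u i j b = z := by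
  apply Subtype.ext
  refine eq_of_tr_mul T (act T p q u i j b).2 z.2 fun c hc => ?_
  rw [act_spec T p q u i j b ⟨c, hc⟩]
  exact (h ⟨c, hc⟩).symm

theorem act_add (u u' : T.H P) (i j : ℤ) :
    act T p q (u + u') i j = act T p q u i j + act T p q u' i j := by
  apply LinearMap.ext
  intro b
  refine act_eq' T p q _ i j b _ fun c => ?_
  rw [LinearMap.add_apply, Submodule.coe_add, add_mul, map_add, act_spec, act_spec, mul_add,
    add_mul, map_add]

theorem act_smul (r : K) (u : T.H P) (i j : ℤ) :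
    act T p q (r • u) i j = r • act T p q u i j := by
  apply LinearMap.ext
  intro b
  refine act_eq' T p q _ i j b _ fun c => ?_
  rw [LinearMap.smul_apply, Submodule.coe_smul, smul_mul_assoc, map_smul, act_spec,
    mul_smul_comm, smul_mul_assoc, map_smul]

theorem act_zero (i j : ℤ) : act T p q 0 i j = 0 := by
  apply LinearMap.ext
  intro b
  refine act_eq' T p q _ i j b _ fun c => ?_
  simp

variable (hP : WeilCoh.IsProd p q)

include hP in
theorem tr_prod_mid (x a : T.H X) (b c : T.H Y) :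
    T.tr P (T.pull p x * (T.pull p a * T.pull q b) * T.pull q c) =
      T.tr X (x * a) * T.tr Y (b * c) := by
  rw [← tr_prod' T p q hP (x * a) (b * c), map_mul (T.pull p), map_mul (T.pull q)]
  congr 1
  simp only [mul_assoc]

include hP in
theorem act_pure_of_ne {t : ℤ} (a : T.H X) (b : T.H Y) (hb : b ∈ T.gr Y t)
    (i j : ℤ) (hj : j ≠ t) : act T p q (T.pull p a * T.pull q b) i j = 0 := by
  apply LinearMap.ext
  intro x
  refine act_eq' T p q _ i j x _ fun c => ?_
  rw [tr_prod_mid T p q hP, tr_mul_eq_zero T hb c.2 (by omega)]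
  simp

include hP in
theorem act_pure_self {t : ℤ} (a : T.H X) (b : T.gr Y t) (i : ℤ) :
    act T p q (T.pull p a * T.pull q (b : T.H Y)) i t =
      (((T.tr X).comp (LinearMap.mulRight K a)).comp (T.gr X i).subtype).smulRight b := by
  apply LinearMap.ext
  intro x
  refine act_eq' T p q _ i t x _ fun c => ?_
  rw [tr_prod_mid T p q hP]
  simp only [LinearMap.smulRight_apply, LinearMap.coe_comp, Function.comp_apply,
    Submodule.subtype_apply, LinearMap.mulRight_apply, Submodule.coe_smul, smul_mul_assoc,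
    map_smul, smul_eq_mul]

theorem corr_eq_act (e : ℤ) (φ : T.gr P e) (i : ℤ) :
    (T.push q (i + e)) ∘ₗ ((LinearMap.mulRight K (φ : T.H P)).restrict (p := T.gr P i)
        (q := T.gr P (i + e)) (fun x hx => SetLike.mul_mem_graded hx φ.2)) ∘ₗ (T.pullDeg p i) =
      act T p q (φ : T.H P) i (i + e + 2 * (dim Y.obj.left : ℤ) - 2 * (dim P.obj.left : ℤ)) := by
  apply LinearMap.ext
  intro x
  symm
  refine act_eq' T p q _ i _ x _ fun c => ?_
  exact tr_push_mul' T q _ _ (c : T.H Y)

include hP in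
theorem mem_span_pure (d : ℤ) (z : T.H P) (hz : z ∈ T.gr P d) :
    z ∈ Submodule.span K {w : T.H P | ∃ (s t : ℤ) (a : T.H X) (b : T.H Y),
      a ∈ T.gr X s ∧ b ∈ T.gr Y t ∧ s + t = d ∧ w = T.pull p a * T.pull q b} := by
  classical
  let _ : DirectSum.Decomposition (T.gr P) := (T.decomp P).chooseDecomposition
  have key : ∀ c : T.H P, ((DirectSum.decompose (T.gr P) c d : T.gr P d) : T.H P) ∈
      Submodule.span K {w : T.H P | ∃ (s t : ℤ) (a : T.H X) (b : T.H Y),
        a ∈ T.gr X s ∧ b ∈ T.gr Y t ∧ s + t = d ∧ w = T.pull p a * T.pull q b} := by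
    intro c
    induction c using kunneth_induction T p q hP with
    | hom s t a b ha hb =>
      have hab : T.pull p a * T.pull q b ∈ T.gr P (s + t) :=
        SetLike.mul_mem_graded (T.pull_mem p s a ha) (T.pull_mem q t b hb)
      by_cases hst : s + t = d
      · subst hst
        rw [DirectSum.decompose_of_mem_same _ hab]
        exact Submodule.subset_span ⟨s, t, a, b, ha, hb, rfl, rfl⟩
      · rw [DirectSum.decompose_of_mem_ne _ hab hst]
        exact Submodule.zero_mem _
    | zero => simp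
    | add c c' hc hc' =>
      rw [DirectSum.decompose_add, DirectSum.add_apply, Submodule.coe_add]
      exact Submodule.add_mem _ hc hc'
  have := key z
  rwa [DirectSum.decompose_of_mem_same _ hz] at this

end

section Main

open Groth.Agent.Lib.Helper33.WeilLib Groth.Agent.Lib.Helper33.WeilKun

variable {k : Type u} [Field k] [IsAlgClosed k] {K : Type v} [Field K] [CharZero K]
  (T : WeilCoh.Theory k K) {X Y P P' : WeilCoh.Var k} (p : P ⟶ X) (q : P ⟶ Y)
  (hP : WeilCoh.IsProd p q) (p' : P' ⟶ Y) (q' : P' ⟶ X) (hP' : WeilCoh.IsProd p' q')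

include hP hP' in
theorem trace_comp_pure {t t' : ℤ} (a : T.H X) (b : T.H Y) (hb : b ∈ T.gr Y t) (c : T.H Y)
    (d : T.H X) (hd : d ∈ T.gr X t') (i j : ℤ) :
    LinearMap.trace K (T.gr X i) (act T p' q' (T.pull p' c * T.pull q' d) j i ∘ₗ
      act T p q (T.pull p a * T.pull q b) i j) =
      if i = t' ∧ j = t then T.tr X (d * a) * T.tr Y (b * c) else 0 := by
  by_cases hj : j = t
  · subst hj
    by_cases hi : i = t'
    · subst hi
      rw [if_pos ⟨rfl, rfl⟩, act_pure_self T p q hP a ⟨b, hb⟩ i,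
        act_pure_self T p' q' hP' c ⟨d, hd⟩ j]
      have hcomp : ((((T.tr Y).comp (LinearMap.mulRight K c)).comp (T.gr Y j).subtype).smulRight
            (⟨d, hd⟩ : T.gr X i)) ∘ₗ
          ((((T.tr X).comp (LinearMap.mulRight K a)).comp (T.gr X i).subtype).smulRight
            (⟨b, hb⟩ : T.gr Y j)) =
          (((T.tr X).comp (LinearMap.mulRight K a)).comp (T.gr X i).subtype).smulRight
            (T.tr Y (b * c) • (⟨d, hd⟩ : T.gr X i)) := by
        apply LinearMap.ext
        intro x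
        simp only [LinearMap.coe_comp, Function.comp_apply, LinearMap.smulRight_apply,
          Submodule.subtype_apply, LinearMap.mulRight_apply, map_smul, Submodule.coe_smul,
          smul_mul_assoc, smul_eq_mul]
      rw [hcomp, LinearMap.trace_smulRight]
      simp only [LinearMap.coe_comp, Function.comp_apply, Submodule.subtype_apply,
        LinearMap.mulRight_apply, Submodule.coe_smul, smul_mul_assoc, map_smul, smul_eq_mul]
      ring
    · rw [if_neg (fun h => hi h.1), act_pure_of_ne T p' q' hP' c d hd j i hi,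
        LinearMap.zero_comp, map_zero]
  · rw [if_neg (fun h => hj h.2), act_pure_of_ne T p q hP a b hb i j hj,
      LinearMap.comp_zero, map_zero]

noncomputable def F (J : ℕ → ℤ) (u : T.H P) (v : T.H P') : K :=
  ∑ i ∈ Finset.range (2 * dim X.obj.left + 1),
    (-1 : K) ^ i * LinearMap.trace K (T.gr X (i : ℤ))
      (act T p' q' v (J i) i ∘ₗ act T p q u i (J i))

noncomputable def FB (J : ℕ → ℤ) : T.H P →ₗ[K] T.H P' →ₗ[K] K :=
  LinearMap.mk₂ K (F T p q p' q' J)
    (by
      intro u u' v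
      simp only [F, act_add, LinearMap.comp_add, map_add, mul_add, Finset.sum_add_distrib])
    (by
      intro r u v
      simp only [F, act_smul, LinearMap.comp_smul, map_smul, smul_eq_mul, Finset.mul_sum]
      exact Finset.sum_congr rfl fun i _ => by ring)
    (by
      intro u v v'
      simp only [F, act_add, LinearMap.add_comp, map_add, mul_add, Finset.sum_add_distrib])
    (by
      intro r u v
      simp only [F, act_smul, LinearMap.smul_comp, map_smul, smul_eq_mul, Finset.mul_sum]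
      exact Finset.sum_congr rfl fun i _ => by ring)

noncomputable def GB (σ : P ⟶ P') : T.H P →ₗ[K] T.H P' →ₗ[K] K :=
  LinearMap.mk₂ K (fun u v => T.tr P (u * T.pull σ v))
    (by intro u u' v; simp only [add_mul, map_add])
    (by intro r u v; simp only [smul_mul_assoc, map_smul])
    (by intro u v v'; simp only [map_add, mul_add])
    (by intro r u v; simp only [map_smul, mul_smul_comm])

include hP hP' in
theorem main_pure (σ : P ⟶ P') (hσ₁ : σ ≫ p' = q) (hσ₂ : σ ≫ q' = p) (r : ℤ) (J : ℕ → ℤ)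
    (hJ : ∀ i : ℕ, J i = i + r) {s t s' t' : ℤ} (a : T.H X) (ha : a ∈ T.gr X s)
    (b : T.H Y) (hb : b ∈ T.gr Y t) (hst : s + t = 2 * (dim X.obj.left : ℤ) + r)
    (c : T.H Y) (hc : c ∈ T.gr Y s') (d : T.H X) (hd : d ∈ T.gr X t')
    (hst' : s' + t' = 2 * (dim Y.obj.left : ℤ) - r) :
    T.tr P (T.pull p a * T.pull q b * T.pull σ (T.pull p' c * T.pull q' d)) =
      F T p q p' q' J (T.pull p a * T.pull q b) (T.pull p' c * T.pull q' d) := by
  have hpull : T.pull σ (T.pull p' c * T.pull q' d) = T.pull q c * T.pull p d := by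
    rw [map_mul, ← AlgHom.comp_apply, ← AlgHom.comp_apply, ← T.pull_comp, ← T.pull_comp,
      hσ₁, hσ₂]
  have hA : T.pull p a * T.pull q b * T.pull q c ∈ T.gr P (s + t + s') :=
    SetLike.mul_mem_graded (SetLike.mul_mem_graded (T.pull_mem p s a ha) (T.pull_mem q t b hb))
      (T.pull_mem q s' c hc)
  have hD : T.pull p d ∈ T.gr P t' := T.pull_mem p t' d hd
  have hcomm := T.gradedComm P _ _ _ _ hA hD
  have hLHS : T.tr P (T.pull p a * T.pull q b * T.pull σ (T.pull p' c * T.pull q' d)) =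
      (-1 : K) ^ ((s + t + s').natAbs * t'.natAbs) * (T.tr X (d * a) * T.tr Y (b * c)) := by
    rw [hpull, ← mul_assoc, hcomm, map_smul, smul_eq_mul, ← tr_prod' T p q hP (d * a) (b * c),
      map_mul (T.pull p), map_mul (T.pull q)]
    congr 2
    simp only [mul_assoc]
  rw [hLHS]
  unfold F
  simp only [trace_comp_pure T p q hP p' q' hP' a b hb c d hd]
  by_cases hτ : T.tr X (d * a) * T.tr Y (b * c) = 0
  · rw [hτ, mul_zero]
    symm
    refine Finset.sum_eq_zero fun i _ => ?_
    simp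
  · have h1 : T.tr X (d * a) ≠ 0 := left_ne_zero_of_mul hτ
    have h2 : T.tr Y (b * c) ≠ 0 := right_ne_zero_of_mul hτ
    have e1 : t' + s = 2 * (dim X.obj.left : ℤ) := by
      by_contra hne
      exact h1 (tr_mul_eq_zero T hd ha hne)
    have hd0 : d ≠ 0 := by
      rintro rfl
      simp at h1
    have ht'0 : ¬ (t' < 0 ∨ 2 * (dim X.obj.left : ℤ) < t') := fun h =>
      hd0 (eq_zero_of_mem_of_vanish T hd h)
    push Not at ht'0
    obtain ⟨i₀, rfl⟩ := Int.eq_ofNat_of_zero_le ht'0.1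
    have hi₀ : i₀ ∈ Finset.range (2 * dim X.obj.left + 1) := by
      rw [Finset.mem_range]; omega
    have hdP : (dim P.obj.left : ℤ) = dim X.obj.left + dim Y.obj.left := dim_prod T p q hP
    rw [Finset.sum_eq_single_of_mem i₀ hi₀]
    · rw [if_pos ⟨rfl, by rw [hJ]; omega⟩]
      congr 1
      have hs : (s + t + s').natAbs = 2 * (dim X.obj.left + dim Y.obj.left) - i₀ := by omega
      rw [hs, Int.natAbs_natCast]
      rcases Nat.even_or_odd i₀ with he | ho
      · rw [he.neg_one_pow, (he.mul_left _).neg_one_pow]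
      · have ho' : Odd (2 * (dim X.obj.left + dim Y.obj.left) - i₀) := by
          rcases ho with ⟨w, hw⟩
          exact ⟨dim X.obj.left + dim Y.obj.left - w - 1, by omega⟩
        rw [ho.neg_one_pow, (ho'.mul ho).neg_one_pow]
    · intro i _ hne
      rw [if_neg (fun h => hne (by exact_mod_cast h.1)), mul_zero]

include hP hP' in
theorem main (σ : P ⟶ P') (hσ₁ : σ ≫ p' = q) (hσ₂ : σ ≫ q' = p) (r : ℤ) (J : ℕ → ℤ)
    (hJ : ∀ i : ℕ, J i = i + r)
    (φ : T.H P) (hφ : φ ∈ T.gr P (2 * (dim X.obj.left : ℤ) + r))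
    (ψ : T.H P') (hψ : ψ ∈ T.gr P' (2 * (dim Y.obj.left : ℤ) - r)) :
    T.tr P (φ * T.pull σ ψ) = F T p q p' q' J φ ψ := by
  have h1 := mem_span_pure T p q hP _ φ hφ
  have h2 := mem_span_pure T p' q' hP' _ ψ hψ
  have key : ∀ v ∈ {w : T.H P' | ∃ (s t : ℤ) (a : T.H Y) (b : T.H X),
      a ∈ T.gr Y s ∧ b ∈ T.gr X t ∧ s + t = 2 * (dim Y.obj.left : ℤ) - r ∧
        w = T.pull p' a * T.pull q' b},
      ∀ u ∈ {w : T.H P | ∃ (s t : ℤ) (a : T.H X) (b : T.H Y),
        a ∈ T.gr X s ∧ b ∈ T.gr Y t ∧ s + t = 2 * (dim X.obj.left : ℤ) + r ∧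
          w = T.pull p a * T.pull q b},
      GB T σ u v = FB T p q p' q' J u v := by
    rintro v ⟨s', t', c, d, hc, hd, hst', rfl⟩ u ⟨s, t, a, b, ha, hb, hst, rfl⟩
    exact main_pure T p q hP p' q' hP' σ hσ₁ hσ₂ r J hJ a ha b hb hst c hc d hd hst'
  have key2 : ∀ v ∈ {w : T.H P' | ∃ (s t : ℤ) (a : T.H Y) (b : T.H X),
      a ∈ T.gr Y s ∧ b ∈ T.gr X t ∧ s + t = 2 * (dim Y.obj.left : ℤ) - r ∧
        w = T.pull p' a * T.pull q' b}, (GB T σ).flip v φ = (FB T p q p' q' J).flip v φ :=
    fun v hv => LinearMap.eqOn_span (fun u hu => key v hv u hu) h1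
  have key3 : GB T σ φ ψ = FB T p q p' q' J φ ψ :=
    LinearMap.eqOn_span (f := GB T σ φ) (g := FB T p q p' q' J φ) (fun v hv => key2 v hv) h2
  exact key3

theorem ofEq_comp_act {X Y P : WeilCoh.Var k} (p : P ⟶ X) (q : P ⟶ Y) (u : T.H P) (i j j' : ℤ)
    (h : j = j') (h' : T.gr Y j = T.gr Y j') :
    (LinearEquiv.ofEq (T.gr Y j) (T.gr Y j') h').toLinearMap ∘ₗ act T p q u i j =
      act T p q u i j' := by
  subst h
  apply LinearMap.ext
  intro x
  rfl

end Main

/-- Let `H` be a Weil cohomology theory with coefficients in a field `K` of characteristic zero on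
nonsingular connected projective varieties over an algebraically closed field `k`; let `X`, `Y` be
such varieties, `P` a product `X × Y` with projections `p`, `q`, `P'` a product `Y × X` with
projections `p'`, `q'`, and `σ : P ⟶ P'` the swap (`σ p' = q`, `σ q' = p`). For an integer `r`, a
class `φ ∈ H^{2 dim X + r}(P)` acts as the degree-`r` correspondence `x ↦ q_*(p^* x ∪ φ)` from
`H•(X)` to `H•(Y)`, and `ψ ∈ H^{2 dim Y − r}(P')` as the degree-`(−r)` correspondence `y ↦ q'_*(p'^*
y ∪ ψ)` back. Then `Tr_P(φ ∪ σ^* ψ) = Σ_{i=0}^{2 dim X} (−1)^i tr(ψ ∘ φ | H^i(X))`. The hypothesis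
`hdim` is the arithmetic identity expressing `dim P = dim P' = dim X + dim Y` in the form needed to
read the composite `ψ ∘ φ` as an endomorphism of each `H^i(X)` (the push-forward maps are indexed by
the dimensions of the underlying spaces). (The published lemma defines the action of a
correspondence through the Künneth and Poincaré duality identifications `Hom^r(H•X, H•Y) = H^{2 dim
X + r}(X × Y)` and the transpose through the same identifications; here the action is written as
pull-back, cup product and push-forward, and the transpose as pull-back along the swap, which the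
published text identifies with it.) (The published lemma is stated for smooth projective varieties
over an arbitrary base field, pure of their dimensions, with Tate twists; this row is its case of
connected varieties over an algebraically closed field, without twists.) -/
theorem result (k : Type u) [Field k] [IsAlgClosed k] (K : Type v) [Field K] [CharZero K]
    (T : WeilCoh.Theory k K) (X Y P P' : WeilCoh.Var k)
    (p : P ⟶ X) (q : P ⟶ Y) (hP : WeilCoh.IsProd p q)
    (p' : P' ⟶ Y) (q' : P' ⟶ X) (hP' : WeilCoh.IsProd p' q')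
    (σ : P ⟶ P') (hσ₁ : σ ≫ p' = q) (hσ₂ : σ ≫ q' = p) (r : ℤ)
    (hdim : ∀ i : ℤ, ((i + (2 * (WeilCoh.dim X.obj.left : ℤ) + r) + 2 * (WeilCoh.dim Y.obj.left : ℤ) - 2 * (WeilCoh.dim P.obj.left : ℤ)) + (2 * (WeilCoh.dim Y.obj.left : ℤ) - r) + 2 * (WeilCoh.dim X.obj.left : ℤ) - 2 * (WeilCoh.dim P'.obj.left : ℤ)) = i)
    (φ : ↥(T.gr P (2 * (WeilCoh.dim X.obj.left : ℤ) + r))) (ψ : ↥(T.gr P' (2 * (WeilCoh.dim Y.obj.left : ℤ) - r))) :
    T.tr P ((φ : T.H P) * T.pull σ (ψ : T.H P')) =
      ∑ i ∈ Finset.range (2 * WeilCoh.dim X.obj.left + 1),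
        (-1 : K) ^ i * LinearMap.trace K ↥(T.gr X (i : ℤ))
          ((LinearEquiv.ofEq (T.gr X (((i : ℤ) + (2 * (WeilCoh.dim X.obj.left : ℤ) + r) + 2 * (WeilCoh.dim Y.obj.left : ℤ) - 2 * (WeilCoh.dim P.obj.left : ℤ)) + (2 * (WeilCoh.dim Y.obj.left : ℤ) - r) + 2 * (WeilCoh.dim X.obj.left : ℤ) - 2 * (WeilCoh.dim P'.obj.left : ℤ))) (T.gr X (i : ℤ)) (congrArg (T.gr X) (hdim (i : ℤ)))).toLinearMap ∘ₗ
            ((T.push q' (((i : ℤ) + (2 * (WeilCoh.dim X.obj.left : ℤ) + r) + 2 * (WeilCoh.dim Y.obj.left : ℤ) - 2 * (WeilCoh.dim P.obj.left : ℤ)) + (2 * (WeilCoh.dim Y.obj.left : ℤ) - r))) ∘ₗ ((LinearMap.mulRight K (ψ : T.H P')).restrict (p := T.gr P' ((i : ℤ) + (2 * (WeilCoh.dim X.obj.left : ℤ) + r) + 2 * (WeilCoh.dim Y.obj.left : ℤ) - 2 * (WeilCoh.dim P.obj.left : ℤ))) (q := T.gr P' (((i : ℤ) + (2 * (WeilCoh.dim X.obj.left : ℤ) + r) + 2 * (WeilCoh.dim Y.obj.left : ℤ) - 2 * (WeilCoh.dim P.obj.left : ℤ)) + (2 * (WeilCoh.dim Y.obj.left : ℤ) - r))) (fun y hy => SetLike.mul_mem_graded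 hy ψ.2)) ∘ₗ (T.pullDeg p' ((i : ℤ) + (2 * (WeilCoh.dim X.obj.left : ℤ) + r) + 2 * (WeilCoh.dim Y.obj.left : ℤ) - 2 * (WeilCoh.dim P.obj.left : ℤ)))) ∘ₗ
            ((T.push q ((i : ℤ) + (2 * (WeilCoh.dim X.obj.left : ℤ) + r))) ∘ₗ ((LinearMap.mulRight K (φ : T.H P)).restrict (p := T.gr P (i : ℤ)) (q := T.gr P ((i : ℤ) + (2 * (WeilCoh.dim X.obj.left : ℤ) + r))) (fun x hx => SetLike.mul_mem_graded hx φ.2)) ∘ₗ (T.pullDeg p (i : ℤ)))) := by
  classical
  have hdP : (dim P.obj.left : ℤ) = dim X.obj.left + dim Y.obj.left :=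
    Groth.Agent.Lib.Helper33.WeilLib.dim_prod T p q hP
  have hmain := main T p q hP p' q' hP' σ hσ₁ hσ₂ r
    (fun i : ℕ => (i : ℤ) + (2 * (WeilCoh.dim X.obj.left : ℤ) + r) +
      2 * (WeilCoh.dim Y.obj.left : ℤ) - 2 * (WeilCoh.dim P.obj.left : ℤ))
    (fun i => by omega) (φ : T.H P) φ.2 (ψ : T.H P') ψ.2
  refine hmain.trans (Finset.sum_congr rfl fun i _ => ?_)
  rw [corr_eq_act T p q _ φ (i : ℤ), corr_eq_act T p' q' _ ψ _, ← LinearMap.comp_assoc,
    ofEq_comp_act T p' q' (ψ : T.H P') _ _ _ (hdim (i : ℤ))]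

end Groth.Agent.S15748
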