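import Groth.Statements.S15749
import Mathlib

set_option autoImplicit false
universe u
open CAlg

namespace Groth.Agent.S15749

lemma isUnit_one_sub_of_coeff_nilpotent {R : Type*} [CommRing R] (y : HahnSeries ℤ R)
    (hy : ∀ n, IsNilpotent (y.coeff n)) : IsUnit (1 - y) := by
  classical
  set m := y.order with hm
  set yneg : HahnSeries ℤ R := ∑ n ∈ Finset.Ico m 0, HahnSeries.single n (y.coeff n) with hyneg
  have hyneg_nil : IsNilpotent yneg := by
    refine isNilpotent_sum fun n _ => ?_
    obtain ⟨k, hk⟩ := hy n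
    exact ⟨k, by rw [HahnSeries.single_pow, hk, HahnSeries.single_eq_zero]⟩
  have hcoef_neg : ∀ n, yneg.coeff n = if n < 0 then y.coeff n else 0 := by
    intro n
    rw [hyneg, HahnSeries.coeff_sum]
    simp only [HahnSeries.coeff_single]
    by_cases hn : n < 0
    · rw [if_pos hn]
      by_cases hnm : m ≤ n
      · refine (Finset.sum_eq_single_of_mem n (Finset.mem_Ico.mpr ⟨hnm, hn⟩) ?_).trans ?_
        · intro b _ hb
          exact if_neg (Ne.symm hb)
        · exact if_pos rfl
      · have h0 : y.coeff n = 0 := HahnSeries.coeff_eq_zero_of_lt_order (lt_of_not_ge hnm)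
        rw [h0]
        refine Finset.sum_eq_zero fun x hx => if_neg ?_
        rintro rfl
        exact hnm (Finset.mem_Ico.mp hx).1
    · rw [if_neg hn]
      refine Finset.sum_eq_zero fun x hx => if_neg ?_
      rintro rfl
      exact hn (Finset.mem_Ico.mp hx).2
  set p : PowerSeries R := PowerSeries.mk fun k => y.coeff (k : ℤ) with hp
  have hsplit : y = HahnSeries.ofPowerSeries ℤ R p + yneg := by
    ext n
    rw [HahnSeries.coeff_add, hcoef_neg]
    by_cases hn : n < 0
    · rw [if_pos hn, HahnSeries.ofPowerSeries_apply, HahnSeries.embDomain_of_notMem_range,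
        zero_add]
      rintro ⟨k, hk⟩
      have : (0 : ℤ) ≤ n := by rw [← hk]; exact Int.natCast_nonneg k
      omega
    · rw [if_neg hn, add_zero]
      obtain ⟨k, rfl⟩ := Int.eq_ofNat_of_zero_le (not_lt.mp hn)
      rw [HahnSeries.ofPowerSeries_apply_coeff, hp, PowerSeries.coeff_mk]
  have hunit : IsUnit (1 - p) := by
    rw [PowerSeries.isUnit_iff_constantCoeff, map_sub, map_one]
    have : PowerSeries.constantCoeff p = y.coeff 0 := by
      rw [hp, ← PowerSeries.coeff_zero_eq_constantCoeff_apply, PowerSeries.coeff_mk]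
      rfl
    rw [this]
    exact (hy 0).isUnit_one_sub
  have hunit' : IsUnit (HahnSeries.ofPowerSeries ℤ R (1 - p)) := hunit.map _
  have e : 1 - y = HahnSeries.ofPowerSeries ℤ R (1 - p) + (-yneg) := by
    rw [map_sub, map_one]
    conv_lhs => rw [hsplit]
    ring
  rw [e]
  exact hyneg_nil.neg.isUnit_add_left_of_commute hunit' (Commute.all _ _)


/-- For an arbitrary commutative ring R, every idempotent of the ring of formal Laurent series R((t)) is
the constant series attached to a unique idempotent of R. Equivalently, the structure map R → R((t))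
induces a bijection on idempotents, so that the spectrum of R((t)) is connected if and only if the
spectrum of R is. No reducedness is assumed. -/
theorem result (R : Type u) [CommRing R]
    (e : LaurentSeries R) (he : IsIdempotentElem e) :
    ∃! r : R, IsIdempotentElem r ∧ HahnSeries.C r = e := by
  classical
  -- Step 1: reduction modulo each prime
  have hprime : ∀ (P : Ideal R) [P.IsPrime],
      (∀ n, n ≠ 0 → e.coeff n ∈ P) ∧ (e.coeff 0 ∈ P ∨ e.coeff 0 - 1 ∈ P) := by
    intro P hP
    let g : R →ₙ+* R ⧸ P := (Ideal.Quotient.mk P : R →+* R ⧸ P)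
    have hidem : (e.map g : HahnSeries ℤ (R ⧸ P)) * e.map g = e.map g := by
      rw [← HahnSeries.map_mul, he.eq]
    have h0 : (e.map g : HahnSeries ℤ (R ⧸ P)) * (e.map g - 1) = 0 := by
      rw [mul_sub, hidem, mul_one, sub_self]
    have hcoef : ∀ n, (e.map g : HahnSeries ℤ (R ⧸ P)).coeff n = Ideal.Quotient.mk P (e.coeff n) :=
      fun n => rfl
    rcases mul_eq_zero.mp h0 with h | h
    · refine ⟨fun n _ => ?_, Or.inl ?_⟩
      · have := congrArg (fun z : HahnSeries ℤ (R ⧸ P) => z.coeff n) h
        simp only [hcoef, HahnSeries.coeff_zero] at this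
        exact Ideal.Quotient.eq_zero_iff_mem.mp this
      · have := congrArg (fun z : HahnSeries ℤ (R ⧸ P) => z.coeff 0) h
        simp only [hcoef, HahnSeries.coeff_zero] at this
        exact Ideal.Quotient.eq_zero_iff_mem.mp this
    · have h' : (e.map g : HahnSeries ℤ (R ⧸ P)) = 1 := sub_eq_zero.mp h
      refine ⟨fun n hn => ?_, Or.inr ?_⟩
      · have := congrArg (fun z : HahnSeries ℤ (R ⧸ P) => z.coeff n) h'
        simp only [hcoef, HahnSeries.coeff_one, if_neg hn] at this
        exact Ideal.Quotient.eq_zero_iff_mem.mp this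
      · have := congrArg (fun z : HahnSeries ℤ (R ⧸ P) => z.coeff 0) h'
        simp only [hcoef, HahnSeries.coeff_one, if_true] at this
        rw [← Ideal.Quotient.eq_zero_iff_mem, map_sub, this, map_one, sub_self]
  have hnil : ∀ n, n ≠ 0 → IsNilpotent (e.coeff n) := by
    intro n hn
    rw [← mem_nilradical, nilradical_eq_sInf, Ideal.mem_sInf]
    intro P hP
    have : P.IsPrime := hP
    exact (hprime P).1 n hn
  have hnil0 : IsNilpotent (e.coeff 0 * e.coeff 0 - e.coeff 0) := by
    rw [← mem_nilradical, nilradical_eq_sInf, Ideal.mem_sInf]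
    intro P hP
    have : P.IsPrime := hP
    have e1 : e.coeff 0 * e.coeff 0 - e.coeff 0 = e.coeff 0 * (e.coeff 0 - 1) := by ring
    rw [e1]
    rcases (hprime P).2 with h | h
    · exact Ideal.mul_mem_right _ _ h
    · exact Ideal.mul_mem_left _ _ h
  -- Step 2: lift the idempotent
  obtain ⟨r, hr, hrc⟩ := exists_isIdempotentElem_eq_of_ker_isNilpotent
    (Ideal.Quotient.mk (nilradical R))
    (fun x hx => by
      rw [RingHom.mem_ker, Ideal.Quotient.eq_zero_iff_mem] at hx
      exact hx)
    (Ideal.Quotient.mk (nilradical R) (e.coeff 0)) ⟨e.coeff 0, rfl⟩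
    (by
      change _ * _ = _
      rw [← map_mul, ← sub_eq_zero, ← map_sub, Ideal.Quotient.eq_zero_iff_mem]
      exact hnil0)
  have hr0 : IsNilpotent (e.coeff 0 - r) := by
    rw [← mem_nilradical, ← Ideal.Quotient.eq_zero_iff_mem, map_sub, hrc, sub_self]
  -- Step 3
  set s : LaurentSeries R := HahnSeries.C r with hs
  have hss : s * s = s := by rw [hs, ← map_mul, hr.eq]
  set x : LaurentSeries R := e - s with hx
  have hx3 : x * (1 - x * x) = 0 := by
    rw [hx]
    linear_combination (-(1 + e - 3 * s)) * he.eq + (-(3 * e - 1 - s)) * hss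
  have hxnil : ∀ n, IsNilpotent (x.coeff n) := by
    intro n
    rw [hx, HahnSeries.coeff_sub, hs, HahnSeries.C_apply, HahnSeries.coeff_single]
    by_cases hn : n = 0
    · subst hn
      rw [if_pos rfl]
      exact hr0
    · rw [if_neg hn, sub_zero]
      exact hnil n hn
  have hx2nil : ∀ n, IsNilpotent ((x * x).coeff n) := by
    intro n
    rw [HahnSeries.coeff_mul, ← mem_nilradical]
    refine Ideal.sum_mem _ fun ij _ => Ideal.mul_mem_left _ _ ?_
    rw [mem_nilradical]
    exact hxnil _
  have hunit := isUnit_one_sub_of_coeff_nilpotent (x * x) hx2nil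
  have hx0 : x = 0 := (hunit.mul_left_eq_zero).mp hx3
  have hes : e = s := sub_eq_zero.mp hx0
  refine ⟨r, ⟨hr, hes.symm⟩, ?_⟩
  rintro r' ⟨_, hr'⟩
  exact HahnSeries.C_injective (by rw [hr', hes])

end Groth.Agent.S15749
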