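import Groth.Statements.S1575
import Mathlib
import Groth.Agent.Lib.Helper64.HartogsMod
import Groth.Agent.Lib.Helper64.FinTypeStalk

set_option autoImplicit false
universe u
open CategoryTheory CategoryTheory.Limits AlgebraicGeometry
open Divisors

namespace Groth.Agent.S1575


/-- Let X be locally Noetherian, F coherent, and U open such that at every point outside U the stalk of
F has depth at least two over the local ring. Then F → j_*(F|_U) is an isomorphism: for every open
V, restriction of sections Γ(V, F) → Γ(V ∩ U, F) is a bijection. -/
theorem result (X : Scheme.{u}) [IsLocallyNoetherian X]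
    (F : X.Modules) (hF : Coh.IsCoh F) (U : X.Opens)
    (hdepth : ∀ x : X, x ∉ U → 2 ≤ LocCoh.depth (X.presheaf.stalk x) (F.presheaf.stalk x)) (V : X.Opens) :
    Function.Bijective (F.val.presheaf.map (homOfLE (inf_le_left : V ⊓ U ≤ V)).op) := by
  haveI : F.IsQuasicoherent := hF.1
  exact Groth.Agent.Lib.Helper64.HartogsMod.bijective_res_inf F
    (fun V hV => Groth.Agent.Lib.Helper29.QCohLoc.LocAt.of_isQuasicoherent F hV) U
    (fun x hx => by
      haveI : Module.Finite (X.presheaf.stalk x) (F.presheaf.stalk x) :=
        Groth.Agent.Lib.Helper64.FinTypeStalk.finite_stalk F hF.2 x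
      exact Groth.Agent.Lib.Helper64.HartogsMod.hasRegPairMod_of_two_le_depth (hdepth x hx)) V

end Groth.Agent.S1575
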