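import Groth.Statements.S1576
import Groth.Agent.Lib.Helper29.AssNoeth
import Groth.Agent.Lib.Helper29.QCohPush
import Groth.Agent.Lib.Helper21.QCohFinite

set_option autoImplicit false
universe u
open CategoryTheory CategoryTheory.Limits AlgebraicGeometry
open Divisors

namespace Groth.Agent.S1576

open Groth.Agent.Lib.Helper29.QCohLoc

/-- Let X be locally Noetherian and F coherent. Then the associated points of F lying in any
quasi-compact open subset form a finite set. -/
theorem result (X : Scheme.{u}) [IsLocallyNoetherian X]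
    (F : X.Modules) (hF : Coh.IsCoh F) (U : X.Opens) (hU : IsCompact (U : Set X)) :
    {x : X | x ∈ U ∧ Curv2.IsAssPoint F x}.Finite := by
  have : F.IsQuasicoherent := hF.1
  obtain ⟨s, hs, e⟩ := isCompact_and_isOpen_iff_finite_and_eq_biUnion_affineOpens.mp ⟨hU, U.2⟩
  have haff : ∀ V ∈ s, {x : X | x ∈ V.1 ∧ Curv2.IsAssPoint F x}.Finite := by
    intro V _
    have hV : IsAffineOpen V.1 := V.2
    have : IsNoetherianRing Γ(X, V.1) := IsLocallyNoetherian.component_noetherian V
    have : Module.Finite Γ(X, V.1) Γ(F, V.1) :=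
      Groth.Agent.Lib.Helper21.QCohFinite.finite_sections_of_isFiniteType F hF.2 hV
    have hfin := associatedPrimes.finite Γ(X, V.1) Γ(F, V.1)
    have hloc : LocAt F V.1 := LocAt.of_isQuasicoherent F hV
    classical
    refine Set.Finite.of_injOn (f := fun x => if h : x ∈ V.1 then (hV.primeIdealOf ⟨x, h⟩).asIdeal
      else ⊥) ?_ ?_ hfin
    · rintro x ⟨hxV, hx⟩
      simp only [dif_pos hxV]
      obtain ⟨t, ht⟩ := exists_section_ann_eq F hV hloc x hxV hx
      rw [AssociatedPrimes.mem_iff, isAssociatedPrime_iff]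
      exact ⟨inferInstance, t, by rw [← ann_eq_colon, ht]⟩
    · rintro x ⟨hxV, -⟩ y ⟨hyV, -⟩ hxy
      simp only [dif_pos hxV, dif_pos hyV] at hxy
      exact primeIdealOf_injective hV hxV hyV (PrimeSpectrum.ext hxy)
  refine (hs.biUnion haff).subset ?_
  rintro x ⟨hxU, hx⟩
  have hx' : x ∈ (U : Set X) := hxU
  rw [e] at hx'
  simp only [Set.mem_iUnion] at hx'
  obtain ⟨V, hVs, hxV⟩ := hx'
  exact Set.mem_biUnion hVs ⟨hxV, hx⟩

end Groth.Agent.S1576
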