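import Groth.Statements.S15765

set_option autoImplicit false
universe u
open CategoryTheory AlgebraicGeometry
open CAlg

namespace Groth.Agent.S15765

open TopologicalSpace

/-- A basic open `X_a` is affine once `a` is a combination of finitely many `a_j` with `X_{a_j}`
affine. -/
theorem isAffineOpen_basicOpen_of_sum {X : Scheme.{u}} {n : ℕ} (a : Fin n → Γ(X, ⊤))
    (ha : ∀ j, IsAffineOpen (X.basicOpen (a j))) (r : Fin n → Γ(X, ⊤)) :
    IsAffineOpen (X.basicOpen (∑ j, r j * a j)) := by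
  set s := ∑ j, r j * a j with hs
  set U := X.basicOpen s with hU
  let ρ := (X.presheaf.map (homOfLE (le_top : U ≤ ⊤)).op).hom
  refine isAffineOpen_of_isAffineOpen_basicOpen U (Set.range fun j => ρ (a j)) ?_ ?_
  · rw [Ideal.eq_top_iff_one]
    have hu : IsUnit (ρ s) := RingedSpace.isUnit_res_basicOpen _ s
    have hmem : ρ s ∈ Ideal.span (Set.range fun j => ρ (a j)) := by
      rw [hs, map_sum]
      refine Submodule.sum_mem _ fun j _ => ?_
      rw [map_mul]
      exact Ideal.mul_mem_left _ _ (Ideal.subset_span ⟨j, rfl⟩)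
    exact (Ideal.eq_top_of_isUnit_mem _ hmem hu) ▸ Submodule.mem_top
  · rintro _ ⟨j, rfl⟩
    have h1 : X.basicOpen (ρ (a j)) = U ⊓ X.basicOpen (a j) := Scheme.basicOpen_res _ _ _
    rw [h1, inf_comm, hU, ← Scheme.basicOpen_res X s (homOfLE (le_top : X.basicOpen (a j) ≤ ⊤)).op]
    exact (ha j).basicOpen _


theorem result (B : Type u) [CommRing B] [TopologicalSpace B]
    [IsTopologicalRing B] (hB : IsOpen {b : B | IsUnit b})
    (B₀ : Type u) [CommRing B₀] (φ : B₀ →+* B) (hφ : DenseRange φ)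
    (X : Scheme.{u}) [X.IsQuasiAffine] (p : X ⟶ Spec (CommRingCat.of B₀))
    (f : Spec (CommRingCat.of B) ⟶ X) (hf : f ≫ p = Spec.map (CommRingCat.ofHom φ)) :
    ∃ U : X.Opens, IsAffineOpen U ∧ Set.range f.base ⊆ (U : Set X) := by
  -- the ring maps
  let ψ : Γ(X, ⊤) →+* B := (Scheme.ΓSpecIso (CommRingCat.of B)).hom.hom.comp f.appTop.hom
  let π : B₀ →+* Γ(X, ⊤) := p.appTop.hom.comp (Scheme.ΓSpecIso (CommRingCat.of B₀)).inv.hom
  have hψπ : ∀ c, ψ (π c) = φ c := by
    intro c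
    have h1 : (f ≫ p).appTop = (Spec.map (CommRingCat.ofHom φ)).appTop := by rw [hf]
    have h2 := congr($h1 ((Scheme.ΓSpecIso (CommRingCat.of B₀)).inv c))
    have h3 := congr($(Scheme.ΓSpecIso_inv_naturality (CommRingCat.ofHom φ)) c)
    simp only [Scheme.Hom.comp_appTop, CommRingCat.comp_apply] at h2 h3
    change (Scheme.ΓSpecIso (CommRingCat.of B)).hom (f.appTop (p.appTop _)) = _
    rw [h2]
    have h4 : (Scheme.Hom.appTop (Spec.map (CommRingCat.ofHom φ)))
        ((Scheme.ΓSpecIso (CommRingCat.of B₀)).inv c) =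
        (Scheme.ΓSpecIso (CommRingCat.of B)).inv (φ c) := h3.symm
    rw [h4]
    exact congr($((Scheme.ΓSpecIso (CommRingCat.of B)).inv_hom_id) (φ c))
  -- key: membership in basic opens
  have hmem : ∀ (a : Γ(X, ⊤)) (y : Spec (CommRingCat.of B)),
      f y ∈ X.basicOpen a ↔ ψ a ∉ y.asIdeal := by
    intro a y
    have h1 : f ⁻¹ᵁ X.basicOpen a = (Spec (CommRingCat.of B)).basicOpen (f.appTop a) :=
      Scheme.preimage_basicOpen_top f a
    have h2 : (Spec (CommRingCat.of B)).basicOpen (f.appTop a) =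
        PrimeSpectrum.basicOpen (ψ a) := basicOpen_eq_of_affine' _
    change y ∈ f ⁻¹ᵁ X.basicOpen a ↔ _
    rw [h1, h2]
    rfl
  -- Step 1: unit ideal
  let S : Set B := {b | ∃ a : Γ(X, ⊤), IsAffineOpen (X.basicOpen a) ∧ ψ a = b}
  have hS : Ideal.span S = ⊤ := by
    by_contra hne
    obtain ⟨m, hm, hle⟩ := Ideal.exists_le_maximal _ hne
    let y : Spec (CommRingCat.of B) := ⟨m, hm.isPrime⟩
    obtain ⟨_, ⟨_, ⟨a, ha, rfl⟩, rfl⟩, hxa, -⟩ :=
      (Scheme.IsQuasiAffine.isBasis_basicOpen X).exists_subset_of_mem_open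
      (Set.mem_univ (f y)) isOpen_univ
    exact (hmem a y).mp hxa (hle (Ideal.subset_span ⟨a, ha, rfl⟩))
  have h1 : (1 : B) ∈ Submodule.span B S := by
    have : (1 : B) ∈ Ideal.span S := hS ▸ Submodule.mem_top
    exact this
  obtain ⟨n, b, g, hsum⟩ := Submodule.mem_span_set'.mp h1
  choose a ha hag using fun i => (g i).2
  -- Step 2: density
  let Φ : (Fin n → B) → B := fun c => ∑ i, c i * ψ (a i)
  have hΦ : Continuous Φ := continuous_finsetSum _ fun i _ =>
    (continuous_apply i).mul continuous_const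
  have hopen : IsOpen (Φ ⁻¹' {b : B | IsUnit b}) := hB.preimage hΦ
  have hb : b ∈ Φ ⁻¹' {b : B | IsUnit b} := by
    change IsUnit (∑ i, b i * ψ (a i))
    have : ∑ i, b i * ψ (a i) = 1 := by
      rw [← hsum]
      refine Finset.sum_congr rfl fun i _ => ?_
      rw [hag i]; rfl
    rw [this]; exact isUnit_one
  have hdense : DenseRange (Pi.map (fun (_ : Fin n) => (φ : B₀ → B))) :=
    DenseRange.piMap fun _ => hφ
  obtain ⟨c, hc⟩ := hdense.exists_mem_open hopen ⟨b, hb⟩
  -- Step 3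
  refine ⟨X.basicOpen (∑ j, π (c j) * a j), isAffineOpen_basicOpen_of_sum a ha _, ?_⟩
  rintro _ ⟨y, rfl⟩
  change f y ∈ X.basicOpen _
  rw [hmem]
  have hu : IsUnit (ψ (∑ j, π (c j) * a j)) := by
    rw [map_sum]
    have : ∀ j, ψ (π (c j) * a j) = φ (c j) * ψ (a j) := fun j => by rw [map_mul, hψπ]
    simp_rw [this]
    exact hc
  intro hy
  exact (y.isPrime.ne_top (Ideal.eq_top_of_isUnit_mem _ hy hu))

end Groth.Agent.S15765
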