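import Groth.Statements.S1707
import Groth.Agent.Lib.Helper29.QCohLoc

set_option autoImplicit false
universe u
open CategoryTheory CategoryTheory.Limits AlgebraicGeometry TopologicalSpace
open SDiv

namespace Groth.Agent.S1707

/-- Let X be a scheme, F a quasi-coherent module and x a point of the support of F such that no other
point of the support specializes to x. Then x is weakly associated to F. -/
theorem result (X : Scheme.{u}) (F : X.Modules) (hF : Coh.IsQCoh F) (x : ↥X)
    (hx : x ∈ CohB1.support F) (hmax : ∀ y : ↥X, y ∈ CohB1.support F → y ⤳ x → y = x) : Curv2.IsWeakAssPoint F x := by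
  have : F.IsQuasicoherent := hF
  obtain ⟨U, hU, hxU, -⟩ := exists_isAffineOpen_mem_and_subset (X := X) (x := x) (U := ⊤) trivial
  have hL := Groth.Agent.Lib.Helper29.QCohLoc.LocAt.of_isQuasicoherent F hU
  have hm : ∃ m : F.presheaf.stalk x, m ≠ 0 := by
    by_contra hcon
    push Not at hcon
    exact hx ⟨fun a b => by rw [hcon a, hcon b]⟩
  obtain ⟨m, hm⟩ := hm
  obtain ⟨a, s, ha, hs⟩ := Groth.Agent.Lib.Helper29.QCohLoc.exists_germ_eq_smul F hU hL x hxU m
  have hu : IsUnit (X.presheaf.germ U x hxU a) := (Scheme.mem_basicOpen X a x hxU).mp ha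
  have hs0 : F.presheaf.germ U x hxU s ≠ 0 := by
    rw [hs]
    intro h0
    exact hm (hu.smul_eq_zero.mp h0)
  rw [Groth.Agent.Lib.Helper29.QCohLoc.isWeakAssPoint_iff F hU hL x hxU]
  refine ⟨s, ⟨⟨inferInstance, ?_⟩, ?_⟩⟩
  · intro b hb
    rw [Groth.Agent.Lib.Helper29.QCohLoc.mem_primeIdealOf_iff]
    intro hxb
    apply hs0
    rw [Groth.Agent.Lib.Helper29.QCohLoc.germ_eq_zero_iff F hU hL x hxU s]
    exact ⟨b, hxb, (Groth.Agent.Lib.Helper29.QCohLoc.mem_ann F s b).mp hb⟩
  · rintro q ⟨hq, hIq⟩ hqp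
    obtain ⟨y, hy, hyq⟩ := Groth.Agent.Lib.Helper29.QCohLoc.exists_point_of_prime hU q
    have hy0 := Groth.Agent.Lib.Helper29.QCohLoc.germ_ne_zero_of_ann_le F hU hL y hy s
      (hyq ▸ hIq)
    have hysupp : y ∈ CohB1.support F := by
      intro hsub
      exact hy0 (Subsingleton.elim _ _)
    have hspec : y ⤳ x := by
      have h1 : hU.primeIdealOf ⟨y, hy⟩ ≤ hU.primeIdealOf ⟨x, hxU⟩ := by
        change (hU.primeIdealOf ⟨y, hy⟩).asIdeal ≤ (hU.primeIdealOf ⟨x, hxU⟩).asIdeal
        rw [hyq]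
        exact hqp
      have h2 := (PrimeSpectrum.le_iff_specializes _ _).mp h1
      have h3 := h2.map hU.fromSpec.base.hom.continuous
      have e1 := hU.fromSpec_primeIdealOf ⟨y, hy⟩
      have e2 := hU.fromSpec_primeIdealOf ⟨x, hxU⟩
      simp only at e1 e2
      rw [← e1, ← e2]
      exact h3
    have hyx := hmax y hysupp hspec
    subst hyx
    rw [← hyq]

end Groth.Agent.S1707
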