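import Mathlib
-- Template for statement S15770 (row 15769; see the milestone table for weights).
-- Copy to Groth/Agent/S15770.lean and replace the sorry. The statement below is byte-identical to the frozen
-- statement CAlg.GrothFrozen.S15770 (Groth/Statements/S15770.lean; the theorem CAlg.isOpen_setOf_surjective_linearMap_of_isOpen_units);
-- the grader kernel-checks Groth.Agent.S15770.result against that frozen type. Keep the theorem IN THIS FILE
-- (a `result` declared elsewhere and merely imported here is not credited); helpers may live anywhere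
-- under Groth/Agent/.
import Groth.Statements.S15770


set_option autoImplicit false
universe u
open CAlg

namespace Groth.Agent.S15770

/-- Let B be a topological ring with Bˣ ⊂ B open and M, M' finitely generated projective B-modules, and
endow Hom_B(M, M') with the module topology (the canonical topology of a finite module). Then the
set of surjective B-linear maps M → M' is open. -/
theorem result (B : Type u) [CommRing B] [TopologicalSpace B]
    [IsTopologicalRing B] (hB : IsOpen {b : B | IsUnit b})
    (M M' : Type u) [AddCommGroup M] [Module B M] [Module.Finite B M] [Module.Projective B M]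
    [AddCommGroup M'] [Module B M'] [Module.Finite B M'] [Module.Projective B M']
    [TopologicalSpace (M →ₗ[B] M')] [IsModuleTopology B (M →ₗ[B] M')] :
    IsOpen {f : M →ₗ[B] M' | Function.Surjective f} := by
  classical
  -- present `M'` as a retract of `B^n`
  obtain ⟨n, π, hπ⟩ := Module.Finite.exists_fin' B M'
  obtain ⟨ι, hι⟩ := Module.projective_lifting_property π (LinearMap.id : M' →ₗ[B] M') hπ
  have hπι : ∀ y, π (ι y) = y := fun y => LinearMap.congr_fun hι y
  -- the linear map `f ↦ matrix of ι ∘ f ∘ g ∘ π`
  let Λ : (M' →ₗ[B] M) → ((M →ₗ[B] M') →ₗ[B] Matrix (Fin n) (Fin n) B) := fun g =>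
    { toFun := fun f => LinearMap.toMatrix' (ι ∘ₗ f ∘ₗ g ∘ₗ π)
      map_add' := fun f₁ f₂ => by
        rw [← map_add]
        congr 1
        ext x
        simp
      map_smul' := fun c f => by
        rw [RingHom.id_apply, ← map_smul]
        congr 1
        ext x
        simp }
  let C : Matrix (Fin n) (Fin n) B := LinearMap.toMatrix' (LinearMap.id - ι ∘ₗ π)
  have hT : ∀ g f, Λ g f + C = LinearMap.toMatrix' (ι ∘ₗ f ∘ₗ g ∘ₗ π + (LinearMap.id - ι ∘ₗ π)) := by
    intro g f
    rw [map_add]
    rfl
  have hset : {f : M →ₗ[B] M' | Function.Surjective f} =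
      ⋃ g : M' →ₗ[B] M, (fun f => (Λ g f + C).det) ⁻¹' {b : B | IsUnit b} := by
    ext f
    simp only [Set.mem_ofPred_eq, Set.mem_iUnion, Set.mem_preimage]
    constructor
    · intro hf
      obtain ⟨g, hg⟩ := Module.projective_lifting_property f (LinearMap.id : M' →ₗ[B] M') hf
      refine ⟨g, ?_⟩
      rw [hT]
      have h1 : f ∘ₗ g ∘ₗ π = π := by rw [← LinearMap.comp_assoc, hg, LinearMap.id_comp]
      have : ι ∘ₗ f ∘ₗ g ∘ₗ π + (LinearMap.id - ι ∘ₗ π) = LinearMap.id := by
        rw [h1, add_sub_cancel]
      rw [this, LinearMap.toMatrix'_id, Matrix.det_one]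
      exact isUnit_one
    · rintro ⟨g, hg⟩
      rw [hT] at hg
      set Φ : (Fin n → B) →ₗ[B] (Fin n → B) := ι ∘ₗ f ∘ₗ g ∘ₗ π + (LinearMap.id - ι ∘ₗ π) with hΦ
      have hdet : IsUnit (LinearMap.det Φ) := by
        rw [← LinearMap.det_toMatrix']
        exact hg
      have hsurj : Function.Surjective Φ :=
        ((Module.End.isUnit_iff _).mp ((LinearMap.isUnit_iff_isUnit_det Φ).mpr hdet)).2
      intro y
      obtain ⟨x, hx⟩ := hsurj (ι y)
      refine ⟨g (π x), ?_⟩
      have := congrArg π hx
      simp only [hΦ, LinearMap.add_apply, LinearMap.comp_apply, LinearMap.sub_apply,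
        LinearMap.id_apply, map_add, map_sub, hπι] at this
      rw [← this]
      abel
  rw [hset]
  refine isOpen_iUnion fun g => ?_
  refine hB.preimage ?_
  refine Continuous.matrix_det ?_
  exact (IsModuleTopology.continuous_of_linearMap (Λ g)).add continuous_const

end Groth.Agent.S15770
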