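import Groth.Statements.S15771
import Mathlib.LinearAlgebra.TensorProduct.Tower
import Mathlib.LinearAlgebra.Finsupp.LinearCombination
import Mathlib.Topology.NhdsWithin
import Mathlib.Topology.Algebra.Monoid
import Mathlib.RingTheory.Finiteness.Basic
-- import your own Groth.Agent.* helpers here

set_option autoImplicit false
universe u
open TensorProduct
open CAlg

namespace Groth.Agent.S15771

/-- For a ring map B₀ → B with dense image into a topological ring B, a finitely generated B₀-module M₀
and any topological B-module structure on M = B ⊗_{B₀} M₀, the natural map M₀ → M has dense image. -/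
theorem result (B₀ B : Type u) [CommRing B₀] [CommRing B] [Algebra B₀ B]
    [TopologicalSpace B] [IsTopologicalRing B] (hφ : DenseRange (algebraMap B₀ B))
    (M₀ : Type u) [AddCommGroup M₀] [Module B₀ M₀] [Module.Finite B₀ M₀]
    [TopologicalSpace (B ⊗[B₀] M₀)] [IsTopologicalAddGroup (B ⊗[B₀] M₀)] [ContinuousSMul B (B ⊗[B₀] M₀)] :
    DenseRange (fun m : M₀ => (1 : B) ⊗ₜ[B₀] m) := by
  obtain ⟨r, s, hs⟩ := Module.Finite.exists_fin (R := B₀) (M := M₀)
  let v : Fin r → B ⊗[B₀] M₀ := fun i => (1 : B) ⊗ₜ[B₀] s i
  let ψ : (Fin r → B) → B ⊗[B₀] M₀ := fun b => ∑ i, b i • v i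
  have hψc : Continuous ψ := by
    refine continuous_finsetSum _ fun i _ => ?_
    exact Continuous.smul (continuous_apply i : Continuous fun b : Fin r → B => b i)
      (continuous_const : Continuous fun _ : Fin r → B => v i)
  have hvspan : Submodule.span B (Set.range v) = ⊤ := by
    have h1 := Submodule.baseChange_span (R := B₀) (M := M₀) B (Set.range s)
    rw [hs, Submodule.baseChange_top] at h1
    rw [h1]
    congr 1
    ext x
    simp [v]
  have hψs : Function.Surjective ψ := by
    have := (span_range_eq_top_iff_surjective_fintypeLinearCombination (R := B) (v := v)).1 hvspan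
    intro y
    obtain ⟨b, hb⟩ := this y
    exact ⟨b, by rw [← hb, Fintype.linearCombination_apply]⟩
  have hd : DenseRange (Pi.map (fun _ : Fin r => algebraMap B₀ B)) :=
    DenseRange.piMap fun _ => hφ
  have hcomp : DenseRange (ψ ∘ Pi.map (fun _ : Fin r => algebraMap B₀ B)) :=
    hψs.denseRange.comp hd hψc
  refine hcomp.mono ?_
  rintro _ ⟨c, rfl⟩
  refine ⟨∑ i, c i • s i, ?_⟩
  simp only [Function.comp_apply, ψ, v, Pi.map_apply, TensorProduct.tmul_sum]
  refine Finset.sum_congr rfl fun i _ => ?_
  rw [TensorProduct.tmul_smul, algebraMap_smul]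

end Groth.Agent.S15771
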