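import Groth.Statements.S1578
import Groth.Agent.Lib.Helper29.QCohTilde
import Mathlib.RingTheory.Ideal.MinimalPrime.Localization
import Mathlib.RingTheory.Localization.AtPrime.Basic

set_option autoImplicit false
universe u
open CategoryTheory CategoryTheory.Limits AlgebraicGeometry
open Divisors

namespace Groth.Agent.S1578

section aux

theorem exists_radical_eq_of_fg {A : Type*} [CommRing A] {M : Type*} [AddCommGroup M] [Module A M]
    (m : M) (p : Ideal A) (hfg : p.FG)
    (hp : p ∈ Ideal.minimalPrimes (LinearMap.ker (LinearMap.toSpanSingleton A M m))) :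
    ∃ m' : M, p = Ideal.radical (LinearMap.ker (LinearMap.toSpanSingleton A M m')) := by
  classical
  set I : Ideal A := LinearMap.ker (LinearMap.toSpanSingleton A M m) with hIdef
  have hI : ∀ a, a ∈ I ↔ a • m = 0 := fun a => by
    rw [hIdef, LinearMap.mem_ker, LinearMap.toSpanSingleton_apply]
  have hpp : p.IsPrime := hp.1.1
  have hIp : I ≤ p := hp.1.2
  have key : ∀ t ∈ p, ∃ c, c ∉ p ∧ ∃ n : ℕ, c * t ^ n ∈ I := by
    intro t ht
    have hrad := IsLocalization.AtPrime.radical_map_of_mem_minimalPrimes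
      (A := Localization.AtPrime p) p I hp
    have h1 : algebraMap A (Localization.AtPrime p) t ∈
        (I.map (algebraMap A (Localization.AtPrime p))).radical := by
      rw [hrad]; exact Ideal.mem_map_of_mem _ ht
    obtain ⟨n, hn⟩ := h1
    rw [← map_pow, IsLocalization.algebraMap_mem_map_algebraMap_iff p.primeCompl] at hn
    obtain ⟨c, hc, hcn⟩ := hn
    exact ⟨c, hc, n, hcn⟩
  obtain ⟨T, hT⟩ := hfg
  choose! cf hcf1 hcf2 using key
  have hTp : ∀ t ∈ T, t ∈ p := fun t ht => hT ▸ Ideal.subset_span ht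
  let c : A := ∏ t ∈ T, cf t
  have hc : c ∉ p := by
    intro hcp
    obtain ⟨t, ht, htp⟩ := (hpp.prod_mem_iff).mp hcp
    exact hcf1 t (hTp t ht) htp
  refine ⟨c • m, ?_⟩
  have hI' : ∀ a, a ∈ LinearMap.ker (LinearMap.toSpanSingleton A M (c • m)) ↔ a * c ∈ I := by
    intro a
    rw [LinearMap.mem_ker, LinearMap.toSpanSingleton_apply, hI, mul_smul]
  apply le_antisymm
  · rw [← hT, Ideal.span_le]
    intro t ht
    obtain ⟨n, hn⟩ := hcf2 t (hTp t ht)
    refine ⟨n, ?_⟩
    rw [hI']
    have hdvd : cf t ∣ c := Finset.dvd_prod_of_mem cf ht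
    obtain ⟨d, hd⟩ := hdvd
    have : t ^ n * c = d * (cf t * t ^ n) := by rw [hd]; ring
    rw [this]
    exact I.mul_mem_left d hn
  · intro a ha
    obtain ⟨k, hk⟩ := ha
    rw [hI'] at hk
    have h2 := hIp hk
    rcases hpp.mem_or_mem h2 with h3 | h3
    · exact hpp.mem_of_pow_mem k h3
    · exact absurd h3 hc

end aux

/-- Let M be a module over a ring A, F the associated quasi-coherent module on Spec A, and p a prime of
A. If p is an associated prime of M then p is an associated point of F; the converse holds when p is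
finitely generated. -/
theorem result (A : CommRingCat.{u}) (M : ModuleCat.{u} A)
    (p : Spec A) :
    (p.asIdeal ∈ associatedPrimes A M → Curv2.IsAssPoint (tilde M) p) ∧
    (p.asIdeal.FG → Curv2.IsAssPoint (tilde M) p → p.asIdeal ∈ associatedPrimes A M) := by
  have hcolon : ∀ m : M, (⊥ : Submodule A M).colon {m} =
      LinearMap.ker (LinearMap.toSpanSingleton A M m) := by
    intro m
    ext r
    rw [Submodule.mem_colon_singleton, Submodule.mem_bot, LinearMap.mem_ker,
      LinearMap.toSpanSingleton_apply]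
  constructor
  · rintro ⟨hprime, m, hm⟩
    rw [Groth.Agent.Lib.Helper29.QCohLoc.isAssPoint_iff_isWeakAssPoint,
      Groth.Agent.Lib.Helper29.QCohLoc.isWeakAssPoint_tilde_iff]
    refine ⟨m, ?_⟩
    rw [← hcolon, ← Ideal.radical_minimalPrimes, ← hm, Ideal.minimalPrimes_eq_subsingleton_self]
    rfl
  · intro hfg hass
    rw [Groth.Agent.Lib.Helper29.QCohLoc.isAssPoint_iff_isWeakAssPoint,
      Groth.Agent.Lib.Helper29.QCohLoc.isWeakAssPoint_tilde_iff] at hass
    obtain ⟨m, hm⟩ := hass
    obtain ⟨m', hm'⟩ := exists_radical_eq_of_fg m p.asIdeal hfg hm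
    exact ⟨p.isPrime, m', by rw [hcolon]; exact hm'⟩

end Groth.Agent.S1578
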