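import Groth.Statements.S15784
-- import your own Groth.Agent.* helpers here

set_option autoImplicit false
universe u
open Neron

set_option linter.unusedSectionVars false

namespace Groth.Agent.S15784Aux

variable {O : Type u} [CommRing O] [IsDomain O] [IsDiscreteValuationRing O]
  {L : Type u} [Field L] [Algebra O L] [IsFractionRing O L]

theorem map_units_zpow (x : Oˣ) (z : ℤ) :
    algebraMap O L ((x ^ z : Oˣ) : O) = (algebraMap O L x) ^ z := by
  obtain ⟨k, rfl | rfl⟩ := Int.eq_nat_or_neg z
  · rw [zpow_natCast, zpow_natCast, Units.val_pow_eq_pow_val, map_pow]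
  · rw [zpow_neg, zpow_neg, zpow_natCast, zpow_natCast]
    apply eq_inv_of_mul_eq_one_left
    rw [← map_pow, ← Units.val_pow_eq_pow_val, ← map_mul, ← Units.val_mul, inv_mul_cancel,
      Units.val_one, map_one]

theorem unif_zpow_eq_unit (ϖ' : O) (hϖ' : Irreducible ϖ') (z : ℤ) (v : Oˣ)
    (h : (algebraMap O L ϖ') ^ z = algebraMap O L v) : z = 0 := by
  have hinj : Function.Injective (algebraMap O L) := IsFractionRing.injective O L
  have key : ∀ (k : ℕ) (v : Oˣ), (algebraMap O L ϖ') ^ k = algebraMap O L v → k = 0 := by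
    intro k v hk
    by_contra hk0
    rw [← map_pow] at hk
    have := hinj hk
    have hdvd : ϖ' ∣ (v : O) := by
      rw [← this]; exact dvd_pow_self _ hk0
    exact hϖ'.not_isUnit (isUnit_of_dvd_unit hdvd v.isUnit)
  obtain ⟨k, rfl | rfl⟩ := Int.eq_nat_or_neg z
  · rw [zpow_natCast] at h
    rw [key k v h]; rfl
  · rw [zpow_neg, zpow_natCast] at h
    have h2 : (algebraMap O L ϖ') ^ k = algebraMap O L ((v⁻¹ : Oˣ) : O) := by
      have h3 : algebraMap O L ((v⁻¹ : Oˣ) : O) * algebraMap O L (v : O) = 1 := by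
        rw [← map_mul, ← Units.val_mul, inv_mul_cancel, Units.val_one, map_one]
      rw [← h] at h3
      have hne : (algebraMap O L ϖ') ^ k ≠ 0 := by
        intro h0; rw [h0, inv_zero, mul_zero] at h3; exact zero_ne_one h3
      field_simp at h3
      exact h3.symm
    rw [key k _ h2]; rfl

end Groth.Agent.S15784Aux

namespace Groth.Agent.S15784

/-- Let O be a discrete valuation ring with fraction field L and uniformizer ϖ', let ϖ be an element of
the maximal ideal of O, let q = u·ϖ'^n with u a unit of O and n ≥ 1, and let m ≥ 1 be a divisor of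
n. Then the following are equivalent: (i) there is a nonzero element z = w·ϖ'^a of L, with w a unit
of O and a an integer congruent to n/m modulo n, and an integer j such that z^m·q^j lies in 1 + ϖO;
(ii) ϖ'^n/q is an m-th power in the group of units of O/ϖO, that is, u·(y^m + ϖ·r) = 1 for some y, r
∈ O. (The published statement phrases (i) geometrically, as the existence of a point of order m in
the special fibre of the Néron model of the Weil restriction of the Tate curve with parameter q from
L down to a subfield over which L is totally ramified with ϖ a uniformizer of the subfield, whose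
image in the component group also has order m; this row states the equivalence between (i) and (ii)
that the printed argument establishes.) -/
theorem result
    (O : Type u) [CommRing O] [IsDomain O] [IsDiscreteValuationRing O]
    (L : Type u) [Field L] [Algebra O L] [IsFractionRing O L]
    (ϖ' : O) (hϖ' : Irreducible ϖ') (ϖ : O) (hϖ : ϖ ∈ IsLocalRing.maximalIdeal O)
    (n : ℕ) (hn : 1 ≤ n) (u : Oˣ) (q : O) (hq : q = u * ϖ' ^ n)
    (m : ℕ) (hm : 1 ≤ m) (hmn : m ∣ n) :
    (∃ (w : Oˣ) (a j t : ℤ) (r : O), a = (n / m : ℕ) + t * n ∧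
        (algebraMap O L w * algebraMap O L ϖ' ^ a) ^ m * algebraMap O L q ^ j = algebraMap O L (1 + ϖ * r)) ↔
      ∃ y r : O, (u : O) * (y ^ m + ϖ * r) = 1 := by
  have hinj : Function.Injective (algebraMap O L) := IsFractionRing.injective O L
  have hπ : algebraMap O L ϖ' ≠ 0 := by
    intro h
    exact hϖ'.ne_zero (hinj (h.trans (map_zero _).symm))
  have hunit1 : ∀ r : O, IsUnit (1 + ϖ * r) := by
    intro r
    have hm' : ϖ * r ∈ IsLocalRing.maximalIdeal O := Ideal.mul_mem_right _ _ hϖ
    have := IsLocalRing.isUnit_one_sub_self_of_mem_nonunits (-(ϖ * r))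
      (by rw [← IsLocalRing.mem_maximalIdeal]; exact neg_mem hm')
    rwa [sub_neg_eq_add] at this
  have hnm : ((n / m : ℕ) : ℤ) * m = n := by
    exact_mod_cast Nat.div_mul_cancel hmn
  have hL : ∀ (w : Oˣ) (a j : ℤ),
      (algebraMap O L w * algebraMap O L ϖ' ^ a) ^ m * algebraMap O L q ^ j =
        algebraMap O L ((w ^ m * u ^ j : Oˣ) : O) * (algebraMap O L ϖ') ^ (a * m + n * j) := by
    intro w a j
    rw [hq, map_mul, map_pow, mul_pow, mul_zpow, zpow_add₀ hπ, zpow_mul, zpow_mul, zpow_natCast,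
      zpow_natCast, Units.val_mul, map_mul, S15784Aux.map_units_zpow, Units.val_pow_eq_pow_val,
      map_pow]
    ring
  constructor
  · rintro ⟨w, a, j, t, r, ha, heq⟩
    obtain ⟨v, hv⟩ := hunit1 r
    rw [hL, ← hv] at heq
    -- the valuation
    have hval : a * m + n * j = 0 := by
      apply S15784Aux.unif_zpow_eq_unit (L := L) ϖ' hϖ' _ (v * (w ^ m * u ^ j)⁻¹)
      have h1 : algebraMap O L ((w ^ m * u ^ j : Oˣ) : O) ≠ 0 := by
        intro h0
        exact (w ^ m * u ^ j : Oˣ).ne_zero (hinj (h0.trans (map_zero _).symm))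
      have h2 : algebraMap O L ((v * (w ^ m * u ^ j)⁻¹ : Oˣ) : O) *
          algebraMap O L ((w ^ m * u ^ j : Oˣ) : O) = algebraMap O L (v : O) := by
        rw [← map_mul, ← Units.val_mul, inv_mul_cancel_right]
      rw [← heq] at h2
      have := mul_left_cancel₀ h1 (by rw [mul_comm] at h2; exact h2 :
        algebraMap O L ((w ^ m * u ^ j : Oˣ) : O) * algebraMap O L ((v * (w ^ m * u ^ j)⁻¹ : Oˣ) : O) =
        algebraMap O L ((w ^ m * u ^ j : Oˣ) : O) * (algebraMap O L ϖ') ^ (a * m + n * j))
      exact this.symm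
    rw [hval, zpow_zero, mul_one] at heq
    have hunits : w ^ m * u ^ j = v := Units.ext (hinj heq)
    have hj : j = -1 - t * m := by
      have h3 : (n : ℤ) * (1 + t * m + j) = 0 := by
        rw [ha] at hval
        have : ((n / m : ℕ) + t * n) * (m : ℤ) + n * j = (n : ℤ) * (1 + t * m + j) := by
          rw [add_mul, hnm]; ring
        rw [← this]; exact hval
      have hn0 : (n : ℤ) ≠ 0 := by exact_mod_cast (by omega : n ≠ 0)
      rcases mul_eq_zero.mp h3 with h | h
      · exact absurd h hn0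
      · linarith
    -- y = (w u^{-t})⁻¹
    refine ⟨(((w * u ^ (-t))⁻¹ : Oˣ) : O), r * (((w * u ^ (-t))⁻¹ : Oˣ) : O) ^ m, ?_⟩
    have h4 : (w * u ^ (-t)) ^ m = v * u := by
      rw [mul_pow, ← hunits, hj, ← zpow_natCast (u ^ (-t)) m, ← zpow_mul]
      have : u = u ^ (1 : ℤ) := (zpow_one u).symm
      conv_rhs => rw [mul_assoc]; rhs; rhs; rw [this]
      rw [← zpow_add]
      congr 2
      ring
    have h5 : (u : O) * (v : O) * ((((w * u ^ (-t))⁻¹ : Oˣ) : O)) ^ m = 1 := by
      rw [← Units.val_pow_eq_pow_val, ← Units.val_mul, ← Units.val_mul, inv_pow, h4, mul_comm u v,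
        mul_inv_cancel, Units.val_one]
    rw [hv] at h5
    linear_combination h5
  · rintro ⟨y, r, hy⟩
    obtain ⟨c', hc'⟩ := hunit1 (-(u * r))
    have huy : (u : O) * y ^ m = c' := by
      rw [hc']; linear_combination hy
    have hyunit : IsUnit y := by
      have h1 : IsUnit (y ^ m) := by
        have : y ^ m = ((u⁻¹ * c' : Oˣ) : O) := by
          rw [Units.val_mul, ← huy, ← mul_assoc, Units.inv_mul, one_mul]
        rw [this]; exact Units.isUnit _
      exact (isUnit_pow_iff (by omega)).mp h1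
    obtain ⟨y', rfl⟩ := hyunit
    have huy' : u * y' ^ m = c' := Units.ext (by rw [Units.val_mul, Units.val_pow_eq_pow_val]; exact huy)
    refine ⟨y'⁻¹, ((n / m : ℕ) : ℤ), -1, 0, u * r * ((c'⁻¹ : Oˣ) : O), by ring, ?_⟩
    rw [hL]
    have hexp : ((n / m : ℕ) : ℤ) * m + n * (-1) = 0 := by rw [hnm]; ring
    rw [hexp, zpow_zero, mul_one]
    congr 1
    have h1 : (y'⁻¹ ^ m * u ^ (-1 : ℤ) : Oˣ) = c'⁻¹ := by
      rw [← huy', zpow_neg_one, mul_inv, inv_pow, mul_comm]
    rw [h1]
    have h2 : (c' : O) * (1 + ϖ * (u * r * ((c'⁻¹ : Oˣ) : O))) = 1 := by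
      have h3 : (c' : O) * ((c'⁻¹ : Oˣ) : O) = 1 := by rw [← Units.val_mul, mul_inv_cancel, Units.val_one]
      have h4 : (c' : O) = 1 + ϖ * -(u * r) := hc'
      linear_combination (ϖ * u * r) * h3 + h4
    have h3 : ((c'⁻¹ : Oˣ) : O) * (c' : O) = 1 := by rw [← Units.val_mul, inv_mul_cancel, Units.val_one]
    calc ((c'⁻¹ : Oˣ) : O) = ((c'⁻¹ : Oˣ) : O) * ((c' : O) * (1 + ϖ * (u * r * ((c'⁻¹ : Oˣ) : O)))) := by
          rw [h2, mul_one]
      _ = 1 + ϖ * (u * r * ((c'⁻¹ : Oˣ) : O)) := by rw [← mul_assoc, h3, one_mul]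

end Groth.Agent.S15784
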