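import Groth.Statements.S15787
import Groth.Agent.Lib.Helper52.ASBasic

set_option autoImplicit false
universe u
open WildQuot

namespace Groth.Agent.S15787

open MvPolynomial in
/-- Let `k` be a field of characteristic `p > 0`, `n ≥ 2`, `R = k[[x_1, …, x_n]]`, and `a_1, …, a_n ∈ R`
power series with zero constant term. Let `A = R[u_1, …, u_n] / (u_i ^ p - a_i ^ (p-1) u_i - x_i : i
= 1..n)`. Then `A` is a regular local ring and its maximal ideal is generated by the classes of
`u_1, …, u_n`. (The published statement also assumes each `a_i` nonzero; that is not needed for this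
part.) -/
theorem result
    (p : ℕ) [Fact p.Prime] (k : Type u) [Field k] [CharP k p] (n : ℕ) (hn : 2 ≤ n)
    (a : Fin n → MvPowerSeries (Fin n) k)
    (ham : ∀ i, MvPowerSeries.constantCoeff (a i) = 0) :
    let I : Ideal (MvPolynomial (Fin n) (MvPowerSeries (Fin n) k)) :=
      Ideal.span (Set.range fun i : Fin n =>
        X i ^ p - C (a i ^ (p - 1)) * X i - C (MvPowerSeries.X i))
    IsRegularLocalRing (MvPolynomial (Fin n) (MvPowerSeries (Fin n) k) ⧸ I) ∧
      (Ideal.map (Ideal.Quotient.mk I)
        (Ideal.span (Set.range (X : Fin n → MvPolynomial (Fin n) (MvPowerSeries (Fin n) k))))).IsMaximal := by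
  intro I
  have hp : 2 ≤ p := (Fact.out : p.Prime).two_le
  have hc : ∀ i, MvPowerSeries.constantCoeff (a i ^ (p - 1)) = 0 := by
    intro i
    rw [map_pow, ham i]
    exact zero_pow (by omega)
  have hI : I = Groth.Agent.Lib.Helper52.MonicCI.relIdeal
      (Groth.Agent.Lib.Helper52.AS.poly p (fun i => a i ^ (p - 1))) :=
    (Groth.Agent.Lib.Helper52.AS.relIdeal_eq p _).symm
  clear_value I
  subst hI
  refine ⟨Groth.Agent.Lib.Helper52.AS.isRegularLocalRing p _ hp hc, ?_⟩
  rw [← Groth.Agent.Lib.Helper52.AS.genIdeal_eq_map]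
  exact Groth.Agent.Lib.Helper52.AS.genIdeal_isMaximal p _ hp

end Groth.Agent.S15787
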