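import Groth.Statements.S15791
import Mathlib.RingTheory.Ideal.Quotient.Operations
import Mathlib.Data.Fin.Tuple.Basic
import Mathlib.RingTheory.SimpleModule.Basic

set_option autoImplicit false
universe u v
open WildQuot

namespace Groth.Agent.S15791


section
variable {A : Type*} [CommRing A]

theorem length_mul_le (I : Ideal A) (a b : A) :
    Module.length A (A ⧸ (I ⊔ Ideal.span {a * b})) ≤
      Module.length A (A ⧸ (I ⊔ Ideal.span {a})) + Module.length A (A ⧸ (I ⊔ Ideal.span {b})) := by
  let M := A ⧸ (I ⊔ Ideal.span {a * b})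
  let f : (A ⧸ (I ⊔ Ideal.span {b})) →ₗ[A] M :=
    Submodule.liftQ (I ⊔ Ideal.span {b})
      ((Submodule.mkQ (I ⊔ Ideal.span {a * b})).comp (LinearMap.lsmul A A a)) (by
        rw [sup_le_iff]
        constructor
        · intro i hi
          rw [LinearMap.mem_ker, LinearMap.comp_apply, Submodule.mkQ_apply,
            Submodule.Quotient.mk_eq_zero]
          exact Ideal.mem_sup_left (I.mul_mem_left a hi)
        · rw [Ideal.span_le, Set.singleton_subset_iff]
          change b ∈ LinearMap.ker _
          rw [LinearMap.mem_ker, LinearMap.comp_apply, Submodule.mkQ_apply,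
            Submodule.Quotient.mk_eq_zero]
          exact Ideal.mem_sup_right (Ideal.mem_span_singleton_self _))
  let N : Submodule A M := LinearMap.range f
  have h1 : Module.length A M = Module.length A N + Module.length A (M ⧸ N) :=
    Module.length_eq_add_of_exact N.subtype N.mkQ N.injective_subtype (Submodule.mkQ_surjective N)
      (LinearMap.exact_subtype_mkQ N)
  have h2 : Module.length A N ≤ Module.length A (A ⧸ (I ⊔ Ideal.span {b})) :=
    Module.length_le_of_surjective f.rangeRestrict f.surjective_rangeRestrict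
  let g : (A ⧸ (I ⊔ Ideal.span {a})) →ₗ[A] (M ⧸ N) :=
    Submodule.liftQ (I ⊔ Ideal.span {a})
      (N.mkQ.comp (Submodule.mkQ (I ⊔ Ideal.span {a * b}))) (by
        rw [sup_le_iff]
        constructor
        · intro i hi
          rw [LinearMap.mem_ker, LinearMap.comp_apply]
          have : (Submodule.mkQ (I ⊔ Ideal.span {a * b})) i = 0 := by
            rw [Submodule.mkQ_apply, Submodule.Quotient.mk_eq_zero]
            exact Ideal.mem_sup_left hi
          rw [this, map_zero]
        · rw [Ideal.span_le, Set.singleton_subset_iff]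
          change a ∈ LinearMap.ker _
          rw [LinearMap.mem_ker, LinearMap.comp_apply, Submodule.mkQ_apply, Submodule.mkQ_apply,
            Submodule.Quotient.mk_eq_zero]
          refine ⟨Submodule.Quotient.mk 1, ?_⟩
          change (Submodule.mkQ (I ⊔ Ideal.span {a * b})) (a • (1 : A)) = _
          rw [smul_eq_mul, mul_one]
          rfl)
  have hg : Function.Surjective g := by
    intro y
    obtain ⟨m, rfl⟩ := Submodule.mkQ_surjective N y
    obtain ⟨r, rfl⟩ := Submodule.mkQ_surjective (I ⊔ Ideal.span {a * b}) m
    exact ⟨Submodule.Quotient.mk r, rfl⟩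
  have h3 : Module.length A (M ⧸ N) ≤ Module.length A (A ⧸ (I ⊔ Ideal.span {a})) :=
    Module.length_le_of_surjective g hg
  calc Module.length A M = Module.length A N + Module.length A (M ⧸ N) := h1
    _ ≤ Module.length A (A ⧸ (I ⊔ Ideal.span {b})) + Module.length A (A ⧸ (I ⊔ Ideal.span {a})) :=
      add_le_add h2 h3
    _ = _ := add_comm _ _

theorem length_prod_le {ι : Type*} (I : Ideal A) (S : Finset ι) (a : ι → A) :
    Module.length A (A ⧸ (I ⊔ Ideal.span {∏ σ ∈ S, a σ})) ≤
      ∑ σ ∈ S, Module.length A (A ⧸ (I ⊔ Ideal.span {a σ})) := by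
  classical
  induction S using Finset.induction_on with
  | empty =>
    rw [Finset.prod_empty, Finset.sum_empty, Ideal.span_singleton_one, sup_top_eq]
    have : Subsingleton (A ⧸ (⊤ : Ideal A)) := Ideal.Quotient.subsingleton_iff.mpr rfl
    rw [Module.length_eq_zero]
  | insert x S hx ih =>
    rw [Finset.prod_insert hx, Finset.sum_insert hx]
    exact (length_mul_le I _ _).trans (add_le_add le_rfl ih)

theorem length_multi_le {G : Type*} [Fintype G] (n : ℕ) :
    ∀ (J : Ideal A) (a : Fin n → G → A),
      Module.length A (A ⧸ (J ⊔ Ideal.span (Set.range fun i => ∏ σ : G, a i σ))) ≤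
        ∑ τ : Fin n → G, Module.length A (A ⧸ (J ⊔ Ideal.span (Set.range fun i => a i (τ i)))) := by
  classical
  induction n with
  | zero =>
    intro J a
    rw [Fintype.sum_unique, Set.range_eq_empty, Set.range_eq_empty]
  | succ n ih =>
    intro J a
    have hsplit : ∀ f : Fin (n + 1) → A, ∀ K : Ideal A,
        K ⊔ Ideal.span (Set.range f) =
          (K ⊔ Ideal.span (Set.range (Fin.tail f))) ⊔ Ideal.span {f 0} := by
      intro f K
      rw [Fin.range_fin_succ, Ideal.span_insert, sup_assoc, sup_comm (Ideal.span {f 0})]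
    have hsplit' : ∀ f : Fin (n + 1) → A, ∀ K : Ideal A,
        K ⊔ Ideal.span (Set.range f) =
          (K ⊔ Ideal.span {f 0}) ⊔ Ideal.span (Set.range (Fin.tail f)) := by
      intro f K
      rw [hsplit, sup_assoc, sup_assoc, sup_comm (Ideal.span {f 0})]
    rw [hsplit']
    refine (ih (J ⊔ Ideal.span {∏ σ : G, a 0 σ}) (Fin.tail a)).trans ?_
    rw [← (Fin.consEquiv (fun _ : Fin (n + 1) => G)).sum_comp, Fintype.sum_prod_type,
      Finset.sum_comm]
    refine Finset.sum_le_sum fun τ' _ => ?_
    have e1 : (J ⊔ Ideal.span {∏ σ : G, a 0 σ}) ⊔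
        Ideal.span (Set.range fun i => Fin.tail a i (τ' i)) =
        (J ⊔ Ideal.span (Set.range fun i => Fin.tail a i (τ' i))) ⊔
          Ideal.span {∏ σ : G, a 0 σ} := by
      rw [sup_assoc, sup_assoc, sup_comm (Ideal.span {∏ σ : G, a 0 σ})]
    rw [e1]
    refine (length_prod_le _ Finset.univ (a 0)).trans ?_
    refine Finset.sum_le_sum fun σ _ => ?_
    rw [hsplit (fun i => a i (Fin.consEquiv (fun _ : Fin (n + 1) => G) (σ, τ') i)) J]
    exact le_of_eq rfl
end

/-- Let `A` be a regular local ring of Krull dimension `n` with maximal ideal `m`, let a finite group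
`G` of order `g` act on `A` by ring automorphisms, and let `u_1, …, u_n` be an admissible regular
system of parameters: for every choice `σ_1, …, σ_n ∈ G`, the elements `σ_1 u_1, …, σ_n u_n`
generate `m`. With `x_i = ∏_{σ ∈ G} σ u_i` the norms, the length of `A / (x_1, …, x_n)` is at most
`g ^ n`. (The published statement is for a complete regular local ring containing a `G`-fixed field
of representatives and asserts that the length equals `g ^ n`; this row states the upper bound for
any regular local ring.) -/
theorem result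
    (A : Type u) [CommRing A] [IsRegularLocalRing A]
    (G : Type v) [Group G] [Fintype G] [MulSemiringAction G A]
    (n : ℕ) (hn : ringKrullDim A = n) (u : Fin n → A)
    (hu : ∀ τ : Fin n → G,
      Ideal.span (Set.range fun i => τ i • u i) = IsLocalRing.maximalIdeal A) :
    Module.length A (A ⧸ Ideal.span (Set.range fun i => ∏ σ : G, σ • u i)) ≤
      (Fintype.card G ^ n : ℕ) := by
  classical
  have h := length_multi_le (A := A) (G := G) n ⊥ (fun i σ => σ • u i)
  have e : ∀ K : Ideal A, Module.length A (A ⧸ (⊥ ⊔ K)) = Module.length A (A ⧸ K) :=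
    fun K => by rw [bot_sup_eq]
  simp only [e] at h
  refine h.trans ?_
  have h1 : ∀ τ : Fin n → G,
      Module.length A (A ⧸ Ideal.span (Set.range fun i => τ i • u i)) = 1 := by
    intro τ
    rw [hu τ, Module.length_eq_one_iff]
    exact isSimpleModule_iff_quot_maximal.mpr
      ⟨IsLocalRing.maximalIdeal A, inferInstance, ⟨LinearEquiv.refl A _⟩⟩
  rw [Finset.sum_congr rfl fun τ _ => h1 τ]
  simp

end Groth.Agent.S15791
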