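import Groth.Statements.S15792
import Groth.Agent.Lib.Helper84.WildFlag

set_option autoImplicit false
universe u v
open WildQuot

namespace Groth.Agent.S15792

/-- Let `A` be a regular local ring of Krull dimension `n` and prime characteristic `p`, and let a
finite `p`-group `G` act on `A` by ring automorphisms inducing the identity on the residue field.
Then there is an admissible regular system of parameters: `u_1, …, u_n ∈ A` such that for every
choice `σ_1, …, σ_n ∈ G` the elements `σ_1 u_1, …, σ_n u_n` generate the maximal ideal. (The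
published statement is for a complete regular local ring containing a field of representatives fixed
by `G`; this row drops completeness and asks only that `G` act trivially on the residue field.) -/
theorem result
    (p : ℕ) [Fact p.Prime] (A : Type u) [CommRing A] [IsRegularLocalRing A] [CharP A p]
    (G : Type v) [Group G] [Finite G] [MulSemiringAction G A] (hG : IsPGroup p G)
    (hres : ∀ (σ : G) (a : A), σ • a - a ∈ IsLocalRing.maximalIdeal A)
    (n : ℕ) (hn : ringKrullDim A = n) :
    ∃ u : Fin n → A, ∀ τ : Fin n → G,
      Ideal.span (Set.range fun i => τ i • u i) = IsLocalRing.maximalIdeal A := by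
  classical
  open Groth.Agent.Lib.Helper84.WildFlag IsLocalRing in
  obtain ⟨w, hw⟩ := exists_seq (A := A) (G := G) p hG n hn
  have hfr : Module.finrank (ResidueField A) (CotangentSpace A) = n := by
    rw [← IsLocalRing.spanFinrank_maximalIdeal_eq_finrank_cotangentSpace]
    have h1 := IsRegularLocalRing.spanFinrank_maximalIdeal (R := A)
    rw [hn] at h1
    exact_mod_cast h1
  have hle := le_Iof_of_notMem n hfr w (fun i hi => (hw i hi).1)
  refine ⟨fun i => (w i : A), ?_⟩
  have hrange : Set.range (fun i : Fin n => (w i : A)) = (fun l => (w l : A)) '' {l | l < n} := by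
    ext x
    constructor
    · rintro ⟨i, rfl⟩
      exact ⟨i, i.2, rfl⟩
    · rintro ⟨l, hl, rfl⟩
      exact ⟨⟨l, hl⟩, rfl⟩
  apply Groth.Agent.S15795.result A G hres n hn
  · apply le_antisymm
    · rw [Ideal.span_le]
      rintro _ ⟨i, rfl⟩
      exact (w i).2
    · apply Groth.Agent.S15795.nakayama_le
      rw [hrange]
      exact hle
  · intro σ i
    have h1 := (hw i i.2).2 σ
    have h2 : Iof w i ≤ Ideal.span ((fun i : Fin n => (w i : A)) '' {j | j ≤ i}) ⊔
        maximalIdeal A ^ 2 := by
      refine sup_le_sup_right (Ideal.span_mono ?_) _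
      rintro _ ⟨l, hl, rfl⟩
      have hl' : l < (i : ℕ) := hl
      exact ⟨⟨l, lt_trans hl' i.2⟩, le_of_lt (show (⟨l, lt_trans hl' i.2⟩ : Fin n) < i from hl'), rfl⟩
    have h3 : σ • (w i : A) = (w i : A) + (σ • (w i : A) - (w i : A)) := by ring
    rw [h3]
    refine Ideal.add_mem _ (Ideal.mem_sup_left (Ideal.subset_span ⟨i, (le_refl i : i ≤ i), rfl⟩)) (h2 h1)

end Groth.Agent.S15792
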