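import Groth.Statements.S15796
import Groth.Agent.Lib.Helper83.Krull
-- import your own Groth.Agent.* helpers here

set_option autoImplicit false
universe u v
open WildQuot

namespace Groth.Agent.S15796

/-- Let `A` be a Noetherian local ring of Krull dimension `n` whose maximal ideal `m` is generated by
`u_1, …, u_n`, and let a finite group `G` act on `A` by ring automorphisms. If some `σ ∈ G` maps
some `u_i` into the ideal generated by the `u_j` with `j ≠ i`, then the system `u` is not weakly
admissible: for some choice `σ_1, …, σ_n ∈ G` the radical of `(σ_1 u_1, …, σ_n u_n)` does not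
contain `m`. (The published statement is for a linear action on `k[[u_1, …, u_n]]` whose matrix has
a zero diagonal entry; this row assumes instead that some `σ u_i` lies in the ideal generated by the
other `u_j`.) -/
theorem result
    (A : Type u) [CommRing A] [IsLocalRing A] [IsNoetherianRing A]
    (G : Type v) [Group G] [Finite G] [MulSemiringAction G A]
    (n : ℕ) (hn : ringKrullDim A = n) (u : Fin n → A)
    (hu : Ideal.span (Set.range u) = IsLocalRing.maximalIdeal A)
    (σ : G) (i : Fin n) (hσ : σ • u i ∈ Ideal.span (u '' {j | j ≠ i})) :
    ∃ τ : Fin n → G,
      ¬ IsLocalRing.maximalIdeal A ≤ (Ideal.span (Set.range fun j => τ j • u j)).radical := by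
  classical
  refine ⟨fun j => if j = i then σ else 1, ?_⟩
  intro h
  have hs : (((Finset.univ.erase i).image u : Finset A) : Set A) = u '' {j | j ≠ i} := by
    ext x; simp
  have hJ : Ideal.span (Set.range fun j => (if j = i then σ else 1) • u j) ≤
      Ideal.span (((Finset.univ.erase i).image u : Finset A) : Set A) := by
    rw [Ideal.span_le]
    rintro _ ⟨j, rfl⟩
    by_cases hj : j = i
    · subst hj
      simp only [if_true]
      rw [hs]
      exact hσ
    · simp only [hj, if_false, one_smul]
      apply Ideal.subset_span
      rw [hs]
      exact ⟨j, hj, rfl⟩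
  have hsm : Ideal.span (((Finset.univ.erase i).image u : Finset A) : Set A) ≤
      IsLocalRing.maximalIdeal A := by
    rw [← hu]
    apply Ideal.span_mono
    rw [hs]
    exact Set.image_subset_range _ _
  have h1 := Groth.Agent.Lib.Helper83.card_ge_of_maximalIdeal_le_radical n hn _ hsm
    (h.trans (Ideal.radical_mono hJ))
  have hc : ((Finset.univ.erase i).image u).card ≤ n - 1 := by
    calc ((Finset.univ.erase i).image u).card ≤ (Finset.univ.erase i).card := Finset.card_image_le
      _ = n - 1 := by simp
  have hpos : 0 < n := i.pos
  omega

end Groth.Agent.S15796
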