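import Groth.Statements.S15800
import Groth.Agent.Lib.Helper52.CPLift

set_option autoImplicit false
universe u v w
open WildQuot

namespace Groth.Agent.S15800

/-- Let `A` be a complete regular local ring of Krull dimension at least `2` and prime characteristic
`p`; let `k` be a field with `k → A` mapping onto the residue field, such that `k` has no Galois
extension of degree `p`; let `G` be a group of order `p` acting on `A` by `k`-algebra automorphisms,
ramified precisely at the origin (for every non-maximal prime `P`, the inertia subgroup of `P` (the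
elements of `G` fixing every element modulo `P`) is trivial). Then every `k`-algebra automorphism of
the ring of invariants `A^G` is the restriction of a `k`-algebra automorphism of `A`. (The published
statement also asserts that when `A^G` contains a subring `R` with `A^G` finite over `R` and
`Frac(A^G)/Frac(R)` Galois, then `Frac(A)/Frac(R)` is Galois; this row omits that clause.) -/
theorem result
    (p : ℕ) [Fact p.Prime] (A : Type u) [CommRing A] [IsRegularLocalRing A] [CharP A p]
    [IsAdicComplete (IsLocalRing.maximalIdeal A) A] (hdim : 2 ≤ ringKrullDim A)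
    (k : Type v) [Field k] [Algebra k A]
    (hk : Function.Surjective (IsLocalRing.residue A ∘ algebraMap k A))
    (hkp : ∀ (L : Type v) [Field L] [Algebra k L], IsGalois k L → Module.finrank k L ≠ p)
    (G : Type w) [Group G] [Finite G] [MulSemiringAction G A] (hcard : Nat.card G = p)
    [SMulCommClass G k A]
    (hram : ∀ P : Ideal A, P.IsPrime → P ≠ IsLocalRing.maximalIdeal A → P.inertia G = ⊥)
    (φ : FixedPoints.subalgebra k A G ≃ₐ[k] FixedPoints.subalgebra k A G) :
    ∃ ψ : A ≃ₐ[k] A, ∀ x : FixedPoints.subalgebra k A G, ψ x = φ x := by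
  classical
  haveI : IsDomain A := Groth.Agent.S0558.result A
  -- membership conversions
  have hmemS : ∀ a : A, a ∈ FixedPoints.subalgebra k A G ↔ ∀ σ : G, σ • a = a := fun a => Iff.rfl
  have hmemR : ∀ a : A, a ∈ FixedPoints.subring A G ↔ ∀ σ : G, σ • a = a := fun a => Iff.rfl
  -- the ring automorphism of the subring of invariants
  let toS : FixedPoints.subring A G → FixedPoints.subalgebra k A G :=
    fun b => ⟨(b : A), (hmemS _).mpr ((hmemR _).mp b.2)⟩
  let toR : FixedPoints.subalgebra k A G → FixedPoints.subring A G :=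
    fun b => ⟨(b : A), (hmemR _).mpr ((hmemS _).mp b.2)⟩
  have htoS : ∀ b, toS (toR b) = b := fun b => rfl
  have htoR : ∀ b, toR (toS b) = b := fun b => rfl
  let φ' : FixedPoints.subring A G ≃+* FixedPoints.subring A G :=
    { toFun := fun b => toR (φ (toS b))
      invFun := fun b => toR (φ.symm (toS b))
      left_inv := fun b => by
        show toR (φ.symm (toS (toR (φ (toS b))))) = b
        rw [htoS, AlgEquiv.symm_apply_apply, htoR]
      right_inv := fun b => by
        show toR (φ (toS (toR (φ.symm (toS b))))) = b
        rw [htoS, AlgEquiv.apply_symm_apply, htoR]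
      map_mul' := fun x y => by
        apply Subtype.ext
        show ((φ (toS (x * y)) : FixedPoints.subalgebra k A G) : A) =
          ((φ (toS x) : FixedPoints.subalgebra k A G) : A) *
            ((φ (toS y) : FixedPoints.subalgebra k A G) : A)
        rw [show toS (x * y) = toS x * toS y from rfl, map_mul]
        rfl
      map_add' := fun x y => by
        apply Subtype.ext
        show ((φ (toS (x + y)) : FixedPoints.subalgebra k A G) : A) =
          ((φ (toS x) : FixedPoints.subalgebra k A G) : A) +
            ((φ (toS y) : FixedPoints.subalgebra k A G) : A)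
        rw [show toS (x + y) = toS x + toS y from rfl, map_add]
        rfl }
  have hφ' : ∀ b : FixedPoints.subring A G, ((φ' b : FixedPoints.subring A G) : A) =
      ((φ (toS b) : FixedPoints.subalgebra k A G) : A) := fun b => rfl
  have hφ'symm : ∀ b : FixedPoints.subring A G, ((φ'.symm b : FixedPoints.subring A G) : A) =
      ((φ.symm (toS b) : FixedPoints.subalgebra k A G) : A) := fun b => rfl
  obtain ⟨ψ₀, hψ₀⟩ := Groth.Agent.Lib.Helper52.CPLift.exists_ringHom_extends p A hdim k hk hkp G
    hcard hram φ'
  obtain ⟨ψ₁, hψ₁⟩ := Groth.Agent.Lib.Helper52.CPLift.exists_ringHom_extends p A hdim k hk hkp G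
    hcard hram φ'.symm
  -- the composites fix the invariants
  have h10 : ∀ b : A, (∀ σ : G, σ • b = b) → (ψ₁.comp ψ₀) b = b := by
    intro b hb
    have h1 := hψ₀ ⟨b, hb⟩
    have h2 := hψ₁ (φ' ⟨b, hb⟩)
    show ψ₁ (ψ₀ b) = b
    change ψ₀ b = _ at h1
    rw [h1, h2, RingEquiv.symm_apply_apply]
  have h01 : ∀ b : A, (∀ σ : G, σ • b = b) → (ψ₀.comp ψ₁) b = b := by
    intro b hb
    have h1 := hψ₁ ⟨b, hb⟩
    have h2 := hψ₀ (φ'.symm ⟨b, hb⟩)
    show ψ₀ (ψ₁ b) = b
    change ψ₁ b = _ at h1
    rw [h1, h2, RingEquiv.apply_symm_apply]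
  have hb10 := Groth.Agent.Lib.Helper52.CPLiftA.endo_bijective (G := G) (ψ₁.comp ψ₀) h10
  have hb01 := Groth.Agent.Lib.Helper52.CPLiftA.endo_bijective (G := G) (ψ₀.comp ψ₁) h01
  have hbij : Function.Bijective ψ₀ := by
    constructor
    · have : Function.Injective (ψ₁ ∘ ψ₀) := hb10.1
      exact Function.Injective.of_comp this
    · have : Function.Surjective (ψ₀ ∘ ψ₁) := hb01.2
      exact Function.Surjective.of_comp this
  -- `k`-linearity
  have hk' : ∀ c : k, ψ₀ (algebraMap k A c) = algebraMap k A c := by
    intro c
    have hinv : ∀ σ : G, σ • algebraMap k A c = algebraMap k A c := fun σ => smul_algebraMap σ c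
    have h1 := hψ₀ ⟨algebraMap k A c, hinv⟩
    change ψ₀ (algebraMap k A c) = _ at h1
    rw [h1, hφ']
    have h2 : toS ⟨algebraMap k A c, hinv⟩ = algebraMap k (FixedPoints.subalgebra k A G) c := rfl
    rw [h2, φ.commutes]
    rfl
  let ψa : A →ₐ[k] A := { ψ₀ with commutes' := hk' }
  refine ⟨AlgEquiv.ofBijective ψa hbij, fun x => ?_⟩
  show ψ₀ (x : A) = φ x
  have h1 := hψ₀ (toR x)
  change ψ₀ (x : A) = _ at h1
  rw [h1, hφ', htoS]

end Groth.Agent.S15800
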