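import Groth.Statements.S15804
import Groth.Agent.Lib.Helper52.WQDim2

set_option autoImplicit false
universe u v w
open WildQuot

namespace Groth.Agent.S15804

/-- Let `R` be a regular local ring and `A` a normal local domain, finite over `R` (with `R → A`
injective) and with the same residue field; let a finite group `H` act faithfully on `A` by
`R`-algebra automorphisms with ring of invariants exactly `R` (so `Frac(A)/Frac(R)` is Galois with
group `H`); assume `A` has Krull dimension `2`, `H` has order `p ^ 2` for a prime `p`, and `Γ ≤ H`
is a subgroup of order `p` whose intersection with the inertia subgroup of every non-maximal prime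
of `A` is trivial (the action of `Γ` is ramified precisely at the origin). Then every nontrivial
inertia subgroup of a height-one prime of `A` has order `p`, and `H` is commutative with every
element satisfying `h ^ p = 1`, i.e. elementary abelian of order `p ^ 2`. (The published statement
is for `A` a complete regular local ring with an action ramified precisely at the origin, `R =
k[[x_1, …, x_n]]` a norm subring and `H` the Galois group of `Frac(A)/Frac(R)`, when that extension
is Galois; this row assumes only the hypotheses listed above.) -/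
theorem result
    (p : ℕ) [Fact p.Prime] (R : Type u) [CommRing R] [IsRegularLocalRing R]
    (A : Type v) [CommRing A] [IsDomain A] [IsIntegrallyClosed A] [IsLocalRing A]
    [Algebra R A] [Module.Finite R A] (hinj : Function.Injective (algebraMap R A))
    (hres : Function.Surjective (IsLocalRing.residue A ∘ algebraMap R A))
    (H : Type w) [Group H] [Finite H] [MulSemiringAction H A] [SMulCommClass H R A] [FaithfulSMul H A]
    (hfix : ∀ a : A, (∀ h : H, h • a = a) → a ∈ Set.range (algebraMap R A))
    (hdim : ringKrullDim A = 2) (hcard : Nat.card H = p ^ 2)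
    (Γ : Subgroup H) (hΓ : Nat.card Γ = p)
    (hram : ∀ P : Ideal A, P.IsPrime → P ≠ IsLocalRing.maximalIdeal A → P.inertia H ⊓ Γ = ⊥) :
    (∀ P : Ideal A, P.IsPrime → P.height = 1 → P.inertia H ≠ ⊥ → Nat.card (P.inertia H) = p) ∧
      (∀ g h : H, g * h = h * g) ∧ ∀ h : H, h ^ p = 1 := by
  classical
  have hp : p.Prime := Fact.out
  have hcomm : ∀ g h : H, g * h = h * g := (IsPGroup.isMulCommutative_of_card_eq_prime_sq hcard).is_comm.comm
  have h2dim : (2 : WithBot ℕ∞) ≤ ringKrullDim A := by rw [hdim]
  -- subgroups of `H` have order `1`, `p` or `p ^ 2`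
  have hsub : ∀ K : Subgroup H, Nat.card K = 1 ∨ Nat.card K = p ∨ K = ⊤ := by
    intro K
    have hdvd : Nat.card K ∣ p ^ 2 := hcard ▸ Subgroup.card_subgroup_dvd_card K
    obtain ⟨k, hk, hKk⟩ := (Nat.dvd_prime_pow hp).mp hdvd
    interval_cases k
    · left; simpa using hKk
    · right; left; simpa using hKk
    · right; right
      exact Subgroup.eq_top_of_card_eq K (by rw [hKk, hcard])
  have hΓne : Γ ≠ ⊥ := by
    intro h
    rw [h, Subgroup.card_bot] at hΓ
    exact hp.one_lt.ne hΓ
  refine ⟨?_, hcomm, ?_⟩
  · intro P hP hht hI
    have hPm : P ≠ IsLocalRing.maximalIdeal A :=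
      Groth.Agent.Lib.Helper52.WQ.ne_maximalIdeal_of_height_le_one' h2dim hht.le
    rcases hsub (P.inertia H) with h1 | h1 | h1
    · exact absurd (Subgroup.eq_bot_of_card_eq _ h1) hI
    · exact h1
    · have := hram P hP hPm
      rw [h1, top_inf_eq] at this
      exact absurd this hΓne
  · by_contra hex
    push Not at hex
    obtain ⟨h₀, hh₀⟩ := hex
    -- the subgroup of elements of order dividing `p`
    let K : Subgroup H :=
      { carrier := {x | x ^ p = 1}
        mul_mem' := by
          intro a b ha hb
          change (a * b) ^ p = 1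
          rw [(show Commute a b from hcomm a b).mul_pow, ha, hb, one_mul]
        one_mem' := one_pow p
        inv_mem' := by
          intro a ha
          change (a⁻¹) ^ p = 1
          rw [inv_pow, ha, inv_one] }
    have hΓK : Γ ≤ K := by
      intro x hx
      change x ^ p = 1
      have h1 : (⟨x, hx⟩ : Γ) ^ Nat.card Γ = 1 := pow_card_eq_one'
      rw [hΓ] at h1
      exact congrArg Subtype.val h1
    have hKΓ : K = Γ := by
      rcases hsub K with h1 | h1 | h1
      · have := Subgroup.card_le_of_le hΓK
        rw [h1, hΓ] at this
        exact absurd this (not_le.mpr hp.one_lt)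
      · exact (Subgroup.eq_of_le_of_card_ge hΓK (by rw [h1, hΓ])).symm
      · have : h₀ ∈ K := h1 ▸ Subgroup.mem_top h₀
        exact absurd this hh₀
    have hram' : ∀ P : Ideal A, P.IsPrime → P ≠ IsLocalRing.maximalIdeal A → P.inertia H = ⊥ := by
      intro P hP hPm
      rw [eq_bot_iff]
      intro g hg
      have hgp : g ^ p ∈ K := by
        change (g ^ p) ^ p = 1
        rw [← pow_mul, ← pow_two, ← hcard]
        exact pow_card_eq_one'
      have h1 : g ^ p ∈ P.inertia H ⊓ Γ := ⟨Subgroup.pow_mem _ hg p, hKΓ ▸ hgp⟩
      rw [hram P hP hPm, Subgroup.mem_bot] at h1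
      have h2 : g ∈ P.inertia H ⊓ Γ := ⟨hg, hKΓ ▸ (show g ∈ K from h1)⟩
      rwa [hram P hP hPm] at h2
    haveI := Groth.Agent.Lib.Helper52.WQ.subsingleton_of_dim_two R A hinj hres H hfix hdim hram'
    have h1 : Nat.card H = 1 := Nat.card_unique
    rw [hcard] at h1
    have : 1 < p ^ 2 := Nat.one_lt_pow (by norm_num) hp.one_lt
    omega

end Groth.Agent.S15804
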