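import Groth.Statements.S15808
import Groth.Agent.Lib.Helper52.ASNormal

set_option autoImplicit false
universe u
open WildQuot

namespace Groth.Agent.S15808

open MvPolynomial in
/-- Let `k` be a field of characteristic `p > 0`, `n ≥ 2`, `R = k[[x_1, …, x_n]]`, `a_1, …, a_n ∈ R`
with zero constant term and pairwise coprime, `μ ∈ R` nonzero and coprime to each `a_i`; fix an
index `i₀` and let `B = R[Z_j : j ≠ i₀] / (Z_j ^ p - (μ a_{i₀} a_j) ^ (p-1) Z_j - (a_{i₀} ^ p x_j -
a_j ^ p x_{i₀}) : j ≠ i₀)`, the complete-intersection ring of the minor elements through `u_{i₀}`.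
Then `B` is a free `R`-module of rank `p ^ (n-1)`, `B` is an integral domain, and the localisation
`B[1/(μ a_{i₀})]` is integrally closed. (The published statement uses the first index for `i₀`; this
row allows any index.) -/
theorem result
    (p : ℕ) [Fact p.Prime] (k : Type u) [Field k] [CharP k p] (n : ℕ) (hn : 2 ≤ n)
    (a : Fin n → MvPowerSeries (Fin n) k) (μ : MvPowerSeries (Fin n) k)
    (ham : ∀ i, MvPowerSeries.constantCoeff (a i) = 0) (hcop : ∀ i j, i ≠ j → IsRelPrime (a i) (a j))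
    (hμ : μ ≠ 0) (hμa : ∀ i, IsRelPrime μ (a i)) (i₀ : Fin n) :
    let R := MvPowerSeries (Fin n) k
    let r : {j : Fin n // j ≠ i₀} → MvPolynomial {j : Fin n // j ≠ i₀} R := fun j =>
      X j ^ p - C ((μ * a i₀ * a j.1) ^ (p - 1)) * X j
        - C (a i₀ ^ p * MvPowerSeries.X j.1 - a j.1 ^ p * MvPowerSeries.X i₀)
    let B := MvPolynomial {j : Fin n // j ≠ i₀} R ⧸ Ideal.span (Set.range r)
    Module.Free R B ∧ Module.finrank R B = p ^ (n - 1) ∧ IsDomain B ∧
      IsIntegrallyClosed (Localization.Away (algebraMap R B (μ * a i₀))) := by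
  intro R r B
  have hr : Ideal.span (Set.range r) = Groth.Agent.Lib.Helper52.MonicCI.relIdeal
      (Groth.Agent.Lib.Helper52.AS.gpoly p a μ i₀) :=
    (Groth.Agent.Lib.Helper52.AS.relIdeal_gpoly_eq p a μ i₀).symm
  have ha0 := Groth.Agent.Lib.Helper52.AS.ne_zero_of_isRelPrime a hn ham hcop
  have key : Module.Free R (Groth.Agent.Lib.Helper52.AS.BM p a μ i₀) ∧
      Module.finrank R (Groth.Agent.Lib.Helper52.AS.BM p a μ i₀) = p ^ (n - 1) ∧
      IsDomain (Groth.Agent.Lib.Helper52.AS.BM p a μ i₀) ∧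
      IsIntegrallyClosed (Localization.Away
        (algebraMap R (Groth.Agent.Lib.Helper52.AS.BM p a μ i₀) (μ * a i₀))) :=
    ⟨Groth.Agent.Lib.Helper52.AS.free_BM p a μ i₀,
      Groth.Agent.Lib.Helper52.AS.finrank_BM p a μ i₀,
      Groth.Agent.Lib.Helper52.AS.isDomain_BM p a μ i₀ ha0 hμ ham,
      Groth.Agent.Lib.Helper52.AS.isIntegrallyClosed_away_BM p a μ i₀ ha0 hμ ham⟩
  change Module.Free R (MvPolynomial {j : Fin n // j ≠ i₀} R ⧸ Ideal.span (Set.range r)) ∧
    Module.finrank R (MvPolynomial {j : Fin n // j ≠ i₀} R ⧸ Ideal.span (Set.range r)) = p ^ (n - 1) ∧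
    IsDomain (MvPolynomial {j : Fin n // j ≠ i₀} R ⧸ Ideal.span (Set.range r)) ∧
    IsIntegrallyClosed (Localization.Away
      (algebraMap R (MvPolynomial {j : Fin n // j ≠ i₀} R ⧸ Ideal.span (Set.range r)) (μ * a i₀)))
  rw [hr]
  exact key

end Groth.Agent.S15808
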