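import Groth.Statements.S15811
import Mathlib
-- import your own Groth.Agent.* helpers here

set_option autoImplicit false
universe u
open WildQuot

namespace Groth.Agent.S15811

/-- Let `R` be an integrally closed domain of prime characteristic `p` with fraction field `K`, and `α ∈
R`. Then `α ≠ 0` and the polynomial `T ^ p - α T` splits into linear factors over `K` — which says
that the finite flat group scheme `Spec R[T]/(T ^ p - α T)` of order `p` has constant generic fibre
(its `p` roots are then distinct) — if and only if `α = a ^ (p-1)` for some nonzero `a ∈ R`. (The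
published statement is that the generic fibre of the finite flat group scheme of order `p` with
parameters `α, β` satisfying `α β = 0`, whose underlying scheme is `Spec R[T]/(T ^ p - α T)`, is
constant if and only if `β = 0` and `α` is the `(p-1)`-th power of a nonzero element of `R`; this
row states the polynomial condition, in which `α ≠ 0` already forces `β = 0` over a domain.) -/
theorem result
    (p : ℕ) [Fact p.Prime] (R : Type u) [CommRing R] [IsDomain R] [IsIntegrallyClosed R]
    [CharP R p] (α : R) :
    (α ≠ 0 ∧ (Polynomial.map (algebraMap R (FractionRing R))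
        (Polynomial.X ^ p - Polynomial.C α * Polynomial.X)).Splits) ↔
      ∃ a : R, a ≠ 0 ∧ α = a ^ (p - 1) := by
  classical
  have hp : 1 < p := (Fact.out : p.Prime).one_lt
  have hpp : p = (p - 1) + 1 := by omega
  have hinj := IsFractionRing.injective R (FractionRing R)
  constructor
  · rintro ⟨hα, hs⟩
    have hmap : Polynomial.map (algebraMap R (FractionRing R))
        (Polynomial.X ^ p - Polynomial.C α * Polynomial.X)
        = Polynomial.X * (Polynomial.X ^ (p - 1) -
          Polynomial.C (algebraMap R (FractionRing R) α)) := by
      conv_lhs => rw [hpp]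
      simp only [Polynomial.map_sub, Polynomial.map_pow, Polynomial.map_X, Polynomial.map_mul,
        Polynomial.map_C]
      ring
    rw [hmap, Polynomial.splits_X_mul] at hs
    have hdeg : (Polynomial.X ^ (p - 1) -
        Polynomial.C (algebraMap R (FractionRing R) α)).degree ≠ 0 := by
      rw [Polynomial.degree_X_pow_sub_C (by omega)]
      intro h
      have h3 : p - 1 = 0 := by exact_mod_cast h
      omega
    obtain ⟨b, hb⟩ := hs.exists_eval_eq_zero hdeg
    simp only [Polynomial.eval_sub, Polynomial.eval_pow, Polynomial.eval_X, Polynomial.eval_C,
      sub_eq_zero] at hb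
    have hint : IsIntegral R b := by
      refine ⟨Polynomial.X ^ (p - 1) - Polynomial.C α,
        Polynomial.monic_X_pow_sub_C α (by omega), ?_⟩
      simp [hb]
    obtain ⟨a, rfl⟩ := IsIntegrallyClosed.isIntegral_iff.mp hint
    refine ⟨a, ?_, ?_⟩
    · rintro rfl
      apply hα
      have h4 : algebraMap R (FractionRing R) α = 0 := by
        rw [← hb, map_zero, zero_pow (by omega)]
      exact hinj (by rw [h4, map_zero])
    · apply hinj
      rw [map_pow, hb]
  · rintro ⟨a, ha, rfl⟩
    refine ⟨pow_ne_zero _ ha, ?_⟩
    have hchar : CharP (FractionRing R) p := charP_of_injective_algebraMap hinj p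
    letI : Algebra (ZMod p) (FractionRing R) := ZMod.algebra (FractionRing R) p
    have h0 : (Polynomial.map (algebraMap (ZMod p) (FractionRing R))
        (Polynomial.X ^ p - Polynomial.X : Polynomial (ZMod p))).Splits :=
      (GaloisField.splits_zmod_X_pow_sub_X p).map _
    have ha0 : algebraMap R (FractionRing R) a ≠ 0 := by
      intro h
      exact ha (hinj (by rw [h, map_zero]))
    have h1 := (h0.comp_of_natDegree_le_one
      (g := Polynomial.C (algebraMap R (FractionRing R) a)⁻¹ * Polynomial.X) (by
        apply (Polynomial.natDegree_C_mul_le _ _).trans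
        simp)).C_mul ((algebraMap R (FractionRing R) a) ^ p)
    have heq : Polynomial.map (algebraMap R (FractionRing R))
        (Polynomial.X ^ p - Polynomial.C (a ^ (p - 1)) * Polynomial.X) =
        Polynomial.C ((algebraMap R (FractionRing R)) a ^ p) *
        (Polynomial.map (algebraMap (ZMod p) (FractionRing R))
          (Polynomial.X ^ p - Polynomial.X)).comp
        (Polynomial.C ((algebraMap R (FractionRing R)) a)⁻¹ * Polynomial.X) := by
      simp only [Polynomial.map_sub, Polynomial.map_pow, Polynomial.map_X, Polynomial.map_mul,
        Polynomial.map_C, Polynomial.sub_comp, Polynomial.pow_comp, Polynomial.X_comp, mul_pow,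
        ← Polynomial.C_pow, mul_sub, ← mul_assoc, ← Polynomial.C_mul]
      congr 2
      · rw [← mul_pow, mul_inv_cancel₀ ha0, one_pow, map_one, one_mul]
      · congr 1
        rw [map_pow]
        conv_rhs => rw [hpp, pow_succ, mul_assoc, mul_inv_cancel₀ ha0, mul_one]
    rw [heq]
    exact h1

end Groth.Agent.S15811
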