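import Groth.Statements.S15813
import Mathlib.RingTheory.PowerSeries.Inverse
import Mathlib.RingTheory.PowerSeries.Trunc
import Mathlib.Algebra.CharP.Lemmas
import Mathlib.Algebra.CharP.Algebra
import Mathlib.Algebra.Order.Ring.GeomSum
import Mathlib.Tactic

set_option autoImplicit false
universe u
open WildQuot

namespace Groth.Agent.S15813


section
open PowerSeries
variable {k : Type u} [Field k]

/-- φ = X^n * unit -/
def IsXU (φ : PowerSeries k) (n : ℕ) : Prop := ∃ u : PowerSeries k, IsUnit u ∧ φ = X ^ n * u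

theorem isUnit_iff' (u : PowerSeries k) : IsUnit u ↔ constantCoeff u ≠ 0 := by
  rw [PowerSeries.isUnit_iff_constantCoeff, isUnit_iff_ne_zero]

theorem IsXU.mul {φ ψ : PowerSeries k} {n l : ℕ} (h1 : IsXU φ n) (h2 : IsXU ψ l) :
    IsXU (φ * ψ) (n + l) := by
  obtain ⟨u, hu, rfl⟩ := h1
  obtain ⟨v, hv, rfl⟩ := h2
  exact ⟨u * v, hu.mul hv, by ring⟩

theorem IsXU.pow {φ : PowerSeries k} {n : ℕ} (h : IsXU φ n) (j : ℕ) : IsXU (φ ^ j) (n * j) := by
  obtain ⟨u, hu, rfl⟩ := h
  exact ⟨u ^ j, hu.pow j, by rw [mul_pow, pow_mul]⟩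

theorem isXU_unit {u : PowerSeries k} (hu : IsUnit u) : IsXU u 0 := ⟨u, hu, by simp⟩

theorem isXU_X_pow (n : ℕ) : IsXU (X ^ n : PowerSeries k) n := ⟨1, isUnit_one, by simp⟩

theorem IsXU.order {φ : PowerSeries k} {n : ℕ} (h : IsXU φ n) : φ.order = n := by
  obtain ⟨u, hu, rfl⟩ := h
  rw [PowerSeries.order_mul, order_X_pow, order_zero_of_unit hu, add_zero]

theorem IsXU.unique {φ : PowerSeries k} {n l : ℕ} (h1 : IsXU φ n) (h2 : IsXU φ l) : n = l := by
  have := h1.order.symm.trans h2.order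
  exact_mod_cast this

theorem IsXU.ne_zero {φ : PowerSeries k} {n : ℕ} (h : IsXU φ n) : φ ≠ 0 := by
  obtain ⟨u, hu, rfl⟩ := h
  exact mul_ne_zero (pow_ne_zero _ X_ne_zero) hu.ne_zero

theorem exists_isXU {φ : PowerSeries k} (h : φ ≠ 0) : ∃ n, IsXU φ n :=
  ⟨φ.order.toNat, divXPowOrder φ, isUnit_divided_by_X_pow_order h,
    X_pow_order_mul_divXPowOrder.symm⟩

theorem IsXU.add_dvd {φ ψ : PowerSeries k} {n : ℕ} (h : IsXU φ n) (hd : X ^ (n + 1) ∣ ψ) :
    IsXU (φ + ψ) n := by
  obtain ⟨u, hu, rfl⟩ := h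
  obtain ⟨g, rfl⟩ := hd
  refine ⟨u + X * g, ?_, by ring⟩
  rw [isUnit_iff'] at hu ⊢
  simpa using hu

theorem IsXU.neg {φ : PowerSeries k} {n : ℕ} (h : IsXU φ n) : IsXU (-φ) n := by
  obtain ⟨u, hu, rfl⟩ := h
  exact ⟨-u, hu.neg, by ring⟩

theorem IsXU.dvd_iff {φ : PowerSeries k} {n : ℕ} (h : IsXU φ n) (l : ℕ) : X ^ l ∣ φ ↔ l ≤ n := by
  constructor
  · intro hd
    by_contra hlt
    push Not at hlt
    obtain ⟨u, hu, rfl⟩ := h
    have h1 : (X : PowerSeries k) ^ (n + 1) ∣ X ^ n * u := (pow_dvd_pow X hlt).trans hd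
    rw [pow_succ] at h1
    have h2 : (X : PowerSeries k) ∣ u :=
      (mul_dvd_mul_iff_left (pow_ne_zero n X_ne_zero)).mp h1
    rw [X_dvd_iff] at h2
    exact ((isUnit_iff' u).mp hu) h2
  · intro hle
    obtain ⟨u, hu, rfl⟩ := h
    exact (pow_dvd_pow X hle).trans (Dvd.intro _ rfl)

/-- Lemma A -/
theorem lemmaA (σ : PowerSeries k ≃ₐ[k] PowerSeries k) :
    ∀ (N : ℕ) (ε : PowerSeries k), ∃ g h : PowerSeries k,
      σ ε - ε = (σ X - X) * g + X ^ N * h := by
  intro N
  induction N with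
  | zero => intro ε; exact ⟨0, σ ε - ε, by simp⟩
  | succ N ih =>
    intro ε
    obtain ⟨g', h', hgh⟩ := ih (mk fun p => coeff (p + 1) ε)
    refine ⟨σ (mk fun p => coeff (p + 1) ε) + X * g', h', ?_⟩
    have hε := eq_X_mul_shift_add_const ε
    have hC : σ (C (constantCoeff ε)) = C (constantCoeff ε) := by
      rw [C_eq_algebraMap, AlgEquiv.commutes]
    have h1 : σ ε - ε = σ X * σ (mk fun p => coeff (p + 1) ε) - X * (mk fun p => coeff (p + 1) ε) := by
      conv_lhs => rw [hε]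
      rw [map_add, map_mul, hC]; ring
    rw [h1]
    have h2 : σ X * σ (mk fun p => coeff (p + 1) ε) - X * (mk fun p => coeff (p + 1) ε) =
        (σ X - X) * σ (mk fun p => coeff (p + 1) ε) +
          X * (σ (mk fun p => coeff (p + 1) ε) - (mk fun p => coeff (p + 1) ε)) := by ring
    rw [h2, hgh]; ring

theorem lemmaA' (σ : PowerSeries k ≃ₐ[k] PowerSeries k) (M : ℕ)
    (hM : X ^ M ∣ σ X - X) (ε : PowerSeries k) : X ^ M ∣ σ ε - ε := by
  obtain ⟨g, h, hgh⟩ := lemmaA σ M ε
  rw [hgh]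
  exact dvd_add (Dvd.dvd.mul_right hM g) (Dvd.intro _ rfl)

end
section
open PowerSeries
variable {k : Type u} [Field k]

theorem isXU_of_order {φ : PowerSeries k} {n : ℕ} (h : φ.order = (n : ℕ∞)) : IsXU φ n := by
  have hne : φ ≠ 0 := by
    intro h0
    rw [h0, order_zero] at h
    exact ENat.top_ne_natCast n h
  obtain ⟨l, hl⟩ := exists_isXU hne
  have := hl.order.symm.trans h
  have hln : l = n := by exact_mod_cast this
  rw [← hln]; exact hl

variable (p : ℕ) [Fact p.Prime] [CharP k p]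
  (σ : PowerSeries k ≃ₐ[k] PowerSeries k) (hσp : σ ^ p = 1)
  (m : ℕ) (hm : (σ X - X).order = ((m + 1 : ℕ) : ℕ∞))

include hm in
theorem exists_theta : ∃ θ : PowerSeries k, σ X = X * θ ∧ IsXU (θ - 1) m := by
  have h1 := isXU_of_order hm
  obtain ⟨κ, hκ, hκe⟩ := h1
  refine ⟨1 + X ^ m * κ, ?_, ⟨κ, hκ, by ring⟩⟩
  have : σ X = X + (σ X - X) := by ring
  rw [this, hκe]; ring

theorem sigma_pow_X_aux (θ : PowerSeries k) (hθ : σ X = X * θ) :
    ∀ i : ℕ, ∃ (c : k) (g : PowerSeries k), c = (constantCoeff θ) ^ i ∧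
      (σ ^ i) X = C c * X + X ^ 2 * g := by
  intro i
  induction i with
  | zero => exact ⟨1, 0, by simp, by simp⟩
  | succ i ih =>
    obtain ⟨c, g, hc, hg⟩ := ih
    have hθ' := eq_X_mul_shift_add_const θ
    refine ⟨c * constantCoeff θ, C c * (mk fun p => coeff (p + 1) θ) + θ ^ 2 * σ g,
      by rw [hc, pow_succ], ?_⟩
    have hC : σ (C c) = C c := by
      rw [C_eq_algebraMap, AlgEquiv.commutes]
    have e0 : (σ ^ (i + 1)) X = C c * (X * θ) + (X * θ) ^ 2 * σ g := by
      rw [pow_succ', AlgEquiv.mul_apply, hg, map_add, map_mul, map_mul, hC, map_pow, hθ]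
    have e1 : C c * (X * θ) =
        C c * (X * (X * (mk fun p => coeff (p + 1) θ) + C (constantCoeff θ))) := by
      rw [← hθ']
    rw [e0, e1, map_mul]
    ring

theorem sigma_pow_X (θ : PowerSeries k) (hθ : σ X = X * θ) :
    ∀ i : ℕ, ∃ g : PowerSeries k, (σ ^ i) X = C ((constantCoeff θ) ^ i) * X + X ^ 2 * g := by
  intro i
  obtain ⟨c, g, hc, hg⟩ := sigma_pow_X_aux σ θ hθ i
  exact ⟨g, by rw [← hc]; exact hg⟩

include hσp in
theorem theta0_eq_one (θ : PowerSeries k) (hθ : σ X = X * θ) : constantCoeff θ = 1 := by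
  obtain ⟨g, hg⟩ := sigma_pow_X σ θ hθ p
  rw [hσp, AlgEquiv.one_apply] at hg
  have h1 : (X : PowerSeries k) * 1 = X * (C (constantCoeff θ ^ p) + X * g) := by
    rw [mul_one]; conv_lhs => rw [hg]
    ring
  have h2 := mul_left_cancel₀ X_ne_zero h1
  have h3 := congrArg constantCoeff h2
  simp only [map_one, map_add, constantCoeff_C, map_mul, constantCoeff_X, zero_mul, add_zero] at h3
  have h4 : (constantCoeff θ - 1) ^ p = 0 := by
    rw [sub_pow_char, one_pow, ← h3, sub_self]
  have h5 := pow_eq_zero_iff (Fact.out : p.Prime).ne_zero |>.mp h4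
  exact sub_eq_zero.mp h5

include hσp in
theorem sigma_pow_X_isXU (θ : PowerSeries k) (hθ : σ X = X * θ) (i : ℕ) :
    IsXU ((σ ^ i) X) 1 := by
  obtain ⟨g, hg⟩ := sigma_pow_X σ θ hθ i
  rw [theta0_eq_one p σ hσp θ hθ, one_pow, map_one, one_mul] at hg
  refine ⟨1 + X * g, ?_, by rw [hg]; ring⟩
  rw [isUnit_iff']
  simp

include hσp in
theorem norm_isXU (θ : PowerSeries k) (hθ : σ X = X * θ) :
    ∀ n : ℕ, IsXU (∏ i ∈ Finset.range n, (σ ^ i) X) n := by
  intro n
  induction n with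
  | zero => simpa using isXU_X_pow (k := k) 0
  | succ n ih =>
    rw [Finset.prod_range_succ]
    exact ih.mul (sigma_pow_X_isXU p σ hσp θ hθ n)

omit [Fact p.Prime] [CharP k p] in
include hσp in
theorem sigma_norm : σ (∏ i ∈ Finset.range p, (σ ^ i) X) = ∏ i ∈ Finset.range p, (σ ^ i) X := by
  rw [map_prod]
  have h1 : ∀ i ∈ Finset.range p, σ ((σ ^ i) X) = (σ ^ (i + 1)) X := by
    intro i _
    rw [pow_succ', AlgEquiv.mul_apply]
  rw [Finset.prod_congr rfl h1]
  have h2 := Finset.prod_range_succ' (fun i => (σ ^ i) X) p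
  have h3 := Finset.prod_range_succ (fun i => (σ ^ i) X) p
  rw [h3] at h2
  simp only [pow_zero, AlgEquiv.one_apply, hσp] at h2
  exact (mul_right_cancel₀ X_ne_zero h2).symm

end

section
open PowerSeries
variable {k : Type u} [Field k]

theorem IsXU.congr {φ : PowerSeries k} {n l : ℕ} (h : IsXU φ n) (e : n = l) : IsXU φ l := e ▸ h

/-- the algebraic core, entirely inside `k⟦X⟧` -/
theorem core (p : ℕ) [Fact p.Prime] [CharP k p]
    (σ : PowerSeries k ≃ₐ[k] PowerSeries k) (hσp : σ ^ p = 1)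
    (m : ℕ) (hm : (σ X - X).order = ((m + 1 : ℕ) : ℕ∞))
    (f : PowerSeries k) (hfσ : σ f = f) (hf0 : constantCoeff f ≠ 0)
    (μ : ℕ) (hμ : 0 < μ) (hpμ : ¬ p ∣ μ)
    (a : PowerSeries k) (N : ℕ)
    (hE : (∏ i ∈ Finset.range p, (σ ^ i) X) ^ μ * (a ^ p - a * X ^ (N * (p - 1))) =
      f * X ^ (N * p)) : μ = m := by
  have hp : p.Prime := Fact.out
  have hp2 : 2 ≤ p := hp.two_le
  have : CharP (PowerSeries k) p := charP_of_injective_algebraMap (C_injective (R := k)) p
  obtain ⟨θ, hθ, hθm⟩ := exists_theta σ m hm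
  have hθ0 : constantCoeff θ = 1 := theta0_eq_one p σ hσp θ hθ
  have hθu : IsUnit θ := by rw [isUnit_iff', hθ0]; exact one_ne_zero
  have hfu : IsUnit f := (isUnit_iff' f).mpr hf0
  set x := ∏ i ∈ Finset.range p, (σ ^ i) X with hx
  have hxXU : IsXU x p := norm_isXU p σ hσp θ hθ p
  have hσx : σ x = x := sigma_norm p σ hσp
  have hXσ : (X : PowerSeries k) ^ (m + 1) ∣ σ X - X := ((isXU_of_order hm).dvd_iff (m + 1)).mpr le_rfl
  -- a ≠ 0
  have ha0 : a ≠ 0 := by
    intro h0
    rw [h0] at hE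
    have hne : f * X ^ (N * p) ≠ 0 := mul_ne_zero hfu.ne_zero (pow_ne_zero _ X_ne_zero)
    apply hne
    rw [← hE, zero_pow hp.ne_zero, zero_mul, sub_zero, mul_zero]
  obtain ⟨α, ε, hεu, haε⟩ := exists_isXU ha0
  have haXU : IsXU a α := ⟨ε, hεu, haε⟩
  have hRHS : IsXU (f * X ^ (N * p)) (N * p) :=
    ((isXU_unit hfu).mul (isXU_X_pow (N * p))).congr (by ring)
  -- N = α + μ
  have hN : N = α + μ := by
    rcases Nat.lt_or_ge α N with hlt | hge
    · have h1 : IsXU (a ^ p) (α * p) := haXU.pow p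
      have h2 : (X : PowerSeries k) ^ (α * p + 1) ∣ a * X ^ (N * (p - 1)) := by
        rw [haε]
        have e1 : X ^ α * ε * X ^ (N * (p - 1)) = X ^ (α + N * (p - 1)) * ε := by
          rw [pow_add]; ring
        rw [e1]
        refine (pow_dvd_pow X ?_).trans (Dvd.intro _ rfl)
        obtain ⟨q, rfl⟩ : ∃ q, p = q + 2 := ⟨p - 2, by omega⟩
        obtain ⟨r, rfl⟩ : ∃ r, N = α + 1 + r := ⟨N - α - 1, by omega⟩
        have : q + 2 - 1 = q + 1 := by omega
        rw [this]
        nlinarith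
      have h3 : IsXU (a ^ p - a * X ^ (N * (p - 1))) (α * p) := by
        have := h1.add_dvd ((dvd_neg).mpr h2)
        rwa [← sub_eq_add_neg] at this
      have h4 : IsXU (x ^ μ * (a ^ p - a * X ^ (N * (p - 1)))) (p * μ + α * p) :=
        (hxXU.pow μ).mul h3
      rw [hE] at h4
      have h5 := hRHS.unique h4
      have h6 : N * p = (μ + α) * p := by rw [h5]; ring
      have h7 := Nat.eq_of_mul_eq_mul_right hp.pos h6
      omega
    · exfalso
      have h1 : (X : PowerSeries k) ^ (N * p + 1) ∣ x ^ μ * (a ^ p - a * X ^ (N * (p - 1))) := by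
        have hx1 : (X : PowerSeries k) ^ 1 ∣ x ^ μ := by
          apply ((hxXU.pow μ).dvd_iff 1).mpr
          have : 1 ≤ p * μ := Nat.mul_pos hp.pos hμ
          exact this
        have hb : (X : PowerSeries k) ^ (N * p) ∣ a ^ p - a * X ^ (N * (p - 1)) := by
          apply dvd_sub
          · apply ((haXU.pow p).dvd_iff (N * p)).mpr
            exact Nat.mul_le_mul_right p hge
          · rw [haε]
            have e1 : X ^ α * ε * X ^ (N * (p - 1)) = X ^ (α + N * (p - 1)) * ε := by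
              rw [pow_add]; ring
            rw [e1]
            refine (pow_dvd_pow X ?_).trans (Dvd.intro _ rfl)
            obtain ⟨q, rfl⟩ : ∃ q, p = q + 1 := ⟨p - 1, by omega⟩
            have : q + 1 - 1 = q := by omega
            rw [this]
            nlinarith
        have := mul_dvd_mul hx1 hb
        rw [← pow_add, add_comm 1 (N * p)] at this
        exact this
      rw [hE] at h1
      have := (hRHS.dvd_iff (N * p + 1)).mp h1
      omega
  -- apply σ to (E)
  have hE' : x ^ μ * ((σ a) ^ p - σ a * (X * θ) ^ (N * (p - 1))) = f * (X * θ) ^ (N * p) := by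
    have := congrArg σ hE
    rw [map_mul, map_pow, hσx, map_sub, map_pow, map_mul, map_pow, hθ, map_mul, hfσ, map_pow, hθ]
      at this
    exact this
  -- d
  set d := σ a - a * θ ^ N with hd
  have hdp : d ^ p = (σ a) ^ p - (a * θ ^ N) ^ p := sub_pow_char _ _
  have hNp : N * p = N * (p - 1) + N := by
    obtain ⟨q, rfl⟩ : ∃ q, p = q + 1 := ⟨p - 1, by omega⟩
    have : q + 1 - 1 = q := by omega
    rw [this]; ring
  have hkey : x ^ μ * (d ^ p - (X * θ) ^ (N * (p - 1)) * d) = 0 := by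
    have e1 : x ^ μ * (d ^ p - (X * θ) ^ (N * (p - 1)) * d) =
        x ^ μ * ((σ a) ^ p - σ a * (X * θ) ^ (N * (p - 1))) -
          θ ^ (N * p) * (x ^ μ * (a ^ p - a * X ^ (N * (p - 1)))) := by
      rw [hdp, hd, mul_pow, mul_pow X θ, ← pow_mul θ N p]
      have : θ ^ (N * p) = θ ^ (N * (p - 1)) * θ ^ N := by rw [← pow_add, ← hNp]
      rw [this]
      ring
    rw [e1, hE', hE, mul_pow]
    ring
  have hx0 : x ^ μ ≠ 0 := (hxXU.pow μ).ne_zero
  have hdeq : d ^ p = (X * θ) ^ (N * (p - 1)) * d := by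
    have := (mul_eq_zero.mp hkey).resolve_left hx0
    exact sub_eq_zero.mp this
  -- structure of d
  have hσa : σ a = (X * θ) ^ α * σ ε := by
    rw [haε, map_mul, map_pow, hθ]
  have hdform : d = X ^ α * θ ^ α * (σ ε - ε * θ ^ μ) := by
    rw [hd, hσa, hN, pow_add θ α μ, mul_pow]
    conv_lhs => rw [haε]
    ring
  have hgeom : θ ^ μ - 1 = (∑ j ∈ Finset.range μ, θ ^ j) * (θ - 1) := (geom_sum_mul θ μ).symm
  have hgu : IsUnit (∑ j ∈ Finset.range μ, θ ^ j) := by
    rw [isUnit_iff', map_sum]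
    simp only [map_pow, hθ0, one_pow, Finset.sum_const, Finset.card_range, nsmul_eq_mul, mul_one]
    intro h0
    exact hpμ ((CharP.cast_eq_zero_iff k p μ).mp h0)
  have hbr : IsXU (σ ε - ε * θ ^ μ) m := by
    have e1 : σ ε - ε * θ ^ μ = -(ε * ((∑ j ∈ Finset.range μ, θ ^ j) * (θ - 1))) + (σ ε - ε) := by
      rw [← hgeom]; ring
    rw [e1]
    have h1 : IsXU (ε * ((∑ j ∈ Finset.range μ, θ ^ j) * (θ - 1))) m :=
      ((isXU_unit hεu).mul ((isXU_unit hgu).mul hθm)).congr (by ring)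
    exact h1.neg.add_dvd (lemmaA' σ (m + 1) hXσ ε)
  have hdXU : IsXU d (α + m) := by
    rw [hdform]
    exact (((isXU_X_pow α).mul (isXU_unit (hθu.pow α))).mul hbr).congr (by ring)
  have h1 : IsXU (d ^ p) ((α + m) * p) := hdXU.pow p
  have hXθ : IsXU (X * θ) 1 := by
    have := (isXU_X_pow (k := k) 1).mul (isXU_unit hθu)
    simpa using this
  have h2 : IsXU ((X * θ) ^ (N * (p - 1)) * d) (1 * (N * (p - 1)) + (α + m)) :=
    (hXθ.pow (N * (p - 1))).mul hdXU
  rw [← hdeq] at h2
  have h3 := h1.unique h2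
  obtain ⟨q, rfl⟩ : ∃ q, p = q + 1 := ⟨p - 1, by omega⟩
  have hq : q + 1 - 1 = q := by omega
  rw [hq] at h3
  have h4 : (α + m) * q = N * q := by nlinarith
  have hqpos : 0 < q := by omega
  have h5 := Nat.eq_of_mul_eq_mul_right hqpos h4
  omega

end



/-- Let `k` be a field of characteristic `p > 0`, `A = k[[u]]`, and `σ` a `k`-algebra automorphism of
`A` of order exactly `p`, with ramification break `m`: `σ u - u` has order `m + 1`. Let `x = ∏_{i <
p} σ^i u` be the norm of `u`, let `f ∈ A` be `σ`-invariant with nonzero constant term (a unit of the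
invariant ring `k[[x]]`), let `μ > 0` be prime to `p`, and let `z ∈ Frac(A)` satisfy the
Artin–Schreier equation `z ^ p - z = f / x ^ μ`. Then `μ = m`. (The published statement also records
that `Frac(A) = Frac(A^σ)(z)`; that follows from the equation since `p` does not divide `μ`, so it
is not repeated as a hypothesis.) -/
theorem result
    (p : ℕ) [Fact p.Prime] (k : Type u) [Field k] [CharP k p]
    (σ : PowerSeries k ≃ₐ[k] PowerSeries k) (hσp : σ ^ p = 1) (hσ1 : σ ≠ 1)
    (m : ℕ) (hm : (σ PowerSeries.X - PowerSeries.X).order = ((m + 1 : ℕ) : ℕ∞))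
    (f : PowerSeries k) (hfσ : σ f = f) (hf0 : PowerSeries.constantCoeff f ≠ 0)
    (μ : ℕ) (hμ : 0 < μ) (hpμ : ¬ p ∣ μ)
    (z : FractionRing (PowerSeries k))
    (hz : z ^ p - z = algebraMap (PowerSeries k) (FractionRing (PowerSeries k)) f /
      algebraMap (PowerSeries k) (FractionRing (PowerSeries k))
        (∏ i ∈ Finset.range p, (σ ^ i) PowerSeries.X) ^ μ) :
    μ = m := by
  classical
  have hp : p.Prime := Fact.out
  have hinj := IsFractionRing.injective (PowerSeries k) (FractionRing (PowerSeries k))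
  obtain ⟨θ, hθ, -⟩ := exists_theta σ m hm
  have hxne : (∏ i ∈ Finset.range p, (σ ^ i) PowerSeries.X) ≠ 0 :=
    (norm_isXU p σ hσp θ hθ p).ne_zero
  obtain ⟨a₀, b, hb, hab⟩ := IsFractionRing.div_surjective (A := PowerSeries k) z
  have hb0 : b ≠ 0 := nonZeroDivisors.ne_zero hb
  obtain ⟨N, v, hvu, hbv⟩ := exists_isXU hb0
  obtain ⟨v', hv'⟩ := hvu.exists_right_inv
  have hZ : algebraMap (PowerSeries k) (FractionRing (PowerSeries k)) PowerSeries.X ≠ 0 := by
    intro h
    exact PowerSeries.X_ne_zero (hinj (h.trans (map_zero _).symm))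
  have hXx : algebraMap (PowerSeries k) (FractionRing (PowerSeries k))
      (∏ i ∈ Finset.range p, (σ ^ i) PowerSeries.X) ≠ 0 := by
    intro h
    exact hxne (hinj (h.trans (map_zero _).symm))
  have hv0 : algebraMap (PowerSeries k) (FractionRing (PowerSeries k)) v ≠ 0 := by
    intro h
    exact hvu.ne_zero (hinj (h.trans (map_zero _).symm))
  have hvv : algebraMap (PowerSeries k) (FractionRing (PowerSeries k)) v *
      algebraMap (PowerSeries k) (FractionRing (PowerSeries k)) v' = 1 := by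
    rw [← map_mul, hv', map_one]
  have hzdef : z = algebraMap (PowerSeries k) (FractionRing (PowerSeries k)) (a₀ * v') /
      algebraMap (PowerSeries k) (FractionRing (PowerSeries k)) PowerSeries.X ^ N := by
    rw [← hab, hbv, map_mul, map_mul, map_pow,
      div_eq_div_iff (mul_ne_zero (pow_ne_zero _ hZ) hv0) (pow_ne_zero _ hZ)]
    linear_combination (-(algebraMap (PowerSeries k) (FractionRing (PowerSeries k)) a₀ *
      algebraMap (PowerSeries k) (FractionRing (PowerSeries k)) PowerSeries.X ^ N)) * hvv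
  obtain ⟨a, ha⟩ : ∃ a, a = a₀ * v' := ⟨_, rfl⟩
  rw [← ha] at hzdef
  have hNp : N * p = N + N * (p - 1) := by
    obtain ⟨q, rfl⟩ : ∃ q, p = q + 1 := ⟨p - 1, by have := hp.pos; omega⟩
    have : q + 1 - 1 = q := by omega
    rw [this]; ring
  have h1 : algebraMap (PowerSeries k) (FractionRing (PowerSeries k)) f =
      (z ^ p - z) * algebraMap (PowerSeries k) (FractionRing (PowerSeries k))
        (∏ i ∈ Finset.range p, (σ ^ i) PowerSeries.X) ^ μ := by
    rw [hz, div_mul_cancel₀ _ (pow_ne_zero _ hXx)]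
  have h2 : z ^ p * algebraMap (PowerSeries k) (FractionRing (PowerSeries k)) PowerSeries.X ^ (N * p) =
      algebraMap (PowerSeries k) (FractionRing (PowerSeries k)) a ^ p := by
    rw [hzdef, div_pow, ← pow_mul, div_mul_cancel₀ _ (pow_ne_zero _ hZ)]
  have h3 : z * algebraMap (PowerSeries k) (FractionRing (PowerSeries k)) PowerSeries.X ^ (N * p) =
      algebraMap (PowerSeries k) (FractionRing (PowerSeries k)) a *
        algebraMap (PowerSeries k) (FractionRing (PowerSeries k)) PowerSeries.X ^ (N * (p - 1)) := by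
    rw [hNp, pow_add, ← mul_assoc]
    congr 1
    rw [hzdef, div_mul_cancel₀ _ (pow_ne_zero _ hZ)]
  have hEK : algebraMap (PowerSeries k) (FractionRing (PowerSeries k))
      ((∏ i ∈ Finset.range p, (σ ^ i) PowerSeries.X) ^ μ *
        (a ^ p - a * PowerSeries.X ^ (N * (p - 1)))) =
      algebraMap (PowerSeries k) (FractionRing (PowerSeries k)) (f * PowerSeries.X ^ (N * p)) := by
    have e1 : algebraMap (PowerSeries k) (FractionRing (PowerSeries k))
      ((∏ i ∈ Finset.range p, (σ ^ i) PowerSeries.X) ^ μ *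
        (a ^ p - a * PowerSeries.X ^ (N * (p - 1)))) =
        algebraMap (PowerSeries k) (FractionRing (PowerSeries k))
          (∏ i ∈ Finset.range p, (σ ^ i) PowerSeries.X) ^ μ *
        (algebraMap (PowerSeries k) (FractionRing (PowerSeries k)) a ^ p -
          algebraMap (PowerSeries k) (FractionRing (PowerSeries k)) a *
          algebraMap (PowerSeries k) (FractionRing (PowerSeries k)) PowerSeries.X ^ (N * (p - 1))) := by
      simp only [map_mul, map_pow, map_sub]
    have e2 : algebraMap (PowerSeries k) (FractionRing (PowerSeries k)) (f * PowerSeries.X ^ (N * p)) =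
        algebraMap (PowerSeries k) (FractionRing (PowerSeries k)) f *
        algebraMap (PowerSeries k) (FractionRing (PowerSeries k)) PowerSeries.X ^ (N * p) := by
      simp only [map_mul, map_pow]
    rw [e1, e2, ← h2, ← h3, h1]
    ring
  exact core p σ hσp m hm f hfσ hf0 μ hμ hpμ a N (hinj hEK)
end Groth.Agent.S15813
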