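import Groth.Statements.S15817
import Mathlib.Algebra.Category.ModuleCat.Limits
import Mathlib.CategoryTheory.Limits.Types.Pullbacks
import Mathlib.Tactic

set_option autoImplicit false
universe u v
open CategoryTheory
open CAlg

namespace Groth.Agent.S15817

/-- Let A be a commutative ring, M an A-module and P, Q submodules of M. Then the commuting square of
quotient projections with corners M/(P ∩ Q), M/P, M/Q and M/(P + Q) is cartesian in the category of
A-modules: M/(P ∩ Q) is the fibre product of M/P and M/Q over M/(P + Q). -/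
theorem result (A : Type u) [CommRing A] (M : Type v) [AddCommGroup M] [Module A M]
    (P Q : Submodule A M) :
    IsPullback (ModuleCat.ofHom (Submodule.factor (inf_le_left : P ⊓ Q ≤ P)))
      (ModuleCat.ofHom (Submodule.factor (inf_le_right : P ⊓ Q ≤ Q)))
      (ModuleCat.ofHom (Submodule.factor (le_sup_left : P ≤ P ⊔ Q)))
      (ModuleCat.ofHom (Submodule.factor (le_sup_right : Q ≤ P ⊔ Q))) := by
  have hw : ModuleCat.ofHom (Submodule.factor (inf_le_left : P ⊓ Q ≤ P)) ≫
      ModuleCat.ofHom (Submodule.factor (le_sup_left : P ≤ P ⊔ Q)) =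
      ModuleCat.ofHom (Submodule.factor (inf_le_right : P ⊓ Q ≤ Q)) ≫
      ModuleCat.ofHom (Submodule.factor (le_sup_right : Q ≤ P ⊔ Q)) := by
    rw [← ModuleCat.ofHom_comp, ← ModuleCat.ofHom_comp, Submodule.factor_comp,
      Submodule.factor_comp]
  haveI := Limits.reflectsLimit_of_reflectsIsomorphisms
    (Limits.cospan (ModuleCat.ofHom (Submodule.factor (le_sup_left : P ≤ P ⊔ Q)))
      (ModuleCat.ofHom (Submodule.factor (le_sup_right : Q ≤ P ⊔ Q)))) (forget (ModuleCat.{v} A))
  apply IsPullback.of_map_of_faithful (forget (ModuleCat.{v} A))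
  rw [Limits.Types.isPullback_iff]
  refine ⟨?_, ?_, ?_⟩
  · rw [← Functor.map_comp, ← Functor.map_comp, hw]
  · intro x₁ y₁ h
    obtain ⟨a, rfl⟩ := Submodule.Quotient.mk_surjective _ x₁
    obtain ⟨b, rfl⟩ := Submodule.Quotient.mk_surjective _ y₁
    obtain ⟨h1, h2⟩ := h
    have h1' : (Submodule.Quotient.mk a : M ⧸ P) = Submodule.Quotient.mk b := h1
    have h2' : (Submodule.Quotient.mk a : M ⧸ Q) = Submodule.Quotient.mk b := h2
    rw [Submodule.Quotient.eq] at h1' h2'
    exact (Submodule.Quotient.eq _).mpr ⟨h1', h2'⟩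
  · intro x₂ x₃ h
    obtain ⟨a, rfl⟩ := Submodule.Quotient.mk_surjective _ x₂
    obtain ⟨b, rfl⟩ := Submodule.Quotient.mk_surjective _ x₃
    have h' : (Submodule.Quotient.mk a : M ⧸ (P ⊔ Q)) = Submodule.Quotient.mk b := h
    rw [Submodule.Quotient.eq, Submodule.mem_sup] at h'
    obtain ⟨p, hp, q, hq, hpq⟩ := h'
    refine ⟨Submodule.Quotient.mk (a - p), ?_, ?_⟩
    · change (Submodule.Quotient.mk (a - p) : M ⧸ P) = Submodule.Quotient.mk a
      rw [Submodule.Quotient.eq]
      have : a - p - a = -p := by abel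
      rw [this]; exact P.neg_mem hp
    · change (Submodule.Quotient.mk (a - p) : M ⧸ Q) = Submodule.Quotient.mk b
      rw [Submodule.Quotient.eq]
      have : a - p - b = q := by
        have e : a - p - b = (a - b) - p := by abel
        rw [e, ← hpq]; abel
      rw [this]; exact hq

end Groth.Agent.S15817
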