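import Groth.Statements.S15818
import Mathlib

set_option autoImplicit false
universe u
open CategoryTheory
open Koszul

namespace Groth.Agent.S15818

section
open CategoryTheory CategoryTheory.Limits

theorem isPullback_moduleCat {A : Type u} [CommRing A] {P X Y Z : ModuleCat.{u} A}
    (t : P ⟶ X) (l : P ⟶ Y) (r : X ⟶ Z) (b : Y ⟶ Z)
    (w : t ≫ r = l ≫ b) (inj : ∀ p : P, t p = 0 → l p = 0 → p = 0)
    (surj : ∀ (x : X) (y : Y), r x = b y → ∃ p : P, t p = x ∧ l p = y) : IsPullback t l r b := by
  apply IsPullback.of_map_of_faithful (forget (ModuleCat.{u} A))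
  rw [Types.isPullback_iff]
  refine ⟨?_, ?_, ?_⟩
  · rw [← Functor.map_comp, ← Functor.map_comp, w]
  · rintro p p' ⟨h1, h2⟩
    have h1' : t p = t p' := h1
    have h2' : l p = l p' := h2
    have : (p - p' : P) = 0 := inj _ (by rw [map_sub, h1', sub_self]) (by rw [map_sub, h2', sub_self])
    exact sub_eq_zero.mp this
  · intro x y hxy
    exact surj x y hxy

theorem mem_span_smul {A : Type u} [CommRing A] {M : Type u} [AddCommGroup M] [Module A M]
    (x : A) (N : Submodule A M) (m : M) : m ∈ Ideal.span {x} • N ↔ ∃ n ∈ N, x • n = m := by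
  rw [Submodule.ideal_span_singleton_smul, Submodule.mem_smul_pointwise_iff_exists]

theorem gen {A : Type u} [CommRing A] {M : Type u} [AddCommGroup M] [Module A M]
    (Z B : Submodule A M) (hBZ : B ≤ Z) (x : A)
    (hxH : IsSMulRegular (↥Z ⧸ Submodule.comap Z.subtype B) x) :
    IsPullback
      (ModuleCat.ofHom (Submodule.factor (Submodule.comap_mono (Submodule.smul_mono le_rfl hBZ) :
        Submodule.comap Z.subtype (Ideal.span {x} • B) ≤
          Submodule.comap Z.subtype (Ideal.span {x} • Z))))
      (ModuleCat.ofHom (Submodule.factor (Submodule.comap_mono (Submodule.smul_le_right) :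
        Submodule.comap Z.subtype (Ideal.span {x} • B) ≤
          Submodule.comap Z.subtype B)))
      (ModuleCat.ofHom (Submodule.factor (Submodule.comap_mono le_sup_right :
        Submodule.comap Z.subtype (Ideal.span {x} • Z) ≤
          Submodule.comap Z.subtype (B ⊔ Ideal.span {x} • Z))))
      (ModuleCat.ofHom (Submodule.factor (Submodule.comap_mono le_sup_left :
        Submodule.comap Z.subtype B ≤
          Submodule.comap Z.subtype (B ⊔ Ideal.span {x} • Z)))) := by
  have fm : ∀ {p p' : Submodule A Z} (H : p ≤ p') (z : Z),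
      Submodule.factor H (Submodule.Quotient.mk z) = Submodule.Quotient.mk z := fun H z => rfl
  apply isPullback_moduleCat
  · ext p
    rfl
  · intro p h1 h2
    obtain ⟨z, rfl⟩ := Submodule.mkQ_surjective _ p
    simp only [ModuleCat.hom_ofHom, fm, Submodule.mkQ_apply,
      Submodule.Quotient.mk_eq_zero, Submodule.mem_comap, Submodule.subtype_apply] at h1 h2 ⊢
    rw [mem_span_smul] at h1 ⊢
    obtain ⟨z', hz', hxz'⟩ := h1
    refine ⟨z', ?_, hxz'⟩
    have h3 : x • (Submodule.Quotient.mk (⟨z', hz'⟩ : Z) : ↥Z ⧸ Submodule.comap Z.subtype B) = 0 := by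
      rw [← Submodule.Quotient.mk_smul, Submodule.Quotient.mk_eq_zero]
      simp only [Submodule.mem_comap, Submodule.subtype_apply, Submodule.coe_smul]
      rw [hxz']; exact h2
    have h4 : (Submodule.Quotient.mk (⟨z', hz'⟩ : Z) : ↥Z ⧸ Submodule.comap Z.subtype B) = 0 := by
      apply hxH
      simp only [smul_zero]
      exact h3
    rw [Submodule.Quotient.mk_eq_zero] at h4
    exact h4
  · intro u v huv
    obtain ⟨z₁, rfl⟩ := Submodule.mkQ_surjective _ u
    obtain ⟨z₂, rfl⟩ := Submodule.mkQ_surjective _ v
    simp only [ModuleCat.hom_ofHom, fm, Submodule.mkQ_apply] at huv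
    rw [Submodule.Quotient.eq] at huv
    simp only [Submodule.mem_comap, Submodule.subtype_apply, Submodule.coe_sub] at huv
    rw [Submodule.mem_sup] at huv
    obtain ⟨b, hb, c, hc, hbc⟩ := huv
    rw [mem_span_smul] at hc
    obtain ⟨z, hz, rfl⟩ := hc
    refine ⟨Submodule.mkQ _ (z₁ - x • (⟨z, hz⟩ : Z)), ?_, ?_⟩
    · simp only [ModuleCat.hom_ofHom, fm, Submodule.mkQ_apply]
      rw [Submodule.Quotient.eq]
      simp only [Submodule.mem_comap, Submodule.subtype_apply, Submodule.coe_sub, Submodule.coe_smul]
      rw [mem_span_smul]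
      exact ⟨-z, Submodule.neg_mem _ hz, by simp⟩
    · simp only [ModuleCat.hom_ofHom, fm, Submodule.mkQ_apply]
      rw [Submodule.Quotient.eq]
      simp only [Submodule.mem_comap, Submodule.subtype_apply, Submodule.coe_sub, Submodule.coe_smul]
      have : (z₁ : M) - x • z - z₂ = b := by
        have h5 : (z₁ : M) = b + x • z + z₂ := by rw [hbc]; abel
        rw [h5]; abel
      rw [this]; exact hb

end

/-- Let A be a commutative ring, f = (f_1, …, f_n) a finite sequence in A with Koszul complex K = K(f)
(mapping-cone model) and differentials ∂, q an integer, Z = Ker(∂^q) and B = Im(∂^{q-1}), so B ⊆ Z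
inside K^q (this inclusion is carried as the hypothesis hBZ). Let x be a non-zero-divisor of A which
moreover acts injectively on the cohomology module Z/B (for Noetherian A this says that x lies in no
associated prime of Z/B, which is how the published statement phrases it; the published argument
uses exactly the injectivity). Then the commuting square of quotient projections with corners Z/xB
(top left; it is isomorphic to the q-th cohomology of the Koszul complex of (x f_1, …, x f_n)), Z/xZ
= Z ⊗ A/(x) (top right), Z/B (bottom left) and Z/(B + xZ) = (Z/B) ⊗ A/(x) (bottom right) is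
cartesian in the category of A-modules. All four corners are written as quotients of Z by the
preimages of the submodules xB, xZ, B, B + xZ of K^q. -/
theorem result (A : Type u) [CommRing A] (l : List A) (q : ℤ)
    (K : CochainComplex (ModuleCat.{u} A) ℤ) (hK : K = Koszul.koszul A l)
    (hBZ : LinearMap.range (K.d (q - 1) q).hom ≤ LinearMap.ker (K.d q (q + 1)).hom)
    (x : A) (hx : x ∈ nonZeroDivisors A)
    (hxH : IsSMulRegular (↥(LinearMap.ker (K.d q (q + 1)).hom) ⧸ Submodule.comap (LinearMap.ker (K.d q (q + 1)).hom).subtype (LinearMap.range (K.d (q - 1) q).hom)) x) :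
    IsPullback
      (ModuleCat.ofHom (Submodule.factor (Submodule.comap_mono (Submodule.smul_mono le_rfl hBZ) :
        Submodule.comap (LinearMap.ker (K.d q (q + 1)).hom).subtype (Ideal.span {x} • LinearMap.range (K.d (q - 1) q).hom) ≤
          Submodule.comap (LinearMap.ker (K.d q (q + 1)).hom).subtype (Ideal.span {x} • LinearMap.ker (K.d q (q + 1)).hom))))
      (ModuleCat.ofHom (Submodule.factor (Submodule.comap_mono (Submodule.smul_le_right) :
        Submodule.comap (LinearMap.ker (K.d q (q + 1)).hom).subtype (Ideal.span {x} • LinearMap.range (K.d (q - 1) q).hom) ≤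
          Submodule.comap (LinearMap.ker (K.d q (q + 1)).hom).subtype (LinearMap.range (K.d (q - 1) q).hom))))
      (ModuleCat.ofHom (Submodule.factor (Submodule.comap_mono le_sup_right :
        Submodule.comap (LinearMap.ker (K.d q (q + 1)).hom).subtype (Ideal.span {x} • LinearMap.ker (K.d q (q + 1)).hom) ≤
          Submodule.comap (LinearMap.ker (K.d q (q + 1)).hom).subtype (LinearMap.range (K.d (q - 1) q).hom ⊔ Ideal.span {x} • LinearMap.ker (K.d q (q + 1)).hom))))
      (ModuleCat.ofHom (Submodule.factor (Submodule.comap_mono le_sup_left :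
        Submodule.comap (LinearMap.ker (K.d q (q + 1)).hom).subtype (LinearMap.range (K.d (q - 1) q).hom) ≤
          Submodule.comap (LinearMap.ker (K.d q (q + 1)).hom).subtype (LinearMap.range (K.d (q - 1) q).hom ⊔ Ideal.span {x} • LinearMap.ker (K.d q (q + 1)).hom)))) := by
  subst hK
  exact gen _ _ hBZ x hxH

end Groth.Agent.S15818
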