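import Groth.Statements.S15822
import Groth.Agent.Lib.Helper98.KoszulHomotopy
import Mathlib

set_option autoImplicit false
universe u
open CategoryTheory
open Koszul

namespace Groth.Agent.S15822

section
open CategoryTheory.Limits MonoidalCategory HomologicalComplex CochainComplex HomComplex
open Groth.Agent.Lib.Helper98.KoszulEuler

attribute [local instance] HasDerivedCategory.standard

variable {A : Type u} [CommRing A]

lemma nullH_zero (C : DRing.Cx A) : NullH C 0 := by
  refine ⟨0, ?_⟩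
  rw [δ_zero, zero_smul, Cochain.ofHom_zero]

lemma nullH_add {C : DRing.Cx A} {s t : A} (hs : NullH C s) (ht : NullH C t) :
    NullH C (s + t) := by
  obtain ⟨h, hh⟩ := hs
  obtain ⟨h', hh'⟩ := ht
  refine ⟨h + h', ?_⟩
  rw [δ_add, hh, hh', add_smul, Cochain.ofHom_add]

lemma nullH_mul {C : DRing.Cx A} (a : A) {s : A} (hs : NullH C s) : NullH C (a * s) := by
  obtain ⟨h, hh⟩ := hs
  refine ⟨a • h, ?_⟩
  rw [δ_smul, hh, mul_smul, ofHom_smul' a (s • 𝟙 C)]

lemma nullH_of_mem_span (l : List A) (y : A) (hy : y ∈ Ideal.span {a | a ∈ l}) :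
    NullH (Koszul.koszul A l) y := by
  induction hy using Submodule.span_induction with
  | mem s hs => exact nullH_koszul l s hs
  | zero => exact nullH_zero _
  | add s t _ _ hs ht => exact nullH_add hs ht
  | smul a s _ hs => exact nullH_mul a hs

noncomputable def splitEquiv {X Y Z : Type u} [AddCommGroup X] [Module A X] [AddCommGroup Y]
    [Module A Y] [AddCommGroup Z] [Module A Z] (f : X →ₗ[A] Y) (g : Y →ₗ[A] Z) (r : Y →ₗ[A] X)
    (hex : Function.Exact f g) (hg : Function.Surjective g) (hr : ∀ x, r (f x) = x) :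
    Y ≃ₗ[A] X × Z :=
  LinearEquiv.ofBijective (r.prod g) (by
    constructor
    · rw [← LinearMap.ker_eq_bot, LinearMap.ker_eq_bot']
      intro v hv
      have h1 : r v = 0 := congrArg Prod.fst hv
      have h2 : g v = 0 := congrArg Prod.snd hv
      obtain ⟨u, rfl⟩ := (hex v).1 h2
      rw [hr] at h1
      rw [h1, map_zero]
    · rintro ⟨a, b⟩
      obtain ⟨v₀, hv₀⟩ := hg b
      refine ⟨v₀ + f (a - r v₀), ?_⟩
      have hgf : g (f (a - r v₀)) = 0 := (hex _).2 ⟨_, rfl⟩
      apply Prod.ext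
      · change r (v₀ + f (a - r v₀)) = a
        rw [map_add, hr]
        abel
      · change g (v₀ + f (a - r v₀)) = b
        rw [map_add, hgf, hv₀, add_zero])

open Helper98.KoszulLES in
theorem cone_homology_split (C : DRing.Cx A) (z : A) (hz : NullH C z) (m : ℤ) :
    Nonempty ((mappingCone (z • 𝟙 C)).homology m ≅
      ModuleCat.of A (C.homology m × C.homology (m + 1))) := by
  obtain ⟨h, hh⟩ := hz
  let ρ : mappingCone (z • 𝟙 C) ⟶ C :=
    mappingCone.desc (z • 𝟙 C) h (𝟙 C) (by rw [hh, Category.comp_id])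
  have hρ : mappingCone.inr (z • 𝟙 C) ≫ ρ = 𝟙 C := mappingCone.inr_desc _ _ _ _
  have hρm : ∀ i : ℤ, homologyMap (mappingCone.inr (z • 𝟙 C)) i ≫ homologyMap ρ i = 𝟙 _ := by
    intro i
    rw [← homologyMap_comp, hρ, homologyMap_id]
  have hφ0 : ∀ i : ℤ, homologyMap (z • 𝟙 C) i = 0 := by
    intro i
    have hzz := CochainComplex.homologyMap_comp_eq_zero_of_distTriang _ (cone_dist C z) i
    change homologyMap (z • 𝟙 C) i ≫ homologyMap (mappingCone.inr (z • 𝟙 C)) i = 0 at hzz
    have := congrArg (fun t => t ≫ homologyMap ρ i) hzz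
    simp only [Category.assoc, hρm, Category.comp_id, zero_comp] at this
    exact this
  have hex := cone_ex3 C z m (m + 1) rfl
  have hsurj : Function.Surjective
      (homologyδOfTriangle (mappingCone.triangle (z • 𝟙 C)) m (m + 1) rfl).hom := by
    have e1 := CochainComplex.homologyMap_exact₁_of_distTriang _ (cone_dist C z) m (m + 1) rfl
    rw [← ModuleCat.epi_iff_surjective]
    have hg0 : (ShortComplex.mk _ _ (CochainComplex.homologyδOfTriangle_homologyMap _
      (cone_dist C z) m (m + 1) rfl)).g = 0 := hφ0 (m + 1)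
    exact (e1.epi_f_iff).2 hg0
  refine ⟨LinearEquiv.toModuleIso (splitEquiv
    (homologyMap (mappingCone.inr (z • 𝟙 C)) m).hom
    (homologyδOfTriangle (mappingCone.triangle (z • 𝟙 C)) m (m + 1) rfl).hom
    (homologyMap ρ m).hom hex hsurj ?_)⟩
  intro x
  have := congrArg (fun t => t.hom x) (hρm m)
  exact this

noncomputable def appendConeIso (l : List A) (y : A) (M : ModuleCat.{u} A)
    (e : Koszul.koszul A (l ++ [y]) ≅ mappingCone (y • 𝟙 (Koszul.koszul A l))) :
    CM (l ++ [y]) M ≅ mappingCone (y • 𝟙 (CM l M)) :=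
  (tensF M).mapIso e ≪≫
    mappingCone.mapHomologicalComplexIso (y • 𝟙 (Koszul.koszul A l)) (tensorRight M) ≪≫
    coneEqIso (by rw [tensF_map_smul, CategoryTheory.Functor.map_id]; rfl)

theorem append_homology (l : List A) (y : A) (hy : y ∈ Ideal.span {a | a ∈ l})
    (M : ModuleCat.{u} A) (m : ℤ) :
    Nonempty ((CM (l ++ [y]) M).homology m ≅
      ModuleCat.of A ((CM l M).homology m × (CM l M).homology (m + 1))) := by
  obtain ⟨e⟩ := Helper98.KoszulLES.koszul_append_singleton_iso l y
  obtain ⟨e'⟩ := cone_homology_split (CM l M) y (nullH_map M _ y (nullH_of_mem_span l y hy)) m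
  exact ⟨(HomologicalComplex.homologyFunctor _ _ m).mapIso (appendConeIso l y M e) ≪≫ e'⟩

noncomputable def castLE (H : ℤ → ModuleCat.{u} A) {a b : ℤ} (h : a = b) : H a ≃ₗ[A] H b :=
  (eqToIso (congrArg H h)).toLinearEquiv

def Q (H G : ℤ → ModuleCat.{u} A) (r : ℕ) : Prop :=
  ∃ (ι : Type) (_ : Finite ι) (d : ι → ℕ),
    (∀ j : ℕ, Nat.card {i // d i = j} = r.choose j) ∧
      ∀ m : ℤ, Nonempty (G m ≅ ModuleCat.of A (∀ i : ι, H (m + (d i : ℤ))))

lemma Q_zero (H : ℤ → ModuleCat.{u} A) : Q H H 0 := by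
  refine ⟨Unit, inferInstance, fun _ => 0, ?_, ?_⟩
  · intro j
    rcases j with _ | j
    · rw [Nat.choose_self]
      have : Unique {i : Unit // (0 : ℕ) = 0} := ⟨⟨⟨(), rfl⟩⟩, fun x => Subtype.ext rfl⟩
      exact Nat.card_unique
    · rw [Nat.choose_zero_succ]
      have : IsEmpty {i : Unit // (0 : ℕ) = j + 1} := ⟨fun x => by have := x.2; omega⟩
      exact Nat.card_of_isEmpty
  · intro m
    refine ⟨LinearEquiv.toModuleIso ?_⟩
    exact (castLE H (by simp : m = m + ((0 : ℕ) : ℤ))) ≪≫ₗ
      (LinearEquiv.funUnique Unit A (H (m + ((0 : ℕ) : ℤ)))).symm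

lemma Q_succ (H G G' : ℤ → ModuleCat.{u} A) (r : ℕ) (hQ : Q H G r)
    (hG : ∀ m : ℤ, Nonempty (G' m ≅ ModuleCat.of A (G m × G (m + 1)))) : Q H G' (r + 1) := by
  obtain ⟨ι, _, d, hcount, hiso⟩ := hQ
  refine ⟨ι ⊕ ι, inferInstance, Sum.elim d (fun i => d i + 1), ?_, ?_⟩
  · intro j
    rw [Nat.card_congr (Equiv.subtypeSum
      (p := fun i' : ι ⊕ ι => Sum.elim d (fun i => d i + 1) i' = j)), Nat.card_sum]
    have h1 : Nat.card {a : ι // Sum.elim d (fun i => d i + 1) (Sum.inl a) = j} = r.choose j :=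
      hcount j
    rw [h1]
    rcases j with _ | j
    · have : IsEmpty {i : ι // Sum.elim d (fun i => d i + 1) (Sum.inr i) = 0} :=
        ⟨fun x => by have := x.2; simp at this⟩
      rw [Nat.card_of_isEmpty, Nat.choose_zero_right, Nat.choose_zero_right]
    · have h2 : Nat.card {i : ι // Sum.elim d (fun i => d i + 1) (Sum.inr i) = j + 1} =
          r.choose j := by
        rw [← hcount j]
        exact Nat.card_congr (Equiv.subtypeEquivRight (fun i => by
          simp only [Sum.elim_inr]; omega))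
      rw [h2, Nat.choose_succ_succ, add_comm]
  · intro m
    obtain ⟨e0⟩ := hG m
    obtain ⟨e1⟩ := hiso m
    obtain ⟨e2⟩ := hiso (m + 1)
    refine ⟨e0 ≪≫ LinearEquiv.toModuleIso ?_⟩
    refine LinearEquiv.prodCongr e1.toLinearEquiv e2.toLinearEquiv ≪≫ₗ ?_
    refine ?_ ≪≫ₗ (LinearEquiv.sumPiEquivProdPi A ι ι
      (fun i' => H (m + ((Sum.elim d (fun i => d i + 1) i' : ℕ) : ℤ)))).symm
    refine LinearEquiv.prodCongr (LinearEquiv.refl A _) ?_
    exact LinearEquiv.piCongrRight fun i => castLE H (by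
      simp only [Sum.elim_inr]; push_cast; ring)

lemma Q_final (H G : ℤ → ModuleCat.{u} A) (r : ℕ) (hQ : Q H G r) (m : ℤ) :
    Nonempty (G m ≅ ModuleCat.of A ((j : Fin (r + 1)) → Fin (r.choose j) → H (m + j))) := by
  obtain ⟨ι, _, d, hcount, hiso⟩ := hQ
  obtain ⟨e1⟩ := hiso m
  have hlt : ∀ i, d i < r + 1 := by
    intro i
    by_contra hcon
    have h0 : r.choose (d i) = 0 := Nat.choose_eq_zero_of_lt (by omega)
    have h1 := hcount (d i)
    rw [h0] at h1
    have h2 : IsEmpty {i' // d i' = d i} := by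
      rcases (Nat.card_eq_zero.1 h1) with h | h
      · exact h
      · exact absurd (inferInstance : Finite {i' // d i' = d i}) (not_finite_iff_infinite.2 h)
    exact h2.false ⟨i, rfl⟩
  let dt : ι → Fin (r + 1) := fun i => ⟨d i, hlt i⟩
  have hcount' : ∀ j : Fin (r + 1), Nat.card {i // dt i = j} = r.choose j := by
    intro j
    rw [← hcount j]
    exact Nat.card_congr (Equiv.subtypeEquivRight (fun i => by
      simp only [dt, Fin.ext_iff]))
  let σ : ι ≃ Σ j : Fin (r + 1), Fin (r.choose j) :=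
    (Equiv.sigmaFiberEquiv dt).symm.trans
      (Equiv.sigmaCongrRight fun j => Finite.equivFinOfCardEq (hcount' j))
  have hσ : ∀ i, ((σ i).1 : ℕ) = d i := fun i => rfl
  refine ⟨e1 ≪≫ LinearEquiv.toModuleIso ?_⟩
  refine (LinearEquiv.piCongrRight fun i => castLE H (by rw [hσ i])) ≪≫ₗ
    LinearEquiv.piCongrLeft A (fun p : Σ j : Fin (r + 1), Fin (r.choose j) =>
      H (m + ((p.1 : ℕ) : ℤ))) σ ≪≫ₗ ?_
  exact LinearEquiv.piCurry A (fun (j : Fin (r + 1)) (_ : Fin (r.choose j)) =>
    (H (m + ((j : ℕ) : ℤ)) : Type u))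

theorem main_Q (M : ModuleCat.{u} A) (xs ys : List A)
    (hy : ∀ y ∈ ys, y ∈ Ideal.span {a | a ∈ xs}) :
    Q (fun m => (CM xs M).homology m) (fun m => (CM (xs ++ ys) M).homology m) ys.length := by
  induction ys using List.reverseRecOn with
  | nil =>
    rw [List.append_nil]
    exact Q_zero _
  | append_singleton ys y ih =>
    have hy' : ∀ y ∈ ys, y ∈ Ideal.span {a | a ∈ xs} := fun t ht =>
      hy t (List.mem_append_left _ ht)
    have hyy : y ∈ Ideal.span {a | a ∈ xs ++ ys} := by
      have h1 := hy y (List.mem_append_right _ (List.mem_singleton_self y))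
      refine Ideal.span_mono ?_ h1
      intro a ha
      exact List.mem_append_left _ ha
    rw [List.length_append, List.length_singleton, ← List.append_assoc]
    exact Q_succ _ _ _ _ (ih hy') (fun m => append_homology (xs ++ ys) y hyy M m)

end

/-- Let A be a commutative ring, M an A-module, x = (x_1, …, x_s) a sequence in A and y_1, …, y_r
elements of the ideal (x_1, …, x_s). Then for every integer m, the m-th cohomology module of the
complex K(x_1, …, x_s, y_1, …, y_r) ⊗_A M (Koszul complex of the concatenated sequence in the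
iterated mapping-cone model, tensored termwise with M) is isomorphic as an A-module to the direct
sum over j = 0, …, r of (r choose j) copies of the (m + j)-th cohomology module of K(x_1, …, x_s)
⊗_A M (existence of an A-linear isomorphism). In the published indexing: H^{-q}(K(x, y) ⊗ M) ≅
⊕_{i+j=q} H^{-i}(K(x) ⊗ M) ⊗ ∧^j A^r. -/
theorem result (A : Type u) [CommRing A] (M : ModuleCat.{u} A)
    (xs ys : List A) (hy : ∀ y ∈ ys, y ∈ Ideal.span {a | a ∈ xs}) (m : ℤ) :
    Nonempty ((DRing.tensorCx (Koszul.koszul A (xs ++ ys)) M).homology m ≅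
      ModuleCat.of A ((j : Fin (ys.length + 1)) → Fin (ys.length.choose j) →
        (DRing.tensorCx (Koszul.koszul A xs) M).homology (m + j))) := by
  exact Groth.Agent.S15822.Q_final _ _ _ (Groth.Agent.S15822.main_Q M xs ys hy) m

end Groth.Agent.S15822
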