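import Groth.Statements.S15824
import Mathlib.Tactic
import Groth.Agent.Lib.Helper43.DepthZero
import Groth.Agent.Lib.Helper94.RegImmPt2
import Groth.Agent.Lib.Helper77.ProjNormal
-- import your own Groth.Agent.* helpers here

set_option autoImplicit false
universe u
open CategoryTheory AlgebraicGeometry
open RegImm

namespace Groth.Agent.S15824

/-- Let X be a locally Noetherian scheme all of whose local rings are Cohen–Macaulay, and i : Z → X a
closed immersion which is regular (around every point, on some affine open of X the ideal of Z is
generated by a regular sequence). Then Z has no embedded points (each associated point of Z is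
generic in an irreducible component): for every point z of Z, if the maximal ideal of O_{Z,z} is an
associated prime of O_{Z,z} (as a module over itself), then O_{Z,z} has Krull dimension 0. (The
published statement takes X Noetherian and Z a local complete intersection subscheme; the assertion
is local on X and uses only that the ideal of Z is locally generated by a regular sequence.) -/
theorem result {X Z : Scheme.{u}}
    [IsLocallyNoetherian X] (hCM : ∀ x : X, LocCoh.IsCohenMacaulayLocalRing (X.presheaf.stalk x))
    (i : Z ⟶ X) [IsClosedImmersion i] (hi : RegImm.IsRegularImmersion RegImm.Kind.regular i) (z : Z)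
    (hz : IsAssociatedPrime (IsLocalRing.maximalIdeal (Z.presheaf.stalk z)) (Z.presheaf.stalk z)) :
    ringKrullDim (Z.presheaf.stalk z) = 0 := by
  obtain ⟨rs, hrs, hker⟩ :=
    Groth.Agent.Lib.Helper94.RegImmPt2.stalk_of_isRegularImmersionAt i z (hi.2 z)
  haveI := hCM (i z)
  have hsurj : Function.Surjective (i.stalkMap z).hom := i.stalkMap_surjective z
  let e : (X.presheaf.stalk (i z) ⧸ RingHom.ker (i.stalkMap z).hom) ≃+* Z.presheaf.stalk z :=
    RingHom.quotientKerEquivOfSurjective hsurj
  have hmem : ∀ x ∈ rs, x ∈ IsLocalRing.maximalIdeal (X.presheaf.stalk (i z)) := by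
    intro x hx
    have h1 : x ∈ RingHom.ker (i.stalkMap z).hom := by
      rw [hker]
      exact Ideal.subset_span hx
    exact IsLocalRing.le_maximalIdeal (RingHom.ker_ne_top _) h1
  obtain ⟨h1, -⟩ := Groth.Agent.Lib.Helper77.ProjNormal.quot_CM (X.presheaf.stalk (i z)) rs hmem
    hrs.toIsWeaklyRegular _ hker (Z.presheaf.stalk z) e
  rw [h1, Groth.Agent.Lib.Helper43.DepthZero.depth_eq_zero_of_isAssociatedPrime _ hz]
  rfl

end Groth.Agent.S15824
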