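import Groth.Statements.S15827
import Groth.Agent.Lib.Helper94.ExtTwA

set_option autoImplicit false
universe u
open CategoryTheory AlgebraicGeometry
open ExtPow

namespace Groth.Agent.S15827


/-- Let X be a scheme, E a finite locally free O_X-module and L a finite locally free O_X-module of rank
1 (an invertible module), and k a natural number. If M is a k-th exterior power of E ⊗ L and N is a
k-th exterior power of E (affine-local characterisation of exterior powers), then M is isomorphic to
N ⊗ L^{⊗k} as an O_X-module (existence of an isomorphism; the published isomorphism is induced by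
(e_1 ⊗ l_1) ∧ ⋯ ∧ (e_k ⊗ l_k) ↦ (e_1 ∧ ⋯ ∧ e_k) ⊗ l_1 ⋯ l_k). -/
theorem result {X : Scheme.{u}} (E L : X.Modules)
    (hE : FlatMod.IsFinLocFree E) (hL : FlatMod.IsFinLocFreeOfRank 1 L) (k : ℕ) (M N : X.Modules)
    (hM : ExtPow.IsExtPow k (CohB1.tensorMod E L) M) (hN : ExtPow.IsExtPow k E N) :
    Nonempty (M ≅ CohB1.tensorMod N (CohB1.tensorPow L k)) := by
  have hL' : PicF.IsInvertible L := by
    intro x
    obtain ⟨U, hxU, ⟨e⟩⟩ := hL x
    exact ⟨U, hxU, ⟨e ≪≫ Limits.coproductUniqueIso (fun _ : Fin 1 => Coh.structureModule _)⟩⟩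
  obtain ⟨φM, hφM⟩ := hM
  obtain ⟨φN, hφN⟩ := hN
  exact Groth.Agent.Lib.Helper94.ExtTwA.main k (fun U => φM U) (fun U => φN U) hL'
    (fun U V h e => hφM U V h e) (fun U V h e => hφN U V h e)


end Groth.Agent.S15827
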