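import Groth.Statements.S15832
import Mathlib.Topology.Bases
import Mathlib.Tactic

set_option autoImplicit false
universe u
open TopGrp

namespace Groth.Agent.S15832

theorem aux (T : Type u) [Group T] (τ : TopologicalSpace T) :
    @NonarchimedeanGroup T _ (TopologicalSpace.generateFrom
      {S : Set T | ∃ (Γ : @OpenSubgroup T _ τ) (x y : T),
        S = (fun g : T => x * g * y) '' (Γ : Set T)}) := by
  set B : Set (Set T) := {S : Set T | ∃ (Γ : @OpenSubgroup T _ τ) (x y : T),
        S = (fun g : T => x * g * y) '' (Γ : Set T)} with hB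
  letI τ' : TopologicalSpace T := TopologicalSpace.generateFrom B
  have hBopen : ∀ S ∈ B, @IsOpen T τ' S :=
    fun S hS => TopologicalSpace.isOpen_generateFrom_of_mem hS
  have hmem : ∀ (Γ : @OpenSubgroup T _ τ) (x y : T),
      (fun g : T => x * g * y) '' (Γ : Set T) ∈ B := fun Γ x y => ⟨Γ, x, y, rfl⟩
  haveI hcm : @ContinuousMul T τ' _ := by
    refine @ContinuousMul.mk T τ' _ ?_
    apply continuous_generateFrom_iff.mpr
    rintro S ⟨Γ, x, y, rfl⟩
    rw [isOpen_prod_iff]
    rintro a b ⟨γ, hγ, hab⟩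
    have hb : b = a⁻¹ * (x * γ * y) := by
      have : x * γ * y = a * b := hab
      rw [this]; group
    refine ⟨(fun g => x * g * (x⁻¹ * a)) '' (Γ : Set T),
      (fun g => (b * y⁻¹) * g * y) '' (Γ : Set T), hBopen _ (hmem _ _ _), hBopen _ (hmem _ _ _),
      ⟨1, one_mem Γ, by group⟩, ⟨1, one_mem Γ, by group⟩, ?_⟩
    rintro ⟨p, q⟩ ⟨⟨γ₁, hγ₁, hp⟩, ⟨γ₂, hγ₂, hq⟩⟩
    refine ⟨γ₁ * γ * γ₂, mul_mem (mul_mem hγ₁ hγ) hγ₂, ?_⟩
    simp only at hp hq
    change x * (γ₁ * γ * γ₂) * y = p * q
    rw [← hp, ← hq, hb]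
    group
  haveI hci : @ContinuousInv T τ' _ := by
    refine @ContinuousInv.mk T τ' _ ?_
    apply continuous_generateFrom_iff.mpr
    rintro S ⟨Γ, x, y, rfl⟩
    have hpre : (fun g : T => g⁻¹) ⁻¹' ((fun g => x * g * y) '' (Γ : Set T)) =
        (fun g => y⁻¹ * g * x⁻¹) '' (Γ : Set T) := by
      ext g
      constructor
      · rintro ⟨γ, hγ, h⟩
        refine ⟨γ⁻¹, inv_mem hγ, ?_⟩
        have h' : x * γ * y = g⁻¹ := h
        have hg : g = (x * γ * y)⁻¹ := by rw [h', inv_inv]
        rw [hg]; group
      · rintro ⟨γ, hγ, rfl⟩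
        refine ⟨γ⁻¹, inv_mem hγ, ?_⟩
        change x * γ⁻¹ * y = (y⁻¹ * γ * x⁻¹)⁻¹
        group
    rw [hpre]
    exact hBopen _ (hmem _ _ _)
  haveI htg : @IsTopologicalGroup T τ' _ := @IsTopologicalGroup.mk T τ' _ hcm hci
  refine @NonarchimedeanGroup.mk T _ τ' htg ?_
  intro U hU
  have hbasis := TopologicalSpace.isTopologicalBasis_of_subbasis (rfl : τ' = TopologicalSpace.generateFrom B)
  obtain ⟨W, ⟨F, ⟨hFfin, hFB⟩, rfl⟩, h1W, hWU⟩ := hbasis.mem_nhds_iff.mp hU
  have hsub : ∀ S ∈ F, ∃ H : Subgroup T, (H : Set T) = S := by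
    intro S hS
    obtain ⟨Γ, x, y, rfl⟩ := hFB hS
    have h1 : (1 : T) ∈ (fun g => x * g * y) '' (Γ : Set T) := h1W _ hS
    obtain ⟨γ₀, hγ₀, h10⟩ := h1
    have hy : y = γ₀⁻¹ * x⁻¹ := by
      have : x * γ₀ * y = 1 := h10
      have h2 : y = (x * γ₀)⁻¹ := eq_inv_of_mul_eq_one_right this
      rw [h2]; group
    refine ⟨(Γ : Subgroup T).map (MulAut.conj x).toMonoidHom, ?_⟩
    ext g
    constructor
    · rintro ⟨γ, hγ, rfl⟩
      refine ⟨γ * γ₀, mul_mem hγ hγ₀, ?_⟩
      change x * (γ * γ₀) * y = x * γ * x⁻¹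
      rw [hy]; group
    · rintro ⟨γ, hγ, rfl⟩
      refine ⟨γ * γ₀⁻¹, mul_mem hγ (inv_mem hγ₀), ?_⟩
      change x * (γ * γ₀⁻¹) * x⁻¹ = x * γ * y
      rw [hy]; group
  choose! H hH using hsub
  have hV : ((⨅ S ∈ F, H S : Subgroup T) : Set T) = ⋂₀ F := by
    ext g
    simp only [SetLike.mem_coe, Subgroup.mem_iInf, Set.mem_sInter]
    constructor
    · intro h S hS
      rw [← hH S hS]; exact h S hS
    · intro h S hS
      have := h S hS
      rw [← hH S hS] at this; exact this
  have hVopen : @IsOpen T τ' ((⨅ S ∈ F, H S : Subgroup T) : Set T) := by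
    rw [hV]; exact hFfin.isOpen_sInter (fun S hS => hBopen S (hFB hS))
  refine ⟨@OpenSubgroup.mk T _ τ' (⨅ S ∈ F, H S) hVopen, ?_⟩
  change ((⨅ S ∈ F, H S : Subgroup T) : Set T) ⊆ U
  rw [hV]; exact hWU

/-- For a group T with a topology, let B be the family of two-sided translates x Γ y, where Γ runs over
the subgroups of T open in the given topology and x, y over T; the topology generated by B makes T a
topological group in which every neighbourhood of the identity contains a subgroup open for that
topology. (The published statement is for the free topological product of two Noohi groups whose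
open subgroups form a basis of neighbourhoods of the identity; the argument uses only the group
structure and the chosen family of subgroups, so the row is stated for an arbitrary group with a
topology. The published conventions include Hausdorffness in the word topological group; this row
does not assert it, and the published argument does not prove it.) -/
theorem result (T : Type u) [Group T]
    [TopologicalSpace T] :
    @NonarchimedeanGroup T _ (TopologicalSpace.generateFrom
      {S : Set T | ∃ (Γ : OpenSubgroup T) (x y : T), S = (fun g : T => x * g * y) '' (Γ : Set T)}) := by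
  exact aux T inferInstance

end Groth.Agent.S15832
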