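import Groth.Statements.S15833
import Mathlib.AlgebraicGeometry.IdealSheaf.Basic
import Mathlib.Tactic

set_option autoImplicit false
universe u
open EtBase

namespace Groth.Agent.S15833

open CategoryTheory CategoryTheory.Limits in
noncomputable def liftEquiv {C : Type*} [Category C] [HasPullbacks C] {X X₀ Y W V : C}
    (f : Y ⟶ X) (i : X₀ ⟶ X)
    (φ : W ⟶ V) (a₁ : W ⟶ Y) (a₂ : V ⟶ X₀) (a₃ : V ⟶ X) (h : a₂ ≫ i = a₃)
    (b₁ : W ⟶ pullback f i) (hb₁ : b₁ ≫ pullback.fst f i = a₁)
    (sq : CommSq a₁ φ f a₃) (sq' : CommSq b₁ φ (pullback.snd f i) a₂) :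
    sq.LiftStruct ≃ sq'.LiftStruct where
  toFun l := ⟨pullback.lift l.l a₂ (by rw [l.fac_right, h]), by
      apply pullback.hom_ext
      · rw [Category.assoc, pullback.lift_fst, l.fac_left, hb₁]
      · rw [Category.assoc, pullback.lift_snd, sq'.w], by rw [pullback.lift_snd]⟩
  invFun l' := ⟨l'.l ≫ pullback.fst f i, by rw [← Category.assoc, l'.fac_left, hb₁], by
      rw [Category.assoc, pullback.condition, ← Category.assoc, l'.fac_right, h]⟩
  left_inv l := by
    ext
    exact pullback.lift_fst _ _ _
  right_inv l' := by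
    ext
    · exact pullback.lift_fst _ _ _
    · exact (pullback.lift_snd _ _ _).trans l'.fac_right.symm

open CategoryTheory CategoryTheory.Limits AlgebraicGeometry in
theorem ker_le_nilradical {X X₀ : Scheme.{u}} (i : X₀ ⟶ X)
    [IsClosedImmersion i] [Surjective i] : i.ker ≤ X.nilradical := by
  rw [← Scheme.IdealSheafData.vanishingIdeal_top,
    ← Scheme.IdealSheafData.le_support_iff_le_vanishingIdeal]
  intro x _
  have h := Scheme.Hom.support_ker i
  have hx : x ∈ ((Scheme.Hom.ker i).support : Set X) := by
    rw [h]
    exact subset_closure (i.surjective x)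
  exact hx

open CategoryTheory CategoryTheory.Limits AlgebraicGeometry in
theorem nilradical_le_ker {X Z : Scheme.{u}} (g : Z ⟶ X) [IsReduced Z] :
    X.nilradical ≤ g.ker := by
  rw [Scheme.Hom.ker, Scheme.IdealSheafData.le_ofIdeals_iff]
  intro U x hx
  rw [Scheme.nilradical, Scheme.IdealSheafData.radical_ideal] at hx
  obtain ⟨n, hn⟩ := hx
  rw [RingHom.mem_ker]
  have h0 : x ^ n = 0 := by simpa using hn
  have : ((g.app U).hom x) ^ n = 0 := by rw [← map_pow, h0, map_zero]
  exact IsReduced.eq_zero _ ⟨n, this⟩

open CategoryTheory CategoryTheory.Limits AlgebraicGeometry in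
/-- Let i : X₀ ⟶ X be a surjective closed immersion of schemes and f : Y ⟶ X a morphism. Then f
satisfies the valuative criterion (existence and uniqueness of a lift in every valuative square,
over arbitrary valuation rings) if and only if its base change Y ×_X X₀ ⟶ X₀ does. (The published
statement takes X locally Noetherian and connected, X₀ the reduced closed subscheme with the same
underlying space and f étale, and combines this step with the equivalence between étale schemes over
X and over X₀ to identify the geometric coverings, i.e. the étale morphisms satisfying the valuative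
criterion, of X and of X₀; the argument for this step uses only that X₀ ⟶ X is a surjective closed
immersion and that valuation rings are reduced.) -/
theorem result {X X₀ Y : Scheme.{u}} (i : X₀ ⟶ X)
    [IsClosedImmersion i] [Surjective i] (f : Y ⟶ X) :
    ValuativeCriterion f ↔ ValuativeCriterion (pullback.snd f i) := by
  constructor
  · intro hf S'
    let S : ValuativeCommSq f :=
      { R := S'.R
        K := S'.K
        i₁ := S'.i₁ ≫ pullback.fst f i
        i₂ := S'.i₂ ≫ i
        commSq := ⟨by
          rw [Category.assoc, pullback.condition, ← Category.assoc, S'.commSq.w,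
            Category.assoc]⟩ }
    obtain ⟨hu⟩ := hf S
    let e := liftEquiv f i (Spec.map (CommRingCat.ofHom (algebraMap S'.R S'.K)))
      (S'.i₁ ≫ pullback.fst f i) S'.i₂ (S'.i₂ ≫ i) rfl S'.i₁ rfl S.commSq S'.commSq
    exact ⟨e.symm.unique⟩
  · intro hf' S
    have hle : i.ker ≤ S.i₂.ker := (ker_le_nilradical i).trans (nilradical_le_ker S.i₂)
    have hj₂ : IsClosedImmersion.lift i S.i₂ hle ≫ i = S.i₂ := IsClosedImmersion.lift_fac _ _ _
    have hcond : S.i₁ ≫ f = (Spec.map (CommRingCat.ofHom (algebraMap S.R S.K)) ≫
        IsClosedImmersion.lift i S.i₂ hle) ≫ i := by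
      rw [S.commSq.w, Category.assoc, hj₂]
    let S' : ValuativeCommSq (pullback.snd f i) :=
      { R := S.R
        K := S.K
        i₁ := pullback.lift S.i₁ (Spec.map (CommRingCat.ofHom (algebraMap S.R S.K)) ≫
          IsClosedImmersion.lift i S.i₂ hle) hcond
        i₂ := IsClosedImmersion.lift i S.i₂ hle
        commSq := ⟨by rw [pullback.lift_snd]⟩ }
    obtain ⟨hu⟩ := hf' S'
    let e := liftEquiv f i (Spec.map (CommRingCat.ofHom (algebraMap S.R S.K))) S.i₁
      (IsClosedImmersion.lift i S.i₂ hle) S.i₂ hj₂
      (pullback.lift S.i₁ (Spec.map (CommRingCat.ofHom (algebraMap S.R S.K)) ≫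
          IsClosedImmersion.lift i S.i₂ hle) hcond) (pullback.lift_fst _ _ _) S.commSq S'.commSq
    exact ⟨e.unique⟩

end Groth.Agent.S15833
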