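import Groth.Statements.S15835
import Mathlib.Algebra.Polynomial.Expand
import Mathlib.Algebra.CharP.Lemmas
import Mathlib.Algebra.CharP.Invertible
import Mathlib.RingTheory.Polynomial.Basic
import Mathlib.Tactic

set_option autoImplicit false
universe u
open SprIso

namespace Groth.Agent.S15835

open Polynomial in
theorem key (p : ℕ) [Fact p.Prime] (R : Type u) [CommRing R] [CharP R p] (m n' : ℕ)
    (hn' : 0 < n') (hpn' : ¬ p ∣ n') (c : R) :
    (X + C c : R[X]) ^ (p ^ m * n') = X ^ (p ^ m * n') ↔ c ^ (p ^ m) = 0 := by
  have hp : p.Prime := Fact.out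
  have h1 : (X + C c : R[X]) ^ (p ^ m * n') = expand R (p ^ m) ((X + C (c ^ (p ^ m))) ^ n') := by
    rw [pow_mul, add_pow_char_pow, map_pow, map_add, expand_X, expand_C, C_pow]
  have h2 : (X : R[X]) ^ (p ^ m * n') = expand R (p ^ m) (X ^ n') := by
    rw [map_pow, expand_X, pow_mul]
  rw [h1, h2, expand_inj (pow_pos hp.pos m)]
  constructor
  · intro h
    have h3 := congrArg (fun q : R[X] => q.coeff (n' - 1)) h
    simp only [coeff_X_add_C_pow, coeff_X_pow] at h3
    have h4 : n' - (n' - 1) = 1 := by omega
    have h5 : n'.choose (n' - 1) = n' := by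
      obtain ⟨k, rfl⟩ := Nat.exists_eq_succ_of_ne_zero hn'.ne'
      simp
    have h6 : ¬ (n' - 1 = n') := by omega
    rw [h4, h5, if_neg h6, pow_one] at h3
    have hu : IsUnit ((n' : ℕ) : R) := (CharP.isUnit_natCast_iff hp).mpr hpn'
    exact (hu.mul_left_eq_zero).mp h3
  · intro h
    rw [h, C_0, add_zero]

/-- Over a commutative ring R of prime characteristic p, let n ≥ 1 and let p^m be the largest power of p
dividing n. The locus of n × n matrices with characteristic polynomial t^n is stable under adding a
scalar matrix a·1 with n·a = 0 exactly when a^(p^m) = 0: for X with characteristic polynomial t^n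
and such an a, the matrix X + a·1 has characteristic polynomial t^n if and only if a^(p^m) = 0.
(Stated on points with values in an arbitrary ring of characteristic p; the scheme-theoretic
assertion about the nilpotent scheme of SL_n is this statement for all such rings.) -/
theorem result (p : ℕ) [Fact p.Prime] (R : Type u) [CommRing R]
    [CharP R p] (n : ℕ) (hn : 0 < n) (X : Matrix (Fin n) (Fin n) R) (hX : X.charpoly = Polynomial.X ^ n)
    (a : R) (ha : (n : R) * a = 0) :
    (X + Matrix.scalar (Fin n) a).charpoly = Polynomial.X ^ n ↔ a ^ (p ^ padicValNat p n) = 0 := by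
  have hp : p.Prime := Fact.out
  have hdvd : p ^ padicValNat p n ∣ n := pow_padicValNat_dvd
  obtain ⟨n', hn'⟩ := hdvd
  have hn'pos : 0 < n' := by
    rcases Nat.eq_zero_or_pos n' with h | h
    · rw [h, mul_zero] at hn'; omega
    · exact h
  have hpn' : ¬ p ∣ n' := by
    rintro ⟨k, rfl⟩
    have : p ^ (padicValNat p n + 1) ∣ n := ⟨k, by
      conv_lhs => rw [hn']
      rw [pow_succ]; ring⟩
    exact pow_succ_padicValNat_not_dvd hn.ne' this
  have hchar : (X + Matrix.scalar (Fin n) a).charpoly =
      (Polynomial.X + Polynomial.C (-a)) ^ n := by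
    have h1 : X + Matrix.scalar (Fin n) a = X - Matrix.scalar (Fin n) (-a) := by
      rw [map_neg, sub_neg_eq_add]
    rw [h1, Matrix.charpoly_sub_scalar, hX, Polynomial.X_pow_comp]
  rw [hchar]
  have hk := key p R (padicValNat p n) n' hn'pos hpn' (-a)
  rw [← hn'] at hk
  rw [hk]
  constructor
  · intro h
    have : a ^ (p ^ padicValNat p n) = (-1) ^ (p ^ padicValNat p n) * (-a) ^ (p ^ padicValNat p n) := by
      rw [← mul_pow]; simp
    rw [this, h, mul_zero]
  · intro h
    rw [neg_pow, h, mul_zero]

end Groth.Agent.S15835
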