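import Groth.Statements.S15837
import Groth.Agent.Lib.Helper6.MT7

set_option autoImplicit false
universe u
open CategoryTheory MonoidalCategory CartesianMonoidalCategory MonObj GrpObj AlgebraicGeometry
open SprIso

namespace Groth.Agent.S15837

/-- Let S be a scheme, G an S-group scheme of finite presentation acting on an S-scheme X which is
affine and of finite presentation over S, and Y a closed subscheme of X which is finite, flat and of
finite presentation over S. Then the functorial stabilizer of Y in G — whose points with values in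
an S-scheme T are the points g of G such that g acts as the identity on every point of Y with values
in a scheme over T — is represented by a closed subscheme of G whose inclusion is of finite
presentation. -/
theorem result (S : Scheme.{u}) (G X Y : Over S) [GrpObj G]
    [LocallyOfFinitePresentation G.hom] [QuasiCompact G.hom] [QuasiSeparated G.hom]
    [IsAffineHom X.hom] [LocallyOfFinitePresentation X.hom] (a : AlgGrp.Action G X)
    (i : Y ⟶ X) [IsClosedImmersion i.left] [IsFinite Y.hom] [Flat Y.hom] [LocallyOfFinitePresentation Y.hom] :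
    ∃ (Z : Over S) (j : Z ⟶ G), IsClosedImmersion j.left ∧ LocallyOfFinitePresentation j.left ∧
      ∀ (T : Over S) (g : T ⟶ G), (∃ z : T ⟶ Z, z ≫ j = g) ↔
        ∀ (T' : Over S) (t : T' ⟶ T) (y : T' ⟶ Y), lift (t ≫ g) (y ≫ i) ≫ a.act = y ≫ i := by
  open Groth.Agent.Lib.Helper6.MultTypeClosed Groth.Agent.Lib.Helper6.EssFreeLocal in
  have hrep : HasRep Y G (QuasiCompact Y.hom) :=
    hasRep_of_essFree Y G (essFree_of_finite_flat Y)
  let m₁ : Y ⊗ G ⟶ X := lift (snd Y G) (fst Y G ≫ i) ≫ a.act
  let m₂ : Y ⊗ G ⟶ X := fst Y G ≫ i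
  have hsep : IsSeparated X.hom := inferInstance
  -- the diagonal of X over S is locally of finite presentation
  have hdiag : LocallyOfFinitePresentation (Limits.pullback.diagonal X.hom) := by
    apply Groth.Agent.Lib.Helper79.lfp_of_comp (g := Limits.pullback.fst X.hom X.hom)
    · rw [Limits.pullback.diagonal_fst]
      infer_instance
    · infer_instance
  have hjfp : LocallyOfFinitePresentation (eqMap X m₁ m₂) := by
    unfold eqMap
    infer_instance
  obtain ⟨T, t, htci, ht, htfp⟩ := hrep (eqMap X m₁ m₂)
  refine ⟨Over.mk (t ≫ G.hom), Over.homMk t rfl, htci, htfp inferInstance hjfp, ?_⟩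
  intro T₀ g
  have key : ∀ (T' : Over S) (x : T' ⟶ T₀) (y : T' ⟶ Y),
      Fac (eqMap X m₁ m₂) (lift y (x ≫ g)).left ↔
      lift (x ≫ g) (y ≫ i) ≫ a.act = y ≫ i := by
    intro T' x y
    rw [fac_eqMap_iff]
    have e1 : lift y (x ≫ g) ≫ m₁ = lift (x ≫ g) (y ≫ i) ≫ a.act := by
      dsimp only [m₁]
      rw [← Category.assoc]
      congr 1
      apply CartesianMonoidalCategory.hom_ext
      · rw [Category.assoc, lift_fst, lift_fst, lift_snd]
      · rw [Category.assoc, lift_snd, lift_snd, lift_fst_assoc]
    have e2 : lift y (x ≫ g) ≫ m₂ = y ≫ i := by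
      dsimp only [m₂]
      rw [lift_fst_assoc]
    rw [← e1, ← e2]
    constructor
    · intro h
      exact Over.OverMorphism.ext h
    · intro h
      exact congrArg (fun m => m.left) h
  constructor
  · rintro ⟨z, hz⟩ T' x y
    rw [← key]
    have h1 : Fac t g.left := ⟨z.left, congrArg (fun m => m.left) hz⟩
    exact (points_iff Y G _ T₀ g).mp ((ht _ g.left).mp h1) T' x y
  · intro hyp
    have h1 := (ht _ g.left).mpr
      ((points_iff Y G _ T₀ g).mpr (fun T' x y => (key T' x y).mpr (hyp T' x y)))
    obtain ⟨l, hl⟩ := h1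
    refine ⟨Over.homMk l ?_, Over.OverMorphism.ext hl⟩
    change l ≫ t ≫ G.hom = T₀.hom
    rw [← Category.assoc, hl, Over.w g]

end Groth.Agent.S15837
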