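import Groth.Statements.S15838
import Mathlib.LinearAlgebra.JordanChevalley
import Mathlib.LinearAlgebra.TensorProduct.Tower
import Mathlib.Tactic

set_option autoImplicit false
universe u
open scoped TensorProduct
open SprIso

namespace Groth.Agent.S15838

theorem mem_adjoin_of_decomp (k : Type u) [Field k] [PerfectField k]
    (V : Type u) [AddCommGroup V] [Module k V] [FiniteDimensional k V]
    (X Y N : Module.End k V) (hY : Y.IsSemisimple) (hN : IsNilpotent N) (hc : Commute Y N)
    (hX : X = Y + N) :
    Y ∈ Algebra.adjoin k {X} ∧ N ∈ Algebra.adjoin k {X} := by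
  obtain ⟨n₀, hn₀, s₀, hs₀, hn₀_nil, hs₀_ss, h₀⟩ := X.exists_isNilpotent_isSemisimple
  have h1 : Commute n₀ X :=
    (Algebra.commute_of_mem_adjoin_singleton_of_commute hn₀ (Commute.refl X)).symm
  have hcomm : Commute n₀ s₀ := Algebra.commute_of_mem_adjoin_singleton_of_commute hs₀ h1
  have heq : N + Y = n₀ + s₀ := by rw [← h₀, hX, add_comm]
  obtain ⟨rfl, rfl⟩ := Module.End.isNilpotent_isSemisimple_unique hN hY hn₀_nil hs₀_ss hc.symm
    hcomm heq
  exact ⟨hs₀, hn₀⟩

theorem commute_baseChange_of_mem_adjoin (k : Type u) [Field k]
    (V : Type u) [AddCommGroup V] [Module k V]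
    (R : Type u) [CommRing R] [Algebra k R] (h : Module.End R (R ⊗[k] V))
    (X T : Module.End k V) (hT : T ∈ Algebra.adjoin k {X})
    (hc : Commute h (X.baseChange R)) : Commute h (T.baseChange R) := by
  have hle : Algebra.adjoin k {X} ≤
      (Subalgebra.centralizer k {h}).comap (Module.End.baseChangeHom k R V) := by
    apply Algebra.adjoin_le
    intro Z hZ
    rw [Set.mem_singleton_iff] at hZ
    subst hZ
    rw [SetLike.mem_coe, Subalgebra.mem_comap, Subalgebra.mem_centralizer_iff]
    intro g hg
    rw [Set.mem_singleton_iff] at hg
    subst hg
    exact hc.eq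
  have := hle hT
  rw [Subalgebra.mem_comap, Subalgebra.mem_centralizer_iff] at this
  exact this h rfl

/-- General linear group case: this is the case G = GL(V), to which the general case reduces along a
closed embedding. Let k be a perfect field and V a finite-dimensional k-vector space. If an
invertible endomorphism g of V has multiplicative Jordan decomposition g = t u (t semisimple, u
unipotent, t and u commuting), then the scheme-theoretic centralizer of g in GL(V) is the
centralizer of u inside the centralizer of t: for every commutative k-algebra R, an R-linear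
endomorphism h of R ⊗ V commutes with g_R if and only if it commutes with both t_R and u_R.
Likewise, if an endomorphism X of V has additive Jordan decomposition X = Y + N (Y semisimple, N
nilpotent, commuting), then h commutes with X_R if and only if it commutes with both Y_R and N_R. -/
theorem result (k : Type u) [Field k] [PerfectField k]
    (V : Type u) [AddCommGroup V] [Module k V] [FiniteDimensional k V]
    (R : Type u) [CommRing R] [Algebra k R] (h : Module.End R (R ⊗[k] V)) :
    (∀ (g t u : Module.End k V), IsUnit g → t.IsSemisimple → IsNilpotent (u - 1) → Commute t u → g = t * u →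
      (Commute h (g.baseChange R) ↔ Commute h (t.baseChange R) ∧ Commute h (u.baseChange R))) ∧
    (∀ (X Y N : Module.End k V), Y.IsSemisimple → IsNilpotent N → Commute Y N → X = Y + N →
      (Commute h (X.baseChange R) ↔ Commute h (Y.baseChange R) ∧ Commute h (N.baseChange R))) := by
  constructor
  · intro g t u hg ht hu htu hgtu
    constructor
    · intro hcg
      have hnil : IsNilpotent (t * (u - 1)) := by
        have hc1 : Commute t (u - 1) := htu.sub_right (Commute.one_right t)
        exact hc1.isNilpotent_mul_left hu
      have hct : Commute t (t * (u - 1)) :=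
        (Commute.refl t).mul_right (htu.sub_right (Commute.one_right t))
      have hsum : g = t + t * (u - 1) := by rw [hgtu]; noncomm_ring
      have hmem := (mem_adjoin_of_decomp k V g t (t * (u - 1)) ht hnil hct hsum).1
      have hcommt := commute_baseChange_of_mem_adjoin k V R h g t hmem hcg
      refine ⟨hcommt, ?_⟩
      have htunit : IsUnit t := by
        rw [hgtu] at hg
        exact ((htu.isUnit_mul_iff).mp hg).1
      have htRunit : IsUnit (t.baseChange R) := by
        exact htunit.map (Module.End.baseChangeHom k R V)
      rw [hgtu, LinearMap.baseChange_mul] at hcg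
      have e1 : t.baseChange R * (h * u.baseChange R) = t.baseChange R * (u.baseChange R * h) := by
        calc t.baseChange R * (h * u.baseChange R)
            = (t.baseChange R * h) * u.baseChange R := by rw [mul_assoc]
          _ = (h * t.baseChange R) * u.baseChange R := by rw [hcommt.eq]
          _ = h * (t.baseChange R * u.baseChange R) := by rw [mul_assoc]
          _ = (t.baseChange R * u.baseChange R) * h := hcg.eq
          _ = t.baseChange R * (u.baseChange R * h) := by rw [mul_assoc]
      exact htRunit.mul_left_cancel e1
    · rintro ⟨h1, h2⟩
      rw [hgtu, LinearMap.baseChange_mul]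
      exact h1.mul_right h2
  · intro X Y N hY hN hYN hX
    constructor
    · intro hcX
      obtain ⟨h1, h2⟩ := mem_adjoin_of_decomp k V X Y N hY hN hYN hX
      exact ⟨commute_baseChange_of_mem_adjoin k V R h X Y h1 hcX,
        commute_baseChange_of_mem_adjoin k V R h X N h2 hcX⟩
    · rintro ⟨h1, h2⟩
      rw [hX, LinearMap.baseChange_add]
      exact h1.add_right h2

end Groth.Agent.S15838
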