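import Groth.Statements.S4599
import Mathlib.AlgebraicGeometry.Morphisms.FormallyUnramified

set_option autoImplicit false
universe u
open AlgebraicGeometry CategoryTheory CategoryTheory.Limits
open EGA41

namespace Groth.Agent.S4599

/-- The diagonal of a morphism locally of finite type is locally of finite presentation. -/
theorem result {Y Z : Scheme.{u}} (g : Y ⟶ Z)
    [LocallyOfFiniteType g] : LocallyOfFinitePresentation (pullback.diagonal g) := by
  wlog hX : (∃ S, Y = Spec S) ∧ ∃ R, Z = Spec R
  · have hR : MorphismProperty.RespectsRight @LocallyOfFinitePresentation.{u} @IsOpenImmersion.{u} := by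
      constructor
      intro X Y Z i hi f hf
      haveI : IsOpenImmersion i := hi
      haveI : LocallyOfFinitePresentation f := hf
      exact (inferInstance : LocallyOfFinitePresentation (f ≫ i))
    let 𝒰Y := Z.affineCover
    let 𝒰X (j : (Z.affineCover.pullback₁ g).I₀) :
        ((Z.affineCover.pullback₁ g).X j).OpenCover := Scheme.affineCover _
    apply IsZariskiLocalAtTarget.of_range_subset_iSup _
      (Scheme.Pullback.range_diagonal_subset_diagonalCoverDiagonalRange g 𝒰Y 𝒰X)
    intro ⟨i, j⟩
    rw [MorphismProperty.arrow_mk_iso_iff (P := @LocallyOfFinitePresentation)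
      (Scheme.Pullback.diagonalRestrictIsoDiagonal g 𝒰Y 𝒰X i j)]
    have hfin : LocallyOfFiniteType ((𝒰X i).f j ≫ pullback.snd g (𝒰Y.f i)) :=
      MorphismProperty.comp_mem _ _ _ inferInstance (MorphismProperty.pullback_snd _ _ inferInstance)
    exact this _ ⟨⟨_, rfl⟩, ⟨_, rfl⟩⟩
  obtain ⟨⟨S, rfl⟩, R, rfl⟩ := hX
  obtain ⟨f, rfl⟩ := Spec.map_surjective g
  rw [HasRingHomProperty.Spec_iff (P := @LocallyOfFiniteType)] at *
  algebraize [f.hom]
  rw [show f = CommRingCat.ofHom (algebraMap R S) from rfl, diagonal_SpecMap R S,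
    MorphismProperty.cancel_right_of_respectsIso (P := @LocallyOfFinitePresentation)]
  rw [HasRingHomProperty.Spec_iff (P := @LocallyOfFinitePresentation)]
  refine RingHom.FinitePresentation.of_surjective _ ?_ ?_
  · intro x
    exact ⟨1 ⊗ₜ x, by simp⟩
  · exact KaehlerDifferential.ideal_fg R S

end Groth.Agent.S4599
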