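import Groth.Statements.S15839
import Groth.Agent.S4599

set_option autoImplicit false
universe u
open CategoryTheory MonoidalCategory CartesianMonoidalCategory MonObj GrpObj AlgebraicGeometry
open SprIso

namespace Groth.Agent.S15839

section
open Limits
set_option backward.isDefEq.respectTransparency false in
theorem lfp_equalizer {S : Scheme.{u}} {X Y : Over S} [LocallyOfFiniteType Y.hom] (f g : X ⟶ Y) :
    LocallyOfFinitePresentation (equalizer.ι f g).left := by
  refine MorphismProperty.of_isPullback
    ((Limits.isPullback_equalizer_prod f g).map (Over.forget _)).flip ?_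
  rw [← MorphismProperty.cancel_right_of_respectsIso @LocallyOfFinitePresentation _
    (Over.prodLeftIsoPullback Y Y).hom]
  convert! (Groth.Agent.S4599.result Y.hom)
  ext1 <;> simp [← Over.comp_left]
end

/-- Let S be a scheme, G an S-group scheme which is affine and of finite presentation over S, and g a
section of G over S. Then the centralizer of g — the subfunctor of G whose points with values in an
S-scheme T are the points x of G with x g_T = g_T x — is represented by a closed subscheme of G
whose inclusion is of finite presentation. -/
theorem result (S : Scheme.{u}) (G : Over S) [GrpObj G]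
    [IsAffineHom G.hom] [LocallyOfFinitePresentation G.hom] (g : 𝟙_ (Over S) ⟶ G) :
    ∃ (Z : Over S) (j : Z ⟶ G), IsClosedImmersion j.left ∧ LocallyOfFinitePresentation j.left ∧
      ∀ (T : Over S) (x : T ⟶ G), (∃ z : T ⟶ Z, z ≫ j = x) ↔
        x * (toUnit T ≫ g) = (toUnit T ≫ g) * x := by
  let f₁ : G ⟶ G := (𝟙 G) * (toUnit G ≫ g)
  let f₂ : G ⟶ G := (toUnit G ≫ g) * (𝟙 G)
  have key : ∀ (T : Over S) (x : T ⟶ G), x ≫ f₁ = x * (toUnit T ≫ g) ∧
      x ≫ f₂ = (toUnit T ≫ g) * x := by
    intro T x
    constructor
    · simp only [f₁, MonObj.comp_mul, Category.comp_id]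
      congr 1
      rw [← Category.assoc]
      congr 1
      exact toUnit_unique _ _
    · simp only [f₂, MonObj.comp_mul, Category.comp_id]
      congr 1
      rw [← Category.assoc]
      congr 1
      exact toUnit_unique _ _
  refine ⟨Limits.equalizer f₁ f₂, Limits.equalizer.ι f₁ f₂, inferInstance, lfp_equalizer _ _, ?_⟩
  intro T x
  rw [← (key T x).1, ← (key T x).2]
  constructor
  · rintro ⟨z, rfl⟩
    rw [Category.assoc, Category.assoc, Limits.equalizer.condition]
  · intro h
    exact ⟨Limits.equalizer.lift x h, Limits.equalizer.lift_ι _ _⟩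

end Groth.Agent.S15839
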