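import Groth.Statements.S15840
import Mathlib.Algebra.Polynomial.Expand
import Mathlib.Algebra.CharP.Lemmas
import Mathlib.RingTheory.Polynomial.Basic
import Mathlib.Tactic

set_option autoImplicit false
universe u
open SprIso

namespace Groth.Agent.S15840

open Polynomial in
theorem choose_eq_zero_of_not_dvd (p : ℕ) [Fact p.Prime] (R : Type u) [CommRing R]
    [CharP R p] (e n' i : ℕ) (h : ¬ p ^ e ∣ i) : (((p ^ e * n').choose i : ℕ) : R) = 0 := by
  have h1 : ((1 + X : R[X]) ^ (p ^ e * n')) = expand R (p ^ e) ((1 + X) ^ n') := by
    rw [pow_mul, add_pow_char_pow, one_pow, map_pow, map_add, map_one, expand_X]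
  have h2 := congrArg (fun q : R[X] => q.coeff i) h1
  simp only [coeff_one_add_X_pow, coeff_expand (pow_pos (Fact.out : p.Prime).pos e), if_neg h] at h2
  exact h2

/-- For G = SL_n (n = r + 1) over a field of characteristic p > 0, write n = m p^e with m prime to p, so
that the identity component of the centre of G is μ_{p^e} embedded diagonally. The character of the
i-th exterior power of the standard representation takes the value C(n, i) α^i at a point α of
μ_{p^e}, and this is constant: for every commutative ring R of characteristic p and every α in R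
with α^(p^e) = 1 one has C(n, i) α^i = C(n, i) in R, for all i. -/
theorem result (p : ℕ) [Fact p.Prime] (R : Type u) [CommRing R]
    [CharP R p] (n : ℕ) (hn : 0 < n) (α : R) (hα : α ^ (p ^ padicValNat p n) = 1) (i : ℕ) :
    (n.choose i : R) * α ^ i = (n.choose i : R) := by
  have hdvd : p ^ padicValNat p n ∣ n := pow_padicValNat_dvd
  obtain ⟨n', hn'⟩ := hdvd
  by_cases hi : p ^ padicValNat p n ∣ i
  · obtain ⟨j, rfl⟩ := hi
    rw [pow_mul, hα, one_pow, mul_one]
  · have := choose_eq_zero_of_not_dvd p R (padicValNat p n) n' i hi
    rw [← hn'] at this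
    rw [this, zero_mul]

end Groth.Agent.S15840
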