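import Groth.Statements.S15841
import Mathlib.LinearAlgebra.TensorProduct.Tower
import Mathlib.Tactic

set_option autoImplicit false
universe u
open scoped TensorProduct
open SprIso

namespace Groth.Agent.S15841

theorem span_aux {k V I : Type*} [Field k] [AddCommGroup V] [Module k V]
    (e : I → V) (f : I → (V →ₗ[k] k)) (A : I → Module.End k V)
    (hA : ∀ i v, A i v = v - f i v • e i) :
    ∀ (l : List I) (v : V), (l.map A).prod v - v ∈ Submodule.span k (e '' {j | j ∈ l}) := by
  intro l
  induction l with
  | nil => intro v; simp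
  | cons i l' ih =>
    intro v
    rw [List.map_cons, List.prod_cons, Module.End.mul_apply, hA]
    have h1 : (l'.map A).prod v - v ∈ Submodule.span k (e '' {j | j ∈ i :: l'}) := by
      refine Submodule.span_mono ?_ (ih v)
      apply Set.image_mono
      intro j hj
      exact List.mem_cons_of_mem _ hj
    have h2 : e i ∈ Submodule.span k (e '' {j | j ∈ i :: l'}) :=
      Submodule.subset_span ⟨i, List.mem_cons_self, rfl⟩
    have h3 : (l'.map A).prod v - f i ((l'.map A).prod v) • e i - v =
        ((l'.map A).prod v - v) - f i ((l'.map A).prod v) • e i := by abel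
    rw [h3]
    exact Submodule.sub_mem _ h1 (Submodule.smul_mem _ _ h2)

theorem abstract_lemma {k V I : Type*} [Field k] [AddCommGroup V] [Module k V] (S : Set I)
    (e : I → V) (f g : I → (V →ₗ[k] k)) (A : I → Module.End k V)
    (hA : ∀ i v, A i v = v - f i v • e i)
    (hg1 : ∀ i ∈ S, g i (e i) = 1) (hg0 : ∀ i ∈ S, ∀ j ∈ S, j ≠ i → g i (e j) = 0) :
    ∀ (l : List I), l.Nodup → (∀ i ∈ l, i ∈ S) → ∀ v : V, (l.map A).prod v = v →
      ∀ i ∈ l, f i v = 0 := by
  intro l
  induction l with
  | nil => intro _ _ v _ i hi; simp at hi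
  | cons i l' ih =>
    intro hnd hS v hv
    rw [List.map_cons, List.prod_cons, Module.End.mul_apply, hA] at hv
    have hiS : i ∈ S := hS i List.mem_cons_self
    have hnd' := List.nodup_cons.mp hnd
    have hspan := span_aux e f A hA l' v
    have hker : Submodule.span k (e '' {j | j ∈ l'}) ≤ LinearMap.ker (g i) := by
      rw [Submodule.span_le]
      rintro _ ⟨j, hj, rfl⟩
      have hjl : j ∈ l' := hj
      have hji : j ≠ i := by
        rintro rfl
        exact hnd'.1 hjl
      exact hg0 i hiS j (hS j (List.mem_cons_of_mem _ hjl)) hji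
    have h1 : (l'.map A).prod v - v = f i ((l'.map A).prod v) • e i :=
      sub_eq_of_eq_add' (sub_eq_iff_eq_add.mp hv)
    have h2 : g i ((l'.map A).prod v - v) = 0 := hker hspan
    rw [h1, map_smul, hg1 i hiS, smul_eq_mul, mul_one] at h2
    rw [h2, zero_smul, sub_zero] at hv
    intro j hj
    rcases List.mem_cons.mp hj with rfl | hj'
    · rw [← hv]; exact h2
    · exact ih hnd'.2 (fun j hj => hS j (List.mem_cons_of_mem _ hj)) v hv j hj'

theorem hA_lemma {ι M N : Type u} [AddCommGroup M] [AddCommGroup N]
    (P : RootPairing ι ℤ M N) (k : Type u) [Field k] (i : ι) (v : k ⊗[ℤ] N) :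
    (LinearMap.baseChange k ((P.coreflection i : N ≃ₗ[ℤ] N) : N →ₗ[ℤ] N)) v =
    v - ((TensorProduct.AlgebraTensorModule.rid ℤ k k).toLinearMap ∘ₗ
      (P.root' i).baseChange k) v • ((1 : k) ⊗ₜ[ℤ] P.coroot i) := by
  induction v using TensorProduct.induction_on with
  | zero => simp
  | tmul c n =>
    rw [LinearMap.comp_apply, LinearEquiv.coe_coe]
    rw [LinearMap.baseChange_tmul, LinearMap.baseChange_tmul,
      TensorProduct.AlgebraTensorModule.rid_tmul]
    rw [LinearEquiv.coe_coe, P.coreflection_apply, TensorProduct.tmul_sub,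
      TensorProduct.tmul_smul, TensorProduct.smul_tmul', TensorProduct.smul_tmul',
      smul_eq_mul, mul_one]
  | add x y hx hy =>
    rw [map_add, hx, hy, map_add, add_smul]; abel

/-- For a connected reductive group G with maximal torus T whose derived group is simply connected, and
a Coxeter element w (the product of the simple reflections, each once, in any order), an element of
Lie T = k ⊗ X_*(T) fixed by Ad(w) is killed by the differential of every simple root, i.e. lies in
the centre of Lie G. In root-datum form: let P be a root pairing over ℤ with character lattice M and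
cocharacter lattice N, b a base, and suppose each simple coroot has a dual character ω_i in M with
⟨ω_i, α_i^∨⟩ = 1 and ⟨ω_i, α_j^∨⟩ = 0 for every other simple j (the simply connected derived group
hypothesis). If l lists the simple roots without repetition, w^∨ is the composite of the
coreflections along l acting on N, k is a field and H in k ⊗ N satisfies w^∨_k H = H, then (α_i)_k H
= 0 for every simple root α_i, where (α_i)_k is the base change to k of the functional ⟨α_i, −⟩ on
N. (Stated for an arbitrary field k; the published setting is an algebraically closed field, and the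
argument does not depend on k.) -/
theorem result {ι M N : Type u} [AddCommGroup M] [AddCommGroup N]
    (P : RootPairing ι ℤ M N) (b : P.Base)
    (hsc : ∀ i ∈ b.support, ∃ ω : M, P.coroot' i ω = 1 ∧ ∀ j ∈ b.support, j ≠ i → P.coroot' j ω = 0)
    (l : List ι) (hl : l.Nodup) (hlb : ∀ i : ι, i ∈ l ↔ i ∈ b.support)
    (k : Type u) [Field k] (H : k ⊗[ℤ] N)
    (hH : ((l.map (fun i => ((P.coreflection i : N ≃ₗ[ℤ] N) : N →ₗ[ℤ] N))).prod).baseChange k H = H) :
    ∀ i ∈ b.support, (P.root' i).baseChange k H = 0 := by
  classical
  choose ω hω1 hω0 using hsc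
  have hprod : ((l.map (fun i => ((P.coreflection i : N ≃ₗ[ℤ] N) : N →ₗ[ℤ] N))).prod).baseChange k =
      (l.map (fun i => ((P.coreflection i : N ≃ₗ[ℤ] N) : N →ₗ[ℤ] N).baseChange k)).prod := by
    have := map_list_prod (Module.End.baseChangeHom ℤ k N)
      (l.map (fun i => ((P.coreflection i : N ≃ₗ[ℤ] N) : N →ₗ[ℤ] N)))
    rw [List.map_map] at this
    exact this
  rw [hprod] at hH
  have key := abstract_lemma (k := k) (V := k ⊗[ℤ] N) (b.support : Set ι)
    (fun i => (1 : k) ⊗ₜ[ℤ] P.coroot i)
    (fun i => (TensorProduct.AlgebraTensorModule.rid ℤ k k).toLinearMap ∘ₗ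
      (P.root' i).baseChange k)
    (fun i => if hi : i ∈ b.support then
      (TensorProduct.AlgebraTensorModule.rid ℤ k k).toLinearMap ∘ₗ
        (P.toLinearMap (ω i hi)).baseChange k
      else 0)
    (fun i => ((P.coreflection i : N ≃ₗ[ℤ] N) : N →ₗ[ℤ] N).baseChange k)
    (fun i v => hA_lemma P k i v)
    (by
      intro i hi
      have hi' : i ∈ b.support := hi
      have h1 := hω1 i hi'
      rw [LinearMap.flip_apply] at h1
      rw [dif_pos hi', LinearMap.comp_apply, LinearMap.baseChange_tmul, LinearEquiv.coe_coe,
        TensorProduct.AlgebraTensorModule.rid_tmul, h1, one_smul])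
    (by
      intro i hi j hj hji
      have hi' : i ∈ b.support := hi
      have h1 := hω0 i hi' j hj hji
      rw [LinearMap.flip_apply] at h1
      rw [dif_pos hi', LinearMap.comp_apply, LinearMap.baseChange_tmul, LinearEquiv.coe_coe,
        TensorProduct.AlgebraTensorModule.rid_tmul, h1, zero_smul])
    l hl (fun i hi => (hlb i).mp hi) H hH
  intro i hi
  have h := key i ((hlb i).mpr hi)
  rw [LinearMap.comp_apply, LinearEquiv.coe_coe] at h
  exact (LinearEquiv.map_eq_zero_iff _).mp h
end Groth.Agent.S15841
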