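import Groth.Statements.S15845
import Mathlib.Tactic

set_option autoImplicit false
universe u
open SprIso

namespace Groth.Agent.S15845

theorem lower_zero {R : Type*} [CommRing R] (n : ℕ) (U x : Matrix (Fin n) (Fin n) R)
    (htri : ∀ i j : Fin n, j < i → U i j = 0) (hdiag : ∀ i j : Fin n, U i i = U j j)
    (hreg : ∀ i j : Fin n, j.val = i.val + 1 → IsUnit (U i j))
    (hxu : x * U = U * x) : ∀ i j : Fin n, j < i → x i j = 0 := by
  have key : ∀ b : ℕ, ∀ (hb : b < n), ∀ a : Fin n, b < a.val → x a ⟨b, hb⟩ = 0 := by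
    intro b
    induction b using Nat.strong_induction_on with
    | _ b ihb =>
      intro hb
      have inner : ∀ m : ℕ, ∀ a : Fin n, n - a.val = m → b < a.val → x a ⟨b, hb⟩ = 0 := by
        intro m
        induction m using Nat.strong_induction_on with
        | _ m ihm =>
          intro a ham hba
          have hi : a.val - 1 < n := by omega
          have heq := congrFun (congrFun hxu ⟨a.val - 1, hi⟩) ⟨b, hb⟩
          rw [Matrix.mul_apply, Matrix.mul_apply] at heq
          have hL : ∑ l, x ⟨a.val - 1, hi⟩ l * U l ⟨b, hb⟩ =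
              x ⟨a.val - 1, hi⟩ ⟨b, hb⟩ * U ⟨b, hb⟩ ⟨b, hb⟩ := by
            apply Finset.sum_eq_single_of_mem _ (Finset.mem_univ _)
            intro l _ hl
            rcases lt_or_gt_of_ne hl with h | h
            · have h1 : l.val < b := h
              have h2 : x ⟨a.val - 1, hi⟩ ⟨l.val, l.isLt⟩ = 0 :=
                ihb l.val h1 l.isLt ⟨a.val - 1, hi⟩ (by simp only; omega)
              have h3 : (⟨l.val, l.isLt⟩ : Fin n) = l := rfl
              rw [h3] at h2
              rw [h2, zero_mul]
            · rw [htri l ⟨b, hb⟩ h, mul_zero]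
          have hne : (⟨a.val - 1, hi⟩ : Fin n) ≠ a := by
            intro h
            have := congrArg Fin.val h
            simp only at this
            omega
          have hR : ∑ l, U ⟨a.val - 1, hi⟩ l * x l ⟨b, hb⟩ =
              U ⟨a.val - 1, hi⟩ ⟨a.val - 1, hi⟩ * x ⟨a.val - 1, hi⟩ ⟨b, hb⟩ +
                U ⟨a.val - 1, hi⟩ a * x a ⟨b, hb⟩ := by
            apply Finset.sum_eq_add_of_mem _ _ (Finset.mem_univ _) (Finset.mem_univ _) hne
            rintro l - ⟨hli, hla⟩
            have hli' : l.val ≠ a.val - 1 := fun h => hli (Fin.ext h)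
            have hla' : l.val ≠ a.val := fun h => hla (Fin.ext h)
            by_cases h : l.val < a.val - 1
            · have : l < (⟨a.val - 1, hi⟩ : Fin n) := h
              rw [htri _ _ this, zero_mul]
            · have h1 : a.val < l.val := by omega
              have := ihm (n - l.val) (by omega) l rfl (by omega)
              rw [this, mul_zero]
          rw [hL, hR, hdiag ⟨b, hb⟩ ⟨a.val - 1, hi⟩, mul_comm] at heq
          have h0 : U ⟨a.val - 1, hi⟩ a * x a ⟨b, hb⟩ = 0 := by
            have := heq
            exact (add_eq_left.mp this.symm)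
          exact ((hreg ⟨a.val - 1, hi⟩ a (by simp only; omega)).mul_right_eq_zero).mp h0
      intro a hba
      exact inner _ a rfl hba
  intro i j hji
  exact key j.val j.isLt i hji

theorem diag_eq {R : Type*} [CommRing R] (n : ℕ) (U x : Matrix (Fin n) (Fin n) R)
    (htri : ∀ i j : Fin n, j < i → U i j = 0) (hdiag : ∀ i j : Fin n, U i i = U j j)
    (hreg : ∀ i j : Fin n, j.val = i.val + 1 → IsUnit (U i j))
    (hxu : x * U = U * x) (hlow : ∀ i j : Fin n, j < i → x i j = 0) :
    ∀ i j : Fin n, x i i = x j j := by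
  have step : ∀ (m : ℕ) (h1 : m + 1 < n),
      x ⟨m, by omega⟩ ⟨m, by omega⟩ = x ⟨m + 1, h1⟩ ⟨m + 1, h1⟩ := by
    intro m h1
    have h0 : m < n := by omega
    have hne : (⟨m, h0⟩ : Fin n) ≠ ⟨m + 1, h1⟩ := by
      intro h
      have := congrArg Fin.val h
      simp only at this
      omega
    have heq := congrFun (congrFun hxu ⟨m, h0⟩) ⟨m + 1, h1⟩
    rw [Matrix.mul_apply, Matrix.mul_apply] at heq
    have hL : ∑ l, x ⟨m, h0⟩ l * U l ⟨m + 1, h1⟩ =
        x ⟨m, h0⟩ ⟨m, h0⟩ * U ⟨m, h0⟩ ⟨m + 1, h1⟩ +
          x ⟨m, h0⟩ ⟨m + 1, h1⟩ * U ⟨m + 1, h1⟩ ⟨m + 1, h1⟩ := by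
      apply Finset.sum_eq_add_of_mem _ _ (Finset.mem_univ _) (Finset.mem_univ _) hne
      rintro l - ⟨hli, hla⟩
      have hli' : l.val ≠ m := fun h => hli (Fin.ext h)
      have hla' : l.val ≠ m + 1 := fun h => hla (Fin.ext h)
      by_cases h : l.val < m
      · have : l < (⟨m, h0⟩ : Fin n) := h
        rw [hlow _ _ this, zero_mul]
      · have : (⟨m + 1, h1⟩ : Fin n) < l := by
          change m + 1 < l.val
          omega
        rw [htri _ _ this, mul_zero]
    have hR : ∑ l, U ⟨m, h0⟩ l * x l ⟨m + 1, h1⟩ =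
        U ⟨m, h0⟩ ⟨m, h0⟩ * x ⟨m, h0⟩ ⟨m + 1, h1⟩ +
          U ⟨m, h0⟩ ⟨m + 1, h1⟩ * x ⟨m + 1, h1⟩ ⟨m + 1, h1⟩ := by
      apply Finset.sum_eq_add_of_mem _ _ (Finset.mem_univ _) (Finset.mem_univ _) hne
      rintro l - ⟨hli, hla⟩
      have hli' : l.val ≠ m := fun h => hli (Fin.ext h)
      have hla' : l.val ≠ m + 1 := fun h => hla (Fin.ext h)
      by_cases h : l.val < m
      · have : l < (⟨m, h0⟩ : Fin n) := h
        rw [htri _ _ this, zero_mul]
      · have : (⟨m + 1, h1⟩ : Fin n) < l := by
          change m + 1 < l.val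
          omega
        rw [hlow _ _ this, mul_zero]
    rw [hL, hR, hdiag ⟨m + 1, h1⟩ ⟨m, h0⟩] at heq
    have h2 : U ⟨m, h0⟩ ⟨m + 1, h1⟩ * (x ⟨m, h0⟩ ⟨m, h0⟩ - x ⟨m + 1, h1⟩ ⟨m + 1, h1⟩) = 0 := by
      linear_combination heq
    have h3 := ((hreg ⟨m, h0⟩ ⟨m + 1, h1⟩ rfl).mul_right_eq_zero).mp h2
    exact sub_eq_zero.mp h3
  have all0 : ∀ (m : ℕ) (hm : m < n),
      x ⟨m, hm⟩ ⟨m, hm⟩ = x ⟨0, by omega⟩ ⟨0, by omega⟩ := by
    intro m
    induction m with
    | zero => intro _; rfl
    | succ m ih =>
      intro hm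
      rw [← step m hm, ih (by omega)]
  intro i j
  have hi := all0 i.val i.isLt
  have hj := all0 j.val j.isLt
  exact hi.trans hj.symm

/-- General linear group case: this is the case G = GL_n with its upper-triangular Borel subgroup B
(derived group SL_n simply connected, all primes good, so the hypotheses on the characteristic
hold), together with the companion statement for a regular nilpotent element of Lie B. Let k be a
field and u an n × n upper-triangular matrix over k whose diagonal entries are all equal and whose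
superdiagonal entries u_{i,i+1} are all non-zero — for diagonal 1 this is a regular unipotent
element of B(k), for diagonal 0 a regular nilpotent element of Lie B. Then the centralizer of u in
GL_n is contained in B and is the product of the centre with the centralizer in the unipotent
radical: for every commutative k-algebra R and every invertible x ∈ M_n(R) commuting with u_R, x is
upper triangular and its diagonal entries are all equal. (The smoothness of the centralizer in the
unipotent radical, also part of the published statement, is not stated here.) -/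
theorem result (k : Type u) [Field k] (n : ℕ)
    (u : Matrix (Fin n) (Fin n) k) (htri : ∀ i j : Fin n, j < i → u i j = 0) (hdiag : ∀ i j : Fin n, u i i = u j j)
    (hreg : ∀ (i j : Fin n), j.val = i.val + 1 → u i j ≠ 0)
    (R : Type u) [CommRing R] [Algebra k R] (x : Matrix (Fin n) (Fin n) R) (hx : IsUnit x)
    (hxu : x * u.map (algebraMap k R) = u.map (algebraMap k R) * x) :
    (∀ i j : Fin n, j < i → x i j = 0) ∧ (∀ i j : Fin n, x i i = x j j) := by
  have htri' : ∀ i j : Fin n, j < i → (u.map (algebraMap k R)) i j = 0 := by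
    intro i j hji
    rw [Matrix.map_apply, htri i j hji, map_zero]
  have hdiag' : ∀ i j : Fin n, (u.map (algebraMap k R)) i i = (u.map (algebraMap k R)) j j := by
    intro i j
    rw [Matrix.map_apply, Matrix.map_apply, hdiag i j]
  have hreg' : ∀ i j : Fin n, j.val = i.val + 1 → IsUnit ((u.map (algebraMap k R)) i j) := by
    intro i j hij
    rw [Matrix.map_apply]
    exact (IsUnit.mk0 _ (hreg i j hij)).map (algebraMap k R)
  have hlow := lower_zero n (u.map (algebraMap k R)) x htri' hdiag' hreg' hxu
  exact ⟨hlow, diag_eq n (u.map (algebraMap k R)) x htri' hdiag' hreg' hxu hlow⟩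

end Groth.Agent.S15845
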