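import Groth.Statements.S15848
import Groth.Agent.Lib.Helper21.SyzygyDepth
import Groth.Agent.Lib.Helper21.PushClosedStalk
import Groth.Agent.Lib.Helper21.ReflexiveNormal
import Groth.Agent.Lib.Helper21.Devissage
import Groth.Agent.Lib.Helper22.Syzygy
import Groth.Agent.Lib.Helper30.SmoothRegular
import Groth.Agent.Lib.Helper15.DCohLocal
import Groth.Agent.Lib.Helper56.DepthAss

set_option autoImplicit false
universe u
open CategoryTheory CategoryTheory.Limits AlgebraicGeometry
open Surf

namespace Groth.Agent.S15848

/-- Let k be an algebraically closed field of characteristic zero and S a smooth surface over k (an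
integral k-scheme, smooth over k, of dimension two). Let j : C → S be a closed immersion with C
integral of dimension one, M a coherent O_C-module whose stalks are torsion-free modules over the
local rings of C, F a finite locally free O_S-module and f : F → j_*M an epimorphism of O_S-modules.
Then the kernel of f, the elementary transformation of F along f, is a finite locally free
O_S-module. (The published setting takes S projective; the argument is local on S and projectivity
is not assumed here.) -/
theorem result
    (k : Type u) [Field k] [IsAlgClosed k] [CharZero k]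
    (S : Scheme.{u}) [S.Over (Spec (CommRingCat.of k))] [IsIntegral S]
    [Smooth (S ↘ Spec (CommRingCat.of k))] (hdim : topologicalKrullDim S = 2)
    (C : Scheme.{u}) (j : C ⟶ S) [IsClosedImmersion j] [IsIntegral C]
    (hC : topologicalKrullDim C = 1)
    (M : C.Modules) (hM : Coh.IsCoh M) (hMtf : TorSh.IsTorsionFree M)
    (F : S.Modules) (hF : FlatMod.IsFinLocFree F)
    (f : F ⟶ (Coh.push j).obj M) [Epi f] :
    FlatMod.IsFinLocFree (kernel f) := by
  haveI : IsLocallyNoetherian S :=
    Groth.Agent.Lib.Helper30.SmoothRegular.isLocallyNoetherian_of_smooth_field k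
      (S ↘ Spec (CommRingCat.of k))
  have hreg : ∀ x : S, IsRegularLocalRing (S.presheaf.stalk x) := fun x =>
    Groth.Agent.Lib.Helper30.SmoothRegular.stalk_regular_of_smooth_field k
      (S ↘ Spec (CommRingCat.of k)) x
  have hFc : Coh.IsCoh F := Groth.Agent.Lib.Helper15.DCohLocal.isCoh_of_isFinLocFree F hF
  have hN : Coh.IsCoh ((Coh.push j).obj M) :=
    Groth.Agent.Lib.Helper64.CohPush.isCoh_pushforward_of_isFinite j M hM
  have hK : Coh.IsCoh (kernel f) := Groth.Agent.Lib.Helper21.Devissage.isCoh_kernel f hFc hN
  apply Groth.Agent.Lib.Helper21.ReflexiveFreeSch.isFinLocFree_of_free_stalks (kernel f) hK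
  -- field stalks only at the generic point
  have hgen : ∀ c : C, IsField (C.presheaf.stalk c) → c = genericPoint C := by
    intro c h
    have h1 : genericPoint C ∈ Set.range (C.fromSpecStalk c) := by
      rw [Scheme.range_fromSpecStalk]
      exact genericPoint_specializes c
    have h2 : c ∈ Set.range (C.fromSpecStalk c) := by
      rw [Scheme.range_fromSpecStalk]
      exact specializes_rfl
    obtain ⟨p, hp⟩ := h1
    obtain ⟨q, hq⟩ := h2
    have hbot : ∀ P : PrimeSpectrum (C.presheaf.stalk c), P.asIdeal = ⊥ := by
      intro P
      rw [eq_bot_iff]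
      intro y hyP
      by_contra hy0
      obtain ⟨z, hz⟩ := h.mul_inv_cancel hy0
      exact P.2.ne_top ((Ideal.eq_top_iff_one _).mpr (hz ▸ P.asIdeal.mul_mem_right z hyP))
    have hpq : p = q := PrimeSpectrum.ext ((hbot p).trans (hbot q).symm)
    rw [← hq, ← hp, hpq]
  -- freeness away from the image of the generic point of `C`
  have key : ∀ x : S, x ≠ j (genericPoint C) →
      Module.Free (S.presheaf.stalk x) ((kernel f).presheaf.stalk x) := by
    intro x hx
    haveI := hreg x
    haveI : F.IsQuasicoherent := hFc.1
    haveI : Module.Free (S.presheaf.stalk x) (F.presheaf.stalk x) :=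
      Groth.Agent.Lib.Helper2.FinLocFreeAff.free_stalk_of_isFinLocFree F hF x
    haveI := Groth.Agent.Lib.Helper21.ReflexiveFreeSch.finite_stalk_of_isCoh F hFc x
    haveI := Groth.Agent.Lib.Helper21.ReflexiveFreeSch.finite_stalk_of_isCoh _ hN x
    have hS : (ShortComplex.mk (kernel.ι f) f (kernel.condition f)).ShortExact :=
      ShortComplex.ShortExact.mk' (ShortComplex.exact_kernel f) inferInstance inferInstance
    have hex := Groth.Agent.Lib.Helper78.ModStalkExact.stalk_function_exact _ hS x
    have hsurj := Groth.Agent.Lib.Helper78.ModStalkExact.stalk_surjective _ hS x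
    have hd : ringKrullDim (S.presheaf.stalk x) ≤ 2 :=
      (Groth.Agent.Lib.Helper22.DedekindFree.ringKrullDim_stalk_le S x).trans (le_of_eq hdim)
    refine Groth.Agent.Lib.Helper21.SyzygyDepth.free_of_exact_of_one_le_depth _ hd
      (Groth.Agent.Lib.Helper78.ModStalk.stalkMap (kernel.ι f) x)
      (Groth.Agent.Lib.Helper78.ModStalk.stalkMap f x)
      (Groth.Agent.Lib.Helper78.ModStalk.stalkMap_injective_of_mono _ x) hsurj hex ?_
    by_cases hxr : x ∈ Set.range j
    · obtain ⟨c, rfl⟩ := hxr
      have hc : c ≠ genericPoint C := fun h => hx (by rw [h])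
      have hnf : ¬ IsField (C.presheaf.stalk c) := fun h => hc (hgen c h)
      have hm : IsLocalRing.maximalIdeal (C.presheaf.stalk c) ≠ ⊥ :=
        fun h => hnf (IsLocalRing.isField_iff_maximalIdeal_eq.mpr h)
      obtain ⟨b, hbm, hb0⟩ := Submodule.exists_mem_ne_zero_of_ne_bot hm
      obtain ⟨a, rfl⟩ := j.stalkMap_surjective c b
      have ham : a ∈ IsLocalRing.maximalIdeal (S.presheaf.stalk (j c)) := by
        rw [IsLocalRing.mem_maximalIdeal, mem_nonunits_iff]
        intro hu
        exact hbm (hu.map (j.stalkMap c).hom)
      change 1 ≤ LocCoh.idealDepth (IsLocalRing.maximalIdeal (S.presheaf.stalk (j c))) _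
      rw [Groth.Agent.Lib.Helper67.one_le_idealDepth_iff]
      right
      refine ⟨a, ham, Groth.Agent.Lib.Helper21.PushClosedStalk.isSMulRegular_stalk_push j M
        j.isEmbedding c a ?_⟩
      haveI := hMtf c
      exact Module.IsTorsionFree.isSMulRegular
        (isRegular_iff_ne_zero'.mpr hb0)
    · haveI := Groth.Agent.Lib.Helper21.PushClosedStalk.subsingleton_stalk_of_not_mem_range
        j M x hxr
      rw [Groth.Agent.Lib.Helper56.depth_eq_top_of_subsingleton]
      exact le_top
  intro x
  by_cases hx : x = j (genericPoint C)
  · obtain ⟨c', hc'⟩ : ∃ c' : C, c' ≠ genericPoint C := by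
      by_contra hcon
      push_neg at hcon
      haveI : Subsingleton C := ⟨fun a b => (hcon a).trans (hcon b).symm⟩
      have := topologicalKrullDim_zero_of_discreteTopology C
      rw [hC] at this
      exact absurd this (by decide)
    have hy := key (j c') (fun h => hc' (j.isEmbedding.injective h))
    have hspec : x ⤳ j c' := by
      rw [hx]
      exact (genericPoint_specializes c').map j.continuous
    exact (Groth.Agent.Lib.Helper21.ReflexiveNormal.mem_freeLocus (kernel f) hK x).mp
      (hspec.mem_open (Groth.Agent.Lib.Helper21.ReflexiveNormal.freeLocus (kernel f) hK).2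
        ((Groth.Agent.Lib.Helper21.ReflexiveNormal.mem_freeLocus (kernel f) hK (j c')).mpr hy))
  · exact key x hx

end Groth.Agent.S15848
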