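import Groth.Statements.S15870
import Groth.Agent.Lib.Helper87.TorsFinMain

set_option autoImplicit false
universe u
open CategoryTheory MonoidalCategory CartesianMonoidalCategory MonObj GrpObj AlgebraicGeometry
open NonAbH1

namespace Groth.Agent.S15870

/-- Let π : S' → S be finite locally free (finite, flat, locally of finite presentation), G a smooth
S'-group scheme and E an fppf G-torsor over S'. Then E trivializes fppf locally on S: some fppf
covering family of S consists of morphisms U → S such that E has a section over U ×_S S' → S'. (The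
published statement is for a variable S-scheme T, torsors over S' ×_S T and G a group algebraic
space; this row is the case T = S with G a scheme, to which the general case reduces by base change
of π.) -/
theorem result
    {S S' : Scheme.{u}} (π : S' ⟶ S) [IsFinite π] [Flat π] [LocallyOfFinitePresentation π]
    (G : Over S') [GrpObj G] [Smooth G.hom]
    (E : NonAbH1.TorsorSch G Scheme.fppfPrecoverage) :
    ∃ R ∈ Scheme.fppfPrecoverage S, ∀ ⦃U : Scheme.{u}⦄ (g : U ⟶ S), R g →
      NonAbH1.HasSectionOver E.X (Limits.pullback.snd g π) := by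
  classical
  obtain ⟨hps, Rc, hRc, hsec⟩ := E.isTorsor
  have hlocq : NonAbH1.IsLocallyTrivialFor Scheme.fpqcPrecoverage E.X :=
    ⟨Rc, Scheme.fppfPrecoverage_le_fpqcPrecoverage _ hRc, hsec⟩
  have hGsurj : Surjective G.hom := by
    refine ⟨fun x => ⟨(η[G]).left x, ?_⟩⟩
    rw [← Scheme.Hom.comp_apply, Over.w η[G]]
    rfl
  haveI hsm : Smooth E.X.hom :=
    Groth.Agent.Lib.Helper9.TorsorSch.prop_of_isTorsorFor_fpqc @Smooth inferInstance E.act
      ⟨hps, hlocq⟩ inferInstance
  haveI hsurj : Surjective E.X.hom :=
    Groth.Agent.Lib.Helper9.TorsorSch.prop_of_isTorsorFor_fpqc @Surjective inferInstance E.act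
      ⟨hps, hlocq⟩ hGsurj
  have hloc := fun s : S => Groth.Agent.Lib.Helper87.TorsFinMain.exists_local π E.X s
  choose U g hget hgs hgsec using hloc
  refine ⟨Presieve.ofArrows U g, ?_, ?_⟩
  · rw [Scheme.fppfPrecoverage, Scheme.ofArrows_mem_precoverage_iff]
    refine ⟨fun x => ⟨x, hgs x⟩, fun i => ?_⟩
    haveI := hget i
    exact ⟨inferInstance, inferInstance⟩
  · intro V f hf
    obtain ⟨i⟩ := hf
    exact hgsec i

end Groth.Agent.S15870
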