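import Groth.Statements.S15883
-- import your own Groth.Agent.* helpers here


set_option autoImplicit false
universe u
open CategoryTheory AlgebraicGeometry Opposite
open BMCoh

namespace Groth.Agent.S15883

theorem isClosedImmersion_of_compl {X Y W : Scheme.{u}} (f : X ⟶ W) (g : Y ⟶ W)
    [IsOpenImmersion f] [IsOpenImmersion g] (h : Set.range f = (Set.range g)ᶜ) :
    IsClosedImmersion g := by
  have hc : IsClosed (Set.range g) := by
    rw [← isOpen_compl_iff, ← h]
    exact f.isOpenEmbedding.isOpen_range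
  exact IsClosedImmersion.of_isPreimmersion g hc

section

variable {V : ObjectProperty Scheme.{u}} [BMCoh.IsConstructible V] {R : Type u} [CommRing R]
  {A : BMCoh.Coefs R} (T : BMCoh.PreTheory V R A)

theorem relCodim_eq_zero {Y W : BMCoh.Obj V} (iY : Y ⟶ W) :
    BMCoh.relCodim Y.scheme W.scheme = 0 := by
  unfold BMCoh.relCodim
  rw [iY.dim_eq, sub_self]

theorem relCodim_self (Y : Scheme.{u}) : BMCoh.relCodim Y Y = 0 := by
  unfold BMCoh.relCodim
  rw [sub_self]

/-- push-forward along a clopen immersion is a section of restriction -/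
theorem pull_push {Y W : BMCoh.Obj V} (iY : Y ⟶ W) [IsClosedImmersion iY.hom] (M : A.Cat)
    (i n : ℤ) (hi : i = i + 2 * BMCoh.relCodim Y.scheme W.scheme)
    (hn : n = n + BMCoh.relCodim Y.scheme W.scheme) (b : T.gp Y M i n) :
    (T.pull iY M i n).hom ((T.push iY.hom M i n i n hi hn).hom b) = b := by
  have hpb : IsPullback (𝟙 Y : Y ⟶ Y).hom (𝟙 Y.scheme) iY.hom iY.hom :=
    IsKernelPair.id_of_mono iY.hom
  have hi' : i = i + 2 * BMCoh.relCodim Y.scheme Y.scheme := by rw [relCodim_self]; ring
  have hn' : n = n + BMCoh.relCodim Y.scheme Y.scheme := by rw [relCodim_self]; ring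
  have h1 := T.push_pull iY.hom (𝟙 Y.scheme) iY (𝟙 Y) hpb M i n i n hi hn hi' hn'
  rw [T.push_id Y M i n hi' hn', Category.comp_id] at h1
  have h2 : ((T.H i n).map (𝟙 Y : Y ⟶ Y).op).app M = 𝟙 _ := by
    rw [op_id, (T.H i n).map_id]
    rfl
  rw [h2] at h1
  have := congrArg (fun g => g.hom b) h1
  simpa using this

end


/-- Let T be a twisted Borel–Moore cohomology theory with coefficients in A (a full subcategory of
R-modules containing R) on a constructible class V of Noetherian schemes, and let i_X : X → W and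
i_Y : Y → W be morphisms of V — open immersions with dim X = dim W = dim Y — whose images are
complementary in W, so that W is the disjoint union of X and Y. Then for every coefficient module M
and all integers i, n the map H^i(W, M(n)) → H^i(X, M(n)) × H^i(Y, M(n)) whose components are the
restriction maps along i_X and i_Y is bijective. -/
theorem result (V : ObjectProperty Scheme.{u}) [BMCoh.IsConstructible V] (R : Type u) [CommRing R] (A : BMCoh.Coefs R) (T : BMCoh.TheoryOn V R A) {X Y W : BMCoh.Obj V} (iX : X ⟶ W) (iY : Y ⟶ W) (h : Set.range iX.hom = (Set.range iY.hom)ᶜ) (M : A.Cat) (i n : ℤ) : Function.Bijective (fun a : T.gp W M i n => ((T.pull iX M i n).hom a, (T.pull iY M i n).hom a)) := by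
  obtain ⟨i0, rfl⟩ : ∃ i0, i = i0 + 1 := ⟨i - 1, by ring⟩
  have h' : Set.range iY.hom = (Set.range iX.hom)ᶜ := by rw [h, compl_compl]
  haveI hcY : IsClosedImmersion iY.hom := isClosedImmersion_of_compl iX.hom iY.hom h
  haveI hcX : IsClosedImmersion iX.hom := isClosedImmersion_of_compl iY.hom iX.hom h'
  let D : BMCoh.Decomp W := ⟨Y, X, iY.hom, hcY, iX, h⟩
  let D' : BMCoh.Decomp W := ⟨X, Y, iX.hom, hcX, iY, h'⟩
  have cY : BMCoh.relCodim Y.scheme W.scheme = 0 := relCodim_eq_zero iY
  have cX : BMCoh.relCodim X.scheme W.scheme = 0 := relCodim_eq_zero iX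
  have hiY : i0 + 1 = (i0 + 1) + 2 * BMCoh.relCodim Y.scheme W.scheme := by rw [cY]; ring
  have hnY : n = n + BMCoh.relCodim Y.scheme W.scheme := by rw [cY]; ring
  have hiX : i0 + 1 = (i0 + 1) + 2 * BMCoh.relCodim X.scheme W.scheme := by rw [cX]; ring
  have hnX : n = n + BMCoh.relCodim X.scheme W.scheme := by rw [cX]; ring
  have eY : Function.Exact (T.push iY.hom M (i0 + 1) n (i0 + 1) n hiY hnY).hom
      (T.pull iX M (i0 + 1) n).hom := T.exact_push_pull D M i0 n (i0 + 1) n hiY hnY
  have eX : Function.Exact (T.push iX.hom M (i0 + 1) n (i0 + 1) n hiX hnX).hom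
      (T.pull iY M (i0 + 1) n).hom := T.exact_push_pull D' M i0 n (i0 + 1) n hiX hnX
  have sY := pull_push T.toPreTheory iY M (i0 + 1) n hiY hnY
  have sX := pull_push T.toPreTheory iX M (i0 + 1) n hiX hnX
  constructor
  · intro a a' haa'
    have h1 : (T.pull iX M (i0 + 1) n).hom (a - a') = 0 := by
      rw [map_sub, sub_eq_zero]; exact congrArg Prod.fst haa'
    have h2 : (T.pull iY M (i0 + 1) n).hom (a - a') = 0 := by
      rw [map_sub, sub_eq_zero]; exact congrArg Prod.snd haa'
    obtain ⟨b, hb⟩ := (eY (a - a')).1 h1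
    have hb0 : b = 0 := by
      rw [← sY b, hb, h2]
    rw [hb0, map_zero] at hb
    exact sub_eq_zero.1 hb.symm
  · rintro ⟨x, y⟩
    refine ⟨(T.push iX.hom M (i0 + 1) n (i0 + 1) n hiX hnX).hom x +
      (T.push iY.hom M (i0 + 1) n (i0 + 1) n hiY hnY).hom y, ?_⟩
    have z1 : (T.pull iX M (i0 + 1) n).hom ((T.push iY.hom M (i0 + 1) n (i0 + 1) n hiY hnY).hom y)
        = 0 := eY.apply_apply_eq_zero y
    have z2 : (T.pull iY M (i0 + 1) n).hom ((T.push iX.hom M (i0 + 1) n (i0 + 1) n hiX hnX).hom x)
        = 0 := eX.apply_apply_eq_zero x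
    refine Prod.ext ?_ ?_
    · show (T.pull iX M (i0 + 1) n).hom _ = x
      rw [map_add, z1, add_zero, sX]
    · show (T.pull iY M (i0 + 1) n).hom _ = y
      rw [map_add, z2, zero_add, sY]

end Groth.Agent.S15883
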