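import Groth.Statements.S15895
import Mathlib
import Groth.Agent.S15893
-- import your own Groth.Agent.* helpers here

set_option autoImplicit false
universe u
open scoped TensorProduct
open Versch

namespace Groth.Agent.S15895

theorem pow_p_eq (p : ℕ) [Fact p.Prime] (R : Type u) [CommRing R] [CharP R p]
    (a : MonoidAlgebra R (Multiplicative (ZMod p))) :
    a ^ p = algebraMap R _ ((Coalgebra.counit (R := R) a) ^ p) := by
  have hA : CharP (MonoidAlgebra R (Multiplicative (ZMod p))) p :=
    charP_of_injective_algebraMap (Bialgebra.algebraMap_injective (R := R) _) p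
  induction a using MonoidAlgebra.induction_linear with
  | zero => simp [zero_pow (Fact.out : p.Prime).ne_zero]
  | add a b ha hb =>
    rw [add_pow_char, ha, hb, map_add, add_pow_char, map_add]
  | single g c =>
    rw [MonoidAlgebra.single_pow, MonoidAlgebra.counit_single, MonoidAlgebra.coe_algebraMap]
    have : g ^ p = 1 := by
      apply Multiplicative.toAdd.injective
      rw [toAdd_pow, toAdd_one]
      simp
    rw [this]
    simp


/-- Let p be a prime, R a commutative ring of characteristic p and B = Hom_R(R[ℤ/p], R) the dual Hopf
algebra of the group algebra of the cyclic group of order p: the Hopf algebra of the constant group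
scheme ℤ/p over Spec R (the Cartier dual of μ_p). Let v : B → B ⊗_R R^(Frob) be the comorphism of
the Verschiebung V : (ℤ/p)^(p) → ℤ/p (the ring map whose transpose under the canonical pairing is
the relative Frobenius of the dual Hopf algebra of B). Then V is the trivial homomorphism: v is the
composite of the counit ε : B → R, the identity of underlying rings R → R^(Frob) and the inclusion
of the twisted factor R^(Frob) → B ⊗_R R^(Frob), i.e. v(b) = 1 ⊗ ε(b). -/
theorem result (p : ℕ) [Fact p.Prime] (R : Type u) [CommRing R]
    [CharP R p] (v : CartDual.D R (MonoidAlgebra R (Multiplicative (ZMod p))) →+* FrobAlg.BaseChange p R (CartDual.D R (MonoidAlgebra R (Multiplicative (ZMod p)))))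
    (hv : Versch.IsVerschiebung p R (CartDual.D R (MonoidAlgebra R (Multiplicative (ZMod p)))) v) :
    v = ((Algebra.TensorProduct.includeRight (R := R) (A := CartDual.D R (MonoidAlgebra R (Multiplicative (ZMod p))))
            (B := FrobAlg.Twist p R)).toRingHom.comp (FrobAlg.toTwist p R).toRingHom).comp
          (Bialgebra.counitAlgHom R (CartDual.D R (MonoidAlgebra R (Multiplicative (ZMod p))))).toRingHom := by
  rw [isVerschiebung_iff] at hv
  apply RingHom.ext
  intro b
  refine evTw_injective p R (CartDual.D R (MonoidAlgebra R (Multiplicative (ZMod p)))) (fun y => ?_)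
  rw [hv]
  obtain ⟨a, rfl⟩ := (Groth.Agent.S15893.eval_bijective R (MonoidAlgebra R (Multiplicative (ZMod p)))).2 y
  change _ = evTw p R _ _ ((1 : CartDual.D R (MonoidAlgebra R (Multiplicative (ZMod p)))) ⊗ₜ[R]
    FrobAlg.toTwist p R (Coalgebra.counit (R := R) b))
  rw [evTw_tmul', ← map_mul, ← map_pow, pow_p_eq]
  congr 1
  rw [CartDual.eval_apply, CartDual.eval_apply, CartDual.coalgebra_counit_apply]
  rw [Algebra.algebraMap_eq_smul_one, CartDual.coe_apply, map_smul, smul_eq_mul,
    ← CartDual.coe_apply, ← CartDual.coe_apply]
  rfl


end Groth.Agent.S15895
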