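import Groth.Statements.S15896
import Mathlib
import Groth.Agent.S15893
-- import your own Groth.Agent.* helpers here

set_option autoImplicit false
universe u
open scoped TensorProduct
open Hopf

namespace Groth.Agent.S15896

theorem idem_local {S : Type*} [CommRing S] [IsLocalRing S] (e : S) (he : IsIdempotentElem e) :
    e = 0 ∨ e = 1 := by
  rcases IsLocalRing.isUnit_or_isUnit_one_sub_self e with h | h
  · right
    have h1 : e * (1 - e) = 0 := by rw [mul_sub, mul_one, he.eq, sub_self]
    have := (h.mul_right_eq_zero).1 h1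
    exact (sub_eq_zero.1 this).symm
  · left
    have h1 : (1 - e) * e = 0 := by rw [sub_mul, one_mul, he.eq, sub_self]
    exact (h.mul_right_eq_zero).1 h1

/-- two algebra maps from a formally unramified algebra to a noetherian local ring agreeing mod the
maximal ideal are equal -/
theorem eq_of_unramified {R E C : Type*} [CommRing R] [CommRing E] [Algebra R E]
    [Algebra.FormallyUnramified R E] [CommRing C] [Algebra R C] [IsLocalRing C] [IsNoetherianRing C]
    (f₁ f₂ : E →ₐ[R] C) (h : ∀ x, f₁ x - f₂ x ∈ IsLocalRing.maximalIdeal C) : f₁ = f₂ := by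
  apply AlgHom.ext
  intro x
  rw [← sub_eq_zero, ← Ideal.mem_bot, ← Ideal.iInf_pow_eq_bot_of_isLocalRing
    (IsLocalRing.maximalIdeal C) (IsLocalRing.maximalIdeal.isMaximal C).ne_top]
  rw [Ideal.mem_iInf]
  intro n
  set m := IsLocalRing.maximalIdeal C
  let π : C →ₐ[R] C ⧸ m ^ n := Ideal.Quotient.mkₐ R (m ^ n)
  have key : π.comp f₁ = π.comp f₂ := by
    apply Algebra.FormallyUnramified.ext (m.map (Ideal.Quotient.mk (m ^ n)))
    · refine ⟨n, ?_⟩
      rw [← Ideal.map_pow, Ideal.map_quotient_self]
      rfl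
    · intro y
      rw [← sub_eq_zero, ← map_sub, Ideal.Quotient.eq_zero_iff_mem, AlgHom.comp_apply,
        AlgHom.comp_apply, ← map_sub]
      exact Ideal.mem_map_of_mem _ (h y)
  have := congrArg (fun g => g x) key
  simp only [AlgHom.comp_apply] at this
  rw [← Ideal.Quotient.eq_zero_iff_mem, map_sub, sub_eq_zero]
  exact this



/-- Let R be a henselian Noetherian local ring and A a commutative and cocommutative Hopf algebra over R
which is finitely generated and projective as an R-module (a finite flat commutative R-group G =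
Spec A). Let e ∈ A be an idempotent with ε(e) = 1 such that the ideal (1 − e) is a Hopf ideal and A⁰
= A/(1 − e) is a local ring, projective over R, with cocommutative quotient structure (G⁰ = Spec A⁰
is the connected component of the unit section). Let B = Hom_R(A⁰, R) be the dual Hopf algebra (the
Cartier dual (G⁰)^D) and e' ∈ B an idempotent with ε(e') = 1 and B/(1 − e') local (the unit
component of (G⁰)^D). Say that x ∈ B is invariant when (id ⊗ (multiplication by e'))(Δ x) = x ⊗ e',
i.e. x is invariant under translation by the unit component of (G⁰)^D, so that the invariant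
elements form the Hopf algebra of the maximal étale quotient of (G⁰)^D; the ideal in A⁰ of the
closed subgroup G_μ ⊆ G⁰ ⊆ G consists of the elements annihilated by every invariant x (G_μ is the
Cartier dual of the étale quotient of (G⁰)^D, a connected multiplicative subgroup of G). Then G_μ is
the largest connected multiplicative closed subgroup of G: for every Hopf ideal J of A such that A/J
is a local ring, projective over R, cocommutative, and has étale dual Hopf algebra Hom_R(A/J, R) (H
= Spec A/J a connected closed subgroup with étale Cartier dual), every a ∈ A whose image in A⁰ is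
annihilated by all invariant x lies in J, i.e. H ⊆ G_μ. -/
theorem result (R : Type u) [CommRing R]
    [HenselianLocalRing R] [IsNoetherianRing R] (A : Type u) [CommRing A] [HopfAlgebra R A] [Coalgebra.IsCocomm R A]
    [Module.Finite R A] [Module.Projective R A] (e : A) (he : IsIdempotentElem e)
    (hε : Bialgebra.counitAlgHom R A e = 1) [(Ideal.span ({1 - e} : Set A)).IsHopfIdeal R] [IsLocalRing (A ⧸ Ideal.span ({1 - e} : Set A))]
    [Module.Projective R (A ⧸ Ideal.span ({1 - e} : Set A))] [Coalgebra.IsCocomm R (A ⧸ Ideal.span ({1 - e} : Set A))]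
    (e' : CartDual.D R (A ⧸ Ideal.span ({1 - e} : Set A))) (he' : IsIdempotentElem e')
    (hε' : Bialgebra.counitAlgHom R (CartDual.D R (A ⧸ Ideal.span ({1 - e} : Set A))) e' = 1)
    [IsLocalRing (CartDual.D R (A ⧸ Ideal.span ({1 - e} : Set A)) ⧸ Ideal.span ({1 - e'} : Set (CartDual.D R (A ⧸ Ideal.span ({1 - e} : Set A)))))]
    (J : Ideal A) [J.IsHopfIdeal R] [IsLocalRing (A ⧸ J)] [Module.Projective R (A ⧸ J)]
    [Coalgebra.IsCocomm R (A ⧸ J)] [Algebra.Etale R (CartDual.D R (A ⧸ J))]
    (a : A) (ha : ∀ x : CartDual.D R (A ⧸ Ideal.span ({1 - e} : Set A)), LinearMap.lTensor (CartDual.D R (A ⧸ Ideal.span ({1 - e} : Set A))) (LinearMap.mulLeft R e') (Coalgebra.comul (R := R) x) = x ⊗ₜ[R] e' → x (Ideal.Quotient.mk (Ideal.span ({1 - e} : Set A)) a) = 0) :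
    a ∈ J := by
  -- step 1
  have h1 : (1 - e) ∈ J := by
    have hid : IsIdempotentElem (Ideal.Quotient.mk J e) := by
      change _ * _ = _
      rw [← map_mul, he.eq]
    rcases idem_local _ hid with h | h
    · exfalso
      have hc : Coalgebra.counit (R := R) (Ideal.Quotient.mk J e) = 1 := by
        rw [Bialgebra.Quotient.counit_mk]; exact hε
      rw [h, map_zero] at hc
      exact zero_ne_one hc
    · rw [← Ideal.Quotient.eq_zero_iff_mem, map_sub, map_one, h, sub_self]
  have hle : (Ideal.span ({1 - e} : Set A)) ≤ J := by rw [Ideal.span_le, Set.singleton_subset_iff]; exact h1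
  let qa : (A ⧸ (Ideal.span ({1 - e} : Set A))) →ₐ[R] (A ⧸ J) := Ideal.Quotient.factorₐ R hle
  have hqa : ∀ x : A, qa (Ideal.Quotient.mk (Ideal.span ({1 - e} : Set A)) x) = Ideal.Quotient.mk J x := fun x => rfl
  let q : (A ⧸ (Ideal.span ({1 - e} : Set A))) →ₐc[R] (A ⧸ J) := BialgHom.ofAlgHom qa
    (by
      apply Ideal.Quotient.algHom_ext
      apply AlgHom.ext
      intro x
      rfl)
    (by
      apply Ideal.Quotient.algHom_ext
      apply AlgHom.ext
      intro x
      simp only [AlgHom.comp_apply, Ideal.Quotient.mkₐ_eq_mk, Bialgebra.comulAlgHom_apply, hqa,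
        Bialgebra.Quotient.comul_mk]
      generalize Coalgebra.comul (R := R) x = t
      induction t using TensorProduct.induction_on with
      | zero => simp
      | tmul b c => simp [hqa]
      | add t t' ht ht' => simp only [map_add, ht, ht'])
  have hq : ∀ x : A, q (Ideal.Quotient.mk (Ideal.span ({1 - e} : Set A)) x) = Ideal.Quotient.mk J x := fun x => rfl
  let φ : CartDual.D R (A ⧸ J) →ₐc[R] CartDual.D R (A ⧸ (Ideal.span ({1 - e} : Set A))) := CartDual.transpose R q
  have hnoethB : IsNoetherianRing (CartDual.D R (A ⧸ (Ideal.span ({1 - e} : Set A)))) :=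
    isNoetherian_of_tower R (isNoetherian_of_isNoetherianRing_of_finite R _)
  have hcounit0 : ∀ b ∈ (Ideal.span ({1 - e'} : Set (CartDual.D R (A ⧸ (Ideal.span ({1 - e} : Set A)))))), Bialgebra.counitAlgHom R (CartDual.D R (A ⧸ (Ideal.span ({1 - e} : Set A)))) b = 0 := by
    intro b hb
    obtain ⟨c, rfl⟩ := Ideal.mem_span_singleton'.1 hb
    rw [map_mul, map_sub, map_one, hε', sub_self, mul_zero]
  let ε' : (CartDual.D R (A ⧸ (Ideal.span ({1 - e} : Set A))) ⧸ (Ideal.span ({1 - e'} : Set (CartDual.D R (A ⧸ (Ideal.span ({1 - e} : Set A))))))) →ₐ[R] R :=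
    Ideal.Quotient.liftₐ (Ideal.span ({1 - e'} : Set (CartDual.D R (A ⧸ (Ideal.span ({1 - e} : Set A)))))) (Bialgebra.counitAlgHom R (CartDual.D R (A ⧸ (Ideal.span ({1 - e} : Set A))))) hcounit0
  let f₁ : CartDual.D R (A ⧸ J) →ₐ[R] (CartDual.D R (A ⧸ (Ideal.span ({1 - e} : Set A))) ⧸ (Ideal.span ({1 - e'} : Set (CartDual.D R (A ⧸ (Ideal.span ({1 - e} : Set A))))))) :=
    (Ideal.Quotient.mkₐ R (Ideal.span ({1 - e'} : Set (CartDual.D R (A ⧸ (Ideal.span ({1 - e} : Set A))))))).comp (φ : CartDual.D R (A ⧸ J) →ₐ[R] CartDual.D R (A ⧸ (Ideal.span ({1 - e} : Set A))))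
  let f₂ : CartDual.D R (A ⧸ J) →ₐ[R] (CartDual.D R (A ⧸ (Ideal.span ({1 - e} : Set A))) ⧸ (Ideal.span ({1 - e'} : Set (CartDual.D R (A ⧸ (Ideal.span ({1 - e} : Set A))))))) :=
    (Algebra.ofId R _).comp (Bialgebra.counitAlgHom R (CartDual.D R (A ⧸ J)))
  have hf : f₁ = f₂ := by
    refine eq_of_unramified (R := R) (E := CartDual.D R (A ⧸ J))
      (C := CartDual.D R (A ⧸ (Ideal.span ({1 - e} : Set A))) ⧸ (Ideal.span ({1 - e'} : Set (CartDual.D R (A ⧸ (Ideal.span ({1 - e} : Set A))))))) f₁ f₂ (fun ξ => ?_)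
    have hker : ∀ c : CartDual.D R (A ⧸ (Ideal.span ({1 - e} : Set A))) ⧸ (Ideal.span ({1 - e'} : Set (CartDual.D R (A ⧸ (Ideal.span ({1 - e} : Set A)))))),
        ε' c = 0 → c ∈ IsLocalRing.maximalIdeal _ := by
      intro c hc
      by_contra hcon
      rw [IsLocalRing.notMem_maximalIdeal] at hcon
      have := hcon.map ε'
      rw [hc] at this
      exact not_isUnit_zero this
    apply hker
    rw [map_sub, sub_eq_zero]
    have e1 : ε' (f₁ ξ) = Coalgebra.counit (R := R) ξ := by
      change Coalgebra.counit (R := R) (φ ξ) = _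
      exact CoalgHomClass.counit_comp_apply φ ξ
    have e2 : ε' (f₂ ξ) = Coalgebra.counit (R := R) ξ := by
      simp only [f₂, AlgHom.comp_apply, Algebra.ofId_apply, Bialgebra.counitAlgHom_apply,
        AlgHom.commutes]
      rfl
    rw [e1, e2]
  have hmul : ∀ ξ : CartDual.D R (A ⧸ J), e' * φ ξ = Coalgebra.counit (R := R) ξ • e' := by
    intro ξ
    have h := congrArg (fun g => g ξ) hf
    have h2 : φ ξ - algebraMap R _ (Coalgebra.counit (R := R) ξ) ∈
        (Ideal.span ({1 - e'} : Set (CartDual.D R (A ⧸ (Ideal.span ({1 - e} : Set A)))))) := by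
      rw [← Ideal.Quotient.eq_zero_iff_mem, map_sub, sub_eq_zero]
      exact h
    obtain ⟨c, hc⟩ := Ideal.mem_span_singleton'.1 h2
    have h3 : e' * (φ ξ - algebraMap R _ (Coalgebra.counit (R := R) ξ)) = 0 := by
      rw [← hc, mul_comm c, ← mul_assoc, mul_sub, mul_one, he'.eq, sub_self, zero_mul]
    rw [mul_sub, sub_eq_zero] at h3
    rw [h3, Algebra.smul_def, mul_comm]
  have hinv : ∀ ξ : CartDual.D R (A ⧸ J),
      LinearMap.lTensor (CartDual.D R (A ⧸ Ideal.span ({1 - e} : Set A))) (LinearMap.mulLeft R e')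
        (Coalgebra.comul (R := R) (φ ξ)) = φ ξ ⊗ₜ[R] e' := by
    intro ξ
    rw [← CoalgHomClass.map_comp_comul_apply φ ξ]
    have key : ∀ t : CartDual.D R (A ⧸ J) ⊗[R] CartDual.D R (A ⧸ J),
        LinearMap.lTensor (CartDual.D R (A ⧸ Ideal.span ({1 - e} : Set A))) (LinearMap.mulLeft R e')
          (TensorProduct.map (φ : CartDual.D R (A ⧸ J) →ₗ[R] _) (φ : CartDual.D R (A ⧸ J) →ₗ[R] _) t) =
        TensorProduct.map (φ : CartDual.D R (A ⧸ J) →ₗ[R] _) (LinearMap.toSpanSingleton R _ e')
          (LinearMap.lTensor (CartDual.D R (A ⧸ J)) (Coalgebra.counit (R := R)) t) := by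
      intro t
      induction t using TensorProduct.induction_on with
      | zero => simp
      | tmul b c =>
        simp only [TensorProduct.map_tmul, LinearMap.lTensor_tmul, LinearMap.mulLeft_apply,
          LinearMap.toSpanSingleton_apply]
        congr 1
        exact hmul c
      | add t t' ht ht' => simp only [map_add, ht, ht']
    erw [key, Coalgebra.lTensor_counit_comul]
    simp
  have hz : ∀ ξ : CartDual.D R (A ⧸ J), ξ (Ideal.Quotient.mk J a) = 0 := fun ξ =>
    ha (φ ξ) (hinv ξ)
  rw [← Ideal.Quotient.eq_zero_iff_mem]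
  apply (Groth.Agent.S15893.eval_bijective R (A ⧸ J)).1
  apply WithConv.ext
  apply LinearMap.ext
  intro ξ
  change ξ (Ideal.Quotient.mk J a) = ξ 0
  rw [hz, CartDual.coe_apply, map_zero]


end Groth.Agent.S15896
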