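import Groth.Statements.S15897
import Mathlib

set_option autoImplicit false
universe u v
open CartDual

namespace Groth.Agent.S15897

section
open TensorProduct
theorem ev₂_swap_arg (R : Type u) [CommRing R] (A : Type v) [CommRing A] [HopfAlgebra R A]
    [Module.Finite R A] [Module.Projective R A] (x y : CartDual.D R A) (t : A ⊗[R] A) :
    ev₂ R A (x ⊗ₜ y) (TensorProduct.comm R A A t) = ev₂ R A (y ⊗ₜ x) t := by
  induction t using TensorProduct.induction_on with
  | zero => simp
  | tmul a b => simp [mul_comm]
  | add s t hs ht => simp only [map_add, hs, ht]

theorem ev₂_comul_conv (R : Type u) [CommRing R] (A : Type v) [CommRing A] [HopfAlgebra R A]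
    [Module.Finite R A] [Module.Projective R A] (x y : CartDual.D R A) (a : A) :
    ev₂ R A (x ⊗ₜ y) (Coalgebra.comul (R := R) a) = (x * y) a := by
  rw [ev₂_tmul_eq, LinearMap.convMul_apply]
  simp only [LinearMap.coe_comp, Function.comp_apply, LinearEquiv.coe_coe]
  generalize (TensorProduct.map x.ofConv y.ofConv) (Coalgebra.comul (R := R) a) = s
  induction s using TensorProduct.induction_on with
  | zero => simp
  | tmul a b => simp
  | add s t hs ht => simp only [map_add, hs, ht]


end

/-- Let R be a commutative ring and A a commutative Hopf algebra over R which is finitely generated and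
projective as an R-module (a finite locally free R-group scheme G = Spec A, not assumed
commutative). If the convolution product on the dual Hopf algebra Hom_R(A, R) is commutative, then A
is cocommutative, i.e. G is a commutative group scheme. (The dual Hopf algebra is commutative
exactly when A is cocommutative; the other implication is immediate and not stated. The published
notes work over a Noetherian base ring; the row allows any commutative base ring.) -/
theorem result (R : Type u) [CommRing R] (A : Type v) [CommRing A] [HopfAlgebra R A]
    [Module.Finite R A] [Module.Projective R A] (h : ∀ x y : CartDual.D R A, x * y = y * x) :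
    Coalgebra.IsCocomm R A := by
  constructor
  ext a
  simp only [LinearMap.coe_comp, LinearEquiv.coe_coe, Function.comp_apply]
  rw [← sub_eq_zero, ← Module.forall_dual_apply_eq_zero_iff R]
  intro φ
  obtain ⟨t, rfl⟩ := (ev₂ R A).surjective φ
  rw [map_sub, sub_eq_zero]
  induction t using TensorProduct.induction_on with
  | zero => simp
  | tmul x y => rw [ev₂_swap_arg, ev₂_comul_conv, ev₂_comul_conv, h]
  | add s t hs ht => simp only [map_add, LinearMap.add_apply, hs, ht]

end Groth.Agent.S15897
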