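import Groth.Statements.S15906
-- import your own Groth.Agent.* helpers here
import Mathlib
import Groth.Agent.Lib.Helper90.Conic3

set_option autoImplicit false
open Surf

namespace Groth.Agent.S15906

open W4c3severiratdp in
/-- Work in the lattice of vectors (a; b_1, …, b_δ), standing for divisor classes a ℓ − Σ b_i e_i on the
blow-up of the projective plane at δ points written in a standard basis, with intersection form a a'
− Σ b_i b_i' and canonical class K = (−3; −1, …, −1); a conic class is a class Q with Q·Q = 0 and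
K·Q = −2, an exceptional class (the class of a (−1)-curve) is a class E with E·E = −1 and K·E = −1,
and the Weyl group W_δ is the group of additive automorphisms of the lattice preserving the form and
fixing K. For δ = 8, a class (a; b_1, …, b_8) is a conic class if and only if, up to a permutation
of b_1, …, b_8, it is one of the fifteen vectors (1; 1, 0, 0, 0, 0, 0, 0, 0), (2; 1, 1, 1, 1, 0, 0,
0, 0), (3; 2, 1, 1, 1, 1, 1, 0, 0), (4; 2, 2, 2, 1, 1, 1, 1, 0), (4; 3, 1, 1, 1, 1, 1, 1, 1), (5; 2,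
2, 2, 2, 2, 2, 1, 0), (5; 3, 2, 2, 2, 1, 1, 1, 1), (6; 3, 3, 2, 2, 2, 2, 1, 1), (7; 3, 3, 3, 3, 2,
2, 2, 1), (7; 4, 3, 2, 2, 2, 2, 2, 2), (8; 4, 3, 3, 3, 3, 2, 2, 2), (8; 3, 3, 3, 3, 3, 3, 3, 1), (9;
4, 4, 3, 3, 3, 3, 3, 2), (10; 4, 4, 4, 4, 3, 3, 3, 3), (11; 4, 4, 4, 4, 4, 4, 4, 3). (One line of
the published table is illegible in the available copy; the fifteen vectors here are the complete
solution set of the two defining equations a² = Σ b_i², 3a − Σ b_i = 2.) -/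
theorem result (v : DP 8) :
    IsConic v ↔
      ∃ t ∈ ({![1, 1, 0, 0, 0, 0, 0, 0, 0],
        ![2, 1, 1, 1, 1, 0, 0, 0, 0],
        ![3, 2, 1, 1, 1, 1, 1, 0, 0],
        ![4, 2, 2, 2, 1, 1, 1, 1, 0],
        ![4, 3, 1, 1, 1, 1, 1, 1, 1],
        ![5, 2, 2, 2, 2, 2, 2, 1, 0],
        ![5, 3, 2, 2, 2, 1, 1, 1, 1],
        ![6, 3, 3, 2, 2, 2, 2, 1, 1],
        ![7, 3, 3, 3, 3, 2, 2, 2, 1],
        ![7, 4, 3, 2, 2, 2, 2, 2, 2],
        ![8, 4, 3, 3, 3, 3, 2, 2, 2],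
        ![8, 3, 3, 3, 3, 3, 3, 3, 1],
        ![9, 4, 4, 3, 3, 3, 3, 3, 2],
        ![10, 4, 4, 4, 4, 3, 3, 3, 3],
        ![11, 4, 4, 4, 4, 4, 4, 4, 3]} : Set (DP 8)),
        ∃ σ : Equiv.Perm (Fin 8), v 0 = t 0 ∧ ∀ i : Fin 8, v (σ i).succ = t i.succ := by
  constructor
  · intro hv
    obtain ⟨t, σ, hmem, h0, h⟩ := Groth.Agent.Lib.Helper90.Conic.exists_sorted v hv
    refine ⟨t, ?_, σ, h0, h⟩
    have hL : ∀ l ∈ Groth.Agent.Lib.Helper90.Conic.types15, ∃ t' ∈ ({![1, 1, 0, 0, 0, 0, 0, 0, 0],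
        ![2, 1, 1, 1, 1, 0, 0, 0, 0],
        ![3, 2, 1, 1, 1, 1, 1, 0, 0],
        ![4, 2, 2, 2, 1, 1, 1, 1, 0],
        ![4, 3, 1, 1, 1, 1, 1, 1, 1],
        ![5, 2, 2, 2, 2, 2, 2, 1, 0],
        ![5, 3, 2, 2, 2, 1, 1, 1, 1],
        ![6, 3, 3, 2, 2, 2, 2, 1, 1],
        ![7, 3, 3, 3, 3, 2, 2, 2, 1],
        ![7, 4, 3, 2, 2, 2, 2, 2, 2],
        ![8, 4, 3, 3, 3, 3, 2, 2, 2],
        ![8, 3, 3, 3, 3, 3, 3, 3, 1],
        ![9, 4, 4, 3, 3, 3, 3, 3, 2],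
        ![10, 4, 4, 4, 4, 3, 3, 3, 3],
        ![11, 4, 4, 4, 4, 4, 4, 4, 3]} : Set (DP 8)), List.ofFn t' = l := by
      unfold Groth.Agent.Lib.Helper90.Conic.types15
      simp only [List.forall_mem_cons]
      refine ⟨⟨![1, 1, 0, 0, 0, 0, 0, 0, 0], by simp, rfl⟩,
      ⟨![2, 1, 1, 1, 1, 0, 0, 0, 0], by simp, rfl⟩,
      ⟨![3, 2, 1, 1, 1, 1, 1, 0, 0], by simp, rfl⟩,
      ⟨![4, 2, 2, 2, 1, 1, 1, 1, 0], by simp, rfl⟩,
      ⟨![4, 3, 1, 1, 1, 1, 1, 1, 1], by simp, rfl⟩,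
      ⟨![5, 2, 2, 2, 2, 2, 2, 1, 0], by simp, rfl⟩,
      ⟨![5, 3, 2, 2, 2, 1, 1, 1, 1], by simp, rfl⟩,
      ⟨![6, 3, 3, 2, 2, 2, 2, 1, 1], by simp, rfl⟩,
      ⟨![7, 3, 3, 3, 3, 2, 2, 2, 1], by simp, rfl⟩,
      ⟨![7, 4, 3, 2, 2, 2, 2, 2, 2], by simp, rfl⟩,
      ⟨![8, 3, 3, 3, 3, 3, 3, 3, 1], by simp, rfl⟩,
      ⟨![8, 4, 3, 3, 3, 3, 2, 2, 2], by simp, rfl⟩,
      ⟨![9, 4, 4, 3, 3, 3, 3, 3, 2], by simp, rfl⟩,
      ⟨![10, 4, 4, 4, 4, 3, 3, 3, 3], by simp, rfl⟩,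
      ⟨![11, 4, 4, 4, 4, 4, 4, 4, 3], by simp, rfl⟩, ?_⟩
      intro l hl
      simp at hl
    obtain ⟨t', ht', hEq⟩ := hL _ hmem
    have : t' = t := List.ofFn_injective hEq
    rw [← this]
    exact ht'
  · rintro ⟨t, ht, σ, h0, h⟩
    rw [Groth.Agent.Lib.Helper90.Conic.isConic_perm v t σ h0 h]
    simp only [Set.mem_insert_iff, Set.mem_singleton_iff] at ht
    rcases ht with rfl | rfl | rfl | rfl | rfl | rfl | rfl | rfl | rfl | rfl | rfl | rfl | rfl | rfl | rfl <;>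
    · rw [Groth.Agent.Lib.Helper90.Conic.isConic_iff]
      simp [Fin.sum_univ_succ]

end Groth.Agent.S15906
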