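import Groth.Statements.S15908
import Groth.Agent.Lib.Helper16.DPW6

set_option autoImplicit false
open Surf

namespace Groth.Agent.S15908

open W4c3severiratdp in
/-- Work in the lattice of vectors (a; b_1, …, b_δ), standing for divisor classes a ℓ − Σ b_i e_i on the
blow-up of the projective plane at δ points written in a standard basis, with intersection form a a'
− Σ b_i b_i' and canonical class K = (−3; −1, …, −1); a conic class is a class Q with Q·Q = 0 and
K·Q = −2, an exceptional class (the class of a (−1)-curve) is a class E with E·E = −1 and K·E = −1,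
and the Weyl group W_δ is the group of additive automorphisms of the lattice preserving the form and
fixing K. For δ = 8 the ordered pairs (Q_1, Q_2) of conic classes with Q_1·Q_2 = 4 form exactly two
W_8-orbits: there are two such pairs that no element of W_8 carries one to the other, and every such
pair is carried by an element of W_8 to one of these two. -/
theorem result :
    ∃ p₁ p₂ q₁ q₂ : DP 8, IsConic p₁ ∧ IsConic p₂ ∧ IsConic q₁ ∧ IsConic q₂ ∧ form p₁ p₂ = 4 ∧ form q₁ q₂ = 4 ∧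
      (¬ ∃ g : DP 8 ≃ₗ[ℤ] DP 8, IsWeyl g ∧ g p₁ = q₁ ∧ g p₂ = q₂) ∧
      ∀ v₁ v₂ : DP 8, IsConic v₁ → IsConic v₂ → form v₁ v₂ = 4 →
        ∃ g : DP 8 ≃ₗ[ℤ] DP 8, IsWeyl g ∧ ((g v₁ = p₁ ∧ g v₂ = p₂) ∨ (g v₁ = q₁ ∧ g v₂ = q₂)) := by
  open Groth.Agent.Lib.Helper16.DPW in
  refine ⟨ofL q08, ofL [5, 1, 2, 2, 2, 2, 2, 2, 0], ofL q08, ofL [4, 0, 2, 2, 2, 1, 1, 1, 1],
    isConic_ofL _ rfl (by decide) (by decide), isConic_ofL _ rfl (by decide) (by decide),
    isConic_ofL _ rfl (by decide) (by decide), isConic_ofL _ rfl (by decide) (by decide),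
    by rw [form_ofL _ _ rfl rfl]; decide, by rw [form_ofL _ _ rfl rfl]; decide, ?_, ?_⟩
  · rintro ⟨g, -, h1, h2⟩
    have hsum : g (ofL q08 + ofL [5, 1, 2, 2, 2, 2, 2, 2, 0]) =
        ofL q08 + ofL [4, 0, 2, 2, 2, 1, 1, 1, 1] := by
      rw [map_add, h1, h2]
    have hM : (ofL q08 + ofL [5, 1, 2, 2, 2, 2, 2, 2, 0] : DP 8) =
        (2 : ℤ) • ofL [3, 1, 1, 1, 1, 1, 1, 1, 0] := by
      funext i
      fin_cases i <;> rfl
    rw [hM, map_smul] at hsum
    have h0 := congrFun hsum 0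
    have h5 : (ofL q08 + ofL [4, 0, 2, 2, 2, 1, 1, 1, 1] : DP 8) 0 = 5 := rfl
    rw [h5, Pi.smul_apply, smul_eq_mul] at h0
    omega
  · intro v₁ v₂ hv₁ hv₂ h4
    obtain ⟨g, hg, hg1, hg2⟩ := conic_pair_nf 8 (by norm_num) le_rfl v₁ v₂ hv₁ hv₂
    rw [h4] at hg2
    have htbl : tblConic 8 4 = [[5, 1, 2, 2, 2, 2, 2, 2, 0], [4, 0, 2, 2, 2, 1, 1, 1, 1]] := by
      decide
    have hq : conicQ0 8 = q08 := by decide
    rw [htbl] at hg2
    rw [hq] at hg1
    refine ⟨g, hg, ?_⟩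
    rcases List.mem_cons.mp hg2 with h | h
    · exact Or.inl ⟨eq_ofL_of_ofFn_eq hg1, eq_ofL_of_ofFn_eq h⟩
    · rw [List.mem_singleton] at h
      exact Or.inr ⟨eq_ofL_of_ofFn_eq hg1, eq_ofL_of_ofFn_eq h⟩

end Groth.Agent.S15908
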