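import Groth.Statements.S15910
import Groth.Agent.Lib.Helper16.DPW8

set_option autoImplicit false
open Surf

namespace Groth.Agent.S15910

open W4c3severiratdp in
/-- Work in the lattice of vectors (a; b_1, …, b_δ), standing for divisor classes a ℓ − Σ b_i e_i on the
blow-up of the projective plane at δ points written in a standard basis, with intersection form a a'
− Σ b_i b_i' and canonical class K = (−3; −1, …, −1); a conic class is a class Q with Q·Q = 0 and
K·Q = −2, an exceptional class (the class of a (−1)-curve) is a class E with E·E = −1 and K·E = −1,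
and the Weyl group W_δ is the group of additive automorphisms of the lattice preserving the form and
fixing K. Let δ = 8 and let L be an exceptional class. Let B be the set of unordered triples {λ_1,
λ_2, λ_3} of exceptional classes (repetitions allowed) with λ_1 + λ_2 + λ_3 = −2K + L. Then the
stabilizer of L in W_8 has exactly four orbits on B. Triples are written as maps Fin 3 → lattice and
compared up to reordering: there are four members of B, no two of which are identified by an element
of the stabilizer followed by a reordering, and every member of B is so identified with one of the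
four. -/
theorem result (L : DP 8) (hL : IsExc L) :
    ∃ r : Fin 4 → (Fin 3 → DP 8),
      (∀ j, (∀ i, IsExc (r j i)) ∧ r j 0 + r j 1 + r j 2 = L - 2 • canon 8) ∧
      (∀ j j', (∃ g : DP 8 ≃ₗ[ℤ] DP 8, IsWeyl g ∧ g L = L ∧ ∃ σ : Equiv.Perm (Fin 3), ∀ i, g (r j (σ i)) = r j' i) → j = j') ∧
      ∀ t : Fin 3 → DP 8, (∀ i, IsExc (t i)) → t 0 + t 1 + t 2 = L - 2 • canon 8 →
        ∃ j, ∃ g : DP 8 ≃ₗ[ℤ] DP 8, IsWeyl g ∧ g L = L ∧ ∃ σ : Equiv.Perm (Fin 3), ∀ i, g (t (σ i)) = r j i := by
  open Groth.Agent.Lib.Helper16.DPW in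
  obtain ⟨g0, hg0, hg0L, -⟩ := exc_pair_nf L L hL hL
  have hg0L' : g0 L = E8 := eq_ofL_of_ofFn_eq hg0L
  have hs0 : IsWeyl g0.symm := isWeyl_symm hg0
  have hLE : g0.symm E8 = L := by rw [← hg0L', LinearEquiv.symm_apply_apply]
  refine ⟨fun j i => g0.symm (ofL (RL j i)), ?_, ?_, ?_⟩
  · intro j
    refine ⟨fun i => isWeyl_isExc hs0
      (isExc_ofL _ (RL_check j i).1 (RL_check j i).2.1 (RL_check j i).2.2), ?_⟩
    show g0.symm _ + g0.symm _ + g0.symm _ = _
    rw [← map_add, ← map_add, RL_sum j, map_sub, map_nsmul, hLE, hs0.2]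
  · rintro j j' ⟨g, hg, hgL, σ, hσ⟩
    apply RL_sep
    have key : ∀ j i, form (g0.symm (ofL (RL j i))) L = formL (RL j i) e8L := by
      intro j i
      rw [← hLE, hs0.1, form_ofL _ _ (RL_check j i).1 rfl]
    have hval : ∀ i, formL (RL j' i) e8L = formL (RL j (σ i)) e8L := by
      intro i
      calc formL (RL j' i) e8L = form (g0.symm (ofL (RL j' i))) L := (key j' i).symm
        _ = form (g (g0.symm (ofL (RL j (σ i))))) L := by rw [hσ i]
        _ = form (g (g0.symm (ofL (RL j (σ i))))) (g L) := by rw [hgL]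
        _ = form (g0.symm (ofL (RL j (σ i)))) L := hg.1 _ _
        _ = formL (RL j (σ i)) e8L := key j (σ i)
    rw [← Equiv.sum_comp σ (fun i => (formL (RL j i) e8L) ^ 2)]
    exact Finset.sum_congr rfl (fun i _ => by rw [hval i])
  · intro t ht hsum
    have hs : ∀ i, IsExc (g0 (t i)) := fun i => isWeyl_isExc hg0 (ht i)
    have hsum' : g0 (t 0) + g0 (t 1) + g0 (t 2) = E8 - 2 • canon 8 := by
      rw [← map_add, ← map_add, hsum, map_sub, map_nsmul, hg0L', hg0.2]
    obtain ⟨j, h, hh, hE, σ, hj⟩ := triple_core (fun i => g0 (t i)) hs hsum'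
    refine ⟨j, g0.trans (h.trans g0.symm), isWeyl_trans hg0 (isWeyl_trans hh hs0), ?_, σ, ?_⟩
    · simp only [LinearEquiv.trans_apply]
      rw [hg0L', hE, hLE]
    · intro i
      simp only [LinearEquiv.trans_apply]
      rw [hj i]

end Groth.Agent.S15910
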