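import Groth.Statements.S15939
import Mathlib

set_option autoImplicit false
universe u
open CAlg

namespace Groth.Agent.S15939

section
open Polynomial

variable {κ A : Type u} [Field κ] [CommRing A] [Algebra κ A]

theorem adjoin_eq_top (h : IsSimpleOrder (Subalgebra κ A)) (y : A) (hy : y ∉ (⊥ : Subalgebra κ A)) :
    Algebra.adjoin κ {y} = ⊤ := by
  rcases h.eq_bot_or_eq_top (Algebra.adjoin κ {y}) with h1 | h1
  · exfalso
    apply hy
    rw [← h1]
    exact Algebra.subset_adjoin (Set.mem_singleton y)
  · exact h1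

theorem range_eq_top (h : IsSimpleOrder (Subalgebra κ A)) {B : Type u} [CommRing B] [Algebra κ B]
    (φ : B →ₐ[κ] A) (b : B) (hb : φ b ∉ (⊥ : Subalgebra κ A)) : Function.Surjective φ := by
  rw [← AlgHom.range_eq_top]
  rcases h.eq_bot_or_eq_top φ.range with h1 | h1
  · exfalso
    apply hb
    rw [← h1]
    exact ⟨b, rfl⟩
  · exact h1

theorem isIntegral_of_simple (h : IsSimpleOrder (Subalgebra κ A)) (x : A) : IsIntegral κ x := by
  by_cases hx : x ∈ (⊥ : Subalgebra κ A)
  · obtain ⟨c, rfl⟩ := Algebra.mem_bot.1 hx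
    exact isIntegral_algebraMap
  by_cases hx2 : x ^ 2 ∈ (⊥ : Subalgebra κ A)
  · obtain ⟨c, hc⟩ := Algebra.mem_bot.1 hx2
    refine ⟨X ^ 2 - C c, monic_X_pow_sub_C c (by norm_num), ?_⟩
    rw [← aeval_def]
    simp [hc]
  · have htop := adjoin_eq_top h (x ^ 2) hx2
    have hxmem : x ∈ Algebra.adjoin κ {x ^ 2} := by rw [htop]; exact Algebra.mem_top
    rw [Algebra.adjoin_singleton_eq_range_aeval] at hxmem
    obtain ⟨g, hg⟩ := hxmem
    have hne : expand κ 2 g - X ≠ 0 := by
      intro h0
      have := congrArg (fun q => coeff q 1) h0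
      simp [coeff_expand] at this
    have hroot : aeval x (expand κ 2 g - X) = 0 := by
      rw [map_sub, expand_aeval, aeval_X]
      change aeval (x ^ 2) g = x at hg
      rw [hg, sub_self]
    have halg : IsAlgebraic κ x := ⟨_, hne, hroot⟩
    exact halg.isIntegral

theorem finite_of_simple (h : IsSimpleOrder (Subalgebra κ A)) : FiniteDimensional κ A := by
  obtain ⟨x, -, hx⟩ := SetLike.exists_of_lt (bot_lt_top (α := Subalgebra κ A))
  have htop := adjoin_eq_top h x hx
  have hfin : Module.Finite κ (Algebra.adjoin κ {x}) :=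
    Algebra.finite_adjoin_simple_of_isIntegral (isIntegral_of_simple h x)
  rw [htop] at hfin
  exact Module.Finite.equiv (Subalgebra.topEquiv (R := κ) (A := A)).toLinearEquiv

theorem algebraMap_inj' (h : IsSimpleOrder (Subalgebra κ A)) : Function.Injective (algebraMap κ A) := by
  have : Nontrivial A := by
    by_contra hnt
    rw [not_nontrivial_iff_subsingleton] at hnt
    have h1 : (⊥ : Subalgebra κ A) = ⊤ := by
      apply le_antisymm bot_le
      intro x _
      rw [Subsingleton.elim x 0]
      exact Subalgebra.zero_mem _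
    exact (bot_ne_top (α := Subalgebra κ A)) h1
  exact (algebraMap κ A).injective

theorem dual_case (h : IsSimpleOrder (Subalgebra κ A)) (z : A) (hz0 : z ≠ 0) (hz2 : z * z = 0) :
    Nonempty (A ≃ₐ[κ] DualNumber κ) := by
  have hinj := algebraMap_inj' h
  have hzbot : z ∉ (⊥ : Subalgebra κ A) := by
    intro hz
    obtain ⟨c, rfl⟩ := Algebra.mem_bot.1 hz
    rw [← map_mul, map_eq_zero_iff _ hinj, mul_self_eq_zero] at hz2
    rw [hz2, map_zero] at hz0
    exact hz0 rfl
  let φ : DualNumber κ →ₐ[κ] A :=
    DualNumber.lift ⟨(Algebra.ofId κ A, z), hz2, fun a => Commute.all _ _⟩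
  have hφ : ∀ x : DualNumber κ, φ x = algebraMap κ A x.fst + algebraMap κ A x.snd * z := by
    intro x
    exact DualNumber.lift_apply_apply _ x
  have hsurj : Function.Surjective φ := by
    refine range_eq_top h φ DualNumber.eps ?_
    rw [hφ]
    simpa using hzbot
  have hinjφ : Function.Injective φ := by
    rw [injective_iff_map_eq_zero]
    intro x hx
    rw [hφ] at hx
    have hb : x.snd = 0 := by
      by_contra hb
      apply hzbot
      have : z = algebraMap κ A (-(x.fst / x.snd)) := by
        have h1 : algebraMap κ A (x.snd)⁻¹ * (algebraMap κ A x.fst + algebraMap κ A x.snd * z) = 0 := by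
          rw [hx, mul_zero]
        rw [mul_add, ← mul_assoc, ← map_mul, ← map_mul, inv_mul_cancel₀ hb, map_one, one_mul] at h1
        rw [map_neg, div_eq_inv_mul]
        exact eq_neg_of_add_eq_zero_right h1
      rw [this]
      exact Subalgebra.algebraMap_mem _ _
    rw [hb, map_zero, zero_mul, add_zero, map_eq_zero_iff _ hinj] at hx
    exact TrivSqZeroExt.ext hx hb
  exact ⟨(AlgEquiv.ofBijective φ ⟨hinjφ, hsurj⟩).symm⟩

theorem prod_case (h : IsSimpleOrder (Subalgebra κ A)) (e : A) (he : e * e = e) (he0 : e ≠ 0)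
    (he1 : e ≠ 1) : Nonempty (A ≃ₐ[κ] (κ × κ)) := by
  have hinj := algebraMap_inj' h
  have hebot : e ∉ (⊥ : Subalgebra κ A) := by
    intro hz
    obtain ⟨c, rfl⟩ := Algebra.mem_bot.1 hz
    rw [← map_mul] at he
    have hc := hinj he
    have : c = 0 ∨ c = 1 := by
      have : c * (c - 1) = 0 := by rw [mul_sub, hc, mul_one, sub_self]
      rcases mul_eq_zero.1 this with h1 | h1
      · exact Or.inl h1
      · exact Or.inr (sub_eq_zero.1 h1)
    rcases this with rfl | rfl
    · exact he0 (map_zero _)
    · exact he1 (map_one _)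
  let L : κ × κ →ₗ[κ] A :=
    (LinearMap.fst κ κ κ).smulRight e + (LinearMap.snd κ κ κ).smulRight (1 - e)
  have hL : ∀ x : κ × κ, L x = algebraMap κ A x.1 * e + algebraMap κ A x.2 * (1 - e) := by
    intro x
    simp [L, Algebra.smul_def]
  let φ : κ × κ →ₐ[κ] A := AlgHom.ofLinearMap L (by rw [hL]; simp)
    (by
      intro x y
      rw [hL, hL, hL]
      simp only [Prod.fst_mul, Prod.snd_mul, map_mul]
      linear_combination (-(algebraMap κ A x.1 * algebraMap κ A y.1 -
        algebraMap κ A x.1 * algebraMap κ A y.2 - algebraMap κ A x.2 * algebraMap κ A y.1 +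
        algebraMap κ A x.2 * algebraMap κ A y.2)) * he)
  have hφ : ∀ x : κ × κ, φ x = algebraMap κ A x.1 * e + algebraMap κ A x.2 * (1 - e) := hL
  have hsurj : Function.Surjective φ := by
    refine range_eq_top h φ (1, 0) ?_
    rw [hφ]
    simpa using hebot
  have hinjφ : Function.Injective φ := by
    rw [injective_iff_map_eq_zero]
    intro x hx
    rw [hφ] at hx
    have h1 : algebraMap κ A x.1 * e = 0 := by
      have := congrArg (fun t => t * e) hx
      simp only [zero_mul] at this
      linear_combination this + (algebraMap κ A x.2 - algebraMap κ A x.1) * he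
    have h2 : algebraMap κ A x.2 * (1 - e) = 0 := by
      rw [h1, zero_add] at hx
      exact hx
    have ha : x.1 = 0 := by
      by_contra ha
      apply he0
      have := congrArg (fun t => algebraMap κ A (x.1)⁻¹ * t) h1
      simp only [mul_zero] at this
      rwa [← mul_assoc, ← map_mul, inv_mul_cancel₀ ha, map_one, one_mul] at this
    have hb : x.2 = 0 := by
      by_contra hb
      apply he1
      have := congrArg (fun t => algebraMap κ A (x.2)⁻¹ * t) h2
      simp only [mul_zero] at this
      rw [← mul_assoc, ← map_mul, inv_mul_cancel₀ hb, map_one, one_mul] at this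
      exact (sub_eq_zero.1 this).symm
    exact Prod.ext ha hb
  exact ⟨(AlgEquiv.ofBijective φ ⟨hinjφ, hsurj⟩).symm⟩

end

section
open Polynomial

theorem field_case {κ A : Type u} [Field κ] [Field A] [Algebra κ A]
    (h : IsSimpleOrder (Subalgebra κ A)) [FiniteDimensional κ A] :
    Algebra.IsSeparable κ A ∨
        ∃ (p : ℕ) (a : κ), p.Prime ∧ CharP κ p ∧ (∀ b : κ, b ^ p ≠ a) ∧
          Nonempty (A ≃ₐ[κ] AdjoinRoot (X ^ p - C a)) := by
  classical
  by_cases hsep : Algebra.IsSeparable κ A
  · exact Or.inl hsep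
  right
  obtain ⟨p, hp⟩ := CharP.exists κ
  have hpprime : p.Prime := by
    rcases CharP.char_is_prime_or_zero κ p with hp' | hp0
    · exact hp'
    · exfalso
      subst hp0
      have : CharZero κ := CharP.charP_to_charZero κ
      exact hsep inferInstance
  have hexp : ExpChar κ p := ExpChar.prime hpprime
  have hbot : separableClosure κ A = ⊥ := by
    rcases h.eq_bot_or_eq_top (separableClosure κ A).toSubalgebra with h1 | h1
    · apply IntermediateField.toSubalgebra_injective
      rw [h1, IntermediateField.bot_toSubalgebra]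
    · exfalso
      apply hsep
      refine ⟨fun x => ?_⟩
      have : x ∈ (separableClosure κ A).toSubalgebra := by rw [h1]; exact Algebra.mem_top
      exact mem_separableClosure_iff.1 this
  have hpi : IsPurelyInseparable κ A := separableClosure.eq_bot_iff.1 hbot
  obtain ⟨x, -, hx⟩ := SetLike.exists_of_lt (bot_lt_top (α := Subalgebra κ A))
  have hex : ∃ n : ℕ, x ^ p ^ n ∈ (⊥ : Subalgebra κ A) := by
    obtain ⟨n, hn⟩ := IsPurelyInseparable.pow_mem κ p x
    exact ⟨n, Algebra.mem_bot.2 hn⟩
  have hn0 : Nat.find hex ≠ 0 := by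
    intro h0
    have := Nat.find_spec hex
    rw [h0, pow_zero, pow_one] at this
    exact hx this
  obtain ⟨n, hn⟩ := Nat.exists_eq_succ_of_ne_zero hn0
  have hy : x ^ p ^ n ∉ (⊥ : Subalgebra κ A) :=
    Nat.find_min hex (by rw [hn]; exact Nat.lt_succ_self n)
  have hyp : (x ^ p ^ n) ^ p ∈ (⊥ : Subalgebra κ A) := by
    rw [← pow_mul, ← pow_succ, ← Nat.succ_eq_add_one, ← hn]
    exact Nat.find_spec hex
  obtain ⟨a, ha⟩ := Algebra.mem_bot.1 hyp
  have hnot : ∀ b : κ, b ^ p ≠ a := by
    intro b hb
    have hcA : CharP A p := charP_of_injective_algebraMap (algebraMap κ A).injective p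
    have hfp : Fact p.Prime := ⟨hpprime⟩
    have h1 : (x ^ p ^ n - algebraMap κ A b) ^ p = 0 := by
      rw [sub_pow_char, ← map_pow, hb, ha, sub_self]
    have h2 := pow_eq_zero_iff hpprime.ne_zero |>.1 h1
    apply hy
    rw [sub_eq_zero.1 h2]
    exact Subalgebra.algebraMap_mem _ _
  have hirr := X_pow_sub_C_irreducible_of_prime hpprime hnot
  have hfact : Fact (Irreducible (X ^ p - C a)) := ⟨hirr⟩
  let ψ : AdjoinRoot (X ^ p - C a) →ₐ[κ] A :=
    AdjoinRoot.liftAlgHom (X ^ p - C a) (Algebra.ofId κ A) (x ^ p ^ n) (by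
      rw [eval₂_sub, eval₂_X_pow, eval₂_C]
      change (x ^ p ^ n) ^ p - algebraMap κ A a = 0
      rw [ha, sub_self])
  have hψroot : ψ (AdjoinRoot.root (X ^ p - C a)) = x ^ p ^ n := AdjoinRoot.liftAlgHom_root _ _ _ _
  have hsurj : Function.Surjective ψ := by
    refine range_eq_top h ψ (AdjoinRoot.root (X ^ p - C a)) ?_
    rw [hψroot]
    exact hy
  have hinj : Function.Injective ψ := ψ.toRingHom.injective
  exact ⟨p, a, hpprime, hp, hnot, ⟨(AlgEquiv.ofBijective ψ ⟨hinj, hsurj⟩).symm⟩⟩

end

open Polynomial in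
/-- Let κ be a field and A a commutative κ-algebra whose only κ-subalgebras are the image of κ and A
itself, these two being different. Then A is finite-dimensional over κ, and A is isomorphic as a
κ-algebra to the dual numbers over κ, or to κ × κ, or A is a field which is either separable over κ
or isomorphic to κ[X]/(X^p - a) with p the (positive) characteristic of κ and a an element of κ that
is not a p-th power. (The published statement also records that these four cases exclude one
another; that part is not restated.) -/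
theorem result (κ A : Type u) [Field κ] [CommRing A] [Algebra κ A]
    (h : IsSimpleOrder (Subalgebra κ A)) :
    FiniteDimensional κ A ∧
    (Nonempty (A ≃ₐ[κ] DualNumber κ) ∨ Nonempty (A ≃ₐ[κ] (κ × κ)) ∨
      (IsField A ∧ (Algebra.IsSeparable κ A ∨
        ∃ (p : ℕ) (a : κ), p.Prime ∧ CharP κ p ∧ (∀ b : κ, b ^ p ≠ a) ∧
          Nonempty (A ≃ₐ[κ] AdjoinRoot (X ^ p - C a))))) := by
  classical
  have hfin := finite_of_simple h
  refine ⟨hfin, ?_⟩
  have hart : IsArtinianRing A := IsArtinianRing.of_finite κ A
  have hinj := algebraMap_inj' h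
  have hnt : Nontrivial A := hinj.nontrivial
  by_cases hred : ∃ z : A, z ≠ 0 ∧ IsNilpotent z
  · left
    obtain ⟨z, hz0, hznil⟩ := hred
    have hn1 : Nat.find hznil ≠ 0 := by
      intro h0
      have := Nat.find_spec hznil
      rw [h0, pow_zero] at this
      exact one_ne_zero this
    obtain ⟨m, hm⟩ := Nat.exists_eq_succ_of_ne_zero hn1
    have hm0 : m ≠ 0 := by
      rintro rfl
      have := Nat.find_spec hznil
      rw [hm, pow_one] at this
      exact hz0 this
    have hzm : z ^ m ≠ 0 := Nat.find_min hznil (by rw [hm]; exact Nat.lt_succ_self m)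
    refine dual_case h (z ^ m) hzm ?_
    have h2 : z ^ m * z ^ m = z ^ (m + 1) * z ^ (m - 1) := by
      rw [← pow_add, ← pow_add]
      congr 1
      omega
    rw [h2, ← Nat.succ_eq_add_one, ← hm, Nat.find_spec hznil, zero_mul]
  · right
    by_cases hfield : IsField A
    · right
      refine ⟨hfield, ?_⟩
      let _ : Field A := hfield.toField
      exact field_case h
    · left
      have hex : ∃ y : A, y ≠ 0 ∧ ¬ IsUnit y := by
        by_contra hcon
        push Not at hcon
        exact hfield ⟨exists_pair_ne A, mul_comm, fun {a} ha => (hcon a ha).exists_right_inv⟩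
      obtain ⟨y, hy0, hyu⟩ := hex
      obtain ⟨n, a, hna⟩ := IsArtinian.exists_pow_succ_smul_dvd y (1 : A)
      rw [smul_eq_mul, smul_eq_mul, mul_one, Nat.succ_eq_add_one] at hna
      have hk : ∀ k, y ^ n = y ^ (n + k) * a ^ k := by
        intro k
        induction k with
        | zero => simp
        | succ k ih =>
          calc y ^ n = y ^ (n + k) * a ^ k := ih
            _ = y ^ k * y ^ n * a ^ k := by rw [pow_add]; ring
            _ = y ^ k * (y ^ (n + 1) * a) * a ^ k := by rw [hna]
            _ = y ^ (n + (k + 1)) * a ^ (k + 1) := by ring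
      have he : (y ^ n * a ^ n) * (y ^ n * a ^ n) = y ^ n * a ^ n := by
        have := hk n
        calc (y ^ n * a ^ n) * (y ^ n * a ^ n) = (y ^ (n + n) * a ^ n) * a ^ n := by ring
          _ = y ^ n * a ^ n := by rw [← this]
      refine prod_case h (y ^ n * a ^ n) he ?_ ?_
      · intro h0
        have := hk n
        rw [pow_add, mul_assoc, h0, mul_zero] at this
        exact hred ⟨y, hy0, n, this⟩
      · intro h1
        apply hyu
        by_cases hn : n = 0
        · subst hn
          rw [pow_zero, pow_one] at hna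
          exact IsUnit.of_mul_eq_one _ hna
        · have : IsUnit (y ^ n) := IsUnit.of_mul_eq_one _ h1
          exact (isUnit_pow_iff hn).1 this

end Groth.Agent.S15939
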