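import Groth.Statements.S15941
import Mathlib
-- import your own Groth.Agent.* helpers here

set_option autoImplicit false
universe u
open HTop

namespace Groth.Agent.S15941


/-- An integrally closed integral domain is a seminormal ring, that is, whenever x^3 = y^2 there is
exactly one element a with x = a^2 and y = a^3. (The published statement is for a normal Noetherian
scheme and reduces at once to this affine integral case; the Noetherian hypothesis plays no role.) -/
theorem result (A : Type u) [CommRing A] [IsDomain A]
    [IsIntegrallyClosed A] : HTop.IsSeminormalRing A := by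
  intro x y hxy
  by_cases hx : x = 0
  · subst hx
    have hy : y = 0 := by
      have : y ^ 2 = 0 := by rw [← hxy]; simp
      exact pow_eq_zero_iff (two_ne_zero) |>.1 this
    subst hy
    refine ⟨0, by simp, ?_⟩
    rintro b ⟨hb, -⟩
    exact (pow_eq_zero_iff (two_ne_zero)).1 hb.symm
  · let K := FractionRing A
    have hxK : algebraMap A K x ≠ 0 := by
      rwa [Ne, IsFractionRing.to_map_eq_zero_iff]
    set a' : K := algebraMap A K y / algebraMap A K x with ha'
    have hsq : a' ^ 2 = algebraMap A K x := by
      rw [ha', div_pow, ← map_pow, ← hxy, map_pow, pow_succ, mul_comm,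
        mul_div_assoc, div_self (pow_ne_zero 2 hxK), mul_one]
    have hint : IsIntegral A a' := by
      refine ⟨Polynomial.X ^ 2 - Polynomial.C x, Polynomial.monic_X_pow_sub_C x two_ne_zero, ?_⟩
      simp [hsq]
    obtain ⟨a, ha⟩ := IsIntegrallyClosed.isIntegral_iff.1 hint
    have hinj : Function.Injective (algebraMap A K) := IsFractionRing.injective A K
    have h1 : x = a ^ 2 := by
      apply hinj
      rw [map_pow, ha, hsq]
    have h2 : y = a ^ 3 := by
      apply hinj
      rw [map_pow, ha, pow_succ, hsq, ha', mul_div_cancel₀ _ hxK]
    refine ⟨a, ⟨h1, h2⟩, ?_⟩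
    rintro b ⟨hb1, hb2⟩
    have : b * x = a * x := by
      rw [hb1]
      nth_rewrite 2 [← hb1]
      rw [h1]
      have : b * b ^ 2 = b ^ 3 := by ring
      rw [this, ← hb2, h2]; ring
    exact mul_right_cancel₀ hx this


end Groth.Agent.S15941
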