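import Groth.Statements.S15944
import Groth.Agent.Lib.Helper79.FerrandLFT
import Groth.Agent.Lib.Helper79.JointSurj

set_option autoImplicit false
universe u
open Pinch

namespace Groth.Agent.S15944

open CategoryTheory AlgebraicGeometry in
/-- Let Y be a scheme, f : X → Y a morphism, t : T → Y a scheme affine over Y, ξ : Z → T a morphism with
Z affine over Y via ξ followed by t, and ι : Z → X a closed immersion over Y; assume every point of
Y has an affine open neighbourhood U together with an affine open V of X inside the preimage of U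
containing the image under ι of the part of Z over U; assume moreover that Y is locally Noetherian,
f and t are of finite type and ξ is finite, and let X → P ← T be a push-out of ι and ξ in the
category of schemes, with p : P → Y the induced morphism. Then p is of finite type, and if X and T
are proper over Y then so is P. -/
theorem result {X Y T Z : Scheme.{u}} (f : X ⟶ Y) (t : T ⟶ Y) (ξ : Z ⟶ T) (ι : Z ⟶ X)
    [IsAffineHom t] [IsAffineHom (ξ ≫ t)] [IsClosedImmersion ι] (hsq : ι ≫ f = ξ ≫ t)
    (hstd : ∀ y : Y, ∃ U : Y.Opens, IsAffineOpen U ∧ y ∈ U ∧ ∃ V : X.Opens, IsAffineOpen V ∧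
      V ≤ f ⁻¹ᵁ U ∧ ∀ z : Z, (ξ ≫ t).base z ∈ U → ι.base z ∈ V)
    [IsLocallyNoetherian Y] [LocallyOfFiniteType f] [QuasiCompact f] [LocallyOfFiniteType t] [QuasiCompact t]
    [IsFinite ξ] {P : Scheme.{u}} (a : X ⟶ P) (b : T ⟶ P) (hP : IsPushout ι ξ a b)
    (p : P ⟶ Y) (hap : a ≫ p = f) (hbp : b ≫ p = t) :
    (LocallyOfFiniteType p ∧ QuasiCompact p) ∧ (IsProper f → IsProper t → IsProper p) := by
  have hF : Groth.Agent.Lib.Helper79.Ferrand.Cond ι ξ := by
    intro p
    obtain ⟨U, hU, hpU, V, hV, hVU, hZ⟩ := hstd (t p)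
    refine ⟨⟨V, t ⁻¹ᵁ U, hV, hU.preimage t, ?_⟩, hpU⟩
    ext z
    constructor
    · intro hz
      have h1 : f (ι z) ∈ U := hVU hz
      have h2 : (ι ≫ f) z ∈ U := h1
      rw [hsq] at h2
      exact h2
    · intro hz
      exact hZ z hz
  subst hap hbp
  have hs := Groth.Agent.Lib.Helper79.Ferrand.jointlySurj_of_isPushout hF hP
  have : IsFinite a := Groth.Agent.Lib.Helper79.Ferrand.isFinite_of_isPushout hF hP
  have : IsClosedImmersion b := Groth.Agent.Lib.Helper79.Ferrand.isClosedImmersion_of_isPushout hF hP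
  have hlft : LocallyOfFiniteType p :=
    Groth.Agent.Lib.Helper79.Ferrand.locallyOfFiniteType_of_isPushout hF hP p
  refine ⟨⟨hlft, Groth.Agent.Lib.Helper79.JointSurj.quasiCompact a b p hs⟩, ?_⟩
  intro h1 h2
  have : IsSeparated p := Groth.Agent.Lib.Helper79.JointSurj.isSeparated a b p hs
  have : UniversallyClosed p := Groth.Agent.Lib.Helper79.JointSurj.universallyClosed a b p hs
  exact {}

end Groth.Agent.S15944
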