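import Groth.Statements.S15954
import Groth.Agent.Lib.Helper79.FerrandCokerBC
import Groth.Agent.Lib.Helper79.OverPullbackSq

set_option autoImplicit false
universe u
open Pinch

namespace Groth.Agent.S15954

section aux

open CategoryTheory CategoryTheory.Limits AlgebraicGeometry TopologicalSpace Opposite
  Groth.Agent.Lib.Helper79.Ferrand Groth.Agent.Lib.Helper79.FerrandRing

attribute [local instance] GoodPair.algRX GoodPair.algRY GoodPair.algRZ

theorem special {X Y T Z P : Scheme.{u}} (f : X ⟶ Y) (t : T ⟶ Y) (ξ : Z ⟶ T) (ι : Z ⟶ X)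
    [IsClosedImmersion ι] (hsq : ι ≫ f = ξ ≫ t) [Flat ξ] [Surjective ξ]
    (a : X ⟶ P) (b : T ⟶ P) (hP : IsPushout ι ξ a b) (hF : Cond ι ξ)
    (p : P ⟶ Y) (hap : a ≫ p = f)
    (U : Y.Opens) (hU : IsAffineOpen U) (hUT : IsAffineOpen (t ⁻¹ᵁ U)) (V : X.Opens)
    (hV : IsAffineOpen V) (hVU : V ≤ f ⁻¹ᵁ U)
    (heq : ι ⁻¹ᵁ V = ξ ⁻¹ᵁ (t ⁻¹ᵁ U))
    (hv : @Pinch.CokerProjective Γ(Y, U) Γ(Z, (ξ ≫ t) ⁻¹ᵁ U) Γ(T, t ⁻¹ᵁ U) _ _ _
      ((ξ ≫ t).app U).hom.toAlgebra (ξ.app (t ⁻¹ᵁ U)).hom)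
    (hτ : Set.range (χ hF hP (⟨V, t ⁻¹ᵁ U, hV, hUT, heq⟩ : GoodPair ι ξ) ≫ p) ⊆ (U : Set Y)) :
    @BaseChangeOK _ _ _ ι ξ (⟨V, t ⁻¹ᵁ U, hV, hUT, heq⟩ : GoodPair ι ξ) Γ(Y, U) _
      (φ hF hP p ⟨V, t ⁻¹ᵁ U, hV, hUT, heq⟩ hU hτ).toAlgebra := by
  set τ : GoodPair ι ξ := ⟨V, t ⁻¹ᵁ U, hV, hUT, heq⟩ with hτdef
  letI algC : Algebra Γ(Y, U) τ.C := (φ hF hP p τ hU hτ).toAlgebra
  letI algB : Algebra Γ(Y, U) Γ(Z, (ξ ≫ t) ⁻¹ᵁ U) := ((ξ ≫ t).app U).hom.toAlgebra
  let c : Γ(T, t ⁻¹ᵁ U) →+* Γ(Z, (ξ ≫ t) ⁻¹ᵁ U) := (ξ.app (t ⁻¹ᵁ U)).hom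
  have hproj : Module.Projective Γ(Y, U)
      (Γ(Z, (ξ ≫ t) ⁻¹ᵁ U) ⧸ Submodule.span Γ(Y, U) (Set.range c)) := hv
  -- the two restriction isomorphisms
  let ρ : Γ(Z, (ξ ≫ t) ⁻¹ᵁ U) →+* Γ(Z, τ.W) := (Z.presheaf.map (eqToHom heq).op).hom
  let ρinv : Γ(Z, τ.W) →+* Γ(Z, (ξ ≫ t) ⁻¹ᵁ U) := (Z.presheaf.map (eqToHom heq.symm).op).hom
  have hρ1 : ∀ w, ρinv (ρ w) = w := by
    intro w
    change (Z.presheaf.map (eqToHom heq).op ≫ Z.presheaf.map (eqToHom heq.symm).op) w = w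
    rw [← Functor.map_comp, ← op_comp, eqToHom_trans, eqToHom_refl, op_id, CategoryTheory.Functor.map_id]
    rfl
  have hρ2 : ∀ z, ρ (ρinv z) = z := by
    intro z
    change (Z.presheaf.map (eqToHom heq.symm).op ≫ Z.presheaf.map (eqToHom heq).op) z = z
    rw [← Functor.map_comp, ← op_comp, eqToHom_trans, eqToHom_refl, op_id, CategoryTheory.Functor.map_id]
    rfl
  have hqρ : ∀ y, τ.qHom y = ρ (c y) := fun y => rfl
  have hm : ξ ≫ t = (ι ≫ a) ≫ p := by rw [Category.assoc, hap, hsq]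
  have hle : τ.W ≤ (ξ ≫ t) ⁻¹ᵁ U := heq.le
  have halg : algebraMap Γ(Y, U) Γ(Z, τ.W) = ((ξ ≫ t).appLE U τ.W hle).hom :=
    pHom_fpSnd_φ hF hP p τ hU hτ (ξ ≫ t) hm hle
  have hcomp : (ξ ≫ t).appLE U τ.W hle ≫ Z.presheaf.map (eqToHom heq.symm).op =
      (ξ ≫ t).app U := by
    rw [Scheme.Hom.appLE_map]
    exact (Scheme.Hom.app_eq_appLE _).symm
  have hkey : ∀ r : Γ(Y, U), ρinv (algebraMap Γ(Y, U) Γ(Z, τ.W) r) =
      algebraMap Γ(Y, U) Γ(Z, (ξ ≫ t) ⁻¹ᵁ U) r := by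
    intro r
    rw [halg]
    change ((ξ ≫ t).appLE U τ.W hle ≫ Z.presheaf.map (eqToHom heq.symm).op) r = _
    rw [hcomp]
    rfl
  let ρl : Γ(Z, τ.W) →ₗ[Γ(Y, U)] Γ(Z, (ξ ≫ t) ⁻¹ᵁ U) :=
    { toFun := ρinv
      map_add' := map_add ρinv
      map_smul' := by
        intro r z
        rw [Algebra.smul_def, map_mul, hkey, RingHom.id_apply, Algebra.smul_def] }
  -- the range of `c` is an `R`-submodule
  have hspan : ∀ x, x ∈ Submodule.span Γ(Y, U) (Set.range c) ↔ x ∈ Set.range c := by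
    intro x
    constructor
    · intro hx
      induction hx using Submodule.span_induction with
      | mem x h => exact h
      | zero => exact ⟨0, map_zero _⟩
      | add x y _ _ hx hy =>
        obtain ⟨x', rfl⟩ := hx
        obtain ⟨y', rfl⟩ := hy
        exact ⟨x' + y', map_add _ _ _⟩
      | smul r x _ hx =>
        obtain ⟨x', rfl⟩ := hx
        refine ⟨(t.app U).hom r * x', ?_⟩
        rw [map_mul, Algebra.smul_def]
        rfl
    · intro hx
      exact Submodule.subset_span hx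
  let θ : Γ(Z, τ.W) →ₗ[Γ(Y, U)]
      (Γ(Z, (ξ ≫ t) ⁻¹ᵁ U) ⧸ Submodule.span Γ(Y, U) (Set.range c)) :=
    (Submodule.mkQ _).comp ρl
  have hθ : Function.Surjective θ := by
    intro n
    obtain ⟨w, rfl⟩ := Submodule.mkQ_surjective _ n
    exact ⟨ρ w, congrArg _ (hρ1 w)⟩
  have hcinj : Function.Injective c :=
    app_injective_of_flat_of_surjective ξ (t ⁻¹ᵁ U)
  have hq : Function.Injective τ.qHom := by
    intro y y' hyy'
    rw [hqρ, hqρ] at hyy'
    apply hcinj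
    rw [← hρ1 (c y), hyy', hρ1]
  have hex : Function.Exact τ.qHom θ := by
    intro z
    change Submodule.Quotient.mk (ρinv z) = 0 ↔ _
    rw [Submodule.Quotient.mk_eq_zero, hspan]
    constructor
    · rintro ⟨y, hy⟩
      refine ⟨y, ?_⟩
      rw [hqρ, hy, hρ2]
    · rintro ⟨y, rfl⟩
      refine ⟨y, ?_⟩
      rw [hqρ, hρ1]
  exact τ.baseChangeOK_of_flat_coker Γ(Y, U) hq θ hθ hex

end aux

open CategoryTheory AlgebraicGeometry in
/-- Let Y be a scheme, f : X → Y a morphism, t : T → Y a scheme affine over Y, ξ : Z → T a morphism with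
Z affine over Y via ξ followed by t, and ι : Z → X a closed immersion over Y; assume every point of
Y has an affine open neighbourhood U together with an affine open V of X inside the preimage of U
containing the image under ι of the part of Z over U; assume moreover that Y is locally Noetherian,
f and t are of finite type and ξ is finite, and let X → P ← T be a push-out of ι and ξ in the
category of schemes; assume finally that ξ is faithfully flat and that over every affine open U of Y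
the cokernel of the map from functions on t⁻¹(U) to functions on the part of Z over U is a
projective module over the functions on U. Let p : P → Y be the induced morphism. Then the push-out
commutes with every base change: for every morphism Y' → Y the square obtained by pulling back Z →
X, Z → T, X → P and T → P along Y' → Y is a push-out square in the category of schemes. -/
theorem result {X Y T Z : Scheme.{u}} (f : X ⟶ Y) (t : T ⟶ Y) (ξ : Z ⟶ T) (ι : Z ⟶ X)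
    [IsAffineHom t] [IsAffineHom (ξ ≫ t)] [IsClosedImmersion ι] (hsq : ι ≫ f = ξ ≫ t)
    (hstd : ∀ y : Y, ∃ U : Y.Opens, IsAffineOpen U ∧ y ∈ U ∧ ∃ V : X.Opens, IsAffineOpen V ∧
      V ≤ f ⁻¹ᵁ U ∧ ∀ z : Z, (ξ ≫ t).base z ∈ U → ι.base z ∈ V)
    [IsLocallyNoetherian Y] [LocallyOfFiniteType f] [QuasiCompact f] [LocallyOfFiniteType t] [QuasiCompact t]
    [IsFinite ξ] {P : Scheme.{u}} (a : X ⟶ P) (b : T ⟶ P) (hP : IsPushout ι ξ a b)
    [Flat ξ] [Surjective ξ]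
    (hv : ∀ U : Y.affineOpens, @Pinch.CokerProjective Γ(Y, U) Γ(Z, (ξ ≫ t) ⁻¹ᵁ U) Γ(T, t ⁻¹ᵁ U) _ _ _
      ((ξ ≫ t).app U).hom.toAlgebra (ξ.app (t ⁻¹ᵁ U)).hom)
    (p : P ⟶ Y) (hap : a ≫ p = f) (hbp : b ≫ p = t) {Y' : Scheme.{u}} (g : Y' ⟶ Y) :
    IsPushout ((Over.pullback g).map (Over.homMk ι hsq : Over.mk (ξ ≫ t) ⟶ Over.mk f)).left
      ((Over.pullback g).map (Over.homMk ξ rfl : Over.mk (ξ ≫ t) ⟶ Over.mk t)).left
      ((Over.pullback g).map (Over.homMk a hap : Over.mk f ⟶ Over.mk p)).left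
      ((Over.pullback g).map (Over.homMk b hbp : Over.mk t ⟶ Over.mk p)).left := by
  have heqOf : ∀ (U : Y.Opens) (V : X.Opens), V ≤ f ⁻¹ᵁ U →
      (∀ z : Z, (ξ ≫ t).base z ∈ U → ι.base z ∈ V) → ι ⁻¹ᵁ V = ξ ⁻¹ᵁ (t ⁻¹ᵁ U) := by
    intro U V hVU hZ
    ext z
    constructor
    · intro hz
      have h1 : f (ι z) ∈ U := hVU hz
      have h2 : (ι ≫ f) z ∈ U := h1
      rw [hsq] at h2
      exact h2
    · intro hz
      exact hZ z hz
  have hF : Groth.Agent.Lib.Helper79.Ferrand.Cond ι ξ := by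
    intro p
    obtain ⟨U, hU, hpU, V, hV, hVU, hZ⟩ := hstd (t p)
    exact ⟨⟨V, t ⁻¹ᵁ U, hV, hU.preimage t, heqOf U V hVU hZ⟩, hpU⟩
  refine Groth.Agent.Lib.Helper79.Ferrand.isPushout_of_baseChangeOK' hF hP p g
    (IsPullback.of_hasPullback p g)
    (Groth.Agent.Lib.Helper79.isPullback_overPullback_map g
      (Over.homMk a hap : Over.mk f ⟶ Over.mk p))
    (Groth.Agent.Lib.Helper79.isPullback_overPullback_map g
      (Over.homMk b hbp : Over.mk t ⟶ Over.mk p))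
    (Groth.Agent.Lib.Helper79.isPullback_overPullback_map g
      (Over.homMk ι hsq : Over.mk (ξ ≫ t) ⟶ Over.mk f))
    (Groth.Agent.Lib.Helper79.overPullback_map_left_fst g
      (Over.homMk ξ rfl : Over.mk (ξ ≫ t) ⟶ Over.mk t)) ?_ ?_
  · have e : (Over.homMk ι hsq : Over.mk (ξ ≫ t) ⟶ Over.mk f) ≫
        (Over.homMk a hap : Over.mk f ⟶ Over.mk p) =
        (Over.homMk ξ rfl : Over.mk (ξ ≫ t) ⟶ Over.mk t) ≫
        (Over.homMk b hbp : Over.mk t ⟶ Over.mk p) := by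
      ext
      exact hP.w
    have e' := congrArg (fun k => ((Over.pullback g).map k).left) e
    simpa only [Functor.map_comp, Over.comp_left] using e'
  · intro p₀
    have hcase1 : ∀ t₀ : T, ∃ (τ : Groth.Agent.Lib.Helper79.Ferrand.GoodPair ι ξ) (S₀ : Y.Opens)
        (hS₀ : IsAffineOpen S₀)
        (hτ : Set.range (Groth.Agent.Lib.Helper79.Ferrand.χ hF hP τ ≫ p) ⊆ (S₀ : Set Y)),
        b t₀ ∈ Set.range (Groth.Agent.Lib.Helper79.Ferrand.χ hF hP τ) ∧
        @Groth.Agent.Lib.Helper79.Ferrand.BaseChangeOK _ _ _ ι ξ τ Γ(Y, S₀) _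
          (Groth.Agent.Lib.Helper79.Ferrand.φ hF hP p τ hS₀ hτ).toAlgebra := by
      intro t₀
      obtain ⟨U, hU, ht₀U, V, hV, hVU, hZ⟩ := hstd (t t₀)
      have heq := heqOf U V hVU hZ
      have hτ : Set.range (Groth.Agent.Lib.Helper79.Ferrand.χ hF hP
          (⟨V, t ⁻¹ᵁ U, hV, hU.preimage t, heq⟩ :
            Groth.Agent.Lib.Helper79.Ferrand.GoodPair ι ξ) ≫ p) ⊆ (U : Set Y) := by
        apply Groth.Agent.Lib.Helper79.Ferrand.range_χ_comp_subset hF hP p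
        · rw [hap]; exact hVU
        · rw [hbp]
      refine ⟨⟨V, t ⁻¹ᵁ U, hV, hU.preimage t, heq⟩, U, hU, hτ, ?_, ?_⟩
      · exact Groth.Agent.Lib.Helper79.Ferrand.b_mem_range_χ hF hP _ ht₀U
      · exact special f t ξ ι hsq a b hP hF p hap U hU (hU.preimage t) V hV hVU heq
          (hv ⟨U, hU⟩) hτ
    rcases Groth.Agent.Lib.Helper79.Ferrand.jointlySurj_of_isPushout hF hP p₀ with
      ⟨t₀, rfl⟩ | ⟨x, rfl⟩
    · exact hcase1 t₀
    · by_cases hx : x ∈ Set.range ι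
      · obtain ⟨z, rfl⟩ := hx
        have hab : a (ι z) = b (ξ z) := by
          rw [← Scheme.Hom.comp_apply, hP.w, Scheme.Hom.comp_apply]
        rw [hab]
        exact hcase1 (ξ z)
      · obtain ⟨_, ⟨S₀, hS₀, rfl⟩, hxS₀, -⟩ :=
          Y.isBasis_affineOpens.exists_subset_of_mem_open (Set.mem_univ (f x)) isOpen_univ
        let O : X.Opens := ⟨(Set.range ι)ᶜ, ι.isClosedEmbedding.isClosed_range.isOpen_compl⟩
        obtain ⟨_, ⟨V', hV', rfl⟩, hxV', hV'O⟩ :=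
          X.isBasis_affineOpens.exists_subset_of_mem_open
            (show x ∈ ((f ⁻¹ᵁ S₀ ⊓ O : X.Opens) : Set X) from ⟨hxS₀, hx⟩) (f ⁻¹ᵁ S₀ ⊓ O).isOpen
        have hW : ι ⁻¹ᵁ V' = ⊥ := by
          ext z
          constructor
          · intro hz
            exact ((hV'O hz).2 ⟨z, rfl⟩).elim
          · intro hz
            exact hz.elim
        have heq : ι ⁻¹ᵁ V' = ξ ⁻¹ᵁ (⊥ : T.Opens) := hW
        have hτ : Set.range (Groth.Agent.Lib.Helper79.Ferrand.χ hF hP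
            (⟨V', ⊥, hV', isAffineOpen_bot T, heq⟩ :
              Groth.Agent.Lib.Helper79.Ferrand.GoodPair ι ξ) ≫ p) ⊆ (S₀ : Set Y) := by
          apply Groth.Agent.Lib.Helper79.Ferrand.range_χ_comp_subset hF hP p
          · rw [hap]
            intro x' hx'
            exact (hV'O hx').1
          · exact bot_le
        refine ⟨⟨V', ⊥, hV', isAffineOpen_bot T, heq⟩, S₀, hS₀, hτ, ?_, ?_⟩
        · exact Groth.Agent.Lib.Helper79.Ferrand.a_mem_range_χ hF hP _ hxV'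
        · letI : Algebra Γ(Y, S₀) (Groth.Agent.Lib.Helper79.Ferrand.GoodPair.C
              (⟨V', ⊥, hV', isAffineOpen_bot T, heq⟩ :
                Groth.Agent.Lib.Helper79.Ferrand.GoodPair ι ξ)) :=
            (Groth.Agent.Lib.Helper79.Ferrand.φ hF hP p _ hS₀ hτ).toAlgebra
          exact Groth.Agent.Lib.Helper79.Ferrand.GoodPair.baseChangeOK_of_W_eq_bot _ _ hW

end Groth.Agent.S15954
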