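import Groth.Statements.S15958
import Groth.Agent.Lib.Lead.NeronTorsor

set_option autoImplicit false
universe u
open Neron

namespace Groth.Agent.S15958

open CategoryTheory CategoryTheory.Limits AlgebraicGeometry MonObj
  Groth.Agent.Lib.Lead.NeronTorsor MonoidalCategory CartesianMonoidalCategory

/-- If `f ≫ g` is locally of finite presentation and `g` is locally of finite type, then `f` is
locally of finite presentation (same proof as `Helper50.locallyOfFinitePresentation_of_comp`). -/
theorem lfp_of_comp {X Y Z : Scheme.{u}} (f : X ⟶ Y) (g : Y ⟶ Z)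
    [LocallyOfFinitePresentation (f ≫ g)] [LocallyOfFiniteType g] :
    LocallyOfFinitePresentation f := by
  rw [HasRingHomProperty.iff_exists_appLE (P := @LocallyOfFinitePresentation)
    (RingHom.finitePresentation_stableUnderComposition.stableUnderCompositionWithLocalizationAway
      RingHom.finitePresentation_holdsForLocalizationAway).left]
  intro x
  obtain ⟨_, ⟨W, hW : IsAffineOpen W, rfl⟩, hxW, -⟩ :=
    Z.isBasis_affineOpens.exists_subset_of_mem_open (Set.mem_univ (g (f x))) isOpen_univ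
  obtain ⟨_, ⟨V, hV : IsAffineOpen V, rfl⟩, hxV, hVW⟩ :=
    Y.isBasis_affineOpens.exists_subset_of_mem_open (show f x ∈ g ⁻¹ᵁ W from hxW) (g ⁻¹ᵁ W).2
  obtain ⟨_, ⟨U, hU : IsAffineOpen U, rfl⟩, hxU, hUV⟩ :=
    X.isBasis_affineOpens.exists_subset_of_mem_open (show x ∈ f ⁻¹ᵁ V from hxV) (f ⁻¹ᵁ V).2
  refine ⟨⟨V, hV⟩, ⟨U, hU⟩, hxU, hUV, ?_⟩
  have hUW : U ≤ (f ≫ g) ⁻¹ᵁ W := fun y hy ↦ hVW (hUV hy)
  have h1 : ((f ≫ g).appLE W U hUW).hom.FinitePresentation :=
    HasRingHomProperty.appLE @LocallyOfFinitePresentation _ inferInstance ⟨W, hW⟩ ⟨U, hU⟩ hUW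
  have h2 : (g.appLE W V hVW).hom.FiniteType :=
    HasRingHomProperty.appLE @LocallyOfFiniteType _ inferInstance ⟨W, hW⟩ ⟨V, hV⟩ hVW
  have e : (f ≫ g).appLE W U hUW = g.appLE W V hVW ≫ f.appLE V U hUV :=
    (Scheme.Hom.appLE_comp_appLE ..).symm
  rw [e, CommRingCat.hom_comp] at h1
  exact RingHom.FinitePresentation.of_comp_finiteType _ h1 h2

section Ext

variable {S : Scheme.{u}} {G' G G'' : Over S} [GrpObj G'] [GrpObj G] [GrpObj G'']
  (i : G' ⟶ G) (q : G ⟶ G'') [IsMonHom i] [IsMonHom q] (hker : AlgGrp.IsKernel i q)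

include hker in
theorem i_q {T : Over S} (n : T ⟶ G') : (n ≫ i) ≫ q = 1 := by
  have hw : i ≫ q = toUnit G' ≫ η[G''] := hker.w
  rw [Category.assoc, hw, ← Category.assoc, Hom.one_def]
  congr 1
  exact toUnit_unique _ _

include hker in
theorem exists_ker_lift {T : Over S} (g : T ⟶ G) (hg : g ≫ q = 1) : ∃ n : T ⟶ G', n ≫ i = g :=
  ⟨hker.lift g (toUnit T) (by rw [hg, Hom.one_def]), hker.lift_fst _ _ _⟩

include hker in
theorem ker_ext {T : Over S} (a b : T ⟶ G') (h : a ≫ i = b ≫ i) : a = b :=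
  hker.hom_ext h (toUnit_unique _ _)

/-- The translation map `(n, g) ↦ i(n) g`. -/
noncomputable def tr : G' ⊗ G ⟶ G := (fst G' G ≫ i) * snd G' G

theorem lift_tr {T : Over S} (n : T ⟶ G') (g : T ⟶ G) : lift n g ≫ tr i = (n ≫ i) * g := by
  unfold tr
  rw [MonObj.comp_mul, ← Category.assoc, lift_fst, lift_snd]

include hker in
theorem isPullback_q : IsPullback (tr i) (snd G' G) q q := by
  have hw : tr i ≫ q = snd G' G ≫ q := by
    unfold tr
    rw [MonObj.mul_comp, i_q i q hker, _root_.one_mul]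
  have hcond : ∀ s : PullbackCone q q, (s.fst * s.snd⁻¹) ≫ q = 1 := by
    intro s
    rw [MonObj.mul_comp, GrpObj.inv_comp, s.condition, mul_inv_cancel]
  refine ⟨⟨hw⟩, ⟨PullbackCone.IsLimit.mk _
    (fun s => lift (hker.lift (s.fst * s.snd⁻¹) (toUnit _) (by rw [hcond s, Hom.one_def])) s.snd)
    ?_ ?_ ?_⟩⟩
  · intro s
    rw [lift_tr, hker.lift_fst, inv_mul_cancel_right]
  · intro s
    rw [lift_snd]
  · intro s m hm₁ hm₂
    apply CartesianMonoidalCategory.hom_ext
    · rw [lift_fst]
      apply ker_ext i q hker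
      rw [hker.lift_fst]
      have : m = lift (m ≫ fst G' G) (m ≫ snd G' G) := by
        apply CartesianMonoidalCategory.hom_ext <;> simp
      rw [this, lift_tr, hm₂] at hm₁
      rw [← hm₁, mul_inv_cancel_right]
    · rw [lift_snd, hm₂]

include hker in
theorem smooth_q [Smooth G'.hom] [LocallyOfFiniteType G''.hom] [LocallyOfFinitePresentation G.hom]
    [Flat q.left] [Surjective q.left] : Smooth q.left := by
  have hsq : IsPullback (tr i).left (snd G' G).left q.left q.left :=
    (isPullback_q i q hker).map (Over.forget S)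
  haveI : LocallyOfFinitePresentation q.left := by
    haveI : LocallyOfFinitePresentation (q.left ≫ G''.hom) := by
      rw [Over.w q]
      infer_instance
    exact lfp_of_comp q.left G''.hom
  have hsnd : Smooth (snd G' G).left := by
    rw [Over.snd_left]
    infer_instance
  exact MorphismProperty.of_isPullback_of_descendsAlong (P := @Smooth)
    (Q := @Surjective ⊓ @Flat ⊓ @LocallyOfFinitePresentation) hsq.flip
    ⟨⟨inferInstance, inferInstance⟩, inferInstance⟩ hsnd

variable {S₀ : Scheme.{u}} (i₀ : S₀ ⟶ S)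

include hker in
theorem injective_G
    (hG' : ∀ Z : Over S, Smooth Z.hom → Function.Injective (fun g : Z ⟶ G' => res i₀ Z ≫ g))
    (hG'' : ∀ Z : Over S, Smooth Z.hom → Function.Injective (fun g : Z ⟶ G'' => res i₀ Z ≫ g))
    (Z : Over S) (hZ : Smooth Z.hom) :
    Function.Injective (fun g : Z ⟶ G => res i₀ Z ≫ g) := by
  intro u v (huv : res i₀ Z ≫ u = res i₀ Z ≫ v)
  have h1 : u ≫ q = v ≫ q := by
    apply hG'' Z hZ
    change res i₀ Z ≫ u ≫ q = res i₀ Z ≫ v ≫ q
    rw [← Category.assoc, huv, Category.assoc]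
  have h2 : (u * v⁻¹) ≫ q = 1 := by
    rw [MonObj.mul_comp, GrpObj.inv_comp, h1, mul_inv_cancel]
  obtain ⟨w, hw⟩ := exists_ker_lift i q hker _ h2
  have h3 : res i₀ Z ≫ w = res i₀ Z ≫ (1 : Z ⟶ G') := by
    apply ker_ext i q hker
    rw [Category.assoc, hw, MonObj.comp_mul, GrpObj.comp_inv, huv, mul_inv_cancel,
      Category.assoc, MonObj.one_comp, MonObj.comp_one]
  have h4 : w = 1 := hG' Z hZ h3
  rw [h4, MonObj.one_comp] at hw
  exact mul_inv_eq_one.1 hw.symm

include hker in
theorem surjective_G [Smooth q.left] [Surjective q.left]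
    (hG' : ∀ Z : Over S, Smooth Z.hom → Function.Bijective (fun g : Z ⟶ G' => res i₀ Z ≫ g))
    (hG'' : ∀ Z : Over S, Smooth Z.hom → Function.Bijective (fun g : Z ⟶ G'' => res i₀ Z ≫ g))
    (Z : Over S) (hZ : Smooth Z.hom) :
    Function.Surjective (fun g : Z ⟶ G => res i₀ Z ≫ g) := by
  intro φ
  obtain ⟨v, hv⟩ := (hG'' Z hZ).2 (φ ≫ q)
  have hv' : res i₀ Z ≫ v = φ ≫ q := hv
  obtain ⟨T, e', t, he, hs, ht⟩ := exists_etale_surjective_section (pullback.snd q.left v.left)
  let Z' : Over S := Over.mk (e' ≫ Z.hom)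
  let e : Z' ⟶ Z := Over.homMk e' rfl
  have hg'w : (t ≫ pullback.fst q.left v.left) ≫ G.hom = e' ≫ Z.hom := by
    rw [← Over.w q, ← Over.w v, Category.assoc, ← Category.assoc (pullback.fst q.left v.left),
      pullback.condition, Category.assoc, ← Category.assoc t, ht]
  let g' : Z' ⟶ G := Over.homMk (t ≫ pullback.fst q.left v.left) hg'w
  have hg'q : g' ≫ q = e ≫ v := by
    apply Over.OverMorphism.ext
    change (t ≫ pullback.fst q.left v.left) ≫ q.left = e' ≫ v.left
    rw [Category.assoc, pullback.condition, ← Category.assoc, ht]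
  haveI : Etale e.left := he
  haveI : Surjective e.left := hs
  haveI := hZ
  have hZ' : Smooth Z'.hom := by
    change Smooth (e' ≫ Z.hom)
    infer_instance
  have hnat : (W i₀).map e ≫ res i₀ Z = res i₀ Z' ≫ e := res_naturality i₀ e
  have hφq : ((W i₀).map e ≫ φ) ≫ q = (res i₀ Z' ≫ g') ≫ q := by
    rw [Category.assoc, ← hv', ← Category.assoc, hnat, Category.assoc, Category.assoc, hg'q]
  have h1 : (((W i₀).map e ≫ φ) * (res i₀ Z' ≫ g')⁻¹) ≫ q = 1 := by
    rw [MonObj.mul_comp, GrpObj.inv_comp, hφq, mul_inv_cancel]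
  obtain ⟨nK, hnK⟩ := exists_ker_lift i q hker _ h1
  obtain ⟨n, hn⟩ := (hG' Z' hZ').2 nK
  have hn' : res i₀ Z' ≫ n = nK := hn
  have hu' : res i₀ Z' ≫ ((n ≫ i) * g') = (W i₀).map e ≫ φ := by
    rw [MonObj.comp_mul, ← Category.assoc, hn', hnK, inv_mul_cancel_right]
  haveI := hZ'
  have hZ'' := smooth_kp e
  have hkp : kp₁ e ≫ ((n ≫ i) * g') = kp₂ e ≫ ((n ≫ i) * g') := by
    apply injective_G i q hker i₀ (fun Z hZ => (hG' Z hZ).1) (fun Z hZ => (hG'' Z hZ).1) _ hZ''
    change res i₀ _ ≫ kp₁ e ≫ ((n ≫ i) * g') = res i₀ _ ≫ kp₂ e ≫ ((n ≫ i) * g')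
    rw [← Category.assoc, ← Category.assoc, ← res_naturality, ← res_naturality,
      Category.assoc, Category.assoc, hu', ← Category.assoc, ← Category.assoc,
      ← Functor.map_comp, ← Functor.map_comp, kp_condition]
  obtain ⟨u, hu⟩ := exists_desc e ((n ≫ i) * g') hkp
  refine ⟨u, ?_⟩
  haveI := epi_W_map i₀ e
  change res i₀ Z ≫ u = φ
  rw [← cancel_epi ((W i₀).map e), ← Category.assoc, res_naturality, Category.assoc, hu, hu']

end Ext

open CategoryTheory AlgebraicGeometry MonObj in
/-- Let S be a Dedekind scheme (integral, Noetherian, separated, of dimension one, with regular local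
rings) with generic point η : Spec K → S, and let G', G and G'' be smooth separated group schemes
over S sitting in a short exact sequence 0 → G' → G → G'' → 0: i : G' → G and q : G → G'' are
homomorphisms, i identifies G' with the kernel of q, and q is flat and surjective. If G' and G'' are
Néron lft-models of their generic fibres (for every smooth S-scheme Y, restriction to η is a
bijection from S-morphisms into them onto K-morphisms of generic fibres), then so is G. -/
theorem result
    {S : Scheme.{u}} [IsIntegral S] [IsNoetherian S] [S.IsSeparated]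
    (hreg : ∀ s : S, IsRegularLocalRing (S.presheaf.stalk s)) (hdim : topologicalKrullDim S = 1)
    (G' G G'' : Over S) [GrpObj G'] [GrpObj G] [GrpObj G'']
    [Smooth G'.hom] [IsSeparated G'.hom] [Smooth G.hom] [IsSeparated G.hom] [Smooth G''.hom] [IsSeparated G''.hom]
    (i : G' ⟶ G) (q : G ⟶ G'') [IsMonHom i] [IsMonHom q]
    (hker : AlgGrp.IsKernel i q) [Flat q.left] [Surjective q.left]
    (hG' : ∀ Y : Over S, Smooth Y.hom →
        Function.Bijective (fun g : Y ⟶ G' => (Over.pullback (S.fromSpecStalk (genericPoint S))).map g))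
    (hG'' : ∀ Y : Over S, Smooth Y.hom →
        Function.Bijective (fun g : Y ⟶ G'' => (Over.pullback (S.fromSpecStalk (genericPoint S))).map g)) :
    ∀ Y : Over S, Smooth Y.hom →
        Function.Bijective (fun g : Y ⟶ G => (Over.pullback (S.fromSpecStalk (genericPoint S))).map g) := by
  classical
  haveI : Smooth q.left := smooth_q i q hker
  have hG'r : ∀ Z : Over S, Smooth Z.hom →
      Function.Bijective (fun g : Z ⟶ G' => res (S.fromSpecStalk (genericPoint S)) Z ≫ g) :=
    fun Z hZ => (bijective_iff _ Z G').1 (hG' Z hZ)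
  have hG''r : ∀ Z : Over S, Smooth Z.hom →
      Function.Bijective (fun g : Z ⟶ G'' => res (S.fromSpecStalk (genericPoint S)) Z ≫ g) :=
    fun Z hZ => (bijective_iff _ Z G'').1 (hG'' Z hZ)
  intro Y hY
  rw [bijective_iff]
  exact ⟨injective_G i q hker _ (fun Z hZ => (hG'r Z hZ).1) (fun Z hZ => (hG''r Z hZ).1) Y hY,
    surjective_G i q hker _ hG'r hG''r Y hY⟩

end Groth.Agent.S15958
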