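import Groth.Statements.S15963
import Groth.Agent.Lib.Helper20.Seminormal3
import Groth.Agent.Lib.Helper20.AwnScheme5

set_option autoImplicit false
universe u
open HTop

namespace Groth.Agent.S15963

theorem finite_of_injective_comp {A B C : Type u} [CommRing A] [CommRing B] [CommRing C]
    [IsNoetherianRing A] (f : A →+* B) (g : B →+* C) (hg : Function.Injective g)
    (h : (g.comp f).Finite) : f.Finite := by
  algebraize [f, g.comp f]
  letI : Algebra B C := g.toAlgebra
  haveI : IsScalarTower A B C := IsScalarTower.of_algebraMap_eq fun _ => rfl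
  haveI : Module.Finite A C := h
  haveI : IsNoetherian A C := isNoetherian_of_isNoetherianRing_of_finite A C
  exact Module.Finite.of_injective (IsScalarTower.toAlgHom A B C).toLinearMap hg

open CategoryTheory AlgebraicGeometry in
/-- Let S be a reduced Noetherian scheme, π : S̃ → S its normalisation (S̃ has integrally closed local
domains, π is integral and an isomorphism over a dense open subset of S with dense preimage), ν : X'
→ S a seminormalization of S (X' seminormal, ν a universal homeomorphism with residue-field
isomorphisms, initial among such) and g : S̃ → X' a morphism with g followed by ν equal to π. Then ν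
and g are scheme-theoretically dominant (the structure sheaf maps injectively into the direct
image), and if π is finite then so are ν and g. -/
theorem result {S Sn X' : Scheme.{u}}
    [IsNoetherian S] [IsReduced S]
    (π : Sn ⟶ S) [IsIntegralHom π] (hn : Pi1.IsNormalScheme Sn)
    (hbir : ∃ U : S.Opens, Dense (U : Set S) ∧ Dense ((π ⁻¹ᵁ U : Sn.Opens) : Set Sn) ∧ IsIso (π ∣_ U))
    (ν : X' ⟶ S) (hν : HTop.IsSeminormalization ν) (hX' : HTop.IsSeminormal X')
    (g : Sn ⟶ X') (hg : g ≫ ν = π) :
    (IsSchemeTheoreticallyDominant ν ∧ IsSchemeTheoreticallyDominant g) ∧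
      (IsFinite π → IsFinite ν ∧ IsFinite g) := by
  subst hg
  have hνh : IsHomeomorph ν := hν.1.1 (𝟙 _) (𝟙 _) ν IsPullback.of_id_snd
  have hνaff : IsAffineHom ν := Groth.Agent.Lib.Helper20.AwnScheme.isAffineHom_of_uh ν hν.1.1
  have hνsurj : Surjective ν := ⟨hνh.surjective⟩
  have hXred : IsReduced X' := Groth.Agent.Lib.Helper20.Seminormal.isReduced_of_isSeminormal hX'
  have h1 : IsSchemeTheoreticallyDominant ν := IsSchemeTheoreticallyDominant.of_isDominant ν
  -- g dominant
  have hπdom : DenseRange (g ≫ ν) := by
    obtain ⟨U, hU, -, hiso⟩ := hbir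
    refine hU.mono ?_
    intro x hx
    have : Function.Surjective ((g ≫ ν) ∣_ U) := (inferInstance : Surjective ((g ≫ ν) ∣_ U)).surj
    obtain ⟨y, hy⟩ := this ⟨x, hx⟩
    refine ⟨y.1, ?_⟩
    have := congrArg Subtype.val hy
    exact (morphismRestrict_base_coe (g ≫ ν) U y).symm.trans this
  have hgdom : IsDominant g := by
    refine ⟨?_⟩
    have : Set.range g = ν ⁻¹' (Set.range (g ≫ ν)) := by
      ext x
      simp only [Set.mem_range, Set.mem_preimage, Scheme.Hom.comp_apply]
      constructor
      · rintro ⟨y, rfl⟩; exact ⟨y, rfl⟩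
      · rintro ⟨y, hy⟩; exact ⟨y, hνh.injective hy⟩
    rw [DenseRange, this]
    exact hπdom.preimage hνh.isOpenMap
  have h2 : IsSchemeTheoreticallyDominant g := IsSchemeTheoreticallyDominant.of_isDominant g
  refine ⟨⟨h1, h2⟩, fun hfin => ?_⟩
  have hgfin : IsFinite g := IsFinite.of_comp g ν
  refine ⟨?_, hgfin⟩
  refine { toIsAffineHom := hνaff, finite_app := fun U hU => ?_ }
  have hN : IsNoetherianRing Γ(S, U) := IsLocallyNoetherian.component_noetherian ⟨U, hU⟩
  have hfin' := hfin.finite_app U hU
  rw [Scheme.Hom.comp_app] at hfin'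
  exact finite_of_injective_comp (ν.app U).hom (g.app (ν ⁻¹ᵁ U)).hom (g.app_injective _) hfin'

end Groth.Agent.S15963
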