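import Groth.Statements.S15987
import Mathlib.Tactic

set_option autoImplicit false
universe u v
open Deform

namespace Groth.Agent.S15987

section
open TrivSqZeroExt
variable {k : Type u} [Field k] {A : Type u} [CommRing A] [Algebra k A]

/-- the algebra endomorphism `(a, b) ↦ (a, D a + b)` -/
noncomputable def fD (D : Derivation k A A) : DualNumber A →ₐ[k] DualNumber A :=
  AlgHom.ofLinearMap
    { toFun := fun x => inl x.fst + inr (D x.fst + x.snd)
      map_add' := fun x y => by
        ext <;> simp [add_add_add_comm]
      map_smul' := fun r x => by
        ext <;> simp }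
    (by ext <;> simp)
    (fun x y => by
      ext
      · simp
      · simp [DualNumber.snd_mul]
        ring)

lemma fD_fst (D : Derivation k A A) (x : DualNumber A) : (fD D x).fst = x.fst := by
  simp [fD]

lemma fD_snd (D : Derivation k A A) (x : DualNumber A) : (fD D x).snd = D x.fst + x.snd := by
  simp [fD]

noncomputable def eD (D : Derivation k A A) : DualNumber A ≃ₐ[k] DualNumber A :=
  AlgEquiv.ofAlgHom (fD D) (fD (-D))
    (by
      apply AlgHom.ext
      intro x
      ext
      · simp [fD_fst]
      · simp [fD_fst, fD_snd])
    (by
      apply AlgHom.ext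
      intro x
      ext
      · simp [fD_fst]
      · simp [fD_fst, fD_snd])

lemma eD_fst (D : Derivation k A A) (x : DualNumber A) : (eD D x).fst = x.fst := fD_fst D x

lemma eD_snd (D : Derivation k A A) (x : DualNumber A) : (eD D x).snd = D x.fst + x.snd :=
  fD_snd D x

/-- the derivation attached to an automorphism which is the identity mod eps -/
noncomputable def Dφ (φ : DualNumber A ≃ₐ[k] DualNumber A) (h1 : ∀ x, (φ x).fst = x.fst) :
    Derivation k A A where
  toFun a := (φ (inl a)).snd
  map_add' a b := by simp
  map_smul' r a := by
    have : (inl (r • a) : DualNumber A) = r • inl a := by ext <;> simp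
    simp [this]
  map_one_eq_zero' := by
    have : (inl (1 : A) : DualNumber A) = 1 := rfl
    simp [this]
  leibniz' a b := by
    have : (inl (a * b) : DualNumber A) = inl a * inl b := by ext <;> simp
    simp only [LinearMap.coe_mk, AddHom.coe_mk, this, map_mul, DualNumber.snd_mul, h1, fst_inl,
      smul_eq_mul]
    ring

end

open TrivSqZeroExt in
/-- Let k be a field, A a commutative k-algebra and q_i : A → k (i ∈ ι) k-algebra maps (marked k-points
of Spec A). The k-algebra automorphisms φ of the ring of dual numbers A[ε] that fix ε (so are
k[ε]-linear), are the identity modulo ε, and satisfy q_i((φ x)_ε) = q_i(x_ε) for all i and x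
(compatibility with the trivial lifts A[ε] → k[ε] of the marked points) are in bijection with the
k-derivations D : A → A such that q_i ∘ D = 0 for every i, the bijection sending φ to a ↦ (φ(a))_ε.
(The source identifies the right-hand side with the global vector fields vanishing at the marked
points; the condition the computation yields is q_i ∘ D = 0, which is the same for Spec A smooth
over k but is weaker in general, e.g. for A = k[x]/(x^2) with 2 invertible in k.) -/
theorem result
    (k : Type u) [Field k] (A : Type u) [CommRing A] [Algebra k A] {ι : Type v} (q : ι → (A →ₐ[k] k)) :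
    ∃ e : {φ : DualNumber A ≃ₐ[k] DualNumber A //
            φ DualNumber.eps = DualNumber.eps ∧ (∀ x, (φ x).fst = x.fst) ∧
              ∀ i x, q i (φ x).snd = q i x.snd} ≃
          {D : Derivation k A A // ∀ i a, q i (D a) = 0},
      ∀ φ (a : A), (e φ).1 a = (φ.1 (inl a : DualNumber A)).snd := by
  have hφ : ∀ (φ : DualNumber A ≃ₐ[k] DualNumber A), φ DualNumber.eps = DualNumber.eps →
      (∀ x, (φ x).fst = x.fst) → ∀ x, (φ x).snd = (φ (inl x.fst)).snd + x.snd := by
    intro φ he h1 x
    have hx : x = inl x.fst + inl x.snd * DualNumber.eps := by
      ext <;> simp [DualNumber.snd_mul]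
    conv_lhs => rw [hx]
    rw [map_add, map_mul, he]
    simp [DualNumber.snd_mul, h1]
  refine ⟨
    { toFun := fun φ => ⟨Dφ φ.1 φ.2.2.1, fun i a => by
        have := φ.2.2.2 i (inl a)
        rw [snd_inl, map_zero] at this
        exact this⟩
      invFun := fun D => ⟨eD D.1, by
        refine ⟨?_, fun x => eD_fst D.1 x, fun i x => ?_⟩
        · ext
          · simp [eD_fst]
          · simp [eD_snd]
        · rw [eD_snd, map_add, D.2, zero_add]⟩
      left_inv := fun φ => by
        apply Subtype.ext
        apply AlgEquiv.ext
        intro x
        ext
        · rw [eD_fst, φ.2.2.1]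
        · rw [eD_snd, hφ φ.1 φ.2.1 φ.2.2.1 x]
          rfl
      right_inv := fun D => by
        apply Subtype.ext
        apply Derivation.ext
        intro a
        change (eD D.1 (inl a)).snd = D.1 a
        rw [eD_snd]
        simp }, fun φ a => rfl⟩

end Groth.Agent.S15987
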