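import Groth.Statements.S15988
import Mathlib.Tactic
import Mathlib.RingTheory.Smooth.Basic
import Mathlib.RingTheory.Kaehler.Basic
import Mathlib.RingTheory.Ideal.Quotient.Operations
import Groth.Agent.S15987

set_option autoImplicit false
universe u v
open Deform

namespace Groth.Agent.S15988

open TrivSqZeroExt in
/-- Let k be a field, A a smooth commutative k-algebra, q_i : A → k (i ∈ ι, ι finite) pairwise distinct
k-algebra maps, and q'_i : A[ε] → k[ε] k-algebra maps with q'_i(ε) = ε which reduce to q_i modulo ε
(marked points of a first-order deformation with underlying trivial deformation). Then some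
k-algebra automorphism φ of A[ε] with φ(ε) = ε and φ = id modulo ε carries every q'_i to the trivial
lift of q_i: q'_i(φ x) = (q_i(x_0), q_i(x_ε)) for all i and x. Together with the triviality of
first-order deformations of a smooth affine scheme this gives the source's statement that
first-order deformations of a smooth affine scheme with marked points are trivial. (The published
statement does not say that the finitely many marked points are distinct; for two coincident points
with different lifts no such automorphism exists, so the points are taken pairwise distinct here,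
and the source's non-singular is read as smooth over k.) -/
theorem result
    (k : Type u) [Field k] (A : Type u) [CommRing A] [Algebra k A] [Algebra.Smooth k A]
    {ι : Type v} [Finite ι] (q : ι → (A →ₐ[k] k)) (hq : Function.Injective q)
    (q' : ι → (DualNumber A →ₐ[k] DualNumber k))
    (hε : ∀ i, q' i DualNumber.eps = DualNumber.eps) (hq' : ∀ i x, (q' i x).fst = q i x.fst) :
    ∃ φ : DualNumber A ≃ₐ[k] DualNumber A,
      φ DualNumber.eps = DualNumber.eps ∧ (∀ x, (φ x).fst = x.fst) ∧
        ∀ i x, (q' i (φ x)).fst = q i x.fst ∧ (q' i (φ x)).snd = q i x.snd := by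
  classical
  have hq'x : ∀ i (x : DualNumber A),
      q' i x = q' i (inl x.fst) + q' i (inl x.snd) * DualNumber.eps := by
    intro i x
    have hx : x = inl x.fst + inl x.snd * DualNumber.eps := by
      ext <;> simp
    conv_lhs => rw [hx]
    rw [map_add, map_mul, hε]
  let Q : A →+* (ι → k) := Pi.ringHom (fun i => (q i : A →+* k))
  letI : Algebra A (ι → k) := Q.toAlgebra
  have halg : ∀ (a : A) (i : ι), algebraMap A (ι → k) a i = q i a := fun a i => rfl
  have hsmul : ∀ (a : A) (v : ι → k) (i : ι), (a • v) i = q i a * v i := by
    intro a v i
    rw [Algebra.smul_def, Pi.mul_apply, halg]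
  haveI : IsScalarTower k A (ι → k) := IsScalarTower.of_algebraMap_eq (fun c => by
    ext i
    rw [halg, AlgHom.commutes]
    rfl)
  let δ : Derivation k A (ι → k) := Derivation.mk'
    { toFun := fun a i => (q' i (inl a)).snd
      map_add' := by
        intro a b
        ext i
        simp
      map_smul' := by
        intro c a
        ext i
        have : (inl (c • a) : DualNumber A) = c • inl a := by ext <;> simp
        simp [this] }
    (by
      intro a b
      ext i
      have : (inl (a * b) : DualNumber A) = inl a * inl b := by ext <;> simp
      simp only [LinearMap.coe_mk, AddHom.coe_mk, this, map_mul, DualNumber.snd_mul, Pi.add_apply,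
        hsmul, hq', fst_inl]
      ring)
  have hδ : ∀ a i, δ a i = (q' i (inl a)).snd := fun a i => rfl
  have hsurj : Function.Surjective (Algebra.linearMap A (ι → k)) := by
    intro v
    have hmax : ∀ i, (RingHom.ker (q i : A →+* k)).IsMaximal := by
      intro i
      apply RingHom.ker_isMaximal_of_surjective
      intro c
      exact ⟨algebraMap k A c, by simp⟩
    have hcop : Pairwise (Function.onFun IsCoprime fun i => RingHom.ker (q i : A →+* k)) := by
      intro i j hij
      haveI := hmax i
      haveI := hmax j
      apply Ideal.isCoprime_of_isMaximal
      intro hker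
      replace hker : RingHom.ker (q i : A →+* k) = RingHom.ker (q j : A →+* k) := hker
      apply hij
      apply hq
      apply AlgHom.ext
      intro a
      have h1 : a - algebraMap k A (q i a) ∈ RingHom.ker (q i : A →+* k) := by
        rw [RingHom.mem_ker]
        simp
      rw [hker, RingHom.mem_ker] at h1
      have h2 : q j a - q i a = 0 := by simpa using h1
      exact (sub_eq_zero.mp h2).symm
    obtain ⟨r, hr⟩ := Ideal.exists_forall_sub_mem_ideal hcop (fun i => algebraMap k A (v i))
    refine ⟨r, ?_⟩
    ext i
    have h1 := hr i
    rw [RingHom.mem_ker] at h1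
    have h2 : q i r - v i = 0 := by simpa using h1
    rw [Algebra.linearMap_apply, halg]
    exact sub_eq_zero.mp h2
  obtain ⟨h, hh⟩ := Module.projective_lifting_property (P := Ω[A⁄k])
    (Algebra.linearMap A (ι → k)) (-δ.liftKaehlerDifferential) hsurj
  let D : Derivation k A A := h.compDer (KaehlerDifferential.D k A)
  have hD : ∀ i a, q i (D a) = -(q' i (inl a)).snd := by
    intro i a
    have h1 := LinearMap.congr_fun hh (KaehlerDifferential.D k A a)
    have h2 := congrFun h1 i
    simp only [LinearMap.comp_apply, Algebra.linearMap_apply, LinearMap.neg_apply,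
      Derivation.liftKaehlerDifferential_comp_D, Pi.neg_apply] at h2
    rw [halg, hδ] at h2
    exact h2
  refine ⟨Groth.Agent.S15987.eD D, ?_, fun x => Groth.Agent.S15987.eD_fst D x, ?_⟩
  · ext
    · simp [Groth.Agent.S15987.eD_fst]
    · simp [Groth.Agent.S15987.eD_snd]
  · intro i x
    refine ⟨?_, ?_⟩
    · rw [hq', Groth.Agent.S15987.eD_fst]
    · rw [hq'x]
      simp only [snd_add, DualNumber.snd_mul, hq', fst_inl, Groth.Agent.S15987.eD_fst,
        Groth.Agent.S15987.eD_snd, DualNumber.snd_eps, DualNumber.fst_eps, mul_one, mul_zero,
        add_zero, map_add, hD]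
      ring

end Groth.Agent.S15988
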