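import Groth.Statements.S15990
import Mathlib.Tactic
import Groth.Agent.Lib.Helper43.SmoothSectionRel
import Groth.Agent.Lib.Helper82.EffCartierStalk
-- import your own Groth.Agent.* helpers here

set_option autoImplicit false
set_option linter.style.haveILetI false
universe u
open SDiv

namespace Groth.Agent.S15990

open AlgebraicGeometry CategoryTheory in
/-- Let f : X → Y be separated and smooth of relative dimension 1 and let σ : Y → X be a section of f.
Then σ(Y) is a relative effective Cartier divisor on X/Y: the kernel ideal sheaf of the closed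
immersion σ is the ideal sheaf of an effective Cartier divisor (locally on affine opens generated by
one nonzerodivisor) and the closed subscheme it defines is flat over Y. (The source adds the special
case of the diagonal of X ×_Y X, a section of the first projection.) -/
theorem result
    {X Y : Scheme.{u}} (f : X ⟶ Y) [IsSeparated f] [SmoothOfRelativeDimension 1 f]
    (σ : Y ⟶ X) (hσ : σ ≫ f = 𝟙 Y) :
    BlowUp.IsEffCartierIdeal σ.ker ∧ Flat (σ.ker.subschemeι ≫ f) := by
  haveI : Smooth f := SmoothOfRelativeDimension.smooth 1 f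
  haveI hcomp : IsClosedImmersion (σ ≫ f) := by rw [hσ]; infer_instance
  haveI hcl : IsClosedImmersion σ := IsClosedImmersion.of_comp σ f
  haveI : IsImmersion (σ ≫ f) := inferInstance
  refine ⟨?_, ?_⟩
  · intro x
    by_cases hx : x ∈ Set.range σ
    · obtain ⟨z, rfl⟩ := hx
      obtain ⟨U, W, hU, hW, e, hzU, hzW, hci, hcj, hstd, hpre⟩ :=
        Groth.Agent.Lib.Helper43.SmoothSectionRel.exists_charts_relDim 1 σ f z
      haveI := hci
      haveI := hcj
      obtain ⟨hcomap, hsurj⟩ :=
        Groth.Agent.Lib.Helper43.SmoothSection.chart_facts σ f U W hU e hpre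
      letI := (f.appLE U W e).hom.toAlgebra
      have hbot : (RingHom.ker (σ.app W).hom).comap (algebraMap Γ(Y, U) Γ(X, W)) = ⊥ := by
        rw [RingHom.algebraMap_toAlgebra, ← hcomap]
        have h1 : ∀ a : Γ(Y, U), ((σ ≫ f).app U).hom a = 0 → a = 0 := by
          intro a ha
          have h2 : Function.Injective ((σ ≫ f).app U).hom := by
            have : IsIso (σ ≫ f) := by rw [hσ]; infer_instance
            exact (ConcreteCategory.bijective_of_isIso ((σ ≫ f).app U)).1
          exact h2 (ha.trans (map_zero _).symm)
        rw [eq_bot_iff]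
        intro a ha
        exact h1 a ha
      obtain ⟨g, hgC, hg⟩ :=
        RingHom.IsStandardSmoothOfRelativeDimension.exists_etale_mvPolynomial hstd
      obtain ⟨h, l, hlen, hh1, hlI, hgen, hreg⟩ :=
        Groth.Agent.Lib.Helper43.SmoothSectionRel.section_chart_etale 1 g hgC hg
          (RingHom.ker (σ.app W).hom) hsurj hbot
      obtain ⟨t, rfl⟩ : ∃ t, l = [t] := List.length_eq_one_iff.mp hlen
      obtain ⟨hci', hker'⟩ := Groth.Agent.Lib.Helper43.KRImmDescent.ker_app_basicOpen σ W hW h
      haveI := hW.isLocalization_basicOpen h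
      have hu : IsUnit (algebraMap Γ(X, W) Γ(X, X.basicOpen h) h) :=
        IsLocalization.Away.algebraMap_isUnit h
      haveI : Module.Flat Γ(X, W) Γ(X, X.basicOpen h) :=
        IsLocalization.flat _ (Submonoid.powers h)
      have hzh : σ z ∈ X.basicOpen h := by
        have hle := Groth.Agent.Lib.Helper43.KRImmDescent.ker_le_primeIdealOf σ W hW z hzW
        have hnot : h ∉ (hW.primeIdealOf ⟨σ z, hzW⟩).asIdeal := by
          intro hcon
          have h1 := (hW.primeIdealOf ⟨σ z, hzW⟩).asIdeal.sub_mem hcon (hle hh1)
          rw [sub_sub_cancel] at h1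
          exact (hW.primeIdealOf ⟨σ z, hzW⟩).2.ne_top ((Ideal.eq_top_iff_one _).2 h1)
        have h1 : hW.primeIdealOf ⟨σ z, hzW⟩ ∈ (PrimeSpectrum.basicOpen h : Set _) := hnot
        rw [← hW.fromSpec_preimage_basicOpen] at h1
        have h0 : hW.fromSpec (hW.primeIdealOf ⟨σ z, hzW⟩) = σ z :=
          hW.fromSpec_primeIdealOf ⟨σ z, hzW⟩
        rw [← h0]
        exact h1
      have hkereq : RingHom.ker (σ.app (X.basicOpen h)).hom =
          Ideal.span {algebraMap Γ(X, W) Γ(X, X.basicOpen h) t} := by
        rw [hker']
        have hof : Ideal.ofList [t] = Ideal.span {t} := by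
          unfold Ideal.ofList
          congr 1
          ext y
          simp
        apply le_antisymm
        · refine (Groth.Agent.Lib.Helper43.KRIdeal.map_le_of_gen (g := h) (J := Ideal.ofList [t])
            (fun x hx => ⟨1, by rw [pow_one]; exact hgen x hx⟩) _ hu).trans ?_
          rw [hof, Ideal.map_span, Set.image_singleton]
        · rw [← Set.image_singleton, ← Ideal.map_span]
          apply Ideal.map_mono
          rw [Ideal.span_le]
          intro y hy
          rw [Set.mem_singleton_iff] at hy
          subst hy
          exact hlI y (List.mem_singleton.2 rfl)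
      have hregt : IsSMulRegular Γ(X, W) t := by
        rw [RingTheory.Sequence.isWeaklyRegular_cons_iff] at hreg
        exact hreg.1
      have hregt' : IsSMulRegular Γ(X, X.basicOpen h)
          (algebraMap Γ(X, W) Γ(X, X.basicOpen h) t) := hregt.of_flat
      refine ⟨(⟨X.basicOpen h, hW.basicOpen h⟩ : X.affineOpens), hzh,
        algebraMap Γ(X, W) Γ(X, X.basicOpen h) t, ?_, ?_⟩
      · rw [mem_nonZeroDivisors_iff_right]
        intro y hy
        apply hregt'
        change algebraMap Γ(X, W) Γ(X, X.basicOpen h) t • y =
          algebraMap Γ(X, W) Γ(X, X.basicOpen h) t • 0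
        rw [smul_eq_mul, smul_eq_mul, mul_zero, mul_comm]
        exact hy
      · rw [Scheme.Hom.ker_apply]
        exact hkereq
    · -- away from the section the ideal is the unit ideal
      have hsupp : (σ.ker.support : Set X) = Set.range σ := by
        rw [Scheme.Hom.support_ker, σ.isClosedEmbedding.isClosed_range.closure_eq]
      have hopen : IsOpen ((Set.range σ)ᶜ : Set X) :=
        σ.isClosedEmbedding.isClosed_range.isOpen_compl
      obtain ⟨_, ⟨N, hN, rfl⟩, hxN, hNsub⟩ :=
        X.isBasis_affineOpens.exists_subset_of_mem_open (show x ∈ (Set.range σ)ᶜ from hx) hopen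
      have htop := Groth.Agent.Lib.Helper82.ideal_eq_top_of_le_compl_support σ.ker ⟨N, hN⟩
        (fun y hy hys => hNsub hy (by rw [← hsupp]; exact hys))
      refine ⟨(⟨N, hN⟩ : X.affineOpens), hxN, 1, one_mem _, ?_⟩
      rw [htop, Ideal.span_singleton_one]
  · -- flatness: the closed subscheme is isomorphic to `Y`
    have h1 : σ.toImage ≫ (σ.ker.subschemeι ≫ f) = 𝟙 Y := by
      rw [← Category.assoc]
      have : σ.toImage ≫ σ.ker.subschemeι = σ := σ.toImage_imageι
      rw [this, hσ]
    have h2 : σ.ker.subschemeι ≫ f = inv σ.toImage := by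
      rw [← cancel_epi σ.toImage, h1, IsIso.hom_inv_id]
    rw [h2]
    infer_instance

end Groth.Agent.S15990
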