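import Groth.Statements.S15991
import Groth.Agent.Lib.Helper75.MarkedSec
import Groth.Agent.Lib.Helper97.DefAff.Trivial

set_option autoImplicit false
universe u v
open Deform

namespace Groth.Agent.S15991

open AlgebraicGeometry CategoryTheory in
/-- Let k be a field and X an affine scheme smooth over k, with finitely many pairwise distinct
k-rational points p_j (j ∈ ι). Let X' → Spec k[ε] be flat, i : X → X' a morphism making X the fibre
over the closed point Spec k → Spec k[ε] (cartesian square), and p'_j : Spec k[ε] → X' sections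
restricting to the p_j. Then there is an isomorphism φ : X' ≅ X ×_{Spec k} Spec k[ε] over Spec k[ε]
such that i followed by φ is the inclusion of X at the closed point (its first component is the
identity of X) and each p'_j followed by φ is the constant section through p_j: every first-order
deformation of a smooth affine scheme with marked points is trivial. (The source says non-singular;
smooth over k is assumed here, and the marked points are taken pairwise distinct and finite in
number.) -/
theorem result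
    (k : Type u) [Field k] (X : Scheme.{u}) (hX : X ⟶ Spec (CommRingCat.of k)) [IsAffine X] [Smooth hX]
    {ι : Type v} [Finite ι] (p : ι → (Spec (CommRingCat.of k) ⟶ X)) (hp : ∀ j, p j ≫ hX = 𝟙 _)
    (hinj : Function.Injective p)
    (X' : Scheme.{u}) (g : X' ⟶ Spec (CommRingCat.of (DualNumber k))) [Flat g] (i : X ⟶ X')
    (hsq : IsPullback i hX g
      (Spec.map (CommRingCat.ofHom (TrivSqZeroExt.fstHom k k k).toRingHom)))
    (p' : ι → (Spec (CommRingCat.of (DualNumber k)) ⟶ X')) (hp' : ∀ j, p' j ≫ g = 𝟙 _)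
    (hpp' : ∀ j, p j ≫ i = Spec.map (CommRingCat.ofHom (TrivSqZeroExt.fstHom k k k).toRingHom) ≫ p' j) :
    ∃ φ : X' ≅ Limits.pullback hX (Spec.map (CommRingCat.ofHom (algebraMap k (DualNumber k)))),
      φ.hom ≫ Limits.pullback.snd hX (Spec.map (CommRingCat.ofHom (algebraMap k (DualNumber k)))) = g ∧
        i ≫ φ.hom ≫ Limits.pullback.fst hX (Spec.map (CommRingCat.ofHom (algebraMap k (DualNumber k)))) = 𝟙 X ∧
          ∀ j, p' j ≫ φ.hom ≫
              Limits.pullback.fst hX (Spec.map (CommRingCat.ofHom (algebraMap k (DualNumber k)))) =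
            Spec.map (CommRingCat.ofHom (algebraMap k (DualNumber k))) ≫ p j := by
  classical
  let e : DualNumber k →ₐ[k] k := TrivSqZeroExt.fstHom k k k
  have he : Function.Surjective e.toRingHom := fun c => ⟨algebraMap k _ c, e.commutes c⟩
  have hnil : IsNilpotent (RingHom.ker e.toRingHom) := by
    refine ⟨2, ?_⟩
    have hsq2 : RingHom.ker e.toRingHom ^ 2 = RingHom.ker e.toRingHom * RingHom.ker e.toRingHom :=
      pow_two _
    rw [Ideal.zero_eq_bot, eq_bot_iff, hsq2, Ideal.mul_le]
    intro x hx y hy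
    rw [RingHom.mem_ker] at hx hy
    have hx' : TrivSqZeroExt.fst x = 0 := hx
    have hy' : TrivSqZeroExt.fst y = 0 := hy
    rw [Ideal.mem_bot]
    apply TrivSqZeroExt.ext
    · rw [TrivSqZeroExt.fst_mul, hx', zero_mul, TrivSqZeroExt.fst_zero]
    · rw [TrivSqZeroExt.snd_mul, hx', hy', zero_smul, zero_add, TrivSqZeroExt.snd_zero]
      simp
  have _ : IsAffine X' :=
    Groth.Agent.Lib.Helper97.DefAff.isAffine_of_isPullback e.toRingHom he
      (Groth.Agent.Lib.Helper97.DefAff.le_nilradical_of_isNilpotent hnil) hsq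
  have hsm : hX.appTop.hom.Smooth :=
    (HasRingHomProperty.iff_of_isAffine (P := @Smooth)).mp inferInstance
  have hbijk : Function.Bijective (Scheme.ΓSpecIso (CommRingCat.of k)).inv.hom :=
    (ConcreteCategory.isIso_iff_bijective _).mp inferInstance
  have hβ : (Groth.Agent.Lib.Helper97.DefAff.baseMap hX).FormallySmooth :=
    RingHom.FormallySmooth.comp (RingHom.FormallySmooth.of_bijective hbijk) hsm.formallySmooth
  have hk := Groth.Agent.Lib.Helper97.DefAff.ker_appTop e.toRingHom he hsq
  have hπ := Groth.Agent.Lib.Helper97.DefAff.appTop_surjective e.toRingHom he hsq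
  have hnilπ : IsNilpotent (RingHom.ker i.appTop.hom) := by
    rw [hk]
    obtain ⟨n, hn⟩ := hnil
    refine ⟨n, ?_⟩
    rw [← Ideal.map_pow, hn, Ideal.zero_eq_bot, Ideal.map_bot]
    rfl
  -- naturality facts for `ΓSpecIso`
  have hinvhomk : ∀ c : k, (Scheme.ΓSpecIso (CommRingCat.of k)).hom.hom
      ((Scheme.ΓSpecIso (CommRingCat.of k)).inv.hom c) = c := fun c =>
    congrArg (fun f => f.hom c) (Scheme.ΓSpecIso (CommRingCat.of k)).inv_hom_id
  have hinvhomE : ∀ c : DualNumber k, (Scheme.ΓSpecIso (CommRingCat.of (DualNumber k))).hom.hom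
      ((Scheme.ΓSpecIso (CommRingCat.of (DualNumber k))).inv.hom c) = c := fun c =>
    congrArg (fun f => f.hom c) (Scheme.ΓSpecIso (CommRingCat.of (DualNumber k))).inv_hom_id
  have hc : i.appTop.hom.comp (Groth.Agent.Lib.Helper97.DefAff.baseMap g) =
      (Groth.Agent.Lib.Helper97.DefAff.baseMap hX).comp e.toRingHom := by
    have hw := hsq.w
    have h1 : (i ≫ g).appTop = (hX ≫ Spec.map (CommRingCat.ofHom e.toRingHom)).appTop := by
      rw [hw]
    rw [Scheme.Hom.comp_appTop, Scheme.Hom.comp_appTop] at h1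
    have hnat := Scheme.ΓSpecIso_inv_naturality (CommRingCat.ofHom e.toRingHom)
    refine RingHom.ext fun a => ?_
    have h2 := congrArg (fun f => f.hom
      ((Scheme.ΓSpecIso (CommRingCat.of (DualNumber k))).inv.hom a)) h1
    have h3 := congrArg (fun f => f.hom a) hnat
    change i.appTop.hom (g.appTop.hom
      ((Scheme.ΓSpecIso (CommRingCat.of (DualNumber k))).inv.hom a)) =
      hX.appTop.hom ((Scheme.ΓSpecIso (CommRingCat.of k)).inv.hom (e a))
    change (Scheme.ΓSpecIso (CommRingCat.of k)).inv.hom (e a) =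
      (Spec.map (CommRingCat.ofHom e.toRingHom)).appTop.hom
        ((Scheme.ΓSpecIso (CommRingCat.of (DualNumber k))).inv.hom a) at h3
    rw [h3]
    exact h2
  -- the marked points as ring maps
  let q : ι → (Γ(X, ⊤) →+* k) := fun j =>
    (Scheme.ΓSpecIso (CommRingCat.of k)).hom.hom.comp (p j).appTop.hom
  let q' : ι → (Γ(X', ⊤) →+* DualNumber k) := fun j =>
    (Scheme.ΓSpecIso (CommRingCat.of (DualNumber k))).hom.hom.comp (p' j).appTop.hom
  have hq : ∀ j, (q j).comp (Groth.Agent.Lib.Helper97.DefAff.baseMap hX) = RingHom.id k := by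
    intro j
    refine RingHom.ext fun c => ?_
    have h1 : (p j ≫ hX).appTop = Scheme.Hom.appTop (𝟙 (Spec (CommRingCat.of k))) := by rw [hp j]
    rw [Scheme.Hom.comp_appTop] at h1
    have h2 := congrArg (fun f => f.hom ((Scheme.ΓSpecIso (CommRingCat.of k)).inv.hom c)) h1
    change (Scheme.ΓSpecIso (CommRingCat.of k)).hom.hom ((p j).appTop.hom
      (hX.appTop.hom ((Scheme.ΓSpecIso (CommRingCat.of k)).inv.hom c))) = c
    change (p j).appTop.hom (hX.appTop.hom ((Scheme.ΓSpecIso (CommRingCat.of k)).inv.hom c)) =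
      (Scheme.Hom.appTop (𝟙 (Spec (CommRingCat.of k)))).hom
        ((Scheme.ΓSpecIso (CommRingCat.of k)).inv.hom c) at h2
    rw [h2]
    have h3 : (Scheme.Hom.appTop (𝟙 (Spec (CommRingCat.of k)))).hom
        ((Scheme.ΓSpecIso (CommRingCat.of k)).inv.hom c) =
        (Scheme.ΓSpecIso (CommRingCat.of k)).inv.hom c := by
      simp
    rw [h3, hinvhomk]
  have hq'β : ∀ j, (q' j).comp (Groth.Agent.Lib.Helper97.DefAff.baseMap g) = RingHom.id _ := by
    intro j
    refine RingHom.ext fun c => ?_
    have h1 : (p' j ≫ g).appTop =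
        Scheme.Hom.appTop (𝟙 (Spec (CommRingCat.of (DualNumber k)))) := by
      rw [hp' j]
    rw [Scheme.Hom.comp_appTop] at h1
    have h2 := congrArg (fun f => f.hom
      ((Scheme.ΓSpecIso (CommRingCat.of (DualNumber k))).inv.hom c)) h1
    change (Scheme.ΓSpecIso (CommRingCat.of (DualNumber k))).hom.hom ((p' j).appTop.hom
      (g.appTop.hom ((Scheme.ΓSpecIso (CommRingCat.of (DualNumber k))).inv.hom c))) = c
    change (p' j).appTop.hom (g.appTop.hom
      ((Scheme.ΓSpecIso (CommRingCat.of (DualNumber k))).inv.hom c)) =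
      (Scheme.Hom.appTop (𝟙 (Spec (CommRingCat.of (DualNumber k))))).hom
        ((Scheme.ΓSpecIso (CommRingCat.of (DualNumber k))).inv.hom c) at h2
    rw [h2]
    have h3 : (Scheme.Hom.appTop (𝟙 (Spec (CommRingCat.of (DualNumber k))))).hom
        ((Scheme.ΓSpecIso (CommRingCat.of (DualNumber k))).inv.hom c) =
        (Scheme.ΓSpecIso (CommRingCat.of (DualNumber k))).inv.hom c := by
      simp
    rw [h3, hinvhomE]
  have hq'π : ∀ j, e.toRingHom.comp (q' j) = (q j).comp i.appTop.hom := by
    intro j
    refine RingHom.ext fun b => ?_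
    have h1 : (p j ≫ i).appTop =
        (Spec.map (CommRingCat.ofHom e.toRingHom) ≫ p' j).appTop := by rw [hpp' j]
    rw [Scheme.Hom.comp_appTop, Scheme.Hom.comp_appTop] at h1
    have h2 := congrArg (fun f => f.hom b) h1
    change (p j).appTop.hom (i.appTop.hom b) =
      (Spec.map (CommRingCat.ofHom e.toRingHom)).appTop.hom ((p' j).appTop.hom b) at h2
    have hnat := Scheme.ΓSpecIso_naturality (CommRingCat.ofHom e.toRingHom)
    have h3 := congrArg (fun f => f.hom ((p' j).appTop.hom b)) hnat
    change (Scheme.ΓSpecIso (CommRingCat.of k)).hom.hom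
      ((Spec.map (CommRingCat.ofHom e.toRingHom)).appTop.hom ((p' j).appTop.hom b)) =
      e ((Scheme.ΓSpecIso (CommRingCat.of (DualNumber k))).hom.hom ((p' j).appTop.hom b)) at h3
    change e ((Scheme.ΓSpecIso (CommRingCat.of (DualNumber k))).hom.hom ((p' j).appTop.hom b)) =
      (Scheme.ΓSpecIso (CommRingCat.of k)).hom.hom ((p j).appTop.hom (i.appTop.hom b))
    rw [h2, h3]
  have hqinj : Function.Injective q := by
    intro j j' hjj'
    apply hinj
    apply ext_of_isAffine
    ext b
    have h1 := RingHom.congr_fun hjj' b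
    change (Scheme.ΓSpecIso (CommRingCat.of k)).hom.hom ((p j).appTop.hom b) =
      (Scheme.ΓSpecIso (CommRingCat.of k)).hom.hom ((p j').appTop.hom b) at h1
    have hinjk : Function.Injective (Scheme.ΓSpecIso (CommRingCat.of k)).hom.hom :=
      ((ConcreteCategory.isIso_iff_bijective _).mp inferInstance).1
    exact hinjk h1
  obtain ⟨s, hs1, hs2, hs3⟩ := Groth.Agent.Lib.Helper75.MarkedSec.exists_marked_section
    (Groth.Agent.Lib.Helper97.DefAff.baseMap hX) hβ (Groth.Agent.Lib.Helper97.DefAff.baseMap g)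
    i.appTop.hom hπ hnilπ hc q hq hqinj q' hq'β hq'π
  -- build the isomorphism from the section
  let r : X' ⟶ X := Groth.Agent.Lib.Helper97.DefAff.ofRing (CommRingCat.ofHom s)
  have hir : i ≫ r = 𝟙 X := by
    rw [Groth.Agent.Lib.Helper97.DefAff.comp_ofRing]
    have : CommRingCat.ofHom s ≫ i.appTop = 𝟙 _ := by
      ext a
      exact RingHom.congr_fun hs1 a
    rw [this]
    exact Groth.Agent.Lib.Helper97.DefAff.ofRing_id
  have hr : r ≫ hX = g ≫ Spec.map (CommRingCat.ofHom (algebraMap k (DualNumber k))) := by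
    rw [Groth.Agent.Lib.Helper97.DefAff.ofRing_comp_toSpec]
    conv_rhs => rw [Groth.Agent.Lib.Helper97.DefAff.eq_toSpecΓ_comp g]
    rw [Category.assoc, ← Spec.map_comp]
    congr 2
    ext c
    exact RingHom.congr_fun hs2 c
  let φ₀ : X' ⟶ Limits.pullback hX (Spec.map (CommRingCat.ofHom (algebraMap k (DualNumber k)))) :=
    Limits.pullback.lift r g hr
  have h1 : φ₀ ≫ Limits.pullback.snd hX
      (Spec.map (CommRingCat.ofHom (algebraMap k (DualNumber k)))) = g :=
    Limits.pullback.lift_snd _ _ _
  have h1' : φ₀ ≫ Limits.pullback.fst hX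
      (Spec.map (CommRingCat.ofHom (algebraMap k (DualNumber k)))) = r :=
    Limits.pullback.lift_fst _ _ _
  have h2 : i ≫ φ₀ = Groth.Agent.Lib.Helper97.DefAff.trivIncl e hX := by
    apply Limits.pullback.hom_ext
    · rw [Category.assoc, h1', hir]
      exact (Limits.pullback.lift_fst _ _ _).symm
    · rw [Category.assoc, h1, hsq.w]
      exact (Limits.pullback.lift_snd _ _ _).symm
  have _ : IsIso φ₀ :=
    Groth.Agent.Lib.Helper97.DefAff.isIso_of_hom e.toRingHom he hnil hsq
      (Groth.Agent.Lib.Helper97.DefAff.isPullback_trivIncl e hX) φ₀ h1 h2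
  refine ⟨asIso φ₀, h1, ?_, fun j => ?_⟩
  · change i ≫ φ₀ ≫ _ = _
    rw [h1', hir]
  · change p' j ≫ φ₀ ≫ _ = _
    rw [h1']
    have h3 : p' j ≫ r =
        Groth.Agent.Lib.Helper97.DefAff.ofRing (CommRingCat.ofHom s ≫ (p' j).appTop) :=
      Groth.Agent.Lib.Helper97.DefAff.comp_ofRing _ _
    have h4 : Spec.map (CommRingCat.ofHom (algebraMap k (DualNumber k))) ≫ p j =
        Groth.Agent.Lib.Helper97.DefAff.ofRing (𝟙 Γ(X, ⊤) ≫
          (Spec.map (CommRingCat.ofHom (algebraMap k (DualNumber k))) ≫ p j).appTop) := by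
      rw [← Groth.Agent.Lib.Helper97.DefAff.comp_ofRing,
        Groth.Agent.Lib.Helper97.DefAff.ofRing_id, Category.comp_id]
    rw [h3, h4]
    congr 1
    rw [Category.id_comp, Scheme.Hom.comp_appTop]
    ext b
    have hinjE : Function.Injective
        (Scheme.ΓSpecIso (CommRingCat.of (DualNumber k))).hom.hom :=
      ((ConcreteCategory.isIso_iff_bijective _).mp inferInstance).1
    apply hinjE
    have h5 := RingHom.congr_fun (hs3 j) b
    change (Scheme.ΓSpecIso (CommRingCat.of (DualNumber k))).hom.hom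
      ((p' j).appTop.hom (s b)) = algebraMap k (DualNumber k)
        ((Scheme.ΓSpecIso (CommRingCat.of k)).hom.hom ((p j).appTop.hom b)) at h5
    have hnat := Scheme.ΓSpecIso_naturality (CommRingCat.ofHom (algebraMap k (DualNumber k)))
    have h6 := congrArg (fun f => f.hom ((p j).appTop.hom b)) hnat
    change (Scheme.ΓSpecIso (CommRingCat.of (DualNumber k))).hom.hom
      ((Spec.map (CommRingCat.ofHom (algebraMap k (DualNumber k)))).appTop.hom
        ((p j).appTop.hom b)) =
      algebraMap k (DualNumber k)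
        ((Scheme.ΓSpecIso (CommRingCat.of k)).hom.hom ((p j).appTop.hom b)) at h6
    change (Scheme.ΓSpecIso (CommRingCat.of (DualNumber k))).hom.hom
      ((p' j).appTop.hom (s b)) =
      (Scheme.ΓSpecIso (CommRingCat.of (DualNumber k))).hom.hom
        ((Spec.map (CommRingCat.ofHom (algebraMap k (DualNumber k)))).appTop.hom
          ((p j).appTop.hom b))
    rw [h5, h6]

end Groth.Agent.S15991
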