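import Groth.Statements.S15993
import Mathlib
import Groth.Agent.Lib.Helper7.GenFibreDense

set_option autoImplicit false
set_option linter.style.haveILetI false
open CategoryTheory AlgebraicGeometry
universe u
open EtHull

namespace Groth.Agent.S15993

open CategoryTheory.Limits TopologicalSpace Opposite
open EtHull
open Groth.Agent.Lib.Helper7.GenFibreDense

/-- A schematically dense open subscheme (restrictions of functions injective) has a
scheme-theoretically dominant inclusion. -/
lemma schDominant_of_isSchematicallyDense {X : Scheme.{u}} (V : X.Opens) [QuasiCompact V.ι]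
    (hV : CInt.IsSchematicallyDense V) : IsSchemeTheoreticallyDominant V.ι := by
  constructor
  refine Scheme.IdealSheafData.ext_of_iSup_eq_top (fun W : X.affineOpens => W)
    (iSup_affineOpens_eq_top X) ?_
  intro W
  rw [Scheme.Hom.ker_apply]
  simp only [Scheme.IdealSheafData.ideal_bot, Pi.bot_apply]
  rw [← RingHom.injective_iff_ker_eq_bot, Scheme.Opens.ι_app]
  have h := hV W.1
  have e : V.ι ''ᵁ (V.ι ⁻¹ᵁ W.1) = W.1 ⊓ V := by
    rw [Scheme.Hom.image_preimage_eq_opensRange_inf, Scheme.Opens.opensRange_ι, inf_comm]
  intro a b hab
  apply h
  have h1 : X.presheaf.map (homOfLE (inf_le_left : W.1 ⊓ V ≤ W.1)).op =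
      X.presheaf.map (homOfLE (x := V.ι ''ᵁ V.ι ⁻¹ᵁ W.1) (Set.image_preimage_subset _ _)).op ≫
        X.presheaf.map (eqToHom e.symm).op := by
    rw [← Functor.map_comp]
    rfl
  rw [h1]
  exact congr((X.presheaf.map (eqToHom e.symm).op).hom $hab)


/-- Let f : X → S be a morphism of schemes which is faithfully flat (flat and surjective), quasi-compact
and separated, and schematically birational in the following sense: there are schematically dense
opens U of S and V of X, with the inclusion V → X quasi-compact, such that f maps V into U and the
induced morphism V → U is an isomorphism. Then f is an isomorphism. (The source states this for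
algebraic spaces and puts no quasi-compactness condition on the dense opens. Its proof base-changes
along f and uses that the inverse image of V in X ×_S X is again schematically dense, which holds
when V → X is quasi-compact, for instance when X is locally Noetherian, and fails in general: over
the Boolean ring of eventually constant sequences of elements of the field with two elements, the
spectrum of the ring of eventually two-periodic sequences is faithfully flat and affine, and it is
an isomorphism above the open set of principal points, which is schematically dense on both sides,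
yet it is not an isomorphism, the point at infinity being doubled. So V is taken retrocompact in X
here, and X, S are schemes.) -/
theorem result {X S : Scheme.{u}} (f : X ⟶ S)
    [Flat f] [Surjective f] [QuasiCompact f] [IsSeparated f]
    (U : S.Opens) (V : X.Opens) [QuasiCompact V.ι]
    (hU : CInt.IsSchematicallyDense U) (hV : CInt.IsSchematicallyDense V)
    (hle : V ≤ f ⁻¹ᵁ U) (hiso : IsIso (f.resLE U V hle)) : IsIso f := by
  haveI := schDominant_of_isSchematicallyDense V hV
  -- `V.ι ≫ f` is a monomorphism
  haveI hmono : Mono (V.ι ≫ f) := by
    rw [← Scheme.Hom.resLE_comp_ι f hle]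
    infer_instance
  -- the two projections of `X ×_S X` agree
  let p₁ := pullback.fst f f
  let p₂ := pullback.snd f f
  let ι' := pullback.fst p₂ V.ι
  haveI : IsSchemeTheoreticallyDominant ι' := inferInstance
  haveI : Flat (ι' ≫ p₁) := inferInstance
  let ι'' := pullback.fst (ι' ≫ p₁) V.ι
  haveI : IsSchemeTheoreticallyDominant ι'' := inferInstance
  have hp : p₁ = p₂ := by
    refine ext_of_schDominant_of_isSeparated f pullback.condition (ι'' ≫ ι') ?_
    let v₁ := pullback.snd (ι' ≫ p₁) V.ι
    let v₂ := ι'' ≫ pullback.snd p₂ V.ι
    have h₁ : v₁ ≫ V.ι = (ι'' ≫ ι') ≫ p₁ := by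
      rw [Category.assoc]
      exact pullback.condition.symm
    have h₂ : v₂ ≫ V.ι = (ι'' ≫ ι') ≫ p₂ := by
      rw [Category.assoc, Category.assoc]
      congr 1
      exact pullback.condition.symm
    have hc : p₁ ≫ f = p₂ ≫ f := pullback.condition
    have hv : v₁ = v₂ := by
      rw [← cancel_mono (V.ι ≫ f)]
      calc v₁ ≫ V.ι ≫ f = ((ι'' ≫ ι') ≫ p₁) ≫ f := by rw [← h₁, Category.assoc]
        _ = ((ι'' ≫ ι') ≫ p₂) ≫ f := by rw [Category.assoc, hc, ← Category.assoc]
        _ = v₂ ≫ V.ι ≫ f := by rw [← h₂, Category.assoc]
    rw [← h₁, ← h₂, hv]
  haveI : Mono f := by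
    constructor
    intro T a b hab
    have h1 : pullback.lift a b hab ≫ p₁ = a := pullback.lift_fst _ _ _
    have h2 : pullback.lift a b hab ≫ p₂ = b := pullback.lift_snd _ _ _
    calc a = pullback.lift a b hab ≫ p₁ := h1.symm
      _ = pullback.lift a b hab ≫ p₂ := by rw [hp]
      _ = b := h2
  exact Flat.isIso_of_surjective_of_mono f

end Groth.Agent.S15993
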