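import Groth.Statements.S15995
import Mathlib
-- import your own Groth.Agent.* helpers here

set_option autoImplicit false
open CategoryTheory AlgebraicGeometry
universe u
open FrobSch

namespace Groth.Agent.S15995
open CategoryTheory.Limits

theorem isIso_relFrob_iff (p : ℕ) [Fact p.Prime] {Y T : Scheme.{u}} [IsCharP T p] [IsCharP Y p]
    (q : Y ⟶ T) : IsIso (relFrob q p) ↔ IsPullback (frob Y p) q q (frob T p) := by
  constructor
  · intro h
    exact IsPullback.of_iso_pullback ⟨frob_comp p q⟩ (asIso (relFrob q p)) (relFrob_fst q p)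
      (relFrob_snd q p)
  · intro h
    have : relFrob q p = h.isoPullback.hom := by
      apply pullback.hom_ext <;> simp
    rw [this]; infer_instance

theorem isPullback_baseChange (p : ℕ) [Fact p.Prime] {Y T S : Scheme.{u}} [IsCharP S p]
    [IsCharP T p] [IsCharP Y p] (r : Y ⟶ S) (f : T ⟶ S)
    (hr : IsPullback (frob Y p) r r (frob S p)) [IsCharP (pullback r f) p] :
    IsPullback (frob (pullback r f) p) (pullback.snd r f) (pullback.snd r f) (frob T p) := by
  have hpb : IsPullback (pullback.fst r f) (pullback.snd r f) r f := IsPullback.of_hasPullback r f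
  have big : IsPullback (pullback.fst r f ≫ frob Y p) (pullback.snd r f) r (f ≫ frob S p) :=
    hpb.paste_horiz hr
  have e1 : pullback.fst r f ≫ frob Y p = frob (pullback r f) p ≫ pullback.fst r f :=
    (frob_comp p _).symm
  have e2 : f ≫ frob S p = frob T p ≫ f := (frob_comp p _).symm
  rw [e1, e2] at big
  exact IsPullback.of_right big (frob_comp p _) hpb


/-- Coperfection commutes with base restriction. Let S and T be schemes of characteristic p and f : T →
S a relatively perfect morphism (its relative Frobenius T → T^(p/S) is an isomorphism). Let g : X →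
T and let c : X → X' be a T-morphism to a relatively perfect T-scheme π : X' → T which is a
coperfection of X over T: for every relatively perfect T-scheme Y, every T-morphism X → Y factors
uniquely through c. Then X' with structure map π ≫ f is relatively perfect over S and c is a
coperfection of X over S: every S-morphism from X to a relatively perfect S-scheme factors uniquely
through c. (The source works with algebraic spaces; schemes here.) -/
theorem result (p : ℕ) [Fact p.Prime] {X X' T S : Scheme.{u}}
    [FrobSch.IsCharP S p] [FrobSch.IsCharP T p] (f : T ⟶ S) (hf : IsIso (FrobSch.relFrob f p))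
    (g : X ⟶ T) (π : X' ⟶ T) (hπ : IsIso (FrobSch.relFrob π p)) (c : X ⟶ X') (hc : c ≫ π = g)
    (huniv : ∀ (Y : Scheme.{u}) (q : Y ⟶ T), IsIso (FrobSch.relFrob q p) →
      ∀ k : X ⟶ Y, k ≫ q = g → ∃! h : X' ⟶ Y, h ≫ q = π ∧ c ≫ h = k) :
    IsIso (FrobSch.relFrob (π ≫ f) p) ∧
      ∀ (Y : Scheme.{u}) (r : Y ⟶ S), IsIso (FrobSch.relFrob r p) →
        ∀ k : X ⟶ Y, k ≫ r = g ≫ f → ∃! h : X' ⟶ Y, h ≫ r = π ≫ f ∧ c ≫ h = k := by
  have : IsCharP X' p := IsCharP.of_hom π p
  constructor
  · rw [isIso_relFrob_iff] at hf hπ ⊢
    exact hπ.paste_vert hf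
  · intro Y r hr k hk
    have : IsCharP Y p := IsCharP.of_hom r p
    have : IsCharP (pullback r f) p := IsCharP.of_hom (pullback.snd r f) p
    rw [isIso_relFrob_iff] at hr
    have hq : IsIso (relFrob (pullback.snd r f) p) := by
      rw [isIso_relFrob_iff]
      exact isPullback_baseChange p r f hr
    obtain ⟨h', ⟨hh1, hh2⟩, huniq⟩ := huniv (pullback r f) (pullback.snd r f) hq
      (pullback.lift k g hk) (pullback.lift_snd _ _ _)
    refine ⟨h' ≫ pullback.fst r f, ⟨?_, ?_⟩, ?_⟩
    · rw [Category.assoc, pullback.condition, ← Category.assoc, hh1]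
    · rw [← Category.assoc, hh2, pullback.lift_fst]
    · intro h₂ ⟨h21, h22⟩
      have := huniq (pullback.lift h₂ π h21) ⟨pullback.lift_snd _ _ _, ?_⟩
      · rw [← this, pullback.lift_fst]
      · apply pullback.hom_ext
        · rw [Category.assoc, pullback.lift_fst, pullback.lift_fst, h22]
        · rw [Category.assoc, pullback.lift_snd, pullback.lift_snd, hc]


end Groth.Agent.S15995
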