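import Groth.Statements.S16001
import Mathlib
-- import your own Groth.Agent.* helpers here

set_option autoImplicit false
universe u
open FrobAlg

namespace Groth.Agent.S16001

open TensorProduct

theorem relFrob_tmul (p : ℕ) [Fact p.Prime] (A : Type u) [CommRing A] [CharP A p]
    (B : Type u) [CommRing B] [Algebra A B] [CharP B p] (b : B) (a : Twist p A) :
    FrobAlg.relFrob p A B (b ⊗ₜ[A] a) = b ^ p * algebraMap A B ((toTwist p A).symm a) := by
  simp only [relFrob, RingHom.comp_apply, AlgHom.toRingHom_eq_coe, RingHom.coe_coe,
    Algebra.TensorProduct.lift_tmul]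
  rfl


/-- Let A be a commutative ring of prime characteristic p and B a commutative A-algebra of
characteristic p such that the relative Frobenius B ⊗_{A,Frob} A → B, b ⊗ a ↦ b^p a, is bijective
(that is, Spec B → Spec A is relatively perfect; no finiteness condition is imposed). Then B is
formally étale over A. (The source proves that every perfect algebraic stack over an algebraic space
of characteristic p is formally étale over it; this is the case of an affine scheme over an affine
base.) -/
theorem result (p : ℕ) [Fact p.Prime] (A : Type u) [CommRing A] [CharP A p]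
    (B : Type u) [CommRing B] [Algebra A B] [CharP B p]
    (h : Function.Bijective (FrobAlg.relFrob p A B)) : Algebra.FormallyEtale A B := by
  rw [Algebra.FormallyEtale.iff_comp_bijective]
  intro C _ _ I hI
  rcases subsingleton_or_nontrivial C with hC | hC
  · have hCI : Subsingleton (C ⧸ I) := Function.Surjective.subsingleton Ideal.Quotient.mk_surjective
    constructor
    · intro g₁ g₂ _
      ext b
      exact Subsingleton.elim _ _
    · intro g
      refine ⟨{ toFun := fun _ => 0, map_one' := Subsingleton.elim _ _, map_mul' := fun _ _ => Subsingleton.elim _ _, map_zero' := rfl, map_add' := fun _ _ => Subsingleton.elim _ _, commutes' := fun _ => Subsingleton.elim _ _ }, ?_⟩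
      ext b
      exact Subsingleton.elim _ _
  · have hp0 : (p : C) = 0 := by
      rw [← map_natCast (algebraMap A C) p, CharP.cast_eq_zero, map_zero]
    have : CharP C p := (CharP.charP_iff_prime_eq_zero (Fact.out)).2 hp0
    have hε : ∀ ε ∈ I, ε ^ p = 0 := by
      intro ε hε
      have h2 : ε ^ 2 = 0 := by
        have h3 : ε ^ 2 ∈ I ^ 2 := Ideal.pow_mem_pow hε 2
        rw [hI] at h3
        exact h3
      have hp2 : 2 ≤ p := (Fact.out : p.Prime).two_le
      calc ε ^ p = ε ^ 2 * ε ^ (p - 2) := by rw [← pow_add]; congr 1; omega
        _ = 0 := by rw [h2, zero_mul]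
    let θ : C ⧸ I →+* C := Ideal.Quotient.lift I (frobenius C p)
      (fun ε hε' => by rw [frobenius_def]; exact hε ε hε')
    have hθ : ∀ c : C, θ (Ideal.Quotient.mk I c) = c ^ p := fun c => by
      simp [θ, frobenius_def]
    have hθ' : ∀ y : C ⧸ I, Ideal.Quotient.mk I (θ y) = y ^ p := by
      intro y
      obtain ⟨c, rfl⟩ := Ideal.Quotient.mk_surjective y
      rw [hθ, map_pow]
    constructor
    · intro g₁ g₂ hg
      have hmk : ∀ b : B, Ideal.Quotient.mk I (g₁ b) = Ideal.Quotient.mk I (g₂ b) := by
        intro b
        exact congrArg (fun f : B →ₐ[A] C ⧸ I => f b) hg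
      have hpow : ∀ b : B, g₁ b ^ p = g₂ b ^ p := by
        intro b
        rw [← hθ, ← hθ, hmk]
      have hz : ∀ z : B ⊗[A] Twist p A, g₁ (relFrob p A B z) = g₂ (relFrob p A B z) := by
        intro z
        induction z using TensorProduct.induction_on with
        | zero => simp
        | tmul b a =>
          rw [relFrob_tmul, map_mul, map_mul, map_pow, map_pow, hpow, AlgHom.commutes, AlgHom.commutes]
        | add x y hx hy => rw [map_add, map_add, map_add, hx, hy]
      ext b
      obtain ⟨z, rfl⟩ := h.2 b
      exact hz z
    · intro g
      let f1 : B →ₐ[A] Target p A C :=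
        { toRingHom := ((toTarget p A C : C →+* Target p A C)).comp (θ.comp g.toRingHom)
          commutes' := by
            intro a
            change toTarget p A C (θ (g (algebraMap A B a))) = toTarget p A C ((algebraMap A C a) ^ p)
            rw [AlgHom.commutes, ← Ideal.Quotient.mk_algebraMap, hθ] }
      let L : B ⊗[A] Twist p A →ₐ[A] Target p A C :=
        Algebra.TensorProduct.lift f1 (inclHom p A C) (fun _ _ => Commute.all _ _)
      have hL : ∀ (b : B) (a : Twist p A), (toTarget p A C).symm (L (b ⊗ₜ[A] a)) =
          θ (g b) * algebraMap A C ((toTwist p A).symm a) := by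
        intro b a
        simp only [L, Algebra.TensorProduct.lift_tmul]
        rfl
      let e : B ≃+* B ⊗[A] Twist p A := (RingEquiv.ofBijective (relFrob p A B) h).symm
      have he : ∀ z, e (relFrob p A B z) = z := fun z =>
        (RingEquiv.ofBijective (relFrob p A B) h).symm_apply_apply z
      let gt : B →ₐ[A] C :=
        { toRingHom := (((toTarget p A C).symm : Target p A C →+* C)).comp
            (L.toRingHom.comp (e : B →+* B ⊗[A] Twist p A))
          commutes' := by
            intro a
            have h1 : algebraMap A B a = relFrob p A B ((1 : B) ⊗ₜ[A] toTwist p A a) := by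
              rw [relFrob_tmul, one_pow, one_mul, RingEquiv.symm_apply_apply]
            change (toTarget p A C).symm (L (e (algebraMap A B a))) = algebraMap A C a
            rw [h1, he, hL, map_one, map_one, one_mul, RingEquiv.symm_apply_apply] }
      refine ⟨gt, ?_⟩
      have hz : ∀ z : B ⊗[A] Twist p A,
          Ideal.Quotient.mk I ((toTarget p A C).symm (L z)) = g (relFrob p A B z) := by
        intro z
        induction z using TensorProduct.induction_on with
        | zero => simp
        | tmul b a =>
          rw [hL, relFrob_tmul, map_mul, map_mul, hθ', map_pow, AlgHom.commutes,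
            Ideal.Quotient.mk_algebraMap]
        | add x y hx hy => simp only [map_add, hx, hy]
      ext b
      obtain ⟨z, rfl⟩ := h.2 b
      change Ideal.Quotient.mk I ((toTarget p A C).symm (L (e (relFrob p A B z)))) = g (relFrob p A B z)
      rw [he, hz]


end Groth.Agent.S16001
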