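import Groth.Statements.S16014
import Mathlib.Tactic
import Mathlib.Algebra.BigOperators.Intervals
import Mathlib.Algebra.BigOperators.Ring.Finset
import Mathlib.Order.Interval.Finset.Basic

set_option autoImplicit false
universe u
open W4c3ghconstell

namespace Groth.Agent.S16014

lemma abel (f : ℤ → ℚ) (a M : ℤ) :
    ∑ n ∈ Finset.Icc (a + 1) M, ∑ m ∈ Finset.Icc n M, f m =
      ∑ m ∈ Finset.Icc a M, ((m : ℚ) - a) * f m := by
  rw [Finset.sum_comm' (s' := fun m => Finset.Icc (a + 1) m) (t' := Finset.Icc (a + 1) M)]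
  · have h1 : ∀ m ∈ Finset.Icc (a + 1) M, ∑ n ∈ Finset.Icc (a + 1) m, f m = ((m : ℚ) - a) * f m := by
      intro m hm
      rw [Finset.sum_const, Int.card_Icc, nsmul_eq_mul]
      congr 1
      have hm' := (Finset.mem_Icc.mp hm).1
      have : ((m + 1 - (a + 1)).toNat : ℤ) = m - a := by
        rw [Int.toNat_of_nonneg (by omega)]; ring
      exact_mod_cast this
    rw [Finset.sum_congr rfl h1]
    by_cases haM : a ≤ M
    · have : Finset.Icc a M = insert a (Finset.Icc (a + 1) M) := by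
        ext x; simp only [Finset.mem_Icc, Finset.mem_insert]; omega
      rw [this, Finset.sum_insert (by simp)]
      simp
    · rw [Finset.Icc_eq_empty (by omega), Finset.Icc_eq_empty haM]
  · intro x y
    simp only [Finset.mem_Icc]
    omega

/-- Let B = ⊕_{n ∈ ℤ} ⊕_τ B^n_τ be a bigraded finite-dimensional vector space, τ running over a finite
index set, with B^n = 0 for n < −N and for n > M (N, M integers); put d(n, τ) = dim B^n_τ. For
rational numbers φ_τ write φ(C) = Σ_τ φ_τ dim C_τ for a τ-graded piece C, and let B^{≥n} = ⊕_{m ≥ n}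
B^m, so that dim B^{≥n}_τ = Σ_{n ≤ m ≤ M} d(m, τ). Then Σ_{−N ≤ n ≤ M} n · φ(B^n) = Σ_{−N+1 ≤ n ≤ M}
φ(B^{≥n}) − N · φ(B). (Stated directly on the dimension function d.) -/
theorem result {τ : Type u} [Fintype τ] (d : ℤ → τ → ℕ) (φ : τ → ℚ) (N M : ℤ)
    (hN : ∀ n, n < -N → d n = 0) (hM : ∀ n, M < n → d n = 0) :
    ∑ n ∈ Finset.Icc (-N) M, (n : ℚ) * (∑ t, φ t * (d n t : ℚ)) =
      ∑ n ∈ Finset.Icc (-N + 1) M, (∑ t, φ t * (∑ m ∈ Finset.Icc n M, (d m t : ℚ))) -
        (N : ℚ) * (∑ t, φ t * (∑ m ∈ Finset.Icc (-N) M, (d m t : ℚ))) := by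
  have hsw : ∀ s : Finset ℤ, ∑ t, φ t * (∑ m ∈ s, (d m t : ℚ)) =
      ∑ m ∈ s, ∑ t, φ t * (d m t : ℚ) := by
    intro s
    simp_rw [Finset.mul_sum]
    rw [Finset.sum_comm]
  simp_rw [hsw]
  have e : -N + 1 = (-N) + 1 := rfl
  rw [abel (fun m => ∑ t, φ t * (d m t : ℚ)) (-N) M, Finset.mul_sum, ← Finset.sum_sub_distrib]
  refine Finset.sum_congr rfl fun m _ => ?_
  push_cast
  ring

end Groth.Agent.S16014
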