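import Groth.Statements.S16015
import Mathlib.Tactic
import Mathlib.RingTheory.Finiteness.Projective
import Mathlib.LinearAlgebra.TensorProduct.Tower
import Mathlib.RingTheory.Ideal.Quotient.Operations

set_option autoImplicit false
universe u v w
open W4c3ghconstell

namespace Groth.Agent.S16015

/-- Let B be a commutative ring, E a B-module, F a finitely generated projective B-module and β : E → F
a B-linear map. Then there is a unique ideal I of B such that for every commutative B-algebra C the
base change β_C : C ⊗ E → C ⊗ F is zero if and only if the structure map B → C kills I. (The
published statement is for a homomorphism of modules on a scheme T into a locally free module and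
produces a closed subscheme T₀ through which a morphism factors exactly when the pulled-back
homomorphism vanishes; this row is the case of an affine T with affine test schemes and F of finite
rank, to which it reduces.) -/
theorem result {B : Type u} [CommRing B]
    {E : Type v} [AddCommGroup E] [Module B E]
    {F : Type w} [AddCommGroup F] [Module B F] [Module.Finite B F] [Module.Projective B F]
    (β : E →ₗ[B] F) :
    ∃! I : Ideal B, ∀ (C : Type u) [CommRing C] [Algebra B C],
      LinearMap.baseChange C β = 0 ↔ I ≤ RingHom.ker (algebraMap B C) := by
  obtain ⟨n, φ, ψ, -, -, hφψ⟩ := Module.Finite.exists_comp_eq_id_of_projective B F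
  set I : Ideal B := Ideal.span {b | ∃ (e : E) (f : F →ₗ[B] B), b = f (β e)} with hI
  have hprop : ∀ (C : Type u) [CommRing C] [Algebra B C],
      LinearMap.baseChange C β = 0 ↔ I ≤ RingHom.ker (algebraMap B C) := by
    intro C _ _
    constructor
    · intro h
      rw [hI, Ideal.span_le]
      rintro _ ⟨e, f, rfl⟩
      have h0 : LinearMap.baseChange C β ((1 : C) ⊗ₜ[B] e) = 0 := by rw [h]; rfl
      rw [LinearMap.baseChange_tmul] at h0
      have h1 := congrArg (fun z => TensorProduct.rid B C (LinearMap.lTensor C f z)) h0
      simp only [LinearMap.lTensor_tmul, TensorProduct.rid_tmul, map_zero] at h1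
      rw [SetLike.mem_coe, RingHom.mem_ker, Algebra.algebraMap_eq_smul_one]
      exact h1
    · intro h
      apply LinearMap.ext
      intro z
      induction z using TensorProduct.induction_on with
      | zero => simp
      | add x y hx hy => rw [map_add, hx, hy]; simp
      | tmul c e =>
        rw [LinearMap.baseChange_tmul, LinearMap.zero_apply]
        have hy : β e = ∑ i, (ψ (β e) i) • φ (Pi.single i 1) := by
          have h1 : β e = φ (ψ (β e)) := by
            have := LinearMap.congr_fun hφψ (β e)
            simpa using this.symm
          conv_lhs => rw [h1]
          conv_lhs => rw [← Finset.univ_sum_single (ψ (β e))]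
          rw [map_sum]
          refine Finset.sum_congr rfl fun i _ => ?_
          rw [← map_smul]
          congr 1
          ext j
          simp [Pi.single_apply]
        rw [hy, TensorProduct.tmul_sum]
        refine Finset.sum_eq_zero fun i _ => ?_
        have hmem : ψ (β e) i ∈ I := by
          apply Ideal.subset_span
          exact ⟨e, (LinearMap.proj i).comp ψ, rfl⟩
        have hz := h hmem
        rw [RingHom.mem_ker] at hz
        rw [TensorProduct.tmul_smul, TensorProduct.smul_tmul',
          algebra_compatible_smul C, hz, zero_smul, TensorProduct.zero_tmul]
  refine ⟨I, hprop, fun I' hI' => ?_⟩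
  apply le_antisymm
  · have h1 := (hI' (B ⧸ I)).mpr
    have h2 := (hprop (B ⧸ I)).mpr (by simp)
    have := (hI' (B ⧸ I)).mp h2
    simpa using this
  · have h2 := (hI' (B ⧸ I')).mpr (by simp)
    have := (hprop (B ⧸ I')).mp h2
    simpa using this

end Groth.Agent.S16015
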