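import Groth.Statements.S16016
import Mathlib.Tactic
import Mathlib.LinearAlgebra.Span.Basic
import Mathlib.LinearAlgebra.Matrix.ToLin

set_option autoImplicit false
universe u
open W4c3ghconstell

namespace Groth.Agent.S16016

section
variable {k : Type u} [Field k]

lemma tQ (A : Matrix (Fin 3 ⊕ Fin 3) (Fin 3 ⊕ Fin 3) k) (i j : Fin 3 ⊕ Fin 3) :
    (A.transpose * Matrix.fromBlocks (0 : Matrix (Fin 3) (Fin 3) k) 1 1 0 :
      Matrix (Fin 3 ⊕ Fin 3) (Fin 3 ⊕ Fin 3) k) i j = A j.swap i := by
  rcases j with j | j <;>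
  simp [Matrix.mul_apply, Fintype.sum_sum_type, Matrix.one_apply]

lemma QA (A : Matrix (Fin 3 ⊕ Fin 3) (Fin 3 ⊕ Fin 3) k) (i j : Fin 3 ⊕ Fin 3) :
    (Matrix.fromBlocks (0 : Matrix (Fin 3) (Fin 3) k) 1 1 0 * A :
      Matrix (Fin 3 ⊕ Fin 3) (Fin 3 ⊕ Fin 3) k) i j = A i.swap j := by
  rcases i with i | i <;>
  simp [Matrix.mul_apply, Fintype.sum_sum_type, Matrix.one_apply]

end

/-- Let k be a field with 2 ≠ 0, index k⁶ by two copies of {0,1,2} (basis vectors p₁, p₂, p₃ in the
first copy and p₄, p₅, p₆ in the second), let Q be the symmetric matrix with blocks ((0, 1), (1,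
0)), so that the form it defines pairs pᵢ with pᵢ₊₃, and let W₀ be the span of p₁ and p₂. Then a 6 ×
6 matrix A satisfies AᵀQ + QA = 0 (A lies in the orthogonal Lie algebra of Q) and has the image of
Aᵀ contained in W₀ if and only if A = a · (E₄₂ − E₅₁) for some scalar a, where Eᵢⱼ is the matrix
unit. (The lemma in the source concludes that the set of such A inside a certain nilpotent orbit
closure of this Lie algebra is one-dimensional; this row is the computation its proof performs,
which determines all such A in the Lie algebra. Characteristic 2 is excluded: there E₁₄ᵀ also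
qualifies.) -/
theorem result (k : Type u) [Field k] (h2 : (2 : k) ≠ 0)
    (A : Matrix (Fin 3 ⊕ Fin 3) (Fin 3 ⊕ Fin 3) k) :
    (A.transpose * Matrix.fromBlocks (0 : Matrix (Fin 3) (Fin 3) k) 1 1 0 +
        Matrix.fromBlocks (0 : Matrix (Fin 3) (Fin 3) k) 1 1 0 * A = 0 ∧
      LinearMap.range (Matrix.mulVecLin A.transpose) ≤
        Submodule.span k {Pi.single (Sum.inl 0 : Fin 3 ⊕ Fin 3) (1 : k), Pi.single (Sum.inl 1 : Fin 3 ⊕ Fin 3) (1 : k)}) ↔
    ∃ a : k, A = a • (Matrix.single (Sum.inr 0) (Sum.inl 1) (1 : k) - Matrix.single (Sum.inr 1) (Sum.inl 0) (1 : k)) := by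
  constructor
  · rintro ⟨h1, hr⟩
    have hskew : ∀ i j : Fin 3 ⊕ Fin 3, A j.swap i + A i.swap j = 0 := by
      intro i j
      have := congr_fun (congr_fun h1 i) j
      rw [Matrix.add_apply, tQ, QA] at this
      exact this
    have hcol : ∀ i j : Fin 3 ⊕ Fin 3, j ≠ Sum.inl 0 → j ≠ Sum.inl 1 → A i j = 0 := by
      intro i j hj0 hj1
      have hmem : Matrix.mulVecLin A.transpose (Pi.single i 1) ∈
          Submodule.span k {Pi.single (Sum.inl 0 : Fin 3 ⊕ Fin 3) (1 : k),
            Pi.single (Sum.inl 1 : Fin 3 ⊕ Fin 3) (1 : k)} := hr ⟨_, rfl⟩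
      rw [Submodule.mem_span_pair] at hmem
      obtain ⟨x, y, hxy⟩ := hmem
      have := congr_fun hxy j
      simp only [Pi.add_apply, Pi.smul_apply, Pi.single_apply, hj0, hj1, if_false, smul_zero,
        add_zero, Matrix.mulVecLin_apply, Matrix.mulVec_single_one, Matrix.col_apply,
        Matrix.transpose_apply] at this
      exact this.symm
    have h2' : ∀ z : k, z + z = 0 → z = 0 := by
      intro z hz
      have : (2 : k) * z = 0 := by rw [two_mul]; exact hz
      exact (mul_eq_zero.mp this).resolve_left h2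
    have hl0 : ∀ x, A x (Sum.inl 0) = - A (Sum.inr 0) x.swap := by
      intro x
      have := hskew (Sum.inl 0) x.swap
      rw [Sum.swap_swap] at this
      exact eq_neg_of_add_eq_zero_left this
    have hl1 : ∀ x, A x (Sum.inl 1) = - A (Sum.inr 1) x.swap := by
      intro x
      have := hskew (Sum.inl 1) x.swap
      rw [Sum.swap_swap] at this
      exact eq_neg_of_add_eq_zero_left this
    refine ⟨A (Sum.inr 0) (Sum.inl 1), ?_⟩
    ext i j
    rcases i with i | i <;> rcases j with j | j <;> fin_cases i <;> fin_cases j <;>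
      simp [Matrix.single_apply]
    all_goals first
      | exact hcol _ _ (by decide) (by decide)
      | exact h2' _ (hskew (Sum.inl 0) (Sum.inl 0))
      | exact h2' _ (hskew (Sum.inl 1) (Sum.inl 1))
      | exact eq_neg_of_add_eq_zero_left (hskew (Sum.inl 0) (Sum.inl 1))
      | (rw [hl0]; simp only [Sum.swap_inl, Sum.swap_inr]
         rw [hcol _ _ (by decide) (by decide), neg_zero])
      | (rw [hl1]; simp only [Sum.swap_inl, Sum.swap_inr]
         rw [hcol _ _ (by decide) (by decide), neg_zero])
  · rintro ⟨a, rfl⟩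
    constructor
    · ext i j
      rw [Matrix.add_apply, tQ, QA]
      rcases i with i | i <;> rcases j with j | j <;> fin_cases i <;> fin_cases j <;>
        simp [Matrix.single_apply]
    · rintro _ ⟨v, rfl⟩
      rw [Submodule.mem_span_pair]
      refine ⟨-a * v (Sum.inr 1), a * v (Sum.inr 0), ?_⟩
      ext j
      rcases j with j | j <;> fin_cases j <;>
        simp [Matrix.mulVec, dotProduct, Fintype.sum_sum_type, Fin.sum_univ_three,
          Matrix.single_apply]

end Groth.Agent.S16016
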