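import Groth.Statements.S16017
import Mathlib.Tactic
import Mathlib.Analysis.Normed.Group.InfiniteSum
import Mathlib.Topology.Algebra.InfiniteSum.Group
import Mathlib.Analysis.Normed.Field.Basic

set_option autoImplicit false
universe u
open W4c3ghconstell

namespace Groth.Agent.S16017

/-- Let ι index the irreducible representations, θ : ι → ℚ a weight negative at only finitely many
indices (the finite set D₋), h h' : ι → ℕ with h' ≤ h pointwise (the isotypic dimensions of an
object and of a sub-object) and Σ_i θ_i h_i summable. For a finite set D of indices put S_D = Σ_{i ∉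
D} θ_i h_i, d = #(D ∖ D₋), and θ̃_D = Σ_{i ∈ D} θ_i h'_i + (S_D / d) · Σ_{i ∈ D ∖ D₋} h'_i / h_i,
the modified weight attached to the parameters chosen for D (for D ⊇ D₋ the first sum is the
negative part plus the part over D ∖ D₋). Then θ̃_D tends to Σ_i θ_i h'_i as D grows through the
finite subsets of ι. (Here D runs over all finite sets of indices and a quotient by zero is zero;
the source lets D run over the finite subsets of the locus θ ≠ 0 containing D₋, and the same tail
estimate gives both.) -/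
theorem result {ι : Type u} [DecidableEq ι] (θ : ι → ℚ) (h h' : ι → ℕ)
    (hle : ∀ i, h' i ≤ h i) (hfin : {i | θ i < 0}.Finite)
    (hsum : Summable (fun i => (θ i : ℝ) * (h i : ℝ))) :
    Filter.Tendsto
      (fun D : Finset ι =>
        (∑ i ∈ D, (θ i : ℝ) * (h' i : ℝ)) +
          ((∑' i, if i ∈ D then (0 : ℝ) else (θ i : ℝ) * (h i : ℝ)) / ((D \ hfin.toFinset).card : ℝ)) *
            ∑ i ∈ D \ hfin.toFinset, ((h' i : ℝ) / (h i : ℝ)))
      Filter.atTop (nhds (∑' i, (θ i : ℝ) * (h' i : ℝ))) := by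
  have hsum' : Summable (fun i => (θ i : ℝ) * (h' i : ℝ)) := by
    refine Summable.of_norm_bounded hsum.abs fun i => ?_
    rw [Real.norm_eq_abs, abs_mul, abs_mul]
    refine mul_le_mul_of_nonneg_left ?_ (abs_nonneg _)
    rw [abs_of_nonneg (Nat.cast_nonneg _), abs_of_nonneg (Nat.cast_nonneg _)]
    exact_mod_cast hle i
  have T1 : Filter.Tendsto (fun D : Finset ι => ∑ i ∈ D, (θ i : ℝ) * (h' i : ℝ)) Filter.atTop
      (nhds (∑' i, (θ i : ℝ) * (h' i : ℝ))) := hsum'.hasSum
  have T2 : Filter.Tendsto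
      (fun D : Finset ι => ∑' i, if i ∈ D then (0 : ℝ) else (θ i : ℝ) * (h i : ℝ))
      Filter.atTop (nhds 0) := by
    have := tendsto_tsum_compl_atTop_zero (fun i => (θ i : ℝ) * (h i : ℝ))
    refine this.congr fun D => ?_
    have e : (∑' a : {x // x ∉ D}, (θ a : ℝ) * (h a : ℝ)) =
        ∑' a : ({x | x ∉ D} : Set ι), (fun i => (θ i : ℝ) * (h i : ℝ)) a := rfl
    rw [e, tsum_subtype ({x | x ∉ D} : Set ι) (fun i => (θ i : ℝ) * (h i : ℝ))]
    refine tsum_congr fun i => ?_
    by_cases hi : i ∈ D <;> simp [Set.indicator, hi]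
  have hc : ∀ D : Finset ι,
      |(∑ i ∈ D \ hfin.toFinset, ((h' i : ℝ) / (h i : ℝ))) / ((D \ hfin.toFinset).card : ℝ)| ≤ 1 := by
    intro D
    have h0 : 0 ≤ ∑ i ∈ D \ hfin.toFinset, ((h' i : ℝ) / (h i : ℝ)) :=
      Finset.sum_nonneg fun i _ => div_nonneg (Nat.cast_nonneg _) (Nat.cast_nonneg _)
    have h1 : ∑ i ∈ D \ hfin.toFinset, ((h' i : ℝ) / (h i : ℝ)) ≤ ((D \ hfin.toFinset).card : ℝ) := by
      have := Finset.sum_le_card_nsmul (D \ hfin.toFinset) (fun i => (h' i : ℝ) / (h i : ℝ)) 1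
        (fun i _ => by
          apply div_le_one_of_le₀ _ (Nat.cast_nonneg _)
          exact_mod_cast hle i)
      simpa using this
    rw [abs_of_nonneg (div_nonneg h0 (Nat.cast_nonneg _))]
    exact div_le_one_of_le₀ h1 (Nat.cast_nonneg _)
  have T3 : Filter.Tendsto
      (fun D : Finset ι =>
        ((∑' i, if i ∈ D then (0 : ℝ) else (θ i : ℝ) * (h i : ℝ)) / ((D \ hfin.toFinset).card : ℝ)) *
            ∑ i ∈ D \ hfin.toFinset, ((h' i : ℝ) / (h i : ℝ)))
      Filter.atTop (nhds 0) := by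
    refine squeeze_zero_norm (fun D => ?_) (by simpa using T2.norm)
    have e : ((∑' i, if i ∈ D then (0 : ℝ) else (θ i : ℝ) * (h i : ℝ)) / ((D \ hfin.toFinset).card : ℝ)) *
            ∑ i ∈ D \ hfin.toFinset, ((h' i : ℝ) / (h i : ℝ)) =
        (∑' i, if i ∈ D then (0 : ℝ) else (θ i : ℝ) * (h i : ℝ)) *
          ((∑ i ∈ D \ hfin.toFinset, ((h' i : ℝ) / (h i : ℝ))) / ((D \ hfin.toFinset).card : ℝ)) := by
      ring
    rw [e, norm_mul, Real.norm_eq_abs, Real.norm_eq_abs]
    exact mul_le_of_le_one_right (abs_nonneg _) (hc D)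
  have := T1.add T3
  rw [add_zero] at this
  exact this

end Groth.Agent.S16017
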