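import Groth.Statements.S16021
import Groth.Agent.Lib.Helper28.Edge0

set_option autoImplicit false
universe u
open CategoryTheory CategoryTheory.Limits Opposite
open CechEdge

namespace Groth.Agent.S16021

open Groth.Agent.Lib.Helper28

variable {C : Type u} [SmallCategory C] [HasPullbacks C] {U : C} {ι : Type u} (Y : ι → Over U)

lemma π_face (P : Cᵒᵖ ⥤ AddCommGrpCat.{u}) (j : Fin 2) (a : Fin 2 → ι)
    (c : (CechEdge.cx P Y).X 0) :
    Pi.π (fun a : Fin 2 → ι => P.obj (op (∏ᶜ (Y ∘ a)).left)) a (CechEdge.face P Y j c) =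
      P.map (((FormalCoproduct.mk _ Y).cech.map (SimplexCategory.δ j).op).φ a).left.op
        (Pi.π (fun i : Fin 1 → ι => P.obj (op (∏ᶜ (Y ∘ i)).left))
          (((FormalCoproduct.mk _ Y).cech.map (SimplexCategory.δ j).op).f a) c) := by
  have h := Pi.lift_π (fun a : Fin 2 → ι =>
    Pi.π (fun i : Fin 1 → ι => P.obj (op (∏ᶜ (Y ∘ i)).left))
      (((FormalCoproduct.mk _ Y).cech.map (SimplexCategory.δ j).op).f a) ≫
      P.map (((FormalCoproduct.mk _ Y).cech.map (SimplexCategory.δ j).op).φ a).left.op) a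
  exact ConcreteCategory.congr_hom h c


variable (P : Cᵒᵖ ⥤ AddCommGrpCat.{u})

lemma hom_eq (i : Fin 1 → ι) :
    (∏ᶜ (Y ∘ i)).hom = (Pi.π (Y ∘ i) 0).left ≫ (Y (i 0)).hom := (Over.w (Pi.π (Y ∘ i) 0)).symm

lemma toCech₀_eq_zero (s : P.obj (op U)) (h : ∀ i, P.map (Y i).hom.op s = 0) :
    CechEdge.toCech₀ P Y s = 0 := by
  refine CechY.prod_ext (fun i : Fin 1 → ι => P.obj (op (∏ᶜ (Y ∘ i)).left)) _ _ (fun i => ?_)
  refine (Edge0.π_toCech₀ Y P s i).trans ?_
  refine Eq.trans ?_ (map_zero _).symm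
  rw [hom_eq Y i, op_comp, Functor.map_comp, ConcreteCategory.comp_apply, h, map_zero]

lemma toCech_eq_zero (s : P.obj (op U)) (h : ∀ i, P.map (Y i).hom.op s = 0) :
    CechEdge.toCech Y P s = 0 := by
  rw [Edge0.toCech_apply]
  have : CechEdge.toCycles P Y s = 0 := by
    apply (AddCommGrpCat.mono_iff_injective ((CechEdge.cx P Y).iCycles 0)).1 inferInstance
    rw [Edge0.iCycles_toCycles, toCech₀_eq_zero Y P s h, map_zero]
  rw [this, map_zero]


section Main

variable {P} (S : Sieve U)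

/-- the index type of all arrows of a sieve -/
abbrev Idx : Type u := Σ V : C, {f : V ⟶ U // S f}

/-- the family of all arrows of a sieve -/
abbrev fam : Idx S → Over U := fun i => Over.mk i.2.1

lemma le_ofArrows : S ≤ Sieve.ofArrows (fun i : Idx S => (fam S i).left) (fun i => (fam S i).hom) := by
  intro V f hf
  exact Sieve.ofArrows_mk _ _ (⟨V, f, hf⟩ : Idx S)

variable (x : Presieve.FamilyOfElements (P ⋙ forget AddCommGrpCat.{u}) S.arrows)

/-- the Čech 0-cochain of a family of elements -/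
noncomputable def coch : (CechEdge.cx P (fam S)).X 0 :=
  (Concrete.productEquiv (fun i : Fin 1 → Idx S => P.obj (op (∏ᶜ (fam S ∘ i)).left))).symm
    (fun i => P.map (Pi.π (fam S ∘ i) 0).left.op (x (i 0).2.1 (i 0).2.2))

lemma π_coch (i : Fin 1 → Idx S) :
    Pi.π (fun i : Fin 1 → Idx S => P.obj (op (∏ᶜ (fam S ∘ i)).left)) i (coch S x) =
      P.map (Pi.π (fam S ∘ i) 0).left.op (x (i 0).2.1 (i 0).2.2) :=
  Concrete.productEquiv_symm_apply_π _ _ _


lemma d_eq (Q : Cᵒᵖ ⥤ AddCommGrpCat.{u}) {κ : Type u} (Z : κ → Over U) (c : (CechEdge.cx Q Z).X 0) :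
    (CechEdge.cx Q Z).d 0 1 c = CechEdge.face Q Z 0 c - CechEdge.face Q Z 1 c := by
  have h : (CechEdge.cx Q Z).d 0 1 = CechEdge.face Q Z 0 - CechEdge.face Q Z 1 := by
    rw [CechEdge.cx_d_zero_one, Fin.sum_univ_two]
    simp [sub_eq_add_neg]
  rw [h]
  rfl

lemma comp_hom (j : Fin 2) (a : Fin 2 → Idx S) :
    ((((FormalCoproduct.mk _ (fam S)).cech.map (SimplexCategory.δ j).op).φ a).left ≫
      (Pi.π (fam S ∘ (((FormalCoproduct.mk _ (fam S)).cech.map (SimplexCategory.δ j).op).f a)) 0).left) ≫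
      ((((FormalCoproduct.mk _ (fam S)).cech.map (SimplexCategory.δ j).op).f a) 0).2.1 =
    (∏ᶜ (fam S ∘ a)).hom := by
  refine (Category.assoc _ _ _).trans ?_
  have h1 := Over.w (Pi.π (fam S ∘ (((FormalCoproduct.mk _ (fam S)).cech.map
    (SimplexCategory.δ j).op).f a)) 0)
  have h2 := Over.w (((FormalCoproduct.mk _ (fam S)).cech.map (SimplexCategory.δ j).op).φ a)
  exact (congrArg (fun t => _ ≫ t) h1).trans h2

lemma map_comp_apply' (Q : Cᵒᵖ ⥤ AddCommGrpCat.{u}) {V₁ V₂ V₃ : C} (f : V₁ ⟶ V₂) (g : V₂ ⟶ V₃)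
    (z : Q.obj (op V₃)) :
    (Q ⋙ forget AddCommGrpCat.{u}).map (f ≫ g).op z = Q.map f.op (Q.map g.op z) := by
  rw [op_comp, Functor.map_comp]
  rfl

lemma d_coch (hx : x.Compatible) : (CechEdge.cx P (fam S)).d 0 1 (coch S x) = 0 := by
  rw [d_eq, sub_eq_zero]
  refine CechY.prod_ext (fun a : Fin 2 → Idx S => P.obj (op (∏ᶜ (fam S ∘ a)).left)) _ _
    (fun a => ?_)
  rw [π_face, π_face]
  refine (congrArg _ (π_coch S x _)).trans (Eq.trans ?_ (congrArg _ (π_coch S x _)).symm)
  have h := hx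
    ((((FormalCoproduct.mk _ (fam S)).cech.map (SimplexCategory.δ (0 : Fin 2)).op).φ a).left ≫
      (Pi.π (fam S ∘ (((FormalCoproduct.mk _ (fam S)).cech.map
        (SimplexCategory.δ (0 : Fin 2)).op).f a)) 0).left)
    ((((FormalCoproduct.mk _ (fam S)).cech.map (SimplexCategory.δ (1 : Fin 2)).op).φ a).left ≫
      (Pi.π (fam S ∘ (((FormalCoproduct.mk _ (fam S)).cech.map
        (SimplexCategory.δ (1 : Fin 2)).op).f a)) 0).left)
    ((((FormalCoproduct.mk _ (fam S)).cech.map (SimplexCategory.δ (0 : Fin 2)).op).f a) 0).2.2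
    ((((FormalCoproduct.mk _ (fam S)).cech.map (SimplexCategory.δ (1 : Fin 2)).op).f a) 0).2.2
    ((comp_hom S 0 a).trans (comp_hom S 1 a).symm)
  exact (map_comp_apply' P _ _ _).symm.trans (h.trans (map_comp_apply' P _ _ _))


lemma amalg (t : P.obj (op U)) (ht : CechEdge.toCech₀ P (fam S) t = coch S x)
    {V : C} (f : V ⟶ U) (hf : S f) : P.map f.op t = x f hf := by
  let i : Fin 1 → Idx S := fun _ => ⟨V, f, hf⟩
  let l : fam S (i 0) ⟶ ∏ᶜ (fam S ∘ i) := Pi.lift (fun _ => 𝟙 (fam S (i 0)))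
  have hl1 : l.left ≫ (∏ᶜ (fam S ∘ i)).hom = f := Over.w l
  have hl2 : l.left ≫ (Pi.π (fam S ∘ i) 0).left = 𝟙 V := by
    have := Pi.lift_π (fun _ : Fin 1 => 𝟙 (fam S (i 0))) 0
    exact (Over.comp_left _ _ _ _ _).symm.trans (congrArg (fun z => z.left) this)
  have h1 : P.map (∏ᶜ (fam S ∘ i)).hom.op t = P.map (Pi.π (fam S ∘ i) 0).left.op (x f hf) := by
    refine (Edge0.π_toCech₀ (fam S) P t i).symm.trans ?_
    rw [ht]
    exact π_coch S x i
  have h2 := congrArg (fun z => P.map l.left.op z) h1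
  simp only at h2
  rw [← ConcreteCategory.comp_apply, ← ConcreteCategory.comp_apply, ← Functor.map_comp,
    ← Functor.map_comp, ← op_comp, ← op_comp, hl1, hl2] at h2
  refine h2.trans ?_
  have h3 : P.map (𝟙 V).op = 𝟙 _ := P.map_id _
  exact ConcreteCategory.congr_hom h3 (x f hf)

end Main

/-- On a small site with fibre products, with coverings given as indexed families of objects over their
target, an abelian presheaf is a sheaf if and only if, for every object U and every family of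
objects over U whose generated sieve is covering, the canonical map from the sections over U to the
degree-0 Cech cohomology with respect to the family is bijective. -/
theorem result {C : Type u} [SmallCategory C] [HasPullbacks C]
    (J : GrothendieckTopology C) (P : Cᵒᵖ ⥤ AddCommGrpCat.{u}) :
    Presheaf.IsSheaf J P ↔ ∀ (U : C) (ι : Type u) (Y : ι → Over U),
      Sieve.ofArrows (fun i => (Y i).left) (fun i => (Y i).hom) ∈ J U →
        Function.Bijective (CechEdge.toCech Y P) := by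
  constructor
  · intro hP U ι Y hY
    exact ⟨Edge0.toCech_injective Y ⟨P, hP⟩ hY, Edge0.toCech_surjective Y ⟨P, hP⟩ hY⟩
  · intro h
    rw [Presheaf.isSheaf_iff_isSheaf_forget J P (forget AddCommGrpCat.{u}),
      isSheaf_iff_isSheaf_of_type]
    intro U S hS
    have hcov : Sieve.ofArrows (fun i : Idx S => (fam S i).left) (fun i => (fam S i).hom) ∈ J U :=
      J.superset_covering (le_ofArrows S) hS
    obtain ⟨hinj, hsurj⟩ := h U (Idx S) (fam S) hcov
    intro x hx
    obtain ⟨z, hz⟩ := Edge0.exists_cycle (fam S) P (coch S x) (d_coch S x hx)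
    obtain ⟨t, ht⟩ := hsurj ((CechEdge.cx P (fam S)).homologyπ 0 z)
    have hπ : Function.Injective ((CechEdge.cx P (fam S)).homologyπ 0) :=
      (AddCommGrpCat.mono_iff_injective _).1 inferInstance
    have h1 : CechEdge.toCycles P (fam S) t = z := hπ ht
    have h2 : CechEdge.toCech₀ P (fam S) t = coch S x := by
      rw [← Edge0.iCycles_toCycles, h1, hz]
    refine ⟨t, fun V f hf => amalg S x t h2 f hf, ?_⟩
    intro t' ht'
    have key : ∀ s : P.obj (op U), (∀ (V : C) (f : V ⟶ U) (hf : S f), P.map f.op s = x f hf) →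
        s = t := by
      intro s hs
      have h3 : CechEdge.toCech (fam S) P (s - t) = 0 := by
        refine toCech_eq_zero (fam S) P _ (fun i => ?_)
        rw [map_sub, sub_eq_zero]
        exact (hs _ i.2.1 i.2.2).trans (amalg S x t h2 i.2.1 i.2.2).symm
      exact sub_eq_zero.1 (hinj (h3.trans (map_zero _).symm))
    exact key t' (fun V f hf => ht' f hf)

end Groth.Agent.S16021
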