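import Groth.Statements.S16022
import Groth.Agent.Lib.Helper28.EdgeB2

set_option autoImplicit false
universe u
open CategoryTheory CategoryTheory.Limits Opposite
open CechEdge

namespace Groth.Agent.S16022

/-- On a small site with fibre products, let a family of objects over U carry an edge family (in
particular it covers U) and let F be an abelian sheaf whose cohomology in every positive degree
vanishes on every finite iterated fibre product over U of members of the family. Then for every p
the comparison map from the p-th Cech cohomology of F with respect to the family to H^p(U, F) is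
bijective. -/
theorem result {C : Type u} [SmallCategory C] [HasPullbacks C]
    (J : GrothendieckTopology C) {U : C} {ι : Type u} (Y : ι → Over U)
    (e : ∀ (P : Cᵒᵖ ⥤ AddCommGrpCat.{u}) (p : ℕ), CohCx.cechH P Y p →+ CohSite.HU (CechEdge.shf J P) p U)
    (he : CechEdge.IsEdge J Y e) (F : Sheaf J AddCommGrpCat.{u})
    (h : ∀ (p : ℕ) (a : Fin (p + 1) → ι) (q : ℕ),
      Subsingleton (CohSite.HU F (q + 1) (∏ᶜ fun k => Y (a k)).left))
    (p : ℕ) : Function.Bijective (CechEdge.edgeSh e F p) := by
  have he' := (Groth.Agent.Lib.Helper28.EdgeB.isEdge_iff e).1 he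
  have h1 : Function.Bijective (e F.obj p) :=
    Groth.Agent.Lib.Helper28.EdgeL.bijective_of_acyc he' p F
      (fun n a q x => Subsingleton.elim (α := CohSite.HU F (q + 1) (∏ᶜ fun k => Y (a k)).left) x 0)
  rw [Groth.Agent.Lib.Helper28.EdgeB2.edgeSh_coe]
  exact (Groth.Agent.Lib.Helper28.EdgeB2.HUmap_bijective _ p).comp h1

end Groth.Agent.S16022
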