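import Groth.Statements.S16030
-- import your own Groth.Agent.* helpers here

set_option autoImplicit false
universe u
open CAlg

namespace Groth.Agent.S16030

/-- For a finite set F of points of the spectrum of a commutative ring A and an open subset U containing
F, some basic open D(a) contains F and is contained in U. -/
theorem result
    (A : Type u) [CommRing A] (F : Set (PrimeSpectrum A)) (hF : F.Finite)
    (U : TopologicalSpace.Opens (PrimeSpectrum A)) (hFU : F ⊆ (U : Set (PrimeSpectrum A))) :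
    ∃ a : A, F ⊆ (PrimeSpectrum.basicOpen a : Set (PrimeSpectrum A)) ∧ PrimeSpectrum.basicOpen a ≤ U := by
  classical
  obtain ⟨s, hs⟩ := (PrimeSpectrum.isOpen_iff _).mp U.2
  set I : Ideal A := Ideal.span s with hI
  have hU : ∀ q : PrimeSpectrum A, q ∈ U ↔ ¬ I ≤ q.asIdeal := by
    intro q
    have h1 : q ∈ (U : Set (PrimeSpectrum A))ᶜ ↔ q ∈ PrimeSpectrum.zeroLocus s := by
      change q ∈ (U.1)ᶜ ↔ _
      rw [hs]
    rw [PrimeSpectrum.mem_zeroLocus, ← Ideal.span_le] at h1
    rw [← h1]
    simp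
  rcases F.eq_empty_or_nonempty with rfl | ⟨p0, hp0⟩
  · exact ⟨0, by simp, by simp⟩
  have hnot : ¬ ((I : Set A) ⊆ ⋃ p ∈ (↑hF.toFinset : Set (PrimeSpectrum A)), (p.asIdeal : Set A)) := by
    rw [Ideal.subset_union_prime (f := fun p : PrimeSpectrum A => p.asIdeal)
      p0 p0 (fun i _ _ _ => i.2)]
    rintro ⟨p, hp, hIp⟩
    have : p ∈ F := by simpa using hp
    exact (hU p).mp (hFU this) hIp
  rw [Set.not_subset] at hnot
  obtain ⟨a, haI, ha⟩ := hnot
  refine ⟨a, fun p hp => ?_, fun q hq => ?_⟩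
  · rw [SetLike.mem_coe, PrimeSpectrum.mem_basicOpen]
    intro hap
    apply ha
    simp only [Set.mem_iUnion]
    exact ⟨p, by simpa using hp, hap⟩
  · rw [hU]
    intro hIq
    exact (PrimeSpectrum.mem_basicOpen _ _).mp hq (hIq haI)

end Groth.Agent.S16030
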