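import Groth.Statements.S16044
import Mathlib
import Groth.Agent.Lib.Helper82.EffCartier

set_option autoImplicit false
universe u
open CategoryTheory CategoryTheory.Limits AlgebraicGeometry
open GrpSch

namespace Groth.Agent.S16044

section helpers
open CategoryTheory CategoryTheory.Limits AlgebraicGeometry
open GrpSch


/-- the base-change square -/
lemma isPullback_map {X T S Z : Scheme.{u}} (f : X ⟶ S) (g : T ⟶ S) (c : X ⟶ T) (hg : c ≫ g = f)
    (i : Z ⟶ S) :
    IsPullback (pullback.fst f i) (pullback.map f i g i c (𝟙 _) (𝟙 _)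
        ((Category.comp_id f).trans hg.symm)
        ((Category.comp_id _).trans (Category.id_comp _).symm)) c (pullback.fst g i) := by
  subst hg
  have hbig : IsPullback (pullback.snd (c ≫ g) i) (pullback.fst (c ≫ g) i) i (c ≫ g) :=
    (IsPullback.of_hasPullback _ _).flip
  have hright : IsPullback (pullback.snd g i) (pullback.fst g i) i g :=
    (IsPullback.of_hasPullback _ _).flip
  refine (IsPullback.of_right (h₁₁ := pullback.map (c ≫ g) i g i c (𝟙 _) (𝟙 _) _ _) ?_ ?_ hright).flip
  · convert hbig using 1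
    rw [pullback.lift_snd, Category.comp_id]
  · rw [pullback.lift_fst]

/-- generic case: flat base -/
lemma generic_case {X S Z : Scheme.{u}} (f : X ⟶ S) [CompactSpace X]
    (g : Spec Γ(X, ⊤) ⟶ S) (hg : X.toSpecΓ ≫ g = f) (i : Z ⟶ S) [Flat i] :
    (pullback.map f i g i X.toSpecΓ (𝟙 _) (𝟙 _) ((Category.comp_id f).trans hg.symm)
        ((Category.comp_id _).trans (Category.id_comp _).symm)).ker = ⊥ := by
  have hpb := isPullback_map f g X.toSpecΓ hg i
  have h1 : IsSchemeTheoreticallyDominant X.toSpecΓ := ⟨Scheme.ker_toSpecΓ X⟩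
  have h2 : QuasiCompact X.toSpecΓ := inferInstance
  have h3 : Flat (pullback.fst g i) := inferInstance
  exact (IsSchemeTheoreticallyDominant.of_isPullback hpb).ker_eq_bot


lemma map_map_apply {X : Scheme.{u}} {U V W : X.Opens} (i : V ⟶ U) (j : W ⟶ V) (k : W ⟶ U)
    (s : Γ(X, U)) :
    X.presheaf.map j.op (X.presheaf.map i.op s) = X.presheaf.map k.op s := by
  rw [← CommRingCat.comp_apply, ← Functor.map_comp]
  rfl

lemma nzd_all {X : Scheme.{u}} (a : Γ(X, ⊤))
    (ha : ∀ U : X.affineOpens, ∀ b : Γ(X, U.1),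
      X.presheaf.map (homOfLE (le_top : U.1 ≤ ⊤)).op a * b = 0 → b = 0)
    (W : X.Opens) (b : Γ(X, W))
    (hb : X.presheaf.map (homOfLE (le_top : W ≤ ⊤)).op a * b = 0) : b = 0 := by
  refine X.IsSheaf.section_ext fun x hx ↦ ?_
  obtain ⟨_, ⟨V, hV, rfl⟩, hxV, hVW : V ≤ W⟩ :=
    X.isBasis_affineOpens.exists_subset_of_mem_open hx W.isOpen
  refine ⟨V, hVW, hxV, ?_⟩
  rw [map_zero]
  apply ha ⟨V, hV⟩
  have := congrArg (X.presheaf.map (homOfLE hVW).op) hb
  rw [map_mul, map_zero, map_map_apply _ _ (homOfLE (le_top : V ≤ ⊤))] at this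
  exact this

lemma div_glue {X : Scheme.{u}} (a r : Γ(X, ⊤))
    (ha : ∀ U : X.affineOpens, ∀ b : Γ(X, U.1),
      X.presheaf.map (homOfLE (le_top : U.1 ≤ ⊤)).op a * b = 0 → b = 0)
    (hr : ∀ U : X.affineOpens, X.presheaf.map (homOfLE (le_top : U.1 ≤ ⊤)).op r ∈
      Ideal.span {X.presheaf.map (homOfLE (le_top : U.1 ≤ ⊤)).op a}) :
    ∃ t : Γ(X, ⊤), r = a * t := by
  choose t ht using fun U : X.affineOpens => Ideal.mem_span_singleton'.mp (hr U)
  have hcompat : TopCat.Presheaf.IsCompatible X.presheaf (fun U : X.affineOpens => U.1) t := by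
    intro U V
    have key := nzd_all a ha (U.1 ⊓ V.1)
      (X.presheaf.map (TopologicalSpace.Opens.infLELeft U.1 V.1).op (t U) -
        X.presheaf.map (TopologicalSpace.Opens.infLERight U.1 V.1).op (t V)) ?_
    · exact sub_eq_zero.mp key
    · rw [mul_sub, sub_eq_zero]
      have e1 := congrArg (X.presheaf.map (TopologicalSpace.Opens.infLELeft U.1 V.1).op) (ht U)
      have e2 := congrArg (X.presheaf.map (TopologicalSpace.Opens.infLERight U.1 V.1).op) (ht V)
      rw [map_mul, map_map_apply _ _ (homOfLE (le_top : U.1 ⊓ V.1 ≤ ⊤)),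
        map_map_apply _ _ (homOfLE (le_top : U.1 ⊓ V.1 ≤ ⊤))] at e1 e2
      rw [mul_comm, e1, mul_comm, e2]
  obtain ⟨g, hg, -⟩ := X.sheaf.existsUnique_gluing' (fun U : X.affineOpens => U.1) ⊤
    (fun U => homOfLE le_top)
    (fun x _ => by
      obtain ⟨_, ⟨V, hV, rfl⟩, hxV, -⟩ :=
        X.isBasis_affineOpens.exists_subset_of_mem_open (Set.mem_univ x) isOpen_univ
      exact TopologicalSpace.Opens.mem_iSup.2 ⟨⟨V, hV⟩, hxV⟩) t hcompat
  refine ⟨g, ?_⟩
  refine X.IsSheaf.section_ext fun x hx ↦ ?_
  obtain ⟨_, ⟨V, hV, rfl⟩, hxV, -⟩ :=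
    X.isBasis_affineOpens.exists_subset_of_mem_open (Set.mem_univ x) isOpen_univ
  refine ⟨V, le_top, hxV, ?_⟩
  rw [map_mul]
  have h1 := hg ⟨V, hV⟩
  have h2 := ht ⟨V, hV⟩
  rw [← h2, mul_comm]
  congr 1
  exact h1.symm


/-- closed case -/
lemma closed_case {X S Z : Scheme.{u}} [IsAffine S] (f : X ⟶ S) [Flat f]
    (g : Spec Γ(X, ⊤) ⟶ S) (hg : X.toSpecΓ ≫ g = f) (i : Z ⟶ S) [IsClosedImmersion i]
    (p : Γ(S, ⊤)) (hp : ∀ b : Γ(S, ⊤), p * b = 0 → b = 0)
    (hker : i.ker.ideal ⟨⊤, isAffineOpen_top S⟩ = Ideal.span {p}) :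
    (pullback.map f i g i X.toSpecΓ (𝟙 _) (𝟙 _) ((Category.comp_id f).trans hg.symm)
        ((Category.comp_id _).trans (Category.id_comp _).symm)).ker = ⊥ := by
  have hpb := isPullback_map f g X.toSpecΓ hg i
  set cs := pullback.map f i g i X.toSpecΓ (𝟙 _) (𝟙 _) ((Category.comp_id f).trans hg.symm)
        ((Category.comp_id _).trans (Category.id_comp _).symm) with hcs
  set u := pullback.fst g i with hu
  set v := pullback.fst f i with hv
  have hZ : IsAffine Z := (IsClosedImmersion.isAffine_surjective_of_isAffine i).1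
  have hu_surj := (IsClosedImmersion.isAffine_surjective_of_isAffine u).2
  have hT : IsAffine (pullback g i) := (IsClosedImmersion.isAffine_surjective_of_isAffine u).1
  rw [Scheme.ker_of_isAffine]
  suffices hinj : RingHom.ker cs.appTop.hom = ⊥ by
    rw [hinj]
    apply Scheme.IdealSheafData.ext_of_isAffine
    simp
  rw [eq_bot_iff]
  intro h hh
  rw [RingHom.mem_ker] at hh
  obtain ⟨h', rfl⟩ := hu_surj h
  set r := X.toSpecΓ.appTop h' with hr
  -- v^* r = 0
  have hvr : v.appTop r = 0 := by
    have := congrArg (fun φ => φ.appTop h') hpb.w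
    simp only [Scheme.Hom.comp_appTop, CommRingCat.comp_apply] at this
    rw [this]; exact hh
  set a := f.appTop p with ha
  have hdiv : ∃ t : Γ(X, ⊤), r = a * t := by
    apply div_glue
    · intro U b hb
      have hflat := Scheme.Hom.flat_appLE f (isAffineOpen_top S) U.2 (le_top : U.1 ≤ f ⁻¹ᵁ ⊤)
      letI := (f.appLE ⊤ U.1 le_top).hom.toAlgebra
      have hF : Module.Flat Γ(S, ⊤) Γ(X, U.1) := hflat
      have hreg : IsSMulRegular Γ(S, ⊤) p := by
        intro x y hxy
        have : p * (x - y) = 0 := by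
          simp only [smul_eq_mul] at hxy
          rw [mul_sub, hxy, sub_self]
        exact sub_eq_zero.mp (hp _ this)
      have hreg2 := IsSMulRegular.of_flat (S := Γ(X, U.1)) hreg
      have hb' : algebraMap Γ(S, ⊤) Γ(X, U.1) p • b = algebraMap Γ(S, ⊤) Γ(X, U.1) p • 0 := by
        rw [smul_zero, smul_eq_mul]
        exact hb
      exact hreg2 hb'
    · intro U
      have hvU : v.app U.1 (X.presheaf.map (homOfLE (le_top : U.1 ≤ ⊤)).op r) = 0 := by
        have := congrArg (fun φ => φ.hom r) (v.naturality (homOfLE (le_top : U.1 ≤ ⊤)).op)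
        simp only [CommRingCat.hom_comp, RingHom.comp_apply] at this
        rw [this]
        have h0 : (v.app ⊤) r = 0 := hvr
        rw [h0, map_zero]
      have hmem : X.presheaf.map (homOfLE (le_top : U.1 ≤ ⊤)).op r ∈ v.ker.ideal U := by
        rw [Scheme.Hom.ker_apply, RingHom.mem_ker]
        exact hvU
      rw [hv, Scheme.IdealSheafData.ker_fst_of_isClosedImmersion,
        Groth.Agent.Lib.Helper82.ideal_comap_of_le f i.ker U.1 U.2 ⊤ (isAffineOpen_top S) le_top, hker,
        Ideal.map_span, Set.image_singleton] at hmem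
      exact hmem
  obtain ⟨t, ht⟩ := hdiv
  have hbij : Function.Bijective X.toSpecΓ.appTop := by
    rw [Scheme.toSpecΓ_appTop]
    exact ConcreteCategory.bijective_of_isIso _
  obtain ⟨t', rfl⟩ := hbij.2 t
  have ha' : a = X.toSpecΓ.appTop (g.appTop p) := by
    rw [ha, ← hg]
    simp
  rw [hr, ha', ← map_mul] at ht
  have hh' := hbij.1 ht
  rw [hh', map_mul]
  have h1 : u.appTop (g.appTop p) = (pullback.snd g i).appTop (i.appTop p) := by
    have := congrArg (fun φ => φ.appTop p) (pullback.condition (f := g) (g := i))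
    simpa using this
  have h2 : i.appTop p = 0 := by
    have : p ∈ i.ker.ideal ⟨⊤, isAffineOpen_top S⟩ := by
      rw [hker]; exact Ideal.subset_span rfl
    rw [Scheme.Hom.ker_apply, RingHom.mem_ker] at this
    exact this
  rw [h1, h2, map_zero, zero_mul]
  exact Ideal.zero_mem _


lemma closed_spec (R : CommRingCat.{u}) (x : Spec R) [hmax : x.asIdeal.IsMaximal] (w : R)
    (hw : x.asIdeal = Ideal.span {w}) :
    IsClosedImmersion ((Spec R).fromSpecResidueField x) ∧
      ((Spec R).fromSpecResidueField x).ker.ideal ⟨⊤, isAffineOpen_top (Spec R)⟩ =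
        Ideal.span {(Scheme.ΓSpecIso R).inv w} := by
  rw [← Scheme.Spec.map_residueFieldIso_inv_eq_fromSpecResidueField]
  have h1 : IsClosedImmersion
      (Spec.map (CommRingCat.ofHom (algebraMap R x.asIdeal.ResidueField))) :=
    IsClosedImmersion.spec_of_surjective _ (Ideal.algebraMap_residueField_surjective x.asIdeal)
  refine ⟨inferInstance, ?_⟩
  rw [Scheme.Hom.ker_comp_of_isIso, Scheme.Hom.ker_apply]
  ext y
  rw [RingHom.mem_ker]
  have hnat := Scheme.ΓSpecIso_naturality
    (CommRingCat.ofHom (algebraMap R x.asIdeal.ResidueField))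
  have hbij : Function.Bijective (Scheme.ΓSpecIso (CommRingCat.of x.asIdeal.ResidueField)).hom :=
    ConcreteCategory.bijective_of_isIso _
  have e1 : (Spec.map (CommRingCat.ofHom (algebraMap R x.asIdeal.ResidueField))).appTop.hom y = 0 ↔
      algebraMap R x.asIdeal.ResidueField ((Scheme.ΓSpecIso R).hom.hom y) = 0 := by
    have := congrArg (fun φ => φ.hom y) hnat
    simp only [CommRingCat.hom_comp, RingHom.comp_apply, CommRingCat.hom_ofHom] at this
    refine Iff.trans ?_ (Eq.congr_left this)
    constructor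
    · intro h; rw [h, map_zero]
    · intro h; exact hbij.1 (h.trans (map_zero _).symm)
  change (Spec.map (CommRingCat.ofHom (algebraMap R x.asIdeal.ResidueField))).appTop.hom y = 0 ↔ _
  rw [e1, ← RingHom.mem_ker, Ideal.ker_algebraMap_residueField, hw, Ideal.mem_span_singleton',
    Ideal.mem_span_singleton']
  constructor
  · rintro ⟨a, ha⟩
    refine ⟨(Scheme.ΓSpecIso R).inv a, ?_⟩
    rw [← map_mul, ha]
    exact Iso.hom_inv_id_apply (C := CommRingCat) _ _
  · rintro ⟨a, ha⟩
    refine ⟨(Scheme.ΓSpecIso R).hom a, ?_⟩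
    rw [← ha, map_mul]
    congr 1
    exact (Iso.inv_hom_id_apply (C := CommRingCat) _ _).symm

end helpers

/-- Let S be the spectrum of a discrete valuation ring and X a quasi-compact quasi-separated flat
S-scheme, with canonical morphism c : X ⟶ Spec Γ(X, O_X) over S. Then on each fibre over a point of
S the base change of c is schematically dominant (its kernel ideal sheaf vanishes). -/
theorem result
    (A : Type u) [CommRing A] [IsDomain A] [IsDiscreteValuationRing A]
    (X : Scheme.{u}) (f : X ⟶ Spec (CommRingCat.of A)) [Flat f] [QuasiCompact f] [QuasiSeparated f]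
    (g : Spec Γ(X, ⊤) ⟶ Spec (CommRingCat.of A)) (hg : X.toSpecΓ ≫ g = f) (s : ↥(Spec (CommRingCat.of A))) :
    (pullback.map f ((Spec (CommRingCat.of A)).fromSpecResidueField s) g ((Spec (CommRingCat.of A)).fromSpecResidueField s)
        X.toSpecΓ (𝟙 _) (𝟙 _) ((Category.comp_id f).trans hg.symm)
        ((Category.comp_id _).trans (Category.id_comp _).symm)).ker = ⊥ := by
  by_cases hs : s.asIdeal = ⊥
  · -- generic point
    have : CompactSpace X := QuasiCompact.compactSpace_of_compactSpace f
    have hflat : Flat ((Spec (CommRingCat.of A)).fromSpecResidueField s) := by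
      rw [← Scheme.Spec.map_residueFieldIso_inv_eq_fromSpecResidueField]
      have hinj : Function.Injective (algebraMap A s.asIdeal.ResidueField) := by
        rw [injective_iff_map_eq_zero]
        intro a ha
        have : a ∈ RingHom.ker (algebraMap A s.asIdeal.ResidueField) := ha
        rw [Ideal.ker_algebraMap_residueField, hs] at this
        exact this
      have htf : Module.IsTorsionFree A s.asIdeal.ResidueField :=
        Module.isTorsionFree_iff_algebraMap_injective.mpr hinj
      have hF : Module.Flat A s.asIdeal.ResidueField := inferInstance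
      have h2 : Flat (Spec.map (CommRingCat.ofHom (algebraMap (CommRingCat.of A) s.asIdeal.ResidueField))) := by
        rw [HasRingHomProperty.Spec_iff (P := @Flat)]
        exact RingHom.flat_algebraMap_iff.mpr hF
      infer_instance
    exact generic_case f g hg _
  · -- closed point
    have hprime : s.asIdeal.IsPrime := s.isPrime
    have hmax : s.asIdeal.IsMaximal := hprime.isMaximal hs
    obtain ⟨w, hw⟩ := IsDiscreteValuationRing.exists_irreducible A
    have hw' : s.asIdeal = Ideal.span {w} := by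
      rw [IsLocalRing.eq_maximalIdeal hmax]
      exact hw.maximalIdeal_eq
    obtain ⟨hci, hker⟩ := closed_spec (CommRingCat.of A) s w hw'
    refine closed_case f g hg _ ((Scheme.ΓSpecIso (CommRingCat.of A)).inv w) ?_ hker
    intro b hb
    have hbij : Function.Bijective (Scheme.ΓSpecIso (CommRingCat.of A)).hom :=
      ConcreteCategory.bijective_of_isIso _
    have := congrArg (Scheme.ΓSpecIso (CommRingCat.of A)).hom hb
    rw [map_mul, map_zero] at this
    have h1 : (Scheme.ΓSpecIso (CommRingCat.of A)).hom ((Scheme.ΓSpecIso (CommRingCat.of A)).inv w) = w :=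
      Iso.inv_hom_id_apply (C := CommRingCat) _ _
    rw [h1] at this
    rcases mul_eq_zero.mp this with h | h
    · exact absurd h hw.ne_zero
    · exact hbij.1 (h.trans (map_zero _).symm)

end Groth.Agent.S16044
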