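import Groth.Statements.S16045
import Groth.Agent.Lib.Helper79.FerrandFlatBC
import Groth.Agent.Lib.Helper79.FerrandFiniteSet
import Groth.Agent.Lib.Helper79.OverPullbackSq

set_option autoImplicit false
universe u
open CategoryTheory CategoryTheory.Limits AlgebraicGeometry
open FlatMor

namespace Groth.Agent.S16045

/-- Let θ₁ : Y ⟶ X₁ and θ₂ : Y ⟶ X₂ be closed immersions of schemes over S and X their pushout in
schemes over S. For a flat morphism g : S' ⟶ S, the square obtained by base change along g is a
pushout in schemes over S': pinching along a closed subscheme commutes with flat base change. -/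
theorem result
    {S S' : Scheme.{u}} (g : S' ⟶ S) [Flat g]
    {Y X₁ X₂ X : Over S} (θ₁ : Y ⟶ X₁) (θ₂ : Y ⟶ X₂) [IsClosedImmersion θ₁.left] [IsClosedImmersion θ₂.left]
    (φ₁ : X₁ ⟶ X) (φ₂ : X₂ ⟶ X) (hX : IsPushout θ₁ θ₂ φ₁ φ₂) :
    IsPushout ((Over.pullback g).map θ₁) ((Over.pullback g).map θ₂)
      ((Over.pullback g).map φ₁) ((Over.pullback g).map φ₂) := by
  have hF : Groth.Agent.Lib.Helper79.Ferrand.Cond θ₁.left θ₂.left :=
    Groth.Agent.Lib.Helper79.Ferrand.cond_of_isClosedImmersion
  have hP : IsPushout θ₁.left θ₂.left φ₁.left φ₂.left := hX.map (Over.forget S)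
  apply IsPushout.of_map_of_faithful (Over.forget S')
  have : Flat (pullback.fst X.hom g) := inferInstance
  refine Groth.Agent.Lib.Helper79.Ferrand.isPushout_of_flat hF hP
    (h := pullback.fst X.hom g)
    (Groth.Agent.Lib.Helper79.isPullback_overPullback_map g φ₁)
    (Groth.Agent.Lib.Helper79.isPullback_overPullback_map g φ₂)
    (Groth.Agent.Lib.Helper79.isPullback_overPullback_map g θ₁)
    (Groth.Agent.Lib.Helper79.overPullback_map_left_fst g θ₂) ?_
  change ((Over.pullback g).map θ₁ ≫ (Over.pullback g).map φ₁).left =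
    ((Over.pullback g).map θ₂ ≫ (Over.pullback g).map φ₂).left
  rw [← Functor.map_comp, ← Functor.map_comp, hX.w]

end Groth.Agent.S16045
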