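import Groth.Statements.S16046
import Groth.Agent.Lib.Helper32.ValDense.Repr

set_option autoImplicit false
universe u
open TensorProduct
open ValRing

namespace Groth.Agent.S16046

/-- Surjectivity assertion: let A ⊆ A' be valuation rings with fraction fields K ⊆ K', A' dominating A
and A dense in A' for the valuation topology, and L a finite extension of K; put L' = K' ⊗_K L. Then
every element of L' modulo its nilradical which is integral over A' is a finite sum Σ a'ᵢ·lᵢ with
a'ᵢ ∈ A' and lᵢ ∈ L integral over A. (The published statement also identifies the kernel of the map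
from the tensor product with the nilradical; that part is not stated here.) -/
theorem result
    (A K L A' K' : Type u) [CommRing A] [IsDomain A] [ValuationRing A] [Field K] [Algebra A K] [IsFractionRing A K]
    [Field L] [Algebra K L] [FiniteDimensional K L] [Algebra A L] [IsScalarTower A K L]
    [CommRing A'] [IsDomain A'] [ValuationRing A'] [Field K'] [Algebra A' K'] [IsFractionRing A' K']
    [Algebra A A'] [IsLocalHom (algebraMap A A')] (hinj : Function.Injective (algebraMap A A'))
    [Algebra K K'] [Algebra A K'] [IsScalarTower A A' K'] [IsScalarTower A K K']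
    (hdense : ∀ a' b' : A', b' ≠ 0 → ∃ a : A, b' ∣ a' - algebraMap A A' a)
    (x : (K' ⊗[K] L) ⧸ nilradical (K' ⊗[K] L))
    (hx : ((Ideal.Quotient.mk (nilradical (K' ⊗[K] L))).comp
            ((Algebra.TensorProduct.includeLeft : K' →ₐ[K] K' ⊗[K] L).toRingHom.comp (algebraMap A' K'))).IsIntegralElem x) :
    ∃ (n : ℕ) (a : Fin n → A') (l : Fin n → L), (∀ i, IsIntegral A (l i)) ∧
      x = Ideal.Quotient.mk (nilradical (K' ⊗[K] L)) (∑ i, algebraMap A' K' (a i) ⊗ₜ[K] l i) := by
  obtain ⟨w, rfl⟩ := Ideal.Quotient.mk_surjective x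
  obtain ⟨y, n, a, l, hl, hw⟩ :=
    Groth.Agent.Lib.Helper32.ValDense.exists_repr A K L A' K' hdense w
  have hz := Groth.Agent.Lib.Helper32.ValDense.isIntegralElem_mk_sum A K L A' K' a l hl
  have hx' : (Groth.Agent.Lib.Helper32.ValDense.mkIota K L A' K').IsIntegralElem
      (Ideal.Quotient.mk (nilradical (K' ⊗[K] L)) w) := hx
  have hy1 : (Groth.Agent.Lib.Helper32.ValDense.mkIota K L A' K').IsIntegralElem
      (Ideal.Quotient.mk (nilradical (K' ⊗[K] L)) ((1 : K') ⊗ₜ[K] y)) := by
    have h1 := RingHom.IsIntegralElem.sub _ hx' hz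
    rw [← map_sub, hw, add_sub_cancel_right] at h1
    exact h1
  have hy := Groth.Agent.Lib.Helper32.ValDense.isIntegral_of_isIntegralElem_mk A K L A' K' y hy1
  refine ⟨n + 1, Fin.cons 1 a, Fin.cons y l, ?_, ?_⟩
  · intro i
    refine Fin.cases ?_ (fun j => ?_) i
    · rw [Fin.cons_zero]
      exact hy
    · rw [Fin.cons_succ]
      exact hl j
  · rw [Fin.sum_univ_succ]
    simp only [Fin.cons_zero, Fin.cons_succ, map_one]
    rw [hw]

end Groth.Agent.S16046
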