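import Groth.Statements.S16048
import Groth.Agent.Lib.Helper76.MinVersal
import Groth.Agent.S12722

set_option autoImplicit false
universe u v
open CategoryTheory
open ArtFun

namespace Groth.Agent.S16048

open Groth.Agent.Lib.Helper76 ArtFun.Art

section Aux

variable {Λ k : Type u} [CommRing Λ] [Field k] [Algebra Λ k]

attribute [local instance] cringAlgebra cringTower

variable {F : Art Λ k ⥤ Type v}

/-- a functor with a miniversal family has `F(k)` a point -/
theorem h0_of_isMiniversal (S : CRing Λ k) (η : Family S.carrier S.res F) (hη : IsMiniversal η) :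
    H0 F := by
  let r₀ : HomSet S.carrier S.res (base Λ k) := ⟨S.res, AlgHom.id_comp _⟩
  have key : ∀ x : F.obj (base Λ k), x = η.app _ r₀ := by
    intro x
    obtain ⟨θ, hθ⟩ := hη.2.2 (F.map (baseToDual : base Λ k ⟶ dual Λ k) x)
    have h1 : F.map (toBase (dual Λ k)) (F.map (baseToDual : base Λ k ⟶ dual Λ k) x) = x := by
      rw [← Functor.map_comp_apply]
      have : (baseToDual : base Λ k ⟶ dual Λ k) ≫ toBase (dual Λ k) = 𝟙 _ := by
        apply Art.Hom.ext
        apply AlgHom.ext
        intro a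
        rfl
      rw [this, Functor.map_id_apply]
    rw [← h1, ← hθ, ← η.natural]
    congr 1
    exact homSet_base_eq' _ _
  exact ⟨⟨η.app _ r₀⟩, ⟨fun x y => (key x).trans (key y).symm⟩⟩

theorem aux [IsNoetherianRing Λ] [Module.Finite Λ k]
    [IsLocalRing Λ] [IsAdicComplete (IsLocalRing.maximalIdeal Λ) Λ]
    (hk : Function.Surjective (algebraMap Λ k)) (hF : HasHull F)
    (R : CRing Λ k) (n : ℕ) (e : R.carrier ≃ₐ[Λ] MvPowerSeries (Fin n) Λ)
    (ξ : Family R.carrier R.res F)
    (hξ : Function.Bijective (TangentSpace.ofFamily ξ)) : IsMiniversal ξ := by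
  obtain ⟨⟨S, η, hη⟩⟩ := hF
  refine ⟨?_, hξ⟩
  have h0 : H0 F := h0_of_isMiniversal S η hη
  obtain ⟨g₀, hg₀, hform⟩ := Groth.Agent.S12720.result' h0 S η hη.1 R ξ.toFormalElt
  have hpt : ∀ (A : Art Λ k) (χ : HomSet R.carrier R.res A),
      η.app A (homSetPre g₀ hg₀ χ) = ξ.app A χ := fun A χ =>
    Groth.Agent.S12757.family_app_eq (η.along g₀ hg₀) ξ hform A χ
  have hsm : IsSmoothFunctor (hR R.carrier R.res) := (Groth.Agent.S12722.result hk R).2 ⟨n, ⟨e⟩⟩
  apply isVersal_of_small
  intro B A μ hμ φ y hy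
  have hy' : F.map μ y = η.app A (homSetPre g₀ hg₀ φ) := by rw [hy, hpt]
  obtain ⟨ψS, hψS₁, hψS₂⟩ := hη.1 μ hμ.1 (homSetPre g₀ hg₀ φ) y hy'
  obtain ⟨ψ₀, hψ₀⟩ := hsm μ hμ.1 φ
  have hψ₀' : HomSet.map μ ψ₀ = φ := hψ₀
  have hcmp : HomSet.map μ (homSetPre g₀ hg₀ ψ₀) = HomSet.map μ ψS := by
    rw [hψS₁, ← hψ₀']
    rfl
  obtain ⟨t, ht0, hker, hm⟩ := Groth.Agent.Lib.Helper94.smallExt_exists_generator hμ
  have htker : μ t = 0 := by
    have : t ∈ RingHom.ker μ.toAlgHom := by rw [hker]; exact Ideal.subset_span rfl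
    exact this
  have htm : t ∈ IsLocalRing.maximalIdeal B.carrier := by
    rw [Art.mem_maximalIdeal_iff, ← Art.res_app μ, htker, map_zero]
  obtain ⟨D, hD⟩ := exists_der_of_map_eq (cring_hres S) μ t ht0 hker hm
    (homSetPre g₀ hg₀ ψ₀) ψS hcmp
  -- transport the derivation to `R` using the tangent bijections
  obtain ⟨θR, hθR⟩ := hξ.2 (η.app _ (homSetOfDer (cring_hres S) D))
  have hθ : homSetPre g₀ hg₀ θR = homSetOfDer (cring_hres S) D := by
    apply hη.2.1
    rw [hpt]
    exact hθR
  let E : Derivation Λ R.carrier k := derOf (cring_hres R) θR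
  have hE : ∀ s : S.carrier, E (g₀ s) = D s := by
    intro s
    have h1 : derOf (cring_hres S) (homSetPre g₀ hg₀ θR) s = E (g₀ s) := rfl
    rw [← h1, hθ, derOf_homSetOfDer]
  obtain ⟨ψ, hψ⟩ := exists_modify (cring_hres R) t hm htm ψ₀ E
  refine ⟨ψ, ?_, ?_⟩
  · rw [← hψ₀']
    apply Subtype.ext
    apply AlgHom.ext
    intro r
    obtain ⟨b, hb⟩ := B.res_surjective (E r)
    show μ (ψ.1 r) = μ (ψ₀.1 r)
    rw [hψ r b hb, map_add, map_mul, htker, mul_zero, add_zero]
  · rw [← hψS₂, ← hpt]
    congr 1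
    apply Subtype.ext
    apply AlgHom.ext
    intro s
    obtain ⟨b, hb⟩ := B.res_surjective (D s)
    show ψ.1 (g₀ s) = ψS.1 s
    rw [hψ (g₀ s) b (by rw [hb, hE]), hD s b hb]
    rfl

end Aux

/-- Let Λ be a complete local Noetherian ring with residue field k and F a functor on Artinian local
Λ-algebras with residue field k which admits a hull. A family ξ of F over a complete local
Noetherian Λ-algebra R with residue field k such that R is isomorphic over Λ to a power series ring
Λ[[t_1, …, t_n]] and the induced map on tangent spaces h_R(k[ε]) → F(k[ε]) is bijective is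
miniversal. (The source states this for the deformation functor of a rational double point over the
Witt vectors of an algebraically closed field, with the Kodaira–Spencer map as the tangent map and
the existence of a hull taken from Schlessinger's criteria; the argument uses only the existence of
a hull, so the hull is carried as a hypothesis and Λ is any complete local Noetherian ring with
residue field k.) -/
theorem result {Λ : Type u} {k : Type u}
    [CommRing Λ] [Field k] [Algebra Λ k] [IsNoetherianRing Λ] [Module.Finite Λ k]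
    [IsLocalRing Λ] [IsAdicComplete (IsLocalRing.maximalIdeal Λ) Λ]
    (hk : Function.Surjective (algebraMap Λ k))
    {F : ArtFun.Art Λ k ⥤ Type v} (hF : ArtFun.HasHull F)
    (R : ArtFun.CRing Λ k) (n : ℕ) (e : R.carrier ≃ₐ[Λ] MvPowerSeries (Fin n) Λ)
    (ξ : ArtFun.Family R.carrier R.res F)
    (hξ : Function.Bijective (ArtFun.TangentSpace.ofFamily ξ)) :
    ArtFun.IsMiniversal ξ :=
  aux hk hF R n e ξ hξ

end Groth.Agent.S16048
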