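import Groth.Statements.S16058
import Groth.Agent.Lib.Helper92.ReesS2C

set_option autoImplicit false
universe u
open FiltBl

namespace Groth.Agent.S16058

set_option maxHeartbeats 1000000

open Polynomial LocCoh IsLocalRing in
open Groth.Agent.Lib.Helper24.ExtRees Groth.Agent.Lib.Helper92.ReesS2 Groth.Agent.Lib.Helper92.LC in
/-- Let A be a Noetherian local ring that is a quotient of a Gorenstein ring, and F a filtration of
ideals on A (F^0 = A ⊇ F^1 ⊇ ⋯, F^i F^j ⊆ F^{i+j}) with every F^n nonzero and ⋂ F^n = 0, whose Rees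
algebra R = ⊕_{n ≥ 0} F^n T^n ⊆ A[T] is finitely generated over A and with F^1 of height at least 2.
If the extended Rees algebra R' = ⊕_{n ∈ ℤ} F^n T^n ⊆ A[T, T⁻¹] (F^n = A for n < 0) satisfies
Serre's condition (S_2), then R satisfies (S_2) as well. (The converse fails. The published
statement is made under the further standing assumption that no nonzero element of R is annihilated
by a power of the ideal generated by its homogeneous elements of positive degree; under the present
hypothesis that assumption holds automatically, since (S_2) for R' forces (S_2) for A, so that F^1,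
of height at least 2, contains a nonzerodivisor of A.) -/
theorem result (A : Type u) [CommRing A] [IsNoetherianRing A] [IsLocalRing A]
    (S : Type u) [CommRing S] [LocCoh.IsGorensteinRing S] (π : S →+* A) (hπ : Function.Surjective π)
    (𝓕 : FiltBl.IdealFiltration A) (hne : ∀ n, 𝓕.F n ≠ ⊥) (hsep : ⨅ n, 𝓕.F n = ⊥)
    (hfg : Algebra.FiniteType A 𝓕.rees) (hht : 2 ≤ (𝓕.F 1).height)
    (h : LocCoh.HasSk 2 𝓕.extRees 𝓕.extRees) : LocCoh.HasSk 2 𝓕.rees 𝓕.rees := by
  classical
  haveI hNE : IsNoetherianRing 𝓕.extRees := isNoetherianRing_extRees 𝓕 hfg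
  haveI hNR : IsNoetherianRing 𝓕.rees := Algebra.FiniteType.isNoetherianRing A 𝓕.rees
  obtain ⟨-, hA⟩ := (s2_extRees_iff 𝓕 hfg).mp h
  rw [Groth.Agent.Lib.Helper24.ExtRees.hasSk_self_iff] at h hA ⊢
  have hF1 : 𝓕.F 1 ≤ maximalIdeal A := F_one_le_of_iInf 𝓕 hsep
  have hF : 𝓕.F 1 ≠ ⊤ := by
    intro htop
    rw [htop, top_le_iff] at hF1
    exact (IsLocalRing.maximalIdeal.isMaximal A).ne_top hF1
  have hΓ : ∀ c : A, (∃ n : ℕ, ∀ a ∈ (𝓕.F 1) ^ n, a • c = 0) → c = 0 := by
    have hd : (2 : ℕ∞) ≤ idealDepth (𝓕.F 1) A := by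
      rw [Groth.Agent.Lib.Helper67.idealDepth_eq_iInf_depth_localization]
      refine le_iInf₂ (fun p hp => ?_)
      rw [Groth.Agent.Lib.Helper56.depth_localizedModule_self]
      have h1 := le_depth_of_skAt 2 (Localization.AtPrime p.asIdeal) (hA p.asIdeal) (by
        rw [IsLocalization.AtPrime.ringKrullDim_eq_height p.asIdeal]
        have h3 : ((2 : ℕ∞) : WithBot ℕ∞) ≤ ((p.asIdeal.height : ℕ∞) : WithBot ℕ∞) :=
          WithBot.coe_le_coe.mpr (hht.trans (Ideal.height_mono hp))
        exact h3)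
      exact_mod_cast h1
    have hne : 𝓕.F 1 • (⊤ : Submodule A A) ≠ ⊤ := by
      rw [Ideal.smul_top_eq_map, Algebra.algebraMap_self, Ideal.map_id]
      intro h'
      apply hF
      rw [Submodule.restrictScalars_eq_top_iff] at h'
      exact h'
    have h0 := subsingleton_of_lt_idealDepth (𝓕.F 1) 2 A hne hd 0 (by omega)
    exact fun c hc => torsion_eq_zero_of_subsingleton_H0 (𝓕.F 1) A h0 c hc
  have hgrade := two_le_idealDepth_rees 𝓕 h hht hF hΓ
  intro P hP
  by_cases h1 : ∃ (n : ℕ) (b : A) (hb : b ∈ 𝓕.F (n + 1)), mono 𝓕 (n + 1) b hb ∉ P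
  · obtain ⟨n, b, hb, hnot⟩ := h1
    letI := algRE 𝓕
    exact skAt_of_away (R := 𝓕.rees) (S := 𝓕.extRees) (reesToExt_injective 𝓕)
      (mono 𝓕 (n + 1) b hb) (surj_mono 𝓕 n b hb) 2 h P hnot
  · push Not at h1
    by_cases h2 : ∃ a ∈ 𝓕.F 1, algebraMap A 𝓕.rees a ∉ P
    · obtain ⟨a, ha, hnot⟩ := h2
      have hpoly : ∀ (Q : Ideal A[X]) [Q.IsPrime], SkAt 2 (Localization.AtPrime Q) :=
        fun Q _ => skAt_polynomial_of_skAt A 2 Q (hA _)
      exact skAt_of_away (R := 𝓕.rees) (S := A[X]) (fun x y hxy => Subtype.ext hxy)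
        (algebraMap A 𝓕.rees a) (surj_const 𝓕 a ha) 2 hpoly P hnot
    · push Not at h2
      have hJP : Jid 𝓕 ≤ P := Jid_le 𝓕 P h1 h2
      haveI hNP : IsNoetherianRing (Localization.AtPrime P) :=
        IsLocalization.isNoetherianRing P.primeCompl _ inferInstance
      apply skAt_of_le_depth
      rw [← Groth.Agent.Lib.Helper56.depth_localizedModule_self]
      exact hgrade.trans
        (Groth.Agent.Lib.Helper67.idealDepth_le_depth_localization (Jid 𝓕) 𝓕.rees P hJP)

end Groth.Agent.S16058
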