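import Groth.Statements.S16072
import Mathlib
-- import your own Groth.Agent.* helpers here

set_option autoImplicit false
universe u
open Hopf

namespace Groth.Agent.S16072

theorem counit_eq_sum (R : Type u) [CommRing R] (G : Type) [Group G] [Fintype G]
    (t : MonoidAlgebra R G) : Coalgebra.counit (R := R) t = ∑ h : G, t.coeff h := by
  classical
  induction t using MonoidAlgebra.induction_linear with
  | zero => simp
  | add x y hx hy => simp [hx, hy, Finset.sum_add_distrib, MonoidAlgebra.coeff_add]
  | single h r =>
    simp [MonoidAlgebra.counit_single, MonoidAlgebra.coeff_single, Finsupp.single_apply]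


/-- Let p be a prime and R a commutative ring of characteristic p (p = 0 in R, R nonzero). Then the
constant group scheme ℤ/p and the group scheme μ_p of p-th roots of unity over Spec R are not
isomorphic: there is no R-bialgebra isomorphism between the Hopf algebra Maps(ℤ/p, R) of functions
on the cyclic group of order p and the group algebra R[ℤ/p]. (Any nonzero commutative base ring of
characteristic p is allowed. The published statement allows any ring R with p·R = 0; over the zero
ring both Hopf algebras are the zero ring and hence isomorphic, so R is assumed nonzero here.) -/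
theorem result (p : ℕ) [Fact p.Prime] (R : Type u) [CommRing R]
    [CharP R p] :
    IsEmpty (ConstGrp.F R (Multiplicative (ZMod p)) ≃ₐc[R] MonoidAlgebra R (Multiplicative (ZMod p))) := by
  constructor
  intro φ
  have hnt : Nontrivial R := CharP.nontrivial_of_char_ne_one (R := R) (v := p) (Fact.out : p.Prime).ne_one
  let g : Multiplicative (ZMod p) := Multiplicative.ofAdd 1
  let t : MonoidAlgebra R (Multiplicative (ZMod p)) := φ (ConstGrp.e R 1)
  have hkey : ∀ y : MonoidAlgebra R (Multiplicative (ZMod p)),
      y * t = (Coalgebra.counit (R := R) y) • t := by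
    intro y
    obtain ⟨f, rfl⟩ : ∃ f, φ f = y := ⟨φ.symm y, φ.apply_symm_apply y⟩
    have h1 : f * ConstGrp.e R 1 = f 1 • ConstGrp.e R 1 := by
      ext h
      simp only [ConstGrp.mul_apply, ConstGrp.smul_apply, ConstGrp.e_apply]
      split_ifs with hh
      · rw [hh]
      · simp
    rw [CoalgHomClass.counit_comp_apply, ConstGrp.counit_apply]
    change φ f * φ (ConstGrp.e R 1) = f 1 • φ (ConstGrp.e R 1)
    rw [← map_mul, h1, map_smul]
  have h1 : MonoidAlgebra.single g (1 : R) * t = t := by
    rw [hkey, MonoidAlgebra.counit_single]
    simp
  have hshift : ∀ h : Multiplicative (ZMod p), t.coeff (g * h) = t.coeff h := by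
    intro h
    have h2 := congrArg (fun z : MonoidAlgebra R (Multiplicative (ZMod p)) => z.coeff (g * h)) h1
    simp only [MonoidAlgebra.coeff_single_mul_apply, one_mul, inv_mul_cancel_left] at h2
    exact h2.symm
  have hpow : ∀ (k : ℕ) (h : Multiplicative (ZMod p)), t.coeff (g ^ k * h) = t.coeff h := by
    intro k
    induction k with
    | zero => intro h; simp
    | succ k ih =>
      intro h
      rw [pow_succ', mul_assoc, hshift, ih]
  have hconst : ∀ h : Multiplicative (ZMod p), t.coeff h = t.coeff 1 := by
    intro h
    have h3 : h = g ^ (Multiplicative.toAdd h).val * 1 := by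
      rw [mul_one]
      apply Multiplicative.toAdd.injective
      simp [g]
    rw [h3, hpow]
  have e1 : Coalgebra.counit (R := R) t = 1 := by
    change Coalgebra.counit (R := R) (φ (ConstGrp.e R 1)) = 1
    rw [CoalgHomClass.counit_comp_apply, ConstGrp.counit_apply, ConstGrp.e_apply_self]
  rw [counit_eq_sum] at e1
  simp only [hconst] at e1
  rw [Finset.sum_const, Finset.card_univ] at e1
  have hcard : Fintype.card (Multiplicative (ZMod p)) = p := by
    rw [Fintype.card_multiplicative, ZMod.card]
  rw [hcard, nsmul_eq_mul, CharP.cast_eq_zero, zero_mul] at e1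
  exact zero_ne_one e1


end Groth.Agent.S16072
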