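import Groth.Statements.S16073
import Mathlib.Tactic
-- import your own Groth.Agent.* helpers here

set_option autoImplicit false
universe u
open Hopf

namespace Groth.Agent.S16073

/-- Let p be a prime and R a commutative ring of characteristic p (p = 0 in R, R nonzero). Then the
constant group scheme ℤ/p and α_p over Spec R are not isomorphic: there is no R-bialgebra
isomorphism between the Hopf algebra Maps(ℤ/p, R) of functions on the cyclic group of order p and
the Hopf algebra R[X]/(X^p) of α_p (X primitive). (Any nonzero commutative base ring of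
characteristic p is allowed. The published statement allows any ring R with p·R = 0; over the zero
ring both Hopf algebras are the zero ring and hence isomorphic, so R is assumed nonzero here.) -/
theorem result (p : ℕ) [Fact p.Prime] (R : Type u) [CommRing R] [CharP R p] :
    IsEmpty (ConstGrp.F R (Multiplicative (ZMod p)) ≃ₐc[R] AlphaP.A p R) := by
  classical
  refine ⟨fun φ => ?_⟩
  have hp : p.Prime := Fact.out
  haveI : Nontrivial R := CharP.nontrivial_of_char_ne_one (R := R) hp.ne_one
  obtain ⟨m, hm⟩ := Ideal.exists_maximal R
  have hmp : m.IsPrime := hm.isPrime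
  set x : ConstGrp.F R (Multiplicative (ZMod p)) := φ.symm (AlphaP.x p R) with hx
  have hxp : x ^ p = 0 := by
    rw [hx, ← map_pow, AlphaP.x_pow, map_zero]
  have hxm : ∀ g, x g ∈ m := by
    intro g
    have h1 : (x g) ^ p = 0 := by
      have := congrFun hxp g
      exact this
    exact hmp.mem_of_pow_mem p (by rw [h1]; exact m.zero_mem)
  have hφx : φ x = AlphaP.x p R := by rw [hx]; exact φ.apply_symm_apply _
  have hsum : AlphaP.x p R = ∑ g : Multiplicative (ZMod p), x g • φ (ConstGrp.e R g) := by
    rw [← hφx]
    conv_lhs => rw [ConstGrp.eq_sum_smul_e x]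
    rw [map_sum]
    refine Finset.sum_congr rfl (fun g _ => ?_)
    rw [map_smul]
  let c₁ : AlphaP.A p R →ₗ[R] R := (AlphaP.basis p R).coord ⟨1, hp.one_lt⟩
  have h1 : c₁ (AlphaP.x p R) = 1 := by
    have : AlphaP.x p R = AlphaP.basis p R ⟨1, hp.one_lt⟩ := by
      rw [AlphaP.basis_apply]; simp
    simp only [c₁]
    rw [this, Module.Basis.coord_apply, Module.Basis.repr_self, Finsupp.single_eq_same]
  have h2 : c₁ (AlphaP.x p R) ∈ m := by
    rw [hsum, map_sum]
    refine m.sum_mem (fun g _ => ?_)
    rw [map_smul, smul_eq_mul]
    exact m.mul_mem_right _ (hxm g)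
  rw [h1] at h2
  exact hm.ne_top ((Ideal.eq_top_iff_one _).mpr h2)

end Groth.Agent.S16073
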