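import Groth.Statements.S16074
import Mathlib
-- import your own Groth.Agent.* helpers here

set_option autoImplicit false
universe u
open Hopf

namespace Groth.Agent.S16074

open TensorProduct

section
variable (R : Type u) [CommRing R] (G : Type) [Group G] [DecidableEq G]


noncomputable def coeffL (h : G) : MonoidAlgebra R G →ₗ[R] R :=
  (Finsupp.lapply h).comp (MonoidAlgebra.coeffLinearEquiv R).toLinearMap

theorem coeffL_apply (h : G) (y : MonoidAlgebra R G) : coeffL R G h y = y.coeff h := rfl

noncomputable def pairL (h : G) : MonoidAlgebra R G ⊗[R] MonoidAlgebra R G →ₗ[R] R :=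
  (TensorProduct.lid R R).toLinearMap.comp (TensorProduct.map (coeffL R G h) (coeffL R G h))

theorem pairL_tmul (h : G) (a b : MonoidAlgebra R G) :
    pairL R G h (a ⊗ₜ[R] b) = a.coeff h * b.coeff h := by
  simp [pairL, coeffL_apply]

theorem pairL_comul (h : G) (y : MonoidAlgebra R G) :
    pairL R G h (Coalgebra.comul (R := R) y) = y.coeff h := by
  induction y using MonoidAlgebra.induction_linear with
  | zero => simp
  | add x y hx hy => simp [hx, hy, MonoidAlgebra.coeff_add]
  | single k r =>
    rw [MonoidAlgebra.comul_single, CommSemiring.comul_apply]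
    simp only [TensorProduct.map_tmul, MonoidAlgebra.lsingle_apply, pairL_tmul,
      MonoidAlgebra.coeff_single, Finsupp.single_apply]
    split_ifs <;> simp

theorem primitive_eq_zero (y : MonoidAlgebra R G)
    (hy : Coalgebra.comul (R := R) y = y ⊗ₜ[R] 1 + 1 ⊗ₜ[R] y) : y = 0 := by
  have hc : ∀ h : G, y.coeff h = 0 := by
    intro h
    have h1 := pairL_comul R G h y
    rw [hy, map_add, pairL_tmul, pairL_tmul, MonoidAlgebra.one_def, MonoidAlgebra.coeff_single,
      Finsupp.single_apply] at h1
    by_cases hh : (1 : G) = h
    · rw [if_pos hh, mul_one, one_mul] at h1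
      have : y.coeff h + y.coeff h = y.coeff h := h1
      simpa using this
    · rw [if_neg hh, mul_zero, zero_mul, add_zero] at h1
      exact h1.symm
  apply MonoidAlgebra.coeff_injective
  ext h
  exact hc h

end


/-- Let p be a prime and R a commutative ring of characteristic p (p = 0 in R, R nonzero). Then μ_p and
α_p over Spec R are not isomorphic: there is no R-bialgebra isomorphism between the group algebra
R[ℤ/p] of the cyclic group of order p (group elements group-like) and the Hopf algebra R[X]/(X^p) of
α_p (X primitive), although the underlying R-algebras R[ℤ/p] = R[Y]/(Y^p) and R[X]/(X^p) are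
isomorphic. (Any nonzero commutative base ring of characteristic p is allowed. The published
statement allows any ring R with p·R = 0; over the zero ring both Hopf algebras are the zero ring
and hence isomorphic, so R is assumed nonzero here.) -/
theorem result (p : ℕ) [Fact p.Prime] (R : Type u) [CommRing R] [CharP R p] :
    IsEmpty (MonoidAlgebra R (Multiplicative (ZMod p)) ≃ₐc[R] AlphaP.A p R) := by
  constructor
  intro φ
  have hnt : Nontrivial R := CharP.nontrivial_of_char_ne_one (R := R) (v := p) (Fact.out : p.Prime).ne_one
  have hprim : Coalgebra.comul (R := R) (φ.symm (AlphaP.x p R)) =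
      φ.symm (AlphaP.x p R) ⊗ₜ[R] 1 + 1 ⊗ₜ[R] φ.symm (AlphaP.x p R) := by
    rw [← CoalgHomClass.map_comp_comul_apply φ.symm (AlphaP.x p R), AlphaP.comul_x, map_add,
      TensorProduct.map_tmul, TensorProduct.map_tmul]
    simp
  have h0 := primitive_eq_zero R (Multiplicative (ZMod p)) _ hprim
  have hx : AlphaP.x p R = 0 := by
    have := congrArg φ h0
    simpa using this
  have hp2 : 1 < p := (Fact.out : p.Prime).one_lt
  have hb := (AlphaP.basis p R).ne_zero ⟨1, hp2⟩
  rw [AlphaP.basis_apply] at hb
  simp only [pow_one] at hb
  exact hb hx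


end Groth.Agent.S16074
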