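import Groth.Statements.S16075
import Mathlib
-- import your own Groth.Agent.* helpers here

set_option autoImplicit false
universe u
open Hopf

namespace Groth.Agent.S16075

open TensorProduct

section
variable (p : ℕ) [Fact p.Prime] (T : Type u) [CommRing T] [CharP T p] [Nontrivial T]

noncomputable def pairL (j k : Fin p) : AlphaP.A p T ⊗[T] AlphaP.A p T →ₗ[T] T :=
  (TensorProduct.lid T T).toLinearMap.comp
    (TensorProduct.map ((AlphaP.basis p T).coord j) ((AlphaP.basis p T).coord k))

theorem coord_x_pow (j : Fin p) (l : ℕ) (hl : l < p) :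
    (AlphaP.basis p T).coord j (AlphaP.x p T ^ l) = if l = (j : ℕ) then 1 else 0 := by
  have h1 : AlphaP.x p T ^ l = AlphaP.basis p T ⟨l, hl⟩ := by rw [AlphaP.basis_apply]
  rw [h1, Module.Basis.coord_apply, Module.Basis.repr_self, Finsupp.single_apply]
  simp only [Fin.ext_iff]

theorem pairL_tmul (j k : Fin p) (l n : ℕ) (hl : l < p) (hn : n < p) :
    pairL p T j k ((AlphaP.x p T ^ l) ⊗ₜ[T] (AlphaP.x p T ^ n)) =
      (if l = (j : ℕ) then 1 else 0) * (if n = (k : ℕ) then 1 else 0) := by
  simp only [pairL, LinearMap.comp_apply, TensorProduct.map_tmul, LinearEquiv.coe_coe,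
    TensorProduct.lid_tmul, smul_eq_mul]
  rw [coord_x_pow p T j l hl, coord_x_pow p T k n hn]

theorem comul_x_pow (m : ℕ) :
    Coalgebra.comul (R := T) (AlphaP.x p T ^ m) =
      ∑ l ∈ Finset.range (m + 1), (m.choose l : T) •
        ((AlphaP.x p T ^ l) ⊗ₜ[T] (AlphaP.x p T ^ (m - l))) := by
  rw [Bialgebra.comul_pow, AlphaP.comul_x, add_pow]
  apply Finset.sum_congr rfl
  intro l _
  rw [Algebra.TensorProduct.tmul_pow, Algebra.TensorProduct.tmul_pow, one_pow, one_pow,
    Algebra.TensorProduct.tmul_mul_tmul, mul_one, one_mul, mul_comm, ← nsmul_eq_mul,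
    Nat.cast_smul_eq_nsmul]

theorem pairL_comul_x_pow (j k : Fin p) (m : ℕ) (hm : m < p) :
    pairL p T j k (Coalgebra.comul (R := T) (AlphaP.x p T ^ m)) =
      if (j : ℕ) + (k : ℕ) = m then (m.choose j : T) else 0 := by
  rw [comul_x_pow, map_sum]
  have : ∀ l ∈ Finset.range (m + 1),
      pairL p T j k ((m.choose l : T) • ((AlphaP.x p T ^ l) ⊗ₜ[T] (AlphaP.x p T ^ (m - l)))) =
        if l = (j : ℕ) then (if (j : ℕ) + (k : ℕ) = m then (m.choose j : T) else 0) else 0 := by
    intro l hl
    have hl' : l ≤ m := Nat.lt_succ_iff.1 (Finset.mem_range.1 hl)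
    rw [map_smul, pairL_tmul p T j k l (m - l) (by omega) (by omega), smul_eq_mul]
    by_cases h1 : l = (j : ℕ)
    · subst h1
      by_cases h2 : (j : ℕ) + (k : ℕ) = m
      · have : m - (j : ℕ) = (k : ℕ) := by omega
        simp [h2, this]
      · have : m - (j : ℕ) ≠ (k : ℕ) := by omega
        simp [h2, this]
    · simp [h1]
  rw [Finset.sum_congr rfl this, Finset.sum_ite_eq' (Finset.range (m + 1)) (j : ℕ)]
  by_cases h2 : (j : ℕ) + (k : ℕ) = m
  · have : (j : ℕ) ∈ Finset.range (m + 1) := Finset.mem_range.2 (by omega)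
    simp [this]
  · simp [h2]


theorem primitive_eq_smul_x (u : AlphaP.A p T)
    (hu : Coalgebra.comul (R := T) u = u ⊗ₜ[T] 1 + 1 ⊗ₜ[T] u) :
    u = (AlphaP.basis p T).repr u ⟨1, (Fact.out : p.Prime).one_lt⟩ • AlphaP.x p T := by
  have hp : p.Prime := Fact.out
  set b := AlphaP.basis p T with hb
  set a := b.repr u with ha
  have hsum : u = ∑ i : Fin p, a i • AlphaP.x p T ^ (i : ℕ) := by
    conv_lhs => rw [← b.sum_repr u]
    apply Finset.sum_congr rfl
    intro i _
    rw [hb, AlphaP.basis_apply]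
  have hone : (1 : AlphaP.A p T) = AlphaP.x p T ^ 0 := (pow_zero _).symm
  have key : ∀ j k : Fin p, pairL p T j k (Coalgebra.comul (R := T) u) =
      if h : (j : ℕ) + (k : ℕ) < p then
        (((j : ℕ) + (k : ℕ)).choose j : T) * a ⟨(j : ℕ) + (k : ℕ), h⟩ else 0 := by
    intro j k
    conv_lhs => rw [hsum]
    rw [map_sum, map_sum]
    have : ∀ i ∈ (Finset.univ : Finset (Fin p)),
        pairL p T j k (Coalgebra.comul (R := T) (a i • AlphaP.x p T ^ (i : ℕ))) =
          if (j : ℕ) + (k : ℕ) = (i : ℕ) then a i * (((i : ℕ)).choose j : T) else 0 := by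
      intro i _
      rw [map_smul, map_smul, pairL_comul_x_pow p T j k i i.2, smul_eq_mul, mul_ite, mul_zero]
    rw [Finset.sum_congr rfl this]
    by_cases h : (j : ℕ) + (k : ℕ) < p
    · rw [dif_pos h]
      rw [Finset.sum_eq_single (⟨(j : ℕ) + (k : ℕ), h⟩ : Fin p)]
      · simp [mul_comm]
      · intro i _ hi
        have : (j : ℕ) + (k : ℕ) ≠ (i : ℕ) := fun h' => hi (Fin.ext h'.symm)
        simp [this]
      · intro h'
        exact absurd (Finset.mem_univ _) h'
    · rw [dif_neg h]
      apply Finset.sum_eq_zero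
      intro i _
      have : (j : ℕ) + (k : ℕ) ≠ (i : ℕ) := fun h' => h (h' ▸ i.2)
      simp [this]
  have key2 : ∀ j k : Fin p, pairL p T j k (u ⊗ₜ[T] 1 + 1 ⊗ₜ[T] u) =
      (if (k : ℕ) = 0 then a j else 0) + (if (j : ℕ) = 0 then a k else 0) := by
    intro j k
    have coordu : ∀ j : Fin p, b.coord j u = a j := fun j => rfl
    have coord1 : ∀ j : Fin p, b.coord j (1 : AlphaP.A p T) = if (j : ℕ) = 0 then 1 else 0 := by
      intro j
      rw [hone, hb, coord_x_pow p T j 0 hp.pos]
      simp only [eq_comm]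
    rw [map_add]
    simp only [pairL, LinearMap.comp_apply, TensorProduct.map_tmul, LinearEquiv.coe_coe,
      TensorProduct.lid_tmul, smul_eq_mul]
    rw [← hb, coordu, coordu, coord1, coord1]
    simp [mul_comm]
  have h0 : a ⟨0, hp.pos⟩ = 0 := by
    have h1 := key ⟨0, hp.pos⟩ ⟨0, hp.pos⟩
    rw [hu, key2] at h1
    simp only [Nat.add_zero, hp.pos, dif_pos, Nat.choose_self, Nat.cast_one, one_mul,
      if_true] at h1
    have h2 : a ⟨0, hp.pos⟩ + a ⟨0, hp.pos⟩ = a ⟨0, hp.pos⟩ := h1
    linear_combination h2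
  have hi : ∀ i : Fin p, 2 ≤ (i : ℕ) → a i = 0 := by
    intro i hi2
    have hk : (i : ℕ) - 1 < p := by have := i.2; omega
    have h1 := key ⟨1, hp.one_lt⟩ ⟨(i : ℕ) - 1, hk⟩
    rw [hu, key2] at h1
    have e1 : 1 + ((i : ℕ) - 1) = (i : ℕ) := by omega
    have e2 : ¬ ((i : ℕ) - 1 = 0) := by omega
    simp only [e1, i.2, dif_pos, Nat.choose_one_right, e2, if_false, one_ne_zero, add_zero,
      Fin.eta] at h1
    have hunit : IsUnit ((i : ℕ) : T) := by
      rw [CharP.isUnit_natCast_iff hp]
      intro hdvd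
      have := Nat.le_of_dvd (by omega) hdvd
      have := i.2
      omega
    exact (hunit.mul_right_eq_zero).1 h1.symm
  conv_lhs => rw [hsum]
  rw [Finset.sum_eq_single (⟨1, hp.one_lt⟩ : Fin p)]
  · simp
  · intro i _ hne
    by_cases h2 : 2 ≤ (i : ℕ)
    · rw [hi i h2, zero_smul]
    · have : (i : ℕ) = 0 := by
        have : (i : ℕ) ≠ 1 := fun h => hne (Fin.ext h)
        omega
      have : i = ⟨0, hp.pos⟩ := Fin.ext this
      rw [this, h0, zero_smul]
  · intro h'
    exact absurd (Finset.mem_univ _) h'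


theorem coord_one_smul_x (c : T) :
    (AlphaP.basis p T).repr (c • AlphaP.x p T) ⟨1, (Fact.out : p.Prime).one_lt⟩ = c := by
  have hp : p.Prime := Fact.out
  have h := coord_x_pow p T ⟨1, hp.one_lt⟩ 1 hp.one_lt
  rw [pow_one] at h
  rw [map_smul, Finsupp.smul_apply]
  have h' : (AlphaP.basis p T).repr (AlphaP.x p T) ⟨1, hp.one_lt⟩ = 1 := by
    simpa using h
  rw [h', smul_eq_mul, mul_one]

noncomputable def scal (c : T) : AlphaP.A p T →ₐc[T] AlphaP.A p T :=
  BialgHom.ofAlgHom (AlphaP.lift p T (c • AlphaP.x p T)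
      (by rw [smul_pow, AlphaP.x_pow, smul_zero]))
    (by
      apply AlphaP.algHom_ext
      rw [AlphaP.counitAlgHom_eq, AlgHom.comp_apply, AlphaP.lift_x, map_smul,
        AlphaP.counitAlg_x, smul_zero])
    (by
      apply AlphaP.algHom_ext
      rw [AlphaP.comulAlgHom_eq, AlgHom.comp_apply, AlgHom.comp_apply, AlphaP.lift_x, map_smul,
        AlphaP.comulAlg_x, map_add, Algebra.TensorProduct.map_tmul,
        Algebra.TensorProduct.map_tmul, map_one, AlphaP.lift_x, smul_add,
        TensorProduct.smul_tmul', TensorProduct.tmul_smul])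

theorem scal_x (c : T) : scal p T c (AlphaP.x p T) = c • AlphaP.x p T := by
  simp [scal]


end


/-- Let p be a prime, T a commutative ring of characteristic p (p = 0 in T, T nonzero) and A =
T[X]/(X^p) the Hopf algebra of α_p over Spec T, with X primitive. Then the endomorphisms of the
T-group α_{p,T} are exactly the scalings: every T-bialgebra endomorphism f of A has f(X) = λ·X for a
unique λ ∈ T, and for every λ ∈ T there is a T-bialgebra endomorphism f of A with f(X) = λ·X. So the
endomorphisms of α_{p,T} correspond bijectively to the elements of T. (Only this bijection is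
stated; that it turns addition and composition of endomorphisms into addition and multiplication in
T, and its naturality in T, are not stated here. The zero ring, allowed as T in the published
statement, is excluded by the characteristic hypothesis here.) -/
theorem result (p : ℕ) [Fact p.Prime] (T : Type u) [CommRing T] [CharP T p] :
    (∀ f : AlphaP.A p T →ₐc[T] AlphaP.A p T, ∃! c : T, f (AlphaP.x p T) = c • AlphaP.x p T) ∧
      (∀ c : T, ∃ f : AlphaP.A p T →ₐc[T] AlphaP.A p T, f (AlphaP.x p T) = c • AlphaP.x p T) := by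
  have hp : p.Prime := Fact.out
  have : Nontrivial T := CharP.nontrivial_of_char_ne_one (R := T) (v := p) hp.ne_one
  refine ⟨fun f => ?_, fun c => ⟨scal p T c, scal_x p T c⟩⟩
  have hu : Coalgebra.comul (R := T) (f (AlphaP.x p T)) =
      f (AlphaP.x p T) ⊗ₜ[T] 1 + 1 ⊗ₜ[T] f (AlphaP.x p T) := by
    have h := CoalgHomClass.map_comp_comul_apply f (AlphaP.x p T)
    rw [AlphaP.comul_x, map_add, TensorProduct.map_tmul, TensorProduct.map_tmul] at h
    rw [← h]
    simp
  refine ⟨_, primitive_eq_smul_x p T _ hu, fun c hc => ?_⟩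
  rw [hc, coord_one_smul_x]


end Groth.Agent.S16075
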