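import Groth.Statements.S16076
import Mathlib

set_option autoImplicit false
universe u
open scoped TensorProduct
open Versch

namespace Groth.Agent.S16076

open AlphaP

theorem comul_x_pow (p : ℕ) [Fact p.Prime] (R : Type u) [CommRing R] [CharP R p] (j : ℕ) :
    Coalgebra.comul (R := R) (x p R ^ j) =
      ∑ m ∈ Finset.range (j + 1), (j.choose m) • ((x p R ^ m) ⊗ₜ[R] (x p R ^ (j - m))) := by
  rw [Bialgebra.comul_pow, comul_x, add_pow]
  refine Finset.sum_congr rfl (fun m _ => ?_)
  rw [Algebra.TensorProduct.tmul_pow, Algebra.TensorProduct.tmul_pow, one_pow, one_pow,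
    Algebra.TensorProduct.tmul_mul_tmul, mul_one, one_mul, nsmul_eq_mul, mul_comm]

theorem conv_pow_vanish (p : ℕ) [Fact p.Prime] (R : Type u) [CommRing R] [CharP R p]
    (n : CartDual.D R (A p R)) (hn : n 1 = 0) :
    ∀ k j : ℕ, j < k → (n ^ k) (x p R ^ j) = 0 := by
  intro k
  induction k with
  | zero => intro j hj; omega
  | succ k ih =>
    intro j hj
    rw [pow_succ', LinearMap.convMul_apply, comul_x_pow, map_sum, map_sum]
    refine Finset.sum_eq_zero (fun m hm => ?_)
    rw [map_nsmul, map_nsmul, TensorProduct.map_tmul, LinearMap.mul'_apply]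
    rcases Nat.eq_zero_or_pos m with rfl | hm0
    · rw [pow_zero]
      have : n.ofConv 1 = 0 := hn
      rw [this, zero_mul, smul_zero]
    · have hm' := Finset.mem_range.mp hm
      have : (n ^ k).ofConv (x p R ^ (j - m)) = 0 := ih (j - m) (by omega)
      rw [this, mul_zero, smul_zero]


theorem conv_pow_eq_zero (p : ℕ) [Fact p.Prime] (R : Type u) [CommRing R] [CharP R p]
    (n : CartDual.D R (A p R)) (hn : n 1 = 0) : n ^ p = 0 := by
  have h1 : ∀ j : ℕ, (n ^ p) (x p R ^ j) = 0 := by
    intro j
    by_cases hj : j < p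
    · exact conv_pow_vanish p R n hn p j hj
    · rw [x_pow_of_le p R (not_lt.mp hj)]
      exact map_zero (n ^ p).ofConv
  apply WithConv.ofConv_injective
  apply LinearMap.ext
  intro a
  obtain ⟨f, rfl⟩ := mk_surjective p R a
  show (n ^ p).ofConv (mk p R f) = 0
  induction f using Polynomial.induction_on' with
  | add f g hf hg => rw [map_add, map_add, hf, hg, add_zero]
  | monomial j c =>
    rw [← Polynomial.C_mul_X_pow_eq_monomial, map_mul, map_pow, mk_X, ← Polynomial.algebraMap_eq,
      AlgHom.commutes, ← Algebra.smul_def, map_smul]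
    have := h1 j
    rw [CartDual.coe_apply] at this
    rw [this, smul_zero]

theorem key (p : ℕ) [Fact p.Prime] (R : Type u) [CommRing R] [CharP R p]
    (y : CartDual.D R (A p R)) (a : A p R) :
    (y ^ p) a = (y 1) ^ p * Coalgebra.counit (R := R) a := by
  have hD : CharP (CartDual.D R (A p R)) p :=
    charP_of_injective_algebraMap (Bialgebra.algebraMap_injective (R := R) _) p
  set n : CartDual.D R (A p R) := y - algebraMap R _ (y 1) with hn
  have hn1 : n 1 = 0 := by
    rw [hn, CartDual.coe_apply, WithConv.ofConv_sub, LinearMap.sub_apply, ← CartDual.coe_apply,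
      ← CartDual.coe_apply, LinearMap.convAlgebraMap_apply]
    simp
  have hy : y = algebraMap R _ (y 1) + n := by rw [hn]; ring
  have hyp : y ^ p = algebraMap R _ ((y 1) ^ p) + n ^ p := by
    conv_lhs => rw [hy]
    rw [add_pow_char, ← map_pow]
  rw [hyp, conv_pow_eq_zero p R n hn1, add_zero, LinearMap.convAlgebraMap_apply]
  simp

/-- Let p be a prime, R a commutative ring of characteristic p and A = R[X]/(X^p) the Hopf algebra of
α_p over Spec R, with X primitive. Let v : A → A ⊗_R R^(Frob) be the comorphism of the Verschiebung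
V : α_p^(p) → α_p (the ring map whose transpose under the canonical pairing is the relative
Frobenius of the dual Hopf algebra Hom_R(A, R)). Then V is the trivial homomorphism: v is the
composite of the counit ε : A → R, the identity of underlying rings R → R^(Frob) and the inclusion
of the twisted factor R^(Frob) → A ⊗_R R^(Frob), i.e. v(a) = 1 ⊗ ε(a). (Any commutative base ring of
characteristic p is allowed.) -/
theorem result (p : ℕ) [Fact p.Prime] (R : Type u) [CommRing R] [CharP R p]
    (v : AlphaP.A p R →+* FrobAlg.BaseChange p R (AlphaP.A p R))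
    (hv : Versch.IsVerschiebung p R (AlphaP.A p R) v) :
    v = ((Algebra.TensorProduct.includeRight (R := R) (A := AlphaP.A p R) (B := FrobAlg.Twist p R)).toRingHom.comp
          (FrobAlg.toTwist p R).toRingHom).comp (Bialgebra.counitAlgHom R (AlphaP.A p R)).toRingHom := by
  rw [isVerschiebung_iff] at hv
  apply RingHom.ext
  intro a
  refine evTw_injective p R (AlphaP.A p R) (fun y => ?_)
  rw [hv]
  change _ = evTw p R _ y ((1 : AlphaP.A p R) ⊗ₜ[R]
    FrobAlg.toTwist p R (Coalgebra.counit (R := R) a))
  rw [evTw_tmul', ← map_mul]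
  congr 1
  exact key p R y a

end Groth.Agent.S16076
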