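import Groth.Statements.S16077
import Mathlib

set_option autoImplicit false
universe u
open CAlg

namespace Groth.Agent.S16077

open MvPolynomial
set_option linter.unusedSectionVars false

theorem pow_mul_lt_iff (p : ℕ) (hp : 2 ≤ p) (n e a : ℕ) : p ^ n * a < p ^ e ↔ a < p ^ (e - n) := by
  have hp0 : 0 < p := by omega
  rcases le_or_gt n e with h | h
  · obtain ⟨m, rfl⟩ := Nat.exists_eq_add_of_le h
    rw [Nat.add_sub_cancel_left, pow_add]
    exact Nat.mul_lt_mul_left (pow_pos hp0 n)
  · rw [Nat.sub_eq_zero_of_le h.le, pow_zero, Nat.lt_one_iff]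
    constructor
    · intro h1
      by_contra ha
      have : p ^ e < p ^ n := Nat.pow_lt_pow_right hp h
      have h2 : p ^ n * 1 ≤ p ^ n * a := Nat.mul_le_mul_left _ (Nat.one_le_iff_ne_zero.mpr ha)
      omega
    · rintro rfl
      simpa using pow_pos hp0 e

section main
variable (p : ℕ) [hp : Fact p.Prime] (k : Type u) [Field k] [CharP k p]

/-- span of `p^n`-th powers -/
def powSpan (Q : Type u) [CommRing Q] [Algebra k Q] (n : ℕ) : Submodule k Q :=
  Submodule.span k (Set.range fun x : Q => x ^ p ^ n)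

theorem powSpan_map {Q Q' : Type u} [CommRing Q] [CommRing Q'] [Algebra k Q] [Algebra k Q']
    (φ : Q ≃ₐ[k] Q') (n : ℕ) :
    (powSpan p k Q n).map φ.toLinearEquiv.toLinearMap = powSpan p k Q' n := by
  unfold powSpan
  rw [Submodule.map_span]
  congr 1
  ext y
  constructor
  · rintro ⟨_, ⟨x, rfl⟩, rfl⟩
    exact ⟨φ x, by simp⟩
  · rintro ⟨x, rfl⟩
    exact ⟨(φ.symm x)^p^n, ⟨φ.symm x, rfl⟩, by simp⟩

variable {r : ℕ} (e : Fin r → ℕ)

/-- the ideal -/
noncomputable abbrev II : Ideal (MvPolynomial (Fin r) k) :=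
  Ideal.span (Set.range fun i : Fin r => (X i : MvPolynomial (Fin r) k) ^ p ^ e i)

theorem mem_II_iff (x : MvPolynomial (Fin r) k) :
    x ∈ II p k e ↔ ∀ m ∈ x.support, ∃ i, p ^ e i ≤ m i := by
  have : (Set.range fun i : Fin r => (X i : MvPolynomial (Fin r) k) ^ p ^ e i) =
      (fun s => monomial s (1 : k)) '' (Set.range fun i => Finsupp.single i (p ^ e i)) := by
    rw [← Set.range_comp]; congr 1; ext i; simp [X_pow_eq_monomial]
  rw [II, this, mem_ideal_span_monomial_image]
  simp [Finsupp.single_le_iff]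


/-- exponent vector of a tuple -/
noncomputable def fs (n : ℕ) (t : (i : Fin r) → Fin (p ^ (e i - n))) : Fin r →₀ ℕ :=
  Finsupp.equivFunOnFinite.symm (fun i => (t i : ℕ))

@[simp] theorem fs_apply (n : ℕ) (t : (i : Fin r) → Fin (p ^ (e i - n))) (i : Fin r) :
    fs p e n t i = (t i : ℕ) := rfl

/-- the spanning vectors -/
noncomputable def w (n : ℕ) (t : (i : Fin r) → Fin (p ^ (e i - n))) :
    MvPolynomial (Fin r) k ⧸ II p k e :=
  Ideal.Quotient.mk (II p k e) (monomial (p ^ n • fs p e n t) 1)

theorem pow_mem_span (n : ℕ) (P : MvPolynomial (Fin r) k) :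
    (Ideal.Quotient.mk (II p k e) P) ^ p ^ n ∈ Submodule.span k (Set.range (w p k e n)) := by
  have hp2 : 2 ≤ p := hp.out.two_le
  induction P using MvPolynomial.induction_on' with
  | monomial a c =>
    rw [← map_pow, monomial_pow]
    have h1 : (monomial (p ^ n • a) (c ^ p ^ n) : MvPolynomial (Fin r) k) =
        (c ^ p ^ n) • monomial (p ^ n • a) 1 := by
      rw [smul_monomial, smul_eq_mul, mul_one]
    rw [h1]
    have h2 : Ideal.Quotient.mk (II p k e) ((c ^ p ^ n) • monomial (p ^ n • a) 1) =
        (c ^ p ^ n) • Ideal.Quotient.mk (II p k e) (monomial (p ^ n • a) 1) := rfl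
    rw [h2]
    refine Submodule.smul_mem _ _ ?_
    by_cases hlt : ∀ i, p ^ n * a i < p ^ e i
    · refine Submodule.subset_span ⟨fun i => ⟨a i, (pow_mul_lt_iff p hp2 n (e i) (a i)).mp (hlt i)⟩, ?_⟩
      have hfs : fs p e n (fun i => ⟨a i, (pow_mul_lt_iff p hp2 n (e i) (a i)).mp (hlt i)⟩) = a := by
        ext i; simp
      simp only [w, hfs]
    · push Not at hlt
      obtain ⟨i, hi⟩ := hlt
      have : (monomial (p ^ n • a) (1 : k)) ∈ II p k e := by
        rw [mem_II_iff]
        intro m hm
        classical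
        rw [mem_support_iff, coeff_monomial] at hm
        split_ifs at hm with h
        · subst h
          exact ⟨i, by simpa using hi⟩
        · exact absurd rfl hm
      rw [Ideal.Quotient.eq_zero_iff_mem.mpr this]
      exact Submodule.zero_mem _
  | add P Q hP hQ =>
    rw [← map_pow, add_pow_char_pow, map_add, map_pow, map_pow]
    exact Submodule.add_mem _ hP hQ

theorem powSpan_eq (n : ℕ) :
    powSpan p k (MvPolynomial (Fin r) k ⧸ II p k e) n = Submodule.span k (Set.range (w p k e n)) := by
  apply le_antisymm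
  · unfold powSpan
    rw [Submodule.span_le]
    rintro _ ⟨x, rfl⟩
    obtain ⟨P, rfl⟩ := Ideal.Quotient.mk_surjective x
    exact pow_mem_span p k e n P
  · rw [Submodule.span_le]
    rintro _ ⟨t, rfl⟩
    refine Submodule.subset_span ⟨Ideal.Quotient.mk (II p k e) (monomial (fs p e n t) 1), ?_⟩
    simp only [w]
    rw [← map_pow, monomial_pow, one_pow]

theorem w_linearIndependent (n : ℕ) : LinearIndependent k (w p k e n) := by
  have hp2 : 2 ≤ p := hp.out.two_le
  have hp0 : p ^ n ≠ 0 := pow_ne_zero _ (by omega)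
  rw [linearIndependent_iff']
  intro s g hg t0 ht0
  by_contra hne
  have hinj : ∀ t t' : (i : Fin r) → Fin (p ^ (e i - n)),
      p ^ n • fs p e n t = p ^ n • fs p e n t' → t = t' := by
    intro t t' h
    funext i
    have := DFunLike.congr_fun h i
    simp only [Finsupp.smul_apply, fs_apply, smul_eq_mul] at this
    exact Fin.ext (Nat.eq_of_mul_eq_mul_left (Nat.pos_of_ne_zero hp0) this)
  have h1 : ∑ t ∈ s, g t • w p k e n t =
      Ideal.Quotient.mk (II p k e) (∑ t ∈ s, monomial (p ^ n • fs p e n t) (g t)) := by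
    rw [map_sum]
    refine Finset.sum_congr rfl fun t _ => ?_
    have : (monomial (p ^ n • fs p e n t) (g t) : MvPolynomial (Fin r) k) =
        (g t) • monomial (p ^ n • fs p e n t) 1 := by
      rw [smul_monomial, smul_eq_mul, mul_one]
    rw [this]
    rfl
  rw [h1, Ideal.Quotient.eq_zero_iff_mem, mem_II_iff] at hg
  have hcoeff : coeff (p ^ n • fs p e n t0) (∑ t ∈ s, monomial (p ^ n • fs p e n t) (g t)) = g t0 := by
    rw [coeff_sum, Finset.sum_eq_single t0]
    · simp
    · intro t _ hne'
      rw [coeff_monomial, if_neg]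
      intro h
      exact hne' (hinj _ _ h)
    · intro h; exact absurd ht0 h
  obtain ⟨i, hi⟩ := hg (p ^ n • fs p e n t0) (by rw [mem_support_iff, hcoeff]; exact hne)
  simp only [Finsupp.smul_apply, fs_apply, smul_eq_mul] at hi
  have := (pow_mul_lt_iff p hp2 n (e i) (t0 i)).mpr (t0 i).2
  omega

theorem finrank_powSpan (n : ℕ) :
    Module.finrank k (powSpan p k (MvPolynomial (Fin r) k ⧸ II p k e) n) = p ^ (∑ i, (e i - n)) := by
  rw [powSpan_eq, finrank_span_eq_card (w_linearIndependent p k e n), Fintype.card_pi]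
  simp only [Fintype.card_fin]
  rw [Finset.prod_pow_eq_pow_sum]

end main

/-- combinatorics: equal truncated sums give equal fibre cardinalities -/
theorem exists_equiv_of_sums {r s : ℕ} (e : Fin r → ℕ) (f : Fin s → ℕ)
    (he : ∀ i, 1 ≤ e i) (hf : ∀ j, 1 ≤ f j)
    (h : ∀ n, ∑ i, (e i - n) = ∑ j, (f j - n)) :
    ∃ σ : Fin r ≃ Fin s, ∀ i : Fin r, f (σ i) = e i := by
  have key : ∀ {t : ℕ} (g : Fin t → ℕ) (m : ℕ), 1 ≤ m →
      (∑ i, if g i = m then 1 else 0) + 2 * ∑ i, (g i - m) =
        ∑ i, (g i - (m - 1)) + ∑ i, (g i - (m + 1)) := by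
    intro t g m hm
    rw [Finset.mul_sum, ← Finset.sum_add_distrib, ← Finset.sum_add_distrib]
    refine Finset.sum_congr rfl fun i _ => ?_
    split_ifs <;> omega
  have hcard : ∀ m, Fintype.card {i // e i = m} = Fintype.card {j // f j = m} := by
    intro m
    rcases Nat.eq_zero_or_pos m with rfl | hm
    · have h1 : IsEmpty {i // e i = 0} := ⟨fun ⟨i, hi⟩ => by have := he i; omega⟩
      have h2 : IsEmpty {j // f j = 0} := ⟨fun ⟨j, hj⟩ => by have := hf j; omega⟩
      rw [Fintype.card_eq_zero, Fintype.card_eq_zero]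
    · rw [Fintype.card_subtype, Fintype.card_subtype, Finset.card_filter, Finset.card_filter]
      have k1 := key e m hm
      have k2 := key f m hm
      rw [h m, h (m - 1), h (m + 1)] at k1
      omega
  let E : ∀ m, {i // e i = m} ≃ {j // f j = m} := fun m => Fintype.equivOfCardEq (hcard m)
  exact ⟨Equiv.ofFiberEquiv E, fun i => Equiv.ofFiberEquiv_map E i⟩



/-- Let k be a perfect field of characteristic p > 0 and let e_1, …, e_r ≥ 1 and f_1, …, f_s ≥ 1 be
natural numbers. If the k-algebras k[X_1, …, X_r]/(X_i^{p^{e_i}} : 1 ≤ i ≤ r) and k[X_1, …,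
X_s]/(X_j^{p^{f_j}} : 1 ≤ j ≤ s) are isomorphic, then r = s and (f_j) is a permutation of (e_i):
there is a bijection σ between the index sets with f_{σ(i)} = e_i. Such truncated polynomial
algebras are the coordinate rings of the connected finite k-group schemes, and the row says that the
number of variables and the exponents are invariants of the group, indeed of its algebra. (Only this
invariance is stated here; the existence of such a presentation for every connected finite k-group
is a separate statement.) -/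
theorem result (p : ℕ) [Fact p.Prime] (k : Type u) [Field k]
    [CharP k p] [PerfectField k] (r s : ℕ) (e : Fin r → ℕ) (f : Fin s → ℕ) (he : ∀ i, 1 ≤ e i) (hf : ∀ j, 1 ≤ f j)
    (φ : (MvPolynomial (Fin r) k ⧸ Ideal.span (Set.range fun i : Fin r => (MvPolynomial.X i : MvPolynomial (Fin r) k) ^ p ^ e i)) ≃ₐ[k]
      (MvPolynomial (Fin s) k ⧸ Ideal.span (Set.range fun j : Fin s => (MvPolynomial.X j : MvPolynomial (Fin s) k) ^ p ^ f j))) :
    ∃ σ : Fin r ≃ Fin s, ∀ i : Fin r, f (σ i) = e i := by
  have hp2 : 2 ≤ p := (Fact.out : p.Prime).two_le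
  apply exists_equiv_of_sums e f he hf
  intro n
  have h1 := finrank_powSpan p k e n
  have h2 := finrank_powSpan p k f n
  have h3 : Module.finrank k (powSpan p k (MvPolynomial (Fin s) k ⧸ II p k f) n) =
      Module.finrank k (powSpan p k (MvPolynomial (Fin r) k ⧸ II p k e) n) := by
    rw [← powSpan_map p k φ n]
    exact LinearEquiv.finrank_map_eq φ.toLinearEquiv _
  rw [h1, h2] at h3
  exact (Nat.pow_right_injective hp2 h3).symm

end Groth.Agent.S16077
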