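import Groth.Statements.S16078
import Mathlib

set_option autoImplicit false
universe u
open scoped TensorProduct
open Hopf

namespace Groth.Agent.S16078
set_option maxHeartbeats 400000
open scoped TensorProduct
open Hopf

section idem

/-- an idempotent of a local ring is `0` or `1` -/
lemma idem_eq_zero_or_one {L : Type*} [CommRing L] [IsLocalRing L] (x : L)
    (hx : IsIdempotentElem x) : x = 0 ∨ x = 1 := by
  rcases IsLocalRing.isUnit_or_isUnit_one_sub_self x with h | h
  · right
    have : x * x = x * 1 := by rw [mul_one]; exact hx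
    exact h.mul_left_cancel this
  · left
    have h0 : (1 - x) * x = (1 - x) * 0 := by
      rw [mul_zero, sub_mul, one_mul, hx.eq, sub_self]
    exact h.mul_left_cancel h0

variable {A : Type*} [CommRing A] {R : Type*} [CommRing R] [Nontrivial R] (ε : A →+* R)
  (J : Ideal A) (hJ : J ≤ RingHom.ker ε)

include hJ in
/-- comparison of two "idempotents modulo `J`" with augmentation `1` -/
lemma mul_sub_mem (e e' : A) (hε : ε e = 1) (hε' : ε e' = 1)
    (he : e * e - e ∈ J) (he' : e' * e' - e' ∈ J)
    [IsLocalRing (A ⧸ (J ⊔ Ideal.span ({1 - e'} : Set A)))] : e' - e * e' ∈ J := by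
  set P := J ⊔ Ideal.span ({1 - e'} : Set A) with hP
  have hPε : ∀ a ∈ P, ε a = 0 := by
    intro a ha
    obtain ⟨j, hj, s, hs, rfl⟩ := Submodule.mem_sup.mp ha
    obtain ⟨c, rfl⟩ := Ideal.mem_span_singleton'.mp hs
    rw [map_add, map_mul, map_sub, map_one, hε', sub_self, mul_zero, add_zero]
    exact hJ hj
  have hidem : IsIdempotentElem (Ideal.Quotient.mk P e) := by
    change _ * _ = _
    rw [← map_mul, ← sub_eq_zero, ← map_sub, Ideal.Quotient.eq_zero_iff_mem]
    exact le_sup_left (a := J) he
  rcases idem_eq_zero_or_one _ hidem with h | h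
  · exfalso
    rw [Ideal.Quotient.eq_zero_iff_mem] at h
    have := hPε e h
    rw [hε] at this
    exact one_ne_zero this
  · have h1 : (1 : A) - e ∈ P := by
      rw [← Ideal.Quotient.eq_zero_iff_mem, map_sub, map_one, h, sub_self]
    obtain ⟨j, hj, s, hs, hsum⟩ := Submodule.mem_sup.mp h1
    obtain ⟨c, rfl⟩ := Ideal.mem_span_singleton'.mp hs
    have : e' - e * e' = j * e' - c * (e' * e' - e') := by
      have : e' - e * e' = (1 - e) * e' := by ring
      rw [this, ← hsum]; ring
    rw [this]
    exact sub_mem (Ideal.mul_mem_right _ _ hj) (Ideal.mul_mem_left _ _ he')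

end idem

section main
variable (R : Type u) [CommRing R] [HenselianLocalRing R]
    (A A'' : Type u) [CommRing A] [HopfAlgebra R A]
    [CommRing A''] [HopfAlgebra R A'']
    [Algebra A'' A] [IsScalarTower R A'' A]

theorem part2
    (hε : (Bialgebra.counitAlgHom R A).comp (IsScalarTower.toAlgHom R A'' A) = Bialgebra.counitAlgHom R A'')
    (e : A) (he : IsIdempotentElem e) (heε : Bialgebra.counitAlgHom R A e = 1)
    [IsLocalRing (A ⧸ Ideal.span ({1 - e} : Set A))]
    (e' : A) (he' : IsIdempotentElem (Ideal.Quotient.mk ((RingHom.ker (Bialgebra.counitAlgHom R A'')).map (algebraMap A'' A)) e'))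
    (he'ε : Bialgebra.counitAlgHom R A e' = 1)
    [IsLocalRing (A ⧸ (((RingHom.ker (Bialgebra.counitAlgHom R A'')).map (algebraMap A'' A)) ⊔ Ideal.span ({1 - e'} : Set A)))] :
    Ideal.Quotient.mk ((RingHom.ker (Bialgebra.counitAlgHom R A'')).map (algebraMap A'' A)) e = Ideal.Quotient.mk ((RingHom.ker (Bialgebra.counitAlgHom R A'')).map (algebraMap A'' A)) e' := by
  set J := (RingHom.ker (Bialgebra.counitAlgHom R A'')).map (algebraMap A'' A) with hJdef
  let ε : A →+* R := (Bialgebra.counitAlgHom R A : A →+* R)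
  have hJ : J ≤ RingHom.ker ε := by
    rw [hJdef, Ideal.map_le_iff_le_comap]
    intro a ha
    rw [Ideal.mem_comap, RingHom.mem_ker]
    have h1 : Bialgebra.counitAlgHom R A (algebraMap A'' A a) = Bialgebra.counitAlgHom R A'' a :=
      AlgHom.congr_fun hε a
    change Bialgebra.counitAlgHom R A (algebraMap A'' A a) = 0
    rw [h1]
    exact ha
  have hee : e * e - e ∈ J := by rw [he.eq, sub_self]; exact zero_mem _
  have he'e' : e' * e' - e' ∈ J := by
    rw [← Ideal.Quotient.eq_zero_iff_mem, map_sub, map_mul, he'.eq, sub_self]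
  -- the quotient `A ⧸ (J ⊔ (1 - e))` is local
  have hPε : ∀ a ∈ J ⊔ Ideal.span ({1 - e} : Set A), ε a = 0 := by
    intro a ha
    obtain ⟨j, hj, s, hs, rfl⟩ := Submodule.mem_sup.mp ha
    obtain ⟨c, rfl⟩ := Ideal.mem_span_singleton'.mp hs
    rw [map_add, map_mul, map_sub, map_one]
    have : ε e = 1 := heε
    rw [this, sub_self, mul_zero, add_zero]
    exact hJ hj
  haveI : Nontrivial (A ⧸ (J ⊔ Ideal.span ({1 - e} : Set A))) := by
    rw [Ideal.Quotient.nontrivial_iff]
    intro htop
    have := hPε 1 (by rw [htop]; exact Submodule.mem_top)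
    rw [map_one] at this
    exact one_ne_zero this
  haveI : IsLocalRing (A ⧸ (J ⊔ Ideal.span ({1 - e} : Set A))) :=
    IsLocalRing.of_surjective' (Ideal.Quotient.factor (le_sup_right (a := J)))
      (Ideal.Quotient.factor_surjective _)
  have h1 : e' - e * e' ∈ J := mul_sub_mem ε J hJ e e' heε he'ε hee he'e'
  have h2 : e - e' * e ∈ J := mul_sub_mem ε J hJ e' e he'ε heε he'e' hee
  rw [Ideal.Quotient.eq]
  have : e - e' = (e - e' * e) - (e' - e * e') := by ring
  rw [this]
  exact sub_mem h2 h1

theorem part1 [Module.FaithfullyFlat A'' A]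
    (hε : (Bialgebra.counitAlgHom R A).comp (IsScalarTower.toAlgHom R A'' A) = Bialgebra.counitAlgHom R A'')
    (e : A) (he : IsIdempotentElem e) (heε : Bialgebra.counitAlgHom R A e = 1)
    [IsLocalRing (A ⧸ Ideal.span ({1 - e} : Set A))]
    (e'' : A'') (he'' : IsIdempotentElem e'') (he''ε : Bialgebra.counitAlgHom R A'' e'' = 1)
    [IsLocalRing (A'' ⧸ Ideal.span ({1 - e''} : Set A''))]
    (g : (A'' ⧸ Ideal.span ({1 - e''} : Set A'')) →+* (A ⧸ Ideal.span ({1 - e} : Set A)))
    (hg : g.comp (Ideal.Quotient.mk (Ideal.span ({1 - e''} : Set A''))) =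
      (Ideal.Quotient.mk (Ideal.span ({1 - e} : Set A))).comp (algebraMap A'' A)) :
    g.FaithfullyFlat := by
  -- augmentations on the components
  let εA : A →+* R := (Bialgebra.counitAlgHom R A : A →+* R)
  let εA'' : A'' →+* R := (Bialgebra.counitAlgHom R A'' : A'' →+* R)
  have hεcomp : ∀ a : A'', εA (algebraMap A'' A a) = εA'' a := fun a => AlgHom.congr_fun hε a
  let ε₀ : (A ⧸ Ideal.span ({1 - e} : Set A)) →+* R :=
    Ideal.Quotient.lift _ εA (by
      intro a ha
      obtain ⟨c, rfl⟩ := Ideal.mem_span_singleton'.mp ha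
      have : εA e = 1 := heε
      rw [map_mul, map_sub, map_one, this, sub_self, mul_zero])
  let ε₀'' : (A'' ⧸ Ideal.span ({1 - e''} : Set A'')) →+* R :=
    Ideal.Quotient.lift _ εA'' (by
      intro a ha
      obtain ⟨c, rfl⟩ := Ideal.mem_span_singleton'.mp ha
      have : εA'' e'' = 1 := he''ε
      rw [map_mul, map_sub, map_one, this, sub_self, mul_zero])
  have hcompat : ε₀.comp g = ε₀'' := by
    apply Ideal.Quotient.ringHom_ext
    rw [RingHom.comp_assoc, hg]
    ext a
    simp only [RingHom.comp_apply, ε₀, ε₀'', Ideal.Quotient.lift_mk]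
    exact hεcomp a
  -- `g` is a local homomorphism
  have hsurj'' : Function.Surjective ((IsLocalRing.residue R).comp ε₀'') := by
    intro y
    obtain ⟨r, rfl⟩ := IsLocalRing.residue_surjective y
    refine ⟨Ideal.Quotient.mk _ (algebraMap R A'' r), ?_⟩
    simp only [RingHom.comp_apply, ε₀'', Ideal.Quotient.lift_mk]
    congr 1
    exact (Bialgebra.counitAlgHom R A'').commutes r
  have hker : RingHom.ker ((IsLocalRing.residue R).comp ε₀'') =
      IsLocalRing.maximalIdeal (A'' ⧸ Ideal.span ({1 - e''} : Set A'')) := by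
    haveI := RingHom.ker_isMaximal_of_surjective _ hsurj''
    exact IsLocalRing.eq_maximalIdeal inferInstance
  haveI hloc : IsLocalHom g := by
    constructor
    intro a ha
    by_contra hna
    have hmem : a ∈ IsLocalRing.maximalIdeal (A'' ⧸ Ideal.span ({1 - e''} : Set A'')) :=
      (IsLocalRing.mem_maximalIdeal a).mpr hna
    rw [← hker, RingHom.mem_ker, RingHom.comp_apply] at hmem
    have hunit : IsUnit (ε₀'' a) := by
      rw [← hcompat]
      exact ha.map ε₀
    have : IsUnit ((IsLocalRing.residue R) (ε₀'' a)) := hunit.map _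
    rw [hmem] at this
    exact not_isUnit_zero this
  -- flatness
  letI : Algebra (A'' ⧸ Ideal.span ({1 - e''} : Set A'')) (A ⧸ Ideal.span ({1 - e} : Set A)) :=
    g.toAlgebra
  haveI : IsScalarTower A'' (A'' ⧸ Ideal.span ({1 - e''} : Set A''))
      (A ⧸ Ideal.span ({1 - e} : Set A)) := by
    apply IsScalarTower.of_algebraMap_eq
    intro x
    exact (RingHom.congr_fun hg x).symm
  haveI := IsLocalization.Away.quotient_of_isIdempotentElem he
  haveI := IsLocalization.Away.quotient_of_isIdempotentElem he''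
  haveI : Module.Flat A (A ⧸ Ideal.span ({1 - e} : Set A)) :=
    IsLocalization.flat _ (Submonoid.powers e)
  haveI : Module.Flat A'' (A ⧸ Ideal.span ({1 - e} : Set A)) :=
    Module.Flat.trans A'' A _
  haveI : Module.Flat (A'' ⧸ Ideal.span ({1 - e''} : Set A'')) (A ⧸ Ideal.span ({1 - e} : Set A)) :=
    (Module.flat_iff_of_isLocalization (A'' ⧸ Ideal.span ({1 - e''} : Set A''))
      (Submonoid.powers e'') (A ⧸ Ideal.span ({1 - e} : Set A))).mpr inferInstance
  haveI : IsLocalHom (algebraMap (A'' ⧸ Ideal.span ({1 - e''} : Set A''))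
      (A ⧸ Ideal.span ({1 - e} : Set A))) := hloc
  exact Module.FaithfullyFlat.of_flat_of_isLocalHom

theorem main [Module.FaithfullyFlat A'' A]
    (hε : (Bialgebra.counitAlgHom R A).comp (IsScalarTower.toAlgHom R A'' A) = Bialgebra.counitAlgHom R A'')
    (e : A) (he : IsIdempotentElem e) (heε : Bialgebra.counitAlgHom R A e = 1)
    [IsLocalRing (A ⧸ Ideal.span ({1 - e} : Set A))]
    (e'' : A'') (he'' : IsIdempotentElem e'') (he''ε : Bialgebra.counitAlgHom R A'' e'' = 1)
    [IsLocalRing (A'' ⧸ Ideal.span ({1 - e''} : Set A''))]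
    (e' : A) (he' : IsIdempotentElem (Ideal.Quotient.mk ((RingHom.ker (Bialgebra.counitAlgHom R A'')).map (algebraMap A'' A)) e'))
    (he'ε : Bialgebra.counitAlgHom R A e' = 1)
    [IsLocalRing (A ⧸ (((RingHom.ker (Bialgebra.counitAlgHom R A'')).map (algebraMap A'' A)) ⊔ Ideal.span ({1 - e'} : Set A)))]
    (g : (A'' ⧸ Ideal.span ({1 - e''} : Set A'')) →+* (A ⧸ Ideal.span ({1 - e} : Set A)))
    (hg : g.comp (Ideal.Quotient.mk (Ideal.span ({1 - e''} : Set A''))) =
      (Ideal.Quotient.mk (Ideal.span ({1 - e} : Set A))).comp (algebraMap A'' A)) :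
    g.FaithfullyFlat ∧
      Ideal.Quotient.mk ((RingHom.ker (Bialgebra.counitAlgHom R A'')).map (algebraMap A'' A)) e = Ideal.Quotient.mk ((RingHom.ker (Bialgebra.counitAlgHom R A'')).map (algebraMap A'' A)) e' :=
  ⟨part1 R A A'' hε e he heε e'' he'' he''ε g hg, part2 R A A'' hε e he heε e' he' he'ε⟩

end main
end Groth.Agent.S16078

namespace Groth.Agent.S16078

/-- Let R be a henselian Noetherian local ring, A and A'' commutative Hopf algebras over R which are
finite and flat as R-modules, and A'' → A an R-algebra homomorphism compatible with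
comultiplications and counits making A faithfully flat over A'' (a faithfully flat homomorphism π :
G → G'' of finite flat R-groups); let J ⊆ A be the ideal generated by the image of the augmentation
ideal of A'' (G' = Spec A/J = ker π, so that 1 → G' → G → G'' → 1 is exact). Let e ∈ A and e'' ∈ A''
be idempotents with ε(e) = 1, ε(e'') = 1 and A/(1 − e), A''/(1 − e'') local rings (the unit
components G⁰ and G''⁰), and let e' ∈ A be an element whose image in A/J is an idempotent, with
ε(e') = 1 and A/(J + (1 − e')) local (so G'⁰ = Spec (A/J)/(1 − e') is the unit component of G').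
Suppose g : A''/(1 − e'') → A/(1 − e) is the ring homomorphism induced by A'' → A (the restriction
π⁰ : G⁰ → G''⁰ of π, which exists because G⁰ is connected). Then g is faithfully flat, and e ≡ e'
modulo J, i.e. J + (1 − e) = J + (1 − e') and the kernel of π⁰, which is cut out in G⁰ by J, is
exactly G'⁰: the sequence 1 → G'⁰ → G⁰ → G''⁰ → 1 is exact. (The published statement also asserts
exactness of the maximal étale quotient G ↦ G^ét, not stated here.) -/
theorem result (R : Type u) [CommRing R] [HenselianLocalRing R]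
    [IsNoetherianRing R] (A A'' : Type u) [CommRing A] [HopfAlgebra R A] [Module.Finite R A] [Module.Flat R A]
    [CommRing A''] [HopfAlgebra R A''] [Module.Finite R A''] [Module.Flat R A'']
    [Algebra A'' A] [IsScalarTower R A'' A] [Module.FaithfullyFlat A'' A]
    (hΔ : (Bialgebra.comulAlgHom R A).comp (IsScalarTower.toAlgHom R A'' A) =
      (Algebra.TensorProduct.map (IsScalarTower.toAlgHom R A'' A) (IsScalarTower.toAlgHom R A'' A)).comp
        (Bialgebra.comulAlgHom R A''))
    (hε : (Bialgebra.counitAlgHom R A).comp (IsScalarTower.toAlgHom R A'' A) = Bialgebra.counitAlgHom R A'')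
    (e : A) (he : IsIdempotentElem e) (heε : Bialgebra.counitAlgHom R A e = 1)
    [IsLocalRing (A ⧸ Ideal.span ({1 - e} : Set A))]
    (e'' : A'') (he'' : IsIdempotentElem e'') (he''ε : Bialgebra.counitAlgHom R A'' e'' = 1)
    [IsLocalRing (A'' ⧸ Ideal.span ({1 - e''} : Set A''))]
    (e' : A) (he' : IsIdempotentElem (Ideal.Quotient.mk ((RingHom.ker (Bialgebra.counitAlgHom R A'')).map (algebraMap A'' A)) e'))
    (he'ε : Bialgebra.counitAlgHom R A e' = 1)
    [IsLocalRing (A ⧸ (((RingHom.ker (Bialgebra.counitAlgHom R A'')).map (algebraMap A'' A)) ⊔ Ideal.span ({1 - e'} : Set A)))]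
    (g : (A'' ⧸ Ideal.span ({1 - e''} : Set A'')) →+* (A ⧸ Ideal.span ({1 - e} : Set A)))
    (hg : g.comp (Ideal.Quotient.mk (Ideal.span ({1 - e''} : Set A''))) =
      (Ideal.Quotient.mk (Ideal.span ({1 - e} : Set A))).comp (algebraMap A'' A)) :
    g.FaithfullyFlat ∧
      Ideal.Quotient.mk ((RingHom.ker (Bialgebra.counitAlgHom R A'')).map (algebraMap A'' A)) e = Ideal.Quotient.mk ((RingHom.ker (Bialgebra.counitAlgHom R A'')).map (algebraMap A'' A)) e' := by
  exact main R A A'' hε e he heε e'' he'' he''ε e' he' he'ε g hg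

end Groth.Agent.S16078
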