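import Groth.Statements.S1608
import Groth.Agent.Lib.Helper73.DimFormula.SpecStalk

set_option autoImplicit false
universe u
open CategoryTheory CategoryTheory.Limits AlgebraicGeometry
open Variety

namespace Groth.Agent.S1608

/-- Let f : X → Y be locally of finite type, and let y ∈ Y be a point whose local ring is Noetherian of
dimension at most one. Suppose f is quasi-finite at the generic point of each irreducible component
of X. Then f is quasi-finite at each point x of X with f(x) = y. -/
theorem result {X Y : Scheme.{u}} (f : X ⟶ Y) [LocallyOfFiniteType f]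
    (y : Y) [IsNoetherianRing (Y.presheaf.stalk y)] (hy : ringKrullDim (Y.presheaf.stalk y) ≤ 1)
    (hgen : ∀ Z ∈ irreducibleComponents (X : Type u), ∀ η : X, IsGenericPoint η Z → f.QuasiFiniteAt η)
    (x : X) (hx : f.base x = y) : f.QuasiFiniteAt x := by
  open Groth.Agent.Lib.Helper73 in
  let j : Spec (Y.presheaf.stalk y) ⟶ Y := Y.fromSpecStalk y
  have hsq : IsPullback (pullback.fst f j) (pullback.snd f j) f j := IsPullback.of_hasPullback f j
  have hlft : LocallyOfFiniteType (pullback.snd f j) :=
    locallyOfFiniteType_of_isPullback' f j (pullback.fst f j) (pullback.snd f j) hsq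
  have hflat : Flat (pullback.fst f j) := MorphismProperty.of_isPullback hsq.flip
    (flat_fromSpecStalk' y)
  have hjc : j (IsLocalRing.closedPoint (Y.presheaf.stalk y)) = y :=
    Scheme.fromSpecStalk_closedPoint
  obtain ⟨x', hx'1, hx'2⟩ := Scheme.Pullback.exists_preimage_pullback (f := f) (g := j) x
    (IsLocalRing.closedPoint (Y.presheaf.stalk y)) (by rw [hjc]; exact hx)
  have hmax : ∀ η' : ↥(pullback f j), (∀ t, t ⤳ η' → t = η') →
      resTrdegNat (pullback.snd f j) η' = 0 := by
    intro η' hη'
    have h1 := IsDimFun.maximal_map_of_generalizingMap (pullback.fst f j)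
      (Flat.generalizingMap (pullback.fst f j)) η' hη'
    have h2 := closure_singleton_mem_irreducibleComponents_of_maximal _ h1
    have h3 : f.QuasiFiniteAt (pullback.fst f j η') := hgen _ h2 _ rfl
    rw [quasiFiniteAt_iff_fibreDimAt_le_zero,
      ← fibreDimAt_eq_of_isPullback f j (pullback.fst f j) (pullback.snd f j) hsq η'] at h3
    have h4 := (resTrdegNat_le_fibreDimAt (pullback.snd f j) η').trans h3
    exact Nat.le_zero.mp (by exact_mod_cast h4)
  have hqf : (pullback.snd f j).QuasiFiniteAt x' :=
    quasiFiniteAt_of_stalk_dim_le_one (pullback.snd f j) x'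
      ((ringKrullDim_stalk_Spec_le _ _).trans hy) hmax
  rw [quasiFiniteAt_iff_fibreDimAt_le_zero,
    fibreDimAt_eq_of_isPullback f j (pullback.fst f j) (pullback.snd f j) hsq x', hx'1] at hqf
  rwa [quasiFiniteAt_iff_fibreDimAt_le_zero]

end Groth.Agent.S1608
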