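import Groth.Statements.S16082
import Mathlib
import Groth.Agent.Lib.Helper64.HomSh1

set_option autoImplicit false
universe u
open CategoryTheory CategoryTheory.Limits AlgebraicGeometry TopologicalSpace
open SDiv

namespace Groth.Agent.S16082


/-- Let X be an integral scheme and F, G quasi-coherent O_X-modules with F of finite presentation and G
torsion free (every stalk G_x is a torsion-free module over the domain O_{X,x}). Then every stalk of
the sheaf Hom 𝓗om_{O_X}(F, G) is torsion free as well. -/
theorem result (X : Scheme.{u}) [IsIntegral X] (F G : X.Modules) (hF : Coh.IsQCoh F)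
    (hFp : CohB1.IsFP F) (hG : Coh.IsQCoh G) (hGt : TorSh.IsTorsionFree G) :
    TorSh.IsTorsionFree (RefHull.homSh F G) := by
  intro x
  haveI := hGt x
  have hinj := Groth.Agent.Lib.Helper64.HomSh.evalStalk_injective (F := F) (G := G)
    (inferInstanceAs (SheafOfModules.IsFiniteType (R := X.ringCatSheaf) F)) x
  haveI : Module.IsTorsionFree (X.presheaf.stalk x) (RefHull.StalkHom F G x) := by
    refine ⟨fun r hr a b hab => ?_⟩
    apply LinearMap.ext
    intro v
    have h1 : r • a v = r • b v := by
      have := congrArg (fun f : RefHull.StalkHom F G x => f v) hab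
      simpa using this
    exact hr.isSMulRegular h1
  exact Function.Injective.moduleIsTorsionFree (RefHull.evalStalk F G x) hinj
    (fun r m => map_smul _ r m)

end Groth.Agent.S16082
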