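import Groth.Statements.S16085
import Mathlib
import Groth.Agent.Lib.Helper64.Ref1Grp4

set_option autoImplicit false
universe u
open CategoryTheory CategoryTheory.Limits AlgebraicGeometry TopologicalSpace
open SDiv

namespace Groth.Agent.S16085


/-- Let X be an integral locally Noetherian normal scheme. Sending (F, G) to the reflexive hull (F
⊗_{O_X} G)^** makes the isomorphism classes of rank one coherent reflexive O_X-modules into an
abelian group: on that set there are a commutative and associative composition law, a neutral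
element and inverses, such that the product of the classes of F and G is the class of the reflexive
hull of F ⊗_{O_X} G, the neutral element is the class of O_X, and the inverse of the class of F is
the class of its dual 𝓗om_{O_X}(F, O_X). -/
theorem result (X : Scheme.{u}) [IsIntegral X] [IsLocallyNoetherian X] (hX : Pi1.IsNormalScheme X) :
    ∃ (mul : {c : PicF.Cl X // ∃ F : X.Modules, PicF.cl F = c ∧ RefHull.IsRef1 F} →
          {c : PicF.Cl X // ∃ F : X.Modules, PicF.cl F = c ∧ RefHull.IsRef1 F} →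
            {c : PicF.Cl X // ∃ F : X.Modules, PicF.cl F = c ∧ RefHull.IsRef1 F})
      (one : {c : PicF.Cl X // ∃ F : X.Modules, PicF.cl F = c ∧ RefHull.IsRef1 F})
      (inv : {c : PicF.Cl X // ∃ F : X.Modules, PicF.cl F = c ∧ RefHull.IsRef1 F} →
          {c : PicF.Cl X // ∃ F : X.Modules, PicF.cl F = c ∧ RefHull.IsRef1 F}),
      (∀ a b, mul a b = mul b a) ∧ (∀ a b c, mul (mul a b) c = mul a (mul b c)) ∧ (∀ a, mul one a = a) ∧
        (∀ a, mul (inv a) a = one) ∧
        (∀ (F G : X.Modules) (hF : RefHull.IsRef1 F) (hG : RefHull.IsRef1 G),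
          (mul ⟨PicF.cl F, F, rfl, hF⟩ ⟨PicF.cl G, G, rfl, hG⟩).1 = PicF.cl (RefHull.ddual (CohB1.tensorMod F G))) ∧
        one.1 = PicF.cl (Coh.structureModule X) ∧
        (∀ (F : X.Modules) (hF : RefHull.IsRef1 F), (inv ⟨PicF.cl F, F, rfl, hF⟩).1 = PicF.cl (RefHull.dual F)) := by
    classical
    -- representatives of the classes and their divisors
    have hrepx : ∀ a : {c : PicF.Cl X // ∃ F : X.Modules, PicF.cl F = c ∧ RefHull.IsRef1 F},
        ∃ F : X.Modules, PicF.cl F = a.1 ∧ RefHull.IsRef1 F := fun a => a.2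
    choose rep hrep using hrepx
    have hdiv : ∀ a : {c : PicF.Cl X // ∃ F : X.Modules, PicF.cl F = c ∧ RefHull.IsRef1 F},
        ∃ D : X → ℤ, Groth.Agent.Lib.Helper64.Ref1Grp.HasDiv (rep a) D :=
      fun a => Groth.Agent.Lib.Helper64.Ref1Grp.exists_hasDiv (hrep a).2
    choose Dv hDv using hdiv
    -- classes with linearly equivalent divisors are equal
    have heq : ∀ a b : {c : PicF.Cl X // ∃ F : X.Modules, PicF.cl F = c ∧ RefHull.IsRef1 F},
        Groth.Agent.Lib.Helper64.Ref1Grp.LinEq (Dv a) (Dv b) → a = b := by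
      intro a b h
      apply Subtype.ext
      rw [← (hrep a).1, ← (hrep b).1, Groth.Agent.Lib.Helper64.Ref1Grp.cl_eq_iff]
      exact Groth.Agent.Lib.Helper64.Ref1Grp.nonempty_iso_of_linEq hX (hrep a).2 (hrep b).2
        (hDv a) (hDv b) h
    -- the divisor of a class computed on any module of the class
    have hcls : ∀ (a : {c : PicF.Cl X // ∃ F : X.Modules, PicF.cl F = c ∧ RefHull.IsRef1 F})
        (F : X.Modules) (_ : RefHull.IsRef1 F) (D : X → ℤ), a.1 = PicF.cl F →
        Groth.Agent.Lib.Helper64.Ref1Grp.HasDiv F D →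
        Groth.Agent.Lib.Helper64.Ref1Grp.LinEq (Dv a) D := by
      intro a F hF D ha hD
      have hiso : Nonempty (rep a ≅ F) :=
        Groth.Agent.Lib.Helper64.Ref1Grp.cl_eq_iff.1 ((hrep a).1.trans ha)
      exact Groth.Agent.Lib.Helper64.Ref1Grp.linEq_of_iso hX (hrep a).2 hF (hDv a) hD hiso.some
    let mul : {c : PicF.Cl X // ∃ F : X.Modules, PicF.cl F = c ∧ RefHull.IsRef1 F} →
        {c : PicF.Cl X // ∃ F : X.Modules, PicF.cl F = c ∧ RefHull.IsRef1 F} →
        {c : PicF.Cl X // ∃ F : X.Modules, PicF.cl F = c ∧ RefHull.IsRef1 F} := fun a b =>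
      ⟨PicF.cl (RefHull.ddual (CohB1.tensorMod (rep a) (rep b))), _, rfl,
        Groth.Agent.Lib.Helper64.Ref1Grp.isRef1_ddual_tensor (hrep a).2 (hrep b).2⟩
    let one : {c : PicF.Cl X // ∃ F : X.Modules, PicF.cl F = c ∧ RefHull.IsRef1 F} :=
      ⟨PicF.cl (Coh.structureModule X), _, rfl,
        Groth.Agent.Lib.Helper64.Ref1Grp.isRef1_structureModule⟩
    let inv : {c : PicF.Cl X // ∃ F : X.Modules, PicF.cl F = c ∧ RefHull.IsRef1 F} →
        {c : PicF.Cl X // ∃ F : X.Modules, PicF.cl F = c ∧ RefHull.IsRef1 F} := fun a =>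
      ⟨PicF.cl (RefHull.dual (rep a)), _, rfl,
        Groth.Agent.Lib.Helper64.Ref1Grp.isRef1_dual (hrep a).2⟩
    have hmul : ∀ a b, Groth.Agent.Lib.Helper64.Ref1Grp.LinEq (Dv (mul a b)) (Dv a + Dv b) :=
      fun a b => hcls (mul a b) _
        (Groth.Agent.Lib.Helper64.Ref1Grp.isRef1_ddual_tensor (hrep a).2 (hrep b).2) _ rfl
        (Groth.Agent.Lib.Helper64.Ref1Grp.hasDiv_ddual_tensor hX (hrep a).2 (hrep b).2
          (hDv a) (hDv b))
    have hone : Groth.Agent.Lib.Helper64.Ref1Grp.LinEq (Dv one) 0 :=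
      hcls one _ Groth.Agent.Lib.Helper64.Ref1Grp.isRef1_structureModule _ rfl
        Groth.Agent.Lib.Helper64.Ref1Grp.hasDiv_one
    have hinv : ∀ a, Groth.Agent.Lib.Helper64.Ref1Grp.LinEq (Dv (inv a)) (-Dv a) :=
      fun a => hcls (inv a) _ (Groth.Agent.Lib.Helper64.Ref1Grp.isRef1_dual (hrep a).2) _ rfl
        (Groth.Agent.Lib.Helper64.Ref1Grp.hasDiv_dual hX (hrep a).2 (hDv a))
    refine ⟨mul, one, inv, ?_, ?_, ?_, ?_, ?_, rfl, ?_⟩
    · -- commutativity
      intro a b
      apply heq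
      refine (hmul a b).trans (Groth.Agent.Lib.Helper64.Ref1Grp.LinEq.trans
        (Groth.Agent.Lib.Helper64.Ref1Grp.LinEq.of_eq fun x _ => ?_) (hmul b a).symm)
      rw [add_comm]
    · -- associativity
      intro a b c
      apply heq
      refine (hmul (mul a b) c).trans (((hmul a b).add
        (Groth.Agent.Lib.Helper64.Ref1Grp.LinEq.refl _)).trans ?_)
      refine Groth.Agent.Lib.Helper64.Ref1Grp.LinEq.trans
        (Groth.Agent.Lib.Helper64.Ref1Grp.LinEq.of_eq fun x _ => ?_)
        ((((Groth.Agent.Lib.Helper64.Ref1Grp.LinEq.refl (Dv a)).add (hmul b c)).symm).trans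
          (hmul a (mul b c)).symm)
      rw [add_assoc]
    · -- neutral element
      intro a
      apply heq
      refine (hmul one a).trans ((hone.add (Groth.Agent.Lib.Helper64.Ref1Grp.LinEq.refl _)).trans
        (Groth.Agent.Lib.Helper64.Ref1Grp.LinEq.of_eq fun x _ => ?_))
      rw [zero_add]
    · -- inverses
      intro a
      apply heq
      refine (hmul (inv a) a).trans (((hinv a).add
        (Groth.Agent.Lib.Helper64.Ref1Grp.LinEq.refl _)).trans
        (Groth.Agent.Lib.Helper64.Ref1Grp.LinEq.trans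
          (Groth.Agent.Lib.Helper64.Ref1Grp.LinEq.of_eq fun x _ => ?_) hone.symm))
      rw [neg_add_cancel]
    · -- the product of the classes of `F` and `G`
      intro F G hF hG
      obtain ⟨DF, hDF⟩ := Groth.Agent.Lib.Helper64.Ref1Grp.exists_hasDiv hF
      obtain ⟨DG, hDG⟩ := Groth.Agent.Lib.Helper64.Ref1Grp.exists_hasDiv hG
      change PicF.cl (RefHull.ddual (CohB1.tensorMod (rep ⟨PicF.cl F, F, rfl, hF⟩)
        (rep ⟨PicF.cl G, G, rfl, hG⟩))) = _
      rw [Groth.Agent.Lib.Helper64.Ref1Grp.cl_eq_iff]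
      exact Groth.Agent.Lib.Helper64.Ref1Grp.nonempty_iso_of_linEq hX
        (Groth.Agent.Lib.Helper64.Ref1Grp.isRef1_ddual_tensor (hrep _).2 (hrep _).2)
        (Groth.Agent.Lib.Helper64.Ref1Grp.isRef1_ddual_tensor hF hG)
        (Groth.Agent.Lib.Helper64.Ref1Grp.hasDiv_ddual_tensor hX (hrep _).2 (hrep _).2
          (hDv _) (hDv _))
        (Groth.Agent.Lib.Helper64.Ref1Grp.hasDiv_ddual_tensor hX hF hG hDF hDG)
        ((hcls ⟨PicF.cl F, F, rfl, hF⟩ F hF DF rfl hDF).add
          (hcls ⟨PicF.cl G, G, rfl, hG⟩ G hG DG rfl hDG))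
    · -- the inverse of the class of `F`
      intro F hF
      obtain ⟨DF, hDF⟩ := Groth.Agent.Lib.Helper64.Ref1Grp.exists_hasDiv hF
      change PicF.cl (RefHull.dual (rep ⟨PicF.cl F, F, rfl, hF⟩)) = _
      rw [Groth.Agent.Lib.Helper64.Ref1Grp.cl_eq_iff]
      exact Groth.Agent.Lib.Helper64.Ref1Grp.nonempty_iso_of_linEq hX
        (Groth.Agent.Lib.Helper64.Ref1Grp.isRef1_dual (hrep _).2)
        (Groth.Agent.Lib.Helper64.Ref1Grp.isRef1_dual hF)
        (Groth.Agent.Lib.Helper64.Ref1Grp.hasDiv_dual hX (hrep _).2 (hDv _))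
        (Groth.Agent.Lib.Helper64.Ref1Grp.hasDiv_dual hX hF hDF)
        (hcls ⟨PicF.cl F, F, rfl, hF⟩ F hF DF rfl hDF).neg

end Groth.Agent.S16085
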