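import Groth.Statements.S16087
import Mathlib
import Groth.Agent.Lib.Helper64.WeilSheaf8

set_option autoImplicit false
universe u
open CategoryTheory CategoryTheory.Limits AlgebraicGeometry TopologicalSpace
open SDiv

namespace Groth.Agent.S16087


/-- The class map takes values in Weil divisor classes and is surjective: suppose X is a normal scheme
that is integral and locally Noetherian, and denote its generic point by η. For a rank one coherent
reflexive O_X-module F and a nonzero rational section s ∈ F_η write ord_{x,F}(s) for the order of s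
with respect to a generator of the free rank one O_{X,x}-module F_x at a point x of codimension 1.
Then (1) the function sending a codimension-1 point x to ord_{x,F}(s) and every other point to 0 has
locally finite support, so it is a Weil divisor; and (2) every Weil divisor D on X (an
integer-valued function with locally finite support vanishing outside the codimension-1 points)
arises this way: D(x) = ord_{x,F}(s) at all codimension-1 points x for some rank one coherent
reflexive F and nonzero s ∈ F_η. -/
theorem result (X : Scheme.{u}) [IsIntegral X] [IsLocallyNoetherian X]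
    (hX : Pi1.IsNormalScheme X) :
    (∀ (F : X.Modules) (hF : RefHull.IsRef1 F) (s : Cyc.secFibre F (genericPoint ↥X)), s ≠ 0 →
        ∃ D : AlgebraicCycle X ℤ, (∀ x : ↥X, Order.coheight x ≠ 1 → D x = 0) ∧
          ∀ (x : ↥X), Order.coheight x = 1 →
            D x = Cyc.secOrdAt F (genericPoint ↥X) x ((genericPoint_spec ↥X).specializes (Set.mem_univ x)) s) ∧
      ∀ D : AlgebraicCycle X ℤ, (∀ x : ↥X, Order.coheight x ≠ 1 → D x = 0) →
        ∃ (F : X.Modules) (_ : RefHull.IsRef1 F) (s : Cyc.secFibre F (genericPoint ↥X)), s ≠ 0 ∧
          ∀ (x : ↥X), Order.coheight x = 1 →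
            D x = Cyc.secOrdAt F (genericPoint ↥X) x ((genericPoint_spec ↥X).specializes (Set.mem_univ x)) s := by
    classical
    refine ⟨fun F hF s hs => ?_, fun D _ => ?_⟩
    · obtain ⟨v, rfl⟩ := Submodule.Quotient.mk_surjective _ s
      have hv : v ≠ 0 := by
        rintro rfl
        exact hs (Submodule.Quotient.mk_zero _)
      let f : X → ℤ := fun x => if Order.coheight x = 1 then
        Cyc.secOrdAt F (genericPoint X) x (Groth.Agent.Lib.Helper64.RefExt.spη x)
          (Submodule.Quotient.mk v : Cyc.secFibre F (genericPoint X)) else 0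
      have hfin : ∀ z ∈ (Set.univ : Set X), ∃ t ∈ nhds z, Set.Finite (t ∩ f.support) := by
        intro z _
        obtain ⟨_, ⟨U, hU : IsAffineOpen U, rfl⟩, hzU, -⟩ :=
          (X.isBasis_affineOpens).exists_subset_of_mem_open (Set.mem_univ z) isOpen_univ
        refine ⟨U, U.isOpen.mem_nhds hzU, ?_⟩
        refine (Groth.Agent.Lib.Helper64.WeilSheaf.finite_secOrd_ne_zero hX hF.2.2 v hv hU).subset ?_
        rintro x ⟨hxU, hx⟩
        have hx' : f x ≠ 0 := hx
        by_cases h1 : Order.coheight x = 1
        · refine ⟨hxU, h1, ?_⟩
          have : f x = Cyc.secOrdAt F (genericPoint X) x (Groth.Agent.Lib.Helper64.RefExt.spη x)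
              (Submodule.Quotient.mk v : Cyc.secFibre F (genericPoint X)) := if_pos h1
          rw [← this]
          exact hx'
        · exact absurd (if_neg h1) hx'
      refine ⟨⟨f, fun _ _ => Set.mem_univ _, hfin⟩, fun x hx => ?_, fun x hx => ?_⟩
      · exact if_neg hx
      · exact if_pos hx
    · have hLF := Groth.Agent.Lib.Helper64.WeilSheaf.locFinSupp_of_cycle D
      obtain ⟨v, hv⟩ := Groth.Agent.Lib.Helper64.WeilSheaf.exists_stalkVal_generic (hX := hX) hLF 1
      have hv0 : v ≠ 0 := by
        rintro rfl
        rw [Groth.Agent.Lib.Helper64.WeilSheaf.stalkVal_zero] at hv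
        exact zero_ne_one hv
      refine ⟨Groth.Agent.Lib.Helper64.WeilSheaf.OD hX (fun x => D x),
        Groth.Agent.Lib.Helper64.WeilSheaf.isRef1 hLF, Submodule.Quotient.mk v, ?_, fun x hx => ?_⟩
      · intro h0
        exact hv0 ((Groth.Agent.Lib.Helper64.SecOrd.mk_eq_zero_iff _ v).1 h0)
      · exact (Groth.Agent.Lib.Helper64.WeilSheaf.secOrdAt_one hLF v hv x hx).symm

end Groth.Agent.S16087
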