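import Groth.Statements.S16088
import Mathlib
import Groth.Agent.Lib.Helper64.DualInv1
import Groth.Agent.Lib.Helper14.PicCalc
import Groth.Agent.Lib.Helper22.IdealModAff

set_option autoImplicit false
universe u
open CategoryTheory CategoryTheory.Limits AlgebraicGeometry TopologicalSpace
open SDiv

namespace Groth.Agent.S16088


/-- Let S be a scheme, D ⊆ S an effective Cartier divisor with ideal sheaf 𝓓 and i : D ⟶ S its closed
immersion. The normal sheaf of D in S, the O_D-dual of the conormal sheaf i^*𝓓, is isomorphic to the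
restriction i^*(O_S(D)) to D of O_S(D) = 𝓗om_{O_S}(𝓓, O_S), the dual of the invertible ideal 𝓓.
Existence of an isomorphism of O_D-modules only; the canonical identification is not named here. -/
theorem result (S : Scheme.{u}) (𝓓 : S.IdealSheafData)
    (hD : BlowUp.IsEffCartierIdeal 𝓓) :
    Nonempty (RefHull.dual (Omega.conormal 𝓓.subschemeι) ≅
      (Scheme.Modules.pullback 𝓓.subschemeι).obj (RefHull.dual (ClSub.idealMod 𝓓))) := by
    open Groth.Agent.Lib.Helper14.PicCalc Groth.Agent.Lib.Helper64.DualInv in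
    have hI : PicF.IsInvertible (ClSub.idealMod 𝓓) :=
      Groth.Agent.Lib.Helper22.IdealModAff.isInvertible_of_isEffCartierIdeal 𝓓 hD
    have hc : Omega.conormal 𝓓.subschemeι =
        (Scheme.Modules.pullback 𝓓.subschemeι).obj (ClSub.idealMod 𝓓) := by
      unfold Omega.conormal
      rw [Scheme.IdealSheafData.ker_subschemeι]
    rw [hc]
    have hpI : PicF.IsInvertible ((Scheme.Modules.pullback 𝓓.subschemeι).obj (ClSub.idealMod 𝓓)) :=
      Groth.Agent.Lib.Helper35.PbInv.isInvertible_pullback 𝓓.subschemeι hI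
    have hdI := Groth.Agent.Lib.Helper64.DualInv.isInvertible_dual hI
    have hdpI := Groth.Agent.Lib.Helper64.DualInv.isInvertible_dual hpI
    have h1 : Groth.Agent.Lib.Helper14.PicCalc.Pic.mk _ hdpI =
        (Groth.Agent.Lib.Helper14.PicCalc.Pic.mk _ hpI)⁻¹ := by
      apply eq_inv_of_mul_eq_one_right
      rw [Groth.Agent.Lib.Helper14.PicCalc.Pic.one_def,
        Groth.Agent.Lib.Helper14.PicCalc.Pic.mk_mul_eq_iff]
      exact Groth.Agent.Lib.Helper64.DualInv.nonempty_tensor_dual_iso hpI
    have h2 : Groth.Agent.Lib.Helper14.PicCalc.Pic.mk _ hdI =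
        (Groth.Agent.Lib.Helper14.PicCalc.Pic.mk _ hI)⁻¹ := by
      apply eq_inv_of_mul_eq_one_right
      rw [Groth.Agent.Lib.Helper14.PicCalc.Pic.one_def,
        Groth.Agent.Lib.Helper14.PicCalc.Pic.mk_mul_eq_iff]
      exact Groth.Agent.Lib.Helper64.DualInv.nonempty_tensor_dual_iso hI
    have h3 := congrArg (Groth.Agent.Lib.Helper14.PicCalc.pull 𝓓.subschemeι) h2
    rw [map_inv, Groth.Agent.Lib.Helper14.PicCalc.pull_mk,
      Groth.Agent.Lib.Helper14.PicCalc.pull_mk] at h3
    exact (Groth.Agent.Lib.Helper14.PicCalc.Pic.mk_eq_mk _ _).1 (h1.trans h3.symm)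

end Groth.Agent.S16088
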