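import Groth.Statements.S1609
import Mathlib

set_option autoImplicit false
universe u
open CategoryTheory CategoryTheory.Limits AlgebraicGeometry
open Variety

namespace Groth.Agent.S1609

/-- Geometric irreducibility of a k-scheme can be checked after an arbitrary extension of the base
field. -/
theorem result (k : Type u) [Field k] (X : Scheme.{u}) [X.Over (Spec (CommRingCat.of k))] (k' : Type u) [Field k'] [Algebra k k']
    [GeometricallyIrreducible (Curv2.bcSnd k X k')] : GeometricallyIrreducible (X ↘ (Spec (CommRingCat.of k))) := by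
  have hyp : geometrically (IrreducibleSpace ·) (Curv2.bcSnd k X k') :=
    GeometricallyIrreducible.geometrically_irreducibleSpace
  refine ⟨geometrically_iff_of_commRing_of_isClosedUnderIsomorphisms.mpr fun K _ _ => ?_⟩
  -- a common field extension `Ω` of `K` and `k'`
  haveI : Nontrivial (TensorProduct k K k') := inferInstance
  obtain ⟨m, hm⟩ := Ideal.exists_maximal (TensorProduct k K k')
  letI : Field (TensorProduct k K k' ⧸ m) := Ideal.Quotient.field m
  let φK : K →+* (TensorProduct k K k' ⧸ m) :=
    (Ideal.Quotient.mk m).comp (Algebra.TensorProduct.includeLeft (R := k) (S := k) (A := K) (B := k')).toRingHom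
  let φk' : k' →+* (TensorProduct k K k' ⧸ m) :=
    (Ideal.Quotient.mk m).comp (Algebra.TensorProduct.includeRight (R := k) (A := K) (B := k')).toRingHom
  have hcomm : φK.comp (algebraMap k K) = φk'.comp (algebraMap k k') := by
    ext c
    simp [φK, φk', Algebra.TensorProduct.algebraMap_apply]
  set f := X ↘ (Spec (CommRingCat.of k)) with hf
  let a : Spec (CommRingCat.of K) ⟶ Spec (CommRingCat.of k) :=
    Spec.map (CommRingCat.ofHom (algebraMap k K))
  let a' : Spec (CommRingCat.of k') ⟶ Spec (CommRingCat.of k) :=
    Spec.map (CommRingCat.ofHom (algebraMap k k'))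
  let b : Spec (CommRingCat.of (TensorProduct k K k' ⧸ m)) ⟶ Spec (CommRingCat.of K) :=
    Spec.map (CommRingCat.ofHom φK)
  let b' : Spec (CommRingCat.of (TensorProduct k K k' ⧸ m)) ⟶ Spec (CommRingCat.of k') :=
    Spec.map (CommRingCat.ofHom φk')
  have hba : b ≫ a = b' ≫ a' := by
    simp only [a, a', b, b', ← Spec.map_comp, ← CommRingCat.ofHom_comp, hcomm]
  have sq1 : IsPullback (pullback.fst (pullback.snd f a) b) (pullback.snd (pullback.snd f a) b)
      (pullback.snd f a) b := IsPullback.of_hasPullback _ _
  have sq2 : IsPullback (pullback.fst f a) (pullback.snd f a) f a := IsPullback.of_hasPullback _ _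
  have big := sq1.paste_horiz sq2
  let ℓ : pullback (pullback.snd f a) b ⟶ Curv2.bc k X k' :=
    pullback.lift (pullback.fst _ _ ≫ pullback.fst f a) (pullback.snd _ _ ≫ b') (by
      rw [Category.assoc, sq2.w, ← Category.assoc, sq1.w, Category.assoc, Category.assoc, hba])
  have hℓ1 : ℓ ≫ Curv2.bcFst k X k' = pullback.fst _ _ ≫ pullback.fst f a :=
    pullback.lift_fst _ _ _
  have hℓ2 : ℓ ≫ Curv2.bcSnd k X k' = pullback.snd _ _ ≫ b' := pullback.lift_snd _ _ _
  have sq3 : IsPullback ℓ (pullback.snd (pullback.snd f a) b) (Curv2.bcSnd k X k') b' := by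
    refine IsPullback.of_right (h₁₂ := Curv2.bcFst k X k') (v₁₃ := f) (h₂₂ := a') ?_ hℓ2
      (IsPullback.of_hasPullback f a')
    rw [hℓ1, ← hba]
    exact big
  haveI : IrreducibleSpace ↥(pullback (pullback.snd f a) b) := hyp b' ℓ _ sq3
  haveI : Surjective b := by
    constructor
    intro x
    haveI : Subsingleton ↥(Spec (CommRingCat.of K)) :=
      inferInstanceAs (Subsingleton (PrimeSpectrum K))
    haveI : Nonempty ↥(Spec (CommRingCat.of (TensorProduct k K k' ⧸ m))) :=
      inferInstanceAs (Nonempty (PrimeSpectrum (TensorProduct k K k' ⧸ m)))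
    obtain ⟨z⟩ := ‹Nonempty ↥(Spec (CommRingCat.of (TensorProduct k K k' ⧸ m)))›
    exact ⟨z, Subsingleton.elim _ _⟩
  haveI : Surjective (pullback.fst (pullback.snd f a) b) := inferInstance
  exact (pullback.fst (pullback.snd f a) b).surjective.irreducibleSpace
    (pullback.fst (pullback.snd f a) b).continuous

end Groth.Agent.S1609
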