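import Groth.Statements.S16092
import Mathlib
import Groth.Agent.Lib.Helper64.SecOrd3

set_option autoImplicit false
universe u
open CategoryTheory CategoryTheory.Limits AlgebraicGeometry TopologicalSpace
open SDiv

namespace Groth.Agent.S16092

open Groth.Agent.Lib.Lead.QCohAff Groth.Agent.Lib.Helper64.RefExt Groth.Agent.Lib.Helper64.RefS2
  Groth.Agent.Lib.Helper35.Gen Groth.Agent.Lib.Helper64.SecOrd in
/-- local generators of two invertible modules on a common neighbourhood -/
theorem exists_common_gens {X : Scheme.{u}} (L N : X.Modules)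
    (hL : PicF.IsInvertible L) (hN : PicF.IsInvertible N) (x : X) :
    ∃ (V : X.Opens) (_ : x ∈ V) (g₁ : Γ(L, V)) (g₂ : Γ(N, V)),
      Groth.Agent.Lib.Lead.Inv.IsGen L V g₁ ∧ Groth.Agent.Lib.Lead.Inv.IsGen N V g₂ := by
  obtain ⟨U₁, hx₁, e₁, he₁⟩ := (Groth.Agent.Lib.Lead.Inv.isInvertible_iff_exists_isGen.1 hL) x
  obtain ⟨U₂, hx₂, e₂, he₂⟩ := (Groth.Agent.Lib.Lead.Inv.isInvertible_iff_exists_isGen.1 hN) x
  exact ⟨U₁ ⊓ U₂, ⟨hx₁, hx₂⟩, _, _, he₁.res inf_le_left, he₂.res inf_le_right⟩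


/-- Let X be an integral scheme that is locally Noetherian, with generic point η, let L and N be
invertible O_X-modules and s ∈ L_η, t ∈ N_η nonzero rational sections, with orders ord_{x,L}(s),
ord_{x,N}(t) along the prime divisors, i.e. at the points x with dim O_{X,x} = 1, taken with respect
to generators of the stalks. Then L ⊗_{O_X} N has a nonzero rational section w with ord_{x,L ⊗ N}(w)
= ord_{x,L}(s) + ord_{x,N}(t) at every such x; hence the Weil divisor class of L ⊗ N is the sum of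
the classes of L and N. The published statement names w as the product s·t; here only the existence
of such a w is asserted. -/
theorem result (X : Scheme.{u}) [IsIntegral X] [IsLocallyNoetherian X] (L N : X.Modules)
    (hL : PicF.IsInvertible L) (hN : PicF.IsInvertible N) (s : Cyc.secFibre L (genericPoint ↥X)) (hs : s ≠ 0)
    (t : Cyc.secFibre N (genericPoint ↥X)) (ht : t ≠ 0) :
    ∃ w : Cyc.secFibre (CohB1.tensorMod L N) (genericPoint ↥X), w ≠ 0 ∧
      ∀ (x : ↥X), ringKrullDim ↑(X.presheaf.stalk x) = 1 →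
        Cyc.secOrdAt (CohB1.tensorMod L N) (genericPoint ↥X) x ((genericPoint_spec ↥X).specializes (Set.mem_univ x)) w =
          Cyc.secOrdAt L (genericPoint ↥X) x ((genericPoint_spec ↥X).specializes (Set.mem_univ x)) s +
            Cyc.secOrdAt N (genericPoint ↥X) x ((genericPoint_spec ↥X).specializes (Set.mem_univ x)) t := by
    classical
    obtain ⟨U₀, hηU₀, e₁, e₂, he₁, he₂⟩ := exists_common_gens L N hL hN (genericPoint X)
    obtain ⟨v, rfl⟩ := Submodule.Quotient.mk_surjective _ s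
    obtain ⟨v', rfl⟩ := Submodule.Quotient.mk_surjective _ t
    obtain ⟨φ, hφ⟩ := Groth.Agent.Lib.Helper64.SecOrd.exists_coeff L he₁ hηU₀ v
    obtain ⟨ψ, hψ⟩ := Groth.Agent.Lib.Helper64.SecOrd.exists_coeff N he₂ hηU₀ v'
    have hφ0 : φ ≠ 0 := by
      rintro rfl
      apply hs
      rw [hφ, zero_smul]
      rfl
    have hψ0 : ψ ≠ 0 := by
      rintro rfl
      apply ht
      rw [hψ, zero_smul]
      rfl
    have he₁₂ : Groth.Agent.Lib.Lead.Inv.IsGen (CohB1.tensorMod L N) U₀
        (Groth.Agent.Lib.Helper35.Gen.tm L N e₁ e₂) :=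
      Groth.Agent.Lib.Helper35.Gen.IsGen.tm he₁ he₂
    refine ⟨Submodule.Quotient.mk ((φ * ψ) • (CohB1.tensorMod L N).presheaf.germ U₀ (genericPoint X)
      hηU₀ (Groth.Agent.Lib.Helper35.Gen.tm L N e₁ e₂)), ?_, ?_⟩
    · rw [Ne, Groth.Agent.Lib.Helper64.SecOrd.mk_eq_zero_iff]
      intro h0
      have hu : IsUnit (φ * ψ) := (isUnit_iff_ne_zero (G₀ := X.functionField)).2 (mul_ne_zero hφ0 hψ0)
      exact Groth.Agent.Lib.Helper64.SecOrd.germ_ne_zero_of_isGen _ he₁₂ _ hηU₀
        ((hu.smul_eq_zero).1 h0)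
    · intro x hx
      have hx1 := (Groth.Agent.Lib.Helper64.SecOrd.coheight_eq_one_iff x).2 hx
      obtain ⟨V, hxV, g₁, g₂, hg₁, hg₂⟩ := exists_common_gens L N hL hN x
      have hηV : genericPoint X ∈ V := Groth.Agent.Lib.Helper64.RefExt.genericPoint_mem hxV
      have hg₁₂ : Groth.Agent.Lib.Lead.Inv.IsGen (CohB1.tensorMod L N) V
          (Groth.Agent.Lib.Helper35.Gen.tm L N g₁ g₂) :=
        Groth.Agent.Lib.Helper35.Gen.IsGen.tm hg₁ hg₂
      obtain ⟨α₁, hα₁⟩ := Groth.Agent.Lib.Helper64.SecOrd.exists_coeff L hg₁ hηV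
        (L.presheaf.germ U₀ (genericPoint X) hηU₀ e₁)
      obtain ⟨α₂, hα₂⟩ := Groth.Agent.Lib.Helper64.SecOrd.exists_coeff N hg₂ hηV
        (N.presheaf.germ U₀ (genericPoint X) hηU₀ e₂)
      have hα₁0 : α₁ ≠ 0 := by
        rintro rfl
        rw [zero_smul] at hα₁
        exact Groth.Agent.Lib.Helper64.SecOrd.germ_ne_zero_of_isGen _ he₁ _ hηU₀ hα₁
      have hα₂0 : α₂ ≠ 0 := by
        rintro rfl
        rw [zero_smul] at hα₂
        exact Groth.Agent.Lib.Helper64.SecOrd.germ_ne_zero_of_isGen _ he₂ _ hηU₀ hα₂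
      have h12 := Groth.Agent.Lib.Helper64.SecOrd.germ_tm_eq L N (genericPoint X) hηU₀ hηV
        e₁ e₂ g₁ g₂ α₁ α₂ hα₁ hα₂
      have k1 := Groth.Agent.Lib.Helper64.SecOrd.secOrdAt_of_isGen L hg₁ x hxV hx1
        ((genericPoint_spec ↥X).specializes (Set.mem_univ x)) (φ * α₁)
      have k2 := Groth.Agent.Lib.Helper64.SecOrd.secOrdAt_of_isGen N hg₂ x hxV hx1
        ((genericPoint_spec ↥X).specializes (Set.mem_univ x)) (ψ * α₂)
      have k3 := Groth.Agent.Lib.Helper64.SecOrd.secOrdAt_of_isGen (CohB1.tensorMod L N) hg₁₂ x hxV hx1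
        ((genericPoint_spec ↥X).specializes (Set.mem_univ x)) ((φ * ψ) * (α₁ * α₂))
      have e1 : (Submodule.Quotient.mk v : Cyc.secFibre L (genericPoint ↥X)) =
          (φ * α₁) • (Submodule.Quotient.mk (L.presheaf.germ V (genericPoint X) hηV g₁) :
            Cyc.secFibre L (genericPoint X)) := by
        rw [hφ, hα₁, ← mul_smul]
        rfl
      have e2 : (Submodule.Quotient.mk v' : Cyc.secFibre N (genericPoint ↥X)) =
          (ψ * α₂) • (Submodule.Quotient.mk (N.presheaf.germ V (genericPoint X) hηV g₂) :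
            Cyc.secFibre N (genericPoint X)) := by
        rw [hψ, hα₂, ← mul_smul]
        rfl
      have e3 : (Submodule.Quotient.mk ((φ * ψ) • (CohB1.tensorMod L N).presheaf.germ U₀
          (genericPoint X) hηU₀ (Groth.Agent.Lib.Helper35.Gen.tm L N e₁ e₂)) :
            Cyc.secFibre (CohB1.tensorMod L N) (genericPoint ↥X)) =
          ((φ * ψ) * (α₁ * α₂)) • (Submodule.Quotient.mk ((CohB1.tensorMod L N).presheaf.germ V
            (genericPoint X) hηV (Groth.Agent.Lib.Helper35.Gen.tm L N g₁ g₂)) :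
            Cyc.secFibre (CohB1.tensorMod L N) (genericPoint X)) := by
        rw [h12, ← mul_smul]
        rfl
      rw [e1, e2, e3, k1, k2, k3]
      rw [show (φ * ψ) * (α₁ * α₂) = (φ * α₁) * (ψ * α₂) by ring]
      exact Scheme.ord_mul (mul_ne_zero hφ0 hα₁0) (mul_ne_zero hψ0 hα₂0)

end Groth.Agent.S16092
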