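import Groth.Statements.S16104
import Mathlib

set_option autoImplicit false
universe u v
open LunaSt

namespace Groth.Agent.S16104

open IsLocalRing

theorem approx {A : Type u} {B : Type v} [CommRing A] [CommRing B] [IsLocalRing A] [IsLocalRing B]
    (φ : A →+* B) [IsLocalHom φ]
    (h1 : Function.Surjective ((Ideal.Quotient.mk (maximalIdeal B ^ 2)).comp φ)) (m : ℕ) :
    ∀ b : B, ∃ a : A, b - φ a ∈ maximalIdeal B ^ (m + 2) := by
  have h2 : ∀ b : B, ∃ a : A, b - φ a ∈ maximalIdeal B ^ 2 := by
    intro b
    obtain ⟨a, ha⟩ := h1 (Ideal.Quotient.mk _ b)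
    refine ⟨a, ?_⟩
    rw [RingHom.comp_apply, Ideal.Quotient.eq] at ha
    rw [← neg_sub]
    exact neg_mem ha
  induction m with
  | zero => exact h2
  | succ m ih =>
    have hprod : ∀ c ∈ maximalIdeal B * maximalIdeal B ^ (m + 1),
        ∃ a : A, c - φ a ∈ maximalIdeal B ^ (m + 3) := by
      intro c hc
      refine Submodule.mul_induction_on hc ?_ ?_
      · intro x hx y hy
        obtain ⟨a₁, ha₁⟩ := h2 x
        obtain ⟨a₂, ha₂⟩ := ih y
        have hφa₁ : φ a₁ ∈ maximalIdeal B := by
          have : φ a₁ = x - (x - φ a₁) := by ring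
          rw [this]
          exact sub_mem hx (Ideal.pow_le_self (by norm_num) ha₁)
        refine ⟨a₁ * a₂, ?_⟩
        have : x * y - φ (a₁ * a₂) = φ a₁ * (y - φ a₂) + (x - φ a₁) * y := by
          rw [map_mul]; ring
        rw [this]
        apply add_mem
        · have : maximalIdeal B ^ (m + 3) = maximalIdeal B * maximalIdeal B ^ (m + 2) := by
            rw [← pow_succ']
          rw [this]
          exact Ideal.mul_mem_mul hφa₁ ha₂
        · have : maximalIdeal B ^ (m + 3) = maximalIdeal B ^ 2 * maximalIdeal B ^ (m + 1) := by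
            rw [← pow_add]; congr 1; omega
          rw [this]
          exact Ideal.mul_mem_mul ha₁ hy
      · rintro x y ⟨a₁, ha₁⟩ ⟨a₂, ha₂⟩
        refine ⟨a₁ + a₂, ?_⟩
        have : x + y - φ (a₁ + a₂) = (x - φ a₁) + (y - φ a₂) := by rw [map_add]; ring
        rw [this]
        exact add_mem ha₁ ha₂
    intro b
    obtain ⟨a₀, ha₀⟩ := ih b
    rw [pow_succ'] at ha₀
    obtain ⟨a', ha'⟩ := hprod _ ha₀
    refine ⟨a₀ + a', ?_⟩
    have : b - φ (a₀ + a') = b - φ a₀ - φ a' := by rw [map_add]; ring
    rw [this]
    exact ha'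

end Groth.Agent.S16104

namespace Groth.Agent.S16104

/-- Case of local rings. Let φ : A → B be a local homomorphism of Noetherian local rings whose composite
A → B/m_B² is surjective (the first infinitesimal neighbourhoods give a closed immersion), and
assume that A/m_A^(n+1) and B/m_B^(n+1) have the same length for every n (the associated graded
modules of the two maximal ideals have pieces of the same dimension over the common residue field).
Then for every n the composite A → B/m_B^(n+1) is surjective with kernel m_A^(n+1): φ identifies all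
infinitesimal neighbourhoods. (The published statement is for a pointed morphism of Noetherian local
algebraic stacks; its proof reduces to this case of local rings.) -/
theorem result
    (A : Type u) (B : Type v) [CommRing A] [CommRing B] [IsLocalRing A] [IsLocalRing B]
    [IsNoetherianRing A] [IsNoetherianRing B] (φ : A →+* B) [IsLocalHom φ]
    (h1 : Function.Surjective ((Ideal.Quotient.mk (IsLocalRing.maximalIdeal B ^ 2)).comp φ))
    (hlen : ∀ n : ℕ, Module.length A (A ⧸ IsLocalRing.maximalIdeal A ^ (n + 1)) =
      Module.length B (B ⧸ IsLocalRing.maximalIdeal B ^ (n + 1))) (n : ℕ) :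
    Function.Surjective ((Ideal.Quotient.mk (IsLocalRing.maximalIdeal B ^ (n + 1))).comp φ) ∧
      RingHom.ker ((Ideal.Quotient.mk (IsLocalRing.maximalIdeal B ^ (n + 1))).comp φ) =
        IsLocalRing.maximalIdeal A ^ (n + 1) := by
  classical
  -- surjectivity
  have hsurj : ∀ k : ℕ, Function.Surjective
      ((Ideal.Quotient.mk (IsLocalRing.maximalIdeal B ^ k)).comp φ) := by
    intro k x
    obtain ⟨b, rfl⟩ := Ideal.Quotient.mk_surjective x
    obtain ⟨a, ha⟩ := approx φ h1 k b
    refine ⟨a, ?_⟩
    rw [RingHom.comp_apply, Ideal.Quotient.eq, ← neg_sub]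
    exact neg_mem (Ideal.pow_le_pow_right (by omega) ha)
  refine ⟨hsurj (n + 1), ?_⟩
  set I := IsLocalRing.maximalIdeal A ^ (n + 1) with hI
  set K := IsLocalRing.maximalIdeal B ^ (n + 1) with hK
  set ψ := (Ideal.Quotient.mk K).comp φ with hψ
  have hIle : I ≤ RingHom.ker ψ := by
    intro a ha
    rw [RingHom.mem_ker, hψ, RingHom.comp_apply, Ideal.Quotient.eq_zero_iff_mem]
    have : I.map φ ≤ K := by
      rw [hI, Ideal.map_pow, hK]
      apply Ideal.pow_right_mono
      rw [Ideal.map_le_iff_le_comap]
      intro x hx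
      exact (IsLocalRing.mem_maximalIdeal _).mpr
        (fun h => (IsLocalRing.mem_maximalIdeal _).mp hx (isUnit_of_map_unit φ x h))
    exact this (Ideal.mem_map_of_mem φ ha)
  apply le_antisymm _ hIle
  -- the length argument
  letI : Algebra A (B ⧸ K) := ψ.toAlgebra
  have hψs : Function.Surjective (algebraMap A (B ⧸ K)) := hsurj (n + 1)
  have hlen1 : Module.length A (B ⧸ K) = Module.length (B ⧸ K) (B ⧸ K) :=
    Module.length_eq_of_surjective hψs
  have hlen2 : Module.length B (B ⧸ K) = Module.length (B ⧸ K) (B ⧸ K) :=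
    Module.length_eq_of_surjective Ideal.Quotient.mk_surjective
  have hlen3 : Module.length A (A ⧸ I) = Module.length A (B ⧸ K) := by
    rw [hlen1, ← hlen2]; exact hlen n
  -- finiteness
  have hfin : Module.length A (A ⧸ I) ≠ ⊤ := by
    haveI : Nontrivial (A ⧸ I) := Ideal.Quotient.nontrivial_iff.mpr (by
      rw [hI]
      intro h
      rcases Ideal.pow_eq_top_iff.mp h with h | h
      · exact (IsLocalRing.maximalIdeal.isMaximal A).ne_top h
      · omega)
    haveI : IsLocalRing (A ⧸ I) :=
      IsLocalRing.of_surjective' (Ideal.Quotient.mk I) Ideal.Quotient.mk_surjective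
    haveI : IsArtinianRing (A ⧸ I) := by
      rw [isArtinianRing_iff_isNilpotent_maximalIdeal]
      refine ⟨n + 1, ?_⟩
      rw [← IsLocalRing.map_maximalIdeal_of_surjective (Ideal.Quotient.mk I)
        Ideal.Quotient.mk_surjective, ← Ideal.map_pow, ← hI, Ideal.map_quotient_self]
      rfl
    haveI : IsArtinian A (A ⧸ I) := isArtinian_of_surjective_algebraMap (R := A ⧸ I)
      Ideal.Quotient.mk_surjective
    exact Module.length_ne_top
  -- the A-linear map A/I → B/K
  let g : (A ⧸ I) →ₗ[A] (B ⧸ K) :=
    Submodule.liftQ I (Algebra.linearMap A (B ⧸ K)) (by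
      intro a ha
      exact hIle ha)
  have hg : Function.Surjective g := by
    intro x
    obtain ⟨a, rfl⟩ := hψs x
    exact ⟨Ideal.Quotient.mk I a, rfl⟩
  have hadd := Module.length_eq_add_of_exact (LinearMap.ker g).subtype g
    (Submodule.subtype_injective _) hg (LinearMap.exact_subtype_ker_map g)
  rw [← hlen3] at hadd
  have hker0 : Module.length A (LinearMap.ker g) = 0 := by
    have h' : Module.length A (LinearMap.ker g) + Module.length A (A ⧸ I) =
        0 + Module.length A (A ⧸ I) := by rw [zero_add]; exact hadd.symm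
    exact (ENat.add_left_injective_of_ne_top hfin) h'
  rw [Module.length_eq_zero_iff] at hker0
  intro a ha
  have : Ideal.Quotient.mk I a ∈ LinearMap.ker g := by
    rw [LinearMap.mem_ker]
    exact ha
  have h0 : (⟨Ideal.Quotient.mk I a, this⟩ : LinearMap.ker g) = 0 := Subsingleton.elim _ _
  have h1 : Ideal.Quotient.mk I a = 0 := congrArg Subtype.val h0
  exact Ideal.Quotient.eq_zero_iff_mem.mp h1

end Groth.Agent.S16104
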