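import Groth.Statements.S16113
import Groth.Agent.Lib.Helper32.Units.Scheme

set_option autoImplicit false
universe u
open CategoryTheory MonoidalCategory CartesianMonoidalCategory MonObj GrpObj AlgebraicGeometry CategoryTheory.Limits
open AlgGrp

namespace Groth.Agent.S16113

/-- Over an algebraically closed field k, let X be an irreducible variety (an integral separated
k-scheme of finite type) and R = Γ(X, O_X). Then the quotient of the unit group R^× by the subgroup
k^× of nonzero constants is a free abelian group of finite rank: for some n there is a surjective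
group homomorphism from R^× onto ℤⁿ (written multiplicatively) whose kernel is exactly the image of
k^× under the structure map k → R. -/
theorem result (k : Type u) [Field k] [IsAlgClosed k]
    (X : Over (Spec (CommRingCat.of k))) [IsIntegral X.left] [IsSeparated X.hom] [LocallyOfFiniteType X.hom] [QuasiCompact X.hom] :
    ∃ (n : ℕ) (v : (Γ(X.left, ⊤))ˣ →* Multiplicative (Fin n → ℤ)), Function.Surjective v ∧
      v.ker = (Units.map (((Scheme.ΓSpecIso (CommRingCat.of k)).inv ≫ X.hom.appTop).hom : k →* Γ(X.left, ⊤))).range := by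
  classical
  obtain ⟨x⟩ : Nonempty X.left := inferInstance
  let U : X.left.Opens := (X.left.affineCover.f (X.left.affineCover.idx x)).opensRange
  have hU : IsAffineOpen U := isAffineOpen_opensRange _
  have hxU : x ∈ U := X.left.affineCover.covers x
  haveI : Nonempty U := ⟨⟨x, hxU⟩⟩
  haveI : IsDomain Γ(X.left, U) := inferInstance
  obtain ⟨J, hJ, ψ, hψ⟩ := Groth.Agent.Lib.Helper32.Units.exists_hom_of_affineOpen k X.left X.hom U hU
  let res : Γ(X.left, ⊤) →+* Γ(X.left, U) :=
    (X.left.presheaf.map (homOfLE (le_top : U ≤ ⊤)).op).hom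
  have hres : Function.Injective res := map_injective_of_isIntegral X.left (homOfLE (le_top : U ≤ ⊤))
  let w : (Γ(X.left, ⊤))ˣ →* (J → Multiplicative ℤ) := ψ.comp (Units.map (res : Γ(X.left, ⊤) →* Γ(X.left, U)))
  obtain ⟨n, v, hsurj, hker⟩ := Groth.Agent.Lib.Helper32.Units.exists_surjective_of_hom w
  refine ⟨n, v, hsurj, ?_⟩
  rw [hker]
  have hstruct : ∀ c : k, Groth.Agent.Lib.Helper32.Units.structHom k X.left X.hom U c =
      res (((Scheme.ΓSpecIso (CommRingCat.of k)).inv ≫ X.hom.appTop).hom c) := fun c => rfl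
  ext u
  rw [MonoidHom.mem_ker, MonoidHom.mem_range]
  show ψ (Units.map (res : Γ(X.left, ⊤) →* Γ(X.left, U)) u) = 1 ↔ _
  rw [hψ]
  constructor
  · intro h
    obtain ⟨c, hc⟩ := Groth.Agent.Lib.Helper32.Units.exists_eq_of_isIntegralElem _ h
    rw [hstruct] at hc
    have hcu : ((Scheme.ΓSpecIso (CommRingCat.of k)).inv ≫ X.hom.appTop).hom c = (u : Γ(X.left, ⊤)) :=
      hres hc
    have hc0 : c ≠ 0 := by
      intro h0
      rw [h0, map_zero] at hcu
      exact u.ne_zero hcu.symm
    refine ⟨Units.mk0 c hc0, ?_⟩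
    apply Units.ext
    exact hcu
  · rintro ⟨c, rfl⟩
    have : ((Units.map (res : Γ(X.left, ⊤) →* Γ(X.left, U))
        (Units.map (((Scheme.ΓSpecIso (CommRingCat.of k)).inv ≫ X.hom.appTop).hom : k →* Γ(X.left, ⊤)) c) :
          (Γ(X.left, U))ˣ) : Γ(X.left, U)) =
        Groth.Agent.Lib.Helper32.Units.structHom k X.left X.hom U (c : k) := rfl
    rw [this]
    exact Groth.Agent.Lib.Helper32.Units.isIntegralElem_map _ _

end Groth.Agent.S16113
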