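import Groth.Statements.S16127
import Groth.Statements.S16127
import Groth.Agent.Lib.Helper2.TorsorInv

set_option autoImplicit false
universe u
open CategoryTheory MonoidalCategory CartesianMonoidalCategory MonObj GrpObj AlgebraicGeometry CategoryTheory.Limits
open AlgGrp

namespace Groth.Agent.S16127

section Aux
open CategoryTheory MonoidalCategory CartesianMonoidalCategory MonObj GrpObj AlgebraicGeometry CategoryTheory.Limits
open AlgGrp


open Groth.Agent.Lib.Helper2.Torsor (A1 fnEquiv fnEquiv_comp)

theorem core {X Y P : Scheme.{u}} (f : X ⟶ Y) [Flat f] [Surjective f] [QuasiCompact f]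
    (p₁ p₂ : P ⟶ X) (hsq : IsPullback p₁ p₂ f f) :
    Function.Injective f.appTop.hom ∧
      ∀ s : Γ(X, ⊤), s ∈ Set.range f.appTop.hom ↔ p₁.appTop.hom s = p₂.appTop.hom s := by
  have hee : EffectiveEpi f := inferInstance
  have hepi : Epi f := inferInstance
  refine ⟨fun t₁ t₂ h ↦ ?_, fun s ↦ ⟨?_, fun hs ↦ ?_⟩⟩
  · have h2 : f ≫ (fnEquiv Y).symm t₁ = f ≫ (fnEquiv Y).symm t₂ := by
      apply (fnEquiv X).injective
      rw [fnEquiv_comp, fnEquiv_comp, Equiv.apply_symm_apply, Equiv.apply_symm_apply]
      exact h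
    exact (fnEquiv Y).symm.injective ((cancel_epi f).mp h2)
  · rintro ⟨t, rfl⟩
    have e1 : p₁.appTop.hom (f.appTop.hom t) = (p₁ ≫ f).appTop.hom t := by
      rw [Scheme.Hom.comp_appTop]; rfl
    have e2 : p₂.appTop.hom (f.appTop.hom t) = (p₂ ≫ f).appTop.hom t := by
      rw [Scheme.Hom.comp_appTop]; rfl
    rw [e1, e2, hsq.w]
  · let e : X ⟶ A1.{u} := (fnEquiv X).symm s
    have he : p₁ ≫ e = p₂ ≫ e := by
      apply (fnEquiv _).injective
      rw [fnEquiv_comp, fnEquiv_comp, Equiv.apply_symm_apply]
      exact hs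
    have hcompat : ∀ {Z : Scheme.{u}} (g₁ g₂ : Z ⟶ X), g₁ ≫ f = g₂ ≫ f →
        g₁ ≫ e = g₂ ≫ e := by
      intro Z g₁ g₂ hg
      have h1 : hsq.lift g₁ g₂ hg ≫ p₁ = g₁ := hsq.lift_fst _ _ _
      have h2 : hsq.lift g₁ g₂ hg ≫ p₂ = g₂ := hsq.lift_snd _ _ _
      rw [← h1, Category.assoc, he, ← Category.assoc, h2]
    refine ⟨fnEquiv Y (EffectiveEpi.desc f e hcompat), ?_⟩
    rw [← fnEquiv_comp, EffectiveEpi.fac]
    exact Equiv.apply_symm_apply _ _

theorem main (k : Type u) [Field k]
    (G X Y : Over (Spec (CommRingCat.of k))) [GrpObj G]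
    [QuasiCompact X.hom] [IsSeparated Y.hom]
    (a : AlgGrp.Action G X) (f : X ⟶ Y) [Flat f.left] [Surjective f.left]
    (hsq : IsPullback a.act.left (snd G X).left f.left f.left) :
    Function.Injective (f.left.appTop) ∧
      Set.range (f.left.appTop) = {s : Γ(X.left, ⊤) | a.act.left.appTop s = (snd G X).left.appTop s} := by
  haveI : QuasiCompact (f.left ≫ Y.hom) := by rw [Over.w f]; infer_instance
  haveI : QuasiCompact f.left := QuasiCompact.of_comp f.left Y.hom
  obtain ⟨h1, h2⟩ := core f.left _ _ hsq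
  refine ⟨h1, ?_⟩
  ext s
  exact h2 s


end Aux

/-- Over an algebraically closed field k, let G be an algebraic group (a smooth k-group scheme of finite
type) acting by σ on a variety X, and let f : X → Y be a principal G-bundle over a variety Y (X, Y
reduced separated k-schemes of finite type; f flat and surjective, the square σ, p₂ : G × X → X, f,
f cartesian). Then f^* identifies Γ(Y, O_Y) with the invariants Γ(X, O_X)^G: f^* on global sections
is injective and its range is the set of global functions s on X with σ^*(s) = p₂^*(s). -/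
theorem result (k : Type u) [Field k] [IsAlgClosed k]
    (G X Y : Over (Spec (CommRingCat.of k))) [GrpObj G] [Smooth G.hom] [QuasiCompact G.hom]
    [IsReduced X.left] [IsSeparated X.hom] [LocallyOfFiniteType X.hom] [QuasiCompact X.hom]
    [IsReduced Y.left] [IsSeparated Y.hom] [LocallyOfFiniteType Y.hom] [QuasiCompact Y.hom]
    (a : AlgGrp.Action G X) (f : X ⟶ Y) [Flat f.left] [Surjective f.left]
    (hsq : IsPullback a.act.left (snd G X).left f.left f.left) :
    Function.Injective (f.left.appTop) ∧
      Set.range (f.left.appTop) = {s : Γ(X.left, ⊤) | a.act.left.appTop s = (snd G X).left.appTop s} := by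
  exact main k G X Y a f hsq

end Groth.Agent.S16127
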