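import Groth.Statements.S16130
import Groth.Agent.Lib.Helper72.OrbitAct

set_option autoImplicit false
universe u
open CategoryTheory MonoidalCategory CartesianMonoidalCategory MonObj GrpObj AlgebraicGeometry CategoryTheory.Limits
open AlgGrp

namespace Groth.Agent.S16130

/-- Over an algebraically closed field k, let G be an algebraic group (a smooth k-group scheme of finite
type, not necessarily connected) acting on a variety X (a reduced separated k-scheme of finite
type), and let x be a k-point of X with orbit map α_x : G → X. Then dim G = dim(G · x) + dim(G_x),
where G · x is the image of α_x with its subspace topology and G_x is the stabilizer, the fibre of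
α_x over x; all dimensions are Krull dimensions of topological spaces. (The published statement also
asserts that the irreducible components of G · x are precisely the G⁰-orbits it contains, all of
that dimension; that clause is not stated here.) -/
theorem result (k : Type u) [Field k] [IsAlgClosed k]
    (G X : Over (Spec (CommRingCat.of k))) [GrpObj G] [Smooth G.hom] [QuasiCompact G.hom]
    [IsReduced X.left] [IsSeparated X.hom] [LocallyOfFiniteType X.hom] [QuasiCompact X.hom]
    (a : AlgGrp.Action G X) (x : 𝟙_ (Over (Spec (CommRingCat.of k))) ⟶ X) :
    topologicalKrullDim ↥G.left =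
      topologicalKrullDim ↥(Set.range (a.orbitMap x).left.base) +
        topologicalKrullDim ↥(Limits.pullback (a.orbitMap x).left x.left) := by
  have hα : (a.orbitMap x).left ≫ X.hom = G.hom := Over.w _
  have hom := Groth.Agent.Lib.Helper72.OrbitAct.homog_orbitMap G X a x
  have hxid : x.left ≫ X.hom = 𝟙 _ := Over.w x
  have hcl : IsClosedImmersion x.left := isClosedImmersion_of_comp_eq_id X.hom x.left hxid
  have hrange : Set.range x.left = {x.left (IsLocalRing.closedPoint k)} := by
    ext y
    constructor
    · rintro ⟨z, rfl⟩
      exact congrArg x.left (Subsingleton.elim (α := ↥(Spec (CommRingCat.of k))) z _)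
    · rintro rfl
      exact ⟨_, rfl⟩
  have hx₀ : IsClosed ({x.left (IsLocalRing.closedPoint k)} : Set X.left) := by
    rw [← hrange]
    exact x.left.isClosedEmbedding.isClosed_range
  have he : (a.orbitMap x).left (η[G].left (IsLocalRing.closedPoint k)) =
      x.left (IsLocalRing.closedPoint k) := by
    have h1 := congrArg CommaMorphism.left (Groth.Agent.Lib.Helper72.OrbitAct.one_orbitMap a x)
    exact Groth.Agent.Lib.Helper72.GrpGen.app_eq
      (h1 : η[G].left ≫ (a.orbitMap x).left = x.left) _
  have key := Groth.Agent.Lib.Helper72.OrbitDim.dim_eq_add G.hom X.hom (a.orbitMap x).left hα hom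
    _ _ hx₀ he
  have hpb : topologicalKrullDim ↥(Limits.pullback (a.orbitMap x).left x.left) =
      topologicalKrullDim ↥((a.orbitMap x).left.base ⁻¹' {x.left (IsLocalRing.closedPoint k)}) := by
    have hemb := (pullback.fst (a.orbitMap x).left x.left).isClosedEmbedding.isEmbedding
    have h1 := IsHomeomorph.topologicalKrullDim_eq _ hemb.toHomeomorph.isHomeomorph
    rw [h1]
    have h2 : Set.range (pullback.fst (a.orbitMap x).left x.left) =
        (a.orbitMap x).left.base ⁻¹' {x.left (IsLocalRing.closedPoint k)} := by
      rw [Scheme.Pullback.range_fst, hrange]
    rw [h2]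
  rw [hpb]
  exact key

end Groth.Agent.S16130
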