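import Groth.Statements.S1614
import Mathlib
import Groth.Agent.Lib.Helper60.Twist
-- import your own Groth.Agent.* helpers here

set_option autoImplicit false
universe u
open CategoryTheory CategoryTheory.Limits AlgebraicGeometry
open Constr

namespace Groth.Agent.S1614

/-- Let A be a graded ring, X = Proj A, and f homogeneous of degree d > 0. For every integer n the
restriction of the twisting sheaf O(nd) to the standard open D_+(f) is isomorphic to the structure
sheaf (in particular invertible). -/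
theorem result {R A : Type u} [CommRing R] [CommRing A] [Algebra R A] (𝒜 : ℕ → Submodule R A) [GradedAlgebra 𝒜]
    (d : ℕ) (hd : 0 < d) (f : A) (hf : f ∈ 𝒜 d) (n : ℤ) :
    Nonempty ((Twist.twist 𝒜 (n * d)).restrict (Proj.basicOpen 𝒜 f).ι ≅ Coh.structureModule ↑(Proj.basicOpen 𝒜 f)) := by
  obtain ⟨k, rfl | rfl⟩ := Int.eq_nat_or_neg n
  · refine Groth.Agent.Lib.Helper60.TwistLib.twist_restrict_iso 𝒜 (Proj.basicOpen 𝒜 f).ι _
      (⟨f ^ k, SetLike.pow_mem_graded k hf⟩ : 𝒜 (k • d)) (⟨1, SetLike.GradedOne.one_mem⟩ : 𝒜 0)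
      (by simp) ?_ ?_
    · intro y hmem
      exact (Proj.mem_basicOpen 𝒜 f y.1).mp y.2 ((y.1.isPrime.mem_of_pow_mem k) hmem)
    · intro y hmem
      exact y.1.isPrime.ne_top ((Ideal.eq_top_iff_one _).mpr hmem)
  · refine Groth.Agent.Lib.Helper60.TwistLib.twist_restrict_iso 𝒜 (Proj.basicOpen 𝒜 f).ι _
      (⟨1, SetLike.GradedOne.one_mem⟩ : 𝒜 0) (⟨f ^ k, SetLike.pow_mem_graded k hf⟩ : 𝒜 (k • d))
      (by simp) ?_ ?_
    · intro y hmem
      exact y.1.isPrime.ne_top ((Ideal.eq_top_iff_one _).mpr hmem)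
    · intro y hmem
      exact (Proj.mem_basicOpen 𝒜 f y.1).mp y.2 ((y.1.isPrime.mem_of_pow_mem k) hmem)

end Groth.Agent.S1614
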