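import Groth.Statements.S1615
import Mathlib

set_option autoImplicit false
universe u
open CategoryTheory CategoryTheory.Limits AlgebraicGeometry
open Constr

namespace Groth.Agent.S1615

/-- For a graded ring A, quasi-compactness of Proj A is equivalent to the existence of finitely many
homogeneous elements of positive degree generating an ideal whose radical contains the irrelevant
ideal A_+. -/
theorem result {R A : Type u} [CommRing R] [CommRing A] [Algebra R A] (𝒜 : ℕ → Submodule R A) [GradedAlgebra 𝒜] :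
    CompactSpace ↥(Proj 𝒜) ↔ ∃ s : Finset A, (∀ f ∈ s, ∃ d : ℕ, 0 < d ∧ f ∈ 𝒜 d) ∧
      (HomogeneousIdeal.irrelevant 𝒜).toIdeal ≤ (Ideal.span (s : Set A)).radical := by
  classical
  constructor
  · intro hc
    -- index type of homogeneous elements of positive degree
    let ι := {f : A // ∃ d : ℕ, 0 < d ∧ f ∈ 𝒜 d}
    have hcov : ⨆ i : ι, Proj.basicOpen 𝒜 (i : A) = ⊤ := by
      apply Proj.iSup_basicOpen_eq_top
      rw [HomogeneousIdeal.irrelevant_eq_span]
      apply Ideal.span_mono
      intro x hx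
      simp only [Set.mem_iUnion] at hx
      obtain ⟨d, hd, hxd⟩ := hx
      exact ⟨⟨x, d, hd, hxd⟩, rfl⟩
    have hcov' : (Set.univ : Set (Proj 𝒜)) ⊆ ⋃ i : ι, ((Proj.basicOpen 𝒜 (i : A) : (Proj 𝒜).Opens) :
        Set (Proj 𝒜)) := by
      intro x _
      have hx : x ∈ (⨆ i : ι, Proj.basicOpen 𝒜 (i : A)) := by rw [hcov]; trivial
      rw [TopologicalSpace.Opens.mem_iSup] at hx
      obtain ⟨i, hi⟩ := hx
      exact Set.mem_iUnion.mpr ⟨i, hi⟩
    obtain ⟨t, ht⟩ := isCompact_univ.elim_finite_subcover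
      (fun i : ι => ((Proj.basicOpen 𝒜 (i : A) : (Proj 𝒜).Opens) : Set (Proj 𝒜)))
      (fun i => (Proj.basicOpen 𝒜 (i : A)).isOpen) hcov'
    refine ⟨t.image (fun i : ι => (i : A)), ?_, ?_⟩
    · intro f hf
      obtain ⟨i, -, rfl⟩ := Finset.mem_image.mp hf
      exact i.2
    · have hhom : (Ideal.span ((t.image (fun i : ι => (i : A)) : Finset A) : Set A)).IsHomogeneous 𝒜 := by
        apply Ideal.homogeneous_span
        intro x hx
        obtain ⟨i, -, rfl⟩ := Finset.mem_image.mp (Finset.mem_coe.mp hx)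
        obtain ⟨d, -, hd⟩ := i.2
        exact ⟨d, hd⟩
      rw [hhom.radical_eq]
      refine le_sInf ?_
      rintro J ⟨hJhom, hJle, hJprime⟩
      by_contra hirr
      let x : Proj 𝒜 := (⟨⟨J, hJhom⟩, hJprime, hirr⟩ : ProjectiveSpectrum 𝒜)
      have hx := ht (Set.mem_univ x)
      simp only [Set.mem_iUnion] at hx
      obtain ⟨i, hi, hxi⟩ := hx
      have hiJ : (i : A) ∈ J := hJle (Ideal.subset_span
        (Finset.mem_coe.mpr (Finset.mem_image_of_mem _ hi)))
      exact hxi hiJ
  · rintro ⟨s, hsdeg, hle⟩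
    have hcov : (Set.univ : Set (Proj 𝒜)) =
        ⋃ f ∈ s, ((Proj.basicOpen 𝒜 f : (Proj 𝒜).Opens) : Set (Proj 𝒜)) := by
      symm
      rw [Set.eq_univ_iff_forall]
      intro x
      by_contra hx
      simp only [Set.mem_iUnion, not_exists] at hx
      have hall : ∀ f ∈ s, f ∈ x.asHomogeneousIdeal.toIdeal := by
        intro f hf
        by_contra hfx
        exact hx f hf hfx
      have h1 : Ideal.span (s : Set A) ≤ x.asHomogeneousIdeal.toIdeal :=
        Ideal.span_le.mpr fun f hf => hall f hf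
      have h2 : (Ideal.span (s : Set A)).radical ≤ x.asHomogeneousIdeal.toIdeal :=
        (Ideal.IsPrime.radical_le_iff x.isPrime).mpr h1
      exact x.not_irrelevant_le (hle.trans h2)
    rw [← isCompact_univ_iff, hcov]
    apply s.isCompact_biUnion
    intro f hf
    obtain ⟨d, hd, hfd⟩ := hsdeg f hf
    exact (Proj.isAffineOpen_basicOpen 𝒜 f hfd hd).isCompact

end Groth.Agent.S1615
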