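import Groth.Statements.S16161
import Mathlib.RingTheory.Polynomial.Cyclotomic.Basic
import Mathlib.RingTheory.RootsOfUnity.AlgebraicallyClosed
import Mathlib.RingTheory.Polynomial.Basic

set_option autoImplicit false
universe u v
open MadRed

namespace Groth.Agent.S16161

open Polynomial in
theorem ker_aeval_prod_X_sub_C {K : Type*} {V : Type*} [Field K] [AddCommGroup V] [Module K V]
    (f : Module.End K V) (s : Finset K) :
    LinearMap.ker (aeval f (∏ μ ∈ s, (X - C μ))) = ⨆ μ ∈ s, Module.End.eigenspace f μ := by
  classical
  induction s using Finset.induction_on with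
  | empty => simp [Module.End.one_eq_id]
  | insert a s ha ih =>
    rw [Finset.prod_insert ha, ← sup_ker_aeval_eq_ker_aeval_mul_of_coprime, ih, Finset.iSup_insert]
    · congr 1
      simp [Module.End.eigenspace_def, Algebra.algebraMap_eq_smul_one]
    · apply IsCoprime.prod_right
      intro μ hμ
      have hne : a ≠ μ := fun h => ha (h ▸ hμ)
      exact isCoprime_X_sub_C_of_isUnit_sub (sub_ne_zero.2 hne).isUnit

/-- Let k be an algebraically closed field of characteristic zero and R a reduced finitely generated
commutative k-algebra whose spectrum is connected (R has no idempotents besides 0 and 1); let W =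
R^n be a free R-module of finite rank and g an R-linear endomorphism of W of finite order, g^m = 1
with m > 0 (an element of finite order of GL(W)(R)). Then the action of g on W is diagonalizable
over k: viewing g as a k-linear map, its eigenspaces for eigenvalues in k span W. The source also
assumes that g is diagonalizable over k on every fibre W ⊗ k(x), x a point of Spec R; for g of
finite order this holds automatically (k is algebraically closed of characteristic zero), as the
source itself notes, so that hypothesis is omitted. -/
theorem result
    (k : Type u) [Field k] [IsAlgClosed k] [CharZero k]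
    (R : Type v) [CommRing R] [Algebra k R] [IsReduced R] [Algebra.FiniteType k R]
    (hconn : ∀ e : R, IsIdempotentElem e → e = 0 ∨ e = 1)
    (n : ℕ) (g : Module.End R (Fin n → R)) (m : ℕ) (hm : 0 < m) (hg : g ^ m = 1) :
    ⨆ μ : k, Module.End.eigenspace (g.restrictScalars k) μ = ⊤ := by
  classical
  set f : Module.End k (Fin n → R) := g.restrictScalars k with hf
  have hfm : f ^ m = 1 := by
    refine LinearMap.ext fun v => ?_
    have h1 := congrArg (fun h : Module.End R (Fin n → R) => h v) hg
    simp only [Module.End.pow_apply, Module.End.one_apply] at h1 ⊢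
    rw [hf, LinearMap.coe_restrictScalars]
    exact h1
  haveI : NeZero m := ⟨hm.ne'⟩
  obtain ⟨ζ, hζ⟩ := HasEnoughRootsOfUnity.exists_primitiveRoot k m
  have hprod := Polynomial.X_pow_sub_one_eq_prod hm hζ
  have hker : LinearMap.ker (Polynomial.aeval f ((Polynomial.X : Polynomial k) ^ m - 1)) = ⊤ := by
    rw [LinearMap.ker_eq_top]
    simp [hfm]
  rw [hprod, ker_aeval_prod_X_sub_C] at hker
  rw [eq_top_iff, ← hker]
  exact iSup₂_le fun μ _ => le_iSup (fun μ => Module.End.eigenspace f μ) μ

end Groth.Agent.S16161
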