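import Groth.Statements.S16162
import Mathlib.AlgebraicGeometry.Morphisms.UniversallyOpen
import Mathlib.AlgebraicGeometry.PullbackCarrier

set_option autoImplicit false
set_option linter.style.haveILetI false
open CategoryTheory MonoidalCategory CartesianMonoidalCategory MonObj GrpObj AlgebraicGeometry
universe u
open MadRed

namespace Groth.Agent.S16162

/-- Let S be a scheme, G a group scheme over S, and X an S-scheme with an action of G making X → S a
principal G-bundle (a torsor in the representable fppf sense: X → S surjective, flat and locally of
finite presentation, and G ×_S X → X ×_S X, (g, x) ↦ (g·x, x), an isomorphism). Let P be a closed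
subset of X stable under the action: the action map sends into P every point of G ×_S X whose second
projection lies in P. Then the image of P in S is closed, and P is the full preimage of its image.
(The source works with varieties over the complex numbers and an affine algebraic group; the
assertion holds over any base. Its second assertion, that P → image is again a principal bundle for
the induced reduced structures, then comes from base change and is not part of this row.) -/
theorem result {S : Scheme.{u}}
    {G X : Over S} [GrpObj G] (a : AlgGrp.Action G X) (ha : RedSub.IsTorsor a)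
    (P : Set X.left) (hP : IsClosed P)
    (hstab : ∀ w : (G ⊗ X).left, (snd G X).left.base w ∈ P → a.act.left.base w ∈ P) :
    IsClosed (X.hom.base '' P) ∧ X.hom.base ⁻¹' (X.hom.base '' P) = P := by
  obtain ⟨h1, h2, h3, h4⟩ := ha
  haveI := h1
  haveI := h2
  haveI := h3
  haveI : IsIso (lift a.act (snd G X)) := h4
  have hsat : X.hom.base ⁻¹' (X.hom.base '' P) = P := by
    apply Set.Subset.antisymm _ (Set.subset_preimage_image _ _)
    rintro x ⟨p, hp, hpx⟩
    obtain ⟨z, hz1, hz2⟩ := Scheme.Pullback.exists_preimage_pullback (f := X.hom) (g := X.hom) x p hpx.symm
    let w := (inv (lift a.act (snd G X))).left.base z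
    have hw : (lift a.act (snd G X)).left.base w = z := by
      change ((inv (lift a.act (snd G X))).left ≫ (lift a.act (snd G X)).left).base z = z
      rw [← Over.comp_left, IsIso.inv_hom_id]
      rfl
    have hw1 : a.act.left.base w = x := by
      have : a.act = lift a.act (snd G X) ≫ fst X X := by simp
      rw [this, Over.comp_left, Scheme.Hom.comp_base, TopCat.comp_app, hw]
      exact hz1
    have hw2 : (snd G X).left.base w = p := by
      have : snd G X = lift a.act (snd G X) ≫ snd X X := by simp
      rw [this, Over.comp_left, Scheme.Hom.comp_base, TopCat.comp_app, hw]
      exact hz2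
    rw [← hw1]
    exact hstab w (hw2 ▸ hp)
  refine ⟨?_, hsat⟩
  have hopen : IsOpenMap X.hom.base := Scheme.Hom.isOpenMap X.hom
  have hsurj : Function.Surjective X.hom.base := Scheme.Hom.surjective X.hom
  have hc : (X.hom.base '' P)ᶜ = X.hom.base '' Pᶜ := by
    ext s
    constructor
    · intro hs
      obtain ⟨x, rfl⟩ := hsurj s
      exact ⟨x, fun hx => hs ⟨x, hx, rfl⟩, rfl⟩
    · rintro ⟨x, hx, rfl⟩ hs
      apply hx
      rw [← hsat]
      exact hs
  rw [← isOpen_compl_iff, hc]
  exact hopen _ hP.isOpen_compl

end Groth.Agent.S16162
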