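import Groth.Statements.S16164
import Mathlib.Tactic
-- import your own Groth.Agent.* helpers here

set_option autoImplicit false
open Neron

namespace Groth.Agent.S16164

open Matrix

section aux

variable {ι κ₁ κ₂ : Type} [Fintype ι] [Fintype κ₁] [Fintype κ₂]

theorem bil_split (Ψ₁ : Matrix κ₁ κ₁ ℤ) (Ψ₂ : Matrix κ₂ κ₂ ℤ) (y w : κ₁ ⊕ κ₂ → ℤ) :
    y ⬝ᵥ (fromBlocks Ψ₁ 0 0 Ψ₂) *ᵥ w =
      (y ∘ Sum.inl) ⬝ᵥ Ψ₁ *ᵥ (w ∘ Sum.inl) + (y ∘ Sum.inr) ⬝ᵥ Ψ₂ *ᵥ (w ∘ Sum.inr) := by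
  rw [fromBlocks_mulVec]
  conv_lhs => rw [← Sum.elim_comp_inl_inr y]
  rw [sumElim_dotProduct_sumElim]
  simp

theorem symm_bil {κ : Type} [Fintype κ] (Ψ : Matrix κ κ ℤ) (h : Ψ.IsSymm) (y w : κ → ℤ) :
    y ⬝ᵥ Ψ *ᵥ w = w ⬝ᵥ Ψ *ᵥ y := by
  rw [dotProduct_mulVec, ← mulVec_transpose, h.eq, dotProduct_comm]

theorem orth (A : Matrix (κ₁ ⊕ κ₂) ι ℤ) (Ψ : Matrix (κ₁ ⊕ κ₂) (κ₁ ⊕ κ₂) ℤ)
    (w : κ₁ ⊕ κ₂ → ℤ) (hw : (Aᵀ * Ψ) *ᵥ w = 0) (x : ι → ℤ) :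
    (A *ᵥ x) ⬝ᵥ Ψ *ᵥ w = 0 := by
  rw [← vecMul_transpose, ← dotProduct_mulVec, mulVec_mulVec, hw, dotProduct_zero]

end aux

/-- Let X, Y₁, Y₂ be finitely generated free abelian groups with chosen bases, so that homomorphisms are
integer matrices acting on column vectors and each group is identified with its dual; let P : X → Y₁
and Q : X → Y₂ be surjective with A = (P over Q) : X → Y₁ ⊕ Y₂ injective, and let Ψ₁, Ψ₂ be
symmetric positive-definite integer matrices on Y₁ and Y₂, Ψ their block-diagonal sum. If the image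
of Aᵀ Ψ : Y₁ ⊕ Y₂ → X coincides with the image of Aᵀ Ψ A : X → X (the reverse inclusion always
holds), then A is bijective. (In the source X, Y₁, Y₂ are character groups of maximal tori, P and Q
specialization maps, Ψ₁ and Ψ₂ monodromy pairings, and the hypothesis expresses that two groups of
components coincide.) -/
theorem result
    {ι κ₁ κ₂ : Type} [Fintype ι] [Fintype κ₁] [Fintype κ₂]
    (P : Matrix κ₁ ι ℤ) (Q : Matrix κ₂ ι ℤ)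
    (hP : Function.Surjective P.mulVec) (hQ : Function.Surjective Q.mulVec)
    (hA : Function.Injective (Matrix.fromRows P Q).mulVec)
    (Ψ₁ : Matrix κ₁ κ₁ ℤ) (Ψ₂ : Matrix κ₂ κ₂ ℤ) (hΨ₁ : Ψ₁.IsSymm) (hΨ₂ : Ψ₂.IsSymm)
    (hΨ₁pos : ∀ y : κ₁ → ℤ, y ≠ 0 → 0 < y ⬝ᵥ Ψ₁.mulVec y)
    (hΨ₂pos : ∀ y : κ₂ → ℤ, y ≠ 0 → 0 < y ⬝ᵥ Ψ₂.mulVec y)
    (himage : LinearMap.range ((Matrix.fromRows P Q).transpose * Matrix.fromBlocks Ψ₁ 0 0 Ψ₂).mulVecLin =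
      LinearMap.range ((Matrix.fromRows P Q).transpose * Matrix.fromBlocks Ψ₁ 0 0 Ψ₂ * Matrix.fromRows P Q).mulVecLin) :
    Function.Bijective (Matrix.fromRows P Q).mulVec := by
  classical
  set A := Matrix.fromRows P Q with hAdef
  set Ψ := Matrix.fromBlocks Ψ₁ 0 0 Ψ₂ with hΨdef
  have hΨsymm : Ψ.IsSymm := Matrix.IsSymm.fromBlocks hΨ₁ (by simp) hΨ₂
  -- nonnegativity and definiteness
  have h1nn : ∀ y : κ₁ → ℤ, 0 ≤ y ⬝ᵥ Ψ₁ *ᵥ y := fun y => by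
    by_cases hy : y = 0
    · subst hy; simp
    · exact (hΨ₁pos y hy).le
  have h2nn : ∀ y : κ₂ → ℤ, 0 ≤ y ⬝ᵥ Ψ₂ *ᵥ y := fun y => by
    by_cases hy : y = 0
    · subst hy; simp
    · exact (hΨ₂pos y hy).le
  have hNsplit : ∀ y : κ₁ ⊕ κ₂ → ℤ, y ⬝ᵥ Ψ *ᵥ y =
      (y ∘ Sum.inl) ⬝ᵥ Ψ₁ *ᵥ (y ∘ Sum.inl) + (y ∘ Sum.inr) ⬝ᵥ Ψ₂ *ᵥ (y ∘ Sum.inr) :=
    fun y => bil_split Ψ₁ Ψ₂ y y
  have hNnn : ∀ y : κ₁ ⊕ κ₂ → ℤ, 0 ≤ y ⬝ᵥ Ψ *ᵥ y := fun y => by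
    rw [hNsplit]; exact add_nonneg (h1nn _) (h2nn _)
  have hNzero : ∀ y : κ₁ ⊕ κ₂ → ℤ, y ⬝ᵥ Ψ *ᵥ y = 0 → y = 0 := fun y hy => by
    rw [hNsplit] at hy
    have ha := h1nn (y ∘ Sum.inl)
    have hb := h2nn (y ∘ Sum.inr)
    have ha0 : (y ∘ Sum.inl) ⬝ᵥ Ψ₁ *ᵥ (y ∘ Sum.inl) = 0 := by linarith
    have hb0 : (y ∘ Sum.inr) ⬝ᵥ Ψ₂ *ᵥ (y ∘ Sum.inr) = 0 := by linarith
    have h1 : y ∘ Sum.inl = 0 := by
      by_contra hne
      exact absurd ha0 (hΨ₁pos _ hne).ne'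
    have h2 : y ∘ Sum.inr = 0 := by
      by_contra hne
      exact absurd hb0 (hΨ₂pos _ hne).ne'
    funext i
    cases i with
    | inl i => exact congrFun h1 i
    | inr i => exact congrFun h2 i
  -- decomposition
  have hdecomp : ∀ y : κ₁ ⊕ κ₂ → ℤ, ∃ (x : ι → ℤ) (w : κ₁ ⊕ κ₂ → ℤ),
      y = A *ᵥ x + w ∧ (Aᵀ * Ψ) *ᵥ w = 0 ∧ w ⬝ᵥ Ψ *ᵥ w ≤ y ⬝ᵥ Ψ *ᵥ y := by
    intro y
    have hy : (Aᵀ * Ψ).mulVecLin y ∈ LinearMap.range (Aᵀ * Ψ * A).mulVecLin := by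
      rw [← himage]; exact LinearMap.mem_range_self _ y
    obtain ⟨x, hx⟩ := hy
    simp only [Matrix.mulVecLin_apply] at hx
    have hw : (Aᵀ * Ψ) *ᵥ (y - A *ᵥ x) = 0 := by
      rw [mulVec_sub, mulVec_mulVec, hx, sub_self]
    refine ⟨x, y - A *ᵥ x, by abel, hw, ?_⟩
    have ho := orth A Ψ _ hw x
    have ho' : (y - A *ᵥ x) ⬝ᵥ Ψ *ᵥ (A *ᵥ x) = 0 := by
      rw [symm_bil Ψ hΨsymm]; exact ho
    have hyy : y ⬝ᵥ Ψ *ᵥ y = (A *ᵥ x) ⬝ᵥ Ψ *ᵥ (A *ᵥ x) + (y - A *ᵥ x) ⬝ᵥ Ψ *ᵥ (y - A *ᵥ x) := by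
      have : y = A *ᵥ x + (y - A *ᵥ x) := by abel
      conv_lhs => rw [this]
      rw [mulVec_add, add_dotProduct, dotProduct_add, dotProduct_add, ho, ho']
      ring
    rw [hyy]
    have := hNnn (A *ᵥ x)
    linarith
  -- the orthogonal complement is trivial
  have hkey : ∀ n : ℕ, ∀ z : κ₁ ⊕ κ₂ → ℤ, (Aᵀ * Ψ) *ᵥ z = 0 → z ⬝ᵥ Ψ *ᵥ z = n → z = 0 := by
    intro n
    induction n using Nat.strong_induction_on with
    | _ n ih =>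
      intro z hz hn
      have hzA : ∀ x, (A *ᵥ x) ⬝ᵥ Ψ *ᵥ z = 0 := orth A Ψ z hz
      have hsplitA : ∀ x, (A *ᵥ x) ⬝ᵥ Ψ *ᵥ z =
          (P *ᵥ x) ⬝ᵥ Ψ₁ *ᵥ (z ∘ Sum.inl) + (Q *ᵥ x) ⬝ᵥ Ψ₂ *ᵥ (z ∘ Sum.inr) := by
        intro x
        rw [bil_split, hAdef, fromRows_mulVec]
        simp
      by_cases h1 : z ∘ Sum.inl = 0
      · -- z lies in the second factor
        obtain ⟨x, hx⟩ := hQ (z ∘ Sum.inr)
        have := hzA x
        rw [hsplitA, h1, hx] at this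
        simp only [mulVec_zero, dotProduct_zero, zero_add] at this
        have h2 : z ∘ Sum.inr = 0 := by
          by_contra hne
          exact absurd this (hΨ₂pos _ hne).ne'
        funext i
        cases i with
        | inl i => exact congrFun h1 i
        | inr i => exact congrFun h2 i
      by_cases h2 : z ∘ Sum.inr = 0
      · obtain ⟨x, hx⟩ := hP (z ∘ Sum.inl)
        have := hzA x
        rw [hsplitA, h2, hx] at this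
        simp only [mulVec_zero, dotProduct_zero, add_zero] at this
        exact absurd this (hΨ₁pos _ h1).ne'
      · have ha := hΨ₁pos _ h1
        have hb := hΨ₂pos _ h2
        have hnz := hNsplit z
        -- first component
        obtain ⟨x₁, w₁, hy₁, hw₁, hle₁⟩ := hdecomp (Sum.elim (z ∘ Sum.inl) 0)
        obtain ⟨x₂, w₂, hy₂, hw₂, hle₂⟩ := hdecomp (Sum.elim 0 (z ∘ Sum.inr))
        have hN1 : (Sum.elim (z ∘ Sum.inl) (0 : κ₂ → ℤ)) ⬝ᵥ Ψ *ᵥ (Sum.elim (z ∘ Sum.inl) 0) =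
            (z ∘ Sum.inl) ⬝ᵥ Ψ₁ *ᵥ (z ∘ Sum.inl) := by
          rw [hNsplit]; simp
        have hN2 : (Sum.elim (0 : κ₁ → ℤ) (z ∘ Sum.inr)) ⬝ᵥ Ψ *ᵥ (Sum.elim 0 (z ∘ Sum.inr)) =
            (z ∘ Sum.inr) ⬝ᵥ Ψ₂ *ᵥ (z ∘ Sum.inr) := by
          rw [hNsplit]; simp
        have hw₁0 : w₁ = 0 := by
          have hnn := hNnn w₁
          obtain ⟨m, hm⟩ := Int.eq_ofNat_of_zero_le hnn
          refine ih m ?_ w₁ hw₁ hm
          have : (m : ℤ) < n := by rw [← hm, ← hn, hnz]; linarith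
          exact_mod_cast this
        have hw₂0 : w₂ = 0 := by
          have hnn := hNnn w₂
          obtain ⟨m, hm⟩ := Int.eq_ofNat_of_zero_le hnn
          refine ih m ?_ w₂ hw₂ hm
          have : (m : ℤ) < n := by rw [← hm, ← hn, hnz]; linarith
          exact_mod_cast this
        have hzsum : z = A *ᵥ (x₁ + x₂) := by
          rw [mulVec_add]
          rw [hw₁0, add_zero] at hy₁
          rw [hw₂0, add_zero] at hy₂
          rw [← hy₁, ← hy₂]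
          funext i
          cases i with
          | inl i => simp
          | inr i => simp
        apply hNzero
        conv_lhs => rw [hzsum]
        rw [← hzsum]
        rw [hzsum] 
        exact hzsum ▸ hzA (x₁ + x₂)
  refine ⟨hA, fun y => ?_⟩
  obtain ⟨x, w, hy, hw, -⟩ := hdecomp y
  obtain ⟨m, hm⟩ := Int.eq_ofNat_of_zero_le (hNnn w)
  have hw0 := hkey m w hw hm
  exact ⟨x, by rw [hy, hw0, add_zero]⟩

end Groth.Agent.S16164
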