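import Groth.Statements.S16170
import Mathlib.Tactic
import Mathlib.LinearAlgebra.Matrix.ToLin

set_option autoImplicit false
open Neron

namespace Groth.Agent.S16170

open Matrix in
theorem aux
    {ι : Type} [Fintype ι] [DecidableEq ι]
    (M N χ₁ χ₂ : Matrix ι ι ℤ) (hM : M.IsSymm) (hN : N.IsSymm)
    (hMpos : ∀ v : ι → ℤ, 0 ≤ v ⬝ᵥ M.mulVec v) (hNpos : ∀ v : ι → ℤ, 0 ≤ v ⬝ᵥ N.mulVec v)
    (hpos : ∀ v : ι → ℤ, v ≠ 0 → 0 < v ⬝ᵥ (M + N).mulVec v)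
    (hsum : χ₁ + χ₂ = 1) (hrel : M * χ₂ = N * χ₁) :
    χ₁ * χ₁ = χ₁ ∧ χ₂ * χ₂ = χ₂ := by
  have hQ : χ₂ = 1 - χ₁ := eq_sub_of_add_eq' hsum
  have hcomm : χ₁ * χ₂ = χ₂ * χ₁ := by rw [hQ]; noncomm_ring
  have hSP : (M + N) * χ₁ = M := by
    have h : M * χ₁ = M - M * χ₂ := by rw [hQ]; noncomm_ring
    rw [add_mul, h, hrel]; abel
  have hSQ : (M + N) * χ₂ = N := by
    have h : N * χ₂ = N - N * χ₁ := by rw [hQ]; noncomm_ring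
    rw [add_mul, h, hrel]; abel
  have hv : ∀ v : ι → ℤ, χ₁ *ᵥ v + χ₂ *ᵥ v = v := by
    intro v; rw [← Matrix.add_mulVec, hsum, Matrix.one_mulVec]
  have symN : ∀ x y : ι → ℤ, x ⬝ᵥ N *ᵥ y = (N *ᵥ x) ⬝ᵥ y := by
    intro x y
    rw [Matrix.dotProduct_mulVec, ← Matrix.mulVec_transpose, hN.eq]
  have symM : ∀ x y : ι → ℤ, x ⬝ᵥ M *ᵥ y = (M *ᵥ x) ⬝ᵥ y := by
    intro x y
    rw [Matrix.dotProduct_mulVec, ← Matrix.mulVec_transpose, hM.eq]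
  have hK1 : ∀ v : ι → ℤ, (χ₁ *ᵥ v) ⬝ᵥ (M + N) *ᵥ (χ₂ *ᵥ v) = ((M * χ₂) *ᵥ v) ⬝ᵥ v := by
    intro v
    rw [Matrix.mulVec_mulVec, hSQ, symN, Matrix.mulVec_mulVec, hrel]
  have hK2 : ∀ v : ι → ℤ, (χ₂ *ᵥ v) ⬝ᵥ (M + N) *ᵥ (χ₁ *ᵥ v) = ((M * χ₂) *ᵥ v) ⬝ᵥ v := by
    intro v
    rw [Matrix.mulVec_mulVec, hSP, symM, Matrix.mulVec_mulVec]
  have hK3 : ∀ v : ι → ℤ, 0 ≤ ((M * χ₂) *ᵥ v) ⬝ᵥ v := by
    intro v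
    rw [dotProduct_comm]
    have h1 : v ⬝ᵥ (M * χ₂) *ᵥ v = (χ₁ *ᵥ v) ⬝ᵥ (M * χ₂) *ᵥ v + (χ₂ *ᵥ v) ⬝ᵥ (M * χ₂) *ᵥ v := by
      rw [← add_dotProduct, hv]
    rw [h1]
    have h2 : (χ₁ *ᵥ v) ⬝ᵥ (M * χ₂) *ᵥ v = (χ₁ *ᵥ v) ⬝ᵥ N *ᵥ (χ₁ *ᵥ v) := by
      rw [hrel, Matrix.mulVec_mulVec]
    have h3 : (χ₂ *ᵥ v) ⬝ᵥ (M * χ₂) *ᵥ v = (χ₂ *ᵥ v) ⬝ᵥ M *ᵥ (χ₂ *ᵥ v) := by
      rw [Matrix.mulVec_mulVec]
    rw [h2, h3]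
    exact add_nonneg (hNpos _) (hMpos _)
  have hq : ∀ v : ι → ℤ, (χ₁ *ᵥ v) ⬝ᵥ (M + N) *ᵥ (χ₁ *ᵥ v) + (χ₂ *ᵥ v) ⬝ᵥ (M + N) *ᵥ (χ₂ *ᵥ v)
      ≤ v ⬝ᵥ (M + N) *ᵥ v := by
    intro v
    have h1 : v ⬝ᵥ (M + N) *ᵥ v =
        (χ₁ *ᵥ v + χ₂ *ᵥ v) ⬝ᵥ (M + N) *ᵥ (χ₁ *ᵥ v + χ₂ *ᵥ v) := by rw [hv]
    rw [h1, Matrix.mulVec_add, add_dotProduct, dotProduct_add, dotProduct_add, hK1, hK2]
    have := hK3 v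
    linarith
  have hq0 : ∀ v : ι → ℤ, 0 ≤ v ⬝ᵥ (M + N) *ᵥ v := by
    intro v
    rw [Matrix.add_mulVec, dotProduct_add]
    exact add_nonneg (hMpos v) (hNpos v)
  have main : ∀ (n : ℕ) (v : ι → ℤ), (v ⬝ᵥ (M + N) *ᵥ v).toNat = n → (χ₁ * χ₂) *ᵥ v = 0 := by
    intro n
    induction n using Nat.strong_induction_on with
    | _ n ih =>
      intro v hn
      by_cases h1 : χ₁ *ᵥ v = 0
      · rw [hcomm, ← Matrix.mulVec_mulVec, h1, Matrix.mulVec_zero]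
      by_cases h2 : χ₂ *ᵥ v = 0
      · rw [← Matrix.mulVec_mulVec, h2, Matrix.mulVec_zero]
      have p1 := hpos _ h1
      have p2 := hpos _ h2
      have hle := hq v
      have e1 : (χ₁ * χ₂) *ᵥ (χ₁ *ᵥ v) = 0 := by
        refine ih _ ?_ _ rfl
        rw [← hn]
        omega
      have e2 : (χ₁ * χ₂) *ᵥ (χ₂ *ᵥ v) = 0 := by
        refine ih _ ?_ _ rfl
        rw [← hn]
        omega
      calc (χ₁ * χ₂) *ᵥ v = (χ₁ * χ₂) *ᵥ (χ₁ *ᵥ v + χ₂ *ᵥ v) := by rw [hv]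
        _ = 0 := by rw [Matrix.mulVec_add, e1, e2, add_zero]
  have hPQ : χ₁ * χ₂ = 0 := by
    apply Matrix.mulVec_injective
    funext v
    rw [main _ v rfl, Matrix.zero_mulVec]
  constructor
  · have h : χ₁ * χ₁ = χ₁ - χ₁ * χ₂ := by rw [hQ]; noncomm_ring
    rw [h, hPQ, sub_zero]
  · have h : χ₂ * χ₂ = χ₂ - χ₁ * χ₂ := by
      have hP : χ₁ = 1 - χ₂ := eq_sub_of_add_eq hsum
      rw [hP]; noncomm_ring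
    rw [h, hPQ, sub_zero]


/-- Let M and N be symmetric positive-semidefinite integer matrices on the same finite index set whose
sum M + N is positive definite, and let χ₁, χ₂ be integer matrices with χ₁ + χ₂ = 1 and M χ₂ = N χ₁.
Then χ₁ and χ₂ are idempotent. (In the intended application M = Pᵀ Ψ₁ P and N = Qᵀ Ψ₂ Q for
surjective integer matrices P, Q and positive-definite Ψ₁, Ψ₂.) -/
theorem result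
    {ι : Type} [Fintype ι] [DecidableEq ι]
    (M N χ₁ χ₂ : Matrix ι ι ℤ) (hM : M.IsSymm) (hN : N.IsSymm)
    (hMpos : ∀ v : ι → ℤ, 0 ≤ v ⬝ᵥ M.mulVec v) (hNpos : ∀ v : ι → ℤ, 0 ≤ v ⬝ᵥ N.mulVec v)
    (hpos : ∀ v : ι → ℤ, v ≠ 0 → 0 < v ⬝ᵥ (M + N).mulVec v)
    (hsum : χ₁ + χ₂ = 1) (hrel : M * χ₂ = N * χ₁) :
    χ₁ * χ₁ = χ₁ ∧ χ₂ * χ₂ = χ₂ :=
  aux M N χ₁ χ₂ hM hN hMpos hNpos hpos hsum hrel

end Groth.Agent.S16170
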