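import Groth.Statements.S16174
import Mathlib.Tactic
import Mathlib.Algebra.Polynomial.Taylor
import Mathlib.RingTheory.Localization.AtPrime.Basic
import Mathlib.RingTheory.Localization.Ideal
import Mathlib.RingTheory.LocalRing.Basic

set_option autoImplicit false
universe u
open Hensel

namespace Groth.Agent.S16174

open Polynomial IsLocalRing in
theorem henselian_transfer {A B : Type*} [CommRing A] [CommRing B] [HenselianLocalRing A]
    [IsLocalRing B] (φ : A →+* B)
    (hφ : ∀ x ∈ maximalIdeal B, ∃ a ∈ maximalIdeal A, φ a = x) : HenselianLocalRing B := by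
  constructor
  intro f hf a₀ h₀ h₁
  have hgmonic : (taylor a₀ f).Monic := by
    rw [Monic, leadingCoeff_taylor]; exact hf
  have hg0 : (taylor a₀ f).coeff 0 = f.eval a₀ := taylor_coeff_zero a₀ f
  have hg1 : (taylor a₀ f).coeff 1 = f.derivative.eval a₀ := taylor_coeff_one a₀ f
  obtain ⟨m, hm⟩ : ∃ m, (taylor a₀ f).natDegree = m + 1 := by
    cases hn : (taylor a₀ f).natDegree with
    | zero =>
      exfalso
      have h1 : taylor a₀ f = 1 := (Polynomial.Monic.natDegree_eq_zero hgmonic).mp hn
      rw [h1, coeff_one_zero] at hg0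
      rw [← hg0] at h₀
      exact (maximalIdeal.isMaximal B).ne_top ((Ideal.eq_top_iff_one _).mpr h₀)
    | succ m => exact ⟨m, rfl⟩
  obtain ⟨d, hd⟩ := h₁.exists_right_inv
  set c : ℕ → B := fun i => (taylor a₀ f).coeff i with hc
  have hc0 : c 0 ∈ maximalIdeal B := by rw [hc]; simp only; rw [hg0]; exact h₀
  have hc1 : c 1 * d = 1 := by rw [hc]; simp only; rw [hg1]; exact hd
  set u : B := -(c 0 * d) with hu
  have hum : u ∈ maximalIdeal B := by
    rw [hu]; exact neg_mem (Ideal.mul_mem_right _ _ hc0)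
  have he : ∀ i : ℕ, -(c (i + 2) * u ^ (i + 1) * d) ∈ maximalIdeal B := by
    intro i
    refine neg_mem (Ideal.mul_mem_right _ _ (Ideal.mul_mem_left _ _ ?_))
    exact Ideal.pow_mem_of_mem _ hum _ (Nat.succ_pos i)
  choose ε hεm hε using fun i => hφ _ (he i)
  have hkey : ∀ i : ℕ, c (i + 2) * u ^ (i + 2) = c 0 * φ (ε i) := by
    intro i
    rw [hε, hu]; ring
  have hkey1 : c 1 * u = -c 0 := by
    rw [hu]
    have : c 1 * -(c 0 * d) = -(c 0 * (c 1 * d)) := by ring
    rw [this, hc1, mul_one]
  let r : A[X] := X ^ (m + 1) - X ^ m + ∑ i ∈ Finset.range m, C (ε i) * X ^ (m - 1 - i)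
  have hdeg : (-X ^ m + ∑ i ∈ Finset.range m, C (ε i) * X ^ (m - 1 - i) : A[X]).degree
      < ((m + 1 : ℕ) : WithBot ℕ) := by
    refine lt_of_le_of_lt (degree_add_le _ _) (max_lt ?_ ?_)
    · rw [degree_neg]
      exact lt_of_le_of_lt (degree_X_pow_le m) (by exact_mod_cast Nat.lt_succ_self m)
    · refine lt_of_le_of_lt (degree_sum_le _ _) ?_
      rw [Finset.sup_lt_iff (WithBot.bot_lt_coe _)]
      intro i hi
      refine lt_of_le_of_lt (degree_C_mul_X_pow_le _ _) ?_
      have := Finset.mem_range.mp hi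
      exact_mod_cast (by omega : m - 1 - i < m + 1)
  have hr : r.Monic := by
    have : r = X ^ (m + 1) + (-X ^ m + ∑ i ∈ Finset.range m, C (ε i) * X ^ (m - 1 - i)) := by
      simp only [r]; ring
    rw [this]
    exact monic_X_pow_add hdeg
  have hr1 : r.eval 1 ∈ maximalIdeal A := by
    have : r.eval 1 = ∑ i ∈ Finset.range m, ε i := by
      simp [r, eval_finsetSum]
    rw [this]
    exact Ideal.sum_mem _ fun i _ => hεm i
  have hr2 : IsUnit (r.derivative.eval 1) := by
    have h : r.derivative.eval 1 = 1 + ∑ i ∈ Finset.range m, ε i * ((m - 1 - i : ℕ) : A) := by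
      simp [r, eval_finsetSum, derivative_X_pow]
    rw [h]
    have hmem : ∑ i ∈ Finset.range m, ε i * ((m - 1 - i : ℕ) : A) ∈ maximalIdeal A :=
      Ideal.sum_mem _ fun i _ => Ideal.mul_mem_right _ _ (hεm i)
    have := isUnit_one_sub_self_of_mem_nonunits _ (neg_mem hmem)
    simpa using this
  obtain ⟨y, hy, hy1⟩ := HenselianLocalRing.is_henselian r hr 1 hr1 hr2
  have hyu : IsUnit y := by
    have := isUnit_one_sub_self_of_mem_nonunits _ (neg_mem hy1)
    simpa using this
  obtain ⟨yinv, hyinv⟩ := hyu.exists_right_inv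
  set z : B := φ yinv with hz
  have hyz : φ y * z = 1 := by rw [hz, ← map_mul, hyinv, map_one]
  have hpow : ∀ k j : ℕ, (φ y) ^ k * z ^ (k + j) = z ^ j := by
    intro k j
    rw [pow_add, ← mul_assoc, ← mul_pow, hyz, one_pow, one_mul]
  have hr0 : φ (r.eval y) = 0 := by
    have : r.eval y = 0 := hy
    rw [this, map_zero]
  have hexp : φ (r.eval y) = (φ y) ^ (m + 1) - (φ y) ^ m +
      ∑ i ∈ Finset.range m, φ (ε i) * (φ y) ^ (m - 1 - i) := by
    simp [r, eval_finsetSum]
  have hmain : 1 - z + ∑ i ∈ Finset.range m, φ (ε i) * z ^ (i + 2) = 0 := by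
    have h0 : ((φ y) ^ (m + 1) - (φ y) ^ m +
        ∑ i ∈ Finset.range m, φ (ε i) * (φ y) ^ (m - 1 - i)) * z ^ (m + 1) = 0 := by
      rw [← hexp, hr0, zero_mul]
    rw [add_mul, sub_mul, Finset.sum_mul] at h0
    have h1 : (φ y) ^ (m + 1) * z ^ (m + 1) = 1 := by simpa using hpow (m + 1) 0
    have h2 : (φ y) ^ m * z ^ (m + 1) = z := by simpa using hpow m 1
    have h3 : ∀ i ∈ Finset.range m,
        φ (ε i) * (φ y) ^ (m - 1 - i) * z ^ (m + 1) = φ (ε i) * z ^ (i + 2) := by
      intro i hi
      have hlt := Finset.mem_range.mp hi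
      have hsplit : z ^ (m + 1) = z ^ ((m - 1 - i) + (i + 2)) := by
        congr 1; omega
      rw [mul_assoc, hsplit, hpow]
    rw [h1, h2, Finset.sum_congr rfl h3] at h0
    exact h0
  refine ⟨u * z + a₀, ?_, ?_⟩
  · show f.eval (u * z + a₀) = 0
    rw [← taylor_eval, eval_eq_sum_range, hm, Finset.sum_range_succ', Finset.sum_range_succ']
    have hterm : ∀ i ∈ Finset.range m, (taylor a₀ f).coeff (i + 1 + 1) * (u * z) ^ (i + 1 + 1) =
        c 0 * (φ (ε i) * z ^ (i + 2)) := by
      intro i _
      have := hkey i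
      calc (taylor a₀ f).coeff (i + 1 + 1) * (u * z) ^ (i + 1 + 1)
          = (c (i + 2) * u ^ (i + 2)) * z ^ (i + 2) := by rw [mul_pow]; ring
        _ = c 0 * (φ (ε i) * z ^ (i + 2)) := by rw [this]; ring
    rw [Finset.sum_congr rfl hterm, ← Finset.mul_sum]
    have h1' : (taylor a₀ f).coeff (0 + 1) * (u * z) ^ (0 + 1) = -c 0 * z := by
      have : (taylor a₀ f).coeff (0 + 1) * (u * z) ^ (0 + 1) = (c 1 * u) * z := by
        simp only [zero_add, pow_one]; ring
      rw [this, hkey1]
    rw [h1']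
    have h0' : (taylor a₀ f).coeff 0 * (u * z) ^ 0 = c 0 := by simp [hc]
    rw [h0']
    have : c 0 * ∑ i ∈ Finset.range m, φ (ε i) * z ^ (i + 2) + -c 0 * z + c 0 =
        c 0 * (1 - z + ∑ i ∈ Finset.range m, φ (ε i) * z ^ (i + 2)) := by ring
    rw [this, hmain, mul_zero]
  · have : u * z + a₀ - a₀ = u * z := by ring
    rw [this]
    exact Ideal.mul_mem_right _ _ hum

/-- Let V be a Henselian valuation ring and p a prime ideal of V. Then the local rings V_p (localisation
at p) and V/p are Henselian. (Both are again valuation rings, which is elementary and not restated.) -/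
theorem result (V : Type u) [CommRing V]
    [IsDomain V] [ValuationRing V] [HenselianLocalRing V] (p : Ideal V) [p.IsPrime] :
    HenselianLocalRing (Localization.AtPrime p) ∧ HenselianLocalRing (V ⧸ p) := by
  haveI : IsLocalRing V := inferInstance
  constructor
  · refine henselian_transfer (algebraMap V (Localization.AtPrime p)) ?_
    intro x hx
    rw [← Localization.AtPrime.map_eq_maximalIdeal,
      IsLocalization.mem_map_algebraMap_iff p.primeCompl] at hx
    obtain ⟨⟨⟨a, ha⟩, ⟨s, hs⟩⟩, hx⟩ := hx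
    simp only at hx
    rcases ValuationRing.dvd_total a s with ⟨t, ht⟩ | ⟨t, ht⟩
    · exfalso
      apply hs
      rw [ht]
      exact Ideal.mul_mem_right _ _ ha
    · have htp : t ∈ p := by
        rw [ht] at ha
        rcases Ideal.IsPrime.mem_or_mem inferInstance ha with h | h
        · exact (hs h).elim
        · exact h
      refine ⟨t, IsLocalRing.le_maximalIdeal_of_isPrime p htp, ?_⟩
      have hsu : IsUnit (algebraMap V (Localization.AtPrime p) s) :=
        IsLocalization.map_units (Localization.AtPrime p) (⟨s, hs⟩ : p.primeCompl)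
      rw [ht, map_mul, mul_comm] at hx
      exact (hsu.mul_left_cancel hx).symm
  · haveI : Nontrivial (V ⧸ p) := Ideal.Quotient.nontrivial_iff.mpr (Ideal.IsPrime.ne_top inferInstance)
    haveI : IsLocalRing (V ⧸ p) :=
      IsLocalRing.of_surjective' (Ideal.Quotient.mk p) Ideal.Quotient.mk_surjective
    refine henselian_transfer (Ideal.Quotient.mk p) ?_
    intro x hx
    obtain ⟨v, rfl⟩ := Ideal.Quotient.mk_surjective x
    refine ⟨v, ?_, rfl⟩
    rw [IsLocalRing.mem_maximalIdeal, mem_nonunits_iff] at hx ⊢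
    intro hv
    exact hx (hv.map _)

end Groth.Agent.S16174
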