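import Groth.Statements.S16178
import Groth.Agent.S5929
import Groth.Agent.Lib.Helper15.LocalFibrePd
import Groth.Agent.Lib.Helper15.LocDescent
import Groth.Agent.Lib.Helper76.RegularLocalGlDim

set_option autoImplicit false
universe u
open CategoryTheory
open CAlg

namespace Groth.Agent.S16178

/-- Let V be a valuation ring, B a flat V-algebra of finite presentation, q a prime ideal of B lying
over the prime p of V, A = B_q the local ring of Spec B at q, and suppose that the local ring A/pA
of the fibre over p at q is a regular local ring of dimension n. Then every finitely presented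
A-module M which is flat as a V-module has projective dimension at most n over A. -/
theorem result (V : Type u) [CommRing V] [IsDomain V] [ValuationRing V]
    (B : Type u) [CommRing B] [Algebra V B] [Module.Flat V B] [Algebra.FinitePresentation V B]
    (q : Ideal B) [q.IsPrime] (n : ℕ)
    (hreg : IsRegularLocalRing (Localization.AtPrime q ⧸ Ideal.map (algebraMap V (Localization.AtPrime q)) (Ideal.comap (algebraMap V B) q)))
    (hn : ringKrullDim (Localization.AtPrime q ⧸ Ideal.map (algebraMap V (Localization.AtPrime q)) (Ideal.comap (algebraMap V B) q)) = n)
    (M : Type u) [AddCommGroup M] [Module (Localization.AtPrime q) M] [Module.FinitePresentation (Localization.AtPrime q) M]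
    [Module V M] [IsScalarTower V (Localization.AtPrime q) M] [Module.Flat V M] :
    HasProjectiveDimensionLE (ModuleCat.of (Localization.AtPrime q) M) n := by
  classical
  open Groth.Agent.Lib.Helper15.Syzygy Groth.Agent.Lib.Helper15.FibreProj
    Groth.Agent.Lib.Helper15.FibrePd Groth.Agent.Lib.Helper15.LocalFibrePd
    Groth.Agent.Lib.Helper15.LocDescent TensorProduct in
  -- descend `M` to a finitely presented `B`-module `N`
  obtain ⟨N, _, _, _, ⟨e⟩⟩ := exists_fp_descent q.primeCompl (Localization.AtPrime q) M
  letI : Module V N := Module.compHom N (algebraMap V B)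
  haveI : IsScalarTower V B N := IsScalarTower.of_algebraMap_smul fun _ _ => rfl
  -- `N_q` is flat over `V`
  have hq : Module.Flat V (LocalizedModule q.primeCompl N) := by
    let e2 : (Localization.AtPrime q ⊗[B] N) ≃ₗ[B] LocalizedModule q.primeCompl N :=
      IsLocalizedModule.linearEquiv q.primeCompl (TensorProduct.mk B (Localization.AtPrime q) N 1)
        (LocalizedModule.mkLinearMap q.primeCompl N)
    exact Module.Flat.of_linearEquiv ((e2.symm.restrictScalars V).trans (e.restrictScalars V))
  obtain ⟨g, hg, hflat⟩ := exists_away_flat V N q hq
  -- the global resolution over `B₁ = B_g`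
  haveI : Algebra.FinitePresentation V (Localization.Away g) :=
    Algebra.FinitePresentation.trans V B (Localization.Away g)
  obtain ⟨Pres, hP⟩ := Groth.Agent.S5929.result V (Localization.Away g) (Localization.Away g ⊗[B] N)
  let C := Chain.ofRes Pres hP
  let e0 : C.Z 0 ≅ ModuleCat.of (Localization.Away g) (Localization.Away g ⊗[B] N) :=
    Chain.ofResIso Pres hP
  letI := fun (X : ModuleCat.{u} (Localization.Away g)) => modA V X
  have h0 : Module.Flat V (C.Z 0) := flat_of_iso V (C.Z 0) (Localization.Away g ⊗[B] N) e0
  -- `A = B_q` as a `B₁`-algebra
  have hunit : IsUnit (algebraMap B (Localization.AtPrime q) g) :=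
    IsLocalization.map_units (M := q.primeCompl) (Localization.AtPrime q) ⟨g, hg⟩
  letI : Algebra (Localization.Away g) (Localization.AtPrime q) :=
    (IsLocalization.Away.lift g hunit).toAlgebra
  haveI : IsScalarTower B (Localization.Away g) (Localization.AtPrime q) :=
    IsScalarTower.of_algebraMap_eq fun x => (IsLocalization.Away.lift_eq g hunit x).symm
  haveI : IsScalarTower V (Localization.Away g) (Localization.AtPrime q) :=
    IsScalarTower.of_algebraMap_eq fun x => by
      rw [IsScalarTower.algebraMap_apply V B (Localization.AtPrime q),
        IsScalarTower.algebraMap_apply V B (Localization.Away g),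
        ← IsScalarTower.algebraMap_apply B (Localization.Away g) (Localization.AtPrime q)]
  haveI : Module.Flat (Localization.Away g) (Localization.AtPrime q) :=
    (Module.flat_iff_of_isLocalization (Localization.Away g) (Submonoid.powers g)
      (Localization.AtPrime q)).mpr inferInstance
  -- the key identity
  have hp : ∀ (q' : Ideal (Localization.AtPrime q)) [q'.IsMaximal],
      Ideal.comap (algebraMap V B) q ≤ q'.under V := by
    intro q' hq' a ha
    rw [IsLocalRing.eq_maximalIdeal hq']
    show algebraMap V (Localization.AtPrime q) a ∈
      IsLocalRing.maximalIdeal (Localization.AtPrime q)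
    rw [IsScalarTower.algebraMap_apply V B (Localization.AtPrime q)]
    have h1 : algebraMap V B a ∈ q := ha
    rw [← Localization.AtPrime.comap_maximalIdeal (I := q)] at h1
    exact h1
  have key := Chain.projectiveDimension_quot_tensor_eq V (Localization.AtPrime q) C h0
    (Localization.Away g ⊗[B] N) e0 (Ideal.comap (algebraMap V B) q) hp
  -- identify `(baseChange A C).Z 0` with `M`
  let i1 : (Chain.baseChange (Localization.AtPrime q) C).Z 0 ≅
      ModuleCat.of (Localization.AtPrime q)
        (Localization.AtPrime q ⊗[Localization.Away g] (Localization.Away g ⊗[B] N)) :=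
    (LinearEquiv.baseChange (Localization.Away g) (Localization.AtPrime q) _ _
      e0.toLinearEquiv).toModuleIso
  let i2 : (Localization.AtPrime q ⊗[Localization.Away g] (Localization.Away g ⊗[B] N))
      ≃ₗ[Localization.AtPrime q] (Localization.AtPrime q ⊗[B] N) :=
    AlgebraTensorModule.cancelBaseChange B (Localization.Away g) (Localization.AtPrime q)
      (Localization.AtPrime q) N
  have hpd : projectiveDimension (ModuleCat.of (Localization.AtPrime q) M) =
      projectiveDimension ((Chain.baseChange (Localization.AtPrime q) C).Z 0) := by
    rw [projectiveDimension_eq_of_iso i1, projectiveDimension_eq_of_iso i2.toModuleIso,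
      projectiveDimension_eq_of_iso e.toModuleIso]
  show HasProjectiveDimensionLT (ModuleCat.of (Localization.AtPrime q) M) (n + 1)
  rw [← projectiveDimension_lt_iff, hpd, ← key, projectiveDimension_lt_iff]
  haveI := hreg
  exact Groth.Agent.Lib.Helper76.hasProjectiveDimensionLT_of_isRegularLocalRing _ n hn _

end Groth.Agent.S16178
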