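import Groth.Statements.S2049
-- import your own Groth.Agent.* helpers here
import Groth.Agent.Lib.Helper58.NagataFP

set_option autoImplicit false
universe u
open CAlg

namespace Groth.Agent.S2049

/-- a flat module over a valuation ring is torsion-free. -/
theorem torsionFree_of_flat (A : Type*) [CommRing A] [IsDomain A] [ValuationRing A]
    (M : Type*) [AddCommGroup M] [Module A M] [Module.Flat A M] :
    ∀ a : A, a ≠ 0 → ∀ m : M, a • m = 0 → m = 0 := by
  intro a ha m hm
  have h1 : Submodule.torsion A M = ⊥ :=
    (Module.Flat.flat_iff_torsion_eq_bot_of_isBezout (R := A) (M := M)).mp inferInstance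
  have h2 : m ∈ Submodule.torsion A M := by
    rw [Submodule.mem_torsion_iff]
    exact ⟨⟨a, mem_nonZeroDivisors_of_ne_zero ha⟩, hm⟩
  rw [h1] at h2
  exact (Submodule.mem_bot A).mp h2

/-- Let `A` be a valuation ring, `A → B` a local homomorphism of local rings essentially of finite type,
and `M` a finite `B`-module which is flat over `A`. Then `M` is finitely presented over `B`. -/
theorem result {A B M : Type u} [CommRing A] [IsDomain A]
    [ValuationRing A] [CommRing B] [IsLocalRing B] [Algebra A B] [IsLocalHom (algebraMap A B)]
    [Algebra.EssFiniteType A B] [AddCommGroup M] [Module B M] [Module A M] [IsScalarTower A B M]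
    [Module.Finite B M] [Module.Flat A M] : Module.FinitePresentation B M := by
  exact Groth.Agent.Lib.Helper58.NagataFP.finitePresentation_of_essFiniteType A B M
    (torsionFree_of_flat A M)

end Groth.Agent.S2049
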