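import Groth.Statements.S16179
-- import your own Groth.Agent.* helpers here
import Groth.Agent.S16178
import Groth.Agent.S2049
import Groth.Agent.Lib.Helper58.NagataFP

set_option autoImplicit false
universe u
open CategoryTheory
open CAlg

namespace Groth.Agent.S16179

/-- a torsion-free module over a valuation ring is flat. -/
theorem flat_of_torsionFree (A : Type*) [CommRing A] [IsDomain A] [ValuationRing A]
    (M : Type*) [AddCommGroup M] [Module A M]
    (htf : ∀ a : A, a ≠ 0 → ∀ m : M, a • m = 0 → m = 0) : Module.Flat A M := by
  rw [Module.Flat.flat_iff_torsion_eq_bot_of_isBezout, Submodule.eq_bot_iff]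
  intro m hm
  rw [Submodule.mem_torsion_iff] at hm
  obtain ⟨a, ha⟩ := hm
  exact htf a (nonZeroDivisors.ne_zero a.2) m ha

/-- the kernel of a surjection from a finite free module onto a finitely presented module over the
local ring of a flat finitely presented algebra over a valuation ring has `pd ≤ n`. -/
theorem pd_ker_le (V : Type u) [CommRing V] [IsDomain V] [ValuationRing V]
    (B : Type u) [CommRing B] [Algebra V B] [Module.Flat V B] [Algebra.FinitePresentation V B]
    (q : Ideal B) [q.IsPrime] (n : ℕ)
    (hreg : IsRegularLocalRing (Localization.AtPrime q ⧸ Ideal.map (algebraMap V (Localization.AtPrime q)) (Ideal.comap (algebraMap V B) q)))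
    (hn : ringKrullDim (Localization.AtPrime q ⧸ Ideal.map (algebraMap V (Localization.AtPrime q)) (Ideal.comap (algebraMap V B) q)) = n)
    (r : ℕ) (K : Submodule (Localization.AtPrime q) (Fin r → Localization.AtPrime q)) (hK : K.FG) :
    Module.FinitePresentation (Localization.AtPrime q) K ∧
      HasProjectiveDimensionLE (ModuleCat.of (Localization.AtPrime q) K) n := by
  classical
  have : Module.Finite (Localization.AtPrime q) K := Module.Finite.of_fg hK
  have : Module.Flat V (Localization.AtPrime q) := Module.Flat.trans V B (Localization.AtPrime q)
  have htfA := Groth.Agent.S2049.torsionFree_of_flat V (Localization.AtPrime q)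
  have htf : ∀ a : V, a ≠ 0 → ∀ m : K, a • m = 0 → m = 0 := by
    intro a ha m hm
    apply Subtype.ext
    funext j
    apply htfA a ha
    have := congrArg (fun z : K => (z : Fin r → Localization.AtPrime q) j) hm
    simpa using this
  have : Algebra.FiniteType V B := inferInstance
  have hfp : Module.FinitePresentation (Localization.AtPrime q) K :=
    Groth.Agent.Lib.Helper58.NagataFP.finitePresentation_of_isLocalization V B q.primeCompl
      (Localization.AtPrime q) K htf
  have : Module.Flat V K := flat_of_torsionFree V K htf
  exact ⟨hfp, Groth.Agent.S16178.result V B q n hreg hn K⟩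

/-- Let V be a valuation ring, B a flat V-algebra of finite presentation, q a prime ideal of B lying
over the prime p of V, A = B_q the local ring of Spec B at q, and suppose that the local ring A/pA
of the fibre over p at q is a regular local ring of dimension n. Then every finitely presented
A-module M has projective dimension at most n + 1 over A. -/
theorem result (V : Type u) [CommRing V] [IsDomain V] [ValuationRing V]
    (B : Type u) [CommRing B] [Algebra V B] [Module.Flat V B] [Algebra.FinitePresentation V B]
    (q : Ideal B) [q.IsPrime] (n : ℕ)
    (hreg : IsRegularLocalRing (Localization.AtPrime q ⧸ Ideal.map (algebraMap V (Localization.AtPrime q)) (Ideal.comap (algebraMap V B) q)))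
    (hn : ringKrullDim (Localization.AtPrime q ⧸ Ideal.map (algebraMap V (Localization.AtPrime q)) (Ideal.comap (algebraMap V B) q)) = n)
    (M : Type u) [AddCommGroup M] [Module (Localization.AtPrime q) M] [Module.FinitePresentation (Localization.AtPrime q) M] :
    HasProjectiveDimensionLE (ModuleCat.of (Localization.AtPrime q) M) (n + 1) := by
  classical
  obtain ⟨r, π, hπ⟩ := Module.Finite.exists_fin' (Localization.AtPrime q) M
  have hKfg : (LinearMap.ker π).FG := Module.FinitePresentation.fg_ker π hπ
  obtain ⟨-, hK⟩ := pd_ker_le V B q n hreg hn r (LinearMap.ker π) hKfg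
  have hS := LinearMap.shortExact_shortComplexKer hπ
  have hproj : Projective (ModuleCat.of (Localization.AtPrime q) (Fin r → Localization.AtPrime q)) :=
    (IsProjective.iff_projective _).mp inferInstance
  have h2 : HasProjectiveDimensionLT
      (ModuleCat.of (Localization.AtPrime q) (Fin r → Localization.AtPrime q)) (n + 1 + 1) :=
    hasProjectiveDimensionLT_of_ge _ 1 (n + 1 + 1) (by omega)
  exact hS.hasProjectiveDimensionLT_X₃ (n + 1) hK h2

end Groth.Agent.S16179
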