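import Groth.Statements.S1618
import Groth.Agent.Lib.Helper73.DimFT.Scheme

set_option autoImplicit false
universe u
open CategoryTheory CategoryTheory.Limits AlgebraicGeometry
open Variety

namespace Groth.Agent.S1618

/-- Let X be irreducible and locally of finite type over a field k. Then every nonempty open subset of X
has the same Krull dimension as X. -/
theorem result (k : Type u) [Field k] (X : Scheme.{u}) [X.Over (Spec (CommRingCat.of k))] [LocallyOfFiniteType (X ↘ (Spec (CommRingCat.of k)))] [IrreducibleSpace X]
    (U : X.Opens) (hU : (U : Set X).Nonempty) : topologicalKrullDim U = topologicalKrullDim X := by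
  have hδ := Groth.Agent.Lib.Helper73.isDimFun_trdegNat (X ↘ (Spec (CommRingCat.of k)))
  have hξ : genericPoint X ∈ (U : Set X) := by
    obtain ⟨u, hu⟩ := hU
    exact (genericPoint_specializes u).mem_open U.isOpen hu
  rw [Groth.Agent.Lib.Helper73.topologicalKrullDim_eq_iSup_trdegNat (X ↘ (Spec (CommRingCat.of k)))]
  have h1 := Groth.Agent.Lib.Helper73.topologicalKrullDim_open_eq_iSup_trdegNat
    (X ↘ (Spec (CommRingCat.of k))) (W := (U : Set X)) U.isOpen
  refine h1.trans ?_
  apply le_antisymm
  · refine iSup_le fun x => ?_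
    exact le_iSup (fun x : X => ((Groth.Agent.Lib.Helper73.trdegNat
      (X ↘ (Spec (CommRingCat.of k))) x : ℕ∞) : WithBot ℕ∞)) x.1
  · refine iSup_le fun x => ?_
    have := hδ.le_of_specializes (genericPoint_specializes x)
    refine le_trans ?_ (le_iSup (fun x : ↥(U : Set X) => ((Groth.Agent.Lib.Helper73.trdegNat
      (X ↘ (Spec (CommRingCat.of k))) x.1 : ℕ∞) : WithBot ℕ∞)) ⟨genericPoint X, hξ⟩)
    exact_mod_cast this

end Groth.Agent.S1618
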