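import Groth.Statements.S16180
-- import your own Groth.Agent.* helpers here
import Groth.Agent.S16178
import Groth.Agent.S16179
import Groth.Agent.S2049
import Groth.Agent.Lib.Helper58.NagataFP

set_option autoImplicit false
universe u
open CategoryTheory
open CAlg

namespace Groth.Agent.S16180

/-- the dual of a finitely presented module is the kernel of a map from the dual of a finite free
module to a finite free module. -/
theorem dual_equiv_ker (A : Type u) [CommRing A] (N : Type u) [AddCommGroup N] [Module A N]
    [Module.FinitePresentation A N] :
    ∃ (a b : ℕ) (g : Module.Dual A (Fin a → A) →ₗ[A] (Fin b → A)),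
      Nonempty (Module.Dual A N ≃ₗ[A] LinearMap.ker g) := by
  classical
  obtain ⟨a, π, hπ⟩ := Module.Finite.exists_fin' A N
  have hKfg : (LinearMap.ker π).FG := Module.FinitePresentation.fg_ker π hπ
  obtain ⟨b, Γ, hΓ⟩ := Submodule.fg_iff_exists_fin_generating_family.mp hKfg
  let g : Module.Dual A (Fin a → A) →ₗ[A] (Fin b → A) :=
    LinearMap.pi fun l => LinearMap.applyₗ (Γ l)
  have hg : ∀ φ l, g φ l = φ (Γ l) := fun _ _ => rfl
  refine ⟨a, b, g, ⟨?_⟩⟩
  have hinj : Function.Injective π.dualMap := LinearMap.dualMap_injective_of_surjective hπ
  have hrange : LinearMap.range π.dualMap = LinearMap.ker g := by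
    rw [LinearMap.range_dualMap_eq_dualAnnihilator_ker_of_surjective π hπ]
    ext φ
    rw [Submodule.mem_dualAnnihilator, LinearMap.mem_ker]
    constructor
    · intro h
      funext l
      rw [hg]
      apply h
      rw [← hΓ]
      exact Submodule.subset_span ⟨l, rfl⟩
    · intro h w hw
      rw [← hΓ] at hw
      have hle : Submodule.span A (Set.range Γ) ≤ LinearMap.ker φ := by
        rw [Submodule.span_le]
        rintro _ ⟨l, rfl⟩
        have := congrFun h l
        rw [hg] at this
        exact this
      exact hle hw
  exact (LinearEquiv.ofInjective π.dualMap hinj).trans (LinearEquiv.ofEq _ _ hrange)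

section

variable (V : Type u) [CommRing V] [IsDomain V] [ValuationRing V]
    (B : Type u) [CommRing B] [Algebra V B] [Module.Flat V B] [Algebra.FinitePresentation V B]
    (q : Ideal B) [q.IsPrime] (n : ℕ)
    (hreg : IsRegularLocalRing (Localization.AtPrime q ⧸ Ideal.map (algebraMap V (Localization.AtPrime q)) (Ideal.comap (algebraMap V B) q)))
    (hn : ringKrullDim (Localization.AtPrime q ⧸ Ideal.map (algebraMap V (Localization.AtPrime q)) (Ideal.comap (algebraMap V B) q)) = n)

include hreg hn in
/-- a finitely generated submodule of a free module over the local ring of a flat finitely presented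
algebra over a valuation ring is finitely presented of `pd ≤ n`. -/
theorem pd_sub_le (F : Type u) [AddCommGroup F] [Module (Localization.AtPrime q) F]
    [Module.Free (Localization.AtPrime q) F]
    (K : Submodule (Localization.AtPrime q) F) (hK : K.FG) :
    Module.FinitePresentation (Localization.AtPrime q) K ∧
      HasProjectiveDimensionLE (ModuleCat.of (Localization.AtPrime q) K) n := by
  classical
  let _ : Module V F := Module.compHom F (algebraMap V (Localization.AtPrime q))
  have : IsScalarTower V (Localization.AtPrime q) F :=
    IsScalarTower.of_algebraMap_smul fun _ _ => rfl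
  have : Module.Finite (Localization.AtPrime q) K := Module.Finite.of_fg hK
  have : Module.Flat V (Localization.AtPrime q) := Module.Flat.trans V B (Localization.AtPrime q)
  have : Module.Flat V F := Module.Flat.trans V (Localization.AtPrime q) F
  have htfF := Groth.Agent.S2049.torsionFree_of_flat V F
  have htf : ∀ a : V, a ≠ 0 → ∀ m : K, a • m = 0 → m = 0 := by
    intro a ha m hm
    apply Subtype.ext
    apply htfF a ha
    have := congrArg (fun z : K => (z : F)) hm
    simpa using this
  have : Algebra.FiniteType V B := inferInstance
  have hfp : Module.FinitePresentation (Localization.AtPrime q) K :=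
    Groth.Agent.Lib.Helper58.NagataFP.finitePresentation_of_isLocalization V B q.primeCompl
      (Localization.AtPrime q) K htf
  have : Module.Flat V K := Groth.Agent.S16179.flat_of_torsionFree V K htf
  exact ⟨hfp, Groth.Agent.S16178.result V B q n hreg hn K⟩

end

section Abstract

variable (A : Type u) [CommRing A] (n : ℕ)
  (H : ∀ (F : Type u) [AddCommGroup F] [Module A F] [Module.Free A F] (K : Submodule A F),
    K.FG → Module.FinitePresentation A K ∧ HasProjectiveDimensionLE (ModuleCat.of A K) n)

include H in
/-- the dual of a finitely presented module is finitely presented. -/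
theorem dual_fp (M : Type u) [AddCommGroup M] [Module A M] [Module.FinitePresentation A M] :
    Module.FinitePresentation A (Module.Dual A M) := by
  obtain ⟨a, b, g, ⟨e⟩⟩ := dual_equiv_ker A M
  have hIfg : (LinearMap.range g).FG := by
    rw [LinearMap.range_eq_map]
    exact (Module.Finite.fg_top).map g
  obtain ⟨hIfp, -⟩ := H (Fin b → A) (LinearMap.range g) hIfg
  have hsurj : Function.Surjective g.rangeRestrict := g.surjective_rangeRestrict
  have hker : (LinearMap.ker g.rangeRestrict).FG :=
    Module.FinitePresentation.fg_ker g.rangeRestrict hsurj
  rw [LinearMap.ker_rangeRestrict] at hker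
  obtain ⟨hLfp, -⟩ := H (Module.Dual A (Fin a → A)) (LinearMap.ker g) hker
  exact Module.FinitePresentation.of_equiv (M := LinearMap.ker g) e.symm

include H in
theorem main (M : Type u) [AddCommGroup M] [Module A M] [Module.FinitePresentation A M]
    [Module.IsReflexive A M] : HasProjectiveDimensionLE (ModuleCat.of A M) (n - 1) := by
  classical
  have hdfp := dual_fp A n H M
  obtain ⟨a, b, g, ⟨e⟩⟩ := dual_equiv_ker A (Module.Dual A M)
  have hIfg : (LinearMap.range g).FG := by
    rw [LinearMap.range_eq_map]
    exact (Module.Finite.fg_top).map g
  obtain ⟨-, hIpd⟩ := H (Fin b → A) (LinearMap.range g) hIfg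
  have hsurj : Function.Surjective g.rangeRestrict := g.surjective_rangeRestrict
  have hS := LinearMap.shortExact_shortComplexKer hsurj
  -- the iso `M ≃ ker g.rangeRestrict`
  let e' : M ≃ₗ[A] LinearMap.ker g.rangeRestrict :=
    ((Module.evalEquiv A M).trans e).trans
      (LinearEquiv.ofEq _ _ (LinearMap.ker_rangeRestrict g).symm)
  have hproj : Projective (ModuleCat.of A (Module.Dual A (Fin a → A))) :=
    (IsProjective.iff_projective _).mp inferInstance
  have h2 : HasProjectiveDimensionLT (ModuleCat.of A (Module.Dual A (Fin a → A))) (n - 1 + 1) :=
    hasProjectiveDimensionLT_of_ge _ 1 (n - 1 + 1) (by omega)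
  have h3 : HasProjectiveDimensionLT (ModuleCat.of A (LinearMap.range g)) (n - 1 + 1 + 1) :=
    hasProjectiveDimensionLT_of_ge _ (n + 1) (n - 1 + 1 + 1) (by omega)
  have h1 := hS.hasProjectiveDimensionLT_X₁ (n - 1 + 1) h2 h3
  have eiso : ModuleCat.of A M ≅ ModuleCat.of A (LinearMap.ker g.rangeRestrict) :=
    LinearEquiv.toModuleIso (g₁ := inferInstance) (g₂ := inferInstance) (m₁ := inferInstance)
      (m₂ := inferInstance) e'
  exact hasProjectiveDimensionLT_of_iso eiso.symm (n - 1 + 1)

end Abstract

/-- Let V be a valuation ring, B a flat V-algebra of finite presentation, q a prime ideal of B lying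
over the prime p of V, A = B_q the local ring of Spec B at q, and suppose that the local ring A/pA
of the fibre over p at q is a regular local ring of dimension n. Then every finitely presented
A-module M which is reflexive (the evaluation map into its double A-dual is bijective) has
projective dimension at most max(0, n - 1) over A (written with truncated subtraction of natural
numbers). -/
theorem result (V : Type u) [CommRing V] [IsDomain V] [ValuationRing V]
    (B : Type u) [CommRing B] [Algebra V B] [Module.Flat V B] [Algebra.FinitePresentation V B]
    (q : Ideal B) [q.IsPrime] (n : ℕ)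
    (hreg : IsRegularLocalRing (Localization.AtPrime q ⧸ Ideal.map (algebraMap V (Localization.AtPrime q)) (Ideal.comap (algebraMap V B) q)))
    (hn : ringKrullDim (Localization.AtPrime q ⧸ Ideal.map (algebraMap V (Localization.AtPrime q)) (Ideal.comap (algebraMap V B) q)) = n)
    (M : Type u) [AddCommGroup M] [Module (Localization.AtPrime q) M] [Module.FinitePresentation (Localization.AtPrime q) M]
    [Module.IsReflexive (Localization.AtPrime q) M] :
    HasProjectiveDimensionLE (ModuleCat.of (Localization.AtPrime q) M) (n - 1) := by
  exact main (Localization.AtPrime q) n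
    (fun F _ _ _ K hK => pd_sub_le V B q n hreg hn F K hK) M

end Groth.Agent.S16180
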