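import Groth.Statements.S16188
-- import your own Groth.Agent.* helpers here

set_option autoImplicit false
universe u
open CategoryTheory AlgebraicGeometry TopologicalSpace
open SchMor

namespace Groth.Agent.S16188

/-- Let f : X → Y be a morphism of schemes with X reduced and irreducible. Then f factors through an
irreducible component of Y carrying its reduced closed-subscheme structure: there are an irreducible
component Z of Y and a morphism g from X to the closed subscheme of Y cut out by the vanishing ideal
sheaf of Z with g followed by the inclusion equal to f; that closed subscheme is integral. -/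
theorem result
    {X Y : Scheme.{u}} (f : X ⟶ Y) [IsReduced X] [IrreducibleSpace X] :
    ∃ (Z : Closeds Y) (_ : (Z : Set Y) ∈ irreducibleComponents Y)
      (_ : IsIntegral (Scheme.IdealSheafData.vanishingIdeal Z).subscheme)
      (g : X ⟶ (Scheme.IdealSheafData.vanishingIdeal Z).subscheme),
      g ≫ (Scheme.IdealSheafData.vanishingIdeal Z).subschemeι = f := by
  have hirr : IsIrreducible (Set.range f) := by
    rw [← Set.image_univ]
    exact (IrreducibleSpace.isIrreducible_univ X).image f f.continuous.continuousOn
  obtain ⟨Z₀, hZ₀, hsub⟩ := exists_mem_irreducibleComponents_subset_of_isIrreducible _ hirr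
  have hZ₀closed : IsClosed Z₀ := isClosed_of_mem_irreducibleComponents Z₀ hZ₀
  have hle : Scheme.IdealSheafData.vanishingIdeal ⟨Z₀, hZ₀closed⟩ ≤ f.ker := by
    refine Scheme.IdealSheafData.le_ofIdeals_iff.mpr fun U s hs => ?_
    rw [Scheme.IdealSheafData.vanishingIdeal_ideal] at hs
    rw [RingHom.mem_ker]
    apply eq_zero_of_basicOpen_eq_bot
    rw [← Scheme.preimage_basicOpen]
    ext x
    constructor
    · intro hx
      have hx' : f x ∈ Y.basicOpen s := hx
      have hxU : f x ∈ U.1 := Y.basicOpen_le s hx'
      have hr : f x ∈ Set.range U.2.fromSpec := by rw [U.2.range_fromSpec]; exact hxU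
      obtain ⟨p, hp⟩ := hr
      have hpZ : p ∈ U.2.fromSpec ⁻¹' Z₀ := by
        show U.2.fromSpec p ∈ Z₀
        rw [hp]; exact hsub ⟨x, rfl⟩
      have hsp : s ∈ p.asIdeal := (PrimeSpectrum.mem_vanishingIdeal _ _).mp hs p hpZ
      have hpb : p ∈ U.2.fromSpec ⁻¹ᵁ Y.basicOpen s := by
        show U.2.fromSpec p ∈ Y.basicOpen s
        rw [hp]; exact hx'
      rw [U.2.fromSpec_preimage_basicOpen] at hpb
      exact (hpb hsp).elim
    · intro h; exact h.elim
  refine ⟨⟨Z₀, hZ₀closed⟩, hZ₀, ?_, f.toImage ≫ Scheme.IdealSheafData.inclusion hle, ?_⟩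
  · haveI : IsReduced (Scheme.IdealSheafData.vanishingIdeal ⟨Z₀, hZ₀closed⟩).subscheme := by
      haveI : ∀ U, IsReduced ((Scheme.IdealSheafData.vanishingIdeal
          ⟨Z₀, hZ₀closed⟩).subschemeCover.openCover.X U) := by
        intro U
        show IsReduced (Spec (.of (Γ(Y, U.1) ⧸ (Scheme.IdealSheafData.vanishingIdeal
          ⟨Z₀, hZ₀closed⟩).ideal U)))
        haveI : _root_.IsReduced (Γ(Y, U.1) ⧸ (Scheme.IdealSheafData.vanishingIdeal
          ⟨Z₀, hZ₀closed⟩).ideal U) := by
          rw [← Ideal.isRadical_iff_quotient_reduced, Scheme.IdealSheafData.vanishingIdeal_ideal]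
          exact PrimeSpectrum.isRadical_vanishingIdeal _
        infer_instance
      exact IsReduced.of_openCover _
        (Scheme.IdealSheafData.vanishingIdeal ⟨Z₀, hZ₀closed⟩).subschemeCover.openCover
    haveI : IrreducibleSpace (Scheme.IdealSheafData.vanishingIdeal ⟨Z₀, hZ₀closed⟩).subscheme := by
      have h1 : IsIrreducible ((Scheme.IdealSheafData.vanishingIdeal
          ⟨Z₀, hZ₀closed⟩).support : Set Y) := by
        rw [Scheme.IdealSheafData.coe_support_vanishingIdeal]
        exact hZ₀.1
      exact Subtype.irreducibleSpace h1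
    exact isIntegral_of_irreducibleSpace_of_isReduced _
  · rw [Category.assoc, Scheme.IdealSheafData.inclusion_subschemeι, Scheme.Hom.toImage_imageι]

end Groth.Agent.S16188
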