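import Groth.Statements.S1619
import Groth.Agent.Lib.Helper73.DimFT.Scheme

set_option autoImplicit false
universe u
open CategoryTheory CategoryTheory.Limits AlgebraicGeometry
attribute [local instance] Curv2.stalkAlgebra Curv2.resAlgebra
open Variety

namespace Groth.Agent.S1619

/-- Let X be irreducible and locally of finite type over a field k, with generic point ξ. If the residue
field of ξ has transcendence degree n over k then X has Krull dimension n. -/
theorem result (k : Type u) [Field k] (X : Scheme.{u}) [X.Over (Spec (CommRingCat.of k))] [LocallyOfFiniteType (X ↘ (Spec (CommRingCat.of k)))] [IrreducibleSpace X]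
    (n : ℕ) (hn : Algebra.trdeg k (X.residueField (genericPoint X)) = n) : topologicalKrullDim X = n := by
  have h1 : ((n : ℕ) : Cardinal) =
      (Groth.Agent.Lib.Helper73.trdegNat (X ↘ (Spec (CommRingCat.of k))) (genericPoint X) :
        Cardinal) :=
    hn.symm.trans (Groth.Agent.Lib.Helper73.trdeg_eq_trdegNat (X ↘ (Spec (CommRingCat.of k))) _)
  have h2 : n = Groth.Agent.Lib.Helper73.trdegNat (X ↘ (Spec (CommRingCat.of k)))
      (genericPoint X) := by
    exact_mod_cast h1
  have hδ := Groth.Agent.Lib.Helper73.isDimFun_trdegNat (X ↘ (Spec (CommRingCat.of k)))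
  rw [Groth.Agent.Lib.Helper73.topologicalKrullDim_eq_iSup_trdegNat (X ↘ (Spec (CommRingCat.of k)))]
  apply le_antisymm
  · refine iSup_le fun x => ?_
    have := hδ.le_of_specializes (genericPoint_specializes x)
    rw [← h2] at this
    exact_mod_cast this
  · rw [h2]
    exact le_iSup (fun x : X => ((Groth.Agent.Lib.Helper73.trdegNat
      (X ↘ (Spec (CommRingCat.of k))) x : ℕ∞) : WithBot ℕ∞)) (genericPoint X)

end Groth.Agent.S1619
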