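import Groth.Statements.S16190
import Groth.Agent.Lib.Helper56.SmoothingAlg
import Groth.Agent.Lib.Helper51.SmoothStalk
import Groth.Agent.Lib.Helper64.DimLib
import Groth.Agent.Lib.Helper22.DedekindFree

set_option autoImplicit false
universe u
open CategoryTheory CategoryTheory.Limits AlgebraicGeometry
open Deform

namespace Groth.Agent.S16190

/-- Let k be an algebraically closed field and let X have a geometric smoothing, i.e. there are an
integral k-scheme C smooth of dimension one over k, a k-rational point c of C and a flat proper
morphism π : Y → C whose fibre over c is X (as a k-scheme) and whose fibre over the generic point of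
C is smooth. Then X has a smoothing over Spec k[[t]]: a flat proper morphism P → Spec k[[t]] with
closed fibre X over k and smooth generic fibre P ⊗ Frac k[[t]]. (The published lemma concludes that
X, assumed projective and equidimensional, is formally smoothable; its proof builds exactly this
family over the completed local ring of C at c, identified with k[[t]], and then appeals to a
criterion equating smoothings over a discrete valuation ring with formal smoothings, which is not
restated; the hypotheses on X are not used in the step stated.) -/
theorem result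
    (k : Type u) [Field k] [IsAlgClosed k]
    (X : Scheme.{u}) (pX : X ⟶ Spec (CommRingCat.of k))
    (C : Scheme.{u}) (qC : C ⟶ Spec (CommRingCat.of k)) (c : Spec (CommRingCat.of k) ⟶ C)
    (hc : c ≫ qC = 𝟙 (Spec (CommRingCat.of k))) [IsIntegral C] [Smooth qC]
    (hC : topologicalKrullDim C = 1)
    (Y : Scheme.{u}) (π : Y ⟶ C) [Flat π] [IsProper π] (j : X ⟶ Y) (hsq : IsPullback j pX π c)
    (hgen : Smooth (π.fiberToSpecResidueField (genericPoint C))) :
    ∃ (P : Scheme.{u}) (p : P ⟶ Spec (CommRingCat.of (PowerSeries k))) (_ : Flat p) (_ : IsProper p)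
      (i : X ⟶ P),
      IsPullback i pX p (Spec.map (CommRingCat.ofHom (PowerSeries.constantCoeff (R := k)))) ∧
      Smooth (pullback.snd p
        (Spec.map (CommRingCat.ofHom (algebraMap (PowerSeries k) (FractionRing (PowerSeries k)))))) := by
  classical
  haveI : IsLocallyNoetherian C := LocallyOfFiniteType.isLocallyNoetherian qC
  haveI hreg : IsRegularLocalRing (C.presheaf.stalk (c (IsLocalRing.closedPoint k))) :=
    Groth.Agent.Lib.Helper51.isRegularLocalRing_stalk_of_mem_smoothLocus qC _
      (by rw [qC.smoothLocus_eq_top]; trivial)
  have hdim1 : ringKrullDim (C.presheaf.stalk (c (IsLocalRing.closedPoint k))) ≤ 1 :=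
    (Groth.Agent.Lib.Helper64.DimLib.ringKrullDim_stalk_le C _).trans hC.le
  haveI := Groth.Agent.Lib.Helper22.DedekindFree.isPrincipalIdealRing_of_regular_of_dim_le_one
    (C.presheaf.stalk (c (IsLocalRing.closedPoint k))) hdim1
  obtain ⟨ϖ, hϖ⟩ : ∃ ϖ, IsLocalRing.maximalIdeal (C.presheaf.stalk (c (IsLocalRing.closedPoint k))) =
      Ideal.span {ϖ} :=
    ⟨_, (IsPrincipalIdealRing.principal _).span_singleton_generator.symm⟩
  let ε' : C.presheaf.stalk (c (IsLocalRing.closedPoint k)) ⟶ CommRingCat.of k :=
    Scheme.stalkClosedPointTo c
  have hε' : Spec.map ε' ≫ C.fromSpecStalk (c (IsLocalRing.closedPoint k)) = c :=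
    Scheme.Spec_stalkClosedPointTo_fromSpecStalk c
  let s' : CommRingCat.of k ⟶ C.presheaf.stalk (c (IsLocalRing.closedPoint k)) :=
    Spec.preimage (C.fromSpecStalk (c (IsLocalRing.closedPoint k)) ≫ qC)
  have hs' : Spec.map s' = C.fromSpecStalk (c (IsLocalRing.closedPoint k)) ≫ qC :=
    Spec.map_preimage _
  have hcomp : s' ≫ ε' = 𝟙 _ := by
    apply Spec.map_injective
    rw [Spec.map_comp, hs', ← Category.assoc, hε', hc, Spec.map_id]
  obtain ⟨θ, hθinj, hθc⟩ := Groth.Agent.Lib.Helper56.SmoothingAlg.exists_injective_to_powerSeries k
    (C.presheaf.stalk (c (IsLocalRing.closedPoint k))) ϖ hϖ s'.hom ε'.hom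
    (fun a => by
      have := congrArg (fun φ => φ.hom a) hcomp
      simpa using this)
  let g : Spec (CommRingCat.of (PowerSeries k)) ⟶ C :=
    Spec.map (CommRingCat.ofHom θ) ≫ C.fromSpecStalk (c (IsLocalRing.closedPoint k))
  have hg : Spec.map (CommRingCat.ofHom (PowerSeries.constantCoeff (R := k))) ≫ g = c := by
    rw [← hε']
    show _ ≫ (_ ≫ _) = _
    rw [← Category.assoc, ← Spec.map_comp]
    congr 2
    ext z
    exact hθc z
  refine ⟨pullback π g, pullback.snd π g, inferInstance, inferInstance,
    pullback.lift j (pX ≫ Spec.map (CommRingCat.ofHom (PowerSeries.constantCoeff (R := k))))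
      (by rw [Category.assoc, hg]; exact hsq.w), ?_, ?_⟩
  · apply IsPullback.of_right (h₁₂ := pullback.fst π g) (h₂₂ := g) ?_
      (pullback.lift_snd _ _ _) (IsPullback.of_hasPullback π g)
    rw [pullback.lift_fst, hg]
    exact hsq
  · let a : Spec (CommRingCat.of (FractionRing (PowerSeries k))) ⟶ Spec (CommRingCat.of (PowerSeries k)) :=
      Spec.map (CommRingCat.ofHom (algebraMap (PowerSeries k) (FractionRing (PowerSeries k))))
    let h : Spec (CommRingCat.of (FractionRing (PowerSeries k))) ⟶ C := a ≫ g
    have hpt : h (IsLocalRing.closedPoint (FractionRing (PowerSeries k))) = genericPoint C := by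
      obtain ⟨𝔭, h𝔭⟩ : genericPoint C ∈ Set.range (C.fromSpecStalk (c (IsLocalRing.closedPoint k))) := by
        rw [Scheme.range_fromSpecStalk]
        exact (genericPoint_spec C).specializes trivial
      let q₀ : Spec (C.presheaf.stalk (c (IsLocalRing.closedPoint k))) :=
        (Spec.map (CommRingCat.ofHom θ)) (a (IsLocalRing.closedPoint (FractionRing (PowerSeries k))))
      have hq₀ : q₀ ⤳ 𝔭 := by
        refine (PrimeSpectrum.le_iff_specializes
          (R := C.presheaf.stalk (c (IsLocalRing.closedPoint k))) q₀ 𝔭).mp ?_
        intro z hz
        have hz' : algebraMap (PowerSeries k) (FractionRing (PowerSeries k)) (θ z) ∈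
            IsLocalRing.maximalIdeal (FractionRing (PowerSeries k)) := hz
        have h0 : algebraMap (PowerSeries k) (FractionRing (PowerSeries k)) (θ z) = 0 := by
          by_contra hne
          exact (IsLocalRing.mem_maximalIdeal _).mp hz' (isUnit_iff_ne_zero.mpr hne)
        have h1 : θ z = 0 := (IsFractionRing.injective (PowerSeries k)
          (FractionRing (PowerSeries k))) (by rw [h0, map_zero])
        have h2 : z = 0 := hθinj (by rw [h1, map_zero])
        rw [h2]
        exact Ideal.zero_mem _
      have h3 : (C.fromSpecStalk (c (IsLocalRing.closedPoint k))) q₀ ⤳ genericPoint C := by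
        rw [← h𝔭]
        exact hq₀.map (C.fromSpecStalk (c (IsLocalRing.closedPoint k))).continuous
      have h4 : genericPoint C ⤳ (C.fromSpecStalk (c (IsLocalRing.closedPoint k))) q₀ :=
        (genericPoint_spec C).specializes trivial
      exact (h3.antisymm h4).eq
    have hψ := Scheme.descResidueField_stalkClosedPointTo_fromSpecResidueField
      (FractionRing (PowerSeries k)) C h
    have hgen' : Smooth (π.fiberToSpecResidueField
        (h (IsLocalRing.closedPoint (FractionRing (PowerSeries k))))) := by
      rw [hpt]
      exact hgen
    have hbig : IsPullback (pullback.fst (pullback.snd π g) a ≫ pullback.fst π g)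
        (pullback.snd (pullback.snd π g) a) π (a ≫ g) :=
      (IsPullback.of_hasPullback (pullback.snd π g) a).paste_horiz (IsPullback.of_hasPullback π g)
    have hbig' : IsPullback (pullback.fst (pullback.snd π g) a ≫ pullback.fst π g)
        (pullback.snd (pullback.snd π g) a) π
        (Spec.map (Scheme.descResidueField (Scheme.stalkClosedPointTo h)) ≫
          C.fromSpecResidueField (h (IsLocalRing.closedPoint (FractionRing (PowerSeries k))))) := by
      rw [hψ]
      exact hbig
    let t : pullback (pullback.snd π g) a ⟶
        π.fiber (h (IsLocalRing.closedPoint (FractionRing (PowerSeries k)))) :=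
      pullback.lift (f := π)
        (g := C.fromSpecResidueField (h (IsLocalRing.closedPoint (FractionRing (PowerSeries k)))))
        (pullback.fst (pullback.snd π g) a ≫ pullback.fst π g)
        (pullback.snd (pullback.snd π g) a ≫
          Spec.map (Scheme.descResidueField (Scheme.stalkClosedPointTo h)))
        (by rw [Category.assoc]; exact hbig'.w)
    have ht1 : t ≫ π.fiberι (h (IsLocalRing.closedPoint (FractionRing (PowerSeries k)))) =
        pullback.fst (pullback.snd π g) a ≫ pullback.fst π g := pullback.lift_fst _ _ _
    have ht2 : t ≫ π.fiberToSpecResidueField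
        (h (IsLocalRing.closedPoint (FractionRing (PowerSeries k)))) =
        pullback.snd (pullback.snd π g) a ≫
          Spec.map (Scheme.descResidueField (Scheme.stalkClosedPointTo h)) := pullback.lift_snd _ _ _
    have hsq2 : IsPullback t (pullback.snd (pullback.snd π g) a)
        (π.fiberToSpecResidueField (h (IsLocalRing.closedPoint (FractionRing (PowerSeries k)))))
        (Spec.map (Scheme.descResidueField (Scheme.stalkClosedPointTo h))) := by
      apply IsPullback.of_right
        (h₁₂ := π.fiberι (h (IsLocalRing.closedPoint (FractionRing (PowerSeries k)))))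
        (h₂₂ := C.fromSpecResidueField (h (IsLocalRing.closedPoint (FractionRing (PowerSeries k)))))
        ?_ ht2 (IsPullback.of_hasPullback π _)
      rw [ht1]
      exact hbig'
    exact MorphismProperty.of_isPullback hsq2 hgen'

end Groth.Agent.S16190
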