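import Groth.Statements.S16193
import Groth.Agent.Lib.Helper52.FAdicAsm
import Groth.Agent.Lib.Helper70.FittExt
import Groth.Agent.Lib.Helper75.Fitting8

set_option autoImplicit false
universe u
open CategoryTheory
open Fitt

namespace Groth.Agent.S16193

/-- (2) ⇔ (5): let k be an algebraically closed field, R = k[[t]], and B a quotient of the t-adic
completion Ã of R[T_1, …, T_r] by (a_1, …, a_c) with B Noetherian, t-adically complete and flat over
R, the images of a_1, …, a_c in Ã/t^{n+1}Ã a regular sequence for every n, and B/tB reduced; let Ω̂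
be the t-adic completion of Ω_{B/R} and T^1 = Ext^1_B(Ω̂, B). Then some power of t lies in the (r -
c)-th Fitting ideal of Ω̂ if and only if some power of t annihilates T^1. (For a flat local complete
intersection formal family 𝔛 → Spf k[[t]] with reduced, proper closed fibre, the first condition for
every chart says that 𝔛 is a formal smoothing of its closed fibre.) -/
theorem result
    (k : Type u) [Field k] [IsAlgClosed k] (r c : ℕ)
    (a : Fin c → AdicCompletion (Ideal.span {MvPolynomial.C (σ := Fin r) (PowerSeries.X (R := k))}) (MvPolynomial (Fin r) (PowerSeries k)))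
    (B : Type u) [CommRing B] [Algebra (PowerSeries k) B] [IsNoetherianRing B]
    [IsAdicComplete (Ideal.span {algebraMap (PowerSeries k) B PowerSeries.X}) B]
    [Module.Flat (PowerSeries k) B]
    (ψ : AdicCompletion (Ideal.span {MvPolynomial.C (σ := Fin r) (PowerSeries.X (R := k))}) (MvPolynomial (Fin r) (PowerSeries k)) →ₐ[PowerSeries k] B)
    (hψ : Function.Surjective ψ) (hker : RingHom.ker ψ.toRingHom = Ideal.span (Set.range a))
    (hreg : ∀ n : ℕ, RingTheory.Sequence.IsRegular
      (AdicCompletion (Ideal.span {MvPolynomial.C (σ := Fin r) (PowerSeries.X (R := k))}) (MvPolynomial (Fin r) (PowerSeries k)) ⧸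
        Ideal.span {algebraMap (PowerSeries k) (AdicCompletion (Ideal.span {MvPolynomial.C (σ := Fin r) (PowerSeries.X (R := k))}) (MvPolynomial (Fin r) (PowerSeries k))) PowerSeries.X ^ (n + 1)})
      ((List.ofFn a).map (Ideal.Quotient.mk (Ideal.span {algebraMap (PowerSeries k)
        (AdicCompletion (Ideal.span {MvPolynomial.C (σ := Fin r) (PowerSeries.X (R := k))}) (MvPolynomial (Fin r) (PowerSeries k))) PowerSeries.X ^ (n + 1)}))))
    [IsReduced (B ⧸ Ideal.span {algebraMap (PowerSeries k) B PowerSeries.X})] :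
    (∃ κ : ℕ, algebraMap (PowerSeries k) B PowerSeries.X ^ κ ∈
        Fitt.ideal B (AdicCompletion (Ideal.span {algebraMap (PowerSeries k) B PowerSeries.X})
          (KaehlerDifferential (PowerSeries k) B)) (r - c)) ↔
      (∃ m : ℕ, ∀ x : Abelian.Ext.{u} (ModuleCat.of B (AdicCompletion
          (Ideal.span {algebraMap (PowerSeries k) B PowerSeries.X}) (KaehlerDifferential (PowerSeries k) B)))
          (ModuleCat.of B B) 1,
        (algebraMap (PowerSeries k) B PowerSeries.X ^ m) • x = 0) := by
  obtain ⟨π, σ, hπ, hσ, hex⟩ :=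
    Groth.Agent.Lib.Helper52.FAdicAsm.exists_resolution k r c a B ψ hψ hker (hreg 0)
  have hfitt := Groth.Agent.Lib.Helper70.FittExt.fitt_eq_fitt_ext_one B _ c r π hπ σ hσ hex
  rw [hfitt]
  -- finiteness of Ext¹
  obtain ⟨e3⟩ := Groth.Agent.Lib.Helper88.ExtLen.nonempty_coker_equiv_ext_one (N := B) π hπ
  haveI : Module.Finite B (LinearMap.ker π) := inferInstance
  let e : (Fin c → B) ≃ₗ[B] LinearMap.ker π :=
    (LinearEquiv.ofInjective σ hσ).trans (LinearEquiv.ofEq _ _ hex)
  haveI : Module.Finite B ((LinearMap.ker π) →ₗ[B] B) :=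
    Module.Finite.equiv (LinearEquiv.arrowCongr e (LinearEquiv.refl B B))
  haveI hfin : Module.Finite B (CategoryTheory.Abelian.Ext.{u} (ModuleCat.of B (AdicCompletion
      (Ideal.span {algebraMap (PowerSeries k) B PowerSeries.X}) (KaehlerDifferential (PowerSeries k) B)))
      (ModuleCat.of B B) 1) := Module.Finite.equiv e3
  constructor
  · rintro ⟨κ, hκ⟩
    refine ⟨κ, fun x => ?_⟩
    have := Groth.Agent.Lib.Helper75.Fitting.fitt_zero_le_annihilator hκ
    exact Module.mem_annihilator.mp this x
  · rintro ⟨m, hm⟩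
    obtain ⟨n, x, hx⟩ := Module.Finite.exists_fin (R := B) (M := CategoryTheory.Abelian.Ext.{u}
      (ModuleCat.of B (AdicCompletion
      (Ideal.span {algebraMap (PowerSeries k) B PowerSeries.X}) (KaehlerDifferential (PowerSeries k) B)))
      (ModuleCat.of B B) 1)
    refine ⟨m * n, ?_⟩
    rw [pow_mul]
    exact Groth.Agent.Lib.Helper75.Fitting.pow_mem_fitt_zero x hx _ (Module.mem_annihilator.mpr hm)

end Groth.Agent.S16193
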