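import Groth.Statements.S16194
-- import your own Groth.Agent.* helpers here

set_option autoImplicit false
universe u
open DivAlg

namespace Groth.Agent.S16194

/-- In an associative unital ring R, not necessarily commutative, every element r of the Jacobson
radical (the set of elements lying in every maximal left ideal) is quasiregular, i.e. 1 - r is a
two-sided unit. -/
theorem result {R : Type u} [Ring R] (r : R)
    (hr : r ∈ Ring.jacobson R) : IsUnit (1 - r) := by
  have key : ∀ s ∈ Ring.jacobson R, ∃ u : R, u * (1 - s) = 1 := by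
    intro s hs
    by_contra h
    have hne : Ideal.span {1 - s} ≠ (⊤ : Ideal R) := by
      intro htop
      have h1 : (1 : R) ∈ Ideal.span {1 - s} := by rw [htop]; trivial
      rw [Ideal.mem_span_singleton'] at h1
      exact h h1
    obtain ⟨m, hm, hle⟩ := Ideal.exists_le_maximal _ hne
    have h1 : 1 - s ∈ m := hle (Ideal.subset_span rfl)
    have h2 : s ∈ m := Ring.jacobson_le_of_isMaximal m hs
    have h3 : (1 : R) ∈ m := by simpa using m.add_mem h1 h2
    exact hm.ne_top ((Ideal.eq_top_iff_one m).mpr h3)
  obtain ⟨u, hu⟩ := key r hr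
  have hu' : u = 1 - (-(u * r)) := by
    have h4 : u * (1 - r) = u - u * r := by rw [mul_sub, mul_one]
    rw [h4] at hu
    rw [← hu]; abel
  have hur : -(u * r) ∈ Ring.jacobson R := neg_mem (Ideal.mul_mem_left _ u hr)
  obtain ⟨w, hw⟩ := key _ hur
  rw [← hu'] at hw
  have hwr : w = 1 - r := by
    calc w = w * (u * (1 - r)) := by rw [hu, mul_one]
      _ = (w * u) * (1 - r) := by rw [mul_assoc]
      _ = 1 - r := by rw [hw, one_mul]
  refine ⟨⟨1 - r, u, ?_, hu⟩, rfl⟩
  rw [← hwr]; exact hw

end Groth.Agent.S16194
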