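import Groth.Statements.S16196
import Mathlib.Algebra.Module.BigOperators

set_option autoImplicit false
universe u v
open DivAlg

namespace Groth.Agent.S16196

/-- Let R be a ring (associative, unital, not necessarily commutative) and M a left R-module which is a
generator, in the form: for some n there is an R-linear surjection from M^n onto R. Then the natural
ring homomorphism from R to the double endomorphism ring BiEnd_R(M) = End_{End_R(M)}(M)
(endomorphisms of M commuting with every R-linear endomorphism), r ↦ multiplication by r, is
bijective. (The printed form takes R an algebra over a commutative ring k, embeds R in E = End_k(M)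
and asserts R = C_E(C_E(R)); the double centralizer there is BiEnd_R(M).) -/
theorem result {R : Type u} [Ring R] (M : Type v)
    [AddCommGroup M] [Module R M]
    (hgen : ∃ (n : ℕ) (f : (Fin n → M) →ₗ[R] R), Function.Surjective f) :
    Function.Bijective (Module.toModuleEnd (Module.End R M) (S := R) M) := by
  obtain ⟨n, f, hf⟩ := hgen
  obtain ⟨x, hx⟩ := hf 1
  have hsum : ∀ y : Fin n → M, f y = ∑ i, f (Pi.single i (y i)) := by
    intro y
    rw [← map_sum]; congr 1; exact (Finset.univ_sum_single y).symm
  constructor
  · rw [injective_iff_map_eq_zero]
    intro r hr
    have h0 : ∀ m : M, r • m = 0 := fun m => by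
      have := LinearMap.congr_fun hr m
      simpa using this
    have h1 : r * f x = 0 := by
      rw [← smul_eq_mul, ← map_smul]
      have h2 : r • x = 0 := by ext i; simp [h0]
      rw [h2, map_zero]
    rw [hx, mul_one] at h1
    exact h1
  · intro T
    have hT : ∀ (φ : Module.End R M) (m : M), T (φ m) = φ (T m) := fun φ m => T.map_smul φ m
    refine ⟨∑ i, f (Pi.single i (T (x i))), ?_⟩
    ext m
    have key : ∀ i, T (f (Pi.single i (x i)) • m) = f (Pi.single i (T (x i))) • m := by
      intro i
      let φ : Module.End R M :=
        (LinearMap.toSpanSingleton R M m).comp (f.comp (LinearMap.single R (fun _ => M) i))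
      have := hT φ (x i)
      simpa [φ] using this
    show (∑ i, f (Pi.single i (T (x i)))) • m = T m
    calc (∑ i, f (Pi.single i (T (x i)))) • m = ∑ i, f (Pi.single i (T (x i))) • m :=
          Finset.sum_smul
      _ = ∑ i, T (f (Pi.single i (x i)) • m) := by simp [key]
      _ = T (∑ i, f (Pi.single i (x i)) • m) := by rw [map_sum]
      _ = T ((∑ i, f (Pi.single i (x i))) • m) := by rw [Finset.sum_smul]
      _ = T m := by rw [← hsum, hx, one_smul]

end Groth.Agent.S16196
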