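import Groth.Statements.S16197
import Mathlib.Tactic.Abel
import Mathlib.Algebra.Module.BigOperators

set_option autoImplicit false
universe u v w
open DivAlg

namespace Groth.Agent.S16197

/-- Let R be a ring (associative, unital, not necessarily commutative) and M a left R-module which is a
generator, used here only through the existence of an R-linear surjection from a direct sum of
copies of M, indexed by an arbitrary type, onto R. Then some finite power M^n decomposes as R × Q
for a submodule Q of M^n. (The published statement is an equivalence; this row states only the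
implication from the existence of such a surjection to the splitting.) -/
theorem result {R : Type u} [Ring R] (M : Type v)
    [AddCommGroup M] [Module R M]
    (hgen : ∃ (ι : Type w) (f : (ι →₀ M) →ₗ[R] R), Function.Surjective f) :
    ∃ (n : ℕ) (Q : Submodule R (Fin n → M)), Nonempty ((Fin n → M) ≃ₗ[R] (R × Q)) := by
  obtain ⟨ι, f, hf⟩ := hgen
  obtain ⟨x, hx⟩ := hf 1
  classical
  let e : Fin x.support.card ≃ x.support := x.support.equivFin.symm
  let g : (Fin x.support.card → M) →ₗ[R] R :=
    ∑ j, (f.comp (Finsupp.lsingle (e j : ι))).comp (LinearMap.proj j)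
  let y₀ : Fin x.support.card → M := fun j => x (e j)
  have hg : g y₀ = 1 := by
    have h1 : g y₀ = ∑ j, f (Finsupp.single (e j : ι) (x (e j))) := by
      simp [g, y₀, LinearMap.sum_apply]
    rw [h1, ← hx, ← map_sum]
    congr 1
    rw [Equiv.sum_comp e (fun i : x.support => Finsupp.single (i : ι) (x i)),
      Finset.sum_coe_sort x.support (fun i => Finsupp.single i (x i))]
    exact Finsupp.sum_single x
  refine ⟨x.support.card, LinearMap.ker g, ⟨{
    toFun := fun y => (g y, ⟨y - g y • y₀, by
      rw [LinearMap.mem_ker, map_sub, map_smul, hg, smul_eq_mul, mul_one, sub_self]⟩)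
    map_add' := ?_
    map_smul' := ?_
    invFun := fun p => p.1 • y₀ + p.2.1
    left_inv := ?_
    right_inv := ?_ }⟩⟩
  · intro a b
    refine Prod.ext (by simp) (Subtype.ext ?_)
    simp only [map_add, add_smul, Submodule.coe_add, Prod.snd_add]
    abel
  · intro r a
    refine Prod.ext (by simp) (Subtype.ext ?_)
    simp only [map_smul, smul_eq_mul, mul_smul, RingHom.id_apply, Prod.smul_snd,
      Submodule.coe_smul, smul_sub]
  · intro y
    simp
  · rintro ⟨r, q, hq⟩
    rw [LinearMap.mem_ker] at hq
    refine Prod.ext ?_ (Subtype.ext ?_)
    · simp [hq, hg]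
    · simp [hq, hg]

end Groth.Agent.S16197
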