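import Groth.Statements.S16199
import Groth.Agent.Lib.Helper3.MatrixAut
-- import your own Groth.Agent.* helpers here

set_option autoImplicit false
universe u
open DivAlg

namespace Groth.Agent.S16199

/-- Let R be a commutative ring and n ≥ 1. The natural map from GL_n(R) to the R-algebra automorphisms
of M_n(R) is surjective (every automorphism is inner) if and only if Pic_(n)(R) = 0, i.e. every
invertible R-module N with N^n ≅ R^n is free. (For n = 0 the left side holds trivially while the
right side fails whenever Pic(R) ≠ 0, so this row assumes n ≥ 1, which the published statement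
leaves implicit; invertible modules are quantified in the universe of R, which loses nothing since
every invertible module is finitely generated.) -/
theorem result {R : Type u} [CommRing R] (n : ℕ)
    (hn : 1 ≤ n) :
    (∀ φ : Matrix (Fin n) (Fin n) R ≃ₐ[R] Matrix (Fin n) (Fin n) R,
        ∃ P : GL (Fin n) R, ∀ A : Matrix (Fin n) (Fin n) R, φ A = P.1 * A * (P⁻¹).1) ↔
      (∀ (N : Type u) [AddCommGroup N] [Module R N] [Module.Invertible R N],
        Nonempty ((Fin n → N) ≃ₗ[R] (Fin n → R)) → Module.Free R N) := by
  rcases subsingleton_or_nontrivial R with hR | hR
  · constructor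
    · intro _ N _ _ _ _
      haveI : Subsingleton N := Module.subsingleton R N
      infer_instance
    · intro _ φ
      exact ⟨1, fun A => Subsingleton.elim _ _⟩
  · constructor
    · intro H N _ _ _ ⟨e⟩
      exact Groth.Agent.Lib.Helper3.MatAut.inner_imp_free n hn H N e
    · intro H φ
      exact Groth.Agent.Lib.Helper3.MatAut.free_imp_inner n hn H φ

end Groth.Agent.S16199
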