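import Groth.Statements.S1620
import Groth.Agent.Lib.Helper73.DimFT.Scheme

set_option autoImplicit false
universe u
open CategoryTheory CategoryTheory.Limits AlgebraicGeometry
attribute [local instance] Curv2.stalkAlgebra Curv2.resAlgebra
open Variety

namespace Groth.Agent.S1620

/-- Let X be locally of finite type over a field k and x ⤳ x' an immediate specialisation (x ≠ x' and no
point strictly in between). If the residue field of x' has transcendence degree n over k then the
residue field of x has transcendence degree n + 1. -/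
theorem result (k : Type u) [Field k] (X : Scheme.{u}) [X.Over (Spec (CommRingCat.of k))] [LocallyOfFiniteType (X ↘ (Spec (CommRingCat.of k)))] (x x' : X) (hne : x ≠ x') (hsp : x ⤳ x')
    (himm : ∀ y : X, x ⤳ y → y ⤳ x' → y = x ∨ y = x')
    (n : ℕ) (hn : Algebra.trdeg k (X.residueField x') = n) : Algebra.trdeg k (X.residueField x) = n + 1 := by
  have h1 : ((n : ℕ) : Cardinal) =
      (Groth.Agent.Lib.Helper73.trdegNat (X ↘ (Spec (CommRingCat.of k))) x' : Cardinal) :=
    hn.symm.trans (Groth.Agent.Lib.Helper73.trdeg_eq_trdegNat (X ↘ (Spec (CommRingCat.of k))) x')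
  have h2 : n = Groth.Agent.Lib.Helper73.trdegNat (X ↘ (Spec (CommRingCat.of k))) x' := by
    exact_mod_cast h1
  have h3 := (Groth.Agent.Lib.Helper73.isDimFun_trdegNat
    (X ↘ (Spec (CommRingCat.of k)))).eq_add_one_of_immediate hsp hne himm
  refine (Groth.Agent.Lib.Helper73.trdeg_eq_trdegNat (X ↘ (Spec (CommRingCat.of k))) x).trans ?_
  rw [h3, ← h2]
  push_cast
  rfl

end Groth.Agent.S1620
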