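import Groth.Statements.S16200
import Mathlib.RingTheory.PicardGroup
import Mathlib.RingTheory.DedekindDomain.Factorization
import Mathlib.LinearAlgebra.LinearDisjoint
import Mathlib.Tactic.LinearCombination
import Mathlib.Tactic.Ring

set_option autoImplicit false
universe u v
open DivAlg

namespace Groth.Agent.S16200

open TensorProduct

section coprime

variable {A : Type*} [CommRing A]

/-- For coprime ideals `I`, `J`: `I ⊓ J × A ≃ I × J`. -/
theorem nonempty_equiv_of_sup_eq_top (I J : Ideal A) (h : I ⊔ J = ⊤) :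
    Nonempty ((↥(I ⊓ J) × A) ≃ₗ[A] (I × J)) := by
  obtain ⟨a0, ha0, b0, hb0, hab⟩ := Submodule.mem_sup.mp (h ▸ Submodule.mem_top : (1 : A) ∈ I ⊔ J)
  let g : ↥(I ⊓ J) →ₗ[A] I × J :=
    (Submodule.inclusion inf_le_left).prod (-(Submodule.inclusion inf_le_right))
  let s : A →ₗ[A] I × J := LinearMap.toSpanSingleton A (I × J) (⟨a0, ha0⟩, ⟨b0, hb0⟩)
  refine ⟨LinearEquiv.ofBijective (g.coprod s) ⟨?_, ?_⟩⟩
  · rw [← LinearMap.ker_eq_bot, LinearMap.ker_eq_bot']
    rintro ⟨c, r⟩ hcr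
    have h1 : (c : A) + r * a0 = 0 := by
      have := congrArg (fun z : I × J => (z.1 : A)) hcr
      simpa [g, s] using this
    have h2 : -(c : A) + r * b0 = 0 := by
      have := congrArg (fun z : I × J => (z.2 : A)) hcr
      simpa [g, s] using this
    have hr : r = 0 := by linear_combination h1 + h2 - r * hab
    subst hr
    have hc : (c : A) = 0 := by linear_combination h1
    have : c = 0 := Subtype.ext hc
    rw [this]; rfl
  · rintro ⟨⟨a, ha⟩, ⟨b, hb⟩⟩
    have hcI : a - (a + b) * a0 ∈ I := I.sub_mem ha (I.mul_mem_left _ ha0)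
    have hcJ : a - (a + b) * a0 ∈ J := by
      have : a - (a + b) * a0 = a * b0 - b * a0 := by linear_combination (-a) * hab
      rw [this]; exact J.sub_mem (J.mul_mem_left _ hb0) (J.mul_mem_right _ hb)
    refine ⟨(⟨a - (a + b) * a0, hcI, hcJ⟩, a + b), ?_⟩
    apply Prod.ext
    · apply Subtype.ext
      simp [g, s]
    · apply Subtype.ext
      simp only [g, s]
      simp
      linear_combination (a + b) * hab

/-- Steinitz for coprime ideals: `I × J ≃ A × (I ⊗ J)`. -/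
theorem nonempty_equiv_tensor_of_sup_eq_top (I J : Ideal A) (h : I ⊔ J = ⊤) [Module.Flat A J] :
    Nonempty ((I × J) ≃ₗ[A] (A × (I ⊗[A] J))) := by
  obtain ⟨e⟩ := nonempty_equiv_of_sup_eq_top I J h
  have hmul : I ⊓ J = I * J :=
    (Ideal.mul_eq_inf_of_isCoprime (Ideal.isCoprime_iff_sup_eq.mpr h)).symm
  have H : Submodule.LinearDisjoint (S := A) I J :=
    .of_left_le_one_of_flat I J (le_top.trans Ideal.one_eq_top.ge)
  have e2 : (I ⊗[A] J) ≃ₗ[A] ↥(I * J) := Submodule.LinearDisjoint.mulMap H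
  have e3 : ↥(I ⊓ J) ≃ₗ[A] (I ⊗[A] J) := (LinearEquiv.ofEq _ _ hmul) ≪≫ₗ e2.symm
  exact ⟨e.symm ≪≫ₗ LinearEquiv.prodComm A _ _ ≪≫ₗ LinearEquiv.prodCongr (LinearEquiv.refl A A) e3⟩

end coprime

section dedekind

variable {R : Type*} [CommRing R] [IsDedekindDomain R]

open scoped nonZeroDivisors

/-- Moving lemma: for nonzero ideals `I1 I2`, there is an ideal `J2 ≅ I2` coprime to `I1`
(or `I1 = ⊤`). -/
theorem exists_coprime_equiv (I1 I2 : Ideal R) (h1 : I1 ≠ ⊥) (h2 : I2 ≠ ⊥) :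
    I1 = ⊤ ∨ ∃ J2 : Ideal R, I1 ⊔ J2 = ⊤ ∧ Nonempty (I2 ≃ₗ[R] J2) := by
  let K := FractionRing R
  have ha : (I1 : FractionalIdeal R⁰ K) ≠ 0 := FractionalIdeal.coeIdeal_ne_zero.mpr h1
  have hb : (I2 : FractionalIdeal R⁰ K) ≠ 0 := FractionalIdeal.coeIdeal_ne_zero.mpr h2
  obtain ⟨x, hx⟩ := IsDedekindDomain.exists_add_spanSingleton_mul_eq (K := K)
    (a := (I1 : FractionalIdeal R⁰ K)) (b := (I2 : FractionalIdeal R⁰ K)) (c := 1)
    FractionalIdeal.coeIdeal_le_one ha hb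
  by_cases hx0 : x = 0
  · left
    subst hx0
    rw [FractionalIdeal.spanSingleton_zero, zero_mul, add_zero] at hx
    exact (FractionalIdeal.coeIdeal_eq_one.mp hx).trans Ideal.one_eq_top
  · right
    have hle : FractionalIdeal.spanSingleton R⁰ x * (I2 : FractionalIdeal R⁰ K) ≤ 1 := by
      rw [← hx]; exact le_sup_right
    obtain ⟨J2, hJ2⟩ := FractionalIdeal.le_one_iff_exists_coeIdeal.mp hle
    refine ⟨J2, ?_, ?_⟩
    · apply FractionalIdeal.coeIdeal_injective (K := K)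
      simp only
      rw [FractionalIdeal.coeIdeal_sup, hJ2, hx, FractionalIdeal.coeIdeal_top]
    · let ι1 : I2 →ₗ[R] K :=
        (LinearMap.mulLeft R x).comp ((Algebra.linearMap R K).comp I2.subtype)
      let ι2 : J2 →ₗ[R] K := (Algebra.linearMap R K).comp J2.subtype
      have hι1 : Function.Injective ι1 := by
        intro b b' hbb'
        have h3 : x * algebraMap R K b = x * algebraMap R K b' := hbb'
        have h4 := mul_left_cancel₀ hx0 h3
        exact Subtype.ext (IsFractionRing.injective R K h4)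
      have hι2 : Function.Injective ι2 := by
        intro b b' hbb'
        have h3 : algebraMap R K b = algebraMap R K b' := hbb'
        exact Subtype.ext (IsFractionRing.injective R K h3)
      have hrange : LinearMap.range ι1 = LinearMap.range ι2 := by
        ext y
        simp only [LinearMap.mem_range]
        constructor
        · rintro ⟨b, rfl⟩
          have h5 : x * algebraMap R K b ∈
              FractionalIdeal.spanSingleton R⁰ x * (I2 : FractionalIdeal R⁰ K) :=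
            FractionalIdeal.mem_singleton_mul.mpr
              ⟨_, FractionalIdeal.mem_coeIdeal_of_mem R⁰ b.2, rfl⟩
          rw [← hJ2] at h5
          obtain ⟨r, hr, hrx⟩ := (FractionalIdeal.mem_coeIdeal _).mp h5
          exact ⟨⟨r, hr⟩, hrx⟩
        · rintro ⟨r, rfl⟩
          have h5 : algebraMap R K r ∈ (J2 : FractionalIdeal R⁰ K) :=
            FractionalIdeal.mem_coeIdeal_of_mem R⁰ r.2
          rw [hJ2] at h5
          obtain ⟨y', hy', hyy'⟩ := FractionalIdeal.mem_singleton_mul.mp h5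
          obtain ⟨b, hb, rfl⟩ := (FractionalIdeal.mem_coeIdeal _).mp hy'
          exact ⟨⟨b, hb⟩, hyy'.symm⟩
      exact ⟨(LinearEquiv.ofInjective ι1 hι1) ≪≫ₗ LinearEquiv.ofEq _ _ hrange ≪≫ₗ
        (LinearEquiv.ofInjective ι2 hι2).symm⟩

theorem ideal_ne_bot_of_equiv (L : Type*) [AddCommGroup L] [Module R L] [Module.Invertible R L]
    (I : Ideal R) (e : L ≃ₗ[R] I) : I ≠ ⊥ := by
  rintro rfl
  have hs : Subsingleton L := e.toEquiv.subsingleton
  have h10 : (1 : R) = 0 :=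
    FaithfulSMul.eq_of_smul_eq_smul (α := L) fun x => Subsingleton.elim _ _
  exact one_ne_zero h10

/-- Steinitz: `L1 × L2 ≃ R × (L1 ⊗ L2)` for invertible modules over a Dedekind domain. -/
theorem steinitz (L1 L2 : Type*) [AddCommGroup L1] [Module R L1] [Module.Invertible R L1]
    [AddCommGroup L2] [Module R L2] [Module.Invertible R L2] :
    Nonempty ((L1 × L2) ≃ₗ[R] (R × (L1 ⊗[R] L2))) := by
  obtain ⟨I1, ⟨e1⟩⟩ := Module.Invertible.exists_linearEquiv_ideal R L1
  obtain ⟨I2, ⟨e2⟩⟩ := Module.Invertible.exists_linearEquiv_ideal R L2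
  have h1 : I1 ≠ ⊥ := ideal_ne_bot_of_equiv L1 I1 e1
  have h2 : I2 ≠ ⊥ := ideal_ne_bot_of_equiv L2 I2 e2
  rcases exists_coprime_equiv I1 I2 h1 h2 with htop | ⟨J2, hsup, ⟨e3⟩⟩
  · have eR : L1 ≃ₗ[R] R := e1 ≪≫ₗ LinearEquiv.ofEq _ _ htop ≪≫ₗ Submodule.topEquiv
    exact ⟨LinearEquiv.prodCongr eR ((TensorProduct.lid R L2).symm ≪≫ₗ
      TensorProduct.congr eR.symm (LinearEquiv.refl R L2))⟩
  · have : Module.Flat R J2 := Module.Flat.of_linearEquiv (e2 ≪≫ₗ e3).symm
    obtain ⟨e4⟩ := nonempty_equiv_tensor_of_sup_eq_top I1 J2 hsup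
    exact ⟨LinearEquiv.prodCongr e1 (e2 ≪≫ₗ e3) ≪≫ₗ e4 ≪≫ₗ
      LinearEquiv.prodCongr (LinearEquiv.refl R R) (TensorProduct.congr e1 (e2 ≪≫ₗ e3)).symm⟩

end dedekind

open CommRing in
theorem main_induction {R : Type u} [CommRing R] [IsDedekindDomain R] (N : Type v)
    [AddCommGroup N] [Module R N] [Module.Invertible R N] (k : ℕ) :
    Nonempty ((Fin (k + 1) → N) ≃ₗ[R] ((Fin k → R) × (Pic.mk R N ^ (k + 1) : Pic R))) := by
  induction k with
  | zero =>
    have e1 : (Fin 1 → N) ≃ₗ[R] N := LinearEquiv.funUnique (Fin 1) R N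
    have h : Pic.mk R N = (Pic.mk R N ^ (0 + 1) : Pic R) := by rw [zero_add, pow_one]
    obtain ⟨e2⟩ := Pic.mk_eq_iff.mp h
    exact ⟨e1 ≪≫ₗ e2 ≪≫ₗ (LinearEquiv.uniqueProd (R := R) (M₂ := Fin 0 → R)).symm⟩
  | succ k ih =>
    obtain ⟨e⟩ := ih
    have e1 : (Fin (k + 2) → N) ≃ₗ[R] N × (Fin (k + 1) → N) :=
      (Fin.consLinearEquiv R (fun _ => N)).symm
    obtain ⟨e2⟩ := steinitz (R := R) (Pic.mk R N ^ (k + 1) : Pic R) N
    have h : Pic.mk R ((Pic.mk R N ^ (k + 1) : Pic R) ⊗[R] N) =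
        (Pic.mk R N ^ (k + 1 + 1) : Pic R) := by
      rw [Pic.mk_tensor, Pic.mk_eq_self, ← pow_succ]
    obtain ⟨e3⟩ := Pic.mk_eq_iff.mp h
    have eX : ((Fin k → R) × R) ≃ₗ[R] (Fin (k + 1) → R) :=
      LinearEquiv.prodComm R _ _ ≪≫ₗ Fin.consLinearEquiv R (fun _ => R)
    exact ⟨e1 ≪≫ₗ LinearEquiv.prodCongr (LinearEquiv.refl R N) e ≪≫ₗ
      LinearEquiv.prodComm R _ _ ≪≫ₗ LinearEquiv.prodAssoc R _ _ _ ≪≫ₗ
      LinearEquiv.prodCongr (LinearEquiv.refl R _) e2 ≪≫ₗ
      (LinearEquiv.prodAssoc R _ _ _).symm ≪≫ₗ LinearEquiv.prodCongr eX e3⟩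




/-- Let R be a Dedekind domain, N an invertible R-module and n a natural number with [N]^n = 1 in
Pic(R). Then the direct sum N^n is isomorphic to R^n; thus over a Dedekind domain the invertible
modules N with N^n ≅ R^n are exactly the n-torsion classes of Pic(R), the other inclusion holding
over any commutative ring. -/
theorem result {R : Type u} [CommRing R]
    [IsDedekindDomain R] (N : Type v) [AddCommGroup N] [Module R N] [Module.Invertible R N]
    (n : ℕ) (h : CommRing.Pic.mk R N ^ n = 1) :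
    Nonempty ((Fin n → N) ≃ₗ[R] (Fin n → R)) := by
  cases n with
  | zero => exact ⟨LinearEquiv.ofSubsingleton _ _⟩
  | succ k =>
    obtain ⟨e⟩ := main_induction (R := R) N k
    have h1 : CommRing.Pic.mk R (↥(CommRing.Pic.mk R N ^ (k + 1))) = 1 := by
      rw [CommRing.Pic.mk_eq_self]; exact h
    obtain ⟨e2⟩ := CommRing.Pic.mk_eq_one_iff.mp h1
    exact ⟨e ≪≫ₗ LinearEquiv.prodCongr (LinearEquiv.refl R _) e2 ≪≫ₗ
      LinearEquiv.prodComm R _ _ ≪≫ₗ Fin.consLinearEquiv R (fun _ => R)⟩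

end Groth.Agent.S16200
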