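import Groth.Statements.S16201
import Groth.Agent.Lib.Helper35.ConstrTop
import Mathlib.AlgebraicGeometry.Noetherian
import Mathlib.AlgebraicGeometry.Morphisms.FiniteType

set_option autoImplicit false
set_option linter.style.haveILetI false
open CategoryTheory AlgebraicGeometry
open Variety

namespace Groth.Agent.S16201

/-- Let f : Y → Z be a morphism of schemes of finite type over ℂ, with Z irreducible. Suppose that the
general fibre of f is irreducible, in the sense that there is a nonempty open subset V of Z such
that the fibre of f over every closed point of V is an irreducible topological space, and that each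
irreducible component of Y has dense image in Z. Then Y is irreducible. (The published statement is
for a morphism of projective varieties; only finiteness of type over the field is used, and the row
is stated in that generality.) -/
theorem result
    (Y Z : Scheme.{0}) (g : Z ⟶ Spec (CommRingCat.of ℂ)) (f : Y ⟶ Z)
    [LocallyOfFiniteType g] [QuasiCompact g] [LocallyOfFiniteType f] [QuasiCompact f]
    [IrreducibleSpace Z]
    (hgen : ∃ V : Z.Opens, (V : Set Z).Nonempty ∧
      ∀ z ∈ V, IsClosed ({z} : Set Z) → IsIrreducible (f.base ⁻¹' {z}))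
    (hdom : ∀ W ∈ irreducibleComponents Y, Dense (f.base '' W)) :
    IrreducibleSpace Y := by
  classical
  haveI : IsLocallyNoetherian Z := LocallyOfFiniteType.isLocallyNoetherian g
  haveI : CompactSpace Z := QuasiCompact.compactSpace_of_compactSpace g
  haveI : IsNoetherian Z := {}
  haveI : IsLocallyNoetherian Y := LocallyOfFiniteType.isLocallyNoetherian f
  haveI : CompactSpace Y := QuasiCompact.compactSpace_of_compactSpace f
  haveI : IsNoetherian Y := {}
  haveI : TopologicalSpace.NoetherianSpace Y := inferInstance
  haveI : TopologicalSpace.NoetherianSpace Z := inferInstance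
  haveI : JacobsonSpace Z := LocallyOfFiniteType.jacobsonSpace g
  obtain ⟨V, hVne, hV⟩ := hgen
  have hfin : (irreducibleComponents Y).Finite :=
    TopologicalSpace.NoetherianSpace.finite_irreducibleComponents
  have hZirr : IsIrreducible (Set.univ : Set Z) := IrreducibleSpace.isIrreducible_univ Z
  -- every fibre over a closed point of V lies in one component
  have key1 : ∀ z ∈ V, IsClosed ({z} : Set Z) →
      ∃ W ∈ irreducibleComponents Y, f.base ⁻¹' {z} ⊆ W := by
    intro z hz hzc
    have hirr := hV z hz hzc
    obtain ⟨W, hW, hsub⟩ := isIrreducible_iff_sUnion_isClosed.mp hirr hfin.toFinset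
      (fun W hW => isClosed_of_mem_irreducibleComponents W (hfin.mem_toFinset.mp hW))
      (by
        rw [Set.Finite.coe_toFinset, sUnion_irreducibleComponents]
        exact Set.subset_univ _)
    exact ⟨W, hfin.mem_toFinset.mp hW, hsub⟩
  -- for distinct components W, W' the fibres over an open dense set are not inside W'
  have key2 : ∀ W W' : Set Y, ∃ O : Set Z, IsOpen O ∧ O.Nonempty ∧
      (W ∈ irreducibleComponents Y → W' ∈ irreducibleComponents Y → W ≠ W' →
        ∀ z ∈ O, ¬ (f.base ⁻¹' {z} ⊆ W')) := by
    intro W W'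
    by_cases hc : W ∈ irreducibleComponents Y ∧ W' ∈ irreducibleComponents Y ∧ W ≠ W'
    swap
    · exact ⟨Set.univ, isOpen_univ, Set.univ_nonempty, fun h1 h2 h3 => absurd ⟨h1, h2, h3⟩ hc⟩
    obtain ⟨hW, hW', hne⟩ := hc
    have hWcl := isClosed_of_mem_irreducibleComponents W hW
    have hW'cl := isClosed_of_mem_irreducibleComponents W' hW'
    have hnsub : ¬ W ⊆ W' := fun hsub => hne (le_antisymm hsub (hW.2 hW'.1 hsub))
    have hDne : (W ∩ W'ᶜ).Nonempty := Set.inter_compl_nonempty_iff.mpr hnsub
    have hWD : W ⊆ closure (W ∩ W'ᶜ) :=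
      subset_closure_inter_of_isPreirreducible_of_isOpen hW.1.isPreirreducible
        hW'cl.isOpen_compl hDne
    have hcons : Topology.IsConstructible (W ∩ W'ᶜ) :=
      (Groth.Agent.Lib.Helper35.noeth_isConstructible_of_isClosed hWcl).inter
        (Groth.Agent.Lib.Helper35.noeth_isConstructible_of_isOpen hW'cl.isOpen_compl)
    have hE : Topology.IsConstructible (f.base '' (W ∩ W'ᶜ)) := f.isConstructible_image hcons
    have hdense : (Set.univ : Set Z) ⊆ closure (f.base '' (W ∩ W'ᶜ) ∩ Set.univ) := by
      rw [Set.inter_univ]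
      have h1 : f.base '' W ⊆ closure (f.base '' (W ∩ W'ᶜ)) :=
        (Set.image_mono hWD).trans (image_closure_subset_closure_image f.continuous)
      have h2 := (hdom W hW).closure_eq
      rw [← h2]
      exact closure_minimal h1 isClosed_closure
    obtain ⟨U, hU, hUne, hsub⟩ :=
      Groth.Agent.Lib.Helper35.constr_exists_open_of_dense hE hZirr hdense
    rw [Set.inter_univ] at hUne hsub
    refine ⟨U, hU, hUne, fun _ _ _ z hz hzW' => ?_⟩
    obtain ⟨y, ⟨_, hyW'⟩, hy⟩ := hsub hz
    exact hyW' (hzW' hy)
  choose O hOopen hOne hO using key2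
  -- the finite family of opens
  let T : Finset (Set Z) :=
    insert (V : Set Z) ((hfin.toFinset ×ˢ hfin.toFinset).image fun p => O p.1 p.2)
  have hTopen : ∀ u ∈ T, IsOpen u := by
    intro u hu
    rcases Finset.mem_insert.mp hu with rfl | hu
    · exact V.isOpen
    · obtain ⟨p, _, rfl⟩ := Finset.mem_image.mp hu
      exact hOopen _ _
  have hTne : ∀ u ∈ T, ((Set.univ : Set Z) ∩ u).Nonempty := by
    intro u hu
    rw [Set.univ_inter]
    rcases Finset.mem_insert.mp hu with rfl | hu
    · exact hVne
    · obtain ⟨p, _, rfl⟩ := Finset.mem_image.mp hu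
      exact hOne _ _
  have hI := isIrreducible_iff_sInter.mp hZirr T hTopen hTne
  rw [Set.univ_inter] at hI
  have hIopen : IsOpen (⋂₀ (T : Set (Set Z))) := T.finite_toSet.isOpen_sInter hTopen
  obtain ⟨z, hzI, hzcl⟩ := nonempty_inter_closedPoints hI hIopen.isLocallyClosed
  have hzV : z ∈ V := hzI (V : Set Z) (Finset.mem_coe.mpr (Finset.mem_insert_self _ _))
  have hzO : ∀ W ∈ irreducibleComponents Y, ∀ W' ∈ irreducibleComponents Y, z ∈ O W W' := by
    intro W hW W' hW'
    apply hzI
    refine Finset.mem_coe.mpr (Finset.mem_insert_of_mem (Finset.mem_image.mpr ⟨(W, W'), ?_, rfl⟩))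
    exact Finset.mem_product.mpr ⟨hfin.mem_toFinset.mpr hW, hfin.mem_toFinset.mpr hW'⟩
  obtain ⟨W₀, hW₀, hsub₀⟩ := key1 z hzV hzcl
  -- all components equal W₀
  have hall : ∀ W ∈ irreducibleComponents Y, W = W₀ := by
    intro W hW
    by_contra hne
    exact hO W W₀ hW hW₀ hne z (hzO W hW W₀ hW₀) hsub₀
  have huniv : (Set.univ : Set Y) = W₀ := by
    rw [← sUnion_irreducibleComponents]
    apply le_antisymm
    · exact Set.sUnion_subset fun W hW => (hall W hW).le
    · exact Set.subset_sUnion_of_mem hW₀
  have hirrY : IsIrreducible (Set.univ : Set Y) := huniv ▸ hW₀.1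
  exact (irreducibleSpace_def Y).mpr hirrY

end Groth.Agent.S16201
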