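import Groth.Statements.S16206
import Mathlib

set_option autoImplicit false
open RatCurv

namespace Groth.Agent.S16206

open W4c3cyccovratcurv SimpleGraph

section general
variable {V : Type*}

/-- Rewire: all neighbours of `w` other than `c` are reattached to `c`; `w` becomes a leaf at `c`. -/
def rewire (G : SimpleGraph V) (c w : V) : SimpleGraph V :=
  SimpleGraph.fromRel fun a b =>
    (a ≠ w ∧ b ≠ w ∧ (G.Adj a b ∨ (a = c ∧ G.Adj w b))) ∨ (a = c ∧ b = w)

lemma rewire_adj (G : SimpleGraph V) (c w a b : V) :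
    (rewire G c w).Adj a b ↔ a ≠ b ∧
      (((a ≠ w ∧ b ≠ w ∧ (G.Adj a b ∨ (a = c ∧ G.Adj w b))) ∨ (a = c ∧ b = w)) ∨
       ((b ≠ w ∧ a ≠ w ∧ (G.Adj b a ∨ (b = c ∧ G.Adj w a))) ∨ (b = c ∧ a = w))) := Iff.rfl

lemma rewire_adj_cw {G : SimpleGraph V} {c w : V} (hcw : c ≠ w) : (rewire G c w).Adj c w := by
  rw [rewire_adj]; exact ⟨hcw, Or.inl (Or.inr ⟨rfl, rfl⟩)⟩

lemma rewire_adj_of_adj {G : SimpleGraph V} {c w a b : V} (haw : a ≠ w) (hbw : b ≠ w)
    (hab : G.Adj a b) : (rewire G c w).Adj a b := by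
  rw [rewire_adj]; exact ⟨hab.ne, Or.inl (Or.inl ⟨haw, hbw, Or.inl hab⟩)⟩

lemma rewire_adj_c_of_adj_w {G : SimpleGraph V} {c w b : V} (hcw : c ≠ w) (hbc : b ≠ c)
    (hb : G.Adj w b) : (rewire G c w).Adj c b := by
  rw [rewire_adj]; exact ⟨Ne.symm hbc, Or.inl (Or.inl ⟨hcw, hb.ne', Or.inr ⟨rfl, hb⟩⟩)⟩

lemma rewire_reachable_of_adj {G : SimpleGraph V} {c w : V} (h : G.Adj c w) {a b : V}
    (hab : G.Adj a b) : (rewire G c w).Reachable a b := by
  have hcw : c ≠ w := h.ne
  have hcw' : (rewire G c w).Adj c w := rewire_adj_cw hcw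
  have key : ∀ b, G.Adj w b → (rewire G c w).Reachable w b := by
    intro b hb
    by_cases hbc : b = c
    · subst hbc; exact hcw'.symm.reachable
    · exact hcw'.symm.reachable.trans (rewire_adj_c_of_adj_w hcw hbc hb).reachable
  by_cases haw : a = w
  · subst haw; exact key b hab
  · by_cases hbw : b = w
    · subst hbw; exact (key a hab.symm).symm
    · exact (rewire_adj_of_adj haw hbw hab).reachable

lemma rewire_connected {G : SimpleGraph V} {c w : V} (hG : G.Connected) (h : G.Adj c w) :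
    (rewire G c w).Connected := by
  haveI := hG.nonempty
  refine ⟨fun a b => ?_⟩
  obtain ⟨p⟩ := hG.preconnected a b
  induction p with
  | nil => exact Reachable.refl _
  | cons hadj _ ih => exact (rewire_reachable_of_adj h hadj).trans ih

lemma rewire_card_edgeSet_le [Finite V] {G : SimpleGraph V} {c w : V} (h : G.Adj c w) :
    Nat.card (rewire G c w).edgeSet ≤ Nat.card G.edgeSet := by
  classical
  have hcw : c ≠ w := h.ne
  let g : Sym2 V → Sym2 V := fun e =>
    if e = s(c, w) then e else Sym2.map (fun x => if x = w then c else x) e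
  have hg1 : ∀ a b, a ≠ w → b ≠ w → g s(a, b) = s(a, b) := by
    intro a b haw hbw
    simp only [g]
    split_ifs with h1
    · rfl
    · simp [haw, hbw]
  have hg2 : ∀ b, b ≠ w → b ≠ c → g s(w, b) = s(c, b) := by
    intro b hbw hbc
    simp only [g]
    have : s(w, b) ≠ s(c, w) := by
      intro h2
      rcases Sym2.eq_iff.mp h2 with ⟨h3, _⟩ | ⟨_, h3⟩
      · exact hcw h3.symm
      · exact hbc h3
    rw [if_neg this]
    simp [hbw]
  have hg3 : g s(c, w) = s(c, w) := by simp [g]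
  have hsub : (rewire G c w).edgeSet ⊆ g '' G.edgeSet := by
    intro e he
    induction e using Sym2.ind with
    | _ a b =>
      rw [mem_edgeSet, rewire_adj] at he
      obtain ⟨hab, (⟨haw, hbw, (hadj | ⟨rfl, hwb⟩)⟩ | ⟨rfl, rfl⟩) |
        (⟨hbw, haw, (hadj | ⟨rfl, hwa⟩)⟩ | ⟨rfl, rfl⟩)⟩ := he
      · exact ⟨s(a, b), hadj, hg1 a b haw hbw⟩
      · exact ⟨s(w, b), hwb, hg2 b hbw (Ne.symm hab)⟩
      · exact ⟨s(a, b), h, hg3⟩
      · exact ⟨s(a, b), hadj.symm, hg1 a b haw hbw⟩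
      · exact ⟨s(w, a), hwa, by rw [hg2 a haw hab]; exact Sym2.eq_swap⟩
      · exact ⟨s(b, a), h, by rw [hg3]; exact Sym2.eq_swap⟩
  rw [_root_.Nat.card_coe_set_eq, _root_.Nat.card_coe_set_eq]
  exact (Set.ncard_le_ncard hsub (Set.toFinite _)).trans (Set.ncard_image_le (Set.toFinite _))

lemma rewire_isTree [Finite V] {G : SimpleGraph V} {c w : V} (hG : G.IsTree) (h : G.Adj c w) :
    (rewire G c w).IsTree := by
  rw [isTree_iff_connected_and_card] at hG ⊢
  have hc := rewire_connected hG.1 h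
  refine ⟨hc, le_antisymm ?_ hc.card_vert_le_card_edgeSet_add_one⟩
  rw [← hG.2]
  exact Nat.add_le_add_right (rewire_card_edgeSet_le h) 1

/-- The star with centre `c`. -/
def star (c : V) : SimpleGraph V := SimpleGraph.fromRel fun a _ => a = c

lemma star_adj (c a b : V) : (star c).Adj a b ↔ a ≠ b ∧ (a = c ∨ b = c) := Iff.rfl

lemma star_connected (c : V) : (star c).Connected := by
  haveI : Nonempty V := ⟨c⟩
  have key : ∀ a, (star c).Reachable a c := by
    intro a
    by_cases hac : a = c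
    · subst hac; exact Reachable.refl _
    · exact (show (star c).Adj a c from ⟨hac, Or.inr rfl⟩).reachable
  exact ⟨fun a b => (key a).trans (key b).symm⟩

lemma eq_star_of_forall_adj {G : SimpleGraph V} (hG : G.IsTree) {c : V}
    (hall : ∀ v, v ≠ c → G.Adj c v) : G = star c := by
  have hle : star c ≤ G := by
    intro a b hab
    obtain ⟨hne, rfl | rfl⟩ := hab
    · exact hall b (Ne.symm hne)
    · exact (hall a hne).symm
  exact le_antisymm ((isTree_iff_minimal_connected.mp hG).2 (star_connected c) hle) hle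

end general

lemma rewire_adj_w_iff {V : Type*} {G : SimpleGraph V} {c w : V} (hcw : c ≠ w) (b : V) :
    (rewire G c w).Adj w b ↔ b = c := by
  rw [rewire_adj]
  constructor
  · rintro ⟨_, (⟨h, _⟩ | ⟨h, _⟩) | (⟨_, h, _⟩ | ⟨h, _⟩)⟩
    · exact absurd rfl h
    · exact absurd h.symm hcw
    · exact absurd rfl h
    · exact h
  · rintro rfl
    exact ⟨Ne.symm hcw, Or.inr (Or.inr ⟨rfl, rfl⟩)⟩

lemma rewire_adj_iff_of_ne {V : Type*} {G : SimpleGraph V} {c w a b : V} (haw : a ≠ w)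
    (hbw : b ≠ w) :
    (rewire G c w).Adj a b ↔
      a ≠ b ∧ (G.Adj a b ∨ (a = c ∧ G.Adj w b) ∨ (b = c ∧ G.Adj w a)) := by
  rw [rewire_adj]
  constructor
  · rintro ⟨hab, (⟨_, _, h | h⟩ | ⟨_, h⟩) | (⟨_, _, h | h⟩ | ⟨_, h⟩)⟩
    · exact ⟨hab, Or.inl h⟩
    · exact ⟨hab, Or.inr (Or.inl h)⟩
    · exact absurd h hbw
    · exact ⟨hab, Or.inl h.symm⟩
    · exact ⟨hab, Or.inr (Or.inr h)⟩
    · exact absurd h haw
  · rintro ⟨hab, h | h | h⟩
    · exact ⟨hab, Or.inl (Or.inl ⟨haw, hbw, Or.inl h⟩)⟩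
    · exact ⟨hab, Or.inl (Or.inl ⟨haw, hbw, Or.inr h⟩)⟩
    · exact ⟨hab, Or.inr (Or.inl ⟨hbw, haw, Or.inr h⟩)⟩

lemma contract_adj {n : ℕ} (G : SimpleGraph (Fin n)) (u w : Fin n) (a b : {v : Fin n // v ≠ w}) :
    (contract G u w).Adj a b ↔ a ≠ b ∧
      ((G.Adj a.1 b.1 ∨ (a.1 = u ∧ G.Adj w b.1)) ∨ (G.Adj b.1 a.1 ∨ (b.1 = u ∧ G.Adj w a.1))) :=
  Iff.rfl

lemma contract_rewire {n : ℕ} (G : SimpleGraph (Fin n)) {c w : Fin n} (h : G.Adj c w) :
    contract (rewire G c w) c w = contract G c w := by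
  have hcw : c ≠ w := h.ne
  ext ⟨a, ha⟩ ⟨b, hb⟩
  rw [contract_adj, contract_adj]
  simp only
  rw [rewire_adj_iff_of_ne ha hb, rewire_adj_iff_of_ne hb ha, rewire_adj_w_iff hcw,
    rewire_adj_w_iff hcw]
  constructor
  · rintro ⟨hne, h'⟩
    have hab : a ≠ b := fun h => hne (Subtype.ext h)
    refine ⟨hne, ?_⟩
    rcases h' with (⟨_, h1 | h1 | h1⟩ | ⟨h1, h2⟩) | (⟨_, h1 | h1 | h1⟩ | ⟨h1, h2⟩)
    · exact Or.inl (Or.inl h1)
    · exact Or.inl (Or.inr h1)
    · exact Or.inr (Or.inr h1)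
    · exact absurd (h1.trans h2.symm) hab
    · exact Or.inr (Or.inl h1)
    · exact Or.inr (Or.inr h1)
    · exact Or.inl (Or.inr h1)
    · exact absurd (h2.trans h1.symm) hab
  · rintro ⟨hne, h'⟩
    have hab : a ≠ b := fun h => hne (Subtype.ext h)
    refine ⟨hne, Or.inl (Or.inl ⟨hab, ?_⟩)⟩
    rcases h' with (h1 | h1) | (h1 | h1)
    · exact Or.inl h1
    · exact Or.inr (Or.inl h1)
    · exact Or.inl h1.symm
    · exact Or.inr (Or.inr h1)

/-- The marks after the rewiring move. -/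
def rewireMark {n k : ℕ} (m : Fin k → Fin n) (c w : Fin n) : Fin k → Fin n :=
  fun i => if m i = w then c else m i

lemma contractMark_rewire {n k : ℕ} (m : Fin k → Fin n) {c w : Fin n} (hcw : c ≠ w) (i : Fin k) :
    contractMark (rewireMark m c w) c w hcw i = contractMark m c w hcw i := by
  unfold contractMark rewireMark
  by_cases h : m i = w
  · simp [h, hcw]
  · simp [h]

lemma conicAdj_symm {k : ℕ} {T₁ T₂ : MarkedTree k} (h : ConicAdj T₁ T₂) : ConicAdj T₂ T₁ := by
  obtain ⟨u₁, w₁, u₂, w₂, h₁, h₂, φ, hφ, hm⟩ := h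
  refine ⟨u₂, w₂, u₁, w₁, h₂, h₁, φ.symm, ?_, ?_⟩
  · rw [← hφ]; exact φ.symm_apply_apply _
  · intro i; rw [← hm i]; exact φ.symm_apply_apply _

lemma reflTransGen_conicAdj_symm {k : ℕ} {T₁ T₂ : MarkedTree k}
    (h : Relation.ReflTransGen ConicAdj T₁ T₂) : Relation.ReflTransGen ConicAdj T₂ T₁ := by
  induction h with
  | refl => exact Relation.ReflTransGen.refl
  | tail _ hbc ih => exact Relation.ReflTransGen.head (conicAdj_symm hbc) ih

lemma conicAdj_rewire {n k : ℕ} (G : SimpleGraph (Fin n)) (hG : G.IsTree) (m : Fin k → Fin n)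
    {c w : Fin n} (h : G.Adj c w) :
    ConicAdj (⟨n, G, hG, m⟩ : MarkedTree k)
      ⟨n, rewire G c w, rewire_isTree hG h, rewireMark m c w⟩ := by
  have hcw : c ≠ w := h.ne
  refine ⟨c, w, c, w, h, rewire_adj_cw hcw, ⟨Equiv.refl _, ?_⟩, rfl, ?_⟩
  · intro a b
    simp only [Equiv.refl_apply]
    rw [contract_rewire G h]
  · intro i
    exact (contractMark_rewire m hcw i).symm

open Classical in
/-- The potential: vertices not adjacent to the centre, plus marks off the centre. -/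
noncomputable def pot {n k : ℕ} (G : SimpleGraph (Fin n)) (m : Fin k → Fin n) (c : Fin n) : ℕ :=
  (Finset.univ.filter fun v => v ≠ c ∧ ¬ G.Adj c v).card + (Finset.univ.filter fun i => m i ≠ c).card

lemma pot_rewire_lt {n k : ℕ} (G : SimpleGraph (Fin n)) (m : Fin k → Fin n) {c w : Fin n}
    (h : G.Adj c w)
    (hx : (∃ x, G.Adj w x ∧ x ≠ c ∧ ¬ G.Adj c x) ∨ ∃ i, m i = w) :
    pot (rewire G c w) (rewireMark m c w) c < pot G m c := by
  classical
  have hcw : c ≠ w := h.ne
  unfold pot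
  have hA : (Finset.univ.filter fun v => v ≠ c ∧ ¬ (rewire G c w).Adj c v) ⊆
      (Finset.univ.filter fun v => v ≠ c ∧ ¬ G.Adj c v) := by
    intro v hv
    simp only [Finset.mem_filter, Finset.mem_univ, true_and] at hv ⊢
    refine ⟨hv.1, fun hcv => hv.2 ?_⟩
    by_cases hvw : v = w
    · subst hvw; exact rewire_adj_cw hcw
    · exact rewire_adj_of_adj hcw hvw hcv
  have hB : (Finset.univ.filter fun i => rewireMark m c w i ≠ c) ⊆
      (Finset.univ.filter fun i => m i ≠ c) := by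
    intro i hi
    simp only [Finset.mem_filter, Finset.mem_univ, true_and, rewireMark] at hi ⊢
    by_cases hiw : m i = w
    · simp [hiw] at hi
    · simpa [hiw] using hi
  rcases hx with ⟨x, hwx, hxc, hcx⟩ | ⟨i, hi⟩
  · refine Nat.add_lt_add_of_lt_of_le (Finset.card_lt_card ?_) (Finset.card_le_card hB)
    rw [Finset.ssubset_iff_of_subset hA]
    refine ⟨x, ?_, ?_⟩
    · simp only [Finset.mem_filter, Finset.mem_univ, true_and]
      exact ⟨hxc, hcx⟩
    · simp only [Finset.mem_filter, Finset.mem_univ, true_and, not_and, not_not]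
      intro _
      exact rewire_adj_c_of_adj_w hcw hxc hwx
  · refine Nat.add_lt_add_of_le_of_lt (Finset.card_le_card hA) (Finset.card_lt_card ?_)
    rw [Finset.ssubset_iff_of_subset hB]
    refine ⟨i, ?_, ?_⟩
    · simp only [Finset.mem_filter, Finset.mem_univ, true_and]
      rw [hi]; exact Ne.symm hcw
    · simp [rewireMark, hi]

lemma exists_move_or_star {n k : ℕ} (G : SimpleGraph (Fin n)) (hG : G.IsTree) (m : Fin k → Fin n)
    (c : Fin n) :
    (∃ w, G.Adj c w ∧ ((∃ x, G.Adj w x ∧ x ≠ c ∧ ¬ G.Adj c x) ∨ ∃ i, m i = w)) ∨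
      (G = star c ∧ m = fun _ => c) := by
  by_cases h1 : ∃ w, G.Adj c w ∧ ((∃ x, G.Adj w x ∧ x ≠ c ∧ ¬ G.Adj c x) ∨ ∃ i, m i = w)
  · exact Or.inl h1
  · right
    have hall : ∀ v, v ≠ c → G.Adj c v := by
      by_contra hcon
      obtain ⟨v, hv⟩ := not_forall.mp hcon
      obtain ⟨hvc, hv⟩ := Classical.not_imp.mp hv
      obtain ⟨p⟩ := hG.1.preconnected c v
      obtain ⟨d, -, hd1, hd2⟩ := p.exists_boundary_dart {x | x = c ∨ G.Adj c x} (Or.inl rfl)
        (by rintro (h | h); exacts [hvc h, hv h])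
      have hd2' : d.snd ≠ c ∧ ¬ G.Adj c d.snd := by
        constructor
        · intro h; exact hd2 (Or.inl h)
        · intro h; exact hd2 (Or.inr h)
      rcases hd1 with hd1 | hd1
      · exact hd2'.2 (hd1 ▸ d.adj)
      · exact h1 ⟨d.fst, hd1, Or.inl ⟨d.snd, d.adj, hd2'.1, hd2'.2⟩⟩
    refine ⟨eq_star_of_forall_adj hG hall, ?_⟩
    funext i
    by_contra hi
    exact h1 ⟨m i, hall _ hi, Or.inr ⟨i, rfl⟩⟩

theorem to_star {n k : ℕ} (c : Fin n) : ∀ (N : ℕ) (G : SimpleGraph (Fin n)) (hG : G.IsTree)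
    (m : Fin k → Fin n), pot G m c = N →
    ∃ hs : (star c).IsTree, Relation.ReflTransGen ConicAdj (⟨n, G, hG, m⟩ : MarkedTree k)
      ⟨n, star c, hs, fun _ => c⟩ := by
  intro N
  induction N using Nat.strong_induction_on with
  | _ N ih =>
    intro G hG m hN
    rcases exists_move_or_star G hG m c with ⟨w, hcw, hx⟩ | ⟨rfl, rfl⟩
    · obtain ⟨hs, r⟩ := ih _ (hN ▸ pot_rewire_lt G m hcw hx) (rewire G c w)
        (rewire_isTree hG hcw) (rewireMark m c w) rfl
      exact ⟨hs, Relation.ReflTransGen.head (conicAdj_rewire G hG m hcw) r⟩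
    · exact ⟨hG, Relation.ReflTransGen.refl⟩

/-- Let G₁ and G₂ be dual graphs of linear trees of the same total degree e and with k marked points
each, that is finite trees with e vertices, every vertex of degree one, together with a list of k
marked vertices (repetitions allowed). Then a finite chain of conic deformations leads from G₁ to
G₂. Here a conic deformation of such a graph is the marked graph obtained by contracting one edge
(the contracted vertex being the unique vertex of degree two), two marked trees are one step apart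
when they have isomorphic conic deformations, the isomorphism matching the contracted vertices and
the i-th marked vertices, and the conclusion is that G₁ and G₂ are related by the
reflexive-transitive closure of this one-step relation. -/
theorem result (k : ℕ) (T₁ T₂ : W4c3cyccovratcurv.MarkedTree k)
    (h : T₁.n = T₂.n) :
    Relation.ReflTransGen W4c3cyccovratcurv.ConicAdj T₁ T₂ := by
  obtain ⟨n, G₁, hG₁, m₁⟩ := T₁
  obtain ⟨n₂, G₂, hG₂, m₂⟩ := T₂
  simp only at h
  subst h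
  have hn : 0 < n := by
    haveI := hG₁.1.nonempty
    exact Fin.pos_iff_nonempty.mpr inferInstance
  obtain ⟨hs₁, r₁⟩ := to_star (k := k) (⟨0, hn⟩ : Fin n) _ G₁ hG₁ m₁ rfl
  obtain ⟨hs₂, r₂⟩ := to_star (k := k) (⟨0, hn⟩ : Fin n) _ G₂ hG₂ m₂ rfl
  exact r₁.trans (reflTransGen_conicAdj_symm r₂)

end Groth.Agent.S16206
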