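import Groth.Statements.S1621
import Groth.Agent.Lib.Helper73.DimFT.Scheme

set_option autoImplicit false
universe u
open CategoryTheory CategoryTheory.Limits AlgebraicGeometry
attribute [local instance] Curv2.stalkAlgebra Curv2.resAlgebra
open Variety

namespace Groth.Agent.S1621

/-- Let X be locally of finite type over a field k and x a point whose residue field has transcendence
degree a over k and whose local ring has dimension b. Then the local dimension of X at x is a + b. -/
theorem result (k : Type u) [Field k] (X : Scheme.{u}) [X.Over (Spec (CommRingCat.of k))] [LocallyOfFiniteType (X ↘ (Spec (CommRingCat.of k)))] (x : X) (a b : ℕ)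
    (ha : Algebra.trdeg k (X.residueField x) = a) (hb : ringKrullDim (X.presheaf.stalk x) = b) :
    FlatMor.localDim X x = (a + b : ℕ) := by
  have h1 : ((a : ℕ) : Cardinal) =
      (Groth.Agent.Lib.Helper73.trdegNat (X ↘ (Spec (CommRingCat.of k))) x : Cardinal) :=
    ha.symm.trans (Groth.Agent.Lib.Helper73.trdeg_eq_trdegNat (X ↘ (Spec (CommRingCat.of k))) x)
  have h2 : a = Groth.Agent.Lib.Helper73.trdegNat (X ↘ (Spec (CommRingCat.of k))) x := by
    exact_mod_cast h1
  rw [Groth.Agent.Lib.Helper73.localDim_eq (X ↘ (Spec (CommRingCat.of k))) x, hb, ← h2]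
  push_cast
  rw [add_comm]

end Groth.Agent.S1621
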