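import Groth.Statements.S16211
-- import your own Groth.Agent.* helpers here

set_option autoImplicit false
universe u v
open InvTh

namespace Groth.Agent.S16211

lemma sum_mul_sum_of_sq_zero {B : Type*} [CommRing B] (I : Ideal B) (hI : I ^ 2 = ⊥)
    {G : Type*} [Fintype G] (a b : G → B) (a₀ b₀ : B)
    (ha : ∀ g, a g - a₀ ∈ I) (hb : ∀ g, b g - b₀ ∈ I) :
    (Fintype.card G : B) * ∑ g, a g * b g = (∑ g, a g) * (∑ g, b g) := by
  have hmul : ∀ x ∈ I, ∀ y ∈ I, x * y = 0 := by
    intro x hx y hy
    have h : x * y ∈ I ^ 2 := by rw [pow_two]; exact Ideal.mul_mem_mul hx hy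
    rw [hI] at h
    exact h
  set α : G → B := fun g => a g - a₀ with hα
  set β : G → B := fun g => b g - b₀ with hβ
  have ha' : ∀ g, a g = a₀ + α g := fun g => by simp [hα]
  have hb' : ∀ g, b g = b₀ + β g := fun g => by simp [hβ]
  have h1 : ∀ g, α g * β g = 0 := fun g => hmul _ (ha g) _ (hb g)
  have h2 : (∑ g, α g) * (∑ g, β g) = 0 :=
    hmul _ (I.sum_mem fun g _ => ha g) _ (I.sum_mem fun g _ => hb g)
  simp_rw [ha', hb', add_mul, mul_add, Finset.sum_add_distrib, h1, Finset.sum_const,
    ← Finset.mul_sum, ← Finset.sum_mul]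
  simp only [Finset.card_univ, nsmul_eq_mul]
  linear_combination (-1 : B) * h2

theorem aux (R : Type u) [CommRing R]
    (O : Type u) [CommRing O] [Algebra R O] [Algebra.FormallySmooth R O]
    (G : Type v) [Group G] [Finite G] [MulSemiringAction G O] [SMulCommClass G R O]
    (hG : IsUnit (Nat.card G : R)) (J : Ideal O)
    (hJ : J = Ideal.span {x : O | ∃ (g : G) (f : O), x = g • f - f}) :
    Algebra.FormallySmooth R (O ⧸ J) := by
  classical
  haveI : Fintype G := Fintype.ofFinite G
  rw [Algebra.FormallySmooth.iff_comp_surjective]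
  intro B _ _ I hI f
  obtain ⟨c, hc⟩ := hG.exists_left_inv
  rw [Nat.card_eq_fintype_card] at hc
  have hπ : ∀ (g : G) (x : O), Ideal.Quotient.mkₐ R J (g • x) = Ideal.Quotient.mkₐ R J x := by
    intro g x
    rw [← sub_eq_zero, ← map_sub]
    exact Ideal.Quotient.eq_zero_iff_mem.mpr (hJ ▸ Ideal.subset_span ⟨g, x, rfl⟩)
  obtain ⟨ψ, hψ⟩ := Algebra.FormallySmooth.comp_surjective R O I hI
    (f.comp (Ideal.Quotient.mkₐ R J))
  have hψ' : ∀ x : O, Ideal.Quotient.mk I (ψ x) = f (Ideal.Quotient.mkₐ R J x) := fun x =>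
    AlgHom.congr_fun hψ x
  have hdiff : ∀ (g : G) (x : O), ψ (g • x) - ψ x ∈ I := by
    intro g x
    rw [← Ideal.Quotient.eq_zero_iff_mem, map_sub, hψ', hψ', hπ, sub_self]
  let L : O →ₗ[R] B := c • ∑ g : G, ψ.toLinearMap ∘ₗ DistribSMul.toLinearMap R O g
  have hL : ∀ x, L x = c • ∑ g : G, ψ (g • x) := by
    intro x
    simp [L, LinearMap.sum_apply]
  have hcB : c • (Fintype.card G : B) = 1 := by
    have : ((c * (Fintype.card G : R)) • (1 : B)) = 1 := by rw [hc, one_smul]
    rw [mul_smul] at this
    simpa [Nat.cast_smul_eq_nsmul] using this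
  have hone : L 1 = 1 := by
    rw [hL]
    simp only [smul_one, map_one, Finset.sum_const, Finset.card_univ, nsmul_eq_mul, mul_one]
    exact hcB
  have hmul : ∀ x y, L (x * y) = L x * L y := by
    intro x y
    rw [hL, hL, hL]
    have key := sum_mul_sum_of_sq_zero I hI (fun g : G => ψ (g • x)) (fun g : G => ψ (g • y))
      (ψ x) (ψ y) (fun g => hdiff g x) (fun g => hdiff g y)
    simp only [smul_mul', map_mul]
    rw [smul_mul_smul_comm, ← key, ← smul_eq_mul c c, smul_assoc, ← smul_mul_assoc, hcB, one_mul]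
  let ψ₁ : O →ₐ[R] B := AlgHom.ofLinearMap L hone hmul
  have hψ₁ : ∀ x, ψ₁ x = c • ∑ g : G, ψ (g • x) := hL
  have hinv : ∀ (h : G) (x : O), ψ₁ (h • x) = ψ₁ x := by
    intro h x
    rw [hψ₁, hψ₁]
    congr 1
    simp only [← mul_smul]
    exact Fintype.sum_equiv (Equiv.mulRight h) _ _ (fun g => rfl)
  have hker : ∀ a ∈ J, ψ₁ a = 0 := by
    intro a ha
    have : J ≤ RingHom.ker ψ₁.toRingHom := by
      rw [hJ, Ideal.span_le]
      rintro _ ⟨g, x, rfl⟩
      show ψ₁ (g • x - x) = 0
      rw [map_sub, hinv, sub_self]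
    exact this ha
  refine ⟨Ideal.Quotient.liftₐ J ψ₁ hker, ?_⟩
  apply Ideal.Quotient.algHom_ext
  ext x
  show Ideal.Quotient.mk I (ψ₁ x) = f (Ideal.Quotient.mk J x)
  rw [hψ₁]
  have h3 : Ideal.Quotient.mk I (c • ∑ g : G, ψ (g • x)) =
      c • ∑ g : G, Ideal.Quotient.mk I (ψ (g • x)) := by
    rw [← Ideal.Quotient.mkₐ_eq_mk R, map_smul, map_sum]
  rw [h3]
  simp only [hψ', hπ, Finset.sum_const, Finset.card_univ]
  rw [← Nat.cast_smul_eq_nsmul R, smul_smul, hc, one_smul]
  rfl


/-- Let R be a commutative ring, O a formally smooth R-algebra and G a finite group whose order is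
invertible in R, acting on O by R-algebra automorphisms. Then the largest quotient algebra of O on
which G acts trivially, namely the quotient of O by the ideal generated by all g • f - f (the
coordinate ring of the subscheme of G-fixed points of Spec O), is again formally smooth over R:
invariant homomorphisms lift along square-zero extensions. The published statement is about a scheme
X smooth and of finite presentation over the base and concludes that its fixed-point scheme is
smooth; this row, the affine step of its proof, assumes only that O is formally smooth over R and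
concludes only formal smoothness. -/
theorem result (R : Type u) [CommRing R]
    (O : Type u) [CommRing O] [Algebra R O] [Algebra.FormallySmooth R O]
    (G : Type v) [Group G] [Finite G] [MulSemiringAction G O] [SMulCommClass G R O]
    (hG : IsUnit (Nat.card G : R)) :
    Algebra.FormallySmooth R (O ⧸ Ideal.span {x : O | ∃ (g : G) (f : O), x = g • f - f}) := by
  exact aux R O G hG _ rfl

end Groth.Agent.S16211
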