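import Groth.Statements.S1622
import Groth.Agent.Lib.Helper20.BlowPt

set_option autoImplicit false
universe u
open CategoryTheory CategoryTheory.Limits AlgebraicGeometry
open Resolve

namespace Groth.Agent.S1622

open IsLocalRing in
theorem exists_gens (R : Type u) [CommRing R] [IsRegularLocalRing R]
    (d : ℕ) (hd : ringKrullDim R = d) :
    ∃ x : Fin d → R, Ideal.span (Set.range x) = maximalIdeal R := by
  classical
  have hfg : (maximalIdeal R).FG := IsNoetherian.noetherian _
  obtain ⟨S, hcard, hspan⟩ := Submodule.FG.exists_span_finset_card_eq_spanFinrank hfg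
  have h2 : ((maximalIdeal R).spanFinrank : WithBot ℕ∞) = ringKrullDim R :=
    IsRegularLocalRing.spanFinrank_maximalIdeal
  rw [hd] at h2
  have h3 : S.card = d := by rw [hcard]; exact_mod_cast h2
  refine ⟨fun i => ((S.equivFinOfCardEq h3).symm i : R), ?_⟩
  rw [← hspan]
  congr 1
  ext r
  simp only [Set.mem_range, Finset.mem_coe]
  constructor
  · rintro ⟨i, rfl⟩
    exact ((S.equivFinOfCardEq h3).symm i).2
  · intro hr
    exact ⟨S.equivFinOfCardEq h3 ⟨r, hr⟩, by simp⟩

theorem ker_Spec_quotient (A : Type u) [CommRing A] (m : Ideal A) :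
    (Spec.map (CommRingCat.ofHom (Ideal.Quotient.mk m))).ker =
      Scheme.IdealSheafData.ofIdealTop (m.map (Scheme.ΓSpecIso (CommRingCat.of A)).inv.hom) := by
  rw [Scheme.ker_of_isAffine]
  congr 1
  have hnat := Scheme.ΓSpecIso_naturality (CommRingCat.ofHom (Ideal.Quotient.mk m))
  ext a
  rw [RingHom.mem_ker]
  have hinj : Function.Injective (Scheme.ΓSpecIso (CommRingCat.of (A ⧸ m))).hom.hom :=
    (ConcreteCategory.bijective_of_isIso (Scheme.ΓSpecIso (CommRingCat.of (A ⧸ m))).hom).1
  have h1 : (Scheme.ΓSpecIso (CommRingCat.of (A ⧸ m))).hom.hom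
      ((Spec.map (CommRingCat.ofHom (Ideal.Quotient.mk m))).appTop.hom a) =
      Ideal.Quotient.mk m ((Scheme.ΓSpecIso (CommRingCat.of A)).hom.hom a) := by
    exact congrArg (fun φ => φ.hom a) hnat
  have h2 : (Scheme.ΓSpecIso (CommRingCat.of A)).inv.hom
      ((Scheme.ΓSpecIso (CommRingCat.of A)).hom.hom a) = a := by
    have := congrArg (fun φ => φ.hom a) (Scheme.ΓSpecIso (CommRingCat.of A)).hom_inv_id
    simpa using this
  constructor
  · intro h
    have h3 : Ideal.Quotient.mk m ((Scheme.ΓSpecIso (CommRingCat.of A)).hom.hom a) = 0 := by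
      rw [← h1, h, map_zero]
    rw [Ideal.Quotient.eq_zero_iff_mem] at h3
    rw [← h2]
    exact Ideal.mem_map_of_mem _ h3
  · intro h
    apply hinj
    rw [h1, map_zero, Ideal.Quotient.eq_zero_iff_mem]
    obtain ⟨c, hc, rfl⟩ := (Ideal.mem_map_iff_of_surjective _
      (ConcreteCategory.bijective_of_isIso (Scheme.ΓSpecIso (CommRingCat.of A)).inv).2).1 h
    have h4 : (Scheme.ΓSpecIso (CommRingCat.of A)).hom.hom
        ((Scheme.ΓSpecIso (CommRingCat.of A)).inv.hom c) = c := by
      have := congrArg (fun φ => φ.hom c) (Scheme.ΓSpecIso (CommRingCat.of A)).inv_hom_id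
      simpa using this
    rw [h4]
    exact hc

/-- Let A be a regular local ring of dimension two and b : X → Spec A a blowing up of Spec A in the
maximal ideal (characterised by its universal property). Then X is irreducible and all of its local
rings are regular. -/
theorem result (A : Type u) [CommRing A] [IsRegularLocalRing A] (hA : ringKrullDim A = 2)
    (X : Scheme.{u}) (b : X ⟶ Spec (CommRingCat.of A)) (hb : BlowUp.IsBlowUp b (Curv2.idealSheaf A (IsLocalRing.maximalIdeal A))) :
    IrreducibleSpace X ∧ ∀ x : X, IsRegularLocalRing (X.presheaf.stalk x) := by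
  classical
  set m := IsLocalRing.maximalIdeal A with hm
  let X₀ : Scheme.{u} := Spec (CommRingCat.of A)
  let εiso : A ≃+* Γ(X₀, ⊤) := (Scheme.ΓSpecIso (CommRingCat.of A)).symm.commRingCatIsoToRingEquiv
  have hεiso : (εiso : A →+* Γ(X₀, ⊤)) = (Scheme.ΓSpecIso (CommRingCat.of A)).inv.hom := rfl
  haveI : IsRegularLocalRing Γ(X₀, ⊤) := IsRegularLocalRing.of_ringEquiv εiso
  have hdimR : ringKrullDim Γ(X₀, ⊤) = (2 : ℕ) := by
    rw [← ringKrullDim_eq_of_ringEquiv εiso, hA]; rfl
  -- the ideal sheaf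
  have h𝓘 : Curv2.idealSheaf A m = Scheme.IdealSheafData.ofIdealTop
      (m.map (Scheme.ΓSpecIso (CommRingCat.of A)).inv.hom) := rfl
  rw [h𝓘] at hb
  have htop : (Scheme.IdealSheafData.ofIdealTop
      (m.map (Scheme.ΓSpecIso (CommRingCat.of A)).inv.hom)).ideal ⟨⊤, isAffineOpen_top X₀⟩ =
      IsLocalRing.maximalIdeal Γ(X₀, ⊤) := by
    have h1 : (Scheme.IdealSheafData.ofIdealTop
        (m.map (Scheme.ΓSpecIso (CommRingCat.of A)).inv.hom)).ideal ⟨⊤, isAffineOpen_top X₀⟩ =
        m.map (Scheme.ΓSpecIso (CommRingCat.of A)).inv.hom :=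
      Scheme.IdealSheafData.equivOfIsAffine.right_inv _
    rw [h1, ← hεiso]
    apply IsLocalRing.eq_maximalIdeal
    exact Ideal.IsMaximal.map_bijective (εiso : A →+* Γ(X₀, ⊤)) εiso.bijective inferInstance
  obtain ⟨x, hx⟩ := exists_gens Γ(X₀, ⊤) 2 hdimR
  have hregseq := Groth.Agent.Lib.Helper76.isRegular_of_span_range_eq_maximalIdeal Γ(X₀, ⊤) 2 hdimR x hx
  have hq : CAlgX.IsQuasiRegular x :=
    Groth.Agent.Lib.Helper3.QReg.isQuasiRegular_of_isWeaklyRegular x hregseq.toIsWeaklyRegular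
  -- the closed immersion of the closed point
  letI : Field (A ⧸ m) := Ideal.Quotient.field m
  let i : Spec (CommRingCat.of (A ⧸ m)) ⟶ X₀ := Spec.map (CommRingCat.ofHom (Ideal.Quotient.mk m))
  haveI : IsClosedImmersion i :=
    IsClosedImmersion.spec_of_surjective _ Ideal.Quotient.mk_surjective
  have hker : i.ker = Scheme.IdealSheafData.ofIdealTop
      (m.map (Scheme.ΓSpecIso (CommRingCat.of A)).inv.hom) := ker_Spec_quotient A m
  rw [← hker] at hb
  have hreg : ∀ z : Spec (CommRingCat.of (A ⧸ m)), ∃ (U : X₀.Opens) (hU : IsAffineOpen U), i z ∈ U ∧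
      ∃ (n : ℕ) (f₀ : Fin n → Γ(X₀, U)), CAlgX.IsQuasiRegular f₀ ∧
        i.ker.ideal ⟨U, hU⟩ = Ideal.span (Set.range f₀) := by
    intro z
    refine ⟨⊤, isAffineOpen_top X₀, trivial, 2, x, hq, ?_⟩
    rw [hker, htop, hx]
  haveI : IsDomain A := Groth.Agent.Lib.Helper76.isDomain_of_isRegularLocalRing A
  constructor
  · -- irreducible
    haveI : IrreducibleSpace X₀ := inferInstanceAs (IrreducibleSpace (PrimeSpectrum A))
    refine Groth.Agent.Lib.Helper20.BlowPt.irreducible_blowUp i.ker b hb ?_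
    refine ⟨(⟨⊥, Ideal.isPrime_bot⟩ : PrimeSpectrum A), ?_⟩
    intro hmem
    rw [hker] at hmem
    have hmem' : (⟨⊥, Ideal.isPrime_bot⟩ : PrimeSpectrum A) ∈
        ((Scheme.IdealSheafData.ofIdealTop
          (m.map (Scheme.ΓSpecIso (CommRingCat.of A)).inv.hom)).support : Set X₀) := hmem
    rw [Scheme.IdealSheafData.coe_support_ofIdealTop, Spec_zeroLocus] at hmem'
    have hmem'' := (PrimeSpectrum.mem_zeroLocus (⟨⊥, Ideal.isPrime_bot⟩ : PrimeSpectrum A) _).1 hmem'
    have hm0 : m = ⊥ := by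
      rw [eq_bot_iff]
      intro s hs
      apply hmem''
      exact Ideal.mem_map_of_mem _ hs
    have hfield : IsField A := IsLocalRing.isField_iff_maximalIdeal_eq.2 hm0
    have := ringKrullDim_eq_zero_of_isField hfield
    rw [hA] at this
    exact absurd this (by norm_num)
  · intro x'
    haveI : IsLocallyNoetherian X₀ := inferInstanceAs (IsLocallyNoetherian (Spec (CommRingCat.of A)))
    exact Groth.Agent.Lib.Helper20.BlowPt.regular_blowUp i hreg
      (fun y => Groth.Agent.Lib.Helper20.BlowPt.regular_stalk_Spec A y)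
      (fun y => Groth.Agent.Lib.Helper20.BlowPt.regular_stalk_Spec (A ⧸ m) y) b hb x'

end Groth.Agent.S1622
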