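import Groth.Statements.S16220
import Mathlib.Tactic
import Mathlib.RingTheory.WittVector.Complete

set_option autoImplicit false
universe u v
open Disp

namespace Groth.Agent.S16220

lemma quot_tors (p : ℕ) [Fact p.Prime] (k : Type u) [CommRing k]
    [CharP k p] [PerfectRing k p] (n : ℕ) (hn : 1 ≤ n)
    (x : WittVector p k ⧸ Ideal.span {(p : WittVector p k) ^ n})
    (hx : (p : WittVector p k ⧸ Ideal.span {(p : WittVector p k) ^ n}) * x = 0) :
    ∃ y : WittVector p k ⧸ Ideal.span {(p : WittVector p k) ^ n},
      x = (p : WittVector p k ⧸ Ideal.span {(p : WittVector p k) ^ n}) ^ (n - 1) * y := by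
  obtain ⟨a, rfl⟩ := Ideal.Quotient.mk_surjective x
  have h1 : (p : WittVector p k) * a ∈ Ideal.span {(p : WittVector p k) ^ n} := by
    rw [← Ideal.Quotient.eq_zero_iff_mem, map_mul, map_natCast]
    exact hx
  rw [Ideal.mem_span_singleton'] at h1
  obtain ⟨b, hb⟩ := h1
  have h2 : (a - (p : WittVector p k) ^ (n - 1) * b) * (p : WittVector p k) = 0 := by
    have hpn : (p : WittVector p k) ^ n = (p : WittVector p k) ^ (n - 1) * p := by
      rw [← pow_succ]; congr 1; omega
    rw [hpn] at hb
    linear_combination -hb
  have h3 := WittVector.eq_zero_of_p_mul_eq_zero _ h2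
  refine ⟨Ideal.Quotient.mk _ b, ?_⟩
  rw [sub_eq_zero] at h3
  rw [h3, map_mul, map_pow, map_natCast]

lemma mod_tors (p : ℕ) [Fact p.Prime] (k : Type u) [CommRing k]
    [CharP k p] [PerfectRing k p] (n : ℕ) (hn : 1 ≤ n)
    (M : Type v) [AddCommGroup M]
    [Module (WittVector p k ⧸ Ideal.span {(p : WittVector p k) ^ n}) M]
    [Module.Projective (WittVector p k ⧸ Ideal.span {(p : WittVector p k) ^ n}) M]
    (m : M)
    (hm : (p : WittVector p k ⧸ Ideal.span {(p : WittVector p k) ^ n}) • m = 0) :
    ∃ m' : M, m = (p : WittVector p k ⧸ Ideal.span {(p : WittVector p k) ^ n}) ^ (n - 1) • m' := by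
  obtain ⟨s, hs⟩ := Module.projective_def'.mp
    (inferInstance : Module.Projective (WittVector p k ⧸ Ideal.span {(p : WittVector p k) ^ n}) M)
  have h1 : ∀ i : M, (p : WittVector p k ⧸ Ideal.span {(p : WittVector p k) ^ n}) * (s m i) = 0 := by
    intro i
    have h := congrArg (fun t => s t i) hm
    simpa using h
  choose y hy using fun i => quot_tors p k n hn (s m i) (h1 i)
  refine ⟨∑ i ∈ (s m).support, y i • i, ?_⟩
  have h2 : m = Finsupp.linearCombination _ id (s m) := (LinearMap.congr_fun hs m).symm
  rw [Finsupp.linearCombination_apply, Finsupp.sum] at h2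
  conv_lhs => rw [h2]
  rw [Finset.smul_sum]
  refine Finset.sum_congr rfl fun i _ => ?_
  rw [smul_smul, ← hy i]
  rfl

/-- Let p be a prime and k a perfect ring of characteristic p, so that the Frobenius σ of W = W(k) is
bijective, W has no p-torsion and W/p^n W = W_n(k) (the ideal p^n W is the kernel of the truncation
to length n). Let n ≥ 2 and let M be a truncated Dieudonné module of level n over k: a W-module on
which W acts through W/p^n W, finitely generated and projective over W/p^n W, with a σ-semilinear F
: M → M and a σ⁻¹-semilinear V : M → M such that FV = VF = p. Then on M/pM the kernel of F is the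
image of V and the kernel of V is the image of F; stated inside M: the preimage of pM under F is VM
+ pM, and the preimage of pM under V is FM + pM. -/
theorem result (p : ℕ) [Fact p.Prime] (k : Type u) [CommRing k]
    [CharP k p] [PerfectRing k p] (n : ℕ) (hn : 2 ≤ n)
    (M : Type v) [AddCommGroup M] [Module (WittVector p k) M]
    [Module (WittVector p k ⧸ Ideal.span {(p : WittVector p k) ^ n}) M] [IsScalarTower (WittVector p k) (WittVector p k ⧸ Ideal.span {(p : WittVector p k) ^ n}) M]
    [Module.Finite (WittVector p k ⧸ Ideal.span {(p : WittVector p k) ^ n}) M] [Module.Projective (WittVector p k ⧸ Ideal.span {(p : WittVector p k) ^ n}) M]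
    (F : M →ₛₗ[(WittVector.frobenius : WittVector p k →+* WittVector p k)] M)
    (V : M →ₛₗ[((WittVector.frobeniusEquiv p k).symm : WittVector p k →+* WittVector p k)] M)
    (hFV : ∀ m : M, F (V m) = (p : WittVector p k) • m) (hVF : ∀ m : M, V (F m) = (p : WittVector p k) • m) :
    (Ideal.span {(p : WittVector p k)} • (⊤ : Submodule (WittVector p k) M)).comap F =
        Submodule.span (WittVector p k) (Set.range V) ⊔ Ideal.span {(p : WittVector p k)} • (⊤ : Submodule (WittVector p k) M) ∧
      (Ideal.span {(p : WittVector p k)} • (⊤ : Submodule (WittVector p k) M)).comap V =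
        Submodule.span (WittVector p k) (Set.range F) ⊔ Ideal.span {(p : WittVector p k)} • (⊤ : Submodule (WittVector p k) M) := by
  have hsm : ∀ m : M, (p : WittVector p k) • m =
      (p : WittVector p k ⧸ Ideal.span {(p : WittVector p k) ^ n}) • m := by
    intro m
    rw [← IsScalarTower.algebraMap_smul (WittVector p k ⧸ Ideal.span {(p : WittVector p k) ^ n})
      (p : WittVector p k) m, map_natCast]
  have hpow : ∀ (j : ℕ) (m : M), ((p : WittVector p k) ^ j) • m =
      ((p : WittVector p k ⧸ Ideal.span {(p : WittVector p k) ^ n}) ^ j) • m := by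
    intro j m
    rw [← IsScalarTower.algebraMap_smul (WittVector p k ⧸ Ideal.span {(p : WittVector p k) ^ n})
      ((p : WittVector p k) ^ j) m, map_pow, map_natCast]
  have hmem : ∀ x : M, x ∈ Ideal.span {(p : WittVector p k)} • (⊤ : Submodule (WittVector p k) M) ↔
      ∃ y : M, (p : WittVector p k) • y = x := by
    intro x
    rw [Submodule.ideal_span_singleton_smul, Submodule.mem_smul_pointwise_iff_exists]
    simp
  have htors : ∀ x : M, (p : WittVector p k) • x = 0 → ∃ z : M, x = (p : WittVector p k) • z := by
    intro x hx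
    rw [hsm] at hx
    obtain ⟨m', hm'⟩ := mod_tors p k n (by omega) M x hx
    refine ⟨((p : WittVector p k) ^ (n - 2)) • m', ?_⟩
    rw [hm', ← hpow, smul_smul, ← pow_succ']
    congr 2
    omega
  have hFp : ∀ y : M, F ((p : WittVector p k) • y) = (p : WittVector p k) • F y := by
    intro y
    rw [map_smulₛₗ, map_natCast]
  have hVp : ∀ y : M, V ((p : WittVector p k) • y) = (p : WittVector p k) • V y := by
    intro y
    rw [map_smulₛₗ]
    congr 1
    exact map_natCast ((WittVector.frobeniusEquiv p k).symm : WittVector p k →+* WittVector p k) p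
  constructor
  · apply le_antisymm
    · intro x hx
      rw [Submodule.mem_comap, hmem] at hx
      obtain ⟨y, hy⟩ := hx
      have h1 : F (x - V y) = 0 := by rw [map_sub, hFV, hy, sub_self]
      have h2 : (p : WittVector p k) • (x - V y) = 0 := by rw [← hVF, h1, map_zero]
      obtain ⟨z, hz⟩ := htors _ h2
      have h3 : x = V y + (p : WittVector p k) • z := by rw [← hz]; abel
      rw [h3]
      exact Submodule.add_mem_sup (Submodule.subset_span ⟨y, rfl⟩) ((hmem _).mpr ⟨z, rfl⟩)
    · rw [sup_le_iff]
      constructor
      · rw [Submodule.span_le]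
        rintro _ ⟨m, rfl⟩
        rw [SetLike.mem_coe, Submodule.mem_comap, hFV]
        exact (hmem _).mpr ⟨m, rfl⟩
      · intro x hx
        obtain ⟨y, rfl⟩ := (hmem _).mp hx
        rw [Submodule.mem_comap, hFp]
        exact (hmem _).mpr ⟨F y, rfl⟩
  · apply le_antisymm
    · intro x hx
      rw [Submodule.mem_comap, hmem] at hx
      obtain ⟨y, hy⟩ := hx
      have h1 : V (x - F y) = 0 := by rw [map_sub, hVF, hy, sub_self]
      have h2 : (p : WittVector p k) • (x - F y) = 0 := by rw [← hFV, h1, map_zero]
      obtain ⟨z, hz⟩ := htors _ h2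
      have h3 : x = F y + (p : WittVector p k) • z := by rw [← hz]; abel
      rw [h3]
      exact Submodule.add_mem_sup (Submodule.subset_span ⟨y, rfl⟩) ((hmem _).mpr ⟨z, rfl⟩)
    · rw [sup_le_iff]
      constructor
      · rw [Submodule.span_le]
        rintro _ ⟨m, rfl⟩
        rw [SetLike.mem_coe, Submodule.mem_comap, hVF]
        exact (hmem _).mpr ⟨m, rfl⟩
      · intro x hx
        obtain ⟨y, rfl⟩ := (hmem _).mp hx
        rw [Submodule.mem_comap, hVp]
        exact (hmem _).mpr ⟨V y, rfl⟩

end Groth.Agent.S16220
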