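import Groth.Statements.S16223
import Groth.Agent.Lib.Helper47.WittDesc3

set_option autoImplicit false
open CategoryTheory Opposite
universe u
open CAlg

namespace Groth.Agent.S16223

/-- Let p be a prime, n a natural number, and R → R' a faithfully flat homomorphism of commutative rings
in which p is nilpotent; write W_n for truncated Witt vectors of length n. A descent datum of
W_n(R')-modules relative to R → R' is a W_n(R')-module M' with, for every ring T and every pair of
maps R' ⇉ T agreeing on R, an isomorphism between the two base changes of M' to W_n(T), natural in T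
and satisfying the cocycle condition (equivalently an isomorphism over W_n(R' ⊗_R R') with the
cocycle condition over W_n(R' ⊗_R R' ⊗_R R')); base change W_n(R') ⊗_{W_n(R)} M of a W_n(R)-module M
carries the canonical such datum. Then for finitely generated projective W_n(R)-modules M and N, the
map sending a W_n(R)-linear map M → N to the induced morphism of canonical descent data is bijective
(the functor to descent data is fully faithful on such modules). -/
theorem result (p : ℕ) [Fact p.Prime] (n : ℕ)
    (R R' : Type u) [CommRing R] [CommRing R'] [Algebra R R'] [Module.FaithfullyFlat R R']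
    (hp : IsNilpotent (p : R))
    (M N : ModuleCat.{u} (TruncatedWittVector p n R))
    [Module.Finite (TruncatedWittVector p n R) M] [Module.Projective (TruncatedWittVector p n R) M]
    [Module.Finite (TruncatedWittVector p n R) N] [Module.Projective (TruncatedWittVector p n R) N] :
    Function.Bijective (fun φ : M ⟶ N =>
      ((W4c3truncdispsmooth.wittModPF.{u} p n).toDescentData (fun _ : PUnit.{u + 1} => (CommRingCat.ofHom (algebraMap R R')).op)).map φ) := by
  classical
  have heff : Algebra.IsEffective R R' := Algebra.IsEffective.of_faithfullyFlat R R'
  have hinjR : Function.Injective (algebraMap R R') := FaithfulSMul.algebraMap_injective R R'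
  haveI : Module.Flat (TruncatedWittVector p n R) N := inferInstance
  let a : CommRingCat.of R ⟶ CommRingCat.of R' := CommRingCat.ofHom (algebraMap R R')
  let j₁ : CommRingCat.of R' ⟶ CommRingCat.of (TensorProduct R R' R') :=
    CommRingCat.ofHom (Algebra.TensorProduct.includeLeftRingHom : R' →+* TensorProduct R R' R')
  let j₂ : CommRingCat.of R' ⟶ CommRingCat.of (TensorProduct R R' R') :=
    CommRingCat.ofHom ((Algebra.TensorProduct.includeRight : R' →ₐ[R] TensorProduct R R' R') :
      R' →+* TensorProduct R R' R')
  let c : CommRingCat.of R ⟶ CommRingCat.of (TensorProduct R R' R') :=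
    CommRingCat.ofHom (algebraMap R (TensorProduct R R' R'))
  have e₁ : a ≫ j₁ = c := by
    ext r
    rfl
  have e₂ : a ≫ j₂ = c := by
    ext r
    exact (Algebra.TensorProduct.includeRight : R' →ₐ[R] TensorProduct R R' R').commutes r
  have ha : Function.Injective ((W4c3truncdispsmooth.wittTrunc p n).map a).hom := by
    intro x y hxy
    apply TruncatedWittVector.ext
    intro i
    have h1 : TruncatedWittVector.coeff i (WittGrp.truncMap p n (algebraMap R R') x) =
        TruncatedWittVector.coeff i (WittGrp.truncMap p n (algebraMap R R') y) :=
      congrArg (fun z : TruncatedWittVector p n R' => z.coeff i) hxy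
    rw [WittGrp.coeff_truncMap, WittGrp.coeff_truncMap] at h1
    exact hinjR h1
  have hEq : ∀ b : (W4c3truncdispsmooth.wittTrunc p n).obj (CommRingCat.of R'),
      ((W4c3truncdispsmooth.wittTrunc p n).map j₁).hom b =
        ((W4c3truncdispsmooth.wittTrunc p n).map j₂).hom b →
      ∃ s : (W4c3truncdispsmooth.wittTrunc p n).obj (CommRingCat.of R),
        ((W4c3truncdispsmooth.wittTrunc p n).map a).hom s = b := by
    intro b hb
    have hb' : WittGrp.truncMap p n
        (Algebra.TensorProduct.includeLeftRingHom : R' →+* TensorProduct R R' R')
          (show TruncatedWittVector p n R' from b) =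
        WittGrp.truncMap p n ((Algebra.TensorProduct.includeRight :
          R' →ₐ[R] TensorProduct R R' R') : R' →+* TensorProduct R R' R')
          (show TruncatedWittVector p n R' from b) := hb
    have hcoord : ∀ i : Fin n, ∃ s : R, algebraMap R R' s =
        TruncatedWittVector.coeff i (show TruncatedWittVector p n R' from b) := by
      intro i
      have h2 := congrArg
        (fun y : TruncatedWittVector p n (TensorProduct R R' R') => y.coeff i) hb'
      simp only [WittGrp.coeff_truncMap] at h2
      have h0 : Algebra.TensorProduct.includeLeftSubRight R R'
          (TruncatedWittVector.coeff i (show TruncatedWittVector p n R' from b)) = 0 := by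
        rw [Algebra.TensorProduct.includeLeftSubRight_apply, sub_eq_zero]
        exact h2
      obtain ⟨s, hs⟩ := (heff _).mp h0
      exact ⟨s, hs⟩
    choose sf hsf using hcoord
    refine ⟨TruncatedWittVector.mk p sf, ?_⟩
    apply TruncatedWittVector.ext
    intro i
    have : TruncatedWittVector.coeff i (WittGrp.truncMap p n (algebraMap R R')
        (TruncatedWittVector.mk p sf)) =
        TruncatedWittVector.coeff i (show TruncatedWittVector p n R' from b) := by
      rw [WittGrp.coeff_truncMap, TruncatedWittVector.coeff_mk, hsf]
    exact this
  let N₀ : ModuleCat.{u} ((W4c3truncdispsmooth.wittTrunc p n).obj (CommRingCat.of R)) := N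
  have hflat : Module.Flat ((W4c3truncdispsmooth.wittTrunc p n).obj (CommRingCat.of R)) N₀ :=
    (inferInstance : Module.Flat (TruncatedWittVector p n R) N)
  have key := Groth.Agent.Lib.Helper47.WittDesc.bijective_map_F'
    (W4c3truncdispsmooth.wittTrunc p n) (W4c3truncdispsmooth.wittModPF.{u} p n) rfl
    (CommRingCat.ofHom (algebraMap R R')) j₁ j₂ c e₁ e₂
    (fun _ : PUnit.{u + 1} => (CommRingCat.ofHom (algebraMap R R')).op) rfl M N ha hEq N₀ HEq.rfl
  exact key

end Groth.Agent.S16223
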