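import Groth.Statements.S16225
import Mathlib.RingTheory.TensorProduct.IncludeLeftSubRight
import Mathlib.RingTheory.Flat.FaithfullyFlat.Algebra

set_option autoImplicit false
open scoped TensorProduct
universe u v
open CAlg

namespace Groth.Agent.S16225

/-- Let p be a prime, n a natural number and R → R' a faithfully flat homomorphism of commutative rings
in which p is nilpotent. Regard W_n(R') and W_n(R' ⊗_R R') as W_n(R)-algebras through the
componentwise maps induced by R → R' and R → R' ⊗_R R', and let ψ₁, ψ₂ : W_n(R') → W_n(R' ⊗_R R') be
the componentwise maps induced by the two inclusions of R' (these are W_n(R)-algebra maps). Then for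
every flat W_n(R)-module M the sequence 0 → M → M ⊗_{W_n(R)} W_n(R') ⇉ M ⊗_{W_n(R)} W_n(R' ⊗_R R')
is exact: m ↦ m ⊗ 1 is injective and its image is the equalizer of id ⊗ ψ₁ and id ⊗ ψ₂. (This is the
beginning, in degrees 0 and 1, of a complex continued by the higher tensor powers of R', which the
published proof asserts to be exact throughout; W_n(R) → W_n(R') is not flat in general, so this is
not faithfully flat descent.) -/
theorem result (p : ℕ) [Fact p.Prime] (n : ℕ)
    (R R' : Type u) [CommRing R] [CommRing R'] [Algebra R R'] [Module.FaithfullyFlat R R']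
    (hp : IsNilpotent (p : R))
    [Algebra (TruncatedWittVector p n R) (TruncatedWittVector p n R')]
    (h₁ : algebraMap (TruncatedWittVector p n R) (TruncatedWittVector p n R') = WittGrp.truncMap p n (algebraMap R R'))
    [Algebra (TruncatedWittVector p n R) (TruncatedWittVector p n (TensorProduct R R' R'))]
    (h₂ : algebraMap (TruncatedWittVector p n R) (TruncatedWittVector p n (TensorProduct R R' R')) =
      WittGrp.truncMap p n (algebraMap R (TensorProduct R R' R')))
    (ψ₁ ψ₂ : TruncatedWittVector p n R' →ₐ[TruncatedWittVector p n R] TruncatedWittVector p n (TensorProduct R R' R'))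
    (hψ₁ : (ψ₁ : TruncatedWittVector p n R' →+* TruncatedWittVector p n (TensorProduct R R' R')) =
      WittGrp.truncMap p n (Algebra.TensorProduct.includeLeftRingHom : R' →+* TensorProduct R R' R'))
    (hψ₂ : (ψ₂ : TruncatedWittVector p n R' →+* TruncatedWittVector p n (TensorProduct R R' R')) =
      WittGrp.truncMap p n ((Algebra.TensorProduct.includeRight : R' →ₐ[R] TensorProduct R R' R') : R' →+* TensorProduct R R' R'))
    (M : Type v) [AddCommGroup M] [Module (TruncatedWittVector p n R) M] [Module.Flat (TruncatedWittVector p n R) M] :
    Function.Injective (fun m : M => m ⊗ₜ[TruncatedWittVector p n R] (1 : TruncatedWittVector p n R')) ∧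
      ∀ x : M ⊗[TruncatedWittVector p n R] TruncatedWittVector p n R',
        LinearMap.lTensor M ψ₁.toLinearMap x = LinearMap.lTensor M ψ₂.toLinearMap x →
          x ∈ Set.range (fun m : M => m ⊗ₜ[TruncatedWittVector p n R] (1 : TruncatedWittVector p n R')) := by
  have heff : Algebra.IsEffective R R' := Algebra.IsEffective.of_faithfullyFlat R R'
  have hinjR : Function.Injective (algebraMap R R') := FaithfulSMul.algebraMap_injective R R'
  -- exactness at the ring level
  have hex : Function.Exact
      (Algebra.linearMap (TruncatedWittVector p n R) (TruncatedWittVector p n R'))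
      (ψ₁.toLinearMap - ψ₂.toLinearMap) := by
    intro b
    constructor
    · intro hb
      have hb' : ψ₁ b = ψ₂ b := by
        have := hb
        rw [LinearMap.sub_apply, sub_eq_zero] at this
        exact this
      have hcoord : ∀ i : Fin n, ∃ s : R, algebraMap R R' s = b.coeff i := by
        intro i
        have h1 : (ψ₁ : TruncatedWittVector p n R' →+* TruncatedWittVector p n (TensorProduct R R' R')) b =
            (ψ₂ : TruncatedWittVector p n R' →+* TruncatedWittVector p n (TensorProduct R R' R')) b := hb'
        rw [hψ₁, hψ₂] at h1
        have h2 := congrArg (fun y : TruncatedWittVector p n (TensorProduct R R' R') => y.coeff i) h1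
        simp only [WittGrp.coeff_truncMap] at h2
        have h0 : Algebra.TensorProduct.includeLeftSubRight R R' (b.coeff i) = 0 := by
          rw [Algebra.TensorProduct.includeLeftSubRight_apply, sub_eq_zero]
          exact h2
        obtain ⟨s, hs⟩ := (heff (b.coeff i)).mp h0
        exact ⟨s, hs⟩
      choose sf hsf using hcoord
      refine ⟨TruncatedWittVector.mk p sf, ?_⟩
      rw [Algebra.linearMap_apply, h₁]
      apply TruncatedWittVector.ext
      intro i
      rw [WittGrp.coeff_truncMap, TruncatedWittVector.coeff_mk, hsf]
    · rintro ⟨s, rfl⟩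
      rw [LinearMap.sub_apply, sub_eq_zero, Algebra.linearMap_apply]
      change ψ₁ (algebraMap _ _ s) = ψ₂ (algebraMap _ _ s)
      rw [AlgHom.commutes, AlgHom.commutes]
  have hinj : Function.Injective
      (Algebra.linearMap (TruncatedWittVector p n R) (TruncatedWittVector p n R')) := by
    intro x y hxy
    rw [Algebra.linearMap_apply, Algebra.linearMap_apply, h₁] at hxy
    apply TruncatedWittVector.ext
    intro i
    have := congrArg (fun z : TruncatedWittVector p n R' => z.coeff i) hxy
    simp only [WittGrp.coeff_truncMap] at this
    exact hinjR this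
  have key : ∀ m : M, LinearMap.lTensor M
      (Algebra.linearMap (TruncatedWittVector p n R) (TruncatedWittVector p n R'))
      (m ⊗ₜ[TruncatedWittVector p n R] (1 : TruncatedWittVector p n R)) =
      m ⊗ₜ[TruncatedWittVector p n R] (1 : TruncatedWittVector p n R') := by
    intro m
    rw [LinearMap.lTensor_tmul, Algebra.linearMap_apply, map_one]
  refine ⟨?_, ?_⟩
  · intro m₁ m₂ h
    have h1 := Module.Flat.lTensor_preserves_injective_linearMap (M := M) _ hinj
    have h2 : m₁ ⊗ₜ[TruncatedWittVector p n R] (1 : TruncatedWittVector p n R) =
        m₂ ⊗ₜ[TruncatedWittVector p n R] (1 : TruncatedWittVector p n R) :=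
      h1 ((key m₁).trans (h.trans (key m₂).symm))
    have := congrArg (TensorProduct.rid (TruncatedWittVector p n R) M) h2
    rwa [TensorProduct.rid_tmul, TensorProduct.rid_tmul, one_smul, one_smul] at this
  · intro x hx
    have hex' := Module.Flat.lTensor_exact M hex
    have h0 : LinearMap.lTensor M (ψ₁.toLinearMap - ψ₂.toLinearMap) x = 0 := by
      rw [LinearMap.lTensor_sub, LinearMap.sub_apply, sub_eq_zero]
      exact hx
    obtain ⟨u, hu⟩ := (hex' x).mp h0
    refine ⟨TensorProduct.rid (TruncatedWittVector p n R) M u, ?_⟩
    have hu' : u = (TensorProduct.rid (TruncatedWittVector p n R) M u) ⊗ₜ[TruncatedWittVector p n R]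
        (1 : TruncatedWittVector p n R) := by
      apply (TensorProduct.rid (TruncatedWittVector p n R) M).injective
      rw [TensorProduct.rid_tmul, one_smul]
    change _ ⊗ₜ[TruncatedWittVector p n R] (1 : TruncatedWittVector p n R') = x
    rw [← key, ← hu', hu]

end Groth.Agent.S16225
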