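import Groth.Statements.S16226
import Groth.Statements.S16226
import Groth.Agent.S14445
import Groth.Prelude.Def_ActBC

set_option autoImplicit false
universe u
open CategoryTheory MonoidalCategory CartesianMonoidalCategory MonObj AlgebraicGeometry
open PrincBund

namespace Groth.Agent.S16226

section Aux
open CategoryTheory MonoidalCategory CartesianMonoidalCategory MonObj AlgebraicGeometry
open PrincBund Limits


open Groth.Agent.S14445 (sm psi_iff)

variable {S : Scheme.{u}} {G F Q : Over S} [GrpObj G]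
  (b : AlgGrp.Action G F) (π : F ⟶ Q) (σ : 𝟙_ (Over S) ⟶ Q)

noncomputable def E : Over S := Limits.pullback π σ

noncomputable def φ : E π σ ⟶ F := pullback.fst π σ

lemma φ_π : φ π σ ≫ π = toUnit _ ≫ σ := by
  have h := pullback.condition (f := π) (g := σ)
  have h2 : pullback.snd π σ = toUnit (Limits.pullback π σ) := toUnit_unique _ _
  rw [h2] at h
  exact h

lemma E_ext {W : Over S} (p q : W ⟶ E π σ) (h : p ≫ φ π σ = q ≫ φ π σ) : p = q :=
  pullback.hom_ext h (toUnit_unique _ _)

noncomputable def Elift {W : Over S} (x : W ⟶ F) (hx : x ≫ π = toUnit W ≫ σ) : W ⟶ E π σ :=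
  pullback.lift x (toUnit W) hx

@[reassoc (attr := simp)]
lemma Elift_φ {W : Over S} (x : W ⟶ F) (hx : x ≫ π = toUnit W ≫ σ) :
    Elift π σ x hx ≫ φ π σ = x := pullback.lift_fst _ _ _

lemma isPullback_E : IsPullback (φ π σ) (toUnit (E π σ)) π σ := by
  have := IsPullback.of_hasPullback π σ
  rwa [toUnit_unique (pullback.snd π σ) (toUnit (E π σ))] at this

variable (hsq : IsPullback b.act (snd G F) π π)

include hsq in
lemma act_cond : ((G ◁ φ π σ) ≫ b.act) ≫ π = toUnit _ ≫ σ := by
  rw [Category.assoc, hsq.w, whiskerLeft_snd_assoc, φ_π, ← Category.assoc]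
  congr 1
  exact toUnit_unique _ _

noncomputable def aE : AlgGrp.Action G (E π σ) where
  act := Elift π σ ((G ◁ φ π σ) ≫ b.act) (act_cond b π σ hsq)
  one_act := by
    apply E_ext
    rw [Category.assoc, Elift_φ, ← whisker_exchange_assoc, b.one_act, leftUnitor_naturality]
  mul_act := by
    apply E_ext
    apply AlgGrp.Action.hom_ext_lift₃
    intro T h h' x
    simp only [Category.assoc, Elift_φ]
    rw [lift_whiskerRight_assoc, lift_whiskerLeft_assoc, ← Hom.mul_def,
      lift_lift_associator_hom_assoc, lift_whiskerLeft_assoc, lift_whiskerLeft_assoc,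
      Category.assoc, Elift_φ, lift_whiskerLeft_assoc]
    exact AlgGrp.Action.lift_mul_act b h h' (x ≫ φ π σ)

lemma aE_act_φ : (aE b π σ hsq).act ≫ φ π σ = (G ◁ φ π σ) ≫ b.act := Elift_φ _ _ _ _

lemma sm_φ {W : Over S} (g : W ⟶ G) (e : W ⟶ E π σ) :
    sm (aE b π σ hsq) g e ≫ φ π σ = sm b g (e ≫ φ π σ) := by
  unfold sm
  rw [Category.assoc, aE_act_φ, lift_whiskerLeft_assoc]

lemma pseudo : NonAbH1.IsPseudoTorsorSch (aE b π σ hsq) := by
  unfold NonAbH1.IsPseudoTorsorSch
  rw [psi_iff]
  intro W e e'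
  have hw : (e' ≫ φ π σ) ≫ π = (e ≫ φ π σ) ≫ π := by
    rw [Category.assoc, Category.assoc, φ_π, ← Category.assoc, ← Category.assoc]
    congr 1
    exact toUnit_unique _ _
  refine ⟨hsq.lift (e' ≫ φ π σ) (e ≫ φ π σ) hw ≫ fst _ _, ?_, ?_⟩
  · apply E_ext
    rw [sm_φ]
    unfold sm
    have h2 := hsq.lift_snd (e' ≫ φ π σ) (e ≫ φ π σ) hw
    have h1 := hsq.lift_fst (e' ≫ φ π σ) (e ≫ φ π σ) hw
    refine Eq.trans ?_ h1
    congr 1
    ext
    · simp
    · simp [h2]
  · intro g hg
    have hg' := congrArg (· ≫ φ π σ) hg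
    simp only [sm_φ] at hg'
    have : lift g (e ≫ φ π σ) = hsq.lift (e' ≫ φ π σ) (e ≫ φ π σ) hw := by
      apply hsq.hom_ext
      · rw [hsq.lift_fst]; exact hg'
      · rw [hsq.lift_snd, lift_snd]
    rw [← this, lift_fst]

lemma loctriv
    (hloc : NonAbH1.IsLocallyTrivialFor Scheme.etalePrecoverage (Over.mk π.left : Over Q.left)) :
    NonAbH1.IsLocallyTrivialFor Scheme.etalePrecoverage (E π σ) := by
  obtain ⟨R, hR, hs⟩ := hloc
  refine ⟨R.pullbackArrows σ.left, Precoverage.pullbackArrows_mem σ.left hR, ?_⟩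
  rintro T' g ⟨T, f, hf⟩
  obtain ⟨s, hs'⟩ := hs f hf
  change s ≫ π.left = f at hs'
  have hσ : σ.left ≫ Q.hom = 𝟙 S := Over.w σ
  have hx0 : (pullback.fst f σ.left ≫ s) ≫ F.hom = pullback.snd f σ.left := by
    rw [← Over.w π, Category.assoc, reassoc_of% hs', pullback.condition_assoc, hσ]
    exact Category.comp_id _
  let x : Over.mk (pullback.snd f σ.left) ⟶ F := Over.homMk (pullback.fst f σ.left ≫ s) hx0
  have hx : x ≫ π = toUnit _ ≫ σ := by
    ext
    change (pullback.fst f σ.left ≫ s) ≫ π.left = pullback.snd f σ.left ≫ σ.left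
    rw [Category.assoc, hs', pullback.condition]
  exact ⟨(Elift π σ x hx).left, Over.w (Elift π σ x hx)⟩

theorem main {H : Over S} [GrpObj H]
    (i : G ⟶ H) [IsMonHom i]
    (aF : AlgGrp.Action H F)
    (π : F ⟶ Q)
    (hsq : IsPullback (aF.restrict i).act (snd G F) π π)
    (hloc : NonAbH1.IsLocallyTrivialFor Scheme.etalePrecoverage (Over.mk π.left : Over Q.left))
    (σ : 𝟙_ (Over S) ⟶ Q) :
    ∃ (E : Over S) (aE : AlgGrp.Action G E) (φ : E ⟶ F),
      NonAbH1.IsTorsorFor Scheme.etalePrecoverage aE ∧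
      AlgGrp.Action.IsEquivariant aE (aF.restrict i) φ ∧
      IsPullback φ (toUnit E) π σ :=
  ⟨E π σ, aE (aF.restrict i) π σ hsq, φ π σ, ⟨pseudo _ π σ hsq, loctriv π σ hloc⟩,
    aE_act_φ _ π σ hsq, isPullback_E π σ⟩


end Aux

/-- Let i : G → H be a homomorphism of group schemes over a base scheme S which is a closed immersion, F
an H-torsor over S for the etale topology with action aF, and π : F → Q a morphism of S-schemes
exhibiting Q as the quotient F/G, in the sense that the square formed by the restricted action G ×_S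
F → F, the projection G ×_S F → F and π twice is cartesian and π acquires sections etale-locally on
Q. Then for every section σ of Q over S there are a G-torsor E over S for the etale topology and an
i-equivariant morphism φ : E → F over S such that the square (φ, E → S; π, σ) is cartesian; that is,
σ comes from a reduction of the structure group of F to G. (Stated over an arbitrary base scheme and
for arbitrary group schemes; the quotient F/G is taken as data through its torsor property rather
than constructed.) -/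
theorem result
    {S : Scheme.{u}} {G H F Q : Over S} [GrpObj G] [GrpObj H]
    (i : G ⟶ H) [IsMonHom i] [IsClosedImmersion i.left]
    (aF : AlgGrp.Action H F) (hF : NonAbH1.IsTorsorFor Scheme.etalePrecoverage aF)
    (π : F ⟶ Q)
    (hsq : IsPullback (aF.restrict i).act (snd G F) π π)
    (hloc : NonAbH1.IsLocallyTrivialFor Scheme.etalePrecoverage (Over.mk π.left : Over Q.left))
    (σ : 𝟙_ (Over S) ⟶ Q) :
    ∃ (E : Over S) (aE : AlgGrp.Action G E) (φ : E ⟶ F),
      NonAbH1.IsTorsorFor Scheme.etalePrecoverage aE ∧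
      AlgGrp.Action.IsEquivariant aE (aF.restrict i) φ ∧
      IsPullback φ (toUnit E) π σ := by
  exact main i aF π hsq hloc σ

end Groth.Agent.S16226
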