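import Groth.Statements.S16227
import Groth.Statements.S16227
import Groth.Agent.S16226
import Groth.Agent.Lib.Helper2.TorsorEquiv
import Groth.Agent.Lib.Helper2.TorsorInv
import Mathlib.AlgebraicGeometry.Sites.Proetale

set_option autoImplicit false
universe u
open CategoryTheory MonoidalCategory CartesianMonoidalCategory MonObj AlgebraicGeometry
open PrincBund

namespace Groth.Agent.S16227

section Aux
open CategoryTheory MonoidalCategory CartesianMonoidalCategory MonObj AlgebraicGeometry
open PrincBund Limits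


open Groth.Agent.S16226 (Elift Elift_φ aE aE_act_φ pseudo isPullback_E E_ext φ_π)

variable {S : Scheme.{u}} {G F Q : Over S} [GrpObj G]

lemma fpqc_of_etale {X : Over S} {a : AlgGrp.Action G X}
    (h : NonAbH1.IsTorsorFor Scheme.etalePrecoverage a) :
    NonAbH1.IsTorsorFor Scheme.fpqcPrecoverage a := by
  obtain ⟨h1, R, hR, hs⟩ := h
  exact ⟨h1, R, Scheme.proetalePrecoverage_le_fpqcPrecoverage _
    (Scheme.etalePrecoverage_le_proetalePrecoverage _ hR), hs⟩

theorem main (b : AlgGrp.Action G F) (π : F ⟶ Q)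
    (hsq : IsPullback b.act (snd G F) π π)
    {E : Over S} (aE' : AlgGrp.Action G E) (hE : NonAbH1.IsTorsorFor Scheme.etalePrecoverage aE')
    (φ : E ⟶ F) (hφ : AlgGrp.Action.IsEquivariant aE' b φ) :
    (∃! σ : 𝟙_ (Over S) ⟶ Q, toUnit E ≫ σ = φ ≫ π) ∧
      ∀ σ : 𝟙_ (Over S) ⟶ Q, toUnit E ≫ σ = φ ≫ π → IsPullback φ (toUnit E) π σ := by
  have hE' := fpqc_of_etale hE
  have hee : EffectiveEpi E.hom :=
    Groth.Agent.Lib.Helper2.Torsor.effectiveEpi_of_isLocallyTrivialFor hE'.2
  have hepi : Epi E.hom := inferInstance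
  have hinv : aE'.act ≫ φ ≫ π = snd G E ≫ φ ≫ π := by
    unfold AlgGrp.Action.IsEquivariant at hφ
    rw [reassoc_of% hφ, hsq.w, whiskerLeft_snd_assoc]
  have hpb := Groth.Agent.Lib.Helper2.Torsor.isPullback_act aE' hE'.1
  have hcompat : ∀ {Z : Scheme.{u}} (g₁ g₂ : Z ⟶ E.left), g₁ ≫ E.hom = g₂ ≫ E.hom →
      g₁ ≫ (φ ≫ π).left = g₂ ≫ (φ ≫ π).left := by
    intro Z g₁ g₂ hg
    have h1 : hpb.lift g₁ g₂ hg ≫ aE'.act.left = g₁ := hpb.lift_fst _ _ _
    have h2 : hpb.lift g₁ g₂ hg ≫ (snd G E).left = g₂ := hpb.lift_snd _ _ _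
    have h3 := congrArg (fun k => k.left) hinv
    simp only [Over.comp_left] at h3
    rw [← h1, Category.assoc, Over.comp_left, h3, ← Over.comp_left, ← Category.assoc, h2]
  let σ₀ : S ⟶ Q.left := EffectiveEpi.desc E.hom (φ ≫ π).left hcompat
  have hfac : E.hom ≫ σ₀ = (φ ≫ π).left := EffectiveEpi.fac _ _ _
  have hσ₀ : σ₀ ≫ Q.hom = 𝟙 S := by
    rw [← cancel_epi E.hom, reassoc_of% hfac, Over.w, Category.comp_id]
  let σ : 𝟙_ (Over S) ⟶ Q := Over.homMk σ₀ hσ₀
  have hσ : toUnit E ≫ σ = φ ≫ π := by
    ext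
    exact hfac
  refine ⟨⟨σ, hσ, ?_⟩, ?_⟩
  · intro σ' hσ'
    ext
    have h1 := congrArg (fun k => k.left) hσ'
    have h2 : E.hom ≫ σ'.left = (φ ≫ π).left := h1
    rw [← cancel_epi E.hom, h2]
    exact hfac.symm
  · intro τ hτ
    let θ : E ⟶ Groth.Agent.S16226.E π τ := Elift π τ φ hτ.symm
    have hθφ : θ ≫ Groth.Agent.S16226.φ π τ = φ := Elift_φ π τ φ hτ.symm
    have hθ : AlgGrp.Action.IsEquivariant aE' (aE b π τ hsq) θ := by
      unfold AlgGrp.Action.IsEquivariant
      apply E_ext
      rw [Category.assoc, hθφ, Category.assoc, aE_act_φ, ← MonoidalCategory.whiskerLeft_comp_assoc,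
        hθφ]
      exact hφ
    haveI : IsIso θ := Groth.Agent.Lib.Helper2.Torsor.isIso_of_isEquivariant aE' _ θ hθ hE'
      (pseudo b π τ hsq)
    have sq1 : IsPullback θ (toUnit E) (toUnit _) (𝟙 (𝟙_ (Over S))) :=
      IsPullback.of_horiz_isIso ⟨toUnit_unique _ _⟩
    have := sq1.paste_horiz (isPullback_E π τ)
    rwa [hθφ, Category.id_comp] at this


end Aux

/-- Let i : G → H be a homomorphism of group schemes over a base scheme S which is a closed immersion, F
an H-torsor over S for the etale topology with action aF, and π : F → Q a morphism of S-schemes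
exhibiting Q as the quotient F/G, in the sense that the square formed by the restricted action G ×_S
F → F, the projection G ×_S F → F and π twice is cartesian and π acquires sections etale-locally on
Q. Then a reduction of the structure group of F to G, namely a G-torsor E over S for the etale
topology together with an i-equivariant morphism φ : E → F over S, determines a unique section σ of
Q over S such that the composite E → S → Q equals φ followed by π, and for this σ the square (φ, E →
S; π, σ) is cartesian, so that E is recovered as the pullback of F along σ. (Stated over an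
arbitrary base scheme and for arbitrary group schemes; the quotient F/G is taken as data through its
torsor property rather than constructed.) -/
theorem result
    {S : Scheme.{u}} {G H F Q : Over S} [GrpObj G] [GrpObj H]
    (i : G ⟶ H) [IsMonHom i] [IsClosedImmersion i.left]
    (aF : AlgGrp.Action H F) (hF : NonAbH1.IsTorsorFor Scheme.etalePrecoverage aF)
    (π : F ⟶ Q)
    (hsq : IsPullback (aF.restrict i).act (snd G F) π π)
    (hloc : NonAbH1.IsLocallyTrivialFor Scheme.etalePrecoverage (Over.mk π.left : Over Q.left))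
    {E : Over S} (aE : AlgGrp.Action G E) (hE : NonAbH1.IsTorsorFor Scheme.etalePrecoverage aE)
    (φ : E ⟶ F) (hφ : AlgGrp.Action.IsEquivariant aE (aF.restrict i) φ) :
    (∃! σ : 𝟙_ (Over S) ⟶ Q, toUnit E ≫ σ = φ ≫ π) ∧
      ∀ σ : 𝟙_ (Over S) ⟶ Q, toUnit E ≫ σ = φ ≫ π → IsPullback φ (toUnit E) π σ := by
  exact main (aF.restrict i) π hsq aE hE φ hφ

end Groth.Agent.S16227
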