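import Groth.Statements.S1623
import Groth.Agent.S1622
import Groth.Agent.S0010
import Groth.Agent.Lib.Helper20.BlowSep

set_option autoImplicit false
universe u
open CategoryTheory CategoryTheory.Limits AlgebraicGeometry
open Resolve

namespace Groth.Agent.S1623

/-- Let A be a regular local ring of dimension two and b : X → Spec A a blowing up in the maximal ideal.
For every quasi-coherent O_X-module F and every p ≥ 2, H^p(X, F) = 0. -/
theorem result (A : Type u) [CommRing A] [IsRegularLocalRing A] (hA : ringKrullDim A = 2)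
    (X : Scheme.{u}) (b : X ⟶ Spec (CommRingCat.of A)) (hb : BlowUp.IsBlowUp b (Curv2.idealSheaf A (IsLocalRing.maximalIdeal A)))
    (F : X.Modules) (hF : Coh.IsQCoh F) (p : ℕ) (hp : 2 ≤ p) : Subsingleton (Coh.HH X F p) := by
  classical
  set m := IsLocalRing.maximalIdeal A with hm
  let X₀ : Scheme.{u} := Spec (CommRingCat.of A)
  let εiso : A ≃+* Γ(X₀, ⊤) := (Scheme.ΓSpecIso (CommRingCat.of A)).symm.commRingCatIsoToRingEquiv
  have hεiso : (εiso : A →+* Γ(X₀, ⊤)) = (Scheme.ΓSpecIso (CommRingCat.of A)).inv.hom := rfl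
  haveI : IsRegularLocalRing Γ(X₀, ⊤) := IsRegularLocalRing.of_ringEquiv εiso
  have hdimR : ringKrullDim Γ(X₀, ⊤) = (2 : ℕ) := by
    rw [← ringKrullDim_eq_of_ringEquiv εiso, hA]; rfl
  have h𝓘 : Curv2.idealSheaf A m = Scheme.IdealSheafData.ofIdealTop
      (m.map (Scheme.ΓSpecIso (CommRingCat.of A)).inv.hom) := rfl
  rw [h𝓘] at hb
  have htop : (Scheme.IdealSheafData.ofIdealTop
      (m.map (Scheme.ΓSpecIso (CommRingCat.of A)).inv.hom)).ideal ⟨⊤, isAffineOpen_top X₀⟩ =
      IsLocalRing.maximalIdeal Γ(X₀, ⊤) := by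
    have h1 : (Scheme.IdealSheafData.ofIdealTop
        (m.map (Scheme.ΓSpecIso (CommRingCat.of A)).inv.hom)).ideal ⟨⊤, isAffineOpen_top X₀⟩ =
        m.map (Scheme.ΓSpecIso (CommRingCat.of A)).inv.hom :=
      Scheme.IdealSheafData.equivOfIsAffine.right_inv _
    rw [h1, ← hεiso]
    apply IsLocalRing.eq_maximalIdeal
    exact Ideal.IsMaximal.map_bijective (εiso : A →+* Γ(X₀, ⊤)) εiso.bijective inferInstance
  obtain ⟨x, hx⟩ := Groth.Agent.S1622.exists_gens Γ(X₀, ⊤) 2 hdimR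
  obtain ⟨V, hV, hcov⟩ := Groth.Agent.Lib.Helper20.BlowSep.exists_affine_cover
    (X := X₀) _ (Set.range x) (hx.trans htop.symm) b hb
  haveI : IsSeparated b := Groth.Agent.Lib.Helper20.BlowSep.isSeparated_of_isBlowUp_affine (X := X₀) _ b hb
  have hd : ∀ V W : X.Opens, IsAffineOpen V → IsAffineOpen W → IsAffineOpen (V ⊓ W) := by
    intro V W hV hW
    have h := (isAffineHom_diagonal_iff (f := b)).mp inferInstance ⊤ (isAffineOpen_top _)
      V (by simp) W (by simp) hV hW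
    exact h
  haveI : Coh.IsQCoh F := hF
  refine Groth.Agent.S0010.result X 2 (fun i => V ⟨x i, ⟨i, rfl⟩⟩) (fun i => hV _) ?_ hd F p hp
  rw [eq_top_iff, ← hcov]
  refine iSup_le fun g => ?_
  obtain ⟨g, ⟨i, rfl⟩⟩ := g
  exact le_iSup (fun i => V ⟨x i, ⟨i, rfl⟩⟩) i

end Groth.Agent.S1623
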