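import Mathlib
import Groth.Statements.S16232
import Groth.Agent.Lib.Helper9.StrHensW
import Groth.Agent.Lib.Helper9.TameKey

set_option autoImplicit false
universe u v
open VanCyc

namespace Groth.Agent.S16232

/-- Let R be a strictly Henselian discrete valuation ring (Henselian, with separably closed residue
field), K its fraction field, Ω a separable closure of K and G the group of K-algebra automorphisms
of Ω; let r ≥ 1 be an integer invertible in the residue field of R, ϖ a uniformizer of R and ρ an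
r-th root of ϖ in Ω, so that the fundamental character χ : G → μ_r(Ω) is σ ↦ σ(ρ)/ρ. Then every
homomorphism φ of the abstract group G into an abelian group M with rM = 0 factors uniquely through
χ: there is exactly one homomorphism u : μ_r(Ω) → M with φ(σ) = u(χ(σ)) for every σ in G.
(Homomorphisms are written as maps respecting the group laws; χ(σ) is the root of unity ζ with ζρ =
σ(ρ).) -/
theorem result
    (R : Type u) [CommRing R] [IsDomain R] [IsDiscreteValuationRing R] [HenselianLocalRing R]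
    [IsSepClosed (IsLocalRing.ResidueField R)]
    (K : Type u) [Field K] [Algebra R K] [IsFractionRing R K]
    (Ω : Type u) [Field Ω] [Algebra K Ω] [IsSepClosure K Ω]
    (r : ℕ) [NeZero r] (hr : IsUnit (r : IsLocalRing.ResidueField R))
    (ϖ : R) (hϖ : Irreducible ϖ) (ρ : Ω) (hρ : ρ ^ r = algebraMap K Ω (algebraMap R K ϖ))
    (M : Type v) [AddCommGroup M] (hM : ∀ x : M, r • x = 0)
    (φ : (Ω ≃ₐ[K] Ω) → M) (hφ : ∀ σ τ : Ω ≃ₐ[K] Ω, φ (σ * τ) = φ σ + φ τ) :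
    ∃! u : ↥(rootsOfUnity r Ω) → M, (∀ ζ ξ : ↥(rootsOfUnity r Ω), u (ζ * ξ) = u ζ + u ξ) ∧
      ∀ (σ : Ω ≃ₐ[K] Ω) (ζ : ↥(rootsOfUnity r Ω)), ((ζ : Ωˣ) : Ω) * ρ = σ ρ → φ σ = u ζ := by
  classical
  letI : Algebra R Ω := ((algebraMap K Ω).comp (algebraMap R K)).toAlgebra
  haveI : IsScalarTower R K Ω := IsScalarTower.of_algebraMap_eq fun _ => rfl
  haveI : IsGalois K Ω := inferInstance
  haveI : Algebra.IsSeparable K Ω := inferInstance
  have hr0 : 0 < r := Nat.pos_of_ne_zero (NeZero.ne r)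
  have hru : IsUnit (r : R) := by
    by_contra hnu
    have h0 : IsLocalRing.residue R (r : R) = 0 :=
      (IsLocalRing.residue_eq_zero_iff _).2 ((IsLocalRing.mem_maximalIdeal _).2 hnu)
    rw [map_natCast] at h0
    rw [h0] at hr
    exact not_isUnit_zero hr
  have hW := Groth.Agent.Lib.Helper9.StrHensW.liesOver_W R K Ω
  have hI := Groth.Agent.Lib.Helper9.StrHensW.isInertia_W R K Ω
  have hρ' : ρ ^ r = algebraMap R Ω ϖ := hρ
  have hinj : Function.Injective (algebraMap R Ω) := by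
    rw [IsScalarTower.algebraMap_eq R K Ω]
    exact (algebraMap K Ω).injective.comp (IsFractionRing.injective R K)
  have hϖΩ : algebraMap R Ω ϖ ≠ 0 := fun h => hϖ.ne_zero (hinj (by rw [h, map_zero]))
  have hρ0 : ρ ≠ 0 := fun h => hϖΩ (by rw [← hρ', h, zero_pow hr0.ne'])
  -- `φ` on powers
  have hφ1 : φ 1 = 0 := by
    have := hφ 1 1
    rw [mul_one] at this
    exact left_eq_add.1 this
  have hφpow : ∀ (σ : Ω ≃ₐ[K] Ω) (n : ℕ), φ (σ ^ n) = n • φ σ := by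
    intro σ n
    induction n with
    | zero => rw [pow_zero, hφ1, zero_smul]
    | succ n ih => rw [pow_succ, hφ, ih, succ_nsmul]
  have hφinv : ∀ σ : Ω ≃ₐ[K] Ω, φ σ⁻¹ = -φ σ := by
    intro σ
    have := hφ σ⁻¹ σ
    rw [inv_mul_cancel, hφ1] at this
    exact eq_neg_of_add_eq_zero_left this.symm
  -- key claim
  have hkey : ∀ σ : Ω ≃ₐ[K] Ω, σ ρ = ρ → φ σ = 0 := by
    intro σ hσ
    obtain ⟨τ, π, h⟩ := Groth.Agent.Lib.Helper9.TameKey.exists_pow_mul_pow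
      (Groth.Agent.Lib.Helper9.StrHensW.W R K Ω) hW hI r hr0 hru ϖ hϖ ρ hρ' σ hσ
    rw [← h, hφ, hφpow, hφpow, hM, hM, add_zero]
  have hwd : ∀ σ σ' : Ω ≃ₐ[K] Ω, σ ρ = σ' ρ → φ σ = φ σ' := by
    intro σ σ' h
    have h1 : (σ'⁻¹ * σ) ρ = ρ := by
      rw [AlgEquiv.mul_apply, h]
      exact σ'.symm_apply_apply ρ
    have h2 := hkey _ h1
    rw [hφ, hφinv] at h2
    exact (eq_of_sub_eq_zero (by rw [sub_eq_neg_add]; exact h2))
  have hζpow : ∀ ζ : ↥(rootsOfUnity r Ω), (((ζ : Ωˣ) : Ω)) ^ r = 1 := by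
    intro ζ
    have := (mem_rootsOfUnity r _).1 ζ.2
    rw [← Units.val_pow_eq_pow_val, this, Units.val_one]
  have hex : ∀ ζ : ↥(rootsOfUnity r Ω), ∃ σ : Ω ≃ₐ[K] Ω, σ ρ = ((ζ : Ωˣ) : Ω) * ρ := fun ζ =>
    Groth.Agent.Lib.Helper9.TameKey.exists_map_root r hr0 ϖ hϖ ρ hρ' _ (hζpow ζ)
  choose s hs using hex
  have hfix : ∀ (ζ : ↥(rootsOfUnity r Ω)) (σ : Ω ≃ₐ[K] Ω), σ ((ζ : Ωˣ) : Ω) = ((ζ : Ωˣ) : Ω) :=
    fun ζ σ => Groth.Agent.Lib.Helper9.TameKey.map_root_of_unity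
      (Groth.Agent.Lib.Helper9.StrHensW.W R K Ω) hW hI r hr0 hru _ (hζpow ζ) σ
  have hprop : ∀ (σ : Ω ≃ₐ[K] Ω) (ζ : ↥(rootsOfUnity r Ω)),
      ((ζ : Ωˣ) : Ω) * ρ = σ ρ → φ σ = φ (s ζ) := by
    intro σ ζ h
    exact hwd _ _ (by rw [hs ζ, h])
  refine ⟨fun ζ => φ (s ζ), ⟨?_, hprop⟩, ?_⟩
  · intro ζ ξ
    show φ (s (ζ * ξ)) = φ (s ζ) + φ (s ξ)
    rw [← hφ]
    refine (hprop (s ζ * s ξ) (ζ * ξ) ?_).symm
    rw [AlgEquiv.mul_apply, hs ξ, map_mul, hfix ξ, hs ζ, Subgroup.coe_mul, Units.val_mul]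
    ring
  · rintro u' ⟨-, hu'⟩
    funext ζ
    exact (hu' (s ζ) ζ (hs ζ).symm).symm

end Groth.Agent.S16232
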