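import Groth.Statements.S16234
import Mathlib.RingTheory.Ideal.AssociatedPrime.Finiteness
import Mathlib.RingTheory.FiniteLength
import Mathlib.RingTheory.Support
import Mathlib.RingTheory.SimpleModule.Basic

set_option autoImplicit false
universe u v
open CAlg

namespace Groth.Agent.S16234

lemma support_quot (A : Type*) [CommRing A] (I : Ideal A) :
    Module.support A (A ⧸ I) = PrimeSpectrum.zeroLocus I := by
  rw [Module.support_eq_zeroLocus, Ideal.annihilator_quotient]

lemma isFiniteLength_of_exact {A : Type*} [CommRing A] {N₁ N₂ N₃ : Type*}
    [AddCommGroup N₁] [Module A N₁] [AddCommGroup N₂] [Module A N₂] [AddCommGroup N₃] [Module A N₃]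
    (f : N₁ →ₗ[A] N₂) (g : N₂ →ₗ[A] N₃) (hf : Function.Injective f) (hg : Function.Surjective g)
    (h : Function.Exact f g) (h1 : IsFiniteLength A N₁) (h3 : IsFiniteLength A N₃) :
    IsFiniteLength A N₂ := by
  rw [isFiniteLength_iff_isNoetherian_isArtinian] at h1 h3 ⊢
  obtain ⟨_, _⟩ := h1
  obtain ⟨_, _⟩ := h3
  exact ⟨isNoetherian_of_range_eq_ker f g h.linearMap_ker_eq.symm,
    isArtinian_of_range_eq_ker f g h.linearMap_ker_eq.symm⟩

lemma forward (A : Type u) [CommRing A] [IsNoetherianRing A]
    (M : Type v) [AddCommGroup M] [Module A M] [hM : Module.Finite A M] :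
    (∀ p ∈ Module.support A M, p.asIdeal.IsMaximal) → IsFiniteLength A M := by
  induction hM using IsNoetherianRing.induction_on_isQuotientEquivQuotientPrime A with
  | subsingleton N => intro _; exact .of_subsingleton
  | quotient N p f =>
    intro h
    have hp : p ∈ Module.support A N := by
      rw [f.support_eq, support_quot]
      exact fun x hx => hx
    have hmax := h p hp
    have : IsSimpleModule A (A ⧸ p.asIdeal) := by
      rw [isSimpleModule_iff_isCoatom, ← Ideal.isMaximal_def]
      exact hmax
    have : IsFiniteLength A (A ⧸ p.asIdeal) := by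
      rw [isFiniteLength_iff_isNoetherian_isArtinian]
      exact ⟨inferInstance, inferInstance⟩
    exact f.symm.isFiniteLength this
  | exact N₁ N₂ N₃ f g hf hg hfg h1 h3 =>
    intro h
    rw [Module.support_of_exact hfg hf hg] at h
    exact isFiniteLength_of_exact f g hf hg hfg (h1 fun p hp => h p (Or.inl hp))
      (h3 fun p hp => h p (Or.inr hp))

lemma backward (A : Type u) [CommRing A]
    (M : Type v) [AddCommGroup M] [Module A M] (h : IsFiniteLength A M) :
    ∀ p ∈ Module.support A M, p.asIdeal.IsMaximal := by
  induction h with
  | of_subsingleton =>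
    intro p hp
    rw [Module.support_eq_empty] at hp
    exact hp.elim
  | @of_simple_quotient M _ _ N hs hN ih =>
    intro p hp
    rw [Module.support_of_exact (LinearMap.exact_subtype_mkQ N) (Submodule.injective_subtype N)
      (Submodule.mkQ_surjective N)] at hp
    rcases hp with hp | hp
    · exact ih p hp
    · obtain ⟨I, hI, ⟨e⟩⟩ := isSimpleModule_iff_quot_maximal.mp hs
      rw [e.support_eq, support_quot] at hp
      have : I = p.asIdeal := hI.eq_of_le p.2.ne_top hp
      rw [← this]
      exact hI

/-- For a finitely generated module M over a Noetherian commutative ring A, every prime ideal in the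
support of M is a maximal ideal if and only if M has finite length. -/
theorem result (A : Type u) [CommRing A] [IsNoetherianRing A]
    (M : Type v) [AddCommGroup M] [Module A M] [Module.Finite A M] :
    (∀ p ∈ Module.support A M, p.asIdeal.IsMaximal) ↔ IsFiniteLength A M := by
  exact ⟨forward A M, backward A M⟩

end Groth.Agent.S16234
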