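import Groth.Statements.S16235
import Mathlib.RingTheory.KrullDimension.Regular
import Mathlib.RingTheory.Regular.Flat
import Mathlib.RingTheory.Ideal.KrullsHeightTheorem

set_option autoImplicit false
universe u
open CAlg

namespace Groth.Agent.S16235

open RingTheory.Sequence in
lemma le_height_of_prime (A : Type u) [CommRing A] [IsNoetherianRing A]
    (rs : List A) (hx : IsWeaklyRegular A rs) (P : Ideal A) [P.IsPrime]
    (hP : ∀ r ∈ rs, r ∈ P) : (rs.length : ℕ∞) ≤ P.height := by
  let S := Localization.AtPrime P
  have reg : IsRegular S (rs.map (algebraMap A S)) :=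
    hx.isRegular_of_isLocalization_of_mem S P hP
  have h1 := ringKrullDim_add_length_eq_ringKrullDim_of_isRegular (rs.map (algebraMap A S)) reg
  have h2 : ringKrullDim S = P.height := IsLocalization.AtPrime.ringKrullDim_eq_height P S
  have hne : Ideal.ofList (rs.map (algebraMap A S)) ≠ ⊤ := by
    intro h
    apply reg.top_ne_smul
    rw [h]
    simp
  have : Nontrivial (S ⧸ Ideal.ofList (rs.map (algebraMap A S))) :=
    Ideal.Quotient.nontrivial_iff.mpr hne
  have h3 : 0 ≤ ringKrullDim (S ⧸ Ideal.ofList (rs.map (algebraMap A S))) :=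
    ringKrullDim_nonneg_of_nontrivial
  rw [h2, List.length_map] at h1
  have h4 : ((rs.length : ℕ∞) : WithBot ℕ∞) ≤ (P.height : WithBot ℕ∞) := by
    rw [← h1]
    calc ((rs.length : ℕ∞) : WithBot ℕ∞) = 0 + (rs.length : WithBot ℕ∞) := by simp
      _ ≤ _ := by gcongr
  exact WithBot.coe_le_coe.mp h4

/-- Let A be a Noetherian commutative ring and x_1, …, x_r a regular sequence on A (each x_i a
non-zero-divisor on A/(x_1, …, x_{i-1})) generating an ideal I ≠ A. Then the height of I, the
infimum of the heights of the minimal primes over I, equals r. -/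
theorem result (A : Type u) [CommRing A] [IsNoetherianRing A]
    (r : ℕ) (x : Fin r → A) (hx : RingTheory.Sequence.IsWeaklyRegular A (List.ofFn x))
    (hI : Ideal.span (Set.range x) ≠ ⊤) :
    (Ideal.span (Set.range x)).height = r := by
  apply le_antisymm
  · obtain ⟨⟨p, hp⟩⟩ := Ideal.nonempty_minimalPrimes hI
    classical
    have h1 : p.height ≤ (Finset.univ.image x).card := by
      apply Ideal.height_le_card_of_mem_minimalPrimes_span_finset
      simpa using hp
    have h2 : (Ideal.span (Set.range x)).height ≤ p.height := Ideal.height_mono hp.1.2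
    have h3 : ((Finset.univ.image x).card : ℕ∞) ≤ r := by
      have := Finset.card_image_le (s := (Finset.univ : Finset (Fin r))) (f := x)
      simp only [Finset.card_univ, Fintype.card_fin] at this
      exact_mod_cast this
    exact h2.trans (h1.trans h3)
  · rw [Ideal.height_eq_inf_minimalPrimes]
    refine le_iInf₂ fun p hp => ?_
    have : p.IsPrime := hp.1.1
    have := le_height_of_prime A (List.ofFn x) hx p (by
      intro a ha
      rw [List.mem_ofFn] at ha
      obtain ⟨i, rfl⟩ := ha
      exact hp.1.2 (Ideal.subset_span ⟨i, rfl⟩))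
    simpa using this

end Groth.Agent.S16235
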