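import Mathlib
-- Template for statement S16238 (row 16237; see the milestone table for weights).
-- Copy to Groth/Agent/S16238.lean and replace the sorry. The statement below is byte-identical to the frozen
-- statement CAlg.GrothFrozen.S16238 (Groth/Statements/S16238.lean; the theorem CAlg.isWeaklyRegular_quotient_iff_tor_vanishing);
-- the grader kernel-checks Groth.Agent.S16238.result against that frozen type. Keep the theorem IN THIS FILE
-- (a `result` declared elsewhere and merely imported here is not credited); helpers may live anywhere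
-- under Groth/Agent/.
import Groth.Statements.S16238
import Groth.Agent.Lib.Helper68.TorSymm
import Groth.Agent.Lib.Helper68.LeftDerivedAdditive
import Groth.Agent.Lib.Helper24.TorRegular

set_option autoImplicit false
universe u
open CategoryTheory Limits MonoidalCategory TensorProduct Pointwise

namespace Groth.Agent.S16238

open Groth.Agent.Lib.Helper68 Groth.Agent.Lib.Helper68.TorMod Groth.Agent.Lib.Helper24.TorRegular

variable {A : Type u} [CommRing A] (P : Type u) [AddCommGroup P] [Module A P]

/-- `N ↦ Tor_i(P, N)` -/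
noncomputable abbrev T (i : ℕ) : ModuleCat.{u} A ⥤ ModuleCat.{u} A :=
  (tF (ModuleCat.of A P)).leftDerived i

instance : (tF (ModuleCat.of A P)).Linear A :=
  inferInstanceAs ((MonoidalCategory.tensorLeft (ModuleCat.of A P)).Linear A)

theorem finite_T [IsNoetherianRing A] [Module.Finite A P] (i : ℕ) :
    ∀ (N : Type u) [AddCommGroup N] [Module A N] [Module.Finite A N],
      Module.Finite A ((T P i).obj (ModuleCat.of A N)) := by
  induction i with
  | zero =>
    intro N _ _ _
    let e := ((tF (ModuleCat.of A P)).leftDerivedZeroIsoSelf.app (ModuleCat.of A N)).toLinearEquiv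
    have : Module.Finite A ((tF (ModuleCat.of A P)).obj (ModuleCat.of A N)) :=
      inferInstanceAs (Module.Finite A (P ⊗[A] N))
    exact Module.Finite.equiv e.symm
  | succ i ih =>
    intro N _ _ _
    obtain ⟨m, g, hg⟩ := Module.Finite.exists_fin' A N
    have hex : Function.Exact (LinearMap.ker g).subtype g := LinearMap.exact_subtype_ker_map _
    have hS := sc_shortExact (A := LinearMap.ker g) (B := Fin m → A) (C := N)
      (LinearMap.ker g).subtype g hex (Submodule.subtype_injective _) hg
    have hmono : Mono (LeftDerivedLES.δ (tF (ModuleCat.of A P)) hS i) :=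
      LeftDerivedLES.mono_δ _ hS i (isZero_tor_succ_of_projective (ModuleCat.of A P) (Fin m → A) i)
    have hinj := (ModuleCat.mono_iff_injective _).mp hmono
    have hfin : Module.Finite A ((T P i).obj (ModuleCat.of A (LinearMap.ker g))) := ih _
    have hnoeth : IsNoetherian A ((T P i).obj (ModuleCat.of A (LinearMap.ker g))) :=
      isNoetherian_of_isNoetherianRing_of_finite A _
    exact Module.Finite.of_injective (LeftDerivedLES.δ (tF (ModuleCat.of A P)) hS i).hom hinj

theorem subsingleton_of_surj [IsLocalRing A] {Y : Type u} [AddCommGroup Y] [Module A Y]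
    [Module.Finite A Y] (x : A) (hx : x ∈ IsLocalRing.maximalIdeal A)
    (h : Function.Surjective (fun y : Y => x • y)) : Subsingleton Y := by
  have h1 : (⊤ : Submodule A Y) ≤ IsLocalRing.maximalIdeal A • (⊤ : Submodule A Y) := by
    intro y _
    obtain ⟨z, rfl⟩ := h y
    exact Submodule.smul_mem_smul hx Submodule.mem_top
  have h2 := Submodule.eq_bot_of_le_smul_of_le_jacobson_bot (IsLocalRing.maximalIdeal A)
    (⊤ : Submodule A Y) Module.Finite.fg_top h1
    (by rw [IsLocalRing.jacobson_eq_maximalIdeal ⊥ bot_ne_top])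
  refine ⟨fun a b => ?_⟩
  have ha : a ∈ (⊤ : Submodule A Y) := Submodule.mem_top
  have hb : b ∈ (⊤ : Submodule A Y) := Submodule.mem_top
  rw [h2, Submodule.mem_bot] at ha hb
  rw [ha, hb]


/-- the action of `T_i(x • id)` -/
theorem T_map_smul (i : ℕ) (N : ModuleCat.{u} A) (x : A) (t : (T P i).obj N) :
    ((T P i).map (x • 𝟙 N)).hom t = x • t := by
  rw [leftDerived_map_smul_id (R := A)]
  rfl

/-- `T_0(N/xN) ≃ T_0(N)/x T_0(N)` for `x` regular on `N` -/
theorem exists_quotEquiv (N : Type u) [AddCommGroup N] [Module A N] (x : A)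
    (hx : IsSMulRegular N x) :
    Nonempty (QuotSMulTop x ((T P 0).obj (ModuleCat.of A N)) ≃ₗ[A]
      (T P 0).obj (ModuleCat.of A (QuotSMulTop x N))) := by
  have hS : (ModuleCat.smulShortComplex (ModuleCat.of A N) x).ShortExact :=
    IsSMulRegular.smulShortComplex_shortExact (M := ModuleCat.of A N) hx
  let g : (T P 0).obj (ModuleCat.of A N) ⟶ (T P 0).obj (ModuleCat.of A (QuotSMulTop x N)) :=
    (T P 0).map (ModuleCat.smulShortComplex (ModuleCat.of A N) x).g
  let f : (T P 0).obj (ModuleCat.of A N) ⟶ (T P 0).obj (ModuleCat.of A N) :=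
    (T P 0).map (x • 𝟙 (ModuleCat.of A N))
  have hepi : Epi g := LeftDerivedLES.epi_map_g_zero (tF (ModuleCat.of A P)) hS
  have hsurj : Function.Surjective g.hom := (ModuleCat.epi_iff_surjective _).mp hepi
  have hex : LinearMap.range f.hom = LinearMap.ker g.hom :=
    (LeftDerivedLES.exact₂ (tF (ModuleCat.of A P)) hS 0).moduleCat_range_eq_ker
  have hker : LinearMap.ker g.hom =
      x • (⊤ : Submodule A ((T P 0).obj (ModuleCat.of A N))) := by
    rw [← hex]
    ext y
    rw [Submodule.mem_smul_pointwise_iff_exists, LinearMap.mem_range]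
    constructor
    · rintro ⟨z, rfl⟩
      exact ⟨z, Submodule.mem_top, (T_map_smul P 0 _ x z).symm⟩
    · rintro ⟨z, -, rfl⟩
      exact ⟨z, T_map_smul P 0 _ x z⟩
  exact ⟨(Submodule.quotEquivOfEq _ _ hker.symm).trans
    (LinearMap.quotKerEquivOfSurjective g.hom hsurj)⟩


open RingTheory.Sequence in
theorem isZero_T_one_iff (N : Type u) [AddCommGroup N] [Module A N] (x : A)
    (hx : IsSMulRegular N x) (hN : ∀ i, 1 ≤ i → IsZero ((T P i).obj (ModuleCat.of A N))) :
    (∀ i, 2 ≤ i → IsZero ((T P i).obj (ModuleCat.of A (QuotSMulTop x N)))) ∧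
    (IsZero ((T P 1).obj (ModuleCat.of A (QuotSMulTop x N))) ↔
      IsSMulRegular ((T P 0).obj (ModuleCat.of A N)) x) := by
  obtain ⟨hvan, ⟨e1⟩⟩ := rees_step (tF (ModuleCat.of A P)) (ModuleCat.of A N) x hx 0
    (fun i hi => hN i hi)
  refine ⟨fun i hi => hvan i (by omega), ?_⟩
  constructor
  · intro h
    have hsub : Subsingleton ((T P 1).obj (ModuleCat.of A (QuotSMulTop x N))) :=
      ModuleCat.subsingleton_of_isZero h
    have hs2 : Subsingleton (LinearMap.ker
        (LinearMap.lsmul A ((T P 0).obj (ModuleCat.of A N)) x)) :=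
      e1.symm.toEquiv.subsingleton
    have hbot := Submodule.subsingleton_iff_eq_bot.mp hs2
    exact LinearMap.ker_eq_bot.mp hbot
  · intro h
    have hbot : LinearMap.ker (LinearMap.lsmul A ((T P 0).obj (ModuleCat.of A N)) x) = ⊥ :=
      LinearMap.ker_eq_bot.mpr h
    have hs2 : Subsingleton (LinearMap.ker
        (LinearMap.lsmul A ((T P 0).obj (ModuleCat.of A N)) x)) :=
      Submodule.subsingleton_iff_eq_bot.mpr hbot
    have hsub : Subsingleton ((T P 1).obj (ModuleCat.of A (QuotSMulTop x N))) :=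
      e1.toEquiv.subsingleton
    exact ModuleCat.isZero_of_subsingleton _

section Main

variable [IsNoetherianRing A] [IsLocalRing A] [Module.Finite A P]

open RingTheory.Sequence

theorem vanish_up (xs : List A) : (∀ a ∈ xs, a ∈ IsLocalRing.maximalIdeal A) →
    ∀ (N : Type u) [AddCommGroup N] [Module A N] [Module.Finite A N],
      IsWeaklyRegular N xs →
      (∀ i, 1 ≤ i → IsZero ((T P i).obj
        (ModuleCat.of A (N ⧸ Ideal.ofList xs • (⊤ : Submodule A N))))) →
      ∀ i, 1 ≤ i → IsZero ((T P i).obj (ModuleCat.of A N)) := by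
  induction xs with
  | nil =>
    intro _ N _ _ _ _ h i hi
    have hbot : Ideal.ofList ([] : List A) • (⊤ : Submodule A N) = ⊥ := by
      rw [Ideal.ofList_nil, Submodule.bot_smul]
    let e := Submodule.quotEquivOfEqBot _ hbot
    exact (h i hi).of_iso ((T P i).mapIso e.symm.toModuleIso)
  | cons x xs ih =>
    intro hm N _ _ _ hreg h i hi
    obtain ⟨hx, hreg'⟩ := (isWeaklyRegular_cons_iff N x xs).mp hreg
    let eq := Submodule.quotOfListConsSMulTopEquivQuotSMulTopInner N x xs
    have h' : ∀ i, 1 ≤ i → IsZero ((T P i).obj (ModuleCat.of A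
        (QuotSMulTop x N ⧸ Ideal.ofList xs • (⊤ : Submodule A (QuotSMulTop x N))))) :=
      fun i hi => (h i hi).of_iso ((T P i).mapIso eq.symm.toModuleIso)
    have hN' := ih (fun a ha => hm a (List.mem_cons_of_mem _ ha)) (QuotSMulTop x N) hreg' h'
    have hS := IsSMulRegular.smulShortComplex_shortExact (M := ModuleCat.of A N) hx
    have hepi : Epi ((T P i).map (x • 𝟙 (ModuleCat.of A N))) :=
      (LeftDerivedLES.exact₂ (tF (ModuleCat.of A P)) hS i).epi_f ((hN' i hi).eq_of_tgt _ _)
    have hsurj := (ModuleCat.epi_iff_surjective _).mp hepi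
    have hfin : Module.Finite A ((T P i).obj (ModuleCat.of A N)) := finite_T P i N
    have hsub := subsingleton_of_surj (Y := (T P i).obj (ModuleCat.of A N)) x
      (hm x List.mem_cons_self) (fun y => by
        obtain ⟨z, hz⟩ := hsurj y
        exact ⟨z, (T_map_smul P i _ x z).symm.trans hz⟩)
    exact ModuleCat.isZero_of_subsingleton _

omit [IsNoetherianRing A] [IsLocalRing A] [Module.Finite A P] in
theorem tor_of_regular (xs : List A) :
    ∀ (N : Type u) [AddCommGroup N] [Module A N],
      IsWeaklyRegular N xs → (∀ i, 1 ≤ i → IsZero ((T P i).obj (ModuleCat.of A N))) →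
      IsWeaklyRegular ((T P 0).obj (ModuleCat.of A N)) xs →
      ∀ i, 1 ≤ i → IsZero ((T P i).obj
        (ModuleCat.of A (N ⧸ Ideal.ofList xs • (⊤ : Submodule A N)))) := by
  induction xs with
  | nil =>
    intro N _ _ _ h _ i hi
    have hbot : Ideal.ofList ([] : List A) • (⊤ : Submodule A N) = ⊥ := by
      rw [Ideal.ofList_nil, Submodule.bot_smul]
    let e := Submodule.quotEquivOfEqBot _ hbot
    exact (h i hi).of_iso ((T P i).mapIso e.toModuleIso)
  | cons x xs ih =>
    intro N _ _ hreg h hT i hi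
    obtain ⟨hx, hreg'⟩ := (isWeaklyRegular_cons_iff N x xs).mp hreg
    obtain ⟨hxT, hT'⟩ := (isWeaklyRegular_cons_iff ((T P 0).obj (ModuleCat.of A N)) x xs).mp hT
    obtain ⟨hvan, hone⟩ := isZero_T_one_iff P N x hx h
    have hN' : ∀ i, 1 ≤ i → IsZero ((T P i).obj (ModuleCat.of A (QuotSMulTop x N))) := by
      intro i hi
      rcases Nat.lt_or_ge 1 i with h2 | h2
      · exact hvan i h2
      · have : i = 1 := by omega
        subst this
        exact hone.mpr hxT
    obtain ⟨q⟩ := exists_quotEquiv P N x hx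
    have hT'' : IsWeaklyRegular ((T P 0).obj (ModuleCat.of A (QuotSMulTop x N))) xs :=
      (q.isWeaklyRegular_congr xs).mp hT'
    let eq := Submodule.quotOfListConsSMulTopEquivQuotSMulTopInner N x xs
    exact (ih (QuotSMulTop x N) hreg' hN' hT'' i hi).of_iso ((T P i).mapIso eq.toModuleIso)

theorem regular_of_tor (xs : List A) : (∀ a ∈ xs, a ∈ IsLocalRing.maximalIdeal A) →
    ∀ (N : Type u) [AddCommGroup N] [Module A N] [Module.Finite A N],
      IsWeaklyRegular N xs →
      (∀ i, 1 ≤ i → IsZero ((T P i).obj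
        (ModuleCat.of A (N ⧸ Ideal.ofList xs • (⊤ : Submodule A N))))) →
      IsWeaklyRegular ((T P 0).obj (ModuleCat.of A N)) xs := by
  induction xs with
  | nil =>
    intro _ N _ _ _ _ _
    exact IsWeaklyRegular.nil A _
  | cons x xs ih =>
    intro hm N _ _ _ hreg h
    obtain ⟨hx, hreg'⟩ := (isWeaklyRegular_cons_iff N x xs).mp hreg
    have hm' : ∀ a ∈ xs, a ∈ IsLocalRing.maximalIdeal A :=
      fun a ha => hm a (List.mem_cons_of_mem _ ha)
    have hN := vanish_up P (x :: xs) hm N hreg h
    let eq := Submodule.quotOfListConsSMulTopEquivQuotSMulTopInner N x xs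
    have h' : ∀ i, 1 ≤ i → IsZero ((T P i).obj (ModuleCat.of A
        (QuotSMulTop x N ⧸ Ideal.ofList xs • (⊤ : Submodule A (QuotSMulTop x N))))) :=
      fun i hi => (h i hi).of_iso ((T P i).mapIso eq.symm.toModuleIso)
    have hN' := vanish_up P xs hm' (QuotSMulTop x N) hreg' h'
    obtain ⟨-, hone⟩ := isZero_T_one_iff P N x hx hN
    have hxT := hone.mp (hN' 1 le_rfl)
    obtain ⟨q⟩ := exists_quotEquiv P N x hx
    have hT' := ih hm' (QuotSMulTop x N) hreg' h'
    exact (isWeaklyRegular_cons_iff _ x xs).mpr ⟨hxT, (q.isWeaklyRegular_congr xs).mpr hT'⟩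

end Main

end Groth.Agent.S16238

namespace Groth.Agent.S16238

open RingTheory.Sequence Groth.Agent.Lib.Helper68 Groth.Agent.Lib.Helper68.TorMod in
theorem key (A : Type u) [CommRing A] [IsNoetherianRing A] [IsLocalRing A]
    (n : ℕ) (x : Fin n → A) (hx : IsWeaklyRegular A (List.ofFn x))
    (J : Ideal A) (hIJ : Ideal.span (Set.range x) ⊔ J ≠ ⊤) :
    IsWeaklyRegular (A ⧸ J) (List.ofFn (fun i : Fin n => Ideal.Quotient.mk J (x i))) ↔
      ∀ i : ℕ, 1 ≤ i → Limits.IsZero (((Tor (ModuleCat.{u} A) i).obj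
        (ModuleCat.of A (A ⧸ Ideal.span (Set.range x)))).obj (ModuleCat.of A (A ⧸ J))) := by
  -- membership in the maximal ideal
  have hm : ∀ a ∈ List.ofFn x, a ∈ IsLocalRing.maximalIdeal A := by
    intro a ha
    obtain ⟨i, rfl⟩ := (List.mem_ofFn' x a).mp ha
    exact IsLocalRing.le_maximalIdeal hIJ (Ideal.mem_sup_left (Ideal.subset_span ⟨i, rfl⟩))
  -- list conversion
  have hlist : List.ofFn (fun i : Fin n => Ideal.Quotient.mk J (x i)) =
      (List.ofFn x).map (algebraMap A (A ⧸ J)) := by
    rw [List.map_ofFn]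
    rfl
  rw [hlist, isWeaklyRegular_map_algebraMap_iff (A ⧸ J) (A ⧸ J) (List.ofFn x)]
  -- T_0 A ≃ A/J
  let e0 : (T (A ⧸ J) 0).obj (ModuleCat.of A A) ≃ₗ[A] (A ⧸ J) :=
    (((tF (ModuleCat.of A (A ⧸ J))).leftDerivedZeroIsoSelf.app
      (ModuleCat.of A A)).toLinearEquiv).trans (TensorProduct.rid A (A ⧸ J))
  rw [← e0.isWeaklyRegular_congr (List.ofFn x)]
  -- the quotient
  have hI : Ideal.ofList (List.ofFn x) • (⊤ : Submodule A A) = Ideal.span (Set.range x) := by
    have h1 : Ideal.ofList (List.ofFn x) = Ideal.span (Set.range x) := by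
      unfold Ideal.ofList
      congr 1
      ext a
      exact List.mem_ofFn' x a
    rw [h1]
    exact Ideal.mul_top _
  let eI : (A ⧸ Ideal.ofList (List.ofFn x) • (⊤ : Submodule A A)) ≃ₗ[A]
      (A ⧸ Ideal.span (Set.range x)) := Submodule.quotEquivOfEq _ _ hI
  -- Tor symmetry
  have hiso : ∀ i : ℕ, (Limits.IsZero (((Tor (ModuleCat.{u} A) i).obj
        (ModuleCat.of A (A ⧸ Ideal.span (Set.range x)))).obj (ModuleCat.of A (A ⧸ J))) ↔
      Limits.IsZero ((T (A ⧸ J) i).obj
        (ModuleCat.of A (A ⧸ Ideal.ofList (List.ofFn x) • (⊤ : Submodule A A))))) := by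
    intro i
    let i1 := ((TorSymm.torIsoFlip (R := A) i).app
      (ModuleCat.of A (A ⧸ Ideal.span (Set.range x)))).app (ModuleCat.of A (A ⧸ J))
    let i2 := (T (A ⧸ J) i).mapIso eI.toModuleIso
    exact (i1 ≪≫ i2.symm).isZero_iff
  have hA : ∀ i, 1 ≤ i → Limits.IsZero ((T (A ⧸ J) i).obj (ModuleCat.of A A)) := by
    intro i hi
    obtain ⟨i, rfl⟩ : ∃ k, i = k + 1 := ⟨i - 1, by omega⟩
    exact isZero_tor_succ_of_projective (ModuleCat.of A (A ⧸ J)) A i
  constructor
  · intro h i hi
    rw [hiso i]
    exact tor_of_regular (A ⧸ J) (List.ofFn x) A hx hA h i hi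
  · intro h
    exact regular_of_tor (A ⧸ J) (List.ofFn x) hm A hx (fun i hi => (hiso i).mp (h i hi))

end Groth.Agent.S16238

open CategoryTheory
open CAlg

namespace Groth.Agent.S16238

/-- Let A be a Noetherian local ring, x_1, …, x_n a regular sequence on A (each x_i a non-zero-divisor
on A/(x_1, …, x_{i-1})) generating the ideal I, and J an ideal with I + J ≠ A. Then the images of
x_1, …, x_n form a regular sequence on A/J if and only if Tor_i^A(A/I, A/J) = 0 for all i ≥ 1 (in
degree 0 the Tor is A/(I + J) in any case). (The published statement does not ask the x_i to form a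
regular sequence on A itself; without this the equivalence fails, for instance for A = k[e]/(e²), n
= 1, x_1 = e and J = 0, where every higher Tor of A/(e) against the free module A vanishes although
e is a zero-divisor.) -/
theorem result (A : Type u) [CommRing A] [IsNoetherianRing A] [IsLocalRing A]
    (n : ℕ) (x : Fin n → A) (hx : RingTheory.Sequence.IsWeaklyRegular A (List.ofFn x))
    (J : Ideal A) (hIJ : Ideal.span (Set.range x) ⊔ J ≠ ⊤) :
    RingTheory.Sequence.IsWeaklyRegular (A ⧸ J) (List.ofFn (fun i : Fin n => Ideal.Quotient.mk J (x i))) ↔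
      ∀ i : ℕ, 1 ≤ i → Limits.IsZero (((Tor (ModuleCat.{u} A) i).obj
        (ModuleCat.of A (A ⧸ Ideal.span (Set.range x)))).obj (ModuleCat.of A (A ⧸ J))) := by
  exact key A n x hx J hIJ

end Groth.Agent.S16238
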