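import Groth.Statements.S16243
import Groth.Agent.Lib.Helper8.ResOfExact
import Mathlib.Algebra.Homology.ShortComplex.ModuleCat
import Mathlib.Algebra.MvPolynomial.Division
import Mathlib.LinearAlgebra.TensorProduct.Prod
import Mathlib.Tactic.LinearCombination
import Mathlib.Tactic.Ring

set_option autoImplicit false
universe u
open CategoryTheory
open CAlg

namespace Groth.Agent.S16243

section Helpers

variable {A : Type u} [CommRing A]

noncomputable def phi (x y : A) (hxy : y * x = 0) : (A ⧸ Ideal.span {x}) →ₗ[A] A :=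
  Submodule.liftQ (Ideal.span {x}) (LinearMap.mulLeft A y) (by
    intro a ha
    rw [Ideal.mem_span_singleton'] at ha
    obtain ⟨b, rfl⟩ := ha
    simp only [LinearMap.mem_ker, LinearMap.mulLeft_apply]
    rw [mul_comm b x, ← mul_assoc, hxy, zero_mul])

theorem phi_mk (x y : A) (hxy : y * x = 0) (a : A) :
    phi x y hxy (Ideal.Quotient.mk (Ideal.span {x}) a) = y * a := rfl

theorem comp_zero' (x y : A) (hxy : y * x = 0) :
    (Submodule.mkQ (Ideal.span {y})).comp (phi x y hxy) = 0 := by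
  apply LinearMap.ext
  intro a
  obtain ⟨a, rfl⟩ := Ideal.Quotient.mk_surjective a
  rw [LinearMap.comp_apply, phi_mk]
  change Ideal.Quotient.mk (Ideal.span {y}) (y * a) = 0
  rw [Ideal.Quotient.eq_zero_iff_mem]
  exact Ideal.mul_mem_right _ _ (Ideal.mem_span_singleton_self y)

noncomputable def sc (x y : A) (hxy : y * x = 0) : ShortComplex (ModuleCat.{u} A) :=
  ShortComplex.mk (X₁ := ModuleCat.of A (A ⧸ Ideal.span {x})) (X₂ := ModuleCat.of A A)
    (X₃ := ModuleCat.of A (A ⧸ Ideal.span {y}))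
    (ModuleCat.ofHom (phi x y hxy))
    (ModuleCat.ofHom (Submodule.mkQ (Ideal.span {y}))) (by
      rw [← ModuleCat.ofHom_comp, comp_zero']
      rfl)

theorem phi_exact (x y : A) (hxy : y * x = 0) :
    Function.Exact (phi x y hxy) (Submodule.mkQ (Ideal.span {y})) := by
  intro b
  constructor
  · intro hb
    change Ideal.Quotient.mk (Ideal.span {y}) b = 0 at hb
    rw [Ideal.Quotient.eq_zero_iff_mem, Ideal.mem_span_singleton'] at hb
    obtain ⟨c, rfl⟩ := hb
    refine ⟨Ideal.Quotient.mk _ c, ?_⟩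
    rw [phi_mk, mul_comm]
  · rintro ⟨a, rfl⟩
    obtain ⟨a, rfl⟩ := Ideal.Quotient.mk_surjective a
    change Ideal.Quotient.mk (Ideal.span {y}) (phi x y hxy _) = 0
    rw [phi_mk, Ideal.Quotient.eq_zero_iff_mem]
    exact Ideal.mul_mem_right _ _ (Ideal.mem_span_singleton_self y)

theorem phi_injective (x y : A) (hxy : y * x = 0) (hann : ∀ a : A, y * a = 0 → a ∈ Ideal.span {x}) :
    Function.Injective (phi x y hxy) := by
  rw [injective_iff_map_eq_zero]
  intro a ha
  obtain ⟨a, rfl⟩ := Ideal.Quotient.mk_surjective a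
  rw [phi_mk] at ha
  exact (Ideal.Quotient.eq_zero_iff_mem).mpr (hann a ha)

theorem sc_shortExact (x y : A) (hxy : y * x = 0) (hann : ∀ a : A, y * a = 0 → a ∈ Ideal.span {x}) :
    (sc x y hxy).ShortExact :=
  ModuleCat.shortComplex_shortExact _ (phi_exact x y hxy) (phi_injective x y hxy hann)
    (Submodule.mkQ_surjective _)

structure Node (x y : A) : Prop where
  hxy : x * y = 0
  hx : ∀ a : A, x * a = 0 → a ∈ Ideal.span {y}
  hy : ∀ a : A, y * a = 0 → a ∈ Ideal.span {x}
  hint : ∀ a b : A, x * a = y * b → x * a = 0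
  hne : ∀ p q : A, x * p + y * q ≠ 1

theorem Node.symm {x y : A} (h : Node x y) : Node y x where
  hxy := by rw [mul_comm]; exact h.hxy
  hx := h.hy
  hy := h.hx
  hint := fun a b hab => by
    have := h.hint b a hab.symm
    rw [hab, this]
  hne := fun p q hpq => h.hne q p (by rw [add_comm]; exact hpq)

theorem section_exists {M : ModuleCat.{u} A} [Projective M] (g : ModuleCat.of A A ⟶ M)
    (hg : Function.Surjective g.hom) : ∃ s : M →ₗ[A] A, ∀ m, g.hom (s m) = m := by
  have : Epi g := (ModuleCat.epi_iff_surjective g).mpr hg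
  refine ⟨(Projective.factorThru (𝟙 M) g).hom, fun m => ?_⟩
  have h := Projective.factorThru_comp (𝟙 M) g
  have h2 := LinearMap.congr_fun (congrArg ModuleCat.Hom.hom h) m
  exact h2

theorem not_pd_quot {x y : A} (h : Node x y) (n : ℕ) :
    ¬ HasProjectiveDimensionLT (ModuleCat.of A (A ⧸ Ideal.span {x})) n := by
  induction n using Nat.strong_induction_on generalizing x y with
  | _ n ih =>
  intro hpd
  match n, ih, hpd with
  | 0, _, hpd =>
    have hz := isZero_of_hasProjectiveDimensionLT_zero (X := ModuleCat.of A (A ⧸ Ideal.span {x}))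
    have hs : Subsingleton (A ⧸ Ideal.span {x}) := ModuleCat.isZero_iff_subsingleton.mp hz
    have h1 : Ideal.Quotient.mk (Ideal.span {x}) 1 = 0 := Subsingleton.elim _ _
    rw [Ideal.Quotient.eq_zero_iff_mem, Ideal.mem_span_singleton'] at h1
    obtain ⟨c, hc⟩ := h1
    exact h.hne c 0 (by rw [mul_zero, add_zero, mul_comm]; exact hc)
  | 1, _, hpd =>
    have hproj : Projective (ModuleCat.of A (A ⧸ Ideal.span {x})) :=
      projective_iff_hasProjectiveDimensionLT_one.mpr hpd
    obtain ⟨s, hs⟩ := section_exists (ModuleCat.ofHom (Submodule.mkQ (Ideal.span {x})))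
      (Submodule.mkQ_surjective _)
    let a : A := s (Ideal.Quotient.mk (Ideal.span {x}) (1 : A))
    have ha : Ideal.Quotient.mk (Ideal.span {x}) a = Ideal.Quotient.mk (Ideal.span {x}) 1 :=
      hs (Ideal.Quotient.mk (Ideal.span {x}) (1 : A))
    have hxa : x * a = 0 := by
      have : x • s (Ideal.Quotient.mk (Ideal.span {x}) (1 : A)) =
          s (x • Ideal.Quotient.mk (Ideal.span {x}) (1 : A)) := (s.map_smul x _).symm
      have h0 : x • Ideal.Quotient.mk (Ideal.span {x}) (1 : A) = 0 := by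
        change Ideal.Quotient.mk (Ideal.span {x}) (x • (1 : A)) = 0
        rw [smul_eq_mul, mul_one, Ideal.Quotient.eq_zero_iff_mem]
        exact Ideal.mem_span_singleton_self x
      rw [h0, map_zero] at this
      exact this
    have hay := h.hx a hxa
    rw [Ideal.mem_span_singleton'] at hay
    obtain ⟨c, hc⟩ := hay
    rw [Ideal.Quotient.eq, Ideal.mem_span_singleton'] at ha
    obtain ⟨e, he⟩ := ha
    refine h.hne (-e) c ?_
    linear_combination (-1 : A) * he + hc
  | n + 2, ih, hpd =>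
    have hS := sc_shortExact y x h.hxy h.hx
    have hp : Projective (sc y x h.hxy).X₂ := inferInstanceAs (Projective (ModuleCat.of A A))
    have h3 : HasProjectiveDimensionLT (sc y x h.hxy).X₃ (n + 2) := hpd
    have h1 := (hS.hasProjectiveDimensionLT_X₃_iff n hp).mp h3
    exact ih (n + 1) (by omega) h.symm h1

noncomputable def psi (x y : A) (hxy : x * y = 0) :
    ((A ⧸ Ideal.span {y}) × (A ⧸ Ideal.span {x})) →ₗ[A] A :=
  LinearMap.coprod (phi y x hxy) (phi x y (by rw [mul_comm]; exact hxy))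

theorem psi_mk (x y : A) (hxy : x * y = 0) (a b : A) :
    psi x y hxy (Ideal.Quotient.mk (Ideal.span {y}) a, Ideal.Quotient.mk (Ideal.span {x}) b) =
      x * a + y * b := rfl

theorem psi_exact (x y : A) (hxy : x * y = 0) :
    Function.Exact (psi x y hxy) (Submodule.mkQ (Ideal.span {x, y})) := by
  intro b
  constructor
  · intro hb
    change Ideal.Quotient.mk (Ideal.span {x, y}) b = 0 at hb
    rw [Ideal.Quotient.eq_zero_iff_mem, Ideal.mem_span_pair] at hb
    obtain ⟨c, d, rfl⟩ := hb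
    refine ⟨(Ideal.Quotient.mk _ c, Ideal.Quotient.mk _ d), ?_⟩
    rw [psi_mk]
    ring
  · rintro ⟨⟨a, c⟩, rfl⟩
    obtain ⟨a, rfl⟩ := Ideal.Quotient.mk_surjective a
    obtain ⟨c, rfl⟩ := Ideal.Quotient.mk_surjective c
    change Ideal.Quotient.mk (Ideal.span {x, y}) (psi x y hxy _) = 0
    rw [psi_mk, Ideal.Quotient.eq_zero_iff_mem, Ideal.mem_span_pair]
    exact ⟨a, c, by ring⟩

theorem psi_injective {x y : A} (h : Node x y) : Function.Injective (psi x y h.hxy) := by
  rw [injective_iff_map_eq_zero]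
  rintro ⟨a, c⟩ hac
  obtain ⟨a, rfl⟩ := Ideal.Quotient.mk_surjective a
  obtain ⟨c, rfl⟩ := Ideal.Quotient.mk_surjective c
  rw [psi_mk] at hac
  have h1 : x * a = y * (-c) := by linear_combination hac
  have h2 := h.hint a (-c) h1
  have h3 : y * c = 0 := by linear_combination hac - h2
  rw [Prod.mk_eq_zero]
  exact ⟨(Ideal.Quotient.eq_zero_iff_mem).mpr (h.hx a h2),
    (Ideal.Quotient.eq_zero_iff_mem).mpr (h.hy c h3)⟩

noncomputable def scK (x y : A) (hxy : x * y = 0) : ShortComplex (ModuleCat.{u} A) :=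
  ShortComplex.mk
    (X₁ := ModuleCat.of A ((A ⧸ Ideal.span {y}) × (A ⧸ Ideal.span {x})))
    (X₂ := ModuleCat.of A A)
    (X₃ := ModuleCat.of A (A ⧸ Ideal.span {x, y}))
    (ModuleCat.ofHom (psi x y hxy))
    (ModuleCat.ofHom (Submodule.mkQ (Ideal.span {x, y}))) (by
      rw [← ModuleCat.ofHom_comp, (psi_exact x y hxy).linearMap_comp_eq_zero]
      rfl)

theorem scK_shortExact {x y : A} (h : Node x y) : (scK x y h.hxy).ShortExact :=
  ModuleCat.shortComplex_shortExact _ (psi_exact x y h.hxy) (psi_injective h)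
    (Submodule.mkQ_surjective _)

theorem not_pd_kappa {x y : A} (h : Node x y) (n : ℕ) :
    ¬ HasProjectiveDimensionLT (ModuleCat.of A (A ⧸ Ideal.span {x, y})) n := by
  intro hpd
  match n, hpd with
  | 0, hpd =>
    have hz := isZero_of_hasProjectiveDimensionLT_zero
      (X := ModuleCat.of A (A ⧸ Ideal.span {x, y}))
    have hs : Subsingleton (A ⧸ Ideal.span {x, y}) := ModuleCat.isZero_iff_subsingleton.mp hz
    have h1 : Ideal.Quotient.mk (Ideal.span {x, y}) 1 = 0 := Subsingleton.elim _ _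
    rw [Ideal.Quotient.eq_zero_iff_mem, Ideal.mem_span_pair] at h1
    obtain ⟨c, d, hc⟩ := h1
    exact h.hne c d (by linear_combination hc)
  | 1, hpd =>
    have hproj : Projective (ModuleCat.of A (A ⧸ Ideal.span {x, y})) :=
      projective_iff_hasProjectiveDimensionLT_one.mpr hpd
    obtain ⟨s, hs⟩ := section_exists (ModuleCat.ofHom (Submodule.mkQ (Ideal.span {x, y})))
      (Submodule.mkQ_surjective _)
    let a : A := s (Ideal.Quotient.mk (Ideal.span {x, y}) (1 : A))
    have ha : Ideal.Quotient.mk (Ideal.span {x, y}) a = Ideal.Quotient.mk (Ideal.span {x, y}) 1 :=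
      hs (Ideal.Quotient.mk (Ideal.span {x, y}) (1 : A))
    have hkill : ∀ z ∈ Ideal.span {x, y}, z * a = 0 := by
      intro z hz
      have : z • s (Ideal.Quotient.mk (Ideal.span {x, y}) (1 : A)) =
          s (z • Ideal.Quotient.mk (Ideal.span {x, y}) (1 : A)) := (s.map_smul z _).symm
      have h0 : z • Ideal.Quotient.mk (Ideal.span {x, y}) (1 : A) = 0 := by
        change Ideal.Quotient.mk (Ideal.span {x, y}) (z • (1 : A)) = 0
        rw [smul_eq_mul, mul_one, Ideal.Quotient.eq_zero_iff_mem]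
        exact hz
      rw [h0, map_zero] at this
      exact this
    have hxa : x * a = 0 := hkill x (Ideal.subset_span (by simp))
    have hya : y * a = 0 := hkill y (Ideal.subset_span (by simp))
    have h1 := h.hx a hxa
    have h2 := h.hy a hya
    rw [Ideal.mem_span_singleton'] at h1 h2
    obtain ⟨c, hc⟩ := h1
    obtain ⟨d, hd⟩ := h2
    have h3 : x * d = y * c := by linear_combination hd - hc
    have h4 := h.hint d c h3
    have ha0 : a = 0 := by linear_combination (-1 : A) * hd + h4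
    rw [ha0, map_zero] at ha
    have h5 := ha.symm
    rw [Ideal.Quotient.eq_zero_iff_mem, Ideal.mem_span_pair] at h5
    obtain ⟨c', d', hc'⟩ := h5
    exact h.hne c' d' (by linear_combination hc')
  | n + 2, hpd =>
    have hS := scK_shortExact h
    have hp : Projective (scK x y h.hxy).X₂ := inferInstanceAs (Projective (ModuleCat.of A A))
    have h3 : HasProjectiveDimensionLT (scK x y h.hxy).X₃ (n + 2) := hpd
    have h1 : HasProjectiveDimensionLT
        (ModuleCat.of A ((A ⧸ Ideal.span {y}) × (A ⧸ Ideal.span {x}))) (n + 1) :=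
      (hS.hasProjectiveDimensionLT_X₃_iff n hp).mp h3
    let r : Retract (ModuleCat.of A (A ⧸ Ideal.span {y}))
        (ModuleCat.of A ((A ⧸ Ideal.span {y}) × (A ⧸ Ideal.span {x}))) :=
      { i := ModuleCat.ofHom (LinearMap.inl A _ _)
        r := ModuleCat.ofHom (LinearMap.fst A _ _)
        retract := by
          rw [← ModuleCat.ofHom_comp, LinearMap.fst_comp_inl]
          rfl }
    exact not_pd_quot h.symm (n + 1) (r.hasProjectiveDimensionLT (n + 1))

@[reducible] def RX (A : Type u) : ℕ → Type u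
  | 0 => A
  | _ + 1 => A × A

@[reducible] instance instRXAddCommGroup : ∀ n, AddCommGroup (RX A n)
  | 0 => inferInstanceAs (AddCommGroup A)
  | _ + 1 => inferInstanceAs (AddCommGroup (A × A))

@[reducible] instance instRXModule : ∀ n, Module A (RX A n)
  | 0 => inferInstanceAs (Module A A)
  | _ + 1 => inferInstanceAs (Module A (A × A))

instance instRXProjective : ∀ n, Module.Projective A (RX A n)
  | 0 => inferInstanceAs (Module.Projective A A)
  | _ + 1 => inferInstanceAs (Module.Projective A (A × A))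

noncomputable def d0 (x y : A) : A × A →ₗ[A] A :=
  LinearMap.coprod (LinearMap.mulLeft A x) (LinearMap.mulLeft A y)

noncomputable def T (x y : A) : A × A →ₗ[A] A × A :=
  LinearMap.prod ((LinearMap.mulLeft A y).comp (LinearMap.snd A A A))
    ((LinearMap.mulLeft A x).comp (LinearMap.fst A A A))

theorem d0_apply (x y : A) (p : A × A) : d0 x y p = x * p.1 + y * p.2 := rfl
theorem T_apply (x y : A) (p : A × A) : T x y p = (y * p.2, x * p.1) := rfl

noncomputable def Rd (x y : A) : ∀ n, RX A (n + 1) →ₗ[A] RX A n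
  | 0 => d0 x y
  | _ + 1 => T x y

theorem ker_T {x y : A} (h : Node x y) : LinearMap.ker (T x y) = LinearMap.range (T x y) := by
  ext ⟨a, b⟩
  rw [LinearMap.mem_ker, LinearMap.mem_range, T_apply, Prod.mk_eq_zero]
  constructor
  · rintro ⟨hb, ha⟩
    have h1 := h.hx a ha
    have h2 := h.hy b hb
    rw [Ideal.mem_span_singleton'] at h1 h2
    obtain ⟨c, hc⟩ := h1
    obtain ⟨e, he⟩ := h2
    refine ⟨(e, c), ?_⟩
    rw [T_apply, ← hc, ← he, mul_comm y c, mul_comm x e]
  · rintro ⟨⟨p, q⟩, hpq⟩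
    rw [T_apply, Prod.mk.injEq] at hpq
    obtain ⟨h1, h2⟩ := hpq
    dsimp only at h1 h2
    have hyx : y * x = 0 := by rw [mul_comm]; exact h.hxy
    constructor
    · rw [← h2, ← mul_assoc, hyx, zero_mul]
    · rw [← h1, ← mul_assoc, h.hxy, zero_mul]

theorem ker_d0 {x y : A} (h : Node x y) : LinearMap.ker (d0 x y) = LinearMap.range (T x y) := by
  rw [← ker_T h]
  ext ⟨a, b⟩
  rw [LinearMap.mem_ker, LinearMap.mem_ker, T_apply, d0_apply, Prod.mk_eq_zero]
  dsimp only
  constructor
  · intro hab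
    have h1 : x * a = y * (-b) := by linear_combination hab
    have h2 := h.hint a (-b) h1
    exact ⟨by linear_combination hab - h2, h2⟩
  · rintro ⟨h1, h2⟩
    rw [h1, h2, add_zero]

theorem Rd_comp {x y : A} (h : Node x y) (n : ℕ) : (Rd x y n).comp (Rd x y (n + 1)) = 0 := by
  have hyx : y * x = 0 := by rw [mul_comm]; exact h.hxy
  cases n with
  | zero =>
    apply LinearMap.ext
    rintro ⟨a, b⟩
    change d0 x y (T x y (a, b)) = 0
    rw [T_apply, d0_apply]
    dsimp only
    rw [← mul_assoc, ← mul_assoc, h.hxy, hyx, zero_mul, zero_mul, add_zero]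
  | succ n =>
    apply LinearMap.ext
    rintro ⟨a, b⟩
    change T x y (T x y (a, b)) = 0
    rw [T_apply, T_apply]
    dsimp only
    rw [← mul_assoc, ← mul_assoc, h.hxy, hyx, zero_mul, zero_mul]
    rfl

theorem Rd_exact {x y : A} (h : Node x y) (n : ℕ) :
    LinearMap.ker (Rd x y n) = LinearMap.range (Rd x y (n + 1)) := by
  cases n with
  | zero => exact ker_d0 h
  | succ n => exact ker_T h

noncomputable def eps (x y : A) : RX A 0 →ₗ[A] (A ⧸ Ideal.span {x, y}) :=
  Submodule.mkQ (Ideal.span {x, y})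

theorem eps_comp (x y : A) : (eps x y).comp (Rd x y 0) = 0 := by
  apply LinearMap.ext
  rintro ⟨a, b⟩
  change Ideal.Quotient.mk (Ideal.span {x, y}) (d0 x y (a, b)) = 0
  rw [d0_apply, Ideal.Quotient.eq_zero_iff_mem, Ideal.mem_span_pair]
  exact ⟨a, b, by ring⟩

theorem ker_mkQ_eq (x y : A) :
    LinearMap.ker (Submodule.mkQ (Ideal.span {x, y})) = LinearMap.range (d0 x y) := by
  ext b
  rw [LinearMap.mem_ker, LinearMap.mem_range]
  change Ideal.Quotient.mk (Ideal.span {x, y}) b = 0 ↔ _
  rw [Ideal.Quotient.eq_zero_iff_mem, Ideal.mem_span_pair]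
  constructor
  · rintro ⟨a, c, rfl⟩
    exact ⟨(a, c), by rw [d0_apply]; ring⟩
  · rintro ⟨⟨a, c⟩, rfl⟩
    exact ⟨a, c, by rw [d0_apply]; ring⟩

theorem ker_eps (x y : A) : LinearMap.ker (eps x y) = LinearMap.range (Rd x y 0) :=
  ker_mkQ_eq x y

noncomputable def resK {x y : A} (h : Node x y) :
    ProjectiveResolution (ModuleCat.of A (A ⧸ Ideal.span {x, y})) :=
  Lib.Helper8.ResOfExact.res (RX A) (Rd x y) (eps x y) (Rd_comp h) (eps_comp x y)
    (Submodule.mkQ_surjective _) (ker_eps x y) (Rd_exact h)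

open TensorProduct in
theorem tmul_eq_zero_of_mem {I : Ideal A} {N : Type u} [AddCommGroup N] [Module A N]
    (c : A ⧸ I) (n : N) (hn : n ∈ I • (⊤ : Submodule A N)) :
    c ⊗ₜ[A] n = (0 : (A ⧸ I) ⊗[A] N) := by
  refine Submodule.smul_induction_on hn ?_ ?_
  · intro r hr m _
    obtain ⟨c, rfl⟩ := Ideal.Quotient.mk_surjective c
    rw [TensorProduct.tmul_smul, TensorProduct.smul_tmul']
    have : r • Ideal.Quotient.mk I c = 0 := by
      change Ideal.Quotient.mk I (r • c) = 0
      rw [Ideal.Quotient.eq_zero_iff_mem]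
      exact Ideal.mul_mem_right _ _ hr
    rw [this, TensorProduct.zero_tmul]
  · intro a b ha hb
    rw [TensorProduct.tmul_add, ha, hb, add_zero]

theorem Rd_mem (x y : A) (n : ℕ) (m : RX A (n + 1)) :
    Rd x y n m ∈ (Ideal.span {x, y}) • (⊤ : Submodule A (RX A n)) := by
  have hxI : x ∈ Ideal.span {x, y} := Ideal.subset_span (by simp)
  have hyI : y ∈ Ideal.span {x, y} := Ideal.subset_span (by simp)
  cases n with
  | zero =>
    obtain ⟨a, b⟩ := m
    change d0 x y (a, b) ∈ (Ideal.span {x, y}) • (⊤ : Submodule A A)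
    rw [d0_apply]
    exact Submodule.add_mem _ (Submodule.smul_mem_smul hxI (Submodule.mem_top (x := a)))
      (Submodule.smul_mem_smul hyI (Submodule.mem_top (x := b)))
  | succ n =>
    obtain ⟨a, b⟩ := m
    change T x y (a, b) ∈ (Ideal.span {x, y}) • (⊤ : Submodule A (A × A))
    rw [T_apply]
    have : ((y * b, x * a) : A × A) = y • ((b, 0) : A × A) + x • ((0, a) : A × A) := by
      simp
    rw [this]
    exact Submodule.add_mem _ (Submodule.smul_mem_smul hyI (Submodule.mem_top))
      (Submodule.smul_mem_smul hxI (Submodule.mem_top))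

open MonoidalCategory in
theorem whisker_zero (x y : A) (n : ℕ) :
    (ModuleCat.of A (A ⧸ Ideal.span {x, y})) ◁ ModuleCat.ofHom (Rd x y n) = 0 := by
  apply ModuleCat.MonoidalCategory.tensor_ext
  intro c m
  rw [ModuleCat.MonoidalCategory.whiskerLeft_apply]
  exact tmul_eq_zero_of_mem (I := Ideal.span {x, y}) c _ (Rd_mem x y n m)

open MonoidalCategory in
theorem tor_iso {x y : A} (h : Node x y) (i : ℕ) :
    Nonempty ((((Tor (ModuleCat.{u} A) (i + 1)).obj
      (ModuleCat.of A (A ⧸ Ideal.span {x, y}))).obj (ModuleCat.of A (A ⧸ Ideal.span {x, y}))) ≅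
      (ModuleCat.of A (A ⧸ Ideal.span {x, y})) ⊗ ModuleCat.of A (A × A)) := by
  let P := resK h
  let F : ModuleCat.{u} A ⥤ ModuleCat.{u} A :=
    (tensoringLeft (ModuleCat.{u} A)).obj (ModuleCat.of A (A ⧸ Ideal.span {x, y}))
  let K := (F.mapHomologicalComplex (ComplexShape.down ℕ)).obj P.complex
  have hd : ∀ i j, K.d i j = 0 := by
    intro i j
    by_cases hij : (ComplexShape.down ℕ).Rel i j
    · have hji : j + 1 = i := hij
      subst hji
      change F.map (P.complex.d (j + 1) j) = 0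
      have hP : P.complex.d (j + 1) j = ModuleCat.ofHom (Rd x y j) :=
        Lib.Helper8.ResOfExact.cx_d (RX A) (Rd x y) (Rd_comp h) j
      rw [hP]
      exact whisker_zero x y j
    · exact K.shape i j hij
  let e1 := P.isoLeftDerivedObj F (i + 1)
  let hdata := ShortComplex.HomologyData.ofZeros (K.sc (i + 1)) (hd _ _) (hd _ _)
  let e2 : K.homology (i + 1) ≅ K.X (i + 1) := hdata.left.homologyIso
  exact ⟨e1 ≪≫ e2⟩

open TensorProduct in
theorem length_tensor (I : Ideal A) [hI : I.IsMaximal] :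
    Module.length A ((A ⧸ I) ⊗[A] (A × A)) = 2 := by
  have hs : IsSimpleModule A (A ⧸ I) := isSimpleModule_iff_isCoatom.mpr (Ideal.isMaximal_def.mp hI)
  let e : ((A ⧸ I) ⊗[A] (A × A)) ≃ₗ[A] (A ⧸ I) × (A ⧸ I) :=
    (TensorProduct.prodRight A A (A ⧸ I) A A) ≪≫ₗ
      LinearEquiv.prodCongr (TensorProduct.rid A (A ⧸ I)) (TensorProduct.rid A (A ⧸ I))
  rw [e.length_eq, Module.length_prod, Module.length_eq_one]
  rfl

open MonoidalCategory in
theorem tor_length {x y : A} (h : Node x y) [hI : (Ideal.span {x, y}).IsMaximal] (i : ℕ)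
    (hi : 1 ≤ i) :
    Module.length A ((((Tor (ModuleCat.{u} A) i).obj
      (ModuleCat.of A (A ⧸ Ideal.span {x, y}))).obj
        (ModuleCat.of A (A ⧸ Ideal.span {x, y})) : ModuleCat.{u} A) : Type u) = 2 := by
  obtain ⟨j, rfl⟩ : ∃ j, i = j + 1 := ⟨i - 1, by omega⟩
  obtain ⟨e⟩ := tor_iso h j
  rw [e.toLinearEquiv.length_eq]
  exact length_tensor (Ideal.span {x, y})

section Concrete

variable (k : Type u) [Field k]

theorem poly_decomp (P : MvPolynomial (Fin 2) k) :
    ∃ (c : k) (Q0 Q1 : MvPolynomial (Fin 2) k),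
      P = MvPolynomial.C c + MvPolynomial.X 0 * Q0 + MvPolynomial.X 1 * Q1 := by
  induction P using MvPolynomial.induction_on with
  | C a => exact ⟨a, 0, 0, by ring⟩
  | add p q hp hq =>
    obtain ⟨c, Q0, Q1, rfl⟩ := hp
    obtain ⟨c', Q0', Q1', rfl⟩ := hq
    exact ⟨c + c', Q0 + Q0', Q1 + Q1', by rw [map_add]; ring⟩
  | mul_X p i hp =>
    fin_cases i
    · exact ⟨0, p, 0, by simp only [map_zero, Fin.zero_eta]; ring⟩
    · exact ⟨0, 0, p, by simp only [map_zero, Fin.mk_one]; ring⟩

noncomputable abbrev J : Ideal (MvPolynomial (Fin 2) k) :=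
  Ideal.span {(MvPolynomial.X 0 * MvPolynomial.X 1 : MvPolynomial (Fin 2) k)}

theorem node_concrete : Node (Ideal.Quotient.mk (J k) (MvPolynomial.X 0))
    (Ideal.Quotient.mk (J k) (MvPolynomial.X 1)) where
  hxy := by
    rw [← map_mul, Ideal.Quotient.eq_zero_iff_mem]
    exact Ideal.mem_span_singleton_self _
  hx := by
    intro a ha
    obtain ⟨P, rfl⟩ := Ideal.Quotient.mk_surjective a
    rw [← map_mul, Ideal.Quotient.eq_zero_iff_mem, Ideal.mem_span_singleton'] at ha
    obtain ⟨r, hr⟩ := ha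
    have hP : P = r * MvPolynomial.X 1 := by
      apply mul_left_cancel₀ (MvPolynomial.X_ne_zero (R := k) (0 : Fin 2))
      rw [← hr]
      ring
    rw [hP, map_mul]
    exact Ideal.mul_mem_left _ _ (Ideal.mem_span_singleton_self _)
  hy := by
    intro a ha
    obtain ⟨P, rfl⟩ := Ideal.Quotient.mk_surjective a
    rw [← map_mul, Ideal.Quotient.eq_zero_iff_mem, Ideal.mem_span_singleton'] at ha
    obtain ⟨r, hr⟩ := ha
    have hP : P = r * MvPolynomial.X 0 := by
      apply mul_left_cancel₀ (MvPolynomial.X_ne_zero (R := k) (1 : Fin 2))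
      rw [← hr]
      ring
    rw [hP, map_mul]
    exact Ideal.mul_mem_left _ _ (Ideal.mem_span_singleton_self _)
  hint := by
    intro a b hab
    obtain ⟨P, rfl⟩ := Ideal.Quotient.mk_surjective a
    obtain ⟨Q, rfl⟩ := Ideal.Quotient.mk_surjective b
    rw [← map_mul, ← map_mul, Ideal.Quotient.eq, Ideal.mem_span_singleton'] at hab
    obtain ⟨r, hr⟩ := hab
    have h1 : (MvPolynomial.X 1 : MvPolynomial (Fin 2) k) ∣ MvPolynomial.X 0 * P :=
      ⟨Q + r * MvPolynomial.X 0, by linear_combination (-1 : MvPolynomial (Fin 2) k) * hr⟩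
    rw [MvPolynomial.X_dvd_mul_iff] at h1
    rcases h1 with h1 | h1
    · rw [MvPolynomial.X_dvd_X] at h1
      exact absurd h1 (by decide)
    · obtain ⟨P', rfl⟩ := h1
      rw [← map_mul, Ideal.Quotient.eq_zero_iff_mem, Ideal.mem_span_singleton']
      exact ⟨P', by ring⟩
  hne := by
    intro p q h
    obtain ⟨P, rfl⟩ := Ideal.Quotient.mk_surjective p
    obtain ⟨Q, rfl⟩ := Ideal.Quotient.mk_surjective q
    rw [← map_mul, ← map_mul, ← map_add, ← map_one (Ideal.Quotient.mk _), Ideal.Quotient.eq,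
      Ideal.mem_span_singleton'] at h
    obtain ⟨r, hr⟩ := h
    have := congrArg (MvPolynomial.constantCoeff (σ := Fin 2) (R := k)) hr
    simp only [map_mul, map_sub, map_add, map_one, MvPolynomial.constantCoeff_X, zero_mul,
      mul_zero, add_zero, zero_sub] at this
    exact one_ne_zero (neg_eq_zero.mp this.symm)

theorem maximal_concrete : (Ideal.span {Ideal.Quotient.mk (J k) (MvPolynomial.X 0),
    Ideal.Quotient.mk (J k) (MvPolynomial.X 1)}).IsMaximal := by
  rw [Ideal.isMaximal_iff]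
  constructor
  · intro h1
    rw [Ideal.mem_span_pair] at h1
    obtain ⟨a, b, hab⟩ := h1
    exact (node_concrete k).hne a b (by rw [← hab]; ring)
  · intro J' z hle hz hzJ
    obtain ⟨P, rfl⟩ := Ideal.Quotient.mk_surjective z
    obtain ⟨c, Q0, Q1, rfl⟩ := poly_decomp k P
    have hx : Ideal.Quotient.mk (J k) (MvPolynomial.X 0) ∈ J' :=
      hle (Ideal.subset_span (by simp))
    have hy : Ideal.Quotient.mk (J k) (MvPolynomial.X 1) ∈ J' :=
      hle (Ideal.subset_span (by simp))
    have hc : c ≠ 0 := by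
      rintro rfl
      apply hz
      rw [map_zero, zero_add, map_add, map_mul, map_mul, Ideal.mem_span_pair]
      exact ⟨Ideal.Quotient.mk _ Q0, Ideal.Quotient.mk _ Q1, by ring⟩
    have h1 : Ideal.Quotient.mk (J k) (MvPolynomial.C c) ∈ J' := by
      have : Ideal.Quotient.mk (J k) (MvPolynomial.C c) =
          Ideal.Quotient.mk (J k) (MvPolynomial.C c + MvPolynomial.X 0 * Q0 +
            MvPolynomial.X 1 * Q1) - Ideal.Quotient.mk (J k) (MvPolynomial.X 0) *
              Ideal.Quotient.mk _ Q0 - Ideal.Quotient.mk (J k) (MvPolynomial.X 1) *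
              Ideal.Quotient.mk _ Q1 := by
        simp only [map_add, map_mul]
        ring
      rw [this]
      exact J'.sub_mem (J'.sub_mem hzJ (J'.mul_mem_right _ hx)) (J'.mul_mem_right _ hy)
    have h2 : (1 : MvPolynomial (Fin 2) k ⧸ J k) =
        Ideal.Quotient.mk (J k) (MvPolynomial.C c⁻¹) * Ideal.Quotient.mk (J k) (MvPolynomial.C c) := by
      rw [← map_mul, ← map_mul, inv_mul_cancel₀ hc, map_one, map_one]
    rw [h2]
    exact J'.mul_mem_left _ h1

end Concrete

end Helpers

/-- Let k be a field, A = k[x, y]/(xy) (x = X_0, y = X_1) and κ = A/(x, y) the residue field at the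
origin, viewed as an A-module. Then for every i ≥ 1 the A-module Tor_i^A(κ, κ) has length 2 (it is a
two-dimensional κ-vector space; Tor_0 is κ), and κ admits no finite projective resolution over A:
for no n is its projective dimension less than n. -/
theorem result (k : Type u) [Field k] :
    (∀ i : ℕ, 1 ≤ i →
      Module.length (MvPolynomial (Fin 2) k ⧸ Ideal.span {(MvPolynomial.X 0 * MvPolynomial.X 1 : MvPolynomial (Fin 2) k)}) ((((Tor (ModuleCat.{u} (MvPolynomial (Fin 2) k ⧸ Ideal.span {(MvPolynomial.X 0 * MvPolynomial.X 1 : MvPolynomial (Fin 2) k)})) i).obj (ModuleCat.of (MvPolynomial (Fin 2) k ⧸ Ideal.span {(MvPolynomial.X 0 * MvPolynomial.X 1 : MvPolynomial (Fin 2) k)}) ((MvPolynomial (Fin 2) k ⧸ Ideal.span {(MvPolynomial.X 0 * MvPolynomial.X 1 : MvPolynomial (Fin 2) k)}) ⧸ Ideal.span {Ideal.Quotient.mk (Ideal.span {(MvPolynomial.X 0 * MvPolynomial.X 1 : MvPolynomial (Fin 2) k)}) (MvPolynomial.X 0), Ideal.Quotient.mk (Ideal.span {(MvPolynomial.X 0 * MvPolynomial.X 1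 : MvPolynomial (Fin 2) k)}) (MvPolynomial.X 1)}))).obj (ModuleCat.of (MvPolynomial (Fin 2) k ⧸ Ideal.span {(MvPolynomial.X 0 * MvPolynomial.X 1 : MvPolynomial (Fin 2) k)}) ((MvPolynomial (Fin 2) k ⧸ Ideal.span {(MvPolynomial.X 0 * MvPolynomial.X 1 : MvPolynomial (Fin 2) k)}) ⧸ Ideal.span {Ideal.Quotient.mk (Ideal.span {(MvPolynomial.X 0 * MvPolynomial.X 1 : MvPolynomial (Fin 2) k)}) (MvPolynomial.X 0), Ideal.Quotient.mk (Ideal.span {(MvPolynomial.X 0 * MvPolynomial.X 1 : MvPolynomial (Fin 2) k)}) (MvPolynomial.X 1)}))) : Type u) = 2) ∧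
    ∀ n : ℕ, ¬ HasProjectiveDimensionLT (ModuleCat.of (MvPolynomial (Fin 2) k ⧸ Ideal.span {(MvPolynomial.X 0 * MvPolynomial.X 1 : MvPolynomial (Fin 2) k)}) ((MvPolynomial (Fin 2) k ⧸ Ideal.span {(MvPolynomial.X 0 * MvPolynomial.X 1 : MvPolynomial (Fin 2) k)}) ⧸ Ideal.span {Ideal.Quotient.mk (Ideal.span {(MvPolynomial.X 0 * MvPolynomial.X 1 : MvPolynomial (Fin 2) k)}) (MvPolynomial.X 0), Ideal.Quotient.mk (Ideal.span {(MvPolynomial.X 0 * MvPolynomial.X 1 : MvPolynomial (Fin 2) k)}) (MvPolynomial.X 1)})) n := by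
  refine ⟨fun i hi => ?_, fun n => ?_⟩
  · have := maximal_concrete k
    exact tor_length (node_concrete k) i hi
  · exact not_pd_kappa (node_concrete k) n

end Groth.Agent.S16243
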