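import Groth.Statements.S16244
import Mathlib.AlgebraicGeometry.EllipticCurve.NormalForms
import Mathlib.RingTheory.RootsOfUnity.AlgebraicallyClosed
import Mathlib.Tactic

set_option autoImplicit false
universe u
open Curves

namespace Groth.Agent.S16244

open WeierstrassCurve

variable {k : Type u} [Field k]

lemma mem_stab_iff (h2 : (2 : k) ≠ 0) (h3 : (3 : k) ≠ 0) (W : WeierstrassCurve k) [W.IsShortNF]
    (C : VariableChange k) :
    C ∈ MulAction.stabilizer (VariableChange k) W ↔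
      C.r = 0 ∧ C.s = 0 ∧ C.t = 0 ∧ (C.u : k) ^ 4 * W.a₄ = W.a₄ ∧ (C.u : k) ^ 6 * W.a₆ = W.a₆ := by
  rw [MulAction.mem_stabilizer_iff]
  have hu : (C.u : k) ≠ 0 := C.u.ne_zero
  have hui : ((C.u⁻¹ : kˣ) : k) ≠ 0 := (C.u⁻¹).ne_zero
  have huu : ((C.u⁻¹ : kˣ) : k) * (C.u : k) = 1 := C.u.inv_mul
  constructor
  · intro h
    have e1 := congrArg WeierstrassCurve.a₁ h
    have e2 := congrArg WeierstrassCurve.a₂ h
    have e3 := congrArg WeierstrassCurve.a₃ h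
    have e4 := congrArg WeierstrassCurve.a₄ h
    have e6 := congrArg WeierstrassCurve.a₆ h
    simp only [variableChange_a₁, variableChange_a₂, variableChange_a₃, variableChange_a₄,
      variableChange_a₆, a₁_of_isShortNF, a₂_of_isShortNF, a₃_of_isShortNF] at e1 e2 e3 e4 e6
    have hs : C.s = 0 := by
      have : (2 : k) * C.s = 0 := by
        rcases mul_eq_zero.mp e1 with h | h
        · exact absurd h hui
        · simpa using h
      exact (mul_eq_zero.mp this).resolve_left h2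
    have hr : C.r = 0 := by
      rw [hs] at e2
      have : (3 : k) * C.r = 0 := by
        rcases mul_eq_zero.mp e2 with h | h
        · exact absurd (pow_eq_zero_iff (by norm_num) |>.mp h) hui
        · simpa using h
      exact (mul_eq_zero.mp this).resolve_left h3
    have ht : C.t = 0 := by
      rw [hr] at e3
      have : (2 : k) * C.t = 0 := by
        rcases mul_eq_zero.mp e3 with h | h
        · exact absurd (pow_eq_zero_iff (by norm_num) |>.mp h) hui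
        · simpa using h
      exact (mul_eq_zero.mp this).resolve_left h2
    refine ⟨hr, hs, ht, ?_, ?_⟩
    · rw [hr, hs, ht] at e4
      have : ((C.u⁻¹ : kˣ) : k) ^ 4 * W.a₄ = W.a₄ := by simpa using e4
      calc (C.u : k) ^ 4 * W.a₄ = (C.u : k) ^ 4 * (((C.u⁻¹ : kˣ) : k) ^ 4 * W.a₄) := by rw [this]
        _ = (((C.u⁻¹ : kˣ) : k) * (C.u : k)) ^ 4 * W.a₄ := by ring
        _ = W.a₄ := by rw [huu]; ring
    · rw [hr, ht] at e6
      have : ((C.u⁻¹ : kˣ) : k) ^ 6 * W.a₆ = W.a₆ := by simpa using e6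
      calc (C.u : k) ^ 6 * W.a₆ = (C.u : k) ^ 6 * (((C.u⁻¹ : kˣ) : k) ^ 6 * W.a₆) := by rw [this]
        _ = (((C.u⁻¹ : kˣ) : k) * (C.u : k)) ^ 6 * W.a₆ := by ring
        _ = W.a₆ := by rw [huu]; ring
  · rintro ⟨hr, hs, ht, h4, h6⟩
    ext
    · simp [variableChange_a₁, a₁_of_isShortNF, hs]
    · simp [variableChange_a₂, a₁_of_isShortNF, a₂_of_isShortNF, hs, hr]
    · simp [variableChange_a₃, a₁_of_isShortNF, a₃_of_isShortNF, ht, hr]
    · simp only [variableChange_a₄, a₁_of_isShortNF, a₂_of_isShortNF, a₃_of_isShortNF, hr, hs, ht]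
      calc ((C.u⁻¹ : kˣ) : k) ^ 4 * (W.a₄ - 0 * 0 + 2 * 0 * 0 - (0 + 0 * 0) * 0 + 3 * 0 ^ 2 - 2 * 0 * 0)
          = ((C.u⁻¹ : kˣ) : k) ^ 4 * W.a₄ := by ring
        _ = ((C.u⁻¹ : kˣ) : k) ^ 4 * ((C.u : k) ^ 4 * W.a₄) := by rw [h4]
        _ = (((C.u⁻¹ : kˣ) : k) * (C.u : k)) ^ 4 * W.a₄ := by ring
        _ = W.a₄ := by rw [huu]; ring
    · simp only [variableChange_a₆, a₁_of_isShortNF, a₂_of_isShortNF, a₃_of_isShortNF, hr, hs, ht]
      calc ((C.u⁻¹ : kˣ) : k) ^ 6 * (W.a₆ + 0 * W.a₄ + 0 ^ 2 * 0 + 0 ^ 3 - 0 * 0 - 0 ^ 2 - 0 * 0 * 0)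
          = ((C.u⁻¹ : kˣ) : k) ^ 6 * W.a₆ := by ring
        _ = ((C.u⁻¹ : kˣ) : k) ^ 6 * ((C.u : k) ^ 6 * W.a₆) := by rw [h6]
        _ = (((C.u⁻¹ : kˣ) : k) * (C.u : k)) ^ 6 * W.a₆ := by ring
        _ = W.a₆ := by rw [huu]; ring

/-- the stabilizer is the group of `n`-th roots of unity once the condition on `u` is `u ^ n = 1` -/
noncomputable def stabEquiv (h2 : (2 : k) ≠ 0) (h3 : (3 : k) ≠ 0) (W : WeierstrassCurve k)
    [W.IsShortNF] (n : ℕ)
    (hn : ∀ u : kˣ, ((u : k) ^ 4 * W.a₄ = W.a₄ ∧ (u : k) ^ 6 * W.a₆ = W.a₆) ↔ u ^ n = 1) :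
    ↥(MulAction.stabilizer (VariableChange k) W) ≃* ↥(rootsOfUnity n k) where
  toFun C := ⟨C.1.u, (mem_rootsOfUnity _ _).mpr ((hn _).mp
    ⟨((mem_stab_iff h2 h3 W C.1).mp C.2).2.2.2.1, ((mem_stab_iff h2 h3 W C.1).mp C.2).2.2.2.2⟩)⟩
  invFun ζ := ⟨⟨ζ.1, 0, 0, 0⟩, (mem_stab_iff h2 h3 W _).mpr
    ⟨rfl, rfl, rfl, ((hn ζ.1).mpr ((mem_rootsOfUnity _ _).mp ζ.2)).1,
      ((hn ζ.1).mpr ((mem_rootsOfUnity _ _).mp ζ.2)).2⟩⟩
  left_inv C := by
    obtain ⟨hr, hs, ht, -, -⟩ := (mem_stab_iff h2 h3 W C.1).mp C.2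
    apply Subtype.ext
    ext
    · rfl
    · exact hr.symm
    · exact hs.symm
    · exact ht.symm
  right_inv ζ := rfl
  map_mul' C C' := rfl

lemma main (k : Type u) [Field k] [IsAlgClosed k] (h2 : (2 : k) ≠ 0) (h3 : (3 : k) ≠ 0)
    (W : WeierstrassCurve k) [W.IsShortNF] (n : ℕ) (hnk : (n : k) ≠ 0)
    (hn : ∀ u : kˣ, ((u : k) ^ 4 * W.a₄ = W.a₄ ∧ (u : k) ^ 6 * W.a₆ = W.a₆) ↔ u ^ n = 1) :
    IsCyclic ↥(MulAction.stabilizer (VariableChange k) W) ∧
      Nat.card ↥(MulAction.stabilizer (VariableChange k) W) = n := by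
  have : NeZero (n : k) := ⟨hnk⟩
  have : NeZero n := .of_neZero_natCast k
  let e := stabEquiv h2 h3 W n hn
  have hc : IsCyclic ↥(rootsOfUnity n k) := inferInstance
  refine ⟨isCyclic_of_surjective e.symm e.symm.surjective, ?_⟩
  rw [Nat.card_congr e.toEquiv]
  exact HasEnoughRootsOfUnity.natCard_rootsOfUnity k n

lemma units_pow_eq_one_iff (u : kˣ) (n : ℕ) : u ^ n = 1 ↔ (u : k) ^ n = 1 := by
  rw [← Units.val_pow_eq_pow_val, Units.val_eq_one]

/-- Let k be an algebraically closed field in which 2 and 3 are nonzero, and W a short Weierstrass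
equation y² = x³ + a₄x + a₆ over k with nonzero discriminant. The admissible changes of variables
(u, r, s, t) that fix W form a cyclic group, of order 6 when a₄ = 0, of order 4 when a₆ = 0, and of
order 2 when a₄ and a₆ are both nonzero. (The published statement says the automorphism group of the
elliptic curve is cyclic of order 2, 4 or 6; the automorphisms are rendered here as the changes of
variables preserving the equation, and the case distinction is the one the computation gives.) -/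
theorem result
    (k : Type u) [Field k] [IsAlgClosed k] (h2 : (2 : k) ≠ 0) (h3 : (3 : k) ≠ 0)
    (W : WeierstrassCurve k) [W.IsShortNF] (hΔ : W.Δ ≠ 0) :
    IsCyclic ↥(MulAction.stabilizer (WeierstrassCurve.VariableChange k) W) ∧
      (W.a₄ = 0 → Nat.card ↥(MulAction.stabilizer (WeierstrassCurve.VariableChange k) W) = 6) ∧
      (W.a₆ = 0 → Nat.card ↥(MulAction.stabilizer (WeierstrassCurve.VariableChange k) W) = 4) ∧
      (W.a₄ ≠ 0 → W.a₆ ≠ 0 → Nat.card ↥(MulAction.stabilizer (WeierstrassCurve.VariableChange k) W) = 2) := by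
  rw [Δ_of_isShortNF] at hΔ
  have h46 : ¬ (W.a₄ = 0 ∧ W.a₆ = 0) := by
    rintro ⟨h4, h6⟩
    apply hΔ
    rw [h4, h6]
    ring
  have h6k : ((6 : ℕ) : k) ≠ 0 := by
    have : ((6 : ℕ) : k) = 2 * 3 := by norm_num
    rw [this]
    exact mul_ne_zero h2 h3
  have h4k : ((4 : ℕ) : k) ≠ 0 := by
    have : ((4 : ℕ) : k) = 2 * 2 := by norm_num
    rw [this]
    exact mul_ne_zero h2 h2
  have h2k : ((2 : ℕ) : k) ≠ 0 := by
    have : ((2 : ℕ) : k) = 2 := by norm_num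
    rw [this]
    exact h2
  have c6 : W.a₄ = 0 → ∀ u : kˣ, ((u : k) ^ 4 * W.a₄ = W.a₄ ∧ (u : k) ^ 6 * W.a₆ = W.a₆) ↔ u ^ 6 = 1 := by
    intro h4 u
    have h6 : W.a₆ ≠ 0 := fun h => h46 ⟨h4, h⟩
    rw [units_pow_eq_one_iff, h4]
    constructor
    · rintro ⟨-, h⟩
      exact mul_right_cancel₀ h6 (by rw [h, one_mul])
    · intro h
      exact ⟨by ring, by rw [h, one_mul]⟩
  have c4 : W.a₆ = 0 → ∀ u : kˣ, ((u : k) ^ 4 * W.a₄ = W.a₄ ∧ (u : k) ^ 6 * W.a₆ = W.a₆) ↔ u ^ 4 = 1 := by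
    intro h6 u
    have h4 : W.a₄ ≠ 0 := fun h => h46 ⟨h, h6⟩
    rw [units_pow_eq_one_iff, h6]
    constructor
    · rintro ⟨h, -⟩
      exact mul_right_cancel₀ h4 (by rw [h, one_mul])
    · intro h
      exact ⟨by rw [h, one_mul], by ring⟩
  have c2 : W.a₄ ≠ 0 → W.a₆ ≠ 0 →
      ∀ u : kˣ, ((u : k) ^ 4 * W.a₄ = W.a₄ ∧ (u : k) ^ 6 * W.a₆ = W.a₆) ↔ u ^ 2 = 1 := by
    intro h4 h6 u
    rw [units_pow_eq_one_iff]
    constructor
    · rintro ⟨h, h'⟩
      have e4 : (u : k) ^ 4 = 1 := mul_right_cancel₀ h4 (by rw [h, one_mul])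
      have e6 : (u : k) ^ 6 = 1 := mul_right_cancel₀ h6 (by rw [h', one_mul])
      calc (u : k) ^ 2 = (u : k) ^ 2 * (u : k) ^ 4 := by rw [e4, mul_one]
        _ = (u : k) ^ 6 := by ring
        _ = 1 := e6
    · intro h
      have e4 : (u : k) ^ 4 = 1 := by
        calc (u : k) ^ 4 = ((u : k) ^ 2) ^ 2 := by ring
          _ = 1 := by rw [h]; ring
      have e6 : (u : k) ^ 6 = 1 := by
        calc (u : k) ^ 6 = ((u : k) ^ 2) ^ 3 := by ring
          _ = 1 := by rw [h]; ring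
      exact ⟨by rw [e4, one_mul], by rw [e6, one_mul]⟩
  refine ⟨?_, fun h4 => (main k h2 h3 W 6 h6k (c6 h4)).2, fun h6 => (main k h2 h3 W 4 h4k (c4 h6)).2,
    fun h4 h6 => (main k h2 h3 W 2 h2k (c2 h4 h6)).2⟩
  by_cases h4 : W.a₄ = 0
  · exact (main k h2 h3 W 6 h6k (c6 h4)).1
  · by_cases h6 : W.a₆ = 0
    · exact (main k h2 h3 W 4 h4k (c4 h6)).1
    · exact (main k h2 h3 W 2 h2k (c2 h4 h6)).1

end Groth.Agent.S16244
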