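import Groth.Statements.S16245
import Mathlib
import Groth.Agent.Lib.Helper78.ClosedCond
import Groth.Agent.Lib.Lead.SheafPts

set_option autoImplicit false
universe u
open CategoryTheory CategoryTheory.Limits AlgebraicGeometry
open SDiv

namespace Groth.Agent.S16245

section helpers
open CategoryTheory CategoryTheory.Limits AlgebraicGeometry
open SDiv


open TensorProduct

section Alg

theorem alg1 {R A' N : Type*} [CommRing R] [CommRing A'] [Algebra R A'] [AddCommGroup N]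
    [Module R N] (n : N) (h : (1 : A') ⊗ₜ[R] n = 0) (φ : N →ₗ[R] R) :
    algebraMap R A' (φ n) = 0 := by
  have h1 := congrArg (LinearMap.lTensor A' φ) h
  rw [LinearMap.lTensor_tmul, map_zero] at h1
  have h2 := congrArg (TensorProduct.rid R A') h1
  rw [TensorProduct.rid_tmul, map_zero, Algebra.smul_def, mul_one] at h2
  exact h2

theorem dualBasis (R N : Type*) [CommRing R] [AddCommGroup N] [Module R N] [Module.Finite R N]
    [Module.Projective R N] :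
    ∃ (k : ℕ) (e : Fin k → N) (c : Fin k → (N →ₗ[R] R)), ∀ n : N, n = ∑ j, c j n • e j := by
  obtain ⟨k, f, g, -, -, hfg⟩ := Module.Finite.exists_comp_eq_id_of_projective R N
  refine ⟨k, fun j => f (Pi.single j 1), fun j => (LinearMap.proj j) ∘ₗ g, fun n => ?_⟩
  have h1 : n = f (g n) := by
    have := congrArg (fun l => l n) hfg
    exact this.symm
  conv_lhs => rw [h1]
  have h2 : g n = ∑ j, (g n j) • (Pi.single j (1 : R) : Fin k → R) := by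
    ext i
    simp [Finset.sum_apply, Pi.single_apply]
  conv_lhs => rw [h2]
  rw [map_sum]
  refine Finset.sum_congr rfl fun j _ => ?_
  rw [LinearMap.map_smul]
  rfl

/-- coefficient ideal of an ideal `I` of an `R`-algebra `B`: generated by all `φ e`, `e ∈ I`,
`φ : B → R` linear. -/
def coeffS (R : Type*) {B : Type*} [CommRing R] [CommRing B] [Algebra R B] (I : Ideal B) :
    Ideal R :=
  Ideal.span {x | ∃ e ∈ I, ∃ φ : B →ₗ[R] R, φ e = x}

theorem algA {R B C P : Type*} [CommRing R] [CommRing B] [CommRing C] [CommRing P]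
    [Algebra R B] [Algebra R C] [Algebra B P] [Algebra C P] [Algebra R P]
    [IsScalarTower R B P] [IsScalarTower R C P] (hp : Algebra.IsPushout R B C P) (I : Ideal B)
    (hI : ∀ e ∈ I, algebraMap B P e = 0) : coeffS R I ≤ RingHom.ker (algebraMap R C) := by
  rw [coeffS, Ideal.span_le]
  rintro x ⟨e, he, φ, rfl⟩
  rw [SetLike.mem_coe, RingHom.mem_ker]
  apply alg1 e _ φ
  apply hp.symm.out.equiv.injective
  rw [IsBaseChange.equiv_tmul, map_zero, one_smul]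
  exact hI e he

theorem algB {R B C P : Type*} [CommRing R] [CommRing B] [CommRing C] [CommRing P]
    [Algebra R B] [Algebra R C] [Algebra B P] [Algebra C P] [Algebra R P]
    [IsScalarTower R B P] [IsScalarTower R C P] [Module.Finite R B] [Module.Projective R B]
    (I : Ideal B) (h : coeffS R I ≤ RingHom.ker (algebraMap R C)) :
    ∀ e ∈ I, algebraMap B P e = 0 := by
  intro e he
  obtain ⟨k, b, c, hN⟩ := dualBasis R B
  rw [hN e, map_sum]
  apply Finset.sum_eq_zero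
  intro j _
  have h1 : c j e ∈ coeffS R I := Ideal.subset_span ⟨e, he, c j, rfl⟩
  have h2 : algebraMap R C (c j e) = 0 := h h1
  rw [Algebra.smul_def, map_mul, ← IsScalarTower.algebraMap_apply R B P,
    IsScalarTower.algebraMap_apply R C P, h2, map_zero, zero_mul]

theorem coeffS_map {R R' B B' : Type*} [CommRing R] [CommRing R'] [CommRing B] [CommRing B']
    [Algebra R B] [Algebra R R'] [Algebra B B'] [Algebra R' B'] [Algebra R B']
    [IsScalarTower R B B'] [IsScalarTower R R' B'] (r : R) [IsLocalization.Away r R']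
    [IsLocalization.Away (algebraMap R B r) B'] [Module.Finite R B] [Module.Projective R B]
    (I : Ideal B) :
    (coeffS R I).map (algebraMap R R') = coeffS R' (I.map (algebraMap B B')) := by
  haveI : IsLocalization (Submonoid.powers r) R' := ‹IsLocalization.Away r R'›
  haveI hB' : IsLocalization (Algebra.algebraMapSubmonoid B (Submonoid.powers r)) B' := by
    have : Algebra.algebraMapSubmonoid B (Submonoid.powers r) =
        Submonoid.powers (algebraMap R B r) := by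
      rw [Algebra.algebraMapSubmonoid, Submonoid.map_powers]
    rw [this]
    exact ‹IsLocalization.Away (algebraMap R B r) B'›
  let lB : B →ₗ[R] B' := (IsScalarTower.toAlgHom R B B').toLinearMap
  haveI : IsLocalizedModule (Submonoid.powers r) lB :=
    isLocalizedModule_iff_isLocalization.2 hB'
  apply le_antisymm
  · rw [Ideal.map_le_iff_le_comap, coeffS, Ideal.span_le]
    rintro x ⟨e, he, φ, rfl⟩
    rw [SetLike.mem_coe, Ideal.mem_comap]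
    apply Ideal.subset_span
    refine ⟨algebraMap B B' e, Ideal.mem_map_of_mem _ he,
      IsLocalizedModule.mapExtendScalars (Submonoid.powers r) lB
      (Algebra.linearMap R R') R' φ, ?_⟩
    have : algebraMap B B' e = lB e := rfl
    rw [this, IsLocalizedModule.mapExtendScalars_apply_apply, IsLocalizedModule.map_apply]
    rfl
  · rw [coeffS, Ideal.span_le]
    rintro x ⟨n', hn', ψ, rfl⟩
    rw [SetLike.mem_coe]
    obtain ⟨⟨⟨e, he⟩, ⟨s, hs⟩⟩, hes⟩ :=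
      (IsLocalization.mem_map_algebraMap_iff
        (Algebra.algebraMapSubmonoid B (Submonoid.powers r)) B').1 hn'
    obtain ⟨s0, hs0, rfl⟩ := hs
    obtain ⟨k, b, c, hN⟩ := dualBasis R B
    have hu : IsUnit (algebraMap R R' s0) := IsLocalization.map_units R' ⟨s0, hs0⟩
    have h1 : algebraMap R R' s0 * ψ n' = ∑ j, algebraMap R R' (c j e) * ψ (lB (b j)) := by
      have h2 : ψ ((algebraMap R R' s0) • n') = algebraMap R R' s0 * ψ n' := by
        rw [LinearMap.map_smul, smul_eq_mul]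
      have h3 : (algebraMap R R' s0) • n' = lB e := by
        have h4 : n' * algebraMap B B' (algebraMap R B s0) = algebraMap B B' e := hes
        rw [Algebra.smul_def, ← IsScalarTower.algebraMap_apply R R' B',
          IsScalarTower.algebraMap_apply R B B', mul_comm]
        exact h4
      rw [← h2, h3]
      conv_lhs => rw [hN e]
      rw [map_sum, map_sum]
      refine Finset.sum_congr rfl fun j _ => ?_
      rw [LinearMap.map_smul, ← algebraMap_smul R' (c j e) (lB (b j)), LinearMap.map_smul,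
        smul_eq_mul]
    have h3 : ψ n' = ↑hu.unit⁻¹ * (algebraMap R R' s0 * ψ n') := by
      rw [← mul_assoc]
      have : (↑hu.unit⁻¹ : R') * algebraMap R R' s0 = 1 := hu.val_inv_mul
      rw [this, one_mul]
    rw [h3, h1]
    apply Ideal.mul_mem_left
    apply Ideal.sum_mem
    intro j _
    apply Ideal.mul_mem_right
    apply Ideal.mem_map_of_mem
    exact Ideal.subset_span ⟨e, he, c j, rfl⟩

end Alg

section Sch

variable {D S : Scheme.{u}} (p : D ⟶ S) [IsAffineHom p] (E : D.IdealSheafData)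

/-- the affine preimage of an affine open. -/
abbrev preU (U : S.affineOpens) : D.affineOpens := ⟨p ⁻¹ᵁ U.1, U.2.preimage p⟩

/-- sections over preimages of affine opens are finite projective. -/
def FinProj : Prop := ∀ U : S.affineOpens,
  letI := (p.app U.1).hom.toAlgebra
  Module.Finite Γ(S, U.1) Γ(D, p ⁻¹ᵁ U.1) ∧ Module.Projective Γ(S, U.1) Γ(D, p ⁻¹ᵁ U.1)

theorem finProj_of [IsFinite p] [Flat p] [LocallyOfFinitePresentation p] : FinProj p := by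
  intro U
  letI := (p.app U.1).hom.toAlgebra
  have h1 : (p.app U.1).hom.Finite := IsFinite.finite_app p U.1 U.2
  have h2 : (p.appLE U.1 (p ⁻¹ᵁ U.1) le_rfl).hom.Flat :=
    p.flat_appLE U.2 (U.2.preimage p) le_rfl
  have h3 : (p.appLE U.1 (p ⁻¹ᵁ U.1) le_rfl).hom.FinitePresentation :=
    p.finitePresentation_appLE U.2 (U.2.preimage p) le_rfl
  rw [← Scheme.Hom.app_eq_appLE] at h2 h3
  haveI : Module.Finite Γ(S, U.1) Γ(D, p ⁻¹ᵁ U.1) := h1
  haveI : Module.Flat Γ(S, U.1) Γ(D, p ⁻¹ᵁ U.1) := h2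
  haveI : Algebra.FinitePresentation Γ(S, U.1) Γ(D, p ⁻¹ᵁ U.1) := h3
  haveI : Module.FinitePresentation Γ(S, U.1) Γ(D, p ⁻¹ᵁ U.1) :=
    Module.FinitePresentation.of_finite_of_finitePresentation _ _
  exact ⟨inferInstance, Module.Flat.projective_of_finitePresentation⟩

/-- the coefficient ideal on an affine open of `S`. -/
noncomputable def J (U : S.affineOpens) : Ideal Γ(S, U.1) :=
  letI := (p.app U.1).hom.toAlgebra
  coeffS Γ(S, U.1) (E.ideal (preU p U))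

theorem J_map (hfp : FinProj p) (U : S.affineOpens) (r : Γ(S, U.1)) :
    (J p E U).map (S.presheaf.map (homOfLE <| S.basicOpen_le r).op).hom =
      J p E (S.affineBasicOpen r) := by
  letI a1 : Algebra Γ(S, U.1) Γ(D, p ⁻¹ᵁ U.1) := (p.app U.1).hom.toAlgebra
  letI a2 : Algebra Γ(S, S.basicOpen r) Γ(D, p ⁻¹ᵁ S.basicOpen r) :=
    (p.app (S.basicOpen r)).hom.toAlgebra
  letI a3 : Algebra Γ(D, p ⁻¹ᵁ U.1) Γ(D, p ⁻¹ᵁ S.basicOpen r) :=
    (D.presheaf.map (homOfLE (p.preimage_mono (S.basicOpen_le r))).op).hom.toAlgebra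
  letI a4 : Algebra Γ(S, U.1) Γ(D, p ⁻¹ᵁ S.basicOpen r) :=
    (p.appLE _ _ (p.preimage_mono (S.basicOpen_le r))).hom.toAlgebra
  haveI t1 : IsScalarTower Γ(S, U.1) Γ(D, p ⁻¹ᵁ U.1) Γ(D, p ⁻¹ᵁ S.basicOpen r) :=
    .of_algebraMap_eq' rfl
  haveI t2 : IsScalarTower Γ(S, U.1) Γ(S, S.basicOpen r) Γ(D, p ⁻¹ᵁ S.basicOpen r) :=
    .of_algebraMap_eq' <| by
      simp only [RingHom.algebraMap_toAlgebra, ← CommRingCat.hom_comp, Scheme.Hom.app_eq_appLE,
        Scheme.Hom.map_appLE]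
  haveI l1 : IsLocalization.Away r Γ(S, S.basicOpen r) := U.2.isLocalization_basicOpen r
  haveI l2 : IsLocalization.Away ((algebraMap Γ(S, U.1) Γ(D, p ⁻¹ᵁ U.1)) r)
      Γ(D, p ⁻¹ᵁ S.basicOpen r) :=
    (U.2.preimage p).isLocalization_of_eq_basicOpen (p.app U.1 r)
      (homOfLE (p.preimage_mono (S.basicOpen_le r))) (p.preimage_basicOpen r)
  obtain ⟨h1, h2⟩ := hfp U
  haveI := h1
  haveI := h2
  have key := coeffS_map (R := Γ(S, U.1)) (R' := Γ(S, S.basicOpen r)) (B := Γ(D, p ⁻¹ᵁ U.1))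
    (B' := Γ(D, p ⁻¹ᵁ S.basicOpen r)) r (E.ideal (preU p U))
  have hle : preU p (S.affineBasicOpen r) ≤ preU p U := p.preimage_mono (S.basicOpen_le r)
  have h3 : (E.ideal (preU p U)).map (algebraMap Γ(D, p ⁻¹ᵁ U.1) Γ(D, p ⁻¹ᵁ S.basicOpen r)) =
      E.ideal (preU p (S.affineBasicOpen r)) := E.map_ideal hle
  rw [h3] at key
  exact key

/-- the coefficient ideal sheaf. -/
noncomputable def Jsheaf (hfp : FinProj p) : S.IdealSheafData where
  ideal := J p E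
  map_ideal_basicOpen := J_map p E hfp

theorem appLE_congr_hom {X Y : Scheme.{u}} {f f' : X ⟶ Y} (h : f = f') (U : Y.Opens) (V : X.Opens)
    (e : V ≤ f ⁻¹ᵁ U) (e' : V ≤ f' ⁻¹ᵁ U) : f.appLE U V e = f'.appLE U V e' := by
  subst h
  rfl

theorem lemA {Q T : Scheme.{u}} {π : Q ⟶ D} {q : Q ⟶ T} {g : T ⟶ S} (H : IsPullback π q p g)
    (hE : E ≤ π.ker) (U : S.affineOpens) : J p E U ≤ RingHom.ker (g.app U.1).hom := by
  intro x hx
  rw [RingHom.mem_ker]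
  apply Groth.Agent.Lib.Lead.SheafGlue.eq_of_locally_eq_ptsX
  intro t ht
  obtain ⟨_, ⟨W, hW : IsAffineOpen W, rfl⟩, htW, hWU⟩ :=
    (T.isBasis_affineOpens).exists_subset_of_mem_open ht (g ⁻¹ᵁ U.1).2
  refine ⟨W, hWU, htW, ?_⟩
  rw [map_zero]
  change (g.appLE U.1 W hWU).hom x = 0
  have hUSX : p ⁻¹ᵁ U.1 ≤ p ⁻¹ᵁ U.1 := le_rfl
  have hiso := isIso_pushoutSection_of_isAffineOpen H (US := U.1) (UT := W) (UX := p ⁻¹ᵁ U.1)
    (UY := π ⁻¹ᵁ (p ⁻¹ᵁ U.1) ⊓ q ⁻¹ᵁ W) hWU hUSX rfl U.2 hW (U.2.preimage p)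
  have hpo := (isIso_pushoutSection_iff H (US := U.1) (UT := W) (UX := p ⁻¹ᵁ U.1)
    (UY := π ⁻¹ᵁ (p ⁻¹ᵁ U.1) ⊓ q ⁻¹ᵁ W) hWU hUSX rfl).mp hiso
  rw [← Scheme.Hom.app_eq_appLE] at hpo
  letI a1 : Algebra Γ(S, U.1) Γ(D, p ⁻¹ᵁ U.1) := (p.app U.1).hom.toAlgebra
  letI a2 : Algebra Γ(S, U.1) Γ(T, W) := (g.appLE U.1 W hWU).hom.toAlgebra
  letI a3 : Algebra Γ(D, p ⁻¹ᵁ U.1) Γ(Q, π ⁻¹ᵁ (p ⁻¹ᵁ U.1) ⊓ q ⁻¹ᵁ W) :=
    (π.appLE (p ⁻¹ᵁ U.1) (π ⁻¹ᵁ (p ⁻¹ᵁ U.1) ⊓ q ⁻¹ᵁ W) inf_le_left).hom.toAlgebra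
  letI a4 : Algebra Γ(T, W) Γ(Q, π ⁻¹ᵁ (p ⁻¹ᵁ U.1) ⊓ q ⁻¹ᵁ W) :=
    (q.appLE W (π ⁻¹ᵁ (p ⁻¹ᵁ U.1) ⊓ q ⁻¹ᵁ W) inf_le_right).hom.toAlgebra
  letI a5 : Algebra Γ(S, U.1) Γ(Q, π ⁻¹ᵁ (p ⁻¹ᵁ U.1) ⊓ q ⁻¹ᵁ W) :=
    (p.app U.1 ≫ π.appLE (p ⁻¹ᵁ U.1) (π ⁻¹ᵁ (p ⁻¹ᵁ U.1) ⊓ q ⁻¹ᵁ W) inf_le_left).hom.toAlgebra
  haveI t1 : IsScalarTower Γ(S, U.1) Γ(D, p ⁻¹ᵁ U.1) Γ(Q, π ⁻¹ᵁ (p ⁻¹ᵁ U.1) ⊓ q ⁻¹ᵁ W) :=
    .of_algebraMap_eq' rfl
  haveI t2 : IsScalarTower Γ(S, U.1) Γ(T, W) Γ(Q, π ⁻¹ᵁ (p ⁻¹ᵁ U.1) ⊓ q ⁻¹ᵁ W) :=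
    .of_algebraMap_eq' (congr_arg CommRingCat.Hom.hom hpo.w)
  have hp : Algebra.IsPushout Γ(S, U.1) Γ(D, p ⁻¹ᵁ U.1) Γ(T, W)
      Γ(Q, π ⁻¹ᵁ (p ⁻¹ᵁ U.1) ⊓ q ⁻¹ᵁ W) :=
    (CommRingCat.isPushout_iff_isPushout).mp hpo
  have hI : ∀ e ∈ E.ideal (preU p U),
      algebraMap Γ(D, p ⁻¹ᵁ U.1) Γ(Q, π ⁻¹ᵁ (p ⁻¹ᵁ U.1) ⊓ q ⁻¹ᵁ W) e = 0 := by
    intro e he
    have := Groth.Agent.Lib.Helper78.ClosedCond.ideal_le_ker_appLE π hE (preU p U)
      (π ⁻¹ᵁ (p ⁻¹ᵁ U.1) ⊓ q ⁻¹ᵁ W) inf_le_left he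
    exact this
  exact algA hp (E.ideal (preU p U)) hI hx

theorem lemB {Q T : Scheme.{u}} {π : Q ⟶ D} {q : Q ⟶ T} {g : T ⟶ S} (H : IsPullback π q p g)
    (hfp : FinProj p)
    (hJ : ∀ U : S.affineOpens, J p E U ≤ RingHom.ker (g.app U.1).hom) : E ≤ π.ker := by
  refine Groth.Agent.Lib.Helper78.ClosedCond.le_ker_of_cover π E
    (fun U : S.affineOpens => preU p U) ?_
    (κ := fun _ => Unit) (fun U _ => π ⁻¹ᵁ (p ⁻¹ᵁ U.1)) (fun U _ => le_rfl) (fun U => ?_)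
    (fun U _ => ?_)
  · refine eq_top_iff.2 fun x _ => ?_
    obtain ⟨_, ⟨U, hU : IsAffineOpen U, rfl⟩, hxU, -⟩ :=
      (S.isBasis_affineOpens).exists_subset_of_mem_open (Set.mem_univ (p.base x)) isOpen_univ
    exact TopologicalSpace.Opens.mem_iSup.2 ⟨⟨U, hU⟩, hxU⟩
  · exact le_iSup (fun _ : Unit => π ⁻¹ᵁ (p ⁻¹ᵁ U.1)) ()
  · intro e he
    rw [RingHom.mem_ker]
    have hq : π ⁻¹ᵁ (p ⁻¹ᵁ U.1) ≤ q ⁻¹ᵁ (g ⁻¹ᵁ U.1) := by
      intro z hz
      have h1 : (π ≫ p).base z ∈ U.1 := hz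
      rw [H.w] at h1
      exact h1
    letI a1 : Algebra Γ(S, U.1) Γ(D, p ⁻¹ᵁ U.1) := (p.app U.1).hom.toAlgebra
    letI a2 : Algebra Γ(S, U.1) Γ(T, g ⁻¹ᵁ U.1) := (g.app U.1).hom.toAlgebra
    letI a3 : Algebra Γ(D, p ⁻¹ᵁ U.1) Γ(Q, π ⁻¹ᵁ (p ⁻¹ᵁ U.1)) :=
      (π.appLE (p ⁻¹ᵁ U.1) (π ⁻¹ᵁ (p ⁻¹ᵁ U.1)) le_rfl).hom.toAlgebra
    letI a4 : Algebra Γ(T, g ⁻¹ᵁ U.1) Γ(Q, π ⁻¹ᵁ (p ⁻¹ᵁ U.1)) :=
      (q.appLE (g ⁻¹ᵁ U.1) (π ⁻¹ᵁ (p ⁻¹ᵁ U.1)) hq).hom.toAlgebra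
    letI a5 : Algebra Γ(S, U.1) Γ(Q, π ⁻¹ᵁ (p ⁻¹ᵁ U.1)) :=
      (p.app U.1 ≫ π.appLE (p ⁻¹ᵁ U.1) (π ⁻¹ᵁ (p ⁻¹ᵁ U.1)) le_rfl).hom.toAlgebra
    haveI t1 : IsScalarTower Γ(S, U.1) Γ(D, p ⁻¹ᵁ U.1) Γ(Q, π ⁻¹ᵁ (p ⁻¹ᵁ U.1)) :=
      .of_algebraMap_eq' rfl
    have hw : p.app U.1 ≫ π.appLE (p ⁻¹ᵁ U.1) (π ⁻¹ᵁ (p ⁻¹ᵁ U.1)) le_rfl =
        g.app U.1 ≫ q.appLE (g ⁻¹ᵁ U.1) (π ⁻¹ᵁ (p ⁻¹ᵁ U.1)) hq := by
      rw [Scheme.Hom.app_eq_appLE, Scheme.Hom.app_eq_appLE, Scheme.Hom.appLE_comp_appLE,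
        Scheme.Hom.appLE_comp_appLE]
      exact appLE_congr_hom H.w _ _ _ _
    haveI t2 : IsScalarTower Γ(S, U.1) Γ(T, g ⁻¹ᵁ U.1) Γ(Q, π ⁻¹ᵁ (p ⁻¹ᵁ U.1)) :=
      .of_algebraMap_eq' (congr_arg CommRingCat.Hom.hom hw)
    obtain ⟨h1, h2⟩ := hfp U
    haveI := h1
    haveI := h2
    exact algB (R := Γ(S, U.1)) (C := Γ(T, g ⁻¹ᵁ U.1)) (P := Γ(Q, π ⁻¹ᵁ (p ⁻¹ᵁ U.1)))
      (E.ideal (preU p U)) (hJ U) e he

end Sch

theorem comp_app_apply {X Y Z : Scheme.{u}} (f : X ⟶ Y) (g : Y ⟶ Z) (U : Z.Opens) (x : Γ(Z, U)) :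
    ((f ≫ g).app U).hom x = (f.app (g ⁻¹ᵁ U)).hom ((g.app U).hom x) := by
  rw [Scheme.Hom.comp_app]
  rfl

theorem auxMain {X S : Scheme.{u}} (f : X ⟶ S) (𝓘 𝓘' : X.IdealSheafData)
    [IsFinite (𝓘'.subschemeι ≫ f)] [Flat (𝓘'.subschemeι ≫ f)]
    [LocallyOfFinitePresentation (𝓘'.subschemeι ≫ f)] :
    ∃ 𝓩 : S.IdealSheafData, ∀ (T : Scheme.{u}) (g : T ⟶ S),
      (∃ t : T ⟶ 𝓩.subscheme, t ≫ 𝓩.subschemeι = g) ↔
        𝓘.comap (pullback.fst f g) ≤ 𝓘'.comap (pullback.fst f g) := by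
  haveI : IsAffineHom (𝓘'.subschemeι ≫ f) := inferInstance
  have hfp : FinProj (𝓘'.subschemeι ≫ f) := finProj_of _
  refine ⟨Jsheaf (𝓘'.subschemeι ≫ f) (𝓘.comap 𝓘'.subschemeι) hfp, fun T g => ?_⟩
  have H1 : IsPullback (pullback.fst (pullback.fst f g) 𝓘'.subschemeι)
      (pullback.snd (pullback.fst f g) 𝓘'.subschemeι) (pullback.fst f g) 𝓘'.subschemeι :=
    IsPullback.of_hasPullback _ _
  have H2 : IsPullback (pullback.fst f g) (pullback.snd f g) f g := IsPullback.of_hasPullback _ _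
  have H : IsPullback (pullback.snd (pullback.fst f g) 𝓘'.subschemeι)
      (pullback.fst (pullback.fst f g) 𝓘'.subschemeι ≫ pullback.snd f g)
      (𝓘'.subschemeι ≫ f) g := H1.flip.paste_vert H2
  have key : 𝓘.comap (pullback.fst f g) ≤ 𝓘'.comap (pullback.fst f g) ↔
      𝓘.comap 𝓘'.subschemeι ≤ (pullback.snd (pullback.fst f g) 𝓘'.subschemeι).ker := by
    rw [← Scheme.IdealSheafData.le_map_iff_comap_le]
    have h3 : (𝓘'.comap (pullback.fst f g)).map (pullback.fst f g) =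
        ((pullback.snd (pullback.fst f g) 𝓘'.subschemeι).ker).map 𝓘'.subschemeι := by
      rw [Scheme.IdealSheafData.comap, Scheme.IdealSheafData.map_ker,
        Scheme.IdealSheafData.map_ker, pullback.condition]
    rw [h3, Scheme.IdealSheafData.le_map_iff_comap_le]
  rw [key]
  constructor
  · rintro ⟨t, rfl⟩
    apply lemB _ _ H hfp
    intro U x hx
    have h4 : ((Jsheaf (𝓘'.subschemeι ≫ f) (𝓘.comap 𝓘'.subschemeι) hfp).subschemeι.app U.1).hom x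
        = 0 := by
      rw [← RingHom.mem_ker, Scheme.IdealSheafData.ker_subschemeι_app]
      exact hx
    rw [RingHom.mem_ker, comp_app_apply, h4]
    exact map_zero _
  · intro hE
    have hle : (Jsheaf (𝓘'.subschemeι ≫ f) (𝓘.comap 𝓘'.subschemeι) hfp).subschemeι.ker ≤
        g.ker := by
      rw [Scheme.IdealSheafData.ker_subschemeι]
      change _ ≤ Scheme.IdealSheafData.ofIdeals _
      rw [Scheme.IdealSheafData.le_ofIdeals_iff]
      intro U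
      exact lemA _ _ H hE U
    exact ⟨IsClosedImmersion.lift _ g hle, IsClosedImmersion.lift_fac _ _ _⟩

end helpers

/-- Let f : X → S be a morphism of schemes, D ⊆ X an effective Cartier divisor with ideal sheaf 𝓘, and
D' ⊆ X a closed subscheme with ideal sheaf 𝓘' such that D' → S is finite, flat and locally of finite
presentation (finite locally free). Then there is a closed subscheme Z ⊆ S such that a morphism g :
T → S factors through Z exactly when, on X ×_S T, the inverse image ideal of 𝓘 is contained in the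
inverse image ideal of 𝓘', that is, the pull-back of D' is a closed subscheme of the pull-back of D.
This universal property determines Z, and compatibility of Z with base change follows from it. (In
the source X is a family of elliptic curves and D, D' are relative effective Cartier divisors, D'
then being finite locally free over S; the argument uses only the hypotheses stated here.) -/
theorem result
    {X S : Scheme.{u}} (f : X ⟶ S) (𝓘 𝓘' : X.IdealSheafData) (hD : BlowUp.IsEffCartierIdeal 𝓘)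
    [IsFinite (𝓘'.subschemeι ≫ f)] [Flat (𝓘'.subschemeι ≫ f)]
    [LocallyOfFinitePresentation (𝓘'.subschemeι ≫ f)] :
    ∃ 𝓩 : S.IdealSheafData, ∀ (T : Scheme.{u}) (g : T ⟶ S),
      (∃ t : T ⟶ 𝓩.subscheme, t ≫ 𝓩.subschemeι = g) ↔
        𝓘.comap (pullback.fst f g) ≤ 𝓘'.comap (pullback.fst f g) := by
  exact auxMain f 𝓘 𝓘'

end Groth.Agent.S16245
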