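import Groth.Statements.S16259
import Mathlib.Tactic
import Mathlib.Algebra.Polynomial.FieldDivision
import Mathlib.Algebra.Polynomial.Derivative

set_option autoImplicit false
open W4c3wronskmg

namespace Groth.Agent.S16259

open Polynomial

variable {k : Type*} [Field k] [CharZero k]

theorem choose_succ_mul (N s : ℕ) :
    ((N.choose (s + 1) : ℕ) : k) * ((s : k) + 1) = ((N.choose s : ℕ) : k) * ((N : k) - (s : k)) := by
  by_cases h : s ≤ N
  · have := Nat.choose_succ_right_eq N s
    have h2 : ((N.choose (s + 1) * (s + 1) : ℕ) : k) = ((N.choose s * (N - s) : ℕ) : k) := by rw [this]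
    rw [Nat.cast_mul, Nat.cast_mul, Nat.cast_sub h] at h2
    push_cast at h2
    exact h2
  · rw [not_le] at h
    rw [Nat.choose_eq_zero_of_lt h, Nat.choose_eq_zero_of_lt (Nat.lt_succ_of_lt h)]
    simp

noncomputable def hh (k : Type*) [Field k] (i j n : ℕ) : k[X] :=
  ∑ l ∈ Finset.range (n + 1),
    Polynomial.C (((i.choose l) * (j.choose (n - l)) : ℕ) : k) * Polynomial.X ^ (n - l)

def AA (k : Type*) [Field k] (i j n t : ℕ) : k :=
  if t ≤ n then (((i.choose (n - t)) * (j.choose t) : ℕ) : k) else 0

theorem hh_coeff (i j n t : ℕ) : (hh k i j n).coeff t = AA k i j n t := by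
  unfold hh AA
  rw [Polynomial.finset_sum_coeff]
  simp only [Polynomial.coeff_C_mul, Polynomial.coeff_X_pow]
  by_cases ht : t ≤ n
  · rw [if_pos ht, Finset.sum_eq_single (n - t)]
    · rw [if_pos (by omega), mul_one, Nat.sub_sub_self ht]
    · intro l hl hne
      rw [Finset.mem_range] at hl
      rw [if_neg (by omega), mul_zero]
    · intro h
      exfalso
      apply h
      rw [Finset.mem_range]
      omega
  · rw [if_neg ht]
    apply Finset.sum_eq_zero
    intro l hl
    rw [if_neg (by omega), mul_zero]

theorem AA_rec (i j n t : ℕ) :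
    ((t : k) + 1) * ((t : k) + 1 + (i : k) - (n : k)) * AA k i j n (t + 1)
      = ((n : k) - (t : k)) * ((j : k) - (t : k)) * AA k i j n t := by
  unfold AA
  by_cases h1 : t + 1 ≤ n
  · rw [if_pos h1, if_pos (by omega)]
    have e1 := choose_succ_mul (k := k) j t
    have e2 := choose_succ_mul (k := k) i (n - (t + 1))
    have e3 : n - (t + 1) + 1 = n - t := by omega
    rw [e3] at e2
    have e4 : ((n - (t + 1) : ℕ) : k) = (n : k) - ((t : k) + 1) := by
      rw [Nat.cast_sub h1]
      push_cast
      ring
    rw [e4] at e2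
    push_cast
    linear_combination (((t : k) + 1 + (i : k) - (n : k)) * (i.choose (n - (t + 1)) : k)) * e1
      - ((j.choose t : k) * ((j : k) - (t : k))) * e2
  · rw [if_neg h1]
    by_cases h2 : t ≤ n
    · have : t = n := by omega
      subst this
      rw [if_pos le_rfl]
      ring
    · rw [if_neg h2]
      ring

theorem coeff_X_mul_deriv (p : k[X]) (t : ℕ) : (X * derivative p).coeff t = p.coeff t * (t : k) := by
  rcases t with _ | t
  · simp
  · rw [coeff_X_mul, coeff_derivative]
    push_cast
    ring

theorem coeff_X2_mul_deriv2 (p : k[X]) (t : ℕ) :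
    (X ^ 2 * derivative (derivative p)).coeff t = p.coeff t * (t : k) * ((t : k) - 1) := by
  rcases t with _ | t
  · simp
  · rcases t with _ | t
    · rw [show (X : k[X]) ^ 2 = X * X by ring, mul_assoc, coeff_X_mul, coeff_X_mul_zero]
      simp
    · rw [show (X : k[X]) ^ 2 = X * X by ring, mul_assoc, coeff_X_mul, coeff_X_mul, coeff_derivative,
        coeff_derivative]
      push_cast
      ring

theorem ode (i j n : ℕ) :
    (1 - X) * (X ^ 2 * derivative (derivative (hh k i j n)))
      + (C (1 + (i : k) - (n : k)) + C ((n : k) + (j : k) - 1) * X) * (X * derivative (hh k i j n))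
      - C ((n : k) * (j : k)) * (X * hh k i j n) = 0 := by
  have hq2 : ∀ t, (X ^ 2 * derivative (derivative (hh k i j n))).coeff t
      = AA k i j n t * (t : k) * ((t : k) - 1) := fun t => by rw [coeff_X2_mul_deriv2, hh_coeff]
  have hq1 : ∀ t, (X * derivative (hh k i j n)).coeff t = AA k i j n t * (t : k) :=
    fun t => by rw [coeff_X_mul_deriv, hh_coeff]
  have hq0 : ∀ t, (hh k i j n).coeff t = AA k i j n t := fun t => hh_coeff i j n t
  generalize X ^ 2 * derivative (derivative (hh k i j n)) = Q2 at hq2 ⊢
  generalize X * derivative (hh k i j n) = Q1 at hq1 ⊢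
  generalize hh k i j n = Q0 at hq0 ⊢
  ext t
  rw [coeff_zero, coeff_sub, coeff_add]
  have e1 : ∀ q : k[X], ((1 - X) * q) = q - X * q := fun q => by ring
  have e2 : ∀ q : k[X], (C (1 + (i : k) - (n : k)) + C ((n : k) + (j : k) - 1) * X) * q
      = C (1 + (i : k) - (n : k)) * q + C ((n : k) + (j : k) - 1) * (X * q) := fun q => by ring
  rw [e1, e2, coeff_sub, coeff_add, coeff_C_mul, coeff_C_mul, coeff_C_mul]
  rcases t with _ | t
  · rw [coeff_X_mul_zero, coeff_X_mul_zero, coeff_X_mul_zero, hq2, hq1]
    simp
  · rw [coeff_X_mul, coeff_X_mul, coeff_X_mul, hq2, hq2, hq1, hq1, hq0]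
    have := AA_rec (k := k) i j n t
    push_cast
    linear_combination this

theorem mult_le_one (h P2 P1 P0 : k[X]) (c : k)
    (hode : P2 * derivative (derivative h) + P1 * derivative h + P0 * h = 0)
    (hc : P2.eval c ≠ 0) : rootMultiplicity c h ≤ 1 := by
  by_contra hcon
  rw [not_le] at hcon
  have hne : h ≠ 0 := by
    rintro rfl
    rw [rootMultiplicity_zero] at hcon
    omega
  have hr : h.IsRoot c := (rootMultiplicity_pos hne).mp (by omega)
  have m1 := derivative_rootMultiplicity_of_root hr
  have hne' : derivative h ≠ 0 := by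
    intro h0
    rw [h0, rootMultiplicity_zero] at m1
    omega
  have hr' : (derivative h).IsRoot c := (rootMultiplicity_pos hne').mp (by omega)
  have m2 := derivative_rootMultiplicity_of_root hr'
  have d0 : (X - C c) ^ (rootMultiplicity c h - 1) ∣ h := (le_rootMultiplicity_iff hne).mp (by omega)
  have d1 : (X - C c) ^ (rootMultiplicity c h - 1) ∣ derivative h :=
    (le_rootMultiplicity_iff hne').mp (by omega)
  have d2 : (X - C c) ^ (rootMultiplicity c h - 1) ∣ P2 * derivative (derivative h) := by
    have : P2 * derivative (derivative h) = -(P1 * derivative h + P0 * h) := by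
      linear_combination hode
    rw [this]
    exact (dvd_add (Dvd.dvd.mul_left d1 P1) (Dvd.dvd.mul_left d0 P0)).neg_right
  have hcop : IsCoprime ((X - C c) ^ (rootMultiplicity c h - 1)) P2 := by
    apply IsCoprime.pow_left
    rw [(irreducible_X_sub_C c).coprime_iff_not_dvd, dvd_iff_isRoot]
    exact hc
  have d2' : (X - C c) ^ (rootMultiplicity c h - 1) ∣ derivative (derivative h) :=
    hcop.dvd_of_dvd_mul_left d2
  by_cases hne'' : derivative (derivative h) = 0
  · have hnd := Polynomial.derivative_eq_zero.mp hne''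
    rw [natDegree_eq_zero] at hnd
    obtain ⟨a, ha⟩ := hnd
    rw [← ha, IsRoot, eval_C] at hr'
    rw [hr', map_zero] at ha
    exact hne' ha.symm
  · have := (le_rootMultiplicity_iff hne'').mpr d2'
    omega

/-- Over a field of characteristic zero, for positive integers `i, j` and a natural number `n`, the
polynomial `h(W) = ∑_{l=0}^{n} (i choose l) (j choose (n-l)) W^(n-l)`, the coefficient of
`X^(i+j-n)` in `(X+1)^i (X+W)^j`, has no multiple root other than possibly `0` and `1`: every `c ≠
0, 1` has root multiplicity at most one. -/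
theorem result
    (k : Type*) [Field k] [CharZero k] (i j n : ℕ) (hi : 0 < i) (hj : 0 < j) (c : k) (hc0 : c ≠ 0) (hc1 : c ≠ 1) :
    Polynomial.rootMultiplicity c
      (∑ l ∈ Finset.range (n + 1),
        Polynomial.C (((i.choose l) * (j.choose (n - l)) : ℕ) : k) * Polynomial.X ^ (n - l)) ≤ 1 := by
  have hode := ode (k := k) i j n
  apply mult_le_one (hh k i j n) ((1 - X) * X ^ 2)
    ((C (1 + (i : k) - (n : k)) + C ((n : k) + (j : k) - 1) * X) * X) (- (C ((n : k) * (j : k)) * X)) c
  · linear_combination hode
  · simp only [eval_mul, eval_sub, eval_one, eval_X, eval_pow]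
    intro h0
    rcases mul_eq_zero.mp h0 with h1 | h1
    · exact hc1 (by linear_combination -h1)
    · exact hc0 (pow_eq_zero_iff (by norm_num) |>.mp h1)

end Groth.Agent.S16259
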