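import Groth.Statements.S16261
import Mathlib

set_option autoImplicit false
open W4c3wronskmg

set_option linter.unusedSectionVars false

namespace Groth.Agent.S16261Aux
open Polynomial

variable {k : Type*} [Field k] [CharZero k]

/-- the operator `N ↦ X(X-1)N' - (a(X-1)+bX)N` -/
noncomputable def T (a b : ℕ) (N : k[X]) : k[X] :=
  X * (X - 1) * derivative N - (C (a : k) * (X - 1) + C (b : k) * X) * N

theorem T_add (a b : ℕ) (N M : k[X]) : T a b (N + M) = T a b N + T a b M := by
  unfold T; rw [derivative_add]; ring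

theorem T_C_mul (a b : ℕ) (c : k) (N : k[X]) : T a b (C c * N) = C c * T a b N := by
  unfold T; rw [derivative_C_mul]; ring

theorem T_zero (a b : ℕ) : T a b (0 : k[X]) = 0 := by
  unfold T; simp

theorem T_sub (a b : ℕ) (N M : k[X]) : T a b (N - M) = T a b N - T a b M := by
  unfold T; rw [derivative_sub]; ring

noncomputable def Tlin (a b : ℕ) : k[X] →ₗ[k] k[X] where
  toFun := T a b
  map_add' := T_add a b
  map_smul' c N := by
    simp only [smul_eq_C_mul, RingHom.id_apply]
    exact T_C_mul a b c N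

theorem X_mul_derivative_X_pow (s : ℕ) :
    (X : k[X]) * derivative (X ^ s) = C (s : k) * X ^ s := by
  cases s with
  | zero => simp
  | succ s =>
    rw [derivative_X_pow]
    simp only [Nat.add_sub_cancel, Nat.cast_add, Nat.cast_one, map_add, map_natCast, map_one]
    ring

theorem Xs1_mul_derivative_pow (t : ℕ) :
    ((X : k[X]) - 1) * derivative ((X - 1) ^ t) = C (t : k) * (X - 1) ^ t := by
  cases t with
  | zero => simp
  | succ t =>
    rw [derivative_pow]
    simp only [Nat.add_sub_cancel, Nat.cast_add, Nat.cast_one, map_add, map_natCast, map_one,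
      derivative_sub, derivative_X, derivative_one, sub_zero, mul_one]
    ring

theorem T_monomial (a b s t : ℕ) : T a b ((X : k[X]) ^ s * (X - 1) ^ t)
    = X ^ s * (X - 1) ^ t * (C ((s : k) - a) * (X - 1) + C ((t : k) - b) * X) := by
  unfold T
  rw [derivative_mul]
  have h1 := X_mul_derivative_X_pow (k := k) s
  have h2 := Xs1_mul_derivative_pow (k := k) t
  simp only [map_sub]
  linear_combination ((X - 1) * (X - 1) ^ t) * h1 + (X * X ^ s) * h2

theorem T_kernel (a b : ℕ) : T a b ((X : k[X]) ^ a * (X - 1) ^ b) = 0 := by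
  rw [T_monomial]; simp

theorem coeff_X_mul_derivative (Q : k[X]) (n : ℕ) :
    (X * derivative Q).coeff n = (n : k) * Q.coeff n := by
  cases n with
  | zero => simp
  | succ j => rw [coeff_X_mul, coeff_derivative]; push_cast; ring

theorem natDegree_T (a b : ℕ) (N : k[X]) (hN : N ≠ 0) (hD : N.natDegree ≠ a + b) :
    N.natDegree + 1 ≤ (T a b N).natDegree := by
  apply le_natDegree_of_ne_zero
  have e : T a b N = X * (X * derivative N) - X * derivative N - C ((a : k) + b) * (X * N)
      + C (a : k) * N := by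
    unfold T; simp only [map_add]; ring
  have : (T a b N).coeff (N.natDegree + 1) = ((N.natDegree : k) - ((a : k) + b)) * N.leadingCoeff := by
    rw [e]
    have c1 : (X * (X * derivative N)).coeff (N.natDegree + 1)
        = (N.natDegree : k) * N.leadingCoeff := by
      rw [coeff_X_mul, coeff_X_mul_derivative, coeff_natDegree]
    have c2 : (X * derivative N).coeff (N.natDegree + 1) = 0 := by
      rw [coeff_X_mul_derivative, coeff_natDegree_succ_eq_zero, mul_zero]
    have c3 : (X * N).coeff (N.natDegree + 1) = N.leadingCoeff := by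
      rw [coeff_X_mul, coeff_natDegree]
    simp only [coeff_add, coeff_sub, coeff_C_mul, c1, c2, c3, coeff_natDegree_succ_eq_zero]
    ring
  rw [this]
  apply mul_ne_zero
  · intro h
    apply hD
    have : (N.natDegree : k) = ((a + b : ℕ) : k) := by push_cast; linear_combination h
    exact_mod_cast this
  · exact leadingCoeff_ne_zero.mpr hN

/-- Lemma B: at the point `0` -/
theorem lemB (a b s : ℕ) (hs : s ≠ a) (N₁ : k[X]) (h : X ^ (s + 1) ∣ T a b (X ^ s * N₁)) :
    X ∣ N₁ := by
  have hT : T a b (X ^ s * N₁) = X ^ s * ((X - 1) * (C (s : k) * N₁ + X * derivative N₁)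
      - (C (a : k) * (X - 1) + C (b : k) * X) * N₁) := by
    unfold T
    rw [derivative_mul]
    linear_combination ((X - 1) * N₁) * X_mul_derivative_X_pow (k := k) s
  rw [hT, pow_succ, mul_dvd_mul_iff_left (pow_ne_zero s X_ne_zero)] at h
  rw [X_dvd_iff, coeff_zero_eq_eval_zero] at h ⊢
  simp only [eval_sub, eval_mul, eval_add, eval_X, eval_C, eval_one, zero_mul, mul_zero, add_zero,
    zero_sub] at h
  have h2 : ((a : k) - s) * eval 0 N₁ = 0 := by linear_combination h
  rcases mul_eq_zero.mp h2 with h' | h'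
  · exfalso; apply hs
    have : (a : k) = (s : k) := sub_eq_zero.mp h'
    exact_mod_cast this.symm
  · exact h'

/-- Lemma C: at the point `1` -/
theorem lemC (a b s : ℕ) (hs : s ≠ b) (N₁ : k[X])
    (h : (X - 1) ^ (s + 1) ∣ T a b ((X - 1) ^ s * N₁)) : (X - 1) ∣ N₁ := by
  have hT : T a b ((X - 1) ^ s * N₁) = (X - 1) ^ s * (X * (C (s : k) * N₁ + (X - 1) * derivative N₁)
      - (C (a : k) * (X - 1) + C (b : k) * X) * N₁) := by
    unfold T
    rw [derivative_mul]
    linear_combination (X * N₁) * Xs1_mul_derivative_pow (k := k) s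
  have hne : ((X : k[X]) - 1) ≠ 0 := by
    rw [← C_1]; exact X_sub_C_ne_zero 1
  rw [hT, pow_succ, mul_dvd_mul_iff_left (pow_ne_zero s hne)] at h
  rw [← C_1, dvd_iff_isRoot, IsRoot.def] at h ⊢
  simp only [eval_sub, eval_mul, eval_add, eval_X, eval_C, eval_one, sub_self, zero_mul, mul_zero,
    add_zero, one_mul, mul_one, C_1] at h
  have h2 : ((s : k) - b) * eval 1 N₁ = 0 := by linear_combination h
  rcases mul_eq_zero.mp h2 with h' | h'
  · exfalso; apply hs
    have : (s : k) = (b : k) := sub_eq_zero.mp h'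
    exact_mod_cast this
  · exact h'

/-- Lemma A: at a point different from `0`, `1` -/
theorem lemA (a b t : ℕ) (ρ : k) (h0 : ρ ≠ 0) (h1 : ρ ≠ 1) (N₁ : k[X])
    (h : (X - C ρ) ^ (t + 1) ∣ T a b ((X - C ρ) ^ (t + 1) * N₁)) : (X - C ρ) ∣ N₁ := by
  have hd : derivative ((X - C ρ) ^ (t + 1)) = C ((t : k) + 1) * (X - C ρ) ^ t := by
    rw [derivative_pow]
    simp only [Nat.add_sub_cancel, Nat.cast_add, Nat.cast_one, map_add, map_natCast, map_one,
      derivative_sub, derivative_X, derivative_C, sub_zero, mul_one]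
  have hT : T a b ((X - C ρ) ^ (t + 1) * N₁) = (X - C ρ) ^ t * (X * (X - 1) *
      (C ((t : k) + 1) * N₁ + (X - C ρ) * derivative N₁)
      - (C (a : k) * (X - 1) + C (b : k) * X) * ((X - C ρ) * N₁)) := by
    unfold T
    rw [derivative_mul, hd]
    ring
  rw [hT, pow_succ, mul_dvd_mul_iff_left (pow_ne_zero t (X_sub_C_ne_zero ρ))] at h
  rw [dvd_iff_isRoot, IsRoot.def] at h ⊢
  simp only [eval_sub, eval_mul, eval_add, eval_X, eval_C, eval_one, sub_self, zero_mul, mul_zero,
    add_zero, sub_zero] at h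
  have ht : ((t : k) + 1) ≠ 0 := by exact_mod_cast Nat.succ_ne_zero t
  have h1' : ρ - 1 ≠ 0 := sub_ne_zero.mpr h1
  rcases mul_eq_zero.mp h with h' | h'
  · exfalso
    rcases mul_eq_zero.mp h' with h'' | h''
    · exact h0 h''
    · exact h1' h''
  · rcases mul_eq_zero.mp h' with h'' | h''
    · exact absurd h'' ht
    · exact h''

theorem iterB (a b : ℕ) (N : k[X]) (m : ℕ) (hT : X ^ m ∣ T a b N)
    (hm : m ≤ a ∨ X ^ (a + 1) ∣ N) : X ^ m ∣ N := by
  induction m with
  | zero => simp
  | succ m ih =>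
    have ih' := ih ((pow_dvd_pow X (Nat.le_succ m)).trans hT)
      (by rcases hm with h | h
          · left; omega
          · right; exact h)
    by_cases hma : m = a
    · rcases hm with h | h
      · omega
      · rw [hma]; exact h
    · obtain ⟨N₁, rfl⟩ := ih'
      have := lemB a b m hma N₁ hT
      rw [pow_succ]
      exact mul_dvd_mul_left _ this

theorem iterC (a b : ℕ) (N : k[X]) (m : ℕ) (hT : (X - 1) ^ m ∣ T a b N)
    (hm : m ≤ b ∨ (X - 1) ^ (b + 1) ∣ N) : (X - 1) ^ m ∣ N := by
  induction m with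
  | zero => simp
  | succ m ih =>
    have ih' := ih ((pow_dvd_pow _ (Nat.le_succ m)).trans hT)
      (by rcases hm with h | h
          · left; omega
          · right; exact h)
    by_cases hmb : m = b
    · rcases hm with h | h
      · omega
      · rw [hmb]; exact h
    · obtain ⟨N₁, rfl⟩ := ih'
      have := lemC a b m hmb N₁ hT
      rw [pow_succ]
      exact mul_dvd_mul_left _ this

theorem iterA (a b : ℕ) (ρ : k) (h0 : ρ ≠ 0) (h1 : ρ ≠ 1) (N : k[X]) (hroot : (X - C ρ) ∣ N)
    (m : ℕ) (hT : (X - C ρ) ^ m ∣ T a b N) : (X - C ρ) ^ (m + 1) ∣ N := by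
  induction m with
  | zero => simpa using hroot
  | succ m ih =>
    have ih' := ih ((pow_dvd_pow _ (Nat.le_succ m)).trans hT)
    obtain ⟨N₁, rfl⟩ := ih'
    have := lemA a b m ρ h0 h1 N₁ hT
    rw [pow_succ (X - C ρ) (m + 1)]
    exact mul_dvd_mul_left _ this

/-- pieces of `V` lie in the range of `T` -/
theorem piece1 (a b : ℕ) (M : k[X]) (hM : M.natDegree < b) :
    X ^ (a + 1) * M ∈ LinearMap.range (Tlin (k := k) a b) := by
  have hsum := sum_taylor_eq M (1 : k)
  rw [Polynomial.sum_def] at hsum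
  rw [← hsum, Finset.mul_sum]
  apply Submodule.sum_mem
  intro n hn
  have hn' : n < b := by
    have := le_natDegree_of_mem_supp n hn
    rw [natDegree_taylor] at this
    omega
  have hnb : ((n : k) - b) ≠ 0 := by
    intro h
    have : (n : k) = (b : k) := sub_eq_zero.mp h
    have : n = b := by exact_mod_cast this
    omega
  refine ⟨C (((taylor 1 M).coeff n) * ((n : k) - b)⁻¹) * (X ^ a * (X - 1) ^ n), ?_⟩
  show T a b _ = _
  rw [T_C_mul, T_monomial, C_1]
  simp only [sub_self, map_zero, zero_mul, zero_add]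
  rw [pow_succ]
  have : C ((taylor 1 M).coeff n * ((n : k) - b)⁻¹) * (C ((n : k) - b))
      = C ((taylor 1 M).coeff n) := by
    rw [← C_mul, mul_assoc, inv_mul_cancel₀ hnb, mul_one]
  linear_combination (X ^ a * (X - 1) ^ n * X) * this

theorem piece2 (a b : ℕ) (M : k[X]) (hM : M.natDegree < a) :
    (X - 1) ^ (b + 1) * M ∈ LinearMap.range (Tlin (k := k) a b) := by
  have hsum := (M.as_sum_support_C_mul_X_pow).symm
  rw [← hsum, Finset.mul_sum]
  apply Submodule.sum_mem
  intro n hn
  have hn' : n < a := by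
    have := le_natDegree_of_mem_supp n hn
    omega
  have hna : ((n : k) - a) ≠ 0 := by
    intro h
    have : (n : k) = (a : k) := sub_eq_zero.mp h
    have : n = a := by exact_mod_cast this
    omega
  refine ⟨C ((M.coeff n) * ((n : k) - a)⁻¹) * (X ^ n * (X - 1) ^ b), ?_⟩
  show T a b _ = _
  rw [T_C_mul, T_monomial]
  simp only [sub_self, map_zero, zero_mul, add_zero]
  rw [pow_succ]
  have : C (M.coeff n * ((n : k) - a)⁻¹) * (C ((n : k) - a)) = C (M.coeff n) := by
    rw [← C_mul, mul_assoc, inv_mul_cancel₀ hna, mul_one]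
  linear_combination (X ^ n * (X - 1) ^ b * (X - 1)) * this

theorem piece3 (a b : ℕ) :
    (X : k[X]) ^ (a + 1) * (X - 1) ^ (b + 1) ∈ LinearMap.range (Tlin (k := k) a b) := by
  refine ⟨X ^ (a + 1) * (X - 1) ^ b, ?_⟩
  show T a b _ = _
  rw [T_monomial]
  simp only [Nat.cast_add, Nat.cast_one, add_sub_cancel_left, sub_self, map_zero, zero_mul, add_zero,
    map_one, one_mul]
  ring


theorem final (a b : ℕ) (N G : k[X]) (hT : T a b N = G) (hG : G ≠ 0)
    (hdeg : G.natDegree ≤ a + b + 2) (D : k[X]) (hD : D ∣ N) (hDdeg : a + b + 2 ≤ D.natDegree) :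
    False := by
  have hN : N ≠ 0 := by
    intro h; apply hG; rw [← hT, h, T_zero]
  have h1 : D.natDegree ≤ N.natDegree := natDegree_le_of_dvd hD hN
  have h2 := natDegree_T a b N hN (by omega)
  rw [hT] at h2
  omega

theorem natDegree_prod (i m : ℕ) (q : k) :
    ((X : k[X]) ^ i * (X - C q) ^ m).natDegree = i + m := by
  rw [natDegree_mul (pow_ne_zero _ X_ne_zero) (pow_ne_zero _ (X_sub_C_ne_zero q)), natDegree_X_pow,
    natDegree_pow, natDegree_X_sub_C, mul_one]

theorem V_le_range (a b : ℕ) (_hb : 0 < b) (_ha : 0 < a) :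
    ((Ideal.span {(X : Polynomial k) ^ (a + 1)}).restrictScalars k ⊓ Polynomial.degreeLE k ↑(a + b)) ⊔
      ((Ideal.span {((X : Polynomial k) - 1) ^ (b + 1)}).restrictScalars k ⊓ Polynomial.degreeLE k ↑(a + b)) ⊔
      Submodule.span k {(X : Polynomial k) ^ (a + 1) * (X - 1) ^ (b + 1)}
    ≤ LinearMap.range (Tlin (k := k) a b) := by
  refine sup_le (sup_le ?_ ?_) ?_
  · intro G hG
    obtain ⟨h1, h2⟩ := Submodule.mem_inf.mp hG
    rw [Submodule.restrictScalars_mem, Ideal.mem_span_singleton] at h1
    obtain ⟨M, rfl⟩ := h1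
    by_cases hM : M = 0
    · rw [hM, mul_zero]; exact zero_mem _
    · apply piece1
      rw [mem_degreeLE] at h2
      have := natDegree_le_of_degree_le h2
      rw [natDegree_mul (pow_ne_zero _ X_ne_zero) hM, natDegree_X_pow] at this
      omega
  · intro G hG
    obtain ⟨h1, h2⟩ := Submodule.mem_inf.mp hG
    rw [Submodule.restrictScalars_mem, Ideal.mem_span_singleton] at h1
    obtain ⟨M, rfl⟩ := h1
    by_cases hM : M = 0
    · rw [hM, mul_zero]; exact zero_mem _
    · apply piece2
      rw [mem_degreeLE] at h2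
      have := natDegree_le_of_degree_le h2
      have hne : ((X : k[X]) - 1) ≠ 0 := by
        rw [← C_1]; exact X_sub_C_ne_zero 1
      have hd : ((X : k[X]) - 1).natDegree = 1 := by
        rw [← C_1]; exact natDegree_X_sub_C 1
      rw [natDegree_mul (pow_ne_zero _ hne) hM, natDegree_pow, hd] at this
      omega
  · rw [Submodule.span_le, Set.singleton_subset_iff]
    exact piece3 a b

theorem V_le_deg (a b : ℕ) :
    ((Ideal.span {(X : Polynomial k) ^ (a + 1)}).restrictScalars k ⊓ Polynomial.degreeLE k ↑(a + b)) ⊔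
      ((Ideal.span {((X : Polynomial k) - 1) ^ (b + 1)}).restrictScalars k ⊓ Polynomial.degreeLE k ↑(a + b)) ⊔
      Submodule.span k {(X : Polynomial k) ^ (a + 1) * (X - 1) ^ (b + 1)}
    ≤ Polynomial.degreeLE k ↑(a + b + 2) := by
  have hmono : Polynomial.degreeLE k (↑(a + b) : WithBot ℕ) ≤ Polynomial.degreeLE k ↑(a + b + 2) :=
    degreeLE_mono (by exact_mod_cast (by omega : a + b ≤ a + b + 2))
  refine sup_le (sup_le (inf_le_right.trans hmono) (inf_le_right.trans hmono)) ?_
  rw [Submodule.span_le, Set.singleton_subset_iff, SetLike.mem_coe, mem_degreeLE]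
  have := natDegree_prod (k := k) (a + 1) (b + 1) 1
  rw [C_1] at this
  rw [← natDegree_le_iff_degree_le, this]
  omega

end Groth.Agent.S16261Aux

namespace Groth.Agent.S16261

open Polynomial in
/-- With `k` of characteristic zero, `a, b, i` positive, `i ≤ a + b`, `j = a + b + 2 - i` and `V ⊆ k[X]`
the linear system of the first assertion (marked points `A = 0`, `B = 1`, `C = ∞`; `V` spanned by
the multiples of `X^(a+1)` of degree at most `a+b`, the multiples of `(X-1)^(b+1)` of degree at most
`a+b`, and `X^(a+1) (X-1)^(b+1)`): if the point `P` is put at `A` and `Q = q` is any point other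
than `C`, and both `dim V(-iA-jQ) ≥ 1` and `dim V(-(i-1)A-(j-1)Q) ≥ 2` hold, then `i ≥ a + 1`. (The
published statement is over the complex numbers.) -/
theorem result
    (k : Type*) [Field k] [CharZero k] (a b i j : ℕ) (ha : 0 < a) (hb : 0 < b) (hi : 0 < i) (hiab : i ≤ a + b)
    (hj : i + j = a + b + 2)
    (V : Submodule k (Polynomial k))
    (hV : V = ((Ideal.span {(X : Polynomial k) ^ (a + 1)}).restrictScalars k ⊓ Polynomial.degreeLE k ↑(a + b)) ⊔
      ((Ideal.span {((X : Polynomial k) - 1) ^ (b + 1)}).restrictScalars k ⊓ Polynomial.degreeLE k ↑(a + b)) ⊔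
      Submodule.span k {(X : Polynomial k) ^ (a + 1) * (X - 1) ^ (b + 1)})
    (q : k)
    (h1 : 1 ≤ Module.finrank k ↥(V ⊓ (Ideal.span {(X : Polynomial k) ^ i * (X - C q) ^ j}).restrictScalars k))
    (h2 : 2 ≤ Module.finrank k ↥(V ⊓ (Ideal.span {(X : Polynomial k) ^ (i - 1) * (X - C q) ^ (j - 1)}).restrictScalars k)) :
    a + 1 ≤ i := by
  classical
  by_contra hcon
  have hia : i ≤ a := by omega
  have hpos : 0 < Module.finrank k ↥(V ⊓ (Ideal.span {(X : Polynomial k) ^ i * (X - C q) ^ j}).restrictScalars k) := h1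
  have := Module.nontrivial_of_finrank_pos hpos
  obtain ⟨⟨G, hG⟩, hGne⟩ := exists_ne (0 : ↥(V ⊓ (Ideal.span {(X : Polynomial k) ^ i * (X - C q) ^ j}).restrictScalars k))
  have hGne' : G ≠ 0 := fun h => hGne (Subtype.ext h)
  obtain ⟨hGV, hGI⟩ := Submodule.mem_inf.mp hG
  have hdiv : (X : Polynomial k) ^ i * (X - C q) ^ j ∣ G := by
    rw [Submodule.restrictScalars_mem, Ideal.mem_span_singleton] at hGI; exact hGI
  have hXi : (X : Polynomial k) ^ i ∣ G := (Dvd.intro _ rfl).trans hdiv
  have hXq : ((X : Polynomial k) - C q) ^ j ∣ G := (Dvd.intro_left _ rfl).trans hdiv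
  rw [hV] at hGV
  obtain ⟨H, hH⟩ := Groth.Agent.S16261Aux.V_le_range a b hb ha hGV
  change Groth.Agent.S16261Aux.T a b H = G at hH
  have hGdeg : G.natDegree ≤ a + b + 2 := by
    have := Groth.Agent.S16261Aux.V_le_deg a b hGV
    rw [Polynomial.mem_degreeLE] at this
    exact Polynomial.natDegree_le_of_degree_le this
  by_cases hq0 : q = 0
  · subst hq0
    rw [map_zero, sub_zero, ← pow_add, hj] at hdiv
    -- X^a ∣ H
    have h1 : (X : Polynomial k) ^ a ∣ H :=
      Groth.Agent.S16261Aux.iterB a b H a (by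
        rw [hH]; exact (pow_dvd_pow X (by omega)).trans hdiv) (Or.inl le_rfl)
    obtain ⟨H₁, rfl⟩ := h1
    set γ : k := Polynomial.eval 0 H₁ / (-1) ^ b with hγ
    set N : Polynomial k := X ^ a * H₁ - C γ * (X ^ a * (X - 1) ^ b) with hN
    have hTN : Groth.Agent.S16261Aux.T a b N = G := by
      rw [hN, Groth.Agent.S16261Aux.T_sub, Groth.Agent.S16261Aux.T_C_mul,
        Groth.Agent.S16261Aux.T_kernel, mul_zero, sub_zero, hH]
    have h2 : (X : Polynomial k) ^ (a + 1) ∣ N := by
      have : N = X ^ a * (H₁ - C γ * (X - 1) ^ b) := by rw [hN]; ring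
      rw [this, pow_succ]
      apply mul_dvd_mul_left
      rw [Polynomial.X_dvd_iff, Polynomial.coeff_zero_eq_eval_zero]
      simp only [Polynomial.eval_sub, Polynomial.eval_mul, Polynomial.eval_C, Polynomial.eval_pow,
        Polynomial.eval_X, Polynomial.eval_one, zero_sub]
      rw [hγ, div_mul_cancel₀ _ (pow_ne_zero b (by norm_num : (-1 : k) ≠ 0)), sub_self]
    have h3 : (X : Polynomial k) ^ (a + b + 2) ∣ N :=
      Groth.Agent.S16261Aux.iterB a b N (a + b + 2) (by rw [hTN]; exact hdiv) (Or.inr h2)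
    exact Groth.Agent.S16261Aux.final a b N G hTN hGne' hGdeg _ h3 (by rw [Polynomial.natDegree_X_pow])
  · by_cases hq1 : q = 1
    · subst hq1
      rw [Polynomial.C_1] at hXq hdiv
      have hbj : b ≤ j := by omega
      have h1 : ((X : Polynomial k) - 1) ^ b ∣ H :=
        Groth.Agent.S16261Aux.iterC a b H b (by
          rw [hH]; exact (pow_dvd_pow _ hbj).trans hXq) (Or.inl le_rfl)
      obtain ⟨H₁, rfl⟩ := h1
      set γ : k := Polynomial.eval 1 H₁ with hγ
      set N : Polynomial k := (X - 1) ^ b * H₁ - C γ * (X ^ a * (X - 1) ^ b) with hN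
      have hTN : Groth.Agent.S16261Aux.T a b N = G := by
        rw [hN, Groth.Agent.S16261Aux.T_sub, Groth.Agent.S16261Aux.T_C_mul,
          Groth.Agent.S16261Aux.T_kernel, mul_zero, sub_zero, hH]
      have h2 : ((X : Polynomial k) - 1) ^ (b + 1) ∣ N := by
        have : N = (X - 1) ^ b * (H₁ - C γ * X ^ a) := by rw [hN]; ring
        rw [this, pow_succ]
        apply mul_dvd_mul_left
        rw [← Polynomial.C_1, Polynomial.dvd_iff_isRoot, Polynomial.IsRoot.def]
        simp only [Polynomial.eval_sub, Polynomial.eval_mul, Polynomial.eval_C, Polynomial.eval_pow,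
          Polynomial.eval_X, one_pow, mul_one]
        rw [hγ, sub_self]
      have h3 : ((X : Polynomial k) - 1) ^ j ∣ N :=
        Groth.Agent.S16261Aux.iterC a b N j (by rw [hTN]; exact hXq) (Or.inr h2)
      have h4 : (X : Polynomial k) ^ i ∣ N :=
        Groth.Agent.S16261Aux.iterB a b N i (by rw [hTN]; exact hXi) (Or.inl hia)
      have hcop : IsCoprime ((X : Polynomial k) ^ i) ((X - 1) ^ j) := by
        apply IsCoprime.pow
        exact ⟨1, -1, by ring⟩
      have h5 := hcop.mul_dvd h4 h3
      refine Groth.Agent.S16261Aux.final a b N G hTN hGne' hGdeg _ h5 ?_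
      have := Groth.Agent.S16261Aux.natDegree_prod (k := k) i j 1
      rw [Polynomial.C_1] at this
      rw [this]; omega
    · have hden : q ^ a * (q - 1) ^ b ≠ 0 :=
        mul_ne_zero (pow_ne_zero _ hq0) (pow_ne_zero _ (sub_ne_zero.mpr hq1))
      set γ : k := Polynomial.eval q H / (q ^ a * (q - 1) ^ b) with hγ
      set N : Polynomial k := H - C γ * (X ^ a * (X - 1) ^ b) with hN
      have hTN : Groth.Agent.S16261Aux.T a b N = G := by
        rw [hN, Groth.Agent.S16261Aux.T_sub, Groth.Agent.S16261Aux.T_C_mul,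
          Groth.Agent.S16261Aux.T_kernel, mul_zero, sub_zero, hH]
      have h2 : ((X : Polynomial k) - C q) ∣ N := by
        rw [Polynomial.dvd_iff_isRoot, Polynomial.IsRoot.def, hN]
        simp only [Polynomial.eval_sub, Polynomial.eval_mul, Polynomial.eval_C, Polynomial.eval_pow,
          Polynomial.eval_X, Polynomial.eval_one]
        rw [hγ, div_mul_cancel₀ _ hden, sub_self]
      have h3 : ((X : Polynomial k) - C q) ^ (j + 1) ∣ N :=
        Groth.Agent.S16261Aux.iterA a b q hq0 hq1 N h2 j (by rw [hTN]; exact hXq)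
      have h4 : (X : Polynomial k) ^ i ∣ N :=
        Groth.Agent.S16261Aux.iterB a b N i (by rw [hTN]; exact hXi) (Or.inl hia)
      have hcop : IsCoprime ((X : Polynomial k) ^ i) ((X - C q) ^ (j + 1)) := by
        apply IsCoprime.pow
        refine ⟨C q⁻¹, -C q⁻¹, ?_⟩
        have : (C q⁻¹ : Polynomial k) * C q = 1 := by
          rw [← Polynomial.C_mul, inv_mul_cancel₀ hq0, Polynomial.C_1]
        linear_combination this
      have h5 := hcop.mul_dvd h4 h3
      refine Groth.Agent.S16261Aux.final a b N G hTN hGne' hGdeg _ h5 ?_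
      rw [Groth.Agent.S16261Aux.natDegree_prod]; omega

end Groth.Agent.S16261
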