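import Groth.Statements.S16260
import Mathlib
import Groth.Agent.S16261

set_option autoImplicit false
open W4c3wronskmg

set_option linter.unusedSectionVars false

namespace Groth.Agent.S16260Aux
open Polynomial Groth.Agent.S16261Aux

variable {k : Type*} [Field k] [CharZero k]

/-- the combination map -/
noncomputable def comb (B N₀ N₁ : k[X]) : (Fin 3 → k) →ₗ[k] k[X] :=
  Fintype.linearCombination k ![B, N₀, N₁]

theorem comb_apply (B N₀ N₁ : k[X]) (x : Fin 3 → k) :
    comb B N₀ N₁ x = C (x 0) * B + C (x 1) * N₀ + C (x 2) * N₁ := by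
  simp [comb, Fintype.linearCombination_apply, Fin.sum_univ_three, smul_eq_C_mul]

theorem exists_ker (f : (Fin 3 → k) →ₗ[k] (k × k)) : ∃ x : Fin 3 → k, x ≠ 0 ∧ f x = 0 := by
  have h : Module.finrank k (k × k) < Module.finrank k (Fin 3 → k) := by
    simp
  have := LinearMap.ker_ne_bot_of_finrank_lt (f := f) h
  obtain ⟨x, hx, hx0⟩ := (Submodule.ne_bot_iff _).mp this
  exact ⟨x, hx0, hx⟩

theorem T_comb (a b : ℕ) (N₀ N₁ : k[X]) (x : Fin 3 → k) :
    T a b (comb ((X : k[X]) ^ a * (X - 1) ^ b) N₀ N₁ x)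
      = C (x 1) * T a b N₀ + C (x 2) * T a b N₁ := by
  rw [comb_apply, T_add, T_add, T_C_mul, T_C_mul, T_C_mul, T_kernel, mul_zero, zero_add]

theorem natDegree_prod2 (i j : ℕ) (p q : k) :
    (((X : k[X]) - C p) ^ i * (X - C q) ^ j).natDegree = i + j := by
  rw [natDegree_mul (pow_ne_zero _ (X_sub_C_ne_zero p)) (pow_ne_zero _ (X_sub_C_ne_zero q)),
    natDegree_pow, natDegree_pow, natDegree_X_sub_C, natDegree_X_sub_C, mul_one, mul_one]

/-- the core statement: two members of the range of `T` of degree at most `a+b+2`, both divisible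
by `(X-p)^(i-1) (X-q)^(j-1)`, are linearly dependent. -/
theorem core (a b i j : ℕ) (hi : 0 < i) (hj1 : 0 < j) (hj : i + j = a + b + 2)
    (p q : k) (hp0 : p ≠ 0) (hp1 : p ≠ 1) (hq0 : q ≠ 0) (hq1 : q ≠ 1)
    (N₀ N₁ : k[X])
    (hdeg : ∀ s t : k, (C s * T a b N₀ + C t * T a b N₁).natDegree ≤ a + b + 2)
    (hd0 : (X - C p) ^ (i - 1) * (X - C q) ^ (j - 1) ∣ T a b N₀)
    (hd1 : (X - C p) ^ (i - 1) * (X - C q) ^ (j - 1) ∣ T a b N₁) :
    ∃ s t : k, (s ≠ 0 ∨ t ≠ 0) ∧ C s * T a b N₀ + C t * T a b N₁ = 0 := by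
  by_contra hcon
  push Not at hcon
  set B : k[X] := X ^ a * (X - 1) ^ b with hB
  have hBp : eval p B ≠ 0 := by
    rw [hB]; simp only [eval_mul, eval_pow, eval_X, eval_sub, eval_one]
    exact mul_ne_zero (pow_ne_zero _ hp0) (pow_ne_zero _ (sub_ne_zero.mpr hp1))
  by_cases hpq : p = q
  · subst hpq
    obtain ⟨x, hx0, hx⟩ := exists_ker (((leval p).prod (lcoeff k (a + b + 1))).comp (comb B N₀ N₁))
    have hx1 : eval p (comb B N₀ N₁ x) = 0 := by
      have := congrArg Prod.fst hx
      simpa [leval_apply] using this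
    have hx2 : (comb B N₀ N₁ x).coeff (a + b + 1) = 0 := by
      have := congrArg Prod.snd hx
      simpa [lcoeff_apply] using this
    set N := comb B N₀ N₁ x with hN
    have hTN : T a b N = C (x 1) * T a b N₀ + C (x 2) * T a b N₁ := T_comb a b N₀ N₁ x
    by_cases hG : C (x 1) * T a b N₀ + C (x 2) * T a b N₁ = 0
    · have h12 : x 1 = 0 ∧ x 2 = 0 := by
        by_contra h
        exact hcon (x 1) (x 2) (by tauto) hG
      have hx00 : x 0 ≠ 0 := by
        intro h
        apply hx0
        funext l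
        fin_cases l
        · exact h
        · exact h12.1
        · exact h12.2
      rw [hN, comb_apply, h12.1, h12.2] at hx1
      simp only [map_zero, zero_mul, add_zero, eval_mul, eval_C] at hx1
      rcases mul_eq_zero.mp hx1 with h | h
      · exact hx00 h
      · exact hBp h
    · have hNne : N ≠ 0 := by
        intro h; apply hG; rw [← hTN, h, T_zero]
      have hdvd : (X - C p) ^ (a + b) ∣ T a b N := by
        rw [hTN]
        have e : (X - C p) ^ (a + b) = (X - C p) ^ (i - 1) * (X - C p) ^ (j - 1) := by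
          rw [← pow_add]; congr 1; omega
        rw [e]
        exact dvd_add (Dvd.dvd.mul_left hd0 _) (Dvd.dvd.mul_left hd1 _)
      have hroot : (X - C p) ∣ N := by
        rw [dvd_iff_isRoot]; exact hx1
      have h3 := iterA a b p hp0 hp1 N hroot (a + b) hdvd
      have h4 : a + b + 1 ≤ N.natDegree := by
        have := natDegree_le_of_dvd h3 hNne
        rwa [natDegree_pow, natDegree_X_sub_C, mul_one] at this
      have h5 : N.natDegree ≠ a + b + 1 := by
        intro h
        have := leadingCoeff_ne_zero.mpr hNne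
        rw [leadingCoeff, h] at this
        exact this hx2
      have h6 := natDegree_T a b N hNne (by omega)
      have h7 := hdeg (x 1) (x 2)
      rw [← hTN] at h7
      omega
  · obtain ⟨x, hx0, hx⟩ := exists_ker (((leval p).prod (leval q)).comp (comb B N₀ N₁))
    have hx1 : eval p (comb B N₀ N₁ x) = 0 := by
      have := congrArg Prod.fst hx
      simpa [leval_apply] using this
    have hx2 : eval q (comb B N₀ N₁ x) = 0 := by
      have := congrArg Prod.snd hx
      simpa [leval_apply] using this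
    set N := comb B N₀ N₁ x with hN
    have hTN : T a b N = C (x 1) * T a b N₀ + C (x 2) * T a b N₁ := T_comb a b N₀ N₁ x
    by_cases hG : C (x 1) * T a b N₀ + C (x 2) * T a b N₁ = 0
    · have h12 : x 1 = 0 ∧ x 2 = 0 := by
        by_contra h
        exact hcon (x 1) (x 2) (by tauto) hG
      have hx00 : x 0 ≠ 0 := by
        intro h
        apply hx0
        funext l
        fin_cases l
        · exact h
        · exact h12.1
        · exact h12.2
      rw [hN, comb_apply, h12.1, h12.2] at hx1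
      simp only [map_zero, zero_mul, add_zero, eval_mul, eval_C] at hx1
      rcases mul_eq_zero.mp hx1 with h | h
      · exact hx00 h
      · exact hBp h
    · have hdvd : (X - C p) ^ (i - 1) * (X - C q) ^ (j - 1) ∣ T a b N := by
        rw [hTN]
        exact dvd_add (Dvd.dvd.mul_left hd0 _) (Dvd.dvd.mul_left hd1 _)
      have hrootp : (X - C p) ∣ N := by
        rw [dvd_iff_isRoot]; exact hx1
      have hrootq : (X - C q) ∣ N := by
        rw [dvd_iff_isRoot]; exact hx2
      have h3 := iterA a b p hp0 hp1 N hrootp (i - 1) ((Dvd.intro _ rfl).trans hdvd)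
      have h4 := iterA a b q hq0 hq1 N hrootq (j - 1) ((Dvd.intro_left _ rfl).trans hdvd)
      rw [show i - 1 + 1 = i by omega] at h3
      rw [show j - 1 + 1 = j by omega] at h4
      have hcop : IsCoprime ((X - C p) ^ i) ((X - C q) ^ j) := by
        apply IsCoprime.pow
        apply isCoprime_X_sub_C_of_isUnit_sub
        exact (sub_ne_zero.mpr hpq).isUnit
      have h5 := hcop.mul_dvd h3 h4
      exact final a b N _ hTN hG (hdeg _ _) _ h5 (by rw [natDegree_prod2]; omega)

end Groth.Agent.S16260Aux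

namespace Groth.Agent.S16260

open Polynomial in
/-- Let `k` be a field of characteristic zero, `a, b, i` positive integers with `i ≤ a + b`, and `j = a
+ b + 2 - i`. On the projective line with three marked points `A = 0`, `B = 1`, `C = ∞`, the
`(a+b+1)`-dimensional linear system `V = H⁰(ω((1+a)A)) ⊕ H⁰(ω((1+b)B)) ⊕ H⁰(ω(2C)) ⊆ H⁰(ω((1+a)A +
(1+b)B + 2C)) ≅ H⁰(O(a+b+2))` becomes, in the affine coordinate, the span of the multiples of
`X^(a+1)` of degree at most `a+b`, the multiples of `(X-1)^(b+1)` of degree at most `a+b`, and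
`X^(a+1) (X-1)^(b+1)`; and `V(-iP-jQ)` is the subspace of members divisible by `(X-p)^i (X-q)^j`.
Then there are no points `P = p`, `Q = q` other than `A, B, C` (that is, `p, q ∉ {0, 1}`; `p = q`
allowed) with both `dim V(-iP-jQ) ≥ 1` and `dim V(-(i-1)P-(j-1)Q) ≥ 2`. (The published statement is
over the complex numbers.) -/
theorem result
    (k : Type*) [Field k] [CharZero k] (a b i j : ℕ) (ha : 0 < a) (hb : 0 < b) (hi : 0 < i) (hiab : i ≤ a + b)
    (hj : i + j = a + b + 2)
    (V : Submodule k (Polynomial k))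
    (hV : V = ((Ideal.span {(X : Polynomial k) ^ (a + 1)}).restrictScalars k ⊓ Polynomial.degreeLE k ↑(a + b)) ⊔
      ((Ideal.span {((X : Polynomial k) - 1) ^ (b + 1)}).restrictScalars k ⊓ Polynomial.degreeLE k ↑(a + b)) ⊔
      Submodule.span k {(X : Polynomial k) ^ (a + 1) * (X - 1) ^ (b + 1)})
    (p q : k) (hp0 : p ≠ 0) (hp1 : p ≠ 1) (hq0 : q ≠ 0) (hq1 : q ≠ 1) :
    ¬ (1 ≤ Module.finrank k ↥(V ⊓ (Ideal.span {(X - C p) ^ i * (X - C q) ^ j}).restrictScalars k) ∧
       2 ≤ Module.finrank k ↥(V ⊓ (Ideal.span {(X - C p) ^ (i - 1) * (X - C q) ^ (j - 1)}).restrictScalars k)) := by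
  classical
  rintro ⟨_, h2⟩
  have hlt : 1 < Module.finrank k ↥(V ⊓ (Ideal.span {(X - C p) ^ (i - 1) * (X - C q) ^ (j - 1)}).restrictScalars k) := h2
  have hnt := Module.nontrivial_of_finrank_pos (lt_trans Nat.zero_lt_one hlt)
  obtain ⟨x, hx⟩ := exists_ne (0 : ↥(V ⊓ (Ideal.span {(X - C p) ^ (i - 1) * (X - C q) ^ (j - 1)}).restrictScalars k))
  obtain ⟨y, hxy⟩ := exists_linearIndependent_pair_of_one_lt_finrank hlt hx
  rw [LinearIndependent.pair_iff] at hxy
  obtain ⟨G₀, hG₀⟩ := x
  obtain ⟨G₁, hG₁⟩ := y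
  obtain ⟨hG₀V, hG₀I⟩ := Submodule.mem_inf.mp hG₀
  obtain ⟨hG₁V, hG₁I⟩ := Submodule.mem_inf.mp hG₁
  rw [Submodule.restrictScalars_mem, Ideal.mem_span_singleton] at hG₀I hG₁I
  have hVle : V ≤ Polynomial.degreeLE k ↑(a + b + 2) := by
    rw [hV]; exact Groth.Agent.S16261Aux.V_le_deg a b
  rw [hV] at hG₀V hG₁V
  obtain ⟨N₀, hN₀⟩ := Groth.Agent.S16261Aux.V_le_range a b hb ha hG₀V
  obtain ⟨N₁, hN₁⟩ := Groth.Agent.S16261Aux.V_le_range a b hb ha hG₁V
  change Groth.Agent.S16261Aux.T a b N₀ = G₀ at hN₀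
  change Groth.Agent.S16261Aux.T a b N₁ = G₁ at hN₁
  rw [← hV] at hG₀V hG₁V
  have hdeg : ∀ s t : k, (C s * Groth.Agent.S16261Aux.T a b N₀
      + C t * Groth.Agent.S16261Aux.T a b N₁).natDegree ≤ a + b + 2 := by
    intro s t
    have hmem : C s * G₀ + C t * G₁ ∈ V := by
      rw [← Polynomial.smul_eq_C_mul, ← Polynomial.smul_eq_C_mul]
      exact V.add_mem (V.smul_mem _ hG₀V) (V.smul_mem _ hG₁V)
    have := hVle hmem
    rw [Polynomial.mem_degreeLE] at this
    rw [hN₀, hN₁]
    exact Polynomial.natDegree_le_of_degree_le this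
  obtain ⟨s, t, hst, hzero⟩ := Groth.Agent.S16260Aux.core a b i j hi (by omega) hj p q hp0 hp1 hq0 hq1
    N₀ N₁ hdeg (by rw [hN₀]; exact hG₀I) (by rw [hN₁]; exact hG₁I)
  rw [hN₀, hN₁] at hzero
  have := hxy s t (by
    apply Subtype.ext
    simp only [Submodule.coe_add, Submodule.coe_smul, Submodule.coe_zero]
    rw [Polynomial.smul_eq_C_mul, Polynomial.smul_eq_C_mul]
    exact hzero)
  rcases hst with h | h
  · exact h this.1
  · exact h this.2

end Groth.Agent.S16260
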