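import Groth.Statements.S16263
import Mathlib.Tactic
import Mathlib.Algebra.Polynomial.Degree.SmallDegree
import Mathlib.LinearAlgebra.FiniteDimensional.Basic
import Mathlib.RingTheory.Polynomial.Basic

set_option autoImplicit false
open W4c3wronskmg

namespace Groth.Agent.S16263

open Polynomial

lemma finrank_le_one_of_le_span {k M : Type*} [Field k] [AddCommGroup M] [Module k M]
    (W : Submodule k M) (w₀ : M) (h : W ≤ Submodule.span k {w₀}) : Module.finrank k W ≤ 1 := by
  calc Module.finrank k W ≤ Module.finrank k (Submodule.span k {w₀}) := Submodule.finrank_mono h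
    _ ≤ 1 := by
      have := finrank_span_le_card (R := k) ({w₀} : Set M)
      simpa using this

variable {k : Type*} [Field k]

lemma mem_V_iff (a : ℕ) (f : k[X]) :
    f ∈ Submodule.span k {(1 : Polynomial k)} ⊔
      ((Ideal.span {(X : Polynomial k) * (X + 1)}).restrictScalars k ⊓ Polynomial.degreeLE k ↑(a + 1)) ↔
    ∃ (c : k) (h : k[X]), f = C c + X * (X + 1) * h ∧ degree (X * (X + 1) * h) ≤ ↑(a + 1) := by
  rw [Submodule.mem_sup]
  constructor
  · rintro ⟨y, hy, z, hz, rfl⟩
    rw [Submodule.mem_span_singleton] at hy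
    obtain ⟨c, rfl⟩ := hy
    rw [Submodule.mem_inf, Submodule.restrictScalars_mem, Ideal.mem_span_singleton,
      Polynomial.mem_degreeLE] at hz
    obtain ⟨⟨h, rfl⟩, hd⟩ := hz
    exact ⟨c, h, by simp [Algebra.smul_def], hd⟩
  · rintro ⟨c, h, rfl, hd⟩
    refine ⟨C c, ?_, X * (X + 1) * h, ?_, rfl⟩
    · rw [Submodule.mem_span_singleton]
      exact ⟨c, by simp [Algebra.smul_def]⟩
    · rw [Submodule.mem_inf, Submodule.restrictScalars_mem, Ideal.mem_span_singleton,
        Polynomial.mem_degreeLE]
      exact ⟨⟨h, rfl⟩, hd⟩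

lemma part2 (a : ℕ) (f : k[X])
    (hf : f ∈ Submodule.span k {(1 : Polynomial k)} ⊔
      ((Ideal.span {(X : Polynomial k) * (X + 1)}).restrictScalars k ⊓ Polynomial.degreeLE k ↑(a + 1)))
    (hd : f ∈ Polynomial.degreeLT k 2) : f ∈ Submodule.span k {(1 : Polynomial k)} := by
  rw [mem_V_iff] at hf
  obtain ⟨c, h, rfl, -⟩ := hf
  rw [Polynomial.mem_degreeLT] at hd
  by_cases hh : h = 0
  · subst hh
    rw [Submodule.mem_span_singleton]
    exact ⟨c, by simp [Algebra.smul_def]⟩
  · exfalso
    have hX1 : (X + 1 : k[X]) = X + C 1 := by simp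
    have hg : degree (X * (X + 1) * h) = 1 + 1 + (natDegree h : WithBot ℕ) := by
      rw [degree_mul, degree_mul, degree_X, hX1, degree_X_add_C, degree_eq_natDegree hh]
    have h2 : degree (C c) < degree (X * (X + 1) * h) := by
      rw [hg]
      calc degree (C c) ≤ 0 := degree_C_le
        _ < 1 + 1 + (natDegree h : WithBot ℕ) := by
          have : (0 : ℕ) < 1 + 1 + natDegree h := by omega
          exact_mod_cast this
    rw [degree_add_eq_right_of_degree_lt h2, hg] at hd
    have : 1 + 1 + natDegree h < 2 := by exact_mod_cast hd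
    omega

lemma part1 (a : ℕ) (ha : 0 < a) (p : k) (f : k[X])
    (hf : f ∈ Submodule.span k {(1 : Polynomial k)} ⊔
      ((Ideal.span {(X : Polynomial k) * (X + 1)}).restrictScalars k ⊓ Polynomial.degreeLE k ↑(a + 1)))
    (hd : (X - C p) ^ a ∣ f) :
    f ∈ Submodule.span k {(X - C p) ^ a *
      (C ((-p) ^ a - (-1 - p) ^ a) * X - C ((-1 - p) ^ a))} := by
  rw [mem_V_iff] at hf
  obtain ⟨c, h, rfl, hdeg⟩ := hf
  obtain ⟨G, hG⟩ := hd
  rw [Submodule.mem_span_singleton]
  by_cases hG0 : G = 0
  · refine ⟨0, ?_⟩
    rw [hG, hG0]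
    simp
  have hfdeg : degree (C c + X * (X + 1) * h) ≤ ↑(a + 1) := by
    refine (degree_add_le _ _).trans (max_le ?_ hdeg)
    exact degree_C_le.trans (by exact_mod_cast Nat.zero_le _)
  have hmonic : ((X - C p) ^ a).Monic := (monic_X_sub_C p).pow a
  have hnd : natDegree (C c + X * (X + 1) * h) = a + natDegree G := by
    rw [hG, hmonic.natDegree_mul' hG0, natDegree_pow, natDegree_X_sub_C, mul_one]
  have hGd : natDegree G ≤ 1 := by
    have := natDegree_le_of_degree_le hfdeg
    omega
  obtain ⟨α, β, rfl⟩ := exists_eq_X_add_C_of_natDegree_le_one hGd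
  have e0 : eval 0 (C c + X * (X + 1) * h) = c := by simp
  have e1 : eval (-1) (C c + X * (X + 1) * h) = c := by simp
  rw [hG] at e0 e1
  simp only [eval_mul, eval_pow, eval_sub, eval_X, eval_C, eval_add] at e0 e1
  have hrel : ((-p) ^ a - (-1 - p) ^ a) * β + (-1 - p) ^ a * α = 0 := by
    have : (0 - p) ^ a * (α * 0 + β) = (-1 - p) ^ a * (α * -1 + β) := by rw [e0, e1]
    have h0 : (0 - p : k) = -p := by ring
    rw [h0] at this
    linear_combination this
  set A := (-p) ^ a - (-1 - p) ^ a with hA
  set B := (-1 - p) ^ a with hB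
  have key : ∃ t : k, α = t * A ∧ β = -(t * B) := by
    by_cases hB0 : B = 0
    · have hp : -1 - p = 0 := by
        rw [hB] at hB0
        exact pow_eq_zero_iff (by omega) |>.mp hB0
      have hA1 : A = 1 := by
        have : -p = 1 := by linear_combination hp
        rw [hA, this, hB0]
        simp
      rw [hB0, hA1] at hrel
      refine ⟨α, by rw [hA1]; ring, ?_⟩
      rw [hB0]
      linear_combination hrel
    · refine ⟨-β / B, ?_, ?_⟩
      · field_simp
        linear_combination hrel
      · field_simp
  obtain ⟨t, rfl, rfl⟩ := key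
  refine ⟨t, ?_⟩
  rw [hG]
  simp only [Polynomial.smul_eq_C_mul, map_mul, map_neg]
  ring

end Groth.Agent.S16263

namespace Groth.Agent.S16263

open Polynomial in
/-- Let `k` be a field of characteristic zero and `a` a positive integer. On the projective line with `A
= 0`, `B = -1`, `C = ∞`, the `(a+1)`-dimensional system `V = H⁰(ω((1+a)C)) ⊕ H⁰(ω(A+B)) ⊆
H⁰(ω((1+a)C + A + B)) ≅ H⁰(O(a+1))` is, in the affine coordinate, the space of polynomials `c + X
(X+1) F` with `c` a constant and `deg F ≤ a - 1`. Then `V` has no special ramification point (no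
point of weight at least two): since the members have degree at most `a + 1`, this says that for
every point `p` of the affine line at most a one-dimensional subspace of `V` is divisible by
`(X-p)^a`, and at `C` that at most a one-dimensional subspace has degree at most one (degree less
than two). (The published statement carries two further positive integers `i, j` with `i + j = a -
1`, used only in its second assertion, and is over the complex numbers.) -/
theorem result
    (k : Type*) [Field k] [CharZero k] (a : ℕ) (ha : 0 < a)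
    (V : Submodule k (Polynomial k))
    (hV : V = Submodule.span k {(1 : Polynomial k)} ⊔
      ((Ideal.span {(X : Polynomial k) * (X + 1)}).restrictScalars k ⊓ Polynomial.degreeLE k ↑(a + 1))) :
    (∀ p : k, Module.finrank k ↥(V ⊓ (Ideal.span {(X - C p) ^ a}).restrictScalars k) ≤ 1) ∧
      Module.finrank k ↥(V ⊓ Polynomial.degreeLT k 2) ≤ 1 := by
  subst hV
  refine ⟨fun p => ?_, ?_⟩
  · refine finrank_le_one_of_le_span _ ((X - C p) ^ a *
      (C ((-p) ^ a - (-1 - p) ^ a) * X - C ((-1 - p) ^ a))) (fun f hf => ?_)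
    rw [Submodule.mem_inf, Submodule.restrictScalars_mem, Ideal.mem_span_singleton] at hf
    exact part1 a ha p f hf.1 hf.2
  · refine finrank_le_one_of_le_span _ (1 : Polynomial k) (fun f hf => ?_)
    rw [Submodule.mem_inf] at hf
    exact part2 a f hf.1 hf.2

end Groth.Agent.S16263
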