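import Groth.Statements.S16262
import Groth.Agent.S16263
import Mathlib.Tactic
import Mathlib.Algebra.Polynomial.Derivative
import Mathlib.RingTheory.Polynomial.Basic

set_option autoImplicit false
open W4c3wronskmg

namespace Groth.Agent.S16262

open Polynomial

variable {k : Type*} [Field k]

theorem mul_deriv_pow (p : k[X]) (n : ℕ) :
    p * derivative (p ^ n) = C (n : k) * p ^ n * derivative p := by
  rcases n with _ | n
  · simp
  · rw [derivative_pow]
    simp only [Nat.add_sub_cancel, Nat.cast_add, Nat.cast_one, map_add, map_natCast, map_one]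
    ring

noncomputable def RR (q : k) (i M : ℕ) : k[X] := (X + 1) ^ i * (X - C q) ^ M

theorem RR_ode (q : k) (i M : ℕ) :
    (X + 1) * (X - C q) * derivative (RR q i M)
      = (C (i : k) * (X - C q) + C (M : k) * (X + 1)) * RR q i M := by
  unfold RR
  rw [derivative_mul]
  have h1 := mul_deriv_pow (X + 1 : k[X]) i
  have h2 := mul_deriv_pow (X - C q : k[X]) M
  have d1 : derivative (X + 1 : k[X]) = 1 := by simp
  have d2 : derivative (X - C q : k[X]) = 1 := by simp
  rw [d1, mul_one] at h1
  rw [d2, mul_one] at h2
  linear_combination ((X - C q) * (X - C q) ^ M) * h1 + ((X + 1) * (X + 1) ^ i) * h2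

theorem RR_monic (q : k) (i M : ℕ) : (RR q i M).Monic := by
  unfold RR
  have h1 : (X + 1 : k[X]).Monic := by
    have : (X + 1 : k[X]) = X + C 1 := by simp
    rw [this]
    exact monic_X_add_C 1
  exact (h1.pow i).mul ((monic_X_sub_C q).pow M)

theorem RR_natDegree (q : k) (i M : ℕ) : (RR q i M).natDegree = i + M := by
  unfold RR
  have h1 : (X + 1 : k[X]).Monic := by
    have : (X + 1 : k[X]) = X + C 1 := by simp
    rw [this]
    exact monic_X_add_C 1
  have h1d : (X + 1 : k[X]).natDegree = 1 := by
    have : (X + 1 : k[X]) = X + C 1 := by simp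
    rw [this]
    exact natDegree_X_add_C 1
  rw [(h1.pow i).natDegree_mul ((monic_X_sub_C q).pow M), natDegree_pow, natDegree_pow, h1d,
    natDegree_X_sub_C, mul_one, mul_one]

theorem RR_rec (q : k) (i M m : ℕ) :
    q * ((m : k) + 2) * (RR q i M).coeff (m + 2)
      = ((m : k) - (i : k) - (M : k)) * (RR q i M).coeff m
        + ((1 - q) * ((m : k) + 1) - (M : k) + (i : k) * q) * (RR q i M).coeff (m + 1) := by
  have h : ((X + 1) * (X - C q) * derivative (RR q i M)).coeff (m + 1)
      = ((C (i : k) * (X - C q) + C (M : k) * (X + 1)) * RR q i M).coeff (m + 1) := by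
    rw [RR_ode]
  have e1 : (X + 1) * (X - C q) * derivative (RR q i M)
      = X * (X * derivative (RR q i M)) + C (1 - q) * (X * derivative (RR q i M))
        - C q * derivative (RR q i M) := by
    rw [map_sub, map_one]
    ring
  have e2 : (C (i : k) * (X - C q) + C (M : k) * (X + 1)) * RR q i M
      = C ((i : k) + (M : k)) * (X * RR q i M) + C ((M : k) - (i : k) * q) * RR q i M := by
    simp only [map_add, map_sub, map_mul]
    ring
  rw [e1, e2, coeff_sub, coeff_add, coeff_add, coeff_C_mul, coeff_C_mul, coeff_C_mul, coeff_C_mul,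
    coeff_X_mul, coeff_X_mul, coeff_X_mul] at h
  rcases m with _ | m
  · rw [coeff_X_mul_zero, coeff_derivative, coeff_derivative] at h
    push_cast at h ⊢
    linear_combination -h
  · rw [coeff_X_mul, coeff_derivative, coeff_derivative, coeff_derivative] at h
    push_cast at h ⊢
    linear_combination -h

theorem RR_not_both (q : k) [CharZero k] (hq : q ≠ 0) (i M a : ℕ) (ha : a + 1 ≤ i + M)
    (h0 : (RR q i M).coeff a = 0) (h1 : (RR q i M).coeff (a + 1) = 0) : False := by
  have key : ∀ t : ℕ, (RR q i M).coeff (a + t) = 0 ∧ (RR q i M).coeff (a + t + 1) = 0 := by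
    intro t
    induction t with
    | zero => exact ⟨h0, h1⟩
    | succ t ih =>
      refine ⟨ih.2, ?_⟩
      have := RR_rec q i M (a + t)
      rw [ih.1, ih.2, mul_zero, mul_zero, add_zero] at this
      have hne : q * (((a + t : ℕ) : k) + 2) ≠ 0 := by
        apply mul_ne_zero hq
        have : (((a + t : ℕ) : k) + 2) = ((a + t + 2 : ℕ) : k) := by push_cast; ring
        rw [this]
        exact Nat.cast_ne_zero.mpr (by omega)
      exact (mul_eq_zero.mp this).resolve_left hne
  have hlead := RR_monic q i M
  rw [Monic, leadingCoeff, RR_natDegree] at hlead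
  obtain ⟨t, ht⟩ : ∃ t, i + M = a + t + 1 := ⟨i + M - a - 1, by omega⟩
  rw [ht, (key t).2] at hlead
  exact zero_ne_one hlead

open Polynomial in
/-- Let `k` be a field of characteristic zero and `a, b, i` positive integers with `i < a + b`. On the
projective line with `A = 0`, `B = ∞`, `P = -1`, the system `V_{a,b} = H⁰(ω((1+a)A)) ⊕ H⁰(ω((1+b)B))
⊆ H⁰(O(a+b))` is the space of polynomials of degree at most `a+b` with vanishing coefficient of
`X^a`, and `V = V_{a,b}(-iP)` (divided by `(X+1)^i`) is the space of `G` of degree at most `a+b-i`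
such that the coefficient of `X^a` in `(X+1)^i G` vanishes; it is a linear system of dimension and
degree `a+b-i`. Then no point of the projective line other than `A` and `B` is a special
ramification point of `V` (a point of weight at least two); for such a system a point `q` of the
affine line is special exactly when two independent members are divisible by `(X-q)^(a+b-i-1)`, so
the statement is that this fails for every `q ≠ 0`. (The published statement does not except `A` and
`B`, but `A` has weight `max(b-i, 0)` in `V`, which is `2` for `a = 1, b = 3, i = 1`: there `X^3`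
and `X^2` both lie in `V`. It is stated over the complex numbers.) -/
theorem result
    (k : Type*) [Field k] [CharZero k] (a b i : ℕ) (ha : 0 < a) (hb : 0 < b) (hi : 0 < i) (hiab : i < a + b)
    (V : Submodule k (Polynomial k))
    (hV : V = Polynomial.degreeLE k ↑(a + b - i) ⊓
      LinearMap.ker ((Polynomial.lcoeff k a).comp (LinearMap.mulLeft k (((X : Polynomial k) + 1) ^ i))))
    (q : k) (hq : q ≠ 0) :
    Module.finrank k ↥(V ⊓ (Ideal.span {(X - C q) ^ (a + b - i - 1)}).restrictScalars k) ≤ 1 := by
  subst hV
  obtain ⟨a', rfl⟩ : ∃ a', a = a' + 1 := ⟨a - 1, by omega⟩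
  set M := a' + 1 + b - i - 1 with hM
  have hN : a' + 1 + b - i = M + 1 := by omega
  have hnb : ¬ ((RR q i M).coeff a' = 0 ∧ (RR q i M).coeff (a' + 1) = 0) := by
    rintro ⟨h0, h1⟩
    exact RR_not_both q hq i M a' (by omega) h0 h1
  refine Groth.Agent.S16263.finrank_le_one_of_le_span _
    ((X - C q) ^ M * (C ((RR q i M).coeff (a' + 1)) * X - C ((RR q i M).coeff a'))) (fun f hf => ?_)
  rw [Submodule.mem_inf, Submodule.restrictScalars_mem, Ideal.mem_span_singleton, Submodule.mem_inf,
    Polynomial.mem_degreeLE, LinearMap.mem_ker, LinearMap.comp_apply, LinearMap.mulLeft_apply,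
    Polynomial.lcoeff_apply] at hf
  obtain ⟨⟨hdeg, hco⟩, G, rfl⟩ := hf
  rw [Submodule.mem_span_singleton]
  by_cases hG0 : G = 0
  · refine ⟨0, ?_⟩
    rw [hG0]
    simp
  have hmonic : ((X - C q) ^ M).Monic := (monic_X_sub_C q).pow M
  have hnd : natDegree ((X - C q) ^ M * G) = M + natDegree G := by
    rw [hmonic.natDegree_mul' hG0, natDegree_pow, natDegree_X_sub_C, mul_one]
  have hGd : natDegree G ≤ 1 := by
    have := natDegree_le_of_degree_le hdeg
    omega
  obtain ⟨α, β, rfl⟩ := exists_eq_X_add_C_of_natDegree_le_one hGd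
  have hrel : α * (RR q i M).coeff a' + β * (RR q i M).coeff (a' + 1) = 0 := by
    have e : (X + 1) ^ i * ((X - C q) ^ M * (C α * X + C β))
        = C α * (X * RR q i M) + C β * RR q i M := by
      unfold RR
      ring
    rw [e, coeff_add, coeff_C_mul, coeff_C_mul, coeff_X_mul] at hco
    exact hco
  set r0 := (RR q i M).coeff a' with hr0
  set r1 := (RR q i M).coeff (a' + 1) with hr1
  have key : ∃ t : k, α = t * r1 ∧ β = -(t * r0) := by
    by_cases h1 : r1 = 0
    · have h0 : r0 ≠ 0 := fun h0 => hnb ⟨h0, h1⟩
      rw [h1, mul_zero, add_zero] at hrel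
      have hα : α = 0 := (mul_eq_zero.mp hrel).resolve_right h0
      refine ⟨-β / r0, ?_, ?_⟩
      · rw [h1, hα, mul_zero]
      · field_simp
    · refine ⟨α / r1, ?_, ?_⟩
      · field_simp
      · field_simp
        linear_combination hrel
  obtain ⟨t, rfl, rfl⟩ := key
  refine ⟨t, ?_⟩
  simp only [Polynomial.smul_eq_C_mul, map_mul, map_neg]
  ring

end Groth.Agent.S16262
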