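import Groth.Statements.S16264
import Groth.Agent.S16263
import Mathlib.Tactic
import Mathlib.RingTheory.Polynomial.Basic
import Mathlib.LinearAlgebra.FiniteDimensional.Basic

set_option autoImplicit false
open W4c3wronskmg

namespace Groth.Agent.S16264

open Polynomial

variable {k : Type*} [Field k]

theorem finrank_degreeLT (n : ℕ) : Module.finrank k (degreeLT k n) = n := by
  rw [LinearEquiv.finrank_eq (degreeLTEquiv k n), Module.finrank_fin_fun]

instance (n : ℕ) : Module.Finite k (degreeLT k n) :=
  Module.Finite.equiv (degreeLTEquiv k n).symm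

noncomputable def lam (D : k[X]) : k[X] →ₗ[k] k :=
  (D.eval 0) • Polynomial.leval 0 - (D.eval (-1)) • Polynomial.leval (-1)

theorem lam_apply (D ℓ : k[X]) : lam D ℓ = D.eval 0 * ℓ.eval 0 - D.eval (-1) * ℓ.eval (-1) := by
  unfold lam
  simp [Polynomial.leval_apply]

theorem mem_W_imp (a : ℕ) (D : k[X]) (hD : D.Monic) (hdeg : D.natDegree + 2 = a + 1) (f : k[X])
    (hf : f ∈ Submodule.span k {(1 : Polynomial k)} ⊔
      ((Ideal.span {(X : Polynomial k) * (X + 1)}).restrictScalars k ⊓ Polynomial.degreeLE k ↑(a + 1)))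
    (hd : D ∣ f) :
    f ∈ (degreeLT k 3 ⊓ LinearMap.ker (lam D)).map (LinearMap.mulLeft k D) := by
  rw [Groth.Agent.S16263.mem_V_iff] at hf
  obtain ⟨c, h, rfl, hdg⟩ := hf
  obtain ⟨G, hG⟩ := hd
  refine ⟨G, ⟨?_, ?_⟩, ?_⟩
  · rw [SetLike.mem_coe, Polynomial.mem_degreeLT]
    by_cases hG0 : G = 0
    · rw [hG0, degree_zero]
      exact WithBot.bot_lt_coe _
    have hfdeg : degree (C c + X * (X + 1) * h) ≤ ↑(a + 1) := by
      refine (degree_add_le _ _).trans (max_le ?_ hdg)
      exact degree_C_le.trans (by exact_mod_cast Nat.zero_le _)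
    have hnd : natDegree (C c + X * (X + 1) * h) = D.natDegree + natDegree G := by
      rw [hG, hD.natDegree_mul' hG0]
    have hGd : natDegree G ≤ 2 := by
      have := natDegree_le_of_degree_le hfdeg
      omega
    rw [degree_eq_natDegree hG0]
    exact_mod_cast Nat.lt_succ_of_le hGd
  · rw [SetLike.mem_coe, LinearMap.mem_ker, lam_apply]
    have e0 : eval 0 (C c + X * (X + 1) * h) = c := by simp
    have e1 : eval (-1) (C c + X * (X + 1) * h) = c := by simp
    rw [hG] at e0 e1
    rw [eval_mul] at e0 e1
    rw [e0, e1, sub_self]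
  · rw [LinearMap.mulLeft_apply, hG]

theorem D_monic (p q : k) (i j : ℕ) : ((X - C p) ^ i * (X - C q) ^ j).Monic :=
  ((monic_X_sub_C p).pow i).mul ((monic_X_sub_C q).pow j)

theorem D_natDegree (p q : k) (i j : ℕ) : ((X - C p) ^ i * (X - C q) ^ j).natDegree = i + j := by
  rw [(((monic_X_sub_C p).pow i)).natDegree_mul ((monic_X_sub_C q).pow j), natDegree_pow, natDegree_pow,
    natDegree_X_sub_C, natDegree_X_sub_C, mul_one, mul_one]

theorem finrank_K_le (D : k[X]) (h : D.eval 0 ≠ 0 ∨ D.eval (-1) ≠ 0) :
    Module.finrank k ↥(degreeLT k 3 ⊓ LinearMap.ker (lam D)) ≤ 2 := by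
  have hlt : degreeLT k 3 ⊓ LinearMap.ker (lam D) < degreeLT k 3 := by
    refine lt_of_le_of_ne inf_le_left ?_
    intro heq
    rcases h with h | h
    · have hm : (X + 1 : k[X]) ∈ degreeLT k 3 := by
        rw [Polynomial.mem_degreeLT]
        have : (X + 1 : k[X]) = X + C 1 := by simp
        rw [this, degree_X_add_C]
        norm_num
      rw [← heq] at hm
      have := hm.2
      rw [SetLike.mem_coe, LinearMap.mem_ker, lam_apply] at this
      simp at this
      exact h this
    · have hm : (X : k[X]) ∈ degreeLT k 3 := by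
        rw [Polynomial.mem_degreeLT, degree_X]
        norm_num
      rw [← heq] at hm
      have := hm.2
      rw [SetLike.mem_coe, LinearMap.mem_ker, lam_apply] at this
      simp at this
      exact h this
  have := Submodule.finrank_lt_finrank_of_lt hlt
  rw [finrank_degreeLT] at this
  omega

theorem V_le (a : ℕ) : Submodule.span k {(1 : Polynomial k)} ⊔
      ((Ideal.span {(X : Polynomial k) * (X + 1)}).restrictScalars k ⊓ Polynomial.degreeLE k ↑(a + 1))
      ≤ degreeLT k (a + 2) := by
  rw [degreeLT_succ_eq_degreeLE]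
  apply sup_le
  · rw [Submodule.span_le]
    intro x hx
    rw [Set.mem_singleton_iff] at hx
    rw [hx, SetLike.mem_coe, Polynomial.mem_degreeLE, degree_one]
    exact_mod_cast Nat.zero_le _
  · exact inf_le_right

open Polynomial in
/-- Let `k` be a field of characteristic zero and `a, i, j` positive integers with `i + j = a - 1`. With
`A = 0`, `B = -1`, `C = ∞` on the projective line and `V` the `(a+1)`-dimensional system of
polynomials `c + X (X+1) F`, `deg F ≤ a - 1` (that is, `H⁰(ω((1+a)C)) ⊕ H⁰(ω(A+B)) ⊆ H⁰(O(a+1))`),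
the pairs of points `(P, Q) = (p, q)` of the affine line with `dim V(-iP-jQ) ≥ 3`, i.e. with at
least a three-dimensional subspace of `V` divisible by `(X-p)^i (X-q)^j`, are exactly `(A, B)` and
`(B, A)`. (Here `P, Q` range over the points other than `C`; when one of them is `C` the dimension
is at most two for degree reasons. The published statement is over the complex numbers.) -/
theorem result
    (k : Type*) [Field k] [CharZero k] (a i j : ℕ) (hi : 0 < i) (hj : 0 < j) (hij : i + j + 1 = a)
    (V : Submodule k (Polynomial k))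
    (hV : V = Submodule.span k {(1 : Polynomial k)} ⊔
      ((Ideal.span {(X : Polynomial k) * (X + 1)}).restrictScalars k ⊓ Polynomial.degreeLE k ↑(a + 1)))
    (p q : k) :
    3 ≤ Module.finrank k ↥(V ⊓ (Ideal.span {(X - C p) ^ i * (X - C q) ^ j}).restrictScalars k) ↔
      (p = 0 ∧ q = -1) ∨ (p = -1 ∧ q = 0) := by
  subst hV
  set D : k[X] := (X - C p) ^ i * (X - C q) ^ j with hDdef
  have hDm : D.Monic := D_monic p q i j
  have hDn : D.natDegree = i + j := D_natDegree p q i j
  have hD0 : D ≠ 0 := hDm.ne_zero
  have hWle : (Submodule.span k {(1 : Polynomial k)} ⊔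
      ((Ideal.span {(X : Polynomial k) * (X + 1)}).restrictScalars k ⊓ Polynomial.degreeLE k ↑(a + 1))) ⊓
      (Ideal.span {D}).restrictScalars k ≤ degreeLT k (a + 2) := inf_le_left.trans (V_le a)
  have hfin : Module.Finite k ↥((Submodule.span k {(1 : Polynomial k)} ⊔
      ((Ideal.span {(X : Polynomial k) * (X + 1)}).restrictScalars k ⊓ Polynomial.degreeLE k ↑(a + 1))) ⊓
      (Ideal.span {D}).restrictScalars k) := Submodule.finiteDimensional_of_le hWle
  have hev0 : D.eval 0 = (-p) ^ i * (-q) ^ j := by
    rw [hDdef]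
    simp
  have hev1 : D.eval (-1) = (-1 - p) ^ i * (-1 - q) ^ j := by
    rw [hDdef]
    simp
  constructor
  · intro h3
    by_contra hcon
    have hne : D.eval 0 ≠ 0 ∨ D.eval (-1) ≠ 0 := by
      by_contra hboth
      rw [not_or, not_not, not_not] at hboth
      obtain ⟨h0, h1⟩ := hboth
      rw [hev0, mul_eq_zero, pow_eq_zero_iff hi.ne', pow_eq_zero_iff hj.ne', neg_eq_zero, neg_eq_zero] at h0
      rw [hev1, mul_eq_zero, pow_eq_zero_iff hi.ne', pow_eq_zero_iff hj.ne'] at h1
      apply hcon
      rcases h0 with h0 | h0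
      · rcases h1 with h1 | h1
        · exfalso
          rw [h0] at h1
          norm_num at h1
        · left
          exact ⟨h0, by linear_combination -h1⟩
      · rcases h1 with h1 | h1
        · right
          exact ⟨by linear_combination -h1, h0⟩
        · exfalso
          rw [h0] at h1
          norm_num at h1
    have hle : (Submodule.span k {(1 : Polynomial k)} ⊔
        ((Ideal.span {(X : Polynomial k) * (X + 1)}).restrictScalars k ⊓ Polynomial.degreeLE k ↑(a + 1))) ⊓
        (Ideal.span {D}).restrictScalars k ≤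
        (degreeLT k 3 ⊓ LinearMap.ker (lam D)).map (LinearMap.mulLeft k D) := by
      intro f hf
      rw [Submodule.mem_inf, Submodule.restrictScalars_mem, Ideal.mem_span_singleton] at hf
      exact mem_W_imp a D hDm (by omega) f hf.1 hf.2
    have h1 := Submodule.finrank_mono hle
    have h2 := Submodule.finrank_map_le (LinearMap.mulLeft k D) (degreeLT k 3 ⊓ LinearMap.ker (lam D))
    have h3' := finrank_K_le D hne
    omega
  · intro hpq
    have hdvd : X * (X + 1) ∣ D := by
      rcases hpq with ⟨rfl, rfl⟩ | ⟨rfl, rfl⟩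
      · rw [hDdef]
        have e1 : (X - C (0 : k)) = X := by simp
        have e2 : (X - C (-1 : k)) = X + 1 := by simp
        rw [e1, e2]
        exact mul_dvd_mul (dvd_pow_self _ hi.ne') (dvd_pow_self _ hj.ne')
      · rw [hDdef]
        have e1 : (X - C (0 : k)) = X := by simp
        have e2 : (X - C (-1 : k)) = X + 1 := by simp
        rw [e1, e2, mul_comm X (X + 1)]
        exact mul_dvd_mul (dvd_pow_self _ hi.ne') (dvd_pow_self _ hj.ne')
    have hge : (degreeLT k 3).map (LinearMap.mulLeft k D) ≤
        (Submodule.span k {(1 : Polynomial k)} ⊔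
        ((Ideal.span {(X : Polynomial k) * (X + 1)}).restrictScalars k ⊓ Polynomial.degreeLE k ↑(a + 1))) ⊓
        (Ideal.span {D}).restrictScalars k := by
      rintro _ ⟨ℓ, hℓ, rfl⟩
      rw [LinearMap.mulLeft_apply]
      refine ⟨?_, ?_⟩
      · apply Submodule.mem_sup_right
        refine ⟨?_, ?_⟩
        · rw [SetLike.mem_coe, Submodule.restrictScalars_mem, Ideal.mem_span_singleton]
          exact Dvd.dvd.mul_right hdvd ℓ
        · rw [SetLike.mem_coe, Polynomial.mem_degreeLE]
          rw [SetLike.mem_coe, Polynomial.mem_degreeLT] at hℓ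
          by_cases hℓ0 : ℓ = 0
          · rw [hℓ0, mul_zero, degree_zero]
            exact bot_le
          · rw [degree_mul, degree_eq_natDegree hD0, degree_eq_natDegree hℓ0, hDn]
            rw [degree_eq_natDegree hℓ0] at hℓ
            have : ℓ.natDegree < 3 := by exact_mod_cast hℓ
            have h' : i + j + ℓ.natDegree ≤ a + 1 := by omega
            exact_mod_cast h'
      · rw [SetLike.mem_coe, Submodule.restrictScalars_mem, Ideal.mem_span_singleton]
        exact Dvd.intro ℓ rfl
    have hinj : Function.Injective (LinearMap.mulLeft k D) := by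
      intro x y hxy
      simp only [LinearMap.mulLeft_apply] at hxy
      exact mul_left_cancel₀ hD0 hxy
    have h1 := Submodule.finrank_mono hge
    have h2 : Module.finrank k ↥((degreeLT k 3).map (LinearMap.mulLeft k D)) = 3 := by
      rw [← LinearEquiv.finrank_eq (Submodule.equivMapOfInjective (LinearMap.mulLeft k D) hinj (degreeLT k 3)),
        finrank_degreeLT]
    omega

end Groth.Agent.S16264
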