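import Groth.Statements.S16281
import Groth.Agent.S11328

set_option autoImplicit false
universe u
open CategoryTheory CategoryTheory.Limits AlgebraicGeometry
open Coherent

namespace Groth.Agent.S16281


section Aux
open Groth.Agent.Lib.Helper26 Scheme.Modules Limits

lemma preservesFiniteLimits_pushforward {X Y : Scheme.{u}} (f : X ⟶ Y) :
    PreservesFiniteLimits (Scheme.Modules.pushforward f) := by
  have := (Scheme.Modules.pullbackPushforwardAdjunction f).rightAdjoint_preservesLimits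
  infer_instance

theorem main (X Y : Scheme.{u}) (f : X ⟶ Y) (W : Y.Opens)
    (F G : X.Modules) (p : ℕ)
    [ModSite.HasSheafHom (O := X.sheaf) F] [HasInjectiveResolutions (ModSite.Mod X.sheaf)]
    [(ModSite.sheafHom (O := X.sheaf) F ⋙ Scheme.Modules.pushforward f).Additive]
    [ModSite.HasSheafHom (O := (↑(f ⁻¹ᵁ W) : Scheme.{u}).sheaf) (F.restrict (f ⁻¹ᵁ W).ι)]
    [HasInjectiveResolutions (ModSite.Mod (↑(f ⁻¹ᵁ W) : Scheme.{u}).sheaf)]
    [(ModSite.sheafHom (O := (↑(f ⁻¹ᵁ W) : Scheme.{u}).sheaf) (F.restrict (f ⁻¹ᵁ W).ι) ⋙ Scheme.Modules.pushforward (f ∣_ W)).Additive] :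
    Nonempty ((Scheme.Modules.restrictFunctor W.ι).obj (((ModSite.sheafHom (O := X.sheaf) F ⋙ Scheme.Modules.pushforward f).rightDerived p).obj G) ≅
      ((ModSite.sheafHom (O := (↑(f ⁻¹ᵁ W) : Scheme.{u}).sheaf) (F.restrict (f ⁻¹ᵁ W).ι) ⋙ Scheme.Modules.pushforward (f ∣_ W)).rightDerived p).obj
        (G.restrict (f ⁻¹ᵁ W).ι)) := by
  have hei := QCohRpush.enoughInjectives_modules X
  have hraW := ModMV.restrictFunctor_additive W.ι
  have hraV := ModMV.restrictFunctor_additive (f ⁻¹ᵁ W).ι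
  let V : X.Opens := f ⁻¹ᵁ W
  let H₀ : X.Modules ⥤ X.Modules := ModSite.sheafHom (O := X.sheaf) F
  let H₀' : (V : Scheme.{u}).Modules ⥤ (V : Scheme.{u}).Modules :=
    ModSite.sheafHom (O := (↑V : Scheme.{u}).sheaf) (F.restrict V.ι)
  let H : X.Modules ⥤ Y.Modules := H₀ ⋙ Scheme.Modules.pushforward f
  let H' : (V : Scheme.{u}).Modules ⥤ (W : Scheme.{u}).Modules :=
    H₀' ⋙ Scheme.Modules.pushforward (f ∣_ W)
  have hH : H.Additive :=
    ‹(ModSite.sheafHom (O := X.sheaf) F ⋙ Scheme.Modules.pushforward f).Additive›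
  have hH' : H'.Additive :=
    ‹(ModSite.sheafHom (O := (↑(f ⁻¹ᵁ W) : Scheme.{u}).sheaf) (F.restrict (f ⁻¹ᵁ W).ι) ⋙
      Scheme.Modules.pushforward (f ∣_ W)).Additive›
  have hl1 : PreservesFiniteLimits H₀' :=
    Groth.Agent.S11328.preservesFiniteLimits_sheafHom (F.restrict V.ι)
  have hl2 := preservesFiniteLimits_pushforward (f ∣_ W)
  have hH'l : PreservesFiniteLimits H' := comp_preservesFiniteLimits H₀' _
  have hirV : HasInjectiveResolutions (V : Scheme.{u}).Modules :=
    ‹HasInjectiveResolutions (ModSite.Mod (↑(f ⁻¹ᵁ W) : Scheme.{u}).sheaf)›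
  let e : H ⋙ restrictFunctor W.ι ≅ restrictFunctor V.ι ⋙ H' :=
    Functor.associator _ _ _ ≪≫ Functor.isoWhiskerLeft H₀ (QCohRpush.bcIso f W) ≪≫
      (Functor.associator _ _ _).symm ≪≫
      Functor.isoWhiskerRight (SheafHomRestr.homRestrIso V F) (pushforward (f ∣_ W)) ≪≫
      Functor.associator _ _ _
  have key := Groth.Agent.S11328.derived_conj (A := X.Modules) (A' := (V : Scheme.{u}).Modules)
    (C := Y.Modules) (C' := (W : Scheme.{u}).Modules) H hH H' hH' hH'l
    (restrictFunctor V.ι) hraV inferInstance inferInstance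
    (restrictFunctor W.ι) hraW inferInstance inferInstance
    (fun I hI => ExtZeroSch.injective_restrict V I)
    e G p
  exact key
end Aux



/-- Let f : X → Y be a morphism of schemes, F and G O_X-modules, W ⊆ Y an open subscheme and p ≥ 0.
Write Ext^p_f(F, -) for the p-th right derived functor of the left exact functor G ↦ f_*
Hom_{O_X}(F, G) from O_X-modules to O_Y-modules (the relative Ext sheaves). Then the restriction of
Ext^p_f(F, G) to W is isomorphic to Ext^p_{f'}(F|_{f⁻¹W}, G|_{f⁻¹W}), where f' : f⁻¹W → W is the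
restricted morphism. (Stated for schemes, the published statement being for ringed spaces; existence
of an isomorphism of O_W-modules only. The internal Hom functors, injective resolutions and
additivity of the composite functors on X and on f⁻¹W are the stated instance hypotheses, all true.) -/
theorem result (X Y : Scheme.{u}) (f : X ⟶ Y) (W : Y.Opens)
    (F G : X.Modules) (p : ℕ)
    [ModSite.HasSheafHom (O := X.sheaf) F] [HasInjectiveResolutions (ModSite.Mod X.sheaf)]
    [(ModSite.sheafHom (O := X.sheaf) F ⋙ Scheme.Modules.pushforward f).Additive]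
    [ModSite.HasSheafHom (O := (↑(f ⁻¹ᵁ W) : Scheme.{u}).sheaf) (F.restrict (f ⁻¹ᵁ W).ι)]
    [HasInjectiveResolutions (ModSite.Mod (↑(f ⁻¹ᵁ W) : Scheme.{u}).sheaf)]
    [(ModSite.sheafHom (O := (↑(f ⁻¹ᵁ W) : Scheme.{u}).sheaf) (F.restrict (f ⁻¹ᵁ W).ι) ⋙ Scheme.Modules.pushforward (f ∣_ W)).Additive] :
    Nonempty ((Scheme.Modules.restrictFunctor W.ι).obj (((ModSite.sheafHom (O := X.sheaf) F ⋙ Scheme.Modules.pushforward f).rightDerived p).obj G) ≅
      ((ModSite.sheafHom (O := (↑(f ⁻¹ᵁ W) : Scheme.{u}).sheaf) (F.restrict (f ⁻¹ᵁ W).ι) ⋙ Scheme.Modules.pushforward (f ∣_ W)).rightDerived p).obj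
        (G.restrict (f ⁻¹ᵁ W).ι)) := by
  exact main X Y f W F G p

end Groth.Agent.S16281
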