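import Groth.Statements.S16287
import Mathlib.Topology.Sheaves.MayerVietoris
import Mathlib.Algebra.Homology.ShortComplex.SnakeLemma
import Mathlib.Algebra.Homology.ShortComplex.Limits

set_option autoImplicit false
universe u
open CategoryTheory CategoryTheory.Limits TopologicalSpace
open LocCohZ

namespace Groth.Agent.S16287

open CategoryTheory CategoryTheory.Limits TopologicalSpace LocCohZ

--MARK
section PartA
universe v₁ u₁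
open ShortComplex
variable {A : Type u₁} [Category.{v₁} A] [Abelian A]

/-- 3×3 lemma (cokernel row): the cokernel of a morphism of short exact sequences which is mono
on the third terms is short exact. -/
theorem shortExact_of_cokernel (L₁ L₂ R : ShortComplex A) (φ : L₁ ⟶ L₂) (q : L₂ ⟶ R)
    (h₁ : L₁.ShortExact) (h₂ : L₂.ShortExact) [Mono φ.τ₃]
    (w₁ : φ.τ₁ ≫ q.τ₁ = 0) (w₂ : φ.τ₂ ≫ q.τ₂ = 0) (w₃ : φ.τ₃ ≫ q.τ₃ = 0)
    (hq₁ : IsColimit (CokernelCofork.ofπ q.τ₁ w₁)) (hq₂ : IsColimit (CokernelCofork.ofπ q.τ₂ w₂))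
    (hq₃ : IsColimit (CokernelCofork.ofπ q.τ₃ w₃)) : R.ShortExact := by
  have := h₁.epi_g
  have := h₂.mono_f
  have := h₂.epi_g
  let S : SnakeInput A :=
    { L₀ := kernel φ
      L₁ := L₁
      L₂ := L₂
      L₃ := cokernel φ
      v₀₁ := kernel.ι φ
      v₁₂ := φ
      v₂₃ := cokernel.π φ
      w₀₂ := kernel.condition φ
      w₁₃ := cokernel.condition φ
      h₀ := kernelIsKernel φ
      h₃ := cokernelIsCokernel φ
      L₁_exact := h₁.exact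
      epi_L₁_g := inferInstance
      L₂_exact := h₂.exact
      mono_L₂_f := inferInstance }
  have hz : IsZero S.L₀.X₃ := by
    have h0 : S.v₀₁.τ₃ = 0 := by
      rw [← cancel_mono φ.τ₃, zero_comp]
      exact S.w₀₂_τ₃
    have := S.mono_v₀₁_τ₃
    exact IsZero.of_mono_eq_zero _ h0
  have hm : Mono S.L₃.f := S.L₂'_exact.mono_g (hz.eq_of_src _ _)
  have he : Epi S.L₃.g := S.epi_L₃_g
  have hS₃ : S.L₃.ShortExact := ShortExact.mk S.L₃_exact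
  let e₁ : S.L₃.X₁ ≅ R.X₁ := S.h₃τ₁.coconePointUniqueUpToIso hq₁
  let e₂ : S.L₃.X₂ ≅ R.X₂ := S.h₃τ₂.coconePointUniqueUpToIso hq₂
  let e₃ : S.L₃.X₃ ≅ R.X₃ := S.h₃τ₃.coconePointUniqueUpToIso hq₃
  have he₁ : S.v₂₃.τ₁ ≫ e₁.hom = q.τ₁ :=
    S.h₃τ₁.comp_coconePointUniqueUpToIso_hom hq₁ WalkingParallelPair.one
  have he₂ : S.v₂₃.τ₂ ≫ e₂.hom = q.τ₂ :=
    S.h₃τ₂.comp_coconePointUniqueUpToIso_hom hq₂ WalkingParallelPair.one
  have he₃ : S.v₂₃.τ₃ ≫ e₃.hom = q.τ₃ :=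
    S.h₃τ₃.comp_coconePointUniqueUpToIso_hom hq₃ WalkingParallelPair.one
  have hc₁ : e₁.hom ≫ R.f = S.L₃.f ≫ e₂.hom := by
    have := S.epi_v₂₃_τ₁
    rw [← cancel_epi S.v₂₃.τ₁, reassoc_of% he₁, q.comm₁₂]
    have hc := S.v₂₃.comm₁₂
    rw [reassoc_of% hc, he₂]
  have hc₂ : e₂.hom ≫ R.g = S.L₃.g ≫ e₃.hom := by
    have := S.epi_v₂₃_τ₂
    rw [← cancel_epi S.v₂₃.τ₂, reassoc_of% he₂, q.comm₂₃]
    have hc := S.v₂₃.comm₂₃
    rw [reassoc_of% hc, he₃]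
  exact shortExact_of_iso (isoMk e₁ e₂ e₃ hc₁ hc₂) hS₃


end PartA

section PartB
universe w v₁ u₁
open Abelian
variable {C : Type u₁} [Category.{v₁} C] [Abelian C] [HasExt.{w} C]
  {Q₁ Q₂ Q₃ Q₄ : C} (p₁₂ : Q₁ ⟶ Q₂) (p₁₃ : Q₁ ⟶ Q₃) (p₂₄ : Q₂ ⟶ Q₄) (p₃₄ : Q₃ ⟶ Q₄)
  (zero : biprod.lift p₁₂ (-p₁₃) ≫ biprod.desc p₂₄ p₃₄ = 0)
  (hR : (ShortComplex.mk (biprod.lift p₁₂ (-p₁₃)) (biprod.desc p₂₄ p₃₄) zero).ShortExact)
  (F : C)

/-- decomposition of a class on a biproduct -/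
lemma ext_biprod_decomp {A B : C} {n : ℕ} (x : Ext (A ⊞ B) F n) :
    x = (Ext.mk₀ biprod.fst).comp ((Ext.mk₀ biprod.inl).comp x (zero_add n)) (zero_add n) +
      (Ext.mk₀ biprod.snd).comp ((Ext.mk₀ biprod.inr).comp x (zero_add n)) (zero_add n) := by
  rw [Ext.mk₀_comp_mk₀_assoc, Ext.mk₀_comp_mk₀_assoc, ← Ext.add_comp, ← Ext.mk₀_add,
    biprod.total, Ext.mk₀_id_comp]

include hR in
lemma mv_exact₂ {n : ℕ} (y₁ : Ext Q₂ F n) (y₂ : Ext Q₃ F n) :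
    (Ext.mk₀ p₁₂).comp y₁ (zero_add n) - (Ext.mk₀ p₁₃).comp y₂ (zero_add n) = 0 ↔
      ∃ x : Ext Q₄ F n, (Ext.mk₀ p₂₄).comp x (zero_add n) = y₁ ∧
        (Ext.mk₀ p₃₄).comp x (zero_add n) = y₂ := by
  constructor
  · intro h
    let x₂ : Ext (Q₂ ⊞ Q₃) F n := (Ext.mk₀ biprod.fst).comp y₁ (zero_add n) +
      (Ext.mk₀ biprod.snd).comp y₂ (zero_add n)
    have hx₂ : (Ext.mk₀ (biprod.lift p₁₂ (-p₁₃))).comp x₂ (zero_add n) = 0 := by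
      dsimp only [x₂]
      rw [Ext.comp_add, Ext.mk₀_comp_mk₀_assoc, Ext.mk₀_comp_mk₀_assoc, biprod.lift_fst,
        biprod.lift_snd, Ext.mk₀_neg, Ext.neg_comp, ← sub_eq_add_neg]
      exact h
    obtain ⟨x, hx⟩ := Ext.contravariant_sequence_exact₂ hR F x₂ hx₂
    refine ⟨x, ?_, ?_⟩
    · have := congrArg (fun t => (Ext.mk₀ biprod.inl).comp t (zero_add n)) hx
      dsimp only [x₂] at this
      rw [Ext.mk₀_comp_mk₀_assoc, biprod.inl_desc, Ext.comp_add, Ext.mk₀_comp_mk₀_assoc,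
        Ext.mk₀_comp_mk₀_assoc, biprod.inl_fst, biprod.inl_snd, Ext.mk₀_id_comp, Ext.mk₀_zero,
        Ext.zero_comp, add_zero] at this
      exact this
    · have := congrArg (fun t => (Ext.mk₀ biprod.inr).comp t (zero_add n)) hx
      dsimp only [x₂] at this
      rw [Ext.mk₀_comp_mk₀_assoc, biprod.inr_desc, Ext.comp_add, Ext.mk₀_comp_mk₀_assoc,
        Ext.mk₀_comp_mk₀_assoc, biprod.inr_fst, biprod.inr_snd, Ext.mk₀_id_comp, Ext.mk₀_zero,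
        Ext.zero_comp, zero_add] at this
      exact this
  · rintro ⟨x, rfl, rfl⟩
    rw [Ext.mk₀_comp_mk₀_assoc, Ext.mk₀_comp_mk₀_assoc, sub_eq_add_neg, ← Ext.neg_comp,
      ← Ext.mk₀_neg, ← Ext.add_comp, ← Ext.mk₀_add]
    have h0 : p₁₂ ≫ p₂₄ + -(p₁₃ ≫ p₃₄) = 0 := by
      have := zero
      rw [biprod.lift_desc, Preadditive.neg_comp] at this
      exact this
    rw [h0, Ext.mk₀_zero, Ext.zero_comp]

lemma f_comp {n : ℕ} (y₁ : Ext Q₂ F n) (y₂ : Ext Q₃ F n) :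
    (Ext.mk₀ (biprod.lift p₁₂ (-p₁₃))).comp ((Ext.mk₀ biprod.fst).comp y₁ (zero_add n) +
      (Ext.mk₀ biprod.snd).comp y₂ (zero_add n)) (zero_add n) =
    (Ext.mk₀ p₁₂).comp y₁ (zero_add n) - (Ext.mk₀ p₁₃).comp y₂ (zero_add n) := by
  rw [Ext.comp_add, Ext.mk₀_comp_mk₀_assoc, Ext.mk₀_comp_mk₀_assoc, biprod.lift_fst,
    biprod.lift_snd, Ext.mk₀_neg, Ext.neg_comp, ← sub_eq_add_neg]

include hR in
lemma mv_exact₁ {n : ℕ} (w : Ext Q₁ F n) :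
    hR.extClass.comp w (add_comm 1 n) = 0 ↔
      ∃ (y₁ : Ext Q₂ F n) (y₂ : Ext Q₃ F n),
        (Ext.mk₀ p₁₂).comp y₁ (zero_add n) - (Ext.mk₀ p₁₃).comp y₂ (zero_add n) = w := by
  constructor
  · intro h
    obtain ⟨x₂, hx₂⟩ := Ext.contravariant_sequence_exact₁ hR F w (add_comm 1 n) h
    refine ⟨(Ext.mk₀ biprod.inl).comp x₂ (zero_add n), (Ext.mk₀ biprod.inr).comp x₂ (zero_add n), ?_⟩
    rw [← f_comp, ← ext_biprod_decomp]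
    exact hx₂
  · rintro ⟨y₁, y₂, rfl⟩
    rw [← f_comp]
    exact hR.extClass_comp_assoc _

include hR in
lemma mv_exact₃ {n : ℕ} (x : Ext Q₄ F (n + 1)) :
    ((Ext.mk₀ p₂₄).comp x (zero_add (n + 1)) = 0 ∧ (Ext.mk₀ p₃₄).comp x (zero_add (n + 1)) = 0) ↔
      ∃ w : Ext Q₁ F n, hR.extClass.comp w (add_comm 1 n) = x := by
  constructor
  · rintro ⟨h₁, h₂⟩
    have hg : (Ext.mk₀ (biprod.desc p₂₄ p₃₄)).comp x (zero_add (n + 1)) = 0 := by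
      have hi : (Ext.mk₀ biprod.inl).comp ((Ext.mk₀ (biprod.desc p₂₄ p₃₄)).comp x
          (zero_add (n + 1))) (zero_add (n + 1)) = 0 := by
        rw [Ext.mk₀_comp_mk₀_assoc, biprod.inl_desc, h₁]
      have hr : (Ext.mk₀ biprod.inr).comp ((Ext.mk₀ (biprod.desc p₂₄ p₃₄)).comp x
          (zero_add (n + 1))) (zero_add (n + 1)) = 0 := by
        rw [Ext.mk₀_comp_mk₀_assoc, biprod.inr_desc, h₂]
      rw [ext_biprod_decomp F ((Ext.mk₀ (biprod.desc p₂₄ p₃₄)).comp x (zero_add (n + 1))),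
        hi, hr, Ext.comp_zero, Ext.comp_zero, add_zero]
    exact Ext.contravariant_sequence_exact₃ hR F x hg (add_comm 1 n)
  · rintro ⟨w, rfl⟩
    have hg := hR.comp_extClass_assoc w (add_comm 1 n)
    constructor
    · have := congrArg (fun t => (Ext.mk₀ biprod.inl).comp t (zero_add (n + 1))) hg
      dsimp only at this
      rw [Ext.mk₀_comp_mk₀_assoc, biprod.inl_desc, Ext.comp_zero] at this
      exact this
    · have := congrArg (fun t => (Ext.mk₀ biprod.inr).comp t (zero_add (n + 1))) hg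
      dsimp only at this
      rw [Ext.mk₀_comp_mk₀_assoc, biprod.inr_desc, Ext.comp_zero] at this
      exact this


end PartB


section Biprod
universe v₁ u₁
variable {A : Type u₁} [Category.{v₁} A] [Abelian A]

/-- cokernel of a `biprod.map` is the `biprod.map` of the cokernels. -/
noncomputable def isColimitBiprodMap {A₁ A₂ B₁ B₂ Q₁ Q₂ : A} (f₁ : A₁ ⟶ B₁) (f₂ : A₂ ⟶ B₂)
    (π₁ : B₁ ⟶ Q₁) (π₂ : B₂ ⟶ Q₂) (w₁ : f₁ ≫ π₁ = 0) (w₂ : f₂ ≫ π₂ = 0)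
    (h₁ : IsColimit (CokernelCofork.ofπ π₁ w₁)) (h₂ : IsColimit (CokernelCofork.ofπ π₂ w₂))
    (w : biprod.map f₁ f₂ ≫ biprod.map π₁ π₂ = 0) :
    IsColimit (CokernelCofork.ofπ (biprod.map π₁ π₂) w) :=
  CokernelCofork.IsColimit.ofπ _ _
    (fun t ht => biprod.desc
      (CokernelCofork.IsColimit.desc' h₁ (biprod.inl ≫ t) (by
        have := congrArg (fun s => biprod.inl ≫ s) ht
        simpa using this)).1
      (CokernelCofork.IsColimit.desc' h₂ (biprod.inr ≫ t) (by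
        have := congrArg (fun s => biprod.inr ≫ s) ht
        simpa using this)).1)
    (fun t ht => by
      apply biprod.hom_ext'
      · rw [biprod.inl_map_assoc, biprod.inl_desc]
        exact (CokernelCofork.IsColimit.desc' h₁ (biprod.inl ≫ t) _).2
      · rw [biprod.inr_map_assoc, biprod.inr_desc]
        exact (CokernelCofork.IsColimit.desc' h₂ (biprod.inr ≫ t) _).2)
    (fun t ht m hm => by
      have e₁ : Epi π₁ := epi_of_isColimit_cofork h₁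
      have e₂ : Epi π₂ := epi_of_isColimit_cofork h₂
      apply biprod.hom_ext'
      · rw [biprod.inl_desc, ← cancel_epi π₁]
        refine Eq.trans ?_ (CokernelCofork.IsColimit.desc' h₁ (biprod.inl ≫ t) _).2.symm
        rw [← hm, biprod.inl_map_assoc]
      · rw [biprod.inr_desc, ← cancel_epi π₂]
        refine Eq.trans ?_ (CokernelCofork.IsColimit.desc' h₂ (biprod.inr ≫ t) _).2.symm
        rw [← hm, biprod.inr_map_assoc])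

end Biprod

section AbstractMV
universe v₁ u₁
variable {A : Type u₁} [Category.{v₁} A] [Abelian A]
  {Z Z₁ Z₂ Z₃ Z₄ Q₁ Q₂ Q₃ Q₄ : A}
  (j₁ : Z₁ ⟶ Z) (j₂ : Z₂ ⟶ Z) (j₃ : Z₃ ⟶ Z) (j₄ : Z₄ ⟶ Z)
  (i₁₂ : Z₁ ⟶ Z₂) (i₁₃ : Z₁ ⟶ Z₃) (i₂₄ : Z₂ ⟶ Z₄) (i₃₄ : Z₃ ⟶ Z₄)
  (c₁₂ : i₁₂ ≫ j₂ = j₁) (c₁₃ : i₁₃ ≫ j₃ = j₁) (c₂₄ : i₂₄ ≫ j₄ = j₂) (c₃₄ : i₃₄ ≫ j₄ = j₃)
  (z : biprod.lift i₁₂ (-i₁₃) ≫ biprod.desc i₂₄ i₃₄ = 0)
  (hL₁ : (ShortComplex.mk (biprod.lift i₁₂ (-i₁₃)) (biprod.desc i₂₄ i₃₄) z).ShortExact)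
  (π₁ : Z ⟶ Q₁) (π₂ : Z ⟶ Q₂) (π₃ : Z ⟶ Q₃) (π₄ : Z ⟶ Q₄)
  (w₁ : j₁ ≫ π₁ = 0) (w₂ : j₂ ≫ π₂ = 0) (w₃ : j₃ ≫ π₃ = 0) (w₄ : j₄ ≫ π₄ = 0)
  (h₁ : IsColimit (CokernelCofork.ofπ π₁ w₁)) (h₂ : IsColimit (CokernelCofork.ofπ π₂ w₂))
  (h₃ : IsColimit (CokernelCofork.ofπ π₃ w₃)) (h₄ : IsColimit (CokernelCofork.ofπ π₄ w₄))
  (p₁₂ : Q₁ ⟶ Q₂) (p₁₃ : Q₁ ⟶ Q₃) (p₂₄ : Q₂ ⟶ Q₄) (p₃₄ : Q₃ ⟶ Q₄)
  (hp₁₂ : π₁ ≫ p₁₂ = π₂) (hp₁₃ : π₁ ≫ p₁₃ = π₃) (hp₂₄ : π₂ ≫ p₂₄ = π₄) (hp₃₄ : π₃ ≫ p₃₄ = π₄)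

/-- the constant row `Z ⟶ Z ⊞ Z ⟶ Z` -/
noncomputable def L₂ (Z : A) : ShortComplex A :=
  ShortComplex.mk (biprod.lift (𝟙 Z) (-𝟙 Z)) (biprod.desc (𝟙 Z) (𝟙 Z)) (by simp)

lemma L₂_id (Z : A) :
    biprod.fst ≫ biprod.lift (𝟙 Z) (-𝟙 Z) + biprod.desc (𝟙 Z) (𝟙 Z) ≫ biprod.inr = 𝟙 (Z ⊞ Z) := by
  apply biprod.hom_ext' <;> apply biprod.hom_ext <;>
    simp [Preadditive.comp_add, Preadditive.add_comp]

noncomputable def L₂_splitting (Z : A) : (L₂ Z).Splitting where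
  r := biprod.fst
  s := biprod.inr
  f_r := by simp [L₂]
  s_g := by simp [L₂]
  id := L₂_id _

lemma L₂_shortExact (Z : A) : (L₂ Z).ShortExact := (L₂_splitting Z).shortExact

include c₁₂ c₁₃ c₂₄ c₃₄ in
/-- the morphism from the Mayer–Vietoris row to the constant row -/
noncomputable def φ₁₂ :
    ShortComplex.mk (biprod.lift i₁₂ (-i₁₃)) (biprod.desc i₂₄ i₃₄) z ⟶ L₂ Z where
  τ₁ := j₁
  τ₂ := biprod.map j₂ j₃
  τ₃ := j₄
  comm₁₂ := by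
    dsimp [L₂]
    apply biprod.hom_ext
    · simp only [Category.assoc, biprod.lift_fst, biprod.map_fst, biprod.lift_fst_assoc,
        Category.comp_id]
      exact c₁₂.symm
    · simp only [Category.assoc, biprod.lift_snd, biprod.map_snd, biprod.lift_snd_assoc,
        Category.comp_id, Preadditive.comp_neg, Preadditive.neg_comp, neg_inj]
      exact c₁₃.symm
  comm₂₃ := by
    dsimp [L₂]
    apply biprod.hom_ext'
    · simp only [biprod.inl_map_assoc, biprod.inl_desc, biprod.inl_desc_assoc, Category.comp_id]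
      exact c₂₄.symm
    · simp only [biprod.inr_map_assoc, biprod.inr_desc, biprod.inr_desc_assoc, Category.comp_id]
      exact c₃₄.symm

include h₁ hp₁₂ hp₁₃ hp₂₄ hp₃₄ in
lemma R_zero : biprod.lift p₁₂ (-p₁₃) ≫ biprod.desc p₂₄ p₃₄ = 0 := by
  have : Epi π₁ := epi_of_isColimit_cofork h₁
  rw [biprod.lift_desc, Preadditive.neg_comp, ← sub_eq_add_neg, sub_eq_zero, ← cancel_epi π₁]
  rw [reassoc_of% hp₁₂, reassoc_of% hp₁₃, hp₂₄, hp₃₄]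

include hp₁₂ hp₁₃ hp₂₄ hp₃₄ in
noncomputable def q₂₃ (zero : biprod.lift p₁₂ (-p₁₃) ≫ biprod.desc p₂₄ p₃₄ = 0) :
    L₂ Z ⟶ ShortComplex.mk (biprod.lift p₁₂ (-p₁₃)) (biprod.desc p₂₄ p₃₄) zero where
  τ₁ := π₁
  τ₂ := biprod.map π₂ π₃
  τ₃ := π₄
  comm₁₂ := by
    dsimp [L₂]
    apply biprod.hom_ext
    · simp only [Category.assoc, biprod.lift_fst, biprod.map_fst, biprod.lift_fst_assoc,
        Category.id_comp]
      exact hp₁₂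
    · simp only [Category.assoc, biprod.lift_snd, biprod.map_snd, biprod.lift_snd_assoc,
        Category.id_comp, Preadditive.comp_neg, Preadditive.neg_comp, neg_inj]
      exact hp₁₃
  comm₂₃ := by
    dsimp [L₂]
    apply biprod.hom_ext'
    · simp only [biprod.inl_map_assoc, biprod.inl_desc, biprod.inl_desc_assoc, Category.id_comp]
      exact hp₂₄
    · simp only [biprod.inr_map_assoc, biprod.inr_desc, biprod.inr_desc_assoc, Category.id_comp]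
      exact hp₃₄

include c₁₂ c₁₃ c₂₄ c₃₄ hL₁ h₁ h₂ h₃ h₄ hp₁₂ hp₁₃ hp₂₄ hp₃₄ in
theorem R_shortExact [Mono j₄] (zero : biprod.lift p₁₂ (-p₁₃) ≫ biprod.desc p₂₄ p₃₄ = 0) :
    (ShortComplex.mk (biprod.lift p₁₂ (-p₁₃)) (biprod.desc p₂₄ p₃₄) zero).ShortExact := by
  have : Mono (φ₁₂ j₁ j₂ j₃ j₄ i₁₂ i₁₃ i₂₄ i₃₄ c₁₂ c₁₃ c₂₄ c₃₄ z).τ₃ := ‹Mono j₄›
  have w₂' : biprod.map j₂ j₃ ≫ biprod.map π₂ π₃ = 0 := by
    apply biprod.hom_ext' <;> simp [reassoc_of% w₂, reassoc_of% w₃]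
  exact shortExact_of_cokernel _ (L₂ Z) _ (φ₁₂ j₁ j₂ j₃ j₄ i₁₂ i₁₃ i₂₄ i₃₄ c₁₂ c₁₃ c₂₄ c₃₄ z)
    (q₂₃ π₁ π₂ π₃ π₄ p₁₂ p₁₃ p₂₄ p₃₄ hp₁₂ hp₁₃ hp₂₄ hp₃₄ zero)
    hL₁ (L₂_shortExact Z) w₁ w₂' w₄ h₁ (isColimitBiprodMap j₂ j₃ π₂ π₃ w₂ w₃ h₂ h₃ w₂') h₄

end AbstractMV

section Concrete
variable {X : TopCat.{u}}

/-- `ℤ_W ⟶ ℤ_X` -/
noncomputable abbrev jt (W : Opens X) :
    CohCx.freeSheaf (Opens.grothendieckTopology X) W ⟶
      CohCx.freeSheaf (Opens.grothendieckTopology X) (⊤ : Opens X) :=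
  CohCx.freeSheafMap (Opens.grothendieckTopology X) (homOfLE (le_top : W ≤ ⊤))

/-- `ℤ_W ⟶ ℤ_V` -/
noncomputable abbrev jm {W V : Opens X} (h : W ≤ V) :
    CohCx.freeSheaf (Opens.grothendieckTopology X) W ⟶
      CohCx.freeSheaf (Opens.grothendieckTopology X) V :=
  CohCx.freeSheafMap (Opens.grothendieckTopology X) (homOfLE h)

lemma jm_jt {W V : Opens X} (h : W ≤ V) : jm h ≫ jt V = jt W := by
  dsimp only [jm, jt]
  rw [← CohFree.freeSheafMap_comp]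
  rfl

/-- the projection `ℤ_X ⟶ ℤ_X/ℤ_W` -/
noncomputable abbrev pq (W : Opens X) :
    CohCx.freeSheaf (Opens.grothendieckTopology X) (⊤ : Opens X) ⟶ zq (le_top : W ≤ ⊤) :=
  cokernel.π (jt W)

lemma pq_zqMap {W W' : Opens X} (hW : W' ≤ W) :
    pq W' ≫ zqMap (le_top : W ≤ ⊤) (le_top : W' ≤ ⊤) hW le_rfl = pq W := by
  dsimp only [pq, zqMap]
  rw [cokernel.π_desc]
  have : CohCx.freeSheafMap (Opens.grothendieckTopology X) (homOfLE (le_rfl : (⊤ : Opens X) ≤ ⊤)) =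
      𝟙 _ := CohFree.freeSheafMap_id _ _
  rw [this, Category.id_comp]

instance epi_zqMap {W W' : Opens X} (hW : W' ≤ W) :
    Epi (zqMap (le_top : W ≤ ⊤) (le_top : W' ≤ ⊤) hW le_rfl) :=
  epi_of_epi_fac (pq_zqMap hW)

variable (U U' : Opens X)

lemma L₁_zero : biprod.lift (jm (inf_le_left : U ⊓ U' ≤ U)) (-(jm (inf_le_right : U ⊓ U' ≤ U'))) ≫
    biprod.desc (jm (le_sup_left : U ≤ U ⊔ U')) (jm (le_sup_right : U' ≤ U ⊔ U')) = 0 :=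
  (Opens.mayerVietorisSquare U U').shortComplex.zero

lemma L₁_shortExact : (ShortComplex.mk
    (biprod.lift (jm (inf_le_left : U ⊓ U' ≤ U)) (-(jm (inf_le_right : U ⊓ U' ≤ U'))))
    (biprod.desc (jm (le_sup_left : U ≤ U ⊔ U')) (jm (le_sup_right : U' ≤ U ⊔ U')))
    (L₁_zero U U')).ShortExact :=
  (Opens.mayerVietorisSquare U U').shortComplex_shortExact

/-- abbreviations for the four change-of-support maps -/
noncomputable abbrev p₁₂ : zq (le_top : U ⊓ U' ≤ ⊤) ⟶ zq (le_top : U ≤ ⊤) :=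
  zqMap (le_top : U ≤ ⊤) (le_top : U ⊓ U' ≤ ⊤) inf_le_left le_rfl
noncomputable abbrev p₁₃ : zq (le_top : U ⊓ U' ≤ ⊤) ⟶ zq (le_top : U' ≤ ⊤) :=
  zqMap (le_top : U' ≤ ⊤) (le_top : U ⊓ U' ≤ ⊤) inf_le_right le_rfl
noncomputable abbrev p₂₄ : zq (le_top : U ≤ ⊤) ⟶ zq (le_top : U ⊔ U' ≤ ⊤) :=
  zqMap (le_top : U ⊔ U' ≤ ⊤) (le_top : U ≤ ⊤) le_sup_left le_rfl
noncomputable abbrev p₃₄ : zq (le_top : U' ≤ ⊤) ⟶ zq (le_top : U ⊔ U' ≤ ⊤) :=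
  zqMap (le_top : U ⊔ U' ≤ ⊤) (le_top : U' ≤ ⊤) le_sup_right le_rfl

lemma Rc_zero : biprod.lift (p₁₂ U U') (-(p₁₃ U U')) ≫ biprod.desc (p₂₄ U U') (p₃₄ U U') = 0 :=
  R_zero (w₁ := cokernel.condition _) (h₁ := cokernelIsCokernel (jt (U ⊓ U'))) (π₂ := pq U) (π₃ := pq U') (π₄ := pq (U ⊔ U'))
    (hp₁₂ := pq_zqMap _) (hp₁₃ := pq_zqMap _) (hp₂₄ := pq_zqMap _) (hp₃₄ := pq_zqMap _)

theorem Rc_shortExact : (ShortComplex.mk (biprod.lift (p₁₂ U U') (-(p₁₃ U U')))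
    (biprod.desc (p₂₄ U U') (p₃₄ U U')) (Rc_zero U U')).ShortExact := by
  have : Mono (jt (U ⊔ U')) := (zqSeq_shortExact (le_top : U ⊔ U' ≤ ⊤)).mono_f
  exact R_shortExact (j₁ := jt (U ⊓ U')) (j₂ := jt U) (j₃ := jt U') (j₄ := jt (U ⊔ U'))
    (c₁₂ := jm_jt _) (c₁₃ := jm_jt _) (c₂₄ := jm_jt _) (c₃₄ := jm_jt _) (z := L₁_zero U U')
    (hL₁ := L₁_shortExact U U')
    (w₁ := cokernel.condition _) (w₂ := cokernel.condition _) (w₃ := cokernel.condition _)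
    (w₄ := cokernel.condition _)
    (h₁ := cokernelIsCokernel (jt (U ⊓ U'))) (h₂ := cokernelIsCokernel (jt U))
    (h₃ := cokernelIsCokernel (jt U')) (h₄ := cokernelIsCokernel (jt (U ⊔ U')))
    (hp₁₂ := pq_zqMap _) (hp₁₃ := pq_zqMap _) (hp₂₄ := pq_zqMap _) (hp₃₄ := pq_zqMap _)
    (zero := Rc_zero U U')

end Concrete



/-- Let X be a topological space, F an abelian sheaf on X, and U, U' open subsets with closed
complements Z = X ∖ U and Z' = X ∖ U' (so Z ∩ Z' = X ∖ (U ∪ U') and Z ∪ Z' = X ∖ (U ∩ U')). With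
H^i_{X∖W}(X, F) = Ext^i(Z_X/Z_W, F) and the enlargement-of-support maps r : H^i_{Z∩Z'} → H^i_Z, r' :
H^i_{Z∩Z'} → H^i_{Z'}, s : H^i_Z → H^i_{Z∪Z'}, s' : H^i_{Z'} → H^i_{Z∪Z'}: the map H^0_{Z∩Z'} →
H^0_Z ⊕ H^0_{Z'}, x ↦ (r x, r' x), is injective, and there are connecting homomorphisms δ_i :
H^i_{Z∪Z'}(X, F) → H^{i+1}_{Z∩Z'}(X, F) such that for every i the sequence H^i_{Z∩Z'} → H^i_Z ⊕
H^i_{Z'} → H^i_{Z∪Z'} → H^{i+1}_{Z∩Z'} → H^{i+1}_Z ⊕ H^{i+1}_{Z'} is exact, the middle map being (y,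
y') ↦ s y − s' y'. -/
theorem result {X : TopCat.{u}} (F : CohTop.Ab X) (U U' : Opens X) :
    Function.Injective (fun x : LocCohZ.HZc F 0 (U ⊔ U') =>
      (LocCohZ.resZ F 0 (le_top : U ⊔ U' ≤ ⊤) (le_top : U ≤ ⊤) le_sup_left le_rfl x,
       LocCohZ.resZ F 0 (le_top : U ⊔ U' ≤ ⊤) (le_top : U' ≤ ⊤) le_sup_right le_rfl x)) ∧
    ∃ δ : ∀ i : ℕ, LocCohZ.HZc F i (U ⊓ U') →+ LocCohZ.HZc F (i + 1) (U ⊔ U'),
      ∀ i : ℕ,
        (∀ y : LocCohZ.HZc F i U × LocCohZ.HZc F i U',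
          LocCohZ.resZ F i (le_top : U ≤ ⊤) (le_top : U ⊓ U' ≤ ⊤) inf_le_left le_rfl y.1 -
              LocCohZ.resZ F i (le_top : U' ≤ ⊤) (le_top : U ⊓ U' ≤ ⊤) inf_le_right le_rfl y.2 = 0 ↔
            ∃ x : LocCohZ.HZc F i (U ⊔ U'),
              LocCohZ.resZ F i (le_top : U ⊔ U' ≤ ⊤) (le_top : U ≤ ⊤) le_sup_left le_rfl x = y.1 ∧
              LocCohZ.resZ F i (le_top : U ⊔ U' ≤ ⊤) (le_top : U' ≤ ⊤) le_sup_right le_rfl x = y.2) ∧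
        (∀ w : LocCohZ.HZc F i (U ⊓ U'),
          δ i w = 0 ↔ ∃ y : LocCohZ.HZc F i U × LocCohZ.HZc F i U',
            LocCohZ.resZ F i (le_top : U ≤ ⊤) (le_top : U ⊓ U' ≤ ⊤) inf_le_left le_rfl y.1 -
              LocCohZ.resZ F i (le_top : U' ≤ ⊤) (le_top : U ⊓ U' ≤ ⊤) inf_le_right le_rfl y.2 = w) ∧
        (∀ x : LocCohZ.HZc F (i + 1) (U ⊔ U'),
          (LocCohZ.resZ F (i + 1) (le_top : U ⊔ U' ≤ ⊤) (le_top : U ≤ ⊤) le_sup_left le_rfl x = 0 ∧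
            LocCohZ.resZ F (i + 1) (le_top : U ⊔ U' ≤ ⊤) (le_top : U' ≤ ⊤) le_sup_right le_rfl x = 0) ↔
            ∃ w : LocCohZ.HZc F i (U ⊓ U'), δ i w = x) := by
  refine ⟨?_, fun i => (Rc_shortExact U U').extClass.precomp F (add_comm 1 i), fun i => ⟨?_, ?_, ?_⟩⟩
  · intro x x' h
    have h1 := congrArg Prod.fst h
    exact Abelian.Ext.precomp_mk₀_injective_of_epi F (p₂₄ U U') h1
  · intro y
    exact mv_exact₂ (p₁₂ U U') (p₁₃ U U') (p₂₄ U U') (p₃₄ U U') (Rc_zero U U') (Rc_shortExact U U') F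
      y.1 y.2
  · intro w
    refine (mv_exact₁ (p₁₂ U U') (p₁₃ U U') (p₂₄ U U') (p₃₄ U U') (Rc_zero U U')
      (Rc_shortExact U U') F w).trans ⟨?_, ?_⟩
    · rintro ⟨y₁, y₂, h⟩
      exact ⟨(y₁, y₂), h⟩
    · rintro ⟨y, h⟩
      exact ⟨y.1, y.2, h⟩
  · intro x
    exact mv_exact₃ (p₁₂ U U') (p₁₃ U U') (p₂₄ U U') (p₃₄ U U') (Rc_zero U U') (Rc_shortExact U U') F x

end Groth.Agent.S16287
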