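import Groth.Statements.S16288
import Groth.Agent.Lib.Helper75.FlatCx14

set_option autoImplicit false
universe u
open CategoryTheory
open FlatCx

namespace Groth.Agent.S16288

/-- Let A be a Noetherian ring and P a chain complex of finitely generated flat A-modules, and for p and
a point x of Spec A let d_p(x) = dim_{k(x)} H_p(P ⊗_A k(x)). Fix p and a point z. If d_{p-1} and
d_{p+1} are constant on some neighbourhood of z, then d_p is constant on some neighbourhood of z.
(The published assertion concerns the function y ↦ dim H^p(X_y, F_y) for a coherent sheaf F flat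
over a projective morphism of Noetherian schemes X → Y: if it is not constant near a point, then the
functions for p - 1 and p + 1 are not both constant near that point. Stated here is the
corresponding property for any chain complex of finitely generated flat modules over a Noetherian
ring, from which the published form follows by applying it to a finite complex of such modules
computing the cohomology of the fibres.) -/
theorem result {A : Type u} [CommRing A] [IsNoetherianRing A]
    (P : ChainComplex (ModuleCat.{u} A) ℤ) (hP : ∀ i, Module.Finite A (P.X i) ∧ Module.Flat A (P.X i))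
    (p : ℤ) (z : PrimeSpectrum A)
    (hlo : ∀ᶠ x in nhds z, CohIII.dRank P (p - 1) x = CohIII.dRank P (p - 1) z)
    (hhi : ∀ᶠ x in nhds z, CohIII.dRank P (p + 1) x = CohIII.dRank P (p + 1) z) :
    ∀ᶠ x in nhds z, CohIII.dRank P p x = CohIII.dRank P p z := by
  have hfin : ∀ i, Module.Finite A (P.X i) := fun i => (hP i).1
  have hflat : ∀ i, Module.Flat A (P.X i) := fun i => (hP i).2
  have e1 : ∀ x, CohIII.dRank P (p + 1) x + Groth.Agent.Lib.Helper75.FlatCx.xRank P p x =
      Groth.Agent.Lib.Helper75.FlatCx.wRank P (p + 1) x + Groth.Agent.Lib.Helper75.FlatCx.wRank P p x :=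
    fun x => Groth.Agent.Lib.Helper75.FlatCx.dRank_add P (p + 1) p (by simp) x
  have e2 : ∀ x, CohIII.dRank P (p - 1) x + Groth.Agent.Lib.Helper75.FlatCx.xRank P (p - 1 - 1) x =
      Groth.Agent.Lib.Helper75.FlatCx.wRank P (p - 1) x + Groth.Agent.Lib.Helper75.FlatCx.wRank P (p - 1 - 1) x :=
    fun x => Groth.Agent.Lib.Helper75.FlatCx.dRank_add P (p - 1) (p - 1 - 1) (by simp) x
  have e3 : ∀ x, CohIII.dRank P p x + Groth.Agent.Lib.Helper75.FlatCx.xRank P (p - 1) x =
      Groth.Agent.Lib.Helper75.FlatCx.wRank P p x + Groth.Agent.Lib.Helper75.FlatCx.wRank P (p - 1) x :=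
    fun x => Groth.Agent.Lib.Helper75.FlatCx.dRank_add P p (p - 1) (by simp) x
  have h1 : ∀ᶠ x in nhds z, Groth.Agent.Lib.Helper75.FlatCx.wRank P (p + 1) x + Groth.Agent.Lib.Helper75.FlatCx.wRank P p x =
      Groth.Agent.Lib.Helper75.FlatCx.wRank P (p + 1) z + Groth.Agent.Lib.Helper75.FlatCx.wRank P p z := by
    filter_upwards [hhi, Groth.Agent.Lib.Helper75.FlatCx.eventually_xRank_eq P p z] with x hx1 hx2
    rw [← e1, ← e1, hx1, hx2]
  have h2 : ∀ᶠ x in nhds z, Groth.Agent.Lib.Helper75.FlatCx.wRank P (p - 1) x + Groth.Agent.Lib.Helper75.FlatCx.wRank P (p - 1 - 1) x =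
      Groth.Agent.Lib.Helper75.FlatCx.wRank P (p - 1) z + Groth.Agent.Lib.Helper75.FlatCx.wRank P (p - 1 - 1) z := by
    filter_upwards [hlo, Groth.Agent.Lib.Helper75.FlatCx.eventually_xRank_eq P (p - 1 - 1) z] with x hx1 hx2
    rw [← e2, ← e2, hx1, hx2]
  have h3 := (Groth.Agent.Lib.Helper75.FlatCx.eventually_wRank_eq_of_add P (p + 1) p z h1).2
  have h4 := (Groth.Agent.Lib.Helper75.FlatCx.eventually_wRank_eq_of_add P (p - 1) (p - 1 - 1) z h2).1
  filter_upwards [h3, h4, Groth.Agent.Lib.Helper75.FlatCx.eventually_xRank_eq P (p - 1) z] with x hx3 hx4 hx5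
  have := e3 x
  have := e3 z
  omega

end Groth.Agent.S16288
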