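import Groth.Statements.S1629
import Mathlib
import Groth.Agent.Lib.Helper51.InsepRed
import Groth.Agent.Lib.Helper51.FgField

set_option autoImplicit false
universe u
open CategoryTheory CategoryTheory.Limits AlgebraicGeometry
open Variety

namespace Groth.Agent.S1629

/-- Let X be a k-scheme locally of finite type, having only finitely many irreducible components. There
is then a finite purely inseparable extension k' of k for which the reduction of X_{k'} (the closed
subscheme defined by the nilradical) is geometrically reduced over k'. -/
theorem result (k : Type u) [Field k] (X : Scheme.{u}) [X.Over (Spec (CommRingCat.of k))] [LocallyOfFiniteType (X ↘ (Spec (CommRingCat.of k)))]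
    (hirr : (irreducibleComponents (X : Type u)).Finite) :
    ∃ (k' : Type u) (_ : Field k') (_ : Algebra k k'), FiniteDimensional k k' ∧ IsPurelyInseparable k k' ∧
      GeometricallyReduced ((Curv2.bc k X k').nilradical.subschemeι ≫ Curv2.bcSnd k X k') := by
  classical
  -- the finite set of generic points
  have hinj : Function.Injective (fun x : X => closure ({x} : Set X)) := by
    intro x y hxy
    have h1 : x ⤳ y := by
      rw [specializes_iff_closure_subset]; exact (Eq.symm hxy).le
    have h2 : y ⤳ x := by
      rw [specializes_iff_closure_subset]; exact (hxy).le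
    exact (h1.antisymm h2).eq
  have hfin : {x : X | closure ({x} : Set X) ∈ irreducibleComponents (X : Type u)}.Finite :=
    Set.Finite.preimage (Set.injOn_of_injective hinj) hirr
  letI algκ : ∀ x : X, Algebra k (X.residueField x) := fun x =>
    ((X.residue x).hom.comp ((X.presheaf.germ ⊤ x trivial).hom.comp
      (Coh.toGlobal (X ↘ (Spec (CommRingCat.of k)))))).toAlgebra
  have hess : ∀ x ∈ hfin.toFinset, Algebra.EssFiniteType k (X.residueField x) := fun x _ =>
    Groth.Agent.Lib.Helper51.essFiniteType_residueField (X ↘ (Spec (CommRingCat.of k))) x
      (Groth.Agent.Lib.Helper51.specMap_resMapOf _ x)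
  obtain ⟨F, hFfin, hFpi, hF⟩ := Groth.Agent.Lib.Helper51.exists_intermediateField_sepWitness k
    hfin.toFinset (fun x => X.residueField x) hess
  haveI := hFpi
  refine ⟨F, inferInstance, inferInstance, hFfin, hFpi, ?_⟩
  exact Groth.Agent.Lib.Helper51.geometricallyReduced_nilradical_of_sepWitness
    (X ↘ (Spec (CommRingCat.of k))) F (fun x hx => hF x (hfin.mem_toFinset.mpr hx))

end Groth.Agent.S1629
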