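import Groth.Statements.S16290
import Groth.Agent.Lib.Helper56.NodeDef4
import Groth.Agent.Lib.Helper56.NodeDef5
import Groth.Agent.Lib.Helper56.NodeAlg6
import Groth.Agent.S7414

set_option autoImplicit false
universe u
open CategoryTheory CategoryTheory.Limits AlgebraicGeometry
open Curves

namespace Groth.Agent.S16290

/-- Let f : T → S be a morphism of schemes, locally of finite type, t ∈ T a point with image s such that
f is flat at t and O_{S,s} is Noetherian. Suppose t is a node of the fibre T_s with residue field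
κ(s), taken in the form: t is a closed point of T_s and the completion of O_{T_s,t} is isomorphic,
compatibly with κ(s), to κ(s)[[u,v]]/(q) for a binary quadratic form q = a u^2 + b uv + c v^2 over
κ(s) with b^2 - 4ac ≠ 0 (q need not split). Then there are a binary quadratic form Q = a u^2 + b uv
+ c v^2 over the completion Â of O_{S,s} whose discriminant b^2 - 4ac is a unit of Â, an element h
of the maximal ideal of Â, and an isomorphism of the completion of O_{T,t} with Â[[u,v]]/(Q - h)
compatible with the maps from O_{S,s}. (The published statement assumes f is a nodal relative curve,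
i.e. flat, of finite presentation and of relative dimension one with nodal geometric fibres, over a
Noetherian base; here only f locally of finite type and flat at t with O_{S,s} Noetherian is
assumed, and the node is taken in completed form, which is what the argument uses.) -/
theorem result {T S : Scheme.{u}} (f : T ⟶ S) [LocallyOfFiniteType f] (t : T)
    [IsNoetherianRing (S.presheaf.stalk (f t))] (hfl : (f.stalkMap t).hom.Flat)
    (ht : letI : (f.fiber (f t)).Over (Spec (CommRingCat.of (S.residueField (f t)))) := ⟨f.fiberToSpecResidueField (f t)⟩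
      letI := Curv2.stalkAlgebra (S.residueField (f t)) (f.fiber (f t)) (f.asFiber t)
      IsClosed ({f.asFiber t} : Set (f.fiber (f t))) ∧
        ∃ a b c : S.residueField (f t), b ^ 2 - 4 * a * c ≠ 0 ∧
          ∃ e : Curv2.cpl ((f.fiber (f t)).presheaf.stalk (f.asFiber t)) ≃+*
              (MvPowerSeries (Fin 2) (S.residueField (f t)) ⧸ Ideal.span
                {(MvPowerSeries.C a * MvPowerSeries.X 0 ^ 2 + MvPowerSeries.C b * MvPowerSeries.X 0 * MvPowerSeries.X 1 +
                  MvPowerSeries.C c * MvPowerSeries.X 1 ^ 2 : MvPowerSeries (Fin 2) (S.residueField (f t)))}),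
            ∀ r : S.residueField (f t),
              e (algebraMap ((f.fiber (f t)).presheaf.stalk (f.asFiber t)) _
                  (algebraMap (S.residueField (f t)) ((f.fiber (f t)).presheaf.stalk (f.asFiber t)) r)) =
                Ideal.Quotient.mk _ (MvPowerSeries.C r)) :
    ∃ a b c : Curv2.cpl (S.presheaf.stalk (f t)), IsUnit (b ^ 2 - 4 * a * c) ∧
      ∃ h ∈ IsLocalRing.maximalIdeal (Curv2.cpl (S.presheaf.stalk (f t))),
        ∃ e : Curv2.cpl (T.presheaf.stalk t) ≃+*
            (MvPowerSeries (Fin 2) (Curv2.cpl (S.presheaf.stalk (f t))) ⧸ Ideal.span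
              {(MvPowerSeries.C a * MvPowerSeries.X 0 ^ 2 + MvPowerSeries.C b * MvPowerSeries.X 0 * MvPowerSeries.X 1 +
                MvPowerSeries.C c * MvPowerSeries.X 1 ^ 2 - MvPowerSeries.C h : MvPowerSeries (Fin 2) (Curv2.cpl (S.presheaf.stalk (f t))))}),
          ∀ r : S.presheaf.stalk (f t),
            e (algebraMap (T.presheaf.stalk t) (Curv2.cpl (T.presheaf.stalk t)) ((f.stalkMap t).hom r)) =
              Ideal.Quotient.mk _ (MvPowerSeries.C (algebraMap (S.presheaf.stalk (f t)) (Curv2.cpl (S.presheaf.stalk (f t))) r)) := by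
  classical
  obtain ⟨-, a₀, b₀, c₀, hdisc, eg, heg⟩ := ht
  letI alg : Algebra (S.presheaf.stalk (f t)) (T.presheaf.stalk t) := (f.stalkMap t).hom.toAlgebra
  haveI : IsLocalHom (algebraMap (S.presheaf.stalk (f t)) (T.presheaf.stalk t)) :=
    (inferInstance : IsLocalHom (f.stalkMap t).hom)
  haveI : Module.Flat (S.presheaf.stalk (f t)) (T.presheaf.stalk t) := hfl
  haveI : Algebra.EssFiniteType (S.presheaf.stalk (f t)) (T.presheaf.stalk t) :=
    LocallyOfFiniteType.stalkMap f t
  haveI : IsNoetherianRing (T.presheaf.stalk t) :=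
    Algebra.EssFiniteType.isNoetherianRing (S.presheaf.stalk (f t)) (T.presheaf.stalk t)
  haveI : Nontrivial ((T.presheaf.stalk t) ⧸ (IsLocalRing.maximalIdeal (S.presheaf.stalk (f t))).map
      (algebraMap (S.presheaf.stalk (f t)) (T.presheaf.stalk t))) :=
    (inferInstance : Nontrivial (Groth.Agent.Lib.Helper67.FiberStalk.Q f t))
  let σ := Groth.Agent.Lib.Helper67.FiberStalk.fiberStalkEquiv f t
  have hm : IsLocalRing.maximalIdeal (Groth.Agent.Lib.Helper67.FiberStalk.Q f t) =
      (IsLocalRing.maximalIdeal ((f.fiber (f t)).presheaf.stalk (f.asFiber t))).comap σ.symm := by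
    ext z
    rw [Ideal.mem_comap]
    exact (Groth.Agent.Lib.Helper56.NodeAlg.mem_maximalIdeal_equiv σ.symm z).symm
  let E₀ := Groth.Agent.S7414.adicEquiv _ _ σ.symm hm
  have hσ : ∀ r : S.presheaf.stalk (f t), σ.symm (Ideal.Quotient.mk _ ((f.stalkMap t).hom r)) =
      ((f.fiber (f t)).presheaf.germ ⊤ (f.asFiber t) trivial).hom
        ((Coh.toGlobal (f.fiberToSpecResidueField (f t))) (IsLocalRing.residue _ r)) := by
    intro r
    rw [RingEquiv.symm_apply_eq]
    have h1 := Groth.Agent.Lib.Helper56.NodeDef.stalkEquiv_algebraMap f t (f.asFiber t)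
      (f.fiberι_asFiber t) (IsLocalRing.residue _ r)
    have h2 := congrArg (fun φ => φ.hom r) (Groth.Agent.Lib.Helper67.FiberStalk.residue_ψ f t)
    exact (h2.symm.trans h1.symm).symm ▸ rfl
  obtain ⟨a, b, c, h, hu, hh, e, he⟩ := Groth.Agent.Lib.Helper56.NodeDef.concrete
    (R := S.presheaf.stalk (f t)) (C := T.presheaf.stalk t) a₀ b₀ c₀
    (by intro h0; apply hdisc; rw [sub_eq_zero] at h0 ⊢; exact h0.symm)
    (MvPowerSeries.C a₀ * MvPowerSeries.X 0 ^ 2 + MvPowerSeries.C b₀ * MvPowerSeries.X 0 * MvPowerSeries.X 1 +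
      MvPowerSeries.C c₀ * MvPowerSeries.X 1 ^ 2)
    (by unfold Groth.Agent.Lib.Helper56.NodeDef.T6; simp; try rfl)
    (E₀.trans eg)
    (by
      intro r
      have h1 : E₀ (AdicCompletion.of _ _ (Ideal.Quotient.mk _ ((f.stalkMap t).hom r))) =
          AdicCompletion.of _ _ (σ.symm (Ideal.Quotient.mk _ ((f.stalkMap t).hom r))) :=
        Groth.Agent.S7414.adicEquiv_of _ _ σ.symm hm _
      show eg (E₀ (AdicCompletion.of _ _ (Ideal.Quotient.mk _ ((f.stalkMap t).hom r)))) = _
      rw [h1, hσ]
      exact heg (IsLocalRing.residue _ r))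
  have hspan : Ideal.span {Groth.Agent.Lib.Helper56.NodeDef.T6 (-h) 0 0 a b c} =
      Ideal.span {(MvPowerSeries.C a * MvPowerSeries.X 0 ^ 2 + MvPowerSeries.C b * MvPowerSeries.X 0 * MvPowerSeries.X 1 +
        MvPowerSeries.C c * MvPowerSeries.X 1 ^ 2 - MvPowerSeries.C h :
          MvPowerSeries (Fin 2) (Curv2.cpl (S.presheaf.stalk (f t))))} := by
    congr 2
    unfold Groth.Agent.Lib.Helper56.NodeDef.T6
    simp only [map_neg, map_zero, zero_mul, add_zero]
    ring
  refine ⟨a, b, c, ?_, h, hh, e.trans (Ideal.quotEquivOfEq hspan), ?_⟩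
  · have := hu.neg
    rwa [neg_sub] at this
  · intro r
    rw [RingEquiv.trans_apply]
    have := he r
    rw [show algebraMap (S.presheaf.stalk (f t)) (T.presheaf.stalk t) r = (f.stalkMap t).hom r
      from rfl] at this
    rw [this]
    exact Ideal.quotEquivOfEq_mk _ _

end Groth.Agent.S16290
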