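import Groth.Statements.S16312
import Mathlib
-- import your own Groth.Agent.* helpers here

set_option autoImplicit false
universe u
open W4c3irrattreebun

namespace Groth.Agent.S16312

/-- Let N be a closed cone in real n-space, f a function continuous on N, positive at the nonzero points
of N and homogeneous of degree one under scaling by nonnegative reals, and Λ a discrete additive
subgroup. Then for every real c the set of points H of Λ lying in N with f(H) ≤ c is finite. (The
published statement takes Λ to be a lattice; this row allows any discrete additive subgroup.) -/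
theorem result (n : ℕ)
    (N : Set (EuclideanSpace ℝ (Fin n))) (hN : IsClosed N)
    (hcone : ∀ x ∈ N, ∀ r : ℝ, 0 ≤ r → r • x ∈ N)
    (f : EuclideanSpace ℝ (Fin n) → ℝ) (hf : ContinuousOn f N)
    (hpos : ∀ x ∈ N, x ≠ 0 → 0 < f x)
    (hhom : ∀ x ∈ N, ∀ r : ℝ, 0 ≤ r → f (r • x) = r * f x)
    (Λ : Submodule ℤ (EuclideanSpace ℝ (Fin n))) [DiscreteTopology Λ] (c : ℝ) :
    ({x : EuclideanSpace ℝ (Fin n) | x ∈ N ∧ f x ≤ c} ∩ (Λ : Set (EuclideanSpace ℝ (Fin n)))).Finite := by
  have hΛclosed : IsClosed (Λ : Set (EuclideanSpace ℝ (Fin n))) := by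
    haveI : DiscreteTopology Λ.toAddSubgroup := inferInstanceAs (DiscreteTopology Λ)
    rw [← Submodule.coe_toAddSubgroup]
    exact AddSubgroup.isClosed_of_discrete
  have hΛdisc : IsDiscrete (Λ : Set (EuclideanSpace ℝ (Fin n))) := DiscreteTopology.isDiscrete
  suffices hbdd : Bornology.IsBounded {x : EuclideanSpace ℝ (Fin n) | x ∈ N ∧ f x ≤ c} from
    Metric.finite_isBounded_inter_isClosed hΛdisc hbdd hΛclosed
  set S := N ∩ Metric.sphere (0 : EuclideanSpace ℝ (Fin n)) 1 with hS
  have hScompact : IsCompact S := (isCompact_sphere _ _).inter_left hN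
  have hnorm : ∀ x ∈ N, x ≠ 0 → (‖x‖⁻¹ • x) ∈ S := by
    intro x hx hx0
    refine ⟨hcone x hx _ (inv_nonneg.2 (norm_nonneg x)), ?_⟩
    rw [mem_sphere_zero_iff_norm, norm_smul, norm_inv, norm_norm,
      inv_mul_cancel₀ (norm_ne_zero_iff.2 hx0)]
  rcases S.eq_empty_or_nonempty with hSe | hSne
  · have hsub : {x : EuclideanSpace ℝ (Fin n) | x ∈ N ∧ f x ≤ c} ⊆ {0} := by
      rintro x ⟨hx, -⟩
      by_contra hx0
      have := hnorm x hx hx0
      rw [hSe] at this
      exact this
    exact (Bornology.isBounded_singleton).subset hsub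
  · obtain ⟨x₀, hx₀S, hx₀min⟩ := hScompact.exists_isMinOn hSne (hf.mono Set.inter_subset_left)
    have hx₀ne : x₀ ≠ 0 := by
      intro h0
      have := hx₀S.2
      rw [mem_sphere_zero_iff_norm, h0, norm_zero] at this
      exact zero_ne_one this
    have hδ : 0 < f x₀ := hpos x₀ hx₀S.1 hx₀ne
    have hbound : ∀ x ∈ N, f x ≤ c → ‖x‖ ≤ max (c / f x₀) 0 := by
      intro x hx hfx
      by_cases hx0 : x = 0
      · rw [hx0, norm_zero]; exact le_max_right _ _
      · have h1 := hnorm x hx hx0
        have h2 : f x₀ ≤ f (‖x‖⁻¹ • x) := hx₀min h1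
        have h3 : f x = ‖x‖ * f (‖x‖⁻¹ • x) := by
          have := hhom (‖x‖⁻¹ • x) h1.1 ‖x‖ (norm_nonneg x)
          rw [smul_smul, mul_inv_cancel₀ (norm_ne_zero_iff.2 hx0), one_smul] at this
          exact this
        have h4 : ‖x‖ * f x₀ ≤ c := by
          calc ‖x‖ * f x₀ ≤ ‖x‖ * f (‖x‖⁻¹ • x) := mul_le_mul_of_nonneg_left h2 (norm_nonneg x)
            _ = f x := h3.symm
            _ ≤ c := hfx
        refine le_trans ?_ (le_max_left _ _)
        rw [le_div_iff₀ hδ]
        exact h4
    refine (Metric.isBounded_closedBall (x := (0 : EuclideanSpace ℝ (Fin n)))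
      (r := max (c / f x₀) 0)).subset ?_
    rintro x ⟨hx, hfx⟩
    rw [mem_closedBall_zero_iff]
    exact hbound x hx hfx

end Groth.Agent.S16312
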