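import Groth.Statements.S16325
import Groth.Agent.Lib.Helper98.ModuleCatHomology

set_option autoImplicit false
universe u v
open CategoryTheory
open W4c3biextchow

namespace Groth.Agent.S16325

/-- Let f : C ⟶ D be a chain map of ℕ-indexed chain complexes of modules over a ring R, and consider the
functor it induces between the groupoids attached to C and D (objects: degree-0 elements; morphisms
a ⟶ b: degree-1 elements with boundary b - a, modulo boundaries of degree-2 elements). This functor
is faithful if and only if f is injective on homology in degree 1. (The published statement is for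
complexes of abelian groups; this row allows modules over any ring R.) -/
theorem result
    (R : Type u) [Ring R] (C D : ChainComplex (ModuleCat.{v} R) ℕ) (f : C ⟶ D) :
    (W4c3biextchow.cxFunctor f).Faithful ↔ Mono (HomologicalComplex.homologyMap f 1) := by
  rw [Groth.Agent.Lib.Helper98.ModuleCatHomology.mono_homologyMap_iff f 2 1 0 (by simp) (by simp)]
  constructor
  · intro hF x₂ hx₂ y₁ hy₁
    let a : W4c3biextchow.Obj C := ⟨0⟩
    let φ : a ⟶ a := ⟨Submodule.Quotient.mk x₂, by simp [a, hx₂]⟩
    have h : (W4c3biextchow.cxFunctor f).map φ = (W4c3biextchow.cxFunctor f).map (𝟙 a) := by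
      apply W4c3biextchow.Hom.ext
      simp only [W4c3biextchow.cxFunctor_map_cl, W4c3biextchow.id_cl, map_zero]
      change W4c3biextchow.q1Map f (Submodule.Quotient.mk x₂) = 0
      rw [W4c3biextchow.q1Map_mk, Submodule.Quotient.mk_eq_zero, hy₁]
      exact ⟨y₁, rfl⟩
    have h2 := hF.map_injective h
    have h3 : (Submodule.Quotient.mk x₂ : W4c3biextchow.Q1 C) = 0 :=
      congrArg W4c3biextchow.Hom.cl h2
    rw [Submodule.Quotient.mk_eq_zero] at h3
    exact h3
  · intro H
    refine ⟨fun {a b} φ ψ h => ?_⟩
    apply W4c3biextchow.Hom.ext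
    have h1 : W4c3biextchow.q1Map f (φ : W4c3biextchow.Hom C a b).cl =
        W4c3biextchow.q1Map f (ψ : W4c3biextchow.Hom C a b).cl :=
      congrArg W4c3biextchow.Hom.cl h
    have h2 : W4c3biextchow.delta C ((φ : W4c3biextchow.Hom C a b).cl -
        (ψ : W4c3biextchow.Hom C a b).cl) = 0 := by
      rw [map_sub, W4c3biextchow.Hom.delta_cl, W4c3biextchow.Hom.delta_cl, sub_self]
    have h3 : W4c3biextchow.q1Map f ((φ : W4c3biextchow.Hom C a b).cl -
        (ψ : W4c3biextchow.Hom C a b).cl) = 0 := by
      rw [map_sub, h1, sub_self]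
    obtain ⟨x, hx⟩ := Submodule.Quotient.mk_surjective _ ((φ : W4c3biextchow.Hom C a b).cl -
        (ψ : W4c3biextchow.Hom C a b).cl)
    rw [← hx, W4c3biextchow.delta_mk] at h2
    rw [← hx, W4c3biextchow.q1Map_mk, Submodule.Quotient.mk_eq_zero] at h3
    obtain ⟨y₁, hy₁⟩ := h3
    obtain ⟨x₁, hx₁⟩ := H x h2 y₁ hy₁.symm
    have h4 : (Submodule.Quotient.mk x : W4c3biextchow.Q1 C) = 0 := by
      rw [Submodule.Quotient.mk_eq_zero]
      exact ⟨x₁, hx₁⟩
    rw [hx] at h4
    exact sub_eq_zero.1 h4

end Groth.Agent.S16325
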