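import Groth.Statements.S16326
import Groth.Agent.Lib.Helper98.ModuleCatHomology

set_option autoImplicit false
universe u v
open CategoryTheory
open W4c3biextchow

namespace Groth.Agent.S16326

/-- Let f : C ⟶ D be a chain map of ℕ-indexed chain complexes of modules over a ring R, and consider the
functor it induces between the groupoids attached to C and D (objects: degree-0 elements; morphisms
a ⟶ b: degree-1 elements with boundary b - a, modulo boundaries of degree-2 elements). This functor
is full if and only if f is surjective on homology in degree 1 and injective on homology in degree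
0. (The published statement is for complexes of abelian groups; this row allows modules over any
ring R.) -/
theorem result
    (R : Type u) [Ring R] (C D : ChainComplex (ModuleCat.{v} R) ℕ) (f : C ⟶ D) :
    (W4c3biextchow.cxFunctor f).Full ↔
      Epi (HomologicalComplex.homologyMap f 1) ∧ Mono (HomologicalComplex.homologyMap f 0) := by
  rw [Groth.Agent.Lib.Helper98.ModuleCatHomology.epi_homologyMap_iff f 2 1 0 (by simp) (by simp),
    Groth.Agent.Lib.Helper98.ModuleCatHomology.mono_homologyMap_iff f 1 0 0 (by simp) (by simp)]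
  constructor
  · intro hF
    constructor
    · intro y₂ hy₂
      let a : W4c3biextchow.Obj C := ⟨0⟩
      let g : (W4c3biextchow.cxFunctor f).obj a ⟶ (W4c3biextchow.cxFunctor f).obj a :=
        ⟨Submodule.Quotient.mk y₂, by simp [hy₂]⟩
      obtain ⟨φ, hφ⟩ := hF.map_surjective g
      obtain ⟨x₂, hx₂⟩ := Submodule.Quotient.mk_surjective _ (φ : W4c3biextchow.Hom C a a).cl
      have h1 := (φ : W4c3biextchow.Hom C a a).delta_cl
      rw [← hx₂, W4c3biextchow.delta_mk, sub_self] at h1
      have h2 : W4c3biextchow.q1Map f (φ : W4c3biextchow.Hom C a a).cl =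
          Submodule.Quotient.mk y₂ := congrArg W4c3biextchow.Hom.cl hφ
      rw [← hx₂, W4c3biextchow.q1Map_mk, eq_comm, Submodule.Quotient.eq] at h2
      obtain ⟨y₁, hy₁⟩ := h2
      exact ⟨x₂, h1, y₁, by rw [hy₁]; abel⟩
    · intro x₂ _ y₁ hy₁
      let a : W4c3biextchow.Obj C := ⟨0⟩
      let b : W4c3biextchow.Obj C := ⟨x₂⟩
      let g : (W4c3biextchow.cxFunctor f).obj a ⟶ (W4c3biextchow.cxFunctor f).obj b :=
        ⟨Submodule.Quotient.mk y₁, by simp [a, b, hy₁]⟩
      obtain ⟨φ, _⟩ := hF.map_surjective g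
      obtain ⟨x₁, hx₁⟩ := Submodule.Quotient.mk_surjective _ (φ : W4c3biextchow.Hom C a b).cl
      have h1 := (φ : W4c3biextchow.Hom C a b).delta_cl
      rw [← hx₁, W4c3biextchow.delta_mk] at h1
      exact ⟨x₁, by rw [h1]; simp [a, b]⟩
  · rintro ⟨HE, HM⟩
    refine ⟨fun {a b} g => ?_⟩
    obtain ⟨y, hy⟩ := Submodule.Quotient.mk_surjective _ (g : W4c3biextchow.Hom D _ _).cl
    have h1 := (g : W4c3biextchow.Hom D _ _).delta_cl
    rw [← hy, W4c3biextchow.delta_mk] at h1
    have h1' : (D.d 1 0).hom y = (f.f 0).hom (b.pt - a.pt) := by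
      rw [h1, map_sub]; rfl
    have h0 : (C.d 0 0).hom (b.pt - a.pt) = 0 := by
      have h0 : C.d 0 0 = 0 := C.shape _ _ (by simp)
      rw [h0]; rfl
    obtain ⟨x, hx⟩ := HM (b.pt - a.pt) h0 y h1'.symm
    have hcomm : (D.d 1 0).hom ((f.f 1).hom x) = (f.f 0).hom ((C.d 1 0).hom x) := by
      have h := congrArg (fun φ => φ.hom x) (f.comm 1 0)
      simpa only [ModuleCat.hom_comp, LinearMap.comp_apply] using h
    have h2 : (D.d 1 0).hom ((f.f 1).hom x - y) = 0 := by
      rw [map_sub, hcomm, hx, h1', sub_self]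
    obtain ⟨x', hx', y₁, hy₁⟩ := HE _ h2
    refine ⟨⟨Submodule.Quotient.mk (x - x'), ?_⟩, ?_⟩
    · rw [W4c3biextchow.delta_mk, map_sub, hx, hx', sub_zero]
    · apply W4c3biextchow.Hom.ext
      change W4c3biextchow.q1Map f (Submodule.Quotient.mk (x - x')) = _
      rw [W4c3biextchow.q1Map_mk, ← hy, Submodule.Quotient.eq]
      refine ⟨y₁, ?_⟩
      rw [map_sub]
      have : (f.f 1).hom x = y + ((f.f 1).hom x' + (D.d 2 1).hom y₁) := by
        rw [← hy₁]; abel
      rw [this]; abel

end Groth.Agent.S16326
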