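import Groth.Statements.S16327
import Groth.Agent.Lib.Helper98.ModuleCatHomology

set_option autoImplicit false
universe u v
open CategoryTheory
open W4c3biextchow

namespace Groth.Agent.S16327

/-- Let f : C ⟶ D be a chain map of ℕ-indexed chain complexes of modules over a ring R, and consider the
functor it induces between the groupoids attached to C and D (objects: degree-0 elements; morphisms
a ⟶ b: degree-1 elements with boundary b - a, modulo boundaries of degree-2 elements). This functor
is essentially surjective if and only if f is surjective on homology in degree 0. (The published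
statement is for complexes of abelian groups; this row allows modules over any ring R.) -/
theorem result
    (R : Type u) [Ring R] (C D : ChainComplex (ModuleCat.{v} R) ℕ) (f : C ⟶ D) :
    (W4c3biextchow.cxFunctor f).EssSurj ↔ Epi (HomologicalComplex.homologyMap f 0) := by
  rw [Groth.Agent.Lib.Helper98.ModuleCatHomology.epi_homologyMap_iff f 1 0 0 (by simp) (by simp)]
  constructor
  · intro hF y₂ _
    obtain ⟨a, ⟨e⟩⟩ := hF.mem_essImage (⟨y₂⟩ : W4c3biextchow.Obj D)
    obtain ⟨y₁, hy₁⟩ := Submodule.Quotient.mk_surjective _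
      (e.hom : W4c3biextchow.Hom D _ _).cl
    have h := (e.hom : W4c3biextchow.Hom D _ _).delta_cl
    rw [← hy₁, W4c3biextchow.delta_mk] at h
    refine ⟨a.pt, ?_, y₁, ?_⟩
    · have h0 : C.d 0 0 = 0 := C.shape _ _ (by simp)
      rw [h0]; rfl
    · rw [h]
      change y₂ = (f.f 0).hom a.pt + (y₂ - (f.f 0).hom a.pt)
      abel
  · intro H
    refine ⟨fun b => ?_⟩
    have h0 : (D.d 0 0).hom b.pt = 0 := by
      have h0 : D.d 0 0 = 0 := D.shape _ _ (by simp)
      rw [h0]; rfl
    obtain ⟨x₂, _, y₁, hy₁⟩ := H b.pt h0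
    refine ⟨⟨x₂⟩, ⟨?_⟩⟩
    refine ⟨⟨Submodule.Quotient.mk y₁, ?_⟩, ⟨Submodule.Quotient.mk (-y₁), ?_⟩, ?_, ?_⟩
    · rw [W4c3biextchow.delta_mk, hy₁]
      change _ = _ - (f.f 0).hom x₂
      abel
    · rw [W4c3biextchow.delta_mk, map_neg, hy₁]
      change _ = (f.f 0).hom x₂ - _
      abel
    · apply W4c3biextchow.Hom.ext
      simp
    · apply W4c3biextchow.Hom.ext
      simp

end Groth.Agent.S16327
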