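import Groth.Statements.S16328
import Mathlib.Algebra.Homology.DerivedCategory.KProjective
import Mathlib.Algebra.Category.ModuleCat.Projective
import Mathlib.Algebra.Exact.Basic
import Mathlib.Algebra.Module.Projective

set_option autoImplicit false
universe v
open CategoryTheory
open W4c3biextchow

namespace Groth.Agent.S16328

lemma exists_chain_retraction
    (A' A : ChainComplex (ModuleCat.{v} ℤ) ℕ) (f : A' ⟶ A)
    [∀ q, Module.Free ℤ (A'.X q)] [∀ q, Module.Free ℤ (A.X q)] [QuasiIso f]
    (r : ∀ q, A.X q ⟶ A'.X q) (hr : ∀ q, f.f q ≫ r q = 𝟙 _) :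
    ∃ g : A ⟶ A', f ≫ g = 𝟙 A' := by
  have hqi : QuasiIso f := inferInstance
  rw [ChainComplex.quasiIso_iff_of_projective] at hqi
  obtain ⟨e, he⟩ := hqi
  refine ⟨e.inv - Homotopy.nullHomotopicMap (fun i j => r i ≫ e.homotopyHomInvId.hom i j), ?_⟩
  rw [Preadditive.comp_sub, Homotopy.comp_nullHomotopicMap]
  have h1 : (fun i j => f.f i ≫ r i ≫ e.homotopyHomInvId.hom i j) = e.homotopyHomInvId.hom := by
    funext i j
    rw [← Category.assoc, hr, Category.id_comp]
  rw [h1, ← he]
  ext i : 1
  have := e.homotopyHomInvId.comm i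
  simp only [HomologicalComplex.sub_f_apply, Homotopy.nullHomotopicMap]
  rw [this]
  abel

lemma comm_apply {K L : ChainComplex (ModuleCat.{v} ℤ) ℕ} (φ : K ⟶ L) (i j : ℕ) (x : K.X i) :
    (L.d i j).hom ((φ.f i).hom x) = (φ.f j).hom ((K.d i j).hom x) := by
  have := congrArg (fun ψ => ψ.hom x) (φ.comm i j)
  exact this

/-- Let f : A' ⟶ A and p : A ⟶ A'' be chain maps of ℕ-indexed chain complexes of free abelian groups
forming a short exact sequence in every degree (f injective, p surjective, image of f equal to the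
kernel of p), and assume f is a quasi-isomorphism. Then there is a chain map h : A'' ⟶ A such that
in every degree q the map (a'', a') ↦ h(a'') + f(a') is a bijection from A''_q × A'_q onto A_q, so
that A is the direct sum of the subcomplexes f(A') and h(A''). (The source allows complexes indexed
by all integers; stated here for complexes in non-negative degrees.) -/
theorem result
    (A' A A'' : ChainComplex (ModuleCat.{v} ℤ) ℕ) (f : A' ⟶ A) (p : A ⟶ A'')
    [∀ q, Module.Free ℤ (A'.X q)] [∀ q, Module.Free ℤ (A.X q)] [∀ q, Module.Free ℤ (A''.X q)]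
    (hf : ∀ q, Function.Injective (f.f q).hom) (hp : ∀ q, Function.Surjective (p.f q).hom)
    (hfp : ∀ q, Function.Exact (f.f q).hom (p.f q).hom) [QuasiIso f] :
    ∃ h : A'' ⟶ A, ∀ q : ℕ,
      Function.Bijective (fun x : A''.X q × A'.X q => (h.f q).hom x.1 + (f.f q).hom x.2) := by
  have hσ : ∀ q, ∃ σ : A''.X q →ₗ[ℤ] A.X q, (p.f q).hom ∘ₗ σ = LinearMap.id := fun q =>
    Module.projective_lifting_property _ _ (hp q)
  choose σ hσ using hσ
  have hr : ∀ q, ∃ r : A.X q →ₗ[ℤ] A'.X q, r ∘ₗ (f.f q).hom = LinearMap.id := by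
    intro q
    have := (Function.Exact.split_tfae (hfp q) (hf q) (hp q)).out 0 1
    exact this.mp ⟨σ q, hσ q⟩
  choose r hr using hr
  obtain ⟨g, hg⟩ := exists_chain_retraction A' A f (fun q => ModuleCat.ofHom (r q))
    (fun q => ModuleCat.hom_ext (hr q))
  have hσ' : ∀ q (x : A''.X q), (p.f q).hom (σ q x) = x := fun q x =>
    congrArg (fun l => l x) (hσ q)
  have hgf : ∀ q (a' : A'.X q), (g.f q).hom ((f.f q).hom a') = a' := fun q a' => by
    have := congrArg (fun ψ => (ψ.f q).hom a') hg
    simpa using this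
  let π : A ⟶ A := 𝟙 A - g ≫ f
  have hπ_apply : ∀ q (a : A.X q), (π.f q).hom a = a - (f.f q).hom ((g.f q).hom a) := by
    intro q a
    simp [π]
  have hπ : ∀ q (a : A.X q), (p.f q).hom a = 0 → (π.f q).hom a = 0 := by
    intro q a ha
    obtain ⟨a', rfl⟩ := (hfp q a).mp ha
    rw [hπ_apply, hgf, sub_self]
  have hpf : ∀ q (a' : A'.X q), (p.f q).hom ((f.f q).hom a') = 0 := fun q a' =>
    (hfp q _).mpr ⟨a', rfl⟩
  have hpπ : ∀ q (a : A.X q), (p.f q).hom ((π.f q).hom a) = (p.f q).hom a := by
    intro q a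
    rw [hπ_apply, map_sub, hpf, sub_zero]
  let h : A'' ⟶ A :=
    { f := fun q => ModuleCat.ofHom (σ q) ≫ π.f q
      comm' := by
        intro i j _
        ext x
        simp only [ModuleCat.hom_comp, ModuleCat.hom_ofHom, LinearMap.comp_apply]
        rw [comm_apply π i j]
        have key : (π.f j).hom ((A.d i j).hom (σ i x) - σ j ((A''.d i j).hom x)) = 0 := by
          apply hπ
          rw [map_sub, ← comm_apply p i j, hσ', hσ', sub_self]
        rw [map_sub, sub_eq_zero] at key
        exact key }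
  have hh : ∀ q (x : A''.X q), (h.f q).hom x = (π.f q).hom (σ q x) := fun q x => rfl
  refine ⟨h, fun q => ⟨?_, ?_⟩⟩
  · rintro ⟨x1, y1⟩ ⟨x2, y2⟩ heq
    simp only [hh] at heq
    have e1 := congrArg (p.f q).hom heq
    simp only [map_add, hpπ, hσ', hpf, add_zero] at e1
    subst e1
    have e2 : (f.f q).hom y1 = (f.f q).hom y2 := add_left_cancel heq
    rw [hf q e2]
  · intro a
    refine ⟨((p.f q).hom a, (g.f q).hom a), ?_⟩
    simp only [hh]
    have : (π.f q).hom (σ q ((p.f q).hom a) - a) = 0 := by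
      apply hπ
      rw [map_sub, hσ', sub_self]
    rw [map_sub, sub_eq_zero] at this
    rw [this, hπ_apply]
    abel

end Groth.Agent.S16328
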