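import Groth.Statements.S16329
import Mathlib.Algebra.Homology.DerivedCategory.KProjective
import Mathlib.Algebra.Category.ModuleCat.Projective
import Mathlib.Algebra.Exact.Basic
import Mathlib.Algebra.Module.Projective

set_option autoImplicit false
universe v
open CategoryTheory
open W4c3biextchow

namespace Groth.Agent.S16329

lemma exists_retraction_linear {R M N : Type*} [Ring R] [AddCommGroup M] [AddCommGroup N]
    [Module R M] [Module R N] (l : M →ₗ[R] N) (hl : Function.Injective l)
    [Module.Free R (N ⧸ LinearMap.range l)] : ∃ r : N →ₗ[R] M, r ∘ₗ l = LinearMap.id := by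
  have := (Function.Exact.split_tfae l.exact_map_mkQ_range hl (Submodule.mkQ_surjective _)).out 0 1
  rw [← this]
  exact Module.projective_lifting_property _ _ (Submodule.mkQ_surjective _)

/-- Let f : A' ⟶ A be a chain map of ℕ-indexed chain complexes of free abelian groups which is injective
in every degree, whose degreewise quotients A_q / f(A'_q) are free abelian groups, and which is a
quasi-isomorphism. Then there is a chain map g : A ⟶ A' with f ≫ g the identity of A' (a chain-level
inverse of f that restricts to the identity on the subcomplex A'). (The source allows complexes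
indexed by all integers; stated here for complexes in non-negative degrees.) -/
theorem result
    (A' A : ChainComplex (ModuleCat.{v} ℤ) ℕ) (f : A' ⟶ A)
    [∀ q, Module.Free ℤ (A'.X q)] [∀ q, Module.Free ℤ (A.X q)]
    (hf : ∀ q, Function.Injective (f.f q).hom)
    (hq : ∀ q, Module.Free ℤ ((A.X q) ⧸ LinearMap.range (f.f q).hom)) [QuasiIso f] :
    ∃ g : A ⟶ A', f ≫ g = 𝟙 A' := by
  have hqi : QuasiIso f := inferInstance
  rw [ChainComplex.quasiIso_iff_of_projective] at hqi
  obtain ⟨e, he⟩ := hqi
  have hr : ∀ q, ∃ r : A.X q ⟶ A'.X q, f.f q ≫ r = 𝟙 _ := by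
    intro q
    have hfree : @Module.Free ℤ ((A.X q) ⧸ LinearMap.range (f.f q).hom) _ _
        (Submodule.Quotient.module _) := by
      convert hq q
      · rfl
      · exact Subsingleton.elim _ _
    obtain ⟨r, hr⟩ := exists_retraction_linear (f.f q).hom (hf q)
    exact ⟨ModuleCat.ofHom r, ModuleCat.hom_ext hr⟩
  choose r hr using hr
  refine ⟨e.inv - Homotopy.nullHomotopicMap (fun i j => r i ≫ e.homotopyHomInvId.hom i j), ?_⟩
  rw [Preadditive.comp_sub, Homotopy.comp_nullHomotopicMap]
  have h1 : (fun i j => f.f i ≫ r i ≫ e.homotopyHomInvId.hom i j) = e.homotopyHomInvId.hom := by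
    funext i j
    rw [← Category.assoc, hr, Category.id_comp]
  rw [h1, ← he]
  ext i : 1
  have := e.homotopyHomInvId.comm i
  simp only [HomologicalComplex.sub_f_apply, Homotopy.nullHomotopicMap]
  rw [this]
  abel

end Groth.Agent.S16329
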