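import Groth.Statements.S16330
import Mathlib.Algebra.Homology.DerivedCategory.KProjective
import Mathlib.Algebra.Category.ModuleCat.Projective

set_option autoImplicit false
universe v
open CategoryTheory
open W4c3biextchow

namespace Groth.Agent.S16330

/-- Let f : A' ⟶ A be a chain map of ℕ-indexed chain complexes of free abelian groups which is injective
in every degree, whose degreewise quotients A_q / f(A'_q) are free abelian groups, and which is a
quasi-isomorphism. Then any two chain maps g₁, g₂ : A ⟶ A' with f ≫ g₁ = f ≫ g₂ = 𝟙 differ by a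
null-homotopic map: there is a chain homotopy between g₁ and g₂ all of whose components vanish on
the image of f (so g₁ - g₂ factors through the quotient complex A / A', and the homotopy does too).
(The source allows complexes indexed by all integers; stated here for complexes in non-negative
degrees.) -/
theorem result
    (A' A : ChainComplex (ModuleCat.{v} ℤ) ℕ) (f : A' ⟶ A)
    [∀ q, Module.Free ℤ (A'.X q)] [∀ q, Module.Free ℤ (A.X q)]
    (hf : ∀ q, Function.Injective (f.f q).hom)
    (hq : ∀ q, Module.Free ℤ ((A.X q) ⧸ LinearMap.range (f.f q).hom)) [QuasiIso f]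
    (g₁ g₂ : A ⟶ A') (h₁ : f ≫ g₁ = 𝟙 A') (h₂ : f ≫ g₂ = 𝟙 A') :
    ∃ H : Homotopy g₁ g₂, ∀ i j : ℕ, f.f i ≫ H.hom i j = 0 := by
  have hqi : QuasiIso f := inferInstance
  rw [ChainComplex.quasiIso_iff_of_projective] at hqi
  obtain ⟨e, he⟩ := hqi
  let δ : A ⟶ A' := g₁ - g₂
  have hfδ : f ≫ δ = 0 := by simp [δ, h₁, h₂]
  let π : A ⟶ A := 𝟙 A - g₁ ≫ f
  have hfπ : f ≫ π = 0 := by
    simp only [π, Preadditive.comp_sub, Category.comp_id]
    rw [← Category.assoc, h₁, Category.id_comp, sub_self]
  have hπδ : π ≫ δ = δ := by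
    simp only [π, Preadditive.sub_comp, Category.id_comp, Category.assoc, hfδ, Limits.comp_zero,
      sub_zero]
  let K := e.homotopyInvHomId
  let H0 : Homotopy (π ≫ (e.inv ≫ e.hom) ≫ δ) (π ≫ 𝟙 A ≫ δ) := (K.compRight δ).compLeft π
  have e1 : π ≫ (e.inv ≫ e.hom) ≫ δ = 0 := by
    rw [he, Category.assoc, hfδ]
    simp
  have e2 : π ≫ 𝟙 A ≫ δ = δ := by simp [hπδ]
  let H1 : Homotopy 0 δ := (Homotopy.ofEq e1.symm).trans (H0.trans (Homotopy.ofEq e2))
  let H2 : Homotopy (δ + g₂) (0 + g₂) := H1.symm.add (Homotopy.refl g₂)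
  let H : Homotopy g₁ g₂ :=
    (Homotopy.ofEq (by simp [δ])).trans (H2.trans (Homotopy.ofEq (by simp)))
  refine ⟨H, fun i j => ?_⟩
  have hfπi : f.f i ≫ π.f i = 0 := by
    have := congrArg (fun ψ => ψ.f i) hfπ
    simpa using this
  simp [H, H2, H1, H0, K, reassoc_of% hfπi]

end Groth.Agent.S16330
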