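import Groth.Statements.S16331
import Groth.Agent.Lib.Helper98.ModuleCatHomology

set_option autoImplicit false
universe v
open CategoryTheory
open W4c3biextchow

namespace Groth.Agent.S16331

open Groth.Agent.Lib.Helper98.ModuleCatHomology

section
variable {A' A : ChainComplex (ModuleCat.{v} ℤ) ℕ} (f : A' ⟶ A)

abbrev Q (n : ℕ) : Type v := (A.X n) ⧸ LinearMap.range (f.f n).hom

lemma comm_apply {C D : ChainComplex (ModuleCat.{v} ℤ) ℕ} (g : C ⟶ D) (i j : ℕ) (x : C.X i) :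
    (D.d i j).hom ((g.f i).hom x) = (g.f j).hom ((C.d i j).hom x) := by
  have h := congrArg (fun φ => φ.hom x) (g.comm i j)
  simpa only [ModuleCat.hom_comp, LinearMap.comp_apply] using h

def dQ (i j : ℕ) : Q f i →+ Q f j :=
  ((LinearMap.range (f.f i).hom).mapQ (LinearMap.range (f.f j).hom) (A.d i j).hom (by
    rintro _ ⟨x, rfl⟩
    exact ⟨(A'.d i j).hom x, (comm_apply f i j x).symm⟩)).toAddMonoidHom

lemma dQ_mk (i j : ℕ) (x : A.X i) :
    dQ f i j (Submodule.Quotient.mk x) = Submodule.Quotient.mk ((A.d i j).hom x) := rfl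

variable (g₁ g₂ : A ⟶ A')

def δ (n : ℕ) : A.X n →ₗ[ℤ] A'.X n := (g₁.f n).hom - (g₂.f n).hom

lemma retr_apply (g : A ⟶ A') (h : f ≫ g = 𝟙 A') (n : ℕ) (x : A'.X n) :
    (g.f n).hom ((f.f n).hom x) = x := by
  have h' := congrArg (fun φ => (φ.f n).hom x) h
  simpa using h'

variable (h₁ : f ≫ g₁ = 𝟙 A') (h₂ : f ≫ g₂ = 𝟙 A')

def δbar (n : ℕ) : Q f n →+ A'.X n :=
  ((LinearMap.range (f.f n).hom).liftQ (δ g₁ g₂ n) (by
    rintro _ ⟨x, rfl⟩
    simp [δ, retr_apply f g₁ h₁, retr_apply f g₂ h₂])).toAddMonoidHom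

lemma δbar_mk (n : ℕ) (x : A.X n) :
    δbar f g₁ g₂ h₁ h₂ n (Submodule.Quotient.mk x) = (g₁.f n).hom x - (g₂.f n).hom x := rfl

lemma d_δbar (i j : ℕ) (q : Q f i) :
    (A'.d i j).hom (δbar f g₁ g₂ h₁ h₂ i q) = δbar f g₁ g₂ h₁ h₂ j (dQ f i j q) := by
  induction q using Submodule.Quotient.induction_on with
  | H x =>
    rw [dQ_mk, δbar_mk, δbar_mk, map_sub, comm_apply, comm_apply]

lemma dQ_surj
    (E0 : ∀ y₂ : A.X 0, (A.d 0 0).hom y₂ = 0 →
        ∃ x₂ : A'.X 0, (A'.d 0 0).hom x₂ = 0 ∧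
          ∃ y₁ : A.X 1, y₂ = (f.f 0).hom x₂ + (A.d 1 0).hom y₁) :
    Function.Surjective (dQ f 1 0) := by
  intro q
  induction q using Submodule.Quotient.induction_on with
  | H y =>
    have h0 : (A.d 0 0).hom y = 0 := by
      have h0 : A.d 0 0 = 0 := A.shape _ _ (by simp)
      rw [h0]; rfl
    obtain ⟨x, _, y₁, hy⟩ := E0 y h0
    refine ⟨Submodule.Quotient.mk y₁, ?_⟩
    rw [dQ_mk, Submodule.Quotient.eq]
    refine ⟨-x, ?_⟩
    rw [map_neg, hy]; abel

lemma dQ_exact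
    (M0 : ∀ x₂ : A'.X 0, (A'.d 0 0).hom x₂ = 0 → ∀ y₁ : A.X 1,
        (f.f 0).hom x₂ = (A.d 1 0).hom y₁ → ∃ x₁ : A'.X 1, (A'.d 1 0).hom x₁ = x₂)
    (E1 : ∀ y₂ : A.X 1, (A.d 1 0).hom y₂ = 0 →
        ∃ x₂ : A'.X 1, (A'.d 1 0).hom x₂ = 0 ∧
          ∃ y₁ : A.X 2, y₂ = (f.f 1).hom x₂ + (A.d 2 1).hom y₁)
    (q : Q f 1) (hq : dQ f 1 0 q = 0) : ∃ w : Q f 2, dQ f 2 1 w = q := by
  induction q using Submodule.Quotient.induction_on with
  | H x =>
    rw [dQ_mk, Submodule.Quotient.mk_eq_zero] at hq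
    obtain ⟨a', ha'⟩ := hq
    have h0 : (A'.d 0 0).hom a' = 0 := by
      have h0 : A'.d 0 0 = 0 := A'.shape _ _ (by simp)
      rw [h0]; rfl
    obtain ⟨a'', ha''⟩ := M0 a' h0 x ha'
    have hc : (A.d 1 0).hom (x - (f.f 1).hom a'') = 0 := by
      rw [map_sub, comm_apply, ha'', ha', sub_self]
    obtain ⟨z, _, w, hw⟩ := E1 _ hc
    refine ⟨Submodule.Quotient.mk w, ?_⟩
    rw [dQ_mk, Submodule.Quotient.eq]
    refine ⟨-(z + a''), ?_⟩
    have : (A.d 2 1).hom w = x - (f.f 1).hom a'' - (f.f 1).hom z := by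
      rw [hw]; abel
    rw [this, map_neg, map_add]; abel

end

/-- Let f : A' ⟶ A be a chain map of ℕ-indexed chain complexes of free abelian groups which is injective
in every degree, with free degreewise quotients A_q / f(A'_q), and a quasi-isomorphism; let h' : A'
⟶ B be a chain map to another complex of free abelian groups and g₁, g₂ : A ⟶ A' two chain maps with
f ≫ g₁ = f ≫ g₂ = 𝟙. Consider the functors induced by g₁ ≫ h' and g₂ ≫ h' between the groupoids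
attached to A and B (objects: degree-0 elements; morphisms a ⟶ b: degree-1 elements with boundary b
- a, modulo boundaries of degree-2 elements). Then there is a natural isomorphism between these two
functors whose component at every object of the form f(a'), a' a degree-0 element of A', is the zero
class, i.e. the identity morphism of h'(a'). -/
theorem result
    (A' A B : ChainComplex (ModuleCat.{v} ℤ) ℕ) (f : A' ⟶ A) (h' : A' ⟶ B)
    [∀ q, Module.Free ℤ (A'.X q)] [∀ q, Module.Free ℤ (A.X q)] [∀ q, Module.Free ℤ (B.X q)]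
    (hf : ∀ q, Function.Injective (f.f q).hom)
    (hq : ∀ q, Module.Free ℤ ((A.X q) ⧸ LinearMap.range (f.f q).hom)) [QuasiIso f]
    (g₁ g₂ : A ⟶ A') (h₁ : f ≫ g₁ = 𝟙 A') (h₂ : f ≫ g₂ = 𝟙 A') :
    ∃ N : W4c3biextchow.cxFunctor (g₁ ≫ h') ≅ W4c3biextchow.cxFunctor (g₂ ≫ h'),
      ∀ a : W4c3biextchow.Obj A',
        (N.hom.app ((W4c3biextchow.cxFunctor f).obj a) : W4c3biextchow.Hom B _ _).cl = 0 := by
  have := hq
  have hqi : ∀ i, IsIso (HomologicalComplex.homologyMap f i) := fun i =>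
    (quasiIsoAt_iff_isIso_homologyMap f i).1 inferInstance
  have E0 := (epi_homologyMap_iff f 1 0 0 (by simp) (by simp)).1 inferInstance
  have M0 := (mono_homologyMap_iff f 1 0 0 (by simp) (by simp)).1 inferInstance
  have E1 := (epi_homologyMap_iff f 2 1 0 (by simp) (by simp)).1 inferInstance
  have hsurj := dQ_surj f E0
  have hex := dQ_exact f M0 E1
  let b0 := Module.Free.chooseBasis ℤ (Q f 0)
  choose t0 ht0 using (fun i => hsurj (b0 i))
  let s0 : Q f 0 →ₗ[ℤ] Q f 1 := b0.constr ℤ t0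
  have hs0 : ∀ q, dQ f 1 0 (s0 q) = q := by
    intro q
    have h : (dQ f 1 0).toIntLinearMap ∘ₗ s0 = LinearMap.id := b0.ext (fun i => by simp [s0, ht0])
    exact LinearMap.congr_fun h q
  let b1 := Module.Free.chooseBasis ℤ (Q f 1)
  have hex1 : ∀ i, ∃ w, dQ f 2 1 w = b1 i - s0 (dQ f 1 0 (b1 i)) := fun i =>
    hex _ (by rw [map_sub, hs0, sub_self])
  choose t1 ht1 using hex1
  let s1 : Q f 1 →ₗ[ℤ] Q f 2 := b1.constr ℤ t1
  have hs1 : ∀ q, dQ f 2 1 (s1 q) = q - s0 (dQ f 1 0 q) := by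
    intro q
    have h : (dQ f 2 1).toIntLinearMap ∘ₗ s1 = LinearMap.id - s0 ∘ₗ (dQ f 1 0).toIntLinearMap :=
      b1.ext (fun i => by simp [s1, ht1])
    exact LinearMap.congr_fun h q
  let H0 : A.X 0 → A'.X 1 := fun a => δbar f g₁ g₂ h₁ h₂ 1 (s0 (Submodule.Quotient.mk a))
  let H1 : A.X 1 → A'.X 2 := fun x => δbar f g₁ g₂ h₁ h₂ 2 (s1 (Submodule.Quotient.mk x))
  have P0 : ∀ a, (A'.d 1 0).hom (H0 a) = (g₁.f 0).hom a - (g₂.f 0).hom a := by
    intro a
    simp only [H0]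
    rw [d_δbar, hs0, δbar_mk]
  have P1 : ∀ x, (A'.d 2 1).hom (H1 x) + H0 ((A.d 1 0).hom x) =
      (g₁.f 1).hom x - (g₂.f 1).hom x := by
    intro x
    simp only [H0, H1]
    rw [d_δbar, hs1, ← dQ_mk, ← map_add, sub_add_cancel, δbar_mk]
  have P2 : ∀ a', H0 ((f.f 0).hom a') = 0 := by
    intro a'
    simp only [H0]
    have : (Submodule.Quotient.mk ((f.f 0).hom a') : Q f 0) = 0 := by
      rw [Submodule.Quotient.mk_eq_zero]; exact ⟨a', rfl⟩
    rw [this, map_zero, map_zero]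
  have P3 : ∀ a b, H0 (a - b) = H0 a - H0 b := by
    intro a b
    simp only [H0]
    rw [Submodule.Quotient.mk_sub, map_sub, map_sub]
  refine ⟨NatIso.ofComponents (fun a =>
    ⟨⟨Submodule.Quotient.mk (-(h'.f 1).hom (H0 a.pt)), ?_⟩,
     ⟨Submodule.Quotient.mk ((h'.f 1).hom (H0 a.pt)), ?_⟩, ?_, ?_⟩) ?_, ?_⟩
  · rw [W4c3biextchow.delta_mk, map_neg, comm_apply, P0]
    simp
  · rw [W4c3biextchow.delta_mk, comm_apply, P0]
    simp
  · apply W4c3biextchow.Hom.ext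
    simp
  · apply W4c3biextchow.Hom.ext
    simp
  · intro a b φ
    apply W4c3biextchow.Hom.ext
    obtain ⟨x, hx⟩ := Submodule.Quotient.mk_surjective _ (φ : W4c3biextchow.Hom A a b).cl
    have hd := (φ : W4c3biextchow.Hom A a b).delta_cl
    rw [← hx, W4c3biextchow.delta_mk] at hd
    simp only [W4c3biextchow.comp_cl, W4c3biextchow.cxFunctor_map_cl]
    rw [← hx, W4c3biextchow.q1Map_mk, W4c3biextchow.q1Map_mk]
    rw [← Submodule.Quotient.mk_add, ← Submodule.Quotient.mk_add, Submodule.Quotient.eq]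
    refine ⟨(h'.f 2).hom (H1 x), ?_⟩
    rw [comm_apply]
    have hb : H0 b.pt = H0 a.pt + H0 ((A.d 1 0).hom x) := by
      rw [hd, P3]; abel
    have e1 : (A'.d 2 1).hom (H1 x) = (g₁.f 1).hom x - (g₂.f 1).hom x - H0 ((A.d 1 0).hom x) := by
      rw [← P1]; abel
    rw [e1, hb]
    simp only [HomologicalComplex.comp_f, ModuleCat.hom_comp, LinearMap.comp_apply, map_sub,
      map_add, map_neg]
    abel
  · intro a
    change (Submodule.Quotient.mk (-(h'.f 1).hom (H0 ((f.f 0).hom a.pt))) : W4c3biextchow.Q1 B) = 0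
    rw [P2, map_zero, neg_zero, Submodule.Quotient.mk_zero]

end Groth.Agent.S16331
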