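import Groth.Statements.S16335
import Mathlib.Tactic
import Mathlib.Algebra.BigOperators.Group.Finset.Basic
import Mathlib.LinearAlgebra.TensorProduct.Basic
import Mathlib.RingTheory.TensorProduct.Basic
import Mathlib.Algebra.Algebra.Bilinear

set_option autoImplicit false
universe u v w w'
open TensorProduct
open InvTh

namespace Groth.Agent.S16335

section

variable (A : Type u) [CommRing A] (R : Type v) [CommRing R] [Algebra A R]
    (Γ : Type w) [Group Γ] [Fintype Γ] [MulSemiringAction Γ R] [SMulCommClass Γ A R]

/-- sum over the group -/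
noncomputable def tr : R →ₗ[A] R := ∑ γ : Γ, (MulSemiringAction.toAlgHom A R γ).toLinearMap

lemma tr_apply (x : R) : tr A R Γ x = ∑ γ : Γ, γ • x := by
  simp [tr, LinearMap.sum_apply]

lemma smul_tr (g : Γ) (x : R) : g • tr A R Γ x = tr A R Γ x := by
  rw [tr_apply, Finset.smul_sum]
  simp_rw [smul_smul]
  exact Fintype.sum_bijective (fun γ => g * γ) (Group.mulLeft_bijective g) _ _ (fun _ => rfl)

lemma tr_of_fixed (x : R) (hx : ∀ γ : Γ, γ • x = x) : tr A R Γ x = (Fintype.card Γ : R) * x := by
  rw [tr_apply]
  simp [hx]

variable (S : Type w') [CommRing S] [Algebra A S]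

lemma lTensor_eq_map (γ : Γ) (y : S ⊗[A] R) :
    (MulSemiringAction.toAlgHom A R γ).toLinearMap.lTensor S y =
      Algebra.TensorProduct.map (AlgHom.id A S) (MulSemiringAction.toAlgHom A R γ) y := by
  induction y using TensorProduct.induction_on with
  | zero => simp
  | tmul s r => simp
  | add a b ha hb => rw [map_add, map_add, ha, hb]

lemma lTensor_tr_of_fixed (x : S ⊗[A] R)
    (hx : ∀ γ : Γ, Algebra.TensorProduct.map (AlgHom.id A S) (MulSemiringAction.toAlgHom A R γ) x = x) :
    (tr A R Γ).lTensor S x = Fintype.card Γ • x := by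
  have h : (tr A R Γ).lTensor S =
      ∑ γ : Γ, (MulSemiringAction.toAlgHom A R γ).toLinearMap.lTensor S := by
    rw [tr]
    exact map_sum (LinearMap.lTensorHom (R := A) S) _ _
  rw [h, LinearMap.sum_apply]
  have h2 : ∀ γ : Γ, (MulSemiringAction.toAlgHom A R γ).toLinearMap.lTensor S x = x := by
    intro γ
    rw [lTensor_eq_map, hx γ]
  simp [h2]

lemma lTensor_mulLeft_nsmul (c : R) (n : ℕ) (hc : c * (n : R) = 1) (z : S ⊗[A] R) :
    (LinearMap.mulLeft A c).lTensor S (n • z) = z := by
  rw [map_nsmul, ← Nat.cast_smul_eq_nsmul A n, ← LinearMap.smul_apply, ← LinearMap.lTensor_smul]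
  have : (n : A) • LinearMap.mulLeft A c = LinearMap.id := by
    ext r
    simp only [LinearMap.smul_apply, LinearMap.mulLeft_apply, LinearMap.id_coe, id_eq]
    rw [Nat.cast_smul_eq_nsmul, nsmul_eq_mul, ← mul_assoc, mul_comm (n : R) c, hc, one_mul]
  rw [this, LinearMap.lTensor_id, LinearMap.id_apply]

end

theorem aux
    (A : Type u) [CommRing A] (R : Type v) [CommRing R] [Algebra A R]
    (Γ : Type w) [Group Γ] [Finite Γ] [MulSemiringAction Γ R] [SMulCommClass Γ A R]
    [Algebra.IsInvariant A R Γ] (hinj : Function.Injective (algebraMap A R))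
    (hΓ : IsUnit (Nat.card Γ : R))
    (S : Type w') [CommRing S] [Algebra A S] :
    Function.Injective (fun s : S => s ⊗ₜ[A] (1 : R)) ∧
      ∀ x : S ⊗[A] R,
        (∀ γ : Γ, Algebra.TensorProduct.map (AlgHom.id A S) (MulSemiringAction.toAlgHom A R γ) x = x) →
          x ∈ Set.range (fun s : S => s ⊗ₜ[A] (1 : R)) := by
  classical
  haveI : Fintype Γ := Fintype.ofFinite Γ
  rw [Nat.card_eq_fintype_card] at hΓ
  obtain ⟨c, hc⟩ : ∃ c : R, c * (Fintype.card Γ : R) = 1 := ⟨↑hΓ.unit⁻¹, by simp⟩
  have hcfix : ∀ g : Γ, g • c = c := by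
    intro g
    have h1 : g • c * (Fintype.card Γ : R) = 1 := by
      have := congrArg (g • ·) hc
      have hn : g • (Fintype.card Γ : R) = (Fintype.card Γ : R) :=
        map_natCast (MulSemiringAction.toRingHom Γ R g) _
      simpa [smul_mul', hn] using this
    calc g • c = (c * (Fintype.card Γ : R)) * g • c := by rw [hc, one_mul]
      _ = c * (g • c * (Fintype.card Γ : R)) := by ring
      _ = c := by rw [h1, mul_one]
  have hinv : ∀ x : R, ∀ g : Γ, g • (c * tr A R Γ x) = c * tr A R Γ x := by
    intro x g
    rw [smul_mul', hcfix, smul_tr]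
  have hex : ∀ x : R, ∃ a : A, algebraMap A R a = c * tr A R Γ x := fun x =>
    Algebra.IsInvariant.isInvariant (G := Γ) (c * tr A R Γ x) (hinv x)
  choose ρ0 hρ0 using hex
  let ρ : R →ₗ[A] A :=
    { toFun := ρ0
      map_add' := by
        intro x y
        apply hinj
        rw [map_add, hρ0, hρ0, hρ0, map_add, mul_add]
      map_smul' := by
        intro a x
        apply hinj
        simp only [RingHom.id_apply, smul_eq_mul, map_mul]
        rw [hρ0, hρ0, map_smul, Algebra.smul_def]
        ring }
  have hρ : ∀ x, algebraMap A R (ρ x) = c * tr A R Γ x := hρ0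
  have hρ1 : ρ 1 = 1 := by
    apply hinj
    rw [hρ, tr_of_fixed A R Γ 1 (fun γ => smul_one γ), mul_one, hc, map_one]
  have hcomp : (LinearMap.mulLeft A c) ∘ₗ tr A R Γ = (Algebra.linearMap A R) ∘ₗ ρ := by
    ext x
    simp [hρ]
  refine ⟨?_, ?_⟩
  · have hL : Function.LeftInverse ((TensorProduct.rid A S).toLinearMap ∘ₗ (ρ.lTensor S))
        (fun s : S => s ⊗ₜ[A] (1 : R)) := by
      intro s
      simp [hρ1]
    exact hL.injective
  · intro x hx
    refine ⟨TensorProduct.rid A S (ρ.lTensor S x), ?_⟩
    have h1 := lTensor_tr_of_fixed A R Γ S x hx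
    have h2 := lTensor_mulLeft_nsmul A R S c (Fintype.card Γ) hc x
    rw [← h1, ← LinearMap.comp_apply, ← LinearMap.lTensor_comp, hcomp, LinearMap.lTensor_comp,
      LinearMap.comp_apply] at h2
    have h3 : ρ.lTensor S x = (TensorProduct.rid A S (ρ.lTensor S x)) ⊗ₜ[A] (1 : A) := by
      rw [← TensorProduct.rid_symm_apply, LinearEquiv.symm_apply_apply]
    rw [h3] at h2
    simpa using h2

/-- Let `R` be a commutative ring with an action of a finite group `Γ` by ring automorphisms such that
the order of `Γ` is invertible in `R`, and let `A → R` be injective with image exactly the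
invariants `R^Γ`, the action being `A`-linear. Then for every commutative `A`-algebra `S`, with `Γ`
acting on `S ⊗_A R` through the factor `R`, the map `S → S ⊗_A R`, `s ↦ s ⊗ 1`, is injective and its
image is exactly the set of `Γ`-fixed elements: `S ≅ (S ⊗_A R)^Γ`. No flatness of `S` over `A` is
assumed; the invertibility of the order of `Γ` replaces it. This is the affine statement that for a
tame quotient the coarse space commutes with arbitrary base change. (The published lemma is the
statement that the coarse moduli space of a tame Deligne–Mumford stack commutes with arbitrary base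
change, whose proof reduces to this ring statement. The published lemma also asserts the analogous
statement for the reduced fibre product when the base-change scheme is reduced; that clause is not
part of this row.) -/
theorem result
    (A : Type u) [CommRing A] (R : Type v) [CommRing R] [Algebra A R]
    (Γ : Type w) [Group Γ] [Finite Γ] [MulSemiringAction Γ R] [SMulCommClass Γ A R]
    [Algebra.IsInvariant A R Γ] (hinj : Function.Injective (algebraMap A R))
    (hΓ : IsUnit (Nat.card Γ : R))
    (S : Type w') [CommRing S] [Algebra A S] :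
    Function.Injective (fun s : S => s ⊗ₜ[A] (1 : R)) ∧
      ∀ x : S ⊗[A] R,
        (∀ γ : Γ, Algebra.TensorProduct.map (AlgHom.id A S) (MulSemiringAction.toAlgHom A R γ) x = x) →
          x ∈ Set.range (fun s : S => s ⊗ₜ[A] (1 : R)) := by
  exact aux A R Γ hinj hΓ S

end Groth.Agent.S16335
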