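import Groth.Statements.S16343
import Mathlib

set_option autoImplicit false
open KatoHom

namespace Groth.Agent.S16343

def IP (P : Set ℕ) (n : ℕ) : Prop := 0 < n ∧ ∀ p : ℕ, p.Prime → p ∣ n → p ∈ P

def IP' (P : Set ℕ) (n : ℕ) : Prop := 0 < n ∧ ∀ p : ℕ, p.Prime → p ∣ n → p ∉ P

theorem IP_one {P : Set ℕ} : IP P 1 :=
  ⟨one_pos, fun _ hp h => absurd (Nat.dvd_one.mp h) hp.ne_one⟩

theorem IP'_one {P : Set ℕ} : IP' P 1 :=
  ⟨one_pos, fun _ hp h => absurd (Nat.dvd_one.mp h) hp.ne_one⟩

theorem IP_mul {P : Set ℕ} {n m : ℕ} (hn : IP P n) (hm : IP P m) : IP P (n * m) :=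
  ⟨Nat.mul_pos hn.1 hm.1, fun p hp h => (hp.dvd_mul.mp h).elim (hn.2 p hp) (hm.2 p hp)⟩

theorem IP'_mul {P : Set ℕ} {n m : ℕ} (hn : IP' P n) (hm : IP' P m) : IP' P (n * m) :=
  ⟨Nat.mul_pos hn.1 hm.1, fun p hp h => (hp.dvd_mul.mp h).elim (hn.2 p hp) (hm.2 p hp)⟩

theorem IP_prime {P : Set ℕ} {q : ℕ} (hq : q.Prime) (hqP : q ∈ P) : IP P q :=
  ⟨hq.pos, fun p hp hpq => by rwa [(Nat.prime_dvd_prime_iff_eq hp hq).mp hpq]⟩

theorem IP'_prime {P : Set ℕ} {q : ℕ} (hq : q.Prime) (hqP : q ∉ P) : IP' P q :=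
  ⟨hq.pos, fun p hp hpq => by rwa [(Nat.prime_dvd_prime_iff_eq hp hq).mp hpq]⟩

theorem coprime_IP_IP' {P : Set ℕ} {n m : ℕ} (hn : IP P n) (hm : IP' P m) : Nat.Coprime n m :=
  Nat.coprime_of_dvd (fun k hk h1 h2 => hm.2 k hk h2 (hn.2 k hk h1))

theorem split (P : Set ℕ) : ∀ N : ℕ, 0 < N → ∃ n m, IP P n ∧ IP' P m ∧ N = n * m := by
  classical
  intro N
  induction N using Nat.recOnMul with
  | zero => intro h; exact absurd h (lt_irrefl 0)
  | one => intro _; exact ⟨1, 1, IP_one, IP'_one, rfl⟩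
  | prime p hp =>
    intro _
    by_cases h : p ∈ P
    · exact ⟨p, 1, IP_prime hp h, IP'_one, (mul_one p).symm⟩
    · exact ⟨1, p, IP_one, IP'_prime hp h, (one_mul p).symm⟩
  | mul a b iha ihb =>
    intro hab
    have ha : 0 < a := by
      rcases Nat.eq_zero_or_pos a with rfl | h'
      · simp at hab
      · exact h'
    have hb : 0 < b := by
      rcases Nat.eq_zero_or_pos b with rfl | h'
      · simp at hab
      · exact h'
    obtain ⟨n1, m1, h1, h1', rfl⟩ := iha ha
    obtain ⟨n2, m2, h2, h2', rfl⟩ := ihb hb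
    exact ⟨n1 * n2, m1 * m2, IP_mul h1 h2, IP'_mul h1' h2', by ring⟩

theorem bezout_smul {G : Type*} [AddCommGroup G] {n m : ℕ} (h : Nat.Coprime n m) (x : G) :
    x = n • (Nat.gcdA n m • x) + m • (Nat.gcdB n m • x) := by
  have h1 : (1 : ℤ) = n * Nat.gcdA n m + m * Nat.gcdB n m := by
    have := Nat.gcd_eq_gcd_ab n m
    rw [Nat.Coprime] at h
    rw [h] at this
    exact_mod_cast this
  calc x = (1 : ℤ) • x := (one_smul ℤ x).symm
    _ = ((n : ℤ) * Nat.gcdA n m + (m : ℤ) * Nat.gcdB n m) • x := by rw [← h1]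
    _ = _ := by rw [add_smul, mul_smul, mul_smul, natCast_zsmul, natCast_zsmul]

theorem div_of_coprime {G : Type*} [AddCommGroup G] {n m : ℕ} (h : Nat.Coprime n m) (x : G)
    (hx : m • x = 0) : x = n • (Nat.gcdA n m • x) := by
  have := bezout_smul h x
  rw [smul_comm m (Nat.gcdB n m) x, hx, smul_zero, add_zero] at this
  exact this

theorem zero_of_coprime {G : Type*} [AddCommGroup G] {n m : ℕ} (h : Nat.Coprime n m) (x : G)
    (hn : n • x = 0) (hm : m • x = 0) : x = 0 := by
  have := bezout_smul h x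
  rw [smul_comm m (Nat.gcdB n m) x, hm, smul_zero, add_zero,
    smul_comm n (Nat.gcdA n m) x, hn, smul_zero] at this
  exact this

/-- Let P be a set of primes and π : A → T a surjection of abelian groups whose kernel is ℓ-divisible
for every ℓ ∈ P, with T a torsion group; let T(P) be the subgroup of elements of T killed by a
positive integer all of whose prime factors lie in P, and T' the subgroup of elements killed by a
positive integer none of whose prime factors lies in P. Then the preimage π⁻¹(T') is ℓ-divisible for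
every ℓ ∈ P, and π has a section s over T(P) for which (d, t) ↦ d + s(t) is a bijection from π⁻¹(T')
× T(P) onto A, so that A is the direct sum of π⁻¹(T') and a copy of T(P). (The decomposition is
expressed through a section of π over T(P).) -/
theorem result
    {A T : Type*} [AddCommGroup A] [AddCommGroup T] (P : Set ℕ) (hP : ∀ p ∈ P, p.Prime)
    (π : A →+ T) (hπ : Function.Surjective π) (hT : ∀ t : T, ∃ n : ℕ, 0 < n ∧ n • t = 0)
    (hD : ∀ ℓ ∈ P, ∀ x ∈ π.ker, ∃ y ∈ π.ker, ℓ • y = x)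
    (TP T' : AddSubgroup T)
    (hTP : ∀ t, t ∈ TP ↔ ∃ n : ℕ, 0 < n ∧ (∀ p : ℕ, p.Prime → p ∣ n → p ∈ P) ∧ n • t = 0)
    (hT' : ∀ t, t ∈ T' ↔ ∃ n : ℕ, 0 < n ∧ (∀ p : ℕ, p.Prime → p ∣ n → p ∉ P) ∧ n • t = 0) :
    (∀ ℓ ∈ P, ∀ x ∈ T'.comap π, ∃ y ∈ T'.comap π, ℓ • y = x) ∧
    ∃ s : TP →+ A, (∀ t : TP, π (s t) = (t : T)) ∧
      Function.Bijective (fun q : (T'.comap π) × TP => (q.1 : A) + s q.2) := by
  classical
  have hTP' : ∀ t, t ∈ TP ↔ ∃ n, IP P n ∧ n • t = 0 := by
    intro t
    rw [hTP]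
    constructor
    · rintro ⟨n, h0, h1, h2⟩
      exact ⟨n, ⟨h0, h1⟩, h2⟩
    · rintro ⟨n, ⟨h0, h1⟩, h2⟩
      exact ⟨n, h0, h1, h2⟩
  have hT'' : ∀ t, t ∈ T' ↔ ∃ n, IP' P n ∧ n • t = 0 := by
    intro t
    rw [hT']
    constructor
    · rintro ⟨n, h0, h1, h2⟩
      exact ⟨n, ⟨h0, h1⟩, h2⟩
    · rintro ⟨n, ⟨h0, h1⟩, h2⟩
      exact ⟨n, h0, h1, h2⟩
  have hDn : ∀ n, IP P n → ∀ x ∈ π.ker, ∃ y ∈ π.ker, n • y = x := by
    intro n
    induction n using Nat.recOnMul with
    | zero => intro h; exact absurd h.1 (lt_irrefl 0)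
    | one => intro _ x hx; exact ⟨x, hx, one_smul _ x⟩
    | prime p hp => intro h x hx; exact hD p (h.2 p hp dvd_rfl) x hx
    | mul a b iha ihb =>
      intro h x hx
      have ha0 : 0 < a := by
        rcases Nat.eq_zero_or_pos a with rfl | h'
        · exact absurd h.1 (by simp)
        · exact h'
      have hb0 : 0 < b := by
        rcases Nat.eq_zero_or_pos b with rfl | h'
        · exact absurd h.1 (by simp)
        · exact h'
      have ha : IP P a := ⟨ha0, fun p hp hpa => h.2 p hp (hpa.mul_right b)⟩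
      have hb : IP P b := ⟨hb0, fun p hp hpb => h.2 p hp (hpb.mul_left a)⟩
      obtain ⟨y, hy, rfl⟩ := iha ha x hx
      obtain ⟨z, hz, rfl⟩ := ihb hb y hy
      exact ⟨z, hz, mul_smul a b z⟩
  refine ⟨?_, ?_⟩
  · intro ℓ hℓ x hx
    rw [AddSubgroup.mem_comap] at hx
    obtain ⟨n, hn, hnx⟩ := (hT'' _).mp hx
    have hcop : Nat.Coprime ℓ n :=
      (Nat.Prime.coprime_iff_not_dvd (hP ℓ hℓ)).mpr (fun h => hn.2 ℓ (hP ℓ hℓ) h hℓ)
    have hc := div_of_coprime hcop (π x) hnx
    obtain ⟨y', hy'⟩ := hπ (Nat.gcdA ℓ n • π x)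
    have hker : x - ℓ • y' ∈ π.ker := by
      rw [AddMonoidHom.mem_ker, map_sub, map_nsmul, hy', ← hc, sub_self]
    obtain ⟨z, hz, hz'⟩ := hD ℓ hℓ _ hker
    refine ⟨y' + z, ?_, ?_⟩
    · rw [AddSubgroup.mem_comap, map_add, hy', (AddMonoidHom.mem_ker).mp hz, add_zero]
      exact T'.zsmul_mem hx _
    · rw [smul_add, hz', add_sub_cancel]
  · let AP : AddSubgroup A :=
      { carrier := {a | ∃ n, IP P n ∧ n • a = 0}
        zero_mem' := ⟨1, IP_one, smul_zero 1⟩
        add_mem' := by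
          rintro a b ⟨n, hn, hna⟩ ⟨m, hm, hmb⟩
          refine ⟨n * m, IP_mul hn hm, ?_⟩
          rw [smul_add, mul_smul, mul_smul, hmb, smul_comm n m a, hna, smul_zero, smul_zero,
            add_zero]
        neg_mem' := by
          rintro a ⟨n, hn, hna⟩
          exact ⟨n, hn, by rw [smul_neg, hna, neg_zero]⟩ }
    have hlift : ∀ t : TP, ∃ a : AP, π a = t := by
      rintro ⟨t, ht⟩
      obtain ⟨n, hn, hnt⟩ := (hTP' t).mp ht
      obtain ⟨a, rfl⟩ := hπ t
      have hk : n • a ∈ π.ker := by rw [AddMonoidHom.mem_ker, map_nsmul, hnt]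
      obtain ⟨d, hd, hnd⟩ := hDn n hn _ hk
      refine ⟨⟨a - d, n, hn, by rw [smul_sub, hnd, sub_self]⟩, ?_⟩
      show π (a - d) = π a
      rw [map_sub, (AddMonoidHom.mem_ker).mp hd, sub_zero]
    let K : AddSubgroup AP := (π.comp AP.subtype).ker
    have hKdiv : ∀ n : ℕ, n ≠ 0 → Function.Surjective (fun x : K => n • x) := by
      intro n
      induction n using Nat.recOnMul with
      | zero => intro h; exact absurd rfl h
      | one => intro _ x; exact ⟨x, one_smul _ x⟩
      | prime q hq =>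
        rintro - ⟨⟨a, m, hm, hma⟩, hak⟩
        have hak' : π a = 0 := hak
        by_cases hqP : q ∈ P
        · obtain ⟨y, hy, hqy⟩ := hD q hqP a hak'
          have hyAP : y ∈ AP :=
            ⟨q * m, IP_mul (IP_prime hq hqP) hm, by rw [mul_comm, mul_smul, hqy, hma]⟩
          refine ⟨⟨⟨y, hyAP⟩, hy⟩, ?_⟩
          apply Subtype.ext
          apply Subtype.ext
          exact hqy
        · have hcop : Nat.Coprime q m :=
            (Nat.Prime.coprime_iff_not_dvd hq).mpr (fun h => hqP (hm.2 q hq h))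
          have hdiv := div_of_coprime hcop a hma
          have hcAP : Nat.gcdA q m • a ∈ AP := ⟨m, hm, by rw [smul_comm, hma, smul_zero]⟩
          refine ⟨⟨⟨Nat.gcdA q m • a, hcAP⟩, ?_⟩, ?_⟩
          · show π (Nat.gcdA q m • a) = 0
            rw [map_zsmul, hak', smul_zero]
          · apply Subtype.ext
            apply Subtype.ext
            exact hdiv.symm
      | mul a b iha ihb =>
        intro hab x
        have ha : a ≠ 0 := left_ne_zero_of_mul hab
        have hb : b ≠ 0 := right_ne_zero_of_mul hab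
        obtain ⟨y, rfl⟩ := iha ha x
        obtain ⟨z, rfl⟩ := ihb hb y
        exact ⟨z, mul_smul a b z⟩
    haveI : DivisibleBy K ℕ := divisibleByOfSMulRightSurj K ℕ (fun {n} hn => hKdiv n hn)
    haveI : DivisibleBy K ℤ := AddGroup.divisibleByIntOfDivisibleByNat K
    have hBaer : Module.Baer ℤ K := Module.Baer.of_divisible K
    obtain ⟨r, hr⟩ := hBaer.extension_property_addMonoidHom K.subtype K.subtype_injective
      (AddMonoidHom.id K)
    have hr' : ∀ x : K, r (x : AP) = x := fun x => DFunLike.congr_fun hr x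
    have hφ : ∀ a b : AP, π a = π b →
        (a : A) - ((r a : AP) : A) = (b : A) - ((r b : AP) : A) := by
      intro a b hab
      have hmem : a - b ∈ K := by
        show π ((a - b : AP) : A) = 0
        rw [AddSubgroup.coe_sub, map_sub, hab, sub_self]
      have h1 := hr' ⟨a - b, hmem⟩
      have h2 : ((r a : AP) : A) - ((r b : AP) : A) = (a : A) - (b : A) := by
        have := congrArg (fun x : K => ((x : AP) : A)) h1
        simpa [map_sub] using this
      have h3 : (a : A) - ((r a : AP) : A) - ((b : A) - ((r b : AP) : A))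
          = ((a : A) - (b : A)) - (((r a : AP) : A) - ((r b : AP) : A)) := by abel
      rw [← sub_eq_zero, h3, h2, sub_self]
    choose lift hlift' using hlift
    let s : TP →+ A := AddMonoidHom.mk'
      (fun t => ((lift t : AP) : A) - ((r (lift t) : AP) : A)) (by
        intro t t'
        have e : π ((lift (t + t') : AP) : A) = π ((lift t + lift t' : AP) : A) := by
          rw [AddSubgroup.coe_add, map_add, hlift', hlift', hlift', AddSubgroup.coe_add]
        rw [hφ _ _ e, map_add]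
        simp only [AddSubgroup.coe_add]
        abel)
    have hs : ∀ t : TP, π (s t) = t := by
      intro t
      show π (((lift t : AP) : A) - ((r (lift t) : AP) : A)) = t
      rw [map_sub, hlift']
      have : π ((r (lift t) : AP) : A) = 0 := (r (lift t)).2
      rw [this, sub_zero]
    refine ⟨s, hs, ?_, ?_⟩
    · rintro ⟨d, t⟩ ⟨d', t'⟩ h
      simp only at h
      have h1 := congrArg π h
      rw [map_add, map_add, hs, hs] at h1
      have hmem1 : (t : T) - t' ∈ TP := TP.sub_mem t.2 t'.2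
      have hmem2 : (t : T) - t' ∈ T' := by
        have : (t : T) - t' = π d' - π d := by
          rw [sub_eq_sub_iff_add_eq_add, add_comm, h1, add_comm]
        rw [this]
        exact T'.sub_mem d'.2 d.2
      obtain ⟨n, hn, hn0⟩ := (hTP' _).mp hmem1
      obtain ⟨m, hm, hm0⟩ := (hT'' _).mp hmem2
      have hzero := zero_of_coprime (coprime_IP_IP' hn hm) _ hn0 hm0
      have htt : t = t' := Subtype.ext (sub_eq_zero.mp hzero)
      subst htt
      have : d = d' := Subtype.ext (add_right_cancel h)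
      rw [this]
    · intro a
      obtain ⟨N, hN0, hN⟩ := hT (π a)
      obtain ⟨n, m, hn, hm, rfl⟩ := split P N hN0
      have hcop := coprime_IP_IP' hn hm
      have hb := bezout_smul hcop (π a)
      have ht : m • (Nat.gcdB n m • π a) ∈ TP :=
        (hTP' _).mpr ⟨n, hn, by
          rw [smul_comm m, smul_comm n, ← mul_smul, hN, smul_zero]⟩
      have hd : a - s ⟨_, ht⟩ ∈ T'.comap π := by
        rw [AddSubgroup.mem_comap, map_sub, hs]
        have : π a - m • (Nat.gcdB n m • π a) = n • (Nat.gcdA n m • π a) := by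
          rw [sub_eq_iff_eq_add]
          exact hb
        rw [this]
        exact (hT'' _).mpr ⟨m, hm, by
          rw [smul_comm n, smul_comm m, ← mul_smul, mul_comm, hN, smul_zero]⟩
      exact ⟨(⟨a - s ⟨_, ht⟩, hd⟩, ⟨_, ht⟩), by simp⟩

end Groth.Agent.S16343
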