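import Groth.Statements.S16344
import Mathlib

set_option autoImplicit false
universe u v
open IdeleMod

namespace Groth.Agent.S16344

theorem exists_compatible
    {ι : Type u} [Preorder ι] [IsDirected ι (· ≤ ·)]
    (G : ι → Type v) [∀ i, TopologicalSpace (G i)] [∀ i, CompactSpace (G i)] [∀ i, T2Space (G i)]
    (f : ∀ ⦃i j : ι⦄, i ≤ j → (G j → G i)) (hf : ∀ i j (h : i ≤ j), Continuous (f h))
    (hcomp : ∀ i j k (hij : i ≤ j) (hjk : j ≤ k) (x : G k), f hij (f hjk x) = f (hij.trans hjk) x)
    (S : ∀ i, Set (G i)) (hSc : ∀ i, IsClosed (S i)) (hSn : ∀ i, (S i).Nonempty)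
    (hSf : ∀ i j (h : i ≤ j), ∀ x ∈ S j, f h x ∈ S i) :
    ∃ z : ∀ i, G i, (∀ i, z i ∈ S i) ∧ ∀ i j (h : i ≤ j), f h (z j) = z i := by
  classical
  rcases isEmpty_or_nonempty ι with hι | hι
  · exact ⟨fun i => (hι.false i).elim, fun i => (hι.false i).elim, fun i => (hι.false i).elim⟩
  let Z : ι → Set (∀ i, G i) := fun k =>
    {z | (∀ i, z i ∈ S i) ∧ ∀ i j (h : i ≤ j), j ≤ k → f h (z j) = z i}
  have hclosed : ∀ k, IsClosed (Z k) := by
    intro k
    have : Z k = (⋂ i, (fun z : ∀ i, G i => z i) ⁻¹' S i) ∩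
        ⋂ i, ⋂ j, ⋂ (h : i ≤ j), ⋂ (_ : j ≤ k), {z | f h (z j) = z i} := by
      ext z
      simp [Z]
    rw [this]
    refine IsClosed.inter (isClosed_iInter fun i => (hSc i).preimage (continuous_apply i)) ?_
    refine isClosed_iInter fun i => isClosed_iInter fun j => isClosed_iInter fun h =>
      isClosed_iInter fun _ => ?_
    exact isClosed_eq ((hf i j h).comp (continuous_apply j)) (continuous_apply i)
  have hZ : (⋂ k, Z k).Nonempty := by
    apply IsCompact.nonempty_iInter_of_directed_nonempty_isCompact_isClosed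
    · intro k k'
      obtain ⟨k'', h1, h2⟩ := exists_ge_ge k k'
      refine ⟨k'', ?_, ?_⟩
      · rintro z ⟨hz1, hz2⟩
        exact ⟨hz1, fun i j h hj => hz2 i j h (hj.trans h1)⟩
      · rintro z ⟨hz1, hz2⟩
        exact ⟨hz1, fun i j h hj => hz2 i j h (hj.trans h2)⟩
    · intro k
      obtain ⟨s, hs⟩ := hSn k
      choose a ha using hSn
      refine ⟨fun i => if h : i ≤ k then f h s else a i, ?_, ?_⟩
      · intro i
        by_cases h : i ≤ k
        · simp only [dif_pos h]
          exact hSf i k h s hs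
        · simp only [dif_neg h]
          exact ha i
      · intro i j h hj
        have hi : i ≤ k := h.trans hj
        simp only [dif_pos hj, dif_pos hi]
        exact hcomp i j k h hj s
    · intro k
      exact (hclosed k).isCompact
    · exact hclosed
  obtain ⟨z, hz⟩ := hZ
  rw [Set.mem_iInter] at hz
  obtain ⟨k0⟩ := hι
  exact ⟨z, (hz k0).1, fun i j h => (hz j).2 i j h le_rfl⟩

/-- Let (G_i) be an inverse system, indexed by a directed preorder, of compact Hausdorff topological
abelian groups with continuous surjective transition maps, let G be its limit (the group of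
compatible families) and let m be a natural number. Then the canonical map G/mG → lim G_i/mG_i is
bijective: a compatible family that lies in mG_i at every index is m times a compatible family
(injectivity), and every family that is compatible modulo m agrees modulo m, index by index, with a
compatible family (surjectivity). -/
theorem result
    {ι : Type u} [Preorder ι] [IsDirected ι (· ≤ ·)]
    (G : ι → Type v) [∀ i, AddCommGroup (G i)] [∀ i, TopologicalSpace (G i)]
    [∀ i, IsTopologicalAddGroup (G i)] [∀ i, CompactSpace (G i)] [∀ i, T2Space (G i)]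
    (f : ∀ ⦃i j : ι⦄, i ≤ j → (G j →+ G i)) (hf : ∀ i j (h : i ≤ j), Continuous (f h))
    (hid : ∀ i (x : G i), f (le_refl i) x = x)
    (hcomp : ∀ i j k (hij : i ≤ j) (hjk : j ≤ k) (x : G k), f hij (f hjk x) = f (hij.trans hjk) x)
    (hsurj : ∀ i j (h : i ≤ j), Function.Surjective (f h)) (m : ℕ) :
    (∀ x : ∀ i, G i, (∀ i j (h : i ≤ j), f h (x j) = x i) → (∀ i, ∃ y : G i, m • y = x i) →
        ∃ z : ∀ i, G i, (∀ i j (h : i ≤ j), f h (z j) = z i) ∧ ∀ i, m • z i = x i) ∧
    (∀ y : ∀ i, G i, (∀ i j (h : i ≤ j), ∃ w : G i, f h (y j) - y i = m • w) →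
        ∃ x : ∀ i, G i, (∀ i j (h : i ≤ j), f h (x j) = x i) ∧ ∀ i, ∃ w : G i, x i - y i = m • w) := by
  refine ⟨?_, ?_⟩
  · intro x hx hdiv
    obtain ⟨z, hz1, hz2⟩ := exists_compatible G (fun i j h => ⇑(f h)) hf hcomp
      (fun i => {z | m • z = x i})
      (fun i => isClosed_singleton.preimage (continuous_nsmul m))
      hdiv
      (by
        intro i j h z hz
        simp only [Set.mem_setOf_eq] at hz ⊢
        rw [← map_nsmul, hz, hx])
    exact ⟨z, hz2, hz1⟩
  · intro y hy
    obtain ⟨x, hx1, hx2⟩ := exists_compatible G (fun i j h => ⇑(f h)) hf hcomp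
      (fun i => Set.range (fun w : G i => m • w + y i))
      (fun i => (isCompact_range ((continuous_nsmul m).add continuous_const)).isClosed)
      (fun i => ⟨y i, 0, by simp⟩)
      (by
        rintro i j h _ ⟨w, rfl⟩
        obtain ⟨w', hw'⟩ := hy i j h
        refine ⟨f h w + w', ?_⟩
        simp only
        rw [map_add, map_nsmul, smul_add, sub_eq_iff_eq_add.mp hw']
        abel)
    refine ⟨x, hx2, fun i => ?_⟩
    obtain ⟨w, hw⟩ := hx1 i
    exact ⟨w, by rw [← hw]; simp⟩

end Groth.Agent.S16344
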