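import Groth.Statements.S16346
import Mathlib

set_option autoImplicit false
universe u v
open KatoHom

namespace Groth.Agent.S16346

/-- Let P be a set of primes and I_P the set of positive integers all of whose prime factors lie in P.
Let A be an abelian group, (B_n)_{n ∈ I_P} an inverse system of abelian groups with transition maps
B_n → B_m for m ∣ n, and φ_n : A → B_n homomorphisms vanishing on nA and compatible with the
transition maps, so that they induce φ̂ : Â → B̂ on the limits Â = lim A/nA and B̂ = lim B_n (limits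
taken as compatible families). Suppose some N ∈ I_P kills the torsion subgroup of B̂ and kills the
kernel of φ̂ (the latter meaning: a compatible family of residues (a_n) with φ_n(a_n) = 0 for all n
has N a_n ∈ nA for all n). Then the subgroup ⋂_{n ∈ I_P} nA is ℓ-divisible for every ℓ ∈ P, and it
contains every subgroup of A that is ℓ-divisible for all ℓ ∈ P; that is, it is the largest
P-divisible subgroup of A. -/
theorem result
    {A : Type u} [AddCommGroup A] (P : Set ℕ) (hP : ∀ p ∈ P, p.Prime)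
    (IP : Set ℕ) (hIP : ∀ n, n ∈ IP ↔ 0 < n ∧ ∀ p : ℕ, p.Prime → p ∣ n → p ∈ P)
    (B : IP → Type v) [∀ n, AddCommGroup (B n)]
    (g : ∀ ⦃m n : IP⦄, (m : ℕ) ∣ (n : ℕ) → (B n →+ B m))
    (hgid : ∀ (n : IP) (b : B n), g (dvd_refl (n : ℕ)) b = b)
    (hgcomp : ∀ (k m n : IP) (hkm : (k : ℕ) ∣ (m : ℕ)) (hmn : (m : ℕ) ∣ (n : ℕ)) (b : B n),
      g hkm (g hmn b) = g (hkm.trans hmn) b)
    (φ : ∀ n : IP, A →+ B n) (hφ : ∀ (n : IP) (a : A), φ n ((n : ℕ) • a) = 0)
    (hφg : ∀ (m n : IP) (h : (m : ℕ) ∣ (n : ℕ)) (a : A), g h (φ n a) = φ m a)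
    (N : ℕ) (hN : N ∈ IP)
    (htor : ∀ b : ∀ n : IP, B n, (∀ (m n : IP) (h : (m : ℕ) ∣ (n : ℕ)), g h (b n) = b m) →
      (∃ k : ℕ, 0 < k ∧ ∀ n, k • b n = 0) → ∀ n, N • b n = 0)
    (hker : ∀ a : IP → A, (∀ m n : IP, (m : ℕ) ∣ (n : ℕ) → ∃ c : A, a n - a m = (m : ℕ) • c) →
      (∀ n, φ n (a n) = 0) → ∀ n : IP, ∃ c : A, N • a n = (n : ℕ) • c) :
    (∀ ℓ ∈ P, ∀ x : A, (∀ n ∈ IP, ∃ y : A, x = n • y) →
        ∃ y : A, (∀ n ∈ IP, ∃ z : A, y = n • z) ∧ ℓ • y = x) ∧
    (∀ H : AddSubgroup A, (∀ ℓ ∈ P, ∀ x ∈ H, ∃ y ∈ H, ℓ • y = x) →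
        ∀ x ∈ H, ∀ n ∈ IP, ∃ y : A, x = n • y) := by
  have hmulIP : ∀ a b : ℕ, a ∈ IP → b ∈ IP → a * b ∈ IP := by
    intro a b ha hb
    rw [hIP] at ha hb ⊢
    exact ⟨Nat.mul_pos ha.1 hb.1, fun p hp h => (hp.dvd_mul.mp h).elim (ha.2 p hp) (hb.2 p hp)⟩
  have hprimeIP : ∀ ℓ ∈ P, ℓ ∈ IP := by
    intro ℓ hℓ
    rw [hIP]
    exact ⟨(hP ℓ hℓ).pos, fun p hp hpl => by rwa [(Nat.prime_dvd_prime_iff_eq hp (hP ℓ hℓ)).mp hpl]⟩
  have claim : ∀ k : ℕ, 0 < k → ∀ c : A, (∀ n ∈ IP, ∃ y : A, k • c = n • y) →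
      ∀ n ∈ IP, ∃ z : A, N • N • c = n • z := by
    intro k hk c hc
    have h1 : ∀ n : IP, N • φ n c = 0 := by
      refine htor (fun n => φ n c) (fun m n h => hφg m n h c) ⟨k, hk, fun n => ?_⟩
      obtain ⟨y, hy⟩ := hc n n.2
      rw [← map_nsmul, hy, hφ]
    have h2 := hker (fun _ => N • c) (fun m n _ => ⟨0, by simp⟩)
      (fun n => by rw [map_nsmul]; exact h1 n)
    intro n hn
    exact h2 ⟨n, hn⟩
  refine ⟨?_, ?_⟩
  · intro ℓ hℓ x hx
    have hk : ℓ * N * N ∈ IP := hmulIP _ _ (hmulIP _ _ (hprimeIP ℓ hℓ) hN) hN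
    obtain ⟨w, hw⟩ := hx _ hk
    have hk0 : 0 < ℓ * N * N := ((hIP _).mp hk).1
    refine ⟨N • N • w, claim (ℓ * N * N) hk0 w (fun n hn => ?_), ?_⟩
    · rw [← hw]
      exact hx n hn
    · rw [hw, mul_smul, mul_smul]
  · intro H hH
    have key : ∀ n : ℕ, n ∈ IP → ∀ x ∈ H, ∃ y ∈ H, n • y = x := by
      intro n
      induction n using Nat.recOnMul with
      | zero =>
        intro h
        exact absurd ((hIP 0).mp h).1 (lt_irrefl 0)
      | one =>
        intro _ x hx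
        exact ⟨x, hx, one_smul _ x⟩
      | prime p hp =>
        intro h x hx
        exact hH p (((hIP p).mp h).2 p hp dvd_rfl) x hx
      | mul a b iha ihb =>
        intro h x hx
        have h' := (hIP _).mp h
        have ha0 : 0 < a := by
          rcases Nat.eq_zero_or_pos a with rfl | h''
          · exact absurd h'.1 (by simp)
          · exact h''
        have hb0 : 0 < b := by
          rcases Nat.eq_zero_or_pos b with rfl | h''
          · exact absurd h'.1 (by simp)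
          · exact h''
        have ha : a ∈ IP := (hIP a).mpr ⟨ha0, fun p hp hpa => h'.2 p hp (hpa.mul_right b)⟩
        have hb : b ∈ IP := (hIP b).mpr ⟨hb0, fun p hp hpb => h'.2 p hp (hpb.mul_left a)⟩
        obtain ⟨y, hy, rfl⟩ := iha ha x hx
        obtain ⟨z, hz, rfl⟩ := ihb hb y hy
        exact ⟨z, hz, mul_smul a b z⟩
    intro x hx n hn
    obtain ⟨y, _, hy⟩ := key n hn x hx
    exact ⟨y, hy.symm⟩

end Groth.Agent.S16346
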