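import Groth.Statements.S16347
import Groth.Agent.Lib.Helper18.Sing3

set_option autoImplicit false
universe u
open Cubic

namespace Groth.Agent.S16347

open MvPolynomial Groth.Agent.Lib.Helper18.CubicK Groth.Agent.Lib.Helper18.Nodal
  Groth.Agent.Lib.Helper18.Sing

/-- Let K be an algebraically closed field of characteristic zero and S = V(F) ⊂ P^3_K a cubic surface,
F a homogeneous cubic in four variables which is irreducible and not a cone (there is no nonzero
vector v with Σ_i v_i ∂F/∂x_i = 0). If a is a singular point of S (a nonzero vector with F(a) = 0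
and every ∂F/∂x_i(a) = 0), then at most six lines through a lie on S; here a line through a on S is
a 2-dimensional subspace of K^4 containing a on which F vanishes identically. -/
theorem result (K : Type u) [Field K] [IsAlgClosed K] [CharZero K]
    (F : MvPolynomial (Fin 4) K) (hF : F.IsHomogeneous 3) (hirr : Irreducible F)
    (hcone : ¬ ∃ v : Fin 4 → K, v ≠ 0 ∧ ∑ i : Fin 4, v i • MvPolynomial.pderiv i F = 0)
    (a : Fin 4 → K) (ha : a ≠ 0) (hFa : MvPolynomial.eval a F = 0)
    (hsing : ∀ i : Fin 4, MvPolynomial.eval a (MvPolynomial.pderiv i F) = 0) :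
    {U : Submodule K (Fin 4 → K) | a ∈ U ∧ Module.finrank K ↥U = 2 ∧ ∀ u ∈ U, MvPolynomial.eval u F = 0}.encard ≤ 6 := by
  have h0 : Ctx0 F a := ⟨hF, ha, PhiF_pp hF a hsing⟩
  have hq : ∃ v : Fin 4 → K, Qp F a v ≠ 0 := by
    by_contra hcon
    push Not at hcon
    apply hcone
    refine ⟨a, ha, ?_⟩
    apply MvPolynomial.funext
    intro v
    rw [grad_sum hF, hcon, map_zero]
  obtain ⟨S, hSdef⟩ : ∃ S : Set (Submodule K (Fin 4 → K)), S = {U : Submodule K (Fin 4 → K) |
      a ∈ U ∧ Module.finrank K ↥U = 2 ∧ ∀ u ∈ U, MvPolynomial.eval u F = 0} := ⟨_, rfl⟩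
  rw [← hSdef]
  have hSprop : ∀ U ∈ S, a ∈ U ∧ Module.finrank K ↥U = 2 ∧ ∀ u ∈ U, eval u F = 0 := by
    intro U hU
    rw [hSdef] at hU
    exact hU
  by_cases hR3 : ∀ u : Fin 4 → K, (∀ v : Fin 4 → K, PhiF F a u v = 0) → u ∈ Submodule.span K {a}
  · obtain ⟨A, B, C', β, Fr⟩ := exists_frame0 h0 hR3
    exact encard_rank3 Fr h0 hirr S hSprop
  · push Not at hR3
    obtain ⟨c, hcrad, hca⟩ := hR3
    by_cases hR2 : ∀ u : Fin 4 → K, (∀ v : Fin 4 → K, PhiF F a u v = 0) → ∃ x y : K, u = x • a + y • c
    · obtain ⟨A, B, β, hind, hβ, hform⟩ := exists_rank2 h0 c hca hcrad hR2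
      have hind' : Ind4 B A c a := by
        intro x y z w hz
        have := hind y x z w (by rw [← hz]; abel)
        exact ⟨this.2.1, this.1, this.2.2.1, this.2.2.2⟩
      have hq1 : ∀ y z : K, Qp F a (y • B + z • c) = 0 := by
        intro y z
        have := hform 0 y z 0
        simpa using this
      have hq2 : ∀ y z : K, Qp F a (y • A + z • c) = 0 := by
        intro y z
        have := hform y 0 z 0
        simpa using this
      obtain ⟨S1, hS1⟩ : ∃ S1 : Set (Submodule K (Fin 4 → K)), S1 = {U | ∃ y z : K, (y ≠ 0 ∨ z ≠ 0) ∧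
          eval (y • B + z • c) F = 0 ∧ U = Submodule.span K ({a, y • B + z • c} : Set (Fin 4 → K))} :=
        ⟨_, rfl⟩
      obtain ⟨S2, hS2⟩ : ∃ S2 : Set (Submodule K (Fin 4 → K)), S2 = {U | ∃ y z : K, (y ≠ 0 ∨ z ≠ 0) ∧
          eval (y • A + z • c) F = 0 ∧ U = Submodule.span K ({a, y • A + z • c} : Set (Fin 4 → K))} :=
        ⟨_, rfl⟩
      have hb1 : S1.encard ≤ 3 := family_le_three h0 hirr A B c hind hq1 S1 (by
        intro U hU
        rw [hS1] at hU
        exact hU)
      have hb2 : S2.encard ≤ 3 := family_le_three h0 hirr B A c hind' hq2 S2 (by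
        intro U hU
        rw [hS2] at hU
        exact hU)
      have hsub : S ⊆ S1 ∪ S2 := by
        intro U hU
        obtain ⟨haU, hU2, hUf⟩ := hSprop U hU
        obtain ⟨x, y, z, hxyz, hf0, hq0, rfl⟩ := line_through_sing h0 U haU hU2 hUf A B c hind
        have hq' : Qp F a (x • A + y • B + z • c) = β * x * y := by
          have := hform x y z 0
          simpa using this
        rw [hq'] at hq0
        have hxy : x = 0 ∨ y = 0 := by
          rcases mul_eq_zero.mp hq0 with h' | h'
          · rcases mul_eq_zero.mp h' with h'' | h''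
            · exact absurd h'' hβ
            · exact Or.inl h''
          · exact Or.inr h'
        rcases hxy with rfl | rfl
        · left
          rw [hS1]
          rw [zero_smul, zero_add] at hf0 ⊢
          refine ⟨y, z, ?_, hf0, rfl⟩
          rcases hxyz with h' | h' | h'
          · exact absurd rfl h'
          · exact Or.inl h'
          · exact Or.inr h'
        · right
          rw [hS2]
          rw [zero_smul, add_zero] at hf0 ⊢
          refine ⟨x, z, ?_, hf0, rfl⟩
          rcases hxyz with h' | h' | h'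
          · exact Or.inl h'
          · exact absurd rfl h'
          · exact Or.inr h'
      calc S.encard ≤ (S1 ∪ S2).encard := Set.encard_mono hsub
        _ ≤ S1.encard + S2.encard := Set.encard_union_le _ _
        _ ≤ 3 + 3 := add_le_add hb1 hb2
        _ = 6 := by norm_num
    · push Not at hR2
      obtain ⟨b, hbrad, hb⟩ := hR2
      obtain ⟨A, β, hind, hβ, hform⟩ := exists_rank1 h0 hq c b hca hcrad hb hbrad
      have hq1 : ∀ y z : K, Qp F a (y • b + z • c) = 0 := by
        intro y z
        have := hform 0 y z 0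
        simpa using this
      have hb1 : S.encard ≤ 3 := family_le_three h0 hirr A b c hind hq1 S (by
        intro U hU
        obtain ⟨haU, hU2, hUf⟩ := hSprop U hU
        obtain ⟨x, y, z, hxyz, hf0, hq0, rfl⟩ := line_through_sing h0 U haU hU2 hUf A b c hind
        have hq' : Qp F a (x • A + y • b + z • c) = β * x ^ 2 := by
          have := hform x y z 0
          simpa using this
        rw [hq'] at hq0
        have hx : x = 0 := by
          rcases mul_eq_zero.mp hq0 with h' | h'
          · exact absurd h' hβ
          · exact pow_eq_zero_iff (two_ne_zero) |>.mp h'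
        subst hx
        rw [zero_smul, zero_add] at hf0 ⊢
        refine ⟨y, z, ?_, hf0, rfl⟩
        rcases hxyz with h' | h' | h'
        · exact absurd rfl h'
        · exact Or.inl h'
        · exact Or.inr h')
      calc S.encard ≤ 3 := hb1
        _ ≤ 6 := by norm_num

end Groth.Agent.S16347
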