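import Groth.Statements.S16351
import Mathlib

set_option autoImplicit false
universe u
open Cubic

namespace Groth.Agent.S16351

theorem key1 {K : Type u} [Field K] (x y z : Fin 3 → K)
    (h : LinearIndependent K ![x, y, z]) (s1 s2 s3 : K) :
    LinearIndependent K
      ![(Fin.cons 1 0 : Fin 4 → K), Fin.cons s1 x, Fin.cons s2 y, Fin.cons s3 z] := by
  rw [Fintype.linearIndependent_iff] at h ⊢
  intro g hg
  have htail : ∀ i : Fin 3, (g 1 • x + g 2 • y + g 3 • z) i = 0 := by
    intro i
    have := congrFun hg i.succ
    simpa [Fin.sum_univ_four] using this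
  have h' := h ![g 1, g 2, g 3] (by
    funext i
    simpa [Fin.sum_univ_three] using htail i)
  have h1 : g 1 = 0 := by simpa using h' 0
  have h2 : g 2 = 0 := by simpa using h' 1
  have h3 : g 3 = 0 := by simpa using h' 2
  have h0 : g 0 = 0 := by
    have := congrFun hg 0
    simpa [Fin.sum_univ_four, h1, h2, h3] using this
  intro i
  fin_cases i <;> assumption

theorem key2 {K : Type u} [Field K] (u x y z : Fin 3 → K)
    (h : LinearIndependent K ![x, y, z]) :
    LinearIndependent K
      ![(Fin.cons 1 u : Fin 4 → K), Fin.cons 0 x, Fin.cons 0 y, Fin.cons 0 z] := by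
  rw [Fintype.linearIndependent_iff] at h ⊢
  intro g hg
  have h0 : g 0 = 0 := by
    have := congrFun hg 0
    simpa [Fin.sum_univ_four] using this
  have htail : ∀ i : Fin 3, (g 1 • x + g 2 • y + g 3 • z) i = 0 := by
    intro i
    have := congrFun hg i.succ
    simpa [Fin.sum_univ_four, h0] using this
  have h' := h ![g 1, g 2, g 3] (by
    funext i
    simpa [Fin.sum_univ_three] using htail i)
  have h1 : g 1 = 0 := by simpa using h' 0
  have h2 : g 2 = 0 := by simpa using h' 1
  have h3 : g 3 = 0 := by simpa using h' 2
  intro i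
  fin_cases i <;> assumption

/-- Let K be a field of characteristic zero and S = V(F) ⊂ P^3_K a cone over a plane cubic curve C,
normalised so that the vertex is [1 : 0 : 0 : 0], i.e. F is a homogeneous cubic in K[x_0, …, x_3]
not involving x_0 and C = V(F) in the plane P^2 of the coordinates x_1, x_2, x_3. If C has five
K-rational points no three of which are collinear, then S has five K-rational points in general
position (no four coplanar: any four representing vectors linearly independent). -/
theorem result (K : Type u) [Field K] [CharZero K]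
    (G : MvPolynomial (Fin 3) K) (hG : G.IsHomogeneous 3) (F : MvPolynomial (Fin 4) K)
    (hF : F = MvPolynomial.rename Fin.succ G)
    (b : Fin 5 → (Fin 3 → K)) (hb : ∀ j : Fin 5, MvPolynomial.eval (b j) G = 0)
    (h3 : ∀ i j l : Fin 5, i ≠ j → j ≠ l → i ≠ l → LinearIndependent K ![b i, b j, b l]) :
    ∃ p : Fin 5 → (Fin 4 → K), (∀ j : Fin 5, MvPolynomial.eval (p j) F = 0) ∧
      ∀ j : Fin 5, LinearIndependent K (fun i : Fin 4 => p (j.succAbove i)) := by
  refine ⟨![Fin.cons 1 0, Fin.cons 1 (b 1), Fin.cons 0 (b 2), Fin.cons 0 (b 3), Fin.cons 0 (b 4)],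
    ?_, ?_⟩
  · have hz : MvPolynomial.eval (0 : Fin 3 → K) G = 0 := by
      rw [MvPolynomial.eval_zero, MvPolynomial.constantCoeff_eq]
      exact hG.coeff_eq_zero (by simp)
    intro j
    subst hF
    rw [MvPolynomial.eval_rename]
    fin_cases j
    · simpa [Function.comp_def] using hz
    · simpa [Function.comp_def] using hb 1
    · simpa [Function.comp_def] using hb 2
    · simpa [Function.comp_def] using hb 3
    · simpa [Function.comp_def] using hb 4
  · intro j
    fin_cases j
    · convert key2 (b 1) (b 2) (b 3) (b 4) (h3 2 3 4 (by decide) (by decide) (by decide)) using 1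
      funext i
      fin_cases i <;> rfl
    · convert key1 (b 2) (b 3) (b 4) (h3 2 3 4 (by decide) (by decide) (by decide)) 0 0 0 using 1
      funext i
      fin_cases i <;> rfl
    · convert key1 (b 1) (b 3) (b 4) (h3 1 3 4 (by decide) (by decide) (by decide)) 1 0 0 using 1
      funext i
      fin_cases i <;> rfl
    · convert key1 (b 1) (b 2) (b 4) (h3 1 2 4 (by decide) (by decide) (by decide)) 1 0 0 using 1
      funext i
      fin_cases i <;> rfl
    · convert key1 (b 1) (b 2) (b 3) (h3 1 2 3 (by decide) (by decide) (by decide)) 1 0 0 using 1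
      funext i
      fin_cases i <;> rfl

end Groth.Agent.S16351
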