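import Groth.Statements.S16353
import Mathlib.Tactic

set_option autoImplicit false
universe u
open DegLoci MvPolynomial

namespace Groth.Agent.S16353

variable {k : Type u} [Field k] {m : ℕ}

def PP (β α : Fin m →₀ ℕ) : ℕ := β.support.prod fun i => Nat.descFactorial (β i) (α i)

def fact (β : Fin m →₀ ℕ) : ℕ := ∏ i, (β i).factorial

lemma PP_add (α γ : Fin m →₀ ℕ) : fact γ * PP (α + γ) α = fact (α + γ) := by
  unfold PP fact
  rw [Finset.prod_subset (Finset.subset_univ (α + γ).support), ← Finset.prod_mul_distrib]
  · refine Finset.prod_congr rfl fun i _ => ?_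
    have := Nat.factorial_mul_descFactorial (n := (α + γ) i) (k := α i) (by simp)
    simpa using this
  · intro i _ hi
    have h0 : (α + γ) i = 0 := by simpa using hi
    have h1 : α i = 0 := by
      have : α i + γ i = 0 := by simpa using h0
      omega
    rw [h0, h1]; rfl

lemma fact_ne_zero (β : Fin m →₀ ℕ) : fact β ≠ 0 :=
  Finset.prod_ne_zero_iff.2 fun i _ => Nat.factorial_ne_zero _

lemma coeff_contract (D G : MvPolynomial (Fin m) k) (γ : Fin m →₀ ℕ) :
    coeff γ (W4c3degenlocivb.contract D G) =
      ∑ α ∈ D.support, coeff α D * coeff (α + γ) G * ((PP (α + γ) α : ℕ) : k) := by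
  unfold W4c3degenlocivb.contract
  rw [coeff_sum]
  refine Finset.sum_congr rfl fun α _ => ?_
  rw [coeff_sum]
  have : ∀ β ∈ G.support, coeff γ (if α ≤ β then monomial (β - α)
      (coeff α D * coeff β G * ((β.support.prod fun i => Nat.descFactorial (β i) (α i) : ℕ) : k))
        else 0) = if β = α + γ then coeff α D * coeff (α + γ) G * ((PP (α + γ) α : ℕ) : k) else 0 := by
    intro β _
    by_cases hβ : β = α + γ
    · subst hβ
      rw [if_pos le_self_add, if_pos rfl, coeff_monomial, if_pos (by simp)]
      rfl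
    · rw [if_neg hβ]
      split_ifs with h
      · rw [coeff_monomial, if_neg]
        intro h2
        apply hβ
        rw [← h2, add_tsub_cancel_of_le h]
      · exact coeff_zero _
  rw [Finset.sum_congr rfl this, Finset.sum_ite_eq']
  split_ifs with h
  · rfl
  · rw [notMem_support_iff.1 h, mul_zero, zero_mul]


lemma coeff_G (F : MvPolynomial (Fin m) k) (α₀ β : Fin m →₀ ℕ) :
    coeff β (W4c3degenlocivb.contract (monomial α₀ 1) F) =
      coeff (α₀ + β) F * ((PP (α₀ + β) α₀ : ℕ) : k) := by
  classical
  rw [coeff_contract, support_monomial, if_neg one_ne_zero, Finset.sum_singleton,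
    coeff_monomial, if_pos rfl, one_mul]

lemma PP_self (α : Fin m →₀ ℕ) : PP α α = fact α := by
  have h := PP_add α (0 : Fin m →₀ ℕ)
  have h0 : fact (0 : Fin m →₀ ℕ) = 1 := by simp [fact]
  rw [h0, one_mul, add_zero] at h
  exact h

lemma PP_key (α₀ α' : Fin m →₀ ℕ) :
    PP (α₀ + α') α₀ * PP α' α' = fact α₀ * PP (α' + α₀) α' := by
  rw [PP_self, mul_comm, PP_add, PP_add, add_comm]

lemma coeff_zero_DG (D F : MvPolynomial (Fin m) k) (α₀ : Fin m →₀ ℕ) :
    coeff 0 (W4c3degenlocivb.contract D (W4c3degenlocivb.contract (monomial α₀ 1) F)) =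
      ((fact α₀ : ℕ) : k) * coeff α₀ (W4c3degenlocivb.contract D F) := by
  rw [coeff_contract, coeff_contract, Finset.mul_sum]
  refine Finset.sum_congr rfl fun α' _ => ?_
  rw [add_zero, coeff_G]
  have h := congrArg (Nat.cast (R := k)) (PP_key α₀ α')
  push_cast at h
  rw [add_comm α' α₀] at h ⊢
  linear_combination (coeff α' D * coeff (α₀ + α') F) * h


/-- Let k be a field of characteristic zero, R = k[y_0, …, y_{m−1}] acting on S = k[∂_0, …, ∂_{m−1}] by
apolarity (y_i acts as the derivative with respect to ∂_i), F ∈ S homogeneous of degree e and d ≤ e.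
Then the degree-d part of the apolar ideal of F is the orthogonal complement of the partial
derivatives of F of order e − d: a homogeneous D ∈ R_d satisfies D(F) = 0 if and only if D(y^α(F)) =
0 for every multi-index α with |α| = e − d (each D(y^α(F)) being a constant, the value of the
apolarity pairing of D with y^α(F)). -/
theorem result (k : Type u) [Field k] [CharZero k] (m : ℕ)
    (F : MvPolynomial (Fin m) k) (e : ℕ) (hF : F.IsHomogeneous e) (d : ℕ) (hd : d ≤ e)
    (D : MvPolynomial (Fin m) k) (hD : D.IsHomogeneous d) :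
    W4c3degenlocivb.contract D F = 0 ↔
      ∀ α : Fin m →₀ ℕ, α.degree = e - d → W4c3degenlocivb.contract D (W4c3degenlocivb.contract (MvPolynomial.monomial α 1) F) = 0 := by
  have hFz : ∀ β : Fin m →₀ ℕ, β.degree ≠ e → coeff β F = 0 := fun β hβ => hF.coeff_eq_zero hβ
  have hDz : ∀ β : Fin m →₀ ℕ, β.degree ≠ d → coeff β D = 0 := fun β hβ => hD.coeff_eq_zero hβ
  constructor
  · intro hDF α₀ hα₀
    ext γ
    rw [coeff_zero]
    by_cases hγ : γ = 0
    · subst hγ
      rw [coeff_zero_DG, hDF, coeff_zero, mul_zero]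
    · rw [coeff_contract]
      refine Finset.sum_eq_zero fun α' _ => ?_
      by_cases hα' : α'.degree = d
      · rw [coeff_G, hFz, zero_mul, mul_zero, zero_mul]
        rw [map_add, map_add, hα₀, hα']
        have : γ.degree ≠ 0 := fun h => hγ ((Finsupp.degree_eq_zero_iff γ).1 h)
        omega
      · rw [hDz α' hα', zero_mul, zero_mul]
  · intro h
    ext γ
    rw [coeff_zero]
    by_cases hγ : γ.degree = e - d
    · have h1 := congrArg (coeff 0) (h γ hγ)
      rw [coeff_zero_DG, coeff_zero] at h1
      rcases mul_eq_zero.1 h1 with h2 | h2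
      · exact absurd (by exact_mod_cast h2) (fact_ne_zero γ)
      · exact h2
    · rw [coeff_contract]
      refine Finset.sum_eq_zero fun α' _ => ?_
      by_cases hα' : α'.degree = d
      · rw [hFz, mul_zero, zero_mul]
        rw [map_add, hα']
        omega
      · rw [hDz α' hα', zero_mul, zero_mul]

end Groth.Agent.S16353
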