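import Groth.Statements.S16355
import Groth.Agent.Lib.Helper18.Pfaff
import Mathlib.LinearAlgebra.Matrix.NonsingularInverse
import Mathlib.LinearAlgebra.Matrix.Determinant.Basic
import Mathlib.Algebra.MvPolynomial.Eval
import Mathlib.Tactic.Ring
import Mathlib.Tactic.LinearCombination

set_option autoImplicit false
universe u
open DegLoci

namespace Groth.Agent.S16355

open Groth.Agent.Lib.Helper18.Pfaff W4c3degenlocivb

variable {k : Type u} [Field k]

noncomputable def Nc (n : ℕ) (c : Fin n → Fin n → Fin 2 → k) :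
    Matrix (Fin n) (Fin n) (MvPolynomial (Fin 2) k) :=
  Matrix.of fun a b => ∑ l : Fin 2, MvPolynomial.C (c a b l) * MvPolynomial.X l

noncomputable def Gen (k : Type u) [Field k] (n : ℕ) :
    Matrix (Fin n) (Fin n) (MvPolynomial (Fin 2) (MvPolynomial (Fin n × Fin n × Fin 2) k)) :=
  Matrix.of fun a b => ∑ l : Fin 2, MvPolynomial.C (MvPolynomial.X (a, b, l)) * MvPolynomial.X l

theorem Gen_map (n : ℕ) (c : Fin n → Fin n → Fin 2 → k) :
    (Gen k n).map (MvPolynomial.map (MvPolynomial.eval (fun p : Fin n × Fin n × Fin 2 => c p.1 p.2.1 p.2.2)))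
      = Nc n c := by
  refine Matrix.ext (fun a b => ?_)
  unfold Gen Nc
  rw [Matrix.map_apply, Matrix.of_apply, Matrix.of_apply, map_sum]
  apply Finset.sum_congr rfl
  intro l _
  rw [map_mul, MvPolynomial.map_C, MvPolynomial.map_X, MvPolynomial.eval_X]

noncomputable def mono (r : ℕ) (t : Fin (r + 1)) : Fin 2 →₀ ℕ :=
  Finsupp.single 0 (t : ℕ) + Finsupp.single 1 (r - (t : ℕ))

theorem mono_zero (r : ℕ) (t : Fin (r + 1)) : mono r t 0 = (t : ℕ) := by
  unfold mono
  simp

theorem mono_one (r : ℕ) (t : Fin (r + 1)) : mono r t 1 = r - (t : ℕ) := by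
  unfold mono
  simp

theorem mono_inj (r : ℕ) {s t : Fin (r + 1)} (h : mono r s = mono r t) : s = t := by
  have := congrArg (fun f => f 0) h
  simp only [mono_zero] at this
  exact Fin.ext this

def idx (r : ℕ) (s : Fin (r + 1)) : Fin (2 * r + 1) := ⟨2 * (s : ℕ), by have := s.2; omega⟩

noncomputable def Phi (k : Type u) [Field k] (r : ℕ) : MvPolynomial (Fin (2 * r + 1) × Fin (2 * r + 1) × Fin 2) k :=
  Matrix.det (Matrix.of fun s t : Fin (r + 1) => MvPolynomial.coeff (mono r t)
    (pf (2 * r) ((Gen k (2 * r + 1)).submatrix (idx r s).succAbove (idx r s).succAbove)))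

noncomputable def K (r : ℕ) (c : Fin (2 * r + 1) → Fin (2 * r + 1) → Fin 2 → k) :
    Matrix (Fin (r + 1)) (Fin (r + 1)) k :=
  Matrix.of fun s t : Fin (r + 1) => MvPolynomial.coeff (mono r t)
    (pf (2 * r) ((Nc (2 * r + 1) c).submatrix (idx r s).succAbove (idx r s).succAbove))

theorem eval_Phi (r : ℕ) (c : Fin (2 * r + 1) → Fin (2 * r + 1) → Fin 2 → k) :
    MvPolynomial.eval (fun p : Fin (2 * r + 1) × Fin (2 * r + 1) × Fin 2 => c p.1 p.2.1 p.2.2) (Phi k r)
      = (K r c).det := by
  unfold Phi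
  rw [RingHom.map_det]
  congr 1
  refine Matrix.ext (fun s t => ?_)
  rw [RingHom.mapMatrix_apply, Matrix.map_apply, Matrix.of_apply]
  unfold K
  rw [Matrix.of_apply, ← Gen_map, ← MvPolynomial.coeff_map, ← pf_map]
  rfl

noncomputable def sX (k : Type u) [Field k] (u : ℕ) : MvPolynomial (Fin 2) k :=
  if u % 2 = 0 then MvPolynomial.X 0 else MvPolynomial.X 1

def c0 (k : Type u) [Field k] (n : ℕ) (a b : Fin n) (l : Fin 2) : k :=
  if (b : ℕ) = (a : ℕ) + 1 then (if (l : ℕ) = (a : ℕ) % 2 then 1 else 0)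
  else if (a : ℕ) = (b : ℕ) + 1 then (if (l : ℕ) = (b : ℕ) % 2 then -1 else 0) else 0

theorem c0_antisymm (n : ℕ) (a b : Fin n) (l : Fin 2) : c0 k n b a l = - c0 k n a b l := by
  unfold c0
  by_cases h1 : (b : ℕ) = (a : ℕ) + 1
  · have h2 : ¬ (a : ℕ) = (b : ℕ) + 1 := by omega
    rw [if_neg h2, if_pos h1, if_pos h1]
    split_ifs <;> simp
  · by_cases h2 : (a : ℕ) = (b : ℕ) + 1
    · rw [if_pos h2, if_neg h1, if_pos h2]
      split_ifs <;> simp
    · rw [if_neg h2, if_neg h1, if_neg h1, if_neg h2, neg_zero]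

theorem sum_ind (u : ℕ) (w : k) :
    ∑ l : Fin 2, MvPolynomial.C (if (l : ℕ) = u % 2 then w else 0) * MvPolynomial.X l
      = MvPolynomial.C w * sX k u := by
  rw [Fin.sum_univ_two]
  unfold sX
  rcases Nat.mod_two_eq_zero_or_one u with h | h
  · simp [h]
  · simp [h]

theorem Nc_c0 (n : ℕ) (a b : Fin n) : Nc n (c0 k n) a b = tri (sX k) (a : ℕ) (b : ℕ) := by
  unfold Nc tri c0
  rw [Matrix.of_apply]
  by_cases h1 : (b : ℕ) = (a : ℕ) + 1
  · simp only [if_pos h1]
    rw [sum_ind, map_one, one_mul]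
  · simp only [if_neg h1]
    by_cases h2 : (a : ℕ) = (b : ℕ) + 1
    · simp only [if_pos h2]
      rw [sum_ind, map_neg, map_one, neg_one_mul]
    · simp only [if_neg h2]
      simp

theorem succAbove_val {n : ℕ} (i : Fin (n + 1)) (x : Fin n) :
    (i.succAbove x : ℕ) = if (x : ℕ) < (i : ℕ) then (x : ℕ) else (x : ℕ) + 1 := by
  unfold Fin.succAbove
  by_cases h : Fin.castSucc x < i
  · rw [if_pos h]
    have : (x : ℕ) < (i : ℕ) := by
      rw [Fin.lt_def] at h
      simpa using h
    rw [if_pos this]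
    rfl
  · rw [if_neg h]
    have : ¬ (x : ℕ) < (i : ℕ) := by
      rw [Fin.lt_def] at h
      simpa using h
    rw [if_neg this]
    rfl

theorem sub_c0 (r : ℕ) (s : Fin (r + 1)) :
    (Nc (2 * r + 1) (c0 k (2 * r + 1))).submatrix (idx r s).succAbove (idx r s).succAbove
      = sub (sX k) (fun x : Fin (2 * r) => ee (s : ℕ) (x : ℕ)) := by
  refine Matrix.ext (fun x y => ?_)
  rw [Matrix.submatrix_apply, Nc_c0, succAbove_val, succAbove_val]
  rfl

theorem prod_sX (r : ℕ) (s : Fin (r + 1)) :
    ∏ u ∈ Finset.range r, sX k (ee (s : ℕ) (2 * u)) = MvPolynomial.monomial (mono r s) 1 := by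
  have hs : (s : ℕ) ≤ r := Nat.lt_succ_iff.mp s.2
  rw [← Finset.prod_range_mul_prod_Ico _ hs]
  have h1 : ∏ u ∈ Finset.range (s : ℕ), sX k (ee (s : ℕ) (2 * u)) = MvPolynomial.X 0 ^ (s : ℕ) := by
    conv_rhs => rw [← Finset.card_range (s : ℕ), ← Finset.prod_const]
    apply Finset.prod_congr rfl
    intro u hu
    rw [Finset.mem_range] at hu
    have e1 : ee (s : ℕ) (2 * u) = 2 * u := by
      unfold ee
      rw [if_pos (by omega)]
    rw [e1]
    unfold sX
    rw [if_pos (by omega)]
  have h2 : ∏ u ∈ Finset.Ico (s : ℕ) r, sX k (ee (s : ℕ) (2 * u)) = MvPolynomial.X 1 ^ (r - (s : ℕ)) := by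
    rw [← Nat.card_Ico (s : ℕ) r, ← Finset.prod_const]
    apply Finset.prod_congr rfl
    intro u hu
    rw [Finset.mem_Ico] at hu
    have e1 : ee (s : ℕ) (2 * u) = 2 * u + 1 := by
      unfold ee
      rw [if_neg (by omega)]
    rw [e1]
    unfold sX
    rw [if_neg (by omega)]
  rw [h1, h2, MvPolynomial.X_pow_eq_monomial, MvPolynomial.X_pow_eq_monomial, MvPolynomial.monomial_mul,
    one_mul]
  rfl

theorem K_c0 (r : ℕ) : K r (c0 k (2 * r + 1)) = 1 := by
  refine Matrix.ext (fun s t => ?_)
  unfold K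
  rw [Matrix.of_apply, sub_c0, pf_ee, prod_sX, MvPolynomial.coeff_monomial, Matrix.one_apply]
  by_cases h : s = t
  · rw [if_pos h, if_pos (by rw [h])]
  · rw [if_neg h, if_neg]
    intro h'
    exact h (mono_inj r h')

theorem mono_degree (r : ℕ) (t : Fin (r + 1)) : (mono r t).degree = r := by
  rw [Finsupp.degree_eq_sum, Fin.sum_univ_two, mono_zero, mono_one]
  have := t.2
  omega

theorem homog_expand (r : ℕ) (f : MvPolynomial (Fin 2) k) (hf : f.IsHomogeneous r) :
    f = ∑ t : Fin (r + 1), MvPolynomial.coeff (mono r t) f • MvPolynomial.monomial (mono r t) (1 : k) := by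
  classical
  ext m
  rw [MvPolynomial.coeff_sum]
  simp only [MvPolynomial.coeff_smul, MvPolynomial.coeff_monomial, smul_eq_mul, mul_ite, mul_one, mul_zero]
  by_cases hm : m 0 + m 1 = r
  · have ht0 : m 0 < r + 1 := by omega
    have hmono : mono r ⟨m 0, ht0⟩ = m := by
      ext i
      fin_cases i
      · exact mono_zero r _
      · show mono r ⟨m 0, ht0⟩ 1 = m 1
        rw [mono_one]
        show r - m 0 = m 1
        omega
    rw [Finset.sum_eq_single (⟨m 0, ht0⟩ : Fin (r + 1))]
    · rw [if_pos hmono, hmono]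
    · intro t _ ht
      rw [if_neg]
      intro h
      apply ht
      have := congrArg (fun g => g 0) h
      simp only [mono_zero] at this
      exact Fin.ext this
    · intro h
      exact absurd (Finset.mem_univ _) h
  · have hdeg : m.degree ≠ r := by
      rw [Finsupp.degree_eq_sum, Fin.sum_univ_two]
      exact hm
    rw [hf.coeff_eq_zero hdeg]
    symm
    apply Finset.sum_eq_zero
    intro t _
    rw [if_neg]
    intro h
    apply hdeg
    rw [← h]
    exact mono_degree r t

theorem Nc_homog (n : ℕ) (c : Fin n → Fin n → Fin 2 → k) (a b : Fin n) : (Nc n c a b).IsHomogeneous 1 := by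
  unfold Nc
  rw [Matrix.of_apply]
  apply MvPolynomial.IsHomogeneous.sum
  intro l _
  exact MvPolynomial.isHomogeneous_C_mul_X _ _

theorem v_homog (r : ℕ) (c : Fin (2 * r + 1) → Fin (2 * r + 1) → Fin 2 → k) (i : Fin (2 * r + 1)) :
    (pf (2 * r) ((Nc (2 * r + 1) c).submatrix i.succAbove i.succAbove)).IsHomogeneous r := by
  have := pf_homog (2 * r) ((Nc (2 * r + 1) c).submatrix i.succAbove i.succAbove)
    (fun a b => Nc_homog _ c _ _)
  rwa [Nat.mul_div_cancel_left r (by norm_num : 0 < 2)] at this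

theorem span_eq (r : ℕ) (c : Fin (2 * r + 1) → Fin (2 * r + 1) → Fin 2 → k) (hdet : (K r c).det ≠ 0) :
    Submodule.span k (Set.range fun i : Fin (2 * r + 1) =>
      pf (2 * r) ((Nc (2 * r + 1) c).submatrix i.succAbove i.succAbove)) =
      MvPolynomial.homogeneousSubmodule (Fin 2) k r := by
  classical
  apply le_antisymm
  · rw [Submodule.span_le]
    rintro _ ⟨i, rfl⟩
    exact v_homog r c i
  · intro f hf
    have hf' : f.IsHomogeneous r := hf
    have hinv : (K r c)⁻¹ * K r c = 1 := Matrix.nonsing_inv_mul _ (isUnit_iff_ne_zero.mpr hdet)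
    have hv : ∀ s : Fin (r + 1), pf (2 * r) ((Nc (2 * r + 1) c).submatrix (idx r s).succAbove (idx r s).succAbove)
        = ∑ t : Fin (r + 1), K r c s t • MvPolynomial.monomial (mono r t) (1 : k) := by
      intro s
      exact homog_expand r _ (v_homog r c (idx r s))
    have hmon : ∀ u : Fin (r + 1), MvPolynomial.monomial (mono r u) (1 : k) ∈
        Submodule.span k (Set.range fun i : Fin (2 * r + 1) =>
          pf (2 * r) ((Nc (2 * r + 1) c).submatrix i.succAbove i.succAbove)) := by
      intro u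
      have : MvPolynomial.monomial (mono r u) (1 : k) = ∑ s : Fin (r + 1), (K r c)⁻¹ u s •
          pf (2 * r) ((Nc (2 * r + 1) c).submatrix (idx r s).succAbove (idx r s).succAbove) := by
        simp_rw [hv, Finset.smul_sum, smul_smul]
        rw [Finset.sum_comm]
        have : ∀ t : Fin (r + 1), ∑ s : Fin (r + 1), ((K r c)⁻¹ u s * K r c s t) • MvPolynomial.monomial (mono r t) (1 : k)
            = ((K r c)⁻¹ * K r c) u t • MvPolynomial.monomial (mono r t) (1 : k) := by
          intro t
          rw [Matrix.mul_apply, Finset.sum_smul]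
        simp_rw [this, hinv, Matrix.one_apply]
        simp
      rw [this]
      apply Submodule.sum_mem
      intro s _
      apply Submodule.smul_mem
      exact Submodule.subset_span ⟨idx r s, rfl⟩
    rw [homog_expand r f hf']
    apply Submodule.sum_mem
    intro t _
    exact Submodule.smul_mem _ _ (hmon t)

/-- Let k be an algebraically closed field of characteristic zero and n = 2r + 1 ≥ 3 odd. For a general
n × n alternating matrix N of linear forms in k[y_0, y_1], the n principal sub-Pfaffians of size n −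
1 (delete row i and column i, take the Pfaffian) span the whole space k[y_0, y_1]_r of binary forms
of degree r. Here such matrices are parametrised by antisymmetric coefficient arrays c (entry (i, j)
of N is Σ_l c_{i j l} y_l with c_{j i l} = −c_{i j l}), and 'general' means: outside the zero set of
some polynomial Φ in the coefficients which does not vanish at every antisymmetric array. -/
theorem result (k : Type u) [Field k] [IsAlgClosed k] [CharZero k]
    (r : ℕ) (hr : 1 ≤ r) :
    ∃ Φ : MvPolynomial (Fin (2 * r + 1) × Fin (2 * r + 1) × Fin 2) k,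
      (∃ c : Fin (2 * r + 1) → Fin (2 * r + 1) → Fin 2 → k, (∀ i j l, c j i l = -c i j l) ∧
        MvPolynomial.eval (fun p => c p.1 p.2.1 p.2.2) Φ ≠ 0) ∧
      ∀ c : Fin (2 * r + 1) → Fin (2 * r + 1) → Fin 2 → k, (∀ i j l, c j i l = -c i j l) →
        MvPolynomial.eval (fun p => c p.1 p.2.1 p.2.2) Φ ≠ 0 →
        Submodule.span k (Set.range fun i : Fin (2 * r + 1) =>
            W4c3degenlocivb.pf (2 * r) ((Matrix.of fun a b => ∑ l : Fin 2, MvPolynomial.C (c a b l) * MvPolynomial.X l).submatrix i.succAbove i.succAbove)) =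
          MvPolynomial.homogeneousSubmodule (Fin 2) k r := by
  refine ⟨Phi k r, ⟨c0 k (2 * r + 1), fun i j l => c0_antisymm _ i j l, ?_⟩, ?_⟩
  · rw [eval_Phi, K_c0, Matrix.det_one]
    exact one_ne_zero
  · intro c _ hc
    rw [eval_Phi] at hc
    exact span_eq r c hc

end Groth.Agent.S16355
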