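import Groth.Statements.S16356
import Mathlib

set_option autoImplicit false
universe u
open OrdAV

namespace Groth.Agent.S16356

/-- For an odd prime p and a perfect field k of characteristic p, a root of unity in the ring of Witt
vectors W(k) whose residue in k is 1 is itself 1: if x ^ n = 1 with n ≥ 1 and the zeroth Witt
component of x is 1, then x = 1. (For p = 2 this fails: -1 in W(F_2).) -/
theorem result (p : ℕ) [Fact p.Prime] (hp : p ≠ 2)
    (k : Type u) [Field k] [CharP k p] [PerfectRing k p]
    (x : WittVector p k) (n : ℕ) (hn : 0 < n) (hx : x ^ n = 1) (h0 : x.coeff 0 = 1) : x = 1 := by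
  by_contra hne
  have hpp : p.Prime := Fact.out
  have hdvd : ∀ y : WittVector p k, (p : WittVector p k) ∣ y ↔ y.coeff 0 = 0 := by
    intro y
    rw [← Ideal.mem_span_singleton]
    exact WittVector.mem_span_p_iff_coeff_zero_eq_zero y
  have hP : Prime (p : WittVector p k) :=
    irreducible_iff_prime.mp (WittVector.irreducible p)
  have hodd : Odd p := hpp.odd_of_ne_two hp
  have hxy : (p : WittVector p k) ∣ x - 1 := by
    rw [hdvd]
    have := map_sub (WittVector.constantCoeff (p := p) (R := k)) x 1
    simp only [WittVector.constantCoeff_apply] at this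
    rw [this, h0, WittVector.one_coeff_zero, sub_self]
  have hx' : ¬ (p : WittVector p k) ∣ x := by
    rw [hdvd, h0]
    exact one_ne_zero
  obtain ⟨a, n', hn', rfl⟩ := Nat.exists_eq_pow_mul_and_not_dvd hn.ne' p hpp.ne_one
  have hn'' : ¬ (p : WittVector p k) ∣ (n' : WittVector p k) := by
    rw [hdvd]
    have := map_natCast (WittVector.constantCoeff (p := p) (R := k)) n'
    simp only [WittVector.constantCoeff_apply] at this
    rw [this, CharP.cast_eq_zero_iff k p]
    exact hn'
  have h1 : emultiplicity (p : WittVector p k) (x ^ (p ^ a * n') - 1)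
      = emultiplicity (p : WittVector p k) (x - 1) + a := by
    rw [pow_mul]
    have e1 := emultiplicity_pow_prime_pow_sub_pow_prime_pow (R := WittVector p k) (p := p)
      (x := x) (y := 1) hP hodd hxy hx' a
    rw [one_pow] at e1
    have hxy' : (p : WittVector p k) ∣ x ^ p ^ a - 1 := by
      have := sub_dvd_pow_sub_pow x 1 (p ^ a)
      rw [one_pow] at this
      exact hxy.trans this
    have hx'' : ¬ (p : WittVector p k) ∣ x ^ p ^ a := fun h => hx' (hP.dvd_of_dvd_pow h)
    have e2 := emultiplicity_pow_sub_pow_of_prime hP (x := x ^ p ^ a) (y := 1) hxy' hx'' hn''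
    rw [one_pow] at e2
    rw [e2, e1]
  rw [hx, sub_self, emultiplicity_zero] at h1
  have hfin : FiniteMultiplicity (p : WittVector p k) (x - 1) :=
    FiniteMultiplicity.of_not_isUnit hP.not_isUnit (sub_ne_zero.mpr hne)
  rw [hfin.emultiplicity_eq_multiplicity] at h1
  exact absurd h1 (by
    intro h
    have : ((multiplicity (p : WittVector p k) (x - 1) + a : ℕ) : ℕ∞) = ⊤ := by
      rw [h]
      push_cast
      rfl
    exact ENat.natCast_ne_top _ this)

end Groth.Agent.S16356
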