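import Groth.Statements.S16357
import Mathlib

set_option autoImplicit false
universe u
open OrdAV

namespace Groth.Agent.S16357

/-- Over a field L of characteristic zero, a monic polynomial h whose square has rational coefficients
has rational coefficients itself. -/
theorem result (L : Type u) [Field L] [CharZero L]
    (h : Polynomial L) (hm : h.Monic) (f : Polynomial ℚ)
    (hf : h ^ 2 = Polynomial.map (algebraMap ℚ L) f) :
    ∃ g : Polynomial ℚ, Polynomial.map (algebraMap ℚ L) g = h := by
  classical
  set S : Subfield L := (algebraMap ℚ L).fieldRange with hS
  have hd : h.coeff h.natDegree = 1 := hm.coeff_natDegree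
  have key : ∀ m, (∀ n, m < n → h.coeff n ∈ S) → h.coeff m ∈ S := by
    intro m hgt
    rcases lt_trichotomy m h.natDegree with hlt | heq | hgt'
    · have h2 : (h ^ 2).coeff (h.natDegree + m) ∈ S := by
        rw [hf, Polynomial.coeff_map]
        exact ⟨_, rfl⟩
      rw [pow_two, Polynomial.coeff_mul] at h2
      have hmem1 : (h.natDegree, m) ∈ Finset.HasAntidiagonal.antidiagonal (h.natDegree + m) := by simp
      have hmem2 : (m, h.natDegree) ∈
          (Finset.HasAntidiagonal.antidiagonal (h.natDegree + m)).erase (h.natDegree, m) := by
        simp only [Finset.mem_erase, Finset.HasAntidiagonal.mem_antidiagonal, ne_eq, Prod.mk.injEq, not_and]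
        constructor
        · intro h1
          omega
        · omega
      rw [← Finset.add_sum_erase _ _ hmem1, ← Finset.add_sum_erase _ _ hmem2] at h2
      have hrest : ∑ x ∈ ((Finset.HasAntidiagonal.antidiagonal (h.natDegree + m)).erase (h.natDegree, m)).erase
          (m, h.natDegree), h.coeff x.1 * h.coeff x.2 ∈ S := by
        refine sum_mem ?_
        rintro ⟨a, b⟩ hab
        simp only [Finset.mem_erase, Finset.HasAntidiagonal.mem_antidiagonal, Prod.mk.injEq, ne_eq, not_and] at hab
        obtain ⟨h1, h2', h3⟩ := hab
        by_cases ha : a < m
        · have : h.natDegree < b := by omega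
          simp only [Polynomial.coeff_eq_zero_of_natDegree_lt this, mul_zero]
          exact zero_mem _
        by_cases hb : b < m
        · have : h.natDegree < a := by omega
          simp only [Polynomial.coeff_eq_zero_of_natDegree_lt this, zero_mul]
          exact zero_mem _
        have ha' : m < a := by
          rcases Nat.lt_or_ge m a with h4 | h4
          · exact h4
          · exfalso
            have : a = m := by omega
            exact absurd (h1 this) (by omega)
        have hb' : m < b := by
          rcases Nat.lt_or_ge m b with h4 | h4
          · exact h4
          · exfalso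
            have : b = m := by omega
            have h5 : a = h.natDegree := by omega
            exact absurd (h2' h5) (by omega)
        exact mul_mem (hgt a ha') (hgt b hb')
      simp only [hd, one_mul, mul_one] at h2
      have h2m : (2:L) * h.coeff m ∈ S := by
        have := sub_mem h2 hrest
        convert this using 1
        ring
      have h2S : (2:L) ∈ S := ofNat_mem S 2
      have : h.coeff m = (2:L)⁻¹ * (2 * h.coeff m) := by
        field_simp
      rw [this]
      exact mul_mem (inv_mem h2S) h2m
    · rw [heq, hd]
      exact one_mem _
    · rw [Polynomial.coeff_eq_zero_of_natDegree_lt hgt']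
      exact zero_mem _
  have all : ∀ k n, h.natDegree < n + k → h.coeff n ∈ S := by
    intro k
    induction k with
    | zero =>
      intro n hn
      rw [Polynomial.coeff_eq_zero_of_natDegree_lt (by simpa using hn)]
      exact zero_mem _
    | succ k ih =>
      intro n hn
      exact key n (fun n' hn' => ih n' (by omega))
  have hl : h ∈ Polynomial.lifts (algebraMap ℚ L) := by
    rw [Polynomial.lifts_iff_coeff_lifts]
    intro n
    have := all (h.natDegree + 1) n (by omega)
    exact this
  exact (Polynomial.mem_lifts _).mp hl

end Groth.Agent.S16357
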