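import Groth.Statements.S16358
import Mathlib

set_option autoImplicit false
universe u v w
open OrdAV

namespace Groth.Agent.S16358

theorem aux {R : Type*} [CommRing R] {M : Type*} [AddCommGroup M] [Module R M]
    (r : R) (N : Submodule R M) (hsat : ∀ m : M, r • m ∈ N → m ∈ N) :
    Function.Injective (LinearMap.lTensor (R ⧸ Ideal.span {r}) N.subtype) := by
  rw [injective_iff_map_eq_zero]
  intro x hx
  obtain ⟨q, rfl⟩ := (TensorProduct.quotTensorEquivQuotSMul N (Ideal.span {r})).symm.surjective x
  obtain ⟨n, rfl⟩ := Submodule.Quotient.mk_surjective _ q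
  rw [TensorProduct.quotTensorEquivQuotSMul_symm_mk] at hx ⊢
  rw [LinearMap.lTensor_tmul] at hx
  have h1 := congrArg (TensorProduct.quotTensorEquivQuotSMul M (Ideal.span {r})) hx
  rw [TensorProduct.quotTensorEquivQuotSMul_mk_one_tmul, map_zero, Submodule.Quotient.mk_eq_zero,
    Submodule.ideal_span_singleton_smul, Submodule.mem_smul_pointwise_iff_exists] at h1
  obtain ⟨m, -, hm⟩ := h1
  have hmN : m ∈ N := hsat m (by rw [hm]; exact n.2)
  have hn : r • (⟨m, hmN⟩ : N) = n := Subtype.ext hm
  have h2 : (Submodule.Quotient.mk n : N ⧸ (Ideal.span {r} • ⊤ : Submodule R N)) = 0 := by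
    rw [Submodule.Quotient.mk_eq_zero, Submodule.ideal_span_singleton_smul,
      Submodule.mem_smul_pointwise_iff_exists]
    exact ⟨⟨m, hmN⟩, trivial, hn⟩
  rw [← TensorProduct.quotTensorEquivQuotSMul_symm_mk, h2, map_zero]

/-- Let k be a perfect field of characteristic p > 0 and W = W(k); let M be a finitely generated free
W-module on which a finite group G acts W-linearly, with invariant submodule M^G. Then the map
(W/pW) ⊗ M^G → (W/pW) ⊗ M induced by the inclusion is injective. Since M^G is free, this implies
rank_W M^G ≤ dim_k (M/pM)^G; the published statement is that inequality, and this row states the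
stronger injectivity. -/
theorem result (p : ℕ) [Fact p.Prime]
    (k : Type u) [Field k] [CharP k p] [PerfectRing k p]
    (M : Type v) [AddCommGroup M] [Module (WittVector p k) M]
    [Module.Free (WittVector p k) M] [Module.Finite (WittVector p k) M]
    (G : Type w) [Group G] [Finite G] (ρ : Representation (WittVector p k) G M) :
    Function.Injective
      (LinearMap.lTensor (WittVector p k ⧸ Ideal.span {(p : WittVector p k)}) ρ.invariants.subtype) := by
  apply aux
  intro m hm g
  have h1 := hm g
  rw [map_smul] at h1
  have h2 : (p : WittVector p k) • (ρ g m - m) = 0 := by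
    rw [smul_sub, h1, sub_self]
  rcases smul_eq_zero.mp h2 with h3 | h3
  · exact absurd h3 (WittVector.p_nonzero p k)
  · exact sub_eq_zero.mp h3

end Groth.Agent.S16358
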