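import Groth.Statements.S16360
import Groth.Agent.Lib.Helper1.PerfDVRD
open Groth.Agent.Lib.Helper1

set_option autoImplicit false
universe u
open Hensel

namespace Groth.Agent.S16360

/-- Let R be a discrete valuation ring that is Henselian and excellent, write k for its residue field
and p for the characteristic exponent of k. There is a Henselian discrete valuation ring R' and an
injective ring map R → R' such that the maximal ideal of R generates that of R' (so a uniformizer of
R is a uniformizer of R'), R' is the directed union of R-subalgebras that are finite free R-modules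
of rank a power of p, and the residue field k' of R' is a perfect closure of k: every element of k'
is a p-th power in k', and some p-power-th power of it lies in the image of k. (The published
statement also asserts that R' is excellent; that is not asserted here.) -/
theorem result (R : Type u) [CommRing R] [IsDomain R]
    [IsDiscreteValuationRing R] [HenselianLocalRing R] (hR : EGA4.IsExcellent R) :
    ∃ (R' : Type u) (_ : CommRing R') (_ : IsDomain R') (_ : IsDiscreteValuationRing R')
      (_ : HenselianLocalRing R') (_ : Algebra R R'),
      Function.Injective (algebraMap R R') ∧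
      Ideal.map (algebraMap R R') (IsLocalRing.maximalIdeal R) = IsLocalRing.maximalIdeal R' ∧
      (∀ s : Finset R', ∃ S : Subalgebra R R', (↑s : Set R') ⊆ ↑S ∧ Module.Finite R S ∧ Module.Free R S ∧
        ∃ m : ℕ, Module.finrank R S = ringExpChar (IsLocalRing.ResidueField R) ^ m) ∧
      (∀ y : R', ∃ z : R', z ^ ringExpChar (IsLocalRing.ResidueField R) - y ∈ IsLocalRing.maximalIdeal R') ∧
      (∀ y : R', ∃ (m : ℕ) (z : R),
        algebraMap R R' z - y ^ (ringExpChar (IsLocalRing.ResidueField R) ^ m) ∈ IsLocalRing.maximalIdeal R') := by
  classical
  have hexp : ExpChar (IsLocalRing.ResidueField R) (ringExpChar (IsLocalRing.ResidueField R)) :=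
    inferInstance
  generalize ringExpChar (IsLocalRing.ResidueField R) = q at hexp ⊢
  cases hexp with
  | zero =>
    refine ⟨R, inferInstance, inferInstance, inferInstance, inferInstance, Algebra.id R,
      Function.injective_id, ?_, ?_, ?_, ?_⟩
    · exact Ideal.map_id _
    · intro s
      let e : (⊤ : Subalgebra R R) ≃ₐ[R] R := Subalgebra.topEquiv
      refine ⟨⊤, by simp, Module.Finite.equiv e.symm.toLinearEquiv,
        Module.Free.of_equiv e.symm.toLinearEquiv, 0, ?_⟩
      rw [LinearEquiv.finrank_eq e.toLinearEquiv, Module.finrank_self, pow_zero]
    · intro y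
      exact ⟨y, by simp⟩
    · intro y
      exact ⟨0, y, by simp⟩
  | prime hprime =>
    have hpR : ((q : ℕ) : R) ∈ IsLocalRing.maximalIdeal R := by
      rw [← IsLocalRing.residue_eq_zero_iff, map_natCast]
      exact CharP.cast_eq_zero _ q
    obtain ⟨π, hπ⟩ := IsDiscreteValuationRing.exists_irreducible R
    have hfaith : FaithfulSMul R (AlgebraicClosure (FractionRing R)) := by
      rw [faithfulSMul_iff_algebraMap_injective,
        IsScalarTower.algebraMap_eq R (FractionRing R) (AlgebraicClosure (FractionRing R))]
      exact (FaithfulSMul.algebraMap_injective (FractionRing R) _).comp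
        (IsFractionRing.injective R (FractionRing R))
    have hroot : ∀ y : AlgebraicClosure (FractionRing R), ∃ α, α ^ q = y :=
      fun y => IsAlgClosed.exists_pow_nat_eq y hprime.pos
    obtain ⟨S, hS⟩ := PerfDVR.exists_maximal_good (Ω := AlgebraicClosure (FractionRing R))
      (p := q) hπ
    obtain ⟨hdvr, hhens, h1, h2, h3, h4, h5⟩ := PerfDVR.main_aux hprime hpR hπ hroot hS
    exact ⟨S, inferInstance, inferInstance, hdvr, hhens, inferInstance, h1, h2, h3, h4, h5⟩

end Groth.Agent.S16360
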