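import Groth.Statements.S16361
-- import your own Groth.Agent.* helpers here

set_option autoImplicit false
universe v u
open CategoryTheory CategoryTheory.Limits
open FibCat

namespace Groth.Agent.S16361

section
universe v₁ u₁ v₂ u₂ v₃ u₃
variable {𝒮 : Type u₁} [Category.{v₁} 𝒮] {𝒳 : Type u₂} [Category.{v₂} 𝒳] (p : 𝒳 ⥤ 𝒮)

def SC : Prop :=
  ∀ {y x : 𝒳} (φ : y ⟶ x) {z : 𝒳} (g : p.obj z ⟶ p.obj y) (ψ : z ⟶ x),
    g ≫ p.map φ = p.map ψ → ∃! χ : z ⟶ y, p.map χ = g ∧ χ ≫ φ = ψ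

lemma sc_iff {y x : 𝒳} (φ : y ⟶ x) :
    p.IsStronglyCartesian (p.map φ) φ ↔
      ∀ {z : 𝒳} (g : p.obj z ⟶ p.obj y) (ψ : z ⟶ x), g ≫ p.map φ = p.map ψ →
        ∃! χ : z ⟶ y, p.map χ = g ∧ χ ≫ φ = ψ := by
  constructor
  · intro h z g ψ hg
    haveI : p.IsHomLift (g ≫ p.map φ) ψ := by rw [hg]; infer_instance
    obtain ⟨χ, ⟨h1, h2⟩, hu⟩ := h.universal_property' g ψ
    refine ⟨χ, ⟨(IsHomLift.eq_of_isHomLift p g χ).symm, h2⟩, ?_⟩
    rintro χ' ⟨h1', h2'⟩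
    exact hu χ' ⟨by rw [← h1']; infer_instance, h2'⟩
  · intro h
    refine { toIsHomLift := inferInstance, universal_property' := ?_ }
    intro z g ψ _
    have hg : g ≫ p.map φ = p.map ψ := IsHomLift.eq_of_isHomLift p _ ψ
    obtain ⟨χ, ⟨h1, h2⟩, hu⟩ := h g ψ hg
    refine ⟨χ, ⟨by rw [← h1]; infer_instance, h2⟩, ?_⟩
    rintro χ' ⟨h1', h2'⟩
    have := h1'
    exact hu χ' ⟨(IsHomLift.eq_of_isHomLift p g χ').symm, h2'⟩

lemma sc_of (h : FibCat.IsFibGrpd p) : SC p := fun φ _ g ψ hg =>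
  (sc_iff p φ).1 (h.isStronglyCartesian φ) g ψ hg

lemma mk_fib
    (h1 : ∀ {x : 𝒳} {V : 𝒮} (f : V ⟶ p.obj x), ∃ (y : 𝒳) (φ : y ⟶ x), p.IsHomLift f φ)
    (h2 : SC p) : FibCat.IsFibGrpd p :=
  ⟨h1, fun φ => (sc_iff p φ).2 (fun g ψ hg => h2 φ g ψ hg)⟩

lemma isIso_of_map (h2 : SC p) {a b : 𝒳} (χ : a ⟶ b) [IsIso (p.map χ)] : IsIso χ := by
  obtain ⟨χ', ⟨h1, h2'⟩, -⟩ := h2 χ (inv (p.map χ)) (𝟙 b) (by simp)
  obtain ⟨c, -, hu⟩ := h2 χ (𝟙 _) χ (by simp)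
  refine ⟨χ', ?_, h2'⟩
  have e1 := hu (χ ≫ χ') ⟨by simp [h1], by simp [h2']⟩
  have e2 := hu (𝟙 a) ⟨by simp, by simp⟩
  rw [e1, e2]

lemma comp_fib {𝒴 : Type u₃} [Category.{v₃} 𝒴] (q : 𝒴 ⥤ 𝒳)
    (hq : FibCat.IsFibGrpd q) (hp : FibCat.IsFibGrpd p) : FibCat.IsFibGrpd (q ⋙ p) := by
  have sp : SC p := sc_of p hp
  have sq : SC q := sc_of q hq
  refine mk_fib _ ?_ ?_
  · intro x V f
    obtain ⟨y₁, φ₁, h₁⟩ := hp.exists_lift f
    obtain ⟨y, φ, h⟩ := hq.exists_lift φ₁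
    refine ⟨y, φ, ?_⟩
    have e1 := IsHomLift.domain_eq q φ₁ φ
    subst e1
    have e2 : φ₁ = q.map φ := IsHomLift.eq_of_isHomLift q φ₁ φ
    subst e2
    have e3 := IsHomLift.domain_eq p f (q.map φ)
    subst e3
    have e4 : f = p.map (q.map φ) := IsHomLift.eq_of_isHomLift p f _
    subst e4
    exact IsHomLift.map (q ⋙ p) φ
  · intro y x φ z g ψ hg
    obtain ⟨χ₁, ⟨h1, h2⟩, hu₁⟩ := sp (q.map φ) g (q.map ψ) hg
    obtain ⟨χ, ⟨h3, h4⟩, hu⟩ := sq φ χ₁ ψ h2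
    refine ⟨χ, ⟨by rw [Functor.comp_map, h3, h1], h4⟩, ?_⟩
    rintro χ' ⟨h5, h6⟩
    have e : q.map χ' = χ₁ := hu₁ _ ⟨h5, by rw [← q.map_comp, h6]⟩
    exact hu χ' ⟨e, h6⟩

end

open CategoricalPullback in
lemma pb_fib {S : Type u} [Category.{v} S] {X : Type u} [Category.{v} X]
    {Y : Type u} [Category.{v} Y] (πX : X ⥤ S) (hX : FibCat.IsFibGrpd πX)
    (F : Y ⥤ X) (hY : FibCat.IsFibGrpd (F ⋙ πX)) :
    FibCat.IsFibGrpd (CategoricalPullback.π₂ F (𝟭 X)) := by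
  have hX2 : SC πX := sc_of πX hX
  have hY2 : SC (F ⋙ πX) := sc_of _ hY
  refine mk_fib _ ?_ ?_
  · intro P₀ x' f
    change x' ⟶ P₀.snd at f
    let i0 : F.obj P₀.fst ≅ P₀.snd := P₀.iso
    let m : x' ⟶ F.obj P₀.fst := f ≫ i0.inv
    obtain ⟨y', ψ, hψ⟩ := hY.exists_lift (x := P₀.fst) (πX.map m)
    have hdom : πX.obj (F.obj y') = πX.obj x' :=
      IsHomLift.domain_eq (F ⋙ πX) (πX.map m) ψ
    have hfac : πX.map (F.map ψ) = eqToHom hdom ≫ πX.map m := by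
      have := IsHomLift.fac' (F ⋙ πX) (πX.map m) ψ
      simpa using this
    obtain ⟨χ, ⟨hχ1, hχ2⟩, -⟩ := hX2 m (eqToHom hdom) (F.map ψ) hfac.symm
    have : IsIso (πX.map χ) := by rw [hχ1]; infer_instance
    have : IsIso χ := isIso_of_map πX hX2 χ
    have w : F.map ψ ≫ i0.hom = χ ≫ f := by
      rw [← hχ2]
      simp [m]
    let P' : F ⊡ (𝟭 X) := ⟨y', x', asIso χ⟩
    let μ : P' ⟶ P₀ := ⟨ψ, f, w⟩
    exact ⟨P', μ, IsHomLift.map (CategoricalPullback.π₂ F (𝟭 X)) μ⟩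
  · intro P' P₀ μ Z g ν hg
    change Z.snd ⟶ P'.snd at g
    have hg' : g ≫ μ.snd = ν.snd := hg
    let i0 : F.obj P₀.fst ≅ P₀.snd := P₀.iso
    let iP : F.obj P'.fst ≅ P'.snd := P'.iso
    let iZ : F.obj Z.fst ≅ Z.snd := Z.iso
    have hμ : F.map μ.fst ≫ i0.hom = iP.hom ≫ μ.snd := μ.w
    have hν : F.map ν.fst ≫ i0.hom = iZ.hom ≫ ν.snd := ν.w
    let h : F.obj Z.fst ⟶ F.obj P'.fst := iZ.hom ≫ g ≫ iP.inv
    have hh : h ≫ F.map μ.fst = F.map ν.fst := by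
      rw [← cancel_mono i0.hom]
      simp only [h, Category.assoc]
      rw [hμ, hν, Iso.inv_hom_id_assoc, hg']
    obtain ⟨χY, ⟨hχ1, hχ2⟩, hχu⟩ := hY2 μ.fst (πX.map h) ν.fst (by
      change πX.map h ≫ πX.map (F.map μ.fst) = πX.map (F.map ν.fst)
      rw [← Functor.map_comp, hh])
    obtain ⟨c, -, hcu⟩ := hX2 (F.map μ.fst) (πX.map h) (F.map ν.fst) (by
      rw [← Functor.map_comp, hh])
    have e1 : F.map χY = c := hcu _ ⟨hχ1, by rw [← F.map_comp, hχ2]⟩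
    have e2 : h = c := hcu _ ⟨rfl, hh⟩
    have hFχ : F.map χY = h := e1.trans e2.symm
    have w : F.map χY ≫ iP.hom = iZ.hom ≫ g := by
      rw [hFχ]; simp [h]
    refine ⟨⟨χY, g, w⟩, ⟨rfl, ?_⟩, ?_⟩
    · exact CategoricalPullback.hom_ext hχ2 hg'
    · rintro χ' ⟨h1, h2⟩
      have h1' : χ'.snd = g := h1
      have h3 : χ'.fst ≫ μ.fst = ν.fst := by rw [← h2]; rfl
      have hw : F.map χ'.fst ≫ iP.hom = iZ.hom ≫ χ'.snd := χ'.w
      have h4 : F.map χ'.fst = h := by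
        rw [← cancel_mono iP.hom, hw, h1']
        simp [h]
      have h5 : χ'.fst = χY := hχu _ ⟨by rw [Functor.comp_map, h4], h3⟩
      exact CategoricalPullback.hom_ext h5 h1'

/-- Let S be a category, π_X : X ⥤ S and π_Y : Y ⥤ S be fibred in groupoids, and F : Y ⥤ X a functor
with F ⋙ π_X = π_Y. Consider the category of triples (y, x, φ) with φ : F y ≅ x an arbitrary
isomorphism of X and morphisms the compatible pairs of morphisms (the categorical pullback of F and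
the identity of X; the isomorphism φ is not required to lie over an identity of S). Its projection
to X is fibred in groupoids over X, and the composite of that projection with π_X is fibred in
groupoids over S. (The published statement also asserts that y ↦ (y, F y, id) and (y, x, φ) ↦ y form
an equivalence over S; that is not asserted here.) -/
theorem result {S : Type u} [Category.{v} S] {X : Type u} [Category.{v} X]
    {Y : Type u} [Category.{v} Y] (πX : X ⥤ S) (πY : Y ⥤ S) (hX : FibCat.IsFibGrpd πX) (hY : FibCat.IsFibGrpd πY)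
    (F : Y ⥤ X) (hF : F ⋙ πX = πY) :
    FibCat.IsFibGrpd (CategoricalPullback.π₂ F (𝟭 X)) ∧
      FibCat.IsFibGrpd (CategoricalPullback.π₂ F (𝟭 X) ⋙ πX) := by
  subst hF
  have h1 := pb_fib πX hX F hY
  exact ⟨h1, comp_fib πX _ h1 hX⟩

end Groth.Agent.S16361
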