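import Groth.Statements.S16362
import Mathlib

set_option autoImplicit false
universe u
open MovLem

namespace Groth.Agent.S16362

theorem aux {R K : Type*} [CommRing R] [IsDomain R] [Field K] [Algebra R K] [IsFractionRing R K]
    (z w : R) (hw : w ≠ 0) :
    IsIntegral R (algebraMap R K z / algebraMap R K w) ↔
      ∃ (N : ℕ) (c : ℕ → R), z ^ N + ∑ i ∈ Finset.Icc 1 N, c i * z ^ (N - i) * w ^ i = 0 := by
  classical
  have hinj : Function.Injective (algebraMap R K) := IsFractionRing.injective R K
  have hW0 : algebraMap R K w ≠ 0 := by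
    intro h0
    exact hw (hinj (by rw [map_zero]; exact h0))
  have hkey : ∀ (N j : ℕ), j ≤ N →
      (algebraMap R K z / algebraMap R K w) ^ j * (algebraMap R K w) ^ N
        = (algebraMap R K z) ^ j * (algebraMap R K w) ^ (N - j) := by
    intro N j hj
    rw [← pow_sub_mul_pow (algebraMap R K w) hj, div_pow]
    have : (algebraMap R K w) ^ j ≠ 0 := pow_ne_zero _ hW0
    field_simp
  constructor
  · rintro ⟨P, hP, hPx⟩
    refine ⟨P.natDegree, fun i => P.coeff (P.natDegree - i), ?_⟩
    apply hinj
    simp only [map_add, map_sum, map_mul, map_pow, map_zero]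
    rw [Polynomial.eval₂_eq_sum_range, Finset.sum_range_succ] at hPx
    have h1 := congrArg (· * (algebraMap R K w) ^ P.natDegree) hPx
    simp only [zero_mul, add_mul, Finset.sum_mul] at h1
    rw [hP.coeff_natDegree, map_one, one_mul, hkey _ _ le_rfl, Nat.sub_self, pow_zero,
      mul_one] at h1
    rw [add_comm] at h1
    rw [← h1]
    congr 1
    refine Finset.sum_nbij' (fun i => P.natDegree - i) (fun j => P.natDegree - j) ?_ ?_ ?_ ?_ ?_
    · intro i hi
      simp only [Finset.mem_Icc, Finset.mem_range] at hi ⊢
      omega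
    · intro j hj
      simp only [Finset.mem_Icc, Finset.mem_range] at hj ⊢
      omega
    · intro i hi
      simp only [Finset.mem_Icc] at hi
      omega
    · intro j hj
      simp only [Finset.mem_range] at hj
      omega
    · intro i hi
      simp only [Finset.mem_Icc] at hi
      rw [mul_assoc, mul_assoc, hkey _ (P.natDegree - i) (Nat.sub_le _ _)]
      have : P.natDegree - (P.natDegree - i) = i := by omega
      rw [this]
  · rintro ⟨N, c, hc⟩
    have h0 : (algebraMap R K z) ^ N + ∑ i ∈ Finset.Icc 1 N,
        algebraMap R K (c i) * (algebraMap R K z) ^ (N - i) * (algebraMap R K w) ^ i = 0 := by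
      have := congrArg (algebraMap R K) hc
      simpa only [map_add, map_sum, map_mul, map_pow, map_zero] using this
    let Q : Polynomial R := ∑ i ∈ Finset.Icc 1 N,
      Polynomial.C (c i) * Polynomial.X ^ (N - i)
    have hQdeg : Q.degree < N := by
      refine lt_of_le_of_lt (Polynomial.degree_sum_le _ _) ?_
      rw [Finset.sup_lt_iff (WithBot.bot_lt_coe _)]
      intro i hi
      simp only [Finset.mem_Icc] at hi
      refine lt_of_le_of_lt (Polynomial.degree_C_mul_X_pow_le _ _) ?_
      exact_mod_cast (by omega : N - i < N)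
    refine ⟨Polynomial.X ^ N + Q, Polynomial.monic_X_pow_add hQdeg, ?_⟩
    have hWN : (algebraMap R K w) ^ N ≠ 0 := pow_ne_zero _ hW0
    apply mul_right_cancel₀ hWN
    rw [zero_mul, Polynomial.eval₂_add, Polynomial.eval₂_pow, Polynomial.eval₂_X, add_mul,
      hkey N N le_rfl, Nat.sub_self, pow_zero, mul_one]
    rw [← h0]
    congr 1
    simp only [Q, Polynomial.eval₂_finsetSum, Polynomial.eval₂_mul, Polynomial.eval₂_C,
      Polynomial.eval₂_pow, Polynomial.eval₂_X, Finset.sum_mul]
    refine Finset.sum_congr rfl ?_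
    intro i hi
    simp only [Finset.mem_Icc] at hi
    rw [mul_assoc, mul_assoc, hkey N (N - i) (Nat.sub_le _ _)]
    have : N - (N - i) = i := by omega
    rw [this]

/-- Let A be a commutative ring, p a prime ideal of A, and ζ, u elements of A with u not in p. Then the
quotient of the classes of ζ and u in the fraction field of the domain A ⧸ p is integral over A ⧸ p
if and only if there exist a natural number N and elements a_1, …, a_N of A such that ζ^N + a_1
ζ^(N-1) u + ⋯ + a_N u^N lies in p; equivalently, some binary form of degree N with coefficients in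
A, monic in the first variable, evaluated at (ζ, u), lies in p. -/
theorem result
    {A : Type u} [CommRing A] (p : Ideal A) [p.IsPrime] (ζ u : A) (hu : u ∉ p) :
    IsIntegral (A ⧸ p)
        (algebraMap (A ⧸ p) (FractionRing (A ⧸ p)) (Ideal.Quotient.mk p ζ) /
          algebraMap (A ⧸ p) (FractionRing (A ⧸ p)) (Ideal.Quotient.mk p u)) ↔
      ∃ (N : ℕ) (a : ℕ → A),
        ζ ^ N + ∑ i ∈ Finset.Icc 1 N, a i * ζ ^ (N - i) * u ^ i ∈ p := by
  have hw : Ideal.Quotient.mk p u ≠ 0 := fun h => hu (Ideal.Quotient.eq_zero_iff_mem.mp h)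
  rw [aux (K := FractionRing (A ⧸ p)) (Ideal.Quotient.mk p ζ) (Ideal.Quotient.mk p u) hw]
  constructor
  · rintro ⟨N, c, hc⟩
    choose b hb using fun j => Ideal.Quotient.mk_surjective (I := p) (c j)
    refine ⟨N, b, ?_⟩
    rw [← Ideal.Quotient.eq_zero_iff_mem]
    simpa only [map_add, map_sum, map_mul, map_pow, hb] using hc
  · rintro ⟨N, a, ha⟩
    refine ⟨N, fun i => Ideal.Quotient.mk p (a i), ?_⟩
    have := Ideal.Quotient.eq_zero_iff_mem.mpr ha
    simpa only [map_add, map_sum, map_mul, map_pow] using this

end Groth.Agent.S16362
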