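import Groth.Statements.S16363
import Mathlib
import Groth.Agent.Lib.Helper80.FieldExtDense

set_option autoImplicit false
universe u
open CategoryTheory Limits
open MovLem

namespace Groth.Agent.S16363

open AlgebraicGeometry TensorProduct Groth.Agent.Lib.Helper80

set_option maxHeartbeats 1600000 in

open AlgebraicGeometry in
/-- Let k be a field, X a k-scheme of finite type, K an extension field of k and U' ⊆ X_K = X ×_k Spec K
a dense open subset. There exists a dense open U ⊆ X with the following property: for every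
algebraic closure k̄ of k, every field Ω that is simultaneously a k̄-algebra and a K-algebra
compatibly with k, and every k-morphism x : Spec k̄ → X whose image point lies in U, every
K-morphism y : Spec Ω → X_K whose composite with the projection X_K → X is the composite Spec Ω →
Spec k̄ → X has image point in U'. (In words: the k̄-points of U, viewed as Ω-points of X_K, lie in
U'.) -/
theorem result
    {k K : Type u} [Field k] [Field K] [Algebra k K]
    (X : Scheme.{u}) (f : X ⟶ Spec (CommRingCat.of k)) [LocallyOfFiniteType f] [QuasiCompact f]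
    (U' : (pullback f (Spec.map (CommRingCat.ofHom (algebraMap k K)))).Opens)
    (hU' : Dense (U' : Set ↥(pullback f (Spec.map (CommRingCat.ofHom (algebraMap k K)))))) :
    ∃ U : X.Opens, Dense (U : Set ↥X) ∧
      ∀ (kb Ω : Type u) [Field kb] [Algebra k kb] [IsAlgClosure k kb]
        [Field Ω] [Algebra k Ω] [Algebra kb Ω] [Algebra K Ω] [IsScalarTower k kb Ω] [IsScalarTower k K Ω]
        (x : Spec (CommRingCat.of kb) ⟶ X),
        x ≫ f = Spec.map (CommRingCat.ofHom (algebraMap k kb)) →
        (∀ t : ↥(Spec (CommRingCat.of kb)), x.base t ∈ U) →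
        ∀ (y : Spec (CommRingCat.of Ω) ⟶ pullback f (Spec.map (CommRingCat.ofHom (algebraMap k K)))),
          y ≫ pullback.fst f (Spec.map (CommRingCat.ofHom (algebraMap k K))) =
              Spec.map (CommRingCat.ofHom (algebraMap kb Ω)) ≫ x →
          y ≫ pullback.snd f (Spec.map (CommRingCat.ofHom (algebraMap k K))) =
              Spec.map (CommRingCat.ofHom (algebraMap K Ω)) →
          ∀ t : ↥(Spec (CommRingCat.of Ω)), y.base t ∈ U' := by
  classical
  -- the bad set
  let B : Set X := {p | ∃ (kb Ω : Type u) (_ : Field kb) (_ : Algebra k kb) (_ : IsAlgClosure k kb)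
      (_ : Field Ω) (_ : Algebra k Ω) (_ : Algebra kb Ω) (_ : Algebra K Ω)
      (_ : IsScalarTower k kb Ω) (_ : IsScalarTower k K Ω) (x : Spec (CommRingCat.of kb) ⟶ X)
      (y : Spec (CommRingCat.of Ω) ⟶ pullback f (Spec.map (CommRingCat.ofHom (algebraMap k K)))) (t : ↥(Spec (CommRingCat.of kb)))
      (s : ↥(Spec (CommRingCat.of Ω))),
      x ≫ f = Spec.map (CommRingCat.ofHom (algebraMap k kb)) ∧
      y ≫ pullback.fst f (Spec.map (CommRingCat.ofHom (algebraMap k K))) = Spec.map (CommRingCat.ofHom (algebraMap kb Ω)) ≫ x ∧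
      y ≫ pullback.snd f (Spec.map (CommRingCat.ofHom (algebraMap k K))) = Spec.map (CommRingCat.ofHom (algebraMap K Ω)) ∧
      x.base t = p ∧ y.base s ∉ U'}
  refine ⟨⟨(closure B)ᶜ, isClosed_closure.isOpen_compl⟩, ?_, ?_⟩
  swap
  · intro kb Ω _ _ _ _ _ _ _ _ _ x hx hxU y hy1 hy2 s
    by_contra hs
    let t : ↥(Spec (CommRingCat.of kb)) := (default : PrimeSpectrum kb)
    exact hxU t (subset_closure
      ⟨kb, Ω, inferInstance, inferInstance, inferInstance, inferInstance, inferInstance,
        inferInstance, inferInstance, inferInstance, inferInstance, x, y, t, s, hx, hy1, hy2,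
        rfl, hs⟩)
  · rw [dense_iff_inter_open]
    rintro V hV ⟨v, hv⟩
    obtain ⟨W, hW, hvW, hWV⟩ := exists_isAffineOpen_mem_and_subset (X := X) (x := v)
      (U := ⟨V, hV⟩) hv
    let iW := hW.fromSpec
    letI algA : Algebra k Γ(X, W) := (Spec.preimage (iW ≫ f)).hom.toAlgebra
    have hAf : Spec.map (CommRingCat.ofHom (algebraMap k Γ(X, W))) = iW ≫ f :=
      Spec.map_preimage _
    have hft : Algebra.FiniteType k Γ(X, W) := by
      have h1 : LocallyOfFiniteType (iW ≫ f) := inferInstance
      rw [← hAf, HasRingHomProperty.Spec_iff (P := @LocallyOfFiniteType)] at h1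
      exact RingHom.finiteType_algebraMap.mp h1
    let j : Spec (CommRingCat.of (Γ(X, W) ⊗[k] K)) ⟶ pullback f (Spec.map (CommRingCat.ofHom (algebraMap k K))) :=
      (pullbackSpecIso k Γ(X, W) K).inv ≫
        pullback.map _ _ f (Spec.map (CommRingCat.ofHom (algebraMap k K))) iW (𝟙 _) (𝟙 _) (by rw [Category.comp_id]; exact hAf) (by simp)
    haveI : IsOpenImmersion j := inferInstance
    let T : Set (PrimeSpectrum (Γ(X, W) ⊗[k] K)) := j ⁻¹' (U' : Set _)ᶜ
    have hTc : IsClosed T := (U'.isOpen.isClosed_compl).preimage j.continuous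
    have hTd : Dense Tᶜ := by
      have : Tᶜ = j ⁻¹' (U' : Set _) := by
        simp only [T, Set.preimage_compl, compl_compl]
        rfl
      rw [this]
      exact hU'.preimage j.isOpenEmbedding.isOpenMap
    obtain ⟨N, hNc, hNd, hN⟩ := FieldExtDense.algMain (k := k) (K := K) (A := Γ(X, W)) T hTc hTd
    -- a point of `Spec Γ(X, W)`
    have hvr : v ∈ Set.range iW := by
      rw [hW.range_fromSpec]; exact hvW
    obtain ⟨a₀, ha₀⟩ := hvr
    haveI : Nonempty (PrimeSpectrum Γ(X, W)) := ⟨a₀⟩
    obtain ⟨a, ha⟩ := hNd.nonempty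
    have hOopen : IsOpen (iW '' Nᶜ) := iW.isOpenEmbedding.isOpenMap _ hNc.isOpen_compl
    refine ⟨iW a, ?_, ?_⟩
    · apply hWV
      have : iW a ∈ Set.range iW := ⟨a, rfl⟩
      rw [hW.range_fromSpec] at this
      exact this
    · intro hcl
      obtain ⟨p, ⟨a', ha', rfl⟩, hpB⟩ := mem_closure_iff.mp hcl _ hOopen ⟨a, ha, rfl⟩
      apply ha'
      obtain ⟨kb, Ω, _, _, _, _, _, _, _, _, _, x, y, t, s, hx, hy1, hy2, hxt, hys⟩ := hpB
      -- `x` factors through `iW`
      have hrange : Set.range x ⊆ Set.range iW := by
        rintro _ ⟨t', rfl⟩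
        have : t' = t := Subsingleton.elim (α := PrimeSpectrum kb) _ _
        rw [this]
        exact ⟨a', hxt.symm⟩
      let x' := IsOpenImmersion.lift iW x hrange
      have hx' : x' ≫ iW = x := IsOpenImmersion.lift_fac _ _ _
      let φr := Spec.preimage x'
      have hφr : Spec.map φr = x' := Spec.map_preimage _
      have hcomm : ∀ c : k, φr.hom (algebraMap k Γ(X, W) c) = algebraMap k kb c := by
        have h1 : Spec.map (CommRingCat.ofHom (algebraMap k Γ(X, W)) ≫ φr) =
            Spec.map (CommRingCat.ofHom (algebraMap k kb)) := by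
          rw [Spec.map_comp, hφr, hAf, ← Category.assoc, hx', hx]
        have h2 := Spec.map_injective h1
        intro c
        exact congr($(h2).hom c)
      let φ : Γ(X, W) →ₐ[k] kb := { φr.hom with commutes' := hcomm }
      let ψA : Γ(X, W) ⊗[k] K →ₐ[k] Ω := Algebra.TensorProduct.productMap
        ((IsScalarTower.toAlgHom k kb Ω).comp φ) (IsScalarTower.toAlgHom k K Ω)
      let ψ : Γ(X, W) ⊗[k] K →+* Ω := ψA
      have hψ : ∀ a c, ψ (a ⊗ₜ[k] c) = algebraMap kb Ω (φ a) * algebraMap K Ω c := by
        intro a c
        simp [ψ, ψA]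
      have hy : Spec.map (CommRingCat.ofHom ψ) ≫ j = y := by
        apply pullback.hom_ext
        · have e1 : CommRingCat.ofHom (Algebra.TensorProduct.includeLeftRingHom :
              Γ(X, W) →+* Γ(X, W) ⊗[k] K) ≫ CommRingCat.ofHom ψ =
              φr ≫ CommRingCat.ofHom (algebraMap kb Ω) := by
            ext a
            change ψ (a ⊗ₜ[k] 1) = algebraMap kb Ω (φ a)
            rw [hψ, map_one, mul_one]
          calc (Spec.map (CommRingCat.ofHom ψ) ≫ j) ≫ pullback.fst f (Spec.map (CommRingCat.ofHom (algebraMap k K)))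
              = Spec.map (CommRingCat.ofHom ψ) ≫
                  ((pullbackSpecIso k Γ(X, W) K).inv ≫ pullback.fst _ _) ≫ iW := by
                simp only [j, Category.assoc, pullback.lift_fst]
            _ = Spec.map (CommRingCat.ofHom ψ) ≫ Spec.map (CommRingCat.ofHom
                  (Algebra.TensorProduct.includeLeftRingHom :
                    Γ(X, W) →+* Γ(X, W) ⊗[k] K)) ≫ iW := by
                rw [pullbackSpecIso_inv_fst]
            _ = Spec.map (φr ≫ CommRingCat.ofHom (algebraMap kb Ω)) ≫ iW := by
                rw [← Category.assoc, ← Spec.map_comp, e1]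
            _ = Spec.map (CommRingCat.ofHom (algebraMap kb Ω)) ≫ x := by
                rw [Spec.map_comp, Category.assoc, hφr, hx']
            _ = y ≫ pullback.fst f (Spec.map (CommRingCat.ofHom (algebraMap k K))) := hy1.symm
        · have e2 : ∀ (r : K →+* Γ(X, W) ⊗[k] K), (∀ c, r c = 1 ⊗ₜ[k] c) →
              CommRingCat.ofHom r ≫ CommRingCat.ofHom ψ =
                CommRingCat.ofHom (algebraMap K Ω) := by
            intro r hr
            ext c
            change ψ (r c) = algebraMap K Ω c
            rw [hr, hψ, map_one, map_one, one_mul]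
          calc (Spec.map (CommRingCat.ofHom ψ) ≫ j) ≫ pullback.snd f (Spec.map (CommRingCat.ofHom (algebraMap k K)))
              = Spec.map (CommRingCat.ofHom ψ) ≫
                  ((pullbackSpecIso k Γ(X, W) K).inv ≫ pullback.snd _ _) := by
                simp only [j, Category.assoc, pullback.lift_snd, Category.comp_id]
            _ = Spec.map (CommRingCat.ofHom (algebraMap K Ω)) := by
                rw [pullbackSpecIso_inv_snd, ← Spec.map_comp, e2 _ (fun c => rfl)]
            _ = y ≫ pullback.snd f (Spec.map (CommRingCat.ofHom (algebraMap k K))) := hy2.symm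
      have hpt : y.base s = j.base ((Spec.map (CommRingCat.ofHom ψ)).base s) := by
        rw [← hy]; rfl
      have hT : (Spec.map (CommRingCat.ofHom ψ)).base s ∈ T := by
        change j.base _ ∈ (U' : Set _)ᶜ
        rw [← hpt]
        exact hys
      have hs0 : s.asIdeal = ⊥ := Ideal.eq_bot_of_prime _
      have hker : ((Spec.map (CommRingCat.ofHom ψ)).base s).asIdeal = RingHom.ker ψ := by
        change Ideal.comap ψ s.asIdeal = _
        rw [hs0]
        rfl
      have ht0 : t.asIdeal = ⊥ := Ideal.eq_bot_of_prime _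
      have ha1 : a' = (Spec.map φr).base t := by
        rw [hφr]
        apply iW.isOpenEmbedding.injective
        have : x.base t = iW.base (x'.base t) := by rw [← hx']; rfl
        rw [← hxt]
        exact this
      have ha2 : a'.asIdeal = RingHom.ker (φ : Γ(X, W) →+* kb) := by
        rw [ha1]
        change Ideal.comap φr.hom t.asIdeal = _
        rw [ht0]
        rfl
      exact hN kb Ω φ ψ hψ ⟨_, hT, hker⟩ a' ha2

end Groth.Agent.S16363
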