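import Groth.Statements.S16370
import Mathlib.Algebra.Homology.DerivedCategory.Ext.ExactSequences
import Mathlib.CategoryTheory.Sites.SheafCohomology.Basic

set_option autoImplicit false
universe u
open CategoryTheory AlgebraicGeometry Opposite
open FrobSch

namespace Groth.Agent.S16370

/-- (ii) ⇒ (iii): let X be a reduced scheme of prime characteristic p, φ the p-th power map on the sheaf
of additive groups underlying O_X (a monomorphism, X being reduced) and B its cokernel in abelian
sheaves. If H^i(X, B) = 0 for all i ≥ 0, then the endomorphism of H^i(X, O_X) induced by φ — the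
Hasse–Witt operation — is bijective for all i. (The source has X normal and proper over a perfect
field; only reducedness enters this implication.) -/
theorem result
    (p : ℕ) [Fact p.Prime] (X : Scheme.{u}) [IsReduced X] (hp : (p : Γ(X, ⊤)) = 0)
    (φ : Coh.toAb (Coh.structureModule X) ⟶ Coh.toAb (Coh.structureModule X))
    (hφ : ∀ (U : X.Opens) (t : Γ(X, U)), φ.hom.app (op U) t = t ^ p)
    (hB : ∀ i : ℕ, Subsingleton (Sheaf.H (Limits.cokernel φ) i))
    (i : ℕ) : Function.Bijective (Sheaf.H.map φ i) := by
  have hinj : ∀ U : (TopologicalSpace.Opens X)ᵒᵖ, Function.Injective (φ.hom.app U) := by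
    intro U
    obtain ⟨U⟩ := U
    rw [injective_iff_map_eq_zero]
    intro t ht
    have h1 : (@id Γ(X, U) t) ^ p = 0 := (hφ U t).symm.trans ht
    have hred : _root_.IsReduced Γ(X, U) := inferInstance
    exact (show IsNilpotent (@id Γ(X, U) t) from ⟨p, h1⟩).eq_zero
  haveI hmono1 : ∀ U, Mono (φ.hom.app U) := fun U =>
    (AddCommGrpCat.mono_iff_injective _).mpr (hinj U)
  haveI hmono2 : Mono φ.hom := NatTrans.mono_of_mono_app φ.hom
  haveI hmono : Mono φ := Sheaf.Hom.mono_of_presheaf_mono _ _ φ
  have hS : (ShortComplex.mk φ (Limits.cokernel.π φ) (Limits.cokernel.condition φ)).ShortExact :=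
    { exact := ShortComplex.exact_cokernel φ }
  constructor
  · rw [injective_iff_map_eq_zero]
    intro x hx
    rw [Sheaf.H.map_apply] at hx
    cases i with
    | zero =>
      exact (Abelian.Ext.postcomp_mk₀_injective_of_mono _ φ) (by
        rw [map_zero]; exact hx)
    | succ n =>
      obtain ⟨x₃, rfl⟩ := Abelian.Ext.covariant_sequence_exact₁ _ hS x hx rfl
      have h0 : x₃ = 0 := (hB n).elim _ _
      rw [h0, Abelian.Ext.zero_comp]
  · intro y
    have h0 : y.comp (Abelian.Ext.mk₀ (Limits.cokernel.π φ)) (add_zero i) = 0 :=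
      (hB i).elim _ _
    obtain ⟨x₁, hx₁⟩ := Abelian.Ext.covariant_sequence_exact₂ _ hS y h0
    exact ⟨x₁, hx₁⟩

end Groth.Agent.S16370
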