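import Groth.Statements.S16371
import Mathlib
-- import your own Groth.Agent.* helpers here

set_option autoImplicit false
universe u v w
open FrobAlg

namespace Groth.Agent.S16371

theorem pow_eq_of_sub_mem {B : Type v} [CommRing B] (p : ℕ) (hp : (p : B) ^ 2 = 0) (a b : B)
    (h : a - b ∈ Ideal.span ({(p : B)} : Set B)) : a ^ p = b ^ p := by
  rw [Ideal.mem_span_singleton] at h
  have h2 := dvd_sub_pow_of_dvd_sub h 1
  simp only [pow_one] at h2
  have h3 : ((p : B) ^ (1 + 1)) = 0 := hp
  rw [h3, zero_dvd_iff, sub_eq_zero] at h2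
  exact h2

/-- Let p be a prime, A a commutative ring and B, C commutative A-algebras with p² = 0 in B. If two
A-algebra maps g₁, g₂ : C → B agree modulo p, then they agree on every element of C which is
congruent modulo p to an element of the A-subalgebra generated by the p-th powers. (The source
states this for liftings over a flat ℤ/p²-thickening of two smooth schemes and the subsheaf of
functions whose reduction lies in the image of the relative Frobenius; the smoothness and lifting
hypotheses are not needed for the identity.) -/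
theorem result
    (p : ℕ) [Fact p.Prime] (A : Type u) [CommRing A] (B : Type v) [CommRing B] [Algebra A B]
    (C : Type w) [CommRing C] [Algebra A C] (hp : (p : B) ^ 2 = 0)
    (g₁ g₂ : C →ₐ[A] B) (hg : ∀ x : C, g₁ x - g₂ x ∈ Ideal.span ({(p : B)} : Set B))
    (x y : C) (hy : y ∈ Algebra.adjoin A (Set.range fun c : C => c ^ p))
    (hxy : x - y ∈ Ideal.span ({(p : C)} : Set C)) :
    g₁ x = g₂ x := by
  have hadj : Algebra.adjoin A (Set.range fun c : C => c ^ p) ≤ AlgHom.equalizer g₁ g₂ := by
    rw [Algebra.adjoin_le_iff]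
    rintro _ ⟨c, rfl⟩
    change g₁ (c ^ p) = g₂ (c ^ p)
    rw [map_pow, map_pow]
    exact pow_eq_of_sub_mem p hp _ _ (hg c)
  have hy' : g₁ y = g₂ y := hadj hy
  rw [Ideal.mem_span_singleton] at hxy
  obtain ⟨c, hc⟩ := hxy
  have hx : x = y + (p : C) * c := by rw [← hc]; ring
  have hgc := hg c
  rw [Ideal.mem_span_singleton] at hgc
  obtain ⟨t, ht⟩ := hgc
  have h4 : g₁ c = g₂ c + (p : B) * t := by rw [← ht]; ring
  rw [hx, map_add, map_add, map_mul, map_mul, hy', map_natCast, map_natCast, h4]
  have : (p : B) * (g₂ c + (p : B) * t) = (p : B) * g₂ c + (p : B) ^ 2 * t := by ring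
  rw [this, hp]
  ring

end Groth.Agent.S16371
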