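import Groth.Statements.S16373
import Groth.Agent.S16372

set_option autoImplicit false
universe u
open FrobAlg

namespace Groth.Agent.S16373

section
variable (p : ℕ) [Fact p.Prime] (m : ℕ) (R : Type u) [CommRing R]

noncomputable abbrev V : TruncatedWittVector p m R →+ TruncatedWittVector p (m + 1) R :=
  WittGrp.shift p (Nat.le_succ m)

lemma p_mul (hp : (p : R) = 0) (w : TruncatedWittVector p (m + 1) R) :
    (p : TruncatedWittVector p (m + 1) R) * w =
      V p m R (WittGrp.frob p m hp (TruncatedWittVector.truncate (Nat.le_succ m) w)) := by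
  rcases subsingleton_or_nontrivial R with hR | hR
  · exact TruncatedWittVector.ext fun i => Subsingleton.elim _ _
  · have : CharP R p := (CharP.charP_iff_prime_eq_zero (Fact.out : p.Prime)).mpr hp
    obtain ⟨W, rfl⟩ := WittVector.truncate_surjective p (m + 1) R w
    rw [TruncatedWittVector.truncate_wittVector_truncate, WittGrp.frob_truncate,
      WittGrp.shift_truncate]
    have h1 : m + 1 - m = 1 := by omega
    rw [h1, Function.iterate_one, WittVector.verschiebung_frobenius, mul_comm, map_mul,
      map_natCast]

lemma coeff_V_zero (x : TruncatedWittVector p m R) : (V p m R x).coeff 0 = 0 := by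
  rw [WittGrp.coeff_shift, dif_neg]
  simp

lemma coeff_V_succ (x : TruncatedWittVector p m R) (i : Fin m) :
    (V p m R x).coeff i.succ = x.coeff i := by
  rw [WittGrp.coeff_shift, dif_pos (by simp)]
  congr 1
  apply Fin.ext
  simp

lemma V_injective : Function.Injective (V p m R) := by
  intro x x' h
  refine TruncatedWittVector.ext fun i => ?_
  have := congrArg (fun v => TruncatedWittVector.coeff i.succ v) h
  simpa only [coeff_V_succ] using this

lemma exists_V (w : TruncatedWittVector p (m + 1) R) (h : w.coeff 0 = 0) :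
    ∃ x, V p m R x = w := by
  refine ⟨TruncatedWittVector.mk p fun i => w.coeff i.succ, ?_⟩
  refine TruncatedWittVector.ext fun j => ?_
  induction j using Fin.cases with
  | zero => rw [coeff_V_zero, h]
  | succ i => rw [coeff_V_succ, TruncatedWittVector.coeff_mk]

end

/-- Let p be a prime, m ≥ 1, R a commutative ring with p = 0 in R and σ : W_m(R) → R a quasi-F-splitting
of level m (additive, σ(1) = 1, σ(F(x)·y) = x₀·σ(y) with F the componentwise p-th power). Let I ⊆
W_{m+1}(R) be the ideal generated by the shifts V(x) of the x with σ(x) = 0, and Q = W_{m+1}(R)/I.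
Then Q is a flat lifting of R modulo p²: an element of Q lies in pQ exactly when the first Witt
component of a representative vanishes (so Q/pQ is R through the first component), and an element of
Q is killed by p exactly when it lies in pQ. (Stated for a ring; the source has a scheme over the
prime field. For m = 1 this is the lifting attached to a Frobenius splitting.) -/
theorem result
    (p : ℕ) [Fact p.Prime] (m : ℕ) (hm : 0 < m) (R : Type u) [CommRing R] (hp : (p : R) = 0)
    (σ : TruncatedWittVector p m R →+ R) (h1 : σ 1 = 1)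
    (hF : ∀ x y : TruncatedWittVector p m R, σ (WittGrp.frob p m hp x * y) = x.coeff ⟨0, hm⟩ * σ y)
    (I : Ideal (TruncatedWittVector p (m + 1) R))
    (hI : I = Ideal.span (WittGrp.shift p (Nat.le_succ m) '' {x : TruncatedWittVector p m R | σ x = 0})) :
    (∀ w : TruncatedWittVector p (m + 1) R,
        Ideal.Quotient.mk I w ∈ Ideal.span ({(p : TruncatedWittVector p (m + 1) R ⧸ I)} : Set _) ↔
          w.coeff 0 = 0) ∧
    (∀ q : TruncatedWittVector p (m + 1) R ⧸ I,
        (p : TruncatedWittVector p (m + 1) R ⧸ I) * q = 0 ↔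
          q ∈ Ideal.span ({(p : TruncatedWittVector p (m + 1) R ⧸ I)} : Set _)) := by
  have memI : ∀ w, w ∈ I ↔ ∃ x, σ x = 0 ∧ V p m R x = w := by
    intro w
    constructor
    · intro hw
      rw [hI] at hw
      induction hw using Submodule.span_induction with
      | mem w hw =>
        obtain ⟨x, hx, rfl⟩ := hw
        exact ⟨x, hx, rfl⟩
      | zero => exact ⟨0, map_zero σ, map_zero _⟩
      | add a b _ _ ha hb =>
        obtain ⟨x, hx, rfl⟩ := ha
        obtain ⟨x', hx', rfl⟩ := hb
        exact ⟨x + x', by rw [map_add, hx, hx', add_zero], map_add _ _ _⟩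
      | smul a b _ hb =>
        obtain ⟨x, hx, rfl⟩ := hb
        obtain ⟨x', hx', h⟩ := Groth.Agent.S16372.result p m hm R hp σ h1 hF a x hx
        exact ⟨x', hx', h.symm⟩
    · rintro ⟨x, hx, rfl⟩
      rw [hI]
      exact Ideal.subset_span ⟨x, hx, rfl⟩
  have partA : ∀ w : TruncatedWittVector p (m + 1) R,
      Ideal.Quotient.mk I w ∈ Ideal.span ({(p : TruncatedWittVector p (m + 1) R ⧸ I)} : Set _) ↔
        w.coeff 0 = 0 := by
    intro w
    rw [Ideal.mem_span_singleton']
    constructor
    · rintro ⟨a, ha⟩
      obtain ⟨u, rfl⟩ := Ideal.Quotient.mk_surjective a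
      have h2 : Ideal.Quotient.mk I (w - (p : TruncatedWittVector p (m + 1) R) * u) = 0 := by
        rw [map_sub, map_mul, map_natCast, ← ha, mul_comm, sub_self]
      rw [Ideal.Quotient.eq_zero_iff_mem, memI] at h2
      obtain ⟨x, _, hx⟩ := h2
      have h3 : w = V p m R x + (p : TruncatedWittVector p (m + 1) R) * u := by
        rw [hx]; ring
      rw [h3, p_mul p m R hp, ← map_add, coeff_V_zero]
    · intro hw
      obtain ⟨x, rfl⟩ := exists_V p m R w hw
      let a : TruncatedWittVector p m R := TruncatedWittVector.mk p fun _ => σ x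
      obtain ⟨a', ha'⟩ := TruncatedWittVector.truncate_surjective (p := p) (R := R)
        (Nat.le_succ m) a
      refine ⟨Ideal.Quotient.mk I a', ?_⟩
      rw [← map_natCast (Ideal.Quotient.mk I), ← map_mul, mul_comm, p_mul p m R hp, ha',
        ← sub_eq_zero, ← map_sub, Ideal.Quotient.eq_zero_iff_mem, ← map_sub, memI]
      refine ⟨_, ?_, rfl⟩
      have h4 := hF a 1
      rw [mul_one, h1, mul_one] at h4
      rw [map_sub, h4, TruncatedWittVector.coeff_mk, sub_self]
  refine ⟨partA, ?_⟩
  intro q
  obtain ⟨w, rfl⟩ := Ideal.Quotient.mk_surjective q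
  rw [partA]
  constructor
  · intro h
    rw [← map_natCast (Ideal.Quotient.mk I), ← map_mul, Ideal.Quotient.eq_zero_iff_mem,
      p_mul p m R hp, memI] at h
    obtain ⟨x, hx, hx'⟩ := h
    have h5 := V_injective p m R hx'
    have h4 := hF (TruncatedWittVector.truncate (Nat.le_succ m) w) 1
    rw [mul_one, h1, mul_one, ← h5, hx] at h4
    rw [TruncatedWittVector.coeff_truncate (Nat.le_succ m) ⟨0, hm⟩ w] at h4
    have e : Fin.castLE (Nat.le_succ m) ⟨0, hm⟩ = (0 : Fin (m + 1)) := Fin.ext (by simp)
    rw [e] at h4
    exact h4.symm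
  · intro h
    obtain ⟨x, rfl⟩ := exists_V p m R w h
    rw [← map_natCast (Ideal.Quotient.mk I), ← map_mul, Ideal.Quotient.eq_zero_iff_mem,
      ← nsmul_eq_mul, ← map_nsmul, memI]
    refine ⟨_, ?_, rfl⟩
    rw [map_nsmul, nsmul_eq_mul, hp, zero_mul]

end Groth.Agent.S16373
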