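import Groth.Statements.S16374
import Mathlib
-- import your own Groth.Agent.* helpers here

set_option autoImplicit false
universe u v w
open FrobAlg

namespace Groth.Agent.S16374

theorem D_mem_of_mem_adjoin (p : ℕ) (A : Type u) [CommRing A] (B : Type v) [CommRing B] [Algebra A B]
    (u : B) (hu : u ∈ Algebra.adjoin A (Set.range fun b : B => b ^ p)) :
    ∃ ω : Ω[B⁄A], KaehlerDifferential.D A B u = (p : B) • ω := by
  induction hu using Algebra.adjoin_induction with
  | mem x hx =>
    obtain ⟨b, rfl⟩ := hx
    refine ⟨b ^ (p - 1) • KaehlerDifferential.D A B b, ?_⟩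
    simp only [Derivation.leibniz_pow]
    rw [Nat.cast_smul_eq_nsmul]
  | algebraMap r => exact ⟨0, by simp⟩
  | add x y hx hy ihx ihy =>
    obtain ⟨a, ha⟩ := ihx
    obtain ⟨b, hb⟩ := ihy
    exact ⟨a + b, by rw [map_add, ha, hb, smul_add]⟩
  | mul x y hx hy ihx ihy =>
    obtain ⟨a, ha⟩ := ihx
    obtain ⟨b, hb⟩ := ihy
    refine ⟨x • b + y • a, ?_⟩
    rw [Derivation.leibniz, ha, hb, smul_add, smul_comm x, smul_comm y]

/-- Let p be a prime, A a commutative ring, B and C commutative A-algebras with p² = 0 in B, and g : C →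
B an A-algebra map such that every g(c) is congruent modulo p to an element of the A-subalgebra of B
generated by the p-th powers (g lifts a relative Frobenius). Then d(g(x)) = 0 in the module of
Kähler differentials of B over A for every x ∈ C that is congruent modulo p to an element of the
A-subalgebra of C generated by the p-th powers. (The source works with a lifting of the relative
Frobenius of a smooth scheme over a ℤ/p²-thickening and the subsheaf of functions whose reduction
comes from the Frobenius twist; smoothness is not needed for this vanishing.) -/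
theorem result
    (p : ℕ) [Fact p.Prime] (A : Type u) [CommRing A] (B : Type v) [CommRing B] [Algebra A B]
    (C : Type w) [CommRing C] [Algebra A C] (hp : (p : B) ^ 2 = 0)
    (g : C →ₐ[A] B)
    (hg : ∀ c : C, ∃ u ∈ Algebra.adjoin A (Set.range fun b : B => b ^ p),
      g c - u ∈ Ideal.span ({(p : B)} : Set B))
    (x y : C) (hy : y ∈ Algebra.adjoin A (Set.range fun c : C => c ^ p))
    (hxy : x - y ∈ Ideal.span ({(p : C)} : Set C)) :
    KaehlerDifferential.D A B (g x) = 0 := by
  have hpp : ∀ ω : Ω[B⁄A], (p : B) • (p : B) • ω = 0 := by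
    intro ω
    rw [smul_smul, ← pow_two, hp, zero_smul]
  have step2 : ∀ c : C, ∃ ω : Ω[B⁄A], KaehlerDifferential.D A B (g c) = (p : B) • ω := by
    intro c
    obtain ⟨u, hu, hcu⟩ := hg c
    rw [Ideal.mem_span_singleton] at hcu
    obtain ⟨t, ht⟩ := hcu
    obtain ⟨ω, hω⟩ := D_mem_of_mem_adjoin p A B u hu
    refine ⟨ω + KaehlerDifferential.D A B t, ?_⟩
    have : g c = u + (p : B) * t := by rw [← ht]; ring
    rw [this, map_add, hω, Derivation.leibniz, Derivation.map_natCast, smul_zero, add_zero, smul_add]
  have step4 : ∀ y ∈ Algebra.adjoin A (Set.range fun c : C => c ^ p),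
      KaehlerDifferential.D A B (g y) = 0 := by
    intro y hy
    induction hy using Algebra.adjoin_induction with
    | mem x hx =>
      obtain ⟨c, rfl⟩ := hx
      obtain ⟨ω, hω⟩ := step2 c
      rw [map_pow, Derivation.leibniz_pow, hω, ← Nat.cast_smul_eq_nsmul B, smul_comm _ (p : B) ω, hpp]
    | algebraMap r => simp
    | add x y hx hy ihx ihy => rw [map_add, map_add, ihx, ihy, add_zero]
    | mul x y hx hy ihx ihy => rw [map_mul, Derivation.leibniz, ihx, ihy, smul_zero, smul_zero, add_zero]
  rw [Ideal.mem_span_singleton] at hxy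
  obtain ⟨c, hc⟩ := hxy
  have hx : x = y + (p : C) * c := by rw [← hc]; ring
  obtain ⟨ω, hω⟩ := step2 c
  rw [hx, map_add, map_add, step4 y hy, map_mul, map_natCast, Derivation.leibniz,
    Derivation.map_natCast, smul_zero, add_zero, hω, hpp, zero_add]

end Groth.Agent.S16374
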