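import Groth.Statements.S1638
import Mathlib.LinearAlgebra.Basis.VectorSpace
import Mathlib.RingTheory.Flat.Basic

set_option autoImplicit false
universe u
open Brauer

namespace Groth.Agent.S1638

/-- Let A and A' be algebras over a field k with subalgebras B ⊆ A and B' ⊆ A' having centralizers C and
C'. Then the centralizer of the image of B ⊗ B' in A ⊗_k A' is the image of C ⊗_k C'. -/
theorem result (k : Type u) [Field k] (A A' : Type u) [Ring A] [Ring A'] [Algebra k A] [Algebra k A']
    (B : Subalgebra k A) (B' : Subalgebra k A') :
    Subalgebra.centralizer k ((Algebra.TensorProduct.map B.val B'.val).range : Set (TensorProduct k A A')) =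
      (Algebra.TensorProduct.map (Subalgebra.centralizer k (B : Set A)).val (Subalgebra.centralizer k (B' : Set A')).val).range := by
  set C := Subalgebra.centralizer k (B : Set A) with hC
  set C' := Subalgebra.centralizer k (B' : Set A') with hC'
  have hcomp : ∀ w₂ : TensorProduct k C C', Algebra.TensorProduct.map C.val C'.val w₂ =
      Algebra.TensorProduct.map C.val (AlgHom.id k A')
        (Algebra.TensorProduct.map (AlgHom.id k C) C'.val w₂) := by
    intro w₂
    induction w₂ using TensorProduct.induction_on with
    | zero => simp
    | tmul c c' => simp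
    | add x y hx hy => simp only [map_add, hx, hy]
  apply le_antisymm
  · intro w hw
    rw [Subalgebra.mem_centralizer_iff] at hw
    have h1 : w ∈ Subalgebra.centralizer k
        (Algebra.TensorProduct.includeLeft (S := k) (R := k) (A := A) (B := A') '' (B : Set A)) := by
      rw [Subalgebra.mem_centralizer_iff]
      rintro _ ⟨b, hb, rfl⟩
      exact hw _ ⟨(⟨b, hb⟩ : B) ⊗ₜ[k] (1 : B'), by simp⟩
    rw [Subalgebra.centralizer_coe_image_includeLeft_eq_center_tensorProduct k A A' (B : Set A)] at h1
    obtain ⟨w₁, rfl⟩ := h1
    have hinj : Function.Injective (Algebra.TensorProduct.map C.val (AlgHom.id k A')) := by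
      have : (Algebra.TensorProduct.map C.val (AlgHom.id k A') : TensorProduct k C A' → TensorProduct k A A') =
          LinearMap.rTensor A' C.val.toLinearMap := by
        ext x
        rfl
      rw [this]
      exact Module.Flat.rTensor_preserves_injective_linearMap _ Subtype.val_injective
    have h2 : w₁ ∈ Subalgebra.centralizer k
        (Algebra.TensorProduct.includeRight (R := k) (A := C) (B := A') '' (B' : Set A')) := by
      rw [Subalgebra.mem_centralizer_iff]
      rintro _ ⟨b', hb', rfl⟩
      apply hinj
      rw [map_mul, map_mul]
      have := hw ((1 : A) ⊗ₜ[k] b') ⟨(1 : B) ⊗ₜ[k] (⟨b', hb'⟩ : B'), by simp⟩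
      simpa using this
    rw [Subalgebra.centralizer_coe_image_includeRight_eq_center_tensorProduct k C A' (B' : Set A')] at h2
    obtain ⟨w₂, rfl⟩ := h2
    exact ⟨w₂, hcomp w₂⟩
  · rintro _ ⟨w, rfl⟩
    rw [Subalgebra.mem_centralizer_iff]
    rintro _ ⟨x, rfl⟩
    induction w using TensorProduct.induction_on with
    | zero => simp
    | add y z hy hz => rw [map_add, mul_add, hy, hz, add_mul]
    | tmul c c' =>
      induction x using TensorProduct.induction_on with
      | zero => simp
      | add y z hy hz => rw [map_add, add_mul, hy, hz, mul_add]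
      | tmul b b' =>
        have e1 : (b : A) * (c : A) = c * b := (Subalgebra.mem_centralizer_iff k |>.1 c.2 b b.2)
        have e2 : (b' : A') * (c' : A') = c' * b' := (Subalgebra.mem_centralizer_iff k |>.1 c'.2 b' b'.2)
        simp [e1, e2]

end Groth.Agent.S1638
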