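import Groth.Statements.S16390
import Mathlib
-- import your own Groth.Agent.* helpers here

set_option autoImplicit false
open AbVar

namespace Groth.Agent.S16390

theorem real_pos (p r : ℕ) [Fact p.Prime] (hr : 2 < r) (x : ℝ) :
    0 < x ^ 2 - (p : ℝ) * x + (p : ℝ) ^ r := by
  have hp1 : (1 : ℝ) ≤ (p : ℝ) := by exact_mod_cast (Fact.out : p.Prime).one_lt.le
  have hq : (p : ℝ) ^ 2 ≤ (p : ℝ) ^ r := pow_le_pow_right₀ hp1 (by omega)
  nlinarith [sq_nonneg (x - (p : ℝ) / 2), hq, hp1]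

theorem irred_part (p r : ℕ) [Fact p.Prime] (hr : 2 < r) :
    Irreducible (Polynomial.X ^ 2 - Polynomial.C (p : ℚ) * Polynomial.X + Polynomial.C ((p : ℚ) ^ r)) := by
  apply Polynomial.irreducible_of_degree_le_three_of_not_isRoot
  · have : (Polynomial.X ^ 2 - Polynomial.C (p : ℚ) * Polynomial.X + Polynomial.C ((p : ℚ) ^ r)).natDegree = 2 := by
      compute_degree!
    rw [this]
    decide
  · intro x hx
    rw [Polynomial.IsRoot.def] at hx
    simp only [Polynomial.eval_add, Polynomial.eval_sub, Polynomial.eval_pow, Polynomial.eval_X,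
      Polynomial.eval_mul, Polynomial.eval_C] at hx
    have h1 := real_pos p r hr (x : ℝ)
    have h2 : ((x ^ 2 - (p : ℚ) * x + (p : ℚ) ^ r : ℚ) : ℝ) = 0 := by rw [hx]; simp
    push_cast at h2
    linarith

theorem complex_part (p r : ℕ) [Fact p.Prime] (hr : 2 < r) :
    ∀ π : ℂ, π ^ 2 - (p : ℂ) * π + (p : ℂ) ^ r = 0 → ‖π‖ = Real.sqrt ((p : ℝ) ^ r) := by
  intro π h
  have hq : ((p : ℂ) ^ r) = (((p : ℝ) ^ r : ℝ) : ℂ) := by push_cast; rfl
  rw [hq] at h
  have hpos := real_pos p r hr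
  generalize (p : ℝ) ^ r = q at h hpos ⊢
  have hre := congrArg Complex.re h
  have him := congrArg Complex.im h
  simp [pow_two] at hre him
  rw [Complex.norm_eq_sqrt_sq_add_sq]
  congr 1
  have him' : π.im * (2 * π.re - (p : ℝ)) = 0 := by linarith
  rcases mul_eq_zero.1 him' with hb | ha
  · exfalso
    have := hpos π.re
    rw [hb] at hre
    nlinarith
  · have ha' : π.re = (p : ℝ) / 2 := by linarith
    rw [ha'] at hre ⊢
    nlinarith


theorem padic_part (p r : ℕ) [Fact p.Prime] (hr : 2 < r) :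
      ∃ a b : ℚ_[p], a ≠ b ∧ a ^ 2 - (p : ℚ_[p]) * a + (p : ℚ_[p]) ^ r = 0 ∧
        b ^ 2 - (p : ℚ_[p]) * b + (p : ℚ_[p]) ^ r = 0 ∧ a.valuation = 1 ∧ b.valuation = (r : ℤ) - 1 := by
  obtain ⟨s, rfl⟩ : ∃ s, r = s + 3 := ⟨r - 3, by omega⟩
  let F : Polynomial ℤ_[p] := Polynomial.X ^ 2 - Polynomial.X + Polynomial.C ((p : ℤ_[p]) ^ (s + 1))
  have hF1 : Polynomial.aeval (1 : ℤ_[p]) F = (p : ℤ_[p]) ^ (s + 1) := by
    simp [F]
  have hF'1 : Polynomial.aeval (1 : ℤ_[p]) (Polynomial.derivative F) = 1 := by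
    simp only [F, map_add, map_sub, Polynomial.derivative_C, Polynomial.derivative_X,
      Polynomial.derivative_X_pow]
    simp
    norm_num
  have hnorm : ‖Polynomial.aeval (1 : ℤ_[p]) F‖ < ‖Polynomial.aeval (1 : ℤ_[p]) (Polynomial.derivative F)‖ ^ 2 := by
    rw [hF1, hF'1, norm_one, one_pow, PadicInt.norm_lt_one_iff_dvd]
    exact dvd_pow_self _ (by omega)
  obtain ⟨z, hz0, hz1, -, -⟩ := hensels_lemma hnorm
  rw [hF'1, norm_one] at hz1
  have hzeq : z ^ 2 - z + (p : ℤ_[p]) ^ (s + 1) = 0 := by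
    simpa [F] using hz0
  have hznorm : ‖z‖ = 1 := by
    have h1 : ‖z - 1‖ ≠ ‖(1 : ℤ_[p])‖ := by rw [norm_one]; exact ne_of_lt hz1
    have h2 := PadicInt.norm_add_eq_max_of_ne h1
    rw [sub_add_cancel, norm_one, max_eq_right (le_of_lt hz1)] at h2
    exact h2
  have hpne : (p : ℚ_[p]) ≠ 0 := by
    exact_mod_cast (Fact.out : p.Prime).ne_zero
  have hzq : (z : ℚ_[p]) ^ 2 - (z : ℚ_[p]) + (p : ℚ_[p]) ^ (s + 1) = 0 := by
    exact_mod_cast congrArg (fun t : ℤ_[p] => (t : ℚ_[p])) hzeq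
  have hprod : (z : ℚ_[p]) * (1 - (z : ℚ_[p])) = (p : ℚ_[p]) ^ (s + 1) := by
    linear_combination (-1 : ℚ_[p]) * hzq
  have hzne : (z : ℚ_[p]) ≠ 0 := by
    intro h
    rw [h, zero_mul] at hprod
    exact pow_ne_zero _ hpne hprod.symm
  have hz1ne : (1 - (z : ℚ_[p])) ≠ 0 := by
    intro h
    rw [h, mul_zero] at hprod
    exact pow_ne_zero _ hpne hprod.symm
  have hvz : (z : ℚ_[p]).valuation = 0 := by
    have h1 : ‖(z : ℚ_[p])‖ = 1 := by simpa using hznorm
    rw [Padic.norm_eq_zpow_neg_valuation hzne] at h1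
    have hp1 : (1 : ℝ) < (p : ℝ) := by exact_mod_cast (Fact.out : p.Prime).one_lt
    have := (zpow_eq_one_iff_right₀ (by positivity) (ne_of_gt hp1)).1 h1
    omega
  have hv1z : (1 - (z : ℚ_[p])).valuation = (s : ℤ) + 1 := by
    have h1 := congrArg Padic.valuation hprod
    rw [Padic.valuation_mul hzne hz1ne, hvz, Padic.valuation_pow, Padic.valuation_p] at h1
    push_cast at h1
    omega
  have hva : ((p : ℚ_[p]) * (z : ℚ_[p])).valuation = 1 := by
    rw [Padic.valuation_mul hpne hzne, hvz, Padic.valuation_p]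
    rfl
  have hvb : ((p : ℚ_[p]) * (1 - (z : ℚ_[p]))).valuation = ((s + 3 : ℕ) : ℤ) - 1 := by
    rw [Padic.valuation_mul hpne hz1ne, hv1z, Padic.valuation_p]
    push_cast
    ring
  refine ⟨(p : ℚ_[p]) * (z : ℚ_[p]), (p : ℚ_[p]) * (1 - (z : ℚ_[p])), ?_, ?_, ?_, hva, hvb⟩
  · intro h
    rw [h] at hva
    rw [hva] at hvb
    push_cast at hvb
    omega
  · linear_combination (p : ℚ_[p]) ^ 2 * hzq
  · linear_combination (p : ℚ_[p]) ^ 2 * hzq


/-- Let p be a prime number, r > 2 and q = p^r. The polynomial x² − p x + q is irreducible over ℚ, each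
of its complex roots has absolute value √q (so its roots are Weil q-numbers), and it has two
distinct roots in ℚ_p, of p-adic valuations 1 and r − 1. The published lemma also computes the index
of the endomorphism algebra of the simple abelian variety attached to a root; this row does not
state that part. -/
theorem result (p r : ℕ) [Fact p.Prime] (hr : 2 < r) :
    Irreducible (Polynomial.X ^ 2 - Polynomial.C (p : ℚ) * Polynomial.X + Polynomial.C ((p : ℚ) ^ r)) ∧
      (∀ π : ℂ, π ^ 2 - (p : ℂ) * π + (p : ℂ) ^ r = 0 → ‖π‖ = Real.sqrt ((p : ℝ) ^ r)) ∧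
      ∃ a b : ℚ_[p], a ≠ b ∧ a ^ 2 - (p : ℚ_[p]) * a + (p : ℚ_[p]) ^ r = 0 ∧
        b ^ 2 - (p : ℚ_[p]) * b + (p : ℚ_[p]) ^ r = 0 ∧ a.valuation = 1 ∧ b.valuation = (r : ℤ) - 1 := by
  exact ⟨irred_part p r hr, complex_part p r hr, padic_part p r hr⟩


end Groth.Agent.S16390
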