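import Groth.Statements.S16394
import Mathlib
import Groth.Agent.Lib.Helper46.IdealACC

set_option autoImplicit false
universe u
open CategoryTheory MonoidalCategory CartesianMonoidalCategory MonObj GrpObj AlgebraicGeometry
open AbVar

namespace Groth.Agent.S16394

open CategoryTheory.Limits

variable {S : Scheme.{u}}

/-- the unit section at scheme level -/
noncomputable def e (A : Over S) [GrpObj A] : S ⟶ A.left := (η[A]).left

lemma e_hom (A : Over S) [GrpObj A] : e A ≫ A.hom = 𝟙 S := Over.w (η[A])

instance (A : Over S) [GrpObj A] [IsSeparated A.hom] : IsClosedImmersion (e A) := by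
  have : IsClosedImmersion (e A ≫ A.hom) := by rw [e_hom]; infer_instance
  exact IsClosedImmersion.of_comp (e A) A.hom

lemma one_left (T A : Over S) [GrpObj A] : (1 : T ⟶ A).left = T.hom ≫ e A := rfl

lemma eq_one_iff (T A : Over S) [GrpObj A] (x : T ⟶ A) : x = 1 ↔ x.left = T.hom ≫ e A := by
  constructor
  · rintro rfl; rfl
  · intro h
    apply Over.OverMorphism.ext
    rw [h]; rfl

/-- the kernel ideal sheaf of `f`. -/
noncomputable def kerIdeal {X A : Over S} [GrpObj A] (f : X ⟶ A) : X.left.IdealSheafData :=
  (pullback.fst f.left (e A)).ker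

lemma comp_eq_one_iff {X A : Over S} [GrpObj A] [IsSeparated A.hom] (f : X ⟶ A) (T : Over S)
    (x : T ⟶ X) : x ≫ f = 1 ↔ kerIdeal f ≤ x.left.ker := by
  rw [eq_one_iff]
  constructor
  · intro h
    have h' : x.left ≫ f.left = T.hom ≫ e A := h
    have : x.left = pullback.lift x.left T.hom h' ≫ pullback.fst f.left (e A) :=
      (pullback.lift_fst _ _ _).symm
    rw [this]
    exact Scheme.Hom.le_ker_comp _ _
  · intro h
    have hfac := IsClosedImmersion.lift_fac (pullback.fst f.left (e A)) x.left h
    set l := IsClosedImmersion.lift (pullback.fst f.left (e A)) x.left h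
    change x.left ≫ f.left = _
    rw [← hfac, Category.assoc, pullback.condition, ← Category.assoc]
    congr 1
    have h1 : (l ≫ pullback.snd f.left (e A)) = (l ≫ pullback.snd f.left (e A)) ≫ e A ≫ A.hom := by
      rw [e_hom, Category.comp_id]
    rw [h1, Category.assoc, ← pullback.condition_assoc, ← Category.assoc, hfac]
    have := Over.w f
    rw [this, Over.w x]

open Groth.Agent.Lib.Helper46.IdealACC in

/-- (b₁) ⇒ (c₁): let k be a finite field and X, A abelian varieties over k (proper, geometrically
integral commutative group schemes over k). Suppose the common kernel of all homomorphisms X → A is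
trivial: every T-valued point of X over k that is sent to the unit by every homomorphism X → A is
the unit point (this is condition (b₁) for the trivial subgroup). Then there are finitely many
homomorphisms ψ_1, …, ψ_n : X → A which are jointly monomorphic on T-valued points — two T-valued
points of X with the same image under every ψ_i are equal — so that (ψ_i) is an injective
homomorphism X → A^n. The published statement restricts X and A to abelian varieties whose Frobenius
is killed by a fixed polynomial; this row has no such restriction. -/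
theorem result
    (k : Type u) [Field k] [Finite k] (X A : Over (Spec (CommRingCat.of k))) [GrpObj X] [IsCommMonObj X] [IsProper X.hom] [GeometricallyIntegral X.hom]
    [GrpObj A] [IsCommMonObj A] [IsProper A.hom] [GeometricallyIntegral A.hom]
    (hsep : ∀ (T : Over (Spec (CommRingCat.of k))) (x : T ⟶ X), (∀ f : EndAV.Hom X A, x ≫ f.toHom = 1) → x = 1) :
    ∃ (n : ℕ) (ψ : Fin n → EndAV.Hom X A), ∀ (T : Over (Spec (CommRingCat.of k))) (x y : T ⟶ X),
      (∀ i, x ≫ (ψ i).toHom = y ≫ (ψ i).toHom) → x = y := by
  classical
  have hXN : IsNoetherian X.left := by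
    have : IsLocallyNoetherian X.left := LocallyOfFiniteType.isLocallyNoetherian X.hom
    have : CompactSpace X.left := QuasiCompact.compactSpace_of_compactSpace X.hom
    exact {}
  let F : Finset (EndAV.Hom X A) → X.left.IdealSheafData := fun s => ⨆ f ∈ s, kerIdeal f.toHom
  have hF : Directed (· ≤ ·) F := by
    intro s t
    refine ⟨s ∪ t, ?_, ?_⟩
    · exact biSup_mono (fun f hf => Finset.mem_union_left _ hf)
    · exact biSup_mono (fun f hf => Finset.mem_union_right _ hf)
  obtain ⟨s₀, hs₀⟩ := exists_iSup_le_of_directed F hF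
  have hle : ∀ f : EndAV.Hom X A, kerIdeal f.toHom ≤ F s₀ := fun f =>
    le_trans (le_trans (le_biSup (fun g : EndAV.Hom X A => kerIdeal g.toHom)
      (Finset.mem_singleton_self f)) (le_iSup F {f})) hs₀
  let jK := (F s₀).subschemeι
  have hjK : jK.ker = F s₀ := Scheme.IdealSheafData.ker_subschemeι _
  let T : Over (Spec (CommRingCat.of k)) := Over.mk (jK ≫ X.hom)
  let x₀ : T ⟶ X := Over.homMk jK rfl
  have hx₀ : x₀ = 1 := hsep T x₀ (fun f => (comp_eq_one_iff f.toHom T x₀).mpr
    (by rw [show x₀.left.ker = F s₀ from hjK]; exact hle f))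
  have hx₀' : jK = (jK ≫ X.hom) ≫ e X := (eq_one_iff T X x₀).mp hx₀
  refine ⟨s₀.card, fun i => (s₀.equivFin.symm i).1, ?_⟩
  intro T' x y hxy
  have hd : ∀ f ∈ s₀, (x / y) ≫ f.toHom = 1 := by
    intro f hf
    rw [GrpObj.div_comp]
    obtain ⟨i, hi⟩ : ∃ i, (s₀.equivFin.symm i).1 = f := ⟨s₀.equivFin ⟨f, hf⟩, by simp⟩
    rw [← hi, hxy i, div_self']
  have hker : F s₀ ≤ (x / y).left.ker :=
    iSup₂_le fun f hf => (comp_eq_one_iff f.toHom T' (x / y)).mp (hd f hf)
  have h1 : x / y = 1 := by
    rw [eq_one_iff]
    have hfac := IsClosedImmersion.lift_fac jK (x / y).left (by rw [hjK]; exact hker)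
    set l := IsClosedImmersion.lift jK (x / y).left (by rw [hjK]; exact hker)
    have h2 : (x / y).left = l ≫ (jK ≫ X.hom) ≫ e X := by rw [← hx₀', hfac]
    rw [h2, ← Category.assoc, ← Category.assoc, hfac, Over.w (x / y)]
  exact div_eq_one.mp h1

end Groth.Agent.S16394
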