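import Groth.Statements.S16396
import Mathlib
-- import your own Groth.Agent.* helpers here

set_option autoImplicit false
universe u
open CAlg

namespace Groth.Agent.S16396

open Polynomial in
theorem C_coeff_mem (A : Type u) [CommRing A] [Algebra ℚ A] (B : Subalgebra ℚ A[X])
    (hX : (X : A[X]) ∈ B) (hD : ∀ P ∈ B, Polynomial.derivative P ∈ B) :
    ∀ n : ℕ, ∀ Q ∈ B, Q.natDegree ≤ n → ∀ i, C (Q.coeff i) ∈ B := by
  intro n
  induction n with
  | zero =>
    intro Q hQ hdeg i
    rw [Polynomial.eq_C_of_natDegree_le_zero hdeg] at hQ ⊢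
    rcases i with _ | i
    · simpa using hQ
    · simp
  | succ n ih =>
    intro Q hQ hdeg
    have hd : (derivative Q).natDegree ≤ n := by
      have := Polynomial.natDegree_derivative_le Q
      omega
    have h1 := ih (derivative Q) (hD Q hQ) hd
    have h2 : ∀ i, C (Q.coeff (i + 1)) ∈ B := by
      intro i
      have h3 := h1 i
      rw [Polynomial.coeff_derivative] at h3
      have h4 : C (Q.coeff (i + 1)) = ((1 / ((i : ℚ) + 1)) : ℚ) • C (Q.coeff (i + 1) * ((i : A) + 1)) := by
        rw [Polynomial.smul_C]
        congr 1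
        have h5 : ((i : A) + 1) = algebraMap ℚ A ((i : ℚ) + 1) := by simp
        rw [h5, mul_comm, ← Algebra.smul_def, smul_smul]
        have : ((i : ℚ) + 1) ≠ 0 := by positivity
        rw [one_div, inv_mul_cancel₀ this, one_smul]
      rw [h4]
      exact B.smul_mem h3 _
    have h6 : C (Q.coeff 0) = Q - ∑ i ∈ Finset.range (n + 1), C (Q.coeff (i + 1)) * X ^ (i + 1) := by
      have h7 : Q.natDegree < n + 2 := by omega
      have h8 := Polynomial.as_sum_range_C_mul_X_pow' Q h7
      rw [Finset.sum_range_succ'] at h8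
      rw [eq_sub_iff_add_eq, add_comm]
      simpa using h8.symm
    intro i
    rcases i with _ | i
    · rw [h6]
      apply B.sub_mem hQ
      apply B.sum_mem
      intro i _
      exact B.mul_mem (h2 i) (B.pow_mem hX _)
    · exact h2 i

open Polynomial in

open Polynomial in
/-- For a commutative ℚ-algebra A, a ℚ-subalgebra B of the polynomial algebra A[X] that contains X and
is closed under d/dX consists exactly of the polynomials each of whose coefficients is the value at
0 of some element of B; in other words B = ev(B)[X], with ev the evaluation at 0. -/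
theorem result
    (A : Type u) [CommRing A] [Algebra ℚ A] (B : Subalgebra ℚ A[X])
    (hX : (X : A[X]) ∈ B) (hD : ∀ P ∈ B, Polynomial.derivative P ∈ B) (P : A[X]) :
    P ∈ B ↔ ∀ i : ℕ, ∃ Q ∈ B, Polynomial.eval 0 Q = P.coeff i := by
  constructor
  · intro hP i
    exact ⟨C (P.coeff i), C_coeff_mem A B hX hD _ P hP le_rfl i, by simp⟩
  · intro h
    rw [Polynomial.as_sum_range_C_mul_X_pow P]
    apply B.sum_mem
    intro i _
    obtain ⟨Q, hQ, hQi⟩ := h i
    rw [← hQi, ← Polynomial.coeff_zero_eq_eval_zero]
    exact B.mul_mem (C_coeff_mem A B hX hD _ Q hQ le_rfl 0) (B.pow_mem hX _)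


end Groth.Agent.S16396
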