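import Groth.Statements.S16397
import Mathlib.RingTheory.MvPolynomial.EulerIdentity
import Mathlib.Tactic

set_option autoImplicit false
open W4c3tautjacobian MvPolynomial

namespace Groth.Agent.S16397

variable (g : ℕ)

def wZ : Var g → ℤ × ℤ := fun v => (((wt g v).1 : ℤ), ((wt g v).2 : ℤ))

def w1 : Var g → ℕ := fun v => (wt g v).1

lemma weight_wZ_fst (d : Var g →₀ ℕ) :
    (Finsupp.weight (wZ g) d).1 = ((Finsupp.weight (w1 g) d : ℕ) : ℤ) := by
  rw [Finsupp.weight_apply, Finsupp.weight_apply]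
  rw [← AddMonoidHom.coe_fst, map_finsuppSum, ← Nat.coe_castAddMonoidHom, map_finsuppSum]
  refine Finsupp.sum_congr fun v _ => ?_
  simp [wZ, w1]

lemma weight_wZ (d : Var g →₀ ℕ) :
    Finsupp.weight (wZ g) d =
      (((Finsupp.weight (wt g) d).1 : ℤ), ((Finsupp.weight (wt g) d).2 : ℤ)) := by
  rw [Finsupp.weight_apply, Finsupp.weight_apply]
  have key1 : ∀ x : ℕ × ℕ, ((x.1 : ℤ)) =
      ((Nat.castAddMonoidHom ℤ).comp (AddMonoidHom.fst ℕ ℕ)) x := fun _ => rfl
  have key2 : ∀ x : ℕ × ℕ, ((x.2 : ℤ)) =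
      ((Nat.castAddMonoidHom ℤ).comp (AddMonoidHom.snd ℕ ℕ)) x := fun _ => rfl
  apply Prod.ext
  · rw [← AddMonoidHom.coe_fst, map_finsuppSum]
    simp only [AddMonoidHom.coe_fst]
    rw [key1, map_finsuppSum]
    refine Finsupp.sum_congr fun v _ => ?_
    simp [wZ]
  · rw [← AddMonoidHom.coe_snd, map_finsuppSum]
    simp only [AddMonoidHom.coe_snd]
    rw [key2, map_finsuppSum]
    refine Finsupp.sum_congr fun v _ => ?_
    simp [wZ]

lemma wh_of_nat {P : RelRing g} {a b : ℕ}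
    (h : IsWeightedHomogeneous (wt g) P ((a, b) : ℕ × ℕ)) :
    IsWeightedHomogeneous (wZ g) P (((a : ℤ), (b : ℤ)) : ℤ × ℤ) := by
  intro d hd
  rw [weight_wZ, h hd]

lemma wh_w1 {P : RelRing g} {n : ℤ × ℤ} {a : ℕ} (ha : n.1 = a)
    (h : IsWeightedHomogeneous (wZ g) P n) : IsWeightedHomogeneous (w1 g) P a := by
  intro d hd
  have h1 := congrArg Prod.fst (h hd)
  rw [weight_wZ_fst, ha] at h1
  exact_mod_cast h1

lemma eq_zero_of_neg {P : RelRing g} {n : ℤ × ℤ} (hn : n.1 < 0)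
    (h : IsWeightedHomogeneous (wZ g) P n) : P = 0 := by
  ext d
  by_contra hd
  have h1 := congrArg Prod.fst (h (by simpa using hd))
  rw [weight_wZ_fst] at h1
  have : (0 : ℤ) ≤ ((Finsupp.weight (w1 g) d : ℕ) : ℤ) := Int.natCast_nonneg _
  omega


lemma wh_congr {P : RelRing g} {m n : ℤ × ℤ} (h : IsWeightedHomogeneous (wZ g) P m)
    (e : m = n) : IsWeightedHomogeneous (wZ g) P n := e ▸ h

lemma wh_natCast (k : ℕ) : IsWeightedHomogeneous (wZ g) ((k : ℕ) : RelRing g) 0 := by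
  rw [← map_natCast (C : ℚ →+* RelRing g)]
  exact isWeightedHomogeneous_C _ _

lemma wh_xv (i j : ℤ) : IsWeightedHomogeneous (wZ g) (xv g i j) ((i, j) : ℤ × ℤ) := by
  unfold xv
  split_ifs with h1 h2
  · refine wh_congr g (wh_natCast g g) ?_
    rw [h1.1, h1.2]; rfl
  · refine wh_congr g (isWeightedHomogeneous_X ℚ _ _) ?_
    simp only [wZ, wt]
    rw [Int.toNat_of_nonneg h2.1, Int.toNat_of_nonneg h2.2.1]
  · exact isWeightedHomogeneous_zero ℚ _ _

lemma wh_dv (p : ℕ × ℕ) {P : RelRing g} {n : ℤ × ℤ} (h : IsWeightedHomogeneous (wZ g) P n) :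
    IsWeightedHomogeneous (wZ g) (dv g p P) ((n.1 - p.1, n.2 - p.2) : ℤ × ℤ) := by
  unfold dv
  split_ifs with hv
  · refine h.pderiv ?_
    simp only [wZ, wt]
    apply Prod.ext <;> simp
  · exact isWeightedHomogeneous_zero ℚ _ _

lemma wh_F {P : RelRing g} {n : ℤ × ℤ} (h : IsWeightedHomogeneous (wZ g) P n) :
    IsWeightedHomogeneous (wZ g) (F g P) ((n.1 - 2, n.2) : ℤ × ℤ) := by
  unfold F
  refine IsWeightedHomogeneous.add ?_ ?_
  · rw [← mem_weightedHomogeneousSubmodule]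
    refine Submodule.smul_mem _ _ ?_
    rw [mem_weightedHomogeneousSubmodule]
    refine IsWeightedHomogeneous.sum _ _ _ fun p _ => ?_
    refine IsWeightedHomogeneous.sum _ _ _ fun q _ => ?_
    have h1 := wh_dv g p (wh_dv g q h)
    have hy : IsWeightedHomogeneous (wZ g) (X none : RelRing g) ((0, 2) : ℤ × ℤ) :=
      wh_congr g (isWeightedHomogeneous_X ℚ _ _) rfl
    have h2 := ((hy.mul (wh_xv g ((p.1 : ℤ) - 1) ((p.2 : ℤ) - 1))).mul
      (wh_xv g ((q.1 : ℤ) - 1) ((q.2 : ℤ) - 1)))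
    have h3 := (wh_natCast g (mergeCoeff p.1 q.1)).mul
      (wh_xv g ((p.1 : ℤ) + q.1 - 2) ((p.2 : ℤ) + q.2))
    have h4 := (wh_congr g h2 (n := (((p.1 : ℤ) + q.1 - 2), ((p.2 : ℤ) + q.2)))
      (by apply Prod.ext <;> simp <;> ring)).sub
      (wh_congr g h3 (by apply Prod.ext <;> simp))
    refine wh_congr g (h4.mul h1) ?_
    apply Prod.ext <;> simp <;> ring
  · refine IsWeightedHomogeneous.sum _ _ _ fun p _ => ?_
    refine wh_congr g ((wh_xv g ((p.1 : ℤ) - 2) (p.2 : ℤ)).mul (wh_dv g p h)) ?_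
    apply Prod.ext <;> simp


noncomputable def dvL (p : ℕ × ℕ) : RelRing g →ₗ[ℚ] RelRing g :=
  if h : Valid g p then
    (pderiv (some ⟨p, h⟩) : Derivation ℚ (RelRing g) (RelRing g)).toLinearMap
  else 0

lemma dv_eq (p : ℕ × ℕ) (P : RelRing g) : dv g p P = dvL g p P := by
  unfold dv dvL
  split_ifs <;> rfl

lemma dv_add (p : ℕ × ℕ) (P Q : RelRing g) : dv g p (P + Q) = dv g p P + dv g p Q := by
  simp only [dv_eq, map_add]

lemma dv_zero (p : ℕ × ℕ) : dv g p (0 : RelRing g) = 0 := by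
  simp only [dv_eq, map_zero]

lemma dv_smul (p : ℕ × ℕ) (c : ℚ) (P : RelRing g) : dv g p (c • P) = c • dv g p P := by
  simp only [dv_eq, map_smul]

lemma dv_ite (p : ℕ × ℕ) (c : Prop) [Decidable c] (P : RelRing g) :
    dv g p (if c then P else 0) = if c then dv g p P else 0 := by
  split_ifs
  · rfl
  · exact dv_zero g p

lemma F_add (P Q : RelRing g) : F g (P + Q) = F g P + F g Q := by
  unfold F
  simp only [dv_add, mul_add, Finset.sum_add_distrib, smul_add]
  abel

lemma F_smul (c : ℚ) (P : RelRing g) : F g (c • P) = c • F g P := by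
  unfold F
  simp only [dv_smul, mul_smul_comm, ← Finset.smul_sum, smul_add]
  rw [smul_comm]

lemma F_zero : F g (0 : RelRing g) = 0 := by
  have := F_smul g 0 (0 : RelRing g)
  simpa using this


section comm
variable (hg : 1 ≤ g)
include hg

lemma valid20 : Valid g (2, 0) := by
  refine ⟨by simp, by simp; omega, by decide, by simp⟩

lemma mem20 : ((2, 0) : ℕ × ℕ) ∈ idx g := by
  simp [idx]; omega

noncomputable def v20 : Var g := some ⟨(2, 0), valid20 g hg⟩

lemma xv20 : xv g 2 0 = X (v20 g hg) := by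
  unfold xv
  rw [if_neg (by norm_num), dif_pos ⟨by norm_num, by norm_num, valid20 g hg⟩]
  rfl

lemma dv_mul (p : ℕ × ℕ) (P : RelRing g) :
    dv g p (X (v20 g hg) * P) =
      X (v20 g hg) * dv g p P + (if p = (2, 0) then P else 0) := by
  unfold dv
  by_cases hv : Valid g p
  · rw [dif_pos hv, dif_pos hv, Derivation.leibniz, pderiv_X, smul_eq_mul, smul_eq_mul]
    by_cases hp : p = (2, 0)
    · subst hp
      rw [if_pos rfl]
      have : (Pi.single (M := fun _ => RelRing g) (some ⟨(2, 0), hv⟩ : Var g) (1 : RelRing g))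
          (v20 g hg) = 1 := Pi.single_eq_same _ _
      rw [this, mul_one]
    · rw [if_neg hp, Pi.single_eq_of_ne, mul_zero, add_zero]
      intro h
      apply hp
      have h' := Option.some.inj h
      exact (congrArg Subtype.val h').symm
  · rw [dif_neg hv, dif_neg hv, mul_zero, zero_add, if_neg]
    rintro rfl
    exact hv (valid20 g hg)


noncomputable def cc (p q : ℕ × ℕ) : RelRing g :=
  MvPolynomial.X none * xv g ((p.1 : ℤ) - 1) ((p.2 : ℤ) - 1) * xv g ((q.1 : ℤ) - 1) ((q.2 : ℤ) - 1)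
    - (mergeCoeff p.1 q.1 : RelRing g) * xv g ((p.1 : ℤ) + q.1 - 2) ((p.2 : ℤ) + q.2)

noncomputable def bb (p : ℕ × ℕ) : RelRing g := xv g ((p.1 : ℤ) - 2) (p.2 : ℤ)

omit hg in
lemma F_def (P : RelRing g) : F g P =
    (1 / 2 : ℚ) • (∑ p ∈ idx g, ∑ q ∈ idx g, cc g p q * dv g p (dv g q P))
      + ∑ p ∈ idx g, bb g p * dv g p P := rfl

noncomputable def D1 (P : RelRing g) : RelRing g :=
  ∑ q ∈ idx g, (q.1 : RelRing g) * xv g q.1 q.2 * dv g q P

lemma dd (p q : ℕ × ℕ) (P : RelRing g) :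
    dv g p (dv g q (X (v20 g hg) * P)) =
      X (v20 g hg) * dv g p (dv g q P) + (if p = (2, 0) then dv g q P else 0)
        + (if q = (2, 0) then dv g p P else 0) := by
  rw [dv_mul g hg q P, dv_add, dv_mul g hg p (dv g q P), dv_ite]

lemma S1_mul (P : RelRing g) :
    ∑ p ∈ idx g, bb g p * dv g p (X (v20 g hg) * P) =
      X (v20 g hg) * ∑ p ∈ idx g, bb g p * dv g p P + bb g (2, 0) * P := by
  simp_rw [dv_mul g hg, mul_add, Finset.sum_add_distrib, Finset.mul_sum]
  congr 1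
  · exact Finset.sum_congr rfl fun p _ => by ring
  · simp_rw [mul_ite, mul_zero]
    rw [Finset.sum_ite_eq' (idx g) (2, 0) (fun p => bb g p * P), if_pos (mem20 g hg)]

lemma S2_mul (P : RelRing g) :
    ∑ p ∈ idx g, ∑ q ∈ idx g, cc g p q * dv g p (dv g q (X (v20 g hg) * P)) =
      X (v20 g hg) * (∑ p ∈ idx g, ∑ q ∈ idx g, cc g p q * dv g p (dv g q P))
        + ∑ q ∈ idx g, cc g (2, 0) q * dv g q P + ∑ p ∈ idx g, cc g p (2, 0) * dv g p P := by
  simp_rw [dd g hg, mul_add, Finset.sum_add_distrib]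
  congr 1
  · congr 1
    · simp_rw [Finset.mul_sum]
      exact Finset.sum_congr rfl fun p _ => Finset.sum_congr rfl fun q _ => by ring
    · rw [Finset.sum_eq_single (2, 0)]
      · simp
      · intro p _ hp
        exact Finset.sum_eq_zero fun q _ => by rw [if_neg hp, mul_zero]
      · intro h
        exact absurd (mem20 g hg) h
  · refine Finset.sum_congr rfl fun p _ => ?_
    simp_rw [mul_ite, mul_zero]
    rw [Finset.sum_ite_eq' (idx g) (2, 0) (fun q => cc g p q * dv g p P), if_pos (mem20 g hg)]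


omit hg in
lemma xv_neg (i j : ℤ) (hj : j < 0) : xv g i j = 0 := by
  unfold xv
  rw [if_neg (by omega), dif_neg (by omega)]

omit hg in
lemma mergeCoeff_two_left (k : ℕ) : mergeCoeff 2 k = k := by
  rcases k with _ | k
  · simp [mergeCoeff]
  · simp [mergeCoeff]

omit hg in
lemma mergeCoeff_two_right (k : ℕ) : mergeCoeff k 2 = k := by
  rcases k with _ | k
  · simp [mergeCoeff]
  · simp [mergeCoeff]

omit hg in
lemma cc20q (q : ℕ × ℕ) : cc g (2, 0) q = -((q.1 : RelRing g) * xv g q.1 q.2) := by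
  unfold cc
  have h1 : xv g ((((2 : ℕ), (0 : ℕ)).1 : ℤ) - 1) ((((2 : ℕ), (0 : ℕ)).2 : ℤ) - 1) = 0 :=
    xv_neg g _ _ (by simp)
  rw [h1, mergeCoeff_two_left]
  have h2 : (((2 : ℕ), (0 : ℕ)).1 : ℤ) + q.1 - 2 = q.1 := by simp
  have h3 : (((2 : ℕ), (0 : ℕ)).2 : ℤ) + q.2 = q.2 := by simp
  rw [h2, h3]
  ring

omit hg in
lemma ccp20 (p : ℕ × ℕ) : cc g p (2, 0) = -((p.1 : RelRing g) * xv g p.1 p.2) := by
  unfold cc
  have h1 : xv g ((((2 : ℕ), (0 : ℕ)).1 : ℤ) - 1) ((((2 : ℕ), (0 : ℕ)).2 : ℤ) - 1) = 0 :=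
    xv_neg g _ _ (by simp)
  rw [h1, mergeCoeff_two_right]
  have h2 : (p.1 : ℤ) + (((2 : ℕ), (0 : ℕ)).1 : ℤ) - 2 = p.1 := by simp
  have h3 : (p.2 : ℤ) + (((2 : ℕ), (0 : ℕ)).2 : ℤ) = p.2 := by simp
  rw [h2, h3]
  ring

omit hg in
lemma bb20 : bb g (2, 0) = (g : RelRing g) := by
  unfold bb xv
  rw [if_pos (by simp)]

lemma comm_FE (P : RelRing g) :
    F g (X (v20 g hg) * P) = X (v20 g hg) * F g P + (g : RelRing g) * P - D1 g P := by
  rw [F_def, F_def, S1_mul g hg, S2_mul g hg, bb20]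
  simp_rw [cc20q, ccp20]
  unfold D1
  simp only [neg_mul, Finset.sum_neg_distrib, smul_add, mul_add, smul_neg, mul_smul_comm]
  have : ∀ Z : RelRing g, (1 / 2 : ℚ) • Z + (1 / 2 : ℚ) • Z = Z := by
    intro Z
    rw [← add_smul]
    norm_num
  have h2 := this (∑ q ∈ idx g, (q.1 : RelRing g) * xv g q.1 q.2 * dv g q P)
  linear_combination (-1 : RelRing g) * h2

end comm


lemma valid_mem (q : ℕ × ℕ) (h : Valid g q) : q ∈ idx g := by
  obtain ⟨h1, h2, -, -⟩ := h
  simp [idx]; omega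

lemma xv_valid (q : ℕ × ℕ) (h : Valid g q) : xv g q.1 q.2 = X (some ⟨q, h⟩) := by
  unfold xv
  have hne : ¬ ((q.1 : ℤ) = 0 ∧ (q.2 : ℤ) = 0) := by
    rintro ⟨h1, h2⟩
    exact h.2.2.2 (Prod.ext (by exact_mod_cast h1) (by exact_mod_cast h2))
  rw [if_neg hne, dif_pos ⟨Int.natCast_nonneg _, Int.natCast_nonneg _, by simpa using h⟩]
  exact congrArg (fun s => X (some s)) (Subtype.ext (by simp))

lemma dv_valid (q : ℕ × ℕ) (h : Valid g q) (P : RelRing g) :
    dv g q P = pderiv (some ⟨q, h⟩) P := by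
  unfold dv; rw [dif_pos h]

lemma dv_invalid (q : ℕ × ℕ) (h : ¬ Valid g q) (P : RelRing g) : dv g q P = 0 := by
  unfold dv; rw [dif_neg h]

lemma euler {P : RelRing g} {n : ℤ × ℤ} (h : IsWeightedHomogeneous (wZ g) P n) :
    D1 g P = (n.1 : ℚ) • P := by
  by_cases hn : n.1 < 0
  · rw [eq_zero_of_neg g hn h]; simp [D1, dv_zero]
  · obtain ⟨a, ha⟩ : ∃ a : ℕ, n.1 = a := ⟨n.1.toNat, (Int.toNat_of_nonneg (by omega)).symm⟩
    classical
    have hmem : ∀ x, x ∈ (idx g).filter (Valid g) ↔ Valid g x := fun x => by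
      rw [Finset.mem_filter]; exact ⟨fun h => h.2, fun h => ⟨valid_mem g x h, h⟩⟩
    let _ : Fintype {p : ℕ × ℕ // Valid g p} := Fintype.subtype ((idx g).filter (Valid g)) hmem
    have E := IsWeightedHomogeneous.sum_weight_X_mul_pderiv (wh_w1 g ha h)
    rw [Fintype.sum_option] at E
    have e0 : w1 g none = 0 := rfl
    rw [e0, zero_smul, zero_add] at E
    unfold D1
    rw [← Finset.sum_filter_of_ne (p := Valid g)]
    · rw [Finset.sum_subtype ((idx g).filter (Valid g)) hmem]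
      rw [ha, Int.cast_natCast, Nat.cast_smul_eq_nsmul ℚ a P, ← E]
      refine Finset.sum_congr rfl fun x _ => ?_
      rw [xv_valid g x.1 x.2, dv_valid g x.1 x.2]
      simp [w1, wt, nsmul_eq_mul, mul_assoc]
    · intro q _ hq
      by_contra hv
      exact hq (by rw [dv_invalid g q hv, mul_zero])


/-- In the formal relation ring of genus g ≥ 1, for every element β which is bihomogeneous of bidegree
(2g, n), the (g+1)-st iterate of the operator F kills x 2 0 · β. (Stated for every bihomogeneous β;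
the case of a monomial β is equivalent by linearity.) -/
theorem result
    (g : ℕ) (hg : 1 ≤ g) (n : ℕ) (β : W4c3tautjacobian.RelRing g)
    (hβ : MvPolynomial.IsWeightedHomogeneous (W4c3tautjacobian.wt g) β ((2 * g, n) : ℕ × ℕ)) :
    (W4c3tautjacobian.F g)^[g + 1] (W4c3tautjacobian.E g β) = 0 := by
  have hE : ∀ P, E g P = X (v20 g hg) * P := fun P => by unfold E; rw [xv20 g hg]
  have hwh : ∀ k : ℕ, IsWeightedHomogeneous (wZ g) ((F g)^[k] β)
      (((2 * g : ℤ) - 2 * k, (n : ℤ)) : ℤ × ℤ) := by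
    intro k
    induction k with
    | zero => exact wh_congr g (wh_of_nat g hβ) (by simp)
    | succ k ih =>
      rw [Function.iterate_succ_apply']
      exact wh_congr g (wh_F g ih) (by apply Prod.ext <;> simp <;> ring)
  have hcomm : ∀ k : ℕ, F g (E g ((F g)^[k] β)) =
      E g ((F g)^[k + 1] β) + ((g : ℚ) - (2 * g - 2 * k)) • (F g)^[k] β := by
    intro k
    rw [hE, hE, comm_FE g hg, euler g (hwh k), Function.iterate_succ_apply',
      ← map_natCast (C : ℚ →+* RelRing g), C_mul', add_sub_assoc, ← sub_smul]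
    congr 2
    push_cast
    ring
  have key : ∀ k : ℕ, (F g)^[k + 1] (E g β) =
      E g ((F g)^[k + 1] β) + (((k : ℚ) + 1) * ((k : ℚ) - g)) • (F g)^[k] β := by
    intro k
    induction k with
    | zero =>
      have := hcomm 0
      simp only [Function.iterate_zero, id_eq] at this
      rw [Function.iterate_succ_apply', Function.iterate_zero, id_eq, this]
      congr 2
      push_cast
      ring
    | succ k ih =>
      rw [Function.iterate_succ_apply', ih, F_add, F_smul, hcomm (k + 1),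
        ← Function.iterate_succ_apply' (F g) k β, add_assoc, ← add_smul]
      congr 2
      push_cast
      ring
  have hz : (F g)^[g + 1] β = 0 := eq_zero_of_neg g (by simp) (hwh (g + 1))
  rw [key g, hz]
  simp [E]

end Groth.Agent.S16397
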