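import Groth.Statements.S16398
import Groth.Agent.S16397

set_option autoImplicit false
open W4c3tautjacobian MvPolynomial

namespace Groth.Agent.S16398

open Groth.Agent.S16397

variable (g : ℕ)

lemma wh_E (hg : 1 ≤ g) {P : RelRing g} {n : ℤ × ℤ} (h : IsWeightedHomogeneous (wZ g) P n) :
    IsWeightedHomogeneous (wZ g) (E g P) ((n.1 + 2, n.2) : ℤ × ℤ) := by
  unfold E
  refine wh_congr g ((wh_xv g 2 0).mul h) ?_
  apply Prod.ext <;> simp <;> ring

lemma wh_iter_F {P : RelRing g} {n : ℤ × ℤ} (h : IsWeightedHomogeneous (wZ g) P n) (k : ℕ) :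
    IsWeightedHomogeneous (wZ g) ((F g)^[k] P) ((n.1 - 2 * k, n.2) : ℤ × ℤ) := by
  induction k with
  | zero => exact wh_congr g h (by simp)
  | succ k ih =>
    rw [Function.iterate_succ_apply']
    exact wh_congr g (wh_F g ih) (by apply Prod.ext <;> simp; ring)

lemma wh_iter_E (hg : 1 ≤ g) {P : RelRing g} {n : ℤ × ℤ}
    (h : IsWeightedHomogeneous (wZ g) P n) (s : ℕ) :
    IsWeightedHomogeneous (wZ g) ((E g)^[s] P) ((n.1 + 2 * s, n.2) : ℤ × ℤ) := by
  induction s with
  | zero => exact wh_congr g h (by simp)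
  | succ s ih =>
    rw [Function.iterate_succ_apply']
    exact wh_congr g (wh_E g hg ih) (by apply Prod.ext <;> simp; ring)

lemma E_smul (c : ℚ) (P : RelRing g) : E g (c • P) = c • E g P := by
  unfold E; rw [mul_smul_comm]

lemma E_zero : E g (0 : RelRing g) = 0 := by
  unfold E; rw [mul_zero]

lemma iter_F_zero (k : ℕ) : (F g)^[k] (0 : RelRing g) = 0 := by
  induction k with
  | zero => rfl
  | succ k ih => rw [Function.iterate_succ_apply', ih, F_zero]

/-- Lemma K -/
lemma lemK (hg : 1 ≤ g) {Q : RelRing g} {n : ℤ × ℤ} (hQ : IsWeightedHomogeneous (wZ g) Q n)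
    (k : ℕ) : (F g)^[k + 1] (E g Q) =
      E g ((F g)^[k + 1] Q) + (((k : ℚ) + 1) * ((g : ℚ) - n.1 + k)) • (F g)^[k] Q := by
  have hE : ∀ P, E g P = X (v20 g hg) * P := fun P => by unfold E; rw [xv20 g hg]
  have hcomm : ∀ k : ℕ, F g (E g ((F g)^[k] Q)) =
      E g ((F g)^[k + 1] Q) + ((g : ℚ) - (n.1 - 2 * k)) • (F g)^[k] Q := by
    intro k
    rw [hE, hE, comm_FE g hg, euler g (wh_iter_F g hQ k), Function.iterate_succ_apply',
      ← map_natCast (C : ℚ →+* RelRing g), C_mul', add_sub_assoc, ← sub_smul]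
    congr 2
    push_cast
    ring
  induction k with
  | zero =>
    have := hcomm 0
    simp only [Function.iterate_zero, id_eq] at this
    rw [Function.iterate_succ_apply', Function.iterate_zero, id_eq, this]
    congr 2
    push_cast
    ring
  | succ k ih =>
    rw [Function.iterate_succ_apply', ih, F_add, F_smul, hcomm (k + 1),
      ← Function.iterate_succ_apply' (F g) k Q, add_assoc, ← add_smul]
    congr 2
    push_cast
    ring

noncomputable def cS (h : ℕ) (s : ℕ) : ℚ :=
  ∏ u ∈ Finset.range s, (((u : ℚ) + 1 + h) * ((g : ℚ) - h - u))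

/-- Lemma B -/
lemma lemB (hg : 1 ≤ g) {P : RelRing g} (h : ℕ) (b : ℤ)
    (hP : IsWeightedHomogeneous (wZ g) P (((2 * h : ℕ) : ℤ), b)) (s : ℕ) :
    (F g)^[s + h] ((E g)^[s] P) = cS g h s • (F g)^[h] P := by
  have hz : (F g)^[h + 1] P = 0 :=
    eq_zero_of_neg g (by simp) (wh_iter_F g hP (h + 1))
  induction s with
  | zero => simp [cS]
  | succ s ih =>
    have e1 : s + 1 + h = (s + h) + 1 := by omega
    rw [Function.iterate_succ_apply' (E g), e1, lemK g hg (wh_iter_E g hg hP s) (s + h),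
      Function.iterate_succ_apply', ih, F_smul, ← Function.iterate_succ_apply' (F g), hz,
      smul_zero, E_zero, zero_add, smul_smul]
    congr 1
    unfold cS
    rw [Finset.prod_range_succ]
    push_cast
    ring

lemma cS_zero (h s : ℕ) (hh : h ≤ g) (hs : g < s + h) : cS g h s = 0 := by
  unfold cS
  refine Finset.prod_eq_zero (i := g - h) (by simp; omega) ?_
  have : ((g - h : ℕ) : ℚ) = (g : ℚ) - h := by rw [Nat.cast_sub hh]
  rw [this]; ring


lemma iter_E_eq (hg : 1 ≤ g) (s : ℕ) (P : RelRing g) :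
    (E g)^[s] P = (X (v20 g hg)) ^ s * P := by
  induction s with
  | zero => simp
  | succ s ih =>
    rw [Function.iterate_succ_apply', ih]
    unfold E
    rw [xv20 g hg]
    ring

lemma monomial_split (hg : 1 ≤ g) (d : Var g →₀ ℕ) :
    (monomial d (1 : ℚ) : RelRing g) =
      (E g)^[d (v20 g hg)] (monomial (d.erase (v20 g hg)) 1) := by
  rw [iter_E_eq g hg, X_pow_eq_monomial, monomial_mul, one_mul, Finsupp.single_add_erase]

lemma wt_le (hg : 1 ≤ g) (v : Var g) (hv : v ≠ v20 g hg) : (wt g v).1 ≤ 3 * (wt g v).2 := by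
  rcases v with _ | ⟨⟨i, j⟩, hval⟩
  · simp [wt]
  · simp only [wt]
    obtain ⟨h1, h2, h3, h4⟩ := hval
    simp only at h1 h2 h3 h4
    rcases Nat.eq_zero_or_pos j with hj | hj
    · subst hj
      exfalso
      apply hv
      obtain ⟨r, hr⟩ := h3
      have hi : i = 2 := by
        have : i ≠ 0 := fun h0 => h4 (by rw [h0])
        omega
      subst hi
      rfl
    · omega

lemma weight_le (hg : 1 ≤ g) (d' : Var g →₀ ℕ) (h0 : d' (v20 g hg) = 0) :
    (Finsupp.weight (wt g) d').1 ≤ 3 * (Finsupp.weight (wt g) d').2 := by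
  rw [Finsupp.weight_apply, Finsupp.sum, Prod.fst_sum, Prod.snd_sum, Finset.mul_sum]
  refine Finset.sum_le_sum fun v hv => ?_
  have hne : v ≠ v20 g hg := by
    rintro rfl
    exact (Finsupp.mem_support_iff.1 hv) h0
  have := wt_le g hg v hne
  simp only [Prod.smul_fst, Prod.smul_snd, smul_eq_mul]
  nlinarith

def Low (e : Var g →₀ ℕ) : Prop :=
  (Finsupp.weight (wt g) e).1 = 0 ∧ 3 * (Finsupp.weight (wt g) e).2 ≤ 2 * g

open Classical in
def J : Ideal (RelRing g) where
  carrier := {Q | ∀ e ∈ Q.support, ¬ Low g e}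
  add_mem' := by
    intro a b ha hb e he
    rcases Finset.mem_union.1 (support_add he) with h | h
    exacts [ha e h, hb e h]
  zero_mem' := by
    intro e he
    simp at he
  smul_mem' := by
    intro c Q hQ e he
    rw [smul_eq_mul] at he
    obtain ⟨e₁, _, e₂, he₂, rfl⟩ := Finset.mem_add.1 (support_mul c Q he)
    intro hL
    apply hQ e₂ he₂
    obtain ⟨h1, h2⟩ := hL
    rw [map_add] at h1 h2
    simp only [Prod.fst_add, Prod.snd_add] at h1 h2
    exact ⟨by omega, by omega⟩

lemma mem_J (Q : RelRing g) : Q ∈ J g ↔ ∀ e ∈ Q.support, ¬ Low g e := Iff.rfl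

lemma vanish (hg : 1 ≤ g) (d : Var g →₀ ℕ) (k : ℕ)
    (hd : 2 * g < (Finsupp.weight (wt g) d).1)
    (ha : (Finsupp.weight (wt g) d).1 = 2 * k)
    (hb : 3 * (Finsupp.weight (wt g) d).2 ≤ 2 * g) :
    (F g)^[k] (monomial d (1 : ℚ) : RelRing g) = 0 := by
  set s := d (v20 g hg) with hs
  set d' := d.erase (v20 g hg) with hd'
  have hsplit : Finsupp.weight (wt g) d = s • ((2, 0) : ℕ × ℕ) + Finsupp.weight (wt g) d' := by
    conv_lhs => rw [← Finsupp.single_add_erase (v20 g hg) d]
    rw [map_add, Finsupp.weight_single]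
    rfl
  have h1 : (Finsupp.weight (wt g) d).1 = 2 * s + (Finsupp.weight (wt g) d').1 := by
    rw [hsplit]; simp [mul_comm]
  have h2 : (Finsupp.weight (wt g) d).2 = (Finsupp.weight (wt g) d').2 := by
    rw [hsplit]; simp
  have h3 := weight_le g hg d' (by simp [hd'])
  have hsk : s ≤ k := by omega
  obtain ⟨h, rfl⟩ : ∃ h, k = s + h := ⟨k - s, by omega⟩
  have hm : IsWeightedHomogeneous (wZ g) (monomial d' (1 : ℚ) : RelRing g)
      ((((2 * h : ℕ) : ℤ), ((Finsupp.weight (wt g) d').2 : ℤ)) : ℤ × ℤ) := by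
    refine isWeightedHomogeneous_monomial _ _ _ ?_
    rw [weight_wZ]
    apply Prod.ext
    · simp only
      have : (Finsupp.weight (wt g) d').1 = 2 * h := by omega
      rw [this]
    · rfl
  rw [monomial_split g hg d, lemB g hg h _ hm s, cS_zero g h s (by omega) (by omega), zero_smul]

lemma gen_mem (hg : 1 ≤ g) (d : Var g →₀ ℕ) (k : ℕ)
    (hd : 2 * g < (Finsupp.weight (wt g) d).1) :
    (F g)^[k] (monomial d (1 : ℚ) : RelRing g) ∈ J g := by
  have hm : IsWeightedHomogeneous (wZ g) (monomial d (1 : ℚ) : RelRing g)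
      ((((Finsupp.weight (wt g) d).1 : ℤ), ((Finsupp.weight (wt g) d).2 : ℤ)) : ℤ × ℤ) :=
    isWeightedHomogeneous_monomial _ _ _ (weight_wZ g d)
  have hG := wh_iter_F g hm k
  by_cases hc : (Finsupp.weight (wt g) d).1 = 2 * k ∧ 3 * (Finsupp.weight (wt g) d).2 ≤ 2 * g
  · rw [vanish g hg d k hd hc.1 hc.2]
    exact (J g).zero_mem
  · rw [mem_J]
    intro e he hL
    apply hc
    have hw := hG (mem_support_iff.1 he)
    rw [weight_wZ] at hw
    obtain ⟨h1, h2⟩ := hL
    have hw1 := congrArg Prod.fst hw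
    have hw2 := congrArg Prod.snd hw
    simp only at hw1 hw2
    constructor <;> omega


/-- In the formal relation ring of genus g ≥ 1, an element of the relation ideal which is bihomogeneous
of bidegree (0, n) with 3n ≤ 2g vanishes; that is, the relations impose nothing on the
first-degree-0 part in second degree at most 2g/3. -/
theorem result
    (g : ℕ) (hg : 1 ≤ g) (n : ℕ) (hn : 3 * n ≤ 2 * g) (P : W4c3tautjacobian.RelRing g)
    (hP : P ∈ W4c3tautjacobian.relIdeal g)
    (hhom : MvPolynomial.IsWeightedHomogeneous (W4c3tautjacobian.wt g) P ((0, n) : ℕ × ℕ)) :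
    P = 0 := by
  have hle : relIdeal g ≤ J g := by
    unfold relIdeal
    rw [Ideal.span_le]
    rintro _ ⟨d, k, hd, rfl⟩
    exact gen_mem g hg d k hd
  have hPJ := hle hP
  rw [mem_J] at hPJ
  ext e
  rw [coeff_zero]
  by_contra he
  have hw := hhom he
  exact hPJ e (mem_support_iff.2 he) ⟨by rw [hw], by rw [hw]; exact hn⟩

end Groth.Agent.S16398
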