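import Groth.Statements.S16399
import Groth.Agent.Lib.Helper1.TautGen
open Groth.Agent.S16397 Groth.Agent.S16398 Groth.Agent.Lib.Helper1.TautPos Groth.Agent.Lib.Helper1.TautGen

set_option autoImplicit false
open W4c3tautjacobian

namespace Groth.Agent.S16399

/-- In the formal relation ring of genus g ≥ 1, every symbol x 0 (2i) is congruent modulo the relation
ideal to a polynomial in y and the symbols x 0 (2j) with 1 ≤ j and 3j ≤ g; so these low symbols
together with y generate the first-degree-0 part modulo the relations. -/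
theorem result
    (g : ℕ) (hg : 1 ≤ g) (i : ℕ) :
    ∃ q ∈ Algebra.adjoin ℚ (W4c3tautjacobian.lowGens g),
      W4c3tautjacobian.xv g 0 (2 * (i : ℤ)) - q ∈ W4c3tautjacobian.relIdeal g := by
  rw [← mem_redSub]
  induction i using Nat.strong_induction_on with
  | _ i ih =>
  rcases Nat.eq_zero_or_pos i with rfl | hi
  · -- i = 0
    have : xv g 0 (2 * ((0 : ℕ) : ℤ)) = (g : RelRing g) := by
      unfold xv; rw [if_pos (by simp)]
    rw [this]
    exact natCast_mem _ g
  by_cases h3 : 3 * i ≤ g
  · exact adjoin_le_redSub g (Algebra.subset_adjoin (Or.inr ⟨i, hi, h3, rfl⟩))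
  push Not at h3
  by_cases hig : g ≤ i
  · have : xv g 0 (2 * (i : ℤ)) = 0 := by
      unfold xv
      rw [if_neg (by omega), dif_neg]
      rintro ⟨-, -, hv⟩
      have := hv.2.1
      simp only at this
      omega
    rw [this]
    exact Subalgebra.zero_mem _
  push Not at hig
  -- main case
  have hv0 : Valid g (0, 2 * i) := by
    refine ⟨by simp, by simp only; omega, ⟨i, by simp only; omega⟩, ?_⟩
    intro h
    have := congrArg Prod.snd h
    simp only at this
    omega
  have hv31 := valid31 g i h3 hig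
  set R := (F g)^[3 * i] (M0 g i) with hRdef
  have hRmem : R ∈ relIdeal g := by
    refine Ideal.subset_span ⟨Finsupp.single (vv g 3 1) (2 * i), 3 * i, ?_, rfl⟩
    rw [Finsupp.weight_single, vv_eq g 3 1 hv31]
    simp only [wt, Prod.smul_fst, smul_eq_mul]
    omega
  have hM : MvPolynomial.IsWeightedHomogeneous (wZ g) (M0 g i)
      (((6 * i : ℤ), (2 * i : ℤ)) : ℤ × ℤ) := by
    refine MvPolynomial.isWeightedHomogeneous_monomial _ _ _ ?_
    rw [weight_wZ, Finsupp.weight_single, vv_eq g 3 1 hv31]
    simp only [wt, Prod.smul_fst, Prod.smul_snd, smul_eq_mul]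
    apply Prod.ext <;> push_cast <;> ring
  have hRh : MvPolynomial.IsWeightedHomogeneous (wZ g) R ((0, 2 * (i : ℤ)) : ℤ × ℤ) := by
    refine wh_congr g (wh_iter_F g hM (3 * i)) ?_
    apply Prod.ext <;> push_cast <;> ring
  have hdec := decomp g i hi hv0 R hRh
  have hc : MvPolynomial.coeff (Finsupp.single (some ⟨(0, 2 * i), hv0⟩ : Var g) 1) R ≠ 0 := by
    have := final_coeff_ne g i h3 hig
    rwa [vv_eq g 0 (2 * i) hv0] at this
  set c := MvPolynomial.coeff (Finsupp.single (some ⟨(0, 2 * i), hv0⟩ : Var g) 1) R with hcdef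
  have hle : Algebra.adjoin ℚ (lowerGens g i) ≤ redSub g := by
    refine Algebra.adjoin_le ?_
    rintro x (hx | ⟨j, hj, rfl⟩)
    · rw [Set.mem_singleton_iff] at hx
      rw [hx]
      exact adjoin_le_redSub g (Algebra.subset_adjoin (Or.inl rfl))
    · exact ih j hj
  have h1 : c • (MvPolynomial.X (some ⟨(0, 2 * i), hv0⟩) : RelRing g) ∈ redSub g := by
    have h2 := Subalgebra.sub_mem _ (relIdeal_le_redSub g hRmem) (hle hdec)
    rwa [sub_sub_cancel] at h2
  have h2 := Subalgebra.smul_mem _ h1 c⁻¹
  rw [smul_smul, inv_mul_cancel₀ hc, one_smul] at h2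
  rw [xv_eq_X g i hv0]
  exact h2

end Groth.Agent.S16399
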