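import Groth.Statements.S1640
import Groth.Agent.Lib.Helper63.SemilocalNormal

set_option autoImplicit false
universe u
open Variety

namespace Groth.Agent.S1640

open Groth.Agent.Lib.Helper63.SemilocalNormal

/-- Let K be a field, A ⊆ K a subring with fraction field K, and B_1, …, B_r ⊆ K Noetherian
one-dimensional subrings with finitely many maximal ideals and fraction field K, such that for each
i the subring generated by A and B_i is all of K. Then some nonzero x ∈ A has x⁻¹ lying in B_i and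
in the Jacobson radical of B_i for every i. -/
theorem result (K : Type u) [Field K] (A : Subring K) [IsFractionRing A K]
    (r : ℕ) (B : Fin r → Subring K) [∀ i, IsNoetherianRing (B i)] [∀ i, IsFractionRing (B i) K]
    (hdim : ∀ i, ringKrullDim (B i) = 1) (hsl : ∀ i, Finite (MaximalSpectrum (B i)))
    (hgen : ∀ i, A ⊔ B i = ⊤) :
    ∃ x : K, x ∈ A ∧ x ≠ 0 ∧ ∀ i, ∃ hx : x⁻¹ ∈ B i, (⟨x⁻¹, hx⟩ : B i) ∈ (⊥ : Ideal (B i)).jacobson := by
  classical
  have hK1 : ∀ i, Ring.KrullDimLE 1 (B i) := fun i => Ring.krullDimLE_iff.mpr (hdim i).le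
  have hnf : ∀ i, ¬ IsField (B i) := fun i h => by
    have h0 := ringKrullDim_eq_zero_of_isField h
    rw [hdim i] at h0
    exact one_ne_zero h0
  choose W hW1 hW2 using fun i => exists_finset_valuationSubring K (B i) (hsl i) (hnf i)
  have hA : ∀ V ∈ Finset.univ.biUnion W, ¬ A ≤ (id V : ValuationSubring K).toSubring := by
    intro V hV hle
    obtain ⟨i, -, hVi⟩ := Finset.mem_biUnion.mp hV
    obtain ⟨hB, hne⟩ := hW1 i V hVi
    apply hne
    have hsup : A ⊔ B i ≤ V.toSubring := sup_le hle (fun b hb => hB ⟨b, hb⟩)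
    rw [hgen i] at hsup
    exact eq_top_iff.mpr (fun x _ => hsup (Subring.mem_top x))
  obtain ⟨x, hxA, hx0, hx⟩ := exists_notMem_valuationSubrings A (Finset.univ.biUnion W) id hA
  have hk : ∀ i, ∃ k : ℕ, 0 < k ∧ ∃ b : B i, b ∈ Ideal.jacobson (⊥ : Ideal (B i)) ∧
      (b : K) = (x⁻¹) ^ k := fun i =>
    hW2 i x hx0 (fun V hV => hx V (Finset.mem_biUnion.mpr ⟨i, Finset.mem_univ i, hV⟩))
  choose k hkpos b hbjac hbeq using hk
  have hNpos : 0 < ∏ i, k i := Finset.prod_pos (fun i _ => hkpos i)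
  refine ⟨x ^ (∏ i, k i), A.pow_mem hxA _, pow_ne_zero _ hx0, fun i => ?_⟩
  obtain ⟨q, hq⟩ := Finset.dvd_prod_of_mem k (Finset.mem_univ i)
  have hqpos : 0 < q := by
    rcases Nat.eq_zero_or_pos q with h | h
    · rw [h, mul_zero] at hq
      omega
    · exact h
  have heq : (x ^ (∏ i, k i))⁻¹ = ((b i ^ q : B i) : K) := by
    rw [← inv_pow, hq, pow_mul, ← hbeq i]
    rfl
  have hmem : (x ^ (∏ i, k i))⁻¹ ∈ B i := heq ▸ (b i ^ q).2
  refine ⟨hmem, ?_⟩
  have h2 : (⟨(x ^ (∏ i, k i))⁻¹, hmem⟩ : B i) = b i ^ q := Subtype.ext heq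
  rw [h2]
  exact Ideal.pow_mem_of_mem _ (hbjac i) q hqpos

end Groth.Agent.S1640
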