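import Groth.Statements.S16400
import Mathlib
-- import your own Groth.Agent.* helpers here

set_option autoImplicit false
universe u v
open CAlgX

namespace Groth.Agent.S16400

section
variable {K : Type u} [Field K] {N : Type v} [Fintype N] [DecidableEq N]

omit [DecidableEq N] in
theorem mulVec_eq_sum_of_supp (A : Matrix N N K) (S : Finset N) (x : N → K)
    (hx : ∀ j ∉ S, x j = 0) : A.mulVec x = ∑ j ∈ S, x j • A.col j := by
  ext i
  rw [Matrix.mulVec, dotProduct, Finset.sum_apply]
  rw [← Finset.sum_subset (Finset.subset_univ S)]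
  · apply Finset.sum_congr rfl
    intro j _
    simp [Matrix.col, mul_comm]
  · intro j _ hj
    rw [hx j hj, mul_zero]

theorem exists_good_finset (A : Matrix N N K) :
    ∃ S : Finset N,
      (∀ x : N → K, (∀ j ∉ S, x j = 0) → A.mulVec x = 0 → x = 0) ∧
      (∀ y : N → K, ∃ x : N → K, (∀ j ∉ S, x j = 0) ∧ A.mulVec x = A.mulVec y) := by
  classical
  obtain ⟨b, -, -, hspan, hli⟩ := exists_linearIndepOn_extension (K := K) (v := fun j => A.col j)
    (s := ∅) (t := Set.univ) (linearIndepOn_empty _ _) (Set.empty_subset _)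
  refine ⟨b.toFinset, ?_, ?_⟩
  · intro x hx hAx
    rw [mulVec_eq_sum_of_supp A _ x hx] at hAx
    have hli' : LinearIndepOn K (fun j => A.col j) (↑b.toFinset : Set N) := by
      rwa [Set.coe_toFinset]
    rw [linearIndepOn_finset_iff] at hli'
    have := hli' x hAx
    ext j
    by_cases hj : j ∈ b.toFinset
    · exact this j hj
    · exact hx j hj
  · intro y
    have h1 : A.mulVec y ∈ Submodule.span K ((fun j => A.col j) '' (↑b.toFinset : Set N)) := by
      rw [Set.coe_toFinset]
      rw [mulVec_eq_sum_of_supp A Finset.univ y (fun j hj => absurd (Finset.mem_univ j) hj)]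
      apply Submodule.sum_mem
      intro j _
      apply Submodule.smul_mem
      exact hspan ⟨j, Set.mem_univ j, rfl⟩
    rw [Submodule.mem_span_image_finset_iff_exists_fun'] at h1
    obtain ⟨c, hc⟩ := h1
    refine ⟨fun j => if j ∈ b.toFinset then c j else 0, ?_, ?_⟩
    · intro j hj
      simp [hj]
    · rw [mulVec_eq_sum_of_supp A b.toFinset _ (by intro j hj; simp [hj]), ← hc]
      apply Finset.sum_congr rfl
      intro j hj
      simp [hj]

theorem core (A : Matrix N N K)
    (hA : LinearMap.ker A.mulVecLin = LinearMap.range A.mulVecLin) (S : Finset N)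
    (hα : ∀ x : N → K, (∀ j ∉ S, x j = 0) → A.mulVec x = 0 → x = 0)
    (hβ : ∀ y : N → K, ∃ x : N → K, (∀ j ∉ S, x j = 0) ∧ A.mulVec x = A.mulVec y) :
    (∀ x : N → K, (∀ j ∉ S, x j = 0) → (∀ i ∉ S, A.mulVec x i = 0) → x = 0) ∧
    (∀ t : N → K, ∃ x : N → K, (∀ j ∉ S, x j = 0) ∧ ∀ i ∉ S, A.mulVec x i = t i) := by
  have hker : ∀ y : N → K, A.mulVec y = 0 ↔ ∃ z, A.mulVec z = y := by
    intro y
    have : y ∈ LinearMap.ker A.mulVecLin ↔ y ∈ LinearMap.range A.mulVecLin := by rw [hA]
    simpa [LinearMap.mem_ker, LinearMap.mem_range] using this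
  constructor
  · intro x hx hAx
    have h1 : A.mulVec (A.mulVec x) = 0 := (hker _).2 ⟨x, rfl⟩
    have h2 : A.mulVec x = 0 := hα _ hAx h1
    exact hα x hx h2
  · intro t
    obtain ⟨c, hc, hAc⟩ := hβ (fun i => if i ∈ S then 0 else t i)
    have h1 : A.mulVec ((fun i => if i ∈ S then 0 else t i) - c) = 0 := by
      rw [Matrix.mulVec_sub, hAc, sub_self]
    obtain ⟨y, hy⟩ := (hker _).1 h1
    obtain ⟨x, hx, hAx⟩ := hβ y
    refine ⟨x, hx, ?_⟩
    intro i hi
    rw [hAx, hy]
    simp [hi, hc i hi]

theorem submatrix_mulVec_eq (A : Matrix N N K) (S : Finset N) (T : Type v) [Fintype T] (r : T → N)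
    (x : ↥S → K) (i : T) :
    (A.submatrix r (Subtype.val : ↥S → N)).mulVec x i =
      A.mulVec (fun j => if h : j ∈ S then x ⟨j, h⟩ else 0) (r i) := by
  rw [Matrix.mulVec, dotProduct, Matrix.mulVec, dotProduct]
  rw [← Finset.sum_subset (Finset.subset_univ S)]
  · rw [← Finset.sum_coe_sort S]
    apply Finset.sum_congr rfl
    intro j _
    simp
  · intro j _ hj
    simp [hj]

theorem bij (A : Matrix N N K)
    (hA : LinearMap.ker A.mulVecLin = LinearMap.range A.mulVecLin) :
    ∃ S : Finset N, ∀ (T : Type v) [Fintype T] (r : T → N), 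
      Function.Injective r → (∀ i, i ∉ S ↔ ∃ t, r t = i) → Function.Bijective
        (A.submatrix r (Subtype.val : ↥S → N)).mulVecLin := by
  obtain ⟨S, hα, hβ⟩ := exists_good_finset A
  obtain ⟨hinj, hsurj⟩ := core A hA S hα hβ
  refine ⟨S, ?_⟩
  intro T _ r hr hT
  constructor
  · rw [← LinearMap.ker_eq_bot, LinearMap.ker_eq_bot']
    intro x hx
    have h1 : (fun j => if h : j ∈ S then x ⟨j, h⟩ else 0) = (0 : N → K) := by
      apply hinj
      · intro j hj
        simp [hj]
      · intro i hi
        obtain ⟨t, rfl⟩ := (hT i).1 hi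
        rw [← submatrix_mulVec_eq]
        exact congrFun hx t
    ext j
    have := congrFun h1 j.1
    simpa using this
  · intro t
    obtain ⟨x', hx', hAx'⟩ := hsurj (fun i => if h : ∃ t', r t' = i then t (Classical.choose h) else 0)
    refine ⟨fun j => x' j.1, ?_⟩
    ext i
    rw [Matrix.mulVecLin_apply, submatrix_mulVec_eq]
    have h2 : (fun j => if h : j ∈ S then (fun j : ↥S => x' j.1) ⟨j, h⟩ else 0) = x' := by
      ext j
      by_cases hj : j ∈ S
      · simp [hj]
      · simp [hj, hx' j hj]
    rw [h2, hAx' (r i) ((hT _).2 ⟨i, rfl⟩)]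
    have h3 : ∃ t', r t' = r i := ⟨i, rfl⟩
    rw [dif_pos h3]
    congr 1
    exact hr (Classical.choose_spec h3)

end


/-- Let K be a field, N a finite index set and A a square matrix over K indexed by N whose linear map on
column vectors has kernel equal to its range (so A composed with A is zero and the three-term
sequence it defines is exact in the middle). Then there are subsets N₁₂, N₂₁, N₃₁ of N such that the
block of A with rows in N₃₁ and columns in N₂₁, and the block of A with rows outside N₂₁ and columns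
in N₁₂, both act bijectively on column vectors. (In the original setting K is the prime field and
middle exactness is supplied by the Cartier isomorphism; here exactness is the hypothesis and K is
any field.) -/
theorem result
    {K : Type u} [Field K] {N : Type v} [Fintype N] [DecidableEq N]
    (A : Matrix N N K)
    (hA : LinearMap.ker A.mulVecLin = LinearMap.range A.mulVecLin) :
    ∃ N₁₂ N₂₁ N₃₁ : Finset N,
      Function.Bijective (A.submatrix (Subtype.val : ↥N₃₁ → N) (Subtype.val : ↥N₂₁ → N)).mulVecLin ∧
      Function.Bijective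
        (A.submatrix (Subtype.val : {x : N // x ∉ N₂₁} → N) (Subtype.val : ↥N₁₂ → N)).mulVecLin := by
  obtain ⟨S, hS⟩ := bij A hA
  refine ⟨S, S, Sᶜ, ?_, ?_⟩
  · apply hS
    · exact Subtype.val_injective
    · intro i
      constructor
      · intro hi
        exact ⟨⟨i, Finset.mem_compl.2 hi⟩, rfl⟩
      · rintro ⟨t, rfl⟩
        exact Finset.mem_compl.1 t.2
  · apply hS
    · exact Subtype.val_injective
    · intro i
      constructor
      · intro hi
        exact ⟨⟨i, hi⟩, rfl⟩
      · rintro ⟨t, rfl⟩
        exact t.2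


end Groth.Agent.S16400
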