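import Groth.Statements.S16401
import Mathlib
-- import your own Groth.Agent.* helpers here

set_option autoImplicit false
universe u v
open CAlgX

namespace Groth.Agent.S16401

theorem prod_mem_graded {R : Type u} [CommRing R] {ι : Type v} [AddCommGroup ι]
    (E : ι → AddSubgroup R) (h0 : E 0 = ⊤)
    (hmul : ∀ a b : ι, ∀ x ∈ E a, ∀ y ∈ E b, x * y ∈ E (a + b))
    {α : Type} (s : Finset α) (f : α → R) (a : α → ι) (h : ∀ l ∈ s, f l ∈ E (a l)) :
    ∏ l ∈ s, f l ∈ E (∑ l ∈ s, a l) := by
  classical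
  induction s using Finset.induction_on with
  | empty => simp [h0]
  | insert x s hx ih =>
    rw [Finset.prod_insert hx, Finset.sum_insert hx]
    exact hmul _ _ _ (h x (Finset.mem_insert_self x s)) _
      (ih (fun l hl => h l (Finset.mem_insert_of_mem hl)))

theorem adjugate_mem {R : Type u} [CommRing R] {ι : Type v} [AddCommGroup ι]
    (E : ι → AddSubgroup R) (h0 : E 0 = ⊤)
    (hmul : ∀ a b : ι, ∀ x ∈ E a, ∀ y ∈ E b, x * y ∈ E (a + b))
    {r : ℕ} (wβ wγ : Fin r → ι) (hsum : ∑ j, wβ j = ∑ i, wγ i)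
    (ϑ : Matrix (Fin r) (Fin r) R) (hϑ : ∀ i j, ϑ i j ∈ E (wγ i - wβ j)) (j i : Fin r) :
    ϑ.adjugate j i ∈ E (wβ j - wγ i) := by
  rw [Matrix.adjugate_apply, Matrix.det_apply']
  apply AddSubgroup.sum_mem
  intro σ _
  have key : ∏ l, (ϑ.updateRow i (Pi.single j 1)) (σ l) l ∈ E (wβ j - wγ i) := by
    by_cases hσ : σ j = i
    · have h1 : ∀ l ∈ (Finset.univ : Finset (Fin r)), (ϑ.updateRow i (Pi.single j 1)) (σ l) l ∈
          E (if l = j then 0 else wγ (σ l) - wβ l) := by
        intro l _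
        by_cases hl : l = j
        · subst hl
          rw [if_pos rfl, h0]
          exact AddSubgroup.mem_top _
        · rw [if_neg hl]
          have : σ l ≠ i := by
            intro h
            apply hl
            apply σ.injective
            rw [h, hσ]
          rw [Matrix.updateRow_ne this]
          exact hϑ _ _
      have h2 := prod_mem_graded E h0 hmul Finset.univ _ _ h1
      have h3 : ∑ l, (if l = j then (0 : ι) else wγ (σ l) - wβ l) = wβ j - wγ i := by
        have h4 : ∀ l, (if l = j then (0 : ι) else wγ (σ l) - wβ l) =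
            (wγ (σ l) - wβ l) - (if l = j then wγ (σ l) - wβ l else 0) := by
          intro l
          split_ifs <;> simp
        simp_rw [h4]
        rw [Finset.sum_sub_distrib, Finset.sum_sub_distrib, Finset.sum_ite_eq' Finset.univ j]
        simp only [Finset.mem_univ, if_true]
        rw [Equiv.sum_comp σ wγ, hsum, hσ]
        abel
      rw [h3] at h2
      exact h2
    · have : ∏ l, (ϑ.updateRow i (Pi.single j 1)) (σ l) l = 0 := by
        apply Finset.prod_eq_zero (Finset.mem_univ (σ.symm i))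
        rw [Equiv.apply_symm_apply, Matrix.updateRow_self]
        apply Pi.single_eq_of_ne
        intro h
        apply hσ
        rw [← h, Equiv.apply_symm_apply]
      rw [this]
      exact zero_mem _
  have h5 : ((Equiv.Perm.sign σ : ℤ) : R) * ∏ l, (ϑ.updateRow i (Pi.single j 1)) (σ l) l =
      (Equiv.Perm.sign σ : ℤ) • ∏ l, (ϑ.updateRow i (Pi.single j 1)) (σ l) l := by
    rw [zsmul_eq_mul]
  rw [h5]
  exact AddSubgroup.zsmul_mem _ key _


/-- Let R be a commutative ring and (E_a), a ∈ ι, a family of additive subgroups of R indexed by an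
additive commutative group ι, with E_0 = R and E_a · E_b ⊆ E_{a+b}. Let β, γ : Fin r → ι be weight
vectors with Σ_j β_j = Σ_i γ_i, and let ϑ be an r × r matrix over R with ϑ_{ij} ∈ E_{γ_i − β_j} for
all i, j and with unit determinant. Then a column vector u satisfies u_j ∈ E_{β_j} for every j if
and only if (ϑ u)_i ∈ E_{γ_i} for every i; since ϑ is invertible this says that ϑ maps the box Π_j
E_{β_j} bijectively onto the box Π_i E_{γ_i}. -/
theorem result
    {R : Type u} [CommRing R] {ι : Type v} [AddCommGroup ι]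
    (E : ι → AddSubgroup R) (h0 : E 0 = ⊤)
    (hmul : ∀ a b : ι, ∀ x ∈ E a, ∀ y ∈ E b, x * y ∈ E (a + b))
    {r : ℕ} (wβ wγ : Fin r → ι) (hsum : ∑ j, wβ j = ∑ i, wγ i)
    (ϑ : Matrix (Fin r) (Fin r) R) (hϑ : ∀ i j, ϑ i j ∈ E (wγ i - wβ j))
    (hdet : IsUnit ϑ.det) (u : Fin r → R) :
    (∀ j, u j ∈ E (wβ j)) ↔ ∀ i, ϑ.mulVec u i ∈ E (wγ i) := by
  constructor
  · intro hu i
    rw [Matrix.mulVec, dotProduct]
    apply AddSubgroup.sum_mem
    intro j _
    have := hmul _ _ _ (hϑ i j) _ (hu j)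
    rwa [sub_add_cancel] at this
  · intro hv j
    have h1 : u = ϑ⁻¹.mulVec (ϑ.mulVec u) := by
      rw [Matrix.mulVec_mulVec, Matrix.nonsing_inv_mul ϑ hdet, Matrix.one_mulVec]
    rw [h1, Matrix.mulVec, dotProduct]
    apply AddSubgroup.sum_mem
    intro i _
    have h2 : ϑ⁻¹ j i ∈ E (wβ j - wγ i) := by
      rw [Matrix.inv_def, Matrix.smul_apply, smul_eq_mul]
      have h3 : Ring.inverse ϑ.det ∈ E 0 := by rw [h0]; exact AddSubgroup.mem_top _
      have := hmul _ _ _ h3 _ (adjugate_mem E h0 hmul wβ wγ hsum ϑ hϑ j i)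
      rwa [zero_add] at this
    have := hmul _ _ _ h2 _ (hv i)
    rwa [sub_add_cancel] at this


end Groth.Agent.S16401
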