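import Groth.Statements.S16405
import Mathlib
-- import your own Groth.Agent.* helpers here

set_option autoImplicit false
universe u v
open InvQ

namespace Groth.Agent.S16405

/-- In weight form. Let b : L → ℤ^r be an injective homomorphism of abelian groups (the case in view: L
the character group of a maximal torus T of a semisimple group over ℂ and b the map dual to the
surjection of the rank-r split torus T' onto T that sends the i-th coordinate cocharacter to the
primitive generator of the i-th ray of the Weyl chamber; only the injectivity of b is used, and ℂ is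
replaced by any commutative ring k). Grade the monoid algebra k[L × ℕ^r] (the coordinate ring of T ×
𝔸^r) by ℤ^r, the monomial (w, n) having weight b(w) + n (the weights of the T'-action u·(t, v) =
(b^∨(u) t, u v)), and grade k[ℕ^r] by ℤ^r/b(L), the monomial n having weight the class of n (the
weights of the action on 𝔸^r of the diagonalizable kernel Z of T' → T, a finite group in the case in
view). For a diagonalizable group acting on an affine scheme the ring of invariants is the
weight-zero part, so the two weight-zero parts are the coordinate rings of the quotients (T ×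
𝔸^r)//T' and 𝔸^r//Z. The statement: the algebra map k[L × ℕ^r] → k[ℕ^r] induced by the projection L
× ℕ^r → ℕ^r (restriction to the slice 1 × 𝔸^r) maps the weight-zero part of k[L × ℕ^r] bijectively
onto the weight-zero part of k[ℕ^r]; hence it induces an isomorphism of k-algebras between them. -/
theorem result
    (k : Type u) [CommRing k] (r : ℕ) (L : Type v) [AddCommGroup L]
    (b : L →+ (Fin r → ℤ)) (hb : Function.Injective b) :
    Set.BijOn
      (AddMonoidAlgebra.mapDomainAlgHom k k (AddMonoidHom.snd L (Fin r → ℕ)))
      (AddMonoidAlgebra.gradeBy k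
        (b.comp (AddMonoidHom.fst L (Fin r → ℕ)) +
          (AddMonoidHom.compLeft (Nat.castAddMonoidHom ℤ) (Fin r)).comp (AddMonoidHom.snd L (Fin r → ℕ))) 0 :
        Set (AddMonoidAlgebra k (L × (Fin r → ℕ))))
      (AddMonoidAlgebra.gradeBy k
        ((QuotientAddGroup.mk' b.range).comp (AddMonoidHom.compLeft (Nat.castAddMonoidHom ℤ) (Fin r))) 0 :
        Set (AddMonoidAlgebra k (Fin r → ℕ))) := by
  have hF : ∀ x : AddMonoidAlgebra k (L × (Fin r → ℕ)),
      (AddMonoidAlgebra.mapDomainAlgHom k k (AddMonoidHom.snd L (Fin r → ℕ))) x =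
        AddMonoidAlgebra.mapDomain (Prod.snd : L × (Fin r → ℕ) → (Fin r → ℕ)) x := fun x => rfl
  have hφ : ∀ m : L × (Fin r → ℕ),
      (b.comp (AddMonoidHom.fst L (Fin r → ℕ)) +
          (AddMonoidHom.compLeft (Nat.castAddMonoidHom ℤ) (Fin r)).comp (AddMonoidHom.snd L (Fin r → ℕ))) m
        = b m.1 + (fun i => (m.2 i : ℤ)) := fun m => rfl
  have hψ : ∀ n : Fin r → ℕ,
      ((QuotientAddGroup.mk' b.range).comp (AddMonoidHom.compLeft (Nat.castAddMonoidHom ℤ) (Fin r))) n = 0
        ↔ (fun i => (n i : ℤ)) ∈ b.range := by
    intro n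
    rw [AddMonoidHom.comp_apply, QuotientAddGroup.mk'_apply, QuotientAddGroup.eq_zero_iff]
    rfl
  refine ⟨?_, ?_, ?_⟩
  · intro x hx
    simp only [SetLike.mem_coe] at hx ⊢
    intro n hn
    rw [hF] at hn
    have hn' := Finsupp.mapDomain_support hn
    rw [Finset.mem_image] at hn'
    obtain ⟨m, hm, rfl⟩ := hn'
    have h1 := hx m hm
    rw [hφ] at h1
    rw [hψ]
    refine ⟨-m.1, ?_⟩
    rw [map_neg]
    rw [add_comm] at h1
    exact (eq_neg_of_add_eq_zero_left h1).symm
  · intro x hx y hy hxy
    simp only [SetLike.mem_coe] at hx hy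
    rw [hF, hF] at hxy
    have hinj : Set.InjOn (Prod.snd : L × (Fin r → ℕ) → (Fin r → ℕ))
        {m | (b.comp (AddMonoidHom.fst L (Fin r → ℕ)) +
          (AddMonoidHom.compLeft (Nat.castAddMonoidHom ℤ) (Fin r)).comp (AddMonoidHom.snd L (Fin r → ℕ))) m = 0} := by
      intro m hm m' hm' hmm
      simp only [Set.mem_ofPred_eq] at hm hm'
      rw [hφ] at hm hm'
      rw [← hm', hmm] at hm
      have := hb (add_right_cancel hm)
      exact Prod.ext this hmm
    have := Finsupp.mapDomain_injOn _ hinj (M := k) (x₁ := x.coeff) (x₂ := y.coeff) hx hy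
      (congrArg AddMonoidAlgebra.coeff hxy)
    exact AddMonoidAlgebra.coeff_injective this
  · intro y hy
    simp only [SetLike.mem_coe] at hy
    classical
    let s : (Fin r → ℕ) → L × (Fin r → ℕ) := fun n =>
      if h : (fun i => (n i : ℤ)) ∈ b.range then (-(Classical.choose h), n) else (0, n)
    have hs : ∀ n, (s n).2 = n := by
      intro n
      simp only [s]
      split_ifs <;> rfl
    refine ⟨AddMonoidAlgebra.mapDomain s y, ?_, ?_⟩
    · simp only [SetLike.mem_coe]
      intro m hm
      have hm' := Finsupp.mapDomain_support hm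
      rw [Finset.mem_image] at hm'
      obtain ⟨n, hn, rfl⟩ := hm'
      have h1 := (hψ n).1 (hy n hn)
      rw [hφ]
      simp only [s, dif_pos h1]
      rw [map_neg, Classical.choose_spec h1]
      exact neg_add_cancel _
    · rw [hF]
      apply AddMonoidAlgebra.coeff_injective
      change Finsupp.mapDomain Prod.snd (Finsupp.mapDomain s y.coeff) = y.coeff
      rw [← Finsupp.mapDomain_comp]
      have : (Prod.snd ∘ s) = id := funext hs
      rw [this, Finsupp.mapDomain_id]

end Groth.Agent.S16405
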