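import Groth.Statements.S16414
import Mathlib
-- import your own Groth.Agent.* helpers here

set_option autoImplicit false
open Dieud

namespace Groth.Agent.S16414

/-- Let μ be a rational number with 0 < μ ≤ 1 and i an integer, and put f(i,j) = max(−i−j, −j, 0) for
integers j. Then min over all integers j of f(i,j) + jμ exists and equals max(−iμ, 0). -/
theorem result (μ : ℚ) (hμ0 : 0 < μ) (hμ1 : μ ≤ 1) (i : ℤ) :
    IsLeast (Set.range fun j : ℤ => ((max (max (-i - j) (-j)) 0 : ℤ) : ℚ) + (j : ℚ) * μ)
      (max (-(i : ℚ) * μ) 0) := by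
  constructor
  · refine ⟨max (-i) 0, ?_⟩
    simp only
    rcases le_total 0 i with hi | hi
    · have h1 : max (-i) 0 = 0 := by omega
      have h2 : (max (max (-i - 0) (-0)) 0 : ℤ) = 0 := by omega
      have hi' : (0 : ℚ) ≤ (i : ℚ) := by exact_mod_cast hi
      have h3 : max (-(i : ℚ) * μ) 0 = 0 := by
        apply max_eq_right
        nlinarith
      rw [h1, h2, h3]
      simp
    · have h1 : max (-i) 0 = -i := by omega
      have h2 : (max (max (-i - -i) (- -i)) 0 : ℤ) = 0 := by omega
      have hi' : (i : ℚ) ≤ 0 := by exact_mod_cast hi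
      have h3 : max (-(i : ℚ) * μ) 0 = -(i : ℚ) * μ := by
        apply max_eq_left
        nlinarith
      rw [h1, h2, h3]
      push_cast
      ring
  · rintro _ ⟨j, rfl⟩
    simp only
    have hA : (-i - j : ℤ) ≤ max (max (-i - j) (-j)) 0 := by omega
    have hB : (-j : ℤ) ≤ max (max (-i - j) (-j)) 0 := by omega
    have hC : (0 : ℤ) ≤ max (max (-i - j) (-j)) 0 := by omega
    generalize (max (max (-i - j) (-j)) 0 : ℤ) = f at hA hB hC
    have hA' : (-(i : ℚ) - (j : ℚ)) ≤ (f : ℚ) := by exact_mod_cast hA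
    have hB' : (-(j : ℚ)) ≤ (f : ℚ) := by exact_mod_cast hB
    have hC' : (0 : ℚ) ≤ (f : ℚ) := by exact_mod_cast hC
    apply max_le
    · rcases le_total 0 ((i : ℚ) + j) with h | h
      · nlinarith
      · nlinarith
    · rcases le_total 0 (j : ℚ) with h | h
      · nlinarith
      · nlinarith

end Groth.Agent.S16414
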