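import Groth.Statements.S16416
import Mathlib
-- import your own Groth.Agent.* helpers here

set_option autoImplicit false
universe u v w
open Dieud

namespace Groth.Agent.S16416

section
variable (p : ℕ) [Fact p.Prime] (k : Type u) [Field k] [CharP k p] [PerfectRing k p]
    (M : Type v) [AddCommGroup M] [Module (WittVector p k) M]
    (N : Type w) [AddCommGroup N] [Module (WittVector p k) N]
    (VM : M →+ M) (FN : N →+ N)
    (hVM : ∀ (a : WittVector p k) (m : M), VM (WittVector.frobenius a • m) = a • VM m)
    (hFN : ∀ (a : WittVector p k) (n : N), FN (a • n) = WittVector.frobenius a • FN n)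

noncomputable def Fop (h : M →ₗ[WittVector p k] N) : M →ₗ[WittVector p k] N where
  toFun m := FN (h (VM m))
  map_add' x y := by simp
  map_smul' a m := by
    obtain ⟨a', rfl⟩ := (WittVector.frobenius_bijective p k).2 a
    simp only [RingHom.id_apply]
    rw [hVM, map_smul, hFN]

theorem Fop_apply (h : M →ₗ[WittVector p k] N) (m : M) :
    Fop p k M N VM FN hVM hFN h m = FN (h (VM m)) := rfl

theorem Fop_add (h₁ h₂ : M →ₗ[WittVector p k] N) :
    Fop p k M N VM FN hVM hFN (h₁ + h₂) = Fop p k M N VM FN hVM hFN h₁ + Fop p k M N VM FN hVM hFN h₂ := by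
  ext m
  simp [Fop_apply]

theorem Fop_smul (a : WittVector p k) (h : M →ₗ[WittVector p k] N) :
    Fop p k M N VM FN hVM hFN (a • h) = WittVector.frobenius a • Fop p k M N VM FN hVM hFN h := by
  ext m
  simp [Fop_apply, hFN]

theorem Fop_zero :
    Fop p k M N VM FN hVM hFN 0 = 0 := by
  ext m
  simp [Fop_apply]

end


/-- For a prime p and a perfect field k of characteristic p, write W = W(k) for the ring of Witt vectors
and σ for its Frobenius; let M and N be free W-modules of finite rank, each with additive maps F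
(σ-semilinear) and V (with V(σ(a)m) = aV(m)) satisfying FV = VF = p, and H = Hom_W(M, N). On H the
operator F acts through h ↦ F ∘ h ∘ V, and V acts partially: V·h is the W-linear map h' with h'(V m)
= V(h(m)) for all m, when it exists. Let H₁ be the largest W-submodule of H stable under both (it
contains every submodule stable under both). Then H₁ ∩ V·H = V·H₁: if y ∈ H and V·y exists and lies
in H₁, then y ∈ H₁, so that H₁/VH₁ → H/(H ∩ VH) is injective. (The published statement is for the
Cartier modules of two p-divisible formal groups over k, every slope of the first below every slope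
of the second; only the structure just listed is used, so connectedness and the slope condition are
not assumed.) -/
theorem result
    (p : ℕ) [Fact p.Prime] (k : Type u) [Field k] [CharP k p] [PerfectRing k p]
    (M : Type v) [AddCommGroup M] [Module (WittVector p k) M]
    [Module.Free (WittVector p k) M] [Module.Finite (WittVector p k) M]
    (N : Type w) [AddCommGroup N] [Module (WittVector p k) N]
    [Module.Free (WittVector p k) N] [Module.Finite (WittVector p k) N]
    (FM VM : M →+ M) (FN VN : N →+ N)
    (hFM : ∀ (a : WittVector p k) (m : M), FM (a • m) = WittVector.frobenius a • FM m)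
    (hVM : ∀ (a : WittVector p k) (m : M), VM (WittVector.frobenius a • m) = a • VM m)
    (hFVM : ∀ m : M, FM (VM m) = (p : WittVector p k) • m)
    (hVFM : ∀ m : M, VM (FM m) = (p : WittVector p k) • m)
    (hFN : ∀ (a : WittVector p k) (n : N), FN (a • n) = WittVector.frobenius a • FN n)
    (hVN : ∀ (a : WittVector p k) (n : N), VN (WittVector.frobenius a • n) = a • VN n)
    (hFVN : ∀ n : N, FN (VN n) = (p : WittVector p k) • n)
    (hVFN : ∀ n : N, VN (FN n) = (p : WittVector p k) • n)
    (H₁ : Submodule (WittVector p k) (M →ₗ[WittVector p k] N))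
    (hF : ∀ h ∈ H₁, ∃ h' ∈ H₁, ∀ m : M, h' m = FN (h (VM m)))
    (hV : ∀ h ∈ H₁, ∃ h' ∈ H₁, ∀ m : M, h' (VM m) = VN (h m))
    (hmax : ∀ S : Submodule (WittVector p k) (M →ₗ[WittVector p k] N),
      (∀ h ∈ S, ∃ h' ∈ S, ∀ m : M, h' m = FN (h (VM m))) →
      (∀ h ∈ S, ∃ h' ∈ S, ∀ m : M, h' (VM m) = VN (h m)) → S ≤ H₁)
    (y : M →ₗ[WittVector p k] N) (x : M →ₗ[WittVector p k] N) (hx : x ∈ H₁)
    (hxy : ∀ m : M, x (VM m) = VN (y m)) :
    y ∈ H₁ := by
  set Φ := Fop p k M N VM FN hVM hFN with hΦ
  set S : Submodule (WittVector p k) (M →ₗ[WittVector p k] N) :=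
    H₁ ⊔ Submodule.span (WittVector p k) (Set.range fun n : ℕ => Φ^[n] y) with hS
  have hH₁S : H₁ ≤ S := le_sup_left
  have hgen : ∀ n : ℕ, Φ^[n] y ∈ S := fun n =>
    (le_sup_right : _ ≤ S) (Submodule.subset_span ⟨n, rfl⟩)
  let T : Submodule (WittVector p k) (M →ₗ[WittVector p k] N) :=
    { carrier := {h | Φ h ∈ S}
      add_mem' := by
        intro a b ha hb
        simp only [Set.mem_ofPred_eq] at ha hb ⊢
        rw [hΦ, Fop_add]
        exact S.add_mem ha hb
      zero_mem' := by
        simp only [Set.mem_ofPred_eq]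
        rw [hΦ, Fop_zero]
        exact S.zero_mem
      smul_mem' := by
        intro c h hh
        simp only [Set.mem_ofPred_eq] at hh ⊢
        rw [hΦ, Fop_smul]
        exact S.smul_mem _ hh }
  have hST : S ≤ T := by
    apply sup_le
    · intro h hh
      obtain ⟨h', hh', hh''⟩ := hF h hh
      have : Φ h = h' := by
        ext m
        rw [hh'' m]
        rfl
      change Φ h ∈ S
      rw [this]
      exact hH₁S hh'
    · rw [Submodule.span_le]
      rintro _ ⟨n, rfl⟩
      change Φ (Φ^[n] y) ∈ S
      rw [← Function.iterate_succ_apply' Φ n y]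
      exact hgen (n + 1)
  have hFS : ∀ h ∈ S, ∃ h' ∈ S, ∀ m : M, h' m = FN (h (VM m)) := by
    intro h hh
    exact ⟨Φ h, hST hh, fun m => rfl⟩
  let T' : Submodule (WittVector p k) (M →ₗ[WittVector p k] N) :=
    { carrier := {h | ∃ h' ∈ S, ∀ m : M, h' (VM m) = VN (h m)}
      add_mem' := by
        rintro a b ⟨a', ha', ha''⟩ ⟨b', hb', hb''⟩
        refine ⟨a' + b', S.add_mem ha' hb', fun m => ?_⟩
        simp [ha'', hb'']
      zero_mem' := ⟨0, S.zero_mem, fun m => by simp⟩
      smul_mem' := by
        rintro c h ⟨h', hh', hh''⟩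
        obtain ⟨c', rfl⟩ := (WittVector.frobenius_bijective p k).2 c
        refine ⟨c' • h', S.smul_mem _ hh', fun m => ?_⟩
        simp [hh'', hVN] }
  have hST' : S ≤ T' := by
    apply sup_le
    · intro h hh
      obtain ⟨h', hh', hh''⟩ := hV h hh
      exact ⟨h', hH₁S hh', hh''⟩
    · rw [Submodule.span_le]
      rintro _ ⟨n, rfl⟩
      rcases n with _ | n
      · exact ⟨x, hH₁S hx, hxy⟩
      · refine ⟨(p : WittVector p k) • Φ^[n] y, S.smul_mem _ (hgen n), fun m => ?_⟩
        simp only [Function.iterate_succ_apply']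
        change _ = VN (FN ((Φ^[n] y) (VM m)))
        rw [hVFN]
        rfl
  have hVS : ∀ h ∈ S, ∃ h' ∈ S, ∀ m : M, h' (VM m) = VN (h m) := fun h hh => hST' hh
  exact hmax S hFS hVS (hgen 0)


end Groth.Agent.S16416
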