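import Groth.Statements.S16417
import Mathlib

set_option autoImplicit false
universe u v w
open Dieud

namespace Groth.Agent.S16417
set_option maxHeartbeats 400000


open Module

section Abstract

variable {R : Type u} [CommRing R] [IsDomain R] [IsPrincipalIdealRing R] {π : R} (hπ : Irreducible π)
  {M : Type v} [AddCommGroup M] [Module R M] [Module.Free R M] [Module.Finite R M]
  (A : Submodule R M) (hA : ∀ m : M, π • m ∈ A)

include hπ hA in
theorem finrank_sub_eq : finrank R A = finrank R M := by
  apply le_antisymm (Submodule.finrank_le A)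
  let μ : M →ₗ[R] A :=
    { toFun := fun m => ⟨π • m, hA m⟩
      map_add' := fun x y => Subtype.ext (smul_add π x y)
      map_smul' := fun r x => Subtype.ext (smul_comm π r x) }
  have hμ : Function.Injective μ := by
    intro x y hxy
    have h1 : π • x = π • y := congrArg Subtype.val hxy
    exact smul_right_injective M hπ.ne_zero h1
  exact LinearMap.finrank_le_finrank_of_injective hμ

include hπ hA in
/-- adapted basis: membership in `A` is a divisibility condition on some coordinates. -/
theorem exists_adapted_basis :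
    ∃ (ι : Type v) (_ : Fintype ι) (bM : Basis ι R M) (U : Set ι),
      ∀ m : M, m ∈ A ↔ ∀ i, i ∉ U → π ∣ bM.repr m i := by
  classical
  obtain ⟨bM, a, bA, hab⟩ := Submodule.exists_smith_normal_form_of_rank_eq
    (Module.Free.chooseBasis R M) (finrank_sub_eq hπ A hA)
  refine ⟨Module.Free.ChooseBasisIndex R M, inferInstance, bM, {i | IsUnit (a i)}, ?_⟩
  -- membership in A as divisibility by `a i`
  have hmem : ∀ m : M, m ∈ A ↔ ∀ i, a i ∣ bM.repr m i := by
    intro m
    constructor
    · intro hm i
      have h1 : (⟨m, hm⟩ : A) = ∑ j, bA.repr ⟨m, hm⟩ j • bA j := (bA.sum_repr _).symm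
      have h2 : m = ∑ j, (bA.repr ⟨m, hm⟩ j * a j) • bM j := by
        have := congrArg (Subtype.val) h1
        simp only [AddSubmonoidClass.coe_finset_sum, Submodule.coe_smul, hab, smul_smul] at this
        exact this
      have h3 : bM.repr m i = bA.repr ⟨m, hm⟩ i * a i := by
        conv_lhs => rw [h2]
        rw [Basis.repr_sum_self]
      exact ⟨_, by rw [h3, mul_comm]⟩
    · intro h
      rw [← bM.sum_repr m]
      refine Submodule.sum_mem _ (fun i _ => ?_)
      obtain ⟨d, hd⟩ := h i
      rw [hd, mul_comm, mul_smul, ← hab i]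
      exact Submodule.smul_mem _ _ (bA i).2
  have hdvd : ∀ i, a i ∣ π := by
    intro i
    have h1 := (hmem (π • bM i)).1 (hA (bM i)) i
    rwa [map_smul, Finsupp.smul_apply, bM.repr_self, Finsupp.single_eq_same, smul_eq_mul,
      mul_one] at h1
  intro m
  rw [hmem m]
  constructor
  · intro h i hi
    rcases hπ.dvd_iff.mp (hdvd i) with hu | hu
    · exact absurd hu hi
    · exact hu.dvd.trans (h i)
  · intro h i
    by_cases hi : i ∈ {i | IsUnit (a i)}
    · exact (show IsUnit (a i) from hi).dvd
    · exact (hdvd i).trans (h i hi)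

end Abstract

section Adapted

variable {R : Type u} [CommRing R] [IsDomain R] [IsPrincipalIdealRing R] {π : R} (hπ : Irreducible π)
  {M : Type v} [AddCommGroup M] [Module R M]
  (A : Submodule R M) (hA : ∀ m : M, π • m ∈ A)
  {ι : Type v} [Fintype ι] (bM : Basis ι R M) (U : Set ι)
  (hU : ∀ m : M, m ∈ A ↔ ∀ i, i ∉ U → π ∣ bM.repr m i)
  {N : Type w} [AddCommGroup N] [Module R N] (B : Submodule R N) (hB : ∀ n : N, π • n ∈ B)

include hU in
theorem basis_mem {i : ι} (hi : i ∈ U) : bM i ∈ A := by
  classical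
  rw [hU]
  intro j hj
  have hij : i ≠ j := fun h => hj (h ▸ hi)
  rw [bM.repr_self, Finsupp.single_eq_of_ne' hij]
  exact dvd_zero _

include hU hB in
theorem map_mem_iff (h : M →ₗ[R] N) : (∀ x ∈ A, h x ∈ B) ↔ ∀ i ∈ U, h (bM i) ∈ B := by
  classical
  constructor
  · intro H i hi
    exact H _ (basis_mem A bM U hU hi)
  · intro H x hx
    rw [← bM.sum_repr x, map_sum]
    refine Submodule.sum_mem _ (fun i _ => ?_)
    rw [map_smul]
    by_cases hi : i ∈ U
    · exact Submodule.smul_mem _ _ (H i hi)
    · obtain ⟨c, hc⟩ := (hU x).1 hx i hi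
      rw [hc, mul_smul]
      exact hB _

include hπ hU in
theorem length_quot_A : Module.length R (M ⧸ A) = ENat.card {i // i ∉ U} := by
  classical
  let Ψ : M →ₗ[R] ({i // i ∉ U} → R ⧸ Ideal.span {π}) :=
    LinearMap.pi (fun i => (Submodule.mkQ (Ideal.span {π})).comp (bM.coord i.1))
  have hΨ : ∀ m i, Ψ m i = Submodule.Quotient.mk (bM.repr m i.1) := fun m i => rfl
  have hsurj : Function.Surjective Ψ := by
    intro y
    choose r hr using fun i => Submodule.Quotient.mk_surjective (Ideal.span {π}) (y i)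
    refine ⟨∑ i : ι, (if h : i ∉ U then r ⟨i, h⟩ else 0) • bM i, ?_⟩
    funext i
    rw [hΨ, Basis.repr_sum_self, dif_pos i.2, hr]
  have hker : LinearMap.ker Ψ = A := by
    ext m
    rw [LinearMap.mem_ker, hU]
    constructor
    · intro h i hi
      have := congrFun h ⟨i, hi⟩
      rw [hΨ, Pi.zero_apply, Submodule.Quotient.mk_eq_zero] at this
      exact Ideal.mem_span_singleton.mp this
    · intro h
      funext i
      rw [hΨ, Pi.zero_apply, Submodule.Quotient.mk_eq_zero]
      exact Ideal.mem_span_singleton.mpr (h i.1 i.2)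
  have e : (M ⧸ A) ≃ₗ[R] ({i // i ∉ U} → R ⧸ Ideal.span {π}) :=
    (Submodule.quotEquivOfEq _ _ hker.symm).trans (LinearMap.quotKerEquivOfSurjective Ψ hsurj)
  rw [e.length_eq, Module.length_pi]
  haveI : (Ideal.span {π}).IsMaximal := PrincipalIdealRing.isMaximal_of_irreducible hπ
  haveI : IsSimpleModule R (R ⧸ Ideal.span {π}) :=
    isSimpleModule_iff_isCoatom.mpr (Ideal.IsMaximal.out)
  rw [Module.length_eq_one, mul_one]

include hU hB in
theorem length_hom_quot (H' : Submodule R (M →ₗ[R] N))
    (hH' : ∀ h, h ∈ H' ↔ ∀ x ∈ A, h x ∈ B) :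
    Module.length R ((M →ₗ[R] N) ⧸ H') = ENat.card {i // i ∈ U} * Module.length R (N ⧸ B) := by
  classical
  let Φ : (M →ₗ[R] N) →ₗ[R] ({i // i ∈ U} → N ⧸ B) :=
    LinearMap.pi (fun i => B.mkQ.comp (LinearMap.applyₗ (bM i.1)))
  have hΦ : ∀ h i, Φ h i = Submodule.Quotient.mk (h (bM i.1)) := fun h i => rfl
  have hsurj : Function.Surjective Φ := by
    intro y
    choose n hn using fun i => Submodule.Quotient.mk_surjective B (y i)
    refine ⟨bM.constr R (fun i => if h : i ∈ U then n ⟨i, h⟩ else 0), ?_⟩
    funext i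
    rw [hΦ, Basis.constr_basis, dif_pos i.2, hn]
  have hker : LinearMap.ker Φ = H' := by
    ext h
    rw [LinearMap.mem_ker, hH', map_mem_iff A bM U hU B hB]
    constructor
    · intro h0 i hi
      have := congrFun h0 ⟨i, hi⟩
      rwa [hΦ, Pi.zero_apply, Submodule.Quotient.mk_eq_zero] at this
    · intro h0
      funext i
      rw [hΦ, Pi.zero_apply, Submodule.Quotient.mk_eq_zero]
      exact h0 i.1 i.2
  have e : ((M →ₗ[R] N) ⧸ H') ≃ₗ[R] ({i // i ∈ U} → N ⧸ B) :=
    (Submodule.quotEquivOfEq _ _ hker.symm).trans (LinearMap.quotKerEquivOfSurjective Φ hsurj)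
  rw [e.length_eq, Module.length_pi]

include hU hA hB in
theorem exists_lift (g : A →ₗ[R] N ⧸ B) (hg : ∀ m : M, g ⟨π • m, hA m⟩ = 0) :
    ∃ h : M →ₗ[R] N, ∀ x : A, B.mkQ (h x) = g x := by
  classical
  choose n hn using fun i : {i // i ∈ U} =>
    Submodule.Quotient.mk_surjective B (g ⟨bM i.1, basis_mem A bM U hU i.2⟩)
  let h : M →ₗ[R] N := bM.constr R (fun i => if hi : i ∈ U then n ⟨i, hi⟩ else 0)
  refine ⟨h, ?_⟩
  have hh : ∀ i (hi : i ∈ U), B.mkQ (h (bM i)) = g ⟨bM i, basis_mem A bM U hU hi⟩ := by
    intro i hi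
    rw [Basis.constr_basis, dif_pos hi]
    exact hn ⟨i, hi⟩
  have hπ0 : ∀ m : M, B.mkQ (h (π • m)) = 0 := by
    intro m
    rw [map_smul]
    exact (Submodule.Quotient.mk_eq_zero B).mpr (hB _)
  rintro ⟨x, hx⟩
  have hdiv : ∀ i, i ∉ U → ∃ c, bM.repr x i = π * c := fun i hi => (hU x).1 hx i hi
  choose! c hc using hdiv
  let e : ι → A := fun i =>
    if hi : i ∈ U then bM.repr x i • ⟨bM i, basis_mem A bM U hU hi⟩
    else ⟨π • (c i • bM i), hA _⟩
  have hsum : (⟨x, hx⟩ : A) = ∑ i, e i := by
    apply Subtype.ext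
    rw [AddSubmonoidClass.coe_finset_sum]
    show x = _
    refine (bM.sum_repr x).symm.trans ?_
    refine Finset.sum_congr rfl (fun i _ => ?_)
    by_cases hi : i ∈ U
    · simp only [e, dif_pos hi]; rfl
    · simp only [e, dif_neg hi]
      rw [hc i hi, mul_smul]
  have hterm : ∀ i, B.mkQ (h (e i)) = g (e i) := by
    intro i
    by_cases hi : i ∈ U
    · simp only [e, dif_pos hi]
      rw [Submodule.coe_smul, map_smul, map_smul, map_smul, hh i hi]
    · simp only [e, dif_neg hi]
      rw [hπ0, hg]
  rw [hsum, map_sum, AddSubmonoidClass.coe_finset_sum, map_sum, map_sum]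
  exact Finset.sum_congr rfl (fun i _ => hterm i)

end Adapted

section AbstractMain

variable {R : Type u} [CommRing R] [IsDomain R] [IsPrincipalIdealRing R] {π : R} (hπ : Irreducible π)
  {M : Type v} [AddCommGroup M] [Module R M] [Module.Free R M] [Module.Finite R M]
  (A : Submodule R M) (hA : ∀ m : M, π • m ∈ A)
  {N : Type w} [AddCommGroup N] [Module R N] (B : Submodule R N) (hB : ∀ n : N, π • n ∈ B)

include hπ hA hB in
theorem abstract_main (H' : Submodule R (M →ₗ[R] N))
    (hH' : ∀ h, h ∈ H' ↔ ∀ x ∈ A, h x ∈ B) (r₂ s₁ : ℕ)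
    (hr₂ : Module.length R (N ⧸ B) = r₂)
    (hs₁ : (Module.finrank R M : ℕ∞) = Module.length R (M ⧸ A) + s₁) :
    (∀ g : A →ₗ[R] N ⧸ B, (∀ m : M, g ⟨π • m, hA m⟩ = 0) →
      ∃ h : M →ₗ[R] N, ∀ x : A, B.mkQ (h x) = g x) ∧
    Module.length R ((M →ₗ[R] N) ⧸ H') = (r₂ * s₁ : ℕ) := by
  classical
  obtain ⟨ι, _, bM, U, hU⟩ := exists_adapted_basis hπ A hA
  refine ⟨fun g hg => exists_lift A hA bM U hU B hB g hg, ?_⟩
  rw [length_hom_quot A bM U hU B hB H' hH', hr₂]
  rw [length_quot_A hπ A bM U hU, Module.finrank_eq_card_basis bM] at hs₁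
  have hsum : Fintype.card {i // i ∈ U} + Fintype.card {i // i ∉ U} = Fintype.card ι := by
    rw [← Fintype.card_sum]
    exact Fintype.card_congr (Equiv.sumCompl (· ∈ U))
  rw [ENat.card_eq_coe_fintype_card] at hs₁ ⊢
  have h1 : Fintype.card ι = Fintype.card {i // i ∉ U} + s₁ := by exact_mod_cast hs₁
  have h2 : Fintype.card {i // i ∈ U} = s₁ := by omega
  rw [h2, mul_comm]
  push_cast
  rfl

end AbstractMain

section Witt

variable {p : ℕ} [Fact p.Prime] {k : Type u} [Field k] [CharP k p] [PerfectRing k p]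
  {M : Type v} [AddCommGroup M] [Module (WittVector p k) M]
  (FM VM : M →+ M)
  (hVM : ∀ (a : WittVector p k) (m : M), VM (WittVector.frobenius a • m) = a • VM m)
  (hVFM : ∀ m : M, VM (FM m) = (p : WittVector p k) • m)

include hVM in
theorem mem_span_range_iff (x : M) :
    x ∈ Submodule.span (WittVector p k) (Set.range VM) ↔ ∃ m, VM m = x := by
  constructor
  · intro hx
    induction hx using Submodule.span_induction with
    | mem x hx => exact hx
    | zero => exact ⟨0, map_zero _⟩
    | add x y _ _ hx hy =>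
      obtain ⟨a, rfl⟩ := hx
      obtain ⟨b, rfl⟩ := hy
      exact ⟨a + b, map_add _ _ _⟩
    | smul a x _ hx =>
      obtain ⟨m, rfl⟩ := hx
      exact ⟨WittVector.frobenius a • m, hVM a m⟩
  · rintro ⟨m, rfl⟩
    exact Submodule.subset_span ⟨m, rfl⟩

include hVFM in
theorem p_smul_mem (m : M) :
    (p : WittVector p k) • m ∈ Submodule.span (WittVector p k) (Set.range VM) := by
  rw [← hVFM m]
  exact Submodule.subset_span ⟨FM m, rfl⟩

end Witt

theorem main
    (p : ℕ) [Fact p.Prime] (k : Type u) [Field k] [CharP k p] [PerfectRing k p]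
    (M : Type v) [AddCommGroup M] [Module (WittVector p k) M]
    [Module.Free (WittVector p k) M] [Module.Finite (WittVector p k) M]
    (N : Type w) [AddCommGroup N] [Module (WittVector p k) N]
    [Module.Free (WittVector p k) N] [Module.Finite (WittVector p k) N]
    (FM VM : M →+ M) (FN VN : N →+ N)
    (hFM : ∀ (a : WittVector p k) (m : M), FM (a • m) = WittVector.frobenius a • FM m)
    (hVM : ∀ (a : WittVector p k) (m : M), VM (WittVector.frobenius a • m) = a • VM m)
    (hFVM : ∀ m : M, FM (VM m) = (p : WittVector p k) • m)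
    (hVFM : ∀ m : M, VM (FM m) = (p : WittVector p k) • m)
    (hFN : ∀ (a : WittVector p k) (n : N), FN (a • n) = WittVector.frobenius a • FN n)
    (hVN : ∀ (a : WittVector p k) (n : N), VN (WittVector.frobenius a • n) = a • VN n)
    (hFVN : ∀ n : N, FN (VN n) = (p : WittVector p k) • n)
    (hVFN : ∀ n : N, VN (FN n) = (p : WittVector p k) • n)
    (r₂ s₁ : ℕ)
    (hr₂ : Module.length (WittVector p k) (N ⧸ Submodule.span (WittVector p k) (Set.range VN)) = r₂)
    (hs₁ : (Module.finrank (WittVector p k) M : ℕ∞) =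
      Module.length (WittVector p k) (M ⧸ Submodule.span (WittVector p k) (Set.range VM)) + s₁) :
    (∀ h : M →ₗ[WittVector p k] N,
      (∀ m : M, h (VM m) ∈ Submodule.span (WittVector p k) (Set.range VN)) ↔
        ∃ h' : M →ₗ[WittVector p k] N, ∀ m : M, h (VM m) = VN (h' m)) ∧
    (∀ g : Submodule.span (WittVector p k) (Set.range VM) →ₗ[WittVector p k]
        N ⧸ Submodule.span (WittVector p k) (Set.range VN),
      (∀ m : M, g ⟨VM (FM m), Submodule.subset_span ⟨FM m, rfl⟩⟩ = 0) →
      ∃ h : M →ₗ[WittVector p k] N, ∀ x : Submodule.span (WittVector p k) (Set.range VM),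
        (Submodule.span (WittVector p k) (Set.range VN)).mkQ (h x) = g x) ∧
    Module.length (WittVector p k) ((M →ₗ[WittVector p k] N) ⧸
      ⨅ m : M, (Submodule.span (WittVector p k) (Set.range VN)).comap
        (LinearMap.applyₗ (VM m) : (M →ₗ[WittVector p k] N) →ₗ[WittVector p k] N)) = (r₂ * s₁ : ℕ) := by
  have hp0 : (p : WittVector p k) ≠ 0 := WittVector.p_nonzero p k
  have hirr : Irreducible (p : WittVector p k) := WittVector.irreducible p
  have hVNinj : Function.Injective VN := by
    intro x y hxy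
    have h1 : (p : WittVector p k) • x = (p : WittVector p k) • y := by
      rw [← hFVN x, ← hFVN y, hxy]
    exact smul_right_injective N hp0 h1
  have hH' : ∀ h : M →ₗ[WittVector p k] N,
      h ∈ (⨅ m : M, (Submodule.span (WittVector p k) (Set.range VN)).comap
        (LinearMap.applyₗ (VM m) : (M →ₗ[WittVector p k] N) →ₗ[WittVector p k] N)) ↔
      ∀ x ∈ Submodule.span (WittVector p k) (Set.range VM),
        h x ∈ Submodule.span (WittVector p k) (Set.range VN) := by
    intro h
    rw [Submodule.mem_iInf]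
    constructor
    · intro H x hx
      obtain ⟨m, rfl⟩ := (mem_span_range_iff VM hVM x).1 hx
      exact H m
    · intro H m
      exact H _ (Submodule.subset_span ⟨m, rfl⟩)
  obtain ⟨hb, hc⟩ := abstract_main hirr (Submodule.span (WittVector p k) (Set.range VM))
    (p_smul_mem FM VM hVFM) (Submodule.span (WittVector p k) (Set.range VN))
    (p_smul_mem FN VN hVFN) _ hH' r₂ s₁ hr₂ hs₁
  refine ⟨fun h => ⟨fun H => ?_, ?_⟩, fun g hg => hb g (fun m => ?_), hc⟩
  · -- construct h'
    have hex : ∀ m, ∃ n, VN n = h (VM m) := fun m => (mem_span_range_iff VN hVN _).1 (H m)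
    choose f hf using hex
    refine ⟨{ toFun := f, map_add' := fun x y => ?_, map_smul' := fun a x => ?_ }, fun m => (hf m).symm⟩
    · apply hVNinj
      rw [hf, map_add, map_add, map_add, hf, hf]
    · apply hVNinj
      obtain ⟨a', rfl⟩ := (WittVector.frobenius_bijective p k).2 a
      rw [RingHom.id_apply, hf, hVM, map_smul, ← hf, hVN]
  · rintro ⟨h', hh'⟩ m
    rw [hh']
    exact Submodule.subset_span ⟨h' m, rfl⟩
  · have : (⟨(p : WittVector p k) • m, p_smul_mem FM VM hVFM m⟩ :
        Submodule.span (WittVector p k) (Set.range VM)) =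
        ⟨VM (FM m), Submodule.subset_span ⟨FM m, rfl⟩⟩ := Subtype.ext (hVFM m).symm
    rw [this]
    exact hg m

end Groth.Agent.S16417

namespace Groth.Agent.S16417

/-- For a prime p and a perfect field k of characteristic p, write W = W(k) for the ring of Witt vectors
and σ for its Frobenius; let M and N be free W-modules of finite rank, each with additive maps F
(σ-semilinear) and V (with V(σ(a)m) = aV(m)) satisfying FV = VF = p, and H = Hom_W(M, N); write VM ⊆
M and VN ⊆ N for the images of V. (a) A W-linear h : M → N maps VM into VN if and only if h(V m) =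
V(h'(m)) for all m for some W-linear h' : M → N (so the maps with this property form H ∩ V·H). (b)
The natural map from H to the W-linear maps VM → N/VN has image exactly the maps vanishing on pM =
V(FM): every such map is induced by some h ∈ H. (c) The W-length of H/(H ∩ V·H) is r₂ s₁, where r₂
is the length of N/VN and s₁ = rank M − length(M/VM) is the length of VM/pM. (The published
statement is for the Cartier modules of two p-divisible formal groups over k, every slope of the
first below every slope of the second, and phrases (b), (c) as an isomorphism of H/(H ∩ VH) with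
Hom_k(VM/pM, N/VN); only the structure listed is used, so connectedness and the slope condition are
not assumed.) -/
theorem result
    (p : ℕ) [Fact p.Prime] (k : Type u) [Field k] [CharP k p] [PerfectRing k p]
    (M : Type v) [AddCommGroup M] [Module (WittVector p k) M]
    [Module.Free (WittVector p k) M] [Module.Finite (WittVector p k) M]
    (N : Type w) [AddCommGroup N] [Module (WittVector p k) N]
    [Module.Free (WittVector p k) N] [Module.Finite (WittVector p k) N]
    (FM VM : M →+ M) (FN VN : N →+ N)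
    (hFM : ∀ (a : WittVector p k) (m : M), FM (a • m) = WittVector.frobenius a • FM m)
    (hVM : ∀ (a : WittVector p k) (m : M), VM (WittVector.frobenius a • m) = a • VM m)
    (hFVM : ∀ m : M, FM (VM m) = (p : WittVector p k) • m)
    (hVFM : ∀ m : M, VM (FM m) = (p : WittVector p k) • m)
    (hFN : ∀ (a : WittVector p k) (n : N), FN (a • n) = WittVector.frobenius a • FN n)
    (hVN : ∀ (a : WittVector p k) (n : N), VN (WittVector.frobenius a • n) = a • VN n)
    (hFVN : ∀ n : N, FN (VN n) = (p : WittVector p k) • n)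
    (hVFN : ∀ n : N, VN (FN n) = (p : WittVector p k) • n)
    (r₂ s₁ : ℕ)
    (hr₂ : Module.length (WittVector p k) (N ⧸ Submodule.span (WittVector p k) (Set.range VN)) = r₂)
    (hs₁ : (Module.finrank (WittVector p k) M : ℕ∞) =
      Module.length (WittVector p k) (M ⧸ Submodule.span (WittVector p k) (Set.range VM)) + s₁) :
    (∀ h : M →ₗ[WittVector p k] N,
      (∀ m : M, h (VM m) ∈ Submodule.span (WittVector p k) (Set.range VN)) ↔
        ∃ h' : M →ₗ[WittVector p k] N, ∀ m : M, h (VM m) = VN (h' m)) ∧
    (∀ g : Submodule.span (WittVector p k) (Set.range VM) →ₗ[WittVector p k]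
        N ⧸ Submodule.span (WittVector p k) (Set.range VN),
      (∀ m : M, g ⟨VM (FM m), Submodule.subset_span ⟨FM m, rfl⟩⟩ = 0) →
      ∃ h : M →ₗ[WittVector p k] N, ∀ x : Submodule.span (WittVector p k) (Set.range VM),
        (Submodule.span (WittVector p k) (Set.range VN)).mkQ (h x) = g x) ∧
    Module.length (WittVector p k) ((M →ₗ[WittVector p k] N) ⧸
      ⨅ m : M, (Submodule.span (WittVector p k) (Set.range VN)).comap
        (LinearMap.applyₗ (VM m) : (M →ₗ[WittVector p k] N) →ₗ[WittVector p k] N)) = (r₂ * s₁ : ℕ) := by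
  exact main p k M N FM VM FN VN hFM hVM hFVM hVFM hFN hVN hFVN hVFN r₂ s₁ hr₂ hs₁

end Groth.Agent.S16417
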