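import Groth.Statements.S16419
import Mathlib

set_option autoImplicit false
universe u v
open CAlg

namespace Groth.Agent.S16419
open CAlg

open TensorProduct

theorem exists_isCompl_of_projective {R M : Type*} [CommRing R] [AddCommGroup M] [Module R M]
    (N : Submodule R M) [Module.Projective R (M ⧸ N)] : ∃ C : Submodule R M, IsCompl N C := by
  obtain ⟨s, hs⟩ := Module.projective_lifting_property N.mkQ LinearMap.id N.mkQ_surjective
  have hs' : ∀ q, N.mkQ (s q) = q := fun q => LinearMap.congr_fun hs q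
  refine ⟨LinearMap.range s, ?_, ?_⟩
  · rw [Submodule.disjoint_def]
    rintro x hx ⟨q, rfl⟩
    have : q = 0 := by
      rw [← hs' q]
      exact (Submodule.Quotient.mk_eq_zero N).mpr hx
    rw [this, map_zero]
  · rw [codisjoint_iff, eq_top_iff]
    intro x _
    refine Submodule.mem_sup.mpr ⟨x - s (N.mkQ x), ?_, s (N.mkQ x), ⟨_, rfl⟩, by abel⟩
    rw [← Submodule.Quotient.mk_eq_zero N, Submodule.Quotient.mk_sub]
    have := hs' (N.mkQ x)
    simp only [Submodule.mkQ_apply] at this ⊢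
    rw [this, sub_self]

/-- `1 ⊗ x = 0` in `(R ⧸ I) ⊗ M` iff `x ∈ I • ⊤`. -/
theorem one_tmul_eq_zero_iff {R M : Type*} [CommRing R] [AddCommGroup M] [Module R M]
    (I : Ideal R) (x : M) :
    ((1 : R ⧸ I) ⊗ₜ[R] x = 0) ↔ x ∈ (I • ⊤ : Submodule R M) := by
  rw [← (quotTensorEquivQuotSMul M I).map_eq_zero_iff, quotTensorEquivQuotSMul_mk_one_tmul,
    Submodule.Quotient.mk_eq_zero]

theorem main
    (R : Type u) [CommRing R]
    (H₁ : Type v) (H : Type v) (H₂ : Type v)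
    [AddCommGroup H₁] [Module R H₁] [AddCommGroup H] [Module R H] [AddCommGroup H₂] [Module R H₂]
    [Module.Projective R H₂]
    (f : H₁ →ₗ[R] H) (g : H →ₗ[R] H₂) (hf : Function.Injective f) (hg : Function.Surjective g)
    (hfg : Function.Exact f g)
    (F₁ : Submodule R H₁) (F₂ : Submodule R H₂) [Module.Projective R (H₁ ⧸ F₁)]
    [Module.Projective R (H₂ ⧸ F₂)]
    (𝔫 : Ideal R)
    (Fb : Submodule (R ⧸ 𝔫) ((R ⧸ 𝔫) ⊗[R] H))
    (h1 : Fb ⊓ LinearMap.range (f.baseChange (R ⧸ 𝔫)) =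
      Submodule.map (f.baseChange (R ⧸ 𝔫)) (F₁.baseChange (R ⧸ 𝔫)))
    (h2 : Submodule.map (g.baseChange (R ⧸ 𝔫)) Fb = F₂.baseChange (R ⧸ 𝔫)) :
    ∃ F : Submodule R H, (∃ C : Submodule R H, IsCompl F C) ∧
      F ⊓ LinearMap.range f = Submodule.map f F₁ ∧
      F.baseChange (R ⧸ 𝔫) = Fb ∧ Submodule.map g F = F₂ := by
  obtain ⟨C₁, hC₁⟩ := exists_isCompl_of_projective F₁
  obtain ⟨C₂, hC₂⟩ := exists_isCompl_of_projective F₂
  haveI : Module.Projective R F₂ :=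
    Module.Projective.of_split F₂.subtype (Submodule.projectionOnto F₂ C₂ hC₂)
      (by ext y; exact congrArg Subtype.val (Submodule.projectionOnto_apply_left hC₂ y))
  have hgf : ∀ a, g (f a) = 0 := fun a => (hfg (f a)).mpr ⟨a, rfl⟩
  -- elements of a base-changed submodule are of the form `1 ⊗ y`
  have hbc : ∀ {M : Type v} [AddCommGroup M] [Module R M] (N : Submodule R M)
      (z : (R ⧸ 𝔫) ⊗[R] M), z ∈ N.baseChange (R ⧸ 𝔫) ↔ ∃ y ∈ N, z = (1 : R ⧸ 𝔫) ⊗ₜ[R] y := by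
    intro M _ _ N z
    constructor
    · rintro ⟨w, rfl⟩
      obtain ⟨y, rfl⟩ := TensorProduct.mk_surjective R N (R ⧸ 𝔫) Ideal.Quotient.mk_surjective w
      exact ⟨y, y.2, rfl⟩
    · rintro ⟨y, hy, rfl⟩
      exact Submodule.tmul_mem_baseChange_of_mem _ hy
  -- the auxiliary submodule
  obtain ⟨P, hP⟩ : ∃ P : Submodule R H, P =
      Submodule.comap (TensorProduct.mk R (R ⧸ 𝔫) H 1) (Fb.restrictScalars R) ⊓
        Submodule.comap g F₂ := ⟨_, rfl⟩
  have hPmem : ∀ x, x ∈ P ↔ ((1 : R ⧸ 𝔫) ⊗ₜ[R] x ∈ Fb ∧ g x ∈ F₂) := by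
    intro x
    rw [hP]
    rfl
  obtain ⟨gP, hgP⟩ : ∃ gP : P →ₗ[R] F₂, ∀ x : P, (gP x : H₂) = g x :=
    ⟨(g.domRestrict P).codRestrict F₂ (fun x => ((hPmem x).mp x.2).2), fun x => rfl⟩
  have hsurj : Function.Surjective gP := by
    intro y
    have hy : (1 : R ⧸ 𝔫) ⊗ₜ[R] (y : H₂) ∈ F₂.baseChange (R ⧸ 𝔫) :=
      Submodule.tmul_mem_baseChange_of_mem _ y.2
    rw [← h2] at hy
    obtain ⟨zb, hzb, hzb2⟩ := hy
    obtain ⟨z', rfl⟩ := TensorProduct.mk_surjective R H (R ⧸ 𝔫) Ideal.Quotient.mk_surjective zb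
    simp only [TensorProduct.mk_apply, LinearMap.baseChange_tmul] at hzb hzb2
    have h3 : g z' - y ∈ (𝔫 • ⊤ : Submodule R H₂) := by
      rw [← one_tmul_eq_zero_iff, TensorProduct.tmul_sub, hzb2, sub_self]
    have h4 : (𝔫 • ⊤ : Submodule R H₂) = Submodule.map g (𝔫 • ⊤ : Submodule R H) := by
      rw [Submodule.map_smul'', Submodule.map_top, LinearMap.range_eq_top.mpr hg]
    rw [h4] at h3
    obtain ⟨n, hn, hn2⟩ := h3
    have hmem : z' - n ∈ P := by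
      rw [hPmem]
      constructor
      · rw [TensorProduct.tmul_sub, (one_tmul_eq_zero_iff 𝔫 n).mpr hn, sub_zero]
        exact hzb
      · rw [map_sub, hn2]
        simp
    refine ⟨⟨z' - n, hmem⟩, ?_⟩
    apply Subtype.ext
    rw [hgP]
    simp only [map_sub, hn2]
    abel
  obtain ⟨σ, hσ⟩ := Module.projective_lifting_property gP LinearMap.id hsurj
  obtain ⟨σ', hσ'⟩ : ∃ σ' : F₂ →ₗ[R] H, ∀ y, σ' y = (σ y : H) := ⟨P.subtype ∘ₗ σ, fun y => rfl⟩
  have hgσ : ∀ y : F₂, g (σ' y) = y := by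
    intro y
    rw [hσ', ← hgP]
    exact congrArg Subtype.val (LinearMap.congr_fun hσ y)
  have hσFb : ∀ y : F₂, (1 : R ⧸ 𝔫) ⊗ₜ[R] (σ' y) ∈ Fb := by
    intro y
    rw [hσ']
    exact ((hPmem _).mp (σ y).2).1
  refine ⟨Submodule.map f F₁ ⊔ LinearMap.range σ', ?_, ?_, ?_, ?_⟩
  · -- complement
    obtain ⟨τ, hτ⟩ := Module.projective_lifting_property g LinearMap.id hg
    have hτ' : ∀ y, g (τ y) = y := fun y => LinearMap.congr_fun hτ y
    refine ⟨Submodule.map f C₁ ⊔ Submodule.map τ C₂, ?_, ?_⟩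
    · rw [Submodule.disjoint_def]
      intro x hx hx'
      obtain ⟨_, ⟨a, ha, rfl⟩, _, ⟨y, rfl⟩, rfl⟩ := Submodule.mem_sup.mp hx
      obtain ⟨_, ⟨c, hc, rfl⟩, _, ⟨c₂, hc₂, rfl⟩, hxe⟩ := Submodule.mem_sup.mp hx'
      have h5 := congrArg g hxe
      simp only [map_add, hgf, zero_add, hgσ, hτ'] at h5
      have hy0 : (y : H₂) = 0 := by
        have : (y : H₂) ∈ F₂ ⊓ C₂ := ⟨y.2, h5 ▸ hc₂⟩
        rw [hC₂.inf_eq_bot] at this
        exact this
      have hc₂0 : c₂ = 0 := by rw [h5, hy0]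
      have hy0' : y = 0 := Subtype.ext hy0
      rw [hc₂0, hy0', map_zero, map_zero, add_zero, add_zero] at hxe
      have hac : c = a := hf hxe
      have ha0 : a = 0 := by
        have : a ∈ F₁ ⊓ C₁ := ⟨ha, hac ▸ hc⟩
        rw [hC₁.inf_eq_bot] at this
        exact this
      rw [ha0, hy0', map_zero, map_zero, add_zero]
    · rw [codisjoint_iff, eq_top_iff]
      intro x _
      -- decompose g x
      have hgx : g x ∈ F₂ ⊔ C₂ := by rw [hC₂.sup_eq_top]; trivial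
      obtain ⟨y, hy, c₂, hc₂, hyc⟩ := Submodule.mem_sup.mp hgx
      have hker : g (x - σ' ⟨y, hy⟩ - τ c₂) = 0 := by
        rw [map_sub, map_sub, hgσ, hτ', ← hyc]
        simp
      obtain ⟨a, ha⟩ := (hfg _).mp hker
      have hatop : a ∈ F₁ ⊔ C₁ := by rw [hC₁.sup_eq_top]; trivial
      obtain ⟨a₁, ha₁, c₁, hc₁, hac⟩ := Submodule.mem_sup.mp hatop
      have hx : x = (f a₁ + σ' ⟨y, hy⟩) + (f c₁ + τ c₂) := by
        have : x = f a + σ' ⟨y, hy⟩ + τ c₂ := by rw [ha]; abel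
        rw [this, ← hac, map_add]
        abel
      rw [hx]
      refine Submodule.add_mem_sup ?_ ?_
      · exact Submodule.add_mem_sup (Submodule.mem_map_of_mem ha₁) ⟨_, rfl⟩
      · exact Submodule.add_mem_sup (Submodule.mem_map_of_mem hc₁) (Submodule.mem_map_of_mem hc₂)
  · -- F ⊓ range f = map f F₁
    apply le_antisymm
    · rintro x ⟨hx, ⟨b, rfl⟩⟩
      obtain ⟨_, ⟨a, ha, rfl⟩, _, ⟨y, rfl⟩, hxe⟩ := Submodule.mem_sup.mp hx
      have h5 := congrArg g hxe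
      simp only [map_add, hgf, zero_add, hgσ] at h5
      have hy0 : y = 0 := Subtype.ext h5
      rw [hy0, map_zero, add_zero] at hxe
      rw [← hxe]
      exact Submodule.mem_map_of_mem ha
    · exact le_inf le_sup_left (LinearMap.map_le_range)
  · -- base change
    apply le_antisymm
    · rw [Submodule.baseChange_eq_span]
      refine Submodule.span_le.mpr ?_
      rintro _ ⟨x, hx, rfl⟩
      obtain ⟨_, ⟨a, ha, rfl⟩, _, ⟨y, rfl⟩, rfl⟩ := Submodule.mem_sup.mp hx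
      simp only [TensorProduct.mk_apply, TensorProduct.tmul_add]
      refine Fb.add_mem ?_ (hσFb y)
      have : (1 : R ⧸ 𝔫) ⊗ₜ[R] f a ∈ Submodule.map (f.baseChange (R ⧸ 𝔫))
          (F₁.baseChange (R ⧸ 𝔫)) :=
        ⟨(1 : R ⧸ 𝔫) ⊗ₜ[R] a, Submodule.tmul_mem_baseChange_of_mem _ ha, by simp⟩
      rw [← h1] at this
      exact this.1
    · intro zb hzb
      have h6 : g.baseChange (R ⧸ 𝔫) zb ∈ F₂.baseChange (R ⧸ 𝔫) := by
        rw [← h2]
        exact Submodule.mem_map_of_mem hzb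
      obtain ⟨y, hy, hye⟩ := (hbc F₂ _).mp h6
      have h7 : g.baseChange (R ⧸ 𝔫) (zb - (1 : R ⧸ 𝔫) ⊗ₜ[R] σ' ⟨y, hy⟩) = 0 := by
        rw [map_sub, hye, LinearMap.baseChange_tmul, hgσ, sub_self]
      have hex : Function.Exact (f.baseChange (R ⧸ 𝔫)) (g.baseChange (R ⧸ 𝔫)) := by
        have := lTensor_exact (R ⧸ 𝔫) hfg hg
        intro w
        have h8 := this w
        simp only [← LinearMap.baseChange_eq_ltensor] at h8
        exact h8
      have h9 : zb - (1 : R ⧸ 𝔫) ⊗ₜ[R] σ' ⟨y, hy⟩ ∈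
          Fb ⊓ LinearMap.range (f.baseChange (R ⧸ 𝔫)) :=
        ⟨Fb.sub_mem hzb (hσFb _), (hex _).mp h7⟩
      rw [h1] at h9
      obtain ⟨w, hw, hwe⟩ := h9
      obtain ⟨a, ha, rfl⟩ := (hbc F₁ _).mp hw
      rw [LinearMap.baseChange_tmul] at hwe
      have h10 : zb = (1 : R ⧸ 𝔫) ⊗ₜ[R] (f a + σ' ⟨y, hy⟩) := by
        rw [TensorProduct.tmul_add, hwe]
        abel
      rw [h10]
      exact Submodule.tmul_mem_baseChange_of_mem _
        (Submodule.add_mem_sup (Submodule.mem_map_of_mem ha) ⟨_, rfl⟩)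
  · -- map g F = F₂
    apply le_antisymm
    · rw [Submodule.map_sup]
      refine sup_le ?_ ?_
      · rintro _ ⟨_, ⟨a, _, rfl⟩, rfl⟩
        rw [hgf]
        exact zero_mem _
      · rintro _ ⟨_, ⟨y, rfl⟩, rfl⟩
        rw [hgσ]
        exact y.2
    · intro y hy
      exact ⟨σ' ⟨y, hy⟩, Submodule.mem_sup_right ⟨_, rfl⟩, hgσ _⟩

end Groth.Agent.S16419

namespace Groth.Agent.S16419

open TensorProduct in
/-- For a commutative local Artinian ring R and an exact sequence 0 → H₁ → H → H₂ → 0 of finite free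
R-modules, let F₁ ⊆ H₁ and F₂ ⊆ H₂ be submodules with H₁/F₁ and H₂/F₂ free; let 𝔫 be an ideal of R
of square zero, R̄ = R/𝔫, and F̄ an R̄-submodule of H̄ = R̄ ⊗ H with free quotient such that F̄
meets the image of R̄ ⊗ H₁ in the image of R̄ ⊗ F₁ and the image of F̄ in R̄ ⊗ H₂ is the image of R̄
⊗ F₂. Then there is a direct summand F of H with F ∩ H₁ = F₁, whose image in H̄ is F̄ and whose
image in H₂ is F₂. -/
theorem result
    (R : Type u) [CommRing R] [IsArtinianRing R] [IsLocalRing R]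
    (H₁ : Type v) (H : Type v) (H₂ : Type v)
    [AddCommGroup H₁] [Module R H₁] [AddCommGroup H] [Module R H] [AddCommGroup H₂] [Module R H₂]
    [Module.Free R H₁] [Module.Finite R H₁] [Module.Free R H] [Module.Finite R H]
    [Module.Free R H₂] [Module.Finite R H₂]
    (f : H₁ →ₗ[R] H) (g : H →ₗ[R] H₂) (hf : Function.Injective f) (hg : Function.Surjective g)
    (hfg : Function.Exact f g)
    (F₁ : Submodule R H₁) (F₂ : Submodule R H₂) [Module.Free R (H₁ ⧸ F₁)] [Module.Free R (H₂ ⧸ F₂)]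
    (𝔫 : Ideal R) (hn : 𝔫 * 𝔫 = ⊥)
    (Fb : Submodule (R ⧸ 𝔫) ((R ⧸ 𝔫) ⊗[R] H))
    [Module.Free (R ⧸ 𝔫) (((R ⧸ 𝔫) ⊗[R] H) ⧸ Fb)]
    (h1 : Fb ⊓ LinearMap.range (f.baseChange (R ⧸ 𝔫)) =
      Submodule.map (f.baseChange (R ⧸ 𝔫)) (F₁.baseChange (R ⧸ 𝔫)))
    (h2 : Submodule.map (g.baseChange (R ⧸ 𝔫)) Fb = F₂.baseChange (R ⧸ 𝔫)) :
    ∃ F : Submodule R H, (∃ C : Submodule R H, IsCompl F C) ∧
      F ⊓ LinearMap.range f = Submodule.map f F₁ ∧
      F.baseChange (R ⧸ 𝔫) = Fb ∧ Submodule.map g F = F₂ := by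
  exact main R H₁ H H₂ f g hf hg hfg F₁ F₂ 𝔫 Fb h1 h2

end Groth.Agent.S16419
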