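import Groth.Statements.S16420
import Mathlib.LinearAlgebra.TensorProduct.Quotient
import Mathlib.LinearAlgebra.Projection
import Mathlib.Algebra.Module.Projective
import Mathlib.Tactic
-- import your own Groth.Agent.* helpers here

set_option autoImplicit false
universe u v
open CAlg

namespace Groth.Agent.S16420

section helpers

open TensorProduct

theorem one_tmul_eq_zero_iff {R : Type u} [CommRing R] {M : Type v} [AddCommGroup M] [Module R M]
    (𝔫 : Ideal R) (z : M) :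
    ((1 : R ⧸ 𝔫) ⊗ₜ[R] z = 0) ↔ z ∈ 𝔫 • (⊤ : Submodule R M) := by
  rw [← (TensorProduct.quotTensorEquivQuotSMul M 𝔫).map_eq_zero_iff,
    TensorProduct.quotTensorEquivQuotSMul_mk_one_tmul, Submodule.Quotient.mk_eq_zero]

theorem mem_baseChange_iff {R : Type u} [CommRing R] {M : Type v} [AddCommGroup M] [Module R M]
    (𝔫 : Ideal R) (F : Submodule R M) (w : (R ⧸ 𝔫) ⊗[R] M) :
    w ∈ F.baseChange (R ⧸ 𝔫) ↔ ∃ y ∈ F, w = (1 : R ⧸ 𝔫) ⊗ₜ[R] y := by
  constructor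
  · intro hw
    rw [Submodule.baseChange_eq_span] at hw
    induction hw using Submodule.span_induction with
    | mem x hx =>
      obtain ⟨y, hy, rfl⟩ := hx
      exact ⟨y, hy, rfl⟩
    | zero => exact ⟨0, F.zero_mem, by simp⟩
    | add x y _ _ hx hy =>
      obtain ⟨a, ha, rfl⟩ := hx
      obtain ⟨b, hb, rfl⟩ := hy
      exact ⟨a + b, F.add_mem ha hb, by rw [TensorProduct.tmul_add]⟩
    | smul r x _ hx =>
      obtain ⟨a, ha, rfl⟩ := hx
      obtain ⟨r, rfl⟩ := Ideal.Quotient.mk_surjective r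
      refine ⟨r • a, F.smul_mem r ha, ?_⟩
      rw [TensorProduct.smul_tmul', smul_eq_mul, mul_one, TensorProduct.tmul_smul,
        TensorProduct.smul_tmul', Algebra.smul_def, mul_one]
      rfl
  · rintro ⟨y, hy, rfl⟩
    exact Submodule.tmul_mem_baseChange_of_mem _ hy

theorem le_sup_of_baseChange_eq {R : Type u} [CommRing R] {M : Type v} [AddCommGroup M]
    [Module R M] (𝔫 : Ideal R) (F F' : Submodule R M)
    (h : F'.baseChange (R ⧸ 𝔫) = F.baseChange (R ⧸ 𝔫)) :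
    F' ≤ F ⊔ 𝔫 • (⊤ : Submodule R M) := by
  intro x hx
  have h1 : (1 : R ⧸ 𝔫) ⊗ₜ[R] x ∈ F.baseChange (R ⧸ 𝔫) := by
    rw [← h]
    exact Submodule.tmul_mem_baseChange_of_mem _ hx
  obtain ⟨y, hy, hxy⟩ := (mem_baseChange_iff 𝔫 F _).mp h1
  have h2 : (1 : R ⧸ 𝔫) ⊗ₜ[R] (x - y) = 0 := by
    rw [TensorProduct.tmul_sub, hxy, sub_self]
  rw [one_tmul_eq_zero_iff] at h2
  have : x = y + (x - y) := by abel
  rw [this]
  exact Submodule.add_mem_sup hy h2

theorem mem_smul_of_isCompl {R : Type u} [CommRing R] {M : Type v} [AddCommGroup M] [Module R M]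
    (𝔫 : Ideal R) (N C : Submodule R M) (h : IsCompl N C) {x : M} (hxN : x ∈ N)
    (hx : x ∈ 𝔫 • (⊤ : Submodule R M)) : x ∈ 𝔫 • N := by
  have key : ∀ z ∈ 𝔫 • (⊤ : Submodule R M), ((Submodule.projectionOnto N C h z : N) : M) ∈ 𝔫 • N := by
    intro z hz
    refine Submodule.smul_induction_on hz ?_ ?_
    · intro r hr m _
      rw [map_smul]
      exact Submodule.smul_mem_smul hr (Submodule.projectionOnto N C h m).2
    · intro a b ha hb
      rw [map_add]
      exact Submodule.add_mem _ ha hb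
  have h2 : ((Submodule.projectionOnto N C h x : N) : M) = x := by
    rw [Submodule.projectionOnto_apply_of_mem_left h hxN]
  rw [← h2]
  exact key x hx

theorem exists_isCompl_ker {R : Type u} [CommRing R] {M : Type v} [AddCommGroup M] [Module R M]
    {P : Type v} [AddCommGroup P] [Module R P] [Module.Projective R P]
    (g : M →ₗ[R] P) (hg : Function.Surjective g) : ∃ C, IsCompl (LinearMap.ker g) C := by
  obtain ⟨σ, hσ⟩ := Module.projective_lifting_property g LinearMap.id hg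
  have hσ' : ∀ q, g (σ q) = q := fun q => LinearMap.congr_fun hσ q
  refine ⟨LinearMap.range σ, ?_⟩
  constructor
  · rw [Submodule.disjoint_def]
    rintro x hx ⟨q, rfl⟩
    rw [LinearMap.mem_ker, hσ'] at hx
    rw [hx, map_zero]
  · rw [codisjoint_iff, Submodule.eq_top_iff']
    intro x
    have : x = (x - σ (g x)) + σ (g x) := by abel
    rw [this]
    refine Submodule.add_mem_sup ?_ ⟨g x, rfl⟩
    rw [LinearMap.mem_ker, map_sub, hσ', sub_self]


theorem map_mem_smul_top {R : Type u} [CommRing R] {M N : Type v} [AddCommGroup M] [Module R M]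
    [AddCommGroup N] [Module R N] (𝔫 : Ideal R) (f : M →ₗ[R] N) {z : M}
    (hz : z ∈ 𝔫 • (⊤ : Submodule R M)) : f z ∈ 𝔫 • (⊤ : Submodule R N) := by
  refine Submodule.smul_induction_on hz ?_ ?_
  · intro r hr m _
    rw [map_smul]
    exact Submodule.smul_mem_smul hr Submodule.mem_top
  · intro a b ha hb
    rw [map_add]
    exact Submodule.add_mem _ ha hb

section

variable {R : Type u} [CommRing R] {H₁ H H₂ : Type v}
  [AddCommGroup H₁] [Module R H₁] [AddCommGroup H] [Module R H] [AddCommGroup H₂] [Module R H₂]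
  (f : H₁ →ₗ[R] H) (g : H →ₗ[R] H₂)

theorem tau_comp (hgf : ∀ x, g (f x) = 0) (u : H₂ →ₗ[R] H₁) (x : H) :
    (LinearMap.id + f ∘ₗ (-u) ∘ₗ g : H →ₗ[R] H) ((LinearMap.id + f ∘ₗ u ∘ₗ g : H →ₗ[R] H) x) = x := by
  simp only [LinearMap.add_apply, LinearMap.id_apply, LinearMap.comp_apply, map_add, hgf,
    LinearMap.neg_apply, map_neg, map_zero, add_zero]
  abel

noncomputable def tauEquiv (hgf : ∀ x, g (f x) = 0) (u : H₂ →ₗ[R] H₁) : H ≃ₗ[R] H :=
  LinearEquiv.ofLinearMap (LinearMap.id + f ∘ₗ u ∘ₗ g : H →ₗ[R] H) (LinearMap.id + f ∘ₗ (-u) ∘ₗ g : H →ₗ[R] H)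
    (by
      ext x
      have := tau_comp f g hgf (-u) x
      rw [neg_neg] at this
      exact this)
    (by
      ext x
      exact tau_comp f g hgf u x)

theorem part1 (hfg : Function.Exact f g)
    (F₁ : Submodule R H₁) (F₂ : Submodule R H₂) (𝔫 : Ideal R)
    (Fb : Submodule (R ⧸ 𝔫) ((R ⧸ 𝔫) ⊗[R] H)) (F : Submodule R H)
    (hF : (∃ C : Submodule R H, IsCompl F C) ∧
      F ⊓ LinearMap.range f = Submodule.map f F₁ ∧
      Submodule.baseChange (R ⧸ 𝔫) F = Fb ∧ Submodule.map g F = F₂)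
    (u : H₂ →ₗ[R] H₁) (hu : ∀ y : H₂, u y ∈ 𝔫 • (⊤ : Submodule R H₁)) :
    (∃ C : Submodule R H, IsCompl (Submodule.map (LinearMap.id + f ∘ₗ u ∘ₗ g) F) C) ∧
      (Submodule.map (LinearMap.id + f ∘ₗ u ∘ₗ g) F) ⊓ LinearMap.range f = Submodule.map f F₁ ∧
      Submodule.baseChange (R ⧸ 𝔫) (Submodule.map (LinearMap.id + f ∘ₗ u ∘ₗ g) F) = Fb ∧
      Submodule.map g (Submodule.map (LinearMap.id + f ∘ₗ u ∘ₗ g) F) = F₂ := by
  have hgf : ∀ x, g (f x) = 0 := hfg.apply_apply_eq_zero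
  obtain ⟨⟨C, hC⟩, hF1, hFb, hF2⟩ := hF
  have hτ : ∀ x, (LinearMap.id + f ∘ₗ u ∘ₗ g : H →ₗ[R] H) x = x + f (u (g x)) := fun x => rfl
  refine ⟨?_, ?_, ?_, ?_⟩
  · refine ⟨Submodule.map (tauEquiv f g hgf u : H →ₗ[R] H) C, ?_⟩
    exact (Submodule.orderIsoMapComap (tauEquiv f g hgf u)).isCompl hC
  · ext z
    constructor
    · rintro ⟨⟨x, hx, rfl⟩, hz⟩
      rw [hτ] at hz ⊢
      have hxr : x ∈ LinearMap.range f := by
        have : x = (x + f (u (g x))) - f (u (g x)) := by abel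
        rw [this]
        exact Submodule.sub_mem _ hz ⟨_, rfl⟩
      have hxF1 : x ∈ Submodule.map f F₁ := by
        rw [← hF1]
        exact ⟨hx, hxr⟩
      obtain ⟨a, ha, rfl⟩ := hxF1
      rw [hgf, map_zero, map_zero, add_zero]
      exact ⟨a, ha, rfl⟩
    · rintro ⟨a, ha, rfl⟩
      have hfa : f a ∈ F := by
        have : f a ∈ F ⊓ LinearMap.range f := by
          rw [hF1]
          exact ⟨a, ha, rfl⟩
        exact this.1
      refine ⟨⟨f a, hfa, ?_⟩, ⟨a, rfl⟩⟩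
      rw [hτ, hgf, map_zero, map_zero, add_zero]
  · rw [← hFb]
    ext w
    rw [mem_baseChange_iff, mem_baseChange_iff]
    have h0 : ∀ x, (1 : R ⧸ 𝔫) ⊗ₜ[R] ((LinearMap.id + f ∘ₗ u ∘ₗ g : H →ₗ[R] H) x) = (1 : R ⧸ 𝔫) ⊗ₜ[R] x := by
      intro x
      rw [hτ, TensorProduct.tmul_add,
        (one_tmul_eq_zero_iff 𝔫 (f (u (g x)))).mpr (map_mem_smul_top 𝔫 f (hu (g x))), add_zero]
    constructor
    · rintro ⟨_, ⟨x, hx, rfl⟩, rfl⟩
      exact ⟨x, hx, h0 x⟩
    · rintro ⟨x, hx, rfl⟩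
      exact ⟨_, ⟨x, hx, rfl⟩, (h0 x).symm⟩
  · rw [← Submodule.map_comp, ← hF2]
    congr 1
    ext x
    rw [LinearMap.comp_apply, hτ, map_add, hgf, add_zero]

theorem map_tau_le (hfg : Function.Exact f g)
    (F₁ : Submodule R H₁) (F₂ : Submodule R H₂) (F : Submodule R H)
    (hF1 : F ⊓ LinearMap.range f = Submodule.map f F₁) (hF2 : Submodule.map g F = F₂)
    (u : H₂ →ₗ[R] H₁) (hu : ∀ y ∈ F₂, u y ∈ F₁) :
    Submodule.map (LinearMap.id + f ∘ₗ u ∘ₗ g) F ≤ F := by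
  rintro _ ⟨x, hx, rfl⟩
  have h1 : g x ∈ F₂ := by
    rw [← hF2]
    exact ⟨x, hx, rfl⟩
  have h2 : f (u (g x)) ∈ F := by
    have : f (u (g x)) ∈ F ⊓ LinearMap.range f := by
      rw [hF1]
      exact ⟨_, hu _ h1, rfl⟩
    exact this.1
  exact F.add_mem hx h2

theorem part2 (hf : Function.Injective f) (hfg : Function.Exact f g)
    (F₁ : Submodule R H₁) (F₂ : Submodule R H₂) [Module.Free R (H₁ ⧸ F₁)] (𝔫 : Ideal R)
    (F : Submodule R H)
    (hF1 : F ⊓ LinearMap.range f = Submodule.map f F₁) (hF2 : Submodule.map g F = F₂)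
    (u : H₂ →ₗ[R] H₁) (hu : ∀ y : H₂, u y ∈ 𝔫 • (⊤ : Submodule R H₁)) :
    (Submodule.map (LinearMap.id + f ∘ₗ u ∘ₗ g) F = F ↔ ∀ y ∈ F₂, u y ∈ 𝔫 • F₁) := by
  have hgf : ∀ x, g (f x) = 0 := hfg.apply_apply_eq_zero
  constructor
  · intro hmap y hy
    rw [← hF2] at hy
    obtain ⟨x, hx, rfl⟩ := hy
    have h1 : (LinearMap.id + f ∘ₗ u ∘ₗ g : H →ₗ[R] H) x ∈ F := by
      rw [← hmap]
      exact ⟨x, hx, rfl⟩
    have h2 : f (u (g x)) ∈ F := by
      have : f (u (g x)) = (LinearMap.id + f ∘ₗ u ∘ₗ g : H →ₗ[R] H) x - x := by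
        show _ = x + f (u (g x)) - x
        abel
      rw [this]
      exact F.sub_mem h1 hx
    have h3 : f (u (g x)) ∈ Submodule.map f F₁ := by
      rw [← hF1]
      exact ⟨h2, ⟨_, rfl⟩⟩
    obtain ⟨a, ha, hfa⟩ := h3
    have h4 : u (g x) ∈ F₁ := by
      rw [← hf hfa]
      exact ha
    obtain ⟨C, hC⟩ := exists_isCompl_ker (F₁.mkQ) (Submodule.mkQ_surjective F₁)
    rw [Submodule.ker_mkQ] at hC
    exact mem_smul_of_isCompl 𝔫 F₁ C hC h4 (hu (g x))
  · intro hu2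
    have hsub : (𝔫 • F₁ : Submodule R H₁) ≤ F₁ := Submodule.smul_le_right
    apply le_antisymm
    · exact map_tau_le f g hfg F₁ F₂ F hF1 hF2 u (fun y hy => hsub (hu2 y hy))
    · intro x hx
      have h1 := map_tau_le f g hfg F₁ F₂ F hF1 hF2 (-u)
        (fun y hy => by rw [LinearMap.neg_apply]; exact F₁.neg_mem (hsub (hu2 y hy)))
      refine ⟨(LinearMap.id + f ∘ₗ (-u) ∘ₗ g : H →ₗ[R] H) x, h1 ⟨x, hx, rfl⟩, ?_⟩
      have := tau_comp f g hgf (-u) x
      rw [neg_neg] at this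
      exact this

theorem exists_section (F₂ : Submodule R H₂) [Module.Projective R F₂] (F : Submodule R H)
    (hF2 : Submodule.map g F = F₂) :
    ∃ s : F₂ →ₗ[R] H, (∀ y, s y ∈ F) ∧ ∀ y : F₂, g (s y) = y := by
  have hmem : ∀ x : F, g x ∈ F₂ := fun x => by
    rw [← hF2]
    exact ⟨x, x.2, rfl⟩
  let gF : F →ₗ[R] F₂ := (g.domRestrict F).codRestrict F₂ hmem
  have hsurj : Function.Surjective gF := by
    intro y
    have hy : (y : H₂) ∈ Submodule.map g F := by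
      rw [hF2]
      exact y.2
    obtain ⟨x, hx, hxy⟩ := hy
    exact ⟨⟨x, hx⟩, Subtype.ext hxy⟩
  obtain ⟨s, hs⟩ := Module.projective_lifting_property gF LinearMap.id hsurj
  refine ⟨F.subtype ∘ₗ s, fun y => (s y).2, fun y => ?_⟩
  have := LinearMap.congr_fun hs y
  exact congrArg Subtype.val this

theorem part3 (hf : Function.Injective f) (hg : Function.Surjective g)
    (hfg : Function.Exact f g) [Module.Projective R H₂]
    (F₁ : Submodule R H₁) (F₂ : Submodule R H₂) [Module.Projective R (H₂ ⧸ F₂)] (𝔫 : Ideal R)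
    (F F' : Submodule R H)
    (hF1 : F ⊓ LinearMap.range f = Submodule.map f F₁) (hF2 : Submodule.map g F = F₂)
    (hF'1 : F' ⊓ LinearMap.range f = Submodule.map f F₁) (hF'2 : Submodule.map g F' = F₂)
    (hb : Submodule.baseChange (R ⧸ 𝔫) F' = Submodule.baseChange (R ⧸ 𝔫) F) :
    ∃ u : H₂ →ₗ[R] H₁, (∀ y : H₂, u y ∈ 𝔫 • (⊤ : Submodule R H₁)) ∧
      F' = Submodule.map (LinearMap.id + f ∘ₗ u ∘ₗ g) F := by
  classical
  have hgf : ∀ x, g (f x) = 0 := hfg.apply_apply_eq_zero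
  have hker : LinearMap.ker g = LinearMap.range f := hfg.linearMap_ker_eq
  have hle : F' ≤ F ⊔ 𝔫 • (⊤ : Submodule R H) := le_sup_of_baseChange_eq 𝔫 F F' hb
  -- complements
  obtain ⟨C₂, hC₂⟩ := exists_isCompl_ker (F₂.mkQ) (Submodule.mkQ_surjective F₂)
  rw [Submodule.ker_mkQ] at hC₂
  obtain ⟨D, hD⟩ := exists_isCompl_ker g hg
  rw [hker] at hD
  have hprojF₂ : Module.Projective R F₂ :=
    Module.Projective.of_split F₂.subtype (Submodule.projectionOnto F₂ C₂ hC₂)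
      (Submodule.projectionOnto_comp_subtype hC₂)
  have hfF₁F : Submodule.map f F₁ ≤ F := by rw [← hF1]; exact inf_le_left
  have hfF₁F' : Submodule.map f F₁ ≤ F' := by rw [← hF'1]; exact inf_le_left
  obtain ⟨s, hsF, hgs⟩ := exists_section g F₂ F hF2
  obtain ⟨s', hs'F, hgs'⟩ := exists_section g F₂ F' hF'2
  -- the difference lands in range f
  have hδ : ∀ y : F₂, (s' - s) y ∈ LinearMap.range f := by
    intro y
    rw [← hker, LinearMap.mem_ker, LinearMap.sub_apply, map_sub, hgs, hgs', sub_self]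
  let w : F₂ →ₗ[R] H₁ :=
    (LinearEquiv.ofInjective f hf).symm.toLinearMap ∘ₗ ((s' - s).codRestrict (LinearMap.range f) hδ)
  have hfw : ∀ y : F₂, f (w y) = s' y - s y := by
    intro y
    have h1 : (LinearEquiv.ofInjective f hf) (w y) =
        ((s' - s).codRestrict (LinearMap.range f) hδ) y :=
      LinearEquiv.apply_symm_apply _ _
    have h2 := congrArg Subtype.val h1
    exact h2
  -- key claim
  have hw : ∀ y : F₂, w y ∈ F₁ ⊔ 𝔫 • (⊤ : Submodule R H₁) := by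
    intro y
    obtain ⟨x, hx, n, hn, hxn⟩ := Submodule.mem_sup.mp (hle (hs'F y))
    have hgn : g n ∈ 𝔫 • (⊤ : Submodule R H₂) := map_mem_smul_top 𝔫 g hn
    have heF : x - s y ∈ F := F.sub_mem hx (hsF y)
    have hge : g (x - s y) = -g n := by
      have : g (x + n) = y := by rw [hxn, hgs']
      rw [map_add] at this
      rw [map_sub, hgs]
      rw [← this]
      abel
    have hge2 : g (x - s y) ∈ F₂ := by
      have h : g (x - s y) ∈ Submodule.map g F := ⟨_, heF, rfl⟩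
      rw [hF2] at h
      exact h
    have hge3 : g (x - s y) ∈ 𝔫 • F₂ := by
      refine mem_smul_of_isCompl 𝔫 F₂ C₂ hC₂ hge2 ?_
      rw [hge]
      exact Submodule.neg_mem _ hgn
    have hsm : 𝔫 • F₂ = Submodule.map g (𝔫 • F) := by rw [Submodule.map_smul'', hF2]
    rw [hsm] at hge3
    obtain ⟨z, hz, hgz⟩ := hge3
    have hzF : z ∈ F := Submodule.smul_le_right hz
    have hztop : z ∈ 𝔫 • (⊤ : Submodule R H) := Submodule.smul_mono le_rfl le_top hz
    have h1 : x - s y - z ∈ F ⊓ LinearMap.range f := by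
      have h1b : x - s y - z ∈ LinearMap.range f := by
        rw [← hker, LinearMap.mem_ker, map_sub, hgz, sub_self]
      exact Submodule.mem_inf.mpr ⟨F.sub_mem heF hzF, h1b⟩
    rw [hF1] at h1
    obtain ⟨a, ha, hfa⟩ := h1
    have h2 : z + n ∈ LinearMap.range f := by
      refine ⟨w y - a, ?_⟩
      rw [map_sub, hfw, hfa, ← hxn]
      abel
    have h3 : z + n ∈ 𝔫 • LinearMap.range f :=
      mem_smul_of_isCompl 𝔫 _ D hD h2 (Submodule.add_mem _ hztop hn)
    rw [LinearMap.range_eq_map, ← Submodule.map_smul''] at h3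
    obtain ⟨b, hb', hfb⟩ := h3
    have h4 : w y = a + b := by
      apply hf
      rw [map_add, hfw, hfa, hfb, ← hxn]
      abel
    rw [h4]
    exact Submodule.add_mem_sup ha hb'
  -- decompose w
  let N : Submodule R H₁ := 𝔫 • (⊤ : Submodule R H₁)
  let ρ : (F₁ × N) →ₗ[R] H₁ := F₁.subtype.coprod N.subtype
  have hρrange : LinearMap.range ρ = F₁ ⊔ N := by
    rw [LinearMap.range_coprod, Submodule.range_subtype, Submodule.range_subtype]
  have hwρ : ∀ y, w y ∈ LinearMap.range ρ := fun y => by rw [hρrange]; exact hw y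
  obtain ⟨ℓ, hℓ⟩ := Module.projective_lifting_property ρ.rangeRestrict
    (w.codRestrict (LinearMap.range ρ) hwρ) (LinearMap.surjective_rangeRestrict ρ)
  have hℓ' : ∀ y : F₂, ((ℓ y).1 : H₁) + ((ℓ y).2 : H₁) = w y := by
    intro y
    have := congrArg Subtype.val (LinearMap.congr_fun hℓ y)
    exact this
  let w₂ : F₂ →ₗ[R] H₁ := N.subtype ∘ₗ (LinearMap.snd R F₁ N) ∘ₗ ℓ
  have hw₂ : ∀ y : F₂, w₂ y = ((ℓ y).2 : H₁) := fun y => rfl
  let u : H₂ →ₗ[R] H₁ := w₂ ∘ₗ (Submodule.projectionOnto F₂ C₂ hC₂)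
  have hu_apply : ∀ y : F₂, u y = w₂ y := by
    intro y
    show w₂ (Submodule.projectionOnto F₂ C₂ hC₂ y) = w₂ y
    rw [Submodule.projectionOnto_apply_left]
  have hfw₂ : ∀ y : F₂, f (w₂ y) = s' y - s y - f ((ℓ y).1 : H₁) := by
    intro y
    rw [hw₂, ← hfw, ← hℓ' y, map_add]
    abel
  refine ⟨u, fun y => ?_, ?_⟩
  · exact ((ℓ (Submodule.projectionOnto F₂ C₂ hC₂ y)).2).2
  · apply le_antisymm
    · intro x' hx'
      have hy : g x' ∈ F₂ := by
        have h : g x' ∈ Submodule.map g F' := ⟨x', hx', rfl⟩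
        rw [hF'2] at h
        exact h
      set y : F₂ := ⟨g x', hy⟩ with hydef
      have h1 : x' - s' y ∈ F' ⊓ LinearMap.range f := by
        have h1b : x' - s' y ∈ LinearMap.range f := by
          rw [← hker, LinearMap.mem_ker, map_sub, hgs']
          exact sub_self _
        exact Submodule.mem_inf.mpr ⟨F'.sub_mem hx' (hs'F y), h1b⟩
      rw [hF'1] at h1
      obtain ⟨a', ha', hfa'⟩ := h1
      refine ⟨s y + f ((ℓ y).1 : H₁) + f a', ?_, ?_⟩
      · refine F.add_mem (F.add_mem (hsF y) (hfF₁F ⟨_, (ℓ y).1.2, rfl⟩)) (hfF₁F ⟨_, ha', rfl⟩)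
      · show s y + f ((ℓ y).1 : H₁) + f a' + f (u (g (s y + f ((ℓ y).1 : H₁) + f a'))) = x'
        have hgx : g (s y + f ((ℓ y).1 : H₁) + f a') = (y : H₂) := by
          rw [map_add, map_add, hgf, hgf, add_zero, add_zero, hgs]
        rw [hgx, hu_apply, hfw₂, hfa']
        abel
    · rintro _ ⟨x, hx, rfl⟩
      have hy : g x ∈ F₂ := by
        have h : g x ∈ Submodule.map g F := ⟨x, hx, rfl⟩
        rw [hF2] at h
        exact h
      set y : F₂ := ⟨g x, hy⟩ with hydef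
      have h1 : x - s y ∈ F ⊓ LinearMap.range f := by
        have h1b : x - s y ∈ LinearMap.range f := by
          rw [← hker, LinearMap.mem_ker, map_sub, hgs]
          exact sub_self _
        exact Submodule.mem_inf.mpr ⟨F.sub_mem hx (hsF y), h1b⟩
      rw [hF1] at h1
      obtain ⟨a, ha, hfa⟩ := h1
      show x + f (u (g x)) ∈ F'
      have hgx : g x = (y : H₂) := rfl
      rw [hgx, hu_apply, hfw₂]
      have hx_eq : x = s y + f a := by rw [hfa]; abel
      have : x + (s' y - s y - f ((ℓ y).1 : H₁)) = s' y + f a - f ((ℓ y).1 : H₁) := by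
        rw [hx_eq]
        abel
      rw [this]
      exact F'.sub_mem (F'.add_mem (hs'F y) (hfF₁F' ⟨_, ha, rfl⟩)) (hfF₁F' ⟨_, (ℓ y).1.2, rfl⟩)

end

end helpers

open TensorProduct in
/-- For a commutative local Artinian ring R and an exact sequence 0 → H₁ → H → H₂ → 0 of finite free
R-modules, let F₁ ⊆ H₁ and F₂ ⊆ H₂ be submodules with free quotients, 𝔫 an ideal of R of square
zero, R̄ = R/𝔫, and F̄ ⊆ H̄ = R̄ ⊗ H an R̄-submodule with free quotient meeting the image of R̄ ⊗ H₁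
in the image of R̄ ⊗ F₁ and mapping onto the image of R̄ ⊗ F₂; let L be the set of direct summands F
of H with F ∩ H₁ = F₁, with image F̄ in H̄ and with image F₂ in H₂. Then L is a torsor under
Hom_R(F₂, 𝔫(H₁/F₁)), acting as follows: an R-linear u : H₂ → H₁ with u(H₂) ⊆ 𝔫H₁ moves F ∈ L to the
image of F under x ↦ x + f(u(g(x))). Precisely, for F ∈ L: (1) that image again lies in L; (2) it
equals F if and only if u(F₂) ⊆ 𝔫F₁; (3) every F' ∈ L is obtained from F in this way for some such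
u. (The published statement phrases the torsor under the R̄-linear maps from F̄₂ to 𝔫 ⊗ (H̄₁/F̄₁), a
group identified with the maps u as above modulo those with u(F₂) ⊆ 𝔫F₁, and describes the action
through a lift F₂ → 𝔫 ⊗ H₁ composed with F → F/F₁ ≅ F₂; restricted to F this is x ↦ f(u(g(x))).) -/
theorem result
    (R : Type u) [CommRing R] [IsArtinianRing R] [IsLocalRing R]
    (H₁ : Type v) (H : Type v) (H₂ : Type v)
    [AddCommGroup H₁] [Module R H₁] [AddCommGroup H] [Module R H] [AddCommGroup H₂] [Module R H₂]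
    [Module.Free R H₁] [Module.Finite R H₁] [Module.Free R H] [Module.Finite R H]
    [Module.Free R H₂] [Module.Finite R H₂]
    (f : H₁ →ₗ[R] H) (g : H →ₗ[R] H₂) (hf : Function.Injective f) (hg : Function.Surjective g)
    (hfg : Function.Exact f g)
    (F₁ : Submodule R H₁) (F₂ : Submodule R H₂) [Module.Free R (H₁ ⧸ F₁)] [Module.Free R (H₂ ⧸ F₂)]
    (𝔫 : Ideal R) (hn : 𝔫 * 𝔫 = ⊥)
    (Fb : Submodule (R ⧸ 𝔫) ((R ⧸ 𝔫) ⊗[R] H))
    [Module.Free (R ⧸ 𝔫) (((R ⧸ 𝔫) ⊗[R] H) ⧸ Fb)]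
    (h1 : Fb ⊓ LinearMap.range (f.baseChange (R ⧸ 𝔫)) =
      Submodule.map (f.baseChange (R ⧸ 𝔫)) (F₁.baseChange (R ⧸ 𝔫)))
    (h2 : Submodule.map (g.baseChange (R ⧸ 𝔫)) Fb = F₂.baseChange (R ⧸ 𝔫))
    (F F' : Submodule R H)
    (hF : (∃ C : Submodule R H, IsCompl (F) C) ∧
      (F) ⊓ LinearMap.range f = Submodule.map f F₁ ∧
      Submodule.baseChange (R ⧸ 𝔫) (F) = Fb ∧ Submodule.map g (F) = F₂)
    (hF' : (∃ C : Submodule R H, IsCompl (F') C) ∧
      (F') ⊓ LinearMap.range f = Submodule.map f F₁ ∧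
      Submodule.baseChange (R ⧸ 𝔫) (F') = Fb ∧ Submodule.map g (F') = F₂) :
    (∀ u : H₂ →ₗ[R] H₁, (∀ y : H₂, u y ∈ 𝔫 • (⊤ : Submodule R H₁)) →
      (∃ C : Submodule R H, IsCompl (Submodule.map (LinearMap.id + f ∘ₗ u ∘ₗ g) F) C) ∧
      (Submodule.map (LinearMap.id + f ∘ₗ u ∘ₗ g) F) ⊓ LinearMap.range f = Submodule.map f F₁ ∧
      Submodule.baseChange (R ⧸ 𝔫) (Submodule.map (LinearMap.id + f ∘ₗ u ∘ₗ g) F) = Fb ∧ Submodule.map g (Submodule.map (LinearMap.id + f ∘ₗ u ∘ₗ g) F) = F₂) ∧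
    (∀ u : H₂ →ₗ[R] H₁, (∀ y : H₂, u y ∈ 𝔫 • (⊤ : Submodule R H₁)) →
      (Submodule.map (LinearMap.id + f ∘ₗ u ∘ₗ g) F = F ↔ ∀ y ∈ F₂, u y ∈ 𝔫 • F₁)) ∧
    (∃ u : H₂ →ₗ[R] H₁, (∀ y : H₂, u y ∈ 𝔫 • (⊤ : Submodule R H₁)) ∧
      F' = Submodule.map (LinearMap.id + f ∘ₗ u ∘ₗ g) F) := by
  obtain ⟨hFc, hF1, hFb, hF2⟩ := hF
  obtain ⟨hF'c, hF'1, hF'b, hF'2⟩ := hF'
  refine ⟨fun u hu => part1 f g hfg F₁ F₂ 𝔫 Fb F ⟨hFc, hF1, hFb, hF2⟩ u hu,
    fun u hu => part2 f g hf hfg F₁ F₂ 𝔫 F hF1 hF2 u hu, ?_⟩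
  exact part3 f g hf hg hfg F₁ F₂ 𝔫 F F' hF1 hF2 hF'1 hF'2 (hF'b.trans hFb.symm)

end Groth.Agent.S16420
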