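import Groth.Statements.S16421
import Mathlib.FieldTheory.Perfect
import Mathlib.Algebra.CharP.Reduced
import Mathlib.RingTheory.Flat.EquationalCriterion
import Mathlib.RingTheory.Flat.FaithfullyFlat.Basic
import Mathlib.RingTheory.RingHom.Flat
import Mathlib.Tactic
-- import your own Groth.Agent.* helpers here

set_option autoImplicit false
universe u
open FrobAlg

namespace Groth.Agent.S16421

section helpers

variable (R : Type u) [CommRing R] (p : ℕ) [Fact p.Prime] [CharP R p]

noncomputable def psi (N : ℕ) : R →+* PerfectClosure R p :=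
  ((iterateFrobeniusEquiv (PerfectClosure R p) p N).symm : PerfectClosure R p →+* PerfectClosure R p).comp
    (PerfectClosure.of R p)

theorem psi_pow (N : ℕ) (r : R) : (psi R p N r) ^ p ^ N = PerfectClosure.of R p r := by
  have := (iterateFrobeniusEquiv (PerfectClosure R p) p N).apply_symm_apply (PerfectClosure.of R p r)
  rw [iterateFrobeniusEquiv_def] at this
  exact this

theorem pow_inj (N : ℕ) {a b : PerfectClosure R p} (h : a ^ p ^ N = b ^ p ^ N) : a = b :=
  iterateFrobenius_inj (PerfectClosure R p) p N h

theorem mk_eq_psi (N : ℕ) (r : R) : PerfectClosure.mk R p (N, r) = psi R p N r := by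
  apply pow_inj R p N
  rw [psi_pow, ← iterate_frobenius, PerfectClosure.iterate_frobenius_mk]

theorem psi_add_index (N M : ℕ) (r : R) : psi R p N r = psi R p (N + M) (r ^ p ^ M) := by
  apply pow_inj R p (N + M)
  rw [psi_pow, pow_add, pow_mul, psi_pow, map_pow]

theorem of_eq_psi (N : ℕ) (a : R) : PerfectClosure.of R p a = psi R p N (a ^ p ^ N) := by
  apply pow_inj R p N
  rw [psi_pow, map_pow]

theorem exists_psi (y : PerfectClosure R p) : ∃ N r, y = psi R p N r := by
  induction y using PerfectClosure.induction_on with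
  | _ x => exact ⟨x.1, x.2, mk_eq_psi R p x.1 x.2⟩

theorem exists_common (l : ℕ) (x : Fin l → PerfectClosure R p) :
    ∃ N, ∃ r : Fin l → R, ∀ i, x i = psi R p N (r i) := by
  choose n r h using fun i => exists_psi R p (x i)
  refine ⟨Finset.univ.sup n, fun i => (r i) ^ p ^ (Finset.univ.sup n - n i), fun i => ?_⟩
  have hle : n i ≤ Finset.univ.sup n := Finset.le_sup (Finset.mem_univ i)
  rw [h i, psi_add_index R p (n i) (Finset.univ.sup n - n i)]
  congr 2
  omega

theorem psi_injective (hfrob : Function.Injective (frobenius R p)) (N : ℕ) :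
    Function.Injective (psi R p N) := by
  intro a b h
  have h1 : PerfectClosure.of R p a = PerfectClosure.of R p b := by
    rw [← psi_pow R p N a, ← psi_pow R p N b, h]
  rw [PerfectClosure.of_apply, PerfectClosure.of_apply, PerfectClosure.mk_eq_iff] at h1
  obtain ⟨z, hz⟩ := h1
  exact hfrob.iterate _ hz


section frob

def Tw (R : Type u) (_p : ℕ) : Type u := R

instance : CommRing (Tw R p) := inferInstanceAs (CommRing R)

noncomputable instance : Algebra R (Tw R p) := (frobenius R p).toAlgebra

theorem tw_smul_def (r : R) (y : Tw R p) : r • y = (show R from r ^ p * (show R from y)) := rfl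

variable {R p}
variable {ι : Type u} (x : ι → R)

theorem frobenius_injective_of_pBasis
    (hx : Function.Bijective
      (fun c : {e : ι →₀ ℕ // ∀ i, e i < p} →₀ R =>
        c.sum (fun e r => r ^ p * e.1.prod (fun i n => x i ^ n)))) :
    Function.Injective (frobenius R p) := by
  have hp0 : p ≠ 0 := (Fact.out : p.Prime).ne_zero
  let e0 : {e : ι →₀ ℕ // ∀ i, e i < p} := ⟨0, fun i => (Fact.out : p.Prime).pos⟩
  intro a b hab
  have h1 : (Finsupp.single e0 a : {e : ι →₀ ℕ // ∀ i, e i < p} →₀ R) = Finsupp.single e0 b := by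
    apply hx.1
    simp only
    rw [Finsupp.sum_single_index (by simp [hp0]), Finsupp.sum_single_index (by simp [hp0])]
    rw [frobenius_def, frobenius_def] at hab
    rw [hab]
  exact Finsupp.single_injective e0 h1

noncomputable def twLin :
    ({e : ι →₀ ℕ // ∀ i, e i < p} →₀ R) →ₗ[R] Tw R p where
  toFun c := (show R from c.sum (fun e r => r ^ p * e.1.prod (fun i n => x i ^ n)))
  map_add' c d := by
    have hp0 : p ≠ 0 := (Fact.out : p.Prime).ne_zero
    have key : ((c + d).sum (fun e r => r ^ p * e.1.prod (fun i n => x i ^ n)) : R) =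
        (c.sum (fun e r => r ^ p * e.1.prod (fun i n => x i ^ n)) : R) +
          (d.sum (fun e r => r ^ p * e.1.prod (fun i n => x i ^ n)) : R) := by
      rw [Finsupp.sum_add_index']
      · intro e; simp [hp0]
      · intro e r₁ r₂
        rw [add_pow_char, add_mul]
    exact key
  map_smul' r c := by
    have hp0 : p ≠ 0 := (Fact.out : p.Prime).ne_zero
    have key : ((r • c).sum (fun e r => r ^ p * e.1.prod (fun i n => x i ^ n)) : R) =
        r ^ p * (c.sum (fun e r => r ^ p * e.1.prod (fun i n => x i ^ n)) : R) := by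
      rw [Finsupp.sum_smul_index' (by intro e; simp [hp0]), Finsupp.mul_sum]
      refine Finsupp.sum_congr fun e _ => ?_
      rw [smul_eq_mul, mul_pow, mul_assoc]
    exact key

theorem frobenius_flat
    (hx : Function.Bijective
      (fun c : {e : ι →₀ ℕ // ∀ i, e i < p} →₀ R =>
        c.sum (fun e r => r ^ p * e.1.prod (fun i n => x i ^ n)))) :
    (frobenius R p).Flat := by
  have hbij : Function.Bijective (twLin (p := p) x) := hx
  let e := LinearEquiv.ofBijective (twLin (p := p) x) hbij
  have hfree : Module.Free R (Tw R p) := Module.Free.of_equiv e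
  have hflat : Module.Flat R (Tw R p) := inferInstance
  exact hflat

theorem iterateFrobenius_flat
    (hx : Function.Bijective
      (fun c : {e : ι →₀ ℕ // ∀ i, e i < p} →₀ R =>
        c.sum (fun e r => r ^ p * e.1.prod (fun i n => x i ^ n)))) (n : ℕ) :
    (iterateFrobenius R p n).Flat := by
  induction n with
  | zero =>
    rw [iterateFrobenius_zero]
    exact RingHom.Flat.id R
  | succ n ih =>
    have : iterateFrobenius R p (n + 1) = (frobenius R p).comp (iterateFrobenius R p n) := by
      rw [add_comm, iterateFrobenius_add, iterateFrobenius_one]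
    rw [this]
    exact ih.comp (frobenius_flat x hx)

end frob


section main

variable {R p}

theorem tw_trivial {S : Type u} [CommRing S] (φ : R →+* S) (hφ : φ.Flat) {l : ℕ}
    (f : Fin l → R) (x : Fin l → S) (h : ∑ i, φ (f i) * x i = 0) :
    ∃ (k : ℕ) (a : Fin l → Fin k → R) (y : Fin k → S),
      (∀ i, x i = ∑ j, φ (a i j) * y j) ∧ ∀ j, ∑ i, f i * a i j = 0 := by
  letI : Algebra R S := φ.toAlgebra
  have hflat : Module.Flat R S := hφ
  exact Module.Flat.isTrivialRelation_of_sum_smul_eq_zero (R := R) (M := S) (f := f) (x := x) h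

variable {ι : Type u} (x : ι → R)

theorem main
    (hx : Function.Bijective
      (fun c : {e : ι →₀ ℕ // ∀ i, e i < p} →₀ R =>
        c.sum (fun e r => r ^ p * e.1.prod (fun i n => x i ^ n)))) :
    (PerfectClosure.of R p).FaithfullyFlat := by
  have hfrob : Function.Injective (frobenius R p) := frobenius_injective_of_pBasis x hx
  have hpp : ∀ n : ℕ, 0 < p ^ n := fun n => pow_pos (Fact.out : p.Prime).pos n
  letI : Algebra R (PerfectClosure R p) := (PerfectClosure.of R p).toAlgebra
  show Module.FaithfullyFlat R (PerfectClosure R p)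
  have hsmul : ∀ (a : R) (y : PerfectClosure R p), a • y = PerfectClosure.of R p a * y :=
    fun a y => rfl
  have hflat : Module.Flat R (PerfectClosure R p) := by
    apply Module.Flat.of_forall_isTrivialRelation
    intro l f y hfy
    obtain ⟨N, r, hr⟩ := exists_common R p l y
    have h1 : psi R p N (∑ i, iterateFrobenius R p N (f i) * r i) = 0 := by
      rw [map_sum, ← hfy]
      refine Finset.sum_congr rfl fun i _ => ?_
      rw [map_mul, iterateFrobenius_def, ← of_eq_psi, ← hr i, hsmul]
    have h2 : ∑ i, iterateFrobenius R p N (f i) * r i = 0 :=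
      psi_injective R p hfrob N (h1.trans (map_zero _).symm)
    obtain ⟨k, a, z, hra, hfa⟩ :=
      tw_trivial (iterateFrobenius R p N) (iterateFrobenius_flat x hx N) f r h2
    refine ⟨k, a, fun j => psi R p N (z j), fun i => ?_, hfa⟩
    rw [hr i, hra i, map_sum]
    refine Finset.sum_congr rfl fun j _ => ?_
    rw [map_mul, iterateFrobenius_def, ← of_eq_psi, hsmul]
  rw [Module.FaithfullyFlat.iff_flat_and_proper_ideal]
  refine ⟨hflat, fun I hI htop => ?_⟩
  have key : ∀ y ∈ I • (⊤ : Submodule R (PerfectClosure R p)), ∃ N, ∃ r ∈ I, y = psi R p N r := by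
    intro y hy
    refine Submodule.smul_induction_on hy ?_ ?_
    · intro a ha y _
      obtain ⟨N, r, rfl⟩ := exists_psi R p y
      refine ⟨N, a ^ p ^ N * r, I.mul_mem_right _ (I.pow_mem_of_mem ha _ (hpp _)), ?_⟩
      rw [hsmul, map_mul, ← of_eq_psi]
    · rintro y z ⟨N, r, hr, rfl⟩ ⟨M, s, hs, rfl⟩
      refine ⟨N + M, r ^ p ^ M + s ^ p ^ N,
        I.add_mem (I.pow_mem_of_mem hr _ (hpp _)) (I.pow_mem_of_mem hs _ (hpp _)), ?_⟩
      rw [map_add, ← psi_add_index, add_comm N M, ← psi_add_index]
  have h1 : (1 : PerfectClosure R p) ∈ I • (⊤ : Submodule R (PerfectClosure R p)) := by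
    rw [htop]; trivial
  obtain ⟨N, r, hrI, hr⟩ := key 1 h1
  have h2 : r = 1 := psi_injective R p hfrob N (by rw [← hr, map_one])
  rw [h2] at hrI
  exact hI ((Ideal.eq_top_iff_one I).mpr hrI)

end main

end helpers

/-- Let p be a prime and R a commutative ring of characteristic p with a p-basis (x_i), meaning that the
monomials ∏ x_i^(e i) with every exponent e i < p form a basis of R as a module over itself through
the Frobenius, i.e. the map sending a finitely supported family of coefficients c to ∑_e (c e)^p · ∏
x_i^(e i) is a bijection onto R. Then the canonical ring map from R to its perfect closure is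
faithfully flat. -/
theorem result (p : ℕ) [Fact p.Prime]
    (R : Type u) [CommRing R] [CharP R p] (ι : Type u) (x : ι → R)
    (hx : Function.Bijective
      (fun c : {e : ι →₀ ℕ // ∀ i, e i < p} →₀ R =>
        c.sum (fun e r => r ^ p * e.1.prod (fun i n => x i ^ n)))) :
    (PerfectClosure.of R p).FaithfullyFlat := by
  exact main x hx

end Groth.Agent.S16421
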