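import Groth.Statements.S16422
import Mathlib.Algebra.DirectSum.Decomposition
import Mathlib.Algebra.Module.GradedModule
import Mathlib.LinearAlgebra.Finsupp.LinearCombination
import Mathlib.RingTheory.Finiteness.Defs
import Mathlib.Tactic
-- import your own Groth.Agent.* helpers here

set_option autoImplicit false
universe u
open GrMod

namespace Groth.Agent.S16422

open DirectSum

theorem decompose_smul_of_mem
    (S : Type u) [CommRing S] (𝒜 : ℤ → AddSubgroup S) [GradedRing 𝒜]
    (M : Type u) [AddCommGroup M] [Module S M] (ℳ : ℤ → AddSubgroup M)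
    [DirectSum.Decomposition ℳ] [SetLike.GradedSMul 𝒜 ℳ]
    (a : S) (x : M) (d n : ℤ) (hx : x ∈ ℳ d) :
    (DirectSum.decompose ℳ (a • x) n : M) = (DirectSum.decompose 𝒜 a (n - d) : S) • x := by
  induction a using DirectSum.Decomposition.inductionOn 𝒜 with
  | zero => simp
  | @homogeneous k a =>
    have hmem : (a : S) • x ∈ ℳ (k + d) := by
      have := SetLike.GradedSMul.smul_mem (A := 𝒜) (B := ℳ) a.2 hx
      simpa [vadd_eq_add] using this
    by_cases hk : k + d = n
    · subst hk
      rw [DirectSum.decompose_of_mem_same ℳ hmem]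
      have : k + d - d = k := by ring
      rw [this, DirectSum.decompose_of_mem_same 𝒜 a.2]
    · rw [DirectSum.decompose_of_mem_ne ℳ hmem hk]
      have hk' : k ≠ n - d := fun h => hk (by rw [h]; ring)
      rw [DirectSum.decompose_of_mem_ne 𝒜 a.2 hk', zero_smul]
  | add a b ha hb =>
    rw [add_smul, DirectSum.decompose_add, DirectSum.add_apply, AddSubgroup.coe_add, ha, hb,
      DirectSum.decompose_add, DirectSum.add_apply, AddSubgroup.coe_add, add_smul]

theorem key
    (S : Type u) [CommRing S] (𝒜 : ℤ → AddSubgroup S) [GradedRing 𝒜]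
    (M : Type u) [AddCommGroup M] [Module S M] (ℳ : ℤ → AddSubgroup M)
    [DirectSum.Decomposition ℳ] [SetLike.GradedSMul 𝒜 ℳ]
    [Module.Finite S M] [Module.Projective S M] :
    ∃ (ι : Type) (_ : Fintype ι) (d : ι → ℤ) (x : ι → M), (∀ i, x i ∈ ℳ (d i)) ∧
      ∀ (n : ℤ) (y : M), y ∈ ℳ n → ∃ t : ι → S, (∀ i, t i ∈ 𝒜 (n - d i)) ∧
        y = ∑ i, t i • x i ∧
        ∀ I : HomogeneousIdeal 𝒜, y ∈ I.toIdeal • (⊤ : Submodule S M) → ∀ i, t i ∈ I.toIdeal := by
  classical
  obtain ⟨r, s, hs⟩ := Module.Finite.exists_fin (R := S) (M := M)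
  let D : Finset ℤ := Finset.univ.biUnion (fun k : Fin r => (DirectSum.decompose ℳ (s k)).support)
  let ι := Fin r × {j // j ∈ D}
  let d : ι → ℤ := fun i => i.2.1
  let x : ι → M := fun i => (DirectSum.decompose ℳ (s i.1) i.2.1 : M)
  have hx : ∀ i, x i ∈ ℳ (d i) := fun i => SetLike.coe_mem _
  have hspan : Submodule.span S (Set.range x) = ⊤ := by
    rw [eq_top_iff, ← hs, Submodule.span_le]
    rintro _ ⟨k, rfl⟩
    rw [← DirectSum.sum_support_decompose ℳ (s k)]
    refine Submodule.sum_mem _ fun j hj => ?_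
    have hjD : j ∈ D := Finset.mem_biUnion.mpr ⟨k, Finset.mem_univ _, hj⟩
    exact Submodule.subset_span ⟨(k, ⟨j, hjD⟩), rfl⟩
  have hsurj : Function.Surjective (Fintype.linearCombination S x) :=
    (span_range_eq_top_iff_surjective_fintypeLinearCombination (R := S) (v := x)).mp hspan
  obtain ⟨σ, hσ⟩ := Module.projective_lifting_property (Fintype.linearCombination S x)
    (LinearMap.id : M →ₗ[S] M) hsurj
  refine ⟨ι, inferInstance, d, x, hx, fun n y hy => ?_⟩
  refine ⟨fun i => (DirectSum.decompose 𝒜 (σ y i) (n - d i) : S), fun i => SetLike.coe_mem _, ?_, ?_⟩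
  · have h1 : y = ∑ i, (σ y i) • x i := by
      have := LinearMap.congr_fun hσ y
      rw [LinearMap.comp_apply, Fintype.linearCombination_apply] at this
      exact this.symm
    have h2 : (DirectSum.decompose ℳ y n : M) = y := DirectSum.decompose_of_mem_same ℳ hy
    conv_lhs => rw [← h2, h1]
    rw [DirectSum.decompose_sum, DFinsupp.finsetSum_apply, AddSubmonoidClass.coe_finsetSum]
    refine Finset.sum_congr rfl fun i _ => ?_
    exact decompose_smul_of_mem S 𝒜 M ℳ _ _ _ _ (hx i)
  · intro I hyI i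
    have h3 : ∀ z : M, z ∈ I.toIdeal • (⊤ : Submodule S M) → ∀ i, σ z i ∈ I.toIdeal := by
      intro z hz
      refine Submodule.smul_induction_on hz ?_ ?_
      · intro a ha w _ i
        rw [map_smul, Pi.smul_apply, smul_eq_mul]
        exact Ideal.mul_mem_right _ _ ha
      · intro z w hz hw i
        rw [map_add, Pi.add_apply]
        exact Ideal.add_mem _ (hz i) (hw i)
    exact I.isHomogeneous _ (h3 y hyI i)



/-- Let S be a commutative ring graded by ℤ with pieces 𝒜 n, and V a decreasing sequence of homogeneous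
ideals for which S is graded-complete, i.e. for each degree n the map from 𝒜 n to the inverse limit
of the quotients 𝒜 n / (𝒜 n ∩ V m) is bijective (stated as: a degree-n element in every V m
vanishes, and every sequence in 𝒜 n whose consecutive differences lie in the V m has a limit in 𝒜
n). Then every graded S-module M which is finitely generated and projective as an S-module is
graded-complete in the same sense for the submodules V m · M: for each n the map from ℳ n to the
inverse limit of ℳ n / (ℳ n ∩ V m · M) is bijective. -/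
theorem result
    (S : Type u) [CommRing S] (𝒜 : ℤ → AddSubgroup S) [GradedRing 𝒜]
    (V : ℕ → HomogeneousIdeal 𝒜) (hV : ∀ m, (V (m + 1)).toIdeal ≤ (V m).toIdeal)
    (hsep : ∀ (n : ℤ) (s : S), s ∈ 𝒜 n → (∀ m, s ∈ (V m).toIdeal) → s = 0)
    (hcpl : ∀ (n : ℤ) (f : ℕ → S), (∀ m, f m ∈ 𝒜 n) →
      (∀ m, f (m + 1) - f m ∈ (V m).toIdeal) → ∃ s ∈ 𝒜 n, ∀ m, s - f m ∈ (V m).toIdeal)
    (M : Type u) [AddCommGroup M] [Module S M] (ℳ : ℤ → AddSubgroup M)
    [DirectSum.Decomposition ℳ] [SetLike.GradedSMul 𝒜 ℳ]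
    [Module.Finite S M] [Module.Projective S M] :
    (∀ (n : ℤ) (x : M), x ∈ ℳ n → (∀ m, x ∈ (V m).toIdeal • (⊤ : Submodule S M)) → x = 0) ∧
    (∀ (n : ℤ) (g : ℕ → M), (∀ m, g m ∈ ℳ n) →
      (∀ m, g (m + 1) - g m ∈ (V m).toIdeal • (⊤ : Submodule S M)) →
      ∃ x ∈ ℳ n, ∀ m, x - g m ∈ (V m).toIdeal • (⊤ : Submodule S M)) := by
  classical
  obtain ⟨ι, _, d, x, hx, hkey⟩ := key S 𝒜 M ℳ
  constructor
  · intro n y hy hyV
    obtain ⟨t, ht, hyt, htI⟩ := hkey n y hy
    have ht0 : ∀ i, t i = 0 := fun i => hsep (n - d i) (t i) (ht i) (fun m => htI (V m) (hyV m) i)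
    rw [hyt]
    refine Finset.sum_eq_zero fun i _ => ?_
    rw [ht0 i, zero_smul]
  · intro n g hg hgV
    obtain ⟨u, hu, hgu, -⟩ := hkey n (g 0) (hg 0)
    have hstep : ∀ m, ∃ t : ι → S, (∀ i, t i ∈ 𝒜 (n - d i)) ∧
        g (m + 1) - g m = ∑ i, t i • x i ∧ ∀ i, t i ∈ (V m).toIdeal := by
      intro m
      obtain ⟨t, ht, hyt, htI⟩ := hkey n (g (m + 1) - g m) ((ℳ n).sub_mem (hg (m + 1)) (hg m))
      exact ⟨t, ht, hyt, htI (V m) (hgV m)⟩
    choose t ht hgt htV using hstep
    let f : ι → ℕ → S := fun i m => u i + ∑ l ∈ Finset.range m, t l i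
    have hf_mem : ∀ i m, f i m ∈ 𝒜 (n - d i) := fun i m =>
      (𝒜 (n - d i)).add_mem (hu i) ((𝒜 (n - d i)).sum_mem fun l _ => ht l i)
    have hf_step : ∀ i m, f i (m + 1) - f i m ∈ (V m).toIdeal := by
      intro i m
      have : f i (m + 1) - f i m = t m i := by
        simp only [f, Finset.sum_range_succ]
        ring
      rw [this]
      exact htV m i
    have hlim : ∀ i, ∃ s ∈ 𝒜 (n - d i), ∀ m, s - f i m ∈ (V m).toIdeal := fun i =>
      hcpl (n - d i) (f i) (hf_mem i) (hf_step i)
    choose s hs hsV using hlim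
    have hgf : ∀ m, g m = ∑ i, f i m • x i := by
      intro m
      induction m with
      | zero =>
        rw [hgu]
        refine Finset.sum_congr rfl fun i _ => ?_
        simp [f]
      | succ m ih =>
        have : g (m + 1) = g m + (g (m + 1) - g m) := by abel
        rw [this, hgt m, ih, ← Finset.sum_add_distrib]
        refine Finset.sum_congr rfl fun i _ => ?_
        rw [← add_smul]
        congr 1
        simp only [f, Finset.sum_range_succ]
        ring
    refine ⟨∑ i, s i • x i, ?_, fun m => ?_⟩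
    · refine (ℳ n).sum_mem fun i _ => ?_
      have := SetLike.GradedSMul.smul_mem (A := 𝒜) (B := ℳ) (hs i) (hx i)
      rw [vadd_eq_add, sub_add_cancel] at this
      exact this
    · rw [hgf m, ← Finset.sum_sub_distrib]
      refine Submodule.sum_mem _ fun i _ => ?_
      rw [← sub_smul]
      exact Submodule.smul_mem_smul (hsV i m) Submodule.mem_top


end Groth.Agent.S16422
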