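import Groth.Statements.S16424
-- import your own Groth.Agent.* helpers here
import Groth.Agent.Lib.Helper58.FibTF
import Groth.Agent.Lib.Helper58.NormalFam

set_option autoImplicit false
universe u
open CategoryTheory CategoryTheory.Limits AlgebraicGeometry TopologicalSpace
open RhoSh

namespace Groth.Agent.S16424

open Groth.Agent.Lib.Helper58 in

/-- Let X be a smooth, proper, geometrically irreducible scheme over a field k admitting an ample
invertible sheaf, S a k-scheme, and F a finitely presented quasi-coherent module on X ×_k S which is
flat over S and whose pullback to every fibre (X ×_k S)_s is torsion-free. Then F is free of finite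
rank on some open neighbourhood of every point x whose local ring in its fibre has Krull dimension
at most 1. In particular F is locally free on a big open subset of X ×_k S. -/
theorem result
    (k : Type u) [Field k] (X S : Scheme.{u})
    (a : X ⟶ Spec (CommRingCat.of k)) (b : S ⟶ Spec (CommRingCat.of k))
    [Smooth a] [IsProper a] [GeometricallyIrreducible a]
    (hproj : ∃ H : X.Modules, CohB1.IsAmple H)
    (F : (pullback a b).Modules) (hfp : CohB1.IsFP F)
    (hfl : FlatMod.IsFlatOver (pullback.snd a b) F)
    (htf : ∀ s : ↥S, TorSh.IsTorsionFree
      ((Scheme.Modules.pullback ((pullback.snd a b).fiberι s)).obj F))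
    (x : ↥(pullback a b))
    (hx : ringKrullDim ↑(CInt.fiberStalk (pullback.snd a b) x) ≤ 1) :
    ∃ (V : (pullback a b).Opens) (n : ℕ), x ∈ V ∧
      Nonempty (F.restrict V.ι ≅ FlatMod.freeMod (↑V) n) := by
  have hπ : Smooth (pullback.snd a b) := inferInstance
  have hsm : Smooth ((pullback.snd a b).fiberToSpecResidueField ((pullback.snd a b).base x)) :=
    MorphismProperty.pullback_snd _ _ hπ
  have hreg := NormalFam.fibre_stalk_regular (pullback.snd a b) _ hsm
    ((pullback.snd a b).asFiber x)
  exact FibTF.exists_free_nhds (pullback.snd a b) F hfp hfl x hreg hx
    (htf ((pullback.snd a b).base x) ((pullback.snd a b).asFiber x))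

end Groth.Agent.S16424
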