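import Groth.Statements.S16427
-- import your own Groth.Agent.* helpers here
import Groth.Agent.Lib.Helper58.HartogsLoc
import Groth.Agent.Lib.Helper58.BigLocal
import Groth.Agent.Lib.Helper58.RhoShBridge

set_option autoImplicit false
universe u
open CategoryTheory CategoryTheory.Limits AlgebraicGeometry TopologicalSpace
open RhoSh

namespace Groth.Agent.S16427

open Groth.Agent.Lib.Helper58 in

/-- Let X be a smooth, proper, geometrically irreducible scheme over a field k admitting an ample
invertible sheaf, S a k-scheme, and U a big open subset of X ×_k S, i.e. at every point outside U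
the local ring of the fibre over S has Krull dimension at least 2. Let p : Y ⟶ X ×_k S be affine and
of finite type. Then any section s of p over U is the restriction of exactly one section of p over
the whole of X ×_k S. -/
theorem result
    (k : Type u) [Field k] (X S Y : Scheme.{u})
    (a : X ⟶ Spec (CommRingCat.of k)) (b : S ⟶ Spec (CommRingCat.of k))
    [Smooth a] [IsProper a] [GeometricallyIrreducible a]
    (hproj : ∃ H : X.Modules, CohB1.IsAmple H)
    (U : (pullback a b).Opens)
    (hU : ∀ x : ↥(pullback a b), x ∉ U →
      (2 : WithBot ℕ∞) ≤ ringKrullDim ↑(CInt.fiberStalk (pullback.snd a b) x))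
    (p : Y ⟶ pullback a b) [IsAffineHom p] [LocallyOfFiniteType p]
    (s : (U : Scheme.{u}) ⟶ Y) (hs : s ≫ p = U.ι) :
    ∃! t : pullback a b ⟶ Y, t ≫ p = 𝟙 (pullback a b) ∧ U.ι ≫ t = s := by
  have : Subsingleton ↥(Spec (CommRingCat.of k)) :=
    inferInstanceAs (Subsingleton (PrimeSpectrum k))
  have : Nonempty ↥(Spec (CommRingCat.of k)) :=
    inferInstanceAs (Nonempty (PrimeSpectrum k))
  have : IrreducibleSpace X := GeometricallyIrreducible.irreducibleSpace_of_subsingleton a
  have hd := fun y => BigLocal.fibreDimAt_pullback_snd a b y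
  have hbij : HartogsLoc.HartogsBij U := by
    apply HartogsLoc.hartogsBij_of_local
    intro x hx
    obtain ⟨V, hV, hxV, W, hWle, hWc, hdim⟩ :=
      BigLocal.exists_big_local (pullback.snd a b) _ hd U hU x hx
    exact ⟨V, hV, hxV, W, hWle, hWc, fun y hy hyW =>
      RhoShBridge.hasRegPair_stalk_pullback a b y (hdim y hy hyW)⟩
  have h := HartogsLoc.existsUnique_extension_of_hartogsBij U hbij (𝟙 _) p s
    (by rw [hs, Category.comp_id])
  exact h

end Groth.Agent.S16427
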