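import Groth.Statements.S16430
import Mathlib.RingTheory.Etale.StandardEtale
import Mathlib.FieldTheory.PrimitiveElement
import Mathlib.RingTheory.AdjoinRoot
import Mathlib.RingTheory.Ideal.GoingUp
import Mathlib.FieldTheory.IntermediateField.Adjoin.Basic
-- import your own Groth.Agent.* helpers here

set_option autoImplicit false
universe u
open Hensel

namespace Groth.Agent.S16430

open Polynomial

/-- For a Noetherian local ring A with residue field k and a finite separable field extension l of k,
there is a local ring E, finite and etale over A with local structure map, whose residue field is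
k-isomorphic to l. -/
theorem result (A : Type u)
    [CommRing A] [IsLocalRing A] [IsNoetherianRing A] (l : Type u) [Field l]
    [Algebra (IsLocalRing.ResidueField A) l] [FiniteDimensional (IsLocalRing.ResidueField A) l]
    [Algebra.IsSeparable (IsLocalRing.ResidueField A) l] :
    ∃ (E : Type u) (_ : CommRing E) (_ : IsLocalRing E) (_ : Algebra A E)
      (_ : IsLocalHom (algebraMap A E)),
      Module.Finite A E ∧ Algebra.Etale A E ∧
        Nonempty (IsLocalRing.ResidueField E ≃ₐ[IsLocalRing.ResidueField A] l) := by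
  classical
  obtain ⟨α, hα⟩ := Field.exists_primitive_element (IsLocalRing.ResidueField A) l
  have hint : IsIntegral (IsLocalRing.ResidueField A) α := Algebra.IsIntegral.isIntegral α
  have hPbar_monic : (minpoly (IsLocalRing.ResidueField A) α).Monic := minpoly.monic hint
  have hPbar_irr : Irreducible (minpoly (IsLocalRing.ResidueField A) α) := minpoly.irreducible hint
  have hPbar_sep : (minpoly (IsLocalRing.ResidueField A) α).Separable := Algebra.IsSeparable.isSeparable _ α
  obtain ⟨P, hPmap, hPdeg, hPmonic⟩ := Polynomial.lifts_and_natDegree_eq_and_monic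
    (f := IsLocalRing.residue A) (p := minpoly (IsLocalRing.ResidueField A) α)
    ((Polynomial.mem_lifts _).mpr (Polynomial.map_surjective _ IsLocalRing.residue_surjective _)) hPbar_monic
  have hfin : Module.Finite A (AdjoinRoot P) := hPmonic.finite_adjoinRoot
  have hPmap' : P.map (Ideal.Quotient.mk (IsLocalRing.maximalIdeal A)) = minpoly (IsLocalRing.ResidueField A) α := hPmap
  have : Fact (Irreducible (minpoly (IsLocalRing.ResidueField A) α)) := ⟨hPbar_irr⟩
  have hfield : IsField ((A ⧸ IsLocalRing.maximalIdeal A)[X] ⧸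
      Ideal.span ({P.map (Ideal.Quotient.mk (IsLocalRing.maximalIdeal A))} : Set (A ⧸ IsLocalRing.maximalIdeal A)[X])) := by
    rw [hPmap']
    exact Field.toIsField (AdjoinRoot (minpoly (IsLocalRing.ResidueField A) α))
  have hmax : ((IsLocalRing.maximalIdeal A).map (AdjoinRoot.of P)).IsMaximal :=
    Ideal.Quotient.maximal_of_isField _
      ((AdjoinRoot.quotAdjoinRootEquivQuotPolynomialQuot (IsLocalRing.maximalIdeal A) P).toMulEquiv.isField hfield)
  have hloc : IsLocalRing (AdjoinRoot P) := by
    refine IsLocalRing.of_unique_max_ideal ⟨_, hmax, fun M hM => ?_⟩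
    have hint : Algebra.IsIntegral A (AdjoinRoot P) := inferInstance
    have h1 : (M.comap (algebraMap A (AdjoinRoot P))).IsMaximal :=
      Ideal.isMaximal_comap_of_isIntegral_of_isMaximal M
    have h2 := IsLocalRing.eq_maximalIdeal h1
    have h3 : (IsLocalRing.maximalIdeal A).map (AdjoinRoot.of P) ≤ M := by
      rw [Ideal.map_le_iff_le_comap, ← h2]
      rfl
    exact (hmax.eq_of_le hM.ne_top h3).symm
  have hmaxeq : IsLocalRing.maximalIdeal (AdjoinRoot P) = (IsLocalRing.maximalIdeal A).map (AdjoinRoot.of P) :=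
    (IsLocalRing.eq_maximalIdeal hmax).symm
  have hlochom : IsLocalHom (algebraMap A (AdjoinRoot P)) := by
    constructor
    intro a ha
    by_contra hna
    have h1 : a ∈ IsLocalRing.maximalIdeal A := (IsLocalRing.mem_maximalIdeal a).mpr hna
    have h2 : algebraMap A (AdjoinRoot P) a ∈ IsLocalRing.maximalIdeal (AdjoinRoot P) := by
      rw [hmaxeq]
      exact Ideal.mem_map_of_mem _ h1
    exact (IsLocalRing.mem_maximalIdeal _).mp h2 ha
  have hunit : IsUnit (AdjoinRoot.mk P (derivative P)) := by
    by_contra hnu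
    have h1 : AdjoinRoot.mk P (derivative P) ∈ IsLocalRing.maximalIdeal (AdjoinRoot P) :=
      (IsLocalRing.mem_maximalIdeal _).mpr hnu
    rw [hmaxeq, ← Ideal.Quotient.eq_zero_iff_mem] at h1
    have h2 := congrArg (AdjoinRoot.quotAdjoinRootEquivQuotPolynomialQuot (IsLocalRing.maximalIdeal A) P) h1
    rw [AdjoinRoot.quotAdjoinRootEquivQuotPolynomialQuot_mk_of, map_zero,
      Ideal.Quotient.eq_zero_iff_mem, Ideal.mem_span_singleton, ← Polynomial.derivative_map, hPmap'] at h2
    have h3 : IsCoprime (minpoly (IsLocalRing.ResidueField A) α) (derivative (minpoly (IsLocalRing.ResidueField A) α)) := hPbar_sep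
    exact hPbar_irr.not_isUnit (h3.isUnit_of_dvd' (dvd_refl _) h2)
  have hetale : Algebra.Etale A (AdjoinRoot P) := by
    obtain ⟨y, hy⟩ := hunit.exists_right_inv
    obtain ⟨q, rfl⟩ := AdjoinRoot.mk_surjective y
    have h1 : AdjoinRoot.mk P (derivative P * q - 1) = 0 := by
      rw [map_sub, map_mul, hy, map_one, sub_self]
    rw [AdjoinRoot.mk_eq_zero] at h1
    obtain ⟨c, hc⟩ := h1
    let Pair : StandardEtalePair A :=
      ⟨P, hPmonic, 1, q, -c, 0, by rw [pow_zero, mul_neg, ← hc]; ring⟩
    let e2 : AdjoinRoot P ≃ₐ[AdjoinRoot P] Localization.Away (AdjoinRoot.mk P (1 : A[X])) :=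
      IsLocalization.atUnits (AdjoinRoot P) (Submonoid.powers (AdjoinRoot.mk P (1 : A[X]))) (by
        rintro x ⟨n, rfl⟩
        simp only [map_one, one_pow]
        exact isUnit_one)
    have e3 : Pair.Ring ≃ₐ[A] AdjoinRoot P :=
      Pair.equivAwayAdjoinRoot.trans (e2.restrictScalars A).symm
    exact Algebra.Etale.of_equiv e3
  have hroot : P.eval₂ ((algebraMap (IsLocalRing.ResidueField A) l).comp (IsLocalRing.residue A)) α = 0 := by
    rw [← Polynomial.eval₂_map, hPmap]
    exact minpoly.aeval _ α
  let φ : AdjoinRoot P →+* l :=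
    AdjoinRoot.lift ((algebraMap (IsLocalRing.ResidueField A) l).comp (IsLocalRing.residue A)) α hroot
  have hφ : ∀ x ∈ IsLocalRing.maximalIdeal (AdjoinRoot P), φ x = 0 := by
    rw [hmaxeq]
    intro x hx
    have : (IsLocalRing.maximalIdeal A).map (AdjoinRoot.of P) ≤ RingHom.ker φ := by
      rw [Ideal.map_le_iff_le_comap]
      intro a ha
      rw [Ideal.mem_comap, RingHom.mem_ker, AdjoinRoot.lift_of, RingHom.comp_apply,
        (IsLocalRing.residue_eq_zero_iff a).mpr ha, map_zero]
    exact this hx
  let ψ : IsLocalRing.ResidueField (AdjoinRoot P) →+* l :=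
    Ideal.Quotient.lift (IsLocalRing.maximalIdeal (AdjoinRoot P)) φ hφ
  let ψa : IsLocalRing.ResidueField (AdjoinRoot P) →ₐ[IsLocalRing.ResidueField A] l :=
    { ψ with
      commutes' := by
        intro c
        obtain ⟨a, rfl⟩ := IsLocalRing.residue_surjective c
        show ψ (algebraMap _ _ (IsLocalRing.residue A a)) = _
        rw [IsLocalRing.ResidueField.algebraMap_residue]
        show φ (AdjoinRoot.of P a) = _
        rw [AdjoinRoot.lift_of]
        rfl }
  have hψinj : Function.Injective ψa := RingHom.injective ψ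
  have hψsurj : Function.Surjective ψa := by
    intro y
    have h1 : Algebra.adjoin (IsLocalRing.ResidueField A) {α} = ⊤ := by
      rw [← IntermediateField.adjoin_simple_toSubalgebra_of_isAlgebraic hint.isAlgebraic, hα]
      rfl
    have h2 : y ∈ Algebra.adjoin (IsLocalRing.ResidueField A) {α} := by rw [h1]; trivial
    rw [Algebra.adjoin_singleton_eq_range_aeval] at h2
    obtain ⟨q, hq⟩ := h2
    obtain ⟨q', rfl⟩ := Polynomial.map_surjective _ IsLocalRing.residue_surjective q
    refine ⟨IsLocalRing.residue _ (AdjoinRoot.mk P q'), ?_⟩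
    show φ (AdjoinRoot.mk P q') = y
    rw [AdjoinRoot.lift_mk, ← Polynomial.eval₂_map]
    exact hq
  exact ⟨AdjoinRoot P, inferInstance, hloc, inferInstance, hlochom, hfin, hetale,
    ⟨AlgEquiv.ofBijective ψa ⟨hψinj, hψsurj⟩⟩⟩

end Groth.Agent.S16430
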