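import Groth.Statements.S16431
import Groth.Agent.S9237
import Groth.Agent.S9238
import Groth.Agent.S14438
import Groth.Agent.Lib.Helper56.ShTower
import Groth.Agent.Lib.Helper56.ShRhs
import Groth.Agent.Lib.Helper56.ShLhs
import Groth.Agent.Lib.Helper56.DeltaMain
import Groth.Agent.Lib.Helper67.QENagata
import Groth.Agent.Lib.Helper87.GeomBranchCount2

set_option autoImplicit false
universe u
open Hensel

namespace Groth.Agent.S16431

/-- Let A be an excellent reduced local ring with residue field k, let A' be the integral closure of A
in its total ring of fractions, let A^h be a henselization and A^hs a strict henselization of A, and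
let A^h → A^hs be the A-algebra map between them (it is the unique one). Then the residue field of
A' at every maximal ideal is purely inseparable over k — every element has some p^n-th power in the
image of A, p the characteristic exponent — if and only if every minimal prime ideal of A^hs is
generated by its contraction to A^h. -/
theorem result
    (A Ah Ash : Type u) [CommRing A] [IsLocalRing A] [IsReduced A] (hA : EGA4.IsExcellent A)
    [CommRing Ah] [IsLocalRing Ah] [Algebra A Ah] [IsLocalHom (algebraMap A Ah)]
    [Hensel.IsHenselization A Ah]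
    [CommRing Ash] [IsLocalRing Ash] [Algebra A Ash] [IsLocalHom (algebraMap A Ash)]
    [Hensel.IsStrictHenselization A Ash] [Algebra Ah Ash] [IsScalarTower A Ah Ash] :
    (∀ (M : Ideal (integralClosure A (FractionRing A))) [M.IsMaximal], ∀ x : (integralClosure A (FractionRing A)) ⧸ M, ∃ n : ℕ,
        x ^ (ringExpChar ((integralClosure A (FractionRing A)) ⧸ M)) ^ n ∈
          ((Ideal.Quotient.mk M).comp (algebraMap A (integralClosure A (FractionRing A)))).range) ↔
      (∀ Q ∈ minimalPrimes Ash, Q = Ideal.map (algebraMap Ah Ash) (Q.comap (algebraMap Ah Ash))) := by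
  have hN : CAlg.IsNagata A :=
    Groth.Agent.Lib.Helper67.RegLocus.isNagata_of_isQuasiExcellent A ⟨hA.1, hA.2.2.1, hA.2.2.2⟩
  haveI : IsNoetherianRing A := hA.1
  haveI hfinA' : Module.Finite A (integralClosure A (FractionRing A)) :=
    Groth.Agent.Lib.Helper56.DeltaMain.finite_integralClosure A hN
  haveI hfinN : Module.Finite A (CAlg2.normRed A) :=
    Module.Finite.equiv (Groth.Agent.Lib.Helper56.ShLhs.normAlgEquiv A).toLinearEquiv
  haveI hfinMax : Finite (MaximalSpectrum (CAlg2.normRed A)) :=
    Groth.Agent.S14438.finite_maximalSpectrum_of_finite A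
  haveI : IsLocalHom (algebraMap Ah Ash) := Groth.Agent.Lib.Helper56.ShTower.isLocalHom_tower A Ah Ash
  haveI : Hensel.IsStrictHenselization Ah Ash :=
    Groth.Agent.Lib.Helper56.ShTower.isStrictHenselization_tower A Ah Ash
  have hminA : (minimalPrimes A).Finite := minimalPrimes.finite_of_isNoetherianRing A
  have hB : Brnch.numBranches A = ENat.card (MaximalSpectrum (CAlg2.normRed A)) := by
    unfold Brnch.numBranches
    rw [if_pos hminA]
  have hG : Brnch.numGeomBranches A =
      ENat.card (Σ m' : MaximalSpectrum (CAlg2.normRed A),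
        Groth.Agent.Lib.Helper87.GeomBranchCount.EmbB A (CAlg2.normRed A) m') := by
    unfold Brnch.numGeomBranches
    rw [if_pos hminA, Groth.Agent.Lib.Helper87.GeomBranchCount.card_sigma_emb]
  have h1 := Groth.Agent.S9237.result A Ah
  have h2 := Groth.Agent.S9238.result A Ash
  have hfinAh : (minimalPrimes Ah).Finite := by
    rw [← Set.finite_coe_iff]
    by_contra hinf
    rw [not_finite_iff_infinite] at hinf
    rw [ENat.card_eq_top_of_infinite, hB, ENat.card_eq_coe_natCard] at h1
    exact ENat.top_ne_natCast _ h1
  rw [Groth.Agent.Lib.Helper56.ShRhs.extended_iff_card Ah Ash hfinAh, h1, h2, hB, hG,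
    ← Groth.Agent.Lib.Helper56.ShLhs.subsingleton_iff_card A (CAlg2.normRed A),
    ← Groth.Agent.Lib.Helper56.ShLhs.piCond_iff_subsingleton A (CAlg2.normRed A),
    ← Groth.Agent.Lib.Helper56.ShLhs.piCond_iff A]
  rfl

end Groth.Agent.S16431
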