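import Groth.Statements.S16432
import Groth.Agent.Lib.Helper69.HensNormalMain

set_option autoImplicit false
universe u
open EGA4loc

namespace Groth.Agent.S16432

/-- Let A be an excellent normal local domain and S a strict henselization of A; let D be an
A-subalgebra of S which is a local ring dominated by S (the inclusion is a local homomorphism), an
integrally closed domain, and whose fraction field is generated as a field over the image of A by
finitely many elements of D. Then D is an essentially etale local A-algebra: A-isomorphic to the
localization of an etale A-algebra at a prime ideal over the maximal ideal of A. -/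
theorem result
    (A S : Type u) [CommRing A] [IsLocalRing A] [IsDomain A] [IsIntegrallyClosed A]
    (hA : EGA4.IsExcellent A) [CommRing S] [IsLocalRing S] [Algebra A S] [IsLocalHom (algebraMap A S)]
    [Hensel.IsStrictHenselization A S] (D : Subalgebra A S) [IsLocalRing D]
    [IsLocalHom (algebraMap D S)] [IsDomain D] [IsIntegrallyClosed D]
    (hfg : ∃ s : Finset D, Subfield.closure (Set.range (algebraMap A (FractionRing D)) ∪
        (algebraMap D (FractionRing D)) '' (s : Set D)) = ⊤) :
    EGA4loc.IsEssentiallyEtale A D := by
  classical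
  obtain ⟨hNoeth, -, -, -⟩ := hA
  haveI : IsNoetherianRing A := hNoeth
  obtain ⟨hdomS, hicS⟩ := Groth.Agent.Lib.Helper69.HensNormalMain.normal_strict A S
  haveI := hdomS
  haveI := hicS
  obtain ⟨s₀, hs₀⟩ := hfg
  let s : Finset S := s₀.image (fun d : D => (d : S))
  have hs : (s : Set S) ⊆ (D : Set S) := by
    intro x hx
    obtain ⟨d, -, rfl⟩ := Finset.mem_image.mp (Finset.mem_coe.mp hx)
    exact d.2
  obtain ⟨D', hD', hloc', hDS', hEt', σ, hσint, hσ⟩ :=
    Groth.Agent.Lib.Helper69.HensNormalMain.main A S s
  have h1 : D' ≤ D :=
    Groth.Agent.Lib.Helper69.HensNormalMain.le_of_isIntegrallyClosed D D' s hs hD' σ hσint hσ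
  have h2 : D ≤ D' := by
    intro x hx
    rw [hD']
    let j := Groth.Agent.Lib.Helper69.HensNormalMain.fracEmb D
    set L : Subfield (FractionRing S) := Subfield.closure
      (Set.range (algebraMap A (FractionRing S)) ∪
        (algebraMap S (FractionRing S)) '' (s : Set S)) with hL
    have hle : Subfield.closure (Set.range (algebraMap A (FractionRing D)) ∪
        (algebraMap D (FractionRing D)) '' (s₀ : Set D)) ≤ L.comap j := by
      rw [Subfield.closure_le]
      rintro w (⟨a, rfl⟩ | ⟨d, hd, rfl⟩)
      · change j (algebraMap A (FractionRing D) a) ∈ L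
        rw [IsScalarTower.algebraMap_apply A D (FractionRing D),
          Groth.Agent.Lib.Helper69.HensNormalMain.fracEmb_algebraMap]
        refine Subfield.subset_closure (Or.inl ⟨a, ?_⟩)
        exact IsScalarTower.algebraMap_apply A S (FractionRing S) a
      · change j (algebraMap D (FractionRing D) d) ∈ L
        rw [Groth.Agent.Lib.Helper69.HensNormalMain.fracEmb_algebraMap]
        refine Subfield.subset_closure (Or.inr ⟨(d : S), ?_, rfl⟩)
        exact Finset.mem_coe.mpr (Finset.mem_image.mpr ⟨d, Finset.mem_coe.mp hd, rfl⟩)
    rw [hs₀] at hle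
    have h3 : algebraMap D (FractionRing D) ⟨x, hx⟩ ∈ L.comap j := hle trivial
    have h4 : j (algebraMap D (FractionRing D) ⟨x, hx⟩) ∈ L := h3
    rw [Groth.Agent.Lib.Helper69.HensNormalMain.fracEmb_algebraMap] at h4
    exact h4
  have heq : D = D' := le_antisymm h2 h1
  exact Groth.Agent.Lib.Helper69.HensStage.isEssentiallyEtale_of_algEquiv
    (Subalgebra.equivOfEq D D' heq) hEt'


end Groth.Agent.S16432
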