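import Groth.Statements.S16433
import Groth.Agent.Lib.Helper69.HensNormalMain

set_option autoImplicit false
universe u
open EGA4loc

namespace Groth.Agent.S16433

/-- Let A be an excellent normal local domain and S a strict henselization of A; let D be an
A-subalgebra of S which is a local ring dominated by S (the inclusion is a local homomorphism) and
an integrally closed domain. Then D is a directed union of local etale extensions of A: every finite
subset of D is contained in an A-subalgebra D' of S with D' contained in D, D' a local ring whose
inclusion into S is local, and D' an essentially etale local A-algebra (a localization of an etale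
A-algebra at a prime over the maximal ideal). -/
theorem result
    (A S : Type u) [CommRing A] [IsLocalRing A] [IsDomain A] [IsIntegrallyClosed A]
    (hA : EGA4.IsExcellent A) [CommRing S] [IsLocalRing S] [Algebra A S] [IsLocalHom (algebraMap A S)]
    [Hensel.IsStrictHenselization A S] (D : Subalgebra A S) [IsLocalRing D]
    [IsLocalHom (algebraMap D S)] [IsDomain D] [IsIntegrallyClosed D]
    (s : Finset S) (hs : (s : Set S) ⊆ (D : Set S)) :
    ∃ D' : Subalgebra A S, D' ≤ D ∧ (s : Set S) ⊆ (D' : Set S) ∧
      ∃ _ : IsLocalRing D', IsLocalHom (algebraMap D' S) ∧ EGA4loc.IsEssentiallyEtale A D' := by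
  classical
  obtain ⟨hNoeth, -, -, -⟩ := hA
  haveI : IsNoetherianRing A := hNoeth
  obtain ⟨hdomS, hicS⟩ := Groth.Agent.Lib.Helper69.HensNormalMain.normal_strict A S
  haveI := hdomS
  haveI := hicS
  obtain ⟨D', hD', hloc', hDS', hEt', σ, hσint, hσ⟩ :=
    Groth.Agent.Lib.Helper69.HensNormalMain.main A S s
  refine ⟨D', ?_, ?_, hloc', hDS', hEt'⟩
  · exact Groth.Agent.Lib.Helper69.HensNormalMain.le_of_isIntegrallyClosed D D' s hs hD' σ hσint hσ
  · intro x hx
    rw [SetLike.mem_coe, hD']
    exact Subfield.subset_closure (Or.inr ⟨x, hx, rfl⟩)


end Groth.Agent.S16433
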