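import Groth.Statements.S16434
import Groth.Agent.Lib.Helper69.HensStage2
import Groth.Agent.Lib.Helper69.HensSubfield
import Groth.Agent.Lib.Helper69.HensQFinite
import Groth.Agent.S16438

set_option autoImplicit false
universe u
open EGA4loc

namespace Groth.Agent.S16434

/-- Let A be an excellent henselian local domain such that a strict henselization S of A is again a
domain, let K be the fraction field of S, and let L be the subfield of K generated over the image of
A by a finite subset t of K (so L is an intermediate field between the fraction fields of A and of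
S, finitely generated over the former). Then the intersection of L with S is (the underlying set of)
an A-subalgebra D of S which is a local ring with local inclusion into S and which is an essentially
etale local A-algebra: A-isomorphic to the localization of an etale A-algebra at a prime over the
maximal ideal. -/
theorem result
    (A S : Type u) [CommRing A] [HenselianLocalRing A] [IsDomain A] (hA : EGA4.IsExcellent A)
    [CommRing S] [IsLocalRing S] [Algebra A S] [IsLocalHom (algebraMap A S)]
    [Hensel.IsStrictHenselization A S] [IsDomain S] (t : Finset (FractionRing S)) :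
    ∃ D : Subalgebra A S, (D : Set S) = (algebraMap S (FractionRing S)) ⁻¹'
        (Subfield.closure (Set.range (algebraMap A (FractionRing S)) ∪ (t : Set (FractionRing S))) :
          Set (FractionRing S)) ∧
      ∃ _ : IsLocalRing D, IsLocalHom (algebraMap D S) ∧ EGA4loc.IsEssentiallyEtale A D := by
  classical
  obtain ⟨hNoeth, -, -, -⟩ := hA
  haveI : IsNoetherianRing A := hNoeth
  have hS : Hensel.IsStrictHenselization A S := inferInstance
  let ι : S →+* FractionRing S := algebraMap S (FractionRing S)
  have hι : Function.Injective ι := IsFractionRing.injective S (FractionRing S)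
  set L : Subfield (FractionRing S) := Subfield.closure (Set.range (algebraMap A (FractionRing S)) ∪ (t : Set (FractionRing S))) with hL
  have hAL : ∀ a : A, algebraMap A (FractionRing S) a ∈ L := fun a => Subfield.subset_closure (Or.inl ⟨a, rfl⟩)
  let L' : Subalgebra A (FractionRing S) := { L.toSubring.toSubsemiring with algebraMap_mem' := hAL }
  let D : Subalgebra A S := L'.comap (IsScalarTower.toAlgHom A S (FractionRing S))
  have hD : ∀ x : S, x ∈ D ↔ ι x ∈ L := fun x => Iff.rfl
  have key : ∀ d : D, IsUnit (d : S) → IsUnit d := by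
    rintro ⟨d, hd⟩ hu
    obtain ⟨u, rfl⟩ := hu
    have hinv : ((u⁻¹ : Sˣ) : S) ∈ D := by
      rw [hD]
      have h1 : ι ((u⁻¹ : Sˣ) : S) = (ι (u : S))⁻¹ := by
        refine eq_inv_of_mul_eq_one_right ?_
        rw [← map_mul]; simp
      rw [h1]
      exact L.inv_mem ((hD _).mp hd)
    refine ⟨⟨⟨(u : S), hd⟩, ⟨((u⁻¹ : Sˣ) : S), hinv⟩, ?_, ?_⟩, rfl⟩
    · exact Subtype.ext (by simp)
    · exact Subtype.ext (by simp)
  have hlocal : IsLocalRing D := by
    refine IsLocalRing.of_isUnit_or_isUnit_one_sub_self fun a => ?_
    rcases IsLocalRing.isUnit_or_isUnit_one_sub_self (a : S) with h | h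
    · exact Or.inl (key a h)
    · exact Or.inr (key (1 - a) (by simpa using h))
  have hDS : IsLocalHom (algebraMap D S) := ⟨fun a ha => key a ha⟩
  refine ⟨D, Set.ext fun x => Iff.rfl, hlocal, hDS, ?_⟩
  -- stage
  let num : (FractionRing S) → S := fun y => (IsLocalization.sec (nonZeroDivisors S) y).1
  let den : (FractionRing S) → S := fun y => ((IsLocalization.sec (nonZeroDivisors S) y).2 : S)
  have hsec : ∀ y, y * ι (den y) = ι (num y) := fun y => IsLocalization.sec_spec _ y
  have hden : ∀ y, den y ∈ nonZeroDivisors S :=
    fun y => (IsLocalization.sec (nonZeroDivisors S) y).2.2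
  let σ : Finset S := t.image num ∪ t.image den
  obtain ⟨E, hσE, hlocE, hE_local, hE⟩ := Groth.Agent.Lib.Helper69.HensStage2.exists_stage A S σ
  obtain ⟨hQF, hFl, hEF, hFU⟩ :=
    Groth.Agent.Lib.Helper69.HensStage2.props_of_isEssentiallyEtale A E hE
  let KE : Subfield (FractionRing S) := Subfield.closure (ι '' (E : Set S))
  have hLKE : L ≤ KE := by
    rw [hL, Subfield.closure_le]
    rintro y (⟨a, rfl⟩ | hy)
    · refine Subfield.subset_closure ⟨algebraMap A S a, E.algebraMap_mem a, ?_⟩
      exact (IsScalarTower.algebraMap_apply A S (FractionRing S) a).symm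
    · have hy' : y ∈ t := Finset.mem_coe.mp hy
      have hn : ι (num y) ∈ KE := Subfield.subset_closure
        ⟨num y, hσE _ (Finset.mem_union_left _ (Finset.mem_image_of_mem _ hy')), rfl⟩
      have hd : ι (den y) ∈ KE := Subfield.subset_closure
        ⟨den y, hσE _ (Finset.mem_union_right _ (Finset.mem_image_of_mem _ hy')), rfl⟩
      have hd0 : ι (den y) ≠ 0 := by
        intro h0
        have h1 : den y = 0 := hι (h0.trans (map_zero ι).symm)
        exact nonZeroDivisors.ne_zero (hden y) h1
      have hyq : y = ι (num y) / ι (den y) := by rw [← hsec y]; field_simp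
      change y ∈ KE
      rw [hyq]; exact KE.div_mem hn hd
  have hDE : D ≤ E := by
    intro x hx
    have hxKE : ι x ∈ KE := hLKE ((hD x).mp hx)
    rw [Subfield.mem_closure_iff] at hxKE
    obtain ⟨y, hy, z, hz, hyz⟩ := hxKE
    have hcl : ∀ w ∈ Subring.closure (ι '' (E : Set S)), ∃ e ∈ E, ι e = w := by
      intro w hw
      have hle : Subring.closure (ι '' (E : Set S)) ≤ (E.toSubring.map ι) :=
        Subring.closure_le.mpr (by rintro _ ⟨e, he, rfl⟩; exact ⟨e, he, rfl⟩)
      obtain ⟨e, he, rfl⟩ := hle hw
      exact ⟨e, he, rfl⟩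
    obtain ⟨e₁, he₁, rfl⟩ := hcl y hy
    obtain ⟨e₂, he₂, rfl⟩ := hcl z hz
    by_cases h0 : e₂ = 0
    · rw [h0, map_zero, div_zero] at hyz
      have hx0 : x = 0 := hι (hyz.symm.trans (map_zero ι).symm)
      rw [hx0]; exact E.zero_mem
    · have h1 : e₂ * x = e₁ := by
        apply hι
        rw [map_mul, ← hyz]
        have : ι e₂ ≠ 0 := fun h => h0 (hι (h.trans (map_zero ι).symm))
        field_simp
      refine Groth.Agent.Lib.Helper69.HensStage2.mem_of_mul_mem A S E hE hlocE e₂ x he₂
        (mem_nonZeroDivisors_of_ne_zero h0) ?_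
      rw [h1]; exact he₁
  -- E finite over A
  have hfinE : Module.Finite A E := by
    obtain ⟨C, _, _, q, _, hEt, hq, ⟨e⟩⟩ := hE
    haveI : q.LiesOver (IsLocalRing.maximalIdeal A) := ⟨hq.symm⟩
    haveI : Algebra.FiniteType A C := inferInstance
    haveI : Algebra.QuasiFinite A C := inferInstance
    haveI : Algebra.QuasiFiniteAt A q := inferInstance
    have := Groth.Agent.Lib.Helper69.HensQFinite.finite_atPrime_of_quasiFiniteAt A C q
    exact Module.Finite.equiv e.symm.toLinearEquiv
  haveI hAE : IsLocalHom (algebraMap A E) := ⟨fun a ha => by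
    have h1 : IsUnit (algebraMap E S (algebraMap A E a)) := ha.map _
    rw [← IsScalarTower.algebraMap_apply A E S] at h1
    exact isUnit_of_map_unit (algebraMap A S) a h1⟩
  obtain ⟨θE, f, hf_monic, hfθ, hf_sep, hadj⟩ :=
    Groth.Agent.Lib.Helper69.HensSplitRoots.exists_monogenic A E
  haveI hSh : HenselianLocalRing S := hS.henselian
  haveI hsc : IsSepClosed (IsLocalRing.ResidueField S) := hS.isSepClosure.sep_closed
  have hfS_sep : ((f.map (algebraMap A S)).map (IsLocalRing.residue S)).Separable := by
    have h1 : (f.map (algebraMap A S)).map (IsLocalRing.residue S) =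
        (f.map (IsLocalRing.residue A)).map
          (algebraMap (IsLocalRing.ResidueField A) (IsLocalRing.ResidueField S)) := by
      rw [Polynomial.map_map, Polynomial.map_map]; rfl
    rw [h1]; exact hf_sep.map
  obtain ⟨m, hm⟩ := Groth.Agent.Lib.Helper69.HensSplitRoots.exists_multiset_roots S _
    (f.map (algebraMap A S)) (hf_monic.map _) rfl hfS_sep
  set θ : S := (θE : S) with hθdef
  have hfθS : Polynomial.aeval θ f = 0 := by
    have h1 := congrArg (algebraMap E S) hfθ
    rw [map_zero, ← Polynomial.aeval_algebraMap_apply] at h1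
    exact h1
  have hgen : ∀ e : S, e ∈ E → ∃ p : Polynomial A, Polynomial.aeval θ p = e := by
    intro e he
    have h1 : (⟨e, he⟩ : E) ∈ Algebra.adjoin A {θE} := by rw [hadj]; trivial
    rw [Algebra.adjoin_singleton_eq_range_aeval] at h1
    obtain ⟨p, hp⟩ := h1
    refine ⟨p, ?_⟩
    have hp' : Polynomial.aeval θE p = ⟨e, he⟩ := hp
    have h2 := congrArg (algebraMap E S) hp'
    rw [← Polynomial.aeval_algebraMap_apply] at h2
    exact h2
  obtain ⟨g, hg_monic, hg_pos, hgθ, hmin⟩ :=
    Groth.Agent.Lib.Helper69.HensSubfield.exists_minimal_monic L hAL D hD θ f hf_monic hfθS m hm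
  haveI hAD : IsLocalHom (algebraMap A D) := ⟨fun a ha => by
    have h1 : IsUnit (algebraMap D S (algebraMap A D a)) := ha.map _
    rw [← IsScalarTower.algebraMap_apply A D S] at h1
    exact isUnit_of_map_unit (algebraMap A S) a h1⟩
  have hmD : Ideal.map (algebraMap A D) (IsLocalRing.maximalIdeal A) =
      IsLocalRing.maximalIdeal D := by
    apply le_antisymm
    · exact IsLocalRing.map_maximalIdeal_le (algebraMap A D)
    · intro x hx
      apply Groth.Agent.Lib.Helper69.HensSubfield.mem_map_of_mem_map D E hDE θ hgen g hg_monic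
        hg_pos hgθ hmin x
      rw [Algebra.FormallyUnramified.map_maximalIdeal (R := A) (S := E),
        IsLocalRing.mem_maximalIdeal, mem_nonunits_iff]
      intro hu
      have h1 : IsUnit (x : S) := hu.map (algebraMap E S)
      exact hx (key x h1)
  haveI : Module.Finite A D := by
    haveI : IsNoetherian A E := isNoetherian_of_isNoetherianRing_of_finite A E
    exact Module.Finite.of_injective (Subalgebra.inclusion hDE).toLinearMap
      (Subalgebra.inclusion_injective hDE)
  haveI : Algebra.EssFiniteType A D := inferInstance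
  exact Groth.Agent.S16438.result A S D hmD


end Groth.Agent.S16434
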