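import Groth.Statements.S16441
import Groth.Agent.Lib.Helper69.HensStage2
import Groth.Agent.Lib.Helper69.TotFrac2

set_option autoImplicit false
universe u
open EGA4loc

namespace Groth.Agent.S16441

/-- Let A be a reduced local ring with finitely many minimal prime ideals, S a strict henselization of
A, and D an A-subalgebra of S which is a local ring dominated by S (local inclusion). Then the total
ring of fractions K_D of D is finitely generated over that of A — there is a finite subset t of K_D
such that every element of K_D, multiplied by (the image of) some non-zero-divisor of A, is a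
polynomial expression in t with coefficients from A — if and only if D is contained in some
A-subalgebra E of S which is a local ring and an essentially etale local A-algebra (a localization
of an etale A-algebra at a prime over the maximal ideal). -/
theorem result
    (A S : Type u) [CommRing A] [IsLocalRing A] [IsReduced A] (hmin : (minimalPrimes A).Finite)
    [CommRing S] [IsLocalRing S] [Algebra A S] [IsLocalHom (algebraMap A S)]
    [Hensel.IsStrictHenselization A S] (D : Subalgebra A S) [IsLocalRing D]
    [IsLocalHom (algebraMap D S)] :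
    (∃ t : Finset (FractionRing D), ∀ x : FractionRing D, ∃ a ∈ nonZeroDivisors A,
        algebraMap A (FractionRing D) a * x ∈ Algebra.adjoin A (t : Set (FractionRing D))) ↔
      ∃ E : Subalgebra A S, D ≤ E ∧ ∃ _ : IsLocalRing E, EGA4loc.IsEssentiallyEtale A E := by
  classical
  have hFlS : Module.Flat A S := Groth.Agent.Lib.Helper87.Hens.flat_of_isStrictHenselization A S
  -- nzd of A are nzd in S
  have hA_nzd : ∀ a ∈ nonZeroDivisors A, algebraMap A S a ∈ nonZeroDivisors S := by
    intro a ha
    have h := Module.Flat.isSMulRegular_of_nonZeroDivisors (M := S) ha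
    rw [mem_nonZeroDivisors_iff_right]
    intro x hx
    refine h ?_
    change a • x = a • 0
    rw [smul_zero, Algebra.smul_def, mul_comm, hx]
  constructor
  · -- (⇒)
    rintro ⟨t, ht⟩
    let num : FractionRing D → D := fun y => (IsLocalization.sec (nonZeroDivisors D) y).1
    let den : FractionRing D → D := fun y => ((IsLocalization.sec (nonZeroDivisors D) y).2 : D)
    have hsec : ∀ y, y * algebraMap D (FractionRing D) (den y) =
        algebraMap D (FractionRing D) (num y) := fun y => IsLocalization.sec_spec _ y
    have hden : ∀ y, den y ∈ nonZeroDivisors D :=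
      fun y => (IsLocalization.sec (nonZeroDivisors D) y).2.2
    let σD : Finset D := t.image num ∪ t.image den
    let σ : Finset S := σD.image (fun d : D => (d : S))
    obtain ⟨E, hσE, hlocE, hE_local, hE⟩ :=
      Groth.Agent.Lib.Helper69.HensStage2.exists_stage A S σ
    refine ⟨E, ?_, hE_local, hE⟩
    -- key: nzd of D are nzd in S
    have key : ∀ s : D, s ∈ nonZeroDivisors D → (s : S) ∈ nonZeroDivisors S := by
      intro s hs
      obtain ⟨E₁, hsE₁, -, hE₁_local, hE₁⟩ :=
        Groth.Agent.Lib.Helper69.HensStage2.exists_stage A S {(s : S)}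
      obtain ⟨hQF, hFl, -, -⟩ :=
        Groth.Agent.Lib.Helper69.HensStage2.props_of_isEssentiallyEtale A E₁ hE₁
      let D₁ : Subalgebra A S := D ⊓ E₁
      let φ : D₁ →ₐ[A] E₁ := Subalgebra.inclusion inf_le_right
      have hφ : Function.Injective φ := Subalgebra.inclusion_injective _
      have hs₁ : (s : S) ∈ D₁ := ⟨s.2, hsE₁ _ (Finset.mem_singleton_self _)⟩
      have hnz : ∀ x : D₁, x * ⟨(s : S), hs₁⟩ = 0 → x = 0 := by
        intro x hx
        have h1 : (⟨(x : S), x.2.1⟩ : D) * s = 0 :=
          Subtype.ext (by simpa using congrArg Subtype.val hx)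
        have h2 := (mem_nonZeroDivisors_iff_right.mp hs) _ h1
        have h3 : (x : S) = 0 := congrArg Subtype.val h2
        exact Subtype.ext h3
      obtain ⟨d', b, hb, hd'⟩ := Groth.Agent.Lib.Helper69.TotFrac2.exists_mul_eq_algebraMap A E₁
        hmin φ hφ ⟨(s : S), hs₁⟩ hnz
      have h1 : (s : S) * (d' : S) = algebraMap A S b := congrArg Subtype.val hd'
      rw [mem_nonZeroDivisors_iff_right]
      intro x hx
      have h2 : x * algebraMap A S b = 0 := by rw [← h1, ← mul_assoc, hx, zero_mul]
      exact (mem_nonZeroDivisors_iff_right.mp (hA_nzd b hb)) x h2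
    -- denominators
    have hadj : ∀ y ∈ Algebra.adjoin A (t : Set (FractionRing D)),
        ∃ m ∈ nonZeroDivisors D, m ∈ Algebra.adjoin A (σD : Set D) ∧
          ∃ z ∈ Algebra.adjoin A (σD : Set D),
            algebraMap D (FractionRing D) m * y = algebraMap D (FractionRing D) z := by
      intro y hy
      induction hy using Algebra.adjoin_induction with
      | mem y hy =>
        refine ⟨den y, hden y, Algebra.subset_adjoin ?_, num y, Algebra.subset_adjoin ?_, ?_⟩
        · exact Finset.mem_coe.mpr (Finset.mem_union_right _ (Finset.mem_image_of_mem _ hy))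
        · exact Finset.mem_coe.mpr (Finset.mem_union_left _ (Finset.mem_image_of_mem _ hy))
        · rw [mul_comm]; exact hsec y
      | algebraMap r =>
        refine ⟨1, one_mem _, one_mem _, algebraMap A D r, Subalgebra.algebraMap_mem _ r, ?_⟩
        rw [map_one, one_mul, ← IsScalarTower.algebraMap_apply]
      | add y z _ _ hy hz =>
        obtain ⟨m₁, hm₁, hm₁', z₁, hz₁, h₁⟩ := hy
        obtain ⟨m₂, hm₂, hm₂', z₂, hz₂, h₂⟩ := hz
        refine ⟨m₁ * m₂, mul_mem hm₁ hm₂, mul_mem hm₁' hm₂', m₂ * z₁ + m₁ * z₂,
          add_mem (mul_mem hm₂' hz₁) (mul_mem hm₁' hz₂), ?_⟩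
        rw [map_mul, map_add, map_mul, map_mul, ← h₁, ← h₂]; ring
      | mul y z _ _ hy hz =>
        obtain ⟨m₁, hm₁, hm₁', z₁, hz₁, h₁⟩ := hy
        obtain ⟨m₂, hm₂, hm₂', z₂, hz₂, h₂⟩ := hz
        refine ⟨m₁ * m₂, mul_mem hm₁ hm₂, mul_mem hm₁' hm₂', z₁ * z₂, mul_mem hz₁ hz₂, ?_⟩
        rw [map_mul, map_mul, ← h₁, ← h₂]; ring
    have hadjE : ∀ z ∈ Algebra.adjoin A (σD : Set D), (z : S) ∈ E := by
      intro z hz
      induction hz using Algebra.adjoin_induction with
      | mem x hx =>
        have hx' : x ∈ σD := Finset.mem_coe.mp hx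
        have hxσ : (x : S) ∈ σ := Finset.mem_image.mpr ⟨x, hx', rfl⟩
        exact hσE _ hxσ
      | algebraMap r => exact E.algebraMap_mem r
      | add x y _ _ hx hy => exact E.add_mem hx hy
      | mul x y _ _ hx hy => exact E.mul_mem hx hy
    intro x hxD
    obtain ⟨a, ha, hax⟩ := ht (algebraMap D (FractionRing D) ⟨x, hxD⟩)
    obtain ⟨m, hm, hmadj, z, hz, hmz⟩ := hadj _ hax
    have hinj : Function.Injective (algebraMap D (FractionRing D)) := IsFractionRing.injective _ _
    have h1 : m * (algebraMap A D a * ⟨x, hxD⟩) = z := by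
      apply hinj
      rw [map_mul, map_mul, ← IsScalarTower.algebraMap_apply]
      exact hmz
    have h2 : ((m : S) * algebraMap A S a) * x = (z : S) := by
      have := congrArg Subtype.val h1
      rw [← this]
      simp [mul_assoc]
    refine Groth.Agent.Lib.Helper69.HensStage2.mem_of_mul_mem A S E hE hlocE
      ((m : S) * algebraMap A S a) x (E.mul_mem (hadjE m hmadj) (E.algebraMap_mem a))
      (mul_mem (key m hm) (hA_nzd a ha)) ?_
    rw [h2]; exact hadjE z hz
  · -- (⇐)
    rintro ⟨E, hDE, hE_local, hE⟩
    obtain ⟨hQF, hFl, -, -⟩ :=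
      Groth.Agent.Lib.Helper69.HensStage2.props_of_isEssentiallyEtale A E hE
    let φ : D →ₐ[A] E := Subalgebra.inclusion hDE
    have hφ : Function.Injective φ := Subalgebra.inclusion_injective hDE
    obtain ⟨t₀, ht₀⟩ :=
      Groth.Agent.Lib.Helper69.TotFrac2.exists_finset_span_of_injective A E hmin φ hφ
    refine ⟨t₀.image (algebraMap D (FractionRing D)), fun x => ?_⟩
    obtain ⟨⟨d₁, d⟩, hx⟩ := IsLocalization.surj (nonZeroDivisors D) x
    obtain ⟨d', b, hb, hd'⟩ := Groth.Agent.Lib.Helper69.TotFrac2.exists_mul_eq_algebraMap A E hmin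
      φ hφ (d : D) (fun y hy => (mem_nonZeroDivisors_iff_right.mp d.2) y hy)
    obtain ⟨c, hc, hcd⟩ := ht₀ (d₁ * d')
    refine ⟨c * b, mul_mem hc hb, ?_⟩
    have h1 : algebraMap A (FractionRing D) (c * b) * x =
        algebraMap D (FractionRing D) (c • (d₁ * d')) := by
      change x * algebraMap D (FractionRing D) (d : D) = algebraMap D (FractionRing D) d₁ at hx
      rw [Algebra.smul_def, map_mul, map_mul, map_mul, ← hx,
        IsScalarTower.algebraMap_apply A D (FractionRing D) b, ← hd', map_mul,
        ← IsScalarTower.algebraMap_apply]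
      ring
    rw [h1]
    have h2 : c • (d₁ * d') ∈ Algebra.adjoin A (t₀ : Set D) := Algebra.span_le_adjoin A _ hcd
    have h3 : (IsScalarTower.toAlgHom A D (FractionRing D)) (c • (d₁ * d')) ∈
        (Algebra.adjoin A (t₀ : Set D)).map (IsScalarTower.toAlgHom A D (FractionRing D)) :=
      Subalgebra.mem_map.mpr ⟨_, h2, rfl⟩
    rw [AlgHom.map_adjoin] at h3
    rw [Finset.coe_image]
    exact h3


end Groth.Agent.S16441
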