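import Groth.Statements.S16442
import Groth.Agent.Lib.Helper69.HensStage
import Groth.Agent.Lib.Helper87.HensStrictProps

set_option autoImplicit false
universe u
open EGA4loc

namespace Groth.Agent.S16442

/-- Let A be a reduced local ring with finitely many minimal prime ideals, S a strict henselization of
A, and D an A-subalgebra of S which is a local ring dominated by S (local inclusion) and essentially
of finite type over A. Then D is contained in some A-subalgebra E of S which is a local ring and an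
essentially etale local A-algebra. -/
theorem result
    (A S : Type u) [CommRing A] [IsLocalRing A] [IsReduced A] (hmin : (minimalPrimes A).Finite)
    [CommRing S] [IsLocalRing S] [Algebra A S] [IsLocalHom (algebraMap A S)]
    [Hensel.IsStrictHenselization A S] (D : Subalgebra A S) [IsLocalRing D]
    [IsLocalHom (algebraMap D S)] [Algebra.EssFiniteType A D] :
    ∃ E : Subalgebra A S, D ≤ E ∧ ∃ _ : IsLocalRing E, EGA4loc.IsEssentiallyEtale A E := by
  classical
  obtain ⟨e⟩ := Groth.Agent.Lib.Helper87.Hens.nonempty_algEquiv_Hsh A S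
  obtain ⟨σ, hσ⟩ := (Algebra.essFiniteType_iff (R := A) (S := D)).mp inferInstance
  let σ' : Finset (Groth.Agent.Lib.Helper87.Hens.Hsh A) := σ.image (fun d : D => e (d : S))
  obtain ⟨i, hi⟩ := Groth.Agent.Lib.Helper87.Hens.H.exists_of_finset σ'
  let g : i.L →ₐ[A] S := (e.symm : Groth.Agent.Lib.Helper87.Hens.Hsh A →ₐ[A] S).comp
    (Groth.Agent.Lib.Helper87.Hens.H.of i)
  have hg : ∀ y, g y = e.symm (Groth.Agent.Lib.Helper87.Hens.H.of i y) := fun y => rfl
  have hg_inj : Function.Injective g := by
    intro x y hxy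
    rw [hg, hg] at hxy
    exact Groth.Agent.Lib.Helper69.HensStage.of_injective i (e.symm.injective hxy)
  have hunit : ∀ y : i.L, IsUnit (g y) → IsUnit y := by
    intro y hy
    have h1 : IsUnit (e (g y)) := hy.map e
    rw [hg, AlgEquiv.apply_symm_apply] at h1
    exact (Groth.Agent.Lib.Helper69.HensStage.isUnit_of_iff i y).mp h1
  let E : Subalgebra A S := g.range
  let eE : i.L ≃ₐ[A] E := AlgEquiv.ofInjective g hg_inj
  have h1 : ∀ d : D, d ∈ Algebra.adjoin A (σ : Set D) → (d : S) ∈ E := by
    intro d hd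
    induction hd using Algebra.adjoin_induction with
    | mem x hx =>
      have hx' : e (x : S) ∈ σ' := Finset.mem_image.mpr ⟨x, hx, rfl⟩
      obtain ⟨y, hy⟩ := hi _ hx'
      refine ⟨y, ?_⟩
      change g y = _
      rw [hg, hy, AlgEquiv.symm_apply_apply]
    | algebraMap r => exact E.algebraMap_mem r
    | add x y _ _ hx hy => exact E.add_mem hx hy
    | mul x y _ _ hx hy => exact E.mul_mem hx hy
  refine ⟨E, ?_, ?_, ?_⟩
  · intro x hx
    obtain ⟨t, ht, htu, hxt⟩ := hσ ⟨x, hx⟩
    obtain ⟨t', ht'⟩ := h1 t ht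
    obtain ⟨a', ha'⟩ := h1 _ hxt
    have ht'' : g t' = (t : S) := ht'
    have ha'' : g a' = x * (t : S) := ha'
    have htS : IsUnit (t : S) := htu.map D.val
    have hu : IsUnit t' := hunit t' (by rw [ht'']; exact htS)
    obtain ⟨u, rfl⟩ := hu
    refine ⟨a' * ((u⁻¹ : i.Lˣ) : i.L), ?_⟩
    change g _ = x
    have h2 : g ((u⁻¹ : i.Lˣ) : i.L) * (t : S) = 1 := by
      rw [← ht'', ← map_mul, Units.inv_mul, map_one]
    rw [map_mul, ha'']
    calc x * (t : S) * g ((u⁻¹ : i.Lˣ) : i.L) = x * (g ((u⁻¹ : i.Lˣ) : i.L) * (t : S)) := by ring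
      _ = x := by rw [h2, mul_one]
  · exact eE.toRingEquiv.isLocalRing
  · exact Groth.Agent.Lib.Helper69.HensStage.isEssentiallyEtale_of_algEquiv eE.symm
      (Groth.Agent.Lib.Helper69.HensStage.isEssentiallyEtale_stage i)


end Groth.Agent.S16442
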