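import Groth.Statements.S16443
import Groth.Agent.Lib.Helper69.TotFrac

set_option autoImplicit false
universe u
open EGA4loc

namespace Groth.Agent.S16443

/-- Let A be a reduced local ring with finitely many minimal prime ideals, E a local ring which is an
essentially etale local A-algebra with local structure map, K_E the total ring of fractions of E,
and L an A-subalgebra of K_E containing an inverse of the image of every non-zero-divisor of A (so L
is an intermediate ring between the total rings of fractions of A and of E). Then the preimage D of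
L in E is (the underlying set of) an A-subalgebra of E which is a local ring with local inclusion
into E — its maximal ideal lies under that of E — and L is the total ring of fractions of D in the
sense that every element of L is the image of an element of D times the inverse of the image of a
non-zero-divisor of A. -/
theorem result
    (A E : Type u) [CommRing A] [IsLocalRing A] [IsReduced A] (hmin : (minimalPrimes A).Finite)
    [CommRing E] [IsLocalRing E] [Algebra A E] [IsLocalHom (algebraMap A E)]
    (hE : EGA4loc.IsEssentiallyEtale A E) (L : Subalgebra A (FractionRing E))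
    (hL : ∀ s ∈ nonZeroDivisors A, ∃ y ∈ L, algebraMap A (FractionRing E) s * y = 1) :
    ∃ D : Subalgebra A E, (D : Set E) = (algebraMap E (FractionRing E)) ⁻¹' (L : Set (FractionRing E)) ∧
      ∃ _ : IsLocalRing D, IsLocalHom (algebraMap D E) ∧
        ∀ l ∈ L, ∃ d ∈ D, ∃ s ∈ nonZeroDivisors A, ∃ y ∈ L,
          algebraMap A (FractionRing E) s * y = 1 ∧ l = algebraMap E (FractionRing E) d * y := by
  obtain ⟨C, _, _, q, _, hEt, hq, ⟨e⟩⟩ := hE
  have : Algebra.QuasiFinite A C := inferInstance
  have : Algebra.QuasiFinite A (Localization.AtPrime q) := inferInstance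
  have hQF : Algebra.QuasiFinite A E := (Algebra.QuasiFinite.iff_of_algEquiv e).mpr inferInstance
  have : Module.Flat A C := inferInstance
  have : Module.Flat A (Localization.AtPrime q) := Module.Flat.trans A C _
  have hFl : Module.Flat A E := Module.Flat.of_linearEquiv e.toLinearEquiv
  have hloc : IsLocalization (Algebra.algebraMapSubmonoid E (nonZeroDivisors A)) (FractionRing E) :=
    Groth.Agent.Lib.Helper69.TotFrac.isLocalization_fractionRing A E hmin
  set ι : E →ₐ[A] FractionRing E := IsScalarTower.toAlgHom A E (FractionRing E) with hι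
  have hιa : ∀ x : E, ι x = algebraMap E (FractionRing E) x := fun x => rfl
  let D : Subalgebra A E := L.comap ι
  have hD : ∀ x : E, x ∈ D ↔ algebraMap E (FractionRing E) x ∈ L := fun x => Iff.rfl
  -- key: units of `E` lying in `D` are units of `D`
  have key : ∀ d : D, IsUnit (d : E) → IsUnit d := by
    rintro ⟨d, hd⟩ hu
    obtain ⟨l, hl, hdl⟩ := Groth.Agent.Lib.Helper69.TotFrac.exists_inv_mem_subalgebra_fractionRing
      A E hmin L hL (algebraMap E (FractionRing E) d) ((hD d).mp hd) (hu.map _)
    obtain ⟨u, rfl⟩ := hu
    have h1 : algebraMap E (FractionRing E) ((u⁻¹ : Eˣ) : E) = l := by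
      have h2 : algebraMap E (FractionRing E) (u : E) * algebraMap E (FractionRing E) ((u⁻¹ : Eˣ) : E) = 1 := by
        rw [← map_mul]; simp
      calc algebraMap E (FractionRing E) ((u⁻¹ : Eˣ) : E)
          = (algebraMap E (FractionRing E) (u : E) * l) * algebraMap E (FractionRing E) ((u⁻¹ : Eˣ) : E) := by
            rw [hdl, one_mul]
        _ = l * (algebraMap E (FractionRing E) (u : E) * algebraMap E (FractionRing E) ((u⁻¹ : Eˣ) : E)) := by ring
        _ = l := by rw [h2, mul_one]
    have hinv : ((u⁻¹ : Eˣ) : E) ∈ D := by
      rw [hD, h1]; exact hl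
    refine ⟨⟨⟨(u : E), hd⟩, ⟨((u⁻¹ : Eˣ) : E), hinv⟩, ?_, ?_⟩, rfl⟩
    · exact Subtype.ext (by simp)
    · exact Subtype.ext (by simp)
  have hlocal : IsLocalRing D := by
    refine IsLocalRing.of_isUnit_or_isUnit_one_sub_self fun a => ?_
    rcases IsLocalRing.isUnit_or_isUnit_one_sub_self (a : E) with h | h
    · exact Or.inl (key a h)
    · exact Or.inr (key (1 - a) (by simpa using h))
  refine ⟨D, rfl, hlocal, ⟨fun a ha => key a ha⟩, ?_⟩
  intro l hl
  obtain ⟨⟨e0, n⟩, h⟩ := IsLocalization.surj (Algebra.algebraMapSubmonoid E (nonZeroDivisors A)) l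
  obtain ⟨s, hs, hsn⟩ := n.2
  obtain ⟨y, hyL, hy⟩ := hL s hs
  have hAE : algebraMap A (FractionRing E) s = algebraMap E (FractionRing E) (n : E) := by
    rw [IsScalarTower.algebraMap_apply A E (FractionRing E), hsn]
  have he0 : algebraMap E (FractionRing E) e0 = l * algebraMap A (FractionRing E) s := by
    rw [hAE]; exact h.symm
  refine ⟨e0, ?_, s, hs, y, hyL, hy, ?_⟩
  · rw [hD, he0]
    exact L.mul_mem hl (L.algebraMap_mem s)
  · rw [he0, mul_assoc, hy, mul_one]

end Groth.Agent.S16443
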