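import Groth.Statements.S16444
-- import your own Groth.Agent.* helpers here
import Groth.Agent.S16430
import Groth.Agent.Lib.Helper23.EssEtale4
import Groth.Agent.Lib.Helper69.HensQFinite
import Groth.Agent.Lib.Helper58.TensorLocal

set_option autoImplicit false
universe u
open scoped TensorProduct
open Hensel

namespace Groth.Agent.S16444

open IsLocalRing

theorem henselianLocalRing_of_isAdicComplete (R : Type u) [CommRing R] [IsLocalRing R]
    [IsAdicComplete (IsLocalRing.maximalIdeal R) R] : HenselianLocalRing R := by
  have h : HenselianRing R (IsLocalRing.maximalIdeal R) := inferInstance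
  exact { is_henselian := fun f hf a₀ h₁ h₂ => h.is_henselian f hf a₀ h₁ (h₂.map _) }

/-- A local étale algebra over a local ring is essentially étale. -/
theorem isEssentiallyEtale_of_etale (A A' : Type u) [CommRing A] [IsLocalRing A] [CommRing A']
    [IsLocalRing A'] [Algebra A A'] [Algebra.Etale A A']
    (h : (maximalIdeal A').comap (algebraMap A A') = maximalIdeal A) :
    EGA4loc.IsEssentiallyEtale A A' := by
  refine ⟨A', inferInstance, inferInstance, maximalIdeal A', inferInstance, inferInstance, h, ⟨?_⟩⟩
  exact (IsLocalization.atUnits A' (maximalIdeal A').primeCompl (S := Localization.AtPrime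
    (maximalIdeal A')) (fun x hx => by
      have : x ∉ maximalIdeal A' := hx
      exact (IsLocalRing.notMem_maximalIdeal.mp this))).restrictScalars A

theorem main (R A E : Type u) [CommRing R] [HenselianLocalRing R] [IsNoetherianRing R]
    [CommRing A] [HenselianLocalRing A]
    [Algebra R A] [IsLocalHom (algebraMap R A)]
    (hres : Function.Bijective (ResidueField.map (algebraMap R A)))
    [CommRing E] [IsLocalRing E] [Algebra A E] [IsLocalHom (algebraMap A E)]
    (hE : EGA4loc.IsEssentiallyEtale A E) :
    ∃ (S : Type u) (_ : CommRing S) (_ : IsLocalRing S) (_ : Algebra R S),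
      Module.Finite R S ∧ Algebra.Etale R S ∧ Nonempty (E ≃ₐ[A] A ⊗[R] S) := by
  obtain ⟨C, _, _, q, _, hEt, hq, ⟨e⟩⟩ := id hE
  haveI : q.LiesOver (maximalIdeal A) := ⟨hq.symm⟩
  haveI hfinq : Module.Finite A (Localization.AtPrime q) :=
    Groth.Agent.Lib.Helper69.HensQFinite.finite_atPrime_of_quasiFiniteAt A C q
  haveI : Module.Finite A E := Module.Finite.equiv e.symm.toLinearEquiv
  haveI : Algebra.FormallyUnramified A (Localization.AtPrime q) :=
    Algebra.FormallyUnramified.comp A C _
  haveI : Algebra.FormallyUnramified A E := Algebra.FormallyUnramified.of_equiv e.symm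
  haveI : HenselianLocalRing E :=
    Groth.Agent.Lib.Helper69.HensFinite.henselianLocalRing_of_isIntegral A E
  letI : Algebra R E := ((algebraMap A E).comp (algebraMap R A)).toAlgebra
  haveI : IsScalarTower R A E := IsScalarTower.of_algebraMap_eq' rfl
  haveI : IsLocalHom (algebraMap R E) := by
    change IsLocalHom ((algebraMap A E).comp (algebraMap R A))
    infer_instance
  haveI : Module.Finite (ResidueField R) (ResidueField A) :=
    Module.Finite.of_surjective (Algebra.linearMap (ResidueField R) (ResidueField A)) hres.2
  haveI : Module.Finite (ResidueField R) (ResidueField E) :=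
    Module.Finite.trans (ResidueField A) (ResidueField E)
  haveI : Algebra.IsSeparable (ResidueField R) (ResidueField E) :=
    Algebra.IsSeparable.of_equiv_equiv (A₁ := ResidueField A) (B₁ := ResidueField E)
      (RingEquiv.ofBijective _ hres).symm (RingEquiv.refl _) (by
        ext x
        obtain ⟨y, rfl⟩ := hres.2 x
        obtain ⟨r, rfl⟩ := residue_surjective y
        simp only [RingHom.coe_comp, RingHom.coe_coe, Function.comp_apply, RingEquiv.refl_apply]
        have h1 : (RingEquiv.ofBijective _ hres).symm
            (ResidueField.map (algebraMap R A) (residue R r)) = residue R r := by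
          apply (RingEquiv.symm_apply_eq _).mpr
          rfl
        rw [h1, ResidueField.map_residue, ResidueField.algebraMap_residue,
          ResidueField.algebraMap_residue]
        rfl)
  obtain ⟨S, _, _, _, _, hSfin, hSet, ⟨β⟩⟩ := Groth.Agent.S16430.result R (ResidueField E)
  refine ⟨S, inferInstance, inferInstance, inferInstance, hSfin, hSet, ?_⟩
  letI algSK : Algebra S (ResidueField E) :=
    ((β : ResidueField S →+* ResidueField E).comp (residue S)).toAlgebra
  have halgSK : ∀ s : S, algebraMap S (ResidueField E) s = β (residue S s) := fun s => rfl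
  haveI : IsScalarTower R S (ResidueField E) := IsScalarTower.of_algebraMap_eq (fun r => by
    rw [halgSK, ← ResidueField.algebraMap_residue, AlgEquiv.commutes,
      ResidueField.algebraMap_residue]
    rfl)
  have hSK : Function.Surjective (algebraMap S (ResidueField E)) :=
    β.surjective.comp residue_surjective
  have hkerS : ∀ s, algebraMap S (ResidueField E) s = 0 → s ∈ maximalIdeal S := by
    intro s hs
    rw [halgSK, map_eq_zero_iff β β.injective, residue_eq_zero_iff] at hs
    exact hs
  have hA : ∀ a ∈ maximalIdeal A, algebraMap A (ResidueField E) a = 0 := by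
    intro a ha
    rw [IsScalarTower.algebraMap_apply A E (ResidueField E), ResidueField.algebraMap_eq,
      residue_eq_zero_iff]
    exact ((IsLocalRing.mem_maximalIdeal _).mpr fun hu =>
      (IsLocalRing.mem_maximalIdeal _).mp ha (IsUnit.of_map (algebraMap A E) a hu))
  have hmS : (maximalIdeal R).map (algebraMap R S) = maximalIdeal S :=
    Algebra.FormallyUnramified.map_maximalIdeal
  haveI hloc : IsLocalRing (A ⊗[R] S) :=
    Groth.Agent.Lib.Helper58.TensorLocal.isLocalRing_tensor R A S (ResidueField E) hres.2 hmS hA
      hSK hkerS
  obtain ⟨α, hα⟩ :=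
    Groth.Agent.Lib.Helper58.TensorLocal.nonempty_residueField_equiv R A S (ResidueField E) hSK
  haveI : HenselianLocalRing (A ⊗[R] S) :=
    Groth.Agent.Lib.Helper69.HensFinite.henselianLocalRing_of_isIntegral A (A ⊗[R] S)
  have hcomap : (maximalIdeal (A ⊗[R] S)).comap (algebraMap A (A ⊗[R] S)) = maximalIdeal A := by
    have h1 : ((maximalIdeal (A ⊗[R] S)).comap (algebraMap A (A ⊗[R] S))).IsMaximal :=
      Ideal.isMaximal_comap_of_isIntegral_of_isMaximal _
    exact IsLocalRing.eq_maximalIdeal h1
  have hA'ess : EGA4loc.IsEssentiallyEtale A (A ⊗[R] S) :=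
    isEssentiallyEtale_of_etale A (A ⊗[R] S) hcomap
  obtain ⟨ψ₁, hψ₁⟩ := Groth.Agent.Lib.Helper23.exists_algHom_of_essEtale (B := E) hA'ess
    (α : ResidueField (A ⊗[R] S) →ₐ[A] ResidueField E)
  obtain ⟨ψ₂, hψ₂⟩ := Groth.Agent.Lib.Helper23.exists_algHom_of_essEtale (B := A ⊗[R] S) hE
    (α.symm : ResidueField E →ₐ[A] ResidueField (A ⊗[R] S))
  have h12 : ψ₁.comp ψ₂ = AlgHom.id A E :=
    Groth.Agent.Lib.Helper23.essEtale_algHom_ext hE _ _ (fun x => by
      rw [AlgHom.comp_apply, hψ₁, hψ₂]
      simp)
  have h21 : ψ₂.comp ψ₁ = AlgHom.id A (A ⊗[R] S) :=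
    Groth.Agent.Lib.Helper23.essEtale_algHom_ext hA'ess _ _ (fun x => by
      rw [AlgHom.comp_apply, hψ₂, hψ₁]
      simp)
  exact ⟨AlgEquiv.ofAlgHom ψ₂ ψ₁ h21 h12⟩

open IsLocalRing in
/-- Let A be a complete Noetherian local ring and R → A a local homomorphism from a henselian Noetherian
local ring R inducing a bijection on residue fields. Then every local ring E which is an essentially
etale local A-algebra with local structure map is A-isomorphic to A ⊗_R S for some local ring S
which is a finite etale R-algebra (its residue field is then that of E). (The published statement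
takes R to be a coefficient ring of A, that is a field or an image of a complete p-ring with the
same residue field; its proof uses only that R is henselian with the same residue field as A, which
is the hypothesis made here.) -/
theorem result
    (R A E : Type u) [CommRing R] [HenselianLocalRing R] [IsNoetherianRing R]
    [CommRing A] [IsLocalRing A] [IsNoetherianRing A] [IsAdicComplete (maximalIdeal A) A]
    [Algebra R A] [IsLocalHom (algebraMap R A)]
    (hres : Function.Bijective (ResidueField.map (algebraMap R A)))
    [CommRing E] [IsLocalRing E] [Algebra A E] [IsLocalHom (algebraMap A E)]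
    (hE : EGA4loc.IsEssentiallyEtale A E) :
    ∃ (S : Type u) (_ : CommRing S) (_ : IsLocalRing S) (_ : Algebra R S),
      Module.Finite R S ∧ Algebra.Etale R S ∧ Nonempty (E ≃ₐ[A] A ⊗[R] S) := by
  haveI : HenselianLocalRing A := henselianLocalRing_of_isAdicComplete A
  exact main R A E hres hE

end Groth.Agent.S16444
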