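import Groth.Statements.S16445
import Groth.Agent.Lib.Helper69.HensStage2
import Groth.Agent.Lib.Helper69.HensSubfield
import Groth.Agent.Lib.Helper69.HensQFinite
import Groth.Agent.Lib.Helper69.HensQuot
import Groth.Agent.S2651

set_option autoImplicit false
universe u
open Hensel

namespace Groth.Agent.S16445

/-- Let A be an excellent henselian reduced local ring, S a strict henselization of A and Q a minimal
prime ideal of S; let K be the fraction field of the domain S/Q and L the subfield of K generated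
over the image of A by a finite subset t of K. Then the intersection of L with S/Q is (the
underlying set of) an A-subalgebra D' of S/Q which is an excellent henselian local ring (a domain,
as a subring of S/Q) whose fraction field is L: every element of L is the quotient of the images of
two elements of D'. (The source's further description of the completion of D' is not stated here.) -/
theorem result
    (A S : Type u) [CommRing A] [HenselianLocalRing A] [IsReduced A] (hA : EGA4.IsExcellent A)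
    [CommRing S] [IsLocalRing S] [Algebra A S] [IsLocalHom (algebraMap A S)]
    [Hensel.IsStrictHenselization A S] (Q : Ideal S) (hQ : Q ∈ minimalPrimes S) [Q.IsPrime]
    (t : Finset (FractionRing (S ⧸ Q))) :
    ∃ D' : Subalgebra A (S ⧸ Q), (D' : Set (S ⧸ Q)) = (algebraMap (S ⧸ Q) (FractionRing (S ⧸ Q))) ⁻¹'
        (Subfield.closure (Set.range (algebraMap A (FractionRing (S ⧸ Q))) ∪
          (t : Set (FractionRing (S ⧸ Q)))) : Set (FractionRing (S ⧸ Q))) ∧
      EGA4.IsExcellent D' ∧ ∃ _ : HenselianLocalRing D',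
        ∀ l ∈ Subfield.closure (Set.range (algebraMap A (FractionRing (S ⧸ Q))) ∪
            (t : Set (FractionRing (S ⧸ Q)))),
          ∃ a ∈ D', ∃ b ∈ D', algebraMap (S ⧸ Q) (FractionRing (S ⧸ Q)) b ≠ 0 ∧
            l * algebraMap (S ⧸ Q) (FractionRing (S ⧸ Q)) b =
              algebraMap (S ⧸ Q) (FractionRing (S ⧸ Q)) a := by
  classical
  have hNoeth : IsNoetherianRing A := hA.1
  haveI : IsNoetherianRing A := hNoeth
  have hS : Hensel.IsStrictHenselization A S := inferInstance
  haveI hSN : IsNoetherianRing S := Groth.Agent.Lib.Helper69.HensQuot.isNoetherianRing_strict A S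
  haveI hSbloc : IsLocalRing (S ⧸ Q) := Groth.Agent.Lib.Helper69.HensQuot.isLocalRing_quotient S Q
  haveI hπloc : IsLocalHom (Ideal.Quotient.mk Q) :=
    Groth.Agent.Lib.Helper69.HensQuot.isLocalHom_mk S Q
  let π : S →ₐ[A] S ⧸ Q := Ideal.Quotient.mkₐ A Q
  have hπ : ∀ x, π x = Ideal.Quotient.mk Q x := fun x => rfl
  have hπsurj : Function.Surjective π := Ideal.Quotient.mk_surjective
  have hπker : ∀ x, π x = 0 ↔ x ∈ Q := fun x => Ideal.Quotient.eq_zero_iff_mem
  let ι : (S ⧸ Q) →+* FractionRing (S ⧸ Q) := algebraMap (S ⧸ Q) (FractionRing (S ⧸ Q))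
  have hι : Function.Injective ι := IsFractionRing.injective (S ⧸ Q) (FractionRing (S ⧸ Q))
  set L : Subfield (FractionRing (S ⧸ Q)) := Subfield.closure
    (Set.range (algebraMap A (FractionRing (S ⧸ Q))) ∪ (t : Set (FractionRing (S ⧸ Q)))) with hL
  have hAL : ∀ a : A, algebraMap A (FractionRing (S ⧸ Q)) a ∈ L :=
    fun a => Subfield.subset_closure (Or.inl ⟨a, rfl⟩)
  let L' : Subalgebra A (FractionRing (S ⧸ Q)) :=
    { L.toSubring.toSubsemiring with algebraMap_mem' := hAL }
  let D : Subalgebra A (S ⧸ Q) :=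
    L'.comap (IsScalarTower.toAlgHom A (S ⧸ Q) (FractionRing (S ⧸ Q)))
  have hD : ∀ x : S ⧸ Q, x ∈ D ↔ ι x ∈ L := fun x => Iff.rfl
  have key : ∀ d : D, IsUnit (d : S ⧸ Q) → IsUnit d := by
    rintro ⟨d, hd⟩ hu
    obtain ⟨u, rfl⟩ := hu
    have hinv : ((u⁻¹ : (S ⧸ Q)ˣ) : S ⧸ Q) ∈ D := by
      rw [hD]
      have h1 : ι ((u⁻¹ : (S ⧸ Q)ˣ) : S ⧸ Q) = (ι (u : S ⧸ Q))⁻¹ := by
        refine eq_inv_of_mul_eq_one_right ?_
        rw [← map_mul]; simp
      rw [h1]
      exact L.inv_mem ((hD _).mp hd)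
    refine ⟨⟨⟨(u : S ⧸ Q), hd⟩, ⟨((u⁻¹ : (S ⧸ Q)ˣ) : S ⧸ Q), hinv⟩, ?_, ?_⟩, rfl⟩
    · exact Subtype.ext (by simp)
    · exact Subtype.ext (by simp)
  have hlocal : IsLocalRing D := by
    refine IsLocalRing.of_isUnit_or_isUnit_one_sub_self fun a => ?_
    rcases IsLocalRing.isUnit_or_isUnit_one_sub_self (a : S ⧸ Q) with h | h
    · exact Or.inl (key a h)
    · exact Or.inr (key (1 - a) (by simpa using h))
  have hDS : IsLocalHom (algebraMap D (S ⧸ Q)) := ⟨fun a ha => key a ha⟩
  refine ⟨D, Set.ext fun x => Iff.rfl, ?_⟩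
  -- numerators, denominators, lifted to S
  let num : FractionRing (S ⧸ Q) → S ⧸ Q :=
    fun y => (IsLocalization.sec (nonZeroDivisors (S ⧸ Q)) y).1
  let den : FractionRing (S ⧸ Q) → S ⧸ Q :=
    fun y => ((IsLocalization.sec (nonZeroDivisors (S ⧸ Q)) y).2 : S ⧸ Q)
  have hsec : ∀ y, y * ι (den y) = ι (num y) := fun y => IsLocalization.sec_spec _ y
  have hden : ∀ y, den y ∈ nonZeroDivisors (S ⧸ Q) :=
    fun y => (IsLocalization.sec (nonZeroDivisors (S ⧸ Q)) y).2.2
  let numS : FractionRing (S ⧸ Q) → S := fun y => (hπsurj (num y)).choose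
  let denS : FractionRing (S ⧸ Q) → S := fun y => (hπsurj (den y)).choose
  have hnumS : ∀ y, π (numS y) = num y := fun y => (hπsurj (num y)).choose_spec
  have hdenS : ∀ y, π (denS y) = den y := fun y => (hπsurj (den y)).choose_spec
  obtain ⟨qs, hqs⟩ : Q.FG := IsNoetherian.noetherian Q
  let σ : Finset S := (t.image numS ∪ t.image denS) ∪ qs
  obtain ⟨E, hσE, hlocE, hE_local, hE⟩ := Groth.Agent.Lib.Helper69.HensStage2.exists_stage A S σ
  obtain ⟨hQF, hFl, hEF, hFU⟩ :=
    Groth.Agent.Lib.Helper69.HensStage2.props_of_isEssentiallyEtale A E hE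
  have hQE : Q ≤ Ideal.map (algebraMap E S) (Q.comap (algebraMap E S)) := by
    have h0 : Ideal.span (qs : Set S) ≤
        Ideal.map (algebraMap E S) (Q.comap (algebraMap E S)) := by
      rw [Ideal.span_le]
      intro q hq
      have hqE : q ∈ E := hσE q (Finset.mem_union_right _ (Finset.mem_coe.mp hq))
      have hqQ : q ∈ Q := by rw [← hqs]; exact Ideal.subset_span hq
      have : (⟨q, hqE⟩ : E) ∈ Q.comap (algebraMap E S) := hqQ
      exact Ideal.mem_map_of_mem (algebraMap E S) this
    rw [hqs] at h0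
    exact h0
  let E' : Subalgebra A (S ⧸ Q) := E.map π
  let KE : Subfield (FractionRing (S ⧸ Q)) := Subfield.closure (ι '' (E' : Set (S ⧸ Q)))
  have hLKE : L ≤ KE := by
    rw [hL, Subfield.closure_le]
    rintro y (⟨a, rfl⟩ | hy)
    · refine Subfield.subset_closure ⟨algebraMap A (S ⧸ Q) a, E'.algebraMap_mem a, ?_⟩
      exact (IsScalarTower.algebraMap_apply A (S ⧸ Q) (FractionRing (S ⧸ Q)) a).symm
    · have hy' : y ∈ t := Finset.mem_coe.mp hy
      have hn : ι (num y) ∈ KE := Subfield.subset_closure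
        ⟨num y, ⟨numS y, hσE _ (Finset.mem_union_left _ (Finset.mem_union_left _
          (Finset.mem_image_of_mem _ hy'))), hnumS y⟩, rfl⟩
      have hd : ι (den y) ∈ KE := Subfield.subset_closure
        ⟨den y, ⟨denS y, hσE _ (Finset.mem_union_left _ (Finset.mem_union_right _
          (Finset.mem_image_of_mem _ hy'))), hdenS y⟩, rfl⟩
      have hd0 : ι (den y) ≠ 0 := by
        intro h0
        have h1 : den y = 0 := hι (h0.trans (map_zero ι).symm)
        exact nonZeroDivisors.ne_zero (hden y) h1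
      have hyq : y = ι (num y) / ι (den y) := by rw [← hsec y]; field_simp
      change y ∈ KE
      rw [hyq]; exact KE.div_mem hn hd
  have hcl : ∀ w ∈ Subring.closure (ι '' (E' : Set (S ⧸ Q))), ∃ e ∈ E', ι e = w := by
    intro w hw
    have hle : Subring.closure (ι '' (E' : Set (S ⧸ Q))) ≤ (E'.toSubring.map ι) :=
      Subring.closure_le.mpr (by rintro _ ⟨e, he, rfl⟩; exact ⟨e, he, rfl⟩)
    obtain ⟨e, he, rfl⟩ := hle hw
    exact ⟨e, he, rfl⟩
  have hDE : D ≤ E' := by
    intro x hx
    have hxKE : ι x ∈ KE := hLKE ((hD x).mp hx)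
    rw [Subfield.mem_closure_iff] at hxKE
    obtain ⟨y, hy, z, hz, hyz⟩ := hxKE
    obtain ⟨eb₁, heb₁, rfl⟩ := hcl y hy
    obtain ⟨eb₂, heb₂, rfl⟩ := hcl z hz
    by_cases h0 : eb₂ = 0
    · rw [h0, map_zero, div_zero] at hyz
      have hx0 : x = 0 := hι (hyz.symm.trans (map_zero ι).symm)
      rw [hx0]; exact E'.zero_mem
    · have h1 : eb₂ * x = eb₁ := by
        apply hι
        rw [map_mul, ← hyz]
        have : ι eb₂ ≠ 0 := fun h => h0 (hι (h.trans (map_zero ι).symm))
        field_simp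
      obtain ⟨e₁, he₁, rfl⟩ := heb₁
      obtain ⟨e₂, he₂, rfl⟩ := heb₂
      obtain ⟨xS, rfl⟩ := hπsurj x
      have he₂Q : e₂ ∉ Q := fun h => h0 ((hπker e₂).mpr h)
      have hmem : e₂ * xS - e₁ ∈ Q := by
        rw [← hπker, map_sub, map_mul]
        exact sub_eq_zero.mpr h1
      obtain ⟨e, he⟩ := Groth.Agent.Lib.Helper69.HensQuot.exists_sub_mem_of_mul_sub_mem A S E hE
        hlocE Q hQE xS ⟨e₁, he₁⟩ ⟨e₂, he₂⟩ he₂Q hmem
      have : π xS = π (e : S) := by
        rw [← sub_eq_zero, ← map_sub, hπker]; exact he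
      rw [this]
      exact ⟨(e : S), e.2, rfl⟩
  -- E finite over A
  have hfinE : Module.Finite A E := by
    obtain ⟨C, _, _, q, _, hEt, hq, ⟨e⟩⟩ := hE
    haveI : q.LiesOver (IsLocalRing.maximalIdeal A) := ⟨hq.symm⟩
    haveI : Algebra.FiniteType A C := inferInstance
    haveI : Algebra.QuasiFinite A C := inferInstance
    haveI : Algebra.QuasiFiniteAt A q := inferInstance
    have := Groth.Agent.Lib.Helper69.HensQFinite.finite_atPrime_of_quasiFiniteAt A C q
    exact Module.Finite.equiv e.symm.toLinearEquiv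
  haveI hAE : IsLocalHom (algebraMap A E) := ⟨fun a ha => by
    have h1 : IsUnit (algebraMap E S (algebraMap A E a)) := ha.map _
    rw [← IsScalarTower.algebraMap_apply A E S] at h1
    exact isUnit_of_map_unit (algebraMap A S) a h1⟩
  obtain ⟨θE, f, hf_monic, hfθ, hf_sep, hadj⟩ :=
    Groth.Agent.Lib.Helper69.HensSplitRoots.exists_monogenic A E
  haveI hSh : HenselianLocalRing S := hS.henselian
  haveI hsc : IsSepClosed (IsLocalRing.ResidueField S) := hS.isSepClosure.sep_closed
  have hfS_sep : ((f.map (algebraMap A S)).map (IsLocalRing.residue S)).Separable := by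
    have h1 : (f.map (algebraMap A S)).map (IsLocalRing.residue S) =
        (f.map (IsLocalRing.residue A)).map
          (algebraMap (IsLocalRing.ResidueField A) (IsLocalRing.ResidueField S)) := by
      rw [Polynomial.map_map, Polynomial.map_map]; rfl
    rw [h1]; exact hf_sep.map
  obtain ⟨m, hm⟩ := Groth.Agent.Lib.Helper69.HensSplitRoots.exists_multiset_roots S _
    (f.map (algebraMap A S)) (hf_monic.map _) rfl hfS_sep
  let θS : S := (θE : S)
  have hfθS : Polynomial.aeval θS f = 0 := by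
    have h1 := congrArg (algebraMap E S) hfθ
    rw [map_zero, ← Polynomial.aeval_algebraMap_apply] at h1
    exact h1
  let θ : S ⧸ Q := π θS
  have haevπ : ∀ p : Polynomial A, Polynomial.aeval θ p = π (Polynomial.aeval θS p) :=
    fun p => Polynomial.aeval_algHom_apply π θS p
  have hfθb : Polynomial.aeval θ f = 0 := by rw [haevπ, hfθS, map_zero]
  have hmb : f.map (algebraMap A (S ⧸ Q)) =
      ((m.map π).map (fun r => Polynomial.X - Polynomial.C r)).prod := by
    have h1 : f.map (algebraMap A (S ⧸ Q)) = (f.map (algebraMap A S)).map (π : S →+* S ⧸ Q) := by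
      rw [Polynomial.map_map]
      congr 1
    rw [h1, hm, Polynomial.map_multiset_prod, Multiset.map_map, Multiset.map_map]
    congr 1
    refine Multiset.map_congr rfl fun r _ => ?_
    simp
  have hgen : ∀ e : S ⧸ Q, e ∈ E' → ∃ p : Polynomial A, Polynomial.aeval θ p = e := by
    rintro _ ⟨e, he, rfl⟩
    have h1 : (⟨e, he⟩ : E) ∈ Algebra.adjoin A {θE} := by rw [hadj]; trivial
    rw [Algebra.adjoin_singleton_eq_range_aeval] at h1
    obtain ⟨p, hp⟩ := h1
    refine ⟨p, ?_⟩
    have hp' : Polynomial.aeval θE p = ⟨e, he⟩ := hp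
    have h2 := congrArg (algebraMap E S) hp'
    rw [← Polynomial.aeval_algebraMap_apply] at h2
    rw [haevπ]
    exact congrArg π h2
  obtain ⟨g, hg_monic, hg_pos, hgθ, hmin⟩ :=
    Groth.Agent.Lib.Helper69.HensSubfield.exists_minimal_monic L hAL D hD θ f hf_monic hfθb
      (m.map π) hmb
  haveI hASb : IsLocalHom (algebraMap A (S ⧸ Q)) := ⟨fun a ha => by
    have h1 : IsUnit (Ideal.Quotient.mk Q (algebraMap A S a)) := ha
    exact isUnit_of_map_unit (algebraMap A S) a (isUnit_of_map_unit (Ideal.Quotient.mk Q) _ h1)⟩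
  haveI := hlocal
  haveI := hDS
  haveI hAD : IsLocalHom (algebraMap A D) := ⟨fun a ha => by
    have h1 : IsUnit (algebraMap D (S ⧸ Q) (algebraMap A D a)) := ha.map _
    rw [← IsScalarTower.algebraMap_apply A D (S ⧸ Q)] at h1
    exact isUnit_of_map_unit (algebraMap A (S ⧸ Q)) a h1⟩
  -- the surjection E → E'
  let πE : E →ₐ[A] E' := (π.comp E.val).codRestrict E' (fun e => ⟨(e : S), e.2, rfl⟩)
  have hπE : ∀ e : E, ((πE e : E') : S ⧸ Q) = π (e : S) := fun e => rfl
  have hmD : Ideal.map (algebraMap A D) (IsLocalRing.maximalIdeal A) =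
      IsLocalRing.maximalIdeal D := by
    apply le_antisymm
    · exact IsLocalRing.map_maximalIdeal_le (algebraMap A D)
    · intro x hx
      apply Groth.Agent.Lib.Helper69.HensSubfield.mem_map_of_mem_map D E' hDE θ hgen g hg_monic
        hg_pos hgθ hmin x
      obtain ⟨e, he, hex⟩ := hDE x.2
      have hem : (⟨e, he⟩ : E) ∈ IsLocalRing.maximalIdeal E := by
        rw [IsLocalRing.mem_maximalIdeal, mem_nonunits_iff]
        intro hu
        have h1 : IsUnit (e : S) := hu.map (algebraMap E S)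
        have h2 : IsUnit (π e) := h1.map π
        have hex' : π e = (x : S ⧸ Q) := hex
        rw [hex'] at h2
        exact hx (key x h2)
      rw [← Algebra.FormallyUnramified.map_maximalIdeal (R := A) (S := E)] at hem
      have h3 : (πE : E →+* E') ⟨e, he⟩ ∈ Ideal.map (πE : E →+* E')
          (Ideal.map (algebraMap A E) (IsLocalRing.maximalIdeal A)) :=
        Ideal.mem_map_of_mem (πE : E →+* E') hem
      rw [Ideal.map_map] at h3
      have h4 : (πE : E →+* E').comp (algebraMap A E) = algebraMap A E' := πE.comp_algebraMap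
      rw [h4] at h3
      have h5 : (πE : E →+* E') ⟨e, he⟩ = ⟨(x : S ⧸ Q), hDE x.2⟩ := Subtype.ext hex
      rw [h5] at h3
      exact h3
  have hfinE' : Module.Finite A E' :=
    Module.Finite.of_surjective πE.toLinearMap (by
      rintro ⟨_, e, he, rfl⟩
      exact ⟨⟨e, he⟩, rfl⟩)
  haveI hfinD : Module.Finite A D := by
    haveI : IsNoetherian A E' := isNoetherian_of_isNoetherianRing_of_finite A E'
    exact Module.Finite.of_injective (Subalgebra.inclusion hDE).toLinearMap
      (Subalgebra.inclusion_injective hDE)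
  haveI : Algebra.FiniteType A D := inferInstance
  have hexc : EGA4.IsExcellent D := Groth.Agent.S2651.result A hA D
  haveI : Algebra.IsIntegral A D := Algebra.IsIntegral.of_finite A D
  have hhens : HenselianLocalRing D :=
    Groth.Agent.Lib.Helper69.HensFinite.henselianLocalRing_of_isIntegral A D
  refine ⟨hexc, hhens, ?_⟩
  intro l hl
  have hlKE : l ∈ KE := hLKE hl
  rw [Subfield.mem_closure_iff] at hlKE
  obtain ⟨y, hy, z, hz, hyz⟩ := hlKE
  obtain ⟨eb₁, heb₁, rfl⟩ := hcl y hy
  obtain ⟨eb₂, heb₂, rfl⟩ := hcl z hz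
  by_cases h0 : eb₂ = 0
  · refine ⟨0, D.zero_mem, 1, D.one_mem, ?_, ?_⟩
    · rw [map_one]; exact one_ne_zero
    · rw [h0, map_zero, div_zero] at hyz
      rw [← hyz]; simp
  · have hint : IsIntegral A eb₂ := by
      haveI : Algebra.IsIntegral A E' := Algebra.IsIntegral.of_finite A E'
      exact (Algebra.IsIntegral.isIntegral (⟨eb₂, heb₂⟩ : E')).map E'.val
    have hintD : IsIntegral D eb₂ := hint.tower_top
    obtain ⟨t', -, r, hr, hst⟩ := hintD.isAlgebraic.exists_nonzero_eq_adjoin_mul
      (mem_nonZeroDivisors_of_ne_zero h0)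
    have hst' : ι eb₂ * ι t' = ι (r : S ⧸ Q) := by
      rw [← map_mul]; exact congrArg ι hst
    have hιr : ι (r : S ⧸ Q) ≠ 0 :=
      fun h => hr (Subtype.ext (hι (h.trans (map_zero ι).symm)))
    have hιe₂ : ι eb₂ ≠ 0 := fun h => h0 (hι (h.trans (map_zero ι).symm))
    have ha : ι (eb₁ * t') = l * ι (r : S ⧸ Q) := by
      rw [← hyz, ← hst', map_mul]
      field_simp
    refine ⟨eb₁ * t', ?_, r, r.2, hιr, ha.symm⟩
    rw [hD, ha]
    exact L.mul_mem hl ((hD _).mp r.2)


end Groth.Agent.S16445
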