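import Groth.Statements.S16446
import Groth.Agent.Lib.Helper69.HensStage2
import Groth.Agent.Lib.Helper69.HensQuot

set_option autoImplicit false
universe u
open Hensel

namespace Groth.Agent.S16446

/-- Let A be an excellent henselian reduced local ring, S a strict henselization of A and Q a minimal
prime ideal of S with contraction q to A; let K be the fraction field of S/Q and L the subfield of K
generated over the image of A by a finite subset t of K. Then there is an A-subalgebra E of S, a
local ring and an essentially etale local A-algebra, such that (i) every minimal prime ideal of S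
over the ideal qS is generated by its contraction to E, and (ii) every element of S/Q whose image in
K lies in L is the class of an element of E — so that the intersection of L with S/Q equals its
intersection with the image of E. -/
theorem result
    (A S : Type u) [CommRing A] [HenselianLocalRing A] [IsReduced A] (hA : EGA4.IsExcellent A)
    [CommRing S] [IsLocalRing S] [Algebra A S] [IsLocalHom (algebraMap A S)]
    [Hensel.IsStrictHenselization A S] (Q : Ideal S) (hQ : Q ∈ minimalPrimes S) [Q.IsPrime]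
    (t : Finset (FractionRing (S ⧸ Q))) :
    ∃ E : Subalgebra A S, ∃ _ : IsLocalRing E, EGA4loc.IsEssentiallyEtale A E ∧
      (∀ Q' ∈ ((Q.comap (algebraMap A S)).map (algebraMap A S)).minimalPrimes,
        Q' = Ideal.map (algebraMap E S) (Q'.comap (algebraMap E S))) ∧
      ∀ x : S, algebraMap (S ⧸ Q) (FractionRing (S ⧸ Q)) (Ideal.Quotient.mk Q x) ∈
          Subfield.closure (Set.range (algebraMap A (FractionRing (S ⧸ Q))) ∪
            (t : Set (FractionRing (S ⧸ Q)))) →
        ∃ e ∈ E, Ideal.Quotient.mk Q e = Ideal.Quotient.mk Q x := by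
  classical
  obtain ⟨hNoeth, -, -, -⟩ := hA
  haveI : IsNoetherianRing A := hNoeth
  have hS : Hensel.IsStrictHenselization A S := inferInstance
  haveI hSN : IsNoetherianRing S := Groth.Agent.Lib.Helper69.HensQuot.isNoetherianRing_strict A S
  haveI hSbloc : IsLocalRing (S ⧸ Q) := Groth.Agent.Lib.Helper69.HensQuot.isLocalRing_quotient S Q
  haveI hπloc : IsLocalHom (Ideal.Quotient.mk Q) :=
    Groth.Agent.Lib.Helper69.HensQuot.isLocalHom_mk S Q
  let π : S →ₐ[A] S ⧸ Q := Ideal.Quotient.mkₐ A Q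
  have hπ : ∀ x, π x = Ideal.Quotient.mk Q x := fun x => rfl
  have hπsurj : Function.Surjective π := Ideal.Quotient.mk_surjective
  have hπker : ∀ x, π x = 0 ↔ x ∈ Q := fun x => Ideal.Quotient.eq_zero_iff_mem
  let ι : (S ⧸ Q) →+* FractionRing (S ⧸ Q) := algebraMap (S ⧸ Q) (FractionRing (S ⧸ Q))
  have hι : Function.Injective ι := IsFractionRing.injective (S ⧸ Q) (FractionRing (S ⧸ Q))
  set L : Subfield (FractionRing (S ⧸ Q)) := Subfield.closure
    (Set.range (algebraMap A (FractionRing (S ⧸ Q))) ∪ (t : Set (FractionRing (S ⧸ Q)))) with hL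
  have hAL : ∀ a : A, algebraMap A (FractionRing (S ⧸ Q)) a ∈ L :=
    fun a => Subfield.subset_closure (Or.inl ⟨a, rfl⟩)
  let L' : Subalgebra A (FractionRing (S ⧸ Q)) :=
    { L.toSubring.toSubsemiring with algebraMap_mem' := hAL }
  let D : Subalgebra A (S ⧸ Q) :=
    L'.comap (IsScalarTower.toAlgHom A (S ⧸ Q) (FractionRing (S ⧸ Q)))
  have hD : ∀ x : S ⧸ Q, x ∈ D ↔ ι x ∈ L := fun x => Iff.rfl
  have key : ∀ d : D, IsUnit (d : S ⧸ Q) → IsUnit d := by
    rintro ⟨d, hd⟩ hu
    obtain ⟨u, rfl⟩ := hu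
    have hinv : ((u⁻¹ : (S ⧸ Q)ˣ) : S ⧸ Q) ∈ D := by
      rw [hD]
      have h1 : ι ((u⁻¹ : (S ⧸ Q)ˣ) : S ⧸ Q) = (ι (u : S ⧸ Q))⁻¹ := by
        refine eq_inv_of_mul_eq_one_right ?_
        rw [← map_mul]; simp
      rw [h1]
      exact L.inv_mem ((hD _).mp hd)
    refine ⟨⟨⟨(u : S ⧸ Q), hd⟩, ⟨((u⁻¹ : (S ⧸ Q)ˣ) : S ⧸ Q), hinv⟩, ?_, ?_⟩, rfl⟩
    · exact Subtype.ext (by simp)
    · exact Subtype.ext (by simp)
  have hlocal : IsLocalRing D := by
    refine IsLocalRing.of_isUnit_or_isUnit_one_sub_self fun a => ?_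
    rcases IsLocalRing.isUnit_or_isUnit_one_sub_self (a : S ⧸ Q) with h | h
    · exact Or.inl (key a h)
    · exact Or.inr (key (1 - a) (by simpa using h))
  have hDS : IsLocalHom (algebraMap D (S ⧸ Q)) := ⟨fun a ha => key a ha⟩
  -- numerators, denominators, lifted to S
  let num : FractionRing (S ⧸ Q) → S ⧸ Q :=
    fun y => (IsLocalization.sec (nonZeroDivisors (S ⧸ Q)) y).1
  let den : FractionRing (S ⧸ Q) → S ⧸ Q :=
    fun y => ((IsLocalization.sec (nonZeroDivisors (S ⧸ Q)) y).2 : S ⧸ Q)
  have hsec : ∀ y, y * ι (den y) = ι (num y) := fun y => IsLocalization.sec_spec _ y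
  have hden : ∀ y, den y ∈ nonZeroDivisors (S ⧸ Q) :=
    fun y => (IsLocalization.sec (nonZeroDivisors (S ⧸ Q)) y).2.2
  let numS : FractionRing (S ⧸ Q) → S := fun y => (hπsurj (num y)).choose
  let denS : FractionRing (S ⧸ Q) → S := fun y => (hπsurj (den y)).choose
  have hnumS : ∀ y, π (numS y) = num y := fun y => (hπsurj (num y)).choose_spec
  have hdenS : ∀ y, π (denS y) = den y := fun y => (hπsurj (den y)).choose_spec
  obtain ⟨qs, hqs⟩ : Q.FG := IsNoetherian.noetherian Q
  have hfin : ((Q.comap (algebraMap A S)).map (algebraMap A S)).minimalPrimes.Finite :=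
    Ideal.finite_minimalPrimes_of_isNoetherianRing S _
  let gens : Ideal S → Finset S := fun I => (IsNoetherian.noetherian I : I.FG).choose
  have hgens : ∀ I : Ideal S, Ideal.span (gens I : Set S) = I :=
    fun I => (IsNoetherian.noetherian I : I.FG).choose_spec
  let σ : Finset S := ((t.image numS ∪ t.image denS) ∪ hfin.toFinset.biUnion gens) ∪ qs
  obtain ⟨E, hσE, hlocE, hE_local, hE⟩ := Groth.Agent.Lib.Helper69.HensStage2.exists_stage A S σ
  obtain ⟨hQF, hFl, hEF, hFU⟩ :=
    Groth.Agent.Lib.Helper69.HensStage2.props_of_isEssentiallyEtale A E hE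
  have hQE : Q ≤ Ideal.map (algebraMap E S) (Q.comap (algebraMap E S)) := by
    have h0 : Ideal.span (qs : Set S) ≤
        Ideal.map (algebraMap E S) (Q.comap (algebraMap E S)) := by
      rw [Ideal.span_le]
      intro q hq
      have hqE : q ∈ E := hσE q (Finset.mem_union_right _ (Finset.mem_coe.mp hq))
      have hqQ : q ∈ Q := by rw [← hqs]; exact Ideal.subset_span hq
      have : (⟨q, hqE⟩ : E) ∈ Q.comap (algebraMap E S) := hqQ
      exact Ideal.mem_map_of_mem (algebraMap E S) this
    rw [hqs] at h0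
    exact h0
  let E' : Subalgebra A (S ⧸ Q) := E.map π
  let KE : Subfield (FractionRing (S ⧸ Q)) := Subfield.closure (ι '' (E' : Set (S ⧸ Q)))
  have hLKE : L ≤ KE := by
    rw [hL, Subfield.closure_le]
    rintro y (⟨a, rfl⟩ | hy)
    · refine Subfield.subset_closure ⟨algebraMap A (S ⧸ Q) a, E'.algebraMap_mem a, ?_⟩
      exact (IsScalarTower.algebraMap_apply A (S ⧸ Q) (FractionRing (S ⧸ Q)) a).symm
    · have hy' : y ∈ t := Finset.mem_coe.mp hy
      have hn : ι (num y) ∈ KE := Subfield.subset_closure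
        ⟨num y, ⟨numS y, hσE _ (Finset.mem_union_left _ (Finset.mem_union_left _ (Finset.mem_union_left _
          (Finset.mem_image_of_mem _ hy')))), hnumS y⟩, rfl⟩
      have hd : ι (den y) ∈ KE := Subfield.subset_closure
        ⟨den y, ⟨denS y, hσE _ (Finset.mem_union_left _ (Finset.mem_union_left _ (Finset.mem_union_right _
          (Finset.mem_image_of_mem _ hy')))), hdenS y⟩, rfl⟩
      have hd0 : ι (den y) ≠ 0 := by
        intro h0
        have h1 : den y = 0 := hι (h0.trans (map_zero ι).symm)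
        exact nonZeroDivisors.ne_zero (hden y) h1
      have hyq : y = ι (num y) / ι (den y) := by rw [← hsec y]; field_simp
      change y ∈ KE
      rw [hyq]; exact KE.div_mem hn hd
  have hDE : D ≤ E' := by
    intro x hx
    have hxKE : ι x ∈ KE := hLKE ((hD x).mp hx)
    rw [Subfield.mem_closure_iff] at hxKE
    obtain ⟨y, hy, z, hz, hyz⟩ := hxKE
    have hcl : ∀ w ∈ Subring.closure (ι '' (E' : Set (S ⧸ Q))), ∃ e ∈ E', ι e = w := by
      intro w hw
      have hle : Subring.closure (ι '' (E' : Set (S ⧸ Q))) ≤ (E'.toSubring.map ι) :=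
        Subring.closure_le.mpr (by rintro _ ⟨e, he, rfl⟩; exact ⟨e, he, rfl⟩)
      obtain ⟨e, he, rfl⟩ := hle hw
      exact ⟨e, he, rfl⟩
    obtain ⟨eb₁, heb₁, rfl⟩ := hcl y hy
    obtain ⟨eb₂, heb₂, rfl⟩ := hcl z hz
    by_cases h0 : eb₂ = 0
    · rw [h0, map_zero, div_zero] at hyz
      have hx0 : x = 0 := hι (hyz.symm.trans (map_zero ι).symm)
      rw [hx0]; exact E'.zero_mem
    · have h1 : eb₂ * x = eb₁ := by
        apply hι
        rw [map_mul, ← hyz]
        have : ι eb₂ ≠ 0 := fun h => h0 (hι (h.trans (map_zero ι).symm))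
        field_simp
      obtain ⟨e₁, he₁, rfl⟩ := heb₁
      obtain ⟨e₂, he₂, rfl⟩ := heb₂
      obtain ⟨xS, rfl⟩ := hπsurj x
      have he₂Q : e₂ ∉ Q := fun h => h0 ((hπker e₂).mpr h)
      have hmem : e₂ * xS - e₁ ∈ Q := by
        rw [← hπker, map_sub, map_mul]
        exact sub_eq_zero.mpr h1
      obtain ⟨e, he⟩ := Groth.Agent.Lib.Helper69.HensQuot.exists_sub_mem_of_mul_sub_mem A S E hE
        hlocE Q hQE xS ⟨e₁, he₁⟩ ⟨e₂, he₂⟩ he₂Q hmem
      have : π xS = π (e : S) := by
        rw [← sub_eq_zero, ← map_sub, hπker]; exact he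
      rw [this]
      exact ⟨(e : S), e.2, rfl⟩
  refine ⟨E, hE_local, hE, ?_, ?_⟩
  · intro Q' hQ'
    apply le_antisymm
    · have h0 : Ideal.span (gens Q' : Set S) ≤
          Ideal.map (algebraMap E S) (Q'.comap (algebraMap E S)) := by
        rw [Ideal.span_le]
        intro q hq
        have hqE : q ∈ E := hσE q (Finset.mem_union_left _ (Finset.mem_union_right _
          (Finset.mem_biUnion.mpr ⟨Q', hfin.mem_toFinset.mpr hQ', Finset.mem_coe.mp hq⟩)))
        have hqQ : q ∈ Q' := by rw [← hgens Q']; exact Ideal.subset_span hq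
        have : (⟨q, hqE⟩ : E) ∈ Q'.comap (algebraMap E S) := hqQ
        exact Ideal.mem_map_of_mem (algebraMap E S) this
      rw [hgens] at h0
      exact h0
    · exact Ideal.map_comap_le
  · intro x hx
    have hxD : π x ∈ D := hx
    obtain ⟨e, he, hex⟩ := hDE hxD
    exact ⟨e, he, hex⟩


end Groth.Agent.S16446
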