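import Groth.Statements.S16447
import Groth.Agent.Lib.Helper38.SemilocalNorm
import Groth.Agent.Lib.Helper69.TotFrac

set_option autoImplicit false
universe u
open EGA4loc

namespace Groth.Agent.S16447

/-- Let A be a Noetherian reduced local ring, E a local ring which is an essentially etale local
A-algebra with local structure map, K_E the total ring of fractions of E, E' the integral closure of
E in K_E (viewed as an A-subalgebra of K_E), and L an A-subalgebra of K_E containing an inverse of
the image of every non-zero-divisor of A. Let C be the A-subalgebra L ⊓ E' of K_E. Then C is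
integrally closed in L, C has only finitely many maximal ideals, the maximal ideals of C are exactly
the contractions of the maximal ideals of E', and every element of L is an element of C times the
inverse of the image of a non-zero-divisor of A. (The published statement assumes only that A is
reduced; its proof uses that the integral closure of E in K_E has finitely many maximal ideals,
which holds when A is Noetherian and can fail otherwise, so A is taken Noetherian here.) -/
theorem result
    (A E : Type u) [CommRing A] [IsLocalRing A] [IsReduced A] [IsNoetherianRing A]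
    [CommRing E] [IsLocalRing E] [Algebra A E] [IsLocalHom (algebraMap A E)]
    (hE : EGA4loc.IsEssentiallyEtale A E) (L : Subalgebra A (FractionRing E))
    (hL : ∀ s ∈ nonZeroDivisors A, ∃ y ∈ L, algebraMap A (FractionRing E) s * y = 1)
    (C : Subalgebra A (FractionRing E))
    (hC : C = L ⊓ (integralClosure E (FractionRing E)).restrictScalars A) :
    (∀ x ∈ L, IsIntegral C x → x ∈ C) ∧
      {N : Ideal C | N.IsMaximal}.Finite ∧
      (∀ N : Ideal C, N.IsMaximal ↔ ∃ M : Ideal ((integralClosure E (FractionRing E)).restrictScalars A),
          M.IsMaximal ∧ N = M.comap (Subalgebra.inclusion (hC.trans_le inf_le_right))) ∧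
      ∀ l ∈ L, ∃ c ∈ C, ∃ s ∈ nonZeroDivisors A, ∃ y ∈ L,
        algebraMap A (FractionRing E) s * y = 1 ∧ l = c * y := by
  classical
  obtain ⟨C₀, _, _, q, _, hEt, hq, ⟨e⟩⟩ := hE
  have : Algebra.QuasiFinite A C₀ := inferInstance
  have : Algebra.QuasiFinite A (Localization.AtPrime q) := inferInstance
  have hQF : Algebra.QuasiFinite A E := (Algebra.QuasiFinite.iff_of_algEquiv e).mpr inferInstance
  have : Module.Flat A C₀ := inferInstance
  have : Module.Flat A (Localization.AtPrime q) := Module.Flat.trans A C₀ _
  have hFl : Module.Flat A E := Module.Flat.of_linearEquiv e.toLinearEquiv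
  have hN0 : IsNoetherianRing C₀ := Algebra.FiniteType.isNoetherianRing A C₀
  have hN1 : IsNoetherianRing (Localization.AtPrime q) :=
    IsLocalization.isNoetherianRing q.primeCompl _ hN0
  have hNoeth : IsNoetherianRing E :=
    isNoetherianRing_of_ringEquiv (Localization.AtPrime q) e.symm.toRingEquiv
  have hmin : (minimalPrimes A).Finite := minimalPrimes.finite_of_isNoetherianRing A
  have hloc : IsLocalization (Algebra.algebraMapSubmonoid E (nonZeroDivisors A)) (FractionRing E) :=
    Groth.Agent.Lib.Helper69.TotFrac.isLocalization_fractionRing A E hmin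
  subst hC
  -- units
  have hunit : ∀ c : ↥(L ⊓ (integralClosure E (FractionRing E)).restrictScalars A),
      IsUnit (Subalgebra.inclusion (inf_le_right :
        L ⊓ (integralClosure E (FractionRing E)).restrictScalars A ≤ _) c) → IsUnit c := by
    intro c hc
    obtain ⟨d, hd⟩ := isUnit_iff_exists_inv.mp hc
    have hd' : c.1 * d.1 = 1 := congrArg Subtype.val hd
    have hu : IsUnit c.1 := isUnit_iff_exists_inv.mpr ⟨d.1, hd'⟩
    obtain ⟨l, hlL, hl⟩ := Groth.Agent.Lib.Helper69.TotFrac.exists_inv_mem_subalgebra_fractionRing
      A E hmin L hL c.1 c.2.1 hu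
    have hld : l = d.1 := by
      calc l = l * (c.1 * d.1) := by rw [hd', mul_one]
        _ = (c.1 * l) * d.1 := by ring
        _ = d.1 := by rw [hl, one_mul]
    have hlmem : l ∈ L ⊓ (integralClosure E (FractionRing E)).restrictScalars A :=
      ⟨hlL, hld ▸ d.2⟩
    exact isUnit_iff_exists_inv.mpr ⟨⟨l, hlmem⟩, Subtype.ext hl⟩
  obtain ⟨h2, h3⟩ := Groth.Agent.Lib.Helper38.SemilocalNorm.maximal_iff_of_units A
    ((integralClosure E (FractionRing E)).restrictScalars A)
    ↥(L ⊓ (integralClosure E (FractionRing E)).restrictScalars A)
    (Subalgebra.inclusion inf_le_right)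
    (Groth.Agent.Lib.Helper38.SemilocalNorm.finite_maximal_integralClosure A E)
    (fun M hM => Groth.Agent.Lib.Helper38.SemilocalNorm.quotient_isIntegral A E M hM)
    hunit
  refine ⟨?_, h2, h3, ?_⟩
  · -- integrally closed in L
    intro x hxL hx
    refine ⟨hxL, ?_⟩
    obtain ⟨p, hp, hpx⟩ := hx
    let j' : ↥(L ⊓ (integralClosure E (FractionRing E)).restrictScalars A) →+*
        ↥(integralClosure E (FractionRing E)) :=
      RingHom.codRestrict
        (L ⊓ (integralClosure E (FractionRing E)).restrictScalars A).val.toRingHom
        (integralClosure E (FractionRing E)) (fun c => c.2.2)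
    have h1 : IsIntegral (integralClosure E (FractionRing E)) x := by
      refine ⟨p.map j', hp.map j', ?_⟩
      rw [Polynomial.eval₂_map]
      exact hpx
    exact isIntegral_trans (R := E) (A := integralClosure E (FractionRing E)) x h1
  · -- denominators
    intro l hl
    obtain ⟨⟨e₀, t⟩, het⟩ := IsLocalization.surj
      (Algebra.algebraMapSubmonoid E (nonZeroDivisors A)) l
    simp only at het
    obtain ⟨s, hs, hst⟩ := t.2
    obtain ⟨y, hyL, hy⟩ := hL s hs
    have hts : algebraMap E (FractionRing E) (t : E) = algebraMap A (FractionRing E) s := by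
      rw [← hst, ← IsScalarTower.algebraMap_apply]
    rw [hts] at het
    refine ⟨algebraMap E (FractionRing E) e₀, ⟨?_, ?_⟩, s, hs, y, hyL, hy, ?_⟩
    · rw [← het]
      exact L.mul_mem hl (L.algebraMap_mem s)
    · exact isIntegral_algebraMap
    · rw [← het, mul_assoc, hy, mul_one]

end Groth.Agent.S16447
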