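import Groth.Statements.S7669
import Mathlib
import Groth.Agent.Lib.Helper35.FinPic
import Groth.Agent.Lib.Helper91.S7669Alg
import Groth.Agent.Lib.Lead.Inv4

set_option autoImplicit false
universe u
open CategoryTheory CategoryTheory.Limits AlgebraicGeometry
open Variety

set_option linter.unusedSectionVars false

namespace Groth.Agent.S7669Aux

open TopologicalSpace Opposite
open Groth.Agent.Lib.Helper35.AbSheaf Groth.Agent.Lib.Helper35.Gen
open Groth.Agent.Lib.Helper35.PbInv Groth.Agent.Lib.Helper35.PerfAmple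
open Groth.Agent.Lib.Lead.CocycleMod Groth.Agent.Lib.Helper91.S7669Alg

/-- descent of an invertible module along `f`, given trivialising neighbourhoods (after helper35's
`FinPic.exists_descent`) -/
theorem exists_descent' {X Y : Scheme.{u}} (f : X ⟶ Y) (V : Y.Opens)
    (hbij : ∀ S : Y.Opens, S ≤ V → Function.Bijective (f.app S).hom) {L : X.Modules}
    (hnhd : ∀ y : Y, ∃ W : Y.Opens, y ∈ W ∧ (∀ z ∈ W, z ∉ V → z = y) ∧
      ∃ e : Γ(L, f ⁻¹ᵁ W), IsGen L (f ⁻¹ᵁ W) e) :
    ∃ N : Y.Modules, PicF.IsInvertible N ∧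
      Nonempty ((Scheme.Modules.pullback f).obj N ≅ L) := by
  classical
  choose W hyW hWV e he using hnhd
  have hWV' : ∀ i j, i ≠ j → W i ⊓ W j ≤ V := by
    intro i j hij z hz
    by_contra hzV
    exact hij ((hWV i z hz.1 hzV).symm.trans (hWV j z hz.2 hzV))
  have hu0 : ∀ i j, ∃ a : Γ(X, f ⁻¹ᵁ (W i ⊓ W j)),
      rs L (f.preimage_mono (inf_le_left : W i ⊓ W j ≤ W i)) (e i) =
        a • rs L (f.preimage_mono (inf_le_right : W i ⊓ W j ≤ W j)) (e j) := fun i j =>
    ((he j).mono (f.preimage_mono (inf_le_right : W i ⊓ W j ≤ W j))).exists_eq_smul _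
  choose u hu using hu0
  have huself : ∀ i, u i i = 1 := by
    intro i
    have h1 := hu i i
    have h2 : (1 : Γ(X, f ⁻¹ᵁ (W i ⊓ W i))) •
        rs L (f.preimage_mono (inf_le_right : W i ⊓ W i ≤ W i)) (e i) =
        u i i • rs L (f.preimage_mono (inf_le_right : W i ⊓ W i ≤ W i)) (e i) := by
      rw [one_smul]
      exact h1
    exact (((he i).mono (f.preimage_mono (inf_le_right : W i ⊓ W i ≤ W i))).smul_injective
      h2).symm
  have hcoc : ∀ (i j k : Y) (T : Y.Opens) (h1 : T ≤ W i ⊓ W j) (h2 : T ≤ W j ⊓ W k)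
      (h3 : T ≤ W i ⊓ W k), rr X (f.preimage_mono h3) (u i k) =
      rr X (f.preimage_mono h1) (u i j) * rr X (f.preimage_mono h2) (u j k) := by
    intro i j k T h1 h2 h3
    have hYi : f ⁻¹ᵁ T ≤ f ⁻¹ᵁ W i := f.preimage_mono (h1.trans inf_le_left)
    have hYj : f ⁻¹ᵁ T ≤ f ⁻¹ᵁ W j := f.preimage_mono (h1.trans inf_le_right)
    have hYk : f ⁻¹ᵁ T ≤ f ⁻¹ᵁ W k := f.preimage_mono (h2.trans inf_le_right)
    have A : rs L hYi (e i) = rr X (f.preimage_mono h1) (u i j) • rs L hYj (e j) := by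
      have := congrArg (rs L (f.preimage_mono h1)) (hu i j)
      rw [rs_rs, rs_smul, rs_rs] at this
      exact this
    have B : rs L hYj (e j) = rr X (f.preimage_mono h2) (u j k) • rs L hYk (e k) := by
      have := congrArg (rs L (f.preimage_mono h2)) (hu j k)
      rw [rs_rs, rs_smul, rs_rs] at this
      exact this
    have C : rs L hYi (e i) = rr X (f.preimage_mono h3) (u i k) • rs L hYk (e k) := by
      have := congrArg (rs L (f.preimage_mono h3)) (hu i k)
      rw [rs_rs, rs_smul, rs_rs] at this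
      exact this
    rw [B, ← mul_smul] at A
    rw [A] at C
    exact (((he k).mono hYk).smul_injective C).symm
  have hη0 : ∀ i j, ∃ a : Γ(Y, W i ⊓ W j), papp f (W i ⊓ W j) a = u i j ∧ (i = j → a = 1) := by
    intro i j
    by_cases hij : i = j
    · subst hij
      exact ⟨1, by rw [map_one, huself], fun _ => rfl⟩
    · obtain ⟨a, ha⟩ := (hbij _ (hWV' i j hij)).2 (u i j)
      exact ⟨a, ha, fun h => absurd h hij⟩
  choose η hηu hηself using hη0
  have hη : ∀ (i j k : Y) (T : Y.Opens) (h1 : T ≤ W i ⊓ W j) (h2 : T ≤ W j ⊓ W k)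
      (h3 : T ≤ W i ⊓ W k), rr Y h3 (η i k) = rr Y h1 (η i j) * rr Y h2 (η j k) := by
    intro i j k T h1 h2 h3
    by_cases hijk : i = j ∧ j = k
    · obtain ⟨rfl, rfl⟩ := hijk
      rw [hηself i i rfl, map_one, mul_one]
    · have hTV : T ≤ V := by
        by_cases hij : i = j
        · have hjk : j ≠ k := fun h => hijk ⟨hij, h⟩
          exact h2.trans (hWV' j k hjk)
        · exact h1.trans (hWV' i j hij)
      apply (hbij T hTV).1
      change papp f T _ = papp f T _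
      rw [map_mul, papp_rr, papp_rr, papp_rr, hηu, hηu, hηu]
      exact hcoc i j k T h1 h2 h3
  have hηunit : ∀ i, IsUnit (η i i) := by
    intro i
    rw [hηself i i rfl]
    exact isUnit_one
  have hgenN : ∀ i, IsGen (cocMod W η) (W i) (gen hη i) := fun i S h =>
    gen_bijective hη hηunit i S h
  have hNinv : PicF.IsInvertible (cocMod W η) := by
    apply isInvertible_of_isGen
    intro x
    exact ⟨W x, hyW x, gen hη x, hgenN x⟩
  refine ⟨cocMod W η, hNinv, ?_⟩
  refine Groth.Agent.Lib.Helper35.CocIso.nonempty_iso (fun i => f ⁻¹ᵁ W i)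
    (fun i => pbSec f (cocMod W η) (W i) (gen hη i))
    (fun i => isGen_pbSec f (cocMod W η) (W i) (gen hη i) (hgenN i))
    e ?_ he (fun x => ⟨f x, hyW (f x)⟩)
  intro i j
  have e2 : rs ((Scheme.Modules.pullback f).obj (cocMod W η))
      (f.preimage_mono (inf_le_left : W i ⊓ W j ≤ W i))
        (pbSec f (cocMod W η) (W i) (gen hη i)) =
      u i j • rs ((Scheme.Modules.pullback f).obj (cocMod W η))
        (f.preimage_mono (inf_le_right : W i ⊓ W j ≤ W j))
          (pbSec f (cocMod W η) (W j) (gen hη j)) := by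
    rw [pbSec_rs f _ (inf_le_left : W i ⊓ W j ≤ W i),
      pbSec_rs f _ (inf_le_right : W i ⊓ W j ≤ W j), gen_rel hη i j, pbSec_smul, ← hηu i j]
    rfl
  exact ⟨u i j, e2, hu i j⟩

variable {X : Scheme.{u}}

lemma ι_app_bijective (U : X.Opens) (S : X.Opens) (hS : S ≤ U) :
    Function.Bijective (U.ι.app S).hom := by
  have h1 : U.ι ''ᵁ (U.ι ⁻¹ᵁ S) = S := by
    rw [Scheme.Hom.image_preimage_eq_opensRange_inf, Scheme.Opens.opensRange_ι]
    exact inf_eq_right.mpr hS
  rw [Scheme.Opens.ι_app]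
  exact Groth.Agent.Lib.Lead.Inv.resX_bijective_of_eq h1


lemma exists_nhd_gen (U : X.Opens) [QuasiCompact U.ι]
    (hdisc : DiscreteTopology ↥((U : Set X)ᶜ))
    (hloc : ∀ x : X, x ∉ U → IsNoetherianRing (X.presheaf.stalk x) ∧
      ringKrullDim (X.presheaf.stalk x) ≤ 1)
    (N : (↑U : Scheme.{u}).Modules) (hN : PicF.IsInvertible N) (y : X) :
    ∃ W : X.Opens, y ∈ W ∧ (∀ z ∈ W, z ∉ U → z = y) ∧
      ∃ e : Γ(N, U.ι ⁻¹ᵁ W), IsGen N (U.ι ⁻¹ᵁ W) e := by
  classical
  by_cases hy : y ∈ U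
  · obtain ⟨V, haV, e, he⟩ := exists_isGen_of_isInvertible hN (⟨y, hy⟩ : (↑U : Scheme.{u}))
    have heq : U.ι ⁻¹ᵁ (U.ι ''ᵁ V) = V := Scheme.Hom.preimage_image_eq U.ι V
    refine ⟨U.ι ''ᵁ V, ⟨⟨y, hy⟩, haV, rfl⟩, ?_, rs N heq.le e, he.mono heq.le⟩
    intro z hz hzU
    exact absurd (U.ι_image_le V hz) hzU
  · obtain ⟨hNoeth, hdim⟩ := hloc y hy
    obtain ⟨W₁, hW₁, f₁, hyW₁, hiso, hf₁⟩ := exists_nhd_function U hdisc y hy hNoeth hdim
    have hTfin := finite_generizations y hNoeth hdim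
    have hinj : Function.Injective U.ι := U.ι.isOpenEmbedding.injective
    -- the affine open `D(f₁)` inside `U`
    have hD : IsAffineOpen (X.basicOpen f₁) := hW₁.basicOpen f₁
    have hDU : X.basicOpen f₁ ≤ U := hf₁.le.trans inf_le_left
    have hD' : IsAffineOpen (U.ι ⁻¹ᵁ X.basicOpen f₁) := by
      apply U.ι.isAffineOpen_iff_of_isOpenImmersion.mp
      have h1 : U.ι ''ᵁ (U.ι ⁻¹ᵁ X.basicOpen f₁) = X.basicOpen f₁ := by
        rw [Scheme.Hom.image_preimage_eq_opensRange_inf, Scheme.Opens.opensRange_ι]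
        exact inf_eq_right.mpr hDU
      rw [h1]
      exact hD
    have hT'fin : (U.ι ⁻¹' {z : X | z ⤳ y}).Finite := Set.Finite.preimage hinj.injOn hTfin
    obtain ⟨G, -, hTG, ⟨φ⟩⟩ := Groth.Agent.Lib.Helper35.Triv.exists_affine_trivial N hN
      hT'fin.toFinset ⟨U.ι ⁻¹ᵁ X.basicOpen f₁, hD', fun a ha => by
        have ha' : U.ι a ⤳ y := (Set.Finite.mem_toFinset hT'fin).mp ha
        change U.ι a ∈ X.basicOpen f₁
        rw [hf₁]
        exact ⟨a.2, ha'.mem_open W₁.isOpen hyW₁⟩⟩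
    obtain ⟨eG, heG⟩ := exists_isGen_of_iso G φ
    obtain ⟨g, hyg, hg⟩ := exists_basicOpen_disjoint hW₁ y hyW₁ f₁
      (((U.ι ''ᵁ G : X.Opens) : Set X)ᶜ) (U.ι ''ᵁ G).isOpen.isClosed_compl (by
        intro z hzC hzf hzy
        apply hzC
        have hzU : z ∈ U := hDU hzf
        refine ⟨⟨z, hzU⟩, ?_, rfl⟩
        apply hTG
        exact (Set.Finite.mem_toFinset hT'fin).mpr hzy)
    have hle : U.ι ⁻¹ᵁ X.basicOpen g ≤ G := by
      intro a ha
      have h1 : U.ι a ∈ X.basicOpen g := ha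
      have h2 : U.ι a ∈ X.basicOpen f₁ := by
        rw [hf₁]
        exact ⟨a.2, X.basicOpen_le g h1⟩
      have h3 : U.ι a ∈ ((U.ι ''ᵁ G : X.Opens) : Set X) := by
        by_contra h
        exact hg _ h1 h2 h
      obtain ⟨b, hbG, hba⟩ := h3
      have : b = a := hinj hba
      exact this ▸ hbG
    refine ⟨X.basicOpen g, hyg, ?_, rs N hle eG, heG.mono hle⟩
    intro z hz hzU
    exact hiso z (X.basicOpen_le g hz) hzU


theorem part2 (U : X.Opens) [QuasiCompact U.ι]
    (hdisc : DiscreteTopology ↥((U : Set X)ᶜ))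
    (hloc : ∀ x : X, x ∉ U → IsNoetherianRing (X.presheaf.stalk x) ∧
      ringKrullDim (X.presheaf.stalk x) ≤ 1)
    (N : (↑U : Scheme.{u}).Modules) (hN : PicF.IsInvertible N) :
    ∃ L : X.Modules, PicF.IsInvertible L ∧ Nonempty (L.restrict U.ι ≅ N) := by
  obtain ⟨L, hL, ⟨φ⟩⟩ := exists_descent' U.ι U (ι_app_bijective U)
    (exists_nhd_gen U hdisc hloc N hN)
  refine ⟨L, hL, ⟨?_ ≪≫ φ⟩⟩
  exact ((Scheme.Modules.restrictAdjunction U.ι).leftAdjointUniq
    (Scheme.Modules.pullbackPushforwardAdjunction U.ι)).app L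

lemma isUnit_rr_of_le_basicOpen {V T : X.Opens} (a : Γ(X, V)) (hT : T ≤ V)
    (hTa : T ≤ X.basicOpen a) : IsUnit (rr X hT a) := by
  have h1 : IsUnit (X.presheaf.map (homOfLE (X.basicOpen_le a)).op a) :=
    RingedSpace.isUnit_res_basicOpen X.toRingedSpace a
  have h2 := h1.map (rr X hTa)
  have h3 : rr X hTa (rr X (X.basicOpen_le a) a) = rr X hT a := rr_rr _ _ _
  rw [← h3]
  exact h2

theorem part1 (U : X.Opens) [QuasiCompact U.ι]
    (hdisc : DiscreteTopology ↥((U : Set X)ᶜ))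
    (hloc : ∀ x : X, x ∉ U → IsNoetherianRing (X.presheaf.stalk x) ∧
      ringKrullDim (X.presheaf.stalk x) ≤ 1) :
    ∃ (L : X.Modules) (s : Coh.structureModule X ⟶ L), PicF.IsInvertible L ∧
      CohB1.genLocus L s = U := by
  classical
  have hdata : ∀ x : {x : X // x ∉ U}, ∃ (W : X.Opens) (f : Γ(X, W)), x.1 ∈ W ∧
      (∀ z ∈ W, z ∉ U → z = x.1) ∧ X.basicOpen f = U ⊓ W := by
    intro x
    obtain ⟨W, -, f, h1, h2, h3⟩ :=
      exists_nhd_function U hdisc x.1 x.2 (hloc x.1 x.2).1 (hloc x.1 x.2).2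
    exact ⟨W, f, h1, h2, h3⟩
  choose W₁ f₁ hxW hiso hf₁ using hdata
  -- the cover and the functions
  have hcover : ∃ (Wc : Option {x : X // x ∉ U} → X.Opens) (sf : ∀ i, Γ(X, Wc i)),
      (∀ i, X.basicOpen (sf i) = U ⊓ Wc i) ∧ (∀ z : X, ∃ i, z ∈ Wc i) ∧
      (∀ i j, i ≠ j → Wc i ⊓ Wc j ≤ U) := by
    refine ⟨fun i => Option.rec U W₁ i,
      fun i => Option.rec (motive := fun i => Γ(X, (Option.rec U W₁ i : X.Opens)))
        (1 : Γ(X, U)) f₁ i, ?_, ?_, ?_⟩
    · rintro (_ | x)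
      · change X.basicOpen (1 : Γ(X, U)) = U ⊓ U
        rw [X.basicOpen_of_isUnit isUnit_one, inf_idem]
      · exact hf₁ x
    · intro z
      by_cases hz : z ∈ U
      · exact ⟨none, hz⟩
      · exact ⟨some ⟨z, hz⟩, hxW ⟨z, hz⟩⟩
    · rintro (_ | x) (_ | y) hij
      · exact absurd rfl hij
      · exact inf_le_left
      · exact inf_le_right
      · intro z hz
        by_contra hzU
        apply hij
        have h1 := hiso x z hz.1 hzU
        have h2 := hiso y z hz.2 hzU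
        exact congrArg some (Subtype.ext (h1.symm.trans h2))
  obtain ⟨Wc, sf, hbo, hcov, hWU⟩ := hcover
  -- the transition functions
  have hη0 : ∀ i j, ∃ a : Γ(X, Wc i ⊓ Wc j),
      rr X (inf_le_left : Wc i ⊓ Wc j ≤ Wc i) (sf i) * a =
        rr X (inf_le_right : Wc i ⊓ Wc j ≤ Wc j) (sf j) ∧ (i = j → a = 1) := by
    intro i j
    by_cases hij : i = j
    · subst hij
      exact ⟨1, by rw [mul_one], fun _ => rfl⟩
    · have hu : IsUnit (rr X (inf_le_left : Wc i ⊓ Wc j ≤ Wc i) (sf i)) := by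
        apply isUnit_rr_of_le_basicOpen
        rw [hbo i]
        exact le_inf (hWU i j hij) inf_le_left
      obtain ⟨v, hv⟩ := hu.exists_right_inv
      refine ⟨v * rr X (inf_le_right : Wc i ⊓ Wc j ≤ Wc j) (sf j), ?_, fun h => absurd h hij⟩
      rw [← mul_assoc, hv, one_mul]
  choose η hηrel hηself using hη0
  have hηrelT : ∀ (i j : Option {x : X // x ∉ U}) (T : X.Opens) (hi : T ≤ Wc i) (hj : T ≤ Wc j)
      (hij : T ≤ Wc i ⊓ Wc j), rr X hi (sf i) * rr X hij (η i j) = rr X hj (sf j) := by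
    intro i j T hi hj hij
    have := congrArg (rr X hij) (hηrel i j)
    rw [map_mul, rr_rr, rr_rr] at this
    exact this
  have hη : ∀ (i j k : Option {x : X // x ∉ U}) (T : X.Opens) (h1 : T ≤ Wc i ⊓ Wc j)
      (h2 : T ≤ Wc j ⊓ Wc k) (h3 : T ≤ Wc i ⊓ Wc k),
      rr X h3 (η i k) = rr X h1 (η i j) * rr X h2 (η j k) := by
    intro i j k T h1 h2 h3
    by_cases hijk : i = j ∧ j = k
    · obtain ⟨rfl, rfl⟩ := hijk
      rw [hηself i i rfl, map_one, mul_one]
    · have hTU : T ≤ U := by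
        by_cases hij : i = j
        · have hjk : j ≠ k := fun h => hijk ⟨hij, h⟩
          exact h2.trans (hWU j k hjk)
        · exact h1.trans (hWU i j hij)
      have hTi : T ≤ Wc i := h1.trans inf_le_left
      have hTj : T ≤ Wc j := h1.trans inf_le_right
      have hTk : T ≤ Wc k := h2.trans inf_le_right
      have hu : IsUnit (rr X hTi (sf i)) := by
        apply isUnit_rr_of_le_basicOpen
        rw [hbo i]
        exact le_inf hTU hTi
      apply hu.mul_left_cancel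
      rw [hηrelT i k T hTi hTk h3, ← mul_assoc, hηrelT i j T hTi hTj h1, hηrelT j k T hTj hTk h2]
  have hηunit : ∀ i, IsUnit (η i i) := by
    intro i
    rw [hηself i i rfl]
    exact isUnit_one
  have hgen : ∀ i, IsGen (cocMod Wc η) (Wc i) (gen hη i) := fun i S h =>
    gen_bijective hη hηunit i S h
  have hLinv : PicF.IsInvertible (cocMod Wc η) := by
    apply isInvertible_of_isGen
    intro x
    obtain ⟨i, hi⟩ := hcov x
    exact ⟨Wc i, hi, gen hη i, hgen i⟩
  -- the section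
  let σ : secs Wc η ⊤ := ⟨fun i => rr X (inf_le_right : ⊤ ⊓ Wc i ≤ Wc i) (sf i), by
    intro i j T h1 h2 h3
    rw [rr_rr, rr_rr]
    exact (hηrelT i j T _ _ h3).symm⟩
  let σ' : Γ(cocMod Wc η, ⊤) := σ
  let s : Coh.structureModule X ⟶ cocMod Wc η :=
    Groth.Agent.Lib.Helper35.GlobGen.secHom (cocMod Wc η) σ'
  refine ⟨cocMod Wc η, s, hLinv, ?_⟩
  have hloc' : ∀ i, CohB1.genLocus (cocMod Wc η) s ⊓ Wc i = X.basicOpen (sf i) := by
    intro i
    refine Groth.Agent.Lib.Lead.Inv.genLocus_inf_eq_basicOpen (e := gen hη i)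
      (fun S h => hgen i S h) s (sf i) ?_
    rw [Groth.Agent.Lib.Lead.Inv.val_secHom]
    change sf i • gen hη i = rs (cocMod Wc η) (le_top : Wc i ≤ ⊤) σ'
    rw [rs_eq_resHom, smul_eq]
    apply secs_ext
    intro k
    rw [smul_apply, resHom_apply]
    change rr X _ (sf i) * η i k = rr X _ (rr X _ (sf k))
    rw [rr_rr]
    exact hηrel i k
  ext z
  obtain ⟨i, hi⟩ := hcov z
  constructor
  · intro hz
    have h1 : z ∈ CohB1.genLocus (cocMod Wc η) s ⊓ Wc i := ⟨hz, hi⟩
    rw [hloc' i, hbo i] at h1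
    exact h1.1
  · intro hz
    have h1 : z ∈ X.basicOpen (sf i) := by
      rw [hbo i]
      exact ⟨hz, hi⟩
    rw [← hloc' i] at h1
    exact h1.1

theorem main (X : Scheme.{u}) (U : X.Opens)
    [QuasiCompact U.ι] (hdisc : DiscreteTopology ↥((U : Set X)ᶜ))
    (hloc : ∀ x : X, x ∉ U → IsNoetherianRing (X.presheaf.stalk x) ∧ ringKrullDim (X.presheaf.stalk x) ≤ 1) :
    (∃ (L : X.Modules) (s : Coh.structureModule X ⟶ L), PicF.IsInvertible L ∧ CohB1.genLocus L s = U) ∧
      ∀ N : (↑U : Scheme.{u}).Modules, PicF.IsInvertible N →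
        ∃ L : X.Modules, PicF.IsInvertible L ∧ Nonempty (L.restrict U.ι ≅ N) :=
  ⟨part1 U hdisc hloc, fun N hN => part2 U hdisc hloc N hN⟩

end Groth.Agent.S7669Aux

namespace Groth.Agent.S7669

/-- Let X be a scheme and U ⊆ X a retrocompact open such that X ∖ U is discrete and O_{X,x} is
Noetherian of dimension ≤ 1 for every x ∈ X ∖ U. Then (1) there are an invertible module L and a
global section s with U = X_s, and (2) Pic(X) → Pic(U) is surjective. -/
theorem result (X : Scheme.{u}) (U : X.Opens)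
    [QuasiCompact U.ι] (hdisc : DiscreteTopology ↥((U : Set X)ᶜ))
    (hloc : ∀ x : X, x ∉ U → IsNoetherianRing (X.presheaf.stalk x) ∧ ringKrullDim (X.presheaf.stalk x) ≤ 1) :
    (∃ (L : X.Modules) (s : Coh.structureModule X ⟶ L), PicF.IsInvertible L ∧ CohB1.genLocus L s = U) ∧
      ∀ N : (↑U : Scheme.{u}).Modules, PicF.IsInvertible N →
        ∃ L : X.Modules, PicF.IsInvertible L ∧ Nonempty (L.restrict U.ι ≅ N) := by
  exact Groth.Agent.S7669Aux.main X U hdisc hloc

end Groth.Agent.S7669
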