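import Groth.Statements.S1645
import Mathlib
import Groth.Agent.Lib.Helper35.FinPic
import Groth.Agent.Lib.Helper91.S7669Alg
import Groth.Agent.Lib.Lead.Inv4
import Groth.Agent.Lib.Lead.Tw3
import Groth.Agent.S7669
import Groth.Agent.S1640

set_option autoImplicit false
universe u
open CategoryTheory CategoryTheory.Limits AlgebraicGeometry
open Variety

set_option linter.unusedSectionVars false

namespace Groth.Agent.S1645Aux

open TopologicalSpace Opposite
open Groth.Agent.Lib.Helper35.AbSheaf Groth.Agent.Lib.Helper35.Gen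
open Groth.Agent.Lib.Helper35.PbInv Groth.Agent.Lib.Helper35.PerfAmple
open Groth.Agent.Lib.Lead.CocycleMod Groth.Agent.Lib.Helper91.S7669Alg
open Groth.Agent.S7669Aux

variable {X : Scheme.{u}}

/-- in a one-dimensional local domain every nonzero prime is the maximal ideal -/
lemma prime_eq_maximalIdeal {B : Type*} [CommRing B] [IsDomain B] [IsLocalRing B]
    (hdim : ringKrullDim B ≤ 1) (p : Ideal B) [p.IsPrime] (hp : p ≠ ⊥) :
    p = IsLocalRing.maximalIdeal B := by
  have h1 : Ring.KrullDimLE 1 B := (Ring.krullDimLE_iff).mpr hdim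
  have h2 := (Ring.krullDimLE_one_iff).mp h1 p inferInstance
  rcases h2 with h | h
  · rw [IsDomain.minimalPrimes_eq_singleton_bot] at h
    exact absurd h hp
  · exact IsLocalRing.eq_maximalIdeal h

lemma sup_eq_top [IsIntegral X] [X.IsSeparated] (U : X.Opens) (hU : IsAffineOpen U) [Nonempty U]
    (x : X) (hx : x ∉ U) (hdim : ringKrullDim (X.presheaf.stalk x) ≤ 1) :
    (algebraMap Γ(X, U) X.functionField).range ⊔
      (algebraMap (X.presheaf.stalk x) X.functionField).range = ⊤ := by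
  classical
  set K := X.functionField with hK
  set R : Subring K := (algebraMap Γ(X, U) K).range ⊔ (algebraMap (X.presheaf.stalk x) K).range
    with hR
  by_contra hne
  let ψA : Γ(X, U) →+* R := (algebraMap Γ(X, U) K).codRestrict R
    (fun a => (le_sup_left : _ ≤ R) ⟨a, rfl⟩)
  let ψB : X.presheaf.stalk x →+* R := (algebraMap (X.presheaf.stalk x) K).codRestrict R
    (fun a => (le_sup_right : _ ≤ R) ⟨a, rfl⟩)
  have hψB : ∀ b, ((ψB b : R) : K) = algebraMap (X.presheaf.stalk x) K b := fun b => rfl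
  -- `R` is not a field
  have hnf : ¬ IsField R := by
    intro hf
    apply hne
    rw [eq_top_iff]
    intro k _
    obtain ⟨p, q, hq, hk⟩ := IsFractionRing.div_surjective (A := X.presheaf.stalk x) k
    have hq0 : ψB q ≠ 0 := by
      intro h0
      have : algebraMap (X.presheaf.stalk x) K q = 0 := by
        rw [← hψB, h0]; rfl
      have hq' : q ≠ 0 := nonZeroDivisors.ne_zero hq
      exact hq' ((IsFractionRing.injective (X.presheaf.stalk x) K)
        (this.trans (map_zero _).symm))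
    obtain ⟨w, hw⟩ := hf.mul_inv_cancel hq0
    have hw' : algebraMap (X.presheaf.stalk x) K q * (w : K) = 1 := congrArg Subtype.val hw
    have : k = (ψB p : K) * (w : K) := by
      rw [← hk, hψB, div_eq_mul_inv, eq_inv_of_mul_eq_one_right hw']
    rw [this]
    exact R.mul_mem (ψB p).2 w.2
  obtain ⟨P, hP0, hPprime⟩ := Ring.not_isField_iff_exists_prime.mp hnf
  -- the contraction to the local ring is the maximal ideal
  have hcomap : P.comap ψB = IsLocalRing.maximalIdeal (X.presheaf.stalk x) := by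
    haveI : (P.comap ψB).IsPrime := Ideal.IsPrime.comap ψB
    apply prime_eq_maximalIdeal hdim
    obtain ⟨r, hrP, hr0⟩ := Submodule.exists_mem_ne_zero_of_ne_bot hP0
    obtain ⟨p, q, hq, hk⟩ := IsFractionRing.div_surjective (A := X.presheaf.stalk x) (r : K)
    have hq0 : algebraMap (X.presheaf.stalk x) K q ≠ 0 := by
      intro h0
      exact nonZeroDivisors.ne_zero hq ((IsFractionRing.injective (X.presheaf.stalk x) K)
        (h0.trans (map_zero _).symm))
    have hp : ψB p = r * ψB q := by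
      apply Subtype.ext
      change algebraMap _ K p = (r : K) * algebraMap _ K q
      rw [← hk, div_mul_cancel₀ _ hq0]
    have hpP : p ∈ P.comap ψB := by
      rw [Ideal.mem_comap, hp]
      exact P.mul_mem_right _ hrP
    intro hbot
    rw [hbot] at hpP
    have hp0 : p = 0 := hpP
    rw [hp0, map_zero, zero_div] at hk
    exact hr0 (Subtype.ext hk.symm)
  -- the two morphisms
  let φ1 : Spec (CommRingCat.of R) ⟶ X := Spec.map (CommRingCat.ofHom ψA) ≫ hU.fromSpec
  let φ2 : Spec (CommRingCat.of R) ⟶ X := Spec.map (CommRingCat.ofHom ψB) ≫ X.fromSpecStalk x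
  let ι : Spec (CommRingCat.of K) ⟶ Spec (CommRingCat.of R) :=
    Spec.map (CommRingCat.ofHom R.subtype)
  have hgen : genericPoint X ∈ U :=
    ((genericPoint_spec X).mem_open_set_iff U.isOpen).mpr (by simpa using ‹Nonempty U›)
  have h1 : ι ≫ φ1 = X.fromSpecStalk (genericPoint X) := by
    rw [← hU.fromSpecStalk_eq_fromSpecStalk hgen, IsAffineOpen.fromSpecStalk]
    change Spec.map _ ≫ Spec.map _ ≫ _ = _
    rw [← Spec.map_comp_assoc]
    rfl
  have h2 : ι ≫ φ2 = X.fromSpecStalk (genericPoint X) := by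
    rw [← Scheme.SpecMap_stalkSpecializes_fromSpecStalk
      ((genericPoint_spec X).specializes (Set.mem_univ x))]
    change Spec.map _ ≫ Spec.map _ ≫ _ = _
    rw [← Spec.map_comp_assoc]
    rfl
  haveI : IsDominant ι := by
    constructor
    have : DenseRange (PrimeSpectrum.comap R.subtype) := by
      rw [PrimeSpectrum.denseRange_comap_iff_ker_le_nilRadical]
      intro r hr
      have : r = 0 := Subtype.ext (by simpa using hr)
      rw [this]; exact Submodule.zero_mem _
    exact this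
  have h12 : φ1 = φ2 := ext_of_isDominant ι (h1.trans h2.symm)
  let Pt : Spec (CommRingCat.of R) := ⟨P, hPprime⟩
  have e1 : φ1 Pt ∈ U := by
    have : φ1 Pt ∈ Set.range hU.fromSpec := ⟨_, rfl⟩
    rw [hU.range_fromSpec] at this
    exact this
  have e2 : φ2 Pt = x := by
    change X.fromSpecStalk x (Spec.map (CommRingCat.ofHom ψB) Pt) = x
    have : Spec.map (CommRingCat.ofHom ψB) Pt = IsLocalRing.closedPoint (X.presheaf.stalk x) := by
      apply PrimeSpectrum.ext
      exact hcomap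
    rw [this]
    exact Scheme.fromSpecStalk_closedPoint
  rw [h12, e2] at e1
  exact hx e1


lemma isFractionRing_range {R K : Type*} [CommRing R] [Field K] [Algebra R K]
    [IsFractionRing R K] : IsFractionRing (algebraMap R K).range K := by
  haveI : FaithfulSMul (algebraMap R K).range K := inferInstance
  apply IsFractionRing.of_field
  intro z
  obtain ⟨p, q, -, hk⟩ := IsFractionRing.div_surjective (A := R) z
  exact ⟨⟨algebraMap R K p, p, rfl⟩, ⟨algebraMap R K q, q, rfl⟩, hk.symm⟩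

lemma exists_global_inverse [IsIntegral X] [X.IsSeparated] (U : X.Opens) (hU : IsAffineOpen U)
    [Nonempty U] (hfin : ((U : Set X)ᶜ).Finite)
    (hloc : ∀ x : X, x ∉ U → IsNoetherianRing (X.presheaf.stalk x) ∧
      ringKrullDim (X.presheaf.stalk x) = 1) :
    ∃ a : Γ(X, U), a ≠ 0 ∧ ∀ x : X, x ∉ U → ∃ g : X.presheaf.stalk x,
      g ∈ IsLocalRing.maximalIdeal (X.presheaf.stalk x) ∧
      algebraMap Γ(X, U) X.functionField a * algebraMap (X.presheaf.stalk x) X.functionField g = 1 := by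
  classical
  set K := X.functionField with hK
  haveI : IsFractionRing Γ(X, U) K := functionField_isFractionRing_of_isAffineOpen X U hU
  haveI := hfin.fintype
  let r := Fintype.card ↥((U : Set X)ᶜ)
  let e : Fin r ≃ ↥((U : Set X)ᶜ) := (Fintype.equivFin _).symm
  let pt : Fin r → X := fun i => (e i).1
  have hpt : ∀ i, pt i ∉ U := fun i => (e i).2
  let A : Subring K := (algebraMap Γ(X, U) K).range
  let B : Fin r → Subring K := fun i => (algebraMap (X.presheaf.stalk (pt i)) K).range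
  haveI : IsFractionRing A K := isFractionRing_range
  haveI hBN : ∀ i, IsNoetherianRing (B i) := by
    intro i
    haveI := (hloc (pt i) (hpt i)).1
    exact isNoetherianRing_of_surjective _ _ (algebraMap (X.presheaf.stalk (pt i)) K).rangeRestrict
      (RingHom.rangeRestrict_surjective _)
  haveI hBF : ∀ i, IsFractionRing (B i) K := fun i => isFractionRing_range
  have hinj : ∀ i, Function.Injective (algebraMap (X.presheaf.stalk (pt i)) K).rangeRestrict := by
    intro i a b h
    exact IsFractionRing.injective _ K (congrArg Subtype.val h)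
  let eB : ∀ i, X.presheaf.stalk (pt i) ≃+* B i := fun i =>
    RingEquiv.ofBijective _ ⟨hinj i, RingHom.rangeRestrict_surjective _⟩
  have hdim : ∀ i, ringKrullDim (B i) = 1 := by
    intro i
    rw [← ringKrullDim_eq_of_ringEquiv (eB i)]
    exact (hloc (pt i) (hpt i)).2
  haveI hBloc : ∀ i, IsLocalRing (B i) := fun i =>
    IsLocalRing.of_surjective' (algebraMap (X.presheaf.stalk (pt i)) K).rangeRestrict
      (RingHom.rangeRestrict_surjective _)
  have hsl : ∀ i, Finite (MaximalSpectrum (B i)) := by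
    intro i
    haveI : Subsingleton (MaximalSpectrum (B i)) :=
      ⟨fun m n => MaximalSpectrum.ext ((IsLocalRing.eq_maximalIdeal m.isMaximal).trans
        (IsLocalRing.eq_maximalIdeal n.isMaximal).symm)⟩
    exact Finite.of_subsingleton
  have hgen : ∀ i, A ⊔ B i = ⊤ := fun i =>
    sup_eq_top U hU (pt i) (hpt i) (le_of_eq (hloc (pt i) (hpt i)).2)
  obtain ⟨k, hkA, hk0, hk⟩ := Groth.Agent.S1640.result K A r B hdim hsl hgen
  obtain ⟨a, rfl⟩ := hkA
  refine ⟨a, fun h => hk0 (by rw [h, map_zero]), ?_⟩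
  have hP : ∀ i : Fin r, ∃ g : X.presheaf.stalk (pt i),
      g ∈ IsLocalRing.maximalIdeal (X.presheaf.stalk (pt i)) ∧
      algebraMap Γ(X, U) K a * algebraMap (X.presheaf.stalk (pt i)) K g = 1 := by
    intro i
    obtain ⟨hx, hjac⟩ := hk i
    have hx' := hx
    obtain ⟨g, hg⟩ := hx'
    refine ⟨g, ?_, ?_⟩
    · rw [IsLocalRing.mem_maximalIdeal, mem_nonunits_iff]
      intro hu
      have hu' : IsUnit (⟨(algebraMap Γ(X, U) K a)⁻¹, hx⟩ : B i) := by
        have := hu.map (algebraMap (X.presheaf.stalk (pt i)) K).rangeRestrict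
        convert this using 1
        exact Subtype.ext hg.symm
      have htop : (⊥ : Ideal (B i)).jacobson = ⊤ := Ideal.eq_top_of_isUnit_mem _ hjac hu'
      rw [Ideal.jacobson_eq_top_iff] at htop
      exact bot_ne_top htop
    · rw [hg]
      exact mul_inv_cancel₀ hk0
  intro x hx
  have h1 := hP (e.symm ⟨x, hx⟩)
  have h2 : pt (e.symm ⟨x, hx⟩) = x := congrArg Subtype.val (e.apply_symm_apply ⟨x, hx⟩)
  rw [h2] at h1
  exact h1


lemma eq_of_specializes [IsIntegral X] (U : X.Opens) [Nonempty U] (x y : X) (hy : y ∉ U)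
    (hdim : ringKrullDim (X.presheaf.stalk x) ≤ 1) (hyx : y ⤳ x) : y = x := by
  have hgen : genericPoint X ∈ U :=
    ((genericPoint_spec X).mem_open_set_iff U.isOpen).mpr (by simpa using ‹Nonempty U›)
  have hy' : y ∈ Set.range (X.fromSpecStalk x) := by
    rw [Scheme.range_fromSpecStalk]; exact hyx
  obtain ⟨p, rfl⟩ := hy'
  by_cases hp : p.asIdeal = ⊥
  · exfalso
    have hη : genericPoint X ∈ Set.range (X.fromSpecStalk x) := by
      rw [Scheme.range_fromSpecStalk]
      exact (genericPoint_spec X).specializes (Set.mem_univ x)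
    obtain ⟨p', hp'⟩ := hη
    have h1 : p ⤳ p' := by
      have h0 : (show PrimeSpectrum (X.presheaf.stalk x) from p) ≤
          (show PrimeSpectrum (X.presheaf.stalk x) from p') := by
        change p.asIdeal ≤ p'.asIdeal
        rw [hp]; exact bot_le
      exact (PrimeSpectrum.le_iff_specializes _ _).mp h0
    have h2 : X.fromSpecStalk x p ⤳ genericPoint X := by
      rw [← hp']
      exact h1.map (X.fromSpecStalk x).continuous
    have h3 : genericPoint X ⤳ X.fromSpecStalk x p :=
      (genericPoint_spec X).specializes (Set.mem_univ _)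
    have h4 : X.fromSpecStalk x p = genericPoint X := (h2.antisymm h3).eq
    rw [h4] at hy
    exact hy hgen
  · haveI := p.isPrime
    have h1 := prime_eq_maximalIdeal hdim p.asIdeal hp
    have h2 : p = IsLocalRing.closedPoint (X.presheaf.stalk x) := PrimeSpectrum.ext h1
    rw [h2]
    exact Scheme.fromSpecStalk_closedPoint

lemma discrete_compl [IsIntegral X] (U : X.Opens) [Nonempty U] (hfin : ((U : Set X)ᶜ).Finite)
    (hloc : ∀ x : X, x ∉ U → ringKrullDim (X.presheaf.stalk x) ≤ 1) :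
    DiscreteTopology ↥((U : Set X)ᶜ) := by
  haveI : Finite ↥((U : Set X)ᶜ) := hfin.to_subtype
  haveI : T1Space ↥((U : Set X)ᶜ) := by
    rw [t1Space_iff_specializes_imp_eq]
    intro y x hyx
    have hyx' : (y : X) ⤳ (x : X) := (subtype_specializes_iff y x).mp hyx
    exact Subtype.ext (eq_of_specializes U x.1 y.1 y.2 (hloc x.1 x.2) hyx')
  infer_instance

/-- spreading out the local inverse -/
lemma exists_nhd_inverse [IsIntegral X] (U : X.Opens) [Nonempty U]
    (hdisc : DiscreteTopology ↥((U : Set X)ᶜ)) (a : Γ(X, U)) (x : X) (hx : x ∉ U)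
    (g : X.presheaf.stalk x) (hg : g ∈ IsLocalRing.maximalIdeal (X.presheaf.stalk x))
    (hag : algebraMap Γ(X, U) X.functionField a *
      algebraMap (X.presheaf.stalk x) X.functionField g = 1) :
    ∃ (W : X.Opens) (gW : Γ(X, W)), x ∈ W ∧ (∀ z ∈ W, z ∉ U → z = x) ∧
      X.basicOpen gW = U ⊓ W ∧
      ∀ (T : X.Opens) (hTU : T ≤ U) (hTW : T ≤ W), rr X hTU a * rr X hTW gW = 1 := by
  obtain ⟨W₀, hxW₀, g₀, hg₀⟩ := X.presheaf.exists_germ_eq g
  obtain ⟨O₁, hxO₁, hO₁⟩ := exists_open_isolating U hdisc x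
  let W : X.Opens := W₀ ⊓ O₁
  have hxW : x ∈ W := ⟨hxW₀, hxO₁⟩
  let gW : Γ(X, W) := rr X (inf_le_left : W ≤ W₀) g₀
  have hgerm : X.presheaf.germ W x hxW gW = g := by
    rw [← hg₀]
    exact X.presheaf.germ_res_apply (homOfLE (inf_le_left : W ≤ W₀)) x hxW g₀
  haveI : Nonempty W := ⟨⟨x, hxW⟩⟩
  have hne : ((U ⊓ W : X.Opens) : Set X).Nonempty := by
    have h1 : (U : Set X).Nonempty := Set.nonempty_coe_sort.mp ‹Nonempty U›
    have h2 : (W : Set X).Nonempty := ⟨x, hxW⟩
    exact nonempty_preirreducible_inter U.isOpen W.isOpen h1 h2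
  haveI : Nonempty (U ⊓ W : X.Opens) := Set.nonempty_coe_sort.mpr hne
  have hrel0 : rr X (inf_le_left : U ⊓ W ≤ U) a * rr X (inf_le_right : U ⊓ W ≤ W) gW = 1 := by
    apply X.germToFunctionField_injective (U ⊓ W)
    rw [map_mul, map_one]
    have e1 : X.germToFunctionField (U ⊓ W) (rr X (inf_le_left : U ⊓ W ≤ U) a) =
        algebraMap Γ(X, U) X.functionField a :=
      X.presheaf.germ_res_apply (homOfLE (inf_le_left : U ⊓ W ≤ U)) _ _ a
    have e2 : X.germToFunctionField (U ⊓ W) (rr X (inf_le_right : U ⊓ W ≤ W) gW) =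
        algebraMap (X.presheaf.stalk x) X.functionField g := by
      rw [← hgerm, Scheme.algebraMap_germ_eq_germToFunctionField]
      exact X.presheaf.germ_res_apply (homOfLE (inf_le_right : U ⊓ W ≤ W)) _ _ gW
    rw [e1, e2]
    exact hag
  refine ⟨W, gW, hxW, fun z hz hzU => hO₁ z hz.2 hzU, ?_, ?_⟩
  · apply le_antisymm
    · intro z hz
      have hzW : z ∈ W := X.basicOpen_le gW hz
      refine ⟨?_, hzW⟩
      by_contra hzU
      have hzx : z = x := hO₁ z hzW.2 hzU
      subst hzx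
      rw [Scheme.mem_basicOpen X gW z hzW, hgerm] at hz
      exact hg hz
    · have hu : IsUnit (rr X (inf_le_right : U ⊓ W ≤ W) gW) :=
        IsUnit.of_mul_eq_one _ (by rw [mul_comm]; exact hrel0)
      have h1 := X.basicOpen_res gW (homOfLE (inf_le_right : U ⊓ W ≤ W)).op
      have h2 : X.basicOpen (rr X (inf_le_right : U ⊓ W ≤ W) gW) = U ⊓ W :=
        X.basicOpen_of_isUnit hu
      have h3 : U ⊓ W = (U ⊓ W) ⊓ X.basicOpen gW := h2.symm.trans h1
      rw [h3]
      exact inf_le_right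
  · intro T hTU hTW
    have := congrArg (rr X (le_inf hTU hTW : T ≤ U ⊓ W)) hrel0
    rw [map_mul, rr_rr, rr_rr, map_one] at this
    exact this


theorem glue2 {I : Type u} (U : X.Opens) (Wc : I → X.Opens) (sf sf' : ∀ i, Γ(X, Wc i))
    (hbo : ∀ i, X.basicOpen (sf i) = U ⊓ Wc i) (hcov : ∀ z : X, ∃ i, z ∈ Wc i)
    (hWU : ∀ i j, i ≠ j → Wc i ⊓ Wc j ≤ U)
    (hrel' : ∀ i j, rr X (inf_le_left : Wc i ⊓ Wc j ≤ Wc i) (sf' i) *
        rr X (inf_le_right : Wc i ⊓ Wc j ≤ Wc j) (sf j) =
      rr X (inf_le_right : Wc i ⊓ Wc j ≤ Wc j) (sf' j) *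
        rr X (inf_le_left : Wc i ⊓ Wc j ≤ Wc i) (sf i)) :
    ∃ (L : X.Modules) (σ τ : Γ(L, ⊤)), PicF.IsInvertible L ∧
      CohB1.genLocus L (Groth.Agent.Lib.Helper35.GlobGen.secHom L σ) = U ∧
      ∀ i, CohB1.genLocus L (Groth.Agent.Lib.Helper35.GlobGen.secHom L τ) ⊓ Wc i =
        X.basicOpen (sf' i) := by
  classical
  -- the transition functions
  have hη0 : ∀ i j, ∃ a : Γ(X, Wc i ⊓ Wc j),
      rr X (inf_le_left : Wc i ⊓ Wc j ≤ Wc i) (sf i) * a =
        rr X (inf_le_right : Wc i ⊓ Wc j ≤ Wc j) (sf j) ∧ (i = j → a = 1) := by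
    intro i j
    by_cases hij : i = j
    · subst hij
      exact ⟨1, by rw [mul_one], fun _ => rfl⟩
    · have hu : IsUnit (rr X (inf_le_left : Wc i ⊓ Wc j ≤ Wc i) (sf i)) := by
        apply isUnit_rr_of_le_basicOpen
        rw [hbo i]
        exact le_inf (hWU i j hij) inf_le_left
      obtain ⟨v, hv⟩ := hu.exists_right_inv
      refine ⟨v * rr X (inf_le_right : Wc i ⊓ Wc j ≤ Wc j) (sf j), ?_, fun h => absurd h hij⟩
      rw [← mul_assoc, hv, one_mul]
  choose η hηrel hηself using hη0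
  have hηrel' : ∀ i j, rr X (inf_le_left : Wc i ⊓ Wc j ≤ Wc i) (sf' i) * η i j =
      rr X (inf_le_right : Wc i ⊓ Wc j ≤ Wc j) (sf' j) := by
    intro i j
    by_cases hij : i = j
    · subst hij
      rw [hηself i i rfl, mul_one]
    · have hu : IsUnit (rr X (inf_le_left : Wc i ⊓ Wc j ≤ Wc i) (sf i)) := by
        apply isUnit_rr_of_le_basicOpen
        rw [hbo i]
        exact le_inf (hWU i j hij) inf_le_left
      apply hu.mul_left_cancel
      rw [mul_left_comm, hηrel i j, hrel' i j, mul_comm]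
  have hηrelT : ∀ (i j : I) (T : X.Opens) (hi : T ≤ Wc i) (hj : T ≤ Wc j)
      (hij : T ≤ Wc i ⊓ Wc j), rr X hi (sf i) * rr X hij (η i j) = rr X hj (sf j) := by
    intro i j T hi hj hij
    have := congrArg (rr X hij) (hηrel i j)
    rw [map_mul, rr_rr, rr_rr] at this
    exact this
  have hηrelT' : ∀ (i j : I) (T : X.Opens) (hi : T ≤ Wc i) (hj : T ≤ Wc j)
      (hij : T ≤ Wc i ⊓ Wc j), rr X hi (sf' i) * rr X hij (η i j) = rr X hj (sf' j) := by
    intro i j T hi hj hij
    have := congrArg (rr X hij) (hηrel' i j)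
    rw [map_mul, rr_rr, rr_rr] at this
    exact this
  have hη : ∀ (i j k : I) (T : X.Opens) (h1 : T ≤ Wc i ⊓ Wc j)
      (h2 : T ≤ Wc j ⊓ Wc k) (h3 : T ≤ Wc i ⊓ Wc k),
      rr X h3 (η i k) = rr X h1 (η i j) * rr X h2 (η j k) := by
    intro i j k T h1 h2 h3
    by_cases hijk : i = j ∧ j = k
    · obtain ⟨rfl, rfl⟩ := hijk
      rw [hηself i i rfl, map_one, mul_one]
    · have hTU : T ≤ U := by
        by_cases hij : i = j
        · have hjk : j ≠ k := fun h => hijk ⟨hij, h⟩
          exact h2.trans (hWU j k hjk)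
        · exact h1.trans (hWU i j hij)
      have hTi : T ≤ Wc i := h1.trans inf_le_left
      have hTj : T ≤ Wc j := h1.trans inf_le_right
      have hTk : T ≤ Wc k := h2.trans inf_le_right
      have hu : IsUnit (rr X hTi (sf i)) := by
        apply isUnit_rr_of_le_basicOpen
        rw [hbo i]
        exact le_inf hTU hTi
      apply hu.mul_left_cancel
      rw [hηrelT i k T hTi hTk h3, ← mul_assoc, hηrelT i j T hTi hTj h1, hηrelT j k T hTj hTk h2]
  have hηunit : ∀ i, IsUnit (η i i) := by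
    intro i
    rw [hηself i i rfl]
    exact isUnit_one
  have hgen : ∀ i, IsGen (cocMod Wc η) (Wc i) (gen hη i) := fun i S h =>
    gen_bijective hη hηunit i S h
  have hLinv : PicF.IsInvertible (cocMod Wc η) := by
    apply isInvertible_of_isGen
    intro x
    obtain ⟨i, hi⟩ := hcov x
    exact ⟨Wc i, hi, gen hη i, hgen i⟩
  -- the sections
  let σ : secs Wc η ⊤ := ⟨fun i => rr X (inf_le_right : ⊤ ⊓ Wc i ≤ Wc i) (sf i), by
    intro i j T h1 h2 h3
    rw [rr_rr, rr_rr]
    exact (hηrelT i j T _ _ h3).symm⟩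
  let τ : secs Wc η ⊤ := ⟨fun i => rr X (inf_le_right : ⊤ ⊓ Wc i ≤ Wc i) (sf' i), by
    intro i j T h1 h2 h3
    rw [rr_rr, rr_rr]
    exact (hηrelT' i j T _ _ h3).symm⟩
  let σ' : Γ(cocMod Wc η, ⊤) := σ
  let τ' : Γ(cocMod Wc η, ⊤) := τ
  refine ⟨cocMod Wc η, σ', τ', hLinv, ?_, ?_⟩
  · set s : Coh.structureModule X ⟶ cocMod Wc η :=
      Groth.Agent.Lib.Helper35.GlobGen.secHom (cocMod Wc η) σ' with hs
    have hloc' : ∀ i, CohB1.genLocus (cocMod Wc η) s ⊓ Wc i = X.basicOpen (sf i) := by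
      intro i
      refine Groth.Agent.Lib.Lead.Inv.genLocus_inf_eq_basicOpen (e := gen hη i)
        (fun S h => hgen i S h) s (sf i) ?_
      rw [Groth.Agent.Lib.Lead.Inv.val_secHom]
      change sf i • gen hη i = rs (cocMod Wc η) (le_top : Wc i ≤ ⊤) σ'
      rw [rs_eq_resHom, smul_eq]
      apply secs_ext
      intro k
      rw [smul_apply, resHom_apply]
      change rr X _ (sf i) * η i k = rr X _ (rr X _ (sf k))
      rw [rr_rr]
      exact hηrel i k
    ext z
    obtain ⟨i, hi⟩ := hcov z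
    constructor
    · intro hz
      have h1 : z ∈ CohB1.genLocus (cocMod Wc η) s ⊓ Wc i := ⟨hz, hi⟩
      rw [hloc' i, hbo i] at h1
      exact h1.1
    · intro hz
      have h1 : z ∈ X.basicOpen (sf i) := by
        rw [hbo i]
        exact ⟨hz, hi⟩
      rw [← hloc' i] at h1
      exact h1.1
  · intro i
    refine Groth.Agent.Lib.Lead.Inv.genLocus_inf_eq_basicOpen (e := gen hη i)
      (fun S h => hgen i S h) _ (sf' i) ?_
    rw [Groth.Agent.Lib.Lead.Inv.val_secHom]
    change sf' i • gen hη i = rs (cocMod Wc η) (le_top : Wc i ≤ ⊤) τ'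
    rw [rs_eq_resHom, smul_eq]
    apply secs_ext
    intro k
    rw [smul_apply, resHom_apply]
    change rr X _ (sf' i) * η i k = rr X _ (rr X _ (sf' k))
    rw [rr_rr]
    exact hηrel' i k

/-- two sections whose generating loci cover `X` generate -/
theorem gg_of_two {L : X.Modules} (σ τ : Γ(L, ⊤))
    (hcov : ∀ x : X, x ∈ CohB1.genLocus L (Groth.Agent.Lib.Helper35.GlobGen.secHom L σ) ∨
      x ∈ CohB1.genLocus L (Groth.Agent.Lib.Helper35.GlobGen.secHom L τ)) :
    Curv2.IsGloballyGenerated L := by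
  apply Groth.Agent.Lib.Lead.Inv.isGloballyGenerated_of_spanGen L
    (fun b : ULift.{u} Bool => if b.down then σ else τ)
  intro V t₀ x hx
  have key : ∀ (ρ : Γ(L, ⊤)) (b : ULift.{u} Bool), (if b.down then σ else τ) = ρ →
      x ∈ CohB1.genLocus L (Groth.Agent.Lib.Helper35.GlobGen.secHom L ρ) →
      ∃ (W : X.Opens) (hW : W ≤ V), x ∈ W ∧
        L.presheaf.map (homOfLE hW).op t₀ ∈ Submodule.span Γ(X, W)
          (Set.range fun i : ULift.{u} Bool => L.presheaf.map (homOfLE (le_top : W ≤ ⊤)).op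
            (if i.down then σ else τ)) := by
    intro ρ b hb hxρ
    set G := CohB1.genLocus L (Groth.Agent.Lib.Helper35.GlobGen.secHom L ρ) with hG
    have hgenG : Groth.Agent.Lib.Lead.Inv.IsGen L G
        (Groth.Agent.Lib.Lead.Inv.val (Groth.Agent.Lib.Helper35.GlobGen.secHom L ρ) G) :=
      (Groth.Agent.Lib.Lead.Inv.le_genLocus_iff_isGen _ G).mp le_rfl
    refine ⟨V ⊓ G, inf_le_left, ⟨hx, hxρ⟩, ?_⟩
    obtain ⟨r, hr⟩ := (hgenG (V ⊓ G) inf_le_right).2 (L.presheaf.map (homOfLE inf_le_left).op t₀)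
    rw [← hr]
    apply Submodule.smul_mem
    apply Submodule.subset_span
    refine ⟨b, ?_⟩
    change L.presheaf.map _ (if b.down then σ else τ) = _
    rw [hb, Groth.Agent.Lib.Lead.Inv.val_secHom]
    rw [← Functor.map_comp_apply]
    rfl
  rcases hcov x with h | h
  · exact key σ ⟨true⟩ rfl h
  · exact key τ ⟨false⟩ rfl h


theorem main (X : Scheme.{u}) [IsIntegral X] [X.IsSeparated]
    (U : X.Opens) (hU : IsAffineOpen U) (hne : (U : Set X).Nonempty) (hfin : ((U : Set X)ᶜ).Finite)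
    (hloc : ∀ x : X, x ∉ U → IsNoetherianRing (X.presheaf.stalk x) ∧ ringKrullDim (X.presheaf.stalk x) = 1) :
    ∃ (L : X.Modules) (s : Coh.structureModule X ⟶ L), PicF.IsInvertible L ∧ Curv2.IsGloballyGenerated L ∧
      CohB1.genLocus L s = U := by
  classical
  haveI : Nonempty U := Set.nonempty_coe_sort.mpr hne
  have hdisc : DiscreteTopology ↥((U : Set X)ᶜ) :=
    discrete_compl U hfin (fun x hx => le_of_eq (hloc x hx).2)
  obtain ⟨a, -, ha⟩ := exists_global_inverse U hU hfin hloc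
  have hdata : ∀ x : {x : X // x ∉ U}, ∃ (W : X.Opens) (gW : Γ(X, W)), x.1 ∈ W ∧
      (∀ z ∈ W, z ∉ U → z = x.1) ∧ X.basicOpen gW = U ⊓ W ∧
      ∀ (T : X.Opens) (hTU : T ≤ U) (hTW : T ≤ W), rr X hTU a * rr X hTW gW = 1 := by
    intro x
    obtain ⟨g, hg, hag⟩ := ha x.1 x.2
    exact exists_nhd_inverse U hdisc a x.1 x.2 g hg hag
  choose W₁ g₁ hxW hiso hg₁ hrel₁ using hdata
  let Wc : Option {x : X // x ∉ U} → X.Opens := fun i => Option.rec U W₁ i
  let sf : ∀ i, Γ(X, Wc i) := fun i =>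
    Option.rec (motive := fun i => Γ(X, (Option.rec U W₁ i : X.Opens))) (1 : Γ(X, U)) g₁ i
  let sf' : ∀ i, Γ(X, Wc i) := fun i =>
    Option.rec (motive := fun i => Γ(X, (Option.rec U W₁ i : X.Opens))) a
      (fun x => (1 : Γ(X, W₁ x))) i
  have hbo : ∀ i, X.basicOpen (sf i) = U ⊓ Wc i := by
    rintro (_ | x)
    · change X.basicOpen (1 : Γ(X, U)) = U ⊓ U
      rw [X.basicOpen_of_isUnit isUnit_one, inf_idem]
    · exact hg₁ x
  have hcov : ∀ z : X, ∃ i, z ∈ Wc i := by
    intro z
    by_cases hz : z ∈ U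
    · exact ⟨none, hz⟩
    · exact ⟨some ⟨z, hz⟩, hxW ⟨z, hz⟩⟩
  have hWU : ∀ i j, i ≠ j → Wc i ⊓ Wc j ≤ U := by
    rintro (_ | x) (_ | y) hij
    · exact absurd rfl hij
    · exact inf_le_left
    · exact inf_le_right
    · intro z hz
      by_contra hzU
      apply hij
      have h1 := hiso x z hz.1 hzU
      have h2 := hiso y z hz.2 hzU
      exact congrArg some (Subtype.ext (h1.symm.trans h2))
  have hrel' : ∀ i j, rr X (inf_le_left : Wc i ⊓ Wc j ≤ Wc i) (sf' i) *
        rr X (inf_le_right : Wc i ⊓ Wc j ≤ Wc j) (sf j) =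
      rr X (inf_le_right : Wc i ⊓ Wc j ≤ Wc j) (sf' j) *
        rr X (inf_le_left : Wc i ⊓ Wc j ≤ Wc i) (sf i) := by
    rintro (_ | x) (_ | y)
    · rfl
    · change rr X _ a * rr X _ (g₁ y) = rr X _ (1 : Γ(X, W₁ y)) * rr X _ (1 : Γ(X, U))
      rw [map_one, map_one, mul_one]
      exact hrel₁ y _ _ _
    · change rr X _ (1 : Γ(X, W₁ x)) * rr X _ (1 : Γ(X, U)) = rr X _ a * rr X _ (g₁ x)
      rw [map_one, map_one, mul_one]
      exact (hrel₁ x _ _ _).symm
    · change rr X _ (1 : Γ(X, W₁ x)) * rr X _ (g₁ y) = rr X _ (1 : Γ(X, W₁ y)) * rr X _ (g₁ x)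
      rw [map_one, map_one, one_mul, one_mul]
      by_cases hxy : x = y
      · subst hxy
        rfl
      · have hTU : W₁ x ⊓ W₁ y ≤ U := hWU (some x) (some y) (fun h => hxy (Option.some.inj h))
        have e1 := hrel₁ x (W₁ x ⊓ W₁ y) hTU inf_le_left
        have e2 := hrel₁ y (W₁ x ⊓ W₁ y) hTU inf_le_right
        calc rr X _ (g₁ y) = rr X _ (g₁ y) * (rr X hTU a * rr X inf_le_left (g₁ x)) := by
              rw [e1, mul_one]
          _ = (rr X hTU a * rr X inf_le_right (g₁ y)) * rr X inf_le_left (g₁ x) := by ring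
          _ = rr X _ (g₁ x) := by rw [e2, one_mul]
  obtain ⟨L, σ, τ, hLinv, hσ, hτ⟩ := glue2 U Wc sf sf' hbo hcov hWU hrel'
  refine ⟨L, Groth.Agent.Lib.Helper35.GlobGen.secHom L σ, hLinv, ?_, hσ⟩
  apply gg_of_two σ τ
  intro z
  by_cases hz : z ∈ U
  · left
    rw [hσ]; exact hz
  · right
    have h1 := hτ (some ⟨z, hz⟩)
    have h2 : X.basicOpen (sf' (some ⟨z, hz⟩)) = W₁ ⟨z, hz⟩ :=
      X.basicOpen_of_isUnit (isUnit_one (M := Γ(X, W₁ ⟨z, hz⟩)))
    rw [h2] at h1
    have h3 : z ∈ CohB1.genLocus L (Groth.Agent.Lib.Helper35.GlobGen.secHom L τ) ⊓ Wc (some ⟨z, hz⟩) := by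
      rw [h1]; exact hxW ⟨z, hz⟩
    exact h3.1

end Groth.Agent.S1645Aux

namespace Groth.Agent.S1645

/-- Let X be integral and separated and U a nonempty affine open outside of which there are only
finitely many points, each with a one-dimensional Noetherian local ring. Then there are a globally
generated invertible module L and a global section s with U equal to the locus where s generates L. -/
theorem result (X : Scheme.{u}) [IsIntegral X] [X.IsSeparated]
    (U : X.Opens) (hU : IsAffineOpen U) (hne : (U : Set X).Nonempty) (hfin : ((U : Set X)ᶜ).Finite)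
    (hloc : ∀ x : X, x ∉ U → IsNoetherianRing (X.presheaf.stalk x) ∧ ringKrullDim (X.presheaf.stalk x) = 1) :
    ∃ (L : X.Modules) (s : Coh.structureModule X ⟶ L), PicF.IsInvertible L ∧ Curv2.IsGloballyGenerated L ∧
      CohB1.genLocus L s = U := by
  exact Groth.Agent.S1645Aux.main X U hU hne hfin hloc

end Groth.Agent.S1645
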