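import Groth.Statements.S16452
import Groth.Agent.Lib.Helper39.GrMapLemmas
-- import your own Groth.Agent.* helpers here

set_option autoImplicit false
universe u
open CAlg

namespace Groth.Agent.S16452

theorem isNilpotent_ker_of {T C : Type*} [CommRing T] [CommRing C] (L : Ideal T) (n : ℕ)
    (f : T ⧸ L ^ (n + 1) →+* C) (hf : ∀ t, f (Ideal.Quotient.mk _ t) = 0 → t ∈ L) :
    IsNilpotent (RingHom.ker f) := by
  refine ⟨n + 1, ?_⟩
  have h1 : RingHom.ker f ≤ L.map (Ideal.Quotient.mk (L ^ (n + 1))) := by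
    intro x hx
    obtain ⟨t, rfl⟩ := Ideal.Quotient.mk_surjective x
    exact Ideal.mem_map_of_mem _ (hf t hx)
  have h2 : (L.map (Ideal.Quotient.mk (L ^ (n + 1)))) ^ (n + 1) = ⊥ := by
    rw [← Ideal.map_pow, Ideal.map_quotient_self]
  rw [Ideal.zero_eq_bot, eq_bot_iff, ← h2]
  exact Ideal.pow_right_mono h1 (n + 1)

variable {R : Type u} [CommRing R] {S : Type u} [CommRing S] [Algebra R S]

noncomputable def gMap (J : Ideal S) (n : ℕ) :
    (R ⧸ (J.comap (algebraMap R S)) ^ (n + 1)) →ₐ[R] S ⧸ J :=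
  Ideal.Quotient.liftₐ _ (Algebra.ofId R (S ⧸ J)) (by
    intro a ha
    have h1 : a ∈ J.comap (algebraMap R S) := by
      apply Ideal.pow_le_self (Nat.succ_ne_zero n) ha
    rw [Ideal.mem_comap] at h1
    rw [Algebra.ofId_apply, IsScalarTower.algebraMap_apply R S (S ⧸ J), Ideal.Quotient.algebraMap_eq,
      Ideal.Quotient.eq_zero_iff_mem]
    exact h1)

theorem gMap_mk (J : Ideal S) (n : ℕ) (a : R) :
    gMap J n (Ideal.Quotient.mk _ a) = Ideal.Quotient.mk J (algebraMap R S a) := by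
  change Algebra.ofId R (S ⧸ J) a = _
  rw [Algebra.ofId_apply, IsScalarTower.algebraMap_apply R S (S ⧸ J), Ideal.Quotient.algebraMap_eq]

theorem gMap_surjective (J : Ideal S) (hJ : Function.Surjective (algebraMap R (S ⧸ J))) (n : ℕ) :
    Function.Surjective (gMap (R := R) J n) := by
  intro c
  obtain ⟨a, rfl⟩ := hJ c
  refine ⟨Ideal.Quotient.mk _ a, ?_⟩
  rw [gMap_mk, IsScalarTower.algebraMap_apply R S (S ⧸ J), Ideal.Quotient.algebraMap_eq]

theorem gMap_ker_nilpotent (J : Ideal S) (n : ℕ) :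
    IsNilpotent (RingHom.ker ((gMap (R := R) J n :
      (R ⧸ (J.comap (algebraMap R S)) ^ (n + 1)) →ₐ[R] S ⧸ J) :
      (R ⧸ (J.comap (algebraMap R S)) ^ (n + 1)) →+* S ⧸ J)) := by
  apply isNilpotent_ker_of
  intro a ha
  rw [RingHom.coe_coe, gMap_mk, Ideal.Quotient.eq_zero_iff_mem] at ha
  exact ha

noncomputable def liftMap [Algebra.FormallyEtale R S] (J : Ideal S)
    (hJ : Function.Surjective (algebraMap R (S ⧸ J))) (n : ℕ) :
    S →ₐ[R] (R ⧸ (J.comap (algebraMap R S)) ^ (n + 1)) :=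
  haveI : Algebra.FormallySmooth R S :=
    (Algebra.FormallyEtale.iff_formallyUnramified_and_formallySmooth.mp inferInstance).2
  Algebra.FormallySmooth.liftOfSurjective (Ideal.Quotient.mkₐ R J) (gMap J n)
    (gMap_surjective J hJ n) (gMap_ker_nilpotent J n)

theorem gMap_liftMap [Algebra.FormallyEtale R S] (J : Ideal S)
    (hJ : Function.Surjective (algebraMap R (S ⧸ J))) (n : ℕ) (s : S) :
    gMap J n (liftMap J hJ n s) = Ideal.Quotient.mk J s := by
  have : Algebra.FormallySmooth R S :=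
    (Algebra.FormallyEtale.iff_formallyUnramified_and_formallySmooth.mp inferInstance).2
  exact Algebra.FormallySmooth.liftOfSurjective_apply (Ideal.Quotient.mkₐ R J) (gMap J n)
    (gMap_surjective J hJ n) (gMap_ker_nilpotent J n) s

theorem liftMap_mem [Algebra.FormallyEtale R S] (J : Ideal S)
    (hJ : Function.Surjective (algebraMap R (S ⧸ J))) (n : ℕ) (s : S) (hs : s ∈ J) :
    liftMap J hJ n s ∈ (J.comap (algebraMap R S)).map (Ideal.Quotient.mk
      ((J.comap (algebraMap R S)) ^ (n + 1))) := by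
  obtain ⟨a, ha⟩ := Ideal.Quotient.mk_surjective (liftMap J hJ n s)
  rw [← ha]
  apply Ideal.mem_map_of_mem
  have h1 := gMap_liftMap J hJ n s
  rw [← ha, gMap_mk, (Ideal.Quotient.eq_zero_iff_mem).mpr hs, Ideal.Quotient.eq_zero_iff_mem] at h1
  exact h1

theorem liftMap_pow_eq_zero [Algebra.FormallyEtale R S] (J : Ideal S)
    (hJ : Function.Surjective (algebraMap R (S ⧸ J))) (n : ℕ) (s : S) (hs : s ∈ J ^ (n + 1)) :
    liftMap J hJ n s = 0 := by
  have h1 : (J ^ (n + 1)).map ((liftMap J hJ n : S →ₐ[R] _) :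
      S →+* (R ⧸ (J.comap (algebraMap R S)) ^ (n + 1))) ≤ ⊥ := by
    rw [Ideal.map_pow]
    have h2 : J.map ((liftMap J hJ n : S →ₐ[R] _) :
        S →+* (R ⧸ (J.comap (algebraMap R S)) ^ (n + 1))) ≤ (J.comap (algebraMap R S)).map (Ideal.Quotient.mk
        ((J.comap (algebraMap R S)) ^ (n + 1))) := by
      rw [Ideal.map_le_iff_le_comap]
      intro s hs
      exact liftMap_mem J hJ n s hs
    refine le_trans (Ideal.pow_right_mono h2 (n + 1)) ?_
    rw [← Ideal.map_pow, Ideal.map_quotient_self]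
  have h3 := h1 (Ideal.mem_map_of_mem _ hs)
  exact (Ideal.mem_bot).mp h3

theorem mem_pow_of_map_mem [Algebra.FormallyEtale R S] (J : Ideal S)
    (hJ : Function.Surjective (algebraMap R (S ⧸ J))) (n : ℕ) (a : R)
    (ha : algebraMap R S a ∈ J ^ (n + 1)) : a ∈ (J.comap (algebraMap R S)) ^ (n + 1) := by
  have h1 := liftMap_pow_eq_zero J hJ n _ ha
  rw [AlgHom.commutes, Ideal.Quotient.algebraMap_eq, Ideal.Quotient.eq_zero_iff_mem] at h1
  exact h1

noncomputable def psiMap (J : Ideal S) (n : ℕ) :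
    (R ⧸ (J.comap (algebraMap R S)) ^ (n + 1)) →ₐ[R] S ⧸ J ^ (n + 1) :=
  Ideal.Quotient.liftₐ _ (Algebra.ofId R (S ⧸ J ^ (n + 1))) (by
    intro a ha
    rw [Algebra.ofId_apply, IsScalarTower.algebraMap_apply R S (S ⧸ J ^ (n + 1)),
      Ideal.Quotient.algebraMap_eq, Ideal.Quotient.eq_zero_iff_mem]
    have h1 : algebraMap R S a ∈ ((J.comap (algebraMap R S)) ^ (n + 1)).map (algebraMap R S) :=
      Ideal.mem_map_of_mem _ ha
    rw [Ideal.map_pow] at h1
    exact Ideal.pow_right_mono Ideal.map_comap_le (n + 1) h1)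

theorem psiMap_mk (J : Ideal S) (n : ℕ) (a : R) :
    psiMap J n (Ideal.Quotient.mk _ a) = Ideal.Quotient.mk (J ^ (n + 1)) (algebraMap R S a) := by
  change Algebra.ofId R (S ⧸ J ^ (n + 1)) a = _
  rw [Algebra.ofId_apply, IsScalarTower.algebraMap_apply R S (S ⧸ J ^ (n + 1)),
    Ideal.Quotient.algebraMap_eq]

theorem exists_sub_mem [Algebra.FormallyEtale R S] (J : Ideal S)
    (hJ : Function.Surjective (algebraMap R (S ⧸ J))) (n : ℕ) (s : S) :
    ∃ r : R, s - algebraMap R S r ∈ J ^ (n + 1) := by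
  have : Algebra.FormallyUnramified R S :=
    (Algebra.FormallyEtale.iff_formallyUnramified_and_formallySmooth.mp inferInstance).1
  let fac : S ⧸ J ^ (n + 1) →+* S ⧸ J :=
    Ideal.Quotient.factor (Ideal.pow_le_self (Nat.succ_ne_zero n))
  have hfac : ∀ t : S, fac (Ideal.Quotient.mk _ t) = Ideal.Quotient.mk J t := fun t => rfl
  have hnil : IsNilpotent (RingHom.ker fac) := by
    apply isNilpotent_ker_of
    intro t ht
    rw [hfac, Ideal.Quotient.eq_zero_iff_mem] at ht
    exact ht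
  have heq : Ideal.Quotient.mkₐ R (J ^ (n + 1)) = (psiMap J n).comp (liftMap J hJ n) := by
    apply Algebra.FormallyUnramified.ext' fac hnil
    intro x
    rw [Ideal.Quotient.mkₐ_eq_mk, hfac, AlgHom.comp_apply]
    obtain ⟨a, ha⟩ := Ideal.Quotient.mk_surjective (liftMap J hJ n x)
    have h1 := gMap_liftMap J hJ n x
    rw [← ha, gMap_mk] at h1
    rw [← ha, psiMap_mk, hfac, h1]
  obtain ⟨r, hr⟩ := Ideal.Quotient.mk_surjective (liftMap J hJ n s)
  refine ⟨r, ?_⟩
  have h2 := AlgHom.congr_fun heq s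
  rw [Ideal.Quotient.mkₐ_eq_mk, AlgHom.comp_apply, ← hr, psiMap_mk] at h2
  exact (Ideal.Quotient.eq).mp h2

/-- Let R → S be formally étale and J an ideal of S such that the composite R → S → S/J is surjective;
let I ⊆ R be its kernel, the preimage of J in R. Then the homomorphism of associated graded rings ⊕ₙ
Iⁿ/Iⁿ⁺¹ → ⊕ₙ Jⁿ/Jⁿ⁺¹ induced by R → S (which carries I into J) is bijective. -/
theorem result (R : Type u) [CommRing R] (S : Type u)
    [CommRing S] [Algebra R S] [Algebra.FormallyEtale R S] (J : Ideal S)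
    (hJ : Function.Surjective (algebraMap R (S ⧸ J))) :
    Function.Bijective (AssocGr.map (AssocGr.IsFiltHom.adic
      (Ideal.map_comap_le : (J.comap (algebraMap R S)).map (algebraMap R S) ≤ J))) := by
  constructor
  · apply Groth.Agent.Lib.Helper39.GrL.map_injective_of
    intro n a _ h1
    exact mem_pow_of_map_mem J hJ n a h1
  · apply Groth.Agent.Lib.Helper39.GrL.map_surjective_of
    intro n b hb
    obtain ⟨r, hr⟩ := exists_sub_mem J hJ n b
    have hr' : algebraMap R S r - b ∈ J ^ (n + 1) := by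
      rw [← Ideal.neg_mem_iff, neg_sub]; exact hr
    refine ⟨r, ?_, hr'⟩
    cases n with
    | zero =>
      change r ∈ (J.comap (algebraMap R S)) ^ 0
      rw [pow_zero, Ideal.one_eq_top]; trivial
    | succ m =>
      apply mem_pow_of_map_mem J hJ m r
      have : algebraMap R S r = (algebraMap R S r - b) + b := by ring
      rw [this]
      exact Ideal.add_mem _ (Ideal.pow_le_pow_right (Nat.le_succ _) hr') hb

end Groth.Agent.S16452
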