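import Groth.Statements.S16453
import Groth.Agent.Lib.Helper39.GrMapLemmas
-- import your own Groth.Agent.* helpers here

set_option autoImplicit false
universe u
open AdicGr

namespace Groth.Agent.S16453

/-- Let A be a commutative ring, I an ideal and Â the I-adic completion, filtered by the kernels Âₙ of
the projections Â → A/Iⁿ. Then the homomorphism of associated graded rings ⊕ₙ Iⁿ/Iⁿ⁺¹ → ⊕ₙ Âₙ/Âₙ₊₁
induced by the canonical map A → Â is bijective. No hypothesis on A or I is needed. (The published
statement is for an arbitrary filtered ring and also asserts the analogous isomorphism for a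
compatibly filtered module; this row is the ring assertion for the filtration by the powers of one
ideal.) -/
theorem result (A : Type u) [CommRing A] (I : Ideal A) :
    Function.Bijective (AssocGr.map (AssocGr.isFiltHom_kerFilt I)) := by
  constructor
  · apply Groth.Agent.Lib.Helper39.GrL.map_injective_of
    intro n a ha h1
    rw [AssocGr.mem_kerFilt_iff_val, AdicCompletion.algebraMap_apply, Algebra.algebraMap_self,
      RingHom.id_apply, AdicCompletion.of_apply, Submodule.mkQ_apply,
      Submodule.Quotient.mk_eq_zero] at h1
    change a ∈ (I ^ (n + 1) • ⊤ : Ideal A) at h1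
    rw [AssocGr.pow_smul_top] at h1
    exact h1
  · apply Groth.Agent.Lib.Helper39.GrL.map_surjective_of
    intro n b hb
    rw [AssocGr.mem_kerFilt_iff_val] at hb
    obtain ⟨a, ha⟩ := Submodule.Quotient.mk_surjective _ (b.val (n + 1))
    have h1 := AdicCompletion.transitionMap_comp_eval_apply I A (Nat.le_succ n) b
    refine ⟨a, ?_, ?_⟩
    · have h2 : AdicCompletion.transitionMap I A (Nat.le_succ n) (b.val (n + 1)) = 0 := by
        rw [← hb]; exact h1
      rw [← ha] at h2
      change Submodule.Quotient.mk a = (0 : A ⧸ (I ^ n • ⊤ : Submodule A A)) at h2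
      rw [Submodule.Quotient.mk_eq_zero] at h2
      change a ∈ (I ^ n • ⊤ : Ideal A) at h2
      rw [AssocGr.pow_smul_top] at h2
      exact h2
    · rw [AssocGr.mem_kerFilt_iff_val, AdicCompletion.val_sub_apply, AdicCompletion.algebraMap_apply,
        Algebra.algebraMap_self, RingHom.id_apply, AdicCompletion.of_apply, Submodule.mkQ_apply, ha,
        sub_self]

end Groth.Agent.S16453
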