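import Mathlib
-- Template for statement S16454 (row 16453; see the milestone table for weights).
-- Copy to Groth/Agent/S16454.lean and replace the sorry. The statement below is byte-identical to the frozen
-- statement EGA43.GrothFrozen.S16454 (Groth/Statements/S16454.lean; the theorem EGA43.flat_of_flat_mod_nilpotent_of_grTensor_injective);
-- the grader kernel-checks Groth.Agent.S16454.result against that frozen type. Keep the theorem IN THIS FILE
-- (a `result` declared elsewhere and merely imported here is not credited); helpers may live anywhere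
-- under Groth/Agent/.
import Groth.Statements.S16454
import Groth.Agent.S6000

set_option autoImplicit false
universe u
open TensorProduct
open EGA43

namespace Groth.Agent.S16454

section
variable {A : Type u} [CommRing A] (I : Ideal A) (M : Type u) [AddCommGroup M] [Module A M]

/-- If `G` is killed by `I` then `G ⊗ M → G ⊗ M/IM` is injective. -/
lemma lTensor_mkQ_injective {G : Type*} [AddCommGroup G] [Module A G]
    (hG : ∀ a ∈ I, ∀ g : G, a • g = 0) :
    Function.Injective (LinearMap.lTensor G (Submodule.mkQ (I • ⊤ : Submodule A M))) := by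
  rw [injective_iff_map_eq_zero]
  intro u hu
  obtain ⟨v, rfl⟩ := (lTensor_exact G (LinearMap.exact_subtype_mkQ (I • ⊤ : Submodule A M))
    (Submodule.mkQ_surjective _) u).mp hu
  have key : ∀ (g : G), ∀ z ∈ (I • ⊤ : Submodule A M), g ⊗ₜ[A] z = 0 := by
    intro g z hz
    refine Submodule.smul_induction_on (p := fun z => g ⊗ₜ[A] z = 0) hz ?_ ?_
    · intro r hr n _
      change g ⊗ₜ[A] (r • n) = 0
      rw [← smul_tmul, hG r hr, zero_tmul]
    · intro x y hx hy
      change g ⊗ₜ[A] (x + y) = 0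
      rw [tmul_add, hx, hy, add_zero]
  clear hu
  induction v using TensorProduct.induction_on with
  | zero => rw [map_zero]
  | add x y hx hy => rw [map_add, hx, hy, add_zero]
  | tmul g y =>
    rw [LinearMap.lTensor_tmul]
    exact key g y y.2

theorem key (G : ℕ → Type u) [∀ n, AddCommGroup (G n)] [∀ n, Module A (G n)]
    (π : ∀ n, ↥(I ^ n) →ₗ[A] G n) (hπs : ∀ n, Function.Surjective (π n))
    (hπk : ∀ n (a : ↥(I ^ n)), π n a = 0 ↔ (a : A) ∈ I ^ (n + 1))
    (hinj' : ∀ (n : ℕ) (t : ↥(I ^ n) ⊗[A] M), (I ^ n).subtype.rTensor M t = 0 →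
      TensorProduct.map (π n) (Submodule.mkQ (I • ⊤ : Submodule A M)) t = 0)
    (N : ℕ) (hN : I ^ N = ⊥) :
    ∀ d n : ℕ, N ≤ n + d → ∀ t : ↥(I ^ n) ⊗[A] M, (I ^ n).subtype.rTensor M t = 0 → t = 0 := by
  intro d
  induction d with
  | zero =>
    intro n hn t _
    have hle : I ^ n ≤ ⊥ := hN ▸ Ideal.pow_le_pow_right (by omega)
    have hx : ∀ x : ↥(I ^ n), x = 0 := fun x => Subtype.ext (Ideal.mem_bot.mp (hle x.2))
    have h0 : ∀ z : ↥(I ^ n) ⊗[A] M, z = 0 := by
      intro z
      induction z using TensorProduct.induction_on with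
      | zero => rfl
      | tmul x m => rw [hx x, zero_tmul]
      | add x y hx' hy' => rw [hx', hy', add_zero]
    exact h0 t
  | succ d ih =>
    intro n hn t ht
    have ih' := ih (n + 1) (by omega)
    have hG : ∀ a ∈ I, ∀ g : G n, a • g = 0 := by
      intro a ha g
      obtain ⟨b, rfl⟩ := hπs n g
      rw [← map_smul, hπk]
      change a * (b : A) ∈ I ^ (n + 1)
      rw [pow_succ']
      exact Ideal.mul_mem_mul ha b.2
    have h1 : LinearMap.lTensor _ (Submodule.mkQ (I • ⊤ : Submodule A M))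
        ((π n).rTensor M t) = 0 := by
      rw [← LinearMap.comp_apply, LinearMap.lTensor_comp_rTensor]
      exact hinj' n t ht
    have h2 : (π n).rTensor M t = 0 := lTensor_mkQ_injective I M hG (h1.trans (map_zero _).symm)
    obtain ⟨t', rfl⟩ := (rTensor_exact (M := ↥(LinearMap.ker (π n)))
      (f := (LinearMap.ker (π n)).subtype) M
      (LinearMap.exact_subtype_ker_map (π n)) (hπs n) t).mp h2
    let j : (LinearMap.ker (π n)) →ₗ[A] ↥(I ^ (n + 1)) :=
      LinearMap.codRestrict (I ^ (n + 1)) ((I ^ n).subtype ∘ₗ (LinearMap.ker (π n)).subtype)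
        (fun k => (hπk n k.1).mp k.2)
    have h3 : (I ^ (n + 1)).subtype.rTensor M (j.rTensor M t') = 0 := by
      rw [← LinearMap.comp_apply, ← LinearMap.rTensor_comp]
      have : (I ^ (n + 1)).subtype ∘ₗ j = (I ^ n).subtype ∘ₗ (LinearMap.ker (π n)).subtype := rfl
      rw [this, LinearMap.rTensor_comp, LinearMap.comp_apply]
      exact ht
    have h4 := ih' _ h3
    have h5 : (Submodule.inclusion (Ideal.pow_le_pow_right (Nat.le_succ n))) ∘ₗ j =
        (LinearMap.ker (π n)).subtype := rfl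
    rw [← h5, LinearMap.rTensor_comp, LinearMap.comp_apply, h4, map_zero]

end

end Groth.Agent.S16454

namespace Groth.Agent.S16454

/-- Let A be a commutative ring, I a nilpotent ideal of A and M an A-module, and form the associated
graded ring G = ⊕ₙ Iⁿ/Iⁿ⁺¹ and the associated graded G-module gr_I(M) = ⊕ₙ IⁿM/Iⁿ⁺¹M. Assume that
M/IM is flat over A/I and that the canonical homomorphism (M/IM) ⊗ G → gr_I(M), [x] ⊗ [a] ↦ [a·x],
is injective: degree by degree, whenever elements a_i ∈ Iⁿ and x_i ∈ M satisfy Σ_i [a_i]·[x_i] = 0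
in gr_I(M) (that is Σ a_i x_i ∈ Iⁿ⁺¹M), the element Σ_i [a_i] ⊗ [x_i] of (Iⁿ/Iⁿ⁺¹) ⊗ (M/IM) is zero.
Then M is a flat A-module. (The published lemma is stated for any finite decreasing multiplicative
filtration A = J₀ ⊇ J₁ ⊇ … ⊇ J_N₊₁ = 0 of A with M filtered by the submodules JₙM; this row is its
case Jₙ = Iⁿ.) -/
theorem result (A : Type u) [CommRing A] (I : Ideal A)
    (hI : IsNilpotent I) (M : Type u) [AddCommGroup M] [Module A M]
    (hflat : Module.Flat (A ⧸ I) (M ⧸ (I • (⊤ : Submodule A M))))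
    (hinj : ∀ (n k : ℕ) (a : Fin k → ↥((FiltBl.IdealFiltration.adic I).F n))
      (x : Fin k → ↥((Rees.powFilt I M).N 0)),
      (∑ i, (AssocGr.inDeg (FiltBl.IdealFiltration.adic I) n (a i) :
          AssocGr.GrRing (FiltBl.IdealFiltration.adic I)) •
        (AssocGr.inDegM (Rees.powFilt I M) 0 (x i) : AssocGr.GrMod (Rees.powFilt I M))) = 0 →
      (∑ i, (AssocGr.inDeg (FiltBl.IdealFiltration.adic I) n (a i)) ⊗ₜ[A]
          (Submodule.Quotient.mk (x i : M)) :
        ↥(AssocGr.gr (FiltBl.IdealFiltration.adic I) n) ⊗[A] (M ⧸ (I • (⊤ : Submodule A M)))) = 0) :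
    Module.Flat A M := by
  obtain ⟨N, hN⟩ := hI
  rw [Ideal.zero_eq_bot] at hN
  have e1 : ((A ⧸ I) ⊗[A] M) ≃ₗ[A ⧸ I] (M ⧸ (I • ⊤ : Submodule A M)) :=
    LinearEquiv.extendScalarsOfSurjective (R := A) (S := A ⧸ I) Ideal.Quotient.mk_surjective
      (TensorProduct.quotTensorEquivQuotSMul M I)
  have hflat' : Module.Flat (A ⧸ I) ((A ⧸ I) ⊗[A] M) := Module.Flat.of_linearEquiv e1
  have hN0 : (Rees.powFilt I M).N 0 = ⊤ := by
    change I ^ 0 • (⊤ : Submodule A M) = ⊤
    rw [pow_zero, Ideal.one_eq_top, Submodule.top_smul]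
  obtain ⟨π, hπ⟩ : ∃ π : ∀ n, ↥(I ^ n) →ₗ[A] ↥(AssocGr.gr (FiltBl.IdealFiltration.adic I) n),
      ∀ n (a : ↥(I ^ n)), π n a = AssocGr.inDeg (FiltBl.IdealFiltration.adic I) n a :=
    ⟨fun n => AssocGr.inDeg (FiltBl.IdealFiltration.adic I) n, fun n a => rfl⟩
  have hπs : ∀ n, Function.Surjective (π n) := by
    intro n g
    obtain ⟨b, hb⟩ := AssocGr.inDeg_surjective (FiltBl.IdealFiltration.adic I) n g
    exact ⟨b, (hπ n b).trans hb⟩
  have hπk : ∀ n (a : ↥(I ^ n)), π n a = 0 ↔ (a : A) ∈ I ^ (n + 1) := by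
    intro n a
    rw [hπ]
    exact AssocGr.inDeg_eq_zero_iff (FiltBl.IdealFiltration.adic I) n a
  have hinj' : ∀ (n : ℕ) (t : ↥(I ^ n) ⊗[A] M), (I ^ n).subtype.rTensor M t = 0 →
      TensorProduct.map (π n) (Submodule.mkQ (I • ⊤ : Submodule A M)) t = 0 := by
    intro n t ht
    classical
    obtain ⟨S, rfl⟩ := TensorProduct.exists_finset t
    let e := S.equivFin
    let a : Fin S.card → ↥((FiltBl.IdealFiltration.adic I).F n) := fun j => (e.symm j).1.1
    let x : Fin S.card → ↥((Rees.powFilt I M).N 0) :=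
      fun j => ⟨(e.symm j).1.2, by rw [hN0]; trivial⟩
    have hsum0 : ∑ j, ((a j : A)) • ((x j : M)) = 0 := by
      have h1 := congrArg (TensorProduct.lid A M) ht
      rw [map_zero, map_sum, map_sum] at h1
      have h2 : ∀ s : ↥(I ^ n) × M, (TensorProduct.lid A M)
          ((I ^ n).subtype.rTensor M (s.1 ⊗ₜ[A] s.2)) = (s.1 : A) • s.2 := fun s => by
        rw [LinearMap.rTensor_tmul, TensorProduct.lid_tmul, Submodule.subtype_apply]
      rw [← h1, ← Finset.sum_coe_sort S, ← Equiv.sum_comp e.symm]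
      exact Finset.sum_congr rfl (fun j _ => (h2 _).symm)
    have hprem := hinj n S.card a x (by
      let y : Fin S.card → ↥((Rees.powFilt I M).N (n + 0)) := fun j =>
        ⟨(a j : A) • (x j : M), (Rees.powFilt I M).pow_smul_le n 0
          (Submodule.smul_mem_smul (show (a j : A) ∈ I ^ n from (a j).2) (x j).2)⟩
      have hterm : ∀ j, (AssocGr.inDeg (FiltBl.IdealFiltration.adic I) n (a j) :
          AssocGr.GrRing (FiltBl.IdealFiltration.adic I)) •
          (AssocGr.inDegM (Rees.powFilt I M) 0 (x j) : AssocGr.GrMod (Rees.powFilt I M)) =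
          (AssocGr.inDegM (Rees.powFilt I M) (n + 0) (y j) :
            AssocGr.GrMod (Rees.powFilt I M)) :=
        fun j => AssocGr.inDeg_smul_inDegM (Rees.powFilt I M) n 0 (a j) (x j)
      simp only [hterm]
      have hy : ∑ j, y j = 0 := by
        apply Subtype.ext
        rw [Submodule.coe_sum]
        exact hsum0
      have hcoe : (∑ j, (AssocGr.inDegM (Rees.powFilt I M) (n + 0) (y j) :
          AssocGr.GrMod (Rees.powFilt I M))) =
          ((∑ j, AssocGr.inDegM (Rees.powFilt I M) (n + 0) (y j) :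
            ↥(AssocGr.grM (Rees.powFilt I M) (n + 0))) : AssocGr.GrMod (Rees.powFilt I M)) :=
        (AddSubmonoidClass.coe_finsetSum _ _).symm
      rw [hcoe, ← map_sum, hy, map_zero]
      rfl)
    rw [map_sum]
    rw [← hprem, ← Finset.sum_coe_sort S, ← Equiv.sum_comp e.symm]
    exact Finset.sum_congr rfl (fun j _ => by rw [TensorProduct.map_tmul, hπ]; rfl)
  have hkey := key I M (fun n => ↥(AssocGr.gr (FiltBl.IdealFiltration.adic I) n))
    π hπs hπk hinj' N hN
  refine (Groth.Agent.S6000.result A I ⟨N, by rw [Ideal.zero_eq_bot]; exact hN⟩ M).2 ⟨hflat', ?_⟩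
  rw [injective_iff_map_eq_zero]
  intro t ht
  let e : ↥I ≃ₗ[A] ↥(I ^ 1) := LinearEquiv.ofEq _ _ (pow_one I).symm
  have h1 : (I ^ 1).subtype.rTensor M (e.toLinearMap.rTensor M t) = 0 := by
    rw [← LinearMap.comp_apply, ← LinearMap.rTensor_comp]
    have : (I ^ 1).subtype ∘ₗ e.toLinearMap = I.subtype := LinearMap.ext fun x => rfl
    rw [this]
    exact ht
  have h2 := hkey N 1 (by omega) _ h1
  have h3 : e.symm.toLinearMap ∘ₗ e.toLinearMap = LinearMap.id := by
    ext x
    simp
  have h4 : (e.symm.toLinearMap ∘ₗ e.toLinearMap).rTensor M t = 0 := by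
    rw [LinearMap.rTensor_comp, LinearMap.comp_apply, h2, map_zero]
  rw [h3, LinearMap.rTensor_id, LinearMap.id_apply] at h4
  exact h4

end Groth.Agent.S16454
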