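import Groth.Statements.S16455

-- import your own Groth.Agent.* helpers here

set_option autoImplicit false
universe u
open EGA4

namespace Groth.Agent.S16455

open AssocGr DirectSum

variable {A : Type u} [CommRing A] (I : Ideal A) (M : Type u) [AddCommGroup M] [Module A M]

noncomputable def psi (n : ℕ) :
    ↥(I ^ n • (⊤ : Submodule A M)) →ₗ[A] GrMod (Rees.powFilt I M) where
  toFun x := (inDegM (Rees.powFilt I M) n x : GrMod (Rees.powFilt I M))
  map_add' x y := congrArg Subtype.val ((inDegM (Rees.powFilt I M) n).map_add x y)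
  map_smul' a x := coe_inDegM_smul (Rees.powFilt I M) n a x

theorem psi_apply (n : ℕ) (x : ↥(I ^ n • (⊤ : Submodule A M))) :
    psi I M n x = (inDegM (Rees.powFilt I M) n x : GrMod (Rees.powFilt I M)) := rfl

theorem psi_eq_zero_iff (n : ℕ) (x : ↥(I ^ n • (⊤ : Submodule A M))) :
    psi I M n x = 0 ↔ x ∈ (I • ⊤ : Submodule A ↥(I ^ n • (⊤ : Submodule A M))) := by
  rw [psi_apply, ZeroMemClass.coe_eq_zero, inDegM_eq_zero_iff, Submodule.mem_smul_top_iff]
  change (x : M) ∈ I ^ (n + 1) • (⊤ : Submodule A M) ↔ _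
  rw [pow_succ', Submodule.mul_smul]

noncomputable def phi (n : ℕ) :
    (↥(I ^ n • (⊤ : Submodule A M)) ⧸ (I • (⊤ : Submodule A ↥(I ^ n • (⊤ : Submodule A M))))) →ₗ[A]
      GrMod (Rees.powFilt I M) :=
  Submodule.liftQ _ (psi I M n) (fun x hx => (psi_eq_zero_iff I M n x).mpr hx)

theorem phi_mk (n : ℕ) (x : ↥(I ^ n • (⊤ : Submodule A M))) :
    phi I M n (Submodule.Quotient.mk x) = psi I M n x := rfl

theorem phi_injective (n : ℕ) : Function.Injective (phi I M n) := by
  rw [← LinearMap.ker_eq_bot]
  apply Submodule.ker_liftQ_eq_bot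
  intro x hx
  exact (psi_eq_zero_iff I M n x).mp hx

theorem phi_mem (n : ℕ) (q) : phi I M n q ∈ grM (Rees.powFilt I M) n := by
  obtain ⟨x, rfl⟩ := Submodule.Quotient.mk_surjective _ q
  rw [phi_mk, psi_apply]
  exact (inDegM (Rees.powFilt I M) n x).2

noncomputable def Phi :
    (⨁ n, (↥(I ^ n • (⊤ : Submodule A M)) ⧸
      (I • (⊤ : Submodule A ↥(I ^ n • (⊤ : Submodule A M)))))) →ₗ[A] GrMod (Rees.powFilt I M) :=
  DirectSum.toModule A ℕ (GrMod (Rees.powFilt I M)) (fun n => phi I M n)

theorem Phi_of (n : ℕ) (q) : Phi I M (DirectSum.of _ n q) = phi I M n q := by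
  rw [← DirectSum.lof_eq_of A, Phi, DirectSum.toModule_lof]

theorem decompose_Phi (z) (m : ℕ) :
    (DirectSum.decompose (grM (Rees.powFilt I M)) (Phi I M z) m : GrMod (Rees.powFilt I M)) =
      phi I M m (z m) := by
  classical
  induction z using DirectSum.induction_on with
  | zero =>
    simp only [map_zero, DirectSum.decompose_zero, DirectSum.zero_apply, ZeroMemClass.coe_zero]
  | of n q =>
    rw [Phi_of]
    by_cases hnm : n = m
    · subst hnm
      rw [DirectSum.decompose_of_mem_same _ (phi_mem I M n q), DirectSum.of_eq_same]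
    · rw [DirectSum.decompose_of_mem_ne _ (phi_mem I M n q) hnm, DirectSum.of_eq_of_ne _ _ _ (Ne.symm hnm),
        map_zero]
  | add z z' hz hz' =>
    rw [map_add, DirectSum.decompose_add, DirectSum.add_apply, DirectSum.add_apply, map_add,
      AddMemClass.coe_add, hz, hz']

theorem Phi_injective : Function.Injective (Phi I M) := by
  rw [injective_iff_map_eq_zero]
  intro z hz
  apply DFinsupp.ext
  intro m
  have h1 := decompose_Phi I M z m
  rw [hz, DirectSum.decompose_zero, DirectSum.zero_apply] at h1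
  apply phi_injective I M m
  rw [← h1]
  change _ = (phi I M m) 0
  rw [map_zero]; rfl

theorem Phi_surjective : Function.Surjective (Phi I M) := by
  intro ζ
  obtain ⟨y, rfl⟩ := mkGM_surjective (Rees.powFilt I M) ζ
  refine ⟨∑ n ∈ ((toReesM (Rees.powFilt I M)).symm y : PolynomialModule A M).coeff.support,
    DirectSum.of _ n (Submodule.Quotient.mk ⟨ReesM.coeff (Rees.powFilt I M) y n,
      ReesM.coeff_mem (Rees.powFilt I M) y n⟩), ?_⟩
  rw [map_sum]
  conv_rhs => rw [← sum_termM (Rees.powFilt I M) y, map_sum]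
  apply Finset.sum_congr rfl
  intro n _
  rw [Phi_of, phi_mk, psi_apply]
  rfl

/-- For a commutative ring A, an ideal I of A and an A-module M, the following are equivalent: every
quotient IⁿM/Iⁿ⁺¹M (n ≥ 0) is a flat A/I-module; the associated graded module gr_I(M) = ⊕ₙ
IⁿM/Iⁿ⁺¹M, as one module over A/I, is flat. Either condition says that M is normally flat along I.
(The source defines normal flatness for a coherent module on a locally Noetherian scheme through the
second condition and notes it amounts to the first; the equivalence holds for every ring and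
module.) -/
theorem result (A : Type u) [CommRing A] (I : Ideal A) (M : Type u)
    [AddCommGroup M] [Module A M] :
    EGA4.IsNormallyFlat I M ↔ Module.Flat (A ⧸ I) (AssocGr.GrMod (Rees.powFilt I M)) := by
  let e : (⨁ n, (↥(I ^ n • (⊤ : Submodule A M)) ⧸
      (I • (⊤ : Submodule A ↥(I ^ n • (⊤ : Submodule A M)))))) ≃ₗ[A ⧸ I]
      AssocGr.GrMod (Rees.powFilt I M) :=
    (LinearEquiv.ofBijective (Phi I M) ⟨Phi_injective I M, Phi_surjective I M⟩).extendScalarsOfSurjective
      Ideal.Quotient.mk_surjective
  rw [← Module.Flat.equiv_iff e, Module.Flat.directSum_iff]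
  rfl

end Groth.Agent.S16455
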