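import Groth.Statements.S16458
import Groth.Agent.Lib.Helper39.GrModGen
-- import your own Groth.Agent.* helpers here

set_option autoImplicit false
universe u
open AdicGr

namespace Groth.Agent.S16458

/-- Let A be a commutative ring and I an ideal such that every I-adically Cauchy sequence in A has a
limit, and let M be an A-module with an I-filtration M = N₀ ⊇ N₁ ⊇ … (I·Nₙ ⊆ Nₙ₊₁) which is
separated, ⋂ₙ Nₙ = 0. If the associated graded module gr(M) = ⊕ₙ Nₙ/Nₙ₊₁ is finitely generated as a
module over the associated graded ring ⊕ₙ Iⁿ/Iⁿ⁺¹, then M is a finitely generated A-module. (The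
published statement allows any complete filtered ring and also concludes that M is complete for its
filtration; this row takes the I-adic filtration on A and states the finiteness.) -/
theorem result (A : Type u) [CommRing A] (I : Ideal A)
    [IsPrecomplete I A] (M : Type u) [AddCommGroup M] [Module A M] (F : I.Filtration M)
    (h0 : F.N 0 = ⊤) (hsep : ⨅ n, F.N n = ⊥)
    [Module.Finite (AssocGr.GrRing (FiltBl.IdealFiltration.adic I)) (AssocGr.GrMod F)] :
    Module.Finite A M := by
  classical
  obtain ⟨S, hS⟩ := (Module.Finite.fg_top :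
    (⊤ : Submodule (AssocGr.GrRing (FiltBl.IdealFiltration.adic I)) (AssocGr.GrMod F)).FG)
  choose y hy using fun ζ : AssocGr.GrMod F => AssocGr.mkGM_surjective F ζ
  have key : ∀ ζ : AssocGr.GrMod F, ζ = ∑ n ∈ ((AssocGr.toReesM F).symm (y ζ) :
      PolynomialModule A M).coeff.support, (AssocGr.inDegM F n ⟨AssocGr.ReesM.coeff F (y ζ) n,
        AssocGr.ReesM.coeff_mem F (y ζ) n⟩ : AssocGr.GrMod F) := by
    intro ζ
    conv_lhs => rw [← hy ζ, ← AssocGr.sum_termM F (y ζ), map_sum]
    rfl
  let ι := (ζ : ↥S) × ↥(((AssocGr.toReesM F).symm (y ζ.1) : PolynomialModule A M).coeff.support)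
  let d : ι → ℕ := fun p => p.2.1
  let x : (i : ι) → ↥(F.N (d i)) := fun p =>
    ⟨AssocGr.ReesM.coeff F (y p.1.1) p.2.1, AssocGr.ReesM.coeff_mem F (y p.1.1) p.2.1⟩
  have hgen : Submodule.span (AssocGr.GrRing (FiltBl.IdealFiltration.adic I))
      (Set.range fun i => (AssocGr.inDegM F (d i) (x i) : AssocGr.GrMod F)) = ⊤ := by
    rw [eq_top_iff, ← hS, Submodule.span_le]
    intro ζ hζ
    rw [key ζ]
    refine Submodule.sum_mem _ fun n hn => Submodule.subset_span ?_
    exact ⟨⟨⟨ζ, hζ⟩, ⟨n, hn⟩⟩, rfl⟩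
  have h1 := Groth.Agent.Lib.Helper39.GrGen.span_eq_top_of_step F h0 hsep d
    (fun i => ((x i : ↥(F.N (d i))) : M)) (fun i => (x i).2)
    (fun n y hy => Groth.Agent.Lib.Helper39.GrGen.step_of_gen F d x hgen n y hy)
  exact ⟨by rw [← h1]; exact Submodule.fg_span (Set.finite_range _)⟩

end Groth.Agent.S16458
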