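import Groth.Statements.S16459
import Groth.Agent.Lib.Helper39.GrModGen
-- import your own Groth.Agent.* helpers here

set_option autoImplicit false
universe u
open AdicGr

namespace Groth.Agent.S16459

/-- Let A be a commutative ring and I an ideal such that every I-adically Cauchy sequence in A has a
limit, and let M be an A-module with an I-filtration M = N₀ ⊇ N₁ ⊇ … (I·Nₙ ⊆ Nₙ₊₁) which is
separated, ⋂ₙ Nₙ = 0. If the associated graded module gr(M) = ⊕ₙ Nₙ/Nₙ₊₁ is a Noetherian module over
the associated graded ring ⊕ₙ Iⁿ/Iⁿ⁺¹, then M is a Noetherian A-module and every submodule M' of M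
is closed for the topology defined by the filtration, that is ⋂ₙ (M' + Nₙ) = M'. (The published
statement allows any complete filtered ring; this row takes the I-adic filtration on A.) -/
theorem result (A : Type u) [CommRing A]
    (I : Ideal A) [IsPrecomplete I A] (M : Type u) [AddCommGroup M] [Module A M] (F : I.Filtration M)
    (h0 : F.N 0 = ⊤) (hsep : ⨅ n, F.N n = ⊥)
    [IsNoetherian (AssocGr.GrRing (FiltBl.IdealFiltration.adic I)) (AssocGr.GrMod F)] :
    IsNoetherian A M ∧ ∀ M' : Submodule A M, ⨅ n, M' ⊔ F.N n = M' := by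
  classical
  have main : ∀ M' : Submodule A M, ∃ s : Set M, s.Finite ∧ Submodule.span A s ≤ M' ∧
      (⨅ n, M' ⊔ F.N n) ≤ Submodule.span A s := by
    intro M'
    let Sset : Set (AssocGr.GrMod F) := {ξ | ∃ (n : ℕ) (y : M) (hy : y ∈ F.N n), y ∈ M' ∧
      ξ = (AssocGr.inDegM F n ⟨y, hy⟩ : AssocGr.GrMod F)}
    have hfg : (Submodule.span (AssocGr.GrRing (FiltBl.IdealFiltration.adic I)) Sset).FG :=
      IsNoetherian.noetherian _
    rw [Submodule.fg_span_iff_fg_span_finset_subset] at hfg
    obtain ⟨S', hS'sub, hspan⟩ := hfg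
    choose d x0 hx hxM' hξ using fun ξ : ↥S' => hS'sub ξ.2
    let x : (i : ↥S') → ↥(F.N (d i)) := fun i => ⟨x0 i, hx i⟩
    have hle : M' ≤ ⨅ n, M' ⊔ F.N n := le_iInf fun n => le_sup_left
    refine ⟨Set.range x0, Set.finite_range _, ?_, ?_⟩
    · rw [Submodule.span_le]
      rintro _ ⟨i, rfl⟩
      exact hxM' i
    · intro y hyP
      refine Groth.Agent.Lib.Helper39.GrGen.mem_span_of_step F hsep (⨅ n, M' ⊔ F.N n) d x0 hx
        (fun i => hle (hxM' i)) ?_ y hyP (by rw [h0]; trivial)
      intro n y hyP hyn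
      have h1 := (Submodule.mem_iInf _).mp hyP (n + 1)
      rw [Submodule.mem_sup] at h1
      obtain ⟨m', hm', w, hw, rfl⟩ := h1
      have hm'n : m' ∈ F.N n := by
        have : m' = (m' + w) - w := by abel
        rw [this]
        exact Submodule.sub_mem _ hyn (F.antitone (Nat.le_succ n) hw)
      have hmem : (AssocGr.inDegM F n ⟨m', hm'n⟩ : AssocGr.GrMod F) ∈
          Submodule.span (AssocGr.GrRing (FiltBl.IdealFiltration.adic I))
            (Set.range fun i => (AssocGr.inDegM F (d i) (x i) : AssocGr.GrMod F)) := by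
        have h2 : (AssocGr.inDegM F n ⟨m', hm'n⟩ : AssocGr.GrMod F) ∈
            Submodule.span (AssocGr.GrRing (FiltBl.IdealFiltration.adic I)) Sset :=
          Submodule.subset_span ⟨n, m', hm'n, hm', rfl⟩
        rw [hspan] at h2
        refine Submodule.span_mono ?_ h2
        intro ξ hξS
        exact ⟨⟨ξ, hξS⟩, (hξ ⟨ξ, hξS⟩).symm⟩
      obtain ⟨a, ha1, ha2⟩ := Groth.Agent.Lib.Helper39.GrGen.step_of_mem_span F d x n m' hm'n hmem
      refine ⟨a, ha1, ?_⟩
      have : m' + w - ∑ i, a i • x0 i = (m' - ∑ i, a i • x0 i) + w := by abel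
      rw [this]
      exact Submodule.add_mem _ ha2 hw
  constructor
  · rw [isNoetherian_def]
    intro M'
    obtain ⟨s, hs, h1, h2⟩ := main M'
    have : M' = Submodule.span A s :=
      le_antisymm (le_trans (le_iInf fun n => le_sup_left) h2) h1
    rw [this]
    exact Submodule.fg_span hs
  · intro M'
    obtain ⟨s, hs, h1, h2⟩ := main M'
    exact le_antisymm (h2.trans h1) (le_iInf fun n => le_sup_left)

end Groth.Agent.S16459
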