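import Groth.Statements.S16462
import Groth.Agent.Lib.Helper68.EdgeOutIso
import Groth.Agent.Lib.Helper68.RelExtGSS
import Groth.Agent.Lib.Helper26.QCohRpush

set_option autoImplicit false
universe u
open Coherent

namespace Groth.Agent.S16462

open CategoryTheory AlgebraicGeometry AlgebraicGeometry.Scheme.Modules in
/-- Let f : X → Y be a quasi-compact quasi-separated morphism of schemes, g : Y → Z an affine morphism
and M a quasi-coherent O_X-module. Then for every p ≥ 0 the canonical edge morphism R^p (g ∘ f)_* M
→ g_*(R^p f_* M) is an isomorphism (higher direct images as right derived functors of direct image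
on O-modules). (The published statement assumes f separated; this row assumes only f
quasi-separated.) -/
theorem result {X Y Z : Scheme.{u}} (f : X ⟶ Y) (g : Y ⟶ Z)
    [QuasiCompact f] [QuasiSeparated f] [IsAffineHom g] [HasInjectiveResolutions X.Modules]
    (M : X.Modules) [Coh.IsQCoh M] (p : ℕ) :
    IsIso (CohBC.lerayEdgeOut f g p M) := by
  haveI : HasInjectiveResolutions Y.Modules := Groth.Agent.Lib.Helper26.QCohRpush.hasInjectiveResolutions_modules Y
  haveI : Limits.PreservesFiniteLimits (pushforward g) := by
    have h2 : Limits.PreservesLimitsOfSize.{0, 0} (pushforward g) :=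
      (pullbackPushforwardAdjunction g).rightAdjoint_preservesLimits
    exact Limits.PreservesLimitsOfSize.preservesFiniteLimits _
  have h1 : ∀ I : X.Modules, Injective I → Groth.Agent.Lib.Helper68.EdgeOutIso.Acyc (pushforward g) ((pushforward f).obj I) := by
    intro I hI q
    haveI : Injective (C := ModSite.Mod X.sheaf) I := hI
    exact Groth.Agent.Lib.Helper68.RelExtGSS.isZero_Rpush_of_totallyAcyclic g _
      (Groth.Agent.Lib.Helper68.RelExtGSS.isTotallyAcyclic_push f I
        (Groth.Agent.Lib.Helper68.InjModAcyclic.isTotallyAcyclic_toAb_of_injective X.sheaf I)) q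
  have h2 : ∀ i : ℕ, Groth.Agent.Lib.Helper68.EdgeOutIso.Acyc (pushforward g) (((pushforward f).rightDerived i).obj M) := by
    intro i q
    haveI := Groth.Agent.Lib.Helper26.QCohRpush.isQuasicoherent_rightDerived_pushforward f M ‹Coh.IsQCoh M› i
    exact Groth.Agent.Lib.Helper26.QCohRpush.isZero_Rpush_succ_of_isAffineHom g _ q
  have h := Groth.Agent.Lib.Helper68.EdgeOutIso.isIso_edgeOut (pushforward f) (pushforward g) M h1 h2 p
  unfold CohBC.lerayEdgeOut
  exact IsIso.comp_isIso' inferInstance h

end Groth.Agent.S16462
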