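import Groth.Statements.S16478
import Mathlib.Tactic
-- import your own Groth.Agent.* helpers here

set_option autoImplicit false
universe u
open GaDual

namespace Groth.Agent.S16478

/-- Let A be a commutative ring of prime characteristic p and n ≥ 1, and let φ be the comorphism of the
closed immersion α_{p^n} → G_a over A: the bialgebra map from the Hopf algebra of the additive group
(generator t primitive) to A[x]/(x^(p^n)) (x primitive) sending t to x. Then the restriction map on
characters, from those of the additive group over A to those of α_{p^n} over A, is surjective: every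
group-like element of A[x]/(x^(p^n)) is the image under φ of a group-like element of the Hopf
algebra of the additive group. -/
theorem result (p : ℕ) [Fact p.Prime] (A : Type u) [CommRing A] [CharP A p]
    (n : ℕ) (hn : 1 ≤ n) (φ : SekSuwa.A A 0 →ₐc[A] AlphaPn.A p n A) (hφ : φ SekSuwa.A.t = AlphaPn.x p n A)
    (u : AlphaPn.A p n A) (hu : IsGroupLikeElem A u) :
    ∃ g : SekSuwa.A A 0, IsGroupLikeElem A g ∧ φ g = u := by
  classical
  have hnt : Nontrivial A := CharP.nontrivial_of_char_ne_one (R := A) (v := p) (Fact.out : p.Prime).ne_one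
  let b := AlphaPn.basis p n A
  -- the linear section
  let s : AlphaPn.A p n A →ₗ[A] SekSuwa.A A 0 :=
    b.constr A (fun i : Fin (p ^ n) => (SekSuwa.A.t : SekSuwa.A A 0) ^ (i : ℕ))
  have hs : ∀ i : ℕ, i < p ^ n → s (AlphaPn.x p n A ^ i) = (SekSuwa.A.t : SekSuwa.A A 0) ^ i := by
    intro i hi
    have h1 : s (b ⟨i, hi⟩) = (SekSuwa.A.t : SekSuwa.A A 0) ^ i := by
      simp only [s, Module.Basis.constr_basis]
    rwa [AlphaPn.basis_apply] at h1
  -- φ ∘ s = id
  have hφs : ∀ z : AlphaPn.A p n A, φ (s z) = z := by
    intro z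
    have : (φ.toLinearMap.comp s) = LinearMap.id := by
      apply b.ext
      intro i
      rw [LinearMap.comp_apply, AlphaPn.basis_apply, hs _ i.2]
      change φ ((SekSuwa.A.t : SekSuwa.A A 0) ^ (i : ℕ)) = _
      rw [map_pow, hφ]
      rfl
    exact LinearMap.congr_fun this z
  -- comul of t
  have hΔt : Coalgebra.comul (R := A) (SekSuwa.A.t : SekSuwa.A A 0) =
      SekSuwa.A.t ⊗ₜ[A] 1 + 1 ⊗ₜ[A] SekSuwa.A.t := by
    rw [SekSuwa.A.comul_t, zero_smul, add_zero]
  -- compatibility with comultiplication
  have hcomul : ∀ z : AlphaPn.A p n A,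
      Coalgebra.comul (R := A) (s z) = TensorProduct.map s s (Coalgebra.comul (R := A) z) := by
    intro z
    have : ((Coalgebra.comul (R := A) (A := SekSuwa.A A 0)).comp s) =
        (TensorProduct.map s s).comp (Coalgebra.comul (R := A) (A := AlphaPn.A p n A)) := by
      apply b.ext
      intro i
      rw [LinearMap.comp_apply, LinearMap.comp_apply, AlphaPn.basis_apply, hs _ i.2,
        Bialgebra.comul_pow, Bialgebra.comul_pow, hΔt, AlphaPn.comul_x, add_pow, add_pow, map_sum]
      refine Finset.sum_congr rfl fun j hj => ?_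
      have hj' : j ≤ (i : ℕ) := Nat.lt_succ_iff.1 (Finset.mem_range.1 hj)
      rw [Algebra.TensorProduct.tmul_pow, Algebra.TensorProduct.tmul_pow, one_pow, one_pow,
        Algebra.TensorProduct.tmul_mul_tmul, mul_one, one_mul,
        Algebra.TensorProduct.tmul_pow, Algebra.TensorProduct.tmul_pow, one_pow, one_pow,
        Algebra.TensorProduct.tmul_mul_tmul, mul_one, one_mul,
        ← nsmul_eq_mul', ← nsmul_eq_mul', map_nsmul, TensorProduct.map_tmul,
        hs j (lt_of_le_of_lt hj' i.2), hs _ (lt_of_le_of_lt (Nat.sub_le _ _) i.2)]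
    exact LinearMap.congr_fun this z
  have hcounit : ∀ z : AlphaPn.A p n A,
      Coalgebra.counit (R := A) (s z) = Coalgebra.counit (R := A) z := by
    intro z
    have : ((Coalgebra.counit (R := A) (A := SekSuwa.A A 0)).comp s) =
        (Coalgebra.counit (R := A) (A := AlphaPn.A p n A)) := by
      apply b.ext
      intro i
      rw [LinearMap.comp_apply, AlphaPn.basis_apply, hs _ i.2, Bialgebra.counit_pow,
        Bialgebra.counit_pow, SekSuwa.A.counit_t, AlphaPn.counit_x]
    exact LinearMap.congr_fun this z
  refine ⟨s u, ⟨?_, ?_⟩, hφs u⟩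
  · rw [hcounit, hu.counit_eq_one]
  · rw [hcomul, hu.comul_eq_tmul_self, TensorProduct.map_tmul]

end Groth.Agent.S16478
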