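import Groth.Statements.S16482
import Mathlib.AlgebraicGeometry.Properties
-- import your own Groth.Agent.* helpers here

set_option autoImplicit false
open CategoryTheory CategoryTheory.Limits AlgebraicGeometry
universe u
open FrobSch

namespace Groth.Agent.S16482

lemma pow_inj_of_isReduced (p : ℕ) [Fact p.Prime] (R : Type u) [CommRing R] [_root_.IsReduced R]
    (h : (p : R) = 0) (x y : R) (hxy : x ^ p = y ^ p) : x = y := by
  have h1 : FrobSch.powHom p R h (x - y) = 0 := by
    rw [map_sub, FrobSch.powHom_apply, FrobSch.powHom_apply, hxy, sub_self]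
  rw [FrobSch.powHom_apply] at h1
  exact sub_eq_zero.mp (pow_eq_zero_iff (Fact.out : p.Prime).ne_zero |>.mp h1)

lemma eq_of_frob_comp_eq (p : ℕ) [Fact p.Prime] {Y Z : Scheme.{u}} [FrobSch.IsCharP Y p]
    [IsReduced Y] (g₁ g₂ : Y ⟶ Z) (h : FrobSch.frob Y p ≫ g₁ = FrobSch.frob Y p ≫ g₂) : g₁ = g₂ := by
  have hbase : g₁.base = g₂.base := by
    have := congrArg (fun f : Y ⟶ Z => f.base) h
    simpa using this
  refine Scheme.Hom.ext hbase (fun U => ?_)
  ext s
  apply pow_inj_of_isReduced p _ (FrobSch.natCast_eq_zero_app Y p _)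
  have h1 := Scheme.Hom.congr_app h.symm U
  have h2 := congrArg (fun φ => φ.hom s) h1
  rw [Scheme.Hom.comp_app, Scheme.Hom.comp_app] at h2
  have h3 : (g₂.app U).hom s ^ p =
      (Y.presheaf.map (eqToHom (congr((TopologicalSpace.Opens.map $hbase.symm).obj U))).op).hom
        ((g₁.app U).hom s ^ p) := h2
  change ((Y.presheaf.map (eqToHom (congr((TopologicalSpace.Opens.map $hbase.symm).obj U))).op).hom
    ((g₁.app U).hom s)) ^ p = (g₂.app U).hom s ^ p
  rw [← map_pow]
  exact h3.symm

/-- Let p be a prime and S a reduced scheme on which p = 0 whose absolute Frobenius is flat; let Y be a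
reduced S-scheme with structure map a, Z an S-scheme with structure map b, and g₁, g₂ : Y ⟶ Z two
S-morphisms. For i = 1, 2 let h_i : Y ⟶ Z^(p) be the relative Frobenius F_{Y/S} : Y ⟶ Y^(p) followed
by the base change Y^(p) ⟶ Z^(p) of g_i along the absolute Frobenius of S. If h₁ = h₂, then g₁ = g₂.
(The published statement works over the reduced special fibre of a flat formal scheme of finite type
over the Witt vectors of a perfect field; only reducedness of S and flatness of its absolute
Frobenius are kept here.) -/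
theorem result (p : ℕ) [Fact p.Prime]
    {Y Z S : Scheme.{u}} [FrobSch.IsCharP S p] [IsReduced S] [Flat (FrobSch.frob S p)]
    [IsReduced Y] (a : Y ⟶ S) (b : Z ⟶ S) (g₁ g₂ : Y ⟶ Z) (hg₁ : g₁ ≫ b = a) (hg₂ : g₂ ≫ b = a)
    (h : FrobSch.relFrob a p ≫ pullback.map a (FrobSch.frob S p) b (FrobSch.frob S p) g₁ (𝟙 S) (𝟙 S)
        ((Category.comp_id a).trans hg₁.symm) ((Category.comp_id _).trans (Category.id_comp _).symm) =
      FrobSch.relFrob a p ≫ pullback.map a (FrobSch.frob S p) b (FrobSch.frob S p) g₂ (𝟙 S) (𝟙 S)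
        ((Category.comp_id a).trans hg₂.symm) ((Category.comp_id _).trans (Category.id_comp _).symm)) :
    g₁ = g₂ := by
  haveI : FrobSch.IsCharP Y p := FrobSch.IsCharP.of_hom a p
  apply eq_of_frob_comp_eq p
  have h1 := congrArg (fun φ => φ ≫ pullback.fst b (FrobSch.frob S p)) h
  simp only [Category.assoc, pullback.lift_fst, pullback.map] at h1
  rw [← Category.assoc, ← Category.assoc, FrobSch.relFrob_fst] at h1
  exact h1

end Groth.Agent.S16482
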