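import Groth.Statements.S16488
import Mathlib
import Groth.Agent.Lib.Helper21.ReflexiveFreeSch
import Groth.Agent.Lib.Helper64.HomSh5

set_option autoImplicit false
universe u
open CategoryTheory CategoryTheory.Limits AlgebraicGeometry TopologicalSpace
open VBPn

namespace Groth.Agent.S16488


/-- Let X be an integral locally Noetherian scheme all of whose local rings are regular, and F a
coherent O_X-module which is reflexive, i.e. the canonical map F → F^** is an isomorphism. Then the
singularity set of F (the set of points at which the stalk of F is not free) has codimension at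
least 3: for every point x such that F_x is not a free O_{X,x}-module, the local ring O_{X,x} has
dimension at least 3. The published statement is for reflexive coherent analytic sheaves on a
complex manifold; this row is its statement for coherent sheaves on a regular integral locally
Noetherian scheme, where the same argument (a reflexive sheaf is locally a second syzygy sheaf)
applies. -/
theorem result (X : Scheme.{u}) [IsIntegral X] [IsLocallyNoetherian X]
    (hreg : ∀ x : X, IsRegularLocalRing (X.presheaf.stalk x)) (F : X.Modules) (hF : Coh.IsCoh F)
    (hrefl : RefHull.IsReflexive F) (x : X) (hx : ¬ Module.Free (X.presheaf.stalk x) (F.presheaf.stalk x)) :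
    (3 : WithBot ℕ∞) ≤ ringKrullDim (X.presheaf.stalk x) := by
    by_contra hdim
    apply hx
    haveI := hreg x
    haveI : Module.IsReflexive (X.presheaf.stalk x) (F.presheaf.stalk x) :=
      (Groth.Agent.Lib.Helper64.HomSh.isReflexive_iff_forall_isReflexiveAt hF).1 hrefl x
    haveI := Groth.Agent.Lib.Helper21.ReflexiveFreeSch.finite_stalk_of_isCoh F hF x
    refine Groth.Agent.Lib.Helper21.ReflexiveFree.free_of_isReflexive_of_regular_of_dim_le_two _ ?_ _
    rw [not_le] at hdim
    rw [AlgebraicGeometry.ringKrullDim_stalk_eq_coheight] at hdim ⊢
    have h1 : Order.coheight x < 3 := by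
      have : ((Order.coheight x : ℕ∞) : WithBot ℕ∞) < ((3 : ℕ∞) : WithBot ℕ∞) := hdim
      exact WithBot.coe_lt_coe.1 this
    have h2 : Order.coheight x ≤ 2 := by
      have : (3 : ℕ∞) = 2 + 1 := by norm_num
      rw [this] at h1
      exact Order.le_of_lt_add_one h1
    have : ((Order.coheight x : ℕ∞) : WithBot ℕ∞) ≤ ((2 : ℕ∞) : WithBot ℕ∞) := WithBot.coe_le_coe.2 h2
    exact this

end Groth.Agent.S16488
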