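import Groth.Statements.S16490
import Mathlib
import Groth.Agent.Lib.Helper64.StalkIso
import Groth.Agent.Lib.Helper64.HartogsGlue2
import Groth.Agent.Lib.Helper78.ModStalkExact

set_option autoImplicit false
universe u
open CategoryTheory CategoryTheory.Limits AlgebraicGeometry TopologicalSpace
open VBPn

namespace Groth.Agent.S16490


/-- Let X be an integral locally Noetherian scheme all of whose local rings are regular, and let 0 → F →
E → Q → 0 be a short exact sequence of coherent O_X-modules in which E is reflexive (the canonical
map E → E^** is an isomorphism) and Q is torsion-free (every stalk Q_x is a torsion-free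
O_{X,x}-module). Then F is normal: for all open subsets V ⊆ U of X such that every point of U not in
V has local ring of dimension at least 2, the restriction map F(U) → F(V) is bijective. The
published statement is for coherent analytic sheaves on a complex manifold, a sheaf being called
normal when for every open U and every analytic subset A ⊆ U of codimension at least 2 the
restriction F(U) → F(U ∖ A) is bijective; this row is its statement for coherent sheaves on a
regular integral locally Noetherian scheme, with normality phrased through open subsets V ⊆ U whose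
complement in U consists of points with local ring of dimension at least 2, where the same argument
applies. -/
theorem result (X : Scheme.{u}) [IsIntegral X] [IsLocallyNoetherian X]
    (hreg : ∀ x : X, IsRegularLocalRing (X.presheaf.stalk x)) (S : ShortComplex X.Modules) (hS : S.ShortExact)
    (hF : Coh.IsCoh S.X₁) (hE : Coh.IsCoh S.X₂) (hQ : Coh.IsCoh S.X₃)
    (hErefl : RefHull.IsReflexive S.X₂) (hQtf : TorSh.IsTorsionFree S.X₃) :
    (∀ (U V : X.Opens) (hVU : V ≤ U), (∀ x : X, x ∈ U → x ∉ V → (2 : WithBot ℕ∞) ≤ ringKrullDim (X.presheaf.stalk x)) →
        Function.Bijective (S.X₁.presheaf.map (homOfLE hVU).op)) := by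
    intro U V hVU hdim
    have hX := Groth.Agent.Lib.Helper64.StalkIso.isNormalScheme_of_regular hreg
    haveI : S.X₁.IsQuasicoherent := hF.1
    apply Groth.Agent.Lib.Helper64.HartogsMod.bijective_res_rel S.X₁
      (fun V hV => Groth.Agent.Lib.Helper29.QCohLoc.LocAt.of_isQuasicoherent S.X₁ hV) hVU
    intro x hxU hxV
    have hd := hdim x hxU hxV
    have hnot : ¬ ringKrullDim (X.presheaf.stalk x) ≤ 1 := by
      intro h1
      have h2 : (2 : WithBot ℕ∞) ≤ 1 := hd.trans h1
      exact absurd h2 (by decide)
    obtain ⟨a, ha, b, hb, h1, h2⟩ :=
      Groth.Agent.Lib.Helper64.RefS2.hasRegPairMod_stalk_of_isReflexive hX hE hErefl x hnot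
    have hinj := Groth.Agent.Lib.Helper78.ModStalkExact.stalk_injective S hS x
    have hex := Groth.Agent.Lib.Helper78.ModStalkExact.stalk_function_exact S hS x
    haveI : IsDomain (X.presheaf.stalk x) := (hX x).1
    have htf := (Module.isTorsionFree_iff_smul_eq_zero (R := X.presheaf.stalk x)
      (M := S.X₃.presheaf.stalk x)).1 (hQtf x)
    refine ⟨a, ha, b, hb, ?_, ?_⟩
    · intro z hz
      apply hinj
      rw [map_zero]
      apply h1
      rw [← map_smul, hz, map_zero]
    · intro z1 z2 h
      have h3 : b • Groth.Agent.Lib.Helper78.ModStalk.stalkMap S.f x z1 =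
          a • Groth.Agent.Lib.Helper78.ModStalk.stalkMap S.f x z2 := by
        rw [← map_smul, ← map_smul, h]
      obtain ⟨e', he'⟩ := h2 _ _ h3
      have h4 : a • Groth.Agent.Lib.Helper78.ModStalk.stalkMap S.g x e' = 0 := by
        rw [← map_smul, ← he']
        exact (hex _).2 ⟨z1, rfl⟩
      rcases htf a _ h4 with h5 | h5
      · refine ⟨0, ?_⟩
        apply hinj
        rw [smul_zero, map_zero]
        apply h1
        rw [h5, zero_smul]
      · obtain ⟨z', hz'⟩ := (hex e').1 h5
        refine ⟨z', ?_⟩
        apply hinj
        rw [map_smul, hz', he']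

end Groth.Agent.S16490
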