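import Groth.Statements.S16496
import Mathlib
import Groth.Agent.Lib.Helper64.NormalS2

set_option autoImplicit false
universe u
open CategoryTheory AlgebraicGeometry
open SGA3

namespace Groth.Agent.S16496


/-- Let S be a Noetherian normal scheme, A a flat quasi-coherent O_S-module (not assumed of finite type)
and j : U → S the inclusion of an open subscheme containing every point of S whose local ring has
dimension at most 1. Then A = j_* j^* A: the unit A → j_*(A|_U) of the adjunction between
restriction to U and direct image along j is an isomorphism. In the source U is the flatness locus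
of a finite type submodule of A, an open which contains all points of codimension at most 1; the
printed argument uses only this property of U. -/
theorem result (S : Scheme.{u}) [IsNoetherian S]
    (hS : Pi1.IsNormalScheme S) (A : S.Modules) (hA : Coh.IsQCoh A) (hAfl : FlatMod.IsFlat A)
    (U : S.Opens) (hU : ∀ s : S, ringKrullDim (S.presheaf.stalk s) ≤ 1 → s ∈ U) :
    IsIso ((Scheme.Modules.restrictAdjunction U.ι).unit.app A) := by
  haveI : A.IsQuasicoherent := hA
  -- stalkwise regular pairs outside `U`
  have hreg : ∀ x : S, x ∉ U → Groth.Agent.Lib.Helper64.HartogsMod.HasRegPairMod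
      (S.presheaf.stalk x) (A.presheaf.stalk x) := by
    intro x hx
    haveI : IsDomain (S.presheaf.stalk x) := (hS x).1
    haveI : IsIntegrallyClosed (S.presheaf.stalk x) := (hS x).2
    haveI : Module.Flat (S.presheaf.stalk x) (A.presheaf.stalk x) := hAfl x
    exact Groth.Agent.Lib.Helper64.NormalS2.hasRegPairMod_of_normal (S.presheaf.stalk x)
      (fun hdim => hx (hU x hdim)) (A.presheaf.stalk x)
  have hloc : ∀ V : S.Opens, IsAffineOpen V → Groth.Agent.Lib.Helper29.QCohLoc.LocAt A V :=
    fun V hV => Groth.Agent.Lib.Helper29.QCohLoc.LocAt.of_isQuasicoherent A hV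
  set φ := (Scheme.Modules.restrictAdjunction U.ι).unit.app A with hφ
  have h1 : IsIso ((Scheme.Modules.toPresheaf S).map φ) := by
    refine @NatIso.isIso_of_isIso_app _ _ _ _ _ _ _ ?_
    intro V
    have hb : Function.Bijective (((Scheme.Modules.toPresheaf S).map φ).app V).hom := by
      change Function.Bijective (A.presheaf.map (homOfLE (U.ι.image_preimage_le V.unop)).op)
      refine Groth.Agent.Lib.Helper64.HartogsMod.bijective_res A hloc U hreg _ ?_
      ext x
      simp only [Scheme.Hom.coe_image, Scheme.Hom.coe_preimage, Set.mem_image, Set.mem_preimage,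
        TopologicalSpace.Opens.coe_inf, Set.mem_inter_iff, SetLike.mem_coe]
      constructor
      · rintro ⟨y, hy, rfl⟩
        exact ⟨hy, y.2⟩
      · rintro ⟨hxV, hxU⟩
        exact ⟨⟨x, hxU⟩, hxV, rfl⟩
    exact (ConcreteCategory.isIso_iff_bijective _).2 hb
  exact isIso_of_reflects_iso φ (Scheme.Modules.toPresheaf S)

end Groth.Agent.S16496
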