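import Groth.Statements.S16498
import Mathlib.Data.Nat.Choose.Lucas
import Mathlib.Algebra.Polynomial.Taylor
import Mathlib.Algebra.CharP.Basic
import Mathlib.Data.Nat.Prime.Basic
import Mathlib.Tactic.Ring
import Mathlib.Algebra.BigOperators.Fin
import Mathlib.Data.Fintype.BigOperators
-- import your own Groth.Agent.* helpers here

set_option autoImplicit false
universe u
open Curves

namespace Groth.Agent.S16498

open Polynomial

theorem lucas_cast (k : Type u) [Field k] (p : ℕ) [Fact p.Prime] [CharP k p]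
    (a b c d : ℕ) (hb : b < p) (hd : d < p) :
    ((Nat.choose (a * p + b) (c * p + d) : ℕ) : k) =
      ((Nat.choose a c : ℕ) : k) * ((Nat.choose b d : ℕ) : k) := by
  have hp0 : 0 < p := (Fact.out : p.Prime).pos
  have h := CharP.natCast_eq_natCast' k p
    (Choose.choose_modEq_choose_mod_mul_choose_div_nat (n := a * p + b) (k := c * p + d) (p := p))
  have h1 : (a * p + b) % p = b := by
    rw [Nat.add_comm, Nat.add_mul_mod_self_right, Nat.mod_eq_of_lt hb]
  have h2 : (a * p + b) / p = a := by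
    rw [Nat.add_comm, Nat.add_mul_div_right _ _ hp0, Nat.div_eq_of_lt hb, zero_add]
  have h3 : (c * p + d) % p = d := by
    rw [Nat.add_comm, Nat.add_mul_mod_self_right, Nat.mod_eq_of_lt hd]
  have h4 : (c * p + d) / p = c := by
    rw [Nat.add_comm, Nat.add_mul_div_right _ _ hp0, Nat.div_eq_of_lt hd, zero_add]
  rw [h1, h2, h3, h4] at h
  rw [h, Nat.cast_mul, mul_comm]

theorem coeff_comp_eq_sum (k : Type u) [Field k] (F : k[X]) (α : k) (N l : ℕ)
    (hF : F.natDegree ≤ N) :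
    (F.comp (X + C α)).coeff l =
      ∑ m ∈ Finset.range (N + 1), F.coeff m * (((Nat.choose m l : ℕ) : k) * α ^ (m - l)) := by
  rw [← taylor_apply, taylor_coeff, hasseDeriv_apply,
    sum_over_range' F (fun n => by simp) (N + 1) (Nat.lt_succ_of_le hF), eval_finsetSum]
  refine Finset.sum_congr rfl fun m _ => ?_
  rw [eval_monomial]
  ring

theorem phi_eq (p' I J : ℕ) (hJ : J ≤ p') :
    (I + 1) * (p' + 1) - (J + 1) = I * (p' + 1) + (p' - J) := by
  rw [Nat.succ_mul]
  omega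

theorem N_eq (g p' : ℕ) : (g + 1) * (p' + 1 - 1) + g = g * (p' + 1) + p' := by
  rw [Nat.add_sub_cancel, Nat.succ_mul, Nat.mul_succ]
  omega

theorem phi_le (g p' I J : ℕ) (hg : g ≤ p' + 1) (hI : I < g) (hJ : J < g) :
    I * (p' + 1) + (p' - J) ≤ (g + 1) * (p' + 1 - 1) := by
  have h3 : (I + 1) * (p' + 1) ≤ g * (p' + 1) := Nat.mul_le_mul_right _ hI
  rw [Nat.succ_mul] at h3
  have h4 := N_eq g p'
  generalize I * (p' + 1) = A at *
  generalize g * (p' + 1) = B at *
  generalize (g + 1) * (p' + 1 - 1) = N at *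
  omega

theorem phi_inj (p' I J I' J' : ℕ) (hJ : J ≤ p') (hJ' : J' ≤ p')
    (h : I * (p' + 1) + (p' - J) = I' * (p' + 1) + (p' - J')) : I = I' ∧ J = J' := by
  have hp0 : 0 < p' + 1 := Nat.succ_pos _
  have hd : (I * (p' + 1) + (p' - J)) / (p' + 1) = (I' * (p' + 1) + (p' - J')) / (p' + 1) := by
    rw [h]
  have hm : (I * (p' + 1) + (p' - J)) % (p' + 1) = (I' * (p' + 1) + (p' - J')) % (p' + 1) := by
    rw [h]
  rw [Nat.add_comm, Nat.add_mul_div_right _ _ hp0, Nat.div_eq_of_lt (by omega), zero_add,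
    Nat.add_comm, Nat.add_mul_div_right _ _ hp0, Nat.div_eq_of_lt (by omega), zero_add] at hd
  rw [Nat.add_comm, Nat.add_mul_mod_self_right, Nat.mod_eq_of_lt (by omega),
    Nat.add_comm, Nat.add_mul_mod_self_right, Nat.mod_eq_of_lt (by omega)] at hm
  exact ⟨hd, by omega⟩

theorem a_lt (g p' a b j : ℕ) (hg : g ≤ p' + 1) (hj : j < g) (hb : p' - j ≤ b)
    (hm : a * (p' + 1) + b ≤ (g + 1) * (p' + 1 - 1)) : a < g := by
  by_contra hag
  push Not at hag
  have h3 : g * (p' + 1) ≤ a * (p' + 1) := Nat.mul_le_mul_right _ hag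
  have h4 := N_eq g p'
  generalize a * (p' + 1) = A at *
  generalize g * (p' + 1) = B at *
  generalize (g + 1) * (p' + 1 - 1) = N at *
  omega

theorem exp_eq (p' I J i j : ℕ) (hIi : i ≤ I) (hJj : J ≤ j) (hj : j ≤ p') :
    I * (p' + 1) + (p' - J) - (i * (p' + 1) + (p' - j)) = (I - i) * (p' + 1) + (j - J) := by
  obtain ⟨e, rfl⟩ : ∃ e, I = i + e := ⟨I - i, by omega⟩
  rw [Nat.add_sub_cancel_left, Nat.add_mul]
  generalize i * (p' + 1) = A
  generalize e * (p' + 1) = B
  omega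

theorem key (k : Type u) [Field k] (p : ℕ) [Fact p.Prime] [CharP k p]
    (g : ℕ) (hg : g ≤ p) (F : k[X]) (hF : F.natDegree ≤ (g + 1) * (p - 1)) (α : k)
    (i j : Fin g) :
    (F.comp (X + C α)).coeff (((i : ℕ) + 1) * p - ((j : ℕ) + 1)) =
      ∑ x : Fin g × Fin g,
        ((((x.1 : ℕ).choose (i : ℕ) : ℕ) : k) * α ^ (((x.1 : ℕ) - (i : ℕ)) * p)) *
          F.coeff (((x.1 : ℕ) + 1) * p - ((x.2 : ℕ) + 1)) *
        ((((p - ((x.2 : ℕ) + 1)).choose (p - ((j : ℕ) + 1)) : ℕ) : k) *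
          α ^ ((j : ℕ) - (x.2 : ℕ))) := by
  have hp0 : 0 < p := (Fact.out : p.Prime).pos
  obtain ⟨p', rfl⟩ : ∃ p', p = p' + 1 := ⟨p - 1, by omega⟩
  have hi : (i : ℕ) < g := i.2
  have hj : (j : ℕ) < g := j.2
  rw [coeff_comp_eq_sum k F α _ _ hF]
  have hsub : Finset.image (fun x : Fin g × Fin g => ((x.1 : ℕ) + 1) * (p' + 1) - ((x.2 : ℕ) + 1))
      Finset.univ ⊆ Finset.range ((g + 1) * (p' + 1 - 1) + 1) := by
    intro m hm
    rw [Finset.mem_image] at hm
    obtain ⟨x, _, rfl⟩ := hm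
    have h1 : (x.1 : ℕ) < g := x.1.2
    have h2 : (x.2 : ℕ) < g := x.2.2
    rw [Finset.mem_range]
    rw [phi_eq p' _ _ (by omega)]
    exact Nat.lt_succ_of_le (phi_le g p' _ _ hg h1 h2)
  have hinj : ∀ x ∈ (Finset.univ : Finset (Fin g × Fin g)), ∀ y ∈ (Finset.univ : Finset (Fin g × Fin g)),
      (fun x : Fin g × Fin g => ((x.1 : ℕ) + 1) * (p' + 1) - ((x.2 : ℕ) + 1)) x =
      (fun x : Fin g × Fin g => ((x.1 : ℕ) + 1) * (p' + 1) - ((x.2 : ℕ) + 1)) y → x = y := by
    intro x _ y _ hxy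
    have hx2 : (x.2 : ℕ) < g := x.2.2
    have hy2 : (y.2 : ℕ) < g := y.2.2
    change ((x.1 : ℕ) + 1) * (p' + 1) - ((x.2 : ℕ) + 1) =
      ((y.1 : ℕ) + 1) * (p' + 1) - ((y.2 : ℕ) + 1) at hxy
    rw [phi_eq p' _ _ (show (x.2 : ℕ) ≤ p' by omega),
      phi_eq p' _ _ (show (y.2 : ℕ) ≤ p' by omega)] at hxy
    obtain ⟨e1, e2⟩ := phi_inj p' _ _ _ _ (by omega) (by omega) hxy
    exact Prod.ext (Fin.ext e1) (Fin.ext e2)
  rw [← Finset.sum_subset hsub, Finset.sum_image hinj]
  · refine Finset.sum_congr rfl fun x _ => ?_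
    have h1 : (x.1 : ℕ) < g := x.1.2
    have h2 : (x.2 : ℕ) < g := x.2.2
    generalize F.coeff (((x.1 : ℕ) + 1) * (p' + 1) - ((x.2 : ℕ) + 1)) = cx
    rw [phi_eq p' _ _ (show (x.2 : ℕ) ≤ p' by omega), phi_eq p' _ _ (show (j : ℕ) ≤ p' by omega),
      lucas_cast k (p' + 1) _ _ _ _ (by omega) (by omega)]
    have e1 : p' + 1 - ((x.2 : ℕ) + 1) = p' - (x.2 : ℕ) := by omega
    have e2 : p' + 1 - ((j : ℕ) + 1) = p' - (j : ℕ) := by omega
    rw [e1, e2]
    by_cases hIi : (x.1 : ℕ) < (i : ℕ)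
    · rw [Nat.choose_eq_zero_of_lt hIi]
      simp
    by_cases hJj : (j : ℕ) < (x.2 : ℕ)
    · rw [Nat.choose_eq_zero_of_lt (show p' - (x.2 : ℕ) < p' - (j : ℕ) by omega)]
      simp
    rw [exp_eq p' _ _ _ _ (by omega) (by omega) (by omega), pow_add]
    ring
  · intro m hm hnm
    rw [Finset.mem_range] at hm
    rw [Finset.mem_image] at hnm
    have hzero : ((Nat.choose m (((i : ℕ) + 1) * (p' + 1) - ((j : ℕ) + 1)) : ℕ) : k) = 0 := by
      rw [phi_eq p' _ _ (show (j : ℕ) ≤ p' by omega)]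
      have hdm := Nat.div_add_mod m (p' + 1)
      have hbp : m % (p' + 1) < p' + 1 := Nat.mod_lt _ hp0
      generalize m / (p' + 1) = a at *
      generalize m % (p' + 1) = b at *
      have hm' : m = a * (p' + 1) + b := by rw [← hdm, Nat.mul_comm]
      subst hm'
      rw [lucas_cast k (p' + 1) _ _ _ _ hbp (by omega)]
      have hblt : b < p' - (j : ℕ) := by
        by_contra hcon
        push Not at hcon
        have hag : a < g := a_lt g p' a b j hg hj hcon (Nat.le_of_lt_succ hm)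
        apply hnm
        refine ⟨((⟨a, hag⟩ : Fin g), (⟨p' - b, by omega⟩ : Fin g)), Finset.mem_univ _, ?_⟩
        change (a + 1) * (p' + 1) - (p' - b + 1) = a * (p' + 1) + b
        rw [phi_eq p' _ _ (show p' - b ≤ p' by omega)]
        congr 1
        omega
      rw [Nat.choose_eq_zero_of_lt hblt]
      simp
    rw [hzero]
    simp

/-- Let k be a field of odd characteristic p, g ≤ p a natural number, f ∈ k[x] of degree at most 2g + 2,
and α ∈ k. Write f^((p-1)/2) = Σ_l c_l x^l and f(x + α)^((p-1)/2) = Σ_l d_l x^l, and form the g × g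
Cartier–Manin matrices (c_{ip-j}) and (d_{ip-j}), indices i, j = 1, …, g (below written with i, j
ranging over Fin g, so that the entry at (i, j) is the coefficient of x^((i+1)p-(j+1))). Then
(d_{ip-j}) = L · (c_{ip-j}) · U with L_{i,I} = binom(I-1, i-1) α^((I-i)p) and U_{J,j} = binom(p-J,
p-j) α^(j-J); both L and U are unitriangular since a binomial coefficient vanishes when its lower
index exceeds its upper index. (The source works over a perfect field, with f separable of degree 2g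
+ 2 and α ∈ k^* a root of f, hypotheses this identity does not use.) -/
theorem result (k : Type u) [Field k] (p : ℕ) [Fact p.Prime] (hp : p ≠ 2) [CharP k p]
    (g : ℕ) (hg : g ≤ p) (f : Polynomial k) (hf : f.natDegree ≤ 2 * g + 2) (α : k) :
    (Matrix.of fun i j : Fin g =>
        ((f.comp (Polynomial.X + Polynomial.C α)) ^ ((p - 1) / 2)).coeff (((i : ℕ) + 1) * p - ((j : ℕ) + 1))) =
      (Matrix.of fun i I : Fin g => (((I : ℕ).choose (i : ℕ) : ℕ) : k) * α ^ (((I : ℕ) - (i : ℕ)) * p)) *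
        (Matrix.of fun i j : Fin g => (f ^ ((p - 1) / 2)).coeff (((i : ℕ) + 1) * p - ((j : ℕ) + 1))) *
        (Matrix.of fun J j : Fin g => (((p - ((J : ℕ) + 1)).choose (p - ((j : ℕ) + 1)) : ℕ) : k) * α ^ ((j : ℕ) - (J : ℕ))) := by
  have hp2 : 2 ≤ p := (Fact.out : p.Prime).two_le
  have hodd : p % 2 = 1 := (Nat.Prime.eq_two_or_odd (Fact.out : p.Prime)).resolve_left hp
  have hF : (f ^ ((p - 1) / 2)).natDegree ≤ (g + 1) * (p - 1) := by
    refine (Polynomial.natDegree_pow_le).trans ?_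
    calc (p - 1) / 2 * f.natDegree ≤ (p - 1) / 2 * (2 * g + 2) := Nat.mul_le_mul_left _ hf
      _ = (g + 1) * (2 * ((p - 1) / 2)) := by ring
      _ = (g + 1) * (p - 1) := by
        congr 1
        omega
  ext i j
  rw [Matrix.mul_apply]
  simp only [Matrix.mul_apply, Matrix.of_apply]
  rw [← Polynomial.pow_comp, key k p g hg _ hF α i j, Fintype.sum_prod_type, Finset.sum_comm]
  refine Finset.sum_congr rfl fun J _ => ?_
  rw [Finset.sum_mul]

end Groth.Agent.S16498
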