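import Groth.Statements.S16500
import Mathlib.Data.Nat.Prime.Basic
import Mathlib.Tactic.Ring
-- import your own Groth.Agent.* helpers here

set_option autoImplicit false
universe u
open Curves

namespace Groth.Agent.S16500

theorem reflect_pow_of_natDegree_le {R : Type*} [CommRing R] (N : ℕ) (f : Polynomial R)
    (hf : f.natDegree ≤ N) (m : ℕ) :
    (Polynomial.reflect N f) ^ m = Polynomial.reflect (N * m) (f ^ m) := by
  induction m with
  | zero =>
    simp only [pow_zero, Nat.mul_zero]
    rw [← Polynomial.C_1, Polynomial.reflect_C]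
    simp
  | succ m ih =>
    rw [pow_succ, pow_succ, ih, Nat.mul_succ]
    have h1 : (f ^ m).natDegree ≤ N * m := by
      refine (Polynomial.natDegree_pow_le).trans ?_
      rw [Nat.mul_comm m]
      exact Nat.mul_le_mul_right m hf
    exact (Polynomial.reflect_mul (f ^ m) f h1 hf).symm

/-- Let k be a field of odd characteristic p, g ≤ p a natural number and f ∈ k[x] of degree at most 2g +
2. Let F be f with its coefficients reversed in degrees 0, …, 2g + 2, i.e. F(X) = X^(2g+2) f(1/X)
(Mathlib's reflect (2g+2) f), and write f^((p-1)/2) = Σ_l c_l x^l and F^((p-1)/2) = Σ_l C_l X^l.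
Then C_{ip-j} = c_{(g+1-i)p-(g+1-j)} for all i, j = 1, …, g; that is, the g × g Cartier–Manin matrix
of F is that of f with the order of both rows and columns reversed (below the indices run over Fin
g, the entry at (i, j) being the coefficient of degree (i+1)p-(j+1), and reversal is Fin.rev). In
particular the two matrices have the same determinant. (The source applies this to f with f(0) = 0,
separable of degree 2g + 2 over a perfect field, so that F has odd degree 2g + 1; the identity uses
none of that.) -/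
theorem result (k : Type u) [Field k] (p : ℕ) [Fact p.Prime] (hp : p ≠ 2) [CharP k p]
    (g : ℕ) (hg : g ≤ p) (f : Polynomial k) (hf : f.natDegree ≤ 2 * g + 2) :
    (Matrix.of fun i j : Fin g =>
        ((Polynomial.reflect (2 * g + 2) f) ^ ((p - 1) / 2)).coeff (((i : ℕ) + 1) * p - ((j : ℕ) + 1))) =
      Matrix.of fun i j : Fin g =>
        (f ^ ((p - 1) / 2)).coeff (((Fin.rev i : ℕ) + 1) * p - ((Fin.rev j : ℕ) + 1)) := by
  have hp2 : 2 ≤ p := (Fact.out : p.Prime).two_le
  have hodd : p % 2 = 1 := (Nat.Prime.eq_two_or_odd (Fact.out : p.Prime)).resolve_left hp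
  ext i j
  simp only [Matrix.of_apply]
  rw [reflect_pow_of_natDegree_le (2 * g + 2) f hf, Polynomial.coeff_reflect]
  have hi : (i : ℕ) < g := i.2
  have hj : (j : ℕ) < g := j.2
  have hri : ((Fin.rev i : Fin g) : ℕ) = g - 1 - i := by
    rw [Fin.val_rev]; omega
  have hrj : ((Fin.rev j : Fin g) : ℕ) = g - 1 - j := by
    rw [Fin.val_rev]; omega
  rw [hri, hrj]
  obtain ⟨q, hq⟩ : ∃ q, p = 2 * q + 1 := ⟨p / 2, by omega⟩
  have hk : (p - 1) / 2 = q := by omega
  rw [hk]
  obtain ⟨a, ha⟩ : ∃ a, g = (i : ℕ) + 1 + a := ⟨g - (i + 1), by omega⟩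
  obtain ⟨b, hb⟩ : ∃ b, g = (j : ℕ) + 1 + b := ⟨g - (j + 1), by omega⟩
  have e1 : g - 1 - (i : ℕ) + 1 = a + 1 := by omega
  have e2 : g - 1 - (j : ℕ) + 1 = b + 1 := by omega
  rw [e1, e2]
  have hle : ((i : ℕ) + 1) * p - ((j : ℕ) + 1) ≤ (2 * g + 2) * q := by
    have : ((i : ℕ) + 1) * p + (a + 1) * p = (g + 1) * p := by rw [← Nat.add_mul]; congr 1; omega
    have h3 : (2 * g + 2) * q + (g + 1) = (g + 1) * p := by rw [hq]; ring
    have h4 : b + 1 ≤ (a + 1) * p := by
      calc b + 1 ≤ g := by omega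
        _ ≤ p := hg
        _ ≤ (a + 1) * p := Nat.le_mul_of_pos_left p (Nat.succ_pos a)
    omega
  rw [Polynomial.revAt_le hle]
  congr 1
  have : ((i : ℕ) + 1) * p + (a + 1) * p = (g + 1) * p := by rw [← Nat.add_mul]; congr 1; omega
  have h3 : (2 * g + 2) * q + (g + 1) = (g + 1) * p := by rw [hq]; ring
  have h4 : b + 1 ≤ (a + 1) * p := by
    calc b + 1 ≤ g := by omega
      _ ≤ p := hg
      _ ≤ (a + 1) * p := Nat.le_mul_of_pos_left p (Nat.succ_pos a)
  have h5 : (j : ℕ) + 1 ≤ ((i : ℕ) + 1) * p := by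
    calc (j : ℕ) + 1 ≤ g := by omega
      _ ≤ p := hg
      _ ≤ ((i : ℕ) + 1) * p := Nat.le_mul_of_pos_left p (Nat.succ_pos _)
  omega

end Groth.Agent.S16500
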