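import Groth.Statements.S16515
import Groth.Agent.Lib.Helper42.BinaryForms
import Mathlib.LinearAlgebra.FiniteDimensional.Lemmas
import Mathlib.LinearAlgebra.FreeModule.Finite.Matrix
import Mathlib.LinearAlgebra.Dimension.RankNullity
import Mathlib.Tactic.Ring
-- import your own Groth.Agent.* helpers here

set_option autoImplicit false
universe u
open RatCurv

namespace Groth.Agent.S16515

open Groth.Agent.Lib.Helper42

/-- If C ⊂ P^n is a rational normal curve and P ⊂ P^n a linear r-plane with (r + 2) k ≥ (r + 1)(n + 1),
then P is contained in a k-secant (k − 1)-plane of C, i.e. in the span of some effective divisor of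
degree k on C. Stated through the identification of the linear forms on P^n with the binary forms of
degree n on C ≅ P^1: the r-plane P is recorded by the space U of degree-n binary forms vanishing on
it (of codimension r + 1), an effective divisor of degree k on C by a nonzero binary form g of
degree k, and P ⊂ span(div g) says that every degree-n form divisible by g lies in U. Here k ≤ n,
and the ground field is arbitrary (the source works over the complex numbers). -/
theorem result (K : Type u) [Field K] (n r k : ℕ)
    (hkn : k ≤ n) (hineq : (r + 1) * (n + 1) ≤ (r + 2) * k)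
    (U : Submodule K (MvPolynomial (Fin 2) K))
    (hU : U ≤ MvPolynomial.homogeneousSubmodule (Fin 2) K n)
    (hcodim : Module.finrank K ↥U + (r + 1) = n + 1) :
    ∃ g ∈ MvPolynomial.homogeneousSubmodule (Fin 2) K k, g ≠ 0 ∧
      ∀ h ∈ MvPolynomial.homogeneousSubmodule (Fin 2) K (n - k), g * h ∈ U := by
  obtain ⟨m, rfl⟩ := Nat.exists_eq_add_of_le hkn
  rw [Nat.add_sub_cancel_left]
  have : Module.Finite K (MvPolynomial.homogeneousSubmodule (Fin 2) K k) := finite_homog K k
  have : Module.Finite K (MvPolynomial.homogeneousSubmodule (Fin 2) K m) := finite_homog K m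
  have : Module.Finite K (MvPolynomial.homogeneousSubmodule (Fin 2) K (k + m)) := finite_homog K (k + m)
  set H := MvPolynomial.homogeneousSubmodule (Fin 2) K (k + m) with hH
  set U' : Submodule K H := U.comap H.subtype with hU'
  have hU'rank : Module.finrank K U' = Module.finrank K U :=
    (Submodule.comapSubtypeEquivOfLe hU).finrank_eq
  have hQ : Module.finrank K (H ⧸ U') = r + 1 := by
    have h1 := Submodule.finrank_quotient_add_finrank U'
    rw [hU'rank, finrank_homog] at h1
    omega
  let Ψ : MvPolynomial.homogeneousSubmodule (Fin 2) K k →ₗ[K]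
      MvPolynomial.homogeneousSubmodule (Fin 2) K m →ₗ[K] (H ⧸ U') :=
    (mulHom K k m).compr₂ U'.mkQ
  have hlt : Module.finrank K (MvPolynomial.homogeneousSubmodule (Fin 2) K m →ₗ[K] (H ⧸ U')) <
      Module.finrank K (MvPolynomial.homogeneousSubmodule (Fin 2) K k) := by
    rw [Module.finrank_linearMap, hQ, finrank_homog, finrank_homog]
    have e1 : (r + 2) * k = (r + 1) * k + k := by ring
    have e2 : (r + 1) * (k + m + 1) = (r + 1) * k + (m + 1) * (r + 1) := by ring
    omega
  have hker := LinearMap.ker_ne_bot_of_finrank_lt (f := Ψ) hlt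
  obtain ⟨g, hgker, hg0⟩ := (Submodule.ne_bot_iff _).mp hker
  refine ⟨g.1, g.2, fun h0 => hg0 (Subtype.ext h0), fun h hh => ?_⟩
  have h1 : Ψ g ⟨h, hh⟩ = 0 := by
    rw [LinearMap.mem_ker] at hgker
    rw [hgker]
    rfl
  have h2 : (mulHom K k m g ⟨h, hh⟩) ∈ U' := by
    rw [← Submodule.Quotient.mk_eq_zero]
    exact h1
  exact h2

end Groth.Agent.S16515
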