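import Groth.Statements.S16516
import Groth.Agent.Lib.Helper42.BinaryForms
import Mathlib.LinearAlgebra.FiniteDimensional.Lemmas
import Mathlib.LinearAlgebra.FreeModule.Finite.Matrix
import Mathlib.LinearAlgebra.Dimension.RankNullity
import Mathlib.LinearAlgebra.Dual.Lemmas
import Mathlib.Tactic.Ring
import Mathlib.LinearAlgebra.FreeModule.Basic
import Mathlib.LinearAlgebra.Basis.VectorSpace
-- import your own Groth.Agent.* helpers here

set_option autoImplicit false
universe u
open RatCurv

namespace Groth.Agent.S16516

open Groth.Agent.Lib.Helper42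

/-- A smooth nondegenerate rational quintic curve C ⊂ P^4 has exactly one 3-secant line. Stated for C
given as the image of P^1 under a 5-dimensional linear series V of binary quintic forms which
separates every length-2 subscheme of P^1 (for every nonzero quadratic form e the forms of V
together with the multiples of e span all quintic forms), so that P^1 → P(V^*) = P^4 is a closed
embedding with nondegenerate image; the linear forms on P^4 are the elements of V, a line L ⊂ P^4 is
recorded by the 3-dimensional space of linear forms vanishing on it, and L ∩ C has length at least 3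
exactly when that space consists of the multiples g · K[s,t]_2 of a cubic form g. The conclusion: a
nonzero cubic g with g · K[s,t]_2 ⊆ V exists and is unique up to a scalar. (That such a line meets C
in length exactly 3, i.e. is not 4-secant, is immediate in this description and is not restated; the
ground field is algebraically closed of characteristic zero in place of the complex numbers.) -/
theorem result (K : Type u) [Field K] [IsAlgClosed K]
    [CharZero K] (V : Submodule K (MvPolynomial (Fin 2) K))
    (hV : V ≤ MvPolynomial.homogeneousSubmodule (Fin 2) K 5) (hdim : Module.finrank K ↥V = 5)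
    (hsep : ∀ e ∈ MvPolynomial.homogeneousSubmodule (Fin 2) K 2, e ≠ 0 →
      ∀ F ∈ MvPolynomial.homogeneousSubmodule (Fin 2) K 5, ∃ v ∈ V,
        ∃ h ∈ MvPolynomial.homogeneousSubmodule (Fin 2) K 3, F = v + e * h) :
    ∃ g ∈ MvPolynomial.homogeneousSubmodule (Fin 2) K 3, g ≠ 0 ∧
      (∀ h ∈ MvPolynomial.homogeneousSubmodule (Fin 2) K 2, g * h ∈ V) ∧
      ∀ g' ∈ MvPolynomial.homogeneousSubmodule (Fin 2) K 3,
        (∀ h ∈ MvPolynomial.homogeneousSubmodule (Fin 2) K 2, g' * h ∈ V) → ∃ c : K, g' = c • g := by
  have : Module.Finite K (MvPolynomial.homogeneousSubmodule (Fin 2) K 2) := finite_homog K 2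
  have : Module.Finite K (MvPolynomial.homogeneousSubmodule (Fin 2) K 3) := finite_homog K 3
  have : Module.Finite K (MvPolynomial.homogeneousSubmodule (Fin 2) K (3 + 2)) := finite_homog K (3 + 2)
  set H := MvPolynomial.homogeneousSubmodule (Fin 2) K (3 + 2) with hH
  have hV' : V ≤ H := hV
  set V' : Submodule K H := V.comap H.subtype with hV'def
  have hV'rank : Module.finrank K V' = Module.finrank K V :=
    (Submodule.comapSubtypeEquivOfLe hV').finrank_eq
  have hQ : Module.finrank K (H ⧸ V') = 1 := by
    have h1 := Submodule.finrank_quotient_add_finrank V'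
    rw [hV'rank, finrank_homog, hdim] at h1
    omega
  let e : (H ⧸ V') ≃ₗ[K] K := LinearEquiv.ofFinrankEq _ _ (by rw [hQ, Module.finrank_self])
  let φ : H →ₗ[K] K := e.toLinearMap ∘ₗ V'.mkQ
  have hφ : ∀ x : H, φ x = 0 ↔ x.1 ∈ V := by
    intro x
    show e (V'.mkQ x) = 0 ↔ _
    rw [LinearEquiv.map_eq_zero_iff, Submodule.mkQ_apply, Submodule.Quotient.mk_eq_zero]
    rfl
  let B : MvPolynomial.homogeneousSubmodule (Fin 2) K 3 →ₗ[K]
      MvPolynomial.homogeneousSubmodule (Fin 2) K 2 →ₗ[K] K :=
    (mulHom K 3 2).compr₂ φ
  have hB : ∀ g h, B g h = 0 ↔ g.1 * h.1 ∈ V := by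
    intro g h
    exact hφ (mulHom K 3 2 g h)
  have hflip : Function.Injective B.flip := by
    rw [← LinearMap.ker_eq_bot, Submodule.eq_bot_iff]
    intro e he
    by_contra hne
    have he' : ∀ g : MvPolynomial.homogeneousSubmodule (Fin 2) K 3, g.1 * e.1 ∈ V := by
      intro g
      rw [← hB]
      rw [LinearMap.mem_ker] at he
      have := LinearMap.congr_fun he g
      simpa using this
    have hHV : H ≤ V := by
      intro F hF
      obtain ⟨v, hv, h, hh, rfl⟩ := hsep e.1 e.2 (fun h0 => hne (Subtype.ext h0)) F hF
      refine V.add_mem hv ?_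
      rw [mul_comm]
      exact he' ⟨h, hh⟩
    have hVH : V = H := le_antisymm hV' hHV
    have h6 : Module.finrank K V = 6 := by
      rw [hVH, hH, finrank_homog]
    omega
  have hsurj : Function.Surjective B := LinearMap.flip_injective_iff₁.mp hflip
  have hker : Module.finrank K (LinearMap.ker B) = 1 := by
    have h1 := LinearMap.finrank_range_add_finrank_ker B
    rw [LinearMap.range_eq_top.mpr hsurj, finrank_top, Subspace.dual_finrank_eq, finrank_homog,
      finrank_homog] at h1
    omega
  have hfree : Module.Free K (LinearMap.ker B) := Module.Free.of_divisionRing K (LinearMap.ker B)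
  obtain ⟨g0, hg0, hall⟩ := (finrank_eq_one_iff' (K := K) (V := LinearMap.ker B)).mp hker
  refine ⟨g0.1.1, g0.1.2, fun h0 => hg0 (Subtype.ext (Subtype.ext h0)), fun h hh => ?_, fun g' hg' hmul => ?_⟩
  · have := g0.2
    rw [LinearMap.mem_ker] at this
    rw [← hB g0.1 ⟨h, hh⟩, this]
    rfl
  · have hmem : (⟨g', hg'⟩ : MvPolynomial.homogeneousSubmodule (Fin 2) K 3) ∈ LinearMap.ker B := by
      rw [LinearMap.mem_ker]
      ext h
      rw [LinearMap.zero_apply, hB]
      exact hmul h.1 h.2
    obtain ⟨c, hc⟩ := hall ⟨_, hmem⟩
    refine ⟨c, ?_⟩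
    have := congrArg (fun x => (x.1.1 : MvPolynomial (Fin 2) K)) hc
    simpa using this.symm

end Groth.Agent.S16516
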