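import Mathlib
-- Template for statement S16517 (row 16516; see the milestone table for weights).
-- Copy to Groth/Agent/S16517.lean and replace the sorry. The statement below is byte-identical to the frozen
-- statement CAlg.GrothFrozen.S16517 (Groth/Statements/S16517.lean; the theorem CAlg.flat_quotient_and_quotient_annihilator_of_gorenstein_over_regular);
-- the grader kernel-checks Groth.Agent.S16517.result against that frozen type. Keep the theorem IN THIS FILE
-- (a `result` declared elsewhere and merely imported here is not credited); helpers may live anywhere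
-- under Groth/Agent/.
import Groth.Statements.S16517
import Groth.Agent.Lib.Helper24.Linkage
import Groth.Agent.Lib.Helper77.MiracleFlat
import Groth.Agent.Lib.Helper77.FlatDepth2
import Groth.Agent.Lib.Helper76.RegularLocalGlDim

set_option autoImplicit false
universe u
section Helpers
open IsLocalRing LocCoh TensorProduct
namespace Groth.Agent.S16517
open Groth.Agent.Lib.Helper24.Linkage

theorem flat_of_isField (k M : Type*) [CommRing k] [AddCommGroup M] [Module k M] (h : IsField k) :
    Module.Flat k M := by
  letI := h.toField
  infer_instance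

/-- part 2: the residual quotient is flat -/
theorem flat_quot_annihilator (R A : Type u)
    [CommRing R] [IsRegularLocalRing R] [CommRing A] [Algebra R A] [LocCoh.IsGorensteinLocalRing A]
    [IsLocalHom (algebraMap R A)] [Module.Flat R A] (I : Ideal A)
    (hI : ringKrullDim (A ⧸ I) = ringKrullDim A) [LocCoh.IsCohenMacaulayLocalRing (A ⧸ I)] :
    Module.Flat R (A ⧸ (Submodule.annihilator I)) := by
  obtain ⟨d, hd⟩ := Groth.Agent.Lib.Helper77.FlatDepth.exists_nat_dim R
  obtain ⟨x, hx⟩ := Groth.Agent.Lib.Helper76.exists_fin_span_range_eq_maximalIdeal R d hd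
  have hreg := Groth.Agent.Lib.Helper76.isRegular_of_span_range_eq_maximalIdeal R d hd x hx
  have hof : Ideal.ofList (List.ofFn x) = maximalIdeal R := by
    rw [← hx]
    unfold Ideal.ofList
    congr 1
    ext r
    simp [List.mem_ofFn]
  have h2 := (annihilator_colon (I := I) _ (hreg.toIsWeaklyRegular.of_flat (S := A))
    (extVanish_of_gorenstein A I hI)).2
  rw [← Ideal.map_ofList, hof] at h2
  have hinj := rTensor_quot_injective (maximalIdeal R) (Submodule.annihilator I) (le_of_eq h2)
  have hIS : (maximalIdeal R).map (algebraMap R A) ≤ Ideal.jacobson ⊥ := by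
    rw [IsLocalRing.jacobson_eq_maximalIdeal ⊥ bot_ne_top]
    exact IsLocalRing.map_maximalIdeal_le (algebraMap R A)
  refine Groth.Agent.Lib.Helper6.LocalFlat.flat_of_flat_quotient_of_rTensor_injective (S := A)
    (maximalIdeal R) hIS hinj ?_
  exact flat_of_isField _ _
    ((Ideal.Quotient.maximal_ideal_iff_isField_quotient _).mp inferInstance)

end Groth.Agent.S16517

namespace Groth.Agent.S16517
open Groth.Agent.Lib.Helper77.FlatDepth

/-- part 1: the quotient `A/I` is flat (miracle flatness) -/
theorem flat_quot (R A : Type u)
    [CommRing R] [IsRegularLocalRing R] [CommRing A] [Algebra R A] [LocCoh.IsGorensteinLocalRing A]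
    [IsLocalHom (algebraMap R A)] [Module.Flat R A] (I : Ideal A)
    (hI : ringKrullDim (A ⧸ I) = ringKrullDim A) [LocCoh.IsCohenMacaulayLocalRing (A ⧸ I)] :
    Module.Flat R (A ⧸ I) := by
  have hloc1 : IsLocalHom (Ideal.Quotient.mk I) :=
    Function.Surjective.isLocalHom _ Ideal.Quotient.mk_surjective
  have hloc : IsLocalHom (algebraMap R (A ⧸ I)) := by
    have : algebraMap R (A ⧸ I) = (Ideal.Quotient.mk I).comp (algebraMap R A) := rfl
    rw [this]
    exact RingHom.isLocalHom_comp _ _
  apply Groth.Agent.Lib.Helper77.MiracleFlat.miracle_flatness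
  apply le_antisymm
  · exact dim_le_add R (A ⧸ I)
  · rw [hI, dim_eq_add R A]
    gcongr
    have hle : (maximalIdeal R).map (algebraMap R A) ≤
        Ideal.comap (Ideal.Quotient.mk I) ((maximalIdeal R).map (algebraMap R (A ⧸ I))) := by
      rw [← Ideal.map_le_iff_le_comap, Ideal.map_map]
      exact le_rfl
    exact ringKrullDim_le_of_surjective (Ideal.quotientMap _ (Ideal.Quotient.mk I) hle)
      (Ideal.quotientMap_surjective Ideal.Quotient.mk_surjective)

theorem main (R A : Type u)
    [CommRing R] [IsRegularLocalRing R] [CommRing A] [Algebra R A] [LocCoh.IsGorensteinLocalRing A]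
    [IsLocalHom (algebraMap R A)] [Module.Flat R A] (I : Ideal A)
    (hI : ringKrullDim (A ⧸ I) = ringKrullDim A) [LocCoh.IsCohenMacaulayLocalRing (A ⧸ I)] :
    Module.Flat R (A ⧸ I) ∧ Module.Flat R (A ⧸ (Submodule.annihilator I)) :=
  ⟨flat_quot R A I hI, flat_quot_annihilator R A I hI⟩

end Groth.Agent.S16517

end Helpers

open CAlg

namespace Groth.Agent.S16517

/-- Let R be a regular local ring, A a Gorenstein local ring which is a flat R-algebra through a local
homomorphism, I ⊂ A an ideal of codimension zero (the Krull dimension of A/I equals that of A) with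
A/I Cohen–Macaulay, and J = (0 : I) the annihilator of I in A (the ideal of the residual subscheme).
Then A/I and A/J are flat over R. -/
theorem result (R A : Type u)
    [CommRing R] [IsRegularLocalRing R] [CommRing A] [Algebra R A] [LocCoh.IsGorensteinLocalRing A]
    [IsLocalHom (algebraMap R A)] [Module.Flat R A] (I : Ideal A)
    (hI : ringKrullDim (A ⧸ I) = ringKrullDim A) [LocCoh.IsCohenMacaulayLocalRing (A ⧸ I)] :
    Module.Flat R (A ⧸ I) ∧ Module.Flat R (A ⧸ (Submodule.annihilator I)) := by
  exact main R A I hI

end Groth.Agent.S16517
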