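import Groth.Statements.S16519
import Mathlib.Data.Fintype.Pi
import Mathlib.Order.Interval.Finset.Defs
import Mathlib.Data.Int.Interval
import Mathlib.Data.Fintype.BigOperators
import Mathlib.Tactic.Linarith
import Mathlib.Tactic.LinearCombination
import Mathlib.Tactic.IntervalCases
import Mathlib.Tactic.FinCases
-- import your own Groth.Agent.* helpers here

set_option autoImplicit false
open CubicSurf

namespace Groth.Agent.S16519

theorem bounds (a b0 b1 b2 b3 b4 b5 : ℤ) (h1 : 3 * a - (b0 + b1 + b2 + b3 + b4 + b5) = 3)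
    (h2 : a ^ 2 - (b0 ^ 2 + b1 ^ 2 + b2 ^ 2 + b3 ^ 2 + b4 ^ 2 + b5 ^ 2) = 1) :
    1 ≤ a ∧ a ≤ 5 ∧ 0 ≤ b0 ∧ b0 ≤ 2 := by
  have key : (2 * b0 - a) ^ 2 + (2 * b1 - a) ^ 2 + (2 * b2 - a) ^ 2 + (2 * b3 - a) ^ 2 +
      (2 * b4 - a) ^ 2 + (2 * b5 - a) ^ 2 = -2 * a ^ 2 + 12 * a - 4 := by
    linear_combination (4 * a) * h1 - 4 * h2
  have ha1 : 1 ≤ a := by
    nlinarith [sq_nonneg (2 * b0 - a), sq_nonneg (2 * b1 - a), sq_nonneg (2 * b2 - a),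
      sq_nonneg (2 * b3 - a), sq_nonneg (2 * b4 - a), sq_nonneg (2 * b5 - a)]
  have ha5 : a ≤ 5 := by
    nlinarith [sq_nonneg (2 * b0 - a), sq_nonneg (2 * b1 - a), sq_nonneg (2 * b2 - a),
      sq_nonneg (2 * b3 - a), sq_nonneg (2 * b4 - a), sq_nonneg (2 * b5 - a)]
  have q0 : b0 ^ 2 + b1 ^ 2 + b2 ^ 2 + b3 ^ 2 + b4 ^ 2 + b5 ^ 2 = a ^ 2 - 1 := by
    linear_combination (-1 : ℤ) * h2
  have q1 : (b0 - 1) ^ 2 + (b1 - 1) ^ 2 + (b2 - 1) ^ 2 + (b3 - 1) ^ 2 + (b4 - 1) ^ 2 +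
      (b5 - 1) ^ 2 = a ^ 2 - 6 * a + 11 := by
    linear_combination (2 : ℤ) * h1 - h2
  have q2 : (b0 - 2) ^ 2 + (b1 - 2) ^ 2 + (b2 - 2) ^ 2 + (b3 - 2) ^ 2 + (b4 - 2) ^ 2 +
      (b5 - 2) ^ 2 = a ^ 2 - 12 * a + 35 := by
    linear_combination (4 : ℤ) * h1 - h2
  refine ⟨ha1, ha5, ?_, ?_⟩
  · interval_cases a
    · nlinarith [sq_nonneg b0, sq_nonneg b1, sq_nonneg b2, sq_nonneg b3, sq_nonneg b4, sq_nonneg b5]
    · nlinarith [sq_nonneg (b0 - 1), sq_nonneg (b1 - 1), sq_nonneg (b2 - 1), sq_nonneg (b3 - 1),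
        sq_nonneg (b4 - 1), sq_nonneg (b5 - 1)]
    · nlinarith [sq_nonneg (b0 - 1), sq_nonneg (b1 - 1), sq_nonneg (b2 - 1), sq_nonneg (b3 - 1),
        sq_nonneg (b4 - 1), sq_nonneg (b5 - 1)]
    · nlinarith [sq_nonneg (b0 - 2), sq_nonneg (b1 - 2), sq_nonneg (b2 - 2), sq_nonneg (b3 - 2),
        sq_nonneg (b4 - 2), sq_nonneg (b5 - 2)]
    · nlinarith [sq_nonneg (b0 - 2), sq_nonneg (b1 - 2), sq_nonneg (b2 - 2), sq_nonneg (b3 - 2),
        sq_nonneg (b4 - 2), sq_nonneg (b5 - 2)]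
  · interval_cases a
    · nlinarith [sq_nonneg b0, sq_nonneg b1, sq_nonneg b2, sq_nonneg b3, sq_nonneg b4, sq_nonneg b5]
    · nlinarith [sq_nonneg b0, sq_nonneg b1, sq_nonneg b2, sq_nonneg b3, sq_nonneg b4, sq_nonneg b5]
    · nlinarith [sq_nonneg (b0 - 1), sq_nonneg (b1 - 1), sq_nonneg (b2 - 1), sq_nonneg (b3 - 1),
        sq_nonneg (b4 - 1), sq_nonneg (b5 - 1)]
    · nlinarith [sq_nonneg (b0 - 1), sq_nonneg (b1 - 1), sq_nonneg (b2 - 1), sq_nonneg (b3 - 1),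
        sq_nonneg (b4 - 1), sq_nonneg (b5 - 1)]
    · nlinarith [sq_nonneg (b0 - 2), sq_nonneg (b1 - 2), sq_nonneg (b2 - 2), sq_nonneg (b3 - 2),
        sq_nonneg (b4 - 2), sq_nonneg (b5 - 2)]

theorem bounds_all (a : ℤ) (b : Fin 6 → ℤ) (h1 : 3 * a - (Finset.univ.sum fun i => b i) = 3)
    (h2 : a ^ 2 - (Finset.univ.sum fun i => b i ^ 2) = 1) :
    1 ≤ a ∧ a ≤ 5 ∧ ∀ i, 0 ≤ b i ∧ b i ≤ 2 := by
  rw [Fin.sum_univ_six] at h1 h2
  have A0 := bounds a (b 0) (b 1) (b 2) (b 3) (b 4) (b 5) (by linarith) (by linarith)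
  have A1 := bounds a (b 1) (b 0) (b 2) (b 3) (b 4) (b 5) (by linarith) (by linarith)
  have A2 := bounds a (b 2) (b 1) (b 0) (b 3) (b 4) (b 5) (by linarith) (by linarith)
  have A3 := bounds a (b 3) (b 1) (b 2) (b 0) (b 4) (b 5) (by linarith) (by linarith)
  have A4 := bounds a (b 4) (b 1) (b 2) (b 3) (b 0) (b 5) (by linarith) (by linarith)
  have A5 := bounds a (b 5) (b 1) (b 2) (b 3) (b 4) (b 0) (by linarith) (by linarith)
  refine ⟨A0.1, A0.2.1, fun i => ?_⟩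
  fin_cases i
  · exact A0.2.2
  · exact A1.2.2
  · exact A2.2.2
  · exact A3.2.2
  · exact A4.2.2
  · exact A5.2.2

set_option maxRecDepth 1000000 in
theorem card_box : (Finset.filter (fun p : ℤ × (Fin 6 → ℤ) =>
      3 * p.1 - (Finset.univ.sum fun i => p.2 i) = 3 ∧
        p.1 ^ 2 - (Finset.univ.sum fun i => p.2 i ^ 2) = 1)
      (Finset.Icc (1 : ℤ) 5 ×ˢ Fintype.piFinset (fun _ : Fin 6 => Finset.Icc (0 : ℤ) 2))).card = 72 := by
  decide +kernel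

/-- On a smooth cubic surface there are exactly 72 divisor classes L with L² = 1 and L · K = −3. Stated
in the lattice ℤ^{1,6} with basis l, e_1, …, e_6 (l² = 1, e_i² = −1, K = −3l + Σ e_i): the integer
vectors (a, b) ∈ ℤ × ℤ^6, standing for a·l − Σ b_i e_i, with 3a − Σ b_i = 3 and a² − Σ b_i² = 1 form
a set of exactly 72 elements. -/
theorem result :
    {p : ℤ × (Fin 6 → ℤ) | 3 * p.1 - (Finset.univ.sum fun i => p.2 i) = 3 ∧
        p.1 ^ 2 - (Finset.univ.sum fun i => p.2 i ^ 2) = 1}.ncard = 72 := by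
  have hS : {p : ℤ × (Fin 6 → ℤ) | 3 * p.1 - (Finset.univ.sum fun i => p.2 i) = 3 ∧
        p.1 ^ 2 - (Finset.univ.sum fun i => p.2 i ^ 2) = 1} =
      ↑(Finset.filter (fun p : ℤ × (Fin 6 → ℤ) =>
      3 * p.1 - (Finset.univ.sum fun i => p.2 i) = 3 ∧
        p.1 ^ 2 - (Finset.univ.sum fun i => p.2 i ^ 2) = 1)
      (Finset.Icc (1 : ℤ) 5 ×ˢ Fintype.piFinset (fun _ : Fin 6 => Finset.Icc (0 : ℤ) 2))) := by
    ext p
    simp only [Set.mem_ofPred_eq, Finset.coe_filter, Finset.mem_product, Finset.mem_Icc,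
      Fintype.mem_piFinset]
    constructor
    · intro h
      obtain ⟨ha1, ha5, hb⟩ := bounds_all p.1 p.2 h.1 h.2
      exact ⟨⟨⟨ha1, ha5⟩, hb⟩, h⟩
    · intro h
      exact h.2
  rw [hS, Set.ncard_coe_finset]
  exact card_box

end Groth.Agent.S16519
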