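import Groth.Statements.S1652
import Groth.Agent.Lib.Helper35.IntegralSec

set_option autoImplicit false
universe u
open CategoryTheory CategoryTheory.Limits AlgebraicGeometry
open Variety

namespace Groth.Agent.S1652

/-- On a proper curve over a field, if L and M are invertible modules with L ⊗ M ≅ O_X and both L and M
have a nonzero global section, then L is isomorphic to the structure sheaf. -/
theorem result (k : Type u) [Field k] (X : Scheme.{u}) [X.Over (Spec (CommRingCat.of k))]
    [IsIntegral X] [IsProper (X ↘ (Spec (CommRingCat.of k)))] (hdim : topologicalKrullDim X = 1)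
    (L M : X.Modules) (hL : PicF.IsInvertible L) (hM : PicF.IsInvertible M) (hLM : ClSub.IsInverseOf L M)
    (s : Coh.structureModule X ⟶ L) (hs : s ≠ 0) (t : Coh.structureModule X ⟶ M) (ht : t ≠ 0) :
    Nonempty (L ≅ Coh.structureModule X) := by
  have hfield : IsField (Γ(X, ⊤) : Type u) :=
    isField_of_universallyClosed k (X ↘ (Spec (CommRingCat.of k)))
  obtain ⟨φ⟩ := hLM
  have h1 := Groth.Agent.Lib.Helper35.IntegralSec.secMul_ne_zero hL hM s t hs ht
  have hw : Groth.Agent.Lib.Lead.Inv.secMul s t ≫ φ.hom ≠ 0 := by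
    intro h0
    apply h1
    have := congrArg (fun ψ => ψ ≫ φ.inv) h0
    simpa using this
  have h2 := Groth.Agent.Lib.Helper35.IntegralSec.genLocus_eq_top_of_ne_zero hfield _ hw
  rw [Groth.Agent.Lib.Lead.Inv.genLocus_comp_iso,
    Groth.Agent.Lib.Lead.Inv.genLocus_secMul hL hM s t, inf_eq_top_iff] at h2
  exact Groth.Agent.Lib.Helper35.IntegralSec.nonempty_iso_of_genLocus_eq_top s h2.1

end Groth.Agent.S1652
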