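import Groth.Statements.S1653
import Groth.Agent.Lib.Helper73.DimFormula.GenericLocus

set_option autoImplicit false
universe u
open CategoryTheory CategoryTheory.Limits AlgebraicGeometry
open Variety

namespace Groth.Agent.S1653

/-- Let f : X → Y be a k-morphism of schemes locally of finite type over a field k, with X irreducible
of dimension a, and let the closure of the image of f have dimension b. Then the local fibre
dimension of f at every point of X is at least a - b, and the set of points where it equals a - b is
open and dense. -/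
theorem result (k : Type u) [Field k] (X Y : Scheme.{u}) [X.Over (Spec (CommRingCat.of k))] [Y.Over (Spec (CommRingCat.of k))]
    [LocallyOfFiniteType (X ↘ (Spec (CommRingCat.of k)))] [LocallyOfFiniteType (Y ↘ (Spec (CommRingCat.of k)))] [IrreducibleSpace X]
    (f : X ⟶ Y) (hf : f ≫ (Y ↘ (Spec (CommRingCat.of k))) = X ↘ (Spec (CommRingCat.of k))) (a b : ℕ) (ha : topologicalKrullDim X = a)
    (hb : topologicalKrullDim (closure (Set.range f.base)) = b) :
    (∀ x : X, ((a - b : ℕ) : WithBot ℕ∞) ≤ FlatMor.fibreDimAt f x) ∧
      IsOpen {x : X | FlatMor.fibreDimAt f x = (a - b : ℕ)} ∧ Dense {x : X | FlatMor.fibreDimAt f x = (a - b : ℕ)} := by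
  open Groth.Agent.Lib.Helper73 in
  have hflft : LocallyOfFiniteType f := by
    have : LocallyOfFiniteType (f ≫ (Y ↘ (Spec (CommRingCat.of k)))) := by rw [hf]; infer_instance
    exact locallyOfFiniteType_of_comp f (Y ↘ (Spec (CommRingCat.of k)))
  have ha' := topologicalKrullDim_eq_trdegNat_genericPoint (X ↘ (Spec (CommRingCat.of k)))
  rw [ha] at ha'
  have ha'' : a = trdegNat (X ↘ (Spec (CommRingCat.of k))) (genericPoint X) := by exact_mod_cast ha'
  have hcl : closure (Set.range f.base) = closure {f (genericPoint X)} := by
    apply subset_antisymm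
    · apply closure_minimal _ isClosed_closure
      rintro _ ⟨x, rfl⟩
      exact specializes_iff_mem_closure.mp ((genericPoint_specializes x).map f.continuous)
    · exact closure_mono (Set.singleton_subset_iff.mpr ⟨_, rfl⟩)
  have hb' := (isDimFun_trdegNat (Y ↘ (Spec (CommRingCat.of k)))).topologicalKrullDim_closure_singleton
    (f (genericPoint X))
  rw [← hcl, hb] at hb'
  have hb'' : b = trdegNat (Y ↘ (Spec (CommRingCat.of k))) (f (genericPoint X)) := by
    exact_mod_cast hb'
  have hadd := trdegNat_eq_add (X ↘ (Spec (CommRingCat.of k))) (Y ↘ (Spec (CommRingCat.of k))) f hf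
    (genericPoint X)
  have hab : a - b = resTrdegNat f (genericPoint X) := by omega
  rw [hab]
  exact ⟨resTrdegNat_genericPoint_le_fibreDimAt f, isOpen_dense_fibreDimAt_eq_generic f⟩

end Groth.Agent.S1653
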