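import Groth.Statements.S1654
import Mathlib
import Groth.Agent.Lib.Helper51.FinFibre

set_option autoImplicit false
universe u
open CategoryTheory CategoryTheory.Limits AlgebraicGeometry
open Variety

namespace Groth.Agent.S1654

/-- Let X be a k-scheme locally of finite type, having only finitely many irreducible components. There
is then a finite separable extension k' of k such that every irreducible component of X_{k'}, with
its reduced induced structure, is geometrically irreducible over k'. -/
theorem result (k : Type u) [Field k] (X : Scheme.{u}) [X.Over (Spec (CommRingCat.of k))] [LocallyOfFiniteType (X ↘ (Spec (CommRingCat.of k)))]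
    (hirr : (irreducibleComponents (X : Type u)).Finite) :
    ∃ (k' : Type u) (_ : Field k') (_ : Algebra k k'), FiniteDimensional k k' ∧ Algebra.IsSeparable k k' ∧
      ∀ (T : Set (Curv2.bc k X k')) (hT : T ∈ irreducibleComponents (Curv2.bc k X k' : Type u)),
        GeometricallyIrreducible
          ((Scheme.IdealSheafData.vanishingIdeal ⟨T, isClosed_of_mem_irreducibleComponents T hT⟩).subschemeι ≫
            Curv2.bcSnd k X k') := by
  classical
  haveI : Finite ↥(irreducibleComponents ↥X) := hirr.to_subtype
  -- residue maps at the generic points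
  have hφ : ∀ c : ↥(irreducibleComponents ↥X),
      Spec.map (CommRingCat.ofHom ((X.residue c.2.1.genericPoint).hom.comp
        ((X.presheaf.germ ⊤ c.2.1.genericPoint trivial).hom.comp
          (Coh.toGlobal (X ↘ Spec (CommRingCat.of k)))))) =
        X.fromSpecResidueField c.2.1.genericPoint ≫ (X ↘ Spec (CommRingCat.of k)) :=
    fun c => Groth.Agent.Lib.Helper51.specMap_resMapOf _ _
  have hfin : ∀ c : ↥(irreducibleComponents ↥X),
      letI := ((X.residue c.2.1.genericPoint).hom.comp
        ((X.presheaf.germ ⊤ c.2.1.genericPoint trivial).hom.comp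
          (Coh.toGlobal (X ↘ Spec (CommRingCat.of k))))).toAlgebra
      FiniteDimensional k (separableClosure k (X.residueField c.2.1.genericPoint)) := by
    intro c
    letI := ((X.residue c.2.1.genericPoint).hom.comp
      ((X.presheaf.germ ⊤ c.2.1.genericPoint trivial).hom.comp
        (Coh.toGlobal (X ↘ Spec (CommRingCat.of k))))).toAlgebra
    exact Groth.Agent.Lib.Helper51.finiteDimensional_separableClosure_residueField
      (X ↘ Spec (CommRingCat.of k)) _ (hφ c)
  obtain ⟨L, hLfin, hLsplit⟩ :=
    Groth.Agent.Lib.Helper51.exists_intermediateField_splitsSepClosure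
      (fun c : ↥(irreducibleComponents ↥X) => X.residueField c.2.1.genericPoint)
      (fun c => (X.residue c.2.1.genericPoint).hom.comp
        ((X.presheaf.germ ⊤ c.2.1.genericPoint trivial).hom.comp
          (Coh.toGlobal (X ↘ Spec (CommRingCat.of k))))) hfin
  refine ⟨L, inferInstance, inferInstance, hLfin, inferInstance, ?_⟩
  intro T hT
  refine Groth.Agent.Lib.Helper51.geometricallyIrreducible_comp_of_isIrreducible_preimage _ _
    (fun K _ _ => ?_)
  rw [Scheme.IdealSheafData.range_subschemeι, Scheme.IdealSheafData.coe_support_vanishingIdeal]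
  refine Groth.Agent.Lib.Helper51.isIrreducible_preimage_irreducibleComponent_of_splits
    (X ↘ Spec (CommRingCat.of k)) L ?_ K T hT
  intro c
  refine ⟨c.2.1.genericPoint, ?_, _, hφ c, hLsplit c⟩
  have h1 := c.2.1.isGenericPoint_genericPoint_closure
  rwa [(isClosed_of_mem_irreducibleComponents c.1 c.2).closure_eq] at h1

end Groth.Agent.S1654
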