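import Groth.Statements.S16541
import Groth.Agent.Lib.Helper40.Amitsur
import Mathlib.RingTheory.Flat.Basic
import Mathlib.RingTheory.WittVector.Basic

set_option autoImplicit false
universe u v
open CAlg

namespace Groth.Agent.S16541

open TensorProduct Dieu

section General

variable {A : Type*} {B : Type*} {C : Type*} [CommRing A] [CommRing B] [CommRing C]
  (g : A →+* B) (h₁ h₂ : B →+* C) (e : h₁.comp g = h₂.comp g)
  (M : Type*) [AddCommGroup M] [Module A M]

def phi : A →ₗ[A] Res g where
  toFun a := Res.mk g (g a)
  map_add' a b := by apply Res.ext; simp [Res.val_mk]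
  map_smul' a b := by apply Res.ext; simp [Res.val_mk]

include e in
lemma delta_smul (a : A) (b : B) :
    h₁ (g a * b) - h₂ (g a * b) = (h₂.comp g) a * (h₁ b - h₂ b) := by
  have := congrArg (fun f => f a) e
  simp only [RingHom.comp_apply] at this
  rw [map_mul, map_mul, this, RingHom.comp_apply]; ring

def delta : Res g →ₗ[A] Res (h₂.comp g) where
  toFun b := Res.mk (h₂.comp g) (h₁ b.val - h₂ b.val)
  map_add' a b := by apply Res.ext; simp [Res.val_mk]; ring
  map_smul' a b := by
    apply Res.ext
    simp only [Res.val_smul, Res.val_mk, RingHom.id_apply]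
    exact delta_smul g h₁ h₂ e a b.val

lemma iota_eq (x : M) : BC.ι g M x = (phi g).rTensor M ((TensorProduct.lid A M).symm x) := by
  rw [TensorProduct.lid_symm_apply, LinearMap.rTensor_tmul]
  change BC.tmul g 1 x = Res.mk g (g 1) ⊗ₜ[A] x
  rw [map_one]; rfl

lemma iota_injective [Module.Flat A M] (hg : Function.Injective g) :
    Function.Injective (BC.ι g M) := by
  have h1 : Function.Injective ((phi g).rTensor M) :=
    Module.Flat.rTensor_preserves_injective_linearMap (phi g) (fun a b hab => hg hab)
  intro x y hxy
  rw [iota_eq, iota_eq] at hxy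
  exact (TensorProduct.lid A M).symm.injective (h1 hxy)

def D2 : BC g M →+ BC (h₂.comp g) M := ((delta g h₁ h₂ e).rTensor M).toAddMonoidHom

lemma D2_tmul (b : B) (x : M) :
    D2 g h₁ h₂ e M (BC.tmul g b x) = BC.tmul (h₂.comp g) (h₁ b) x - BC.tmul (h₂.comp g) (h₂ b) x := by
  change (delta g h₁ h₂ e).rTensor M (Res.mk g b ⊗ₜ[A] x) =
    Res.mk (h₂.comp g) (h₁ b) ⊗ₜ[A] x - Res.mk (h₂.comp g) (h₂ b) ⊗ₜ[A] x
  rw [LinearMap.rTensor_tmul, ← TensorProduct.sub_tmul]; rfl

lemma D2_eq (z : BC g M) :
    D2 g h₁ h₂ e M z = BC.castHom e (BC.push g h₁ z) - BC.push g h₂ z := by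
  induction z using BC.induction_on g with
  | zero => simp
  | tmul b x =>
    rw [BC.push_tmul, BC.push_tmul, BC.castHom_tmul, D2_tmul]
  | add z₁ z₂ h₁' h₂' =>
    rw [map_add, map_add, map_add, map_add, h₁', h₂']; abel

lemma exact_phi_delta (hex : ∀ b : B, h₁ b = h₂ b → ∃ a, g a = b) :
    Function.Exact (phi g) (delta g h₁ h₂ e) := by
  intro b
  constructor
  · intro hb
    have hb' : h₁ b.val - h₂ b.val = 0 := congrArg Res.val hb
    obtain ⟨a, ha⟩ := hex b.val (sub_eq_zero.mp hb')
    exact ⟨a, Res.ext g ha⟩
  · rintro ⟨a, rfl⟩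
    apply Res.ext
    change h₁ (g a) - h₂ (g a) = 0
    have := congrArg (fun f => f a) e
    simp only [RingHom.comp_apply] at this
    rw [this, sub_self]

lemma eq_iff_mem_range [Module.Flat A M] (hex : ∀ b : B, h₁ b = h₂ b → ∃ a, g a = b)
    (z : BC g M) :
    BC.castHom e (BC.push g h₁ z) = BC.push g h₂ z ↔ z ∈ Set.range (BC.ι g M) := by
  have hexact := Module.Flat.rTensor_exact M (exact_phi_delta g h₁ h₂ e hex)
  have hz : D2 g h₁ h₂ e M z = 0 ↔ z ∈ Set.range ((phi g).rTensor M) := hexact z
  rw [← sub_eq_zero, ← D2_eq, hz]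
  constructor
  · rintro ⟨y, hy⟩
    refine ⟨TensorProduct.lid A M y, ?_⟩
    rw [iota_eq, LinearEquiv.symm_apply_apply]; exact hy
  · rintro ⟨x, hx⟩
    refine ⟨(TensorProduct.lid A M).symm x, ?_⟩
    rw [← iota_eq]; exact hx

end General

/-- Let p be a prime, S → R a faithfully flat homomorphism of commutative rings and M a flat
W(S)-module; write ι₁, ι₂ : R → R ⊗_S R for the two coprojections, M_R = W(R) ⊗_{W(S)} M and M_{R ⊗
R} = W(R ⊗_S R) ⊗_{W(S)} M for the scalar extensions along W(S) → W(R) and W(S) → W(R ⊗_S R). Then 0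
→ M → M_R ⇉ M_{R ⊗ R} is exact: the map x ↦ 1 ⊗ x from M to M_R is injective, and an element of M_R
has the same image under the two maps w ⊗ x ↦ W(ι₁)(w) ⊗ x and w ⊗ x ↦ W(ι₂)(w) ⊗ x exactly when it
is of the form 1 ⊗ x. The hypothesis e records that the two composite ring maps W(S) → W(R) → W(R
⊗_S R) agree (both coprojections are S-algebra maps); it serves to identify the two targets. -/
theorem result (p : ℕ) [Fact p.Prime]
    (S R : Type u) [CommRing S] [CommRing R] [Algebra S R] [Module.FaithfullyFlat S R]
    (M : Type v) [AddCommGroup M] [Module (WittVector p S) M] [Module.Flat (WittVector p S) M]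
    (e : (WittVector.map (Algebra.TensorProduct.includeLeftRingHom : R →+* TensorProduct S R R) : WittVector p R →+* WittVector p (TensorProduct S R R)).comp (WittVector.map (algebraMap S R) : WittVector p S →+* WittVector p R) = (WittVector.map ((Algebra.TensorProduct.includeRight : R →ₐ[S] TensorProduct S R R) : R →+* TensorProduct S R R) : WittVector p R →+* WittVector p (TensorProduct S R R)).comp (WittVector.map (algebraMap S R) : WittVector p S →+* WittVector p R)) :
    Function.Injective (Dieu.BC.ι (WittVector.map (algebraMap S R) : WittVector p S →+* WittVector p R) M) ∧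
      ∀ z : Dieu.BC (WittVector.map (algebraMap S R) : WittVector p S →+* WittVector p R) M,
        (Dieu.BC.castHom e (Dieu.BC.push (WittVector.map (algebraMap S R) : WittVector p S →+* WittVector p R) (WittVector.map (Algebra.TensorProduct.includeLeftRingHom : R →+* TensorProduct S R R) : WittVector p R →+* WittVector p (TensorProduct S R R)) z) = Dieu.BC.push (WittVector.map (algebraMap S R) : WittVector p S →+* WittVector p R) (WittVector.map ((Algebra.TensorProduct.includeRight : R →ₐ[S] TensorProduct S R R) : R →+* TensorProduct S R R) : WittVector p R →+* WittVector p (TensorProduct S R R)) z ↔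
          z ∈ Set.range (Dieu.BC.ι (WittVector.map (algebraMap S R) : WittVector p S →+* WittVector p R) M)) := by
  have hinj : Function.Injective (algebraMap S R) := FaithfulSMul.algebraMap_injective S R
  have hg : Function.Injective (WittVector.map (algebraMap S R) : WittVector p S →+* WittVector p R) :=
    WittVector.map_injective _ hinj
  have hex : ∀ b : WittVector p R,
      (WittVector.map (Algebra.TensorProduct.includeLeftRingHom : R →+* TensorProduct S R R)) b =
        (WittVector.map ((Algebra.TensorProduct.includeRight : R →ₐ[S] TensorProduct S R R) :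
          R →+* TensorProduct S R R)) b →
      ∃ a : WittVector p S, (WittVector.map (algebraMap S R)) a = b := by
    intro b hb
    have hc : ∀ n : ℕ, ∃ s : S, algebraMap S R s = b.coeff n := by
      intro n
      apply Groth.Agent.Lib.Helper40.Amitsur.exists_algebraMap_eq_of_tmul_eq
      have := congrArg (fun w => w.coeff n) hb
      simpa [WittVector.map_coeff] using this
    choose c hc' using hc
    refine ⟨WittVector.mk p c, ?_⟩
    ext n
    rw [WittVector.map_coeff, WittVector.coeff_mk, hc']
  exact ⟨iota_injective _ M hg, fun z => eq_iff_mem_range _ _ _ e M hex z⟩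

end Groth.Agent.S16541
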