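import Groth.Statements.S16542
import Mathlib

set_option autoImplicit false
universe u v
open Disp

namespace Groth.Agent.S16542

open TensorProduct

lemma key_inj {W S R : Type*} [CommRing W] [CommRing S] [CommRing R] [Algebra S R]
    [Module.FaithfullyFlat S R] (w₀ : W →+* S) (g : W →+* R)
    (hg : ∀ a, g a = algebraMap S R (w₀ a))
    {N : Type*} [AddCommGroup N] [Module W N] [Module S N]
    (hsmul : ∀ (a : W) (n : N), (w₀ a) • n = a • n) (n : N)
    (h : Dieu.BC.tmul g 1 n = 0) : n = 0 := by
  let f₀ : Dieu.Res g →+ (N →+ R ⊗[S] N) :=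
    { toFun := fun r => ((TensorProduct.mk S R N) (Dieu.Res.val r)).toAddMonoidHom
      map_zero' := by
        ext n
        simp
      map_add' := by
        intro r r'
        ext n
        simp [TensorProduct.add_tmul] }
  let Θ : Dieu.BC g N →+ R ⊗[S] N := TensorProduct.liftAddHom f₀ (by
    intro a r n
    change (Dieu.Res.val (a • r)) ⊗ₜ[S] n = (Dieu.Res.val r) ⊗ₜ[S] (a • n)
    rw [Dieu.Res.val_smul, hg, ← Algebra.smul_def, TensorProduct.smul_tmul, hsmul])
  have hΘ : Θ (Dieu.BC.tmul g 1 n) = (1 : R) ⊗ₜ[S] n := rfl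
  rw [h, map_zero] at hΘ
  exact Module.FaithfullyFlat.tensorProduct_mk_injective (A := S) (B := R) N
    (by rw [map_zero]; exact hΘ.symm)

/-- Let p be a prime, S → R a faithfully flat homomorphism of commutative rings with p nilpotent in S,
(P, Q, F, V⁻¹) a display over S, and (P_R, Q_R, F_R, V_R⁻¹) a 3n-display structure on P_R = W(R)
⊗_{W(S)} P which is its base change along S → R (Q_R the kernel of P_R → R ⊗_S (P/Q), F_R(w ⊗ x) =
σ(w) ⊗ F x, V_R⁻¹(w ⊗ y) = σ(w) ⊗ V⁻¹ y for y ∈ Q, V_R⁻¹(V(w) ⊗ x) = w ⊗ F x). Then for x ∈ P one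
has x ∈ Q if and only if 1 ⊗ x ∈ Q_R: together with the exactness of 0 → P → P_R ⇉ P_{R ⊗ R} this is
the exactness of 0 → Q → Q_R ⇉ Q_{R ⊗ R} at Q. -/
theorem result (p : ℕ) [Fact p.Prime]
    (S R : Type u) [CommRing S] [CommRing R] [Algebra S R] [Module.FaithfullyFlat S R] (hp : IsNilpotent (p : S))
    (P : Type v) [AddCommGroup P] [Module (WittVector p S) P] (D : W4c1extbt610.Display3n p S P)
    (hD : Dieu.IsDisplay D)
    (DR : W4c1extbt610.Display3n p R (Dieu.BC (WittVector.map (algebraMap S R) : WittVector p S →+* WittVector p R) P))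
    (hDR : Dieu.IsDispBaseChange (algebraMap S R) D DR) (x : P) :
    x ∈ D.Q ↔ Dieu.BC.ι (WittVector.map (algebraMap S R) : WittVector p S →+* WittVector p R) P x ∈ DR.Q := by
  classical
  have hsurj : Function.Surjective (WittVector.constantCoeff : WittVector p S →+* S) := by
    intro s
    exact ⟨WittVector.teichmuller p s, WittVector.teichmuller_coeff_zero p s⟩
  have htors : Module.IsTorsionBySet (WittVector p S) (P ⧸ D.Q)
      (RingHom.ker (WittVector.constantCoeff : WittVector p S →+* S) : Set (WittVector p S)) := by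
    intro n a
    obtain ⟨x, rfl⟩ := Submodule.Quotient.mk_surjective _ n
    rw [← Submodule.Quotient.mk_smul, Submodule.Quotient.mk_eq_zero]
    have ha : (a : WittVector p S).coeff 0 = 0 := a.2
    have hav : (a : WittVector p S) = WittVector.verschiebung ((a : WittVector p S).shift 1) := by
      have := WittVector.eq_iterate_verschiebung (x := (a : WittVector p S)) (n := 1)
        (by intro i hi; interval_cases i; exact ha)
      simpa using this
    apply D.IV_smul_le
    rw [hav]
    exact Submodule.smul_mem_smul (W4c1extbt610.verschiebung_mem_IV p S _) Submodule.mem_top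
  letI mq : Module (WittVector p S ⧸ RingHom.ker (WittVector.constantCoeff : WittVector p S →+* S))
      (P ⧸ D.Q) := htors.module
  letI mS : Module S (P ⧸ D.Q) :=
    Module.compHom (P ⧸ D.Q)
      (RingHom.quotientKerEquivOfSurjective hsurj).symm.toRingHom
  have hsmul : ∀ (a : WittVector p S) (n : P ⧸ D.Q),
      (WittVector.constantCoeff a : S) • n = a • n := by
    intro a n
    change ((RingHom.quotientKerEquivOfSurjective hsurj).symm (WittVector.constantCoeff a)) • n = _
    rw [RingHom.quotientKerEquivOfSurjective_symm_apply]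
    rfl
  rw [hDR.Q_eq, LinearMap.mem_ker, Dieu.BC.ι_apply, Dieu.bcQuotMap_tmul, map_one]
  constructor
  · intro hx
    rw [Submodule.mkQ_apply, (Submodule.Quotient.mk_eq_zero _).2 hx]
    exact Dieu.BC.tmul_zero _ _
  · intro h
    have := key_inj (WittVector.constantCoeff : WittVector p S →+* S) _
      (fun a => by
        change (WittVector.map (algebraMap S R) a).coeff 0 = _
        rw [WittVector.map_coeff]
        rfl) hsmul _ h
    exact (Submodule.Quotient.mk_eq_zero _).1 this

end Groth.Agent.S16542
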