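import Groth.Statements.S16548
import Groth.Agent.Lib.Helper70.CurvePtAlg
import Groth.Agent.Lib.Helper70.CurvePtSch
import Groth.Agent.Lib.Helper70.CurvePtDim

set_option autoImplicit false
universe u
open CategoryTheory CategoryTheory.Limits AlgebraicGeometry
attribute [local instance] Curv2.resAlgebra
open Curves

namespace Groth.Agent.S16548

/-- Let k be a field, X and Y smooth over k of relative dimension one (not necessarily proper), f : X ->
Y a finite k-morphism and x a closed point of X, with y = f(x). Suppose f is tamely ramified at x: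
m_y O_{X,x} = m_x^e for an integer e ≥ 2 prime to the characteristic of k, and κ(x) is separable
over κ(y). Then κ(x) is separable over k. (Consequently the field generated over k by the residue
fields of all such points is Galois over k.) -/
theorem result (k : Type u) [Field k]
    (X Y : Scheme.{u}) [X.Over (Spec (CommRingCat.of k))] [Y.Over (Spec (CommRingCat.of k))]
    [SmoothOfRelativeDimension 1 (X ↘ Spec (CommRingCat.of k))]
    [SmoothOfRelativeDimension 1 (Y ↘ Spec (CommRingCat.of k))]
    (f : X ⟶ Y) [IsFinite f] (hf : f ≫ (Y ↘ Spec (CommRingCat.of k)) = X ↘ Spec (CommRingCat.of k))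
    (x : X) (hx : IsClosed ({x} : Set X)) (e : ℕ)
    (he : (IsLocalRing.maximalIdeal (Y.presheaf.stalk (f.base x))).map (f.stalkMap x).hom =
      IsLocalRing.maximalIdeal (X.presheaf.stalk x) ^ e)
    (h2 : 2 ≤ e) (hp : ¬ ringChar k ∣ e)
    (hsep : @Algebra.IsSeparable (Y.residueField (f.base x)) (X.residueField x) _ _
      (f.residueFieldMap x).hom.toAlgebra) :
    Algebra.IsSeparable k (X.residueField x) := by
  classical
  letI algB : Algebra k (X.presheaf.stalk x) := Curv2.stalkAlgebra k X x
  letI algA : Algebra k (Y.presheaf.stalk (f.base x)) := Curv2.stalkAlgebra k Y (f.base x)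
  letI algAB : Algebra (Y.presheaf.stalk (f.base x)) (X.presheaf.stalk x) :=
    (f.stalkMap x).hom.toAlgebra
  haveI : IsLocalHom (algebraMap (Y.presheaf.stalk (f.base x)) (X.presheaf.stalk x)) :=
    inferInstanceAs (IsLocalHom (f.stalkMap x).hom)
  haveI : IsScalarTower k (Y.presheaf.stalk (f.base x)) (X.presheaf.stalk x) := by
    refine IsScalarTower.of_algebraMap_eq fun r => ?_
    have h1 := Scheme.Hom.germ_stalkMap_apply f ⊤ x trivial
      ((Y ↘ Spec (CommRingCat.of k)).appTop.hom ((Scheme.ΓSpecIso (CommRingCat.of k)).inv.hom r))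
    have h2 : ∀ z, f.appTop.hom ((Y ↘ Spec (CommRingCat.of k)).appTop.hom z) =
        (X ↘ Spec (CommRingCat.of k)).appTop.hom z := by
      intro z
      rw [← hf, Scheme.Hom.comp_appTop]
      rfl
    refine Eq.trans ?_ h1.symm
    exact congrArg (X.presheaf.germ ⊤ x trivial).hom (h2 _).symm
  have hU : SmoothOfRelativeDimension 1
      ((⊤ : X.Opens).ι ≫ (X ↘ Spec (CommRingCat.of k))) :=
    smoothOfRelativeDimension_comp (n := 0) (m := 1) (f := (⊤ : X.Opens).ι)
      (X ↘ Spec (CommRingCat.of k))
  obtain ⟨D, _, _, _, _, _, q, _, hloc, hmax⟩ :=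
    Groth.Agent.Lib.Helper70.CurvePtSch.exists_chart k X x ⊤ trivial hU
  haveI := hloc
  haveI := hmax hx
  obtain ⟨eΩ⟩ := Groth.Agent.Lib.Helper70.CurvePtAlg.nonempty_linearEquiv_kaehler
    (k := k) (D := D) (B := X.presheaf.stalk x) q
  haveI : Algebra.IsStandardSmooth k D :=
    Algebra.IsStandardSmoothOfRelativeDimension.isStandardSmooth 1
  haveI : Algebra.FiniteType k D := inferInstance
  haveI : Algebra.EssFiniteType k (X.presheaf.stalk x) :=
    Groth.Agent.Lib.Helper70.CurvePtAlg.essFiniteType_of_chart (k := k) (D := D) q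
  have hnf := Groth.Agent.Lib.Helper70.CurvePtDim.maximalIdeal_ne_bot
    (k := k) (D := D) (B := X.presheaf.stalk x) q
  have halgRes : (IsLocalRing.ResidueField.instAlgebra :
      Algebra (IsLocalRing.ResidueField (Y.presheaf.stalk (f.base x)))
        (IsLocalRing.ResidueField (X.presheaf.stalk x))) =
      (f.residueFieldMap x).hom.toAlgebra := by
    apply Algebra.algebra_ext
    intro r
    rfl
  haveI : Algebra.IsSeparable (IsLocalRing.ResidueField (Y.presheaf.stalk (f.base x)))
      (IsLocalRing.ResidueField (X.presheaf.stalk x)) := by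
    rw [halgRes]
    exact hsep
  have hmain := Groth.Agent.Lib.Helper70.CurvePtAlg.isSeparable_of_ramified
    (k := k) (A := Y.presheaf.stalk (f.base x)) (B := X.presheaf.stalk x) eΩ hnf e h2 he
  have halg : (IsLocalRing.ResidueField.algebra (X.presheaf.stalk x) :
      Algebra k (IsLocalRing.ResidueField (X.presheaf.stalk x))) = Curv2.resAlgebra k X x := by
    apply Algebra.algebra_ext
    intro r
    rfl
  rw [halg] at hmain
  exact hmain

end Groth.Agent.S16548
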