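import Groth.Statements.S1655
import Groth.Agent.Lib.Helper41.BirNormal

set_option autoImplicit false
universe u
open CategoryTheory CategoryTheory.Limits AlgebraicGeometry
open Variety

namespace Groth.Agent.S1655

/-- Let X be a Noetherian integral scheme, Y an integral scheme, and f : Y → X a proper morphism that
restricts to an isomorphism over some nonempty open subscheme of X. If x is a point of X whose local
ring is integrally closed and f is quasi-finite at some point lying over x, then f restricts to an
isomorphism over an open neighbourhood of x. -/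
theorem result {X Y : Scheme.{u}} [IsNoetherian X] [IsIntegral X] [IsIntegral Y]
    (f : Y ⟶ X) [IsProper f] (W : X.Opens) (hW : (W : Set X).Nonempty) (hfW : IsIso (f ∣_ W))
    (x : X) (hx : IsIntegrallyClosed (X.presheaf.stalk x)) (y : Y) (hy : f.base y = x) (hq : f.QuasiFiniteAt y) :
    ∃ V : X.Opens, x ∈ V ∧ IsIso (f ∣_ V) := by
  subst hy
  obtain ⟨w, hw⟩ := hW
  haveI : Nonempty (f ⁻¹ᵁ W) := by
    have : Function.Surjective (f ∣_ W) :=
      (ConcreteCategory.bijective_of_isIso (f ∣_ W).base).2
    obtain ⟨z, -⟩ := this ⟨w, hw⟩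
    exact ⟨z⟩
  have hη : genericPoint Y ∈ f ⁻¹ᵁ W := Groth.Agent.Lib.Helper41.genericPoint_mem_of_nonempty _
  have hbir : IsIso (f.stalkMap (genericPoint Y)) := by
    have h1 : IsIso ((f ∣_ W).stalkMap ⟨genericPoint Y, hη⟩) := inferInstance
    have h2 := (MorphismProperty.isomorphisms CommRingCat.{u}).arrow_mk_iso_iff
      (morphismRestrictStalkMap f W ⟨genericPoint Y, hη⟩)
    exact h2.mp h1
  exact Groth.Agent.Lib.Helper41.exists_isIso_morphismRestrict_of_quasiFiniteAt f hbir y hx hq

end Groth.Agent.S1655
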