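import Groth.Statements.S16551
import Groth.Agent.Lib.Helper70.FinGoingDown2

set_option linter.style.haveILetI false

set_option autoImplicit false
universe u
open CategoryTheory CategoryTheory.Limits AlgebraicGeometry
open Models

namespace Groth.Agent.S16551

/-- Let R be a discrete valuation ring, W and Z integral normal schemes which are flat, of finite type
and of dimension 2 over Spec R, and ψ : W -> Z a finite surjective R-morphism. Let z be a closed
point of Z lying in the special fibre, w a point of W with ψ(w) = z, and Δ an irreducible component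
of the special fibre of Z with z ∈ Δ. Then some irreducible component Γ of the special fibre of W
contains w and satisfies ψ(Γ) = Δ. (The published statement asks W and Z only to be normal; they are
taken integral as well here.) -/
theorem result
    (R : Type u) [CommRing R] [IsDomain R] [IsDiscreteValuationRing R]
    (W Z : Over (Spec (CommRingCat.of R))) [IsIntegral W.left] [IsIntegral Z.left]
    (hWn : Pi1.IsNormalScheme W.left) (hZn : Pi1.IsNormalScheme Z.left)
    [Flat W.hom] [LocallyOfFiniteType W.hom] [QuasiCompact W.hom]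
    [Flat Z.hom] [LocallyOfFiniteType Z.hom] [QuasiCompact Z.hom]
    (hdW : topologicalKrullDim W.left = 2) (hdZ : topologicalKrullDim Z.left = 2)
    (ψ : W ⟶ Z) [IsFinite ψ.left] [Surjective ψ.left]
    (z : Z.left) (hzc : IsClosed ({z} : Set Z.left)) (hz : z ∈ Models.specialFibreSet R Z)
    (w : W.left) (hw : ψ.left.base w = z)
    (Δ : Set Z.left) (hΔ : Δ ∈ Models.fibreComponents R Z) (hzΔ : z ∈ Δ) :
    ∃ Γ ∈ Models.fibreComponents R W, w ∈ Γ ∧ ψ.left.base '' Γ = Δ := by
  haveI : IsLocallyNoetherian W.left := LocallyOfFiniteType.isLocallyNoetherian W.hom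
  haveI : CompactSpace W.left := QuasiCompact.compactSpace_of_compactSpace W.hom
  haveI : IsNoetherian W.left := { }
  subst hw
  have hgd := Groth.Agent.Lib.Helper70.FinGoingDown.exists_generization_of_finite ψ.left
    (fun y => (hZn y).2) w
  have hpre : Models.specialFibreSet R W = ψ.left.base ⁻¹' Models.specialFibreSet R Z := by
    ext y
    simp only [Models.specialFibreSet, Set.mem_preimage, Set.mem_singleton_iff]
    rw [← Over.w ψ]
    rfl
  obtain ⟨Γ, ⟨hΓ, hwΓ⟩, hcl⟩ := Groth.Agent.Lib.Helper70.FinGoingDown.exists_comp_over ψ.left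
    (Models.specialFibreSet R Z) (Models.isClosed_specialFibreSet R Z) w hgd Δ hΔ hzΔ
  rw [← hpre] at hΓ
  refine ⟨Γ, hΓ, hwΓ, ?_⟩
  have hΓc : IsClosed Γ := Groth.Agent.Lib.Helper70.FinGoingDown.isClosed_of_mem_comps
    (Models.isClosed_specialFibreSet R W) hΓ
  have hcl2 : IsClosed (ψ.left.base '' Γ) := ψ.left.isClosedMap _ hΓc
  rw [hcl2.closure_eq] at hcl
  exact hcl

end Groth.Agent.S16551
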