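import Groth.Statements.S16574
import Groth.Agent.Lib.Helper41.FiniteExtend2

set_option autoImplicit false
universe u
open CategoryTheory AlgebraicGeometry
open AffSch

namespace Groth.Agent.S16574

/-- Let A be a commutative ring, U a quasi-compact open subscheme of Spec A and U' → U a finite
morphism. Then there exist a finite A-algebra B and a morphism U' → Spec B such that the square
formed by U' → U, U' → Spec B, Spec B → Spec A and the inclusion of U is cartesian; in particular U'
→ Spec B is the open immersion of the preimage of U. (If U contains the complement of the closed set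
of an ideal I then this preimage contains the complement of the closed set of IB; that clause is
automatic and omitted.) -/
theorem result
    (A : Type u) [CommRing A] (U : (Spec (CommRingCat.of A)).Opens) (hU : IsCompact (U : Set (Spec (CommRingCat.of A))))
    (U' : Scheme.{u}) (g : U' ⟶ (U : Scheme.{u})) [IsFinite g] :
    ∃ (B : Type u) (_ : CommRing B) (_ : Algebra A B) (i : U' ⟶ Spec (CommRingCat.of B)),
      Module.Finite A B ∧ IsPullback i g (Spec.map (CommRingCat.ofHom (algebraMap A B))) U.ι := by
  obtain ⟨V', π, i, hπ, hpb⟩ :=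
    Groth.Agent.Lib.Helper41.FiniteExtend.exists_finite_extension' U hU g
  haveI := hπ
  haveI : IsAffine V' := isAffine_of_isAffineHom π
  let R : CommRingCat.{u} := CommRingCat.of A
  let φ : R ⟶ Γ(V', ⊤) := (Scheme.ΓSpecIso R).inv ≫ π.appTop
  letI algAB : Algebra A Γ(V', ⊤) := φ.hom.toAlgebra
  have hπ' : V'.isoSpec.hom ≫ Spec.map φ = π := by
    change V'.isoSpec.hom ≫ Spec.map ((Scheme.ΓSpecIso R).inv ≫ π.appTop) = π
    rw [Spec.map_comp, ← Category.assoc, Scheme.isoSpec_hom_naturality, Category.assoc,
      Scheme.isoSpec_Spec_hom, ← Spec.map_comp, Iso.inv_hom_id, Spec.map_id, Category.comp_id]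
  refine ⟨Γ(V', ⊤), inferInstance, algAB, i ≫ V'.isoSpec.hom, ?_, ?_⟩
  · have h1 : π.appTop.hom.Finite := π.finite_appTop
    have h2 : φ.hom.Finite := by
      change (π.appTop.hom.comp (Scheme.ΓSpecIso R).inv.hom).Finite
      exact h1.comp (RingHom.Finite.of_surjective _
        (ConcreteCategory.bijective_of_isIso (Scheme.ΓSpecIso R).inv).surjective)
    exact RingHom.finite_algebraMap.1 h2
  · have h3 : Spec.map (CommRingCat.ofHom (algebraMap A Γ(V', ⊤))) = Spec.map φ := rfl
    rw [h3]
    exact IsPullback.of_iso hpb (Iso.refl _) V'.isoSpec (Iso.refl _) (Iso.refl _) (by simp)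
      (by simp) (by simp [hπ']) (by simp)

end Groth.Agent.S16574
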