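import Groth.Statements.S16576
import Mathlib
import Groth.Agent.Lib.Helper67.CplCat
import Groth.Agent.Lib.Helper67.FlatDepth5
import Groth.Agent.Lib.Helper67.DepthAlg
import Groth.Agent.Lib.Helper67.Depth2
import Groth.Agent.Lib.Helper67.CM
import Groth.Agent.Lib.Helper56.CplFlat
import Groth.Agent.Lib.Helper56.Serre3
import Groth.Agent.Lib.Helper56.DepthAss
import Groth.Agent.Lib.Helper19.UnramifiedBaseChange
import Groth.Agent.Lib.Helper73.DimFormula.UnivCatenary
import Groth.Agent.S0568

set_option autoImplicit false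
universe u
open CAlg

namespace Groth.Agent.S16576

set_option linter.style.haveILetI false
set_option linter.unusedSectionVars false

open IsLocalRing TensorProduct LocCoh Groth.Agent.Lib.Helper67

section Normal

/-- In a normal noetherian domain, an ideal of height at least two has depth at least two. -/
theorem two_le_idealDepth_of_normal (C : Type u) [CommRing C] [IsDomain C] [IsNoetherianRing C]
    [IsIntegrallyClosed C] (I : Ideal C) (hI : 2 ≤ I.height) :
    ((2 : ℕ) : ℕ∞) ≤ idealDepth I C := by
  rw [idealDepth_eq_iInf_depth_localization]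
  refine le_iInf₂ fun Q hQ => ?_
  rw [Groth.Agent.Lib.Helper56.depth_localizedModule_self]
  have hle : Q.asIdeal.primeCompl ≤ nonZeroDivisors C := by
    intro x hx
    apply mem_nonZeroDivisors_of_ne_zero
    rintro rfl
    exact hx (Submodule.zero_mem _)
  have : IsIntegrallyClosed (Localization.AtPrime Q.asIdeal) :=
    isIntegrallyClosed_of_isLocalization (Localization.AtPrime Q.asIdeal) Q.asIdeal.primeCompl hle
  have : IsDomain (Localization.AtPrime Q.asIdeal) :=
    IsLocalization.isDomain_localization hle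
  apply Groth.Agent.Lib.Helper56.two_le_depth_of_normal_local
  rw [IsLocalization.AtPrime.ringKrullDim_eq_height Q.asIdeal]
  have h3 : (2 : ℕ∞) ≤ Q.asIdeal.height := hI.trans (Ideal.height_mono hQ)
  have h4 : ((2 : ℕ∞) : WithBot ℕ∞) ≤ (Q.asIdeal.height : WithBot ℕ∞) := WithBot.coe_le_coe.2 h3
  exact h4

/-- heights are preserved under contraction from the (finite) normalization of a universally
catenary domain. -/
theorem height_under_integralClosure (B : Type u) [CommRing B] [IsDomain B] [IsNoetherianRing B]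
    (hcat : CAlg.IsUniversallyCatenary B)
    [Module.Finite B (integralClosure B (FractionRing B))]
    (Q : Ideal (integralClosure B (FractionRing B))) [Q.IsPrime] :
    (Q.under B).height = Q.height := by
  have h := Groth.Agent.Lib.Helper73.dimFormula_eq B hcat (integralClosure B (FractionRing B))
    (Q.under B) Q
  rw [trdeg_eq_zero, trdeg_eq_zero, add_zero, add_zero] at h
  exact (Cardinal.ofENat_inj.1 h).symm

end Normal

section Depth

variable (A : Type u) [CommRing A] [IsNoetherianRing A] [IsLocalRing A]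

instance isLocalRing_quotient_prime (P : Ideal A) [P.IsPrime] : IsLocalRing (A ⧸ P) :=
  IsLocalRing.of_surjective' (Ideal.Quotient.mk P) Ideal.Quotient.mk_surjective

theorem finite_normalization (hNag : CAlg.IsNagata A) (P : Ideal A) [P.IsPrime] :
    Module.Finite (A ⧸ P) (integralClosure (A ⧸ P) (FractionRing (A ⧸ P))) :=
  hNag.2 P (FractionRing (A ⧸ P)) inferInstance

/-- the normalization of `A/P` has depth at least two as an `A`-module when `dim A/P ≥ 2`. -/
theorem two_le_depth_normalization (hUC : CAlg.IsUniversallyCatenary A) (hNag : CAlg.IsNagata A)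
    (P : Ideal A) [P.IsPrime] (hP2 : (2 : WithBot ℕ∞) ≤ ringKrullDim (A ⧸ P)) :
    ((2 : ℕ) : ℕ∞) ≤ depth A (integralClosure (A ⧸ P) (FractionRing (A ⧸ P))) := by
  have hfin1 := finite_normalization A hNag P
  have hfinA : Module.Finite A (integralClosure (A ⧸ P) (FractionRing (A ⧸ P))) :=
    Module.Finite.trans (A ⧸ P) _
  have hNR : IsNoetherianRing (integralClosure (A ⧸ P) (FractionRing (A ⧸ P))) :=
    isNoetherian_of_tower (A ⧸ P) (isNoetherian_of_isNoetherianRing_of_finite (A ⧸ P) _)
  have hIC : IsIntegrallyClosed (integralClosure (A ⧸ P) (FractionRing (A ⧸ P))) :=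
    integralClosure.isIntegrallyClosedOfFiniteExtension (FractionRing (A ⧸ P))
  have hcat1 : CAlg.IsUniversallyCatenary (A ⧸ P) :=
    Groth.Agent.Lib.Helper73.isUniversallyCatenary_quotient hUC P
  unfold depth
  rw [idealDepth_eq_idealDepth_map_of_finite (A := A)
    (B := integralClosure (A ⧸ P) (FractionRing (A ⧸ P))) (maximalIdeal A)
    (integralClosure (A ⧸ P) (FractionRing (A ⧸ P)))]
  apply two_le_idealDepth_of_normal
  rw [Ideal.height_eq_inf_minimalPrimes]
  refine le_iInf₂ fun Q' hQ' => ?_
  have hQp : Q'.IsPrime := hQ'.1.1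
  rw [← height_under_integralClosure (A ⧸ P) hcat1 Q']
  have hle : maximalIdeal (A ⧸ P) ≤ Q'.under (A ⧸ P) := by
    intro x hx
    obtain ⟨a, rfl⟩ := Ideal.Quotient.mk_surjective x
    have ha : a ∈ maximalIdeal A := by
      rw [mem_maximalIdeal, mem_nonunits_iff] at hx ⊢
      intro hu
      exact hx (hu.map (Ideal.Quotient.mk P))
    rw [Ideal.under_def, Ideal.mem_comap]
    apply hQ'.1.2
    have : algebraMap (A ⧸ P) (integralClosure (A ⧸ P) (FractionRing (A ⧸ P)))
        (Ideal.Quotient.mk P a) =
        algebraMap A (integralClosure (A ⧸ P) (FractionRing (A ⧸ P))) a :=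
      (IsScalarTower.algebraMap_apply A (A ⧸ P) _ a).symm
    rw [this]
    exact Ideal.mem_map_of_mem _ ha
  have heq : Q'.under (A ⧸ P) = maximalIdeal (A ⧸ P) :=
    ((maximalIdeal.isMaximal (A ⧸ P)).eq_of_le (Ideal.IsPrime.ne_top inferInstance) hle).symm
  rw [heq]
  have h1 := IsLocalRing.maximalIdeal_height_eq_ringKrullDim (R := A ⧸ P)
  rw [← h1] at hP2
  have h2 : ((2 : ℕ∞) : WithBot ℕ∞) ≤ ((maximalIdeal (A ⧸ P)).height : WithBot ℕ∞) := hP2
  exact WithBot.coe_le_coe.mp h2

end Depth

section Main

variable (A B : Type u) [CommRing A] [CommRing B] [IsNoetherianRing A] [IsNoetherianRing B]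
  [IsLocalRing A] [IsLocalRing B] [Algebra A B] [IsLocalHom (algebraMap A B)] [Module.Flat A B]

theorem comap_mem_minimalPrimes (Q : Ideal B) (hQ : Q ∈ minimalPrimes B) :
    Q.comap (algebraMap A B) ∈ minimalPrimes A := by
  haveI : Q.IsPrime := hQ.1.1
  refine ⟨⟨inferInstance, bot_le⟩, ?_⟩
  rintro P' ⟨hP', -⟩ hle
  haveI := hP'
  haveI : Q.LiesOver (Q.comap (algebraMap A B)) := ⟨rfl⟩
  obtain ⟨Q', hQ'le, hQ'p, hQ'o⟩ := Ideal.exists_ideal_le_liesOver_of_le (p := P')
    (q := Q.comap (algebraMap A B)) Q hle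
  have h1 : Q ≤ Q' := hQ.2 ⟨hQ'p, bot_le⟩ hQ'le
  have hQQ' : Q' = Q := le_antisymm hQ'le h1
  have h2 : P' = Q'.under A := hQ'o.over
  rw [h2, hQQ']

theorem mem_support_normalization (P : Ideal A) [hP : P.IsPrime] :
    (⟨P, hP⟩ : PrimeSpectrum A) ∈
      Module.support A (integralClosure (A ⧸ P) (FractionRing (A ⧸ P))) := by
  rw [Module.mem_support_iff_exists_annihilator]
  refine ⟨1, ?_⟩
  intro a ha
  rw [Submodule.mem_annihilator_span_singleton] at ha
  have h1 : algebraMap A (integralClosure (A ⧸ P) (FractionRing (A ⧸ P))) a = 0 := by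
    rw [Algebra.algebraMap_eq_smul_one]; exact ha
  have h2 : algebraMap (A ⧸ P) (FractionRing (A ⧸ P)) (Ideal.Quotient.mk P a) = 0 := by
    rw [IsScalarTower.algebraMap_apply (A ⧸ P)
      (integralClosure (A ⧸ P) (FractionRing (A ⧸ P))) (FractionRing (A ⧸ P))]
    have : algebraMap (A ⧸ P) (integralClosure (A ⧸ P) (FractionRing (A ⧸ P)))
        (Ideal.Quotient.mk P a) =
        algebraMap A (integralClosure (A ⧸ P) (FractionRing (A ⧸ P))) a :=
      (IsScalarTower.algebraMap_apply A (A ⧸ P) _ a).symm
    rw [this, h1, map_zero]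
  have h3 : Ideal.Quotient.mk P a = 0 :=
    (injective_iff_map_eq_zero _).mp (IsFractionRing.injective (A ⧸ P) (FractionRing (A ⧸ P))) _ h2
  exact Ideal.Quotient.eq_zero_iff_mem.mp h3

theorem main_lemma (hUC : CAlg.IsUniversallyCatenary A) (hNag : CAlg.IsNagata A)
    (hA : ∀ P ∈ minimalPrimes A, (2 : WithBot ℕ∞) ≤ ringKrullDim (A ⧸ P)) :
    ∀ Q ∈ minimalPrimes B, (2 : WithBot ℕ∞) ≤ ringKrullDim (B ⧸ Q) := by
  intro Q hQ
  haveI hQp : Q.IsPrime := hQ.1.1
  have hPmin := comap_mem_minimalPrimes A B Q hQ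
  have hP2 := hA _ hPmin
  have hfin1 := finite_normalization A hNag (Q.comap (algebraMap A B))
  have hfinA : Module.Finite A
      (integralClosure (A ⧸ Q.comap (algebraMap A B))
        (FractionRing (A ⧸ Q.comap (algebraMap A B)))) :=
    Module.Finite.trans (A ⧸ Q.comap (algebraMap A B)) _
  have h2 := two_le_depth_normalization A hUC hNag (Q.comap (algebraMap A B)) hP2
  have hf := depth_tensor_eq_add_quotient (R := A) (S := B) B
    (integralClosure (A ⧸ Q.comap (algebraMap A B))
      (FractionRing (A ⧸ Q.comap (algebraMap A B))))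
  have h3 : ((2 : ℕ) : ℕ∞) ≤ depth B (B ⊗[A]
      (integralClosure (A ⧸ Q.comap (algebraMap A B))
        (FractionRing (A ⧸ Q.comap (algebraMap A B))))) := by
    rw [hf]; exact le_trans h2 le_self_add
  have hsupp : (⟨Q, hQp⟩ : PrimeSpectrum B) ∈ Module.support B (B ⊗[A]
      (integralClosure (A ⧸ Q.comap (algebraMap A B))
        (FractionRing (A ⧸ Q.comap (algebraMap A B))))) :=
    Groth.Agent.Lib.Helper19.mem_support_baseChange_of_comap_mem _
      (mem_support_normalization A (Q.comap (algebraMap A B)))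
  have hass : Q ∈ associatedPrimes B (B ⊗[A]
      (integralClosure (A ⧸ Q.comap (algebraMap A B))
        (FractionRing (A ⧸ Q.comap (algebraMap A B))))) := by
    apply Module.associatedPrimes.minimalPrimes_annihilator_subset_associatedPrimes
    refine ⟨⟨inferInstance, Module.mem_support_iff_of_finite.mp hsupp⟩, ?_⟩
    rintro Q' ⟨hQ'p, -⟩ hle
    exact hQ.2 ⟨hQ'p, bot_le⟩ hle
  have h4 := depth_le_ringKrullDim_quotient_of_mem_associatedPrimes _ hass
  refine le_trans ?_ h4
  have h5 : (((2 : ℕ) : ℕ∞) : WithBot ℕ∞) ≤ _ := WithBot.coe_le_coe.mpr h3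
  exact h5

end Main

/-- Let A → B be a flat local homomorphism of Noetherian local rings and let Â, B̂ be their completions
at the maximal ideals. If every irreducible component of Spec Â has dimension at least 2, then every
irreducible component of Spec B̂ has dimension at least 2. (This is the c_2 condition in its
completed form; globally: the preimage of a c_2 closed subset under a flat morphism of Noetherian
schemes is c_2, in particular the condition is invariant under Zariski and étale localization.) -/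
theorem result
    (A B : Type u) [CommRing A] [CommRing B] [IsNoetherianRing A] [IsNoetherianRing B]
    [IsLocalRing A] [IsLocalRing B] (f : A →+* B) [IsLocalHom f] (hf : f.Flat)
    (hA : ∀ q ∈ minimalPrimes (AdicCompletion (IsLocalRing.maximalIdeal A) A), (2 : WithBot ℕ∞) ≤ ringKrullDim (AdicCompletion (IsLocalRing.maximalIdeal A) A ⧸ q)) :
    ∀ q ∈ minimalPrimes (AdicCompletion (IsLocalRing.maximalIdeal B) B), (2 : WithBot ℕ∞) ≤ ringKrullDim (AdicCompletion (IsLocalRing.maximalIdeal B) B ⧸ q) := by
  letI : Algebra A B := f.toAlgebra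
  haveI : IsLocalHom (algebraMap A B) := ‹IsLocalHom f›
  haveI : Module.Flat A B := hf
  haveI hNA : IsNoetherianRing (EGA4.Cpl A) := Groth.Agent.S0543.result A _
  haveI hNB : IsNoetherianRing (EGA4.Cpl B) := Groth.Agent.S0543.result B _
  letI := Groth.Agent.Lib.Helper56.cplAlgebra A B
  haveI : Module.Flat (EGA4.Cpl A) (EGA4.Cpl B) := Groth.Agent.Lib.Helper56.flat_cplMap A B
  haveI : IsLocalHom (algebraMap (EGA4.Cpl A) (EGA4.Cpl B)) :=
    Groth.Agent.Lib.Helper56.isLocalHom_cplMap A B
  exact main_lemma (EGA4.Cpl A) (EGA4.Cpl B)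
    (CplCat.isUniversallyCatenary_of_complete (EGA4.Cpl A))
    (Groth.Agent.S0568.result (EGA4.Cpl A)) hA

end Groth.Agent.S16576
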