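import Groth.Statements.S16577
import Groth.Agent.Lib.Helper69.HensAss
import Groth.Agent.Lib.Helper87.HensStrictProps
import Groth.Agent.Lib.Helper87.HensNoethStrict

set_option autoImplicit false
universe u
open Hensel

namespace Groth.Agent.S16577

/-- Let A be a Noetherian local ring with a strict henselization S', and p a prime ideal of A. Call p an
immediate étale generization of the closed point when the strict henselization S'/pS' of A/p has an
irreducible component of dimension 1, that is, some minimal prime P over pS' has dim S'/P = 1. Then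
p is an immediate étale generization of the closed point if and only if p is the contraction of some
prime ideal P of S' with dim S'/P = 1. -/
theorem result
    (A : Type u) [CommRing A] [IsNoetherianRing A] [IsLocalRing A]
    (S' : Type u) [CommRing S'] [IsLocalRing S'] [Algebra A S'] [IsLocalHom (algebraMap A S')]
    [Hensel.IsStrictHenselization A S']
    (p : Ideal A) [p.IsPrime] :
    (∃ P ∈ (p.map (algebraMap A S')).minimalPrimes, ringKrullDim (S' ⧸ P) = 1) ↔
    (∃ P : Ideal S', P.IsPrime ∧ P.comap (algebraMap A S') = p ∧ ringKrullDim (S' ⧸ P) = 1) := by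
  obtain ⟨e⟩ := Groth.Agent.Lib.Helper87.Hens.nonempty_algEquiv_Hsh A S'
  haveI := Groth.Agent.Lib.Helper87.Hens.flat_of_isStrictHenselization A S'
  have hfib : Groth.Agent.Lib.Helper69.HensFibre.IsFib A S' :=
    Groth.Agent.Lib.Helper69.HensFibre.IsFib.of_algEquiv e
      Groth.Agent.Lib.Helper69.HensFibre.H.isFib
  constructor
  · rintro ⟨P, hP, hdim⟩
    haveI hPp : P.IsPrime := hP.1.1
    refine ⟨P, hPp, ?_, hdim⟩
    have hle : p ≤ P.under A := Ideal.map_le_iff_le_comap.mp hP.1.2
    by_contra hne
    have hlt : p < P.under A := lt_of_le_of_ne hle (Ne.symm hne)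
    obtain ⟨P', hP'P, hP'p, hP'o⟩ :=
      Algebra.HasGoingDown.exists_ideal_le_liesOver_of_lt (R := A) (S := S') (p := p) P hlt
    have h1 : p.map (algebraMap A S') ≤ P' := by
      rw [Ideal.map_le_iff_le_comap]
      exact (hP'o.over).le
    have h2 : P ≤ P' := hP.2 ⟨hP'p, h1⟩ hP'P
    have h3 : P' = P := le_antisymm hP'P h2
    apply hne
    rw [← h3]
    exact (hP'o.over).symm
  · rintro ⟨P, hPp, hPu, hdim⟩
    refine ⟨P, ⟨⟨hPp, ?_⟩, ?_⟩, hdim⟩
    · rw [Ideal.map_le_iff_le_comap, hPu]
    · rintro P' ⟨hP'p, hP'⟩ hP'P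
      have : P'.comap (algebraMap A S') = P.comap (algebraMap A S') := by
        apply le_antisymm (Ideal.comap_mono hP'P)
        rw [hPu]
        exact Ideal.map_le_iff_le_comap.mp hP'
      exact (Groth.Agent.Lib.Helper69.HensAss.eq_of_le_of_isFib hfib P P' hP'P this).ge


end Groth.Agent.S16577
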