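import Groth.Statements.S1658
import Mathlib
import Groth.Agent.Lib.Helper7.ZeroIdeal
import Groth.Agent.Lib.Helper35.FinTwist
import Groth.Agent.Lib.Helper14.PicCalc
import Groth.Agent.Lib.Helper64.AssReg1

set_option autoImplicit false
set_option linter.style.haveILetI false
universe u
open CategoryTheory CategoryTheory.Limits AlgebraicGeometry
open Divisors

namespace Groth.Agent.S1658


open TopologicalSpace
open Groth.Agent.Lib.Helper14.PicCalc

/-- a Noetherian scheme has finitely many weakly associated points -/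
theorem finite_weakAss (X : Scheme.{u}) [IsNoetherian X] :
    {y : X | Curv2.IsWeakAssPoint (Coh.structureModule X) y}.Finite := by
  have hcov : ∀ x : X, ∃ U : X.affineOpens, x ∈ U.1 := fun x => by
    obtain ⟨U, hU, hxU, -⟩ := (Opens.isBasis_iff_nbhd.1 X.isBasis_affineOpens)
      (show x ∈ (⊤ : X.Opens) from trivial)
    exact ⟨⟨U, hU⟩, hxU⟩
  choose U hU using hcov
  obtain ⟨t, ht⟩ := isCompact_univ.elim_finite_subcover (fun x => ((U x).1 : Set X))
    (fun x => (U x).1.2) (fun x _ => Set.mem_iUnion.2 ⟨x, hU x⟩)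
  have hsub : {y : X | Curv2.IsWeakAssPoint (Coh.structureModule X) y} ⊆
      ⋃ x ∈ t, {y : X | y ∈ (U x).1 ∧ Curv2.IsWeakAssPoint (Coh.structureModule X) y} := by
    intro y hy
    obtain ⟨x, hxt, hyx⟩ := Set.mem_iUnion₂.1 (ht (Set.mem_univ y))
    exact Set.mem_iUnion₂.2 ⟨x, hxt, hyx, hy⟩
  refine (Set.Finite.biUnion t.finite_toSet (fun x _ => ?_)).subset hsub
  haveI : IsNoetherianRing Γ(X, (U x).1) := IsLocallyNoetherian.component_noetherian (U x)
  exact Groth.Agent.Lib.Helper64.AssReg.finite_weakAss_of_isNoetherianRing (U x).2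


/-- Let X be Noetherian with an ample invertible module and N any invertible O_X-module. For every
finite set E of points of X there are effective Cartier divisors D and D', whose supports miss E,
with N ⊗ I_D ≅ I_{D'} (that is, N ≅ O_X(D) ⊗ O_X(D')^{-1}), where I_D, I_{D'} are the ideal sheaves
as O_X-modules. -/
theorem result (X : Scheme.{u}) [IsNoetherian X] (L : X.Modules) (hL : CohB1.IsAmple L)
    (N : X.Modules) (hN : PicF.IsInvertible N) (E : Set X) (hE : E.Finite) :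
    ∃ D D' : X.IdealSheafData, BlowUp.IsEffCartierIdeal D ∧ BlowUp.IsEffCartierIdeal D' ∧
      Disjoint E (D.support : Set X) ∧ Disjoint E (D'.support : Set X) ∧
      Nonempty (CohB1.tensorMod N (ClSub.idealMod D) ≅ ClSub.idealMod D') := by
  classical
  have hfin := finite_weakAss X
  let T : Finset X := hE.toFinset ∪ hfin.toFinset
  have hTE : ∀ x ∈ E, x ∈ T := fun x hx =>
    Finset.mem_union_left _ ((Set.Finite.mem_toFinset hE).2 hx)
  have hTA : ∀ y, Curv2.IsWeakAssPoint (Coh.structureModule X) y → y ∈ T := fun y hy =>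
    Finset.mem_union_right _ ((Set.Finite.mem_toFinset hfin).2 hy)
  have hO := Groth.Agent.Lib.Helper35.InvPush.isInvertible_structureModule X
  obtain ⟨m, hm, W, hTW, h1⟩ := Groth.Agent.Lib.Helper35.FinTwist.exists_sections hL hN T
  obtain ⟨m', hm', W', hTW', h2⟩ := Groth.Agent.Lib.Helper35.FinTwist.exists_sections hL hO T
  obtain ⟨n, hn⟩ := h1 0
  obtain ⟨n', hn'⟩ := h2 0
  have hσ := hn (m' * max n n')
    (le_trans (le_max_left n n') (Nat.le_mul_of_pos_left _ hm'))
  have hσ' := hn' (m * max n n')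
    (le_trans (le_max_right n n') (Nat.le_mul_of_pos_left _ hm))
  rw [show 0 + m' * (m * max n n') = 0 + m * (m' * max n n') by ring] at hσ'
  obtain ⟨σ, hWσ⟩ := hσ
  obtain ⟨σ', hWσ'⟩ := hσ'
  generalize 0 + m * (m' * max n n') = k at σ σ' hWσ hWσ'
  have hA : PicF.IsInvertible (CohB1.tensorPow L k) :=
    Groth.Agent.Lib.Lead.Inv.isInvertible_tensorPow hL.1 k
  have hM₁ := Groth.Agent.Lib.Lead.Inv.isInvertible_tensorMod hN hA
  have hM₂ := Groth.Agent.Lib.Lead.Inv.isInvertible_tensorMod hO hA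
  obtain ⟨hD, hsD, ⟨a⟩⟩ := Groth.Agent.Lib.Helper7.ZeroIdeal.main hM₁ σ
    (fun y hy => hWσ (hTW y (hTA y hy)))
  obtain ⟨hD', hsD', ⟨a'⟩⟩ := Groth.Agent.Lib.Helper7.ZeroIdeal.main hM₂ σ'
    (fun y hy => hWσ' (hTW' y (hTA y hy)))
  refine ⟨_, _, hD, hD', ?_, ?_, ?_⟩
  · rw [Set.disjoint_left]
    intro x hxE hxD
    exact hsD x (hWσ (hTW x (hTE x hxE))) hxD
  · rw [Set.disjoint_left]
    intro x hxE hxD
    exact hsD' x (hWσ' (hTW' x (hTE x hxE))) hxD
  · have hID := Groth.Agent.Lib.Helper22.IdealModAff.isInvertible_of_isEffCartierIdeal _ hD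
    have hID' := Groth.Agent.Lib.Helper22.IdealModAff.isInvertible_of_isEffCartierIdeal _ hD'
    have hd₁ := Groth.Agent.Lib.Helper35.Dual.isInvertible_dual hM₁
    have hd₂ := Groth.Agent.Lib.Helper35.Dual.isInvertible_dual hM₂
    rw [← Pic.mk_mul_eq_iff hN hID hID']
    have e1 : Pic.mk _ hID = Pic.mk _ hd₁ := (Pic.mk_eq_mk _ _).2 ⟨a.symm⟩
    have e2 : Pic.mk _ hID' = Pic.mk _ hd₂ := (Pic.mk_eq_mk _ _).2 ⟨a'.symm⟩
    have i1 : Pic.mk _ hd₁ * (Pic.mk N hN * Pic.mk _ hA) = 1 :=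
      (Pic.mk_mul_eq_iff hd₁ hM₁ hO).2 (Groth.Agent.Lib.Helper35.Dual.nonempty_dual_tensor hM₁)
    have i2 : Pic.mk _ hd₂ * (1 * Pic.mk _ hA) = 1 :=
      (Pic.mk_mul_eq_iff hd₂ hM₂ hO).2 (Groth.Agent.Lib.Helper35.Dual.nonempty_dual_tensor hM₂)
    rw [e1, e2, eq_inv_of_mul_eq_one_left i1, eq_inv_of_mul_eq_one_left i2, one_mul, mul_inv,
      mul_inv_cancel_left]

end Groth.Agent.S1658
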