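import Groth.Statements.S16583
import Groth.Agent.S10853

set_option autoImplicit false
universe u
open CategoryTheory AlgebraicGeometry
open EtCore

namespace Groth.Agent.S16583

/-- Let X be a scheme such that every local ring of X is a field and every residue field of X is
algebraically closed, and let f : Y → X be an étale morphism. Then f is Zariski-locally trivial: for
every point y of Y there exist an open V of X containing f(y) and a section s : V → Y of f over V
whose image contains y. (The published lemma is stated for a specific scheme X^c attached to a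
coherent scheme — the constructible topology of a suitable integral cover, which has these two
properties by construction; the row states the assertion for every scheme with these two properties,
which is all the printed proof uses. The lemma's further assertions about the étale and Zariski
topoi, torsors and gerbes on X^c are not included.) -/
theorem result
    (X Y : Scheme.{u}) (hX : ∀ x : X, IsField (X.presheaf.stalk x))
    (hX' : ∀ x : X, IsAlgClosed (X.residueField x))
    (f : Y ⟶ X) [Etale f] (y : Y) :
    ∃ (V : X.Opens) (s : (V : Scheme.{u}) ⟶ Y), f.base y ∈ V ∧ s ≫ f = V.ι ∧ y ∈ Set.range s.base := by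
  classical
  letI : Field (X.presheaf.stalk (f y)) := (hX (f y)).toField
  -- the stalk is algebraically closed
  have hbij : Function.Bijective (IsLocalRing.residue (X.presheaf.stalk (f y))) := by
    refine ⟨(RingHom.injective (IsLocalRing.residue (X.presheaf.stalk (f y)))),
      IsLocalRing.residue_surjective⟩
  haveI : IsAlgClosed (X.residueField (f y)) := hX' (f y)
  haveI : IsAlgClosed (X.presheaf.stalk (f y)) :=
    IsAlgClosed.of_ringEquiv (k := X.residueField (f y)) _ (RingEquiv.ofBijective _ hbij).symm
  -- the stalk map is bijective
  letI : Algebra (X.presheaf.stalk (f y)) (Y.presheaf.stalk y) := (f.stalkMap y).hom.toAlgebra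
  have h1 : (f.stalkMap y).hom.FormallyUnramified := FormallyUnramified.stalkMap f y
  have h2 : (f.stalkMap y).hom.EssFiniteType := LocallyOfFiniteType.stalkMap f y
  haveI : Algebra.FormallyUnramified (X.presheaf.stalk (f y)) (Y.presheaf.stalk y) := h1
  haveI : Algebra.EssFiniteType (X.presheaf.stalk (f y)) (Y.presheaf.stalk y) := h2
  have hb : Function.Bijective (f.stalkMap y).hom :=
    Algebra.FormallyUnramified.bijective_of_isAlgClosed_of_isLocalRing
      (X.presheaf.stalk (f y)) (Y.presheaf.stalk y)
  haveI : IsIso (f.stalkMap y) := by
    rw [ConcreteCategory.isIso_iff_bijective]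
    exact hb
  obtain ⟨U, hxU, s, hs1, hs2⟩ := Groth.Agent.S10853.result (𝟙 X) f (x := f y) (y := y) (rfl : (𝟙 X : X ⟶ X) (f y) = f y)
    (inv (f.stalkMap y)) (by
      rw [IsIso.hom_inv_id]
      simp)
  refine ⟨U, s, hxU, by rw [hs2, Category.comp_id], ⟨⟨f y, hxU⟩, ?_⟩⟩
  have h3 := congr($hs1 (IsLocalRing.closedPoint (X.presheaf.stalk (f y))))
  rw [Scheme.Hom.comp_apply, Scheme.Hom.comp_apply] at h3
  have h4 : (Spec.map (inv (f.stalkMap y))) (IsLocalRing.closedPoint (X.presheaf.stalk (f y))) =
      IsLocalRing.closedPoint (Y.presheaf.stalk y) :=
    IsLocalRing.comap_closedPoint (inv (f.stalkMap y)).hom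
  rw [h4, Scheme.fromSpecStalk_closedPoint] at h3
  have h5 : (U.fromSpecStalkOfMem (f y) hxU) (IsLocalRing.closedPoint (X.presheaf.stalk (f y))) =
      ⟨f y, hxU⟩ := by
    apply U.ι.isOpenEmbedding.injective
    rw [← Scheme.Hom.comp_apply, Scheme.Opens.fromSpecStalkOfMem_ι, Scheme.fromSpecStalk_closedPoint]
    rfl
  rw [h5] at h3
  exact h3.symm

end Groth.Agent.S16583
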