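import Groth.Statements.S1659
import Mathlib
import Groth.Agent.Lib.Helper64.EffCartierSum

set_option autoImplicit false
universe u
open CategoryTheory CategoryTheory.Limits AlgebraicGeometry
open Divisors

namespace Groth.Agent.S1659


/-- Let X be Noetherian, D an effective Cartier divisor and D_1, …, D_r effective Cartier divisors which
are integral as closed subschemes, with D contained set-theoretically in their union. Then D = Σ a_i
D_i for some a_i ≥ 0, i.e. the ideal sheaf of D is the product of the a_i-th powers of the ideal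
sheaves of the D_i. -/
theorem result (X : Scheme.{u}) [IsNoetherian X] (D : X.IdealSheafData) (hD : BlowUp.IsEffCartierIdeal D)
    (r : ℕ) (Ds : Fin r → X.IdealSheafData) (hDs : ∀ i, BlowUp.IsEffCartierIdeal (Ds i)) (hint : ∀ i, IsIntegral (Ds i).subscheme)
    (hsub : (D.support : Set X) ⊆ ⋃ i, ((Ds i).support : Set X)) :
    ∃ a : Fin r → ℕ, D = ∏ i, Ds i ^ a i := by
  have hcover : (D.support : Set X) ⊆ ∅ ∪ ⋃ i : ULift.{u} (Fin r), ((Ds i.down).support : Set X) := by
    intro x hx
    obtain ⟨i, hi⟩ := Set.mem_iUnion.mp (hsub hx)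
    exact Or.inr (Set.mem_iUnion.mpr ⟨⟨i⟩, hi⟩)
  have hcodim : ∀ z ∈ (∅ : Set X), (∀ y ∈ (∅ : Set X), y ⤳ z → y = z) →
      (2 : WithBot ℕ∞) ≤ ringKrullDim (X.presheaf.stalk z) := fun z hz => absurd hz (Set.notMem_empty z)
  obtain ⟨a, hle, hcod⟩ := Groth.Agent.Lib.Helper64.EffCartierSum.exists_finsupp_prod X D
    (I := ULift.{u} (Fin r)) (fun i => Ds i.down)
    (fun i => hDs i.down) (fun i => hint i.down) ∅ isClosed_empty hcodim hcover
  have h2 : ∀ x, ∃ g ∈ nonZeroDivisors (X.presheaf.stalk x),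
      Groth.Agent.Lib.Helper64.StalkIdeal.stalkIdeal (a.prod (fun i n => Ds i.down ^ n)) x = Ideal.span {g} :=
    fun x => Groth.Agent.Lib.Helper64.EffCartierSum.exists_stalkIdeal_finsupp_prod_eq_span
      (fun i : ULift.{u} (Fin r) => Ds i.down) (fun i => hDs i.down) a x
  have heq : D = a.prod (fun i n => Ds i.down ^ n) :=
    Groth.Agent.Lib.Helper64.EffCartierSum.eq_of_le_of_codim_two D _ hle
      (fun x => Groth.Agent.Lib.Helper64.StalkIdeal.exists_stalkIdeal_eq_span_of_isEffCartier hD x) h2 hcod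
  refine ⟨fun i => a ⟨i⟩, ?_⟩
  rw [heq, Finsupp.prod_fintype _ _ (fun i => pow_zero _)]
  exact Fintype.prod_equiv Equiv.ulift _ _ (fun i => rfl)

end Groth.Agent.S1659
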