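import Groth.Statements.S16598
import Groth.Agent.Lib.Helper40.LGRing
import Mathlib.RingTheory.Nakayama

set_option autoImplicit false
universe u v
open LGRing

namespace Groth.Agent.S16598

/-- Let R be an LG-ring and M a faithfully projective R-module (finitely generated projective and
faithful). Then M contains a unimodular element: there are m ∈ M and a linear form f on M with f(m)
= 1 (so R·m is a free direct summand of M of rank one). -/
theorem result {R : Type u} [CommRing R] (hR : LGRing.IsLGRing R)
    (M : Type v) [AddCommGroup M] [Module R M] [Module.Finite R M] [Module.Projective R M] [FaithfulSMul R M] :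
    ∃ (m : M) (f : Module.Dual R M), f m = 1 := by
  obtain ⟨a, π, i, hπs, -, hπi⟩ := Module.Finite.exists_comp_eq_id_of_projective R M
  have hπi' : ∀ z, π (i z) = z := fun z => LinearMap.congr_fun hπi z
  let σ := Fin a ⊕ Fin a
  let F : MvPolynomial σ R := ∑ j : Fin a, ∑ l : Fin a,
    MvPolynomial.X (Sum.inr j) * MvPolynomial.C (LinearMap.toMatrix' (i ∘ₗ π) j l) *
      MvPolynomial.X (Sum.inl l)
  have hF : ∀ r : σ → R, MvPolynomial.eval r F =
      ∑ j : Fin a, r (Sum.inr j) * i (π (fun l => r (Sum.inl l))) j := by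
    intro r
    simp only [F, map_sum, map_mul, MvPolynomial.eval_X, MvPolynomial.eval_C]
    refine Finset.sum_congr rfl fun j _ => ?_
    have h1 : i (π (fun l => r (Sum.inl l))) j =
        (LinearMap.toMatrix' (i ∘ₗ π)).mulVec (fun l => r (Sum.inl l)) j := by
      rw [LinearMap.toMatrix'_mulVec]; rfl
    rw [h1, Matrix.mulVec, dotProduct, Finset.mul_sum]
    refine Finset.sum_congr rfl fun l _ => ?_
    ring
  obtain ⟨r, hr⟩ := Groth.Agent.Lib.Helper40.LG.exists_isUnit_eval hR F (by
    intro m hm
    have hne : ¬ (⊤ : Submodule R M) ≤ m • (⊤ : Submodule R M) := by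
      intro hle
      obtain ⟨c, hc1, hc0⟩ := Submodule.exists_sub_one_mem_and_smul_eq_zero_of_fg_of_le_smul m ⊤
        (Module.finite_def.mp inferInstance) hle
      have hc : c = 0 := by
        have : ∀ z : M, c • z = (0 : R) • z := fun z => by rw [hc0 z trivial, zero_smul]
        exact FaithfulSMul.eq_of_smul_eq_smul this
      rw [hc, zero_sub] at hc1
      exact hm.ne_top ((Ideal.eq_top_iff_one m).mpr (by simpa using m.neg_mem hc1))
    obtain ⟨z, -, hz⟩ := Set.not_subset.mp hne
    have hcoord : ∃ j, i z j ∉ m := by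
      by_contra hall
      simp only [not_exists, not_not] at hall
      apply hz
      have h2 : z = ∑ j : Fin a, (i z j) • π (Pi.single j 1) := by
        conv_lhs => rw [← hπi' z, ← (Pi.basisFun R (Fin a)).sum_repr (i z)]
        simp [map_sum]
      rw [h2]
      exact Submodule.sum_mem _ fun j _ => Submodule.smul_mem_smul (hall j) trivial
    obtain ⟨j, hj⟩ := hcoord
    obtain ⟨v, hv⟩ := hπs z
    refine ⟨Sum.elim v (Pi.single j 1), ?_⟩
    rw [hF]
    simp only [Sum.elim_inr, Sum.elim_inl]
    rw [Finset.sum_eq_single j]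
    · have : (fun l => v l) = v := rfl
      rw [Pi.single_eq_same, one_mul, this, hv]; exact hj
    · intro l _ hlj
      rw [Pi.single_eq_of_ne hlj, zero_mul]
    · intro hj'; exact absurd (Finset.mem_univ j) hj')
  rw [hF] at hr
  obtain ⟨c, hc⟩ := hr
  let lw : (Fin a → R) →ₗ[R] R := ∑ j : Fin a, r (Sum.inr j) • LinearMap.proj j
  refine ⟨π (fun l => r (Sum.inl l)), (↑c⁻¹ : R) • (lw ∘ₗ i), ?_⟩
  have h3 : lw (i (π (fun l => r (Sum.inl l)))) = ↑c := by
    rw [hc]
    simp [lw, LinearMap.sum_apply]
  rw [LinearMap.smul_apply, LinearMap.comp_apply, h3, smul_eq_mul, Units.inv_mul]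

end Groth.Agent.S16598
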