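import Groth.Statements.S16599
import Groth.Agent.Lib.Helper40.LGRing

set_option autoImplicit false
open AlgebraicGeometry
universe u
open LGRing

namespace Groth.Agent.S16599

/-- Let R be an LG-ring, n ≥ 0, and U an open quasi-compact subscheme of affine n-space Spec R[X₁, …,
Xₙ]. If U has an (R ⧸ m)-valued point over R for every maximal ideal m of R, then U has an R-valued
point: some n-tuple x over R defines a section Spec R ⟶ Spec R[X₁, …, Xₙ] with image inside U. -/
theorem result {R : Type u} [CommRing R] (hR : LGRing.IsLGRing R)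
    (n : ℕ) (U : (Spec (CommRingCat.of (MvPolynomial (Fin n) R))).Opens)
    (hU : IsCompact (U : Set ↥(Spec (CommRingCat.of (MvPolynomial (Fin n) R)))))
    (h : ∀ (m : Ideal R) [m.IsMaximal], ∃ x : Fin n → R ⧸ m,
      Set.range (Spec.map (CommRingCat.ofHom (MvPolynomial.eval₂Hom (Ideal.Quotient.mk m) x))).base ⊆
        (U : Set ↥(Spec (CommRingCat.of (MvPolynomial (Fin n) R))))) :
    ∃ x : Fin n → R, Set.range (Spec.map (CommRingCat.ofHom (MvPolynomial.eval x))).base ⊆
      (U : Set ↥(Spec (CommRingCat.of (MvPolynomial (Fin n) R)))) := by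
  classical
  let Us : Set (PrimeSpectrum (MvPolynomial (Fin n) R)) :=
    (U : Set ↥(Spec (CommRingCat.of (MvPolynomial (Fin n) R))))
  obtain ⟨t, ht⟩ : ∃ t : Finset (MvPolynomial (Fin n) R), (PrimeSpectrum.zeroLocus ↑t)ᶜ = Us :=
    PrimeSpectrum.isCompact_isOpen_iff.mp ⟨hU, U.isOpen⟩
  let σ := Fin n ⊕ {f // f ∈ t}
  let G : MvPolynomial σ R := ∑ f : {f // f ∈ t},
    MvPolynomial.X (Sum.inr f) * MvPolynomial.rename Sum.inl f.1
  have hG : ∀ r : σ → R, MvPolynomial.eval r G =
      ∑ f : {f // f ∈ t}, r (Sum.inr f) * MvPolynomial.eval (fun i => r (Sum.inl i)) f.1 := by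
    intro r
    simp only [G, map_sum, map_mul, MvPolynomial.eval_X, MvPolynomial.eval_rename]
    rfl
  obtain ⟨r, hr⟩ := Groth.Agent.Lib.Helper40.LG.exists_isUnit_eval hR G (by
    intro m hm
    obtain ⟨x, hx⟩ := h m
    let _ : Field (R ⧸ m) := Ideal.Quotient.field m
    let pt : PrimeSpectrum (R ⧸ m) := ⟨⊥, Ideal.isPrime_bot⟩
    have hmem : PrimeSpectrum.comap (MvPolynomial.eval₂Hom (Ideal.Quotient.mk m) x) pt ∈ Us :=
      hx ⟨pt, rfl⟩
    rw [← ht, Set.mem_compl_iff, PrimeSpectrum.mem_zeroLocus, Set.not_subset] at hmem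
    obtain ⟨f, hft, hf⟩ := hmem
    have hf' : MvPolynomial.eval₂Hom (Ideal.Quotient.mk m) x f ≠ 0 := by
      intro h0
      apply hf
      change MvPolynomial.eval₂Hom (Ideal.Quotient.mk m) x f ∈ (⊥ : Ideal (R ⧸ m))
      rw [h0]; exact Ideal.zero_mem _
    choose xt hxt using fun i => Ideal.Quotient.mk_surjective (I := m) (x i)
    have hev : MvPolynomial.eval₂Hom (Ideal.Quotient.mk m) x f =
        Ideal.Quotient.mk m (MvPolynomial.eval xt f) := by
      have : x = (Ideal.Quotient.mk m) ∘ xt := by funext i; exact (hxt i).symm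
      rw [this, MvPolynomial.coe_eval₂Hom, ← MvPolynomial.eval₂_id,
        MvPolynomial.eval₂_comp_left]
      rfl
    refine ⟨Sum.elim xt (Pi.single ⟨f, hft⟩ 1), ?_⟩
    rw [hG]
    simp only [Sum.elim_inr, Sum.elim_inl]
    rw [Finset.sum_eq_single ⟨f, hft⟩]
    · rw [Pi.single_eq_same, one_mul]
      intro hmem'
      apply hf'
      rw [hev]
      exact Ideal.Quotient.eq_zero_iff_mem.mpr hmem'
    · intro g _ hg
      rw [Pi.single_eq_of_ne hg, zero_mul]
    · intro hnot; exact absurd (Finset.mem_univ _) hnot)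
  rw [hG] at hr
  refine ⟨fun i => r (Sum.inl i), ?_⟩
  rintro _ ⟨p, rfl⟩
  change PrimeSpectrum.comap (MvPolynomial.eval (fun i => r (Sum.inl i))) p ∈ Us
  rw [← ht, Set.mem_compl_iff, PrimeSpectrum.mem_zeroLocus]
  intro hsub
  have hmem : (∑ f : {f // f ∈ t}, r (Sum.inr f) *
      MvPolynomial.eval (fun i => r (Sum.inl i)) f.1) ∈ p.asIdeal := by
    refine Ideal.sum_mem _ fun f _ => Ideal.mul_mem_left _ _ ?_
    exact hsub f.2
  exact p.isPrime.ne_top (Ideal.eq_top_of_isUnit_mem _ hmem hr)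

end Groth.Agent.S16599
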