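import Groth.Statements.S16600
import Groth.Agent.Lib.Helper40.LGSym
import Mathlib.LinearAlgebra.Dual.Lemmas

set_option autoImplicit false
open AlgebraicGeometry
universe u
open LGRing

namespace Groth.Agent.S16600

/-- Let R be an LG-ring, M a finite locally free R-module, W(M) = Spec Sym(M^∨) the vector bundle of M
(its points with values in an R-algebra R' are the R-algebra maps Sym(M^∨) → R', i.e. the R-linear
maps M^∨ → R'), and U ⊆ W(M) an open quasi-compact subscheme. Then U(R) is non-empty if and only if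
U(R ⧸ m) is non-empty for every maximal ideal m of R. -/
theorem result {R : Type u} [CommRing R]
    (hR : LGRing.IsLGRing R) (M : Type u) [AddCommGroup M] [Module R M] [Module.Finite R M] [Module.Projective R M]
    (U : (Spec (CommRingCat.of (SymmetricAlgebra R (Module.Dual R M)))).Opens)
    (hU : IsCompact (U : Set ↥(Spec (CommRingCat.of (SymmetricAlgebra R (Module.Dual R M)))))) :
    (∃ φ : Module.Dual R M →ₗ[R] R,
      Set.range (Spec.map (CommRingCat.ofHom (SymmetricAlgebra.lift φ).toRingHom)).base ⊆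
        (U : Set ↥(Spec (CommRingCat.of (SymmetricAlgebra R (Module.Dual R M)))))) ↔
    ∀ (m : Ideal R) [m.IsMaximal], ∃ φ : Module.Dual R M →ₗ[R] (R ⧸ m),
      Set.range (Spec.map (CommRingCat.ofHom (SymmetricAlgebra.lift φ).toRingHom)).base ⊆
        (U : Set ↥(Spec (CommRingCat.of (SymmetricAlgebra R (Module.Dual R M))))) := by
  classical
  let A := SymmetricAlgebra R (Module.Dual R M)
  let Us : Set (PrimeSpectrum A) := (U : Set ↥(Spec (CommRingCat.of A)))
  obtain ⟨t, ht⟩ : ∃ t : Finset A, (PrimeSpectrum.zeroLocus ↑t)ᶜ = Us :=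
    PrimeSpectrum.isCompact_isOpen_iff.mp ⟨hU, U.isOpen⟩
  constructor
  · rintro ⟨φ, hφ⟩ m hm
    refine ⟨(Ideal.Quotient.mkₐ R m).toLinearMap ∘ₗ φ, ?_⟩
    have hcomp : SymmetricAlgebra.lift ((Ideal.Quotient.mkₐ R m).toLinearMap ∘ₗ φ) =
        (Ideal.Quotient.mkₐ R m).comp (SymmetricAlgebra.lift φ) := by
      apply SymmetricAlgebra.algHom_ext
      ext ξ
      simp
    rintro _ ⟨q, rfl⟩
    apply hφ
    refine ⟨PrimeSpectrum.comap (Ideal.Quotient.mk m) q, ?_⟩
    change PrimeSpectrum.comap (SymmetricAlgebra.lift φ).toRingHom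
      (PrimeSpectrum.comap (Ideal.Quotient.mk m) q) =
      PrimeSpectrum.comap (SymmetricAlgebra.lift
        ((Ideal.Quotient.mkₐ R m).toLinearMap ∘ₗ φ)).toRingHom q
    rw [hcomp]
    rfl
  · intro h
    obtain ⟨a, π', i', -, -, hπi⟩ :=
      Module.Finite.exists_comp_eq_id_of_projective R (Module.Dual R M)
    obtain ⟨φ, hφ⟩ := Groth.Agent.Lib.Helper40.LG.sym_points i' π' hR hπi t (by
      intro m hm
      obtain ⟨φ, hφ⟩ := h m
      let _ : Field (R ⧸ m) := Ideal.Quotient.field m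
      let pt : PrimeSpectrum (R ⧸ m) := ⟨⊥, Ideal.isPrime_bot⟩
      have hmem : PrimeSpectrum.comap (SymmetricAlgebra.lift φ).toRingHom pt ∈ Us :=
        hφ ⟨pt, rfl⟩
      rw [← ht, Set.mem_compl_iff, PrimeSpectrum.mem_zeroLocus, Set.not_subset] at hmem
      obtain ⟨f, hft, hf⟩ := hmem
      refine ⟨φ, f, hft, ?_⟩
      intro h0
      apply hf
      change (SymmetricAlgebra.lift φ) f ∈ (⊥ : Ideal (R ⧸ m))
      rw [h0]; exact Ideal.zero_mem _)
    refine ⟨φ, ?_⟩
    rintro _ ⟨p, rfl⟩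
    change PrimeSpectrum.comap (SymmetricAlgebra.lift φ).toRingHom p ∈ Us
    rw [← ht, Set.mem_compl_iff, PrimeSpectrum.mem_zeroLocus]
    intro hsub
    obtain ⟨f, hft, hf⟩ := hφ p.asIdeal p.isPrime
    exact hf (hsub hft)

end Groth.Agent.S16600
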