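import Groth.Statements.S16601
import Groth.Agent.Lib.Helper40.LGSym
import Mathlib.LinearAlgebra.Dual.Lemmas

set_option autoImplicit false
open AlgebraicGeometry
universe u
open LGRing

namespace Groth.Agent.S16601

/-- Let R be an LG-ring whose residue fields at maximal ideals are all infinite (R satisfies the
primitive criterion), M a finite locally free R-module with vector bundle W(M) = Spec Sym(M^∨), and
U ⊆ W(M) an open quasi-compact subscheme which is fibrewise dense over the closed points of Spec R
(for every maximal ideal m, the trace of U on the closed fibre Spec (Sym(M^∨) ⧸ m Sym(M^∨)) is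
dense). Then U has an R-valued point. (The source asks U to be R-dense in W(M); only density of the
closed fibres is used, which is what is assumed here.) -/
theorem result {R : Type u} [CommRing R]
    (hR : LGRing.IsLGRing R) (hinf : ∀ (m : Ideal R) [m.IsMaximal], Infinite (R ⧸ m))
    (M : Type u) [AddCommGroup M] [Module R M] [Module.Finite R M] [Module.Projective R M]
    (U : (Spec (CommRingCat.of (SymmetricAlgebra R (Module.Dual R M)))).Opens)
    (hU : IsCompact (U : Set ↥(Spec (CommRingCat.of (SymmetricAlgebra R (Module.Dual R M))))))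
    (hdense : ∀ (m : Ideal R) [m.IsMaximal],
      Dense ((Spec.map (CommRingCat.ofHom (Ideal.Quotient.mk
        (Ideal.map (algebraMap R (SymmetricAlgebra R (Module.Dual R M))) m)))).base ⁻¹'
          (U : Set ↥(Spec (CommRingCat.of (SymmetricAlgebra R (Module.Dual R M))))))) :
    ∃ φ : Module.Dual R M →ₗ[R] R,
      Set.range (Spec.map (CommRingCat.ofHom (SymmetricAlgebra.lift φ).toRingHom)).base ⊆
        (U : Set ↥(Spec (CommRingCat.of (SymmetricAlgebra R (Module.Dual R M))))) := by
  classical
  let A := SymmetricAlgebra R (Module.Dual R M)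
  let Us : Set (PrimeSpectrum A) := (U : Set ↥(Spec (CommRingCat.of A)))
  obtain ⟨t, ht⟩ : ∃ t : Finset A, (PrimeSpectrum.zeroLocus ↑t)ᶜ = Us :=
    PrimeSpectrum.isCompact_isOpen_iff.mp ⟨hU, U.isOpen⟩
  obtain ⟨a, π', i', -, -, hπi⟩ :=
    Module.Finite.exists_comp_eq_id_of_projective R (Module.Dual R M)
  obtain ⟨φ, hφ⟩ := Groth.Agent.Lib.Helper40.LG.sym_points i' π' hR hπi t (by
    intro m hm
    have := hinf m
    let I : Ideal A := Ideal.map (algebraMap R A) m
    have hI : I ≠ ⊤ := by
      intro htop
      have hle : I ≤ Ideal.comap (SymmetricAlgebra.algebraMapInv (R := R)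
          (M := Module.Dual R M)).toRingHom m := by
        rw [Ideal.map_le_iff_le_comap]
        intro x hx
        rw [Ideal.mem_comap, Ideal.mem_comap]
        have : (SymmetricAlgebra.algebraMapInv (R := R) (M := Module.Dual R M)).toRingHom
            (algebraMap R A x) = x :=
          (SymmetricAlgebra.algebraMapInv (R := R) (M := Module.Dual R M)).commutes x
        rw [this]; exact hx
      have h1 : (1 : A) ∈ I := by rw [htop]; trivial
      have h2 := hle h1
      rw [Ideal.mem_comap, map_one] at h2
      exact hm.ne_top ((Ideal.eq_top_iff_one m).mpr h2)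
    have hnt : Nontrivial (A ⧸ I) := Ideal.Quotient.nontrivial_iff.mpr hI
    have hne : Nonempty (PrimeSpectrum (A ⧸ I)) := inferInstance
    have hd : Dense ((PrimeSpectrum.comap (Ideal.Quotient.mk I)) ⁻¹' Us) := hdense m
    obtain ⟨q, hq⟩ := hd.nonempty
    rw [Set.mem_preimage, ← ht, Set.mem_compl_iff, PrimeSpectrum.mem_zeroLocus,
      Set.not_subset] at hq
    obtain ⟨f, hft, hf⟩ := hq
    have hfI : f ∉ I := by
      intro hmem
      apply hf
      change Ideal.Quotient.mk I f ∈ q.asIdeal
      rw [Ideal.Quotient.eq_zero_iff_mem.mpr hmem]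
      exact Ideal.zero_mem _
    have hP := Groth.Agent.Lib.Helper40.LG.Theta_notMem_map_C i' π' hπi m f hfI
    obtain ⟨w, hw⟩ := Groth.Agent.Lib.Helper40.LG.exists_phi_ne_zero m _ hP
    refine ⟨Groth.Agent.Lib.Helper40.LG.phiW i' w, f, hft, ?_⟩
    rw [← Groth.Agent.Lib.Helper40.LG.aeval_Theta]
    exact hw)
  refine ⟨φ, ?_⟩
  rintro _ ⟨p, rfl⟩
  change PrimeSpectrum.comap (SymmetricAlgebra.lift φ).toRingHom p ∈ Us
  rw [← ht, Set.mem_compl_iff, PrimeSpectrum.mem_zeroLocus]
  intro hsub
  obtain ⟨f, hft, hf⟩ := hφ p.asIdeal p.isPrime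
  exact hf (hsub hft)

end Groth.Agent.S16601
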