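import Groth.Statements.S16644
import Mathlib.RingTheory.Ideal.Quotient.Basic
import Mathlib.RingTheory.Ideal.Span
import Mathlib.GroupTheory.Perm.Cycle.Type
-- import your own Groth.Agent.* helpers here

set_option autoImplicit false
open QuadZ

namespace Groth.Agent.S16644

theorem det_eq_zero_of_two_eq_zero {R : Type*} [CommRing R] (h2 : (2 : R) = 0) {n : ℕ} (hn : Odd n)
    (M : Matrix (Fin n) (Fin n) R) (hsymm : ∀ i j, M i j = M j i) (hdiag : ∀ i, M i i = 0) :
    M.det = 0 := by
  rw [Matrix.det_apply]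
  refine Finset.sum_involution (fun σ _ => σ⁻¹) ?_ ?_ ?_ ?_
  · intro σ _
    have h1 : Equiv.Perm.sign σ⁻¹ = Equiv.Perm.sign σ := Equiv.Perm.sign_inv σ
    have h3 : ∏ i, M (σ⁻¹ i) i = ∏ i, M (σ i) i := by
      rw [← Equiv.prod_comp σ (fun i => M (σ⁻¹ i) i)]
      refine Finset.prod_congr rfl fun i _ => ?_
      simp only [Equiv.Perm.coe_inv, Equiv.symm_apply_apply]
      exact hsymm _ _
    rw [h1, h3, ← two_smul ℕ]
    simp only [nsmul_eq_mul, Nat.cast_ofNat, h2, zero_mul]
  · intro σ _ hne hσ
    apply hne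
    have hsq : σ ^ 2 = 1 := by
      rw [pow_two]
      calc σ * σ = σ⁻¹ * σ := by rw [hσ]
        _ = 1 := inv_mul_cancel σ
    have hdvd := Equiv.Perm.two_dvd_card_support hsq
    have : ∃ i, i ∉ σ.support := by
      by_contra hcon
      push Not at hcon
      have huniv : σ.support = Finset.univ := Finset.eq_univ_iff_forall.mpr hcon
      rw [huniv, Finset.card_univ, Fintype.card_fin] at hdvd
      exact (Nat.not_even_iff_odd.mpr hn) (even_iff_two_dvd.mpr hdvd)
    obtain ⟨i, hi⟩ := this
    rw [Equiv.Perm.notMem_support] at hi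
    have : ∏ j, M (σ j) j = 0 := Finset.prod_eq_zero (Finset.mem_univ i) (by rw [hi]; exact hdiag i)
    rw [this, smul_zero]
  · intro σ _; exact Finset.mem_univ _
  · intro σ _; exact inv_inv σ

/-- For odd n, the discriminant of the universal quadratic form Σ_{i ≤ j} A_{ij} x_i x_j in n variables
(variables A_{ij} indexed by unordered pairs), i.e. the determinant of the symmetric matrix with
diagonal entries 2 A_{ii} and off-diagonal entries A_{ij}, is divisible by 2 in the integral
polynomial ring ℤ[A_{ij}] (so the half-discriminant is an integral polynomial). -/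
theorem result (n : ℕ) (hn : Odd n) :
    (2 : MvPolynomial (Sym2 (Fin n)) ℤ) ∣
      (Matrix.of fun i j : Fin n =>
        if i = j then 2 * MvPolynomial.X (R := ℤ) (σ := Sym2 (Fin n)) (Sym2.mk i j)
        else MvPolynomial.X (R := ℤ) (σ := Sym2 (Fin n)) (Sym2.mk i j)).det := by
  rw [← Ideal.mem_span_singleton, ← Ideal.Quotient.eq_zero_iff_mem, RingHom.map_det]
  apply det_eq_zero_of_two_eq_zero _ hn
  · intro i j
    simp only [RingHom.mapMatrix_apply, Matrix.map_apply, Matrix.of_apply]
    by_cases h : i = j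
    · subst h; rfl
    · rw [if_neg h, if_neg (Ne.symm h), Sym2.eq_swap]
  · intro i
    simp only [RingHom.mapMatrix_apply, Matrix.map_apply, Matrix.of_apply, if_true, map_mul]
    have : (Ideal.Quotient.mk (Ideal.span {(2 : MvPolynomial (Sym2 (Fin n)) ℤ)})) 2 = 0 :=
      Ideal.Quotient.eq_zero_iff_mem.mpr (Ideal.mem_span_singleton_self _)
    rw [this, zero_mul]
  · have : (Ideal.Quotient.mk (Ideal.span {(2 : MvPolynomial (Sym2 (Fin n)) ℤ)})) 2 = 0 :=
      Ideal.Quotient.eq_zero_iff_mem.mpr (Ideal.mem_span_singleton_self _)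
    rw [map_ofNat] at this
    exact this

end Groth.Agent.S16644
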