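import Groth.Statements.S18510
-- import your own Groth.Agent.* helpers here
import Groth.Agent.Lib.Helper33.BundleMap
import Groth.Agent.S0086
import Mathlib.AlgebraicGeometry.Morphisms.LocalFlatDescent

set_option autoImplicit false
universe u
open CategoryTheory MonoidalCategory CartesianMonoidalCategory MonObj GrpObj AlgebraicGeometry Topology
open EqInt

namespace Groth.Agent.S18510

open CategoryTheory.Limits

/-- flatness satisfies fpqc descent -/
theorem descendsAlong_flat : MorphismProperty.DescendsAlong (@Flat : MorphismProperty Scheme.{u})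
    (@Surjective ⊓ @Flat ⊓ @QuasiCompact) := by
  refine HasRingHomProperty.descendsAlong_flat (Q := RingHom.Flat)
    (RingHom.CodescendsAlong.mk _ RingHom.Flat.respectsIso ?_)
  intro R S T _ _ _ _ _ h h'
  rw [RingHom.flat_algebraMap_iff] at h' ⊢
  rw [RingHom.faithfullyFlat_algebraMap_iff] at h
  exact Module.Flat.of_flat_tensorProduct R T S

theorem isPullback_whiskerRight_fst {C : Type*} [Category C] [CartesianMonoidalCategory C] (U : C)
    {X Y : C} (f : X ⟶ Y) : IsPullback (f ▷ U) (fst X U) (fst Y U) f := by
  refine ⟨⟨by simp⟩, ⟨PullbackCone.IsLimit.mk _ (fun s => lift s.snd (s.fst ≫ snd Y U)) ?_ ?_ ?_⟩⟩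
  · intro s
    apply CartesianMonoidalCategory.hom_ext
    · simp [s.condition]
    · simp
  · intro s; simp
  · intro s m h1 h2
    apply CartesianMonoidalCategory.hom_ext
    · simp [← h2]
    · simp [← h1]



/-- Over a field k, let an affine group scheme G of finite type act on X, on Y and on U (quasi-separated
schemes of finite type over k), let f : X → Y be G-equivariant, and let q_X : X × U → X_G and q_Y :
Y × U → Y_G be principal bundle quotients for the diagonal actions (each is invariant, flat and
surjective, and (σ, p₂) into the fibre square over the quotient is an isomorphism), X_G and Y_G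
being quasi-separated of finite type over k. Let f_G : X_G → Y_G satisfy f_G ∘ q_X = q_Y ∘ (f ×
id_U) as maps X × U → Y_G. If f is proper, resp. flat, resp. smooth, then so is f_G. (Stated for
schemes; the source allows algebraic spaces and also treats regular embeddings and local complete
intersection morphisms, which are not stated here.) -/
theorem result (k : Type u) [Field k]
    (G X Y U XG YG : Over (Spec (CommRingCat.of k))) [GrpObj G] [IsAffine G.left] [LocallyOfFiniteType G.hom]
    [LocallyOfFiniteType X.hom] [QuasiCompact X.hom] [QuasiSeparated X.hom]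
    [LocallyOfFiniteType Y.hom] [QuasiCompact Y.hom] [QuasiSeparated Y.hom]
    [LocallyOfFiniteType U.hom] [QuasiCompact U.hom] [QuasiSeparated U.hom]
    [LocallyOfFiniteType XG.hom] [QuasiCompact XG.hom] [QuasiSeparated XG.hom]
    [LocallyOfFiniteType YG.hom] [QuasiCompact YG.hom] [QuasiSeparated YG.hom]
    (a : AlgGrp.Action G X) (aY : AlgGrp.Action G Y) (b : AlgGrp.Action G U)
    (f : X ⟶ Y) (hf : AlgGrp.Action.IsEquivariant a aY f)
    (qX : X ⊗ U ⟶ XG) (hqX : GIT.IsInvariant (a.prod b) qX) [Flat qX.left] [Surjective qX.left]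
    (hcX : IsIso (GIT.PsiY (a.prod b) qX hqX))
    (qY : Y ⊗ U ⟶ YG) (hqY : GIT.IsInvariant (aY.prod b) qY) [Flat qY.left] [Surjective qY.left]
    (hcY : IsIso (GIT.PsiY (aY.prod b) qY hqY))
    (fG : XG ⟶ YG) (hfG : qX ≫ fG = (f ▷ U) ≫ qY) :
    (IsProper f.left → IsProper fG.left) ∧ (Flat f.left → Flat fG.left) ∧
      (Smooth f.left → Smooth fG.left) := by
  have heq : (a.prod b).act ≫ (f ▷ U) = (G ◁ (f ▷ U)) ≫ (aY.prod b).act := by
    unfold AlgGrp.Action.IsEquivariant at hf
    apply CartesianMonoidalCategory.hom_ext
    · simp only [AlgGrp.Action.prod, Category.assoc, whiskerRight_fst, lift_fst, lift_fst_assoc]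
      rw [hf, ← Category.assoc, ← Category.assoc, ← MonoidalCategory.whiskerLeft_comp,
        ← MonoidalCategory.whiskerLeft_comp, whiskerRight_fst]
    · simp only [AlgGrp.Action.prod, Category.assoc, whiskerRight_snd, lift_snd]
      rw [← Category.assoc, ← MonoidalCategory.whiskerLeft_comp, whiskerRight_snd]
  have hXUqc : QuasiCompact (X ⊗ U).hom := by
    rw [Over.tensorObj_hom]; infer_instance
  have hYUqc : QuasiCompact (Y ⊗ U).hom := by
    rw [Over.tensorObj_hom]; infer_instance
  have hqXqc : QuasiCompact qX.left := by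
    have : QuasiCompact (qX.left ≫ XG.hom) := by rw [Over.w qX]; exact hXUqc
    exact QuasiCompact.of_comp qX.left XG.hom
  have hqYqc : QuasiCompact qY.left := by
    have : QuasiCompact (qY.left ≫ YG.hom) := by rw [Over.w qY]; exact hYUqc
    exact QuasiCompact.of_comp qY.left YG.hom
  have hpb := Groth.Agent.Lib.Helper33.BundleMap.isPullback_of_equivariant (a.prod b) (aY.prod b)
    qX qY hqX hqY (f ▷ U) heq fG hfG hcX hcY inferInstance (‹Surjective qX.left›).surj hqXqc
  have hbc : IsPullback (fst X U).left (f ▷ U).left f.left (fst Y U).left :=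
    ((isPullback_whiskerRight_fst U f).map (Over.forget _)).flip
  have hfpqc : (@Surjective ⊓ @Flat ⊓ @QuasiCompact : MorphismProperty Scheme.{u}) qY.left :=
    ⟨⟨inferInstance, inferInstance⟩, hqYqc⟩
  refine ⟨fun h => ?_, fun h => ?_, fun h => ?_⟩
  · have := Groth.Agent.S0086.result.{u}
    exact MorphismProperty.of_isPullback_of_descendsAlong (P := @IsProper)
      (Q := @Surjective ⊓ @Flat ⊓ @QuasiCompact) hpb hfpqc
      (MorphismProperty.of_isPullback (P := @IsProper) hbc h)
  · have := descendsAlong_flat.{u}
    exact MorphismProperty.of_isPullback_of_descendsAlong (P := @Flat)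
      (Q := @Surjective ⊓ @Flat ⊓ @QuasiCompact) hpb hfpqc
      (MorphismProperty.of_isPullback (P := @Flat) hbc h)
  · exact MorphismProperty.of_isPullback_of_descendsAlong (P := @Smooth)
      (Q := @Surjective ⊓ @Flat ⊓ @QuasiCompact) hpb hfpqc
      (MorphismProperty.of_isPullback (P := @Smooth) hbc h)

end Groth.Agent.S18510
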