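import Groth.Statements.S16647
-- import your own Groth.Agent.* helpers here
import Groth.Agent.S0083
import Groth.Agent.S18510
import Mathlib.Tactic

set_option autoImplicit false
open CategoryTheory MonoidalCategory CartesianMonoidalCategory MonObj GrpObj AlgebraicGeometry
universe u
open GrpSch

namespace Groth.Agent.S16647

open CategoryTheory.Limits

section
variable {S : Scheme.{u}} {N G Q E : Over S} [GrpObj G] [GrpObj Q]

/-- torsor trivialization: `G → Q` with kernel `N` becomes trivial after base change along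
`t ≫ b : E → Q`. -/
theorem isPullback_triv (a : N ⟶ G) (b : G ⟶ Q) [IsMonHom b] (hk : AlgGrp.IsKernel a b)
    (t : E ⟶ G) :
    IsPullback ((fst N E ≫ a) * (snd N E ≫ t)) (snd N E) b (t ≫ b) := by
  have hab : a ≫ b = 1 := by rw [hk.w]; rfl
  have w : ((fst N E ≫ a) * (snd N E ≫ t)) ≫ b = snd N E ≫ t ≫ b := by
    rw [MonObj.mul_comp, Category.assoc, hab, MonObj.comp_one, _root_.one_mul, Category.assoc]
  have hl : ∀ s : PullbackCone b (t ≫ b),
      (s.fst * (s.snd ≫ t)⁻¹) ≫ b = toUnit s.pt ≫ η[Q] := by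
    intro s
    rw [MonObj.mul_comp, GrpObj.inv_comp, Category.assoc, ← s.condition, mul_inv_cancel]
    rfl
  refine ⟨⟨w⟩, ⟨PullbackCone.IsLimit.mk _
    (fun s => lift (hk.lift (s.fst * (s.snd ≫ t)⁻¹) (toUnit _) (hl s)) s.snd) ?_ ?_ ?_⟩⟩
  · intro s
    rw [MonObj.comp_mul, ← Category.assoc, lift_fst, ← Category.assoc, lift_snd, hk.lift_fst,
      inv_mul_cancel_right]
  · intro s
    rw [lift_snd]
  · intro s m h1 h2
    apply CartesianMonoidalCategory.hom_ext
    · rw [lift_fst]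
      apply hk.hom_ext
      · rw [hk.lift_fst]
        rw [MonObj.comp_mul, ← Category.assoc, ← Category.assoc, h2] at h1
        rw [← h1, mul_inv_cancel_right]
      · exact toUnit_unique _ _
    · rw [lift_snd, h2]

end


/-- In a commutative diagram of short exact sequences of S-group schemes that are flat, separated and of
finite presentation over a scheme S (in each row the first homomorphism is the kernel of the second
and the second is a flat surjection), if the two outer vertical homomorphisms are closed immersions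
then so is the middle one. -/
theorem result {S : Scheme.{u}}
    {H₁' H₁ H₁'' H₂' H₂ H₂'' : Over S} [GrpObj H₁'] [GrpObj H₁] [GrpObj H₁''] [GrpObj H₂'] [GrpObj H₂] [GrpObj H₂'']
    [Flat H₁'.hom] [Flat H₁.hom] [Flat H₁''.hom] [Flat H₂'.hom] [Flat H₂.hom] [Flat H₂''.hom]
    [IsSeparated H₁'.hom] [IsSeparated H₁.hom] [IsSeparated H₁''.hom]
    [IsSeparated H₂'.hom] [IsSeparated H₂.hom] [IsSeparated H₂''.hom]
    [QuasiCompact H₁'.hom] [QuasiCompact H₁.hom] [QuasiCompact H₁''.hom]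
    [QuasiCompact H₂'.hom] [QuasiCompact H₂.hom] [QuasiCompact H₂''.hom]
    [LocallyOfFinitePresentation H₁'.hom] [LocallyOfFinitePresentation H₁.hom] [LocallyOfFinitePresentation H₁''.hom]
    [LocallyOfFinitePresentation H₂'.hom] [LocallyOfFinitePresentation H₂.hom] [LocallyOfFinitePresentation H₂''.hom]
    (a₁ : H₁' ⟶ H₁) (b₁ : H₁ ⟶ H₁'') (a₂ : H₂' ⟶ H₂) (b₂ : H₂ ⟶ H₂'')
    [IsMonHom a₁] [IsMonHom b₁] [IsMonHom a₂] [IsMonHom b₂]
    (h₁ : AlgGrp.IsKernel a₁ b₁) (hb₁ : Flat b₁.left ∧ Surjective b₁.left)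
    (h₂ : AlgGrp.IsKernel a₂ b₂) (hb₂ : Flat b₂.left ∧ Surjective b₂.left)
    (j' : H₁' ⟶ H₂') (j : H₁ ⟶ H₂) (j'' : H₁'' ⟶ H₂'') [IsMonHom j'] [IsMonHom j] [IsMonHom j'']
    (sq₁ : a₁ ≫ j = j' ≫ a₂) (sq₂ : b₁ ≫ j'' = j ≫ b₂)
    (hj' : IsClosedImmersion j'.left) (hj'' : IsClosedImmersion j''.left) :
    IsClosedImmersion j.left := by
  -- the closed subgroup P = b₂⁻¹(H₁'')
  let pP₂ : pullback b₂ j'' ⟶ H₂ := pullback.fst b₂ j''
  let pP₁ : pullback b₂ j'' ⟶ H₁'' := pullback.snd b₂ j''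
  have sqP : IsPullback pP₂ pP₁ b₂ j'' := IsPullback.of_hasPullback _ _
  let jt : H₁ ⟶ pullback b₂ j'' := pullback.lift j b₁ sq₂.symm
  have hjt₂ : jt ≫ pP₂ = j := pullback.lift_fst _ _ _
  have hjt₁ : jt ≫ pP₁ = b₁ := pullback.lift_snd _ _ _
  have T2 := isPullback_triv a₂ b₂ h₂ j
  have T1 := isPullback_triv a₁ b₁ h₁ (𝟙 H₁)
  rw [Category.comp_id, Category.id_comp] at T1
  let νP : H₂' ⊗ H₁ ⟶ pullback b₂ j'' :=
    pullback.lift ((fst H₂' H₁ ≫ a₂) * (snd H₂' H₁ ≫ j)) (snd H₂' H₁ ≫ b₁)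
      (by rw [T2.w, Category.assoc, sq₂])
  have hν₂ : νP ≫ pP₂ = (fst H₂' H₁ ≫ a₂) * (snd H₂' H₁ ≫ j) := pullback.lift_fst _ _ _
  have hν₁ : νP ≫ pP₁ = snd H₂' H₁ ≫ b₁ := pullback.lift_snd _ _ _
  have topSq : IsPullback (snd H₂' H₁) νP b₁ pP₁ := by
    refine IsPullback.of_bot ?_ hν₁.symm sqP.flip
    rw [hν₂, sq₂]
    exact T2.flip
  have leftSq : IsPullback (j' ▷ H₁) ((fst H₁' H₁ ≫ a₁) * snd H₁' H₁) νP jt := by
    refine IsPullback.of_right ?_ ?_ topSq
    · rw [whiskerRight_snd, hjt₁]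
      exact T1.flip
    · apply pullback.hom_ext
      · rw [Category.assoc, Category.assoc]
        erw [hν₂, hjt₂]
        rw [MonObj.comp_mul, MonObj.mul_comp, whiskerRight_fst_assoc, whiskerRight_snd_assoc,
          Category.assoc, sq₁]
      · rw [Category.assoc, Category.assoc]
        erw [hν₁, hjt₁]
        rw [whiskerRight_snd_assoc, T1.w]
  -- forget to schemes
  have leftSq' : IsPullback (j' ▷ H₁).left ((fst H₁' H₁ ≫ a₁) * snd H₁' H₁).left νP.left jt.left :=
    leftSq.map (Over.forget S)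
  have topSq' : IsPullback (snd H₂' H₁).left νP.left b₁.left pP₁.left :=
    topSq.map (Over.forget S)
  have hqc : QuasiCompact b₁.left := by
    have : QuasiCompact (b₁.left ≫ H₁''.hom) := by rw [Over.w b₁]; infer_instance
    exact QuasiCompact.of_comp b₁.left H₁''.hom
  have hν : (@Surjective ⊓ @Flat ⊓ @QuasiCompact : MorphismProperty Scheme.{u}) νP.left :=
    ⟨⟨MorphismProperty.of_isPullback (P := @Surjective) topSq' hb₁.2,
      MorphismProperty.of_isPullback (P := @Flat) topSq' hb₁.1⟩,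
      MorphismProperty.of_isPullback (P := @QuasiCompact) topSq' hqc⟩
  have hcl1 : IsClosedImmersion (j' ▷ H₁).left :=
    MorphismProperty.of_isPullback (P := @IsClosedImmersion)
      ((Groth.Agent.S18510.isPullback_whiskerRight_fst H₁ j').map (Over.forget S)).flip hj'
  have := Groth.Agent.S0083.result.{u}
  have hjt : IsClosedImmersion jt.left :=
    MorphismProperty.of_isPullback_of_descendsAlong (P := @IsClosedImmersion)
      (Q := @Surjective ⊓ @Flat ⊓ @QuasiCompact) leftSq' hν hcl1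
  have hpP₂ : IsClosedImmersion pP₂.left :=
    MorphismProperty.of_isPullback (P := @IsClosedImmersion) (sqP.map (Over.forget S)).flip hj''
  have : j.left = jt.left ≫ pP₂.left := by rw [← Over.comp_left, hjt₂]
  rw [this]
  infer_instance

end Groth.Agent.S16647
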