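import Groth.Statements.S6370
import Groth.Agent.Lib.Helper14.KrullAkizukiThm

set_option autoImplicit false
universe u
open CAlg

namespace Groth.Agent.S6370

open Groth.Agent.Lib.Helper14.KrullAkizuki

/-- For a one-dimensional Noetherian domain A with fraction field K, a finite field extension L of K
(separable or not) and B the integral closure of A in L: B is a Dedekind domain, Spec B → Spec A is
surjective and has finite fibres, and at every maximal ideal Q of B the residue field B/Q is finite
over A/(Q ∩ A). -/
theorem result (A K L B : Type u) [CommRing A] [IsDomain A]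
    [IsNoetherianRing A] (hdim : ringKrullDim A = 1) [Field K] [Algebra A K] [IsFractionRing A K]
    [Field L] [Algebra K L] [FiniteDimensional K L] [Algebra A L] [IsScalarTower A K L]
    [CommRing B] [IsDomain B] [Algebra A B] [Algebra B L] [IsScalarTower A B L] [IsIntegralClosure B A L] :
    IsDedekindDomain B ∧ Function.Surjective (PrimeSpectrum.comap (algebraMap A B)) ∧
      (∀ p : PrimeSpectrum A, (PrimeSpectrum.comap (algebraMap A B) ⁻¹' {p}).Finite) ∧
      ∀ Q : Ideal B, Q.IsMaximal → Module.Finite (A ⧸ Q.comap (algebraMap A B)) (B ⧸ Q) := by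
  have : Ring.KrullDimLE 1 A := Ring.krullDimLE_iff.2 (by rw [hdim]; rfl)
  have hB : Function.Injective (algebraMap B L) := IsIntegralClosure.algebraMap_injective B A L
  have hN : IsNoetherianRing B := isNoetherianRing_of_injective A K L hB
  have hD : Ring.KrullDimLE 1 B := krullDimLE_one_of_injective A K L hB
  have hint : Algebra.IsIntegral A B := IsIntegralClosure.isIntegral_algebra A L
  have hAB : Function.Injective (algebraMap A B) := by
    have h1 : Function.Injective (algebraMap A L) := by
      rw [IsScalarTower.algebraMap_eq A K L]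
      exact (algebraMap K L).injective.comp (IsFractionRing.injective A K)
    rw [IsScalarTower.algebraMap_eq A B L] at h1
    exact Function.Injective.of_comp h1
  refine ⟨?_, ?_, ?_, ?_⟩
  · have : IsFractionRing B L := IsIntegralClosure.isFractionRing_of_finite_extension A K L B
    have hD' : Ring.DimensionLEOne B := ⟨fun {p} hp0 hpp => hpp.isMaximal_of_ne_bot hp0⟩
    exact { hN, hD', (isIntegrallyClosed_iff L).mpr fun {x} hx =>
      ⟨IsIntegralClosure.mk' B x (isIntegral_trans (R := A) _ hx),
        IsIntegralClosure.algebraMap_mk' _ _ _⟩ with : IsDedekindDomain B }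
  · intro p
    obtain ⟨Q, hQ, hQp⟩ := Ideal.exists_ideal_over_prime_of_isIntegral_of_isDomain (S := B) p.asIdeal
      (by rw [(RingHom.injective_iff_ker_eq_bot _).1 hAB]; exact bot_le)
    exact ⟨⟨Q, hQ⟩, PrimeSpectrum.ext hQp⟩
  · intro p
    by_cases hp : p.asIdeal = ⊥
    · refine Set.Subsingleton.finite ?_
      have key : ∀ Q : PrimeSpectrum B, PrimeSpectrum.comap (algebraMap A B) Q = p →
          Q.asIdeal = ⊥ := by
        intro Q hQ
        refine Ideal.eq_bot_of_comap_eq_bot (R := A) ?_
        rw [← hp, ← hQ]
        rfl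
      intro Q₁ h₁ Q₂ h₂
      exact PrimeSpectrum.ext ((key Q₁ h₁).trans (key Q₂ h₂).symm)
    · obtain ⟨a, hap, ha0⟩ := Submodule.exists_mem_ne_zero_of_ne_bot hp
      have ha0' : algebraMap A B a ≠ 0 := by rwa [Ne, map_eq_zero_iff _ hAB]
      refine ((finite_setOf_isPrime_mem ha0').preimage
        (f := PrimeSpectrum.asIdeal) (fun Q₁ _ Q₂ _ h => PrimeSpectrum.ext h)).subset ?_
      intro Q hQ
      refine ⟨Q.isPrime, ?_⟩
      have : a ∈ (PrimeSpectrum.comap (algebraMap A B) Q).asIdeal := by rw [hQ]; exact hap
      exact this
  · intro Q hQ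
    have hQ0 : Q ≠ ⊥ := by
      rintro rfl
      have hf : IsField B := Ring.isField_iff_maximal_bot.2 hQ
      have hf' : IsField A := isField_of_isIntegral_of_isField hAB hf
      rw [ringKrullDim_eq_zero_of_isField hf'] at hdim
      exact zero_ne_one hdim
    have hfl := isFiniteLength_quotient' A K L hB Q hQ0
    have : IsNoetherian A (B ⧸ Q) := (isFiniteLength_iff_isNoetherian_isArtinian.1 hfl).1
    have : Module.Finite A (B ⧸ Q) := inferInstance
    exact Module.Finite.of_restrictScalars_finite A _ _

end Groth.Agent.S6370
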