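import Groth.Statements.S1665
import Groth.Agent.S6370

set_option autoImplicit false
universe u
open Variety

namespace Groth.Agent.S1665

open Groth.Agent.Lib.Helper14.KrullAkizuki

/-- Let B be a Noetherian domain of dimension one with finitely many maximal ideals and B' its integral
closure in its fraction field. Then B' is a Dedekind domain with finitely many maximal ideals, and
for every nonzero x in the Jacobson radical of B' and every y ∈ B' some power x^n satisfies x^n y ∈
B. -/
theorem result (B : Type u) [CommRing B] [IsDomain B] [IsNoetherianRing B]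
    (hdim : ringKrullDim B = 1) (hsl : Finite (MaximalSpectrum B)) :
    IsDedekindDomain (integralClosure B (FractionRing B)) ∧ Finite (MaximalSpectrum (integralClosure B (FractionRing B))) ∧
      ∀ x : integralClosure B (FractionRing B), x ≠ 0 → x ∈ (⊥ : Ideal (integralClosure B (FractionRing B))).jacobson →
        ∀ y : integralClosure B (FractionRing B), ∃ n : ℕ, (x ^ n * y).1 ∈ (algebraMap B (FractionRing B)).range := by
  have : Ring.KrullDimLE 1 B := Ring.krullDimLE_iff.2 (by rw [hdim]; rfl)
  obtain ⟨hDed, -, hfib, -⟩ := Groth.Agent.S6370.result B (FractionRing B) (FractionRing B)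
    (integralClosure B (FractionRing B)) hdim
  refine ⟨hDed, ?_, ?_⟩
  · let f : MaximalSpectrum (integralClosure B (FractionRing B)) → MaximalSpectrum B := fun Q =>
      ⟨Q.asIdeal.comap (algebraMap B (integralClosure B (FractionRing B))),
        Ideal.isMaximal_comap_of_isIntegral_of_isMaximal (R := B) Q.asIdeal⟩
    have hfin : (f ⁻¹' Set.univ).Finite := by
      refine Set.Finite.preimage' Set.finite_univ fun P _ => ?_
      refine ((hfib P.toPrimeSpectrum).preimage
        (f := MaximalSpectrum.toPrimeSpectrum)
        (fun Q₁ _ Q₂ _ h => MaximalSpectrum.toPrimeSpectrum_injective h)).subset ?_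
      intro Q hQ
      have hQ' : f Q = P := hQ
      rw [Set.mem_preimage, Set.mem_preimage, Set.mem_singleton_iff]
      rw [← hQ']
      rfl
    rw [Set.preimage_univ] at hfin
    exact Set.finite_univ_iff.1 hfin
  · intro x hx0 hxJ y
    classical
    set K := FractionRing B with hK
    set C : Subalgebra B K := Algebra.adjoin B {(x : K), (y : K)} with hC
    have hxy : ∀ z ∈ ({(x : K), (y : K)} : Set K), IsIntegral B z := by
      rintro z (rfl | rfl)
      · exact x.2
      · exact y.2
    have hCB' : C ≤ integralClosure B K := Algebra.adjoin_le hxy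
    obtain ⟨T, hT⟩ := fg_adjoin_of_finite (Set.toFinite _) hxy
    obtain ⟨d, hd⟩ := IsLocalization.exist_integer_multiples_of_finset (nonZeroDivisors B) T
    have hdC' : ∀ c ∈ Submodule.span B (T : Set K), (d : B) • c ∈ (algebraMap B K).range := by
      intro c hc'
      induction hc' using Submodule.span_induction with
      | mem c hc =>
        obtain ⟨r, hr⟩ := hd c hc
        exact ⟨r, hr⟩
      | zero => exact ⟨0, by simp⟩
      | add c₁ c₂ _ _ h₁ h₂ =>
        rw [smul_add]
        exact Subring.add_mem _ h₁ h₂
      | smul a c _ h =>
        rw [smul_comm, Algebra.smul_def]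
        exact Subring.mul_mem _ ⟨a, rfl⟩ h
    have hdC : ∀ c ∈ C, (d : B) • c ∈ (algebraMap B K).range := by
      intro c hc
      refine hdC' c ?_
      rw [hT]
      exact hc
    have hinjC : Function.Injective (algebraMap C K) := Subtype.val_injective
    have hNC : IsNoetherianRing C := isNoetherianRing_of_injective B K K hinjC
    have hDC : Ring.KrullDimLE 1 C := krullDimLE_one_of_injective B K K hinjC
    let d' : C := algebraMap B C d
    have hd'0 : d' ≠ 0 := by
      intro h
      have h1 : algebraMap B K d = 0 := by
        have := congrArg (algebraMap C K) h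
        rwa [map_zero, ← IsScalarTower.algebraMap_apply B C K] at this
      exact nonZeroDivisors.coe_ne_zero d ((map_eq_zero_iff _ (IsFractionRing.injective B K)).1 h1)
    have hArt : IsArtinianRing (C ⧸ Ideal.span {d'}) :=
      isArtinianRing_quotient _ (by simpa using hd'0)
    let xC : C := ⟨x, Algebra.subset_adjoin (by simp)⟩
    let yC : C := ⟨y, Algebra.subset_adjoin (by simp)⟩
    let f : C →+* integralClosure B K := (Subalgebra.inclusion hCB').toRingHom
    have hfinj : Function.Injective f := Subalgebra.inclusion_injective hCB'
    let _ : Algebra C (integralClosure B K) := f.toAlgebra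
    have : IsScalarTower B C (integralClosure B K) := IsScalarTower.of_algebraMap_eq (fun b => rfl)
    have : Algebra.IsIntegral C (integralClosure B K) :=
      ⟨fun b' => (Algebra.IsIntegral.isIntegral (R := B) b').tower_top⟩
    have : FaithfulSMul C (integralClosure B K) :=
      (faithfulSMul_iff_algebraMap_injective _ _).2 hfinj
    have hloc : IsLocalHom (algebraMap C (integralClosure B K)) :=
      Algebra.IsIntegral.isLocalHom C (integralClosure B K)
    have hxmax : ∀ M : Ideal C, M.IsMaximal → xC ∈ M := by
      intro M hM
      by_contra hxM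
      obtain ⟨c, m, hm, hcm⟩ := hM.exists_inv hxM
      have hu : IsUnit (x * (-(f c)) + 1) := Ideal.mem_jacobson_bot.1 hxJ _
      have hfm : f m = x * (-(f c)) + 1 := by
        have hfx : f xC = x := Subtype.ext rfl
        have := congrArg f hcm
        rw [map_add, map_mul, map_one, hfx] at this
        rw [← this]
        ring
      rw [← hfm] at hu
      have hmu : IsUnit m := hloc.map_nonunit m hu
      exact hM.ne_top (Ideal.eq_top_of_isUnit_mem _ hm hmu)
    obtain ⟨n, hn⟩ := IsArtinianRing.isNilpotent_jacobson_bot (R := C ⧸ Ideal.span {d'})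
    have hxbar : Ideal.Quotient.mk (Ideal.span {d'}) xC ∈
        Ideal.jacobson (⊥ : Ideal (C ⧸ Ideal.span {d'})) := by
      rw [Ideal.jacobson, Ideal.mem_sInf]
      rintro M ⟨-, hM⟩
      have := hxmax _ (Ideal.comap_isMaximal_of_surjective (Ideal.Quotient.mk (Ideal.span {d'}))
        Ideal.Quotient.mk_surjective (K := M))
      exact this
    have hpow : Ideal.Quotient.mk (Ideal.span {d'}) (xC ^ n) = 0 := by
      rw [map_pow]
      have := Ideal.pow_mem_pow hxbar n
      rw [hn] at this
      exact this
    obtain ⟨c', hc'⟩ := Ideal.mem_span_singleton'.1 (Ideal.Quotient.eq_zero_iff_mem.1 hpow)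
    refine ⟨n, ?_⟩
    have hfin := hdC (c' * yC : C) (c' * yC : C).2
    have heq : ((x ^ n * y : integralClosure B K) : K) = (d : B) • ((c' * yC : C) : K) := by
      have h1 : ((xC ^ n : C) : K) = (x : K) ^ n := by simp [xC]
      have h2 : ((c' * d' : C) : K) = (c' : K) * algebraMap B K d := by simp [d']
      have h3 := congrArg (Subtype.val) hc'
      rw [h1, h2] at h3
      simp only [MulMemClass.coe_mul, SubmonoidClass.coe_pow, Algebra.smul_def, yC]
      rw [← h3]
      ring
    rw [heq]
    exact hfin

end Groth.Agent.S1665
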