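import Groth.Statements.S16663
import Groth.Agent.Lib.Helper39.ConnTrace

set_option autoImplicit false
universe v u
open TensorProduct
open Conn

namespace Groth.Agent.S16663

/-- Let B be an A-algebra with a receptacle of differentials (Ω, δ), Ω a finite free B-module (the local
form of a weakly smooth scheme), and let M be a finitely ℤ-graded B-module presented as a finite
family of finite free B-modules M_i with integer degrees deg i (the local form of a graded vector
bundle), with total module Π_i M_i. Let ∇ be a connection on Π_i M_i preserving the grading, in the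
sense that (pr_j ⊗ 1)(∇(ι_i m)) = 0 for m ∈ M_i whenever deg i ≠ deg j, and let ∇_E be the induced
connection on the B-linear endomorphisms, the one with (ev_m ⊗ 1)(∇_E φ) = ∇(φ m) − (φ ⊗ 1)(∇ m).
Give B the connection b ↦ 1 ⊗ δ b. Then the supertrace, φ ↦ tr(ε ∘ φ) with ε = Σ_i (−1)^{deg i} ι_i
∘ pr_i the grading involution, is a horizontal map End_B(Π_i M_i) → B. -/
theorem result {A : Type v} {B Ω ι : Type u}
    [CommRing A] [CommRing B] [Algebra A B]
    [AddCommGroup Ω] [Module B Ω] [Module A Ω] [IsScalarTower A B Ω] [Module.Finite B Ω] [Module.Free B Ω]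
    [Fintype ι] [DecidableEq ι] (deg : ι → ℤ) (M : ι → Type u)
    [∀ i, AddCommGroup (M i)] [∀ i, Module B (M i)] [∀ i, Module A (M i)] [∀ i, IsScalarTower A B (M i)]
    [∀ i, Module.Free B (M i)] [∀ i, Module.Finite B (M i)]
    (δ : Derivation A B Ω) (nabla : (Π k, M k) →ₗ[A] (Π k, M k) ⊗[B] Ω) (hc : Conn.IsConn δ nabla)
    (hgr : ∀ i j : ι, deg i ≠ deg j → ∀ m : M i,
      TensorProduct.map (LinearMap.proj j : (Π k, M k) →ₗ[B] M j) LinearMap.id (nabla (LinearMap.single B M i m)) = 0)
    (nablaE : ((Π k, M k) →ₗ[B] (Π k, M k)) →ₗ[A] ((Π k, M k) →ₗ[B] (Π k, M k)) ⊗[B] Ω)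
    (hE : Conn.IsHomConn nabla nabla nablaE) :
    Conn.IsHorizontal nablaE (Conn.triv δ)
      (LinearMap.trace B (Π k, M k) ∘ₗ LinearMap.llcomp B (Π k, M k) (Π k, M k) (Π k, M k)
        (∑ i : ι, (LinearMap.single B M i) ∘ₗ (((-1 : B) ^ (deg i).natAbs) • (LinearMap.proj i : (Π k, M k) →ₗ[B] M i)))) := by
  classical
  let s : ι → B := fun i => (-1 : B) ^ (deg i).natAbs
  let ε : (Π k, M k) →ₗ[B] (Π k, M k) := ∑ i : ι, (LinearMap.single B M i) ∘ₗ
    (s i • (LinearMap.proj i : (Π k, M k) →ₗ[B] M i))
  have hs : ∀ i j, deg i = deg j → s i = s j := fun i j h => by simp [s, h]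
  have hδs : ∀ i, δ (s i) = 0 := by
    intro i
    have : s i = algebraMap A B ((-1) ^ (deg i).natAbs) := by simp [s]
    rw [this, Derivation.map_algebraMap]
  have hε_single : ∀ i (m : M i), ε (LinearMap.single B M i m) = s i • LinearMap.single B M i m := by
    intro i m
    simp only [ε, LinearMap.sum_apply, LinearMap.comp_apply, LinearMap.smul_apply,
      LinearMap.proj_apply, LinearMap.single_apply]
    rw [Finset.sum_eq_single i]
    · simp only [Pi.single_eq_same]
      exact Pi.single_smul i (s i) m
    · intro j _ hji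
      simp [Pi.single_eq_of_ne hji]
    · simp
  have hsum_id : ∑ j : ι, (LinearMap.single B M j) ∘ₗ
      (LinearMap.proj j : (Π k, M k) →ₗ[B] M j) = LinearMap.id := by
    ext x k
    simp [LinearMap.sum_apply, Finset.sum_apply, Pi.single_apply]
  have hε_hor_single : ∀ i (m : M i), nabla (ε (LinearMap.single B M i m)) =
      TensorProduct.map ε LinearMap.id (nabla (LinearMap.single B M i m)) := by
    intro i m
    rw [hε_single, hc, hδs, TensorProduct.tmul_zero, add_zero]
    simp only [ε]
    rw [Groth.Agent.Lib.Helper39.map_sum_left_apply]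
    have hterm : ∀ j, TensorProduct.map ((LinearMap.single B M j) ∘ₗ
        (s j • (LinearMap.proj j : (Π k, M k) →ₗ[B] M j))) LinearMap.id
          (nabla (LinearMap.single B M i m)) =
        s i • TensorProduct.map ((LinearMap.single B M j) ∘ₗ
          (LinearMap.proj j : (Π k, M k) →ₗ[B] M j)) LinearMap.id
            (nabla (LinearMap.single B M i m)) := by
      intro j
      rw [Groth.Agent.Lib.Helper39.map_comp_left_apply,
        Groth.Agent.Lib.Helper39.map_smul_left_apply,
        Groth.Agent.Lib.Helper39.map_comp_left_apply]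
      by_cases h : deg i = deg j
      · rw [hs i j h, map_smul]
      · rw [hgr i j h m]
        simp
    rw [Finset.sum_congr rfl (fun j _ => hterm j), ← Finset.smul_sum,
      ← Groth.Agent.Lib.Helper39.map_sum_left_apply, hsum_id, TensorProduct.map_id,
      LinearMap.id_apply]
  have hε_hor : ∀ x, nabla (ε x) = TensorProduct.map ε LinearMap.id (nabla x) := by
    intro x
    have hx : x = ∑ i, LinearMap.single B M i (x i) := by
      ext k
      simp [Finset.sum_apply, Pi.single_apply]
    rw [hx]
    simp only [map_sum]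
    exact Finset.sum_congr rfl fun i _ => hε_hor_single i (x i)
  have hkey : ∀ φ : (Π k, M k) →ₗ[B] (Π k, M k), nablaE (ε ∘ₗ φ) =
      TensorProduct.map (LinearMap.llcomp B (Π k, M k) (Π k, M k) (Π k, M k) ε) LinearMap.id
        (nablaE φ) := by
    intro φ
    apply Groth.Agent.Lib.Helper39.hom_tensor_ext
    intro m
    have hnat : ∀ t : ((Π k, M k) →ₗ[B] (Π k, M k)) ⊗[B] Ω,
        TensorProduct.map (LinearMap.applyₗ m) LinearMap.id
          (TensorProduct.map (LinearMap.llcomp B (Π k, M k) (Π k, M k) (Π k, M k) ε)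
            LinearMap.id t) =
        TensorProduct.map ε LinearMap.id (TensorProduct.map (LinearMap.applyₗ m) LinearMap.id t) := by
      intro t
      induction t using TensorProduct.induction_on with
      | zero => simp
      | tmul ψ ω => simp
      | add x y hx hy => simp only [map_add, hx, hy]
    rw [hE (ε ∘ₗ φ) m, hnat, hE φ m, map_sub, LinearMap.comp_apply, hε_hor,
      ← Groth.Agent.Lib.Helper39.map_comp_left_apply]
  intro φ
  have h1 := Groth.Agent.Lib.Helper39.trace_horizontal δ nabla hc nablaE hE (ε ∘ₗ φ)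
  rw [Groth.Agent.Lib.Helper39.map_comp_left_apply, ← hkey φ]
  exact h1

end Groth.Agent.S16663
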