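import Groth.Statements.S16664
-- import your own Groth.Agent.* helpers here

set_option autoImplicit false
universe v u
open TensorProduct
open Conn

namespace Groth.Agent.S16664

theorem along_hom_apply {A : Type v} {B Ω M : Type u}
    [CommRing A] [CommRing B] [Algebra A B]
    [AddCommGroup Ω] [Module B Ω] [Module A Ω] [IsScalarTower A B Ω]
    [AddCommGroup M] [Module B M] [Module A M] [IsScalarTower A B M]
    (nabla : M →ₗ[A] M ⊗[B] Ω)
    (nablaE : (M →ₗ[B] M) →ₗ[A] (M →ₗ[B] M) ⊗[B] Ω) (hE : Conn.IsHomConn nabla nabla nablaE)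
    (θ : Ω →ₗ[B] B) (φ : M →ₗ[B] M) (m : M) :
    Conn.along nablaE θ φ m = Conn.along nabla θ (φ m) - φ (Conn.along nabla θ m) := by
  have N1 : ∀ t : (M →ₗ[B] M) ⊗[B] Ω,
      (TensorProduct.rid B (M →ₗ[B] M) (TensorProduct.map LinearMap.id θ t)) m =
      TensorProduct.rid B M (TensorProduct.map LinearMap.id θ
        (TensorProduct.map (LinearMap.applyₗ m) LinearMap.id t)) := by
    intro t
    induction t using TensorProduct.induction_on with
    | zero => simp
    | tmul ψ ω => simp
    | add x y hx hy => simp only [map_add, LinearMap.add_apply, hx, hy]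
  have N2 : ∀ s : M ⊗[B] Ω,
      TensorProduct.rid B M (TensorProduct.map LinearMap.id θ
        (TensorProduct.map φ LinearMap.id s)) =
      φ (TensorProduct.rid B M (TensorProduct.map LinearMap.id θ s)) := by
    intro s
    induction s using TensorProduct.induction_on with
    | zero => simp
    | tmul x ω => simp
    | add x y hx hy => simp only [map_add, hx, hy]
  rw [Conn.along_apply, N1, hE φ m, map_sub, map_sub, N2]
  rfl

theorem along_hom_comp {A : Type v} {B Ω M : Type u}
    [CommRing A] [CommRing B] [Algebra A B]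
    [AddCommGroup Ω] [Module B Ω] [Module A Ω] [IsScalarTower A B Ω]
    [AddCommGroup M] [Module B M] [Module A M] [IsScalarTower A B M]
    (nabla : M →ₗ[A] M ⊗[B] Ω)
    (nablaE : (M →ₗ[B] M) →ₗ[A] (M →ₗ[B] M) ⊗[B] Ω) (hE : Conn.IsHomConn nabla nabla nablaE)
    (θ : Ω →ₗ[B] B) (φ ψ : M →ₗ[B] M) :
    Conn.along nablaE θ (φ ∘ₗ ψ) = Conn.along nablaE θ φ ∘ₗ ψ + φ ∘ₗ Conn.along nablaE θ ψ := by
  ext m
  simp only [LinearMap.add_apply, LinearMap.comp_apply, along_hom_apply nabla nablaE hE, map_sub]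
  abel

/-- Let B be an A-algebra with a receptacle of differentials (Ω, δ), Ω free on a finite basis ω_1, …,
ω_n, let M be a finitely presented B-module with a connection ∇, let ∇_E be the induced connection
on the B-linear endomorphisms of M (the one with (ev_m ⊗ 1)(∇_E φ) = ∇(φ m) − (φ ⊗ 1)(∇ m)), and for
each q let ∇_q = (1 ⊗ ω_q^*) ∘ ∇_E be the covariant derivative on End_B(M) along the q-th vector of
the dual basis. If an endomorphism φ satisfies φ ∘ ∇_q(φ) + ∇_q(φ) ∘ φ = 0 for every q, then for all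
q, r one has φ ∘ ∇_q(∇_r(φ)) + ∇_q(∇_r(φ)) ∘ φ + ∇_q(φ) ∘ ∇_r(φ) + ∇_r(φ) ∘ ∇_q(φ) = 0. (The
published statement takes M graded with ∇ preserving the grading and φ of odd degree, and is written
with supercommutators; for such φ the supercommutators in question are exactly these
anticommutators, and the identity holds for an arbitrary endomorphism.) -/
theorem result {A : Type v} {B Ω M : Type u}
    [CommRing A] [CommRing B] [Algebra A B]
    [AddCommGroup Ω] [Module B Ω] [Module A Ω] [IsScalarTower A B Ω] {n : ℕ} (bΩ : Module.Basis (Fin n) B Ω)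
    [AddCommGroup M] [Module B M] [Module A M] [IsScalarTower A B M] [Module.FinitePresentation B M]
    (δ : Derivation A B Ω) (nabla : M →ₗ[A] M ⊗[B] Ω) (hc : Conn.IsConn δ nabla)
    (nablaE : (M →ₗ[B] M) →ₗ[A] (M →ₗ[B] M) ⊗[B] Ω) (hE : Conn.IsHomConn nabla nabla nablaE)
    (φ : M →ₗ[B] M)
    (hφ : ∀ q : Fin n, φ ∘ₗ Conn.along nablaE (bΩ.coord q) φ + Conn.along nablaE (bΩ.coord q) φ ∘ₗ φ = 0)
    (q r : Fin n) :
    φ ∘ₗ Conn.along nablaE (bΩ.coord q) (Conn.along nablaE (bΩ.coord r) φ)
      + Conn.along nablaE (bΩ.coord q) (Conn.along nablaE (bΩ.coord r) φ) ∘ₗ φ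
      + Conn.along nablaE (bΩ.coord q) φ ∘ₗ Conn.along nablaE (bΩ.coord r) φ
      + Conn.along nablaE (bΩ.coord r) φ ∘ₗ Conn.along nablaE (bΩ.coord q) φ = 0 := by
  have h := congr(Conn.along nablaE (bΩ.coord q) $(hφ r))
  rw [map_add, along_hom_comp nabla nablaE hE, along_hom_comp nabla nablaE hE, map_zero] at h
  rw [← h]
  abel

end Groth.Agent.S16664
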