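import Groth.Statements.S16667
import Mathlib

set_option autoImplicit false
universe u
open CAlg

namespace Groth.Agent.S16667

open IsLocalRing in
lemma depth_eq_one {B : Type*} {K : Type*} [CommRing B] [IsDomain B] [IsLocalRing B] [Field K]
    [Algebra B K] (hinj : Function.Injective (algebraMap B K)) (y : K)
    (hy : y ∉ Set.range (algebraMap B K))
    (hmy : ∀ r ∈ maximalIdeal B, algebraMap B K r * y ∈ Set.range (algebraMap B K))
    (t : B) (ht : t ∈ maximalIdeal B) (ht0 : t ≠ 0) : LocCoh.depth B B = 1 := by
  classical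
  unfold LocCoh.depth LocCoh.idealDepth
  have hne : ¬ (maximalIdeal B • (⊤ : Submodule B B) = ⊤) := by
    rw [smul_eq_mul, Ideal.mul_top]
    exact (maximalIdeal.isMaximal B).ne_top
  rw [if_neg hne]
  apply le_antisymm
  · refine iSup₂_le fun rs hrs => ?_
    obtain ⟨hreg, hmem⟩ := hrs
    match rs, hreg, hmem with
    | [], _, _ => simp
    | [r], _, _ => simp
    | r₁ :: r₂ :: rest, hreg, hmem =>
      exfalso
      rw [RingTheory.Sequence.isWeaklyRegular_cons_iff,
        RingTheory.Sequence.isWeaklyRegular_cons_iff] at hreg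
      obtain ⟨h1, h2, -⟩ := hreg
      obtain ⟨s₁, hs₁⟩ := hmy r₁ (hmem r₁ (by simp))
      obtain ⟨s₂, hs₂⟩ := hmy r₂ (hmem r₂ (by simp))
      have heq : r₂ * s₁ = r₁ * s₂ := by
        apply hinj
        rw [map_mul, map_mul, hs₁, hs₂]; ring
      have hr₁ : r₁ ≠ 0 := by
        rintro rfl
        have := h1 (a₁ := 1) (a₂ := 0) (by simp)
        exact one_ne_zero this
      have hz : (Submodule.Quotient.mk s₁ : QuotSMulTop r₁ B) = 0 := by
        apply h2
        simp only [smul_zero]
        rw [← Submodule.Quotient.mk_smul, Submodule.Quotient.mk_eq_zero, smul_eq_mul, heq]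
        exact Submodule.smul_mem_pointwise_smul _ _ _ Submodule.mem_top
      rw [Submodule.Quotient.mk_eq_zero] at hz
      obtain ⟨t', -, ht'⟩ := (Submodule.mem_smul_pointwise_iff_exists _ _ _).mp hz
      apply hy
      refine ⟨t', ?_⟩
      have h3 : algebraMap B K r₁ * algebraMap B K t' = algebraMap B K r₁ * y := by
        rw [← map_mul, ← hs₁, ← ht', smul_eq_mul]
      have h4 : algebraMap B K r₁ ≠ 0 := fun h => hr₁ (hinj (by rw [h, map_zero]))
      exact mul_left_cancel₀ h4 h3
  · refine le_iSup₂_of_le [t] ⟨?_, ?_⟩ (by simp)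
    · rw [RingTheory.Sequence.isWeaklyRegular_singleton_iff]
      exact fun a b h => mul_left_cancel₀ ht0 h
    · simpa using ht


/-- Let A be a Noetherian integral domain satisfying Serre's condition (S_2), with fraction field K. An
element of K which lies in the localization A_p for every prime p of A with depth(A_p) = 1 lies in
A. -/
theorem result {A : Type u} [CommRing A] [IsDomain A]
    [IsNoetherianRing A] (hS2 : LocCoh.HasSk 2 A A) (x : FractionRing A)
    (hx : ∀ (p : Ideal A) [p.IsPrime],
      LocCoh.depth (Localization.AtPrime p) (Localization.AtPrime p) = 1 →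
        x ∈ Set.range (algebraMap (Localization.AtPrime p) (FractionRing A))) :
    x ∈ Set.range (algebraMap A (FractionRing A)) := by
  classical
  by_contra hxA
  let N : Submodule A (FractionRing A) := LinearMap.range (Algebra.linearMap A (FractionRing A))
  have hN : ∀ z : FractionRing A, z ∈ N ↔ ∃ a : A, algebraMap A (FractionRing A) a = z := by
    intro z
    simp [N, LinearMap.mem_range]
  have hx0 : (Submodule.Quotient.mk x : FractionRing A ⧸ N) ≠ 0 := by
    rw [Ne, Submodule.Quotient.mk_eq_zero, hN]
    exact hxA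
  obtain ⟨p, hp, hle⟩ := exists_le_isAssociatedPrime_of_isNoetherianRing A
    (Submodule.Quotient.mk x : FractionRing A ⧸ N) hx0
  rw [isAssociatedPrime_iff] at hp
  obtain ⟨hpp, ybar, hpy⟩ := hp
  obtain ⟨y, rfl⟩ := Submodule.Quotient.mk_surjective N ybar
  have hmemp : ∀ r : A, r ∈ p ↔ r • y ∈ N := by
    intro r
    rw [hpy, Submodule.mem_colon_singleton, ← Submodule.Quotient.mk_smul, Submodule.mem_bot,
      Submodule.Quotient.mk_eq_zero]
  have hxp : ∀ r : A, r • x ∈ N → r ∈ p := by
    intro r hr
    apply hle
    rw [Submodule.mem_colon_singleton, ← Submodule.Quotient.mk_smul, Submodule.mem_bot,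
      Submodule.Quotient.mk_eq_zero]
    exact hr
  have := hpp
  have hmk : ∀ (a : A) (s : p.primeCompl),
      (s : A) • algebraMap (Localization.AtPrime p) (FractionRing A)
        (IsLocalization.mk' (Localization.AtPrime p) a s) = algebraMap A (FractionRing A) a := by
    intro a s
    rw [Algebra.smul_def, IsScalarTower.algebraMap_apply A (Localization.AtPrime p) (FractionRing A),
      ← map_mul, IsLocalization.mk'_spec', ← IsScalarTower.algebraMap_apply]
  have hdepth : LocCoh.depth (Localization.AtPrime p) (Localization.AtPrime p) = 1 := by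
    obtain ⟨a', b', hab⟩ := IsLocalization.exists_mk'_eq (nonZeroDivisors A) y
    have hb'p : (b' : A) ∈ p := by
      rw [hmemp, hN]
      refine ⟨a', ?_⟩
      rw [← hab, Algebra.smul_def, IsLocalization.mk'_spec']
    refine depth_eq_one (FaithfulSMul.algebraMap_injective _ _) y ?_ ?_
      (algebraMap A (Localization.AtPrime p) b') ?_ ?_
    · rintro ⟨z, hz⟩
      obtain ⟨a, s, rfl⟩ := IsLocalization.exists_mk'_eq p.primeCompl z
      have : (s : A) ∈ p := by
        rw [hmemp, hN, ← hz]
        exact ⟨a, (hmk a s).symm⟩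
      exact s.2 this
    · intro r hr
      obtain ⟨a, s, rfl⟩ := IsLocalization.exists_mk'_eq p.primeCompl r
      rw [IsLocalization.AtPrime.mk'_mem_maximal_iff (Localization.AtPrime p) p] at hr
      obtain ⟨c, hc⟩ := (hN _).mp ((hmemp a).mp hr)
      refine ⟨IsLocalization.mk' (Localization.AtPrime p) 1 s *
        algebraMap A (Localization.AtPrime p) c, ?_⟩
      have e1 : IsLocalization.mk' (Localization.AtPrime p) a s =
          algebraMap A (Localization.AtPrime p) a *
            IsLocalization.mk' (Localization.AtPrime p) 1 s :=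
        IsLocalization.mk'_eq_mul_mk'_one a s
      rw [e1, map_mul, map_mul,
        ← IsScalarTower.algebraMap_apply, ← IsScalarTower.algebraMap_apply, hc, Algebra.smul_def]
      ring
    · rw [IsLocalization.AtPrime.to_map_mem_maximal_iff (Localization.AtPrime p) p]
      exact hb'p
    · intro h0
      have h1 : algebraMap A (FractionRing A) b' = 0 := by
        rw [IsScalarTower.algebraMap_apply A (Localization.AtPrime p) (FractionRing A), h0, map_zero]
      have h2 : (b' : A) = 0 := IsFractionRing.injective A (FractionRing A) (by rw [h1, map_zero])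
      exact nonZeroDivisors.ne_zero b'.2 h2
  obtain ⟨z, hz⟩ := hx p hdepth
  obtain ⟨a, s, rfl⟩ := IsLocalization.exists_mk'_eq p.primeCompl z
  have : (s : A) • x ∈ N := by
    rw [hN, ← hz]
    exact ⟨a, (hmk a s).symm⟩
  exact s.2 (hxp _ this)

end Groth.Agent.S16667
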