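import Groth.Statements.S16676
import Groth.Agent.Lib.Helper19.Grp.Homogeneity

set_option autoImplicit false
universe u
open CategoryTheory CategoryTheory.Limits MonoidalCategory CartesianMonoidalCategory MonObj GrpObj AlgebraicGeometry
open AbVar

namespace Groth.Agent.S16676

/-- The equivalence of its second and third conditions. Let X and Y be abelian varieties over a field k
(proper, geometrically integral k-group schemes), f : X → Y a homomorphism which is finite, flat and
surjective (an isogeny), and i : N → X the kernel of f (the square formed by i, f, the unit section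
of Y and the structure map of N is cartesian). Then f is universally injective (a purely inseparable
morphism) if and only if the scheme N is connected. (The published item also includes the equivalent
condition that the function field of X is purely inseparable over that of Y; that clause is not part
of this statement.) -/
theorem result (k : Type u) [Field k]
    (X Y : Over (Spec (CommRingCat.of k)))
    [GrpObj X] [IsProper X.hom] [GeometricallyIntegral X.hom]
    [GrpObj Y] [IsProper Y.hom] [GeometricallyIntegral Y.hom]
    (f : X ⟶ Y) [IsMonHom f] [IsFinite f.left] [Flat f.left] [Surjective f.left]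
    (N : Over (Spec (CommRingCat.of k))) (i : N ⟶ X) (hN : AlgGrp.IsKernel i f) :
    UniversallyInjective f.left ↔ ConnectedSpace ↥N.left := by
  have sqN := hN.map (Over.forget _)
  simp only [Over.forget_obj, Over.forget_map] at sqN
  have hNhom : (toUnit N).left = N.hom := Groth.Agent.Lib.Helper19.toUnit_left_eq N
  rw [hNhom] at sqN
  -- the unit point of `N`
  obtain ⟨e, he, -⟩ := hN.exists_lift η[X] (𝟙 _) (by rw [IsMonHom.one_hom, Category.id_comp])
  obtain ⟨pt⟩ : Nonempty ↥(𝟙_ (Over (Spec (CommRingCat.of k)))).left :=
    inferInstanceAs (Nonempty (PrimeSpectrum k))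
  haveI : Nonempty ↥N.left := ⟨e.left pt⟩
  constructor
  · intro hf
    haveI : UniversallyInjective N.hom :=
      MorphismProperty.of_isPullback (P := @UniversallyInjective) sqN hf
    haveI : Subsingleton ↥N.left :=
      ⟨fun a b => N.hom.injective (Subsingleton.elim (α := PrimeSpectrum k) _ _)⟩
    exact { toPreconnectedSpace := inferInstance, toNonempty := inferInstance }
  · intro hconn
    -- `N` is a one-point space
    haveI : IsFinite N.hom := MorphismProperty.of_isPullback (P := @IsFinite) sqN inferInstance
    haveI : LocallyQuasiFinite N.hom := inferInstance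
    have hdisc : DiscreteTopology ↥N.left := by
      rw [← isDiscrete_univ_iff]
      have := N.hom.isDiscrete_preimage_singleton (N.hom (e.left pt))
      convert this
      symm
      rw [Set.eq_univ_iff_forall]
      intro x
      exact Subsingleton.elim (α := PrimeSpectrum k) _ _
    haveI : Subsingleton ↥N.left := PreconnectedSpace.trivial_of_discrete
    haveI : Surjective e.left := ⟨fun y => ⟨pt, Subsingleton.elim _ _⟩⟩
    rw [UniversallyInjective.iff_diagonal]
    constructor
    intro z
    -- the scheme `X ×_Y X` as a `k`-scheme with its two projections
    let T : Over (Spec (CommRingCat.of k)) :=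
      Over.mk (Limits.pullback.fst f.left f.left ≫ X.hom)
    let p₁ : T ⟶ X := Over.homMk (Limits.pullback.fst f.left f.left) rfl
    let p₂ : T ⟶ X := Over.homMk (Limits.pullback.snd f.left f.left) (by
      show Limits.pullback.snd f.left f.left ≫ X.hom = Limits.pullback.fst f.left f.left ≫ X.hom
      rw [← Over.w f, ← Category.assoc, ← Category.assoc, Limits.pullback.condition])
    have hp : p₁ ≫ f = p₂ ≫ f := by
      ext
      exact Limits.pullback.condition
    let w : T ⟶ X := p₁ * p₂⁻¹
    have hw : w ≫ f = toUnit T ≫ η[Y] := by
      show (p₁ * p₂⁻¹) ≫ f = _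
      rw [MonObj.mul_comp, GrpObj.inv_comp, hp, _root_.mul_inv_cancel, Hom.one_def]
    obtain ⟨n, hn, -⟩ := hN.exists_lift w (toUnit T) hw
    -- the fibre of `n` over the unit point
    obtain ⟨z', hz'⟩ := (Limits.pullback.fst n.left e.left).surjective z
    let T' : Over (Spec (CommRingCat.of k)) :=
      Over.mk (Limits.pullback.fst n.left e.left ≫ T.hom)
    let q : T' ⟶ T := Over.homMk (Limits.pullback.fst n.left e.left) rfl
    have hqn : q ≫ n = toUnit T' ≫ e := by
      ext
      have h1 : (toUnit T').left = Limits.pullback.snd n.left e.left := by
        rw [Groth.Agent.Lib.Helper19.toUnit_left_eq]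
        show Limits.pullback.fst n.left e.left ≫ T.hom = _
        rw [← Over.w n, ← Category.assoc, Limits.pullback.condition, Category.assoc, Over.w e]
        exact Category.comp_id _
      rw [Over.comp_left, Over.comp_left, h1]
      exact Limits.pullback.condition
    have hqw : q ≫ w = 1 := by
      rw [← hn, ← Category.assoc, hqn, Category.assoc, he, Hom.one_def]
    have hq12 : q ≫ p₁ = q ≫ p₂ := by
      have : (q ≫ p₁) * (q ≫ p₂)⁻¹ = 1 := by
        rw [← GrpObj.comp_inv, ← MonObj.comp_mul]
        exact hqw
      exact mul_inv_eq_one.mp this
    have hq12l : q.left ≫ Limits.pullback.fst f.left f.left =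
        q.left ≫ Limits.pullback.snd f.left f.left := by
      have := congrArg (fun ψ => ψ.left) hq12
      exact this
    have hfac : q.left = (q.left ≫ Limits.pullback.fst f.left f.left) ≫
        Limits.pullback.diagonal f.left := by
      apply Limits.pullback.hom_ext
      · rw [Category.assoc, Limits.pullback.diagonal_fst, Category.comp_id]
      · rw [Category.assoc, Limits.pullback.diagonal_snd, Category.comp_id, hq12l]
    refine ⟨(q.left ≫ Limits.pullback.fst f.left f.left) z', ?_⟩
    rw [← Scheme.Hom.comp_apply, ← hfac]
    exact hz'

end Groth.Agent.S16676
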