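import Groth.Statements.S7599
import Mathlib
import Groth.Agent.Lib.Helper51.StalkBCProp
import Groth.Agent.Lib.Helper51.GenericRed
import Groth.Agent.Lib.Helper51.GeomNormal

set_option autoImplicit false
universe u
open CategoryTheory CategoryTheory.Limits AlgebraicGeometry
attribute [local instance] Curv2.stalkAlgebra
open scoped TensorProduct
open Variety

namespace Groth.Agent.S7599

/-- Let X be a scheme over a field k and x a point of X. These conditions are equivalent: (1) the scheme
X is geometrically normal at x (meaning: for any extension field k' and any point x' of X_{k'} over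
x the local ring O_{X_{k'}, x'} is an integrally closed domain); (2) the same for the finite purely
inseparable extensions k' of k only; (3) for every extension field k' of k the ring k' ⊗_k O_{X, x}
is normal (all its localisations at primes are integrally closed domains). Stated as (1) ↔ (2)
together with (2) ↔ (3). -/
theorem result (k : Type u) [Field k] (X : Scheme.{u}) [X.Over (Spec (CommRingCat.of k))] (x : ↥X) :
    ((∀ (k' : Type u) [Field k'] [Algebra k k'] (x' : ↥(Curv2.bc k X k')), Curv2.bcFst k X k' x' = x →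
          IsDomain ↥((Curv2.bc k X k').presheaf.stalk x') ∧ IsIntegrallyClosed ↥((Curv2.bc k X k').presheaf.stalk x')) ↔
      (∀ (k' : Type u) [Field k'] [Algebra k k'] [FiniteDimensional k k'] [IsPurelyInseparable k k'] (x' : ↥(Curv2.bc k X k')), Curv2.bcFst k X k' x' = x →
          IsDomain ↥((Curv2.bc k X k').presheaf.stalk x') ∧ IsIntegrallyClosed ↥((Curv2.bc k X k').presheaf.stalk x'))) ∧
    ((∀ (k' : Type u) [Field k'] [Algebra k k'] [FiniteDimensional k k'] [IsPurelyInseparable k k'] (x' : ↥(Curv2.bc k X k')), Curv2.bcFst k X k' x' = x →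
          IsDomain ↥((Curv2.bc k X k').presheaf.stalk x') ∧ IsIntegrallyClosed ↥((Curv2.bc k X k').presheaf.stalk x')) ↔
      ∀ (k' : Type u) [Field k'] [Algebra k k'], EGA4.IsNormalRing (k' ⊗[k] ↥(X.presheaf.stalk x))) := by
  classical
  set f := X ↘ (Spec (CommRingCat.of k)) with hf
  have hψ := Groth.Agent.Lib.Helper51.specMap_stalkMapOf f x
  have hP : ∀ (R S : Type u) [CommRing R] [CommRing S], (R ≃+* S) →
      (IsDomain R ∧ IsIntegrallyClosed R) → (IsDomain S ∧ IsIntegrallyClosed S) :=
    fun R S _ _ e h => ⟨e.toMulEquiv.isDomain_iff.mp h.1, by haveI := h.2; exact IsIntegrallyClosed.of_equiv e⟩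
  -- (3) ⇒ (1)
  have h31 : (∀ (k' : Type u) [Field k'] [Algebra k k'], EGA4.IsNormalRing (k' ⊗[k] ↥(X.presheaf.stalk x))) →
      (∀ (k' : Type u) [Field k'] [Algebra k k'] (x' : ↥(Curv2.bc k X k')), Curv2.bcFst k X k' x' = x →
          IsDomain ↥((Curv2.bc k X k').presheaf.stalk x') ∧
            IsIntegrallyClosed ↥((Curv2.bc k X k').presheaf.stalk x')) := by
    intro h3 k' _ _ x' hx'
    have hN3 : EGA4.IsNormalRing (↥(X.presheaf.stalk x) ⊗[k] k') :=
      Groth.Agent.Lib.Helper57.isNormalRing_of_ringEquiv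
        (Algebra.TensorProduct.comm k k' (X.presheaf.stalk x)).toRingEquiv (h3 k')
    exact Groth.Agent.Lib.Helper51.stalk_of_forall_prime_of_specializes f x hψ k'
      (fun R _ => IsDomain R ∧ IsIntegrallyClosed R) hP (fun q _ => hN3 q) x' (by rw [hx'])
  -- (2) ⇒ (3)
  have h23 : (∀ (k' : Type u) [Field k'] [Algebra k k'] [FiniteDimensional k k'] [IsPurelyInseparable k k']
        (x' : ↥(Curv2.bc k X k')), Curv2.bcFst k X k' x' = x →
          IsDomain ↥((Curv2.bc k X k').presheaf.stalk x') ∧
            IsIntegrallyClosed ↥((Curv2.bc k X k').presheaf.stalk x')) →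
      (∀ (k' : Type u) [Field k'] [Algebra k k'], EGA4.IsNormalRing (k' ⊗[k] ↥(X.presheaf.stalk x))) := by
    intro h2 K _ _
    apply Groth.Agent.Lib.Helper51.isNormalRing_tensor_of_forall_purelyInseparable' k
    intro k' _ _ hfin hpi
    haveI := hfin
    haveI := hpi
    have hN : EGA4.IsNormalRing (↥(X.presheaf.stalk x) ⊗[k] k') := by
      apply Groth.Agent.Lib.Helper51.isNormalRing_of_forall_maximal
      intro 𝔐 h𝔐
      exact Groth.Agent.Lib.Helper51.atMaximal_of_forall_stalk f x hψ k'
        (fun R _ => IsDomain R ∧ IsIntegrallyClosed R) hP (fun y hy => h2 k' y hy) 𝔐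
    exact Groth.Agent.Lib.Helper57.isNormalRing_of_ringEquiv
      (Algebra.TensorProduct.comm k (X.presheaf.stalk x) k').toRingEquiv hN
  refine ⟨⟨fun h1 k' _ _ _ _ x' hx' => h1 k' x' hx', fun h2 => h31 (h23 h2)⟩, ⟨h23, fun h3 => ?_⟩⟩
  intro k' _ _ _ _ x' hx'
  exact h31 h3 k' x' hx'

end Groth.Agent.S7599
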