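import Groth.Statements.S16685
import Mathlib
import Groth.Agent.Lib.Helper66.TruncPoly
open Groth.Agent.Lib.Helper66.TruncPoly

set_option autoImplicit false
universe u
open HopfRep

namespace Groth.Agent.S16685

/-- The description of the kernel of Frobenius established in the course of the proof. Let k be a field
of characteristic p > 0 and A a finite-dimensional commutative Hopf algebra over k which is a local
ring, the coordinate ring of a connected finite k-group scheme G; let I be the augmentation ideal
(the kernel of the counit), d = dim_k I/I² the dimension of the tangent space at the identity, and J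
⊆ A the ideal generated by the p-th powers of the elements of I, so that A/J is the coordinate ring
of the kernel G[F] of the relative Frobenius. Then A/J is isomorphic as a k-algebra to k[X_1, …,
X_d]/(X_1^p, …, X_d^p) (existence of an isomorphism; it depends on the choice of elements of I
lifting a basis of I/I²); in particular G[F] has rank p^d. -/
theorem result (k : Type u) [Field k] (p : ℕ) [Fact p.Prime] [CharP k p]
    (A : Type u) [CommRing A] [HopfAlgebra k A] [FiniteDimensional k A] [IsLocalRing A]
    (d : ℕ) (hd : Module.finrank k (RingHom.ker (Bialgebra.counitAlgHom k A).toRingHom).Cotangent = d) :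
    Nonempty ((A ⧸ Ideal.span ((fun a : A => a ^ p) '' (RingHom.ker (Bialgebra.counitAlgHom k A).toRingHom : Set A))) ≃ₐ[k]
      (MvPolynomial (Fin d) k ⧸ Ideal.span (Set.range fun i : Fin d => (MvPolynomial.X i : MvPolynomial (Fin d) k) ^ p))) := by
  set I : Ideal A := RingHom.ker (Bialgebra.counitAlgHom k A).toRingHom with hIdef
  have hp : 0 < p := (Fact.out : p.Prime).pos
  have hI : ∀ a, a ∈ I ↔ Coalgebra.counit (R := k) a = 0 := fun a => by
    rw [hIdef, RingHom.mem_ker]; rfl
  have hnoeth : IsNoetherianRing A := isNoetherian_of_tower k (inferInstance : IsNoetherian k A)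
  have hart : IsArtinianRing A := IsArtinianRing.of_finite k A
  have hfg : I.FG := IsNoetherian.noetherian I
  have hne : I ≠ ⊤ := by
    intro h
    have : (1 : A) ∈ I := by rw [h]; trivial
    rw [hI, Bialgebra.counit_one] at this
    exact one_ne_zero this
  have hjac : I ≤ Ideal.jacobson ⊥ := by
    rw [IsLocalRing.jacobson_eq_maximalIdeal _ bot_ne_top]
    exact IsLocalRing.le_maximalIdeal hne
  obtain ⟨N, hN0⟩ := IsArtinianRing.isNilpotent_jacobson_bot (R := A)
  have hN : I ^ N = ⊥ := by
    rw [eq_bot_iff]
    calc I ^ N ≤ (Ideal.jacobson ⊥) ^ N := Ideal.pow_right_mono hjac N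
      _ = ⊥ := hN0
  have hfin : Module.Finite k I.Cotangent := by
    refine Module.Finite.of_surjective ((I.toCotangent.restrictScalars k) ∘ₗ augProj I hI) ?_
    intro y
    obtain ⟨z, rfl⟩ := I.toCotangent_surjective y
    exact ⟨z, by rw [LinearMap.comp_apply, augProj_of_mem I hI z z.2]; rfl⟩
  let b := Module.finBasisOfFinrankEq k I.Cotangent hd
  choose y hy using fun i => I.toCotangent_surjective (b i)
  obtain ⟨hspan, hinj⟩ := hopf_field_main p I hI hfg N hN b (fun i => (y i : A)) (fun i => (y i).2)
    (fun i => hy i)
  exact algEquiv_of_reduced (R := k) (fun i => (y i : A))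
    (Ideal.span ((fun a : A => a ^ p) '' (I : Set A))) p hp
    (fun i => Ideal.subset_span ⟨_, (y i).2, rfl⟩)
    (fun a => by
      obtain ⟨P, hP⟩ := aeval_surjective (Bialgebra.counitAlgHom k A) I (fun a => by rw [hI]; rfl)
        (fun i => (y i : A)) hspan N hN a
      exact ⟨P, by rw [hP, sub_self]; exact zero_mem _⟩)
    hinj

end Groth.Agent.S16685
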