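import Groth.Statements.S16688
import Groth.Agent.Lib.Helper99.TotalIntegral

set_option autoImplicit false
universe u v w
open ComodSub

namespace Groth.Agent.S16688

open TensorProduct

section Aux

variable {k : Type u} [CommRing k] {A : Type v} [CommRing A] [HopfAlgebra k A]
  {M : Type w} [AddCommGroup M] [Module k M]

/-- `a ⊗ (b ⊗ m) ↦ m ⊗ (S b ⊗ S a)`. -/
noncomputable def Phi : A ⊗[k] (A ⊗[k] M) →ₗ[k] M ⊗[k] (A ⊗[k] A) :=
  (LinearMap.lTensor M ((TensorProduct.map (HopfAlgebraStruct.antipode (R := k) (A := A))
      (HopfAlgebraStruct.antipode (R := k) (A := A))) ∘ₗ (TensorProduct.comm k A A).toLinearMap)) ∘ₗ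
    (TensorProduct.comm k (A ⊗[k] A) M).toLinearMap ∘ₗ (TensorProduct.assoc k A A M).symm.toLinearMap

theorem Phi_tmul (a b : A) (m : M) :
    Phi (k := k) (a ⊗ₜ[k] (b ⊗ₜ[k] m)) =
      m ⊗ₜ[k] (HopfAlgebraStruct.antipode (R := k) b ⊗ₜ[k] HopfAlgebraStruct.antipode (R := k) a) := by
  simp [Phi]

theorem lhs_eq (l : ComodSub.LComod k A M) (m : M) :
    (TensorProduct.assoc k M A A) ((ComodSub.rcoactOfLeft l).rTensor A (ComodSub.rcoactOfLeft l m)) =
      Phi (k := k) (l.coact.lTensor A (l.coact m)) := by
  rw [ComodSub.rcoactOfLeft_apply l m]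
  induction l.coact m using TensorProduct.induction_on with
  | zero => simp
  | add x y hx hy => simp only [map_add, hx, hy]
  | tmul a m' =>
    simp only [LinearMap.rTensor_tmul, TensorProduct.comm_tmul, LinearMap.lTensor_tmul]
    rw [ComodSub.rcoactOfLeft_apply l m']
    induction l.coact m' using TensorProduct.induction_on with
    | zero => simp
    | add x y hx hy => simp only [map_add, TensorProduct.add_tmul, TensorProduct.tmul_add, hx, hy]
    | tmul b m'' =>
      simp only [LinearMap.rTensor_tmul, TensorProduct.comm_tmul, TensorProduct.assoc_tmul, Phi_tmul]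

theorem rhs_eq (l : ComodSub.LComod k A M) (m : M) :
    (CoalgebraStruct.comul (R := k) (A := A)).lTensor M (ComodSub.rcoactOfLeft l m) =
      Phi (k := k) ((TensorProduct.assoc k A A M)
        ((CoalgebraStruct.comul (R := k) (A := A)).rTensor M (l.coact m))) := by
  rw [ComodSub.rcoactOfLeft_apply l m]
  induction l.coact m using TensorProduct.induction_on with
  | zero => simp
  | add x y hx hy => simp only [map_add, hx, hy]
  | tmul a m' =>
    simp only [LinearMap.rTensor_tmul, TensorProduct.comm_tmul, LinearMap.lTensor_tmul]
    have h := Groth.Agent.Lib.Helper99.comul_antipode k A a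
    change CoalgebraStruct.comul (R := k) (HopfAlgebraStruct.antipode (R := k) a) = _ at h
    rw [h]
    induction (CoalgebraStruct.comul (R := k) a : A ⊗[k] A) using TensorProduct.induction_on with
    | zero => simp
    | add x y hx hy => simp only [map_add, TensorProduct.add_tmul, TensorProduct.tmul_add, hx, hy]
    | tmul b c =>
      simp only [TensorProduct.comm_tmul, TensorProduct.map_tmul, TensorProduct.assoc_tmul, Phi_tmul]

end Aux

/-- Let `k` be a commutative ring, `A` a commutative Hopf algebra over `k` with antipode `S`, and `M` a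
`k`-module with a left `A`-comodule structure `m ↦ Σ m₋₁ ⊗ m₀`. Then the map `M → M ⊗ A`, `m ↦ Σ m₀
⊗ S(m₋₁)`, is coassociative and counital: it is the coaction of a right `A`-comodule structure on
`M` (a right structure is determined by its coaction, so this structure is unique). -/
theorem result (k : Type u) [CommRing k]
    (A : Type v) [CommRing A] [HopfAlgebra k A]
    (M : Type w) [AddCommGroup M] [Module k M] (l : ComodSub.LComod k A M) :
    ∃ c : HopfRep.Comod k A M, c.coact = ComodSub.rcoactOfLeft l := by
  refine ⟨{ coact := ComodSub.rcoactOfLeft l, coassoc := ?_, counit_comp := ?_ }, rfl⟩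
  · apply LinearMap.ext
    intro m
    simp only [LinearMap.comp_apply, LinearEquiv.coe_coe]
    rw [lhs_eq, rhs_eq]
    have h := LinearMap.congr_fun l.coassoc m
    simp only [LinearMap.comp_apply, LinearEquiv.coe_coe] at h
    rw [h]
  · apply LinearMap.ext
    intro m
    simp only [LinearMap.comp_apply]
    rw [ComodSub.rcoactOfLeft_apply l m]
    have h := LinearMap.congr_fun l.counit_comp m
    simp only [LinearMap.comp_apply] at h
    have key : ∀ x : A ⊗[k] M, (CoalgebraStruct.counit (R := k) (A := A)).lTensor M
        (TensorProduct.comm k A M ((HopfAlgebraStruct.antipode (R := k) (A := A)).rTensor M x)) =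
        TensorProduct.comm k k M ((CoalgebraStruct.counit (R := k) (A := A)).rTensor M x) := by
      intro x
      induction x using TensorProduct.induction_on with
      | zero => simp
      | add x y hx hy => simp only [map_add, hx, hy]
      | tmul a m' =>
        simp only [LinearMap.rTensor_tmul, TensorProduct.comm_tmul, LinearMap.lTensor_tmul]
        congr 1
        exact HopfAlgebra.counit_antipode (R := k) a
    rw [key, h]
    simp

end Groth.Agent.S16688
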