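import Groth.Statements.S16689
import Groth.Agent.Lib.Helper99.TotalIntegral

set_option autoImplicit false
universe u v w
open ComodSub

namespace Groth.Agent.S16689

open TensorProduct

section Aux

variable {k : Type u} [CommRing k] {A : Type v} [CommRing A] [HopfAlgebra k A]
  {M : Type w} [AddCommGroup M] [Module k M]

/-- `(m ⊗ a) ⊗ b ↦ S b ⊗ (S a ⊗ m)`. -/
noncomputable def Phi : (M ⊗[k] A) ⊗[k] A →ₗ[k] A ⊗[k] (A ⊗[k] M) :=
  (TensorProduct.assoc k A A M).toLinearMap ∘ₗ
  (LinearMap.rTensor M ((TensorProduct.map (HopfAlgebraStruct.antipode (R := k) (A := A))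
      (HopfAlgebraStruct.antipode (R := k) (A := A))) ∘ₗ (TensorProduct.comm k A A).toLinearMap)) ∘ₗ
    (TensorProduct.comm k M (A ⊗[k] A)).toLinearMap ∘ₗ (TensorProduct.assoc k M A A).toLinearMap

theorem Phi_tmul (a b : A) (m : M) :
    Phi (k := k) ((m ⊗ₜ[k] a) ⊗ₜ[k] b) =
      HopfAlgebraStruct.antipode (R := k) b ⊗ₜ[k] (HopfAlgebraStruct.antipode (R := k) a ⊗ₜ[k] m) := by
  simp [Phi]

theorem lhs_eq (c : HopfRep.Comod k A M) (m : M) :
    (ComodSub.lcoactOfRight c).lTensor A (ComodSub.lcoactOfRight c m) =
      Phi (k := k) (c.coact.rTensor A (c.coact m)) := by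
  rw [ComodSub.lcoactOfRight_apply c m]
  induction c.coact m using TensorProduct.induction_on with
  | zero => simp
  | add x y hx hy => simp only [map_add, hx, hy]
  | tmul m' a =>
    simp only [LinearMap.rTensor_tmul, TensorProduct.comm_tmul, LinearMap.lTensor_tmul]
    rw [ComodSub.lcoactOfRight_apply c m']
    induction c.coact m' using TensorProduct.induction_on with
    | zero => simp
    | add x y hx hy => simp only [map_add, TensorProduct.add_tmul, TensorProduct.tmul_add, hx, hy]
    | tmul m'' b =>
      simp only [LinearMap.lTensor_tmul, TensorProduct.comm_tmul, Phi_tmul]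

theorem rhs_eq (c : HopfRep.Comod k A M) (m : M) :
    (TensorProduct.assoc k A A M)
      ((CoalgebraStruct.comul (R := k) (A := A)).rTensor M (ComodSub.lcoactOfRight c m)) =
      Phi (k := k) ((TensorProduct.assoc k M A A).symm
        ((CoalgebraStruct.comul (R := k) (A := A)).lTensor M (c.coact m))) := by
  rw [ComodSub.lcoactOfRight_apply c m]
  induction c.coact m using TensorProduct.induction_on with
  | zero => simp
  | add x y hx hy => simp only [map_add, hx, hy]
  | tmul m' a =>
    simp only [LinearMap.rTensor_tmul, TensorProduct.comm_tmul, LinearMap.lTensor_tmul]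
    have h := Groth.Agent.Lib.Helper99.comul_antipode k A a
    change CoalgebraStruct.comul (R := k) (HopfAlgebraStruct.antipode (R := k) a) = _ at h
    rw [h]
    induction (CoalgebraStruct.comul (R := k) a : A ⊗[k] A) using TensorProduct.induction_on with
    | zero => simp
    | add x y hx hy => simp only [map_add, TensorProduct.add_tmul, TensorProduct.tmul_add, hx, hy]
    | tmul b d =>
      simp only [TensorProduct.comm_tmul, TensorProduct.map_tmul, TensorProduct.assoc_tmul,
        TensorProduct.assoc_symm_tmul, Phi_tmul]

end Aux

/-- Let `k` be a commutative ring, `A` a commutative Hopf algebra over `k` with antipode `S`, and `M` a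
`k`-module with a right `A`-comodule structure `m ↦ Σ m₀ ⊗ m₁`. Then the map `M → A ⊗ M`, `m ↦ Σ
S(m₁) ⊗ m₀`, is coassociative and counital: it is the coaction of a left `A`-comodule structure on
`M` (a left structure is determined by its coaction, so this structure is unique). -/
theorem result (k : Type u) [CommRing k]
    (A : Type v) [CommRing A] [HopfAlgebra k A]
    (M : Type w) [AddCommGroup M] [Module k M] (c : HopfRep.Comod k A M) :
    ∃ l : ComodSub.LComod k A M, l.coact = ComodSub.lcoactOfRight c := by
  refine ⟨{ coact := ComodSub.lcoactOfRight c, coassoc := ?_, counit_comp := ?_ }, rfl⟩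
  · apply LinearMap.ext
    intro m
    simp only [LinearMap.comp_apply, LinearEquiv.coe_coe]
    rw [lhs_eq, rhs_eq]
    have h := LinearMap.congr_fun c.coassoc m
    simp only [LinearMap.comp_apply, LinearEquiv.coe_coe] at h
    rw [← h, LinearEquiv.symm_apply_apply]
  · apply LinearMap.ext
    intro m
    simp only [LinearMap.comp_apply]
    rw [ComodSub.lcoactOfRight_apply c m]
    have h := LinearMap.congr_fun c.counit_comp m
    simp only [LinearMap.comp_apply] at h
    have key : ∀ x : M ⊗[k] A, (CoalgebraStruct.counit (R := k) (A := A)).rTensor M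
        (TensorProduct.comm k M A ((HopfAlgebraStruct.antipode (R := k) (A := A)).lTensor M x)) =
        TensorProduct.comm k M k ((CoalgebraStruct.counit (R := k) (A := A)).lTensor M x) := by
      intro x
      induction x using TensorProduct.induction_on with
      | zero => simp
      | add x y hx hy => simp only [map_add, hx, hy]
      | tmul m' a =>
        simp only [LinearMap.rTensor_tmul, TensorProduct.comm_tmul, LinearMap.lTensor_tmul]
        congr 1
        exact HopfAlgebra.counit_antipode (R := k) a
    rw [key, h]
    simp

end Groth.Agent.S16689
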