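import Groth.Statements.S1669
import Mathlib
import Groth.Agent.Lib.Helper51.StalkBCProp
import Groth.Agent.Lib.Helper51.GenericRed
import Groth.Agent.Lib.Helper56.GeomRegExt
import Groth.Agent.Lib.Helper77.RegularLocalization

set_option autoImplicit false
universe u
open CategoryTheory CategoryTheory.Limits AlgebraicGeometry
open Variety

namespace Groth.Agent.S1669

/-- Let X be a locally Noetherian scheme over k such that X_{k'} has regular local rings for every
finite purely inseparable extension k' of k. Then X is geometrically regular over k at every point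
(its base change to any finitely generated field extension has regular local rings). -/
theorem result (k : Type u) [Field k] (X : Scheme.{u}) [X.Over (Spec (CommRingCat.of k))] [IsLocallyNoetherian X]
    (h : ∀ (k' : Type u) [Field k'] [Algebra k k'] [FiniteDimensional k k'] [IsPurelyInseparable k k']
      (x' : Curv2.bc k X k'), IsRegularLocalRing ((Curv2.bc k X k').presheaf.stalk x'))
    (x : X) : Curv2.IsGeomRegularAt k X x := by
  intro K _ _ hfg x' hx'
  letI := Groth.Agent.Lib.Helper51.stalkAlg (X ↘ (Spec (CommRingCat.of k))) x
  have hψ := Groth.Agent.Lib.Helper51.specMap_stalkMapOf (X ↘ (Spec (CommRingCat.of k))) x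
  haveI : IsNoetherianRing ↥(X.presheaf.stalk x) := inferInstance
  haveI : Algebra.EssFiniteType k K := IntermediateField.fg_top_iff.mp hfg
  have hP : ∀ (R S : Type u) [CommRing R] [CommRing S], (R ≃+* S) →
      IsRegularLocalRing R → IsRegularLocalRing S :=
    fun R S _ _ e h => by haveI := h; exact IsRegularLocalRing.of_ringEquiv e
  have hreg : IsRegularRing (TensorProduct k K ↥(X.presheaf.stalk x)) := by
    refine Groth.Agent.Lib.Helper56.isRegularRing_tensor_of_forall_purelyInseparable k
      ↥(X.presheaf.stalk x) (fun k' _ _ hfin hpi => ?_) K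
    haveI := hfin
    haveI := hpi
    haveI : Module.Finite ↥(X.presheaf.stalk x) (TensorProduct k ↥(X.presheaf.stalk x) k') :=
      inferInstance
    haveI : IsNoetherianRing (TensorProduct k ↥(X.presheaf.stalk x) k') :=
      IsNoetherianRing.of_finite ↥(X.presheaf.stalk x) _
    haveI hN : IsRegularRing (TensorProduct k ↥(X.presheaf.stalk x) k') := by
      apply Groth.Agent.Lib.Helper77.RegularLocalization.isRegularRing_of_maximal
      intro 𝔐 h𝔐
      exact Groth.Agent.Lib.Helper51.atMaximal_of_forall_stalk (X ↘ (Spec (CommRingCat.of k))) x hψ k'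
        (fun R _ => IsRegularLocalRing R) hP (fun y _ => h k' y) 𝔐
    exact IsRegularRing.of_ringEquiv
      (Algebra.TensorProduct.comm k ↥(X.presheaf.stalk x) k').toRingEquiv
  haveI hreg' : IsRegularRing (TensorProduct k ↥(X.presheaf.stalk x) K) :=
    IsRegularRing.of_ringEquiv (Algebra.TensorProduct.comm k K ↥(X.presheaf.stalk x)).toRingEquiv
  exact Groth.Agent.Lib.Helper51.stalk_of_forall_prime_of_specializes
    (X ↘ (Spec (CommRingCat.of k))) x hψ K (fun R _ => IsRegularLocalRing R) hP
    (fun q _ => IsRegularRing.isRegularLocalRing_localization q) x' (by rw [show pullback.fst (X ↘ (Spec (CommRingCat.of k)))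
      (Spec.map (CommRingCat.ofHom (algebraMap k K))) x' = x from hx'])

end Groth.Agent.S1669
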