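import Groth.Statements.S16690
import Groth.Agent.Lib.Helper10.DualTensorFP

set_option autoImplicit false
universe u v w
open ComodSub

namespace Groth.Agent.S16690

open TensorProduct
open Groth.Agent.Lib.Helper10.DualTensorFP

section Aux

variable {k : Type u} [CommRing k]
    {A : Type v} [AddCommGroup A] [Module k A] [Coalgebra k A]
    {M : Type w} [AddCommGroup M] [Module k M]

/-- `g ↦ ldualFun c g`, as a linear map. -/
noncomputable def L (c : HopfRep.Comod k A M) : Module.Dual k M →ₗ[k] (M →ₗ[k] A) where
  toFun g := ComodSub.ldualFun c g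
  map_add' g g' := by
    unfold ComodSub.ldualFun
    rw [LinearMap.rTensor_add, LinearMap.add_comp, LinearMap.comp_add]
  map_smul' r g := by
    unfold ComodSub.ldualFun
    rw [LinearMap.rTensor_smul, LinearMap.smul_comp, LinearMap.comp_smul]
    rfl

theorem L_apply (c : HopfRep.Comod k A M) (g : Module.Dual k M) (m : M) :
    L c g m = TensorProduct.lid k A (g.rTensor A (c.coact m)) := rfl

/-- `Θ_g (assoc (x ⊗ a)) = lid (g ⊗ id) x ⊗ a` -/
theorem theta_assoc (g : Module.Dual k M) (w : (M ⊗[k] A) ⊗[k] A) :
    TensorProduct.lid k (A ⊗[k] A) (g.rTensor (A ⊗[k] A) (TensorProduct.assoc k M A A w)) =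
      ((TensorProduct.lid k A).toLinearMap ∘ₗ g.rTensor A).rTensor A w := by
  induction w using TensorProduct.induction_on with
  | zero => simp
  | add x y hx hy => simp only [map_add, hx, hy]
  | tmul x a =>
    induction x using TensorProduct.induction_on with
    | zero => simp
    | add x y hx hy => simp only [map_add, TensorProduct.add_tmul, hx, hy]
    | tmul m a' =>
      simp [TensorProduct.smul_tmul']

theorem theta_comul (g : Module.Dual k M) (w : M ⊗[k] A) :
    TensorProduct.lid k (A ⊗[k] A) (g.rTensor (A ⊗[k] A)
      ((CoalgebraStruct.comul (R := k) (A := A)).lTensor M w)) =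
      CoalgebraStruct.comul (R := k) (A := A) (TensorProduct.lid k A (g.rTensor A w)) := by
  induction w using TensorProduct.induction_on with
  | zero => simp
  | add x y hx hy => simp only [map_add, hx, hy]
  | tmul m a => simp

/-- lemma (ii): `(L g ⊗ id) ∘ ρ = Δ ∘ L g` -/
theorem L_rTensor_coact (c : HopfRep.Comod k A M) (g : Module.Dual k M) (m : M) :
    (L c g).rTensor A (c.coact m) = CoalgebraStruct.comul (R := k) (A := A) (L c g m) := by
  have h1 : (L c g).rTensor A (c.coact m) =
      ((TensorProduct.lid k A).toLinearMap ∘ₗ g.rTensor A).rTensor A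
        (c.coact.rTensor A (c.coact m)) := by
    rw [← LinearMap.comp_apply (((TensorProduct.lid k A).toLinearMap ∘ₗ g.rTensor A).rTensor A),
      ← LinearMap.rTensor_comp]
    rfl
  rw [h1, ← theta_assoc]
  have h2 := LinearMap.congr_fun c.coassoc m
  simp only [LinearMap.coe_comp, Function.comp_apply, LinearEquiv.coe_coe] at h2
  rw [h2, theta_comul]
  rfl

theorem counit_L (c : HopfRep.Comod k A M) (g : Module.Dual k M) (m : M) :
    CoalgebraStruct.counit (R := k) (A := A) (L c g m) = g m := by
  have h0 : ∀ w : M ⊗[k] A, CoalgebraStruct.counit (R := k) (A := A)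
      (TensorProduct.lid k A (g.rTensor A w)) =
      TensorProduct.lid k k (g.rTensor k
        ((CoalgebraStruct.counit (R := k) (A := A)).lTensor M w)) := by
    intro w
    induction w using TensorProduct.induction_on with
    | zero => simp
    | add x y hx hy => simp only [map_add, hx, hy]
    | tmul m a => simp
  rw [L_apply, h0]
  have h2 := LinearMap.congr_fun c.counit_comp m
  simp only [LinearMap.coe_comp, Function.comp_apply, LinearMap.flip_apply,
    TensorProduct.mk_apply] at h2
  rw [h2]
  simp

/-- sublemma: reading `assoc.symm (a ⊗ z)` -/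
theorem T_assoc_symm_tmul (a : A) (z : A ⊗[k] Module.Dual k M) (m : M) :
    T k M (A ⊗[k] A) ((TensorProduct.assoc k A A (Module.Dual k M)).symm (a ⊗ₜ[k] z)) m =
      a ⊗ₜ[k] (T k M A z m) := by
  induction z using TensorProduct.induction_on with
  | zero => simp
  | add x y hx hy =>
    simp only [map_add, TensorProduct.tmul_add, LinearMap.add_apply, hx, hy]
  | tmul a' ψ =>
    simp [TensorProduct.tmul_smul]

end Aux

section Main

variable {k : Type u} [CommRing k]
    {A : Type v} [AddCommGroup A] [Module k A] [Coalgebra k A] [Module.Flat k A]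
    {M : Type w} [AddCommGroup M] [Module k M] [Module.FinitePresentation k M]

/-- the left coaction on the dual -/
noncomputable def lam (c : HopfRep.Comod k A M) : Module.Dual k M →ₗ[k] A ⊗[k] Module.Dual k M :=
  (LinearEquiv.ofBijective (T k M A) (T_bijective k A)).symm.toLinearMap ∘ₗ L c

theorem T_lam (c : HopfRep.Comod k A M) (g : Module.Dual k M) : T k M A (lam c g) = L c g := by
  change T k M A ((LinearEquiv.ofBijective (T k M A) (T_bijective k A)).symm (L c g)) = L c g
  exact (LinearEquiv.ofBijective (T k M A) (T_bijective k A)).apply_symm_apply (L c g)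

/-- lemma (i) -/
theorem T_assoc_symm_lTensor_lam (c : HopfRep.Comod k A M) (y : A ⊗[k] Module.Dual k M) (m : M) :
    T k M (A ⊗[k] A) ((TensorProduct.assoc k A A (Module.Dual k M)).symm
      ((lam c).lTensor A y)) m = (T k M A y).rTensor A (c.coact m) := by
  induction y using TensorProduct.induction_on with
  | zero => simp
  | add x y hx hy =>
    simp only [map_add, LinearMap.add_apply, hx, hy, LinearMap.rTensor_add]
  | tmul a φ =>
    rw [LinearMap.lTensor_tmul, T_assoc_symm_tmul, T_lam, L_apply]
    generalize c.coact m = w
    induction w using TensorProduct.induction_on with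
    | zero => simp
    | add x y hx hy => simp only [map_add, TensorProduct.tmul_add, hx, hy]
    | tmul m' a' => simp [TensorProduct.smul_tmul', TensorProduct.tmul_smul]

end Main

/-- Let `k` be a commutative ring, `A` a `k`-coalgebra that is flat over `k`, and `M` a finitely
presented `k`-module with a right `A`-comodule structure `m ↦ Σ m₀ ⊗ m₁`. Then the dual module `M^*
= Hom(M, k)` carries a left `A`-comodule structure whose coaction sends a form `g` to the element of
`A ⊗ M^*` that reads, through `a ⊗ φ ↦ (m ↦ φ(m) a)`, as the map `m ↦ Σ g(m₀) m₁` (the left dual of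
the given structure). (The published statement takes coalgebras to be commutative algebras whose
comultiplication and counit are algebra maps; the construction uses no multiplication on `A`, so
here `A` is any flat coalgebra.) -/
theorem result (k : Type u) [CommRing k]
    (A : Type v) [AddCommGroup A] [Module k A] [Coalgebra k A] [Module.Flat k A]
    (M : Type w) [AddCommGroup M] [Module k M] [Module.FinitePresentation k M]
    (c : HopfRep.Comod k A M) :
    ∃ l : ComodSub.LComod k A (Module.Dual k M), ComodSub.LComod.IsLDual c l := by
  refine ⟨{ coact := lam c, coassoc := ?_, counit_comp := ?_ }, ?_⟩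
  · apply LinearMap.ext
    intro g
    have inj : Function.Injective (T k M (A ⊗[k] A) ∘
        (TensorProduct.assoc k A A (Module.Dual k M)).symm) :=
      (T_bijective k (A ⊗[k] A)).1.comp (TensorProduct.assoc k A A (Module.Dual k M)).symm.injective
    apply inj
    apply LinearMap.ext
    intro m
    simp only [Function.comp_apply, LinearMap.coe_comp, LinearEquiv.coe_coe,
      LinearEquiv.symm_apply_apply]
    rw [T_assoc_symm_lTensor_lam, T_lam, T_natural, T_lam, L_rTensor_coact]
    rfl
  · apply LinearMap.ext
    intro g
    apply (T_bijective (k := k) (M := M) k).1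
    apply LinearMap.ext
    intro m
    simp only [LinearMap.coe_comp, Function.comp_apply]
    rw [T_natural, T_lam, LinearMap.comp_apply, counit_L]
    simp
  · intro g
    rw [← T_apply]
    exact T_lam c g

end Groth.Agent.S16690
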