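import Groth.Statements.S7598
import Mathlib
import Groth.Agent.Lib.Helper51.GalIrr

set_option autoImplicit false
universe u
open CategoryTheory CategoryTheory.Limits AlgebraicGeometry
open Variety

namespace Groth.Agent.S7598

/-- Let k̄ be a separable algebraic closure of a field k and X a scheme over k. Two irreducible
components Z', Z'' of X_{k̄} have the same image in X if and only if Z'' is the image of Z' under
the action of some k-automorphism of k̄ on X_{k̄} (the fibres of the map on irreducible components
are the Galois orbits). -/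
theorem result (k : Type u) [Field k] (X : Scheme.{u}) [X.Over (Spec (CommRingCat.of k))]
    (Z' Z'' : Set ↥(Curv2.bc k X (SeparableClosure k))) (hZ' : Z' ∈ irreducibleComponents ↥(Curv2.bc k X (SeparableClosure k)))
    (hZ'' : Z'' ∈ irreducibleComponents ↥(Curv2.bc k X (SeparableClosure k))) :
    (Curv2.bcFst k X (SeparableClosure k)).base '' Z' = (Curv2.bcFst k X (SeparableClosure k)).base '' Z'' ↔
      ∃ σ : SeparableClosure k ≃ₐ[k] SeparableClosure k, (Curv2.galAct k X (SeparableClosure k) σ).base '' Z' = Z'' := by
  have hgal : ∀ σ : SeparableClosure k ≃ₐ[k] SeparableClosure k,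
      Curv2.galAct k X (SeparableClosure k) σ =
        Groth.Agent.Lib.Helper78.GalTrans.gal (X ↘ Spec (CommRingCat.of k)) (SeparableClosure k) σ :=
    fun σ => rfl
  have hrc : IsClosedMap (pullback.fst (X ↘ Spec (CommRingCat.of k))
      (Spec.map (CommRingCat.ofHom (algebraMap k (SeparableClosure k))))) :=
    Groth.Agent.Lib.Helper51.isClosedMap_pullback_fst_of_isIntegral _ (SeparableClosure k)
  obtain ⟨ζ', hζ'⟩ := QuasiSober.sober hZ'.1 (isClosed_of_mem_irreducibleComponents Z' hZ')
  obtain ⟨ζ'', hζ''⟩ := QuasiSober.sober hZ''.1 (isClosed_of_mem_irreducibleComponents Z'' hZ'')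
  constructor
  · intro himg
    have h1 : ∀ ζ : ↥(Curv2.bc k X (SeparableClosure k)),
        (pullback.fst (X ↘ Spec (CommRingCat.of k))
          (Spec.map (CommRingCat.ofHom (algebraMap k (SeparableClosure k))))) '' closure {ζ} =
        closure {(pullback.fst (X ↘ Spec (CommRingCat.of k))
          (Spec.map (CommRingCat.ofHom (algebraMap k (SeparableClosure k))))) ζ} := by
      intro ζ
      rw [← hrc.closure_image_eq_of_continuous (Scheme.Hom.continuous _), Set.image_singleton]
    rw [← hζ'.def, ← hζ''.def] at himg
    have himg' : closure {(pullback.fst (X ↘ Spec (CommRingCat.of k))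
          (Spec.map (CommRingCat.ofHom (algebraMap k (SeparableClosure k))))) ζ'} =
        closure {(pullback.fst (X ↘ Spec (CommRingCat.of k))
          (Spec.map (CommRingCat.ofHom (algebraMap k (SeparableClosure k))))) ζ''} := by
      rw [← h1, ← h1]; exact himg
    have h3 := (inseparable_iff_closure_eq.mpr himg').eq
    obtain ⟨σ, hσ⟩ := Groth.Agent.Lib.Helper78.GalTrans.exists_gal_eq
      (X ↘ Spec (CommRingCat.of k)) (SeparableClosure k) ζ' ζ'' h3
    refine ⟨σ, ?_⟩
    rw [hgal σ, ← hζ'.def, ← hζ''.def]
    have := Groth.Agent.Lib.Helper51.gal_image_closure_singleton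
      (X ↘ Spec (CommRingCat.of k)) (SeparableClosure k) σ ζ'
    rw [hσ] at this
    exact this
  · rintro ⟨σ, hσ⟩
    rw [← hσ, hgal σ, Set.image_image]
    apply Set.image_congr
    intro a _
    exact (Groth.Agent.Lib.Helper78.GalTrans.fst_gal_apply
      (X ↘ Spec (CommRingCat.of k)) (SeparableClosure k) σ a).symm

end Groth.Agent.S7598
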