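import Groth.Statements.S1670
import Mathlib
import Groth.Agent.Lib.Helper51.FinFibre
import Groth.Agent.S7598

set_option autoImplicit false
universe u
open CategoryTheory CategoryTheory.Limits AlgebraicGeometry
open Variety

namespace Groth.Agent.S1670

/-- Let X be locally of finite type over k, K a separable closure of k, and T an irreducible component
of X. Then the inverse image of T in X_K is the union of the finitely many irreducible components of
X_K mapping into T, and these form a single orbit under the action of the k-automorphisms of K on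
X_K. -/
theorem result (k : Type u) [Field k] (X : Scheme.{u}) [X.Over (Spec (CommRingCat.of k))] [LocallyOfFiniteType (X ↘ (Spec (CommRingCat.of k)))]
    (T : Set X) (hT : T ∈ irreducibleComponents (X : Type u)) :
    {T' : Set (Curv2.bc k X (SeparableClosure k)) | T' ∈ irreducibleComponents (Curv2.bc k X (SeparableClosure k) : Type u) ∧
        (Curv2.bcFst k X (SeparableClosure k)).base '' T' ⊆ T}.Finite ∧
      (Curv2.bcFst k X (SeparableClosure k)).base ⁻¹' T = ⋃₀ {T' : Set (Curv2.bc k X (SeparableClosure k)) | T' ∈ irreducibleComponents (Curv2.bc k X (SeparableClosure k) : Type u) ∧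
        (Curv2.bcFst k X (SeparableClosure k)).base '' T' ⊆ T} ∧
      ∀ T' T'' : Set (Curv2.bc k X (SeparableClosure k)), T' ∈ irreducibleComponents (Curv2.bc k X (SeparableClosure k) : Type u) →
        T'' ∈ irreducibleComponents (Curv2.bc k X (SeparableClosure k) : Type u) →
        (Curv2.bcFst k X (SeparableClosure k)).base '' T' ⊆ T → (Curv2.bcFst k X (SeparableClosure k)).base '' T'' ⊆ T →
        ∃ σ : (SeparableClosure k) ≃ₐ[k] (SeparableClosure k), (Curv2.galAct k X (SeparableClosure k) σ).base '' T' = T'' := by
  have hK : ∀ T' : Set (Curv2.bc k X (SeparableClosure k)),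
      T' ∈ irreducibleComponents (Curv2.bc k X (SeparableClosure k) : Type u) →
      (Curv2.bcFst k X (SeparableClosure k)).base '' T' ⊆ T →
      (Curv2.bcFst k X (SeparableClosure k)).base '' T' = T := by
    intro T' hT' hsub
    exact le_antisymm hsub ((Groth.Agent.Lib.Helper51.image_fst_mem_irreducibleComponents
      (X ↘ Spec (CommRingCat.of k)) (SeparableClosure k) hT').2 hT.1 hsub)
  refine ⟨Groth.Agent.Lib.Helper51.finite_irreducibleComponents_over
    (X ↘ Spec (CommRingCat.of k)) (SeparableClosure k) hT, ?_, ?_⟩
  · have h := Groth.Agent.Lib.Helper51.preimage_irreducibleComponent_eq_sUnion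
      (a := (pullback.fst (X ↘ Spec (CommRingCat.of k))
        (Spec.map (CommRingCat.ofHom (algebraMap k (SeparableClosure k))))))
      (Scheme.Hom.continuous _) (Flat.generalizingMap _) hT
    rw [show (Curv2.bcFst k X (SeparableClosure k)).base ⁻¹' T =
      (pullback.fst (X ↘ Spec (CommRingCat.of k))
        (Spec.map (CommRingCat.ofHom (algebraMap k (SeparableClosure k))))) ⁻¹' T from rfl, h]
    congr 1
    ext W
    simp only [Set.mem_setOf_eq]
    constructor
    · rintro ⟨hW, hsub⟩
      exact ⟨hW, Set.image_subset_iff.mpr hsub⟩
    · rintro ⟨hW, hsub⟩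
      exact ⟨hW, Set.image_subset_iff.mp hsub⟩
  · intro T' T'' hT' hT'' h' h''
    exact (Groth.Agent.S7598.result k X T' T'' hT' hT'').mp
      ((hK T' hT' h').trans (hK T'' hT'' h'').symm)

end Groth.Agent.S1670
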