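import Groth.Statements.S16705
import Groth.Agent.Lib.Helper14.QuotStCalc
import Mathlib

set_option autoImplicit false
universe u
open AlgSt

namespace Groth.Agent.S16705

section
open CategoryTheory MonoidalCategory CartesianMonoidalCategory AlgebraicGeometry Opposite
open Groth.Agent.Lib.Helper14.QuotStCalc

variable {S : Scheme.{u}} {G : Over S} [GrpObj G] {X Y : Over S} {aX : AlgGrp.Action G X}

theorem backward (f : X ⟶ Y)
    (π : AlgSt.QuotSt Scheme.fppfPrecoverage G aX ⥤ᵇ AlgSt.ofSch Y)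
    (hπ : BasedFunctor.comp (AlgSt.quotMap Scheme.fppfPrecoverage G aX) π =
      AlgSt.ofSpMap ((AlgSp.yon S).map f))
    (hq : GIT.IsCatQuot aX f) : AlgSt.IsCatModuliSch π := by
  obtain ⟨hinv, huniv⟩ := hq
  refine ⟨⟨Y, ⟨yonRep Y⟩⟩, ?_⟩
  rintro N ⟨Z, ⟨e⟩⟩ φ
  have hψinv := toSh_invariant N φ
  have hψ := eq_repMap e (toSh N φ)
  set ψ₀ : X ⟶ Z := e.homEquiv.symm ((toSh N φ).hom.app (op X) ⟨𝟙 X⟩) with hψ₀
  have hinv₀ : GIT.IsInvariant aX ψ₀ := by
    rw [hψ, yon_map_comp_repMap, yon_map_comp_repMap] at hψinv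
    exact repMap_injective e hψinv
  obtain ⟨χ, hχ, hχu⟩ := huniv Z ψ₀ hinv₀
  have hχ' : f ≫ χ = ψ₀ := hχ
  refine ⟨repMap e χ, ⟨eqToIso ?_⟩, ?_⟩
  · apply ext_of_quotMap
    change BasedFunctor.comp (BasedFunctor.comp (AlgSt.quotMap Scheme.fppfPrecoverage G aX) π)
      (AlgSt.ofSpMap (repMap e χ)) = _
    rw [hπ, ofSpMap_comp, yon_map_comp_repMap, hχ', ← hψ, ofSpMap_toSh]
  · rintro g' ⟨e'⟩
    have h1 := eq_of_nonempty_iso _ _ ⟨e'⟩
    have h2 : BasedFunctor.comp (BasedFunctor.comp (AlgSt.quotMap Scheme.fppfPrecoverage G aX) π)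
        (AlgSt.ofSpMap g') = BasedFunctor.comp (AlgSt.quotMap Scheme.fppfPrecoverage G aX) φ :=
      congrArg (BasedFunctor.comp (AlgSt.quotMap Scheme.fppfPrecoverage G aX)) h1
    rw [hπ, ofSpMap_comp, ← ofSpMap_toSh] at h2
    have h3 := ofSpMap_injective h2
    have hg' := eq_repMap e g'
    rw [hg', yon_map_comp_repMap, hψ] at h3
    have h4 := repMap_injective e h3
    rw [hg']
    congr 1
    exact hχu _ h4

theorem forward (f : X ⟶ Y)
    (π : AlgSt.QuotSt Scheme.fppfPrecoverage G aX ⥤ᵇ AlgSt.ofSch Y)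
    (hπ : BasedFunctor.comp (AlgSt.quotMap Scheme.fppfPrecoverage G aX) π =
      AlgSt.ofSpMap ((AlgSp.yon S).map f))
    (hm : AlgSt.IsCatModuliSch π) : GIT.IsCatQuot aX f := by
  obtain ⟨-, hm⟩ := hm
  have hinv : GIT.IsInvariant aX f := by
    have h1 := toSh_invariant _ π
    rw [toSh_of_comp_eq _ π _ hπ, ← Functor.map_comp, ← Functor.map_comp] at h1
    exact (AlgSp.yon S).map_injective h1
  refine ⟨hinv, ?_⟩
  intro Z ψ₀ hψ₀
  have hψ : (AlgSp.yon S).map aX.act ≫ (AlgSp.yon S).map ψ₀ =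
      (AlgSp.yon S).map (snd G X) ≫ (AlgSp.yon S).map ψ₀ := by
    rw [← Functor.map_comp, ← Functor.map_comp]
    exact congrArg _ hψ₀
  obtain ⟨g, ⟨eg⟩, hgu⟩ := hm ((AlgSp.yon S).obj Z) ⟨Z, ⟨yonRep Z⟩⟩
    (Φ ((AlgSp.yon S).obj Z) ((AlgSp.yon S).map ψ₀) hψ)
  obtain ⟨χ, rfl⟩ := (AlgSp.yon S).map_surjective g
  have key : ∀ χ' : Y ⟶ Z, f ≫ χ' = ψ₀ ↔
      BasedFunctor.comp π (AlgSt.ofSpMap ((AlgSp.yon S).map χ')) =
        Φ ((AlgSp.yon S).obj Z) ((AlgSp.yon S).map ψ₀) hψ := by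
    intro χ'
    constructor
    · intro h
      apply ext_of_quotMap
      change BasedFunctor.comp (BasedFunctor.comp (AlgSt.quotMap Scheme.fppfPrecoverage G aX) π)
        (AlgSt.ofSpMap ((AlgSp.yon S).map χ')) = _
      rw [hπ, ofSpMap_comp, ← Functor.map_comp, h, comp_eq]
    · intro h
      have h2 : BasedFunctor.comp (BasedFunctor.comp (AlgSt.quotMap Scheme.fppfPrecoverage G aX) π)
          (AlgSt.ofSpMap ((AlgSp.yon S).map χ')) =
          BasedFunctor.comp (AlgSt.quotMap Scheme.fppfPrecoverage G aX)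
            (Φ ((AlgSp.yon S).obj Z) ((AlgSp.yon S).map ψ₀) hψ) :=
        congrArg (BasedFunctor.comp (AlgSt.quotMap Scheme.fppfPrecoverage G aX)) h
      rw [hπ, ofSpMap_comp, ← Functor.map_comp, comp_eq] at h2
      exact (AlgSp.yon S).map_injective (ofSpMap_injective h2)
  refine ⟨χ, (key χ).2 (eq_of_nonempty_iso _ _ ⟨eg⟩), ?_⟩
  intro χ' hχ'
  have h1 := hgu ((AlgSp.yon S).map χ') ⟨eqToIso ((key χ').1 hχ')⟩
  exact (AlgSp.yon S).map_injective h1

end

open CategoryTheory AlgebraicGeometry in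

open CategoryTheory AlgebraicGeometry in
/-- Categorical case, schemes as test category: for the quotient stack `[X/G]` of an action of a group
scheme `G` affine, flat and locally of finite presentation over `S`, the morphism `π : [X/G] → Y`
induced by a morphism of schemes `f : X → Y` is a categorical moduli space in schemes if and only if
`f` is a categorical quotient in schemes. (The uniform variants and other test categories are not
stated.) -/
theorem result (S : Scheme.{u}) (G : Over S) [GrpObj G]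
    [IsAffineHom G.hom] [Flat G.hom] [LocallyOfFinitePresentation G.hom]
    (X Y : Over S) (aX : AlgGrp.Action G X) (f : X ⟶ Y)
    (π : AlgSt.QuotSt Scheme.fppfPrecoverage G aX ⥤ᵇ AlgSt.ofSch Y)
    (hπ : Nonempty (BasedFunctor.comp (AlgSt.quotMap Scheme.fppfPrecoverage G aX) π ≅
      AlgSt.ofSpMap ((AlgSp.yon S).map f))) :
    AlgSt.IsCatModuliSch π ↔ GIT.IsCatQuot aX f := by
  have hπ' := Groth.Agent.Lib.Helper14.QuotStCalc.eq_of_nonempty_iso _ _ hπ
  exact ⟨Groth.Agent.S16705.forward f π hπ', Groth.Agent.S16705.backward f π hπ'⟩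

end Groth.Agent.S16705
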