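import Groth.Statements.S16708
import Groth.Agent.Lib.Helper96.LinRed

set_option autoImplicit false
universe u
open HopfRep

namespace Groth.Agent.S16708

/-- Let G be a finite group and k a field in which the order of G is a nonzero element. Then the
constant group scheme of G over k is linearly reductive: every finite-dimensional comodule over its
coordinate Hopf algebra (the algebra of functions G → k with the Hopf structure of the constant
group) is semisimple, i.e. every subcomodule admits a complementary subcomodule. -/
theorem result (k : Type u) [Field k] (G : Type u) [Group G]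
    [Fintype G] [DecidableEq G] (hG : ((Fintype.card G : ℕ) : k) ≠ 0) :
    HopfRep.IsLinearlyReductive k (ConstGrp.F k G) := by
  rw [Groth.Agent.Lib.Helper96.isLinearlyReductive_iff_exists_integral]
  let n : k := ((Fintype.card G : ℕ) : k)
  let α : ConstGrp.F k G →ₗ[k] k :=
    (ConstGrp.basis k G).constr k (fun _ => n⁻¹)
  have hαe : ∀ g, α (ConstGrp.e k g) = n⁻¹ := by
    intro g
    rw [← ConstGrp.basis_apply, Module.Basis.constr_basis]
  refine ⟨α, ?_, ?_⟩
  · apply ConstGrp.linearMap_ext
    intro g
    show (α (ConstGrp.e k g)) ⊗ₜ[k] (1 : ConstGrp.F k G) =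
      α.rTensor (ConstGrp.F k G) (Coalgebra.comul (R := k) (ConstGrp.e k g))
    rw [ConstGrp.comul_e, map_sum, hαe]
    simp only [LinearMap.rTensor_tmul, hαe]
    rw [← TensorProduct.tmul_sum]
    congr 1
    rw [← ConstGrp.sum_e (R := k) (G := G)]
    exact (Fintype.sum_equiv ((Equiv.inv G).trans (Equiv.mulRight g)) _ _ fun a => rfl).symm
  · rw [← ConstGrp.sum_e (R := k) (G := G), map_sum]
    simp only [hαe, Finset.sum_const, Finset.card_univ, nsmul_eq_mul]
    exact mul_inv_cancel₀ hG

end Groth.Agent.S16708
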