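import Groth.Statements.S16718
import Groth.Agent.Lib.Helper96.Comod
import Mathlib.RingTheory.Polynomial.Basic
import Mathlib.RingTheory.FiniteType

set_option autoImplicit false
universe u v w
open TensorProduct
open GLin

namespace Groth.Agent.S16718

/-- Let k be a field, A a finitely generated commutative Hopf algebra over k (an affine algebraic group
G), R a finitely generated commutative k-algebra carrying an A-comodule structure whose coaction is
an algebra homomorphism (an action of G on X = Spec R), and I an ideal of R which is a subcomodule
(a G-invariant closed subscheme Z of X). Then there is a finite-dimensional subcomodule W of R with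
W ⊆ I generating I as an ideal; equivalently there is a G-equivariant morphism f from X to the
affine space of a finite-dimensional G-representation with f⁻¹(0) = Z as closed subschemes. -/
theorem result (k : Type u) [Field k]
    (A : Type v) [CommRing A] [HopfAlgebra k A] (hA : Algebra.FiniteType k A)
    (R : Type w) [CommRing R] [Algebra k R] [HopfRep.Comod k A R] [GLin.IsCoactAlg k A R]
    (hR : Algebra.FiniteType k R) (I : Ideal R)
    (hI : HopfRep.IsSubcomod (k := k) (A := A) (I.restrictScalars k)) :
    ∃ W : Submodule k R, Module.Finite k W ∧ HopfRep.IsSubcomod (k := k) (A := A) W ∧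
      W ≤ I.restrictScalars k ∧ Ideal.span (W : Set R) = I := by
  classical
  haveI : IsNoetherianRing R := Algebra.FiniteType.isNoetherianRing k R
  obtain ⟨t, ht⟩ := (IsNoetherian.noetherian I : I.FG)
  have htI : ∀ f ∈ t, f ∈ I := fun f hf => ht ▸ Submodule.subset_span hf
  let c : HopfRep.Comod k A R := ‹HopfRep.Comod k A R›
  have hIs := (Groth.Agent.Lib.Helper96.isSub_iff_slice c (I.restrictScalars k)).mp hI
  let W : Submodule k R := ⨆ f : (t : Set R), Groth.Agent.Lib.Helper96.orbit c f.1
  have hWfin : Module.Finite k W := by
    haveI : ∀ f : (t : Set R), Module.Finite k (Groth.Agent.Lib.Helper96.orbit c f.1) :=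
      fun f => Groth.Agent.Lib.Helper96.finite_orbit c f.1
    haveI : Finite (t : Set R) := t.finite_toSet
    exact Submodule.finite_iSup _
  have hWsub : Groth.Agent.Lib.Helper96.IsSub c W :=
    Groth.Agent.Lib.Helper96.isSub_iSup c
      (W := fun f : (t : Set R) => Groth.Agent.Lib.Helper96.orbit c f.1)
      (fun f => Groth.Agent.Lib.Helper96.isSub_orbit c f.1)
  have hWI : W ≤ I.restrictScalars k := by
    apply iSup_le
    rintro ⟨f, hf⟩
    rintro _ ⟨g, rfl⟩
    exact hIs f (htI f hf) g
  refine ⟨W, hWfin, hWsub, hWI, ?_⟩
  apply le_antisymm
  · rw [Ideal.span_le]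
    intro x hx
    exact hWI hx
  · rw [← ht, Ideal.span_le]
    intro f hf
    apply Ideal.subset_span
    exact Submodule.mem_iSup_of_mem ⟨f, hf⟩ (Groth.Agent.Lib.Helper96.mem_orbit_self c f)

end Groth.Agent.S16718
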