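import Groth.Statements.S16721
import Groth.Agent.Lib.Helper14.QuotStCalc2
import Mathlib

set_option autoImplicit false
universe u
open CategoryTheory MonoidalCategory CartesianMonoidalCategory AlgebraicGeometry
open AlgSt

namespace Groth.Agent.S16721

section
open CategoryTheory MonoidalCategory CartesianMonoidalCategory AlgebraicGeometry Opposite
open Groth.Agent.Lib.Helper14.QuotStCalc

variable {S : Scheme.{u}} {G : Over S} [GrpObj G] {X Y : Over S} {aX : AlgGrp.Action G X}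

theorem catModuli (f : X ⟶ Y)
    (hcat : ∀ (N : AlgSp.Space S) (ψ : (AlgSp.yon S).obj X ⟶ N.obj),
      (AlgSp.yon S).map aX.act ≫ ψ = (AlgSp.yon S).map (snd G X) ≫ ψ →
        ∃! χ : (AlgSp.yon S).obj Y ⟶ N.obj, (AlgSp.yon S).map f ≫ χ = ψ)
    (π : AlgSt.QuotSt Scheme.fppfPrecoverage G aX ⥤ᵇ AlgSt.ofSch Y)
    (hπ : BasedFunctor.comp (AlgSt.quotMap Scheme.fppfPrecoverage G aX) π =
      AlgSt.ofSpMap ((AlgSp.yon S).map f)) :
    AlgSt.IsCatModuliIn (AlgSp.IsAlgSpace (S := S)) π := by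
  refine ⟨AlgSp.IsAlgSpace.yon_obj Y, ?_⟩
  intro N hN φ
  obtain ⟨χ, hχ, hχu⟩ := hcat ⟨N, hN⟩ (toSh N φ) (toSh_invariant N φ)
  have hχ' : (AlgSp.yon S).map f ≫ χ = toSh N φ := hχ
  refine ⟨χ, ⟨eqToIso ?_⟩, ?_⟩
  · apply ext_of_quotMap
    change BasedFunctor.comp (BasedFunctor.comp (AlgSt.quotMap Scheme.fppfPrecoverage G aX) π)
      (AlgSt.ofSpMap χ) = _
    rw [hπ, ofSpMap_comp, hχ', ofSpMap_toSh]
  · rintro g' ⟨e'⟩
    have h1 := eq_of_nonempty_iso _ _ ⟨e'⟩
    have h2 : BasedFunctor.comp (BasedFunctor.comp (AlgSt.quotMap Scheme.fppfPrecoverage G aX) π)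
        (AlgSt.ofSpMap g') = BasedFunctor.comp (AlgSt.quotMap Scheme.fppfPrecoverage G aX) φ :=
      congrArg (BasedFunctor.comp (AlgSt.quotMap Scheme.fppfPrecoverage G aX)) h1
    rw [hπ, ofSpMap_comp, ← ofSpMap_toSh] at h2
    exact hχu g' (ofSpMap_injective h2)

theorem geomBij (f : X ⟶ Y)
    (horb : ∀ (Ω : Type u) [Field Ω] [IsAlgClosed Ω] (t : Spec (CommRingCat.of Ω) ⟶ S),
      (∀ y : Over.mk t ⟶ Y, ∃ x : Over.mk t ⟶ X, x ≫ f = y) ∧
      (∀ x x' : Over.mk t ⟶ X, x ≫ f = x' ≫ f → ∃ g : Over.mk t ⟶ G, lift g x' ≫ aX.act = x))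
    (π : AlgSt.QuotSt Scheme.fppfPrecoverage G aX ⥤ᵇ AlgSt.ofSch Y)
    (hπ : BasedFunctor.comp (AlgSt.quotMap Scheme.fppfPrecoverage G aX) π =
      AlgSt.ofSpMap ((AlgSp.yon S).map f)) :
    AlgSt.GeomPtBij π := by
  intro Ω _ _ t
  obtain ⟨ho1, ho2⟩ := horb Ω t
  constructor
  · intro m
    obtain ⟨x, hx⟩ := ho1 m.down
    refine ⟨Functor.Fiber.mk (p := (AlgSt.QuotSt Scheme.fppfPrecoverage G aX).p)
      (a := (AlgSt.quotMap Scheme.fppfPrecoverage G aX).obj
        (⟨Over.mk t, ⟨x⟩⟩ : (AlgSt.ofSch X).obj)) rfl, ?_⟩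
    have h1 := secAt_quotMap _ π _ hπ (⟨Over.mk t, ⟨x⟩⟩ : (AlgSt.ofSch X).obj)
    refine Eq.trans (b := secAt π ((AlgSt.quotMap Scheme.fppfPrecoverage G aX).obj
        (⟨Over.mk t, ⟨x⟩⟩ : (AlgSt.ofSch X).obj))) rfl (h1.trans ?_)
    change (⟨x ≫ f⟩ : ULift (Over.mk t ⟶ Y)) = m
    rw [hx]
    rfl
  · rintro ⟨A, hA⟩ ⟨B, hB⟩ h
    have hA' : A.base = Over.mk t := hA
    have hB' : B.base = Over.mk t := hB
    obtain ⟨Ab, AP, Aact, Aπ, Acart, Aloc, Aφ, Aeqv⟩ := A
    obtain ⟨Bb, BP, Bact, Bπ, Bcart, Bloc, Bφ, Beqv⟩ := B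
    change Ab = Over.mk t at hA'
    change Bb = Over.mk t at hB'
    subst hA'
    subst hB'
    set A : QuotObj Scheme.fppfPrecoverage G aX := ⟨Over.mk t, AP, Aact, Aπ, Acart, Aloc, Aφ, Aeqv⟩
      with hAdef
    set B : QuotObj Scheme.fppfPrecoverage G aX := ⟨Over.mk t, BP, Bact, Bπ, Bcart, Bloc, Bφ, Beqv⟩
      with hBdef
    obtain ⟨sA, hsA⟩ := exists_section t A rfl
    obtain ⟨sB, hsB⟩ := exists_section t B rfl
    have h1 : secAt π A = secAt π B := h
    rw [secAt_of_section _ π _ hπ A sA hsA, secAt_of_section _ π _ hπ B sB hsB] at h1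
    have h2 : (sA ≫ Aφ) ≫ f = (sB ≫ Bφ) ≫ f := congrArg ULift.down h1
    obtain ⟨g, hg⟩ := ho2 (sA ≫ Aφ) (sB ≫ Bφ) h2
    obtain ⟨ρ, hρ⟩ := exists_rmul (K := Scheme.fppfPrecoverage) (aX := aX) g (sA ≫ Aφ) (sB ≫ Bφ) hg
    have hi : IsIso (triv A sA hsA).base := inferInstanceAs (IsIso (𝟙 _))
    have hiA : IsIso (triv A sA hsA) := isIso_of_isIso_base _
    let φ : A ⟶ B := inv (triv A sA hsA) ≫ ρ ≫ triv B sB hsB
    have hφb : φ.base = 𝟙 _ := by
      have e1 : (triv A sA hsA) ≫ φ = ρ ≫ triv B sB hsB := IsIso.hom_inv_id_assoc _ _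
      have e2 := congrArg QuotObj.Hom.base e1
      change 𝟙 _ ≫ φ.base = ρ.base ≫ 𝟙 _ at e2
      rw [Category.id_comp, Category.comp_id, hρ] at e2
      exact e2
    exact fiber_iso_of_base_id A B hA hB φ (by
      rw [hφb]
      exact ((eqToHom_trans hA hB.symm).trans (eqToHom_refl _ _)).symm)

end

/-- Let `S` be a scheme, `G` a group scheme over `S` whose structure morphism is affine, flat and
locally of finite presentation, acting on a scheme `X` over `S`, and `f : X ⟶ Y` a `G`-invariant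
morphism of schemes over `S`. Assume (i) for every algebraically closed field `Ω` and every `t :
Spec Ω ⟶ S`, every `Ω`-point of `Y` over `t` is the image of an `Ω`-point of `X`, and two `Ω`-points
of `X` over `t` with the same image in `Y` are translates of one another by an `Ω`-point of `G` (the
geometric fibres of `f` are the orbits of geometric points); (ii) `f` is a categorical quotient in
the category of algebraic spaces over `S`: every `G`-invariant map of fppf sheaves `h_X ⟶ N` to an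
algebraic space `N` factors uniquely through `h_Y`. Then the functor `[X/G] ⟶ Y` over `(Sch/S)`
induced by `f` (the one whose composite with `X ⟶ [X/G]` is the functor of `f`) is a coarse moduli
space: `h_Y` is an algebraic space, every functor from `[X/G]` to an algebraic space factors
uniquely through it, and for every algebraically closed `Ω` it is a bijection from isomorphism
classes of objects of `[X/G]` over `Spec Ω` onto `Y(Spec Ω)`. Here `[X/G]` is the fppf quotient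
stack described by `G`-torsors that are schemes with an equivariant map to `X`. Of the source's
hypothesis that `f` is a geometric quotient only the condition (i) on geometric points enters, and
only (i) is assumed. (The published setting has an affine base scheme; this row allows any base
scheme.) -/
theorem result (S : Scheme.{u}) (G : Over S) [GrpObj G]
    [IsAffineHom G.hom] [Flat G.hom] [LocallyOfFinitePresentation G.hom]
    (X Y : Over S) (aX : AlgGrp.Action G X) (f : X ⟶ Y)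
    (hinv : aX.act ≫ f = snd G X ≫ f)
    (horb : ∀ (Ω : Type u) [Field Ω] [IsAlgClosed Ω] (t : Spec (CommRingCat.of Ω) ⟶ S),
      (∀ y : Over.mk t ⟶ Y, ∃ x : Over.mk t ⟶ X, x ≫ f = y) ∧
      (∀ x x' : Over.mk t ⟶ X, x ≫ f = x' ≫ f → ∃ g : Over.mk t ⟶ G, lift g x' ≫ aX.act = x))
    (hcat : ∀ (N : AlgSp.Space S) (ψ : (AlgSp.yon S).obj X ⟶ N.obj),
      (AlgSp.yon S).map aX.act ≫ ψ = (AlgSp.yon S).map (snd G X) ≫ ψ →
        ∃! χ : (AlgSp.yon S).obj Y ⟶ N.obj, (AlgSp.yon S).map f ≫ χ = ψ)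
    (π : AlgSt.QuotSt Scheme.fppfPrecoverage G aX ⥤ᵇ AlgSt.ofSch Y)
    (hπ : Nonempty (BasedFunctor.comp (AlgSt.quotMap Scheme.fppfPrecoverage G aX) π ≅
      AlgSt.ofSpMap ((AlgSp.yon S).map f))) :
    AlgSt.IsCoarseModuli π := by
  have hπ' := Groth.Agent.Lib.Helper14.QuotStCalc.eq_of_nonempty_iso _ _ hπ
  exact ⟨Groth.Agent.S16721.catModuli f hcat π hπ', Groth.Agent.S16721.geomBij f horb π hπ'⟩

end Groth.Agent.S16721
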