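import Groth.Statements.S16737
import Mathlib

set_option autoImplicit false
universe u v
open DeRham

namespace Groth.Agent.S16737

/-- The case of affine space over an affine base of characteristic p, in degree zero. Let p be a prime
and R a commutative ring with p = 0 in R. For a polynomial f over R in any set of variables t_i, the
Kähler differential df in Ω_{R[t]/R} vanishes if and only if f is a polynomial in the p-th powers of
the variables, f = g(t_i^p). Equivalently, the functions on affine space over R killed by the
differential of the de Rham complex are exactly the functions on its Frobenius twist. (The published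
computation is for finitely many variables over a noetherian base of characteristic p; the statement
here allows any commutative ring with p = 0 and any set of variables.) -/
theorem result (p : ℕ) [Fact p.Prime]
    (R : Type u) [CommRing R] [CharP R p] (σ : Type v) (f : MvPolynomial σ R) :
    KaehlerDifferential.D R (MvPolynomial σ R) f = 0 ↔
      ∃ g : MvPolynomial σ R, f = MvPolynomial.expand p g := by
  classical
  have hp : p.Prime := Fact.out
  rw [← (KaehlerDifferential.mvPolynomialBasis R σ).repr.map_eq_zero_iff, Finsupp.ext_iff]
  simp only [KaehlerDifferential.mvPolynomialBasis_repr_apply, Finsupp.zero_apply]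
  constructor
  · intro h
    have hdvd : ∀ s ∈ f.support, ∀ i, p ∣ s i := by
      intro s hs i
      by_contra hnd
      have hsi : s i ≠ 0 := fun h0 => hnd (h0 ▸ dvd_zero p)
      have h1 := congrArg (MvPolynomial.coeff (s - Finsupp.single i 1)) (h i)
      rw [MvPolynomial.coeff_pderiv, MvPolynomial.coeff_zero] at h1
      have h2 : s - Finsupp.single i 1 + Finsupp.single i 1 = s := by
        ext j
        by_cases hj : j = i
        · subst hj
          simp
          omega
        · simp [Ne.symm hj]
      rw [h2] at h1
      have h3 : ((((s - Finsupp.single i 1 : σ →₀ ℕ) i : ℕ) : R)) + 1 = ((s i : ℕ) : R) := by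
        have : (s - Finsupp.single i 1 : σ →₀ ℕ) i + 1 = s i := by
          simp
          omega
        rw [← this]
        push_cast
        ring
      rw [h3] at h1
      have hu : IsUnit ((s i : ℕ) : R) := (CharP.isUnit_natCast_iff hp).mpr hnd
      have := hu.mul_left_eq_zero.mp h1
      exact (MvPolynomial.mem_support_iff.mp hs) this
    refine ⟨∑ s ∈ f.support, MvPolynomial.monomial (s.mapRange (· / p) (by simp)) (f.coeff s), ?_⟩
    rw [map_sum]
    conv_lhs => rw [← f.support_sum_monomial_coeff]
    apply Finset.sum_congr rfl
    intro s hs
    rw [MvPolynomial.expand_monomial]
    have hps : p • (s.mapRange (· / p) (by simp)) = s := by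
      ext i
      simp [Nat.mul_div_cancel' (hdvd s hs i)]
    rw [hps]
  · rintro ⟨g, rfl⟩ i
    induction g using MvPolynomial.induction_on with
    | C a => simp
    | add a b ha hb => simp [ha, hb]
    | mul_X a j ha =>
      rw [map_mul, MvPolynomial.expand_X, MvPolynomial.pderiv_mul, ha, MvPolynomial.pderiv_pow]
      have : ((p : ℕ) : MvPolynomial σ R) = 0 := CharP.cast_eq_zero _ p
      simp [this]

end Groth.Agent.S16737
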