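import Groth.Statements.S16742
import Mathlib
import Groth.Agent.S6000

set_option autoImplicit false
universe u
open CAlg

namespace Groth.Agent.S16742

theorem mem_of_flat {A : Type*} [CommRing A] {M : Type*} [AddCommGroup M] [Module A M]
    [Module.Flat A M] (a : A) (m : M) (h : a • m = 0) :
    ∃ (k : ℕ) (c : Fin k → A) (y : Fin k → M), m = ∑ j, c j • y j ∧ ∀ j, a * c j = 0 := by
  have := Module.Flat.isTrivialRelation_of_sum_smul_eq_zero (ι := Fin 1) (f := fun _ => a)
    (x := fun _ => m) (by simpa using h)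
  obtain ⟨k, c, y, h1, h2⟩ := this
  exact ⟨k, c 0, y, h1 0, fun j => by simpa using h2 j⟩

theorem zmod_ann (p : ℕ) [Fact p.Prime] (c : ZMod (p ^ 2)) (h : (p : ZMod (p ^ 2)) * c = 0) :
    ∃ d : ZMod (p ^ 2), c = (p : ZMod (p ^ 2)) * d := by
  have hp : p.Prime := Fact.out
  have : NeZero (p ^ 2) := ⟨pow_ne_zero 2 hp.ne_zero⟩
  have hc : ((c.val : ℕ) : ZMod (p ^ 2)) = c := ZMod.natCast_zmod_val c
  rw [← hc, ← Nat.cast_mul, ZMod.natCast_eq_zero_iff] at h
  have h' : p * p ∣ p * c.val := (dvd_of_eq (pow_two p).symm).trans h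
  have h2 : p ∣ c.val := (Nat.mul_dvd_mul_iff_left hp.pos).mp h'
  obtain ⟨d, hd⟩ := h2
  exact ⟨(d : ZMod (p ^ 2)), by rw [← hc, hd, Nat.cast_mul]⟩

open TensorProduct in
theorem aux (p : ℕ) [Fact p.Prime]
    (Al : Type u) [CommRing Al] [Algebra (ZMod (p ^ 2)) Al] [Module.Flat (ZMod (p ^ 2)) Al]
    (Bl : Type u) [CommRing Bl] [Algebra Al Bl]
    (hB : Module.Flat (Al ⧸ Ideal.span {(p : Al)})
      (Bl ⧸ (Ideal.span {(p : Al)}).map (algebraMap Al Bl))) :
    Module.Flat Al Bl ↔ ∀ b : Bl, (p : Bl) * b = 0 → b ∈ Ideal.span {(p : Bl)} := by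
  have hp2 : (p : Al) * (p : Al) = 0 := by
    have h0 : ((p ^ 2 : ℕ) : ZMod (p ^ 2)) = 0 := ZMod.natCast_self _
    have := congrArg (algebraMap (ZMod (p ^ 2)) Al) h0
    simpa [pow_two] using this
  have hInil : IsNilpotent (Ideal.span {(p : Al)}) :=
    ⟨2, by rw [Ideal.span_singleton_pow, pow_two, hp2]; simp⟩
  have hflat' : Module.Flat (Al ⧸ Ideal.span {(p : Al)})
      ((Al ⧸ Ideal.span {(p : Al)}) ⊗[Al] Bl) :=
    Module.Flat.of_linearEquiv
      (Algebra.TensorProduct.quotIdealMapEquivQuotTensor Bl (Ideal.span {(p : Al)})).symm.toLinearEquiv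
  constructor
  · intro hfl b hb
    -- Step 1
    have step1 : ∀ a : Al, (p : Al) * a = 0 → ∃ a', a = (p : Al) * a' := by
      intro a ha
      have ha' : (p : ZMod (p ^ 2)) • a = 0 := by
        rw [Algebra.smul_def, map_natCast]; exact ha
      obtain ⟨k, c, y, h1, h2⟩ := mem_of_flat (p : ZMod (p ^ 2)) a ha'
      choose d hd using fun j => zmod_ann p (c j) (h2 j)
      refine ⟨∑ j, d j • y j, ?_⟩
      rw [h1, Finset.mul_sum]
      refine Finset.sum_congr rfl fun j _ => ?_
      rw [hd j, mul_smul, Algebra.smul_def (p : ZMod (p ^ 2)), map_natCast]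
    have hb' : (p : Al) • b = 0 := by
      rw [Algebra.smul_def, map_natCast]; exact hb
    obtain ⟨k, c, y, h1, h2⟩ := mem_of_flat (p : Al) b hb'
    choose d hd using fun j => step1 (c j) (h2 j)
    rw [Ideal.mem_span_singleton']
    refine ⟨∑ j, d j • y j, ?_⟩
    rw [h1, Finset.sum_mul]
    refine Finset.sum_congr rfl fun j _ => ?_
    rw [hd j, mul_smul, Algebra.smul_def (p : Al) (d j • y j), map_natCast, mul_comm]
  · intro H
    rw [Groth.Agent.S6000.result Al _ hInil Bl]
    refine ⟨hflat', ?_⟩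
    have hpI : (p : Al) ∈ Ideal.span {(p : Al)} := Ideal.subset_span rfl
    have hform : ∀ x : (Ideal.span {(p : Al)} : Ideal Al) ⊗[Al] Bl,
        ∃ b : Bl, x = (⟨(p : Al), hpI⟩ : (Ideal.span {(p : Al)} : Ideal Al)) ⊗ₜ[Al] b := by
      intro x
      induction x using TensorProduct.induction_on with
      | zero => exact ⟨0, by simp⟩
      | tmul a b' =>
        obtain ⟨a, ha⟩ := a
        obtain ⟨c, rfl⟩ := Ideal.mem_span_singleton'.mp ha
        refine ⟨c • b', ?_⟩
        rw [← TensorProduct.smul_tmul]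
        rfl
      | add x y hx hy =>
        obtain ⟨b₁, rfl⟩ := hx
        obtain ⟨b₂, rfl⟩ := hy
        exact ⟨b₁ + b₂, by rw [TensorProduct.tmul_add]⟩
    rw [injective_iff_map_eq_zero]
    intro x hx
    obtain ⟨b, rfl⟩ := hform x
    have h1 : (p : Al) • b = 0 := by
      have := congrArg (TensorProduct.lid Al Bl) hx
      simpa using this
    have h2 : (p : Bl) * b = 0 := by
      rw [Algebra.smul_def, map_natCast] at h1; exact h1
    obtain ⟨c, hc⟩ := Ideal.mem_span_singleton'.mp (H b h2)
    have h3 : b = (p : Al) • c := by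
      rw [Algebra.smul_def, map_natCast, ← hc, mul_comm]
    rw [h3, ← TensorProduct.smul_tmul]
    have h4 : (p : Al) • (⟨(p : Al), hpI⟩ : (Ideal.span {(p : Al)} : Ideal Al)) = 0 := by
      apply Subtype.ext
      simpa using hp2
    rw [h4, TensorProduct.zero_tmul]

/-- The equivalence in affine form, with flatness of the reduction in place of smoothness. Let p be a
prime, A~ a commutative ring flat over Z/p^2 and B~ an A~-algebra such that B~/pB~ is flat over
A~/pA~. Then B~ is flat over A~ if and only if every element of B~ killed by p is a multiple of p;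
equivalently multiplication by p identifies B~/pB~ with pB~. (The published statement assumes the
reduction smooth over A~/pA~ and the schemes noetherian, and phrases (b) as B~ being a lifting, that
is flat over A~; the statement here assumes only that the reduction is flat, where the equivalence
still holds by the local flatness criterion for the square-zero ideal generated by p.) -/
theorem result (p : ℕ) [Fact p.Prime]
    (Al : Type u) [CommRing Al] [Algebra (ZMod (p ^ 2)) Al] [Module.Flat (ZMod (p ^ 2)) Al]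
    (Bl : Type u) [CommRing Bl] [Algebra Al Bl]
    (hB : Module.Flat (Al ⧸ Ideal.span {(p : Al)})
      (Bl ⧸ (Ideal.span {(p : Al)}).map (algebraMap Al Bl))) :
    Module.Flat Al Bl ↔ ∀ b : Bl, (p : Bl) * b = 0 → b ∈ Ideal.span {(p : Bl)} := by
  exact aux p Al Bl hB

end Groth.Agent.S16742
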