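import Groth.Statements.S16754
import Groth.Agent.Lib.Helper72.CurveH0Geom
import Groth.Agent.S1536

set_option autoImplicit false
universe u
open CurvSt

namespace Groth.Agent.S16754

open CategoryTheory CategoryTheory.Limits AlgebraicGeometry in
/-- Let k be a field and X a scheme which is proper and smooth over k and of dimension one. Then the
following are equivalent: dim_k H^0(X, O_X) = 1 (the ground field is the ring of global functions);
X is geometrically connected over k; X is geometrically integral over k. (The remaining conditions
of the source concern membership in an open substack of the stack of curves and are not stated.) -/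
theorem result (k : Type u) [Field k]
    (X : Scheme.{u}) [X.Over (Spec (CommRingCat.of k))] [IsProper (X ↘ Spec (CommRingCat.of k))]
    [Smooth (X ↘ Spec (CommRingCat.of k))] (hdim : topologicalKrullDim ↥X = 1) :
    (Module.finrank k (Coh.HH X (Coh.structureModule X) 0) = 1 ↔ GeometricallyConnected (X ↘ Spec (CommRingCat.of k))) ∧
      (GeometricallyConnected (X ↘ Spec (CommRingCat.of k)) ↔ GeometricallyIntegral (X ↘ Spec (CommRingCat.of k))) := by
  haveI : IsLocallyNoetherian X :=
    LocallyOfFiniteType.isLocallyNoetherian (X ↘ (Spec (CommRingCat.of k)))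
  haveI : CompactSpace X :=
    QuasiCompact.compactSpace_of_compactSpace (X ↘ (Spec (CommRingCat.of k)))
  haveI : IsNoetherian X := {}
  haveI : Nonempty X := by
    have h1 : (1 : WithBot ℕ∞) ≤ topologicalKrullDim X := hdim.ge
    unfold topologicalKrullDim at h1
    rw [Order.one_le_krullDim_iff] at h1
    obtain ⟨a, -, -⟩ := h1
    exact a.isIrreducible'.nonempty.to_type
  haveI : GeometricallyReduced (X ↘ (Spec (CommRingCat.of k))) :=
    Groth.Agent.Lib.Helper94.geometricallyReduced_of_smooth _
  refine ⟨⟨fun h0 => Groth.Agent.Lib.Helper72.CurveH0Geom.geometricallyConnected_of_h0 k X h0,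
    fun hc => ?_⟩, ⟨fun hc => ⟨fun K _ y Z fst snd h => ?_⟩, fun hi => ⟨fun K _ y Z fst snd h => ?_⟩⟩⟩
  · haveI := hc
    exact Groth.Agent.S1536.result k X
  · haveI : ConnectedSpace Z := hc.geometrically_connectedSpace y fst snd h
    haveI : Smooth snd := MorphismProperty.of_isPullback h ‹Smooth (X ↘ (Spec (CommRingCat.of k)))›
    haveI : IsLocallyNoetherian Z := LocallyOfFiniteType.isLocallyNoetherian snd
    haveI : IrreducibleSpace Z :=
      Groth.Agent.Lib.Helper51.irreducibleSpace_of_forall_isDomain_stalk Z fun z =>
        (Groth.Agent.Lib.Helper93.PropBirat3.isIntegrallyClosed_stalk_of_smooth_field K snd z).1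
    haveI : IsReduced Z := Groth.Agent.Lib.Helper94.isReduced_of_smooth_of_field snd
    exact isIntegral_of_irreducibleSpace_of_isReduced Z
  · haveI : IsIntegral Z := hi.geometrically_isIntegral y fst snd h
    change ConnectedSpace Z
    infer_instance

end Groth.Agent.S16754
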