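import Groth.Statements.S16762
import Mathlib.Tactic
-- import your own Groth.Agent.* helpers here

set_option autoImplicit false
universe u
open CAlgX

namespace Groth.Agent.S16762

open TensorProduct in
theorem key (A A' : Type u) [CommRing A] [CommRing A'] [Algebra A A']
    {M N : Type u} [AddCommGroup M] [Module A M] [AddCommGroup N] [Module A N] (u : M →ₗ[A] N)
    (Q' : Type u) [AddCommGroup Q'] [Module A' Q'] [Module A Q'] [IsScalarTower A A' Q'] :
    Function.Injective ((u.baseChange A').rTensor Q') ↔ Function.Injective (u.rTensor Q') := by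
  let E : ∀ (P : Type u) [AddCommGroup P] [Module A P], (A' ⊗[A] P) ⊗[A'] Q' → P ⊗[A] Q' :=
    fun P _ _ x => TensorProduct.comm A Q' P
      (TensorProduct.AlgebraTensorModule.cancelBaseChange A A' A' Q' P
        (TensorProduct.comm A' (A' ⊗[A] P) Q' x))
  have hE : ∀ (P : Type u) [AddCommGroup P] [Module A P], Function.Bijective (E P) := by
    intro P _ _
    exact (TensorProduct.comm A Q' P).bijective.comp
      ((TensorProduct.AlgebraTensorModule.cancelBaseChange A A' A' Q' P).bijective.comp
        (TensorProduct.comm A' (A' ⊗[A] P) Q').bijective)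
  have hEadd : ∀ (P : Type u) [AddCommGroup P] [Module A P] (x y : (A' ⊗[A] P) ⊗[A'] Q'),
      E P (x + y) = E P x + E P y := by
    intro P _ _ x y
    simp only [E, map_add]
  have hEtmul : ∀ (P : Type u) [AddCommGroup P] [Module A P] (a : A') (m : P) (q : Q'),
      E P ((a ⊗ₜ[A] m) ⊗ₜ[A'] q) = m ⊗ₜ[A] (a • q) := by
    intro P _ _ a m q
    simp [E]
  have hcomm : ∀ x, E N ((u.baseChange A').rTensor Q' x) = u.rTensor Q' (E M x) := by
    intro x
    induction x using TensorProduct.induction_on with
    | zero => simp [E]
    | tmul y q =>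
      induction y using TensorProduct.induction_on with
      | zero => simp [E]
      | tmul a m =>
        rw [LinearMap.rTensor_tmul, LinearMap.baseChange_tmul, hEtmul, hEtmul, LinearMap.rTensor_tmul]
      | add y₁ y₂ h₁ h₂ =>
        rw [TensorProduct.add_tmul, map_add, hEadd, hEadd, map_add, h₁, h₂]
    | add x₁ x₂ h₁ h₂ => rw [map_add, hEadd, hEadd, map_add, h₁, h₂]
  have hcomm' : (E N) ∘ ((u.baseChange A').rTensor Q') = (u.rTensor Q') ∘ (E M) := funext hcomm
  constructor
  · intro h
    have h1 : Function.Injective ((E N) ∘ ((u.baseChange A').rTensor Q')) := (hE N).1.comp h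
    rw [hcomm'] at h1
    intro x y hxy
    obtain ⟨x', rfl⟩ := (hE M).2 x
    obtain ⟨y', rfl⟩ := (hE M).2 y
    exact congrArg _ (h1 hxy)
  · intro h
    have h1 : Function.Injective ((u.rTensor Q') ∘ (E M)) := h.comp (hE M).1
    rw [← hcomm'] at h1
    exact Function.Injective.of_comp h1

/-- Let A → A' be faithfully flat and u : M → N a map of A-modules. Then u is universally injective (u ⊗
id_Q injective for every A-module Q) if and only if its base change A' ⊗_A M → A' ⊗_A N is
universally injective as a map of A'-modules. -/
theorem result (A A' : Type u) [CommRing A] [CommRing A']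
    [Algebra A A'] [Module.FaithfullyFlat A A'] {M N : Type u} [AddCommGroup M] [Module A M]
    [AddCommGroup N] [Module A N] (u : M →ₗ[A] N) :
    CAlgX.UniversallyInjective A u ↔ CAlgX.UniversallyInjective A' (u.baseChange A') := by
  constructor
  · intro h Q' _ _
    letI : Module A Q' := Module.compHom Q' (algebraMap A A')
    haveI : IsScalarTower A A' Q' := IsScalarTower.of_algebraMap_smul fun r x => rfl
    rw [key A A' u Q']
    exact h Q'
  · intro h Q _ _
    have h1 := (key A A' u (TensorProduct A A' Q)).1 (h (TensorProduct A A' Q))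
    rw [← Module.FaithfullyFlat.lTensor_injective_iff_injective A A']
    have hcomm : ∀ x, TensorProduct.leftComm A N A' Q (u.rTensor (TensorProduct A A' Q) x)
        = (u.rTensor Q).lTensor A' (TensorProduct.leftComm A M A' Q x) := by
      intro x
      induction x using TensorProduct.induction_on with
      | zero => simp
      | tmul m y =>
        induction y using TensorProduct.induction_on with
        | zero => simp
        | tmul a q => simp
        | add y₁ y₂ h₁ h₂ => rw [TensorProduct.tmul_add, map_add, map_add, map_add, map_add, h₁, h₂]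
      | add x₁ x₂ h₁ h₂ => rw [map_add, map_add, map_add, map_add, h₁, h₂]
    have hcomm' : (TensorProduct.leftComm A N A' Q) ∘ (u.rTensor (TensorProduct A A' Q))
        = ((u.rTensor Q).lTensor A') ∘ (TensorProduct.leftComm A M A' Q) := funext hcomm
    have h2 : Function.Injective (((u.rTensor Q).lTensor A') ∘ (TensorProduct.leftComm A M A' Q)) := by
      rw [← hcomm']
      exact (TensorProduct.leftComm A N A' Q).injective.comp h1
    intro x y hxy
    obtain ⟨x', rfl⟩ := (TensorProduct.leftComm A M A' Q).surjective x
    obtain ⟨y', rfl⟩ := (TensorProduct.leftComm A M A' Q).surjective y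
    exact congrArg _ (h2 hxy)

end Groth.Agent.S16762
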