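import Groth.Statements.S16763
import Groth.Agent.Lib.Helper19.Sm.RelFiber
import Groth.Agent.Lib.Helper19.UnramifiedFiber
import Groth.Agent.Lib.Helper79.LfpOfComp

set_option autoImplicit false
universe u
open Unram17

namespace Groth.Agent.S16763

open AlgebraicGeometry CategoryTheory CategoryTheory.Limits in
/-- Let g : Y → S and h : X → S be locally of finite presentation, f : X → Y an S-morphism (f ≫ g = h),
and x a point of X with image s = h(x) such that h is flat at x. Then f is smooth at x (smooth on an
open neighbourhood of x) if and only if the induced morphism of fibres X_s → Y_s is smooth at the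
point of X_s lying over x. -/
theorem result {X Y S : Scheme.{u}} (g : Y ⟶ S) (h : X ⟶ S)
    [LocallyOfFinitePresentation g] [LocallyOfFinitePresentation h] (f : X ⟶ Y) (w : f ≫ g = h)
    (x : ↥X) (hflat : (h.stalkMap x).hom.Flat)
    (x' : ↥(h.fiber (h x))) (hx' : (h.fiberι (h x)) x' = x) :
    (∃ U : X.Opens, x ∈ U ∧ Smooth (U.ι ≫ f)) ↔
      ∃ V : (h.fiber (h x)).Opens, x' ∈ V ∧ Smooth (V.ι ≫ CohIII.fiberMapOver f h g w (h x)) := by
  have hf : LocallyOfFinitePresentation f :=
    Groth.Agent.Lib.Helper79.lfp_of_comp (g := g) (by rw [w]; infer_instance) inferInstance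
  have H : IsPullback (h.fiberι (h x)) (CohIII.fiberMapOver f h g w (h x)) f (g.fiberι (h x)) :=
    Groth.Agent.Lib.Helper19.isPullback_fiberMap f g h w (h x)
  have hf' : LocallyOfFinitePresentation (CohIII.fiberMapOver f h g w (h x)) :=
    MorphismProperty.of_isPullback H hf
  constructor
  · rintro ⟨U, hxU, hU⟩
    refine ⟨h.fiberι (h x) ⁻¹ᵁ U, by
      change h.fiberι (h x) x' ∈ U
      rw [hx']; exact hxU, ?_⟩
    have H2 := (isPullback_morphismRestrict (h.fiberι (h x)) U).paste_vert H
    exact MorphismProperty.of_isPullback H2 hU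
  · rintro ⟨V, hxV, hV⟩
    have hx'sm : x' ∈ (CohIII.fiberMapOver f h g w (h x)).smoothLocus :=
      (Groth.Agent.Lib.Helper19.mem_smoothLocus_iff_exists_nhd _ x').mpr ⟨V, hxV, hV⟩
    have hflat' : ((f ≫ g).stalkMap (h.fiberι (h x) x')).hom.Flat := by
      subst w
      rw [hx']
      exact hflat
    have key := Groth.Agent.Lib.Helper19.mem_smoothLocus_of_flat_of_smooth_fiberMap g f (h x)
      (h.fiberι (h x)) (CohIII.fiberMapOver f h g w (h x)) H x' hflat' hx'sm
    rw [hx'] at key
    exact (Groth.Agent.Lib.Helper19.mem_smoothLocus_iff_exists_nhd f x).mp key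

end Groth.Agent.S16763
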