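import Groth.Statements.S16764
import Groth.Agent.S16763
import Groth.Agent.S16765

set_option autoImplicit false
universe u
open Unram17

namespace Groth.Agent.S16764

open AlgebraicGeometry CategoryTheory CategoryTheory.Limits in
/-- Let g : Y → S and h : X → S be locally of finite presentation, f : X → Y an S-morphism (f ≫ g = h),
and x a point of X with image s = h(x) such that h is flat at x. Then f is étale at x (étale on an
open neighbourhood of x) if and only if the induced morphism of fibres X_s → Y_s is étale at the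
point of X_s lying over x. -/
theorem result {X Y S : Scheme.{u}} (g : Y ⟶ S) (h : X ⟶ S)
    [LocallyOfFinitePresentation g] [LocallyOfFinitePresentation h] (f : X ⟶ Y) (w : f ≫ g = h)
    (x : ↥X) (hflat : (h.stalkMap x).hom.Flat)
    (x' : ↥(h.fiber (h x))) (hx' : (h.fiberι (h x)) x' = x) :
    (∃ U : X.Opens, x ∈ U ∧ Etale (U.ι ≫ f)) ↔
      ∃ V : (h.fiber (h x)).Opens, x' ∈ V ∧ Etale (V.ι ≫ CohIII.fiberMapOver f h g w (h x)) := by
  have H : IsPullback (h.fiberι (h x)) (CohIII.fiberMapOver f h g w (h x)) f (g.fiberι (h x)) :=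
    Groth.Agent.Lib.Helper19.isPullback_fiberMap f g h w (h x)
  constructor
  · rintro ⟨U, hxU, hU⟩
    refine ⟨h.fiberι (h x) ⁻¹ᵁ U, by
      change h.fiberι (h x) x' ∈ U
      rw [hx']; exact hxU, ?_⟩
    have H2 := (isPullback_morphismRestrict (h.fiberι (h x)) U).paste_vert H
    exact MorphismProperty.of_isPullback H2 hU
  · rintro ⟨V, hxV, hV⟩
    obtain ⟨U₁, hxU₁, hU₁⟩ :=
      (Groth.Agent.S16763.result g h f w x hflat x' hx').mpr ⟨V, hxV, inferInstance⟩
    obtain ⟨U₂, hxU₂, hU₂⟩ :=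
      (Groth.Agent.S16765.result g h f w x x' hx').mpr ⟨V, hxV, inferInstance⟩
    refine ⟨U₁ ⊓ U₂, ⟨hxU₁, hxU₂⟩, ?_⟩
    have h1 : Smooth ((U₁ ⊓ U₂).ι ≫ f) := by
      rw [← X.homOfLE_ι (inf_le_left : U₁ ⊓ U₂ ≤ U₁), Category.assoc]
      infer_instance
    have h2 : FormallyUnramified ((U₁ ⊓ U₂).ι ≫ f) := by
      rw [← X.homOfLE_ι (inf_le_right : U₁ ⊓ U₂ ≤ U₂), Category.assoc]
      exact IsZariskiLocalAtSource.comp hU₂ _
    exact Etale.of_formallyUnramified_of_flat _

end Groth.Agent.S16764
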