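import Groth.Statements.S16777
import Groth.Agent.Lib.Helper6.MT6
import Groth.Agent.Lib.Helper79.LfpOfComp

set_option autoImplicit false
open CategoryTheory MonoidalCategory CartesianMonoidalCategory MonObj GrpObj AlgebraicGeometry
universe u
open SGA3x

namespace Groth.Agent.S16777

/-- Let G be an affine group scheme of finite presentation over a scheme S, H ⊆ G a subgroup scheme of
multiplicative type (of finite type) and Y' ⊆ G any closed subscheme of finite presentation over S.
Then the transporter of H into Y' (points g with g h g⁻¹ in Y' for all points h of H after any base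
change) is representable by a closed subscheme of G of finite presentation over S. -/
theorem result {S : Scheme.{u}} (G H Y' : Over S) [GrpObj G] [GrpObj H]
    (hGa : IsAffineHom G.hom) (hGfp : LocallyOfFinitePresentation G.hom)
    (i : H ⟶ G) [IsMonHom i] [Mono i] (hH : SGA3x.IsMultTypeFT H)
    (y' : Y' ⟶ G) (hy' : IsClosedImmersion y'.left) (hY'fp : LocallyOfFinitePresentation Y'.hom) :
    ∃ (C : Over S) (c : C ⟶ G), IsClosedImmersion c.left ∧ LocallyOfFinitePresentation C.hom ∧
      ∀ (X : Over S) (g : X ⟶ G), (∃ z : X ⟶ C, z ≫ c = g) ↔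
        ∀ (X' : Over S) (x : X' ⟶ X) (h : X' ⟶ H), ∃ a' : X' ⟶ Y', (x ≫ g) * (h ≫ i) * (x ≫ g)⁻¹ = a' ≫ y' := by
  haveI := hGa
  haveI := hGfp
  haveI := hy'
  let κ : H ⊗ G ⟶ G := snd H G * (fst H G ≫ i) * (snd H G)⁻¹
  let j := Limits.pullback.snd y'.left κ.left
  haveI : IsClosedImmersion j := by dsimp only [j]; infer_instance
  have hy'fp : LocallyOfFinitePresentation y'.left := by
    apply Groth.Agent.Lib.Helper79.lfp_of_comp (g := G.hom) _ inferInstance
    rw [Over.w y']
    exact hY'fp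
  haveI := hy'fp
  haveI : LocallyOfFinitePresentation j := by dsimp only [j]; infer_instance
  obtain ⟨T, t, htci, ht, htfp⟩ := Groth.Agent.Lib.Helper6.MultTypeClosed.rep_of_multType H G hH j
  haveI := htfp inferInstance
  refine ⟨Over.mk (t ≫ G.hom), Over.homMk t rfl, htci, ?_, ?_⟩
  · change LocallyOfFinitePresentation (t ≫ G.hom)
    infer_instance
  intro X g
  have key : ∀ (X' : Over S) (x : X' ⟶ X) (h : X' ⟶ H),
      Groth.Agent.Lib.Helper6.EssFreeLocal.Fac j (lift h (x ≫ g)).left ↔
      ∃ a' : X' ⟶ Y', (x ≫ g) * (h ≫ i) * (x ≫ g)⁻¹ = a' ≫ y' := by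
    intro X' x h
    have e1 : lift h (x ≫ g) ≫ κ = (x ≫ g) * (h ≫ i) * (x ≫ g)⁻¹ := by
      rw [MonObj.comp_mul, MonObj.comp_mul, GrpObj.comp_inv, lift_snd, lift_fst_assoc]
    rw [← e1]
    dsimp only [j]
    rw [Groth.Agent.Lib.Helper6.EssFreeLocal.fac_pullback_iff]
    constructor
    · rintro ⟨l, hl⟩
      refine ⟨Over.homMk l ?_, Over.OverMorphism.ext hl.symm⟩
      rw [← Over.w y', ← Category.assoc, hl]
      exact Over.w (lift h (x ≫ g) ≫ κ)
    · rintro ⟨a', ha'⟩
      exact ⟨a'.left, (congrArg (fun m => m.left) ha').symm⟩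
  constructor
  · rintro ⟨z, hz⟩ X' x h
    rw [← key]
    have h1 : Groth.Agent.Lib.Helper6.EssFreeLocal.Fac t g.left :=
      ⟨z.left, congrArg (fun m => m.left) hz⟩
    exact (Groth.Agent.Lib.Helper6.MultTypeClosed.points_iff H G _ X g).mp ((ht _ g.left).mp h1)
      X' x h
  · intro hyp
    have h1 := (ht _ g.left).mpr
      ((Groth.Agent.Lib.Helper6.MultTypeClosed.points_iff H G _ X g).mpr
        (fun X' x h => (key X' x h).mpr (hyp X' x h)))
    obtain ⟨l, hl⟩ := h1
    refine ⟨Over.homMk l ?_, Over.OverMorphism.ext hl⟩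
    change l ≫ t ≫ G.hom = X.hom
    rw [← Category.assoc, hl, Over.w g]

end Groth.Agent.S16777
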