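import Groth.Statements.S1678
import Mathlib.Tactic
import Groth.Agent.Lib.Helper43.SmoothSection
import Groth.Agent.S1661
import Groth.Agent.S2886
-- import your own Groth.Agent.* helpers here

set_option autoImplicit false
universe u
open CategoryTheory CategoryTheory.Limits AlgebraicGeometry TopologicalSpace
open SDiv

namespace Groth.Agent.S1678

/-- Let X ⟶ S be smooth and let i : Y ⟶ X and j : Y ⟶ S be closed immersions with i ≫ (X ⟶ S) = j. If j
is a regular closed immersion then so is i. -/
theorem result {X Y S : Scheme.{u}} (p : X ⟶ S) [Smooth p] (i : Y ⟶ X) (j : Y ⟶ S)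
    [IsClosedImmersion i] [IsClosedImmersion j] (h : i ≫ p = j) (hj : Mor2.IsRegularClosedImmersion j) :
    Mor2.IsRegularClosedImmersion i := by
  subst h
  have hw : (𝟙 Y) ≫ (i ≫ p) = i ≫ p := Category.id_comp _
  let σ : Y ⟶ pullback (i ≫ p) p := pullback.lift (𝟙 Y) i hw
  have hσ1 : σ ≫ pullback.fst (i ≫ p) p = 𝟙 Y := pullback.lift_fst _ _ _
  have hσ2 : σ ≫ pullback.snd (i ≫ p) p = i := pullback.lift_snd _ _ _
  have h1 : Mor2.IsRegularClosedImmersion (pullback.snd (i ≫ p) p) :=
    Groth.Agent.S2886.result (i ≫ p) p hj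
  haveI : IsClosedImmersion (pullback.snd (i ≫ p) p) := h1.1
  haveI : IsClosedImmersion (σ ≫ pullback.snd (i ≫ p) p) := by rw [hσ2]; infer_instance
  haveI : IsClosedImmersion σ := IsClosedImmersion.of_comp σ (pullback.snd (i ≫ p) p)
  haveI : Smooth (pullback.fst (i ≫ p) p) := MorphismProperty.pullback_fst _ _ inferInstance
  have h2 : Mor2.IsRegularClosedImmersion σ :=
    Groth.Agent.Lib.Helper43.SmoothSection.regularClosedImmersion_of_section
      (pullback.fst (i ≫ p) p) σ hσ1
  have h3 := Groth.Agent.S1661.result σ (pullback.snd (i ≫ p) p) h2 h1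
  rwa [hσ2] at h3

end Groth.Agent.S1678
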