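import Groth.Statements.S16804
import Groth.Agent.Lib.Helper17.LocQTools17
import Groth.Agent.Lib.Helper17.LocQTools7
import Groth.Agent.Lib.Helper5.FppfCover
import Groth.Agent.Lib.Helper46.LocPSource
import Groth.Agent.Lib.Helper10.GerbePts
import Groth.Agent.S6443
import Groth.Prelude.Def_StGerb2

set_option autoImplicit false
universe u
open CategoryTheory AlgebraicGeometry
open Gerb

namespace Groth.Agent.S16804

section Aux
open CategoryTheory AlgebraicGeometry
open Gerb


open CategoryTheory.Limits Opposite AlgSp FibCat Stk AlgSt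
open Groth.Agent.Lib.Helper17 Groth.Agent.Lib.Helper17.FP Groth.Agent.Lib.Helper17.EO
  Groth.Agent.Lib.Helper17.PTS Groth.Agent.Lib.Helper17.ACP

variable {S : Scheme.{u}}

/-- flatness of morphisms of algebraic spaces descends along smooth surjective source maps -/
theorem flat_src ⦃X Y Z : Sp S⦄ (hX : IsAlgSpace X) (hY : IsAlgSpace Y) (hZ : IsAlgSpace Z)
    (m : X ⟶ Y) (b : Y ⟶ Z) (hm : LocP @Smooth m) (hms : IsSurjectiveMor m)
    (h : LocP @Flat (m ≫ b)) : LocP @Flat b := by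
  have hcov : IsFppfCover (fun _ : PUnit.{u + 1} => X) (fun _ => m) :=
    ⟨fun _ => ⟨PTS.locP_mono (fun _ _ g hg => by have := hg; infer_instance) m hm,
      PTS.locP_mono (fun _ _ g hg => by have := hg; infer_instance) m hm⟩,
      fun x => ⟨PUnit.unit, hms x⟩⟩
  have hq := Groth.Agent.Lib.Helper5.FppfCover.isFpqcCover_of_isFppfCover hY _ (fun _ => hX) _ hcov
  exact Groth.Agent.Lib.Helper46.LocPSource.locP_flat_of_fpqc_source _ _ hY (fun _ => hX) hq b hZ
    (fun _ => h)

/-- every morphism from an algebraic stack to the spectrum of a field is flat -/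
theorem locQ_flat_to_field {𝒲 : AlgSt.Cat S} (h𝒲 : AlgSt.IsAlgStack Scheme.fppfPrecoverage 𝒲)
    {k : Type u} [Field k] (a : Spec (CommRingCat.of k) ⟶ S)
    (π : 𝒲 ⥤ᵇ FibCat.overCat (Over.mk a)) : AlgSt.LocQ (AlgSp.LocP @Flat) π := by
  obtain ⟨U, x, hxs, hxj⟩ := h𝒲.atlas
  have hV := SPS.isAlgStack_overCat (Over.mk a)
  refine LQT.locQ_of_chart LQT.good_flat h𝒲.isStack.1 hV π x hxs hxj ?_
  let h : U ⟶ Over.mk a := Groth.Agent.S6443.fOf (BasedFunctor.comp x π)
  have ih : BasedFunctor.comp x π ≅ AlgSt.overMap h := Groth.Agent.S6443.isoOverMap _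
  have hfl : Flat h.left := by
    have : Subsingleton ↥(Over.mk a).left := inferInstanceAs (Subsingleton (PrimeSpectrum k))
    have : IsIntegral (Over.mk a).left := by
      change IsIntegral (Spec (CommRingCat.of k))
      infer_instance
    infer_instance
  have h1 : AlgSt.RepByAlgSpWith (LocP @Flat) (AlgSt.overMap h) :=
    CT.repWith_overMap _ DL.flat_bc h
      (Groth.Agent.Lib.Helper23.AlgSpMor.locP_yon_map_of LQT.good_flat.etLocal h hfl)
  exact DCN.repWith_of_iso _ ih h1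

theorem main
    (S : Scheme.{u}) (𝒵 : AlgSt.Cat S) (h𝒵 : AlgSt.IsAlgStack Scheme.fppfPrecoverage 𝒵)
    (k : Type u) [Field k] (a : Spec (CommRingCat.of k) ⟶ S)
    (z : FibCat.overCat (Over.mk a) ⥤ᵇ 𝒵)
    (hzs : AlgSt.RepByAlgSpWith AlgSp.IsSurjectiveMor z) (hzf : AlgSt.RepByAlgSpWith (AlgSp.LocP @Flat) z)
    (k' : Type u) [Field k'] (a' : Spec (CommRingCat.of k') ⟶ S)
    (z' : FibCat.overCat (Over.mk a') ⥤ᵇ 𝒵) :
    AlgSt.RepByAlgSpWith AlgSp.IsSurjectiveMor z' ∧ AlgSt.RepByAlgSpWith (AlgSp.LocP @Flat) z' := by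
  have hZ := h𝒵.isStack.1
  have hV := SPS.isAlgStack_overCat (S := S) (Over.mk a)
  have hV' := SPS.isAlgStack_overCat (S := S) (Over.mk a')
  have hVf : FibCat.IsFibGrpd (FibCat.overCat (Over.mk a)).p := FG.isFibGrpd_overForget _
  have hV'f : FibCat.IsFibGrpd (FibCat.overCat (Over.mk a')).p := FG.isFibGrpd_overForget _
  have hzsurj : AlgSt.IsSurjective z := isSurjective_of_repWith hZ z hzs
  constructor
  · refine LQT.repWith_surj_of_isSurjective hV' h𝒵 z' (LQT.rep1_chart h𝒵 z') ?_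
    intro p
    obtain ⟨t, rfl⟩ := ofChart_surjective z hzsurj p
    obtain ⟨t'⟩ : Nonempty ↥(Over.mk a').left := inferInstanceAs (Nonempty (PrimeSpectrum k'))
    obtain ⟨t'', ht''⟩ := ofChart_surjective z hzsurj (AlgSt.Points.ofChart z' t')
    have : Subsingleton ↥(Over.mk a).left := inferInstanceAs (Subsingleton (PrimeSpectrum k))
    have e : t'' = t := Subsingleton.elim _ _
    refine ⟨AlgSt.Points.ofChart (BasedFunctor.id _) t', ?_⟩
    rw [← ofChart_eq_map, ← ht'', e]
  · -- flatness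
    have hW : AlgSt.IsAlgStack Scheme.fppfPrecoverage (FibCat.fp z z') :=
      AFP.isAlgStack_fp h𝒵.isStack h𝒵.diag hV hV' z z'
    have h1 : AlgSt.LocQ (AlgSp.LocP @Flat) (FibCat.fpFst z z') := locQ_flat_to_field hW a _
    have hzQ : AlgSt.LocQ (AlgSp.LocP @Flat) z := LQT.locQ_of_repWith LQT.good_flat hV h𝒵 z hzf
    have hz'Q : AlgSt.LocQ (AlgSp.LocP @Flat) z' :=
      LQT.locQ_flat_of_fpFst_of_surjective_flat hV' h𝒵 z' hV z hzQ hzsurj h1
    obtain ⟨W, q, hqs, hqj, hq⟩ := LQT.exists_chart_of_locQ LQT.good_flat hZ z' hz'Q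
    have hWf : FibCat.IsFibGrpd (FibCat.overCat W).p := FG.isFibGrpd_overForget W
    exact LQT.repWith_of_precomp_smsurj hWf hZ (LocP @Flat) DL.flat_bc flat_src q z' hqs hqj
      (LQT.rep1_chart h𝒵 z') hq


end Aux

/-- If an algebraic stack 𝒵 admits a surjective flat morphism from the spectrum of a field, then every
morphism from the spectrum of a field to 𝒵 is surjective and flat (surjective and flat in the sense
of morphisms representable by algebraic spaces, i.e. after every base change to a scheme). -/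
theorem result
    (S : Scheme.{u}) (𝒵 : AlgSt.Cat S) (h𝒵 : AlgSt.IsAlgStack Scheme.fppfPrecoverage 𝒵)
    (k : Type u) [Field k] (a : Spec (CommRingCat.of k) ⟶ S)
    (z : FibCat.overCat (Over.mk a) ⥤ᵇ 𝒵)
    (hzs : AlgSt.RepByAlgSpWith AlgSp.IsSurjectiveMor z) (hzf : AlgSt.RepByAlgSpWith (AlgSp.LocP @Flat) z)
    (k' : Type u) [Field k'] (a' : Spec (CommRingCat.of k') ⟶ S)
    (z' : FibCat.overCat (Over.mk a') ⥤ᵇ 𝒵) :
    AlgSt.RepByAlgSpWith AlgSp.IsSurjectiveMor z' ∧ AlgSt.RepByAlgSpWith (AlgSp.LocP @Flat) z' := by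
  exact main S 𝒵 h𝒵 k a z hzs hzf k' a' z'

end Groth.Agent.S16804
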