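import Groth.Statements.S16809
import Groth.Prelude.Def_StGerb
import Groth.Agent.S12867
import Groth.Agent.S12869
import Groth.Agent.Lib.Helper17.PointsTop2
import Groth.Agent.Lib.Helper17.LocQTools6
import Groth.Agent.Lib.Helper23.AlgSpNoeth2
import Groth.Agent.Lib.Helper46.EtLocal

set_option autoImplicit false
universe u
open CategoryTheory AlgebraicGeometry
open Gerb

namespace Groth.Agent.S16809

section Aux
open CategoryTheory CategoryTheory.Limits AlgebraicGeometry Opposite AlgSp FibCat Stk AlgSt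
open Groth.Agent.Lib.Helper17 Groth.Agent.Lib.Helper17.FP Groth.Agent.Lib.Helper17.EO
open Groth.Agent.Lib.Helper17.PD Groth.Agent.Lib.Helper17.AT Groth.Agent.Lib.Helper17.AB
open Groth.Agent.Lib.Helper17.AOS Groth.Agent.Lib.Helper17.ACP Groth.Agent.Lib.Helper17.PTS
open Groth.Agent.Lib.Helper10.OST Groth.Agent.Lib.Helper86
open Groth.Agent.Lib.Helper46 Groth.Agent.Lib.Helper46.LocPChart


variable {S : Scheme.{u}}

/-- a nontrivial reduced ring has a flat homomorphism to a field -/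
theorem exists_field_flat (A : Type u) [CommRing A] [IsReduced A] [Nontrivial A] :
    ∃ (K : Type u) (_ : Field K) (φ : A →+* K), φ.Flat := by
  obtain ⟨⟨p, hp⟩⟩ := Ideal.nonempty_minimalPrimes (I := (⊥ : Ideal A)) bot_ne_top
  have hp' : p ∈ minimalPrimes A := hp
  haveI : p.IsPrime := hp.1.1
  have h0 : Ring.KrullDimLE 0 (Localization.AtPrime p) :=
    Ring.KrullDimLE.of_isLocalization p hp' (Localization.AtPrime p)
  have hF : IsField (Localization.AtPrime p) := Ring.KrullDimLE.isField_of_isReduced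
  letI : Field (Localization.AtPrime p) := hF.toField
  refine ⟨Localization.AtPrime p, inferInstance, algebraMap A (Localization.AtPrime p), ?_⟩
  rw [RingHom.flat_algebraMap_iff]
  exact IsLocalization.flat (Localization.AtPrime p) p.primeCompl

theorem map_subIncl_injective {𝒵 : AlgSt.Cat S} (hZ : FibCat.IsFibGrpd 𝒵.p) (Q : 𝒵.obj → Prop)
    (hiso : ObjectProperty.IsClosedUnderIsomorphisms Q)
    (hQf : FibCat.IsFibGrpd (AlgSt.fullSub 𝒵 Q).p) :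
    Function.Injective (AlgSt.Points.map (AlgSt.subIncl 𝒵 Q)) := by
  intro ξ ζ h
  obtain ⟨p, rfl⟩ := AlgSt.Points.mk_surjective ξ
  obtain ⟨q, rfl⟩ := AlgSt.Points.mk_surjective ζ
  have h' : AlgSt.Points.mk (p.map (AlgSt.subIncl 𝒵 Q)) =
      AlgSt.Points.mk (q.map (AlgSt.subIncl 𝒵 Q)) := h
  obtain ⟨r, α, β, -⟩ := (mk_eq_mk_iff hZ _ _).mp h'
  have hr : Q r.obj := Q_of_hom hZ Q hiso hQf α p.obj.property
  let r' : AlgSt.FPt (AlgSt.fullSub 𝒵 Q) := subPt Q r hr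
  exact AlgSt.Points.sound ⟨r', (ObjectProperty.homMk α : r'.obj ⟶ p.obj),
    (ObjectProperty.homMk β : r'.obj ⟶ q.obj), trivial⟩

theorem resGerbe_of_fieldPt {𝒳 : AlgSt.Cat S} (x : AlgSt.Points 𝒳) (𝒵 : AlgSt.Cat S) (f : 𝒵 ⥤ᵇ 𝒳)
    (k : Type u) [Field k] (a : Spec (CommRingCat.of k) ⟶ S)
    (z : FibCat.overCat (Over.mk a) ⥤ᵇ 𝒵) (h𝒵 : AlgSt.IsAlgStack Scheme.fppfPrecoverage 𝒵)
    (hf : AlgSt.IsMono f) (hzs : AlgSt.RepByAlgSpWith AlgSp.IsSurjectiveMor z)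
    (hx : ∀ t : ↥(Over.mk a).left, AlgSt.Points.map f (AlgSt.Points.ofChart z t) = x) :
    Gerb.ResGerbeExists Scheme.fppfPrecoverage 𝒳 x := by
  have hsurj := ofChart_surjective z (isSurjective_of_repWith h𝒵.isStack.1 z hzs)
  have hpt : Nonempty ↥(Over.mk a).left := (inferInstance : Nonempty (Spec (CommRingCat.of k)))
  have hss : Subsingleton ↥(Over.mk a).left := (inferInstance : Subsingleton (PrimeSpectrum k))
  obtain ⟨pt⟩ := hpt
  refine ⟨𝒵, f, h𝒵, hf, ⟨AlgSt.Points.ofChart z pt⟩, ⟨fun ξ ζ => ?_⟩, fun ξ => ?_⟩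
  · obtain ⟨t, rfl⟩ := hsurj ξ
    obtain ⟨t', rfl⟩ := hsurj ζ
    rw [Subsingleton.elim t t']
  · obtain ⟨t, rfl⟩ := hsurj ξ
    exact hx t

theorem reduced_of_resGerbe {𝒳 : AlgSt.Cat S} (h𝒳 : AlgSt.IsAlgStack Scheme.fppfPrecoverage 𝒳)
    (x : AlgSt.Points 𝒳) (h : Gerb.ResGerbeExists Scheme.fppfPrecoverage 𝒳 x) :
    ∃ (𝒵 : AlgSt.Cat S) (f : 𝒵 ⥤ᵇ 𝒳), AlgSt.IsAlgStack Scheme.fppfPrecoverage 𝒵 ∧
        AlgSt.SmoothLocally (fun T => IsReduced T) 𝒵 ∧ AlgSt.IsMono f ∧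
        Nonempty (AlgSt.Points 𝒵) ∧ Subsingleton (AlgSt.Points 𝒵) ∧
        ∀ p, AlgSt.Points.map f p = x := by
  obtain ⟨𝒵, i, h𝒵, hi, hne, hss, hx⟩ := h
  obtain ⟨Q, hQ, hrange, hred⟩ := Groth.Agent.S12867.result h𝒵 Set.univ isClosed_univ
  obtain ⟨hiso, halg, hcl⟩ := hQ
  have hinj := map_subIncl_injective h𝒵.isStack.1 Q hiso halg.isStack.1
  have hmono : AlgSt.IsMono (AlgSt.subIncl 𝒵 Q) :=
    DDC.repWith_mono (fun X Y a _ _ ha =>
      Groth.Agent.Lib.Helper62.mono_of_repWith @IsClosedImmersion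
        (fun f hf => by haveI := hf; infer_instance) a ha) _ hcl
  refine ⟨AlgSt.fullSub 𝒵 Q, BasedFunctor.comp (AlgSt.subIncl 𝒵 Q) i, halg, hred,
    Groth.Agent.S12869.result halg h𝒵 h𝒳 _ _ hmono hi, ?_, ?_, ?_⟩
  · obtain ⟨ξ⟩ := hne
    have h1 : ξ ∈ Set.range (AlgSt.Points.map (AlgSt.subIncl 𝒵 Q)) := by
      rw [hrange]
      trivial
    obtain ⟨ζ, -⟩ := h1
    exact ⟨ζ⟩
  · exact ⟨fun a b => hinj (Subsingleton.elim _ _)⟩
  · intro p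
    rw [map_comp]
    exact hx _

theorem fieldPt_of_reduced {𝒳 : AlgSt.Cat S} (x : AlgSt.Points 𝒳) (𝒵 : AlgSt.Cat S) (f : 𝒵 ⥤ᵇ 𝒳)
    (h𝒵 : AlgSt.IsAlgStack Scheme.fppfPrecoverage 𝒵)
    (hred : AlgSt.SmoothLocally (fun T => IsReduced T) 𝒵) (hf : AlgSt.IsMono f)
    (hne : Nonempty (AlgSt.Points 𝒵)) (hss : Subsingleton (AlgSt.Points 𝒵))
    (hx : ∀ p, AlgSt.Points.map f p = x) :
    ∃ (𝒵 : AlgSt.Cat S) (f : 𝒵 ⥤ᵇ 𝒳) (k : Type u) (_ : Field k) (a : Spec (CommRingCat.of k) ⟶ S)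
        (z : FibCat.overCat (Over.mk a) ⥤ᵇ 𝒵), AlgSt.IsAlgStack Scheme.fppfPrecoverage 𝒵 ∧
        AlgSt.IsMono f ∧
        AlgSt.RepByAlgSpWith AlgSp.IsSurjectiveMor z ∧ AlgSt.RepByAlgSpWith (AlgSp.LocP @Flat) z ∧
        ∀ t : ↥(Over.mk a).left, AlgSt.Points.map f (AlgSt.Points.ofChart z t) = x := by
  have hZ := h𝒵.isStack.1
  obtain ⟨W, w, hws, hwsurj⟩ := h𝒵.atlas
  have hWred : IsReduced W.left := hred W w hws
  have hsurj := ofChart_surjective w (isSurjective_of_repWith hZ w hwsurj)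
  obtain ⟨ξ⟩ := hne
  obtain ⟨w₀, -⟩ := hsurj ξ
  obtain ⟨U, hU, hw₀U, -⟩ := exists_isAffineOpen_mem_and_subset (x := w₀)
    (U := (⊤ : W.left.Opens)) trivial
  have hA1 : _root_.IsReduced Γ(W.left, U) := inferInstance
  have hA2 : Nontrivial Γ(W.left, U) := by
    have hp := (hU.primeIdealOf ⟨w₀, hw₀U⟩).isPrime
    refine ⟨⟨0, 1, fun h => hp.ne_top ((Ideal.eq_top_iff_one _).mpr ?_)⟩⟩
    rw [← h]
    exact Ideal.zero_mem _
  obtain ⟨K, hK, φ, hφ⟩ := exists_field_flat Γ(W.left, U)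
  let r : Spec (CommRingCat.of K) ⟶ W.left := Spec.map (CommRingCat.ofHom φ) ≫ hU.fromSpec
  have hr : Flat r := by
    have h1 : Flat (Spec.map (CommRingCat.ofHom φ)) := by
      rw [Flat.SpecMap_iff]
      exact hφ
    have h2 : IsOpenImmersion hU.fromSpec := inferInstance
    infer_instance
  let a : Spec (CommRingCat.of K) ⟶ S := r ≫ W.hom
  let r' : Over.mk a ⟶ W := Over.homMk r rfl
  let z : FibCat.overCat (Over.mk a) ⥤ᵇ 𝒵 := BasedFunctor.comp (AlgSt.overMap r') w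
  have hK' : FibCat.IsFibGrpd (FibCat.overCat (Over.mk a)).p := FG.isFibGrpd_overForget _
  have hzf : AlgSt.RepByAlgSpWith (AlgSp.LocP @Flat) z :=
    repWith_comp_of_schLocal' hK' hZ _ DL.flat_bc DL.flat_cp flat_schLocal (AlgSt.overMap r') w
      (CT.repWith_overMap _ DL.flat_bc r'
        (Groth.Agent.Lib.Helper23.AlgSpMor.locP_yon_map_of etLocal_flat r' hr))
      (flat_of_smooth w hws)
  have hzs : AlgSt.RepByAlgSpWith AlgSp.IsSurjectiveMor z := by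
    refine repWith_of_isSurjective hK' hZ z (Groth.Agent.Lib.Helper17.LQT.rep1_chart h𝒵 z) ?_
    intro ζ
    have hpt : Nonempty ↥(Over.mk a).left :=
      (inferInstance : Nonempty (Spec (CommRingCat.of K)))
    obtain ⟨pt⟩ := hpt
    exact ⟨AlgSt.Points.ofChart (BasedFunctor.id _) pt, Subsingleton.elim _ _⟩
  exact ⟨𝒵, f, K, hK, a, z, h𝒵, hf, hzs, hzf, fun t => hx _⟩

theorem main (S : Scheme.{u}) (𝒳 : AlgSt.Cat S) (h𝒳 : AlgSt.IsAlgStack Scheme.fppfPrecoverage 𝒳)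
    (x : AlgSt.Points 𝒳) :
    [Gerb.ResGerbeExists Scheme.fppfPrecoverage 𝒳 x,
      ∃ (𝒵 : AlgSt.Cat S) (f : 𝒵 ⥤ᵇ 𝒳), AlgSt.IsAlgStack Scheme.fppfPrecoverage 𝒵 ∧
        AlgSt.SmoothLocally (fun T => IsReduced T) 𝒵 ∧ AlgSt.IsMono f ∧
        Nonempty (AlgSt.Points 𝒵) ∧ Subsingleton (AlgSt.Points 𝒵) ∧ ∀ p, AlgSt.Points.map f p = x,
      ∃ (𝒵 : AlgSt.Cat S) (f : 𝒵 ⥤ᵇ 𝒳) (k : Type u) (_ : Field k) (a : Spec (CommRingCat.of k) ⟶ S)
        (z : FibCat.overCat (Over.mk a) ⥤ᵇ 𝒵), AlgSt.IsAlgStack Scheme.fppfPrecoverage 𝒵 ∧ AlgSt.IsMono f ∧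
        AlgSt.RepByAlgSpWith AlgSp.IsSurjectiveMor z ∧ AlgSt.RepByAlgSpWith (AlgSp.LocP @Flat) z ∧
        ∀ t : ↥(Over.mk a).left, AlgSt.Points.map f (AlgSt.Points.ofChart z t) = x].TFAE := by
  tfae_have 1 → 2 := fun h => reduced_of_resGerbe h𝒳 x h
  tfae_have 2 → 3 := by
    rintro ⟨𝒵, f, h𝒵, hred, hf, hne, hss, hx⟩
    exact fieldPt_of_reduced x 𝒵 f h𝒵 hred hf hne hss hx
  tfae_have 3 → 1 := by
    rintro ⟨𝒵, f, k, hk, a, z, h𝒵, hf, hzs, -, hx⟩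
    exact resGerbe_of_fieldPt x 𝒵 f k a z h𝒵 hf hzs hx
  tfae_finish


end Aux

/-- (1)⇔(2)⇔(3): for a point x of an algebraic stack 𝒳 the following are equivalent: some algebraic
stack with exactly one point maps monomorphically to 𝒳 onto x; some reduced algebraic stack with
exactly one point does; some algebraic stack 𝒵 with a monomorphism f : 𝒵 → 𝒳 receives a surjective
flat morphism z from the spectrum of a field with f(z) = x. -/
theorem result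
    (S : Scheme.{u}) (𝒳 : AlgSt.Cat S) (h𝒳 : AlgSt.IsAlgStack Scheme.fppfPrecoverage 𝒳) (x : AlgSt.Points 𝒳) :
    [Gerb.ResGerbeExists Scheme.fppfPrecoverage 𝒳 x,
      ∃ (𝒵 : AlgSt.Cat S) (f : 𝒵 ⥤ᵇ 𝒳), AlgSt.IsAlgStack Scheme.fppfPrecoverage 𝒵 ∧
        AlgSt.SmoothLocally (fun T => IsReduced T) 𝒵 ∧ AlgSt.IsMono f ∧
        Nonempty (AlgSt.Points 𝒵) ∧ Subsingleton (AlgSt.Points 𝒵) ∧ ∀ p, AlgSt.Points.map f p = x,
      ∃ (𝒵 : AlgSt.Cat S) (f : 𝒵 ⥤ᵇ 𝒳) (k : Type u) (_ : Field k) (a : Spec (CommRingCat.of k) ⟶ S)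
        (z : FibCat.overCat (Over.mk a) ⥤ᵇ 𝒵), AlgSt.IsAlgStack Scheme.fppfPrecoverage 𝒵 ∧ AlgSt.IsMono f ∧
        AlgSt.RepByAlgSpWith AlgSp.IsSurjectiveMor z ∧ AlgSt.RepByAlgSpWith (AlgSp.LocP @Flat) z ∧
        ∀ t : ↥(Over.mk a).left, AlgSt.Points.map f (AlgSt.Points.ofChart z t) = x].TFAE := by
  exact main S 𝒳 h𝒳 x

end Groth.Agent.S16809
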