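import Groth.Statements.S16813
import Groth.Prelude.Def_StGerb
import Groth.Agent.Lib.Helper10.OpenSubT3
import Groth.Agent.Lib.Helper17.FppfDescent
import Groth.Agent.Lib.Helper23.SLQLoc
import Groth.Agent.Lib.Helper37.OnePoint

set_option autoImplicit false
universe u
open CategoryTheory AlgebraicGeometry
open Gerb

namespace Groth.Agent.S16813

section Aux
open CategoryTheory CategoryTheory.Limits AlgebraicGeometry Opposite AlgSp FibCat Stk AlgSt
open Groth.Agent.Lib.Helper17 Groth.Agent.Lib.Helper17.FP Groth.Agent.Lib.Helper17.EO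
open Groth.Agent.Lib.Helper17.PD Groth.Agent.Lib.Helper17.AT Groth.Agent.Lib.Helper17.AB
open Groth.Agent.Lib.Helper17.AOS Groth.Agent.Lib.Helper17.ACP Groth.Agent.Lib.Helper17.PTS
open Groth.Agent.Lib.Helper17.FI Groth.Agent.Lib.Helper17.PS Groth.Agent.Lib.Helper17.FD
open Groth.Agent.Lib.Helper10.OST Groth.Agent.Lib.Helper86
open Groth.Agent.Lib.Helper46 Groth.Agent.Lib.Helper46.LocPChart


variable {S : Scheme.{u}}

/-- the base change, in algebraic spaces, of the structure map of a representing space -/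
theorem bc_of_fpFst (P : MorphismProperty (AlgSp.Sp S)) (hPb : ACP.BC P) (hsl : ACov.SchLocal P)
    {𝒜 𝒱 : AlgSt.Cat S} {U : Over S}
    (g : 𝒜 ⥤ᵇ FibCat.overCat U) (c : 𝒱 ⥤ᵇ FibCat.overCat U)
    (F G : AlgSp.Space S) (e : ofSp F.obj ⥤ᵇ 𝒜) (he : FibCat.IsEquivOver e)
    (eG : ofSp G.obj ⥤ᵇ 𝒱) (heG : FibCat.IsEquivOver eG)
    (h : AlgSt.RepByAlgSpWith P (FibCat.fpFst c g)) :
    ∃ (X : AlgSp.Sp S) (fst : X ⟶ F.obj) (snd : X ⟶ G.obj),
      IsPullback fst snd (spMapOfOver (BasedFunctor.comp e g))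
        (spMapOfOver (BasedFunctor.comp eG c)) ∧ P snd := by
  obtain ⟨hpb, hpres⟩ := Groth.Agent.S9875.result S
  let Y : AlgSp.Space S := (AlgSp.ofScheme S).obj U
  let a' : F ⟶ Y := ObjectProperty.homMk (spMapOfOver (BasedFunctor.comp e g))
  let c' : G ⟶ Y := ObjectProperty.homMk (spMapOfOver (BasedFunctor.comp eG c))
  have sq0 : IsPullback (pullback.fst a' c') (pullback.snd a' c') a' c' :=
    IsPullback.of_hasPullback a' c'
  have sq1 : IsPullback (pullback.fst a' c').hom (pullback.snd a' c').hom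
      (spMapOfOver (BasedFunctor.comp e g)) (spMapOfOver (BasedFunctor.comp eG c)) :=
    sq0.map (ObjectProperty.ι (AlgSp.IsAlgSpace (S := S)))
  have sq2 : IsPullback (pullback.fst a' c').hom.hom (pullback.snd a' c').hom.hom
      (spMapOfOver (BasedFunctor.comp e g)).hom (spMapOfOver (BasedFunctor.comp eG c)).hom :=
    sq1.map (sheafToPresheaf (AlgSp.J S) (Type (u + 1)))
  have hQ : (ACP.restr P).RespectsIso := ACP.restr_respectsIso P hPb
  refine ⟨_, _, _, sq1, ?_⟩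
  apply hsl (pullback a' c').property G.property
  have hrb : AlgSp.RepBySp (pullback.snd a' c').hom.hom :=
    AR.repBySp_of_algSpaces (pullback a' c') G _
  have h1 : AlgSt.RepByAlgSpWith (ACP.restr P) (FibCat.fpFst c g) :=
    (ACP.repWith_restr_iff P _).mpr h
  have h3 : AlgSt.RepByAlgSpWith (ACP.restr P)
      (FibCat.fpFst (ofSpMap (spMapOfOver (BasedFunctor.comp eG c)))
        (ofSpMap (spMapOfOver (BasedFunctor.comp e g)))) := by
    refine repWith_of_square_fwd (ACP.restr P) (FibCat.fpFst c g) _ (FD.KK g c e eG) eG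
      (FD.KK_isEquivOver g c e eG he heG) heG (fun x' => Iso.refl _) ?_ ?_ h1
    · intro x x₁ β
      exact (Category.comp_id _).trans (Category.id_comp _).symm
    · intro x'
      exact IsHomLift.id ((BasedFunctor.comp (FibCat.fpFst _ _) eG).w_obj x')
  have comm := PP.comm_of_isPullback sq2
  have hE := PF.E_isEquivOver _ _ _ _ comm (PP.inj_of_isPullback sq2) (PP.surj_of_isPullback sq2)
  have h4 : AlgSt.RepByAlgSpWith (ACP.restr P) (Stk.ofPshMap (pullback.snd a' c').hom.hom) := by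
    rw [← PF.E_fst _ _ _ _ comm]
    refine repWith_of_square_fwd (ACP.restr P) _ _ (PF.E _ _ _ _ comm) (BasedFunctor.id _) hE
      (AOS.isEquivOver_id _) (fun x' => Iso.refl _) ?_ ?_ h3
    · intro x x₁ β
      exact (Category.comp_id _).trans (Category.id_comp _).symm
    · intro x'
      exact IsHomLift.id ((BasedFunctor.comp (PF.E _ _ _ _ comm) (FibCat.fpFst _ _)).w_obj x')
  have h5 : AlgSp.RepBySpWith (ACP.restr P) (pullback.snd a' c').hom.hom :=
    (Groth.Agent.S12778.result (ACP.restr P) _ hrb).mpr h4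
  intro T ξ F' fst snd sq
  obtain ⟨hh, hA, -, -, hq⟩ := h5 ξ fst snd sq
  exact ⟨hh, hA, hq⟩

/-- **fpqc descent for the first leg of a bridge** from a field-like base to a chart factoring
through a full substack which is algebraic -/
theorem smooth_leg {𝒳 : AlgSt.Cat S} (Q : 𝒳.obj → Prop)
    {U : Over S} [IsAffine U.left] [Subsingleton ↥U.left]
    (hU : ∀ v : ↥U.left, IsField (U.left.presheaf.stalk v))
    (y : FibCat.overCat U ⥤ᵇ 𝒳) {W : Over S} (w : FibCat.overCat W ⥤ᵇ AlgSt.fullSub 𝒳 Q)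
    (hws : AlgSt.RepByAlgSpWith (AlgSp.LocP @Smooth) w)
    (E' : Over S) (a : E' ⟶ U) (b : E' ⟶ W) (R : AlgSp.Space S)
    (e : ofSp R.obj ⥤ᵇ FibCat.fp y (BasedFunctor.comp w (AlgSt.subIncl 𝒳 Q)))
    (c : (yon S).obj E' ⟶ R.obj) (he : FibCat.IsEquivOver e) (hce : RepWith @Etale c)
    (ha : (yon S).map a = c ≫ spMapOfOver (BasedFunctor.comp e
      (FibCat.fpFst y (BasedFunctor.comp w (AlgSt.subIncl 𝒳 Q)))))
    (iso : BasedFunctor.comp (AlgSt.overMap a) y ≅
      BasedFunctor.comp (AlgSt.overMap b) (BasedFunctor.comp w (AlgSt.subIncl 𝒳 Q)))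
    (pt : ↥E'.left) : Smooth a.left := by
  let ι := AlgSt.subIncl 𝒳 Q
  let x₀ := BasedFunctor.comp w ι
  -- a nonempty affine open of `E'`
  let 𝒰 := E'.left.affineCover
  let i₀ := 𝒰.idx pt
  obtain ⟨pt', -⟩ := 𝒰.covers pt
  let V' : Over S := Over.mk (𝒰.f i₀ ≫ E'.hom)
  let j : V' ⟶ E' := Over.homMk (𝒰.f i₀) rfl
  have hV'aff : IsAffine V'.left := inferInstanceAs (IsAffine (𝒰.X i₀))
  let cc : FibCat.overCat V' ⥤ᵇ FibCat.overCat U :=
    BasedFunctor.comp (AlgSt.overMap j) (AlgSt.overMap a)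
  let ζ : FibCat.overCat V' ⥤ᵇ AlgSt.fullSub 𝒳 Q :=
    BasedFunctor.comp (BasedFunctor.comp (AlgSt.overMap j) (AlgSt.overMap b)) w
  have h1 : AlgSt.RepByAlgSpWith (AlgSp.LocP @Smooth) (FibCat.fpFst ζ w) :=
    repWith_fpFst _ w ζ hws
  have h2 : AlgSt.RepByAlgSpWith (AlgSp.LocP @Smooth)
      (FibCat.fpFst (BasedFunctor.comp ζ ι) x₀) :=
    repWith_of_precomp_equiv _ (Groth.Agent.Lib.Helper10.OST.KK ζ w ι)
      (Groth.Agent.Lib.Helper10.OST.KK_isEquivOver ζ w ι) _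
      (by rw [Groth.Agent.Lib.Helper10.OST.KK_fst]; exact h1)
  have h3 : AlgSt.RepByAlgSpWith (AlgSp.LocP @Smooth)
      (FibCat.fpFst (BasedFunctor.comp cc y) x₀) :=
    repWith_of_precomp_equiv _
      (tw (BasedFunctor.comp ζ ι) (BasedFunctor.comp cc y) x₀
        (fun t => compApp iso ((AlgSt.overMap j).obj t))
        (fun α => compApp_nat iso ((AlgSt.overMap j).map α))
        (fun t => compApp_lift iso ((AlgSt.overMap j).obj t)))
      (tw_isEquivOver _ _ _ _ _ _) _ h2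
  have h4 : AlgSt.RepByAlgSpWith (AlgSp.LocP @Smooth)
      (FibCat.fpFst cc (FibCat.fpFst y x₀)) :=
    repWith_of_precomp_equiv _ (paste cc y x₀) (paste_isEquivOver _ _ _) _ h3
  let G : AlgSp.Space S := ⟨(yon S).obj V', IsAlgSpace.yon_obj V'⟩
  obtain ⟨X, fst, snd, sq, hP⟩ := bc_of_fpFst _ AFP.sm_bc CT.sm_schLocal (FibCat.fpFst y x₀) cc R G
    e he (toOverCat V') (AD.toOverCat_isEquivOver V') h4
  rw [BRG.spMapOfOver_toOverCat] at sq
  set π : V' ⟶ U := Groth.Agent.S6443.fOf cc with hπ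
  set r := spMapOfOver (BasedFunctor.comp e (FibCat.fpFst y x₀)) with hr
  -- the scheme pullback
  let Vp : Over S := Over.mk (pullback.fst a.left π.left ≫ E'.hom)
  let jp : Vp ⟶ E' := Over.homMk (pullback.fst a.left π.left) rfl
  let kp : Vp ⟶ V' := Over.homMk (pullback.snd a.left π.left) (by
    change pullback.snd a.left π.left ≫ V'.hom = pullback.fst a.left π.left ≫ E'.hom
    rw [← Over.w π, ← Over.w a, ← Category.assoc, ← Category.assoc, pullback.condition])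
  have comm' : jp.left ≫ a.left = kp.left ≫ π.left := pullback.condition
  have comm : jp ≫ a = kp ≫ π := Over.OverMorphism.ext comm'
  have hopen : IsOpenImmersion (pullback.lift jp.left kp.left comm') := by
    have h : pullback.lift jp.left kp.left comm' = 𝟙 _ := by
      apply pullback.hom_ext
      · rw [pullback.lift_fst, Category.id_comp]; rfl
      · rw [pullback.lift_snd, Category.id_comp]; rfl
    rw [h]
    infer_instance
  have wq : ((yon S).map jp ≫ c) ≫ r = (yon S).map kp ≫ (yon S).map π := by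
    rw [Category.assoc, ← ha, ← Functor.map_comp, ← Functor.map_comp, comm]
  have hl := Groth.Agent.Lib.Helper23.SLQ.repWith_etale_lift r c hce a ha π jp kp comm comm' hopen wq
  have hP' : LocP @Smooth (pullback.snd r ((yon S).map π)) := by
    have h5 : pullback.snd r ((yon S).map π) = sq.isoPullback.inv ≫ snd := by
      rw [Iso.eq_inv_comp]
      exact sq.isoPullback_hom_snd
    rw [h5]
    haveI := locP_respectsIso (S := S) @Smooth
    exact MorphismProperty.RespectsIso.precomp (LocP (S := S) @Smooth) sq.isoPullback.inv snd hP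
  have hsm : Smooth kp.left :=
    hP' (pullback.lift ((yon S).map jp ≫ c) ((yon S).map kp) wq) (𝟙 _) kp hl
      (repWith_id _ V') (by rw [pullback.lift_snd, Category.comp_id])
  -- descent
  have hflat : Flat π.left := Groth.Agent.Lib.Helper37.OnePoint.flat_of_isField_stalk π.left hU
  have hsurj : Surjective π.left := ⟨fun u => ⟨pt', Subsingleton.elim _ _⟩⟩
  have hqc : QuasiCompact π.left := inferInstance
  exact MorphismProperty.of_pullback_snd_of_descendsAlong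
    (P := @Smooth) (Q := @Surjective ⊓ @Flat ⊓ @QuasiCompact) (f := a.left) (g := π.left)
    ⟨⟨hsurj, hflat⟩, hqc⟩ hsm

/-- the bridge between two charts with all its data -/
theorem exists_bridge_data {𝒳 : AlgSt.Cat S} (hX : FibCat.IsFibGrpd 𝒳.p)
    (hΔ : AlgSt.RepByAlgSp1 (FibCat.diag (FibCat.toSelf 𝒳))) {U U₀ : Over S}
    (x : FibCat.overCat U ⥤ᵇ 𝒳) (x₀ : FibCat.overCat U₀ ⥤ᵇ 𝒳) :
    ∃ (W : Over S) (a : W ⟶ U) (b : W ⟶ U₀) (R : AlgSp.Space S)
      (e : ofSp R.obj ⥤ᵇ FibCat.fp x x₀) (c : (yon S).obj W ⟶ R.obj),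
      FibCat.IsEquivOver e ∧ RepWith @Etale c ∧
      (yon S).map a = c ≫ spMapOfOver (BasedFunctor.comp e (FibCat.fpFst x x₀)) ∧
      Nonempty (BasedFunctor.comp (AlgSt.overMap a) x ≅ BasedFunctor.comp (AlgSt.overMap b) x₀) ∧
      (∀ (u : ↥U.left) (u₀ : ↥U₀.left), AlgSt.Points.ofChart x u = AlgSt.Points.ofChart x₀ u₀ →
        ∃ w : ↥W.left, a.left w = u ∧ b.left w = u₀) := by
  obtain ⟨W, a, b, R, e, c, he, hce, hcs, ha, hb, ⟨ia⟩, ⟨ib⟩⟩ := exists_bridge_q hX hΔ x x₀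
  have hcet := ACov.isEtaleMor_of_repWith c hce
  have hcsurj : IsSurjectiveMor c := ACov.points_map_surjective c hcs
  have hWsp : IsAlgSpace ((yon S).obj W) := IsAlgSpace.yon_obj W
  have hU : FibCat.IsFibGrpd (FibCat.overCat U).p := FG.isFibGrpd_overForget U
  have hU₀ : FibCat.IsFibGrpd (FibCat.overCat U₀).p := FG.isFibGrpd_overForget U₀
  have hfp : FibCat.IsFibGrpd (FibCat.fp x x₀).p := SP.isFibGrpd_fp _ _ hU hU₀ hX
  let q : FibCat.overCat W ⥤ᵇ FibCat.fp x x₀ :=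
    BasedFunctor.comp (BasedFunctor.comp (ofOverCat W) (ofSpMap c)) e
  have hiso : BasedFunctor.comp (AlgSt.overMap a) x ≅ BasedFunctor.comp (AlgSt.overMap b) x₀ := by
    let Q : (FibCat.overCat W : AlgSt.Cat S) ⟶ FibCat.fp x x₀ := q
    let X' : (FibCat.overCat U : AlgSt.Cat S) ⟶ 𝒳 := x
    let X₀' : (FibCat.overCat U₀ : AlgSt.Cat S) ⟶ 𝒳 := x₀
    have i1 : BasedFunctor.comp (FibCat.fpFst x x₀) x ≅ BasedFunctor.comp (FibCat.fpSnd x x₀) x₀ :=
      FibCat.fpIso x x₀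
    have i2 := Bicategory.whiskerLeftIso Q i1
    have i5 := Bicategory.whiskerRightIso
      (f := (BasedFunctor.comp q (FibCat.fpFst x x₀) :
        (FibCat.overCat W : AlgSt.Cat S) ⟶ FibCat.overCat U)) ia X'
    have i6 := Bicategory.whiskerRightIso
      (f := (BasedFunctor.comp q (FibCat.fpSnd x x₀) :
        (FibCat.overCat W : AlgSt.Cat S) ⟶ FibCat.overCat U₀)) ib X₀'
    exact i5.symm ≪≫ i2 ≪≫ i6
  have hq : AlgSt.IsSurjective q := by
    have h1 : AlgSt.RepByAlgSpWith IsSurjectiveMor (BasedFunctor.comp (ofOverCat W) (ofSpMap c)) :=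
      FD.repWith_precomp_equiv _ (ofOverCat W) (AD.ofOverCat_isEquivOver W) _
        (DCV.repWith_ofSpMap _ DL.surj_bc ⟨(yon S).obj W, IsAlgSpace.yon_obj W⟩ R c hcsurj)
    exact isSurjective_comp _ e (isSurjective_of_repWith (Stk.isFibGrpd_ofPsh _) _ h1)
      (isSurjective_of_isEquivOver e he)
  refine ⟨W, a, b, R, e, c, he, hce, ha, ⟨hiso⟩, ?_⟩
  intro u u₀ h
  obtain ⟨ω, hω1, hω2⟩ := exists_point_fp hU₀ hX hU x₀ x
    (AlgSt.Points.ofChart (BasedFunctor.id _) u) (AlgSt.Points.ofChart (BasedFunctor.id _) u₀) h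
  obtain ⟨ζ, rfl⟩ := hq ω
  obtain ⟨w, rfl⟩ := exists_ofChart_id W ζ
  refine ⟨w, ?_, ?_⟩
  · apply ofChart_id_injective U
    rw [← hω1, ← ofChart_overMap_id, ← map_comp]
    exact (ofChart_congr ia w).symm
  · apply ofChart_id_injective U₀
    rw [← hω2, ← ofChart_overMap_id, ← map_comp]
    exact (ofChart_congr ib w).symm

open Groth.Agent.Lib.Helper86 in
/-- **an object over a field-like base all of whose points lie in a full algebraic substack lies in
that substack** -/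
theorem Q_of_QT_range_field {𝒳 : AlgSt.Cat S} (h𝒳 : AlgSt.IsAlgStack Scheme.fppfPrecoverage 𝒳)
    (Q : 𝒳.obj → Prop) (hiso : ObjectProperty.IsClosedUnderIsomorphisms Q)
    (hU : AlgSt.IsAlgStack Scheme.fppfPrecoverage (AlgSt.fullSub 𝒳 Q)) {y : 𝒳.obj}
    [IsAffine (𝒳.p.obj y).left] [Subsingleton ↥(𝒳.p.obj y).left] [Nonempty ↥(𝒳.p.obj y).left]
    (hfield : ∀ v : ↥(𝒳.p.obj y).left, IsField ((𝒳.p.obj y).left.presheaf.stalk v))
    (hy : QT (Set.range (AlgSt.Points.map (AlgSt.subIncl 𝒳 Q))) y) : Q y := by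
  have hX := h𝒳.isStack.1
  have : 𝒳.p.IsFibered := TwoYoneda.isFibered_of_isFibGrpd hX
  obtain ⟨U₀, q, hqs, hqsurj⟩ := hU.atlas
  let i := AlgSt.subIncl 𝒳 Q
  let V : Over S := 𝒳.p.obj y
  let x₁ : 𝒳.p.Fiber V := ⟨y, rfl⟩
  let ŷ : FibCat.overCat V ⥤ᵇ 𝒳 := TwoYoneda.pbB x₁
  obtain ⟨W, a, b, R, e, c, he, hce, ha, ⟨iso⟩, hpt⟩ :=
    exists_bridge_data hX h𝒳.diag ŷ (BasedFunctor.comp q i)
  have hqsj := ofChart_surjective q (isSurjective_of_repWith hU.isStack.1 q hqsurj)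
  obtain ⟨v⟩ := (inferInstance : Nonempty ↥(𝒳.p.obj y).left)
  have h1 : AlgSt.Points.ofChart ŷ v ∈ Set.range (AlgSt.Points.map i) :=
    ofChart_mem_of_QT ŷ (Over.mk (𝟙 V)) (QT_of_hom (TwoYoneda.pbMap x₁ (Over.mk (𝟙 V))) hy) v
  obtain ⟨ξ, hξ⟩ := h1
  obtain ⟨u₀, rfl⟩ := hqsj ξ
  obtain ⟨pt, -, -⟩ := hpt v u₀ hξ.symm
  have hasm : Smooth a.left := smooth_leg Q hfield ŷ q hqs W a b R e c he hce ha iso pt
  have hasurj : Function.Surjective a.left := fun v' => ⟨pt, Subsingleton.elim _ _⟩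
  have : Flat a.left := inferInstance
  have : LocallyOfFinitePresentation a.left := inferInstance
  have hR := generate_singleton_mem_J a hasurj
  obtain ⟨ξ, e', -⟩ := Groth.Agent.Lib.Helper62.StkLocEss.exists_preimage_of_locally hX i y
    (Sieve.generate (Presieve.singleton a)) (hU.isStack.2 _ hR).essSurj
    ⟨(h𝒳.isStack.2 _ hR).full, (h𝒳.isStack.2 _ hR).faithful⟩ (by
      rintro V' f ⟨W', ψ, _, ⟨⟩, rfl⟩
      have hQ' : Q (ŷ.obj (Over.mk (ψ ≫ a))) :=
        hiso.of_iso (compApp iso (Over.mk ψ)).symm (q.obj _).property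
      exact ⟨⟨_, hQ'⟩, TwoYoneda.pbMap x₁ (Over.mk (ψ ≫ a)),
        (TwoYoneda.pbMap_cart x₁ (Over.mk (ψ ≫ a))).toIsHomLift⟩)
  exact hiso.of_iso e' ξ.property

theorem main
    (S : Scheme.{u}) (𝒳 : AlgSt.Cat S) (h𝒳 : AlgSt.IsAlgStack Scheme.fppfPrecoverage 𝒳) (x : AlgSt.Points 𝒳)
    (Q : 𝒳.obj → Prop) (hQ : Gerb.IsResGerbe Scheme.fppfPrecoverage 𝒳 x Q)
    (K : Type u) [Field K] (a : Spec (CommRingCat.of K) ⟶ S)
    (p : FibCat.overCat (Over.mk a) ⥤ᵇ 𝒳)
    (hp : ∀ t : ↥(Over.mk a).left, AlgSt.Points.ofChart p t = x) :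
    ∃ q : FibCat.overCat (Over.mk a) ⥤ᵇ AlgSt.fullSub 𝒳 Q,
      Nonempty (BasedFunctor.comp q (AlgSt.subIncl 𝒳 Q) ≅ p) := by
  obtain ⟨hiso, halg, hred, hnoeth, hne, hss, hx⟩ := hQ
  have hX := h𝒳.isStack.1
  let U : Over S := Over.mk a
  let t₀ : (FibCat.overCat U).obj := Over.mk (𝟙 U)
  have hyU : 𝒳.p.obj (p.obj t₀) = U := p.w_obj t₀
  have key : ∀ V : Over S, V = U → (IsAffine V.left ∧ Subsingleton ↥V.left ∧ Nonempty ↥V.left ∧
      ∀ v : ↥V.left, IsField (V.left.presheaf.stalk v)) := by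
    rintro V rfl
    refine ⟨(inferInstance : IsAffine (Spec (CommRingCat.of K))),
      (inferInstance : Subsingleton (PrimeSpectrum K)),
      (inferInstance : Nonempty (Spec (CommRingCat.of K))), fun v => ?_⟩
    exact Groth.Agent.Lib.Helper37.ClosedPoint.isField_stalk_of_formallyUnramified_over_field
      (K := K) (𝟙 (Spec (CommRingCat.of K))) v
  obtain ⟨k1, k2, k3, k4⟩ := key _ hyU
  have hQT : QT (Set.range (AlgSt.Points.map (AlgSt.subIncl 𝒳 Q))) (p.obj t₀) := by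
    apply QT_of_ofChart_mem hX p t₀
    intro w
    rw [hp]
    obtain ⟨z⟩ := hne
    exact ⟨z, hx z⟩
  have h0 : Q (p.obj t₀) := Q_of_QT_range_field h𝒳 Q hiso halg k4 hQT
  have hall : ∀ t : (FibCat.overCat U).obj, Q (p.obj t) := by
    intro t
    let φ : t ⟶ t₀ := Over.homMk t.hom (by simp [t₀])
    exact Q_of_hom hX Q hiso halg.isStack.1 (p.map φ) h0
  exact ⟨liftSub Q p hall, ⟨eqToIso (liftSub_comp Q p hall)⟩⟩


end Aux

/-- If the residual gerbe 𝒵_x of the algebraic stack 𝒳 at the point x exists, then every morphism from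
the spectrum of a field to 𝒳 in the class of x factors through the inclusion 𝒵_x → 𝒳. -/
theorem result
    (S : Scheme.{u}) (𝒳 : AlgSt.Cat S) (h𝒳 : AlgSt.IsAlgStack Scheme.fppfPrecoverage 𝒳) (x : AlgSt.Points 𝒳)
    (Q : 𝒳.obj → Prop) (hQ : Gerb.IsResGerbe Scheme.fppfPrecoverage 𝒳 x Q)
    (K : Type u) [Field K] (a : Spec (CommRingCat.of K) ⟶ S)
    (p : FibCat.overCat (Over.mk a) ⥤ᵇ 𝒳)
    (hp : ∀ t : ↥(Over.mk a).left, AlgSt.Points.ofChart p t = x) :
    ∃ q : FibCat.overCat (Over.mk a) ⥤ᵇ AlgSt.fullSub 𝒳 Q,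
      Nonempty (BasedFunctor.comp q (AlgSt.subIncl 𝒳 Q) ≅ p) := by
  exact main S 𝒳 h𝒳 x Q hQ K a p hp

end Groth.Agent.S16813
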