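import Groth.Statements.S16805
import Groth.Prelude.Def_StGerb
import Groth.Agent.S16813
import Groth.Agent.S16809
import Groth.Agent.S12867
import Groth.Agent.Lib.Helper17.LocQTools11
import Groth.Agent.Lib.Helper5.FieldBase
import Groth.Agent.Lib.Helper55.FlatDescent

set_option autoImplicit false
universe u
open CategoryTheory AlgebraicGeometry
open Gerb

namespace Groth.Agent.S16805

section Aux
open CategoryTheory CategoryTheory.Limits AlgebraicGeometry Opposite AlgSp FibCat Stk AlgSt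
open Groth.Agent.Lib.Helper17 Groth.Agent.Lib.Helper17.FP Groth.Agent.Lib.Helper17.EO
open Groth.Agent.Lib.Helper17.PD Groth.Agent.Lib.Helper17.AT Groth.Agent.Lib.Helper17.AB
open Groth.Agent.Lib.Helper17.AOS Groth.Agent.Lib.Helper17.ACP Groth.Agent.Lib.Helper17.PTS
open Groth.Agent.Lib.Helper17.FI Groth.Agent.Lib.Helper17.PS Groth.Agent.Lib.Helper17.FD
open Groth.Agent.Lib.Helper10.OST Groth.Agent.Lib.Helper86
open Groth.Agent.Lib.Helper46 Groth.Agent.Lib.Helper46.LocPChart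


variable {S : Scheme.{u}}

/-- if an algebraic stack has a flat surjective field point, every field point is flat -/
theorem flat_of_fieldPt {𝒵 : AlgSt.Cat S} (h𝒵 : AlgSt.IsAlgStack Scheme.fppfPrecoverage 𝒵)
    (k : Type u) [Field k] (a : Spec (CommRingCat.of k) ⟶ S)
    (z : FibCat.overCat (Over.mk a) ⥤ᵇ 𝒵)
    (hzs : AlgSt.RepByAlgSpWith AlgSp.IsSurjectiveMor z)
    (hzf : AlgSt.RepByAlgSpWith (AlgSp.LocP @Flat) z)
    {V : Over S} (z' : FibCat.overCat V ⥤ᵇ 𝒵) :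
    AlgSt.RepByAlgSpWith (AlgSp.LocP @Flat) z' := by
  have hX := h𝒵.isStack.1
  intro T y
  obtain ⟨E, aE, bE, RE, eE, cE, heE, hce, hcs, haE, -, -, -⟩ := exists_bridge_q hX h𝒵.diag y z'
  refine ⟨RE, eE, heE, ?_⟩
  set rE := spMapOfOver (BasedFunctor.comp eE (FibCat.fpFst y z')) with hrE
  -- the flat surjective cover of `T`
  obtain ⟨B, aB, bB, hPa, hsa, -, -, ⟨isoB⟩, -⟩ := LQT.exists_bridge_all hX h𝒵.diag y z
  have haBf : Flat aB.left :=
    hPa @Flat (fun X Y f hf => by have := hf; infer_instance) DL.flat_bc DL.flat_cp hzf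
  have haBs : Function.Surjective aB.left := hsa hzs
  -- flatness of `fp z z'` over the field
  obtain ⟨R0, e0, he0⟩ := (Groth.Agent.S12765.result hX).mp h𝒵.diag V z' (Over.mk a) z
  have hA : AlgSt.RepByAlgSpWith (AlgSp.LocP @Flat) (FibCat.fpFst z z') :=
    LQT.repWith_to_slice_of _ DL.flat_bc (FibCat.fpFst z z') R0 e0 he0
      (Groth.Agent.Lib.Helper5.FieldBase.locP_flat_to_field a _)
  have hB : AlgSt.RepByAlgSpWith (AlgSp.LocP @Flat)
      (FibCat.fpFst (AlgSt.overMap bB) (FibCat.fpFst z z')) :=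
    repWith_fpFst _ (FibCat.fpFst z z') (AlgSt.overMap bB) hA
  have hC : AlgSt.RepByAlgSpWith (AlgSp.LocP @Flat)
      (FibCat.fpFst (BasedFunctor.comp (AlgSt.overMap bB) z) z') :=
    repWith_precomp_equiv _ (paste (AlgSt.overMap bB) z z') (paste_isEquivOver _ _ _) _ hB
  have hD : AlgSt.RepByAlgSpWith (AlgSp.LocP @Flat)
      (FibCat.fpFst (BasedFunctor.comp (AlgSt.overMap aB) y) z') :=
    repWith_precomp_equiv _
      (tw (BasedFunctor.comp (AlgSt.overMap aB) y) (BasedFunctor.comp (AlgSt.overMap bB) z) z'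
        (fun w => compApp isoB.symm w) (fun α => compApp_nat isoB.symm α)
        (fun w => compApp_lift isoB.symm w))
      (tw_isEquivOver _ _ _ _ _ _) _ hC
  have h4 : AlgSt.RepByAlgSpWith (AlgSp.LocP @Flat)
      (FibCat.fpFst (AlgSt.overMap aB) (FibCat.fpFst y z')) :=
    repWith_of_precomp_equiv _ (paste (AlgSt.overMap aB) y z') (paste_isEquivOver _ _ _) _ hD
  let G : AlgSp.Space S := ⟨(yon S).obj B, IsAlgSpace.yon_obj B⟩
  obtain ⟨X, fst, snd, sq, hP⟩ := Groth.Agent.S16813.bc_of_fpFst _ DL.flat_bc flat_schLocal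
    (FibCat.fpFst y z') (AlgSt.overMap aB) RE G eE heE (toOverCat B) (AD.toOverCat_isEquivOver B) h4
  rw [BRG.spMapOfOver_overMap] at sq
  have hsnd : Flat (pullback.snd aE aB).left :=
    prop_of_locP_baseChange rE aB fst snd sq hP cE hce aE haE
  -- descent
  have sqS := (IsPullback.of_hasPullback aE aB).map (Over.forget S)
  have hfstf : Flat (pullback.fst aE aB).left :=
    MorphismProperty.of_isPullback (P := @Flat) sqS.flip haBf
  have hfsts : Surjective (pullback.fst aE aB).left :=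
    MorphismProperty.of_isPullback (P := @Surjective) sqS.flip ⟨haBs⟩
  have hcomp : Flat ((pullback.fst aE aB).left ≫ aE.left) := by
    have e1 : (pullback.fst aE aB).left ≫ aE.left = (pullback.snd aE aB).left ≫ aB.left := sqS.w
    rw [e1]
    infer_instance
  have haEf : Flat aE.left :=
    Groth.Agent.Lib.Helper55.flat_of_comp_of_flat_of_surjective (pullback.fst aE aB).left aE.left
  exact locP_of_chart etLocal_flat rE cE (𝟙 _) aE hce hcs (repWith_id _ T)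
    (by rw [← haE, Category.comp_id]) haEf

/-- (1) ⇒ (2) -/
theorem fieldPt_of_reduced' (𝒵 : AlgSt.Cat S)
    (h𝒵 : AlgSt.IsAlgStack Scheme.fppfPrecoverage 𝒵)
    (hred : AlgSt.SmoothLocally (fun T => IsReduced T) 𝒵)
    (hne : Nonempty (AlgSt.Points 𝒵)) (hss : Subsingleton (AlgSt.Points 𝒵)) :
    ∃ (k : Type u) (_ : Field k) (a : Spec (CommRingCat.of k) ⟶ S)
        (z : FibCat.overCat (Over.mk a) ⥤ᵇ 𝒵),
        AlgSt.RepByAlgSpWith AlgSp.IsSurjectiveMor z ∧ AlgSt.RepByAlgSpWith (AlgSp.LocP @Flat) z := by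
  have hZ := h𝒵.isStack.1
  obtain ⟨W, w, hws, hwsurj⟩ := h𝒵.atlas
  have hWred : IsReduced W.left := hred W w hws
  have hsurj := ofChart_surjective w (isSurjective_of_repWith hZ w hwsurj)
  obtain ⟨ξ⟩ := hne
  obtain ⟨w₀, -⟩ := hsurj ξ
  obtain ⟨U, hU, hw₀U, -⟩ := exists_isAffineOpen_mem_and_subset (x := w₀)
    (U := (⊤ : W.left.Opens)) trivial
  have hA1 : _root_.IsReduced Γ(W.left, U) := inferInstance
  have hA2 : Nontrivial Γ(W.left, U) := by
    have hp := (hU.primeIdealOf ⟨w₀, hw₀U⟩).isPrime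
    refine ⟨⟨0, 1, fun h => hp.ne_top ((Ideal.eq_top_iff_one _).mpr ?_)⟩⟩
    rw [← h]
    exact Ideal.zero_mem _
  obtain ⟨K, hK, φ, hφ⟩ := Groth.Agent.S16809.exists_field_flat Γ(W.left, U)
  let r : Spec (CommRingCat.of K) ⟶ W.left := Spec.map (CommRingCat.ofHom φ) ≫ hU.fromSpec
  have hr : Flat r := by
    have h1 : Flat (Spec.map (CommRingCat.ofHom φ)) := by
      rw [Flat.SpecMap_iff]
      exact hφ
    have h2 : IsOpenImmersion hU.fromSpec := inferInstance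
    infer_instance
  let a : Spec (CommRingCat.of K) ⟶ S := r ≫ W.hom
  let r' : Over.mk a ⟶ W := Over.homMk r rfl
  let z : FibCat.overCat (Over.mk a) ⥤ᵇ 𝒵 := BasedFunctor.comp (AlgSt.overMap r') w
  have hK' : FibCat.IsFibGrpd (FibCat.overCat (Over.mk a)).p := FG.isFibGrpd_overForget _
  have hzf : AlgSt.RepByAlgSpWith (AlgSp.LocP @Flat) z :=
    repWith_comp_of_schLocal' hK' hZ _ DL.flat_bc DL.flat_cp flat_schLocal (AlgSt.overMap r') w
      (CT.repWith_overMap _ DL.flat_bc r'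
        (Groth.Agent.Lib.Helper23.AlgSpMor.locP_yon_map_of etLocal_flat r' hr))
      (flat_of_smooth w hws)
  have hzs : AlgSt.RepByAlgSpWith AlgSp.IsSurjectiveMor z := by
    refine repWith_of_isSurjective hK' hZ z (Groth.Agent.Lib.Helper17.LQT.rep1_chart h𝒵 z) ?_
    intro ζ
    have hpt : Nonempty ↥(Over.mk a).left :=
      (inferInstance : Nonempty (Spec (CommRingCat.of K)))
    obtain ⟨pt⟩ := hpt
    exact ⟨AlgSt.Points.ofChart (BasedFunctor.id _) pt, Subsingleton.elim _ _⟩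
  exact ⟨K, hK, a, z, hzs, hzf⟩

/-- (2) ⇒ (1) -/
theorem reduced_of_fieldPt (𝒵 : AlgSt.Cat S)
    (h𝒵 : AlgSt.IsAlgStack Scheme.fppfPrecoverage 𝒵)
    (k : Type u) [Field k] (a : Spec (CommRingCat.of k) ⟶ S)
    (z : FibCat.overCat (Over.mk a) ⥤ᵇ 𝒵)
    (hzs : AlgSt.RepByAlgSpWith AlgSp.IsSurjectiveMor z)
    (hzf : AlgSt.RepByAlgSpWith (AlgSp.LocP @Flat) z) :
    AlgSt.SmoothLocally (fun T => IsReduced T) 𝒵 ∧ Nonempty (AlgSt.Points 𝒵) ∧
      Subsingleton (AlgSt.Points 𝒵) := by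
  have hX := h𝒵.isStack.1
  have hsurj := ofChart_surjective z (isSurjective_of_repWith hX z hzs)
  have hpt : Nonempty ↥(Over.mk a).left := (inferInstance : Nonempty (Spec (CommRingCat.of k)))
  have hss : Subsingleton ↥(Over.mk a).left := (inferInstance : Subsingleton (PrimeSpectrum k))
  obtain ⟨pt⟩ := hpt
  refine ⟨?_, ⟨AlgSt.Points.ofChart z pt⟩, ⟨fun ξ ζ => ?_⟩⟩
  · intro U x hxs
    obtain ⟨B, aB, bB, hPa, hsa, hPb, -, -, -⟩ := LQT.exists_bridge_all hX h𝒵.diag x z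
    have haBf : Flat aB.left :=
      hPa @Flat (fun X Y f hf => by have := hf; infer_instance) DL.flat_bc DL.flat_cp hzf
    have haBs : Function.Surjective aB.left := hsa hzs
    have hbBs : Smooth bB.left :=
      hPb @Smooth (fun X Y f hf => by have := hf; infer_instance) AFP.sm_bc AFP.sm_cp hxs
    have hredk : IsReduced (Over.mk a).left := by
      change IsReduced (Spec (CommRingCat.of k))
      infer_instance
    have hBred : IsReduced B.left := Groth.Agent.S12867.isReduced_of_smooth bB.left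
    exact Groth.Agent.S12867.isReduced_of_flat_surjective aB.left haBs
  · obtain ⟨t, rfl⟩ := hsurj ξ
    obtain ⟨t', rfl⟩ := hsurj ζ
    rw [Subsingleton.elim t t']

/-- (2) ⇒ (3) -/
theorem lft_fieldPt (𝒵 : AlgSt.Cat S)
    (h𝒵 : AlgSt.IsAlgStack Scheme.fppfPrecoverage 𝒵)
    (k : Type u) [Field k] (a : Spec (CommRingCat.of k) ⟶ S)
    (z : FibCat.overCat (Over.mk a) ⥤ᵇ 𝒵)
    (hzs : AlgSt.RepByAlgSpWith AlgSp.IsSurjectiveMor z)
    (hzf : AlgSt.RepByAlgSpWith (AlgSp.LocP @Flat) z) :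
    ∃ (k : Type u) (_ : Field k) (a : Spec (CommRingCat.of k) ⟶ S)
        (z : FibCat.overCat (Over.mk a) ⥤ᵇ 𝒵),
        AlgSt.RepByAlgSpWith (AlgSp.LocP @LocallyOfFiniteType) z ∧
          AlgSt.RepByAlgSpWith AlgSp.IsSurjectiveMor z ∧
          AlgSt.RepByAlgSpWith (AlgSp.LocP @Flat) z := by
  have hZ := h𝒵.isStack.1
  obtain ⟨-, hne, hss⟩ := reduced_of_fieldPt 𝒵 h𝒵 k a z hzs hzf
  obtain ⟨W, w, hws, hwsurj⟩ := h𝒵.atlas
  have hsurj := ofChart_surjective w (isSurjective_of_repWith hZ w hwsurj)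
  obtain ⟨ξ⟩ := hne
  obtain ⟨w₀, -⟩ := hsurj ξ
  obtain ⟨U, hU, hw₀U, -⟩ := exists_isAffineOpen_mem_and_subset (x := w₀)
    (U := (⊤ : W.left.Opens)) trivial
  have hA2 : Nontrivial Γ(W.left, U) := by
    have hp := (hU.primeIdealOf ⟨w₀, hw₀U⟩).isPrime
    refine ⟨⟨0, 1, fun h => hp.ne_top ((Ideal.eq_top_iff_one _).mpr ?_)⟩⟩
    rw [← h]
    exact Ideal.zero_mem _
  obtain ⟨m, hm⟩ := Ideal.exists_maximal Γ(W.left, U)
  letI : Field (Γ(W.left, U) ⧸ m) := Ideal.Quotient.field m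
  let φ : Γ(W.left, U) →+* (Γ(W.left, U) ⧸ m) := Ideal.Quotient.mk m
  have hφ : Function.Surjective φ := Ideal.Quotient.mk_surjective
  let r : Spec (CommRingCat.of (Γ(W.left, U) ⧸ m)) ⟶ W.left :=
    Spec.map (CommRingCat.ofHom φ) ≫ hU.fromSpec
  have hr : LocallyOfFiniteType r := by
    have h1 : IsClosedImmersion (Spec.map (CommRingCat.ofHom φ)) :=
      IsClosedImmersion.spec_of_surjective _ hφ
    have h2 : IsOpenImmersion hU.fromSpec := inferInstance
    infer_instance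
  let a' : Spec (CommRingCat.of (Γ(W.left, U) ⧸ m)) ⟶ S := r ≫ W.hom
  let r' : Over.mk a' ⟶ W := Over.homMk r rfl
  let z' : FibCat.overCat (Over.mk a') ⥤ᵇ 𝒵 := BasedFunctor.comp (AlgSt.overMap r') w
  have hK' : FibCat.IsFibGrpd (FibCat.overCat (Over.mk a')).p := FG.isFibGrpd_overForget _
  have hzl : AlgSt.RepByAlgSpWith (AlgSp.LocP @LocallyOfFiniteType) z' :=
    repWith_comp_of_schLocal' hK' hZ _ (LQT.good_lft.bc S) (LQT.good_lft.cp S)
      (LQT.good_lft.schLocal S) (AlgSt.overMap r') w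
      (CT.repWith_overMap _ (LQT.good_lft.bc S) r'
        (Groth.Agent.Lib.Helper23.AlgSpMor.locP_yon_map_of LQT.good_lft.etLocal r' hr))
      (repWith_locP_mono LQT.good_lft.of_smooth w hws)
  have hzs' : AlgSt.RepByAlgSpWith AlgSp.IsSurjectiveMor z' := by
    refine repWith_of_isSurjective hK' hZ z' (Groth.Agent.Lib.Helper17.LQT.rep1_chart h𝒵 z') ?_
    intro ζ
    have hpt : Nonempty ↥(Over.mk a').left :=
      (inferInstance : Nonempty (Spec (CommRingCat.of (Γ(W.left, U) ⧸ m))))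
    obtain ⟨pt⟩ := hpt
    exact ⟨AlgSt.Points.ofChart (BasedFunctor.id _) pt, Subsingleton.elim _ _⟩
  exact ⟨_, inferInstance, a', z', hzl, hzs', flat_of_fieldPt h𝒵 k a z hzs hzf z'⟩

theorem main
    (S : Scheme.{u}) (𝒵 : AlgSt.Cat S) (h𝒵 : AlgSt.IsAlgStack Scheme.fppfPrecoverage 𝒵) :
    [AlgSt.SmoothLocally (fun T => IsReduced T) 𝒵 ∧ Nonempty (AlgSt.Points 𝒵) ∧ Subsingleton (AlgSt.Points 𝒵),
      ∃ (k : Type u) (_ : Field k) (a : Spec (CommRingCat.of k) ⟶ S)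
        (z : FibCat.overCat (Over.mk a) ⥤ᵇ 𝒵), AlgSt.RepByAlgSpWith AlgSp.IsSurjectiveMor z ∧ AlgSt.RepByAlgSpWith (AlgSp.LocP @Flat) z,
      ∃ (k : Type u) (_ : Field k) (a : Spec (CommRingCat.of k) ⟶ S)
        (z : FibCat.overCat (Over.mk a) ⥤ᵇ 𝒵), AlgSt.RepByAlgSpWith (AlgSp.LocP @LocallyOfFiniteType) z ∧
          AlgSt.RepByAlgSpWith AlgSp.IsSurjectiveMor z ∧ AlgSt.RepByAlgSpWith (AlgSp.LocP @Flat) z].TFAE := by
  tfae_have 1 → 2 := by
    rintro ⟨hred, hne, hss⟩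
    exact fieldPt_of_reduced' 𝒵 h𝒵 hred hne hss
  tfae_have 2 → 3 := by
    rintro ⟨k, hk, a, z, hzs, hzf⟩
    exact lft_fieldPt 𝒵 h𝒵 k a z hzs hzf
  tfae_have 3 → 2 := by
    rintro ⟨k, hk, a, z, -, hzs, hzf⟩
    exact ⟨k, hk, a, z, hzs, hzf⟩
  tfae_have 2 → 1 := by
    rintro ⟨k, hk, a, z, hzs, hzf⟩
    exact reduced_of_fieldPt 𝒵 h𝒵 k a z hzs hzf
  tfae_finish


end Aux

/-- For an algebraic stack 𝒵 the following are equivalent: 𝒵 is reduced with exactly one point; 𝒵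
receives a surjective flat morphism from the spectrum of a field; 𝒵 receives a locally of finite
type, surjective, flat morphism from the spectrum of a field. -/
theorem result
    (S : Scheme.{u}) (𝒵 : AlgSt.Cat S) (h𝒵 : AlgSt.IsAlgStack Scheme.fppfPrecoverage 𝒵) :
    [AlgSt.SmoothLocally (fun T => IsReduced T) 𝒵 ∧ Nonempty (AlgSt.Points 𝒵) ∧ Subsingleton (AlgSt.Points 𝒵),
      ∃ (k : Type u) (_ : Field k) (a : Spec (CommRingCat.of k) ⟶ S)
        (z : FibCat.overCat (Over.mk a) ⥤ᵇ 𝒵), AlgSt.RepByAlgSpWith AlgSp.IsSurjectiveMor z ∧ AlgSt.RepByAlgSpWith (AlgSp.LocP @Flat) z,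
      ∃ (k : Type u) (_ : Field k) (a : Spec (CommRingCat.of k) ⟶ S)
        (z : FibCat.overCat (Over.mk a) ⥤ᵇ 𝒵), AlgSt.RepByAlgSpWith (AlgSp.LocP @LocallyOfFiniteType) z ∧
          AlgSt.RepByAlgSpWith AlgSp.IsSurjectiveMor z ∧ AlgSt.RepByAlgSpWith (AlgSp.LocP @Flat) z].TFAE := by
  exact main S 𝒵 h𝒵

end Groth.Agent.S16805
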