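import Groth.Statements.S16806
import Groth.Prelude.Def_StGerb
import Groth.Agent.S16805
import Groth.Agent.Lib.Helper55.NoethDescent
import Groth.Agent.Lib.Helper50.SchDenseLim

set_option autoImplicit false
universe u
open CategoryTheory AlgebraicGeometry
open Gerb

namespace Groth.Agent.S16806

section Aux
open CategoryTheory CategoryTheory.Limits AlgebraicGeometry Opposite AlgSp FibCat Stk AlgSt
open Groth.Agent.Lib.Helper17 Groth.Agent.Lib.Helper17.FP Groth.Agent.Lib.Helper17.EO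
open Groth.Agent.Lib.Helper17.PD Groth.Agent.Lib.Helper17.AT Groth.Agent.Lib.Helper17.AB
open Groth.Agent.Lib.Helper17.AOS Groth.Agent.Lib.Helper17.ACP Groth.Agent.Lib.Helper17.PTS
open Groth.Agent.Lib.Helper17.FI Groth.Agent.Lib.Helper17.PS Groth.Agent.Lib.Helper17.FD
open Groth.Agent.Lib.Helper10.OST Groth.Agent.Lib.Helper86
open Groth.Agent.Lib.Helper46 Groth.Agent.Lib.Helper46.LocPChart


variable {S : Scheme.{u}}

/-- over a locally Noetherian base, locally of finite type is locally of finite presentation -/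
theorem locP_lfp_of_lft {F : AlgSp.Sp S} {W : Over S} [IsLocallyNoetherian W.left]
    (r : F ⟶ (yon S).obj W) (h : LocP @LocallyOfFiniteType r) :
    LocP @LocallyOfFinitePresentation r := by
  intro U V a b h' ha hb comm
  obtain ⟨b₀, rfl⟩ := (yon S).map_surjective b
  have hb₀ : Etale b₀.left := (repWith_yon_map_iff @Etale b₀).1 hb
  have hV : IsLocallyNoetherian V.left := LocallyOfFiniteType.isLocallyNoetherian b₀.left
  have hlft : LocallyOfFiniteType h'.left := h a ((yon S).map b₀) h' ha hb comm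
  exact Groth.Agent.Lib.Helper50.SchDenseLim.lfp_of_lft_of_isLocallyNoetherian h'.left

theorem main
    (S : Scheme.{u}) (𝒵 : AlgSt.Cat S) (h𝒵 : AlgSt.IsAlgStack Scheme.fppfPrecoverage 𝒵) :
    (AlgSt.SmoothLocally (fun T => IsReduced T) 𝒵 ∧ AlgSt.SmoothLocally (fun T => IsLocallyNoetherian T) 𝒵 ∧
        Nonempty (AlgSt.Points 𝒵) ∧ Subsingleton (AlgSt.Points 𝒵)) ↔
      ∃ (k : Type u) (_ : Field k) (a : Spec (CommRingCat.of k) ⟶ S)
        (z : FibCat.overCat (Over.mk a) ⥤ᵇ 𝒵), AlgSt.RepByAlgSpWith (AlgSp.LocP @LocallyOfFinitePresentation) z ∧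
          AlgSt.RepByAlgSpWith AlgSp.IsSurjectiveMor z ∧ AlgSt.RepByAlgSpWith (AlgSp.LocP @Flat) z := by
  have hX := h𝒵.isStack.1
  constructor
  · rintro ⟨hred, hnoeth, hne, hss⟩
    have h02 := (Groth.Agent.S16805.main S 𝒵 h𝒵).out 0 2
    have h0 : AlgSt.SmoothLocally (fun T => IsReduced T) 𝒵 ∧ Nonempty (AlgSt.Points 𝒵) ∧
        Subsingleton (AlgSt.Points 𝒵) := ⟨hred, hne, hss⟩
    obtain ⟨k, hk, a, z, hzl, hzs, hzf⟩ := h02.mp h0
    refine ⟨k, hk, a, z, ?_, hzs, hzf⟩
    obtain ⟨W, w, hws, hwsurj⟩ := h𝒵.atlas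
    have hWn : IsLocallyNoetherian W.left := hnoeth W w hws
    have h1 : AlgSt.RepByAlgSpWith (AlgSp.LocP @LocallyOfFiniteType) (FibCat.fpFst w z) :=
      repWith_fpFst _ z w hzl
    obtain ⟨F, e, he, hlft⟩ := TC.exists_of_repWith_to_slice _ _ h1
    have h2 : AlgSt.RepByAlgSpWith (AlgSp.LocP @LocallyOfFinitePresentation) (FibCat.fpFst w z) :=
      LQT.repWith_to_slice_of _ DL.lfp_bc (FibCat.fpFst w z) F e he (locP_lfp_of_lft _ hlft)
    exact FD.repWith_of_fpFst_cover _ DL.lfp_bc DL.lfp_local z (LQT.rep1_chart h𝒵 z) w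
      (flat_of_smooth w hws) (lfp_of_smooth w hws) hwsurj h2
  · rintro ⟨k, hk, a, z, hzp, hzs, hzf⟩
    obtain ⟨hred, hne, hss⟩ := Groth.Agent.S16805.reduced_of_fieldPt 𝒵 h𝒵 k a z hzs hzf
    refine ⟨hred, ?_, hne, hss⟩
    intro U x hxs
    obtain ⟨B, aB, bB, hPa, hsa, hPb, -, -, -⟩ := LQT.exists_bridge_all hX h𝒵.diag x z
    have haBf : Flat aB.left :=
      hPa @Flat (fun X Y f hf => by have := hf; infer_instance) DL.flat_bc DL.flat_cp hzf
    have haBp : LocallyOfFinitePresentation aB.left :=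
      hPa @LocallyOfFinitePresentation (fun X Y f hf => by have := hf; infer_instance)
        DL.lfp_bc DL.lfp_cp hzp
    have haBs : Surjective aB.left := ⟨hsa hzs⟩
    have hbBs : Smooth bB.left :=
      hPb @Smooth (fun X Y f hf => by have := hf; infer_instance) AFP.sm_bc AFP.sm_cp hxs
    have hnk : IsLocallyNoetherian (Over.mk a).left := by
      change IsLocallyNoetherian (Spec (CommRingCat.of k))
      infer_instance
    have hBn : IsLocallyNoetherian B.left := LocallyOfFiniteType.isLocallyNoetherian bB.left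
    exact (Groth.Agent.Lib.Helper55.isLocallyNoetherian_iff_of_fppf aB.left).mpr hBn


end Aux

/-- An algebraic stack 𝒵 is reduced, locally Noetherian and has exactly one point if and only if it
receives a locally finitely presented, surjective, flat morphism from the spectrum of a field. -/
theorem result
    (S : Scheme.{u}) (𝒵 : AlgSt.Cat S) (h𝒵 : AlgSt.IsAlgStack Scheme.fppfPrecoverage 𝒵) :
    (AlgSt.SmoothLocally (fun T => IsReduced T) 𝒵 ∧ AlgSt.SmoothLocally (fun T => IsLocallyNoetherian T) 𝒵 ∧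
        Nonempty (AlgSt.Points 𝒵) ∧ Subsingleton (AlgSt.Points 𝒵)) ↔
      ∃ (k : Type u) (_ : Field k) (a : Spec (CommRingCat.of k) ⟶ S)
        (z : FibCat.overCat (Over.mk a) ⥤ᵇ 𝒵), AlgSt.RepByAlgSpWith (AlgSp.LocP @LocallyOfFinitePresentation) z ∧
          AlgSt.RepByAlgSpWith AlgSp.IsSurjectiveMor z ∧ AlgSt.RepByAlgSpWith (AlgSp.LocP @Flat) z := by
  exact main S 𝒵 h𝒵

end Groth.Agent.S16806
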