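import Groth.Statements.S16807
import Groth.Agent.Lib.Helper17.GerbeDescent2
import Groth.Agent.Lib.Helper17.PointsSp2
import Groth.Agent.Lib.Helper17.PointsQc2
import Groth.Agent.Lib.Helper17.LocQTools11
import Groth.Agent.Lib.Helper23.AlgSpMono2
import Groth.Agent.Lib.Helper62.StkLocEss
import Groth.Agent.S12774
import Groth.Agent.S5139
import Groth.Prelude.Def_StGerb2

set_option autoImplicit false
universe u
open CategoryTheory AlgebraicGeometry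
open Gerb

namespace Groth.Agent.S16807

section Aux
open CategoryTheory AlgebraicGeometry
open Gerb


open CategoryTheory.Limits Opposite AlgSp FibCat Stk AlgSt
open Groth.Agent.Lib.Helper17 Groth.Agent.Lib.Helper17.FP Groth.Agent.Lib.Helper17.EO
  Groth.Agent.Lib.Helper17.PTS Groth.Agent.Lib.Helper17.ACP

variable {S : Scheme.{u}}

/-- the base change of a monomorphism to the spectrum of a field is, when nonempty, essentially
surjective -/
theorem locSurjObj_fpFst_field {𝒵' 𝒵 : AlgSt.Cat S}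
    (h𝒵' : AlgSt.IsAlgStack Scheme.fppfPrecoverage 𝒵')
    (h𝒵 : AlgSt.IsAlgStack Scheme.fppfPrecoverage 𝒵) (f : 𝒵' ⥤ᵇ 𝒵) (hf : AlgSt.IsMono f)
    (k : Type u) [Field k] (a : Spec (CommRingCat.of k) ⟶ S)
    (z : FibCat.overCat (Over.mk a) ⥤ᵇ 𝒵)
    (hne : Nonempty (AlgSt.Points (FibCat.fp z f))) :
    Gerb.LocSurjObj (AlgSp.J S) (FibCat.fpFst z f) := by
  obtain ⟨F₀, e₀, he₀, hmono⟩ := hf (Over.mk a) z
  set Φ : ofSp F₀.obj ⥤ᵇ FibCat.overCat (Over.mk a) := BasedFunctor.comp e₀ (FibCat.fpFst z f)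
    with hΦ
  set g₀ : F₀.obj ⟶ (yon S).obj (Over.mk a) := spMapOfOver Φ with hg₀
  have hm : Mono g₀ := hmono
  obtain ⟨A, B, -⟩ := PDX.exists_homeos_fp h𝒵' h𝒵 f z F₀ e₀ he₀
  have hneF : Nonempty (AlgSp.Points F₀.obj) := hne.map A.symm
  have hiso : IsIso g₀ :=
    Groth.Agent.Lib.Helper23.AlgSpMor.isIso_of_mono_to_field a F₀.property g₀ hneF
  have hfpf : FibCat.IsFibGrpd (FibCat.fp z f).p :=
    SP.isFibGrpd_fp z f (FG.isFibGrpd_overForget _) h𝒵'.isStack.1 h𝒵.isStack.1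
  intro v
  refine ⟨GDS.objSieve (FibCat.fpFst z f) v rfl, ?_, fun V k hk => hk⟩
  suffices h1 : (GDS.objSieve (FibCat.fpFst z f) v rfl).arrows (𝟙 _) by
    rw [(Sieve.id_mem_iff_eq_top).1 h1]
    exact (AlgSp.J S).top_mem _
  -- the section
  let s : F₀.obj.obj.obj (op v.left) := (inv g₀).hom.app (op v.left) ⟨v.hom⟩
  let a₀ : (ofSp F₀.obj).obj := ⟨v.left, s⟩
  have hs : AlgSt.secHom Φ a₀ = v.hom := by
    have h1 : g₀.hom.app (op v.left) s = ⟨v.hom⟩ := by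
      have := congrArg (fun t => t.hom.app (op v.left) ⟨v.hom⟩) (IsIso.inv_hom_id g₀)
      exact this
    have h2 := spMapOfOver_app Φ v.left s
    rw [h2] at h1
    exact congrArg ULift.down h1
  have hw : (Φ.obj a₀).left = v.left := Φ.w_obj a₀
  let ι : Φ.obj a₀ ≅ v := Over.isoMk (eqToIso hw) (by
    have : eqToHom hw.symm ≫ (Φ.obj a₀).hom = v.hom := hs
    rw [← this]
    simp)
  refine ⟨e₀.obj a₀, ι.hom, ?_⟩
  apply IsHomLift.of_fac (FibCat.overCat (Over.mk a)).p (𝟙 _) ι.hom hw rfl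
  change (𝟙 _ : v.left ⟶ v.left) = eqToHom hw.symm ≫ eqToHom hw ≫ eqToHom rfl
  simp

theorem main
    (S : Scheme.{u}) (𝒵' 𝒵 : AlgSt.Cat S) (h𝒵' : AlgSt.IsAlgStack Scheme.fppfPrecoverage 𝒵')
    (h𝒵 : AlgSt.IsAlgStack Scheme.fppfPrecoverage 𝒵) (f : 𝒵' ⥤ᵇ 𝒵) (hf : AlgSt.IsMono f)
    (k : Type u) [Field k] (a : Spec (CommRingCat.of k) ⟶ S)
    (z : FibCat.overCat (Over.mk a) ⥤ᵇ 𝒵)
    (hzp : AlgSt.RepByAlgSpWith (AlgSp.LocP @LocallyOfFinitePresentation) z)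
    (hzs : AlgSt.RepByAlgSpWith AlgSp.IsSurjectiveMor z) (hzf : AlgSt.RepByAlgSpWith (AlgSp.LocP @Flat) z) :
    IsEmpty (AlgSt.Points 𝒵') ∨ FibCat.IsEquivOver f := by
  by_cases hne : Nonempty (AlgSt.Points 𝒵')
  swap
  · exact Or.inl (not_nonempty_iff.mp hne)
  right
  have hZ' := h𝒵'.isStack.1
  have hZ := h𝒵.isStack.1
  have hV := SPS.isAlgStack_overCat (S := S) (Over.mk a)
  have hVf : FibCat.IsFibGrpd (FibCat.overCat (Over.mk a)).p := FG.isFibGrpd_overForget _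
  have hzsurj : AlgSt.IsSurjective z := isSurjective_of_repWith hZ z hzs
  obtain ⟨x'⟩ := hne
  obtain ⟨ζ₀, hζ₀⟩ := hzsurj (AlgSt.Points.map f x')
  obtain ⟨w, -, -⟩ := exists_point_fp hZ' hZ hVf f z ζ₀ x' hζ₀
  have hzQ1 : AlgSt.LocQ (AlgSp.LocP @Flat) z := LQT.locQ_of_repWith LQT.good_flat hV h𝒵 z hzf
  have hzQ2 : AlgSt.LocQ (AlgSp.LocP @LocallyOfFinitePresentation) z :=
    LQT.locQ_of_repWith LQT.good_lfp hV h𝒵 z hzp
  have hLz : Gerb.LocSurjObj (AlgSp.J S) z := GDS.locSurjObj_of_fppf h𝒵 hV z hzsurj hzQ1 hzQ2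
  have hL1 := locSurjObj_fpFst_field h𝒵' h𝒵 f hf k a z ⟨w⟩
  have hLf : Gerb.LocSurjObj (AlgSp.J S) f := by
    have := hZ'
    have := hZ
    have := hVf
    exact GDS.locSurjObj_of_fpFst _ f z hLz hL1
  obtain ⟨hfull, hfaith⟩ := Groth.Agent.S12774.result hZ' hZ f hf
  rw [Groth.Agent.S5139.result]
  refine ⟨⟨hfull, hfaith⟩, fun η => ?_⟩
  obtain ⟨R, hR, HR⟩ := hLf η
  have hst : (Stk.resSieve R 𝒵').IsEquivalence := h𝒵'.isStack.2 R hR
  have hst' : (Stk.resSieve R 𝒵).IsEquivalence := h𝒵.isStack.2 R hR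
  exact Groth.Agent.Lib.Helper62.StkLocEss.exists_preimage_of_locally hZ f η R inferInstance
    ⟨inferInstance, inferInstance⟩ HR


end Aux

/-- Let 𝒵' → 𝒵 be a monomorphism of algebraic stacks and suppose 𝒵 receives a locally finitely
presented, surjective, flat morphism from the spectrum of a field. Then either 𝒵' is empty (has no
points) or 𝒵' → 𝒵 is an equivalence. -/
theorem result
    (S : Scheme.{u}) (𝒵' 𝒵 : AlgSt.Cat S) (h𝒵' : AlgSt.IsAlgStack Scheme.fppfPrecoverage 𝒵')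
    (h𝒵 : AlgSt.IsAlgStack Scheme.fppfPrecoverage 𝒵) (f : 𝒵' ⥤ᵇ 𝒵) (hf : AlgSt.IsMono f)
    (k : Type u) [Field k] (a : Spec (CommRingCat.of k) ⟶ S)
    (z : FibCat.overCat (Over.mk a) ⥤ᵇ 𝒵)
    (hzp : AlgSt.RepByAlgSpWith (AlgSp.LocP @LocallyOfFinitePresentation) z)
    (hzs : AlgSt.RepByAlgSpWith AlgSp.IsSurjectiveMor z) (hzf : AlgSt.RepByAlgSpWith (AlgSp.LocP @Flat) z) :
    IsEmpty (AlgSt.Points 𝒵') ∨ FibCat.IsEquivOver f := by
  exact main S 𝒵' 𝒵 h𝒵' h𝒵 f hf k a z hzp hzs hzf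

end Groth.Agent.S16807
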