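import Groth.Statements.S16811
import Groth.Prelude.Def_StGerb
import Groth.Agent.S16806
import Groth.Agent.S0565
import Groth.Agent.Lib.Helper51.SmoothStalk

set_option autoImplicit false
universe u
open CategoryTheory AlgebraicGeometry
open Gerb

namespace Groth.Agent.S16811

section Aux
open CategoryTheory CategoryTheory.Limits AlgebraicGeometry Opposite AlgSp FibCat Stk AlgSt
open Groth.Agent.Lib.Helper17 Groth.Agent.Lib.Helper17.FP Groth.Agent.Lib.Helper17.EO
open Groth.Agent.Lib.Helper17.PD Groth.Agent.Lib.Helper17.AT Groth.Agent.Lib.Helper17.AB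
open Groth.Agent.Lib.Helper17.AOS Groth.Agent.Lib.Helper17.ACP Groth.Agent.Lib.Helper17.PTS
open Groth.Agent.Lib.Helper17.FI Groth.Agent.Lib.Helper17.PS Groth.Agent.Lib.Helper17.FD
open Groth.Agent.Lib.Helper10.OST Groth.Agent.Lib.Helper86
open Groth.Agent.Lib.Helper46 Groth.Agent.Lib.Helper46.LocPChart


variable {S : Scheme.{u}}

/-- regularity descends along flat surjective morphisms to a locally Noetherian scheme -/
theorem regular_of_flat_surjective {B U : Scheme.{u}} (g : B ⟶ U) [Flat g]
    (hg : Function.Surjective g) [IsLocallyNoetherian U]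
    (hB : ∀ b : B, IsRegularLocalRing (B.presheaf.stalk b)) (u : U) :
    IsRegularLocalRing (U.presheaf.stalk u) := by
  obtain ⟨b, rfl⟩ := hg u
  have hfl : (g.stalkMap b).hom.Flat := Flat.stalkMap g b
  algebraize [(g.stalkMap b).hom]
  haveI : IsLocalHom (algebraMap (U.presheaf.stalk (g b)) (B.presheaf.stalk b)) :=
    inferInstanceAs <| IsLocalHom (g.stalkMap b).hom
  haveI := hB b
  exact Groth.Agent.S0565.result (U.presheaf.stalk (g b)) (B.presheaf.stalk b)

theorem main
    (S : Scheme.{u}) (𝒵 : AlgSt.Cat S) (h𝒵 : AlgSt.IsAlgStack Scheme.fppfPrecoverage 𝒵)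
    (hred : AlgSt.SmoothLocally (fun T => IsReduced T) 𝒵)
    (hnoeth : AlgSt.SmoothLocally (fun T => IsLocallyNoetherian T) 𝒵)
    (hne : Nonempty (AlgSt.Points 𝒵)) (hsub : Subsingleton (AlgSt.Points 𝒵)) :
    AlgSt.SmoothLocally (fun T => ∀ t : T, IsRegularLocalRing (T.presheaf.stalk t)) 𝒵 := by
  have hX := h𝒵.isStack.1
  obtain ⟨k, hk, a, z, hzp, hzs, hzf⟩ :=
    (Groth.Agent.S16806.main S 𝒵 h𝒵).mp ⟨hred, hnoeth, hne, hsub⟩
  intro U x hxs t
  obtain ⟨B, aB, bB, hPa, hsa, hPb, -, -, -⟩ := LQT.exists_bridge_all hX h𝒵.diag x z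
  have haBf : Flat aB.left :=
    hPa @Flat (fun X Y f hf => by have := hf; infer_instance) DL.flat_bc DL.flat_cp hzf
  have haBs : Function.Surjective aB.left := hsa hzs
  have hbBs : Smooth bB.left :=
    hPb @Smooth (fun X Y f hf => by have := hf; infer_instance) AFP.sm_bc AFP.sm_cp hxs
  have hUn : IsLocallyNoetherian U.left := hnoeth U x hxs
  have hB : ∀ b : B.left, IsRegularLocalRing (B.left.presheaf.stalk b) := by
    intro b
    let g : B.left ⟶ Spec (CommRingCat.of k) := bB.left
    have hg : Smooth g := hbBs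
    exact Groth.Agent.Lib.Helper51.isRegularLocalRing_stalk_of_mem_smoothLocus g b (by
      rw [Scheme.Hom.smoothLocus_eq_top]
      trivial)
  exact regular_of_flat_surjective aB.left haBs hB t


end Aux

/-- A reduced, locally Noetherian algebraic stack with exactly one point is regular (all local rings of
all schemes smooth over it are regular local rings). -/
theorem result
    (S : Scheme.{u}) (𝒵 : AlgSt.Cat S) (h𝒵 : AlgSt.IsAlgStack Scheme.fppfPrecoverage 𝒵)
    (hred : AlgSt.SmoothLocally (fun T => IsReduced T) 𝒵)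
    (hnoeth : AlgSt.SmoothLocally (fun T => IsLocallyNoetherian T) 𝒵)
    (hne : Nonempty (AlgSt.Points 𝒵)) (hsub : Subsingleton (AlgSt.Points 𝒵)) :
    AlgSt.SmoothLocally (fun T => ∀ t : T, IsRegularLocalRing (T.presheaf.stalk t)) 𝒵 := by
  exact main S 𝒵 h𝒵 hred hnoeth hne hsub

end Groth.Agent.S16811
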