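import Groth.Statements.S16812
import Groth.Agent.S12878
import Groth.Agent.Lib.Helper17.PointsSp
import Groth.Agent.Lib.Helper17.Comparison
import Groth.Prelude.Def_StGerb2

set_option autoImplicit false
universe u
open CategoryTheory AlgebraicGeometry
open Gerb

namespace Groth.Agent.S16812

section Aux
open CategoryTheory AlgebraicGeometry
open Gerb


open CategoryTheory.Limits Opposite AlgSp FibCat Stk AlgSt
open Groth.Agent.Lib.Helper17 Groth.Agent.Lib.Helper17.EO Groth.Agent.Lib.Helper17.PTS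
open Groth.Agent.S12878

variable {S : Scheme.{u}}

/-- smooth-local properties transfer along equivalences -/
theorem smoothLocally_of_equiv (P : Scheme.{u} → Prop) {𝒜 ℬ : AlgSt.Cat S} (E : 𝒜 ⥤ᵇ ℬ)
    (hE : FibCat.IsEquivOver E) (h : AlgSt.SmoothLocally P 𝒜) : AlgSt.SmoothLocally P ℬ := by
  obtain ⟨G, hG⟩ := EO.isEquivOver_inv E hE
  intro U x hx
  exact h U (BasedFunctor.comp x G) (CMP.repWith_comp_equiv _ x G hG hx)

theorem main
    (S : Scheme.{u}) (𝒳 : AlgSt.Cat S) (h𝒳 : AlgSt.IsAlgStack Scheme.fppfPrecoverage 𝒳) (x : AlgSt.Points 𝒳)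
    (𝒵 : AlgSt.Cat S) (h𝒵 : AlgSt.IsAlgStack Scheme.fppfPrecoverage 𝒵)
    (hred : AlgSt.SmoothLocally (fun T => IsReduced T) 𝒵)
    (hnoeth : AlgSt.SmoothLocally (fun T => IsLocallyNoetherian T) 𝒵)
    (hne : Nonempty (AlgSt.Points 𝒵)) (hsub : Subsingleton (AlgSt.Points 𝒵))
    (f : 𝒵 ⥤ᵇ 𝒳) (hf : AlgSt.IsMono f) (hfx : ∀ p : AlgSt.Points 𝒵, AlgSt.Points.map f p = x) :
    ∃ Q : 𝒳.obj → Prop, Gerb.IsResGerbe Scheme.fppfPrecoverage 𝒳 x Q ∧
      ∃ e : 𝒵 ⥤ᵇ AlgSt.fullSub 𝒳 Q, FibCat.IsEquivOver e ∧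
        Nonempty (BasedFunctor.comp e (AlgSt.subIncl 𝒳 Q) ≅ f) := by
  have hZ := h𝒵.isStack.1
  have hX := h𝒳.isStack.1
  obtain ⟨hfull, hfaith⟩ := Groth.Agent.S12774.result hZ hX f hf
  have heq := cores_equiv hZ hX f
  have halg : AlgSt.IsAlgStack Scheme.fppfPrecoverage (AlgSt.fullSub 𝒳 (EI f)) :=
    (Groth.Agent.S12770.result (cores f) heq).mp h𝒵
  have hh := PDX.isHomeomorph_map_of_isEquivOver h𝒵 halg (cores f) heq
  refine ⟨EI f, ⟨ei_iso f, halg, smoothLocally_of_equiv _ (cores f) heq hred,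
    smoothLocally_of_equiv _ (cores f) heq hnoeth, hne.map (AlgSt.Points.map (cores f)), ?_, ?_⟩,
    cores f, heq, ⟨eqToIso (cores_comp f)⟩⟩
  · exact (hh.homeomorph _).symm.injective.subsingleton
  · intro z
    obtain ⟨z', rfl⟩ := hh.surjective z
    rw [← PTS.map_comp, cores_comp]
    exact hfx z'


end Aux

/-- Let 𝒵 be a reduced, locally Noetherian algebraic stack with exactly one point and f : 𝒵 → 𝒳 a
monomorphism to an algebraic stack sending that point to x. Then the residual gerbe 𝒵_x ⊂ 𝒳 at x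
exists (a strictly full subcategory which is a reduced, locally Noetherian algebraic stack with one
point over x) and f factors through it by an equivalence 𝒵 → 𝒵_x. -/
theorem result
    (S : Scheme.{u}) (𝒳 : AlgSt.Cat S) (h𝒳 : AlgSt.IsAlgStack Scheme.fppfPrecoverage 𝒳) (x : AlgSt.Points 𝒳)
    (𝒵 : AlgSt.Cat S) (h𝒵 : AlgSt.IsAlgStack Scheme.fppfPrecoverage 𝒵)
    (hred : AlgSt.SmoothLocally (fun T => IsReduced T) 𝒵)
    (hnoeth : AlgSt.SmoothLocally (fun T => IsLocallyNoetherian T) 𝒵)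
    (hne : Nonempty (AlgSt.Points 𝒵)) (hsub : Subsingleton (AlgSt.Points 𝒵))
    (f : 𝒵 ⥤ᵇ 𝒳) (hf : AlgSt.IsMono f) (hfx : ∀ p : AlgSt.Points 𝒵, AlgSt.Points.map f p = x) :
    ∃ Q : 𝒳.obj → Prop, Gerb.IsResGerbe Scheme.fppfPrecoverage 𝒳 x Q ∧
      ∃ e : 𝒵 ⥤ᵇ AlgSt.fullSub 𝒳 Q, FibCat.IsEquivOver e ∧
        Nonempty (BasedFunctor.comp e (AlgSt.subIncl 𝒳 Q) ≅ f) := by
  exact main S 𝒳 h𝒳 x 𝒵 h𝒵 hred hnoeth hne hsub f hf hfx

end Groth.Agent.S16812
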