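import Groth.Statements.S16814
import Groth.Prelude.Def_StGerb
import Groth.Agent.S16806
import Groth.Agent.S16813

set_option autoImplicit false
universe u
open CategoryTheory AlgebraicGeometry
open Gerb

namespace Groth.Agent.S16814

section Aux
open CategoryTheory CategoryTheory.Limits AlgebraicGeometry Opposite AlgSp FibCat Stk AlgSt
open Groth.Agent.Lib.Helper17 Groth.Agent.Lib.Helper17.FP Groth.Agent.Lib.Helper17.EO
open Groth.Agent.Lib.Helper17.PD Groth.Agent.Lib.Helper17.AT Groth.Agent.Lib.Helper17.AB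
open Groth.Agent.Lib.Helper17.AOS Groth.Agent.Lib.Helper17.ACP Groth.Agent.Lib.Helper17.PTS
open Groth.Agent.Lib.Helper17.FI Groth.Agent.Lib.Helper17.PS Groth.Agent.Lib.Helper17.FD
open Groth.Agent.Lib.Helper10.OST Groth.Agent.Lib.Helper86
open Groth.Agent.Lib.Helper46 Groth.Agent.Lib.Helper46.LocPChart


variable {S : Scheme.{u}}

/-- a full algebraic substack is fppf local -/
theorem Q_local {𝒴 : AlgSt.Cat S} (h𝒴 : AlgSt.IsAlgStack Scheme.fppfPrecoverage 𝒴)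
    (Q' : 𝒴.obj → Prop) (hiso : ObjectProperty.IsClosedUnderIsomorphisms Q')
    (halg : AlgSt.IsAlgStack Scheme.fppfPrecoverage (AlgSt.fullSub 𝒴 Q'))
    {y : 𝒴.obj} {V : Over S} (hV : 𝒴.p.obj y = V) {B : Over S} (aB : B ⟶ V)
    [Flat aB.left] [LocallyOfFinitePresentation aB.left] (hs : Function.Surjective aB.left)
    {y' : 𝒴.obj} (m : y' ⟶ y) (hm : 𝒴.p.IsHomLift aB m) (hy' : Q' y') : Q' y := by
  subst hV
  have hY := h𝒴.isStack.1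
  have hR := generate_singleton_mem_J aB hs
  obtain ⟨ξ, e', -⟩ := Groth.Agent.Lib.Helper62.StkLocEss.exists_preimage_of_locally hY
    (AlgSt.subIncl 𝒴 Q') y
    (Sieve.generate (Presieve.singleton aB)) (halg.isStack.2 _ hR).essSurj
    ⟨(h𝒴.isStack.2 _ hR).full, (h𝒴.isStack.2 _ hR).faithful⟩ (by
      rintro V' f ⟨W', ψ, _, ⟨⟩, rfl⟩
      have hB : 𝒴.p.obj y' = B := hl_dom hm
      obtain ⟨y'', m', hm'⟩ := hY.exists_lift (x := y') (ψ ≫ eqToHom hB.symm)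
      have hQ'' : Q' y'' := Q_of_hom hY Q' hiso halg.isStack.1 m' hy'
      refine ⟨⟨y'', hQ''⟩, m' ≫ m, ?_⟩
      have h2 : 𝒴.p.IsHomLift (eqToHom hB ≫ aB) m := by
        haveI := hm
        infer_instance
      have h1 : 𝒴.p.IsHomLift ((ψ ≫ eqToHom hB.symm) ≫ eqToHom hB ≫ aB) (m' ≫ m) := by
        haveI := hm'
        haveI := h2
        infer_instance
      have e1 : (ψ ≫ eqToHom hB.symm) ≫ eqToHom hB ≫ aB = ψ ≫ aB := by simp
      rw [e1] at h1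
      exact h1)
  exact hiso.of_iso e' ξ.property

open Groth.Agent.Lib.Helper86 in
theorem main
    (S : Scheme.{u}) (𝒳 𝒴 : AlgSt.Cat S) (h𝒳 : AlgSt.IsAlgStack Scheme.fppfPrecoverage 𝒳) (h𝒴 : AlgSt.IsAlgStack Scheme.fppfPrecoverage 𝒴)
    (f : 𝒳 ⥤ᵇ 𝒴) (x : AlgSt.Points 𝒳)
    (Q : 𝒳.obj → Prop) (hQ : Gerb.IsResGerbe Scheme.fppfPrecoverage 𝒳 x Q)
    (Q' : 𝒴.obj → Prop) (hQ' : Gerb.IsResGerbe Scheme.fppfPrecoverage 𝒴 (AlgSt.Points.map f x) Q') :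
    ∃ g : AlgSt.fullSub 𝒳 Q ⥤ᵇ AlgSt.fullSub 𝒴 Q',
      Nonempty (BasedFunctor.comp g (AlgSt.subIncl 𝒴 Q') ≅ BasedFunctor.comp (AlgSt.subIncl 𝒳 Q) f) := by
  obtain ⟨hiso, halg, hred, hnoeth, hne, hss, hx⟩ := hQ
  obtain ⟨hiso', halg', -, -, -, -, -⟩ := id hQ'
  have hZ := halg.isStack.1
  have hY := h𝒴.isStack.1
  obtain ⟨k, hk, a, z, hzp, hzs, hzf⟩ :=
    (Groth.Agent.S16806.main S (AlgSt.fullSub 𝒳 Q) halg).mp ⟨hred, hnoeth, hne, hss⟩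
  let ι := AlgSt.subIncl 𝒳 Q
  let p : FibCat.overCat (Over.mk a) ⥤ᵇ 𝒴 := BasedFunctor.comp (BasedFunctor.comp z ι) f
  have hp : ∀ t : ↥(Over.mk a).left, AlgSt.Points.ofChart p t = AlgSt.Points.map f x := by
    intro t
    rw [ofChart_comp, ofChart_comp, hx]
  obtain ⟨q, ⟨iq⟩⟩ := Groth.Agent.S16813.main S 𝒴 h𝒴 (AlgSt.Points.map f x) Q' hQ' k a p hp
  have hpQ : ∀ t, Q' (p.obj t) := fun t => hiso'.of_iso (compApp iq t) (q.obj t).property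
  have key : ∀ η : (AlgSt.fullSub 𝒳 Q).obj, Q' ((BasedFunctor.comp ι f).obj η) := by
    intro η
    have : (AlgSt.fullSub 𝒳 Q).p.IsFibered := TwoYoneda.isFibered_of_isFibGrpd hZ
    let V : Over S := (AlgSt.fullSub 𝒳 Q).p.obj η
    let x₁ : (AlgSt.fullSub 𝒳 Q).p.Fiber V := ⟨η, rfl⟩
    let ηh : FibCat.overCat V ⥤ᵇ AlgSt.fullSub 𝒳 Q := TwoYoneda.pbB x₁
    obtain ⟨B, aB, bB, hPa, hsa, -, -, ⟨iso⟩, -⟩ := LQT.exists_bridge_all hZ halg.diag ηh z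
    have haBf : Flat aB.left :=
      hPa @Flat (fun X Y f hf => by have := hf; infer_instance) DL.flat_bc DL.flat_cp hzf
    have haBp : LocallyOfFinitePresentation aB.left :=
      hPa @LocallyOfFinitePresentation (fun X Y f hf => by have := hf; infer_instance)
        DL.lfp_bc DL.lfp_cp hzp
    have haBs : Function.Surjective aB.left := hsa hzs
    let tB : (FibCat.overCat B).obj := Over.mk (𝟙 B)
    let ηB : (AlgSt.fullSub 𝒳 Q).obj := ηh.obj (Over.mk (𝟙 B ≫ aB))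
    have e1 : ηB ≅ z.obj (Over.mk (𝟙 B ≫ bB)) := compApp iso tB
    have hQB : Q' ((BasedFunctor.comp ι f).obj ηB) := by
      have e2 : (BasedFunctor.comp ι f).obj ηB ≅ p.obj (Over.mk (𝟙 B ≫ bB)) :=
        (BasedFunctor.comp ι f).toFunctor.mapIso e1
      exact hiso'.of_iso e2.symm (hpQ _)
    let m0 : ηB ⟶ η := TwoYoneda.pbMap x₁ (Over.mk (𝟙 B ≫ aB))
    have hm0 : (AlgSt.fullSub 𝒳 Q).p.IsHomLift (𝟙 B ≫ aB) m0 :=
      (TwoYoneda.pbMap_cart x₁ (Over.mk (𝟙 B ≫ aB))).toIsHomLift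
    have hm : 𝒴.p.IsHomLift (𝟙 B ≫ aB) ((BasedFunctor.comp ι f).map m0) :=
      EO.map_lift'' (BasedFunctor.comp ι f) hm0
    have hV : 𝒴.p.obj ((BasedFunctor.comp ι f).obj η) = V := (BasedFunctor.comp ι f).w_obj η
    haveI : Flat (𝟙 B ≫ aB).left := by simpa using haBf
    haveI : LocallyOfFinitePresentation (𝟙 B ≫ aB).left := by simpa using haBp
    exact Q_local h𝒴 Q' hiso' halg' hV (𝟙 B ≫ aB) (by simpa using haBs)
      ((BasedFunctor.comp ι f).map m0) hm hQB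
  exact ⟨liftSub Q' (BasedFunctor.comp ι f) key,
    ⟨eqToIso (liftSub_comp Q' (BasedFunctor.comp ι f) key)⟩⟩


end Aux

/-- Let f : 𝒳 → 𝒴 be a morphism of algebraic stacks and x a point of 𝒳 with image y. If the residual
gerbes 𝒵_x ⊂ 𝒳 and 𝒵_y ⊂ 𝒴 exist, then f induces a morphism 𝒵_x → 𝒵_y making the square with the
inclusions commute up to 2-isomorphism. -/
theorem result
    (S : Scheme.{u}) (𝒳 𝒴 : AlgSt.Cat S) (h𝒳 : AlgSt.IsAlgStack Scheme.fppfPrecoverage 𝒳) (h𝒴 : AlgSt.IsAlgStack Scheme.fppfPrecoverage 𝒴)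
    (f : 𝒳 ⥤ᵇ 𝒴) (x : AlgSt.Points 𝒳)
    (Q : 𝒳.obj → Prop) (hQ : Gerb.IsResGerbe Scheme.fppfPrecoverage 𝒳 x Q)
    (Q' : 𝒴.obj → Prop) (hQ' : Gerb.IsResGerbe Scheme.fppfPrecoverage 𝒴 (AlgSt.Points.map f x) Q') :
    ∃ g : AlgSt.fullSub 𝒳 Q ⥤ᵇ AlgSt.fullSub 𝒴 Q',
      Nonempty (BasedFunctor.comp g (AlgSt.subIncl 𝒴 Q') ≅ BasedFunctor.comp (AlgSt.subIncl 𝒳 Q) f) := by
  exact main S 𝒳 𝒴 h𝒳 h𝒴 f x Q hQ Q' hQ'

end Groth.Agent.S16814
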