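import Groth.Statements.S16834
-- import your own Groth.Agent.* helpers here
import Groth.Agent.S10461

set_option autoImplicit false
universe u
open CategoryTheory CategoryTheory.Limits AlgebraicGeometry
open AlgSp

namespace Groth.Agent.S16834

open Groth.Agent.Lib.Helper36

/-- Let k be a field with algebraic closure k̄ and X an algebraic space over Spec k which is
quasi-separated over k and whose structure morphism is locally of finite type. If the base change X
×_k Spec k̄ (product with h_{Spec k̄} in fppf sheaves over Spec k) is isomorphic to h_T for an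
affine scheme T over k, then X is isomorphic to h_U for an affine scheme U over k. -/
theorem result (k : Type u) [Field k]
    (X : AlgSp.Space (Spec (CommRingCat.of k))) (hqs : AlgSp.IsQuasiSeparatedSp X.obj)
    (hlft : ∀ q : X.obj ⟶ (AlgSp.yon (Spec (CommRingCat.of k))).obj (Over.mk (𝟙 _)),
      AlgSp.LocP @LocallyOfFiniteType q)
    (kbar : Type u) [Field kbar] [Algebra k kbar] [IsAlgClosure k kbar]
    (T : Over (Spec (CommRingCat.of k))) (hT : IsAffine T.left)
    (e : X.obj ⨯ (AlgSp.yon (Spec (CommRingCat.of k))).obj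
        (Over.mk (Spec.map (CommRingCat.ofHom (algebraMap k kbar)))) ≅
      (AlgSp.yon (Spec (CommRingCat.of k))).obj T) :
    ∃ (U : Over (Spec (CommRingCat.of k))), IsAffine U.left ∧
      Nonempty (X.obj ≅ (AlgSp.yon (Spec (CommRingCat.of k))).obj U) := by
  have hTerm : IsTerminal ((yon (Spec (CommRingCat.of k))).obj (Over.mk (𝟙 (Spec (CommRingCat.of k))))) :=
    IsTerminal.isTerminalObj (yon (Spec (CommRingCat.of k))) _ Over.mkIdTerminal
  have sq2 : IsPullback (prod.fst : X.obj ⨯ (yon (Spec (CommRingCat.of k))).obj (FieldBC.T k kbar) ⟶ X.obj)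
      prod.snd (hTerm.from _) (hTerm.from _) :=
    IsPullback.of_is_product' (prodIsProd X.obj ((yon (Spec (CommRingCat.of k))).obj (FieldBC.T k kbar))) hTerm
  have sq2' : IsPullback (e.inv ≫ prod.fst) (e.inv ≫ prod.snd) (hTerm.from X.obj)
      (hTerm.from ((yon (Spec (CommRingCat.of k))).obj (FieldBC.T k kbar))) := by
    refine IsPullback.of_iso sq2 e (Iso.refl _) (Iso.refl _) (Iso.refl _) ?_ ?_ ?_ ?_
    · simp
    · simp
    · simp
    · simp
  obtain ⟨ρ, hρ⟩ := (yon (Spec (CommRingCat.of k))).map_surjective (e.inv ≫ prod.snd)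
  have hρaff : IsAffineMor ((yon (Spec (CommRingCat.of k))).map ρ) := by
    apply Groth.Agent.Lib.Helper5.IsomSch.isAffineMor_yon_map
    have : IsAffine (FieldBC.T k kbar).left := by
      show IsAffine (Spec (CommRingCat.of kbar))
      infer_instance
    have := hT
    infer_instance
  rw [← hρ] at sq2'
  have key := Groth.Agent.S10533.result (Spec (CommRingCat.of k)) (ι := PUnit.{u + 1})
    (fun _ => (yon (Spec (CommRingCat.of k))).obj (FieldBC.T k kbar)) (fun _ => hTerm.from _)
    (IsAlgSpace.yon_obj _) (fun _ => IsAlgSpace.yon_obj _) (Groth.Agent.S10461.isFpqcCover_field kbar hTerm)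
    (hTerm.from X.obj) X.property
    (fun _ => (yon (Spec (CommRingCat.of k))).obj T)
    (fun _ => (yon (Spec (CommRingCat.of k))).map ρ) (fun _ => e.inv ≫ prod.fst)
    (fun _ => IsAlgSpace.yon_obj _) (fun _ => sq2')
  have hfaff : IsAffineMor (hTerm.from X.obj) := key.2 fun _ => hρaff
  have hkaff : IsAffine (Over.mk (𝟙 (Spec (CommRingCat.of k)))).left := by
    show IsAffine (Spec (CommRingCat.of k))
    infer_instance
  obtain ⟨W₁, i, fst, sqW, hW₁⟩ := hfaff hkaff (𝟙 _)
  have : IsIso fst := sqW.isIso_fst_of_isIso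
  exact ⟨W₁, hW₁, ⟨(asIso fst).symm⟩⟩

end Groth.Agent.S16834
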