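import Groth.Statements.S16854
-- import your own Groth.Agent.* helpers here
import Mathlib
import Groth.Agent.Lib.Helper90.Isoc21

set_option autoImplicit false
universe u v
open CAlg

namespace Groth.Agent.S16854

/-- Let k be an algebraically closed field of characteristic p > 0, ν ≥ 1, W = W(k) the ring of
p-typical Witt vectors with its Frobenius endomorphism σ, M a finitely generated free W-module and F
: M → M a bijective additive map that is σ^ν-semilinear, F(a·m) = σ^ν(a)·F(m). Then M admits a
W-basis consisting of F-fixed elements; in particular M is spanned over W by M₀ = {m | F(m) = m}, a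
module over the Witt vectors of F_{p^ν}. (The copy allows ν < 0 as well, reducing to F⁻¹; stated
here for ν ≥ 1.) -/
theorem result (k : Type u) [Field k] [IsAlgClosed k]
    (p : ℕ) [Fact p.Prime] [CharP k p] (ν : ℕ) (hν : 1 ≤ ν)
    (M : Type v) [AddCommGroup M] [Module (WittVector p k) M]
    [Module.Finite (WittVector p k) M] [Module.Free (WittVector p k) M]
    (F : M →+ M)
    (hF : ∀ (a : WittVector p k) (m : M), F (a • m) = ((⇑(WittVector.frobenius : WittVector p k →+* WittVector p k))^[ν] a) • F m)
    (hbij : Function.Bijective F) :
    ∃ (ι : Type v) (b : Module.Basis ι (WittVector p k) M), ∀ i, F (b i) = b i := by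
  classical
  have hc : 0 < ν := Nat.lt_of_lt_of_le Nat.zero_lt_one hν
  let e : WittVector p k ≃+* WittVector p k := WittVector.frobeniusEquiv p k ^ ν
  have he : ∀ w : WittVector p k, (e w).coeff 0 = (w.coeff 0) ^ (p ^ ν) :=
    Groth.Agent.Lib.Helper90.IsocLib.frobeniusEquiv_pow_coeff_zero ν
  have he2 : ∀ (n : ℕ) (a : WittVector p k), (WittVector.frobeniusEquiv p k ^ n) a =
      ((⇑(WittVector.frobenius : WittVector p k →+* WittVector p k))^[n] a) := by
    intro n
    induction n with
    | zero => intro a; rfl
    | succ n ih =>
      intro a
      rw [pow_succ, Function.iterate_succ_apply]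
      have h1 : (WittVector.frobeniusEquiv p k ^ n * WittVector.frobeniusEquiv p k) a =
          (WittVector.frobeniusEquiv p k ^ n) (WittVector.frobeniusEquiv p k a) := rfl
      rw [h1, ih, WittVector.frobeniusEquiv_apply]
  let g : M →ₛₗ[(e : WittVector p k →+* WittVector p k)] M :=
    { toFun := F
      map_add' := map_add F
      map_smul' := fun a m => by
        rw [hF]
        congr 1
        exact (he2 ν a).symm }
  have hg : Function.Bijective g := hbij
  let b := Module.finBasis (WittVector p k) M
  have hspan := Groth.Agent.Lib.Helper90.IsocLib.w_lang_span b he g hc hg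
  have hv : Submodule.span (WittVector p k)
      (Set.range (Subtype.val : {x : M // g x = x} → M)) = ⊤ := by
    rw [Subtype.range_coe_subtype]
    exact hspan
  haveI : Module.FinitePresentation (WittVector p k) M :=
    Module.finitePresentation_of_projective _ _
  obtain ⟨κ, a, b', hb'⟩ := Module.exists_basis_of_span_of_flat
    (Subtype.val : {x : M // g x = x} → M) hv
  exact ⟨κ, b', fun i => by rw [hb' i]; exact (a i).2⟩

end Groth.Agent.S16854
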