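import Groth.Statements.S16864
-- import your own Groth.Agent.* helpers here

set_option autoImplicit false
universe u
open CategoryTheory AlgebraicGeometry
open Gerb

namespace Groth.Agent.S16864

section General

universe v₃ u₃ v₂ u₂ v₄ u₄ v₁ u₁

variable {C : Type u₁} [Category.{v₁} C]

theorem isStronglyCartesian_of_isHomLift {𝒳 : Type u₂} [Category.{v₂} 𝒳] (p : 𝒳 ⥤ C)
    [FibCat.IsFibGrpd p] {V U : C} (h : V ⟶ U) {a b : 𝒳} (φ : a ⟶ b) [p.IsHomLift h φ] :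
    p.IsStronglyCartesian h φ := by
  subst_hom_lift p h φ
  exact FibCat.IsFibGrpd.isStronglyCartesian φ

theorem exists_factor {𝒳 : Type u₂} [Category.{v₂} 𝒳] (p : 𝒳 ⥤ C)
    [FibCat.IsFibGrpd p] {V U : C} (h : V ⟶ U) {a a' b : 𝒳} (φ : a ⟶ b) (ψ : a' ⟶ b)
    [p.IsHomLift h φ] [p.IsHomLift h ψ] :
    ∃ χ : a' ≅ a, p.IsHomLift (𝟙 V) χ.hom ∧ χ.hom ≫ φ = ψ := by
  haveI := isStronglyCartesian_of_isHomLift p h φ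
  let χ := Functor.IsStronglyCartesian.map p h φ (g := 𝟙 V) (f' := h) (by simp) ψ
  haveI : p.IsHomLift (𝟙 V) χ := inferInstance
  haveI := isStronglyCartesian_of_isHomLift p (𝟙 V) χ
  haveI : IsIso χ := Functor.IsStronglyCartesian.isIso_of_base_isIso p (𝟙 V) χ
  exact ⟨asIso χ, inferInstanceAs (p.IsHomLift (𝟙 V) χ), Functor.IsStronglyCartesian.fac p h φ (g := 𝟙 V) (f' := h) (by simp) ψ⟩

theorem isHomLift_id_of_eq {𝒳 : Type u₂} [Category.{v₂} 𝒳] (p : 𝒳 ⥤ C) {R R' : C} (e : R = R')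
    {a b : 𝒳} (φ : a ⟶ b) [p.IsHomLift (𝟙 R) φ] : p.IsHomLift (𝟙 R') φ := by
  subst e; infer_instance

variable {𝒳 : BasedCategory.{v₂, u₂} C} {𝒴 : BasedCategory.{v₃, u₃} C}
  {𝒴' : BasedCategory.{v₄, u₄} C}

theorem fp_isHomLift (g : 𝒴' ⥤ᵇ 𝒴) (f : 𝒳 ⥤ᵇ 𝒴) {z z' : (FibCat.fp g f).obj} (φ : z ⟶ z')
    {V U : C} (h : V ⟶ U) [𝒴'.p.IsHomLift h φ.hom.fst] : (FibCat.fp g f).p.IsHomLift h φ := by
  subst_hom_lift 𝒴'.p h φ.hom.fst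
  exact (inferInstance : (FibCat.fp g f).p.IsHomLift ((FibCat.fp g f).p.map φ) φ)

theorem locSurjObj_fpFst (J : GrothendieckTopology C) [FibCat.IsFibGrpd 𝒴.p] [FibCat.IsFibGrpd 𝒴'.p]
    (f : 𝒳 ⥤ᵇ 𝒴) (g : 𝒴' ⥤ᵇ 𝒴) (hf : Gerb.LocSurjObj J f) :
    Gerb.LocSurjObj J (FibCat.fpFst g f) := by
  intro y'
  obtain ⟨R, hR, H⟩ := hf (g.obj y')
  have e : 𝒴.p.obj (g.obj y') = 𝒴'.p.obj y' := g.w_obj y'
  refine ⟨R.pullback (eqToHom e.symm), J.pullback_stable _ hR, ?_⟩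
  intro V h hh
  obtain ⟨x, k, hk⟩ := H (h ≫ eqToHom e.symm) hh
  obtain ⟨y'', m, hm⟩ := FibCat.IsFibGrpd.exists_lift (p := 𝒴'.p) h
  have hk' : 𝒴.p.IsHomLift h k := (IsHomLift.lift_comp_eqToHom_iff 𝒴.p h k e.symm).1 hk
  haveI : 𝒴.p.IsHomLift h (g.map m) := inferInstance
  obtain ⟨χ, hχ, hχm⟩ := exists_factor 𝒴.p h (g.map m) k
  have hV : 𝒴'.p.obj y'' = V := IsHomLift.domain_eq 𝒴'.p h m
  haveI : 𝒴.p.IsHomLift (𝟙 V) χ.symm.hom := by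
    change 𝒴.p.IsHomLift (𝟙 V) χ.inv
    infer_instance
  have prop : 𝒴.p.IsHomLift (𝟙 (𝒴'.p.obj y'')) χ.symm.hom := isHomLift_id_of_eq 𝒴.p hV.symm _
  exact ⟨⟨⟨y'', x, χ.symm⟩, prop⟩, m, hm⟩

theorem locSurjHom_fpFst (J : GrothendieckTopology C) [FibCat.IsFibGrpd 𝒴.p] [FibCat.IsFibGrpd 𝒴'.p]
    (f : 𝒳 ⥤ᵇ 𝒴) (g : 𝒴' ⥤ᵇ 𝒴) (hf : Gerb.LocSurjHom J f) :
    Gerb.LocSurjHom J (FibCat.fpFst g f) := by
  intro z z' (b : z.obj.fst ⟶ z'.obj.fst) hb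
  -- unpack
  have hz : 𝒴.p.IsHomLift (𝟙 (𝒴'.p.obj z.obj.fst)) z.obj.iso.hom := z.property
  have hz' : 𝒴.p.IsHomLift (𝟙 (𝒴'.p.obj z'.obj.fst)) z'.obj.iso.hom := z'.property
  have hb' : 𝒴'.p.IsHomLift (𝟙 (𝒴'.p.obj z.obj.fst)) b := hb
  have e12 : 𝒴'.p.obj z'.obj.fst = 𝒴'.p.obj z.obj.fst :=
    IsHomLift.codomain_eq 𝒴'.p (𝟙 (𝒴'.p.obj z.obj.fst)) b
  have hz'' : 𝒴.p.IsHomLift (𝟙 (𝒴'.p.obj z.obj.fst)) z'.obj.iso.hom :=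
    isHomLift_id_of_eq 𝒴.p e12 _
  have E : 𝒳.p.obj z.obj.snd = 𝒴'.p.obj z.obj.fst :=
    (f.w_obj z.obj.snd).symm.trans
      (IsHomLift.codomain_eq 𝒴.p (𝟙 (𝒴'.p.obj z.obj.fst)) z.obj.iso.hom)
  let bt : f.obj z.obj.snd ⟶ f.obj z'.obj.snd := z.obj.iso.inv ≫ g.map b ≫ z'.obj.iso.hom
  have hgb : 𝒴.p.IsHomLift (𝟙 (𝒴'.p.obj z.obj.fst)) (g.map b) := inferInstance
  have hinv : 𝒴.p.IsHomLift (𝟙 (𝒴'.p.obj z.obj.fst)) z.obj.iso.inv := inferInstance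
  have hbt0 : 𝒴.p.IsHomLift (𝟙 (𝒴'.p.obj z.obj.fst)) bt := inferInstance
  have hbt : 𝒴.p.IsHomLift (𝟙 (𝒳.p.obj z.obj.snd)) bt := isHomLift_id_of_eq 𝒴.p E.symm _
  obtain ⟨R, hR, H⟩ := hf z.obj.snd z'.obj.snd bt hbt
  refine ⟨R.pullback (eqToHom E.symm), J.pullback_stable _ hR, ?_⟩
  intro V (h : V ⟶ 𝒴'.p.obj z.obj.fst) hh
  obtain ⟨x₀, φ₀, ψ₀, hφ₀, hψ₀, hcomm⟩ := H (h ≫ eqToHom E.symm) hh
  have hφ₀' : 𝒳.p.IsHomLift h φ₀ := (IsHomLift.lift_comp_eqToHom_iff 𝒳.p h φ₀ E.symm).1 hφ₀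
  have hψ₀' : 𝒳.p.IsHomLift h ψ₀ := (IsHomLift.lift_comp_eqToHom_iff 𝒳.p h ψ₀ E.symm).1 hψ₀
  obtain ⟨y₀, φy, hφy⟩ := FibCat.IsFibGrpd.exists_lift (p := 𝒴'.p) (x := z.obj.fst) h
  have h1 : 𝒴.p.IsHomLift h (f.map φ₀) := inferInstance
  have h2' : 𝒴.p.IsHomLift h (g.map φy) := inferInstance
  have h2 : 𝒴.p.IsHomLift h (g.map φy ≫ z.obj.iso.hom) := inferInstance
  obtain ⟨χ, hχ, hχm⟩ := exists_factor 𝒴.p h (f.map φ₀) (g.map φy ≫ z.obj.iso.hom)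
  have hV : 𝒴'.p.obj y₀ = V := IsHomLift.domain_eq 𝒴'.p h φy
  have prop : 𝒴.p.IsHomLift (𝟙 (𝒴'.p.obj y₀)) χ.hom := isHomLift_id_of_eq 𝒴.p hV.symm _
  let z₀ : (FibCat.fp g f).obj := ⟨⟨y₀, x₀, χ⟩, prop⟩
  let φ : z₀ ⟶ z := ObjectProperty.homMk { fst := φy, snd := φ₀, w := hχm.symm }
  have hψy : 𝒴'.p.IsHomLift h (φy ≫ b) := inferInstance
  let ψ : z₀ ⟶ z' := ObjectProperty.homMk
    { fst := φy ≫ b
      snd := ψ₀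
      w := by
        change g.map (φy ≫ b) ≫ z'.obj.iso.hom = χ.hom ≫ f.map ψ₀
        rw [← hcomm, ← Category.assoc χ.hom, hχm]
        simp [bt] }
  refine ⟨z₀, φ, ψ, ?_, ?_, rfl⟩
  · haveI : 𝒴'.p.IsHomLift h φ.hom.fst := hφy
    exact fp_isHomLift g f φ h
  · haveI : 𝒴'.p.IsHomLift h ψ.hom.fst := hψy
    exact fp_isHomLift g f ψ h

end General

/-- The base change of a gerbe along any morphism of algebraic stacks is a gerbe: if 𝒳 is a gerbe over 𝒴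
along f then 𝒴' ×_𝒴 𝒳 is a gerbe over 𝒴' along the first projection. -/
theorem result
    (S : Scheme.{u}) (𝒳 𝒴 𝒴' : AlgSt.Cat S)
    (h𝒳 : AlgSt.IsAlgStack Scheme.fppfPrecoverage 𝒳) (h𝒴 : AlgSt.IsAlgStack Scheme.fppfPrecoverage 𝒴)
    (h𝒴' : AlgSt.IsAlgStack Scheme.fppfPrecoverage 𝒴')
    (f : 𝒳 ⥤ᵇ 𝒴) (g : 𝒴' ⥤ᵇ 𝒴) (hf : Gerb.IsGerbeOver (QuotSh.J Scheme.fppfPrecoverage S) f) :
    Gerb.IsGerbeOver (QuotSh.J Scheme.fppfPrecoverage S) (FibCat.fpFst g f) := by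
  haveI : FibCat.IsFibGrpd 𝒴.p := h𝒴.isStack.1
  haveI : FibCat.IsFibGrpd 𝒴'.p := h𝒴'.isStack.1
  exact ⟨locSurjObj_fpFst _ f g hf.1, locSurjHom_fpFst _ f g hf.2⟩

end Groth.Agent.S16864
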