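import Groth.Statements.S16869
import Groth.Statements.S16869
import Groth.Agent.Lib.Helper10.GerbePts
import Groth.Agent.S16864

set_option autoImplicit false
universe u
open CategoryTheory AlgebraicGeometry
open Gerb

namespace Groth.Agent.S16869

section Aux
open CategoryTheory AlgebraicGeometry


open Groth.Agent.Lib.Helper17 Groth.Agent.Lib.Helper10.GP

theorem main
    (S : Scheme.{u}) (𝒳 𝒴 : AlgSt.Cat S)
    (h𝒳 : AlgSt.IsAlgStack Scheme.fppfPrecoverage 𝒳) (h𝒴 : AlgSt.IsAlgStack Scheme.fppfPrecoverage 𝒴)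
    (f : 𝒳 ⥤ᵇ 𝒴) (hf : Gerb.IsGerbeOver (QuotSh.J Scheme.fppfPrecoverage S) f) :
    AlgSt.IsUnivHomeo Scheme.fppfPrecoverage f := by
  intro 𝒵 h𝒵 g
  have hfp : AlgSt.IsAlgStack Scheme.fppfPrecoverage (FibCat.fp g f) :=
    AFP.isAlgStack_fp h𝒴.isStack h𝒴.diag h𝒵 h𝒳 g f
  have hg := Groth.Agent.S16864.result S 𝒳 𝒴 𝒵 h𝒳 h𝒴 h𝒵 f g hf
  exact isHomeomorph_of_isGerbeOver hfp h𝒵 _ hg


end Aux

/-- A morphism of algebraic stacks making its source a gerbe over its target is a universal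
homeomorphism. -/
theorem result
    (S : Scheme.{u}) (𝒳 𝒴 : AlgSt.Cat S)
    (h𝒳 : AlgSt.IsAlgStack Scheme.fppfPrecoverage 𝒳) (h𝒴 : AlgSt.IsAlgStack Scheme.fppfPrecoverage 𝒴)
    (f : 𝒳 ⥤ᵇ 𝒴) (hf : Gerb.IsGerbeOver (QuotSh.J Scheme.fppfPrecoverage S) f) :
    AlgSt.IsUnivHomeo Scheme.fppfPrecoverage f := by
  exact main S 𝒳 𝒴 h𝒳 h𝒴 f hf

end Groth.Agent.S16869
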