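import Groth.Statements.S16884
import Groth.Agent.Lib.Helper10.GerbeEquiv

set_option autoImplicit false
open CategoryTheory
universe v u
open Gerb

namespace Groth.Agent.S16884

open Groth.Agent.S16864

section General

universe v₃ u₃ v₂ u₂ v₄ u₄ v₅ u₅ v₁ u₁

variable {C : Type u₁} [Category.{v₁} C] (J : GrothendieckTopology C)
  {𝒳 : BasedCategory.{v₂, u₂} C} {𝒴 : BasedCategory.{v₃, u₃} C}
  {𝒳' : BasedCategory.{v₄, u₄} C} {𝒴' : BasedCategory.{v₅, u₅} C}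

theorem locSurjObj_descent (F : 𝒳 ⥤ᵇ 𝒴) (G : 𝒴' ⥤ᵇ 𝒴) (F' : 𝒳' ⥤ᵇ 𝒴') (G' : 𝒳' ⥤ᵇ 𝒳)
    (e : BasedFunctor.comp F' G ≅ BasedFunctor.comp G' F)
    (hG : Gerb.LocSurjObj J G) (hF' : Gerb.LocSurjObj J F') : Gerb.LocSurjObj J F := by
  intro y
  obtain ⟨R, hR, H⟩ := hG y
  choose y' m hm using H
  have ey : ∀ ⦃V : C⦄ (f : V ⟶ 𝒴.p.obj y) (hf : R f), V = 𝒴'.p.obj (y' f hf) := fun V f hf =>
    (IsHomLift.domain_eq 𝒴.p f (m f hf)).symm.trans (G.w_obj _)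
  choose RF hRF HF using fun ⦃V : C⦄ (f : V ⟶ 𝒴.p.obj y) (hf : R f) => hF' (y' f hf)
  refine ⟨Sieve.bind R (fun V f hf => (RF f hf).pullback (eqToHom (ey f hf))),
    J.bind_covering hR (fun V f hf => J.pullback_stable _ (hRF f hf)), ?_⟩
  intro W h hh
  obtain ⟨V, g, f, hf, hg, rfl⟩ := hh
  obtain ⟨x', k, hk⟩ := HF f hf (g ≫ eqToHom (ey f hf)) hg
  have hk' : 𝒴'.p.IsHomLift g k := (IsHomLift.lift_comp_eqToHom_iff 𝒴'.p g k _).1 hk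
  have h1 : 𝒴.p.IsHomLift g (G.map k) := inferInstance
  have h2 : 𝒴.p.IsHomLift f (m f hf) := hm f hf
  let ei : F.obj (G'.obj x') ⟶ G.obj (F'.obj x') := e.inv.toNatTrans.app x'
  have eW : 𝒳'.p.obj x' = W := (F'.w_obj x').symm.trans (IsHomLift.domain_eq 𝒴'.p g k)
  have h3 : 𝒴.p.IsHomLift (𝟙 (𝒳'.p.obj x')) ei := BasedNatTrans.isHomLift e.inv rfl
  have h3' : 𝒴.p.IsHomLift (𝟙 W) ei := isHomLift_id_of_eq 𝒴.p eW ei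
  have h4 : 𝒴.p.IsHomLift g (ei ≫ G.map k) := inferInstance
  have h5 : 𝒴.p.IsHomLift (g ≫ f) ((ei ≫ G.map k) ≫ m f hf) := inferInstance
  exact ⟨G'.obj x', (ei ≫ G.map k) ≫ m f hf, h5⟩

theorem locSurjHom_descent [FibCat.IsFibGrpd 𝒳.p] [FibCat.IsFibGrpd 𝒴.p]
    (F : 𝒳 ⥤ᵇ 𝒴) (G : 𝒴' ⥤ᵇ 𝒴) (F' : 𝒳' ⥤ᵇ 𝒴') (G' : 𝒳' ⥤ᵇ 𝒳)
    (e : BasedFunctor.comp F' G ≅ BasedFunctor.comp G' F) (hc : FibCat.IsTwoCartOver F' G' e)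
    (hG : Gerb.LocSurjObj J G) (hF' : Gerb.LocSurjHom J F') : Gerb.LocSurjHom J F := by
  intro x₁ x₂ b hb
  have eU : 𝒴.p.obj (F.obj x₁) = 𝒳.p.obj x₁ := F.w_obj x₁
  obtain ⟨R, hR, H⟩ := hG (F.obj x₁)
  obtain ⟨M, ⟨ε⟩, ⟨η⟩⟩ := hc
  let L := FibCat.fpLift F' G' e
  let tIso : ∀ z : (FibCat.fp G F).obj, L.obj (M.obj z) ≅ z := fun z =>
    ((BasedNatTrans.forgetful _ _).mapIso η).app z
  have htIso : ∀ z : (FibCat.fp G F).obj,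
      (FibCat.fp G F).p.IsHomLift (𝟙 ((FibCat.fp G F).p.obj z)) (tIso z).hom := fun z =>
    BasedNatTrans.isHomLift η.hom (M.w_obj z |>.symm ▸ rfl)
  let uI : ∀ z : (FibCat.fp G F).obj, F'.obj (M.obj z) ≅ z.obj.fst := fun z =>
    (FibCat.fpFst G F).toFunctor.mapIso (tIso z)
  let vI : ∀ z : (FibCat.fp G F).obj, G'.obj (M.obj z) ≅ z.obj.snd := fun z =>
    (FibCat.fpSnd G F).toFunctor.mapIso (tIso z)
  have huI : ∀ z : (FibCat.fp G F).obj, 𝒴'.p.IsHomLift (𝟙 (𝒴'.p.obj z.obj.fst)) (uI z).hom := fun z => by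
    haveI := htIso z
    exact (inferInstance : 𝒴'.p.IsHomLift (𝟙 ((FibCat.fp G F).p.obj z)) ((FibCat.fpFst G F).map (tIso z).hom))
  have hvI : ∀ z : (FibCat.fp G F).obj, 𝒳.p.IsHomLift (𝟙 (𝒴'.p.obj z.obj.fst)) (vI z).hom := fun z => by
    haveI := htIso z
    exact (inferInstance : 𝒳.p.IsHomLift (𝟙 ((FibCat.fp G F).p.obj z)) ((FibCat.fpSnd G F).map (tIso z).hom))
  have hw : ∀ z : (FibCat.fp G F).obj, G.map (uI z).hom ≫ z.obj.iso.hom =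
      e.hom.toNatTrans.app (M.obj z) ≫ F.map (vI z).hom := fun z => (tIso z).hom.hom.w
  have key : ∀ ⦃V : C⦄ (f : V ⟶ 𝒳.p.obj x₁), R (f ≫ eqToHom eU.symm) →
      ∃ S ∈ J V, ∀ ⦃W : C⦄ (g : W ⟶ V), S g → ∃ (x₀ : 𝒳.obj) (φ : x₀ ⟶ x₁) (ψ : x₀ ⟶ x₂),
        𝒳.p.IsHomLift (g ≫ f) φ ∧ 𝒳.p.IsHomLift (g ≫ f) ψ ∧ F.map φ ≫ b = F.map ψ := by
    intro V f hf
    obtain ⟨y', m, hm⟩ := H _ hf
    have hm' : 𝒴.p.IsHomLift f m := (IsHomLift.lift_comp_eqToHom_iff 𝒴.p f m _).1 hm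
    obtain ⟨xV₁, a₁, ha₁⟩ := FibCat.IsFibGrpd.exists_lift (p := 𝒳.p) (x := x₁) f
    have ex₂ : 𝒳.p.obj x₂ = 𝒳.p.obj x₁ :=
      (F.w_obj x₂).symm.trans (IsHomLift.codomain_eq 𝒴.p (𝟙 (𝒳.p.obj x₁)) b)
    obtain ⟨xV₂, a₂, ha₂⟩ := FibCat.IsFibGrpd.exists_lift (p := 𝒳.p) (x := x₂) (f ≫ eqToHom ex₂.symm)
    have ha₂' : 𝒳.p.IsHomLift f a₂ := (IsHomLift.lift_comp_eqToHom_iff 𝒳.p f a₂ _).1 ha₂
    have hFa₁ : 𝒴.p.IsHomLift f (F.map a₁) := inferInstance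
    have hFa₂ : 𝒴.p.IsHomLift f (F.map a₂) := inferInstance
    obtain ⟨α₁, hα₁, hα₁m⟩ := exists_factor 𝒴.p f (F.map a₁) m
    have hmb : 𝒴.p.IsHomLift f (m ≫ b) := inferInstance
    obtain ⟨α₂, hα₂, hα₂m⟩ := exists_factor 𝒴.p f (F.map a₂) (m ≫ b)
    have eV : 𝒴'.p.obj y' = V := (G.w_obj y').symm.trans (IsHomLift.domain_eq 𝒴.p f m)
    let z₁ : (FibCat.fp G F).obj := ⟨⟨y', xV₁, α₁⟩, isHomLift_id_of_eq 𝒴.p eV.symm α₁.hom⟩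
    let z₂ : (FibCat.fp G F).obj := ⟨⟨y', xV₂, α₂⟩, isHomLift_id_of_eq 𝒴.p eV.symm α₂.hom⟩
    let u₁ : F'.obj (M.obj z₁) ≅ y' := uI z₁
    let u₂ : F'.obj (M.obj z₂) ≅ y' := uI z₂
    let v₁ : G'.obj (M.obj z₁) ≅ xV₁ := vI z₁
    let v₂ : G'.obj (M.obj z₂) ≅ xV₂ := vI z₂
    have hu₁ : 𝒴'.p.IsHomLift (𝟙 (𝒴'.p.obj y')) u₁.hom := huI z₁
    have hu₂ : 𝒴'.p.IsHomLift (𝟙 (𝒴'.p.obj y')) u₂.hom := huI z₂
    have hu₂i : 𝒴'.p.IsHomLift (𝟙 (𝒴'.p.obj y')) u₂.inv := inferInstance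
    have hv₁ : 𝒳.p.IsHomLift (𝟙 (𝒴'.p.obj y')) v₁.hom := hvI z₁
    have hv₂ : 𝒳.p.IsHomLift (𝟙 (𝒴'.p.obj y')) v₂.hom := hvI z₂
    have hv₁' : 𝒳.p.IsHomLift (𝟙 V) v₁.hom := isHomLift_id_of_eq 𝒳.p eV v₁.hom
    have hv₂' : 𝒳.p.IsHomLift (𝟙 V) v₂.hom := isHomLift_id_of_eq 𝒳.p eV v₂.hom
    have w₁ : G.map u₁.hom ≫ α₁.hom = e.hom.toNatTrans.app (M.obj z₁) ≫ F.map v₁.hom := hw z₁
    have w₂ : G.map u₂.hom ≫ α₂.hom = e.hom.toNatTrans.app (M.obj z₂) ≫ F.map v₂.hom := hw z₂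
    let b' : F'.obj (M.obj z₁) ⟶ F'.obj (M.obj z₂) := u₁.hom ≫ u₂.inv
    have hb'0 : 𝒴'.p.IsHomLift (𝟙 (𝒴'.p.obj y')) b' := inferInstance
    have eX : 𝒳'.p.obj (M.obj z₁) = 𝒴'.p.obj y' := M.w_obj z₁
    have hb' : 𝒴'.p.IsHomLift (𝟙 (𝒳'.p.obj (M.obj z₁))) b' := isHomLift_id_of_eq 𝒴'.p eX.symm b'
    obtain ⟨S, hS, HS⟩ := hF' (M.obj z₁) (M.obj z₂) b' hb'
    have eVX : V = 𝒳'.p.obj (M.obj z₁) := eV.symm.trans eX.symm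
    refine ⟨S.pullback (eqToHom eVX), J.pullback_stable _ hS, ?_⟩
    intro W g hg
    obtain ⟨x'₀, φ', ψ', hφ', hψ', hc'⟩ := HS _ hg
    have hφ'' : 𝒳'.p.IsHomLift g φ' := (IsHomLift.lift_comp_eqToHom_iff 𝒳'.p g φ' _).1 hφ'
    have hψ'' : 𝒳'.p.IsHomLift g ψ' := (IsHomLift.lift_comp_eqToHom_iff 𝒳'.p g ψ' _).1 hψ'
    have h1 : 𝒳.p.IsHomLift g (G'.map φ') := inferInstance
    have h2 : 𝒳.p.IsHomLift g (G'.map ψ') := inferInstance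
    have h3 : 𝒳.p.IsHomLift g (G'.map φ' ≫ v₁.hom) := inferInstance
    have h4 : 𝒳.p.IsHomLift g (G'.map ψ' ≫ v₂.hom) := inferInstance
    have h5 : 𝒳.p.IsHomLift (g ≫ f) ((G'.map φ' ≫ v₁.hom) ≫ a₁) := inferInstance
    have h6 : 𝒳.p.IsHomLift (g ≫ f) ((G'.map ψ' ≫ v₂.hom) ≫ a₂) := inferInstance
    refine ⟨G'.obj x'₀, (G'.map φ' ≫ v₁.hom) ≫ a₁, (G'.map ψ' ≫ v₂.hom) ≫ a₂, h5, h6, ?_⟩
    -- the equation
    let E : ∀ x' : 𝒳'.obj, G.obj (F'.obj x') ≅ F.obj (G'.obj x') := fun x' =>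
      ((BasedNatTrans.forgetful _ _).mapIso e).app x'
    have nat₁ : G.map (F'.map φ') ≫ (E (M.obj z₁)).hom = (E x'₀).hom ≫ F.map (G'.map φ') :=
      e.hom.toNatTrans.naturality φ'
    have nat₂ : G.map (F'.map ψ') ≫ (E (M.obj z₂)).hom = (E x'₀).hom ≫ F.map (G'.map ψ') :=
      e.hom.toNatTrans.naturality ψ'
    have w₁' : G.map u₁.hom ≫ α₁.hom = (E (M.obj z₁)).hom ≫ F.map v₁.hom := w₁
    have w₂' : G.map u₂.hom ≫ α₂.hom = (E (M.obj z₂)).hom ≫ F.map v₂.hom := w₂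
    have hc'' : F'.map φ' ≫ u₁.hom = F'.map ψ' ≫ u₂.hom := by
      rw [← hc']
      simp [b']
    rw [← cancel_epi (E x'₀).hom]
    calc (E x'₀).hom ≫ F.map ((G'.map φ' ≫ v₁.hom) ≫ a₁) ≫ b
        = ((E x'₀).hom ≫ F.map (G'.map φ')) ≫ F.map v₁.hom ≫ F.map a₁ ≫ b := by
          simp only [Functor.map_comp, Category.assoc]
      _ = G.map (F'.map φ') ≫ ((E (M.obj z₁)).hom ≫ F.map v₁.hom) ≫ F.map a₁ ≫ b := by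
          rw [← nat₁]; simp only [Category.assoc]
      _ = G.map (F'.map φ' ≫ u₁.hom) ≫ m ≫ b := by
          rw [← w₁', ← hα₁m]; simp only [Functor.map_comp, Category.assoc]
      _ = G.map (F'.map ψ' ≫ u₂.hom) ≫ α₂.hom ≫ F.map a₂ := by rw [hc'', hα₂m]
      _ = G.map (F'.map ψ') ≫ ((E (M.obj z₂)).hom ≫ F.map v₂.hom) ≫ F.map a₂ := by
          rw [← w₂']; simp only [Functor.map_comp, Category.assoc]
      _ = ((E x'₀).hom ≫ F.map (G'.map ψ')) ≫ F.map v₂.hom ≫ F.map a₂ := by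
          rw [← nat₂]; simp only [Category.assoc]
      _ = (E x'₀).hom ≫ F.map ((G'.map ψ' ≫ v₂.hom) ≫ a₂) := by
          simp only [Functor.map_comp, Category.assoc]
  choose S hS HS using key
  refine ⟨Sieve.bind (R.pullback (eqToHom eU.symm)) (fun V f hf => S f hf),
    J.bind_covering (J.pullback_stable _ hR) (fun V f hf => hS f hf), ?_⟩
  intro W h hh
  obtain ⟨V, g, f, hf, hg, rfl⟩ := hh
  exact HS f hf g hg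

end General

/-- Let `𝒳`, `𝒴`, `𝒳'`, `𝒴'` be stacks in groupoids over the site `(C, J)` forming a 2-cartesian square
over `C` with sides `F : 𝒳 ⟶ 𝒴`, `G : 𝒴' ⟶ 𝒴`, `F' : 𝒳' ⟶ 𝒴'`, `G' : 𝒳' ⟶ 𝒳` and 2-isomorphism `e :
F' ⋙ G ≅ G' ⋙ F` over `C`. Suppose that every object of `𝒴` lies, locally on `C`, in the essential
image of `G` (for `y` over `U` there is a covering sieve of `U` on whose members `V ⟶ U` there are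
an object `y'` of `𝒴'` and a morphism `G y' ⟶ y` lying over `V ⟶ U`). If `𝒳'` is a gerbe over `𝒴'`
along `F'`, then `𝒳` is a gerbe over `𝒴` along `F`: being a gerbe descends along such a base change. -/
theorem result {C : Type u} [Category.{v} C]
    (J : GrothendieckTopology C) {𝒳 𝒴 𝒳' 𝒴' : BasedCategory.{v, max u v} C}
    (h𝒳 : Stk.IsStack J 𝒳) (h𝒴 : Stk.IsStack J 𝒴) (h𝒳' : Stk.IsStack J 𝒳') (h𝒴' : Stk.IsStack J 𝒴')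
    (F : 𝒳 ⥤ᵇ 𝒴) (G : 𝒴' ⥤ᵇ 𝒴) (F' : 𝒳' ⥤ᵇ 𝒴') (G' : 𝒳' ⥤ᵇ 𝒳)
    (e : BasedFunctor.comp F' G ≅ BasedFunctor.comp G' F) (hc : FibCat.IsTwoCartOver F' G' e)
    (hG : Gerb.LocSurjObj J G) (hF' : Gerb.IsGerbeOver J F') : Gerb.IsGerbeOver J F := by
  haveI : FibCat.IsFibGrpd 𝒳.p := h𝒳.1
  haveI : FibCat.IsFibGrpd 𝒴.p := h𝒴.1
  exact ⟨locSurjObj_descent J F G F' G' e hG hF'.1, locSurjHom_descent J F G F' G' e hc hG hF'.2⟩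

end Groth.Agent.S16884
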