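import Groth.Statements.S16885
import Groth.Statements.S16885
import Groth.Agent.Lib.Helper10.GerbeEquiv
import Groth.Agent.S12793

set_option autoImplicit false
open CategoryTheory
universe v u
open Gerb

namespace Groth.Agent.S16885

section Aux
open CategoryTheory
open Gerb


open Groth.Agent.Lib.Helper10.GerbeEquiv

lemma toSelf_eq {C : Type u} [Category.{v} C]
    {𝒮₁ 𝒮₂ : BasedCategory.{v, max u v} C} (F : 𝒮₁ ⥤ᵇ 𝒮₂) :
    BasedFunctor.comp F (FibCat.toSelf 𝒮₂) = FibCat.toSelf 𝒮₁ := by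
  have h : (BasedFunctor.comp F (FibCat.toSelf 𝒮₂)).toFunctor = (FibCat.toSelf 𝒮₁).toFunctor :=
    F.w
  generalize BasedFunctor.comp F (FibCat.toSelf 𝒮₂) = A at h
  generalize FibCat.toSelf 𝒮₁ = B at h
  cases A; cases B
  cases h
  rfl

lemma gerbeOver_of {C : Type u} [Category.{v} C] (J : GrothendieckTopology C)
    {𝒮₁ 𝒮₂ : BasedCategory.{v, max u v} C} (F : 𝒮₁ ⥤ᵇ 𝒮₂) (hF : FibCat.IsEquivOver F)
    (h : Gerb.IsGerbeOver J (FibCat.toSelf 𝒮₂)) : Gerb.IsGerbeOver J (FibCat.toSelf 𝒮₁) := by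
  rw [← toSelf_eq F]
  exact isGerbeOver_equiv_comp J F hF _ h

theorem main {C : Type u} [Category.{v} C] (J : GrothendieckTopology C)
    {𝒮₁ 𝒮₂ : BasedCategory.{v, max u v} C} (F : 𝒮₁ ⥤ᵇ 𝒮₂) (hF : FibCat.IsEquivOver F) :
    Gerb.IsGerbe J 𝒮₁ ↔ Gerb.IsGerbe J 𝒮₂ := by
  have hst := Groth.Agent.S12793.result J F hF
  obtain ⟨G, ⟨e₁⟩, ⟨e₂⟩⟩ := hF
  have hF : FibCat.IsEquivOver F := ⟨G, ⟨e₁⟩, ⟨e₂⟩⟩
  have hG : FibCat.IsEquivOver G := ⟨F, ⟨e₂⟩, ⟨e₁⟩⟩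
  constructor
  · rintro ⟨h1, h2⟩
    exact ⟨hst.1 h1, gerbeOver_of J G hG h2⟩
  · rintro ⟨h1, h2⟩
    exact ⟨hst.2 h1, gerbeOver_of J F hF h2⟩


end Aux

/-- Let `𝒮₁`, `𝒮₂` be categories over `C` and `F : 𝒮₁ ⟶ 𝒮₂` a functor over `C` which is an equivalence
in the 2-category of categories over `C`. Then, for a topology `J` on `C`, `𝒮₁` is a gerbe over the
site `(C, J)` if and only if `𝒮₂` is. -/
theorem result {C : Type u} [Category.{v} C] (J : GrothendieckTopology C)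
    {𝒮₁ 𝒮₂ : BasedCategory.{v, max u v} C} (F : 𝒮₁ ⥤ᵇ 𝒮₂) (hF : FibCat.IsEquivOver F) :
    Gerb.IsGerbe J 𝒮₁ ↔ Gerb.IsGerbe J 𝒮₂ := by
  exact main J F hF

end Groth.Agent.S16885
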