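import Groth.Statements.S16909
import Groth.Agent.Lib.Lead.IdealGG

set_option autoImplicit false
universe u
open CategoryTheory CategoryTheory.Limits AlgebraicGeometry
open ResProp

namespace Groth.Agent.S16909

/-- Let `X` be a quasi-compact and quasi-separated scheme on which every quasi-coherent module is
globally generated (a quotient of a free module on some index type, i.e. the structure sheaf is a
generating family). Then `X` is quasi-affine. No separatedness hypothesis is made; it follows. (The
published statement is for an algebraic stack over an algebraic space with affine stabilizer groups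
at closed points and concludes that it is representable by a quasi-affine morphism; that general
case rests on results outside this text, and this row is the final step of its proof, the case of a
scheme.) -/
theorem result (X : Scheme.{u}) [CompactSpace X]
    [QuasiSeparatedSpace X] (h : ∀ M : X.Modules, Coh.IsQCoh M → Curv2.IsGloballyGenerated M) :
    X.IsQuasiAffine := by
  open Groth.Agent.Lib.Lead.Inv Groth.Agent.Lib.Helper22.IdealModAff in
  refine Scheme.IsQuasiAffine.of_forall_exists_mem_basicOpen X fun x => ?_
  obtain ⟨_, ⟨U, hU, rfl⟩, hxU, -⟩ :=
    X.isBasis_affineOpens.exists_subset_of_mem_open (Set.mem_univ x) isOpen_univ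
  let Z : TopologicalSpace.Closeds X := ⟨(U : Set X)ᶜ, U.isOpen.isClosed_compl⟩
  let I : X.IdealSheafData := Scheme.IdealSheafData.vanishingIdeal Z
  have hsupp : (I.support : Set X) = (U : Set X)ᶜ :=
    Scheme.IdealSheafData.coe_support_vanishingIdeal Z
  have hGG : GG (ClSub.idealMod I) :=
    GG_of_isGloballyGenerated (h _ (isQuasicoherent_idealMod I))
  have hx : x ∉ I.support := by
    intro hx'
    have : x ∈ (I.support : Set X) := hx'
    rw [hsupp] at this
    exact this hxU
  obtain ⟨σ, hσ⟩ := exists_incl_mem_basicOpen I hGG x hx
  refine ⟨incl I ⊤ σ, ?_, hσ⟩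
  have hle : X.basicOpen (incl I ⊤ σ) ≤ U := by
    intro y hy
    by_contra hyU
    have : y ∈ (I.support : Set X) := by rw [hsupp]; exact hyU
    exact basicOpen_incl_disjoint_support I σ y this hy
  have heq : X.basicOpen (incl I ⊤ σ) =
      X.basicOpen (X.presheaf.map (homOfLE (le_top : U ≤ ⊤)).op (incl I ⊤ σ)) := by
    rw [Scheme.basicOpen_res]
    exact (inf_eq_right.mpr hle).symm
  rw [heq]
  exact hU.basicOpen _

end Groth.Agent.S16909
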