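import Groth.Statements.S16917
import Mathlib
import Groth.Agent.S9793

set_option autoImplicit false
open CategoryTheory AlgebraicGeometry
universe u
open Variety

set_option linter.unusedSectionVars false

namespace Groth.Agent.S16917Aux

open Cardinal TopologicalSpace


/-- a countably generated field extension of an uncountable algebraically closed field is trivial;
here in the form: a field `L` with `rank ≤ ℵ₀` over `k`. -/
lemma bijective_algebraMap_of_rank_le (k : Type u) [Field k] [IsAlgClosed k] [Uncountable k]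
    (L : Type u) [Field L] [Algebra k L] (hL : Module.rank k L ≤ ℵ₀) :
    Function.Bijective (algebraMap k L) := by
  have halg : Algebra.IsAlgebraic k L := by
    by_contra hna
    rw [← Algebra.transcendental_iff_not_isAlgebraic] at hna
    have h1 : Module.rank k L = #L := Algebra.Transcendental.rank_eq_cardinalMk k L
    have h2 : #k ≤ #L := Cardinal.mk_le_of_injective (algebraMap k L).injective
    have h3 : ℵ₀ < #k := Cardinal.aleph0_lt_mk_iff.2 inferInstance
    exact absurd (h3.trans_le (h2.trans (h1 ▸ hL))) (lt_irrefl _)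
  have : Algebra.IsIntegral k L := Algebra.IsAlgebraic.isIntegral
  exact IsAlgClosed.algebraMap_bijective_of_isIntegral

theorem exists_algHom_avoiding (k : Type u) [Field k] [IsAlgClosed k] [Uncountable k]
    (B : Type u) [CommRing B] [IsDomain B] [Algebra k B] [Algebra.FiniteType k B]
    {I : Type u} [Countable I] (h : I → B) (hh : ∀ i, h i ≠ 0) :
    ∃ φ : B →ₐ[k] k, ∀ i, φ (h i) ≠ 0 := by
  classical
  let M : Submonoid B := Submonoid.closure (Set.range h)
  have hM : M ≤ nonZeroDivisors B := by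
    rw [Submonoid.closure_le]
    rintro _ ⟨i, rfl⟩
    exact mem_nonZeroDivisors_of_ne_zero (hh i)
  let B' := Localization M
  have hinj : Function.Injective (algebraMap B B') := IsLocalization.injective B' hM
  have hnt : Nontrivial B' := hinj.nontrivial
  obtain ⟨n, f, hf⟩ := Algebra.FiniteType.iff_quotient_mvPolynomial''.1 (inferInstance : Algebra.FiniteType k B)
  -- the surjection from a countably generated polynomial ring
  let g : Fin n ⊕ I → B' := Sum.elim (fun j => algebraMap B B' (f (MvPolynomial.X j)))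
    (fun i => IsLocalization.mk' B' (1 : B) (⟨h i, Submonoid.subset_closure ⟨i, rfl⟩⟩ : M))
  let Ψ : MvPolynomial (Fin n ⊕ I) k →ₐ[k] B' := MvPolynomial.aeval g
  have hΨ1 : ∀ p : MvPolynomial (Fin n) k,
      Ψ (MvPolynomial.rename Sum.inl p) = algebraMap B B' (f p) := by
    intro p
    have : (Ψ.comp (MvPolynomial.rename Sum.inl)) = (IsScalarTower.toAlgHom k B B').comp f := by
      apply MvPolynomial.algHom_ext
      intro j
      simp [Ψ, g]
    exact congrArg (fun F : MvPolynomial (Fin n) k →ₐ[k] B' => F p) this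
  have hΨ2 : ∀ m (hm : m ∈ M), IsLocalization.mk' B' (1 : B) (⟨m, hm⟩ : M) ∈ Ψ.range := by
    intro m hm
    induction hm using Submonoid.closure_induction with
    | mem x hx =>
      obtain ⟨i, rfl⟩ := hx
      exact ⟨MvPolynomial.X (Sum.inr i), by simp [Ψ, g]⟩
    | one =>
      refine ⟨1, ?_⟩
      rw [map_one]
      exact (IsLocalization.mk'_one (M := M) B' (1 : B)).symm ▸ (by simp)
    | mul x y hx hy ihx ihy =>
      have : IsLocalization.mk' B' (1 : B) (⟨x * y, M.mul_mem hx hy⟩ : M) =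
          IsLocalization.mk' B' (1 : B) (⟨x, hx⟩ : M) * IsLocalization.mk' B' (1 : B) (⟨y, hy⟩ : M) := by
        rw [← IsLocalization.mk'_mul, one_mul]
        rfl
      rw [this]
      exact Ψ.range.mul_mem ihx ihy
  have hΨsurj : Function.Surjective Ψ := by
    intro z
    obtain ⟨b, m, rfl⟩ := IsLocalization.exists_mk'_eq M z
    obtain ⟨p, rfl⟩ := hf b
    obtain ⟨q, hq⟩ := hΨ2 m.1 m.2
    refine ⟨MvPolynomial.rename Sum.inl p * q, ?_⟩
    have hq' : Ψ q = IsLocalization.mk' B' (1 : B) m := hq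
    rw [map_mul, hΨ1, hq', IsLocalization.mul_mk'_eq_mk'_of_mul, mul_one]
  have hrank : Module.rank k B' ≤ ℵ₀ := by
    refine (LinearMap.rank_le_of_surjective Ψ.toLinearMap hΨsurj).trans ?_
    rw [MvPolynomial.rank_eq]
    exact Cardinal.mk_le_aleph0
  obtain ⟨𝔫, h𝔫⟩ := Ideal.exists_maximal B'
  let _ : Field (B' ⧸ 𝔫) := Ideal.Quotient.field 𝔫
  have hrankL : Module.rank k (B' ⧸ 𝔫) ≤ ℵ₀ :=
    (LinearMap.rank_le_of_surjective (Ideal.Quotient.mkₐ k 𝔫).toLinearMap
      (Ideal.Quotient.mkₐ_surjective k 𝔫)).trans hrank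
  have hbij := bijective_algebraMap_of_rank_le k (B' ⧸ 𝔫) hrankL
  let ε : k ≃ₐ[k] (B' ⧸ 𝔫) := AlgEquiv.ofBijective (Algebra.ofId k (B' ⧸ 𝔫)) hbij
  refine ⟨(ε.symm : (B' ⧸ 𝔫) →ₐ[k] k).comp ((Ideal.Quotient.mkₐ k 𝔫).comp
    (IsScalarTower.toAlgHom k B B')), ?_⟩
  intro i h0
  have h1 : Ideal.Quotient.mk 𝔫 (algebraMap B B' (h i)) = 0 := by
    have := congrArg ε h0
    simpa using this
  rw [Ideal.Quotient.eq_zero_iff_mem] at h1
  have hu : IsUnit (algebraMap B B' (h i)) :=
    IsLocalization.map_units B' (⟨h i, Submonoid.subset_closure ⟨i, rfl⟩⟩ : M)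
  exact h𝔫.ne_top (Ideal.eq_top_of_isUnit_mem _ h1 hu)



/-- Key lemma: an irreducible closed subset whose closed points are covered by countably many
closed subsets lies in one of them. -/
theorem exists_subset_of_closedPoints_subset (k : Type u) [Field k] [IsAlgClosed k] [Uncountable k]
    (X : Scheme.{u}) (sX : X ⟶ Spec (CommRingCat.of k)) [LocallyOfFiniteType sX]
    (T : Set X) (hT : IsIrreducible T) (hTc : IsClosed T) {I : Type u} [Countable I]
    (W : I → Set X) (hW : ∀ i, IsClosed (W i))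
    (hcov : ∀ x ∈ T, IsClosed ({x} : Set X) → ∃ i, x ∈ W i) : ∃ i, T ⊆ W i := by
  by_contra hne
  push Not at hne
  have hJac : JacobsonSpace X := LocallyOfFiniteType.jacobsonSpace sX
  obtain ⟨η, hη⟩ := QuasiSober.sober hT hTc
  have hηW : ∀ i, η ∉ W i := by
    intro i hi
    apply hne i
    rw [← hη.def]
    exact (hW i).closure_subset_iff.2 (Set.singleton_subset_iff.2 hi)
  obtain ⟨U, hU, hηU, -⟩ := exists_isAffineOpen_mem_and_subset (U := ⊤) (x := η) trivial
  -- algebra structure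
  let ψ : k →+* Γ(X, U) := ((Scheme.ΓSpecIso (CommRingCat.of k)).inv ≫ sX.appLE ⊤ U le_top).hom
  let _ : Algebra k Γ(X, U) := ψ.toAlgebra
  have hbij : Function.Bijective (Scheme.ΓSpecIso (CommRingCat.of k)).inv :=
    ConcreteCategory.bijective_of_isIso (Scheme.ΓSpecIso (CommRingCat.of k)).inv
  have hft : ψ.FiniteType := by
    have h1 := sX.finiteType_appLE (isAffineOpen_top _) hU le_top
    have h2 : ((Scheme.ΓSpecIso (CommRingCat.of k)).inv).hom.FiniteType :=
      RingHom.FiniteType.of_surjective _ hbij.2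
    exact h1.comp h2
  have : Algebra.FiniteType k Γ(X, U) := hft
  let 𝔭 : PrimeSpectrum Γ(X, U) := hU.primeIdealOf ⟨η, hηU⟩
  have h𝔭 : hU.fromSpec 𝔭 = η := hU.fromSpec_primeIdealOf ⟨η, hηU⟩
  have hcont : Continuous hU.fromSpec := hU.fromSpec.continuous
  -- elements a_i
  have hex : ∀ i, ∃ a : Γ(X, U), (∀ q : PrimeSpectrum Γ(X, U), hU.fromSpec q ∈ W i → a ∈ q.asIdeal) ∧
      a ∉ 𝔭.asIdeal := by
    intro i
    let C : Set (PrimeSpectrum Γ(X, U)) := {q | hU.fromSpec q ∈ W i}
    have hcl : IsClosed C := (hW i).preimage hcont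
    obtain ⟨J, hJ⟩ := (PrimeSpectrum.isClosed_iff_zeroLocus_ideal C).1 hcl
    have hnot : 𝔭 ∉ C := by
      intro hmem
      apply hηW i
      rw [← h𝔭]; exact hmem
    rw [hJ, PrimeSpectrum.mem_zeroLocus, Set.not_subset] at hnot
    obtain ⟨a, ha, ha'⟩ := hnot
    refine ⟨a, fun q hq => ?_, ha'⟩
    have hqC : q ∈ C := hq
    rw [hJ, PrimeSpectrum.mem_zeroLocus] at hqC
    exact hqC ha
  choose a ha ha' using hex
  have : 𝔭.asIdeal.IsPrime := 𝔭.isPrime
  obtain ⟨φ, hφ⟩ := exists_algHom_avoiding k (Γ(X, U) ⧸ 𝔭.asIdeal)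
    (fun i => Ideal.Quotient.mk 𝔭.asIdeal (a i))
    (fun i h0 => ha' i (Ideal.Quotient.eq_zero_iff_mem.1 h0))
  -- the maximal ideal
  let χ : Γ(X, U) →+* k := φ.toRingHom.comp (Ideal.Quotient.mk 𝔭.asIdeal)
  have hχsurj : Function.Surjective χ := by
    intro c
    refine ⟨algebraMap k Γ(X, U) c, ?_⟩
    change φ (Ideal.Quotient.mk 𝔭.asIdeal (algebraMap k Γ(X, U) c)) = c
    have : Ideal.Quotient.mk 𝔭.asIdeal (algebraMap k Γ(X, U) c) =
        algebraMap k (Γ(X, U) ⧸ 𝔭.asIdeal) c := rfl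
    rw [this, φ.commutes]
    rfl
  have hmax : (RingHom.ker χ).IsMaximal := RingHom.ker_isMaximal_of_surjective χ hχsurj
  let 𝔪 : PrimeSpectrum Γ(X, U) := ⟨RingHom.ker χ, hmax.isPrime⟩
  have hle : 𝔭 ≤ 𝔪 := by
    intro b hb
    change b ∈ RingHom.ker χ
    rw [RingHom.mem_ker]
    change φ (Ideal.Quotient.mk 𝔭.asIdeal b) = 0
    rw [Ideal.Quotient.eq_zero_iff_mem.2 hb, map_zero]
  have hspec : 𝔭 ⤳ 𝔪 := (PrimeSpectrum.le_iff_specializes 𝔭 𝔪).1 hle
  let x : X := hU.fromSpec 𝔪
  have hxT : x ∈ T := by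
    have h1 : η ⤳ x := by
      rw [← h𝔭]
      exact hspec.map hcont
    rw [← hη.def]
    exact (specializes_iff_mem_closure).1 h1
  have hxclosed : IsClosed ({x} : Set X) := by
    apply isClosed_singleton_of_isLocallyClosed_singleton
    have h1 : IsClosed ({𝔪} : Set (PrimeSpectrum Γ(X, U))) :=
      (PrimeSpectrum.isClosed_singleton_iff_isMaximal 𝔪).2 hmax
    have h2 : ({x} : Set X) = (fun q : PrimeSpectrum Γ(X, U) => (hU.fromSpec q : X)) '' {𝔪} := by
      rw [Set.image_singleton]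
    rw [h2]
    exact h1.isLocallyClosed.image hU.fromSpec.isOpenEmbedding.isInducing
      hU.fromSpec.isOpenEmbedding.isOpen_range.isLocallyClosed
  obtain ⟨i, hi⟩ := hcov x hxT hxclosed
  have hai : a i ∈ 𝔪.asIdeal := ha i 𝔪 hi
  change a i ∈ RingHom.ker χ at hai
  rw [RingHom.mem_ker] at hai
  exact hφ i hai



/-- the property of a decomposition -/
def IsDecomp (X : Scheme.{u}) (Z : ℕ → Closeds X) (S : Set (Closeds X)) : Prop :=
  S.Countable ∧ (∀ T ∈ S, IsIrreducible (T : Set X)) ∧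
      IsAntichain (· ≤ ·) S ∧
      {x : X | IsClosed ({x} : Set X) ∧ ∃ T ∈ S, x ∈ T} =
        {x : X | IsClosed ({x} : Set X) ∧ ∃ n, x ∈ Z n}

theorem decomp_subset (k : Type u) [Field k] [IsAlgClosed k] [Uncountable k]
    (X : Scheme.{u}) (sX : X ⟶ Spec (CommRingCat.of k)) [LocallyOfFiniteType sX]
    (Z : ℕ → Closeds X) (S₁ S₂ : Set (Closeds X)) (h₁ : IsDecomp X Z S₁) (h₂ : IsDecomp X Z S₂) :
    S₁ ⊆ S₂ := by
  obtain ⟨hc₁, hi₁, ha₁, he₁⟩ := h₁
  obtain ⟨hc₂, hi₂, ha₂, he₂⟩ := h₂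
  have key : ∀ (Sa Sb : Set (Closeds X)), Sb.Countable → (∀ T ∈ Sa, IsIrreducible (T : Set X)) →
      {x : X | IsClosed ({x} : Set X) ∧ ∃ T ∈ Sa, x ∈ T} =
        {x : X | IsClosed ({x} : Set X) ∧ ∃ T ∈ Sb, x ∈ T} →
      ∀ T ∈ Sa, ∃ T' ∈ Sb, T ≤ T' := by
    intro Sa Sb hcb hia heq T hT
    have : Countable Sb := hcb.to_subtype
    obtain ⟨⟨T', hT'⟩, hsub⟩ := exists_subset_of_closedPoints_subset k X sX (T : Set X) (hia T hT)
      T.isClosed (I := Sb) (fun T' => (T'.1 : Set X)) (fun T' => T'.1.isClosed) (by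
        intro x hxT hxc
        have hx : x ∈ {x : X | IsClosed ({x} : Set X) ∧ ∃ T ∈ Sa, x ∈ T} := ⟨hxc, T, hT, hxT⟩
        rw [heq] at hx
        obtain ⟨-, T', hT', hxT'⟩ := hx
        exact ⟨⟨T', hT'⟩, hxT'⟩)
    exact ⟨T', hT', hsub⟩
  intro T hT
  obtain ⟨T', hT', hTT'⟩ := key S₁ S₂ hc₂ hi₁ (he₁.trans he₂.symm) T hT
  obtain ⟨T'', hT'', hT'T''⟩ := key S₂ S₁ hc₁ hi₂ (he₂.trans he₁.symm) T' hT'
  have heq : T = T'' := by
    by_contra hne
    exact ha₁ hT hT'' hne (hTT'.trans hT'T'')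
  have : T = T' := le_antisymm hTT' (heq ▸ hT'T'')
  rw [this]; exact hT'

theorem exists_decomp (X : Scheme.{u}) [IsNoetherian X] (Z : ℕ → Closeds X) :
    ∃ S, IsDecomp X Z S := by
  have hex : ∀ n, ∃ F : Set (Set X), F.Finite ∧ (∀ t ∈ F, IsClosed t) ∧
      (∀ t ∈ F, IsIrreducible t) ∧ ((Z n : Set X) = ⋃₀ F) := fun n =>
    NoetherianSpace.exists_finite_set_isClosed_irreducible (Z n).isClosed
  choose F hfin hclosed hirr hunion using hex
  let G : Set X := {g | ∃ n, ∃ t ∈ F n, IsGenericPoint g t}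
  have hGc : G.Countable := by
    have : G = ⋃ n, ⋃ t ∈ F n, {g | IsGenericPoint g t} := by
      ext g; simp [G]
    rw [this]
    refine Set.countable_iUnion fun n => Set.Countable.biUnion (hfin n).countable fun t _ => ?_
    refine Set.Subsingleton.countable ?_
    intro g hg g' hg'
    exact hg.eq hg'
  let Gmax : Set X := {g | g ∈ G ∧ ∀ g' ∈ G, g' ⤳ g → g' = g}
  let cl : X → Closeds X := fun g => ⟨closure {g}, isClosed_closure⟩
  refine ⟨cl '' Gmax, ?_, ?_, ?_, ?_⟩
  · exact (hGc.mono (fun g hg => hg.1)).image cl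
  · rintro _ ⟨g, -, rfl⟩
    exact isIrreducible_singleton.closure
  · rintro _ ⟨g₁, hg₁, rfl⟩ _ ⟨g₂, hg₂, rfl⟩ hne hle
    apply hne
    have h1 : g₁ ∈ closure ({g₂} : Set X) := hle (subset_closure (Set.mem_singleton g₁))
    have h2 : g₂ ⤳ g₁ := specializes_iff_mem_closure.2 h1
    rw [hg₁.2 g₂ hg₂.1 h2]
  · ext x
    constructor
    · rintro ⟨hx, _, ⟨g, hg, rfl⟩, hxg⟩
      refine ⟨hx, ?_⟩
      obtain ⟨n, t, ht, hgt⟩ := hg.1
      refine ⟨n, ?_⟩
      have h1 : x ∈ t := by
        rw [← hgt.def]; exact hxg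
      change x ∈ (Z n : Set X)
      rw [hunion n]
      exact ⟨t, ht, h1⟩
    · rintro ⟨hx, n, hxn⟩
      refine ⟨hx, ?_⟩
      have hxn' : x ∈ (Z n : Set X) := hxn
      rw [hunion n] at hxn'
      obtain ⟨t, ht, hxt⟩ := hxn'
      obtain ⟨g, hg⟩ := QuasiSober.sober (hirr n t ht) (hclosed n t ht)
      have hgG : g ∈ G := ⟨n, t, ht, hg⟩
      obtain ⟨g₀, hg₀G, hg₀max, hg₀g⟩ := Groth.Agent.S9793.result X G g hgG
      have hgx : g ⤳ x := by
        rw [specializes_iff_mem_closure, hg.def]; exact hxt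
      refine ⟨cl g₀, ⟨g₀, ⟨hg₀G, hg₀max⟩, rfl⟩, ?_⟩
      exact specializes_iff_mem_closure.1 (hg₀g.trans hgx)

theorem main (k : Type u) [Field k] [IsAlgClosed k]
    [Uncountable k] (X : Scheme.{u}) (sX : X ⟶ Spec (CommRingCat.of k)) [LocallyOfFiniteType sX]
    [QuasiCompact sX] (Z : ℕ → TopologicalSpace.Closeds X) :
    ∃! S : Set (TopologicalSpace.Closeds X), IsDecomp X Z S := by
  have : IsNoetherian X :=
    { __ := LocallyOfFiniteType.isLocallyNoetherian sX
      __ := QuasiCompact.compactSpace_of_compactSpace sX }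
  obtain ⟨S, hS⟩ := exists_decomp X Z
  exact ⟨S, hS, fun S' hS' => Set.Subset.antisymm (decomp_subset k X sX Z S' S hS' hS)
    (decomp_subset k X sX Z S S' hS hS')⟩

end Groth.Agent.S16917Aux

namespace Groth.Agent.S16917

/-- Let k be an uncountable algebraically closed field, X a k-scheme of finite type and Z₀, Z₁, …
countably many closed subsets of X. Then the countable union of the Zₙ, read through closed points,
has a unique irredundant decomposition: there is exactly one countable family S of irreducible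
closed subsets of X, pairwise not contained in one another, such that a closed point of X lies in
some member of S if and only if it lies in some Zₙ. (The published statement is the existence and
uniqueness of the irredundant decomposition of a countable union of algebraic varieties into
c-components, a variety being read through its closed points; with all points of the scheme the
uniqueness would not need the uncountable field.) -/
theorem result (k : Type u) [Field k] [IsAlgClosed k]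
    [Uncountable k] (X : Scheme.{u}) (sX : X ⟶ Spec (CommRingCat.of k)) [LocallyOfFiniteType sX]
    [QuasiCompact sX] (Z : ℕ → TopologicalSpace.Closeds X) :
    ∃! S : Set (TopologicalSpace.Closeds X), S.Countable ∧ (∀ T ∈ S, IsIrreducible (T : Set X)) ∧
      IsAntichain (· ≤ ·) S ∧
      {x : X | IsClosed ({x} : Set X) ∧ ∃ T ∈ S, x ∈ T} =
        {x : X | IsClosed ({x} : Set X) ∧ ∃ n, x ∈ Z n} := by
  exact Groth.Agent.S16917Aux.main k X sX Z

end Groth.Agent.S16917
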