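import Groth.Statements.S16919
import Mathlib.Tactic
import Mathlib.FieldTheory.IsAlgClosed.Classification
import Mathlib.RingTheory.AlgebraicIndependent.TranscendenceBasis
import Mathlib.FieldTheory.IsAlgClosed.AlgebraicClosure
import Mathlib.RingTheory.FiniteStability
import Mathlib.RingTheory.Algebraic.Basic

set_option autoImplicit false
universe u
open TensorProduct
open CAlg

namespace Groth.Agent.S16919

open Cardinal in
theorem exists_ringEquiv_of_trdeg_eq {R₀ L k : Type u} [CommRing R₀] [IsDomain R₀] [Field L] [Field k]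
    [Algebra R₀ L] [Algebra R₀ k] [FaithfulSMul R₀ L] [FaithfulSMul R₀ k] [IsAlgClosed L]
    [IsAlgClosed k] (h : Algebra.trdeg R₀ L = Algebra.trdeg R₀ k) :
    ∃ e : L ≃+* k, ∀ r : R₀, e (algebraMap R₀ L r) = algebraMap R₀ k r := by
  obtain ⟨ι, v, hv⟩ := exists_isTranscendenceBasis' R₀ L
  obtain ⟨κ, w, hw⟩ := exists_isTranscendenceBasis' R₀ k
  have hc : #ι = #κ := by rw [hv.cardinalMk_eq_trdeg, hw.cardinalMk_eq_trdeg, h]
  obtain ⟨e⟩ := Cardinal.eq.mp hc
  letI := IsAlgClosed.isAlgClosure_of_transcendence_basis v hv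
  letI := IsAlgClosed.isAlgClosure_of_transcendence_basis w hw
  let e' : Algebra.adjoin R₀ (Set.range v) ≃ₐ[R₀] Algebra.adjoin R₀ (Set.range w) :=
    hv.1.aevalEquiv.symm.trans ((MvPolynomial.renameEquiv R₀ e).trans hw.1.aevalEquiv)
  refine ⟨IsAlgClosure.equivOfEquiv L k e'.toRingEquiv, ?_⟩
  intro r
  have h1 : algebraMap R₀ L r =
      algebraMap (Algebra.adjoin R₀ (Set.range v)) L (algebraMap R₀ _ r) := rfl
  rw [h1, IsAlgClosure.equivOfEquiv_algebraMap]
  simp only [AlgEquiv.coe_ringEquiv, AlgEquiv.commutes]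
  rfl

open Cardinal in
theorem trdeg_eq_of_finite_bottom {k₀ R₀ E : Type u} [Field k₀] [CommRing R₀] [IsDomain R₀]
    [Field E] [Algebra k₀ R₀] [Algebra k₀ E] [Algebra R₀ E] [IsScalarTower k₀ R₀ E]
    [FaithfulSMul R₀ E] (hfin : Algebra.trdeg k₀ R₀ < ℵ₀) (hinf : ℵ₀ ≤ Algebra.trdeg k₀ E) :
    Algebra.trdeg R₀ E = Algebra.trdeg k₀ E := by
  have h := _root_.trdeg_add_eq k₀ R₀ (A := E)
  exact Cardinal.eq_of_add_eq_of_aleph0_le h (hfin.trans_le hinf) hinf

open Cardinal in
theorem trdeg_eq_of_finite_top {k₀ k E : Type u} [Field k₀] [Field k]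
    [Field E] [Algebra k₀ k] [Algebra k₀ E] [Algebra k E] [IsScalarTower k₀ k E]
    (hfin : Algebra.trdeg k E < ℵ₀) (hinf : ℵ₀ ≤ Algebra.trdeg k₀ k) :
    Algebra.trdeg k₀ E = Algebra.trdeg k₀ k := by
  have h := _root_.trdeg_add_eq k₀ k (A := E)
  rw [← h]
  exact Cardinal.add_eq_left hinf (hfin.le.trans hinf)


theorem abstract_main {k₀ k R₀ R L : Type u} [Field k₀] [Field k] [CommRing R₀] [CommRing R]
    [IsDomain R] [Field L] [IsAlgClosed L] [IsAlgClosed k]
    [Algebra k₀ k] [Algebra k₀ R₀] [Algebra k R] [Algebra R L]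
    [Algebra.FiniteType k₀ R₀] [Algebra.FiniteType k R] [Algebra.IsAlgebraic R L]
    (hRL : Function.Injective (algebraMap R L))
    (inc : R₀ →+* R) (ev : R →+* k)
    (hev : ∀ c : k, ev (algebraMap k R c) = c)
    (hinc : ∀ c : k₀, inc (algebraMap k₀ R₀ c) = algebraMap k R (algebraMap k₀ k c))
    (hinj : Function.Injective (ev.comp inc))
    (hinf : ∃ x : ℕ → k, AlgebraicIndependent k₀ x) :
    ∃ e : L ≃+* k, ∀ r : R₀, e (algebraMap R L (inc r)) = ev (inc r) := by
  classical
  let ι₁ : R₀ →+* L := (algebraMap R L).comp inc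
  let ι₂ : R₀ →+* k := ev.comp inc
  have hincinj : Function.Injective inc := fun a b h => hinj (by simp [h])
  have hι₁ : Function.Injective ι₁ := hRL.comp hincinj
  haveI : IsDomain R₀ := hinj.isDomain ι₂
  letI a1 : Algebra R₀ L := ι₁.toAlgebra
  letI a2 : Algebra R₀ k := ι₂.toAlgebra
  letI a3 : Algebra k L := ((algebraMap R L).comp (algebraMap k R)).toAlgebra
  letI a4 : Algebra k₀ L := ((algebraMap k L).comp (algebraMap k₀ k)).toAlgebra
  haveI : FaithfulSMul R₀ L := (faithfulSMul_iff_algebraMap_injective R₀ L).mpr hι₁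
  haveI : FaithfulSMul R₀ k := (faithfulSMul_iff_algebraMap_injective R₀ k).mpr hinj
  haveI : FaithfulSMul R L := (faithfulSMul_iff_algebraMap_injective R L).mpr hRL
  haveI : IsScalarTower k₀ k L := IsScalarTower.of_algebraMap_eq (fun c => rfl)
  haveI : IsScalarTower k R L := IsScalarTower.of_algebraMap_eq (fun c => rfl)
  haveI : IsScalarTower k₀ R₀ L := IsScalarTower.of_algebraMap_eq (fun c => by
    change algebraMap R L (algebraMap k R (algebraMap k₀ k c)) =
      algebraMap R L (inc (algebraMap k₀ R₀ c))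
    rw [hinc])
  haveI : IsScalarTower k₀ R₀ k := IsScalarTower.of_algebraMap_eq (fun c => by
    change algebraMap k₀ k c = ev (inc (algebraMap k₀ R₀ c))
    rw [hinc, hev])
  have hk_inf : Cardinal.aleph0 ≤ Algebra.trdeg k₀ k := by
    obtain ⟨x, hx⟩ := hinf
    have := hx.lift_cardinalMk_le_trdeg
    simpa using this
  have hR₀fin : Algebra.trdeg k₀ R₀ < Cardinal.aleph0 := trdeg_lt_aleph0_of_finiteType
  have hkL_fin : Algebra.trdeg k L < Cardinal.aleph0 := by
    have h1 : Algebra.trdeg k R < Cardinal.aleph0 := trdeg_lt_aleph0_of_finiteType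
    have h2 : Algebra.trdeg R L = 0 := _root_.trdeg_eq_zero
    have h3 := _root_.trdeg_add_eq k R (A := L)
    rw [h2, add_zero] at h3
    rw [← h3]; exact h1
  have e1 : Algebra.trdeg R₀ k = Algebra.trdeg k₀ k := trdeg_eq_of_finite_bottom hR₀fin hk_inf
  have e2 : Algebra.trdeg k₀ L = Algebra.trdeg k₀ k := trdeg_eq_of_finite_top hkL_fin hk_inf
  have e3 : Algebra.trdeg R₀ L = Algebra.trdeg k₀ L :=
    trdeg_eq_of_finite_bottom hR₀fin (e2 ▸ hk_inf)
  obtain ⟨e, he⟩ := exists_ringEquiv_of_trdeg_eq (R₀ := R₀) (L := L) (k := k)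
    (by rw [e3, e2, e1])
  exact ⟨e, fun r => he r⟩

/-- Let k₀ → k be an extension of fields with k algebraically closed and of infinite transcendence
degree over k₀, R₀ a finitely generated k₀-algebra whose base change R = k ⊗ R₀ is an integral
domain (so Spec R is an integral affine k-scheme of finite type with the model Spec R₀ over k₀), and
P a k-point of Spec R, i.e. a k-algebra homomorphism ev : R → k, lying over the generic point of
Spec R₀, i.e. with ev injective on R₀. Then there is a field isomorphism e from an algebraic closure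
of the fraction field of R (the function field of Spec R) onto k such that e(1 ⊗ r) = ev(1 ⊗ r) for
every r in R₀: e extends evaluation at P on R₀. (The published setting has k algebraically closed of
characteristic zero and of infinite transcendence degree over its prime field, and k₀ the subfield
generated by the coefficients of equations of Spec R, which is finitely generated over the prime
field, so that k has infinite transcendence degree over k₀; only this last property and no
characteristic assumption enter here. The isomorphism is not canonical.) -/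
theorem result (k₀ k : Type u)
    [Field k₀] [Field k] [Algebra k₀ k] [IsAlgClosed k] (hinf : ∃ x : ℕ → k, AlgebraicIndependent k₀ x)
    (R₀ : Type u) [CommRing R₀] [Algebra k₀ R₀] [Algebra.FiniteType k₀ R₀] [IsDomain (k ⊗[k₀] R₀)]
    (ev : k ⊗[k₀] R₀ →ₐ[k] k) (hP : Function.Injective fun r : R₀ => ev (1 ⊗ₜ[k₀] r)) :
    ∃ e : AlgebraicClosure (FractionRing (k ⊗[k₀] R₀)) ≃+* k,
      ∀ r : R₀, e (algebraMap (k ⊗[k₀] R₀) (AlgebraicClosure (FractionRing (k ⊗[k₀] R₀)))
        (1 ⊗ₜ[k₀] r)) = ev (1 ⊗ₜ[k₀] r) := by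
  classical
  have hRL : Function.Injective
      (algebraMap (k ⊗[k₀] R₀) (AlgebraicClosure (FractionRing (k ⊗[k₀] R₀)))) := by
    rw [IsScalarTower.algebraMap_eq (k ⊗[k₀] R₀) (FractionRing (k ⊗[k₀] R₀))
      (AlgebraicClosure (FractionRing (k ⊗[k₀] R₀)))]
    exact (algebraMap (FractionRing (k ⊗[k₀] R₀)) _).injective.comp
      (IsFractionRing.injective (k ⊗[k₀] R₀) (FractionRing (k ⊗[k₀] R₀)))
  haveI : Algebra.IsAlgebraic (k ⊗[k₀] R₀) (FractionRing (k ⊗[k₀] R₀)) :=
    IsLocalization.isAlgebraic _ (nonZeroDivisors (k ⊗[k₀] R₀))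
  haveI : Algebra.IsAlgebraic (k ⊗[k₀] R₀) (AlgebraicClosure (FractionRing (k ⊗[k₀] R₀))) :=
    Algebra.IsAlgebraic.trans (k ⊗[k₀] R₀) (FractionRing (k ⊗[k₀] R₀)) _
  obtain ⟨e, he⟩ := abstract_main (k₀ := k₀) (k := k) (R₀ := R₀) (R := k ⊗[k₀] R₀)
    (L := AlgebraicClosure (FractionRing (k ⊗[k₀] R₀))) hRL
    (Algebra.TensorProduct.includeRight : R₀ →ₐ[k₀] k ⊗[k₀] R₀).toRingHom ev.toRingHom
    (fun c => by simpa using ev.commutes c)
    (fun c => by
      simp only [AlgHom.toRingHom_eq_coe, RingHom.coe_coe, Algebra.TensorProduct.includeRight_apply,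
        Algebra.TensorProduct.algebraMap_apply]
      rw [Algebra.algebraMap_eq_smul_one, TensorProduct.tmul_smul,
        Algebra.algebraMap_eq_smul_one, TensorProduct.smul_tmul']
      simp [Algebra.smul_def])
    hP hinf
  exact ⟨e, fun r => he r⟩

end Groth.Agent.S16919
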