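import Groth.Statements.S1693
-- import your own Groth.Agent.* helpers here

set_option autoImplicit false
universe u
open CategoryTheory CategoryTheory.Limits AlgebraicGeometry TopologicalSpace
open SDiv

namespace Groth.Agent.S1693

/-- Let X be a locally Noetherian scheme and Z a closed subset. Then the irreducible components of Z
form a locally finite family of subsets of X. -/
theorem result (X : Scheme.{u}) [IsLocallyNoetherian X] (Z : Set ↥X) (hZ : IsClosed Z) :
    LocallyFinite (fun T : ↥(irreducibleComponents ↥Z) => ((↑) '' (T.1 : Set ↥Z) : Set ↥X)) := by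
  intro x
  obtain ⟨U, hU, hxU⟩ : ∃ U : X.Opens, IsAffineOpen U ∧ x ∈ U := by
    obtain ⟨_, ⟨U, hU, rfl⟩, hxU, -⟩ :=
      X.isBasis_affineOpens.exists_subset_of_mem_open (Set.mem_univ x) isOpen_univ
    exact ⟨U, hU, hxU⟩
  have : IsNoetherianRing Γ(X, U) := IsLocallyNoetherian.component_noetherian ⟨U, hU⟩
  have hUn : NoetherianSpace ↥(U : Set X) := noetherianSpace_of_isAffineOpen U hU
  refine ⟨U, U.2.mem_nhds hxU, ?_⟩
  let W : Set Z := {z | z.1 ∈ U}
  have hW : IsOpen W := U.2.preimage continuous_subtype_val
  have : NoetherianSpace W := by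
    let i : W → ↥(U : Set X) := fun w => ⟨w.1.1, w.2⟩
    have hi : Topology.IsInducing i := by
      refine Topology.IsInducing.of_comp (g := (Subtype.val : ↥(U : Set X) → X)) ?_ continuous_subtype_val ?_
      · exact Continuous.subtype_mk (continuous_subtype_val.comp continuous_subtype_val) _
      · exact (Topology.IsInducing.subtypeVal (t := Z)).comp (Topology.IsInducing.subtypeVal (t := W))
    exact hi.noetherianSpace
  have hfin : (irreducibleComponents W).Finite := NoetherianSpace.finite_irreducibleComponents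
  let f : W → Z := Subtype.val
  have hf : Topology.IsOpenEmbedding f := hW.isOpenEmbedding_subtypeVal
  have hne : ∀ T : ↥(irreducibleComponents ↥Z),
      (((↑) '' (T.1 : Set ↥Z) : Set ↥X) ∩ U).Nonempty → (f ⁻¹' T.1).Nonempty := by
    rintro T ⟨y, ⟨z, hz, rfl⟩, hyU⟩
    exact ⟨⟨z, hyU⟩, hz⟩
  refine Set.Finite.of_finite_image (f := fun T => f ⁻¹' T.1) (hfin.subset ?_) ?_
  · rintro _ ⟨T, hT, rfl⟩
    apply preimage_mem_irreducibleComponents T.2 hf
    obtain ⟨w, hw⟩ := hne T hT
    exact ⟨f w, hw, ⟨w, rfl⟩⟩
  · intro T hT T' hT' h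
    have h1 := closure_image_preimage_of_isPreirreducible f hf.isOpenMap T.1 (hne T hT)
      T.2.1.isPreirreducible (isClosed_of_mem_irreducibleComponents T.1 T.2)
    have h2 := closure_image_preimage_of_isPreirreducible f hf.isOpenMap T'.1 (hne T' hT')
      T'.2.1.isPreirreducible (isClosed_of_mem_irreducibleComponents T'.1 T'.2)
    apply Subtype.ext
    rw [← h1, ← h2]
    simp only at h
    rw [h]

end Groth.Agent.S1693
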