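import Groth.Statements.S1692
import Groth.Agent.S1693
-- import your own Groth.Agent.* helpers here

set_option autoImplicit false
universe u
open CategoryTheory CategoryTheory.Limits AlgebraicGeometry TopologicalSpace
open SDiv

namespace Groth.Agent.S1692

/-- Let X be a locally Noetherian integral scheme and f a nonzero rational function. Then the closures
of the codimension-one points at which f has nonzero order of vanishing form a locally finite family
of closed subsets of X. -/
theorem result (X : Scheme.{u}) [IsIntegral X] [IsLocallyNoetherian X] (f : ↑X.functionField) (hf : f ≠ 0) :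
    LocallyFinite (fun ξ : {ξ : ↥X // Order.coheight ξ = 1 ∧ Scheme.ord f ξ ≠ 0} => closure ({ξ.1} : Set ↥X)) := by
  obtain ⟨U₀, hU₀, f', hne, hff', hunit⟩ := exists_isUnit_germ_eq X f hf
  set C : Set X := (U₀ : Set X)ᶜ with hC
  have hCcl : IsClosed C := U₀.2.isClosed_compl
  have hmemC : ∀ ξ : {ξ : ↥X // Order.coheight ξ = 1 ∧ Scheme.ord f ξ ≠ 0}, ξ.1 ∈ C := by
    intro ξ hξ
    apply ξ.2.2
    have h0 := Scheme.ord_of_isUnit hunit hξ (x := ξ.1)
    rwa [hff'] at h0
  have hgen : genericPoint X ∉ C := by
    intro h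
    apply h
    exact ((genericPoint_spec X).mem_open_set_iff U₀.isOpen).mpr (by simpa using hne)
  have hqs : QuasiSober ↥C := hCcl.isClosedEmbedding_subtypeVal.quasiSober
  have hcomp : ∀ ξ : {ξ : ↥X // Order.coheight ξ = 1 ∧ Scheme.ord f ξ ≠ 0},
      closure ({⟨ξ.1, hmemC ξ⟩} : Set ↥C) ∈ irreducibleComponents ↥C := by
    intro ξ
    refine ⟨isIrreducible_singleton.closure, fun T hT hle => ?_⟩
    have hTc : IsIrreducible (closure T) := hT.closure
    set η' := hTc.genericPoint with hη'
    have hη'spec : IsGenericPoint η' (closure T) := hTc.isGenericPoint_genericPoint isClosed_closure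
    have h1 : η' ⤳ (⟨ξ.1, hmemC ξ⟩ : ↥C) := by
      rw [specializes_iff_mem_closure, hη'spec.def]
      exact subset_closure (hle (subset_closure rfl))
    by_cases h2 : ξ.1 ⤳ η'.1
    · have h2' : (⟨ξ.1, hmemC ξ⟩ : ↥C) ⤳ η' := (subtype_specializes_iff _ _).mpr h2
      have : closure ({η'} : Set ↥C) ⊆ closure {⟨ξ.1, hmemC ξ⟩} :=
        specializes_iff_closure_subset.mp h2'
      refine le_trans ?_ this
      rw [hη'spec.def]
      exact subset_closure
    · exfalso
      have h1' : η'.1 ⤳ ξ.1 := (subtype_specializes_iff _ _).mp h1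
      have hlt1 : ξ.1 < η'.1 := ⟨h1', h2⟩
      have hlt2 : η'.1 < genericPoint X := by
        refine ⟨(genericPoint_spec X).specializes trivial, fun h => hgen ?_⟩
        exact h.mem_closed hCcl η'.2
      have e1 := Order.coheight_add_one_le hlt1
      have e2 := Order.coheight_add_one_le hlt2
      rw [ξ.2.1] at e1
      have : (1 : ℕ∞) + 1 ≤ 1 := by
        calc (1 : ℕ∞) + 1 ≤ Order.coheight (genericPoint X) + 1 + 1 := by gcongr; exact le_add_self
          _ ≤ Order.coheight η'.1 + 1 := by gcongr
          _ ≤ 1 := e1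
      exact absurd this (by decide)
  have key := Groth.Agent.S1693.result X C hCcl
  let g : {ξ : ↥X // Order.coheight ξ = 1 ∧ Scheme.ord f ξ ≠ 0} → ↥(irreducibleComponents ↥C) :=
    fun ξ => ⟨closure ({⟨ξ.1, hmemC ξ⟩} : Set ↥C), hcomp ξ⟩
  have hginj : Function.Injective g := by
    intro ξ₁ ξ₂ h
    have h' : closure ({⟨ξ₁.1, hmemC ξ₁⟩} : Set ↥C) = closure {⟨ξ₂.1, hmemC ξ₂⟩} :=
      congrArg Subtype.val h
    have := (inseparable_iff_closure_eq.mpr h').eq
    apply Subtype.ext
    exact congrArg (Subtype.val : ↥C → X) this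
  refine (key.comp_injective hginj).subset fun ξ => ?_
  simp only [Function.comp, g]
  rw [← hCcl.isClosedEmbedding_subtypeVal.closure_image_eq, Set.image_singleton]

end Groth.Agent.S1692
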