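import Groth.Statements.S16920
import Groth.Agent.S15237

set_option autoImplicit false
open CategoryTheory AlgebraicGeometry
universe u
open Variety

namespace Groth.Agent.S16920

/-- Prepend a closed set to a sequence of closed sets. -/
def shift {T : Type*} [TopologicalSpace T] (W : TopologicalSpace.Closeds T)
    (Z : ℕ → TopologicalSpace.Closeds T) : ℕ → TopologicalSpace.Closeds T
  | 0 => W
  | n + 1 => Z n

/-- Let k be an uncountable algebraically closed field, V an irreducible k-scheme of finite type and Z₀,
Z₁, … closed subsets of V, each different from V. Then the set of closed points of V lying in no Zₙ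
is dense in V. (The published statement: a nonempty c-open subset of an irreducible quasi-projective
variety is Zariski dense, a variety being read through its closed points; nonemptiness of the c-open
subset amounts to every Zₙ being a proper subset, while quasi-projectivity and the standing
characteristic-zero assumption play no role and are dropped.) -/
theorem result (k : Type u) [Field k] [IsAlgClosed k]
    [Uncountable k] (V : Scheme.{u}) (sV : V ⟶ Spec (CommRingCat.of k)) [IrreducibleSpace V]
    [LocallyOfFiniteType sV] [QuasiCompact sV] (Z : ℕ → TopologicalSpace.Closeds V)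
    (hZ : ∀ n, (Z n : Set V) ≠ Set.univ) :
    Dense {x : V | IsClosed ({x} : Set V) ∧ ∀ n, x ∉ Z n} := by
  rw [dense_iff_inter_open]
  intro W hW hWne
  have hZ' : ∀ n, (shift ⟨Wᶜ, hW.isClosed_compl⟩ Z n : Set V) ≠ Set.univ := by
    intro n
    cases n with
    | zero =>
      intro h
      obtain ⟨w, hw⟩ := hWne
      have : w ∈ Wᶜ := by
        have h' : (Wᶜ : Set V) = Set.univ := h
        rw [h']; trivial
      exact this hw
    | succ m => exact hZ m
  obtain ⟨x, hx, hxZ⟩ := Groth.Agent.S15237.result k V sV (shift ⟨Wᶜ, hW.isClosed_compl⟩ Z) hZ'
  refine ⟨x, ?_, hx, fun n => hxZ (n + 1)⟩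
  have h0 := hxZ 0
  by_contra hxW
  exact h0 hxW

end Groth.Agent.S16920
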