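import Groth.Statements.S16959
import Groth.Agent.Lib.Helper26.AcycExt
import Groth.Agent.Lib.Helper26.QCohRpush
import Groth.Agent.Lib.Helper26.InjFlasque
import Groth.Agent.Lib.Helper53.Flasque
import Groth.Agent.S0007
import Groth.Agent.S16954
import Groth.Agent.Lib.Helper26.ExtZeroSch

set_option autoImplicit false
universe u
open CohCmp

namespace Groth.Agent.S16959

open AlgebraicGeometry CategoryTheory Scheme.Modules Opposite CategoryTheory.Limits Abelian
open Groth.Agent.Lib.Helper26

--MARK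
variable {X S : Scheme.{u}}

/-- `N` has no higher cohomology -/
def AcycM (N : S.Modules) : Prop :=
  AcycExt.Acyc (CohTop.const S (ULift.{u} ℤ)) (Coh.toAb N)

lemma acycM_iff (N : S.Modules) : AcycM N ↔ ∀ j : ℕ, Subsingleton (Coh.HH S N (j + 1)) := Iff.rfl

lemma AcycM.of_iso {N N' : S.Modules} (e : N ≅ N') (h : AcycM N) : AcycM N' :=
  AcycExt.Acyc.of_iso ((SheafOfModules.toSheaf S.ringCatSheaf).mapIso e) h

lemma acycM_of_isZero {N : S.Modules} (h : IsZero N) : AcycM N := by
  have := Groth.Agent.S11319.additive_toAbF S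
  exact AcycExt.acyc_of_isZero ((Groth.Agent.S11319.toAbF S).map_isZero h)

lemma acycM_of_isQCoh [IsAffine S] (N : S.Modules) (hN : N.IsQuasicoherent) : AcycM N :=
  fun j => @Groth.Agent.S0007.result S _ N hN (j + 1) (Nat.succ_pos j)

lemma acycM_of_isFlasque (N : S.Modules) (hN : TopCat.Sheaf.IsFlasque (Coh.toAb N)) : AcycM N :=
  fun j => Groth.Agent.Lib.Helper53.subsingleton_H_succ (Coh.toAb N) j

/-- Leray-degenerate modules: all higher direct images have no higher cohomology -/
def InC (f : X ⟶ S) [HasInjectiveResolutions X.Modules] (F : X.Modules) : Prop :=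
  ∀ p : ℕ, AcycM ((Coh.Rpush f p).obj F)

lemma inC_of_isQCoh (f : X ⟶ S) [QuasiCompact f] [QuasiSeparated f] [IsAffine S]
    [HasInjectiveResolutions X.Modules] (F : X.Modules) (hF : F.IsQuasicoherent) : InC f F :=
  fun p => acycM_of_isQCoh _
    (Groth.Agent.Lib.Helper26.QCohRpush.isQuasicoherent_rightDerived_pushforward f F hF p)

lemma inC_of_injective (f : X ⟶ S) [HasInjectiveResolutions X.Modules] (I : X.Modules)
    (hI : Injective I) : InC f I := by
  have := Groth.Agent.S16954.preservesFiniteLimits_pushforward f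
  intro p
  cases p with
  | zero =>
    refine AcycM.of_iso ((pushforward f).rightDerivedZeroIsoSelf.app I).symm ?_
    apply acycM_of_isFlasque
    have h1 : TopCat.Sheaf.IsFlasque (Coh.toAb I) :=
      @InjFlasque.isFlasque_of_injective _ X.ringCatSheaf I hI
    exact (inferInstance : TopCat.Sheaf.IsFlasque ((TopCat.Sheaf.pushforward _ f.base).obj (Coh.toAb I)))
  | succ p =>
    exact acycM_of_isZero (Functor.isZero_rightDerived_obj_injective_succ (pushforward f) p I)


/-! ### sections over `⊤` and `Ext⁰` -/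

lemma app_equiv₀ {M N : S.Modules} (φ : M ⟶ N) (x : Coh.HH S M 0) :
    φ.app ⊤ (Sheaf.H.equiv₀ (Coh.toAb M) isTerminalTop x) =
      Sheaf.H.equiv₀ (Coh.toAb N) isTerminalTop
        (x.comp (Ext.mk₀ ((SheafOfModules.toSheaf S.ringCatSheaf).map φ)) (add_zero 0)) :=
  Sheaf.H.equiv₀_naturality (hT := isTerminalTop)
    ((SheafOfModules.toSheaf S.ringCatSheaf).map φ) x

section fourM

variable {A B C' D : S.Modules} (a : A ⟶ B) (b : B ⟶ C') (c : C' ⟶ D) [Mono a] [Epi c]
  (wab : a ≫ b = 0) (wbc : b ≫ c = 0)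
  (hab : (ShortComplex.mk a b wab).Exact) (hbc : (ShortComplex.mk b c wbc).Exact)

include hab hbc in
lemma fourM_acyc (hA : AcycM A) (hB : AcycM B) (hD : AcycM D) : AcycM C' := by
  have := Groth.Agent.S11319.additive_toAbF S
  have := Groth.Agent.S11319.preservesFiniteLimits_toAbF S
  have := Groth.Agent.S11319.preservesFiniteColimits_toAbF S
  have : Mono ((Groth.Agent.S11319.toAbF S).map a) := inferInstance
  have : Epi ((Groth.Agent.S11319.toAbF S).map c) := inferInstance
  exact AcycExt.four_term_acyc ((Groth.Agent.S11319.toAbF S).map a)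
    ((Groth.Agent.S11319.toAbF S).map b) ((Groth.Agent.S11319.toAbF S).map c)
    (by rw [← Functor.map_comp, wab, Functor.map_zero])
    (by rw [← Functor.map_comp, wbc, Functor.map_zero])
    (hab.map (Groth.Agent.S11319.toAbF S)) (hbc.map (Groth.Agent.S11319.toAbF S)) hA hB hD

include hab hbc in
lemma fourM_surj (hA2 : Subsingleton (Coh.HH S A 2)) (hB1 : Subsingleton (Coh.HH S B 1))
    (d : D.presheaf.obj (op ⊤)) : ∃ t : C'.presheaf.obj (op ⊤), c.app ⊤ t = d := by
  have := Groth.Agent.S11319.additive_toAbF S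
  have := Groth.Agent.S11319.preservesFiniteLimits_toAbF S
  have := Groth.Agent.S11319.preservesFiniteColimits_toAbF S
  have : Mono ((Groth.Agent.S11319.toAbF S).map a) := inferInstance
  have : Epi ((Groth.Agent.S11319.toAbF S).map c) := inferInstance
  obtain ⟨t', ht'⟩ := AcycExt.four_term_surj ((Groth.Agent.S11319.toAbF S).map a)
    ((Groth.Agent.S11319.toAbF S).map b) ((Groth.Agent.S11319.toAbF S).map c)
    (by rw [← Functor.map_comp, wab, Functor.map_zero])
    (by rw [← Functor.map_comp, wbc, Functor.map_zero])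
    (hab.map (Groth.Agent.S11319.toAbF S)) (hbc.map (Groth.Agent.S11319.toAbF S)) hA2 hB1
    ((Sheaf.H.equiv₀ (Coh.toAb D) isTerminalTop).symm d)
  refine ⟨Sheaf.H.equiv₀ (Coh.toAb C') isTerminalTop t', ?_⟩
  rw [app_equiv₀]
  erw [ht']
  exact AddEquiv.apply_symm_apply _ _

include hab hbc in
lemma fourM_exact (hA1 : Subsingleton (Coh.HH S A 1)) (t : C'.presheaf.obj (op ⊤))
    (ht : c.app ⊤ t = 0) : ∃ s : B.presheaf.obj (op ⊤), b.app ⊤ s = t := by
  have := Groth.Agent.S11319.additive_toAbF S
  have := Groth.Agent.S11319.preservesFiniteLimits_toAbF S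
  have := Groth.Agent.S11319.preservesFiniteColimits_toAbF S
  have : Mono ((Groth.Agent.S11319.toAbF S).map a) := inferInstance
  have : Epi ((Groth.Agent.S11319.toAbF S).map c) := inferInstance
  have ht' : ((Sheaf.H.equiv₀ (Coh.toAb C') isTerminalTop).symm t).comp
      (Ext.mk₀ ((Groth.Agent.S11319.toAbF S).map c)) (add_zero 0) = 0 := by
    apply (Sheaf.H.equiv₀ (Coh.toAb D) isTerminalTop).injective
    rw [map_zero]
    refine (app_equiv₀ c _).symm.trans ?_
    rw [AddEquiv.apply_symm_apply]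
    exact ht
  obtain ⟨s', hs'⟩ := AcycExt.four_term_exact ((Groth.Agent.S11319.toAbF S).map a)
    ((Groth.Agent.S11319.toAbF S).map b) ((Groth.Agent.S11319.toAbF S).map c)
    (by rw [← Functor.map_comp, wab, Functor.map_zero])
    (by rw [← Functor.map_comp, wbc, Functor.map_zero])
    (hab.map (Groth.Agent.S11319.toAbF S)) (hbc.map (Groth.Agent.S11319.toAbF S)) hA1
    ((Sheaf.H.equiv₀ (Coh.toAb C') isTerminalTop).symm t) ht'
  refine ⟨Sheaf.H.equiv₀ (Coh.toAb B) isTerminalTop s', ?_⟩
  rw [app_equiv₀]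
  erw [hs']
  exact AddEquiv.apply_symm_apply _ _

end fourM


/-! ### the bottom row -/

section bottom

variable (f : X ⟶ S) [HasInjectiveResolutions X.Modules] [EnoughInjectives X.Modules]
  (Δ : RDer.DerivedLES (pushforward f)) (F : X.Modules)

lemma isZero_Rpush_injSeq_X₂ (q : ℕ) :
    IsZero ((Coh.Rpush f (q + 1)).obj (DegComposite.injSeq F).X₂) :=
  Functor.isZero_rightDerived_obj_injective_succ (pushforward f) q _

lemma epi_δ (q : ℕ) :
    Epi (Δ.δ (DegComposite.injSeq F) (DegComposite.injSeq_shortExact F) q (q + 1) rfl) :=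
  (Δ.exact₁ (DegComposite.injSeq F) (DegComposite.injSeq_shortExact F) q (q + 1) rfl).epi_f
    ((isZero_Rpush_injSeq_X₂ f F q).eq_of_tgt _ _)

lemma mono_δ (q : ℕ) :
    Mono (Δ.δ (DegComposite.injSeq F) (DegComposite.injSeq_shortExact F) (q + 1) (q + 2) rfl) :=
  (Δ.exact₃ (DegComposite.injSeq F) (DegComposite.injSeq_shortExact F) (q + 1) (q + 2) rfl).mono_g
    ((isZero_Rpush_injSeq_X₂ f F q).eq_of_src _ _)

lemma isIso_δ (q : ℕ) :
    IsIso (Δ.δ (DegComposite.injSeq F) (DegComposite.injSeq_shortExact F) (q + 1) (q + 2) rfl) := by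
  have := mono_δ f Δ F q
  have := epi_δ f Δ F (q + 1)
  exact isIso_of_mono_of_epi _

lemma mono_R0 : Mono ((Coh.Rpush f 0).map (DegComposite.injSeq F).f) :=
  Groth.Agent.Lib.Helper68.RightDerivedLES.mono_map_f_zero (pushforward f)
    (DegComposite.injSeq_shortExact F)

include Δ in
lemma inC_X₃ (hF : InC f F) : InC f (DegComposite.injSeq F).X₃ := by
  intro p
  cases p with
  | zero =>
    have := mono_R0 f F
    have := epi_δ f Δ F 0
    exact fourM_acyc ((Coh.Rpush f 0).map (DegComposite.injSeq F).f)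
      ((Coh.Rpush f 0).map (DegComposite.injSeq F).g)
      (Δ.δ (DegComposite.injSeq F) (DegComposite.injSeq_shortExact F) 0 1 rfl)
      (by rw [← Functor.map_comp, (DegComposite.injSeq F).zero, Functor.map_zero])
      (Δ.comp_δ _ _ 0 1 rfl)
      (Δ.exact₂ (DegComposite.injSeq F) (DegComposite.injSeq_shortExact F) 0)
      (Δ.exact₃ (DegComposite.injSeq F) (DegComposite.injSeq_shortExact F) 0 1 rfl)
      (hF 0) (inC_of_injective f _ inferInstance 0) (hF 1)
  | succ p =>
    have := isIso_δ f Δ F p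
    exact AcycM.of_iso (asIso (Δ.δ (DegComposite.injSeq F)
      (DegComposite.injSeq_shortExact F) (p + 1) (p + 2) rfl)).symm (hF (p + 2))

lemma app_bijective_of_isIso {M N : S.Modules} (φ : M ⟶ N) [IsIso φ] (V : S.Opens) :
    Function.Bijective (φ.app V) := by
  have h1 : ∀ x, (inv φ).app V (φ.app V x) = x := fun x => by
    change ((φ ≫ inv φ).app V) x = x
    rw [IsIso.hom_inv_id]
    rfl
  have h2 : ∀ x, φ.app V ((inv φ).app V x) = x := fun x => by
    change ((inv φ ≫ φ).app V) x = x
    rw [IsIso.inv_hom_id]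
    rfl
  exact ⟨fun x y h => by rw [← h1 x, ← h1 y, h], fun y => ⟨_, h2 y⟩⟩

lemma bottom_surj (hF : InC f F) (q : ℕ) (t : ((Coh.Rpush f (q + 1)).obj F).presheaf.obj (op ⊤)) :
    ∃ t' : ((Coh.Rpush f q).obj (DegComposite.injSeq F).X₃).presheaf.obj (op ⊤),
      (Δ.δ (DegComposite.injSeq F) (DegComposite.injSeq_shortExact F) q (q + 1) rfl).app ⊤ t' = t := by
  cases q with
  | zero =>
    have := mono_R0 f F
    have := epi_δ f Δ F 0
    exact fourM_surj ((Coh.Rpush f 0).map (DegComposite.injSeq F).f)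
      ((Coh.Rpush f 0).map (DegComposite.injSeq F).g)
      (Δ.δ (DegComposite.injSeq F) (DegComposite.injSeq_shortExact F) 0 1 rfl)
      (by rw [← Functor.map_comp, (DegComposite.injSeq F).zero, Functor.map_zero])
      (Δ.comp_δ _ _ 0 1 rfl)
      (Δ.exact₂ (DegComposite.injSeq F) (DegComposite.injSeq_shortExact F) 0)
      (Δ.exact₃ (DegComposite.injSeq F) (DegComposite.injSeq_shortExact F) 0 1 rfl)
      (hF 0 1) (inC_of_injective f _ inferInstance 0 0) t
  | succ q =>
    have := isIso_δ f Δ F q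
    exact (app_bijective_of_isIso (Δ.δ (DegComposite.injSeq F)
      (DegComposite.injSeq_shortExact F) (q + 1) (q + 2) rfl) ⊤).2 t

lemma bottom_exact (hF : InC f F) (q : ℕ)
    (t' : ((Coh.Rpush f q).obj (DegComposite.injSeq F).X₃).presheaf.obj (op ⊤))
    (ht' : (Δ.δ (DegComposite.injSeq F) (DegComposite.injSeq_shortExact F) q (q + 1) rfl).app ⊤ t' = 0) :
    ∃ s : ((Coh.Rpush f q).obj (DegComposite.injSeq F).X₂).presheaf.obj (op ⊤),
      ((Coh.Rpush f q).map (DegComposite.injSeq F).g).app ⊤ s = t' := by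
  cases q with
  | zero =>
    have := mono_R0 f F
    have := epi_δ f Δ F 0
    exact fourM_exact ((Coh.Rpush f 0).map (DegComposite.injSeq F).f)
      ((Coh.Rpush f 0).map (DegComposite.injSeq F).g)
      (Δ.δ (DegComposite.injSeq F) (DegComposite.injSeq_shortExact F) 0 1 rfl)
      (by rw [← Functor.map_comp, (DegComposite.injSeq F).zero, Functor.map_zero])
      (Δ.comp_δ _ _ 0 1 rfl)
      (Δ.exact₂ (DegComposite.injSeq F) (DegComposite.injSeq_shortExact F) 0)
      (Δ.exact₃ (DegComposite.injSeq F) (DegComposite.injSeq_shortExact F) 0 1 rfl)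
      (hF 0 0) t' ht'
  | succ q =>
    have := isIso_δ f Δ F q
    refine ⟨0, ?_⟩
    rw [map_zero]
    apply (app_bijective_of_isIso (Δ.δ (DegComposite.injSeq F)
      (DegComposite.injSeq_shortExact F) (q + 1) (q + 2) rfl) ⊤).1
    rw [ht', map_zero]

end bottom

/-! ### the top row -/

lemma top_surj [EnoughInjectives X.Modules] (F : X.Modules) (U : X.Opens) (q : ℕ)
    (x : Coh.HHon X F U (q + 1)) :
    ∃ x' : Coh.HHon X (DegComposite.injSeq F).X₃ U q,
      CohCmp.extδ (Groth.Agent.S16954.toAbOn_map_shortExact X U (DegComposite.injSeq F)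
        (DegComposite.injSeq_shortExact F)) q x' = x := by
  have hA := Groth.Agent.S16954.toAbOn_map_shortExact X U (DegComposite.injSeq F)
    (DegComposite.injSeq_shortExact F)
  have hinj : Injective ((Scheme.Modules.restrictFunctor U.ι).obj (DegComposite.injSeq F).X₂) :=
    ExtZeroSch.injective_restrict U _
  have hfl : TopCat.Sheaf.IsFlasque
      (Coh.toAb ((Scheme.Modules.restrictFunctor U.ι).obj (DegComposite.injSeq F).X₂)) :=
    @InjFlasque.isFlasque_of_injective _ (U : Scheme.{u}).ringCatSheaf _ hinj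
  have hsub := Groth.Agent.Lib.Helper53.subsingleton_H_succ
    (Coh.toAb ((Scheme.Modules.restrictFunctor U.ι).obj (DegComposite.injSeq F).X₂)) q
  exact Ext.covariant_sequence_exact₁ _ hA x (hsub.elim _ _) rfl


/-! ### the induction -/

theorem main (f : X ⟶ S) [HasInjectiveResolutions X.Modules] [EnoughInjectives X.Modules]
    {Δ : RDer.DerivedLES (pushforward f)} (E : CohCmp.SectCmp f Δ) (q : ℕ) :
    ∀ F : X.Modules, InC f F → Function.Bijective (E.ε ⊤ F q) := by
  induction q with
  | zero =>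
    intro F _
    have := Groth.Agent.S16954.preservesFiniteLimits_pushforward f
    have hiso : IsIso ((pushforward f).toRightDerivedZero.app F) := inferInstance
    have hb := app_bijective_of_isIso ((pushforward f).toRightDerivedZero.app F) ⊤
    have hz : ∀ s, E.ε ⊤ F 0 (CohPull.sectH0 F (f ⁻¹ᵁ ⊤) s) =
        ((pushforward f).toRightDerivedZero.app F).app ⊤ s := E.zero ⊤ F
    constructor
    · intro x y hxy
      obtain ⟨s, rfl⟩ := (CohPull.sectH0 F (f ⁻¹ᵁ ⊤)).surjective x
      obtain ⟨s', rfl⟩ := (CohPull.sectH0 F (f ⁻¹ᵁ ⊤)).surjective y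
      rw [hz, hz] at hxy
      rw [hb.1 hxy]
    · intro t
      obtain ⟨s, hs⟩ := hb.2 t
      exact ⟨CohPull.sectH0 F _ s, (hz s).trans hs⟩
  | succ q ih =>
    intro F hF
    have hS := DegComposite.injSeq_shortExact F
    have hA := Groth.Agent.S16954.toAbOn_map_shortExact X (f ⁻¹ᵁ ⊤) (DegComposite.injSeq F) hS
    have hQ : InC f (DegComposite.injSeq F).X₃ := inC_X₃ f Δ F hF
    have hI : InC f (DegComposite.injSeq F).X₂ := inC_of_injective f _ inferInstance
    constructor
    · rw [injective_iff_map_eq_zero]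
      intro x hx
      obtain ⟨x', rfl⟩ := top_surj F (f ⁻¹ᵁ ⊤) q x
      have h1 : E.ε ⊤ F (q + 1) (CohCmp.extδ hA q x') =
          (Δ.δ (DegComposite.injSeq F) hS q (q + 1) rfl).app ⊤
            (E.ε ⊤ (DegComposite.injSeq F).X₃ q x') := E.delta ⊤ (DegComposite.injSeq F) hS hA q x'
      obtain ⟨s, hs⟩ := bottom_exact f Δ F hF q _ (h1.symm.trans hx)
      obtain ⟨z, rfl⟩ := (ih (DegComposite.injSeq F).X₂ hI).2 s
      have h2 := E.natural ⊤ (DegComposite.injSeq F).g q z
      rw [hs] at h2
      have h3 := (ih (DegComposite.injSeq F).X₃ hQ).1 h2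
      rw [← h3]
      change (z.comp (Ext.mk₀ _) (add_zero q)).comp hA.extClass (rfl : q + 1 = q + 1) = 0
      rw [Ext.comp_assoc_of_second_deg_zero]
      erw [hA.comp_extClass]
      erw [Ext.comp_zero]
    · intro t
      obtain ⟨t', ht'⟩ := bottom_surj f Δ F hF q t
      obtain ⟨x', hx'⟩ := (ih (DegComposite.injSeq F).X₃ hQ).2 t'
      refine ⟨CohCmp.extδ hA q x', ?_⟩
      have h1 : E.ε ⊤ F (q + 1) (CohCmp.extδ hA q x') =
          (Δ.δ (DegComposite.injSeq F) hS q (q + 1) rfl).app ⊤
            (E.ε ⊤ (DegComposite.injSeq F).X₃ q x') := E.delta ⊤ (DegComposite.injSeq F) hS hA q x'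
      rw [h1, hx', ht']



open AlgebraicGeometry CategoryTheory Scheme.Modules in
/-- The comparison map over an affine base is bijective: let f : X → S be a quasi-compact and
quasi-separated morphism of schemes with S affine, F a quasi-coherent O_X-module and q a natural
number; R^q f_* F is the q-th right derived functor of direct image on O-modules and ε_V : H^q(f⁻¹V,
F|_{f⁻¹V}) → Γ(V, R^q f_* F) the pinned comparison maps (the structure SectCmp, taken as a
hypothesis). Then ε over V = S, from the cohomology of F restricted to the open f⁻¹S = X to the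
global sections of R^q f_* F, is bijective. -/
theorem result
    {X S : Scheme.{u}} (f : X ⟶ S) [QuasiCompact f] [QuasiSeparated f] [IsAffine S]
    [HasInjectiveResolutions X.Modules]
    {Δ : RDer.DerivedLES (pushforward f)} (E : CohCmp.SectCmp f Δ) (F : X.Modules) [Coh.IsQCoh F] (q : ℕ) :
    Function.Bijective (E.ε ⊤ F q) := by
  have := Groth.Agent.S11319.enoughInjectives_modules X
  exact main f E q F (inC_of_isQCoh f F ‹_›)

end Groth.Agent.S16959
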