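import Groth.Statements.S16955
import Groth.Agent.S16959

set_option autoImplicit false
universe u
open CohCmp

namespace Groth.Agent.S16955

open AlgebraicGeometry CategoryTheory Scheme.Modules Opposite CategoryTheory.Limits Abelian
open Groth.Agent.Lib.Helper26 TopologicalSpace

--MARK
section abstract

universe w w' v₁ v₂ u₁ u₂

variable {C : Type u₁} [Category.{v₁} C] [Abelian C] {D : Type u₂} [Category.{v₂} D] [Abelian D]
  [HasExt.{w} C] [HasExt.{w'} D]
  (G : C ⥤ D) [G.Additive] [PreservesFiniteLimits G] [PreservesFiniteColimits G]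

lemma abstract_extδ {X₃ X₁ : C} (e : Ext X₃ X₁ 1) {Y₃ Y₁ : D} (e' : Ext Y₃ Y₁ 1)
    (t₁ : G.obj X₁ ⟶ Y₁) (t₃ : G.obj X₃ ⟶ Y₃)
    (hn : (e.mapExactFunctor G).comp (Ext.mk₀ t₁) (add_zero 1) =
      (Ext.mk₀ t₃).comp e' (zero_add 1))
    {Z : C} {Z' : D} (o : Z' ⟶ G.obj Z) (p : ℕ) (x : Ext Z X₃ p) :
    ((Ext.mk₀ o).comp ((x.comp e rfl).mapExactFunctor G) (zero_add (p + 1))).comp
        (Ext.mk₀ t₁) (add_zero (p + 1)) =
      (((Ext.mk₀ o).comp (x.mapExactFunctor G) (zero_add p)).comp (Ext.mk₀ t₃)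
        (add_zero p)).comp e' rfl := by
  rw [Ext.mapExactFunctor_comp]
  rw [Ext.comp_assoc_of_third_deg_zero, Ext.comp_assoc_of_third_deg_zero, hn]
  rw [Ext.comp_assoc_of_second_deg_zero]
  rw [Ext.comp_assoc (Ext.mk₀ o) (x.mapExactFunctor G) _ (zero_add p) rfl (by omega)]

lemma abstract_hn {S : ShortComplex C} (hS : S.ShortExact) {S' : ShortComplex D}
    (hS' : S'.ShortExact) (φ : S.map G ⟶ S') :
    (hS.extClass.mapExactFunctor G).comp (Y := G.obj S.X₁) (Z := S'.X₁) (Ext.mk₀ φ.τ₁) (add_zero 1) =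
      (Ext.mk₀ (X := G.obj S.X₃) (Y := S'.X₃) φ.τ₃).comp hS'.extClass (zero_add 1) :=
  (congrArg (fun z : Ext (G.obj S.X₃) (G.obj S.X₁) 1 =>
      z.comp (Y := G.obj S.X₁) (Z := S'.X₁) (Ext.mk₀ φ.τ₁) (add_zero 1))
    (Ext.mapExactFunctor_extClass G hS)).trans
    (ShortComplex.ShortExact.extClass_naturality (hS.map_of_exact G) hS' φ)

end abstract

variable {A B : Scheme.{u}}

local instance instAdditiveToAbF (X : Scheme.{u}) : (Groth.Agent.S11319.toAbF X).Additive :=
  Groth.Agent.S11319.additive_toAbF X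

/-- naturality of `theta` -/
lemma theta_naturality (r : A ⟶ B) {M N : B.Modules} (ψ : M ⟶ N) :
    (CohPull.inv r.base).map ((Groth.Agent.S11319.toAbF B).map ψ) ≫ CohPull.theta r N =
      CohPull.theta r M ≫
        (Groth.Agent.S11319.toAbF A).map ((Scheme.Modules.pullback r).map ψ) := by
  unfold CohPull.theta
  rw [← Adjunction.homEquiv_naturality_left_symm, ← Adjunction.homEquiv_naturality_right_symm]
  congr 1
  have h : ψ ≫ (Scheme.Modules.pullbackPushforwardAdjunction r).unit.app N =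
      (Scheme.Modules.pullbackPushforwardAdjunction r).unit.app M ≫
        (pushforward r).map ((Scheme.Modules.pullback r).map ψ) :=
    (Scheme.Modules.pullbackPushforwardAdjunction r).unit.naturality ψ
  exact ((SheafOfModules.toSheaf B.ringCatSheaf).map_comp _ _).symm.trans
    ((congrArg (SheafOfModules.toSheaf B.ringCatSheaf).map h).trans
      ((SheafOfModules.toSheaf B.ringCatSheaf).map_comp _ _))

/-- the morphism of short complexes given by `theta` -/
noncomputable def thetaSC (r : A ⟶ B) (T : ShortComplex B.Modules) :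
    (T.map (Groth.Agent.S11319.toAbF B)).map (CohPull.inv r.base) ⟶
      (T.map (Scheme.Modules.pullback r)).map (Groth.Agent.S11319.toAbF A) where
  τ₁ := CohPull.theta r T.X₁
  τ₂ := CohPull.theta r T.X₂
  τ₃ := CohPull.theta r T.X₃
  comm₁₂ := (theta_naturality r T.f).symm
  comm₂₃ := (theta_naturality r T.g).symm

/-- `pullMod` commutes with connecting homomorphisms -/
lemma pullMod_extδ (r : A ⟶ B) (T : ShortComplex B.Modules)
    (hA : (T.map (Groth.Agent.S11319.toAbF B)).ShortExact)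
    (hA' : ((T.map (Scheme.Modules.pullback r)).map (Groth.Agent.S11319.toAbF A)).ShortExact)
    (p : ℕ) (x : Coh.HH B T.X₃ p) :
    CohPull.pullMod r T.X₁ (p + 1) (x.comp hA.extClass rfl) =
      (CohPull.pullMod r T.X₃ p x).comp hA'.extClass rfl :=
  abstract_extδ (CohPull.inv r.base) hA.extClass hA'.extClass (CohPull.theta r T.X₁)
    (CohPull.theta r T.X₃) (abstract_hn (CohPull.inv r.base) hA hA' (thetaSC r T))
    (CohPull.oneTo r.base) p x

open Groth.Agent.Lib.Helper53 in
/-- local lifts along an exact sequence of abelian sheaves -/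
lemma exists_local_lift_of_exact_ab {Y : TopCat.{u}} (S : ShortComplex (CohTop.Ab Y)) (hS : S.Exact)
    (V : Opens Y) (τ : S.X₂.obj.obj (op V)) (hτ : S.g.hom.app (op V) τ = 0) (y : Y) (hy : y ∈ V) :
    ∃ (W : Opens Y) (hWV : W ≤ V), y ∈ W ∧ ∃ σ : S.X₁.obj.obj (op W),
      S.f.hom.app (op W) σ = S.X₂.obj.map (homOfLE hWV).op τ := by
  have hx₂ : (freeSheafHomEquiv V S.X₂).symm τ ≫ S.g = 0 := by
    apply (freeSheafHomEquiv V S.X₃).injective
    rw [freeSheafHomEquiv_naturality_right, Equiv.apply_symm_apply, hτ, freeSheafHomEquiv_zero]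
  obtain ⟨A', π, hπ, x₁, fac⟩ := hS.exact_up_to_refinements _ hx₂
  have hls : Sheaf.IsLocallySurjective π := (Sheaf.isLocallySurjective_iff_epi' _ _).mpr hπ
  obtain ⟨W, hWV, ⟨a, ha⟩, hyW⟩ := (TopCat.Presheaf.isLocallySurjective_iff _).1 hls V
    (freeSheafHomEquiv V (freeSheaf V) (𝟙 _)) y hy
  refine ⟨W, hWV, hyW, x₁.hom.app (op W) a, ?_⟩
  have h1 : S.f.hom.app (op W) (x₁.hom.app (op W) a) = (x₁ ≫ S.f).hom.app (op W) a := rfl
  rw [h1, ← fac]
  have h2 : (π ≫ (freeSheafHomEquiv V S.X₂).symm τ).hom.app (op W) a =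
      ((freeSheafHomEquiv V S.X₂).symm τ).hom.app (op W) (π.hom.app (op W) a) := rfl
  rw [h2]
  erw [ha]
  have h3 := congr_arg (fun k => k (freeSheafHomEquiv V (freeSheaf V) (𝟙 _)))
    (congrArg (fun k => k.hom) (((freeSheafHomEquiv V S.X₂).symm τ).hom.naturality (homOfLE hWV).op))
  refine h3.trans ?_
  have h4 := freeSheafHomEquiv_naturality_right V ((freeSheafHomEquiv V S.X₂).symm τ) (𝟙 _)
  rw [Category.id_comp, Equiv.apply_symm_apply] at h4
  change S.X₂.obj.map (homOfLE hWV).op (((freeSheafHomEquiv V S.X₂).symm τ).hom.app (op V) _) = _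
  rw [← h4]

lemma presheaf_map_self {A : Scheme.{u}} (N : A.Modules) {P : A.Opens} (k : op P ⟶ op P)
    (z : N.presheaf.obj (op P)) : N.presheaf.map k z = z := by
  have : k = 𝟙 _ := Subsingleton.elim _ _
  rw [this, CategoryTheory.Functor.map_id]
  rfl

/-- a lift of a section over a big open gives a lift of the unit of the pullback adjunction -/
lemma unit_lift {A B : Scheme.{u}} (r : A ⟶ B) {MI MQ : B.Modules} (γ : MI ⟶ MQ)
    (a : MQ.presheaf.obj (op ⊤)) (V₁ : B.Opens) (hV₁ : r ⁻¹ᵁ V₁ = ⊤)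
    (t₁ : MI.presheaf.obj (op V₁))
    (ht₁ : γ.app V₁ t₁ = MQ.presheaf.map (homOfLE le_top).op a) :
    ∃ c₀ : ((Scheme.Modules.pullback r).obj MI).presheaf.obj (op ⊤),
      ((Scheme.Modules.pullback r).map γ).app ⊤ c₀ =
        ((pullbackPushforwardAdjunction r).unit.app MQ).app ⊤ a := by
  have hle : (⊤ : A.Opens) ≤ r ⁻¹ᵁ V₁ := hV₁.ge
  refine ⟨((Scheme.Modules.pullback r).obj MI).presheaf.map (homOfLE hle).op
    (((pullbackPushforwardAdjunction r).unit.app MI).app V₁ t₁), ?_⟩
  rw [Groth.Agent.S16954.app_map]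
  have h1 : ((Scheme.Modules.pullback r).map γ).app (r ⁻¹ᵁ V₁)
      (((pullbackPushforwardAdjunction r).unit.app MI).app V₁ t₁) =
      ((pullbackPushforwardAdjunction r).unit.app MQ).app V₁ (γ.app V₁ t₁) := by
    have hn : γ ≫ (pullbackPushforwardAdjunction r).unit.app MQ =
        (pullbackPushforwardAdjunction r).unit.app MI ≫
          (pushforward r).map ((Scheme.Modules.pullback r).map γ) :=
      (pullbackPushforwardAdjunction r).unit.naturality γ
    have := congrArg (fun k => k.app V₁ t₁) hn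
    exact this.symm
  rw [h1, ht₁]
  have h2 : (((pullbackPushforwardAdjunction r).unit.app MQ).app V₁
      (MQ.presheaf.map (homOfLE le_top).op a) :
        ((Scheme.Modules.pullback r).obj MQ).presheaf.obj (op (r ⁻¹ᵁ V₁))) =
      ((Scheme.Modules.pullback r).obj MQ).presheaf.map
        (homOfLE (le_top : r ⁻¹ᵁ V₁ ≤ ⊤)).op
        (((pullbackPushforwardAdjunction r).unit.app MQ).app ⊤ a) :=
    Groth.Agent.S16954.app_map ((pullbackPushforwardAdjunction r).unit.app MQ)
      (le_top : V₁ ≤ ⊤) a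
  refine (congrArg (fun z : ((Scheme.Modules.pullback r).obj MQ).presheaf.obj (op (r ⁻¹ᵁ V₁)) =>
    ((Scheme.Modules.pullback r).obj MQ).presheaf.map (homOfLE hle).op z) h2).trans ?_
  change (((Scheme.Modules.pullback r).obj MQ).presheaf.map _ ≫
    ((Scheme.Modules.pullback r).obj MQ).presheaf.map _) _ = _
  rw [← Functor.map_comp]
  exact presheaf_map_self _ _ _


/-- the restriction morphism between opens -/
noncomputable abbrev rr {X : Scheme.{u}} (U U' : X.Opens) (h : U' ≤ U) : (U' : Scheme.{u}) ⟶ U :=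
  Scheme.Hom.resLE (𝟙 X) U U' (by rwa [Scheme.Hom.id_preimage])

lemma rr_preimage {X : Scheme.{u}} (U U' : X.Opens) (h : U' ≤ U) :
    rr U U' h ⁻¹ᵁ (U.ι ⁻¹ᵁ U') = ⊤ := by
  rw [Scheme.Hom.resLE_preimage, Scheme.Hom.id_preimage,
    Scheme.Hom.image_preimage_eq_opensRange_inf, Scheme.Opens.opensRange_ι, inf_eq_right.mpr h,
    Scheme.Opens.ι_preimage_self]

lemma isOpenImmersion_rr {X : Scheme.{u}} (U U' : X.Opens) (h : U' ≤ U) :
    IsOpenImmersion (rr U U' h) := by
  unfold rr
  rw [Scheme.Hom.resLE_id]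
  infer_instance

lemma pullMod_sectH0_factor {X : Scheme.{u}} {I Q : X.Modules} (g : I ⟶ Q) (U U' : X.Opens)
    (h : U' ≤ U) (s' : Q.presheaf.obj (op U)) (t : I.presheaf.obj (op U'))
    (ht : g.app U' t = Q.presheaf.map (homOfLE h).op s') :
    ∃ z' : Coh.HH ↑U' ((Scheme.Modules.pullback (rr U U' h)).obj (I.restrict U.ι)) 0,
      CohPull.pullMod (rr U U' h) (Q.restrict U.ι) 0 (CohPull.sectH0 Q U s') =
        z'.comp (Ext.mk₀ ((Groth.Agent.S11319.toAbF ↑U').map
          ((Scheme.Modules.pullback (rr U U' h)).map ((restrictFunctor U.ι).map g))))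
          (add_zero 0) := by
  have hle : U.ι ''ᵁ (U.ι ⁻¹ᵁ U') ≤ U' := U.ι.image_preimage_le U'
  have ha : Sheaf.H.equiv₀ (Coh.toAb (Q.restrict U.ι)) isTerminalTop (CohPull.sectH0 Q U s') =
      Q.presheaf.map (eqToHom U.ι_image_top).op s' := by
    unfold CohPull.sectH0
    rw [AddEquiv.trans_apply, AddEquiv.apply_symm_apply]
    rfl
  have ht₁ : ((restrictFunctor U.ι).map g).app (U.ι ⁻¹ᵁ U') (I.presheaf.map (homOfLE hle).op t) =
      (Q.restrict U.ι).presheaf.map (homOfLE le_top).op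
        (Sheaf.H.equiv₀ (Coh.toAb (Q.restrict U.ι)) isTerminalTop (CohPull.sectH0 Q U s')) := by
    rw [ha]
    change g.app (U.ι ''ᵁ (U.ι ⁻¹ᵁ U')) (I.presheaf.map (homOfLE hle).op t) =
      Q.presheaf.map (U.ι.opensFunctor.map (homOfLE le_top)).op
        (Q.presheaf.map (eqToHom U.ι_image_top).op s')
    rw [Groth.Agent.S16954.app_map, ht]
    change (Q.presheaf.map _ ≫ Q.presheaf.map _) s' = (Q.presheaf.map _ ≫ Q.presheaf.map _) s'
    rw [← Functor.map_comp, ← Functor.map_comp]
    exact congrArg (fun k => Q.presheaf.map k s') (Subsingleton.elim _ _)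
  obtain ⟨c₀, hc₀⟩ := unit_lift (rr U U' h) ((restrictFunctor U.ι).map g) _ (U.ι ⁻¹ᵁ U')
    (rr_preimage U U' h) _ ht₁
  refine ⟨(Sheaf.H.equiv₀ (Coh.toAb ((Scheme.Modules.pullback (rr U U' h)).obj
    (I.restrict U.ι))) isTerminalTop).symm c₀, ?_⟩
  apply (Sheaf.H.equiv₀ (Coh.toAb ((Scheme.Modules.pullback (rr U U' h)).obj
    (Q.restrict U.ι))) isTerminalTop).injective
  rw [CohPull.equiv₀_pullMod]
  refine hc₀.symm.trans ?_
  have h5 := Groth.Agent.S16959.app_equiv₀
    ((Scheme.Modules.pullback (rr U U' h)).map ((restrictFunctor U.ι).map g))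
    ((Sheaf.H.equiv₀ (Coh.toAb ((Scheme.Modules.pullback (rr U U' h)).obj
      (I.restrict U.ι))) isTerminalTop).symm c₀)
  rw [AddEquiv.apply_symm_apply] at h5
  exact h5


/-- local lifts along an exact sequence of modules -/
lemma exists_local_lift_of_exact {Y : Scheme.{u}} (S : ShortComplex Y.Modules) (hS : S.Exact)
    (V : Y.Opens) (τ : S.X₂.presheaf.obj (op V)) (hτ : S.g.app V τ = 0) (y : Y) (hy : y ∈ V) :
    ∃ (W : Y.Opens) (hWV : W ≤ V), y ∈ W ∧ ∃ σ : S.X₁.presheaf.obj (op W),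
      S.f.app W σ = S.X₂.presheaf.map (homOfLE hWV).op τ := by
  have := Groth.Agent.S11319.preservesFiniteLimits_toAbF Y
  have := Groth.Agent.S11319.preservesFiniteColimits_toAbF Y
  exact exists_local_lift_of_exact_ab (S.map (Groth.Agent.S11319.toAbF Y))
    (hS.map (Groth.Agent.S11319.toAbF Y)) V τ hτ y hy

/-- a monomorphism of modules is injective on sections -/
lemma app_injective_of_mono {Y : Scheme.{u}} {M N : Y.Modules} (φ : M ⟶ N) [Mono φ]
    (V : Y.Opens) : Function.Injective (φ.app V) := by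
  have := Groth.Agent.S11319.preservesFiniteLimits_toAbF Y
  have : Mono ((Groth.Agent.S11319.toAbF Y).map φ) := inferInstance
  exact Groth.Agent.Lib.Helper53.injective_app_of_mono ((Groth.Agent.S11319.toAbF Y).map φ) V

/-- vanishing of `pullMod` along the restriction morphism gives vanishing of `resLE` -/
lemma resLE_eq_zero {X : Scheme.{u}} (F : X.Modules) {U U' : X.Opens} (h : U' ≤ U) (p : ℕ)
    (x : Coh.HHon X F U p) (hx : CohPull.pullMod (rr U U' h) (F.restrict U.ι) p x = 0) :
    CohPull.resLE F h p x = 0 := by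
  unfold CohPull.resLE CohPull.pullOn
  rw [AddMonoidHom.comp_apply, AddMonoidHom.comp_apply]
  erw [hx]
  rw [map_zero, map_zero]

/-- short exactness after restricting and pulling back along the restriction morphism -/
lemma shortExact_pull {X : Scheme.{u}} (U U' : X.Opens) (h : U' ≤ U) (S : ShortComplex X.Modules)
    (hS : S.ShortExact) :
    (((S.map (restrictFunctor U.ι)).map (Scheme.Modules.pullback (rr U U' h))).map
      (Groth.Agent.S11319.toAbF ↑U')).ShortExact := by
  have := isOpenImmersion_rr U U' h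
  have := Groth.Agent.S11319.preservesFiniteLimits_toAbF (U' : Scheme.{u})
  have := Groth.Agent.S11319.preservesFiniteColimits_toAbF (U' : Scheme.{u})
  have h1 : PreservesFiniteLimits (Scheme.Modules.pullback (rr U U' h)) :=
    preservesFiniteLimits_of_natIso (restrictFunctorIsoPullback (rr U U' h))
  have h2 : (S.map (restrictFunctor U.ι)).ShortExact := hS.map_of_exact _
  have h3 : ((S.map (restrictFunctor U.ι)).map (Scheme.Modules.pullback (rr U U' h))).ShortExact :=
    h2.map_of_exact _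
  exact h3.map_of_exact _


theorem main {X Y : Scheme.{u}} (f : X ⟶ Y) [HasInjectiveResolutions X.Modules]
    [EnoughInjectives X.Modules]
    {Δ : RDer.DerivedLES (pushforward f)} (E : CohCmp.SectCmp f Δ) (p : ℕ) :
    ∀ (F : X.Modules) (V : Y.Opens) (x : Coh.HHon X F (f ⁻¹ᵁ V) p), E.ε V F p x = 0 →
      ∀ y ∈ V, ∃ (W : Y.Opens) (hWV : W ≤ V), y ∈ W ∧
        CohPull.pullMod (rr (f ⁻¹ᵁ V) (f ⁻¹ᵁ W) (f.preimage_mono hWV))
          (F.restrict (f ⁻¹ᵁ V).ι) p x = 0 := by
  have hpl := Groth.Agent.S16954.preservesFiniteLimits_pushforward f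
  induction p with
  | zero =>
    intro F V x hx y hy
    refine ⟨V, le_rfl, hy, ?_⟩
    have hiso : IsIso ((pushforward f).toRightDerivedZero.app F) := inferInstance
    have hb := Groth.Agent.S16959.app_bijective_of_isIso
      ((pushforward f).toRightDerivedZero.app F) V
    obtain ⟨s, rfl⟩ := (CohPull.sectH0 F (f ⁻¹ᵁ V)).surjective x
    rw [E.zero] at hx
    have hs : s = 0 := hb.1 (hx.trans (map_zero _).symm)
    rw [hs, map_zero, map_zero]
  | succ p ih =>
    intro F V x hx y hy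
    have hS := DegComposite.injSeq_shortExact F
    have hA := Groth.Agent.S16954.toAbOn_map_shortExact X (f ⁻¹ᵁ V) (DegComposite.injSeq F) hS
    obtain ⟨x', rfl⟩ := Groth.Agent.S16959.top_surj F (f ⁻¹ᵁ V) p x
    have h1 : E.ε V F (p + 1) (CohCmp.extδ hA p x') =
        (Δ.δ (DegComposite.injSeq F) hS p (p + 1) rfl).app V
          (E.ε V (DegComposite.injSeq F).X₃ p x') := E.delta V (DegComposite.injSeq F) hS hA p x'
    have hδ : (Δ.δ (DegComposite.injSeq F) hS p (p + 1) rfl).app V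
        (E.ε V (DegComposite.injSeq F).X₃ p x') = 0 := h1.symm.trans hx
    have key : ∀ (W : Y.Opens) (hWV : W ≤ V),
        CohPull.pullMod (rr (f ⁻¹ᵁ V) (f ⁻¹ᵁ W) (f.preimage_mono hWV))
          (F.restrict (f ⁻¹ᵁ V).ι) (p + 1) (CohCmp.extδ hA p x') =
        (CohPull.pullMod (rr (f ⁻¹ᵁ V) (f ⁻¹ᵁ W) (f.preimage_mono hWV))
          ((DegComposite.injSeq F).X₃.restrict (f ⁻¹ᵁ V).ι) p x').comp
          (shortExact_pull (f ⁻¹ᵁ V) (f ⁻¹ᵁ W) (f.preimage_mono hWV)
            (DegComposite.injSeq F) hS).extClass rfl := fun W hWV =>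
      pullMod_extδ (rr (f ⁻¹ᵁ V) (f ⁻¹ᵁ W) (f.preimage_mono hWV))
        ((DegComposite.injSeq F).map (restrictFunctor (f ⁻¹ᵁ V).ι)) hA
        (shortExact_pull (f ⁻¹ᵁ V) (f ⁻¹ᵁ W) (f.preimage_mono hWV)
            (DegComposite.injSeq F) hS) p x'
    rcases p with _ | q
    · obtain ⟨s', rfl⟩ := (CohPull.sectH0 (DegComposite.injSeq F).X₃ (f ⁻¹ᵁ V)).surjective x'
      rw [E.zero] at hδ
      obtain ⟨W, hWV, hyW, σ, hσ⟩ := exists_local_lift_of_exact _
        (Δ.exact₃ (DegComposite.injSeq F) hS 0 1 rfl) V _ hδ y hy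
      have hb2 := Groth.Agent.S16959.app_bijective_of_isIso
        ((pushforward f).toRightDerivedZero.app (DegComposite.injSeq F).X₂) W
      have hb3 := Groth.Agent.S16959.app_bijective_of_isIso
        ((pushforward f).toRightDerivedZero.app (DegComposite.injSeq F).X₃) W
      obtain ⟨t, rfl⟩ := hb2.2 σ
      have ht : (DegComposite.injSeq F).g.app (f ⁻¹ᵁ W) t =
          (DegComposite.injSeq F).X₃.presheaf.map (homOfLE (f.preimage_mono hWV)).op s' := by
        apply hb3.1
        have hn : (pushforward f).map (DegComposite.injSeq F).g ≫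
            (pushforward f).toRightDerivedZero.app (DegComposite.injSeq F).X₃ =
            (pushforward f).toRightDerivedZero.app (DegComposite.injSeq F).X₂ ≫
              ((pushforward f).rightDerived 0).map (DegComposite.injSeq F).g :=
          (pushforward f).toRightDerivedZero.naturality (DegComposite.injSeq F).g
        have hn' := congrArg (fun k => k.app W t) hn
        refine hn'.trans (hσ.trans ?_)
        exact (Groth.Agent.S16954.app_map
          ((pushforward f).toRightDerivedZero.app (DegComposite.injSeq F).X₃) hWV s').symm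
      obtain ⟨z', hz'⟩ := pullMod_sectH0_factor (DegComposite.injSeq F).g (f ⁻¹ᵁ V) (f ⁻¹ᵁ W)
        (f.preimage_mono hWV) s' t ht
      refine ⟨W, hWV, hyW, ?_⟩
      rw [key W hWV, hz']
      rw [Ext.comp_assoc_of_second_deg_zero]
      erw [(shortExact_pull (f ⁻¹ᵁ V) (f ⁻¹ᵁ W) (f.preimage_mono hWV)
            (DegComposite.injSeq F) hS).comp_extClass]
      erw [Ext.comp_zero]
      rfl
    · have := Groth.Agent.S16959.mono_δ f Δ F q
      have hε : E.ε V (DegComposite.injSeq F).X₃ (q + 1) x' = 0 :=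
        app_injective_of_mono (Δ.δ (DegComposite.injSeq F) hS (q + 1) (q + 2) rfl) V
          (hδ.trans (map_zero _).symm)
      obtain ⟨W, hWV, hyW, hz⟩ := ih (DegComposite.injSeq F).X₃ V x' hε y hy
      refine ⟨W, hWV, hyW, ?_⟩
      rw [key W hWV, hz, Ext.zero_comp]
      rfl



open AlgebraicGeometry CategoryTheory Scheme.Modules in
/-- The comparison map is locally injective. Let f : X → Y be a morphism of schemes, F an O_X-module and
p a natural number; R^p f_* F is the p-th right derived functor of direct image on O-modules and ε_V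
: H^p(f⁻¹V, F|_{f⁻¹V}) → Γ(V, R^p f_* F) the pinned comparison maps (the structure SectCmp, taken as
a hypothesis). If a class x over f⁻¹V satisfies ε_V(x) = 0, then every point y of V has an open
neighbourhood W ⊆ V such that the restriction of x to H^p(f⁻¹W, F|_{f⁻¹W}) vanishes. -/
theorem result
    {X Y : Scheme.{u}} (f : X ⟶ Y) [HasInjectiveResolutions X.Modules]
    {Δ : RDer.DerivedLES (pushforward f)} (E : CohCmp.SectCmp f Δ) (F : X.Modules) (p : ℕ)
    (V : Y.Opens) (x : Coh.HHon X F (f ⁻¹ᵁ V) p) (hx : E.ε V F p x = 0) (y : Y) (hy : y ∈ V) :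
    ∃ (W : Y.Opens) (hWV : W ≤ V), y ∈ W ∧ CohPull.resLE F (f.preimage_mono hWV) p x = 0 := by
  have := Groth.Agent.S11319.enoughInjectives_modules X
  obtain ⟨W, hWV, hyW, hz⟩ := main f E p F V x hx y hy
  exact ⟨W, hWV, hyW, resLE_eq_zero F (f.preimage_mono hWV) p x hz⟩

end Groth.Agent.S16955
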