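import Groth.Statements.S16962
-- import your own Groth.Agent.* helpers here
import Groth.Agent.Lib.Helper33.ConstLib

set_option autoImplicit false
universe u
open ConstAct

namespace Groth.Agent.S16962
open Groth.Agent.Lib.Helper33.ConstLib
open TensorProduct

section
variable (R : Type u) [CommRing R]
    (B : Type u) [CommRing B] [Algebra R B] (Γ : Type u) [Group Γ] [Fintype Γ] [DecidableEq Γ]
    [HopfRep.Comod R (ConstGrp.F R Γ) B] [GLin.IsCoactAlg R (ConstGrp.F R Γ) B]

/-- the automorphism attached to `g` by the coaction -/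
noncomputable def sig (g : Γ) : B →ₐ[R] B :=
  (comp R B Γ g).comp (GLin.coactAlgHom R (ConstGrp.F R Γ) B)

theorem coact_eq (b : B) :
    HopfRep.Comod.coact (k := R) (A := ConstGrp.F R Γ) (V := B) b =
      ∑ g : Γ, sig R B Γ g b ⊗ₜ[R] ConstGrp.e R g :=
  eq_sum_comp R B Γ _

omit [Fintype Γ] [DecidableEq Γ] [Group Γ] in
theorem comp_eq_rid (g : Γ) (x : B ⊗[R] ConstGrp.F R Γ) :
    comp R B Γ g x = TensorProduct.rid R B (LinearMap.lTensor B (ConstGrp.ev R g).toLinearMap x) := by
  induction x using TensorProduct.induction_on with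
  | zero => simp
  | tmul b f => simp [comp_tmul]
  | add x y hx hy => simp only [map_add, hx, hy]

theorem sig_one (b : B) : sig R B Γ 1 b = b := by
  have h := LinearMap.congr_fun
    (HopfRep.Comod.counit_comp (k := R) (A := ConstGrp.F R Γ) (V := B)) b
  simp only [LinearMap.comp_apply, LinearMap.flip_apply, TensorProduct.mk_apply] at h
  show comp R B Γ 1 (HopfRep.Comod.coact (k := R) (A := ConstGrp.F R Γ) (V := B) b) = b
  rw [comp_eq_rid]
  have h' : LinearMap.lTensor B (ConstGrp.ev R (1 : Γ)).toLinearMap
      (HopfRep.Comod.coact (k := R) (A := ConstGrp.F R Γ) (V := B) b) = b ⊗ₜ[R] (1 : R) := h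
  rw [h']
  simp

/-- evaluation at `(g,h)` on `B ⊗ (F ⊗ F)` -/
noncomputable def psi (g h : Γ) : B ⊗[R] (ConstGrp.F R Γ ⊗[R] ConstGrp.F R Γ) →ₗ[R] B :=
  (TensorProduct.rid R B).toLinearMap ∘ₗ LinearMap.lTensor B
    (LinearMap.mul' R R ∘ₗ TensorProduct.map (ConstGrp.ev R g).toLinearMap (ConstGrp.ev R h).toLinearMap)

omit [Fintype Γ] [Group Γ] in
theorem psi_tmul_e (g h j k : Γ) (b : B) :
    psi R B Γ g h (b ⊗ₜ[R] (ConstGrp.e R j ⊗ₜ[R] ConstGrp.e R k)) =
      if g = j ∧ h = k then b else 0 := by
  simp only [psi, LinearMap.comp_apply, LinearMap.lTensor_tmul, TensorProduct.map_tmul,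
    LinearMap.mul'_apply, LinearEquiv.coe_coe, TensorProduct.rid_tmul, AlgHom.toLinearMap_apply,
    ConstGrp.ev_apply, ConstGrp.e_apply]
  by_cases h1 : g = j <;> by_cases h2 : h = k <;> simp [h1, h2]

theorem sig_mul (g h : Γ) (b : B) : sig R B Γ (g * h) b = sig R B Γ g (sig R B Γ h b) := by
  have hc := LinearMap.congr_fun
    (HopfRep.Comod.coassoc (k := R) (A := ConstGrp.F R Γ) (V := B)) b
  simp only [LinearMap.comp_apply] at hc
  rw [coact_eq R B Γ b] at hc
  simp only [map_sum, LinearMap.rTensor_tmul, LinearMap.lTensor_tmul, ConstGrp.comul_e,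
    TensorProduct.tmul_sum] at hc
  simp only [coact_eq R B Γ, TensorProduct.sum_tmul, map_sum, LinearEquiv.coe_coe,
    TensorProduct.assoc_tmul] at hc
  have h2 := congrArg (psi R B Γ g h) hc
  simp only [map_sum, psi_tmul_e] at h2
  rw [Finset.sum_eq_single h, Finset.sum_eq_single g] at h2
  · rw [if_pos ⟨rfl, rfl⟩] at h2
    rw [h2, Finset.sum_eq_single (g * h), Finset.sum_eq_single g]
    · rw [if_pos ⟨rfl, by simp⟩]
    · intro a _ ha
      rw [if_neg]
      rintro ⟨rfl, -⟩
      exact ha rfl
    · intro hh; exact absurd (Finset.mem_univ _) hh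
    · intro m _ hm
      apply Finset.sum_eq_zero
      intro a _
      rw [if_neg]
      rintro ⟨rfl, h3⟩
      apply hm
      rw [h3]; simp
    · intro hh; exact absurd (Finset.mem_univ _) hh
  · intro a _ ha
    rw [if_neg]
    rintro ⟨rfl, -⟩
    exact ha rfl
  · intro hh; exact absurd (Finset.mem_univ _) hh
  · intro k _ hk
    apply Finset.sum_eq_zero
    intro a _
    rw [if_neg]
    rintro ⟨-, rfl⟩
    exact hk rfl
  · intro hh; exact absurd (Finset.mem_univ _) hh

/-- the action of `Γ` on `B` attached to the coaction -/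
noncomputable def act : MulSemiringAction Γ B where
  smul g b := sig R B Γ g b
  one_smul b := sig_one R B Γ b
  mul_smul g h b := sig_mul R B Γ g h b
  smul_zero g := map_zero _
  smul_add g := map_add _
  smul_one g := map_one _
  smul_mul g := map_mul _

theorem msa_ext {a a' : MulSemiringAction Γ B}
    (h : ∀ (g : Γ) (b : B), (letI := a; g • b) = (letI := a'; g • b)) : a = a' := by
  have h0 : a.toDistribMulAction = a'.toDistribMulAction :=
    DistribMulAction.ext (by funext g b; exact h g b)
  cases a
  cases a'
  dsimp only at h0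
  subst h0
  rfl

end


open TensorProduct in
/-- Let R be a commutative ring, Γ a finite group and B a commutative R-algebra equipped with a comodule
structure over the Hopf algebra of R-valued functions on Γ (the coordinate ring of the constant
group scheme of Γ over Spec R, with basis the indicator functions e_γ) whose coaction B → B ⊗ Fun(Γ,
R) is a homomorphism of algebras, i.e. an action of the constant group scheme on Spec B. Then there
is exactly one action of Γ on B by R-algebra automorphisms whose associated coaction b ↦ Σ_γ (γ · b)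
⊗ e_γ is the given coaction; and for that action the ring of invariants of the comodule algebra (the
b whose coaction is b ⊗ 1) equals the ring of elements fixed by Γ. (That the coaction associated
with an action is a comodule algebra structure is the other direction of the published equivalence
and is a construction here.) -/
theorem result (R : Type u) [CommRing R]
    (B : Type u) [CommRing B] [Algebra R B] (Γ : Type u) [Group Γ] [Fintype Γ] [DecidableEq Γ]
    [HopfRep.Comod R (ConstGrp.F R Γ) B] [GLin.IsCoactAlg R (ConstGrp.F R Γ) B] :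
    ∃! a : MulSemiringAction Γ B, ∃ _ : SMulCommClass Γ R B,
      ConstAct.coactLin R B Γ = HopfRep.Comod.coact (k := R) (A := ConstGrp.F R Γ) (V := B) ∧
        GLin.invariants R (ConstGrp.F R Γ) B = ConstAct.inv R B Γ := by
  refine ⟨act R B Γ, ?_, ?_⟩
  letI := act R B Γ
  have hcomm : SMulCommClass Γ R B := ⟨fun g r b => map_smul (sig R B Γ g) r b⟩
  refine ⟨hcomm, ?_, ?_⟩
  · apply LinearMap.ext
    intro b
    rw [ConstAct.coactLin_apply, coact_eq R B Γ b]
    rfl
  · ext b
    rw [GLin.mem_invariants_iff, ConstAct.mem_inv]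
    constructor
    · intro hb g
      show sig R B Γ g b = b
      show comp R B Γ g (HopfRep.Comod.coact (k := R) (A := ConstGrp.F R Γ) (V := B) b) = b
      rw [hb, comp_tmul]
      simp
    · intro hb
      rw [coact_eq R B Γ b]
      have : ∀ g : Γ, sig R B Γ g b = b := hb
      simp only [this]
      rw [← TensorProduct.tmul_sum, ConstGrp.sum_e]
  · rintro a' ⟨hs, hco, -⟩
    apply msa_ext
    intro g b
    have h1 := LinearMap.congr_fun hco b
    rw [ConstAct.coactLin_apply] at h1
    have h2 := congrArg (comp R B Γ g) h1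
    rw [comp_sum_tmul_e] at h2
    exact h2

end Groth.Agent.S16962
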