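import Groth.Statements.S16963
-- import your own Groth.Agent.* helpers here
import Groth.Agent.Lib.Helper33.ConstLib

set_option autoImplicit false
universe u
open scoped BigOperators
open ConstAct

namespace Groth.Agent.S16963
open Groth.Agent.Lib.Helper33.ConstLib


open TensorProduct in
/-- Let R be a commutative ring and Γ a finite group acting on a commutative R-algebra B by R-algebra
automorphisms; regard B as a comodule algebra over the Hopf algebra of R-valued functions on Γ (the
constant group scheme of Γ acting on Spec B) through the coaction b ↦ Σ_γ (γ · b) ⊗ e_γ. Then the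
action is tame — there is a comodule map α from the Hopf algebra, with its regular coaction, to B
with α(1) = 1 (a total integral) — if and only if the trace b ↦ Σ_γ γ · b, which takes values in the
ring of invariants B^Γ, maps B onto B^Γ. -/
theorem result (R : Type u) [CommRing R]
    (B : Type u) [CommRing B] [Algebra R B] (Γ : Type u) [Group Γ] [Fintype Γ] [DecidableEq Γ]
    [MulSemiringAction Γ B] [SMulCommClass Γ R B] :
    letI := ConstAct.comod R B Γ
    (∃ α : ConstGrp.F R Γ →ₗ[R] B, Hoch.IsComodHom (ConstGrp.F R Γ) α ∧ α 1 = 1) ↔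
      ∀ c : B, c ∈ ConstAct.inv R B Γ → ∃ b : B, ∑ γ : Γ, γ • b = c := by
  letI := ConstAct.comod R B Γ
  constructor
  · rintro ⟨α, hα, h1⟩ c hc
    have key : ∀ g h : Γ, g • α (ConstGrp.e R h) = α (ConstGrp.e R (h * g⁻¹)) := by
      intro g h
      have h0 := LinearMap.congr_fun hα (ConstGrp.e R h)
      have h2 : ConstAct.coactLin R B Γ (α (ConstGrp.e R h)) =
          α.rTensor (ConstGrp.F R Γ) (Coalgebra.comul (R := R) (ConstGrp.e R h)) := h0
      rw [ConstAct.coactLin_apply, ConstGrp.comul_e, map_sum] at h2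
      simp only [LinearMap.rTensor_tmul] at h2
      have h3 := congrArg (comp R B Γ g) h2
      rw [comp_sum_tmul_e] at h3
      rw [h3, map_sum]
      simp only [comp_tmul_e]
      rw [Finset.sum_eq_single (h * g⁻¹)]
      · simp
      · intro a _ ha
        rw [if_neg]
        rintro rfl
        apply ha
        simp
      · intro hh; exact absurd (Finset.mem_univ _) hh
    refine ⟨c * α (ConstGrp.e R 1), ?_⟩
    have hc' : ∀ g : Γ, g • c = c := hc
    simp only [smul_mul', hc', key, one_mul]
    rw [← Finset.mul_sum, ← map_sum]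
    have : ∑ i : Γ, ConstGrp.e R i⁻¹ = (1 : ConstGrp.F R Γ) := by
      rw [← ConstGrp.sum_e (R := R) (G := Γ)]
      exact Fintype.sum_equiv (Equiv.inv Γ) _ _ fun g => rfl
    rw [this, h1, mul_one]
  · intro H
    obtain ⟨b, hb⟩ := H 1 (Subalgebra.one_mem _)
    refine ⟨(ConstGrp.basis R Γ).constr R fun h => h⁻¹ • b, ?_, ?_⟩
    · apply ConstGrp.linearMap_ext
      intro h
      show ConstAct.coactLin R B Γ (((ConstGrp.basis R Γ).constr R fun h => h⁻¹ • b) (ConstGrp.e R h)) =
          LinearMap.rTensor (ConstGrp.F R Γ) ((ConstGrp.basis R Γ).constr R fun h => h⁻¹ • b)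
            (Coalgebra.comul (R := R) (ConstGrp.e R h))
      rw [ConstAct.coactLin_apply, ConstGrp.comul_e, map_sum]
      simp only [LinearMap.rTensor_tmul]
      simp only [← ConstGrp.basis_apply, Module.Basis.constr_basis]
      refine Fintype.sum_equiv ((Equiv.inv Γ).trans (Equiv.mulLeft h)) _ _ fun g => ?_
      show (g • h⁻¹ • b) ⊗ₜ[R] (ConstGrp.basis R Γ) g =
        ((h * g⁻¹)⁻¹ • b) ⊗ₜ[R] (ConstGrp.basis R Γ) ((h * g⁻¹)⁻¹ * h)
      rw [mul_inv_rev, inv_inv, mul_smul, inv_mul_cancel_right]
    · rw [← ConstGrp.sum_e (R := R) (G := Γ), map_sum]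
      simp only [← ConstGrp.basis_apply, Module.Basis.constr_basis]
      rw [← hb]
      exact Fintype.sum_equiv (Equiv.inv Γ) _ _ fun g => rfl

end Groth.Agent.S16963
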