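import Groth.Statements.S16979
import Mathlib.Tactic
import Mathlib.FieldTheory.IsAlgClosed.Spectrum
import Mathlib.FieldTheory.IsAlgClosed.AlgebraicClosure
import Mathlib.LinearAlgebra.Matrix.Charpoly.Eigs
import Mathlib.LinearAlgebra.Matrix.Charpoly.Coeff

set_option autoImplicit false
universe u v
open CAlg

namespace Groth.Agent.S16979

/-- Let R be an integral domain with fraction field K and φ a square matrix over R whose characteristic
polynomial becomes separable in K[T] (equivalently, K[T] modulo the characteristic polynomial is
geometrically reduced over K). Then a polynomial f over R satisfies f(φ) = 0 exactly when the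
characteristic polynomial of φ divides f in R[T]: the kernel of evaluation at φ (the minimal ideal
of φ) is the principal ideal generated by the characteristic polynomial. -/
theorem result
    {R : Type u} [CommRing R] [IsDomain R] {n : Type v} [Fintype n] [DecidableEq n]
    (φ : Matrix n n R)
    (hsep : (φ.charpoly.map (algebraMap R (FractionRing R))).Separable) :
    RingHom.ker (Polynomial.aeval (R := R) φ) = Ideal.span {φ.charpoly} := by
  classical
  open Polynomial in
  set K := FractionRing R with hK
  set L := AlgebraicClosure K with hL
  have inj : Function.Injective (algebraMap R L) := by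
    rw [IsScalarTower.algebraMap_eq R K L]
    exact (algebraMap K L).injective.comp (IsFractionRing.injective R K)
  have hsepL : (φ.charpoly.map (algebraMap R L)).Separable := by
    rw [IsScalarTower.algebraMap_eq R K L, ← Polynomial.map_map]
    exact hsep.map
  set M : Matrix n n L := φ.map (algebraMap R L) with hM
  have hcharM : M.charpoly = φ.charpoly.map (algebraMap R L) := Matrix.charpoly_map φ _
  have key : ∀ g : Polynomial L, Polynomial.aeval M g = 0 → M.charpoly ∣ g := by
    intro g hg
    by_cases hg0 : g = 0
    · simp [hg0]
    have hsplit : M.charpoly.Splits := IsAlgClosed.splits _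
    have hnodup : M.charpoly.roots.Nodup := Polynomial.nodup_roots (hcharM ▸ hsepL)
    have hle : M.charpoly.roots ≤ g.roots := by
      rw [Multiset.le_iff_subset hnodup]
      intro μ hμ
      rw [Polynomial.mem_roots hg0]
      have hμ' : Polynomial.IsRoot M.charpoly μ :=
        (Polynomial.mem_roots (Matrix.charpoly_monic M).ne_zero).mp hμ
      have hspec : μ ∈ spectrum L M := Matrix.mem_spectrum_iff_isRoot_charpoly.mpr hμ'
      have h1 := spectrum.subset_polynomial_aeval M g ⟨μ, hspec, rfl⟩
      rw [hg] at h1
      have hnt : Nontrivial (Matrix n n L) := by
        by_contra hnt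
        rw [not_nontrivial_iff_subsingleton] at hnt
        exact hspec (isUnit_of_subsingleton _)
      rw [spectrum.zero_eq] at h1
      exact h1
    exact hsplit.dvd_of_roots_le_roots (Matrix.charpoly_monic M).ne_zero hle
  ext f
  rw [RingHom.mem_ker, Ideal.mem_span_singleton]
  constructor
  · intro hf
    have h1 : Polynomial.aeval M (f.map (algebraMap R L)) = 0 := by
      rw [Polynomial.aeval_map_algebraMap]
      have : M = (Algebra.ofId R L).mapMatrix φ := rfl
      rw [this, Polynomial.aeval_algHom_apply, hf, map_zero]
    have h2 := key _ h1
    rw [hcharM] at h2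
    exact (Polynomial.map_dvd_map _ inj (Matrix.charpoly_monic φ)).mp h2
  · rintro ⟨q, rfl⟩
    rw [map_mul, Matrix.aeval_self_charpoly, zero_mul]

end Groth.Agent.S16979
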