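import Groth.Statements.S16980
import Mathlib

set_option autoImplicit false
universe u
open CAlg

set_option linter.unusedSectionVars false

namespace Groth.Agent.S16980Aux

open TensorProduct

/-- If `1 ⊗ d x = 0` in `(A/I) ⊗ Ω`, then every derivation whose image is killed by `I` kills `x`. -/
theorem key_G {R A : Type*} [CommRing R] [CommRing A] [Algebra R A] (I : Ideal A)
    {N : Type*} [AddCommGroup N] [Module R N] [Module A N] [IsScalarTower R A N]
    (D : Derivation R A N) (N₀ : Submodule A N) (hD : ∀ a, D a ∈ N₀)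
    (hI : ∀ i ∈ I, ∀ n ∈ N₀, i • n = 0)
    (x : RingHom.ker (algebraMap A (A ⧸ I)))
    (hx : KaehlerDifferential.kerToTensor R A (A ⧸ I) x = 0) : D x.1 = 0 := by
  have h1 : (1 : A ⧸ I) ⊗ₜ[A] KaehlerDifferential.D R A x.1 = 0 := hx
  have h2 := congrArg (TensorProduct.quotTensorEquivQuotSMul (Ω[A⁄R]) I) h1
  rw [TensorProduct.quotTensorEquivQuotSMul_mk_one_tmul, map_zero,
    Submodule.Quotient.mk_eq_zero] at h2
  set L := D.liftKaehlerDifferential with hL
  have hLN : ∀ ω : Ω[A⁄R], L ω ∈ N₀ := by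
    intro ω
    have hω : ω ∈ Submodule.span A (Set.range (KaehlerDifferential.D R A)) := by
      rw [KaehlerDifferential.span_range_derivation]; trivial
    induction hω using Submodule.span_induction with
    | mem z hz =>
      obtain ⟨a, rfl⟩ := hz
      rw [hL, Derivation.liftKaehlerDifferential_comp_D]
      exact hD a
    | zero => rw [map_zero]; exact zero_mem _
    | add z w _ _ hz hw => rw [map_add]; exact add_mem hz hw
    | smul a z _ hz => rw [map_smul]; exact Submodule.smul_mem _ _ hz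
  have h3 : ∀ ω ∈ (I • (⊤ : Submodule A (Ω[A⁄R]))), L ω = 0 := by
    intro ω hω
    refine Submodule.smul_induction_on hω ?_ ?_
    · intro i hi z _
      rw [map_smul]; exact hI i hi _ (hLN z)
    · intro z w hz hw
      rw [map_add, hz, hw, add_zero]
  have := h3 _ h2
  rwa [hL, Derivation.liftKaehlerDifferential_comp_D] at this

section Laurent

open LaurentPolynomial

variable (A : Type u) [CommRing A] (J : Type u) [AddCommGroup J] [Module A J] [Module Aᵐᵒᵖ J]
  [IsCentralScalar A J]

/-- the ring endomorphism `a ↦ inl (fst a)` of the trivial square-zero extension -/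
noncomputable def q : TrivSqZeroExt A J →+* TrivSqZeroExt A J :=
  (TrivSqZeroExt.inlHom A J).comp (TrivSqZeroExt.fstHom A A J).toRingHom

theorem q_apply (a : TrivSqZeroExt A J) : q A J a = TrivSqZeroExt.inl a.fst := rfl

theorem sub_q (a : TrivSqZeroExt A J) : a - q A J a = TrivSqZeroExt.inr a.snd := by
  rw [q_apply]
  ext <;> simp

theorem sub_q_mul (a b : TrivSqZeroExt A J) : (a - q A J a) * (b - q A J b) = 0 := by
  rw [sub_q, sub_q, TrivSqZeroExt.inr_mul_inr]

noncomputable def Q : LaurentPolynomial (TrivSqZeroExt A J) →+* LaurentPolynomial (TrivSqZeroExt A J) :=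
  AddMonoidAlgebra.mapRingHom ℤ (q A J)

theorem Q_C_mul_T (c : TrivSqZeroExt A J) (k : ℤ) :
    Q A J (C c * T k) = C (q A J c) * T k := by
  rw [← single_eq_C_mul_T, ← single_eq_C_mul_T]
  exact AddMonoidAlgebra.mapRingHom_single _ _ _

theorem key_K (f g : LaurentPolynomial (TrivSqZeroExt A J)) :
    (f - Q A J f) * (g - Q A J g) = 0 := by
  induction f using LaurentPolynomial.induction_on' with
  | add p r hp hr => rw [map_add, add_sub_add_comm, add_mul, hp, hr, add_zero]
  | C_mul_T n a =>
    induction g using LaurentPolynomial.induction_on' with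
    | add p r hp hr => rw [map_add, add_sub_add_comm, mul_add, hp, hr, add_zero]
    | C_mul_T m b =>
      rw [Q_C_mul_T, Q_C_mul_T, ← sub_mul, ← sub_mul, ← map_sub, ← map_sub, mul_mul_mul_comm,
        ← map_mul, sub_q_mul, map_zero, zero_mul]

end Laurent

section Deriv

open LaurentPolynomial

variable {A : Type u} [CommRing A] {J : Type u} [AddCommGroup J] [Module A J] [Module Aᵐᵒᵖ J]
  [IsCentralScalar A J]
  {B' : Type u} [CommRing B'] [Algebra (TrivSqZeroExt A J) B'] [Algebra A B']
  [IsScalarTower A (TrivSqZeroExt A J) B']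

theorem Q_Q (f : LaurentPolynomial (TrivSqZeroExt A J)) : Q A J (Q A J f) = Q A J f := by
  induction f using LaurentPolynomial.induction_on' with
  | add p r hp hr => rw [map_add, map_add, hp, hr]
  | C_mul_T n a =>
    rw [Q_C_mul_T, Q_C_mul_T]
    congr 2

/-- `L'` as a `B'`-module through `φ` -/
def NMod (_φ : B' →+* LaurentPolynomial (TrivSqZeroExt A J)) : Type u :=
  LaurentPolynomial (TrivSqZeroExt A J)

noncomputable instance (φ : B' →+* LaurentPolynomial (TrivSqZeroExt A J)) : AddCommGroup (NMod φ) :=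
  inferInstanceAs (AddCommGroup (LaurentPolynomial (TrivSqZeroExt A J)))

noncomputable instance (φ : B' →+* LaurentPolynomial (TrivSqZeroExt A J)) : Module B' (NMod φ) :=
  Module.compHom (LaurentPolynomial (TrivSqZeroExt A J)) φ

noncomputable instance (φ : B' →+* LaurentPolynomial (TrivSqZeroExt A J)) : Module A (NMod φ) :=
  Module.compHom (LaurentPolynomial (TrivSqZeroExt A J)) (φ.comp (algebraMap A B'))

theorem smulB_def (φ : B' →+* LaurentPolynomial (TrivSqZeroExt A J)) (b : B') (n : NMod φ) :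
    b • n = (show LaurentPolynomial (TrivSqZeroExt A J) from φ b * (show LaurentPolynomial (TrivSqZeroExt A J) from n)) := rfl

theorem smulA_def (φ : B' →+* LaurentPolynomial (TrivSqZeroExt A J)) (a : A) (n : NMod φ) :
    a • n = (show LaurentPolynomial (TrivSqZeroExt A J) from
      φ (algebraMap A B' a) * (show LaurentPolynomial (TrivSqZeroExt A J) from n)) := rfl

instance (φ : B' →+* LaurentPolynomial (TrivSqZeroExt A J)) : IsScalarTower A B' (NMod φ) :=
  ⟨fun a b n => by
    rw [smulB_def, smulA_def, smulB_def, Algebra.smul_def, map_mul, mul_assoc]⟩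

theorem phi_zero (φ : B' →+* LaurentPolynomial (TrivSqZeroExt A J))
    (hφ : ∀ a : TrivSqZeroExt A J, φ (algebraMap (TrivSqZeroExt A J) B' a) = C a)
    (i : RingHom.ker (algebraMap B'
      (B' ⧸ Ideal.map (algebraMap (TrivSqZeroExt A J) B') (TrivSqZeroExt.kerIdeal A J))))
    (hi : KaehlerDifferential.kerToTensor A B'
      (B' ⧸ Ideal.map (algebraMap (TrivSqZeroExt A J) B') (TrivSqZeroExt.kerIdeal A J)) i = 0) :
    φ i.1 = 0 := by
  have hφA : ∀ a : A, φ (algebraMap A B' a) = C (TrivSqZeroExt.inl a) := by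
    intro a
    rw [IsScalarTower.algebraMap_apply A (TrivSqZeroExt A J) B', hφ, TrivSqZeroExt.algebraMap_eq_inl]
  have hQC : ∀ a : A, Q A J (C (TrivSqZeroExt.inl a)) = C (TrivSqZeroExt.inl a) := by
    intro a
    have := Q_C_mul_T A J (TrivSqZeroExt.inl a) 0
    rw [T_zero, mul_one, mul_one] at this
    rw [this, q_apply]
    simp
  let Dlin : B' →ₗ[A] NMod φ :=
    { toFun := fun b => (show LaurentPolynomial (TrivSqZeroExt A J) from φ b - Q A J (φ b))
      map_add' := fun b c => by
        show φ (b + c) - Q A J (φ (b + c)) = (φ b - Q A J (φ b)) + (φ c - Q A J (φ c))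
        rw [map_add, map_add]; ring
      map_smul' := fun a b => by
        show φ (a • b) - Q A J (φ (a • b)) = φ (algebraMap A B' a) * (φ b - Q A J (φ b))
        rw [Algebra.smul_def, map_mul, map_mul, hφA, hQC]; ring }
  let D : Derivation A B' (NMod φ) := Derivation.mk' Dlin (fun b c => by
    show φ (b * c) - Q A J (φ (b * c)) =
      φ b * (φ c - Q A J (φ c)) + φ c * (φ b - Q A J (φ b))
    rw [map_mul, map_mul]
    linear_combination (-1 : LaurentPolynomial (TrivSqZeroExt A J)) * key_K A J (φ b) (φ c))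
  let N₀ : Submodule B' (NMod φ) :=
    { carrier := {n | Q A J (show LaurentPolynomial (TrivSqZeroExt A J) from n) = 0}
      add_mem' := fun {a b} ha hb => by
        show Q A J ((show LaurentPolynomial (TrivSqZeroExt A J) from a) +
          (show LaurentPolynomial (TrivSqZeroExt A J) from b)) = 0
        rw [map_add]
        rw [Set.mem_ofPred_eq] at ha hb
        rw [ha, hb, add_zero]
      zero_mem' := map_zero _
      smul_mem' := fun b n hn => by
        show Q A J (φ b * (show LaurentPolynomial (TrivSqZeroExt A J) from n)) = 0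
        rw [Set.mem_ofPred_eq] at hn
        rw [map_mul, hn, mul_zero] }
  have hD : ∀ b, D b ∈ N₀ := by
    intro b
    show Q A J (φ b - Q A J (φ b)) = 0
    rw [map_sub, Q_Q, sub_self]
  have hker : Ideal.map (algebraMap (TrivSqZeroExt A J) B') (TrivSqZeroExt.kerIdeal A J) ≤
      RingHom.ker ((Q A J).comp φ) := by
    rw [Ideal.map_le_iff_le_comap]
    intro k hk
    rw [Ideal.mem_comap, RingHom.mem_ker, RingHom.comp_apply, hφ]
    have hk' : k.fst = 0 := hk
    have := Q_C_mul_T A J k 0
    rw [T_zero, mul_one, mul_one] at this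
    rw [this, q_apply, hk']
    simp
  have hI : ∀ j ∈ Ideal.map (algebraMap (TrivSqZeroExt A J) B') (TrivSqZeroExt.kerIdeal A J),
      ∀ n ∈ N₀, j • n = 0 := by
    intro j hj n hn
    have h1 : Q A J (φ j) = 0 := hker hj
    have h2 : Q A J (show LaurentPolynomial (TrivSqZeroExt A J) from n) = 0 := hn
    show φ j * (show LaurentPolynomial (TrivSqZeroExt A J) from n) = 0
    have := key_K A J (φ j) (show LaurentPolynomial (TrivSqZeroExt A J) from n)
    rwa [h1, h2, sub_zero, sub_zero] at this
  have h0 := key_G _ D N₀ hD hI i hi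
  have h1 : φ i.1 - Q A J (φ i.1) = 0 := h0
  have hi' : i.1 ∈ Ideal.map (algebraMap (TrivSqZeroExt A J) B') (TrivSqZeroExt.kerIdeal A J) := by
    have h3 : algebraMap B' (B' ⧸ Ideal.map (algebraMap (TrivSqZeroExt A J) B')
        (TrivSqZeroExt.kerIdeal A J)) i.1 = 0 := i.2
    exact Ideal.Quotient.eq_zero_iff_mem.mp h3
  have h2 : Q A J (φ i.1) = 0 := hker hi'
  rwa [h2, sub_zero] at h1

end Deriv

section Pres

open LaurentPolynomial

variable {A : Type u} [CommRing A] {J : Type u} [AddCommGroup J] [Module A J] [Module Aᵐᵒᵖ J]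
  [IsCentralScalar A J]
  {B' : Type u} [CommRing B'] [Algebra (TrivSqZeroExt A J) B']

theorem mul_inr (a : TrivSqZeroExt A J) (j : J) :
    a * TrivSqZeroExt.inr j = TrivSqZeroExt.inr (a.fst • j) := by
  ext <;> simp

/-- the retraction `L' → B'` picking the part of degree `≥ d` and substituting `z` for `T` -/
noncomputable def Rz (z : B') (d : ℤ) : LaurentPolynomial (TrivSqZeroExt A J) →+ B' :=
  (Finsupp.liftAddHom (fun n : ℤ =>
    if d ≤ n then (AddMonoidHom.mulRight (z ^ n.toNat)).comp
      (algebraMap (TrivSqZeroExt A J) B').toAddMonoidHom else 0)).comp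
    AddMonoidAlgebra.coeffAddEquiv.toAddMonoidHom

theorem Rz_C_mul_T (z : B') (d : ℤ) (a : TrivSqZeroExt A J) (n : ℤ) :
    Rz z d (C a * T n) = if d ≤ n then algebraMap (TrivSqZeroExt A J) B' a * z ^ n.toNat else 0 := by
  rw [← single_eq_C_mul_T]
  unfold Rz
  rw [AddMonoidHom.comp_apply]
  show (Finsupp.liftAddHom _) (Finsupp.single n a) = _
  rw [Finsupp.liftAddHom_apply_single]
  split_ifs <;> simp

variable (x y : B') (τ : TrivSqZeroExt A J)

/-- the additive subgroup spanned by `ε j xⁿ` and `ε j yⁿ⁺¹` -/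
def W : AddSubgroup B' :=
  AddSubgroup.closure ({w | ∃ (j : J) (n : ℕ),
      w = algebraMap (TrivSqZeroExt A J) B' (TrivSqZeroExt.inr j) * x ^ n} ∪
    {w | ∃ (j : J) (n : ℕ),
      w = algebraMap (TrivSqZeroExt A J) B' (TrivSqZeroExt.inr j) * y ^ (n + 1)})

theorem W_gen1 (j : J) (n : ℕ) :
    algebraMap (TrivSqZeroExt A J) B' (TrivSqZeroExt.inr j) * x ^ n ∈ W (A := A) (J := J) x y :=
  AddSubgroup.subset_closure (Or.inl ⟨j, n, rfl⟩)

theorem W_gen2 (j : J) (n : ℕ) :
    algebraMap (TrivSqZeroExt A J) B' (TrivSqZeroExt.inr j) * y ^ (n + 1) ∈ W (A := A) (J := J) x y :=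
  AddSubgroup.subset_closure (Or.inr ⟨j, n, rfl⟩)

theorem W_mul_closed (hxy : x * y = algebraMap (TrivSqZeroExt A J) B' τ) (b : B')
    (hb : ∀ j n, b * (algebraMap (TrivSqZeroExt A J) B' (TrivSqZeroExt.inr j) * x ^ n) ∈ W (A := A) (J := J) x y)
    (hb' : ∀ j n, b * (algebraMap (TrivSqZeroExt A J) B' (TrivSqZeroExt.inr j) * y ^ (n + 1)) ∈ W (A := A) (J := J) x y)
    (w : B') (hw : w ∈ W (A := A) (J := J) x y) : b * w ∈ W (A := A) (J := J) x y := by
  unfold W at hw
  induction hw using AddSubgroup.closure_induction with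
  | mem w hw =>
    rcases hw with ⟨j, n, rfl⟩ | ⟨j, n, rfl⟩
    · exact hb j n
    · exact hb' j n
  | zero => rw [mul_zero]; exact zero_mem _
  | add w v _ _ hw hv => rw [mul_add]; exact add_mem hw hv
  | neg w _ hw => rw [mul_neg]; exact neg_mem hw

theorem W_ideal (hxy : x * y = algebraMap (TrivSqZeroExt A J) B' τ)
    (P : MvPolynomial (Fin 2) (TrivSqZeroExt A J)) :
    ∀ w ∈ W (A := A) (J := J) x y, MvPolynomial.aeval ![x, y] P * w ∈ W (A := A) (J := J) x y := by
  induction P using MvPolynomial.induction_on with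
  | C a =>
    intro w hw
    rw [MvPolynomial.aeval_C]
    refine W_mul_closed x y τ hxy _ ?_ ?_ w hw
    · intro j n
      rw [← mul_assoc, ← map_mul, mul_inr]
      exact W_gen1 x y _ n
    · intro j n
      rw [← mul_assoc, ← map_mul, mul_inr]
      exact W_gen2 x y _ n
  | add P R hP hR =>
    intro w hw
    rw [map_add, add_mul]
    exact add_mem (hP w hw) (hR w hw)
  | mul_X P i hP =>
    intro w hw
    rw [map_mul, mul_assoc]
    apply hP
    rw [MvPolynomial.aeval_X]
    fin_cases i
    · show x * w ∈ _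
      refine W_mul_closed x y τ hxy _ ?_ ?_ w hw
      · intro j n
        have : x * (algebraMap (TrivSqZeroExt A J) B' (TrivSqZeroExt.inr j) * x ^ n) =
            algebraMap (TrivSqZeroExt A J) B' (TrivSqZeroExt.inr j) * x ^ (n + 1) := by ring
        rw [this]; exact W_gen1 x y j (n + 1)
      · intro j n
        have : x * (algebraMap (TrivSqZeroExt A J) B' (TrivSqZeroExt.inr j) * y ^ (n + 1)) =
            algebraMap (TrivSqZeroExt A J) B' (τ * TrivSqZeroExt.inr j) * y ^ n := by
          rw [map_mul, ← hxy]; ring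
        rw [this, mul_inr]
        rcases n with _ | n
        · rw [pow_zero, ← pow_zero x]; exact W_gen1 x y _ 0
        · exact W_gen2 x y _ n
    · show y * w ∈ _
      refine W_mul_closed x y τ hxy _ ?_ ?_ w hw
      · intro j n
        rcases n with _ | n
        · have : y * (algebraMap (TrivSqZeroExt A J) B' (TrivSqZeroExt.inr j) * x ^ 0) =
              algebraMap (TrivSqZeroExt A J) B' (TrivSqZeroExt.inr j) * y ^ (0 + 1) := by ring
          rw [this]; exact W_gen2 x y j 0
        · have : y * (algebraMap (TrivSqZeroExt A J) B' (TrivSqZeroExt.inr j) * x ^ (n + 1)) =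
              algebraMap (TrivSqZeroExt A J) B' (τ * TrivSqZeroExt.inr j) * x ^ n := by
            rw [map_mul, ← hxy]; ring
          rw [this, mul_inr]
          exact W_gen1 x y _ n
      · intro j n
        have : y * (algebraMap (TrivSqZeroExt A J) B' (TrivSqZeroExt.inr j) * y ^ (n + 1)) =
            algebraMap (TrivSqZeroExt A J) B' (TrivSqZeroExt.inr j) * y ^ (n + 1 + 1) := by ring
        rw [this]; exact W_gen2 x y j (n + 1)

end Pres


section Main

open LaurentPolynomial

variable {A : Type u} [CommRing A] {J : Type u} [AddCommGroup J] [Module A J] [Module Aᵐᵒᵖ J]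
  [IsCentralScalar A J]
  {B' : Type u} [CommRing B'] [Algebra (TrivSqZeroExt A J) B']
  (x y : B') (τ : TrivSqZeroExt A J)

theorem hxy_of_hker
    (hker : RingHom.ker
      (MvPolynomial.aeval ![x, y] : MvPolynomial (Fin 2) (TrivSqZeroExt A J) →ₐ[TrivSqZeroExt A J] B') =
      Ideal.span {MvPolynomial.X 0 * MvPolynomial.X 1 - MvPolynomial.C τ}) :
    x * y = algebraMap (TrivSqZeroExt A J) B' τ := by
  have h1 : (MvPolynomial.X 0 * MvPolynomial.X 1 - MvPolynomial.C τ :
      MvPolynomial (Fin 2) (TrivSqZeroExt A J)) ∈ RingHom.ker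
      (MvPolynomial.aeval ![x, y] : MvPolynomial (Fin 2) (TrivSqZeroExt A J) →ₐ[TrivSqZeroExt A J] B') := by
    rw [hker]; exact Ideal.subset_span rfl
  rw [RingHom.mem_ker, map_sub, map_mul, MvPolynomial.aeval_X, MvPolynomial.aeval_X,
    MvPolynomial.aeval_C, sub_eq_zero] at h1
  simpa using h1

theorem exists_phi (u v : LaurentPolynomial (TrivSqZeroExt A J)) (huv : u * v = C τ)
    (hsurj : Function.Surjective
      (MvPolynomial.aeval ![x, y] : MvPolynomial (Fin 2) (TrivSqZeroExt A J) →ₐ[TrivSqZeroExt A J] B'))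
    (hker : RingHom.ker
      (MvPolynomial.aeval ![x, y] : MvPolynomial (Fin 2) (TrivSqZeroExt A J) →ₐ[TrivSqZeroExt A J] B') =
      Ideal.span {MvPolynomial.X 0 * MvPolynomial.X 1 - MvPolynomial.C τ}) :
    ∃ φ : B' →+* LaurentPolynomial (TrivSqZeroExt A J),
      (∀ a, φ (algebraMap (TrivSqZeroExt A J) B' a) = C a) ∧ φ x = u ∧ φ y = v := by
  let ev : MvPolynomial (Fin 2) (TrivSqZeroExt A J) →ₐ[TrivSqZeroExt A J] B' :=
    MvPolynomial.aeval ![x, y]
  let ψ : MvPolynomial (Fin 2) (TrivSqZeroExt A J) →ₐ[TrivSqZeroExt A J]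
      LaurentPolynomial (TrivSqZeroExt A J) := MvPolynomial.aeval ![u, v]
  have hle : RingHom.ker ev.toRingHom ≤ RingHom.ker ψ.toRingHom := by
    intro P hP
    have hP' : P ∈ RingHom.ker ev := hP
    rw [hker, Ideal.mem_span_singleton] at hP'
    obtain ⟨R, rfl⟩ := hP'
    show ψ (_ * R) = 0
    rw [map_mul, map_sub, map_mul]
    have h0 : ψ (MvPolynomial.X 0) = u := by simp [ψ]
    have h1 : ψ (MvPolynomial.X 1) = v := by simp [ψ]
    have h2 : ψ (MvPolynomial.C τ) = C τ := by
      simp only [ψ, MvPolynomial.aeval_C]; rw [C_eq_algebraMap]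
    rw [h0, h1, h2, huv, sub_self, zero_mul]
  refine ⟨(AlgHom.liftOfSurjective ev hsurj ψ hle).toRingHom, ?_, ?_, ?_⟩
  · intro a
    show (AlgHom.liftOfSurjective ev hsurj ψ hle) (algebraMap _ _ a) = C a
    rw [AlgHom.commutes, C_eq_algebraMap]
  · have h0 : x = ev (MvPolynomial.X 0) := by simp [ev]
    show (AlgHom.liftOfSurjective ev hsurj ψ hle) x = u
    rw [h0, AlgHom.liftOfSurjective_apply]; simp [ψ]
  · have h0 : y = ev (MvPolynomial.X 1) := by simp [ev]
    show (AlgHom.liftOfSurjective ev hsurj ψ hle) y = v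
    rw [h0, AlgHom.liftOfSurjective_apply]; simp [ψ]

theorem CT_pow (n : ℕ) :
    (C τ * T (-1) : LaurentPolynomial (TrivSqZeroExt A J)) ^ n = C (τ ^ n) * T (-(n : ℤ)) := by
  rw [mul_pow, ← map_pow, T_pow, mul_neg, mul_one]

theorem T1_pow (n : ℕ) :
    (T 1 : LaurentPolynomial (TrivSqZeroExt A J)) ^ n = T (n : ℤ) := by
  rw [T_pow, mul_one]

theorem W_retract (φx φy : B' →+* LaurentPolynomial (TrivSqZeroExt A J))
    (hφx : ∀ a, φx (algebraMap (TrivSqZeroExt A J) B' a) = C a)
    (hφy : ∀ a, φy (algebraMap (TrivSqZeroExt A J) B' a) = C a)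
    (hxx : φx x = T 1) (hxy : φx y = C τ * T (-1))
    (hyx : φy x = C τ * T (-1)) (hyy : φy y = T 1) :
    ∀ w ∈ W (A := A) (J := J) x y, Rz x 0 (φx w) + Rz y 1 (φy w) = w := by
  intro w hw
  unfold W at hw
  induction hw using AddSubgroup.closure_induction with
  | mem w hw =>
    have hφ : ∀ (φ : B' →+* LaurentPolynomial (TrivSqZeroExt A J)), (∀ a, φ (algebraMap (TrivSqZeroExt A J) B' a) = C a) →
        ∀ (j : J) (z : B') (n : ℕ),
        φ (algebraMap (TrivSqZeroExt A J) B' (TrivSqZeroExt.inr j) * z ^ n) =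
          C (TrivSqZeroExt.inr j) * (φ z) ^ n := by
      intro φ h j z n
      rw [RingHom.map_mul, RingHom.map_pow, h]
    rcases hw with ⟨j, n, rfl⟩ | ⟨j, n, rfl⟩
    · rw [hφ φx hφx, hφ φy hφy, hxx, hyx, T1_pow, CT_pow, ← mul_assoc,
        ← RingHom.map_mul, Rz_C_mul_T, Rz_C_mul_T, if_pos (by positivity), if_neg (by omega), add_zero,
        Int.toNat_natCast]
    · rw [hφ φx hφx, hφ φy hφy, hxy, hyy, T1_pow, CT_pow, ← mul_assoc,
        ← RingHom.map_mul, Rz_C_mul_T, Rz_C_mul_T, if_neg (by push_cast; omega),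
        if_pos (by push_cast; omega), zero_add, Int.toNat_natCast]
  | zero => simp
  | add w v _ _ hw hv =>
    rw [map_add, map_add, map_add, map_add]
    nth_rewrite 3 [← hw]
    nth_rewrite 3 [← hv]
    abel
  | neg w _ hw =>
    rw [map_neg, map_neg, map_neg, map_neg]
    nth_rewrite 3 [← hw]
    abel

theorem map_le_W (hxy : x * y = algebraMap (TrivSqZeroExt A J) B' τ)
    (hsurj : Function.Surjective
      (MvPolynomial.aeval ![x, y] : MvPolynomial (Fin 2) (TrivSqZeroExt A J) →ₐ[TrivSqZeroExt A J] B'))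
    (w : B')
    (hw : w ∈ Ideal.map (algebraMap (TrivSqZeroExt A J) B') (TrivSqZeroExt.kerIdeal A J)) :
    w ∈ W (A := A) (J := J) x y := by
  unfold Ideal.map at hw
  induction hw using Submodule.span_induction with
  | mem z hz =>
    obtain ⟨k, hk, rfl⟩ := hz
    have hk' : k = TrivSqZeroExt.inr k.snd := (TrivSqZeroExt.mem_kerIdeal_iff_inr A J k).mp hk
    have := W_gen1 (A := A) x y k.snd 0
    rwa [pow_zero, mul_one, ← hk'] at this
  | zero => exact zero_mem _
  | add z w _ _ hz hw => exact add_mem hz hw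
  | smul b z _ hz =>
    obtain ⟨P, rfl⟩ := hsurj b
    exact W_ideal x y τ hxy P z hz

end Main

end Groth.Agent.S16980Aux

namespace Groth.Agent.S16980

/-- Let A be a commutative ring, J an A-module, A′ = A ⊕ εJ the trivial square-zero extension of A by J,
and τ any element of A′. Let B′ be the A′-algebra A′[x,y]/(xy − τ), presented by two generators x, y
with the evaluation map from the polynomial ring in two variables over A′ surjective and with kernel
generated by XY − τ. Let I ⊆ B′ be the ideal generated by the square-zero ideal J of A′, so that B =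
B′/I is A[x,y]/(xy − t) with t the A-component of τ. Then the first map of the conormal sequence of
B′ → B relative to A, namely I → B ⊗_{B′} Ω_{B′/A}, i ↦ 1 ⊗ di, is injective (so the sequence 0 → I
→ B ⊗_{B′} Ω_{B′/A} → Ω_{B/A} → 0 is exact on the left as well; this is the local computation at a
node for first-order deformations of nodal curves). -/
theorem result
    (A : Type u) [CommRing A] (J : Type u) [AddCommGroup J] [Module A J] [Module Aᵐᵒᵖ J]
    [IsCentralScalar A J] (τ : TrivSqZeroExt A J)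
    (B' : Type u) [CommRing B'] [Algebra (TrivSqZeroExt A J) B'] [Algebra A B']
    [IsScalarTower A (TrivSqZeroExt A J) B'] (x y : B')
    (hsurj : Function.Surjective
      (MvPolynomial.aeval ![x, y] : MvPolynomial (Fin 2) (TrivSqZeroExt A J) →ₐ[TrivSqZeroExt A J] B'))
    (hker : RingHom.ker
      (MvPolynomial.aeval ![x, y] : MvPolynomial (Fin 2) (TrivSqZeroExt A J) →ₐ[TrivSqZeroExt A J] B') =
      Ideal.span {MvPolynomial.X 0 * MvPolynomial.X 1 - MvPolynomial.C τ}) :
    Function.Injective (KaehlerDifferential.kerToTensor A B'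
      (B' ⧸ Ideal.map (algebraMap (TrivSqZeroExt A J) B') (TrivSqZeroExt.kerIdeal A J))) := by
  have hxy := Groth.Agent.S16980Aux.hxy_of_hker x y τ hker
  have huv : (LaurentPolynomial.T 1 : LaurentPolynomial (TrivSqZeroExt A J)) *
      (LaurentPolynomial.C τ * LaurentPolynomial.T (-1)) = LaurentPolynomial.C τ := by
    rw [mul_comm, mul_assoc, ← LaurentPolynomial.T_add]
    simp
  have hvu : (LaurentPolynomial.C τ * LaurentPolynomial.T (-1) :
      LaurentPolynomial (TrivSqZeroExt A J)) * LaurentPolynomial.T 1 = LaurentPolynomial.C τ := by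
    rw [mul_assoc, ← LaurentPolynomial.T_add]
    simp
  obtain ⟨φx, hφx, hxx, hxy'⟩ := Groth.Agent.S16980Aux.exists_phi x y τ _ _ huv hsurj hker
  obtain ⟨φy, hφy, hyx, hyy⟩ := Groth.Agent.S16980Aux.exists_phi x y τ _ _ hvu hsurj hker
  rw [injective_iff_map_eq_zero]
  intro i hi
  have h1 := Groth.Agent.S16980Aux.phi_zero φx hφx i hi
  have h2 := Groth.Agent.S16980Aux.phi_zero φy hφy i hi
  have hi' : i.1 ∈ Ideal.map (algebraMap (TrivSqZeroExt A J) B') (TrivSqZeroExt.kerIdeal A J) := by
    have h3 : algebraMap B' (B' ⧸ Ideal.map (algebraMap (TrivSqZeroExt A J) B')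
        (TrivSqZeroExt.kerIdeal A J)) i.1 = 0 := i.2
    exact Ideal.Quotient.eq_zero_iff_mem.mp h3
  have hW := Groth.Agent.S16980Aux.map_le_W x y τ hxy hsurj i.1 hi'
  have h3 := Groth.Agent.S16980Aux.W_retract x y τ φx φy hφx hφy hxx hxy' hyx hyy i.1 hW
  rw [h1, h2, map_zero, map_zero, add_zero] at h3
  exact Subtype.ext h3.symm

end Groth.Agent.S16980
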