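import Groth.Statements.S16981
import Mathlib
import Groth.Agent.Lib.Helper25.CompleteFinite
import Groth.Agent.Lib.Helper61.FSLocalTest

set_option autoImplicit false
universe u v
open CAlg

namespace Groth.Agent.S16981

open IsLocalRing

theorem torsion {E : Type*} [CommRing E] (K : Ideal E) (hsq : K ^ 2 = ⊥) :
    Module.IsTorsionBySet E K K := by
  intro x a
  ext
  have h : (a : E) * (x : E) ∈ K ^ 2 := by
    rw [pow_two]
    exact Ideal.mul_mem_mul a.2 x.2
  rw [hsq, Ideal.mem_bot] at h
  simpa using h

theorem main (E : Type*) [CommRing E] (K : Ideal E) (hsq : K ^ 2 = ⊥) (hfg : K.FG)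
    [IsNoetherianRing (E ⧸ K)] [IsLocalRing (E ⧸ K)]
    [IsAdicComplete (maximalIdeal (E ⧸ K)) (E ⧸ K)] :
    IsAdicComplete ((maximalIdeal (E ⧸ K)).comap (Ideal.Quotient.mk K)) E := by
  have hqs : Function.Surjective (Ideal.Quotient.mk K) := Ideal.Quotient.mk_surjective
  have hmapM : ((maximalIdeal (E ⧸ K)).comap (Ideal.Quotient.mk K)).map (Ideal.Quotient.mk K) =
      maximalIdeal (E ⧸ K) := Ideal.map_comap_of_surjective _ hqs _
  generalize hM : (maximalIdeal (E ⧸ K)).comap (Ideal.Quotient.mk K) = M at hmapM ⊢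
  have hKM : K ≤ M := fun k hk => by
    rw [← hM, Ideal.mem_comap, Ideal.Quotient.eq_zero_iff_mem.mpr hk]
    exact zero_mem _
  -- module structure
  have htors : Module.IsTorsionBySet E K K := torsion K hsq
  letI : Module (E ⧸ K) K := htors.module
  haveI : IsScalarTower E (E ⧸ K) K := htors.isScalarTower
  haveI : Module.Finite E K := Module.Finite.iff_fg.mpr hfg
  haveI : Module.Finite (E ⧸ K) K := Module.Finite.of_restrictScalars_finite E (E ⧸ K) K
  haveI : IsNoetherian (E ⧸ K) K := isNoetherian_of_isNoetherianRing_of_finite _ _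
  haveI hNK : IsNoetherian E K := by
    rw [isNoetherian_def]
    intro N
    have h1 : ((Submodule.orderIsoOfAlgebraMapSurjective (R := E) (S := E ⧸ K) (M := K)
        hqs).symm N).FG := IsNoetherian.noetherian _
    have h2 := Submodule.FG.restrictScalars_of_surjective (R := E) h1 hqs
    exact h2
  haveI hNE : IsNoetherianRing E := by
    rw [isNoetherianRing_iff_ideal_fg]
    intro I
    refine Ideal.fg_of_fg_map_of_fg_inf_ker_of_surjective (f := Ideal.Quotient.mk K)
      (IsNoetherian.noetherian _) ?_ hqs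
    rw [Ideal.mk_ker]
    have h1 : (Submodule.comap (Submodule.subtype K) (I ⊓ K) : Submodule E K).FG :=
      IsNoetherian.noetherian _
    have h2 := h1.map (Submodule.subtype K)
    rwa [Submodule.map_comap_subtype, inf_comm, inf_assoc, inf_idem] at h2
  haveI : IsLocalHom (Ideal.Quotient.mk K) :=
    Groth.Agent.Lib.Helper61.FSLocalTest.isLocalHom_of_ker_sq _ hqs (by rw [Ideal.mk_ker]; exact hsq)
  haveI : IsLocalRing E := RingHom.domain_isLocalRing (Ideal.Quotient.mk K)
  have hMmax : M = maximalIdeal E := by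
    rw [← hM]
    exact ((IsLocalRing.local_hom_TFAE (Ideal.Quotient.mk K)).out 0 4).mp ‹_›
  have hH : IsHausdorff M E := by rw [hMmax]; infer_instance
  have hPK : IsPrecomplete M K := by
    rw [← IsPrecomplete.map_algebraMap_iff (S := E ⧸ K)]
    change IsPrecomplete (M.map (Ideal.Quotient.mk K)) K
    rw [hmapM]
    exact Groth.Agent.Lib.Helper25.isPrecomplete_of_finite _ K
  obtain ⟨c, hc⟩ := Ideal.exists_pow_inf_eq_pow_smul M (K : Submodule E E)
  refine { toIsHausdorff := hH, toIsPrecomplete := ⟨fun {x} hx => ?_⟩ }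
  have hx' : ∀ m n, m ≤ n → x m - x n ∈ M ^ m := by
    intro m n hmn
    have h1 := hx hmn
    rwa [SModEq.sub_mem, smul_eq_mul, Ideal.mul_top] at h1
  have hmappow : ∀ n, (M ^ n).map (Ideal.Quotient.mk K) = maximalIdeal (E ⧸ K) ^ n := by
    intro n
    rw [Ideal.map_pow, hmapM]
  obtain ⟨a, ha⟩ := IsPrecomplete.prec' (I := maximalIdeal (E ⧸ K)) (M := E ⧸ K)
    (fun n => Ideal.Quotient.mk K (x n)) (by
      intro m n hmn
      rw [SModEq.sub_mem, smul_eq_mul, Ideal.mul_top, ← map_sub, ← hmappow]
      exact Ideal.mem_map_of_mem _ (hx' m n hmn))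
  obtain ⟨e, rfl⟩ := hqs a
  have hex : ∀ n, ∃ m ∈ M ^ n, Ideal.Quotient.mk K m = Ideal.Quotient.mk K (x n - e) := by
    intro n
    have h1 := ha n
    rw [SModEq.sub_mem, smul_eq_mul, Ideal.mul_top, ← map_sub, ← hmappow] at h1
    exact (Ideal.mem_map_iff_of_surjective _ hqs).mp h1
  choose m hmM hmq using hex
  have hk : ∀ n, x n - e - m n ∈ K := by
    intro n
    rw [← Ideal.Quotient.eq_zero_iff_mem, map_sub, hmq, sub_self]
  have hdiff : ∀ n n', n ≤ n' → (x (n + c) - e - m (n + c)) - (x (n' + c) - e - m (n' + c)) ∈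
      M ^ n • (K : Submodule E E) := by
    intro n n' hnn'
    have h1 : (x (n + c) - e - m (n + c)) - (x (n' + c) - e - m (n' + c)) ∈
        (M ^ (n + c) • ⊤ ⊓ K : Submodule E E) := by
      refine ⟨?_, sub_mem (hk _) (hk _)⟩
      rw [smul_eq_mul, Ideal.mul_top]
      have h2 : (x (n + c) - e - m (n + c)) - (x (n' + c) - e - m (n' + c)) =
          (x (n + c) - x (n' + c)) - m (n + c) + m (n' + c) := by ring
      rw [h2]
      refine add_mem (sub_mem (hx' _ _ (by omega)) (hmM _)) ?_
      exact Ideal.pow_le_pow_right (by omega) (hmM (n' + c))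
    rw [hc (n + c) (by omega), Nat.add_sub_cancel] at h1
    exact Submodule.smul_mono le_rfl inf_le_right h1
  obtain ⟨L, hL⟩ := IsPrecomplete.prec' (I := M) (M := K)
    (fun n => ⟨x (n + c) - e - m (n + c), hk _⟩) (by
      intro n n' hnn'
      rw [SModEq.sub_mem, Submodule.mem_smul_top_iff]
      exact hdiff n n' hnn')
  refine ⟨e + L, fun n => ?_⟩
  rw [SModEq.sub_mem, smul_eq_mul, Ideal.mul_top]
  have h3 := hL n
  rw [SModEq.sub_mem, Submodule.mem_smul_top_iff] at h3
  have h4 : (x (n + c) - e - m (n + c)) - (L : E) ∈ M ^ n := by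
    have : M ^ n • (K : Submodule E E) ≤ M ^ n := by
      rw [smul_eq_mul]
      exact Ideal.mul_le_left
    exact this h3
  have h5 : x n - (e + L) = (x n - x (n + c)) + m (n + c) +
      ((x (n + c) - e - m (n + c)) - (L : E)) := by ring
  rw [h5]
  refine add_mem (add_mem (hx' _ _ (by omega)) ?_) h4
  exact Ideal.pow_le_pow_right (by omega) (hmM (n + c))

end Groth.Agent.S16981

namespace Groth.Agent.S16981

/-- Let A be a complete Noetherian local ring and f : E → A a surjective ring homomorphism whose kernel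
has square zero and is finitely generated (equivalently, is a finite A-module for the induced module
structure). Then E is separated and complete for the adic topology of the inverse image of the
maximal ideal of A. (The published statement takes A to be the completion of a local ring of a
scheme of finite type over an Artinian local ring and the kernel the completion of a finite module;
this row assumes only that A is complete Noetherian local and the kernel finitely generated.) -/
theorem result
    {A : Type u} {E : Type v} [CommRing A] [CommRing E] [IsNoetherianRing A] [IsLocalRing A]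
    [IsAdicComplete (IsLocalRing.maximalIdeal A) A]
    (f : E →+* A) (hf : Function.Surjective f)
    (hsq : RingHom.ker f ^ 2 = ⊥) (hfg : (RingHom.ker f).FG) :
    IsAdicComplete ((IsLocalRing.maximalIdeal A).comap f) E := by
  let e : E ⧸ RingHom.ker f ≃+* A := RingHom.quotientKerEquivOfSurjective hf
  haveI : IsNoetherianRing (E ⧸ RingHom.ker f) := isNoetherianRing_of_ringEquiv A e.symm
  haveI : IsLocalRing (E ⧸ RingHom.ker f) := e.symm.isLocalRing
  have hcm : (IsLocalRing.maximalIdeal A).comap (e : E ⧸ RingHom.ker f →+* A) =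
      IsLocalRing.maximalIdeal (E ⧸ RingHom.ker f) :=
    ((IsLocalRing.local_hom_TFAE (e : E ⧸ RingHom.ker f →+* A)).out 0 4).mp
      (isLocalHom_toRingHom e)
  have hmax : (IsLocalRing.maximalIdeal A).map (e.symm : A →+* E ⧸ RingHom.ker f) =
      IsLocalRing.maximalIdeal (E ⧸ RingHom.ker f) := by
    rw [hcm.symm]
    exact Ideal.map_symm e
  haveI : IsAdicComplete (IsLocalRing.maximalIdeal (E ⧸ RingHom.ker f)) (E ⧸ RingHom.ker f) := by
    rw [← hmax]
    exact (IsAdicComplete.congr_ringEquiv (IsLocalRing.maximalIdeal A) e.symm).mpr inferInstance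
  have h := main E (RingHom.ker f) hsq hfg
  have hcomap : (IsLocalRing.maximalIdeal A).comap f =
      (IsLocalRing.maximalIdeal (E ⧸ RingHom.ker f)).comap (Ideal.Quotient.mk (RingHom.ker f)) := by
    rw [← hcm, Ideal.comap_comap]
    congr 1
  rw [hcomap]
  exact h

end Groth.Agent.S16981
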