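import Groth.Statements.S16982
import Mathlib
import Groth.Agent.S16981
import Groth.Agent.Lib.Helper61.PSEval2
import Groth.Agent.Lib.Helper61.CompleteLE

set_option autoImplicit false
universe u v w w'
open CAlg

namespace Groth.Agent.S16982

/-- Let R be a commutative ring, A a complete Noetherian local R-algebra written as a quotient of a
power series ring over R in finitely many variables by a surjective R-algebra map π, and f : E → A a
surjective R-algebra map whose kernel has square zero and is finitely generated. Then π lifts along
f to an R-algebra map λ from the power series ring to E with f ∘ λ = π. (The published statement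
takes R Artinian local and asks for a lift that is continuous for the adic topologies; this row
allows any commutative R and asks for any lift.) -/
theorem result
    {R : Type u} [CommRing R] {σ : Type v} [Finite σ]
    {A : Type w} {E : Type w'} [CommRing A] [CommRing E] [Algebra R A] [Algebra R E]
    [IsNoetherianRing A] [IsLocalRing A] [IsAdicComplete (IsLocalRing.maximalIdeal A) A]
    (π : MvPowerSeries σ R →ₐ[R] A) (hπ : Function.Surjective π)
    (f : E →ₐ[R] A) (hf : Function.Surjective f)
    (hsq : RingHom.ker f.toRingHom ^ 2 = ⊥) (hfg : (RingHom.ker f.toRingHom).FG) :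
    ∃ l : MvPowerSeries σ R →ₐ[R] E, f.comp l = π := by
  classical
  -- the images of the variables lie in the maximal ideal
  have hX : ∀ s : σ, π (MvPowerSeries.X s) ∈ IsLocalRing.maximalIdeal A := by
    intro s
    by_contra hns
    have hu : IsUnit (π (MvPowerSeries.X s)) := by
      rwa [IsLocalRing.mem_maximalIdeal, mem_nonunits_iff, not_not] at hns
    obtain ⟨v, hv⟩ := hu.exists_right_inv
    obtain ⟨u, rfl⟩ := hπ v
    have h1 : IsUnit (1 - MvPowerSeries.X s * u : MvPowerSeries σ R) := by
      rw [MvPowerSeries.isUnit_iff_constantCoeff]
      simp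
    have h2 := h1.map π
    rw [map_sub, map_one, map_mul, hv, sub_self] at h2
    exact not_isUnit_zero h2
  choose b hb using fun s : σ => hf (π (MvPowerSeries.X s))
  have hcompl : IsAdicComplete ((IsLocalRing.maximalIdeal A).comap f.toRingHom) E :=
    Groth.Agent.S16981.result f.toRingHom hf hsq hfg
  have hle : Ideal.span (Set.range b) ≤ (IsLocalRing.maximalIdeal A).comap f.toRingHom := by
    rw [Ideal.span_le]
    rintro _ ⟨s, rfl⟩
    change f (b s) ∈ IsLocalRing.maximalIdeal A
    rw [hb s]
    exact hX s
  have hfgb : (Ideal.span (Set.range b)).FG := ⟨(Set.finite_range b).toFinset, by simp⟩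
  haveI : IsAdicComplete (Ideal.span (Set.range b)) E :=
    Groth.Agent.Lib.Helper61.CompleteLE.isAdicComplete_of_le _ _ hle hfgb
  obtain ⟨l, hl⟩ := Groth.Agent.Lib.Helper61.PSEval2.exists_eval (k := R) b
  refine ⟨l, ?_⟩
  apply Groth.Agent.Lib.Helper61.PSEval2.algHom_ext (IsLocalRing.maximalIdeal A)
  · intro s
    change f (l (MvPowerSeries.X s)) ∈ IsLocalRing.maximalIdeal A
    rw [hl, hb]
    exact hX s
  · intro s
    change f (l (MvPowerSeries.X s)) = π (MvPowerSeries.X s)
    rw [hl, hb]

end Groth.Agent.S16982
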