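import Groth.Statements.S16983
import Mathlib.Tactic
import Mathlib.Data.Int.GCD

set_option autoImplicit false
universe u
open DeformData

namespace Groth.Agent.S16983

/-- Let p be a prime, s ≥ 1, B a finite index set with a subset B₀ of exactly three elements, m_j ≥ 1
integers coprime to p, and σ_{i,j} (i < s, j ∈ B) rational numbers with m_j σ_{i,j} an integer, such
that Σ_j (σ_{i,j} − 1) = −2 for every i, the fractional part of σ_{i,j} equals that of p^i σ_{0,j},
no σ_{i,j} equals 1, and the minimum over i of ⌊σ_{i,j}⌋ is 0 for j ∈ B₀ and 1 for j ∉ B₀. Then for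
every i the fractional parts ⟨σ_{i,j}⟩ sum over j to 1 (purity), and ⌊σ_{i,j}⌋ is 0 on B₀ and 1 off
B₀ for every i. (The hypotheses are exactly the properties of the signature of a special deformation
datum on the projective line: each entry is an integer divided by a stabilizer order m_j in a group
of order prime to p, the degree identity coming from Riemann–Hurwitz, the Frobenius-twist relation
between fractional parts, and the speciality conditions; the statement is given here for any such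
tuple.) -/
theorem result
    {B : Type u} [Fintype B] [DecidableEq B] (B₀ : Finset B) (hB₀ : B₀.card = 3)
    (p : ℕ) (hp : p.Prime) (s : ℕ) (hs : 0 < s)
    (m : B → ℕ) (hm : ∀ j, 0 < m j) (hmp : ∀ j, Nat.Coprime (m j) p)
    (σ : Fin s → B → ℚ) (hint : ∀ i j, ∃ h : ℤ, σ i j = (h : ℚ) / (m j : ℚ))
    (hsum : ∀ i, ∑ j, (σ i j - 1) = -2)
    (hfract : ∀ i j, Int.fract (σ i j) = Int.fract ((p : ℚ) ^ (i : ℕ) * σ ⟨0, hs⟩ j))
    (hne : ∀ i j, σ i j ≠ 1)
    (hB₀min : ∀ j ∈ B₀, (∃ i, ⌊σ i j⌋ = 0) ∧ ∀ i, 0 ≤ ⌊σ i j⌋)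
    (hBmin : ∀ j ∉ B₀, (∃ i, ⌊σ i j⌋ = 1) ∧ ∀ i, 1 ≤ ⌊σ i j⌋) :
    (∀ i, ∑ j, Int.fract (σ i j) = 1) ∧ (∀ i j, ⌊σ i j⌋ = if j ∈ B₀ then 0 else 1) := by
  classical
  have hprop : ∀ i₀ : Fin s, (∀ j, Int.fract (σ i₀ j) = 0) → ∀ i j, Int.fract (σ i j) = 0 := by
    intro i₀ h0 i j
    have h1 : Int.fract ((p : ℚ) ^ (i₀ : ℕ) * σ ⟨0, hs⟩ j) = 0 := by rw [← hfract]; exact h0 j
    obtain ⟨h, hh⟩ := hint ⟨0, hs⟩ j
    obtain ⟨z, hz⟩ : ∃ z : ℤ, (p : ℚ) ^ (i₀ : ℕ) * σ ⟨0, hs⟩ j = z := by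
      refine ⟨⌊(p : ℚ) ^ (i₀ : ℕ) * σ ⟨0, hs⟩ j⌋, ?_⟩
      have := Int.floor_add_fract ((p : ℚ) ^ (i₀ : ℕ) * σ ⟨0, hs⟩ j)
      rw [h1, add_zero] at this
      exact this.symm
    have hm0 : (m j : ℚ) ≠ 0 := by exact_mod_cast (hm j).ne'
    rw [hh] at hz
    have hz' : ((p : ℤ) ^ (i₀ : ℕ) * h : ℤ) = z * (m j : ℤ) := by
      have : (p : ℚ) ^ (i₀ : ℕ) * (h : ℚ) = z * (m j : ℚ) := by
        rw [← hz]; field_simp
      exact_mod_cast this
    have hdvd : ((m j : ℕ) : ℤ) ∣ h := by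
      have h3 : ((m j : ℕ) : ℤ) ∣ h * (p : ℤ) ^ (i₀ : ℕ) := ⟨z, by rw [mul_comm, hz', mul_comm]⟩
      refine Int.dvd_of_dvd_mul_left_of_gcd_one h3 ?_
      have := (hmp j).pow_right (i₀ : ℕ)
      rw [← Int.natCast_pow, Int.gcd_natCast_natCast]
      exact this
    obtain ⟨w, hw⟩ := hdvd
    have h4 : σ ⟨0, hs⟩ j = w := by
      rw [hh, hw]; push_cast; field_simp
    rw [hfract, h4]
    have : (p : ℚ) ^ (i : ℕ) * (w : ℚ) = (((p : ℤ) ^ (i : ℕ) * w : ℤ) : ℚ) := by push_cast; ring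
    rw [this, Int.fract_intCast]
  set t : B → ℤ := fun j => if j ∈ B₀ then 0 else 1 with ht
  have hex : ∀ i j, t j ≤ ⌊σ i j⌋ := by
    intro i j
    by_cases hj : j ∈ B₀
    · simp only [ht, hj, if_true]; exact (hB₀min j hj).2 i
    · simp only [ht, hj, if_false]; exact (hBmin j hj).2 i
  have htsum : ∑ j, ((t j : ℚ) - 1) = -3 := by
    have : ∀ j, ((t j : ℚ) - 1) = if j ∈ B₀ then (-1 : ℚ) else 0 := by
      intro j; by_cases hj : j ∈ B₀ <;> simp [ht, hj]
    simp_rw [this]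
    rw [Finset.sum_ite_mem]
    simp [hB₀]
  have hdecomp : ∀ i, (∑ j, Int.fract (σ i j)) + ((∑ j, (⌊σ i j⌋ - t j) : ℤ) : ℚ) = 1 := by
    intro i
    have h1 := hsum i
    have h2 : ∀ j, σ i j - 1 = Int.fract (σ i j) + ((⌊σ i j⌋ - t j : ℤ) : ℚ) + ((t j : ℚ) - 1) := by
      intro j
      have := Int.floor_add_fract (σ i j)
      push_cast
      linarith
    simp_rw [h2] at h1
    rw [Finset.sum_add_distrib, Finset.sum_add_distrib, htsum] at h1
    push_cast
    push_cast at h1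
    linarith
  have hmain : ∀ i, (∑ j, Int.fract (σ i j) = 1) ∧ ∀ j, ⌊σ i j⌋ = t j := by
    intro i
    have hF : 0 ≤ ∑ j, Int.fract (σ i j) := Finset.sum_nonneg (fun j _ => Int.fract_nonneg _)
    have hE : 0 ≤ ∑ j, (⌊σ i j⌋ - t j) := Finset.sum_nonneg (fun j _ => sub_nonneg.mpr (hex i j))
    have hd := hdecomp i
    have hE1 : (∑ j, (⌊σ i j⌋ - t j)) ≤ 1 := by
      have : ((∑ j, (⌊σ i j⌋ - t j) : ℤ) : ℚ) ≤ 1 := by linarith
      exact_mod_cast this
    rcases (by omega : (∑ j, (⌊σ i j⌋ - t j)) = 0 ∨ (∑ j, (⌊σ i j⌋ - t j)) = 1) with h0 | h1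
    · constructor
      · rw [h0] at hd; simpa using hd
      · intro j
        have := (Finset.sum_eq_zero_iff_of_nonneg (fun j _ => sub_nonneg.mpr (hex i j))).mp h0 j
          (Finset.mem_univ j)
        omega
    · exfalso
      rw [h1] at hd
      have hF0 : ∑ j, Int.fract (σ i j) = 0 := by push_cast at hd; linarith
      have hall0 : ∀ j, Int.fract (σ i j) = 0 := fun j =>
        (Finset.sum_eq_zero_iff_of_nonneg (fun j _ => Int.fract_nonneg _)).mp hF0 j
          (Finset.mem_univ j)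
      have hall := hprop i hall0
      have hfl : ∀ i j, σ i j = ⌊σ i j⌋ := by
        intro i j
        have := Int.floor_add_fract (σ i j)
        rw [hall i j, add_zero] at this
        exact this.symm
      have hB : ∀ j, j ∈ B₀ := by
        intro j
        by_contra hj
        obtain ⟨⟨i', hi'⟩, _⟩ := hBmin j hj
        apply hne i' j
        rw [hfl i' j, hi']; simp
      have ht0 : ∀ j, t j = 0 := by intro j; simp [ht, hB j]
      simp only [ht0, sub_zero] at h1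
      have hnn : ∀ j, 0 ≤ ⌊σ i j⌋ := fun j => by have := hex i j; rw [ht0] at this; exact this
      have hn1 : ∀ j, ⌊σ i j⌋ ≠ 1 := by
        intro j hj1
        apply hne i j
        rw [hfl i j, hj1]; simp
      have hle : ∀ j, ⌊σ i j⌋ ≤ 1 := by
        intro j
        have := Finset.single_le_sum (f := fun j => ⌊σ i j⌋) (fun j _ => hnn j) (Finset.mem_univ j)
        rw [h1] at this
        exact this
      have hz : ∀ j, ⌊σ i j⌋ = 0 := by
        intro j; have := hnn j; have := hle j; have := hn1 j; omega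
      simp [hz] at h1
  exact ⟨fun i => (hmain i).1, fun i j => (hmain i).2 j⟩

end Groth.Agent.S16983
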