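import Groth.Statements.S16984
import Mathlib.Tactic
-- import your own Groth.Agent.* helpers here

set_option autoImplicit false
universe u v w
open Hoch

namespace Groth.Agent.S16984

open TensorProduct in
/-- Let k be a commutative ring, A a commutative k-bialgebra that is flat over k (the coordinate ring of
a flat affine group scheme over Spec k; flatness and commutativity are the standing hypotheses of
the appendix and are not needed for the assertion) and P a k-module. Then p ↦ p ⊗ 1 is an injection
of P into the induced comodule P ⊗ A (coaction id ⊗ Δ) whose image is exactly the submodule of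
invariants, i.e. the elements with coaction x ↦ x ⊗ 1. (The published statement writes the
coordinate-ring factor on the left and calls this module coinduced; this row is its degree-zero
part, the identification of P with the invariants of the coinduced module.) -/
theorem result (k : Type u) [CommRing k] (A : Type v) [CommRing A] [Bialgebra k A]
    [Module.Flat k A] (P : Type w) [AddCommGroup P] [Module k P] :
    Function.Injective ((Hoch.Ind.equiv k A P).toLinearMap ∘ₗ (TensorProduct.mk k P A).flip (1 : A)) ∧
    LinearMap.range ((Hoch.Ind.equiv k A P).toLinearMap ∘ₗ (TensorProduct.mk k P A).flip (1 : A)) =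
      HopfRep.fixedPts k A (Hoch.Ind k A P) := by
  have hιp : ∀ p : P, ((Hoch.Ind.equiv k A P).toLinearMap ∘ₗ (TensorProduct.mk k P A).flip (1 : A)) p =
      Hoch.Ind.equiv k A P (p ⊗ₜ[k] (1 : A)) := fun p => rfl
  -- the retraction-like map
  let Φ : (P ⊗[k] A) ⊗[k] A →ₗ[k] P ⊗[k] A :=
    ((TensorProduct.rid k P).toLinearMap ∘ₗ (Coalgebra.counit (R := k) (A := A)).lTensor P).rTensor A
  have hΦz : ∀ (p : P) (z : A ⊗[k] A), Φ ((TensorProduct.assoc k P A A).symm (p ⊗ₜ z)) =
      p ⊗ₜ[k] (TensorProduct.lid k A ((Coalgebra.counit (R := k) (A := A)).rTensor A z)) := by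
    intro p z
    induction z using TensorProduct.induction_on with
    | zero => simp
    | tmul a b =>
      simp only [Φ, TensorProduct.assoc_symm_tmul, LinearMap.rTensor_tmul, LinearMap.comp_apply,
        LinearMap.lTensor_tmul, LinearEquiv.coe_coe, TensorProduct.rid_tmul, TensorProduct.lid_tmul]
      rw [TensorProduct.smul_tmul]
    | add z w hz hw =>
      rw [TensorProduct.tmul_add, map_add, map_add, hz, hw, map_add, map_add, TensorProduct.tmul_add]
  have hΦ : ∀ y : P ⊗[k] A, Φ (Hoch.Ind.coactAux k A P y) = y := by
    intro y
    induction y using TensorProduct.induction_on with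
    | zero => simp
    | tmul p a =>
      rw [Hoch.Ind.coactAux_tmul, hΦz, Coalgebra.rTensor_counit_comul, TensorProduct.lid_tmul, one_smul]
    | add y w hy hw => rw [map_add, map_add, hy, hw]
  constructor
  · apply Function.LeftInverse.injective (g := Hoch.Ind.counit k A P)
    intro p
    rw [hιp, Hoch.Ind.counit_equiv_tmul, Bialgebra.counit_one, one_smul]
  · apply le_antisymm
    · rintro _ ⟨p, rfl⟩
      rw [hιp]
      show HopfRep.Comod.coact (k := k) (A := A) (V := Hoch.Ind k A P) (Hoch.Ind.equiv k A P (p ⊗ₜ[k] (1 : A))) =
        (Hoch.Ind.equiv k A P (p ⊗ₜ[k] (1 : A))) ⊗ₜ[k] (1 : A)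
      rw [Hoch.Ind.coact_equiv_tmul, Bialgebra.comul_one, Algebra.TensorProduct.one_def,
        TensorProduct.assoc_symm_tmul]
      rfl
    · intro x hx
      have hx' : Hoch.Ind.coactAux k A P x = (x : P ⊗[k] A) ⊗ₜ[k] (1 : A) := hx
      refine ⟨Hoch.Ind.counit k A P x, ?_⟩
      rw [hιp]
      have h1 := hΦ x
      rw [hx'] at h1
      simp only [Φ, LinearMap.rTensor_tmul] at h1
      exact h1

end Groth.Agent.S16984
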