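import Groth.Statements.S16985
import Mathlib.Tactic
-- import your own Groth.Agent.* helpers here

set_option autoImplicit false
universe u v
open Hoch

namespace Groth.Agent.S16985

section aux

open TensorProduct

variable (k : Type u) [CommRing k] (A : Type v) [CommRing A] [Bialgebra k A]

/-- naturality of `tail` -/
lemma tail_naturality {M M' : Type v} [AddCommGroup M] [Module k M] [AddCommGroup M'] [Module k M']
    (f : M →ₗ[k] M') :
    (f.rTensor A).rTensor A ∘ₗ Hoch.tail k A M = Hoch.tail k A M' ∘ₗ f.rTensor A := by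
  have key : ∀ (m : M) (z : A ⊗[k] A),
      ((f.rTensor A).rTensor A) ((TensorProduct.assoc k M A A).symm (m ⊗ₜ z)) =
        (TensorProduct.assoc k M' A A).symm (f m ⊗ₜ z) := by
    intro m z
    induction z using TensorProduct.induction_on with
    | zero => simp
    | tmul a b => simp
    | add z w hz hw => rw [TensorProduct.tmul_add, map_add, map_add, hz, hw, TensorProduct.tmul_add, map_add]
  apply TensorProduct.ext'
  intro m a
  rw [LinearMap.comp_apply, LinearMap.comp_apply, Hoch.tail_tmul, key, LinearMap.rTensor_tmul,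
    Hoch.tail_tmul]

variable (P : Type v) [AddCommGroup P] [Module k P]

/-- `(p ⊗ a) ⊗ b ↦ ε(a) p ⊗ b` -/
noncomputable def Φ : (P ⊗[k] A) ⊗[k] A →ₗ[k] P ⊗[k] A :=
  ((TensorProduct.rid k P).toLinearMap ∘ₗ (Coalgebra.counit (R := k) (A := A)).lTensor P).rTensor A

lemma Φ_tmul (p : P) (a b : A) : Φ k A P ((p ⊗ₜ a) ⊗ₜ b) = (Coalgebra.counit (R := k) a • p) ⊗ₜ b := by
  simp [Φ]

lemma Φ_assoc_symm (p : P) (z : A ⊗[k] A) :
    Φ k A P ((TensorProduct.assoc k P A A).symm (p ⊗ₜ z)) =
      p ⊗ₜ[k] (TensorProduct.lid k A ((Coalgebra.counit (R := k) (A := A)).rTensor A z)) := by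
  induction z using TensorProduct.induction_on with
  | zero => simp
  | tmul a b =>
    simp only [Φ, TensorProduct.assoc_symm_tmul, LinearMap.rTensor_tmul, LinearMap.comp_apply,
      LinearMap.lTensor_tmul, LinearEquiv.coe_coe, TensorProduct.rid_tmul, TensorProduct.lid_tmul]
    rw [TensorProduct.smul_tmul]
  | add z w hz hw =>
    rw [TensorProduct.tmul_add, map_add, map_add, hz, hw, map_add, map_add, TensorProduct.tmul_add]

lemma Φ_coactAux (y : P ⊗[k] A) : Φ k A P (Hoch.Ind.coactAux k A P y) = y := by
  induction y using TensorProduct.induction_on with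
  | zero => simp
  | tmul p a =>
    rw [Hoch.Ind.coactAux_tmul, Φ_assoc_symm, Coalgebra.rTensor_counit_comul, TensorProduct.lid_tmul,
      one_smul]
  | add y w hy hw => rw [map_add, map_add, hy, hw]

lemma Φ_rTensor_assoc_symm (p : P) (a : A) (z : A ⊗[k] A) :
    ((Φ k A P).rTensor A) ((TensorProduct.assoc k (P ⊗[k] A) A A).symm ((p ⊗ₜ a) ⊗ₜ z)) =
      (TensorProduct.assoc k P A A).symm ((Coalgebra.counit (R := k) a • p) ⊗ₜ z) := by
  induction z using TensorProduct.induction_on with
  | zero => simp
  | tmul b c => simp [Φ_tmul]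
  | add z w hz hw => rw [TensorProduct.tmul_add, map_add, map_add, hz, hw, TensorProduct.tmul_add, map_add]

/-- cochains of the induced comodule -/
abbrev C (n : ℕ) : Type v := (Hoch.cochain k A (Hoch.Ind k A P) n : Type v)

/-- the contracting homotopy -/
noncomputable def s : (n : ℕ) → (C k A P (n + 1) →ₗ[k] C k A P n)
  | 0 => Φ k A P
  | n + 1 => (s n).rTensor A

lemma s_zero : s k A P 0 = Φ k A P := rfl

lemma s_succ (n : ℕ) : s k A P (n + 1) = (s k A P n).rTensor A := rfl

/-- `d 0` in plain tensor types -/
noncomputable def d0' : P ⊗[k] A →ₗ[k] (P ⊗[k] A) ⊗[k] A :=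
  Hoch.Ind.coactAux k A P - (TensorProduct.mk k (P ⊗[k] A) A).flip 1

lemma homotopy_zero' :
    (Φ k A P).rTensor A ∘ₗ ((d0' k A P).rTensor A + ((-1 : k) ^ (0 + 1)) • Hoch.tail k A (P ⊗[k] A)) +
      d0' k A P ∘ₗ Φ k A P = LinearMap.id := by
  apply TensorProduct.ext_threefold
  intro p a b
  simp only [LinearMap.add_apply, LinearMap.comp_apply, LinearMap.id_apply, LinearMap.smul_apply,
    LinearMap.rTensor_tmul, d0', LinearMap.sub_apply, LinearMap.flip_apply, TensorProduct.mk_apply,
    Hoch.tail_tmul, Hoch.Ind.coactAux_tmul, Φ_tmul, zero_add, pow_one, neg_smul, one_smul, map_add,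
    map_neg, map_sub, TensorProduct.sub_tmul, TensorProduct.tmul_sub, Φ_rTensor_assoc_symm,
    Φ_assoc_symm, Coalgebra.rTensor_counit_comul, TensorProduct.lid_tmul,
    TensorProduct.assoc_symm_tmul]
  rw [map_smul, map_sub, map_sub, Φ_rTensor_assoc_symm]
  simp only [LinearMap.rTensor_tmul, Φ_tmul]
  module

lemma homotopy_zero :
    s k A P 1 ∘ₗ Hoch.d k A (Hoch.Ind k A P) 1 + Hoch.d k A (Hoch.Ind k A P) 0 ∘ₗ s k A P 0 =
      LinearMap.id :=
  homotopy_zero' k A P

lemma homotopy (n : ℕ) :
    s k A P (n + 1) ∘ₗ Hoch.d k A (Hoch.Ind k A P) (n + 1) +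
      Hoch.d k A (Hoch.Ind k A P) n ∘ₗ s k A P n = LinearMap.id := by
  induction n with
  | zero => exact homotopy_zero k A P
  | succ n ih =>
    have nat := tail_naturality k A (s k A P n)
    rw [Hoch.d_succ k A _ (n + 1), Hoch.d_succ k A _ n, s_succ k A P (n + 1)]
    rw [LinearMap.comp_add, LinearMap.add_comp, LinearMap.comp_smul, LinearMap.smul_comp,
      ← LinearMap.rTensor_comp]
    conv_lhs =>
      enter [1, 2, 2]
      rw [s_succ k A P n, nat]
    rw [s_succ k A P n, ← LinearMap.rTensor_comp]
    have hsign : ((-1 : k) ^ (n + 1 + 1)) = - ((-1 : k) ^ (n + 1)) := by ring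
    rw [hsign, neg_smul]
    have : ∀ (x y z : C k A P (n + 1 + 1) →ₗ[k] C k A P (n + 1 + 1)), x + -z + (y + z) = x + y := by
      intro x y z; abel
    rw [Hoch.d_succ k A _ n, s_succ k A P n] at ih
    rw [this, ← LinearMap.rTensor_add, ih, LinearMap.rTensor_id]

end aux

open TensorProduct in
/-- Let k be a commutative ring, A a commutative k-bialgebra flat over k (the coordinate ring of a flat
affine group scheme over Spec k; flatness and commutativity are the standing hypotheses of the
appendix and are not needed for the assertion) and P a k-module. Then the cochain complex of the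
induced comodule P ⊗ A (coaction id ⊗ Δ), with n-cochains (P ⊗ A) ⊗ A ⊗ ⋯ ⊗ A, has every
(n+1)-cocycle an (n+1)-coboundary, for all n. (The published statement is the vanishing of the
higher derived functors of invariants on coinduced modules; this row states the vanishing in
positive degrees of the cohomology of the cochain complex above, which the same appendix identifies
with those derived functors. P is taken in the universe of A, as the cochain modules require.) -/
theorem result (k : Type u) [CommRing k] (A : Type v) [CommRing A]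
    [Bialgebra k A] [Module.Flat k A] (P : Type v) [AddCommGroup P] [Module k P] (n : ℕ) :
    Hoch.cocycles k A (Hoch.Ind k A P) (n + 1) ≤ Hoch.coboundaries k A (Hoch.Ind k A P) (n + 1) := by
  intro x hx
  have hx0 : Hoch.d k A (Hoch.Ind k A P) (n + 1) x = 0 := hx
  have h := LinearMap.congr_fun (homotopy k A P n) x
  rw [LinearMap.add_apply, LinearMap.comp_apply, LinearMap.comp_apply, hx0, map_zero, zero_add,
    LinearMap.id_apply] at h
  exact ⟨s k A P n x, h⟩

end Groth.Agent.S16985
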