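import Groth.Statements.S1699
import Groth.Agent.Lib.Helper29.QCohUnit
import Mathlib.AlgebraicGeometry.Noetherian

set_option autoImplicit false
universe u
open CategoryTheory CategoryTheory.Limits AlgebraicGeometry TopologicalSpace
open SDiv

namespace Groth.Agent.S1699

/-- (1) if and only if (3): let X be a locally Noetherian scheme and U an open subscheme. Then U is
scheme-theoretically dense in X if and only if U contains every associated point of X (every point
whose local ring has its maximal ideal as an associated prime). -/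
theorem result (X : Scheme.{u}) [IsLocallyNoetherian X] (U : X.Opens) :
    CInt.IsSchematicallyDense U ↔ ∀ x : ↥X, IsAssociatedPrime (IsLocalRing.maximalIdeal ↑(X.presheaf.stalk x)) ↑(X.presheaf.stalk x) → x ∈ U := by
  classical
  let F := Coh.structureModule X
  have hloc : ∀ V : X.Opens, IsAffineOpen V → Groth.Agent.Lib.Helper29.QCohLoc.LocAt F V :=
    fun V hV => Groth.Agent.Lib.Helper29.QCohLoc.locAt_structureModule X hV
  constructor
  · intro hdense x hx
    by_contra hxU
    have hx1 : Curv2.IsWeakAssPoint F x :=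
      (Groth.Agent.Lib.Helper29.QCohLoc.isAssPoint_iff_isWeakAssPoint F x).mp
        ((Groth.Agent.Lib.Helper29.QCohLoc.isAssPoint_structureModule_iff X x).mpr hx)
    obtain ⟨W, hW, hxW, -⟩ :=
      exists_isAffineOpen_mem_and_subset (X := X) (x := x) (U := ⊤) trivial
    have hnoeth : IsNoetherianRing Γ(X, W) :=
      IsLocallyNoetherian.component_noetherian ⟨W, hW⟩
    obtain ⟨s, hs⟩ :=
      (Groth.Agent.Lib.Helper29.QCohLoc.isWeakAssPoint_iff F hW (hloc W hW) x hxW).mp hx1
    have hcolon : ∀ t : Γ(F, W), Groth.Agent.Lib.Helper29.QCohLoc.ann F t =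
        (⊥ : Submodule Γ(X, W) Γ(F, W)).colon {t} := by
      intro t
      ext r
      rw [Groth.Agent.Lib.Helper29.QCohLoc.mem_ann, Submodule.mem_colon_singleton,
        Submodule.mem_bot]
    rw [hcolon] at hs
    obtain ⟨s', hs'⟩ := Submodule.exists_eq_colon_of_mem_minimalPrimes hs
    rw [← hcolon] at hs'
    -- the section `s'` vanishes on `W ⊓ U`
    have hvan : F.presheaf.map (homOfLE (inf_le_left : W ⊓ U ≤ W)).op s' = 0 := by
      refine TopCat.Presheaf.section_ext ⟨F.presheaf, F.isSheaf⟩ (W ⊓ U) _ 0 (fun y hy => ?_)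
      rw [map_zero]
      have hyW : y ∈ W := hy.1
      have hyU : y ∈ U := hy.2
      change F.presheaf.germ (W ⊓ U) y hy (F.presheaf.map (homOfLE inf_le_left).op s') = 0
      rw [Groth.Agent.Lib.Helper29.QCohLoc.germ_res F W (W ⊓ U) inf_le_left y hy s',
        Groth.Agent.Lib.Helper29.QCohLoc.germ_eq_zero_iff F hW (hloc W hW) y hyW s']
      obtain ⟨a, ha1, ha2⟩ := hW.exists_basicOpen_le (V := U) ⟨y, hyU⟩ hyW
      refine ⟨a, ha2, ?_⟩
      rw [← Groth.Agent.Lib.Helper29.QCohLoc.mem_ann, ← hs',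
        Groth.Agent.Lib.Helper29.QCohLoc.mem_primeIdealOf_iff]
      exact fun hxa => hxU (ha1 hxa)
    have hzero : s' = 0 := by
      have h1 : X.presheaf.map (homOfLE (inf_le_left : W ⊓ U ≤ W)).op
          (Groth.Agent.Lib.Helper29.QCohLoc.toSec X s') = 0 := hvan
      have h2 := hdense W (h1.trans (map_zero _).symm)
      exact h2
    have htop : Groth.Agent.Lib.Helper29.QCohLoc.ann F s' = ⊤ := by
      rw [Ideal.eq_top_iff_one, Groth.Agent.Lib.Helper29.QCohLoc.mem_ann, hzero, smul_zero]
    rw [htop] at hs'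
    exact (hW.primeIdealOf ⟨x, hxW⟩).isPrime.ne_top hs'
  · intro hass V
    rw [injective_iff_map_eq_zero]
    intro s hs
    by_contra hne
    have hne' : Groth.Agent.Lib.Helper29.QCohLoc.ofSec X s ≠ 0 := hne
    obtain ⟨y, hyV, hy1, hy2⟩ :=
      Groth.Agent.Lib.Helper29.QCohLoc.exists_isWeakAssPoint_of_section_ne_zero' F hloc V _ hne'
    have hyU : y ∈ U := hass y
      ((Groth.Agent.Lib.Helper29.QCohLoc.isAssPoint_structureModule_iff X y).mp
        ((Groth.Agent.Lib.Helper29.QCohLoc.isAssPoint_iff_isWeakAssPoint F y).mpr hy1))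
    apply hy2
    have hyVU : y ∈ V ⊓ U := ⟨hyV, hyU⟩
    rw [← Groth.Agent.Lib.Helper29.QCohLoc.germ_res F V (V ⊓ U) inf_le_left y hyVU]
    have h3 : F.presheaf.map (homOfLE (inf_le_left : V ⊓ U ≤ V)).op
        (Groth.Agent.Lib.Helper29.QCohLoc.ofSec X s) = 0 := hs
    rw [h3, map_zero]

end Groth.Agent.S1699
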