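import Groth.Statements.S16991
import Mathlib
import Groth.Agent.Lib.Helper31.Symp2

set_option autoImplicit false
universe u v
open QuadGrp

namespace Groth.Agent.S16991

/-- Over a commutative ring in which 2 = 0, for a quadratic form Q on a finite free module of even rank
2m ≥ 2 whose polar form is a perfect pairing, every isometry of Q has determinant one. (The
published statement is the equality of the naive special orthogonal group with the orthogonal group
on fibres in characteristic 2; its proof gives this equality over every base of characteristic 2,
which is the form stated.) -/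
theorem result {R : Type u} [CommRing R] [CharP R 2]
    {M : Type v} [AddCommGroup M] [Module R M] [Module.Free R M] [Module.Finite R M]
    (m : ℕ) (hm : 1 ≤ m) (hM : Module.finrank R M = 2 * m) (Q : QuadraticForm R M) (hQ : QuadGrp.IsRegular Q) :
    QuadGrp.O Q = QuadGrp.SO' Q := by
  classical
  apply le_antisymm
  · intro g hg
    refine ⟨hg, ?_⟩
    change LinearEquiv.det g = 1
    apply Units.ext
    rw [LinearEquiv.coe_det, Units.val_one]
    have h2 : (2 : R) = 0 := CharTwo.two_eq_zero
    set B : M →ₗ[R] M →ₗ[R] R := QuadraticMap.polarBilin Q with hBdef
    have hBapp : ∀ x y, B x y = QuadraticMap.polar Q x y := fun x y => rfl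
    have halt : ∀ x, B x x = 0 := by
      intro x
      rw [hBapp, QuadraticMap.polar_self]
      first | (rw [two_nsmul]; exact CharTwo.add_self_eq_zero _) | (rw [two_smul]; exact CharTwo.add_self_eq_zero _)
    have hsymm : ∀ x y, B x y = B y x := fun x y => QuadraticMap.polar_comm Q x y
    have hg' : ∀ x y, B (g x) (g y) = B x y := by
      intro x y
      have hgQ := (QuadGrp.mem_O Q g).1 hg
      simp only [hBapp, QuadraticMap.polar, ← map_add, hgQ]
    let e := Module.Free.chooseBasis R M
    have hdet := Groth.Agent.Lib.Helper31.Symp.det_eq_one_of_alt_global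
      (LinearMap.toMatrix₂ e e B) (LinearMap.toMatrix e e (g : M →ₗ[R] M))
      (by intro i; simp [halt])
      (by intro i j; simp only [LinearMap.toMatrix₂_apply]; rw [CharTwo.neg_eq]; exact hsymm _ _)
      (by
        have h1 := LinearEquiv.isUnit_det (LinearEquiv.ofBijective B hQ) e e.dualBasis
        have h3 : LinearMap.toMatrix e e.dualBasis (LinearEquiv.ofBijective B hQ : M →ₗ[R] Module.Dual R M)
            = Matrix.transpose (LinearMap.toMatrix₂ e e B) := by
          ext i j
          simp [LinearMap.toMatrix_apply]
        rw [h3, Matrix.det_transpose] at h1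
        exact h1)
      (by
        have hcomp : B.compl₁₂ (g : M →ₗ[R] M) (g : M →ₗ[R] M) = B := by
          ext x y; simp [hg']
        have := LinearMap.toMatrix₂_compl₁₂ e e e e B (g : M →ₗ[R] M) (g : M →ₗ[R] M)
        rw [hcomp] at this
        exact this.symm)
    rwa [LinearMap.det_toMatrix] at hdet
  · exact inf_le_left

end Groth.Agent.S16991
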