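import Groth.Statements.S17016
-- import your own Groth.Agent.* helpers here
import Mathlib.Tactic.NoncommRing
import Mathlib.LinearAlgebra.CliffordAlgebra.Basic
import Mathlib.Logic.Equiv.Fin.Basic

set_option autoImplicit false
universe u
open QuadGrp

namespace Groth.Agent.S17016

section Abstract

variable {A : Type*} [Ring A] {ι : Type*}

theorem prod_sq (u : ι → A) (hu : ∀ i, u i * u i = 1) (hc : ∀ i k, u i * u k = u k * u i) :
    ∀ L : List ι, (L.map u).prod * (L.map u).prod = 1 := by
  intro L
  induction L with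
  | nil => simp
  | cons i L ih =>
    have hcomm : Commute (u i) (L.map u).prod := by
      apply Commute.list_prod_right
      intro x hx
      obtain ⟨k, _, rfl⟩ := List.mem_map.1 hx
      exact hc i k
    simp only [List.map_cons, List.prod_cons]
    calc u i * (L.map u).prod * (u i * (L.map u).prod)
        = u i * ((L.map u).prod * u i) * (L.map u).prod := by noncomm_ring
      _ = u i * (u i * (L.map u).prod) * (L.map u).prod := by rw [hcomm.eq]
      _ = (u i * u i) * ((L.map u).prod * (L.map u).prod) := by noncomm_ring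
      _ = 1 := by rw [hu, ih, one_mul]

theorem prod_anti [DecidableEq ι] (u : ι → A) (x : A) (i₀ : ι) (hx0 : x * u i₀ = -(u i₀ * x))
    (hx : ∀ i, i ≠ i₀ → x * u i = u i * x) :
    ∀ L : List ι, L.Nodup → (i₀ ∉ L → x * (L.map u).prod = (L.map u).prod * x) ∧
      (i₀ ∈ L → x * (L.map u).prod = -((L.map u).prod * x)) := by
  intro L
  induction L with
  | nil => intro _; simp
  | cons i L ih =>
    intro hnd
    rw [List.nodup_cons] at hnd
    obtain ⟨ih1, ih2⟩ := ih hnd.2
    simp only [List.map_cons, List.prod_cons, List.mem_cons, not_or]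
    by_cases hi : i = i₀
    · subst hi
      refine ⟨fun h => absurd rfl h.1, fun _ => ?_⟩
      have hP := ih1 hnd.1
      calc x * (u i * (L.map u).prod) = (x * u i) * (L.map u).prod := by noncomm_ring
        _ = -(u i * (x * (L.map u).prod)) := by rw [hx0]; noncomm_ring
        _ = -(u i * (L.map u).prod * x) := by rw [hP]; noncomm_ring
    · have hxi := hx i hi
      refine ⟨fun h => ?_, fun h => ?_⟩
      · have hP := ih1 h.2
        calc x * (u i * (L.map u).prod) = (x * u i) * (L.map u).prod := by noncomm_ring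
          _ = u i * (x * (L.map u).prod) := by rw [hxi]; noncomm_ring
          _ = u i * (L.map u).prod * x := by rw [hP]; noncomm_ring
      · have hmem : i₀ ∈ L := by
          rcases h with h | h
          · exact absurd h.symm hi
          · exact h
        have hP := ih2 hmem
        calc x * (u i * (L.map u).prod) = (x * u i) * (L.map u).prod := by noncomm_ring
          _ = u i * (x * (L.map u).prod) := by rw [hxi]; noncomm_ring
          _ = -(u i * (L.map u).prod * x) := by rw [hP]; noncomm_ring

/-- relations for a hyperbolic pair -/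
theorem pair_rel (a b : A) (haa : a * a = 0) (hbb : b * b = 0) (hab : a * b + b * a = 1) :
    (1 - 2 * (a * b)) * (1 - 2 * (a * b)) = 1 ∧
    a * (1 - 2 * (a * b)) = -((1 - 2 * (a * b)) * a) ∧
    b * (1 - 2 * (a * b)) = -((1 - 2 * (a * b)) * b) := by
  have hba : b * a = 1 - a * b := by rw [← hab]; noncomm_ring
  have hpp : a * b * (a * b) = a * b := by
    calc a * b * (a * b) = a * (b * a) * b := by noncomm_ring
      _ = a * (1 - a * b) * b := by rw [hba]
      _ = a * b - (a * a) * (b * b) := by noncomm_ring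
      _ = a * b := by rw [haa]; simp
  have h1 : a * (a * b) = 0 := by rw [← mul_assoc, haa, zero_mul]
  have h2 : a * b * a = a := by
    calc a * b * a = a * (b * a) := by noncomm_ring
      _ = a * (1 - a * b) := by rw [hba]
      _ = a - (a * a) * b := by noncomm_ring
      _ = a := by rw [haa]; simp
  have h3 : b * (a * b) = b := by
    calc b * (a * b) = (b * a) * b := by noncomm_ring
      _ = (1 - a * b) * b := by rw [hba]
      _ = b - a * (b * b) := by noncomm_ring
      _ = b := by rw [hbb]; simp
  have h4 : a * b * b = 0 := by rw [mul_assoc, hbb, mul_zero]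
  refine ⟨?_, ?_, ?_⟩
  · calc (1 - 2 * (a * b)) * (1 - 2 * (a * b))
        = 1 - 4 * (a * b) + 4 * (a * b * (a * b)) := by noncomm_ring
      _ = 1 := by rw [hpp]; noncomm_ring
  · calc a * (1 - 2 * (a * b)) = a - 2 * (a * (a * b)) := by noncomm_ring
      _ = a := by rw [h1]; simp
      _ = -(a - 2 * (a * b * a)) := by rw [h2]; noncomm_ring
      _ = -((1 - 2 * (a * b)) * a) := by noncomm_ring
  · calc b * (1 - 2 * (a * b)) = b - 2 * (b * (a * b)) := by noncomm_ring
      _ = -b := by rw [h3]; noncomm_ring
      _ = -(b - 2 * (a * b * b)) := by rw [h4]; simp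
      _ = -((1 - 2 * (a * b)) * b) := by noncomm_ring

/-- an element anticommuting with both `a` and `b` commutes with `1 - 2ab` -/
theorem comm_of_anti (a b x : A) (hxa : x * a = -(a * x)) (hxb : x * b = -(b * x)) :
    x * (1 - 2 * (a * b)) = (1 - 2 * (a * b)) * x := by
  have h : x * (a * b) = a * b * x := by
    calc x * (a * b) = (x * a) * b := by noncomm_ring
      _ = -(a * (x * b)) := by rw [hxa]; noncomm_ring
      _ = a * b * x := by rw [hxb]; noncomm_ring
  calc x * (1 - 2 * (a * b)) = x - 2 * (x * (a * b)) := by noncomm_ring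
    _ = x - 2 * (a * b * x) := by rw [h]
    _ = (1 - 2 * (a * b)) * x := by noncomm_ring

end Abstract

theorem comm_of_comm {A : Type*} [Ring A] (a b U : A) (ha : a * U = U * a) (hb : b * U = U * b) :
    (1 - 2 * (a * b)) * U = U * (1 - 2 * (a * b)) := by
  have h : a * b * U = U * (a * b) := by
    calc a * b * U = a * (b * U) := by noncomm_ring
      _ = (a * U) * b := by rw [hb]; noncomm_ring
      _ = U * (a * b) := by rw [ha]; noncomm_ring
  calc (1 - 2 * (a * b)) * U = U - 2 * (a * b * U) := by noncomm_ring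
    _ = U - 2 * (U * (a * b)) := by rw [h]
    _ = U * (1 - 2 * (a * b)) := by noncomm_ring

section Form

variable (R : Type u) [CommRing R]

theorem splitForm_apply (n : ℕ) (h0 : n % 2 = 0) (x : Fin n → R) :
    QuadGrp.splitForm R n x =
      ∑ i : Fin (n / 2), x (⟨2 * i + n % 2, by omega⟩ : Fin n) * x (⟨2 * i + 1 + n % 2, by omega⟩ : Fin n) := by
  unfold QuadGrp.splitForm
  have h1 : ¬ n % 2 = 1 := by omega
  simp only [sum_apply, QuadraticMap.linMulLin_apply,
    LinearMap.proj_apply, dif_neg h1, add_zero]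

theorem polar_splitForm (n : ℕ) (h0 : n % 2 = 0) (x y : Fin n → R) :
    QuadraticMap.polar (QuadGrp.splitForm R n) x y =
      ∑ i : Fin (n / 2), (x (⟨2 * i + n % 2, by omega⟩ : Fin n) * y (⟨2 * i + 1 + n % 2, by omega⟩ : Fin n) +
        y (⟨2 * i + n % 2, by omega⟩ : Fin n) * x (⟨2 * i + 1 + n % 2, by omega⟩ : Fin n)) := by
  simp only [QuadraticMap.polar, splitForm_apply R n h0, Pi.add_apply]
  rw [← Finset.sum_sub_distrib, ← Finset.sum_sub_distrib]
  refine Finset.sum_congr rfl fun i _ => ?_
  ring

theorem splitForm_single (n : ℕ) (h0 : n % 2 = 0) (j : Fin n) :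
    QuadGrp.splitForm R n (Pi.single j 1) = 0 := by
  rw [splitForm_apply R n h0]
  refine Finset.sum_eq_zero fun i _ => ?_
  simp only [Pi.single_apply]
  by_cases h1 : (⟨2 * i + n % 2, by omega⟩ : Fin n) = j
  · have h2 : ¬ (⟨2 * i + 1 + n % 2, by omega⟩ : Fin n) = j := by
      intro h2
      have := congrArg Fin.val (h1.trans h2.symm)
      simp at this
    simp [h2]
  · simp [h1]

theorem polar_single_of_ne (n : ℕ) (h0 : n % 2 = 0) (j k : Fin n) (hjk : j.val / 2 ≠ k.val / 2) :
    QuadraticMap.polar (QuadGrp.splitForm R n) (Pi.single j 1) (Pi.single k 1) = 0 := by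
  rw [polar_splitForm R n h0]
  refine Finset.sum_eq_zero fun i _ => ?_
  simp only [Pi.single_apply]
  have key : ∀ (a c : Fin n), a.val / 2 ≠ c.val / 2 →
      (if (⟨2 * i + n % 2, by omega⟩ : Fin n) = a then (1 : R) else 0) *
        (if (⟨2 * i + 1 + n % 2, by omega⟩ : Fin n) = c then (1 : R) else 0) = 0 := by
    intro a c hac
    by_cases h1 : (⟨2 * i + n % 2, by omega⟩ : Fin n) = a
    · by_cases h2 : (⟨2 * i + 1 + n % 2, by omega⟩ : Fin n) = c
      · exfalso
        have e1 := congrArg Fin.val h1
        have e2 := congrArg Fin.val h2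
        simp only at e1 e2
        omega
      · simp [h2]
    · simp [h1]
  rw [key j k hjk, key k j (Ne.symm hjk), add_zero]

theorem polar_single_pair (m : ℕ) (i₀ : Fin m) :
    QuadraticMap.polar (QuadGrp.splitForm R (m * 2))
      (Pi.single (finProdFinEquiv (i₀, (0 : Fin 2))) 1) (Pi.single (finProdFinEquiv (i₀, (1 : Fin 2))) 1) = 1 := by
  have h0 : m * 2 % 2 = 0 := Nat.mul_mod_left m 2
  rw [polar_splitForm R (m * 2) h0]
  have hi : i₀.val < m * 2 / 2 := by
    have := i₀.isLt
    omega
  rw [Finset.sum_eq_single (⟨i₀.val, hi⟩ : Fin (m * 2 / 2))]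
  · simp only [Pi.single_apply]
    have e1 : ((finProdFinEquiv (i₀, (0 : Fin 2)) : Fin (m * 2)) : ℕ) = 0 + 2 * i₀.val := by
      simp [finProdFinEquiv]
    have e2 : ((finProdFinEquiv (i₀, (1 : Fin 2)) : Fin (m * 2)) : ℕ) = 1 + 2 * i₀.val := by
      simp [finProdFinEquiv]
    have c1 : (⟨2 * i₀.val + m * 2 % 2, by omega⟩ : Fin (m * 2)) = finProdFinEquiv (i₀, (0 : Fin 2)) := by
      apply Fin.ext
      simp only
      omega
    have c2 : (⟨2 * i₀.val + 1 + m * 2 % 2, by omega⟩ : Fin (m * 2)) = finProdFinEquiv (i₀, (1 : Fin 2)) := by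
      apply Fin.ext
      simp only
      omega
    have c3 : ¬ (⟨2 * i₀.val + m * 2 % 2, by omega⟩ : Fin (m * 2)) = finProdFinEquiv (i₀, (1 : Fin 2)) := by
      intro h
      have := congrArg Fin.val h
      simp only at this
      omega
    simp only [c1, c2] at c3 ⊢
    simp [c3]
  · intro i _ hi'
    simp only [Pi.single_apply]
    have e1 : ((finProdFinEquiv (i₀, (0 : Fin 2)) : Fin (m * 2)) : ℕ) = 0 + 2 * i₀.val := by
      simp [finProdFinEquiv]
    have e2 : ((finProdFinEquiv (i₀, (1 : Fin 2)) : Fin (m * 2)) : ℕ) = 1 + 2 * i₀.val := by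
      simp [finProdFinEquiv]
    have hne : i.val ≠ i₀.val := fun h => hi' (Fin.ext h)
    have c1 : ¬ (⟨2 * i.val + m * 2 % 2, by omega⟩ : Fin (m * 2)) = finProdFinEquiv (i₀, (0 : Fin 2)) := by
      intro h
      have := congrArg Fin.val h
      simp only at this
      omega
    have c2 : ¬ (⟨2 * i.val + m * 2 % 2, by omega⟩ : Fin (m * 2)) = finProdFinEquiv (i₀, (1 : Fin 2)) := by
      intro h
      have := congrArg Fin.val h
      simp only at this
      omega
    rw [if_neg c1, if_neg c2, zero_mul, zero_mul, add_zero]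
  · intro h
    exact absurd (Finset.mem_univ _) h

end Form

theorem idx_val_div (m : ℕ) (i : Fin m) (r : Fin 2) :
    ((finProdFinEquiv (i, r) : Fin (m * 2)) : ℕ) / 2 = i.val := by
  have e : ((finProdFinEquiv (i, r) : Fin (m * 2)) : ℕ) = r.val + 2 * i.val := by
    simp [finProdFinEquiv]
  rw [e]
  have := r.isLt
  omega

/-- For the standard split quadratic form Σ x_{2i} x_{2i+1} on R^{2m} over any commutative ring R, with
standard basis vectors e_j in the Clifford algebra, the product w of the elements 1 − 2 e_{2i}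
e_{2i+1} (i < m, which pairwise commute) satisfies w² = 1 and anticommutes with every e_j. (Hence w
is central in the even Clifford algebra; over rings in which 2 is invertible (1 − w)/2 is the
non-trivial central idempotent of the even part.) -/
theorem result (R : Type u) [CommRing R] (m : ℕ) :
    let Q := QuadGrp.splitForm R (m * 2)
    let e : Fin (m * 2) → CliffordAlgebra Q := fun j => CliffordAlgebra.ι Q (Pi.single j 1)
    let w : CliffordAlgebra Q :=
      ((List.finRange m).map fun i => 1 - 2 * (e (finProdFinEquiv (i, 0)) * e (finProdFinEquiv (i, 1)))).prod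
    w * w = 1 ∧ ∀ j : Fin (m * 2), e j * w = -(w * e j) := by
  intro Q e w
  have h0 : m * 2 % 2 = 0 := Nat.mul_mod_left m 2
  have R1 : ∀ j, e j * e j = 0 := by
    intro j
    show CliffordAlgebra.ι Q (Pi.single j 1) * CliffordAlgebra.ι Q (Pi.single j 1) = 0
    rw [CliffordAlgebra.ι_sq_scalar]
    have : Q (Pi.single j 1) = 0 := splitForm_single R (m * 2) h0 j
    rw [this, map_zero]
  have R2 : ∀ i : Fin m, e (finProdFinEquiv (i, 0)) * e (finProdFinEquiv (i, 1)) +
      e (finProdFinEquiv (i, 1)) * e (finProdFinEquiv (i, 0)) = 1 := by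
    intro i
    show CliffordAlgebra.ι Q _ * CliffordAlgebra.ι Q _ + CliffordAlgebra.ι Q _ * CliffordAlgebra.ι Q _ = 1
    rw [CliffordAlgebra.ι_mul_ι_add_swap]
    have : QuadraticMap.polar Q (Pi.single (finProdFinEquiv (i, (0 : Fin 2))) 1)
        (Pi.single (finProdFinEquiv (i, (1 : Fin 2))) 1) = 1 := polar_single_pair R m i
    rw [this, map_one]
  have R3 : ∀ j k : Fin (m * 2), j.val / 2 ≠ k.val / 2 → e j * e k = -(e k * e j) := by
    intro j k hjk
    have h1 : e j * e k + e k * e j = 0 := by
      show CliffordAlgebra.ι Q _ * CliffordAlgebra.ι Q _ + CliffordAlgebra.ι Q _ * CliffordAlgebra.ι Q _ = 0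
      rw [CliffordAlgebra.ι_mul_ι_add_swap]
      have : QuadraticMap.polar Q (Pi.single j 1) (Pi.single k 1) = 0 :=
        polar_single_of_ne R (m * 2) h0 j k hjk
      rw [this, map_zero]
    exact eq_neg_of_add_eq_zero_left h1
  set u : Fin m → CliffordAlgebra Q :=
    fun i => 1 - 2 * (e (finProdFinEquiv (i, 0)) * e (finProdFinEquiv (i, 1))) with hu
  have hw : w = ((List.finRange m).map u).prod := rfl
  have P : ∀ i : Fin m, u i * u i = 1 ∧
      e (finProdFinEquiv (i, 0)) * u i = -(u i * e (finProdFinEquiv (i, 0))) ∧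
      e (finProdFinEquiv (i, 1)) * u i = -(u i * e (finProdFinEquiv (i, 1))) := fun i =>
    pair_rel _ _ (R1 _) (R1 _) (R2 i)
  have U2 : ∀ (j : Fin (m * 2)) (i : Fin m), j.val / 2 ≠ i.val → e j * u i = u i * e j := by
    intro j i hji
    apply comm_of_anti
    · exact R3 _ _ (by rw [idx_val_div]; exact hji)
    · exact R3 _ _ (by rw [idx_val_div]; exact hji)
  have hc : ∀ i k, u i * u k = u k * u i := by
    intro i k
    by_cases hik : i = k
    · subst hik; rfl
    · have hne : i.val ≠ k.val := fun h => hik (Fin.ext h)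
      exact comm_of_comm _ _ _ (U2 _ k (by rw [idx_val_div]; exact hne))
        (U2 _ k (by rw [idx_val_div]; exact hne))
  refine ⟨?_, ?_⟩
  · rw [hw]
    exact prod_sq u (fun i => (P i).1) hc _
  · intro j
    obtain ⟨⟨i₀, r⟩, rfl⟩ := (finProdFinEquiv (m := m) (n := 2)).surjective j
    rw [hw]
    refine (prod_anti u _ i₀ ?_ ?_ (List.finRange m) (List.nodup_finRange m)).2 (List.mem_finRange i₀)
    · fin_cases r
      · exact (P i₀).2.1
      · exact (P i₀).2.2
    · intro i hi
      apply U2
      rw [idx_val_div]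
      exact fun h => hi (Fin.ext h.symm)

end Groth.Agent.S17016
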