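import Groth.Statements.S17018
import Groth.Agent.Lib.Helper7.StalkKer
import Mathlib.AlgebraicGeometry.Morphisms.ClosedImmersion

set_option autoImplicit false
set_option linter.style.haveILetI false
universe u
open CategoryTheory CategoryTheory.Limits AlgebraicGeometry
open scoped TensorProduct
open Models

namespace Groth.Agent.S17018


open AlgebraicGeometry CategoryTheory CategoryTheory.Limits TopologicalSpace Opposite
open Groth.Agent.Lib.Helper7.StalkKer

/-- the local ring of a reduced scheme at the generic point of an irreducible component has zero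
maximal ideal. -/
lemma maximalIdeal_eq_bot (Xs : Scheme.{u}) [IsReduced Xs] (ξ : Xs)
    (hξ : closure ({ξ} : Set Xs) ∈ irreducibleComponents Xs) :
    IsLocalRing.maximalIdeal (Xs.presheaf.stalk ξ) = ⊥ := by
  have hprime : ∀ p : Ideal (Xs.presheaf.stalk ξ), p.IsPrime →
      p = IsLocalRing.maximalIdeal (Xs.presheaf.stalk ξ) := by
    intro p hp
    let P : Spec (Xs.presheaf.stalk ξ) := ⟨p, hp⟩
    have hy : Xs.fromSpecStalk ξ P ⤳ ξ := by
      have : Xs.fromSpecStalk ξ P ∈ Set.range (Xs.fromSpecStalk ξ) := ⟨P, rfl⟩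
      rw [Scheme.range_fromSpecStalk] at this
      exact this
    have hξy : ξ ⤳ Xs.fromSpecStalk ξ P := by
      have h1 : closure {ξ} ≤ closure {Xs.fromSpecStalk ξ P} :=
        (specializes_iff_closure_subset).mp hy
      have h2 := hξ.2 (isIrreducible_singleton.closure) h1
      rw [specializes_iff_mem_closure]
      exact h2 (subset_closure rfl)
    have heq : Xs.fromSpecStalk ξ P = ξ := (hy.antisymm hξy).eq
    have hP : P = IsLocalRing.closedPoint (Xs.presheaf.stalk ξ) := by
      apply (Xs.fromSpecStalk ξ).isEmbedding.injective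
      rw [heq, Scheme.fromSpecStalk_closedPoint]
    exact congrArg PrimeSpectrum.asIdeal hP
  have h0 : nilradical (Xs.presheaf.stalk ξ) = 0 := nilradical_eq_zero _
  rw [nilradical_eq_sInf] at h0
  rw [eq_bot_iff, ← Ideal.zero_eq_bot, ← h0]
  exact le_sInf (fun p hp => (hprime p hp).ge)

set_option backward.isDefEq.respectTransparency false in
/-- the core statement at the level of the local ring `O_{X, gs ξ}`. -/
lemma core (R : Type u) [CommRing R] [IsLocalRing R]
    (X : Scheme.{u}) (f : X ⟶ Spec (CommRingCat.of R))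
    (Xs : Scheme.{u}) (gs : Xs ⟶ X) (fs : Xs ⟶ Spec (CommRingCat.of (IsLocalRing.ResidueField R)))
    (hs : IsPullback gs fs f (Spec.map (CommRingCat.ofHom (IsLocalRing.residue R))))
    [IsReduced Xs]
    (ξ : Xs) (hξ : closure ({ξ} : Set Xs) ∈ irreducibleComponents Xs) :
    IsLocalRing.maximalIdeal (X.presheaf.stalk (gs ξ)) =
      Ideal.map ((X.presheaf.germ ⊤ (gs ξ) trivial).hom.comp (Coh.toGlobal f))
        (IsLocalRing.maximalIdeal R) := by
  let ρc : CommRingCat.of R ⟶ X.presheaf.stalk (gs ξ) :=
    (Scheme.ΓSpecIso (CommRingCat.of R)).inv ≫ f.appTop ≫ X.presheaf.germ ⊤ (gs ξ) trivial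
  have hρ : ρc.hom = (X.presheaf.germ ⊤ (gs ξ) trivial).hom.comp (Coh.toGlobal f) := rfl
  rw [← hρ]
  have hfs : X.fromSpecStalk (gs ξ) ≫ f = Spec.map ρc := fromSpecStalk_comp f (gs ξ)
  -- `f (gs ξ)` is the closed point
  have hfx : f (gs ξ) = IsLocalRing.closedPoint R := by
    have h1 : (gs ≫ f) ξ = (fs ≫ Spec.map (CommRingCat.ofHom (IsLocalRing.residue R))) ξ := by
      rw [hs.w]
    rw [Scheme.Hom.comp_apply, Scheme.Hom.comp_apply] at h1
    rw [h1]
    exact IsLocalRing.PrimeSpectrum.comap_residue _ _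
  have hcomap : Ideal.comap ρc.hom (IsLocalRing.maximalIdeal (X.presheaf.stalk (gs ξ))) =
      IsLocalRing.maximalIdeal R := by
    have h2 : (Spec.map ρc) (IsLocalRing.closedPoint (X.presheaf.stalk (gs ξ))) =
        IsLocalRing.closedPoint R := by
      rw [← hfs, Scheme.Hom.comp_apply, Scheme.fromSpecStalk_closedPoint, hfx]
    exact congrArg PrimeSpectrum.asIdeal h2
  obtain ⟨I, hI⟩ : ∃ I : Ideal (X.presheaf.stalk (gs ξ)),
    I = Ideal.map ρc.hom (IsLocalRing.maximalIdeal R) := ⟨_, rfl⟩
  rw [← hI]
  have hI' : I ≤ IsLocalRing.maximalIdeal (X.presheaf.stalk (gs ξ)) := by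
    rw [hI, Ideal.map_le_iff_le_comap, hcomap]
  haveI : Nontrivial (X.presheaf.stalk (gs ξ) ⧸ I) := Ideal.Quotient.nontrivial_iff.mpr
    (fun h => (IsLocalRing.maximalIdeal.isMaximal _).ne_top (top_le_iff.mp (h ▸ hI')))
  haveI : IsLocalRing (X.presheaf.stalk (gs ξ) ⧸ I) :=
    IsLocalRing.of_surjective' (Ideal.Quotient.mk I) Ideal.Quotient.mk_surjective
  let R' : CommRingCat.{u} := CommRingCat.of (X.presheaf.stalk (gs ξ) ⧸ I)
  let q : X.presheaf.stalk (gs ξ) ⟶ R' := CommRingCat.ofHom (Ideal.Quotient.mk I)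
  haveI : IsLocalRing R' := ‹IsLocalRing (X.presheaf.stalk (gs ξ) ⧸ I)›
  haveI : IsLocalHom q.hom :=
    IsLocalHom.of_surjective (Ideal.Quotient.mk I) Ideal.Quotient.mk_surjective
  let κ' : CommRingCat.of (IsLocalRing.ResidueField R) ⟶ R' :=
    CommRingCat.ofHom (Ideal.Quotient.lift (IsLocalRing.maximalIdeal R) (ρc ≫ q).hom
      (fun r hr => Ideal.Quotient.eq_zero_iff_mem.mpr (hI ▸ Ideal.mem_map_of_mem _ hr)))
  have hκ : CommRingCat.ofHom (IsLocalRing.residue R) ≫ κ' = ρc ≫ q := by
    ext b
    rfl
  have hτ : (Spec.map q ≫ X.fromSpecStalk (gs ξ)) ≫ f =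
      Spec.map κ' ≫ Spec.map (CommRingCat.ofHom (IsLocalRing.residue R)) := by
    rw [Category.assoc, hfs, ← Spec.map_comp, ← Spec.map_comp, hκ]
  haveI : IsClosedImmersion (Spec.map (CommRingCat.ofHom (IsLocalRing.residue R))) :=
    IsClosedImmersion.spec_of_surjective _ Ideal.Quotient.mk_surjective
  haveI : IsClosedImmersion gs := MorphismProperty.of_isPullback hs.flip inferInstance
  have hK : RingHom.ker (gs.stalkMap ξ).hom ≤ I := by
    have := ker_stalkMap_le gs gs.isEmbedding.injective ξ R' q (hs.lift _ _ hτ)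
      (hs.lift_fst _ _ _)
    rwa [show RingHom.ker q.hom = I from Ideal.mk_ker] at this
  -- the maximal ideal is contained in the kernel since the target is a field
  have hm : IsLocalRing.maximalIdeal (X.presheaf.stalk (gs ξ)) ≤
      RingHom.ker (gs.stalkMap ξ).hom := by
    intro a ha
    rw [RingHom.mem_ker]
    have h3 : (gs.stalkMap ξ).hom a ∈ IsLocalRing.maximalIdeal (Xs.presheaf.stalk ξ) :=
      _root_.map_nonunit (gs.stalkMap ξ).hom a ha
    rw [maximalIdeal_eq_bot Xs ξ hξ] at h3
    exact h3
  exact le_antisymm (hm.trans hK) hI'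

theorem result'
    (R : Type u) [CommRing R] [IsDomain R] [IsDiscreteValuationRing R]
    [IsAlgClosed (IsLocalRing.ResidueField R)]
    (X : Scheme.{u}) (f : X ⟶ Spec (CommRingCat.of R)) [IsProper f] [Flat f]
    (XK : Scheme.{u}) (gK : XK ⟶ X) (fK : XK ⟶ Spec (CommRingCat.of (FractionRing R)))
    (hK : IsPullback gK fK f (Spec.map (CommRingCat.ofHom (algebraMap R (FractionRing R)))))
    [SmoothOfRelativeDimension 1 fK] [ConnectedSpace XK]
    (Xs : Scheme.{u}) (gs : Xs ⟶ X) (fs : Xs ⟶ Spec (CommRingCat.of (IsLocalRing.ResidueField R)))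
    (hs : IsPullback gs fs f (Spec.map (CommRingCat.ofHom (IsLocalRing.residue R))))
    [ConnectedSpace Xs] [IsReduced Xs]
    (ξ : Xs) (hξ : closure ({ξ} : Set Xs) ∈ irreducibleComponents Xs)
    (B : Type u) [CommRing B] [IsDomain B] [IsDiscreteValuationRing B] [Algebra R B]
    (e : X.presheaf.stalk (gs.base ξ) ≅ CommRingCat.of B)
    (he : e.hom.hom.comp ((X.presheaf.germ ⊤ (gs.base ξ) trivial).hom.comp (Coh.toGlobal f)) =
      algebraMap R B) :
    IsLocalRing.maximalIdeal B = Ideal.map (algebraMap R B) (IsLocalRing.maximalIdeal R) := by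
  have hcore := core R X f Xs gs fs hs ξ hξ
  rw [← he, ← Ideal.map_map]
  change _ = Ideal.map e.hom.hom (Ideal.map
    ((X.presheaf.germ ⊤ (gs ξ) trivial).hom.comp (Coh.toGlobal f)) (IsLocalRing.maximalIdeal R))
  rw [← hcore]
  have hinv : ∀ b : B, e.hom.hom (e.inv.hom b) = b := fun b => by
    have := congrArg (fun φ : CommRingCat.of B ⟶ CommRingCat.of B => φ.hom b) e.inv_hom_id
    exact this
  have hinv' : ∀ a, e.inv.hom (e.hom.hom a) = a := fun a => by
    have := congrArg (fun φ : X.presheaf.stalk (gs.base ξ) ⟶ X.presheaf.stalk (gs.base ξ) =>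
      φ.hom a) e.hom_inv_id
    exact this
  apply le_antisymm
  · intro b hb
    have hb' : e.inv.hom b ∈ IsLocalRing.maximalIdeal (X.presheaf.stalk (gs ξ)) := by
      rw [IsLocalRing.mem_maximalIdeal] at hb ⊢
      intro hu
      apply hb
      have := hu.map e.hom.hom
      rwa [hinv] at this
    have := Ideal.mem_map_of_mem e.hom.hom hb'
    rwa [hinv] at this
  · rw [Ideal.map_le_iff_le_comap]
    intro a ha
    rw [Ideal.mem_comap]
    rw [IsLocalRing.mem_maximalIdeal] at ha ⊢
    intro hu
    apply ha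
    have := hu.map e.inv.hom
    rwa [hinv'] at this



/-- Let R be a discrete valuation ring with algebraically closed residue field and f : X → Spec R a
proper flat morphism whose generic fibre (base change to the fraction field of R) is smooth of
relative dimension 1 and connected and whose special fibre (base change to the residue field) is
connected and reduced; let ξ be the generic point of an irreducible component of the special fibre
and B a discrete valuation ring given with an isomorphism from the local ring of X at ξ under which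
R → B is the map induced by f. Then the maximal ideal of B is the extension of the maximal ideal of
R: a uniformizer of R maps to a uniformizer of B. (The published setting takes everything
essentially of finite type over a field of characteristic zero; the printed argument does not use
this and it is not imposed here.) -/
theorem result
    (R : Type u) [CommRing R] [IsDomain R] [IsDiscreteValuationRing R]
    [IsAlgClosed (IsLocalRing.ResidueField R)]
    (X : Scheme.{u}) (f : X ⟶ Spec (CommRingCat.of R)) [IsProper f] [Flat f]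
    (XK : Scheme.{u}) (gK : XK ⟶ X) (fK : XK ⟶ Spec (CommRingCat.of (FractionRing R)))
    (hK : IsPullback gK fK f (Spec.map (CommRingCat.ofHom (algebraMap R (FractionRing R)))))
    [SmoothOfRelativeDimension 1 fK] [ConnectedSpace XK]
    (Xs : Scheme.{u}) (gs : Xs ⟶ X) (fs : Xs ⟶ Spec (CommRingCat.of (IsLocalRing.ResidueField R)))
    (hs : IsPullback gs fs f (Spec.map (CommRingCat.ofHom (IsLocalRing.residue R))))
    [ConnectedSpace Xs] [IsReduced Xs]
    (ξ : Xs) (hξ : closure ({ξ} : Set Xs) ∈ irreducibleComponents Xs)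
    (B : Type u) [CommRing B] [IsDomain B] [IsDiscreteValuationRing B] [Algebra R B]
    (e : X.presheaf.stalk (gs.base ξ) ≅ CommRingCat.of B)
    (he : e.hom.hom.comp ((X.presheaf.germ ⊤ (gs.base ξ) trivial).hom.comp (Coh.toGlobal f)) =
      algebraMap R B) :
    IsLocalRing.maximalIdeal B = Ideal.map (algebraMap R B) (IsLocalRing.maximalIdeal R) := by
  exact result' R X f XK gK fK hK Xs gs fs hs ξ hξ B e he

end Groth.Agent.S17018
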