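import Groth.Statements.S1703
import Groth.Agent.Lib.Helper55.FL.CartierFlat
import Groth.Agent.Lib.Helper55.FL.EssFlat
import Groth.Agent.Lib.Helper22.RelCartier

set_option autoImplicit false
universe u
open CategoryTheory CategoryTheory.Limits AlgebraicGeometry TopologicalSpace
open SDiv

namespace Groth.Agent.S1703

/-- Let f : X ⟶ S be locally of finite presentation and 𝓘 the ideal sheaf of an effective Cartier
divisor D ⊂ X with D ⟶ S flat. Then there is an open subscheme U of X containing D such that U ⟶ S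
is flat. -/
theorem result {X S : Scheme.{u}} (f : X ⟶ S) [LocallyOfFinitePresentation f] (𝓘 : X.IdealSheafData)
    (hD : (BlowUp.IsEffCartierIdeal 𝓘 ∧ Flat (𝓘.subschemeι ≫ f))) : ∃ U : X.Opens, (𝓘.support : Set ↥X) ⊆ U ∧ Flat (U.ι ≫ f) := by
  obtain ⟨hC, hF⟩ := hD
  haveI := hF
  have key : ∀ x ∈ 𝓘.support, (f.stalkMap x).hom.Flat := by
    intro x hx
    obtain ⟨U, V, hxU, e, t, ht, hI⟩ :=
      Groth.Agent.Lib.Helper22.RelCartier.exists_chart f 𝓘 hC x
    have h1 := Groth.Agent.Lib.Helper22.RelCartier.flat_quotient_of_flat f 𝓘 U V.1 V.2 e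
    rw [hI] at h1
    rw [Groth.Agent.Lib.Helper55.FL.stalkMap_flat_iff f V.2 U.2 e x hxU]
    letI := (f.appLE V.1 U.1 e).hom.toAlgebra
    haveI : Algebra.FinitePresentation Γ(S, V.1) Γ(X, U.1) :=
      f.finitePresentation_appLE V.2 U.2 e
    have h2 : Module.Flat Γ(S, V.1) (Γ(X, U.1) ⧸ Ideal.span {t}) :=
      (Groth.Agent.Lib.Helper22.RelCartier.flat_mk_comp_iff' _ _).mp h1
    refine Groth.Agent.Lib.Helper55.FL.flat_atPrime_of_cartier t ht h2 _ ?_
    by_contra hnot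
    have h3 : U.2.primeIdealOf ⟨x, hxU⟩ ∈ PrimeSpectrum.basicOpen t := hnot
    rw [← U.2.fromSpec_preimage_basicOpen] at h3
    have h4 : U.2.fromSpec (U.2.primeIdealOf ⟨x, hxU⟩) ∈ X.basicOpen t := h3
    rw [U.2.fromSpec_primeIdealOf] at h4
    exact Groth.Agent.Lib.Helper22.RelCartier.notMem_support_of_mem_basicOpen 𝓘 hI h4 hx
  refine ⟨⟨{x | (f.stalkMap x).hom.Flat}, Groth.Agent.Lib.Helper55.FL.isOpen_stalkMap_flat f⟩,
    fun x hx => key x hx, ?_⟩
  refine (Flat.iff_flat_stalkMap _).2 fun w => ?_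
  rw [Scheme.Hom.stalkMap_comp]
  exact Groth.Agent.Lib.Helper55.FL.flat_comp_isIso _ _ w.2

end Groth.Agent.S1703
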