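import Groth.Statements.S8868
import Groth.Agent.Lib.Helper29.QCohLoc

set_option autoImplicit false
universe u
open CategoryTheory CategoryTheory.Limits AlgebraicGeometry TopologicalSpace
open SDiv

namespace Groth.Agent.S8868

/-- Let X be a scheme and F a quasi-coherent O_X-module. Then F is zero if and only if F has no weakly
associated point. -/
theorem result (X : Scheme.{u}) (F : X.Modules) (hF : Coh.IsQCoh F) :
    IsZero F ↔ ∀ x : ↥X, ¬ Curv2.IsWeakAssPoint F x := by
  have : F.IsQuasicoherent := hF
  constructor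
  · intro hz x hx
    obtain ⟨m, hm⟩ := Groth.Agent.Lib.Helper29.QCohLoc.IsWeakAssPoint.ne_zero F hx
    apply hm
    obtain ⟨W, hxW, t, rfl⟩ := TopCat.Presheaf.exists_germ_eq F.presheaf (x := x) m
    have ht : t = 0 := by
      have h1 : (𝟙 F : F ⟶ F) = 0 := (Limits.IsZero.iff_id_eq_zero F).mp hz
      have h2 := congrArg (fun φ : F ⟶ F => (φ.app W).hom t) h1
      simpa using h2
    rw [ht, map_zero]
  · intro h
    rw [Limits.IsZero.iff_id_eq_zero]
    apply Scheme.Modules.hom_ext
    intro W
    ext t
    by_contra hne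
    have ht : t ≠ 0 := by
      intro h0
      apply hne
      rw [h0, map_zero, map_zero]
    obtain ⟨y, hy, hy1, -⟩ :=
      Groth.Agent.Lib.Helper29.QCohLoc.exists_isWeakAssPoint_of_section_ne_zero F W t ht
    exact h y hy1

end Groth.Agent.S8868
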