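import Groth.Statements.S1706
import Groth.Agent.Lib.Helper29.QCohLoc

set_option autoImplicit false
universe u
open CategoryTheory CategoryTheory.Limits AlgebraicGeometry TopologicalSpace
open SDiv

namespace Groth.Agent.S1706

/-- Let X be a scheme, F a quasi-coherent module and U an open subset containing every weakly associated
point of F. Then the restriction map Γ(X, F) → Γ(U, F) is injective. -/
theorem result (X : Scheme.{u}) (F : X.Modules) (hF : Coh.IsQCoh F)
    (U : X.Opens) (hU : ∀ x : ↥X, Curv2.IsWeakAssPoint F x → x ∈ U) :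
    Function.Injective (F.presheaf.map (homOfLE (le_top : U ≤ ⊤)).op) := by
  have : F.IsQuasicoherent := hF
  rw [injective_iff_map_eq_zero]
  intro s hs
  by_contra hne
  obtain ⟨y, hy, hy1, hy2⟩ :=
    Groth.Agent.Lib.Helper29.QCohLoc.exists_isWeakAssPoint_of_section_ne_zero F ⊤ s hne
  apply hy2
  have hyU : y ∈ U := hU y hy1
  rw [← Groth.Agent.Lib.Helper29.QCohLoc.germ_res F ⊤ U le_top y hyU s]
  have : F.presheaf.map (homOfLE (le_top : U ≤ ⊤)).op s = 0 := hs
  rw [this, map_zero]

end Groth.Agent.S1706
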