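import Groth.Statements.S17065
import Mathlib.RingTheory.Nakayama
import Mathlib.Tactic

set_option autoImplicit false
universe u
open CAlg

namespace Groth.Agent.S17065

/-- The local algebraic statement its proof establishes: let A be a Noetherian ring, I ≤ J radical
ideals and Â the J-adic completion of A. If J^n Â ⊆ I Â for some n, then the closed set V(J) is open
inside V(I) ⊆ Spec A. (Globally: if X₂ ⊆ X₁ are the completions of a locally Noetherian scheme along
nested closed subsets Z₂ ⊆ Z₁ and the ideal of Z₁ generates an ideal of definition of X₂, then X₂ is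
a union of connected components of X₁.) -/
theorem result (A : Type u) [CommRing A] [IsNoetherianRing A]
    (I J : Ideal A) (hIJ : I ≤ J) (hI : I.IsRadical) (hJ : J.IsRadical) (n : ℕ)
    (h : (J ^ n).map (algebraMap A (AdicCompletion J A)) ≤ I.map (algebraMap A (AdicCompletion J A))) :
    IsOpen ((fun x : PrimeSpectrum.zeroLocus (I : Set A) => (x : PrimeSpectrum A)) ⁻¹'
      PrimeSpectrum.zeroLocus (J : Set A)) := by
  have h1 : ∀ m : ℕ, J ^ n ≤ I ⊔ J ^ m := by
    intro m a ha
    have h2 : algebraMap A (AdicCompletion J A) a ∈ I.map (algebraMap A (AdicCompletion J A)) :=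
      h (Ideal.mem_map_of_mem _ ha)
    have h3 := Ideal.mem_map_of_mem (AdicCompletion.evalₐ J m).toRingHom h2
    rw [Ideal.map_map] at h3
    have h4 : (AdicCompletion.evalₐ J m).toRingHom.comp (algebraMap A (AdicCompletion J A)) =
        Ideal.Quotient.mk (J ^ m) := by
      ext x
      simp
    rw [h4] at h3
    have h5 : (AdicCompletion.evalₐ J m).toRingHom (algebraMap A (AdicCompletion J A) a) =
        Ideal.Quotient.mk (J ^ m) a := by
      simp
    rw [h5] at h3
    obtain ⟨b, hb, hab⟩ := (Ideal.mem_map_iff_of_surjective _ Ideal.Quotient.mk_surjective).1 h3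
    have h6 : a - b ∈ J ^ m := by
      rw [← Ideal.Quotient.eq_zero_iff_mem, map_sub, hab, sub_self]
    have : a = b + (a - b) := by ring
    rw [this]
    exact Ideal.add_mem _ (Ideal.mem_sup_left hb) (Ideal.mem_sup_right h6)
  let N : Submodule A (A ⧸ I) := (J ^ n) • ⊤
  have hNfg : N.FG := IsNoetherian.noetherian N
  have hN : N ≤ J • N := by
    intro y hy
    refine Submodule.smul_induction_on hy ?_ ?_
    · intro a ha x _
      obtain ⟨b, rfl⟩ := Ideal.Quotient.mk_surjective x
      have ha' := h1 (n + 1) ha
      obtain ⟨i, hi, c, hc, rfl⟩ := Submodule.mem_sup.1 ha'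
      have hi0 : i • (Ideal.Quotient.mk I b) = 0 := by
        rw [Algebra.smul_def]
        have : algebraMap A (A ⧸ I) i = 0 := Ideal.Quotient.eq_zero_iff_mem.2 hi
        rw [this, zero_mul]
      rw [add_smul, hi0, zero_add]
      have : J • N = (J ^ (n + 1)) • (⊤ : Submodule A (A ⧸ I)) := by
        rw [← Submodule.smul_assoc, pow_succ']
        rfl
      rw [this]
      exact Submodule.smul_mem_smul hc trivial
    · intro x y hx hy
      exact Submodule.add_mem _ hx hy
  obtain ⟨r, hr1, hr2⟩ := Submodule.exists_sub_one_mem_and_smul_eq_zero_of_fg_of_le_smul J N hNfg hN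
  have hrJ : ∀ a ∈ J ^ n, r * a ∈ I := by
    intro a ha
    have hmem : a • (1 : A ⧸ I) ∈ N := Submodule.smul_mem_smul ha trivial
    have := hr2 _ hmem
    rw [← Ideal.Quotient.eq_zero_iff_mem]
    rw [Algebra.smul_def, Algebra.smul_def, mul_one] at this
    rw [map_mul]
    exact this
  have hset : ((fun x : PrimeSpectrum.zeroLocus (I : Set A) => (x : PrimeSpectrum A)) ⁻¹'
      PrimeSpectrum.zeroLocus (J : Set A)) =
      (fun x : PrimeSpectrum.zeroLocus (I : Set A) => (x : PrimeSpectrum A)) ⁻¹'
        (PrimeSpectrum.basicOpen r : Set (PrimeSpectrum A)) := by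
    ext ⟨p, hp⟩
    simp only [Set.mem_preimage, PrimeSpectrum.mem_zeroLocus, SetLike.coe_subset_coe,
      PrimeSpectrum.mem_basicOpen, SetLike.mem_coe]
    rw [PrimeSpectrum.mem_zeroLocus, SetLike.coe_subset_coe] at hp
    constructor
    · intro hJp hrp
      have : (1 : A) ∈ p.asIdeal := by
        have h7 := p.asIdeal.sub_mem hrp (hJp hr1)
        simpa using h7
      exact p.2.ne_top ((Ideal.eq_top_iff_one _).2 this)
    · intro hrp
      apply p.2.le_of_pow_le (n := n)
      intro a ha
      exact (p.2.mem_or_mem (hp (hrJ a ha))).resolve_left hrp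
  rw [hset]
  exact (PrimeSpectrum.basicOpen r).isOpen.preimage continuous_subtype_val

end Groth.Agent.S17065
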