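import Groth.Statements.S17075
-- import your own Groth.Agent.* helpers here

set_option autoImplicit false
universe u
open CategoryTheory CategoryTheory.Limits AlgebraicGeometry
open MorSch

namespace Groth.Agent.S17075

/-- Let g : X → S be a proper morphism, i : V → X a closed immersion and j : U → X an open immersion.
Then there is an open subset S₀ of S such that, for every scheme S' and every morphism f : S' → S,
the image of f lies in S₀ if and only if the base change V ×_S S' → X ×_S S' of i factors through
the open subscheme U ×_S S', equivalently the composite V ×_S S' → V → X has image contained in the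
image of j. -/
theorem result
    {V X U S : Scheme.{u}} (g : X ⟶ S) [IsProper g] (i : V ⟶ X) [IsClosedImmersion i]
    (j : U ⟶ X) [IsOpenImmersion j] :
    ∃ S₀ : S.Opens, ∀ (S' : Scheme.{u}) (f : S' ⟶ S),
      Set.range f ⊆ (S₀ : Set S) ↔
        Set.range (pullback.fst (i ≫ g) f ≫ i) ⊆ Set.range j := by
  have hclosed : IsClosed (g '' (Set.range i \ Set.range j)) := by
    apply g.isClosedMap
    exact i.isClosedEmbedding.isClosed_range.sdiff j.isOpenEmbedding.isOpen_range
  refine ⟨⟨(g '' (Set.range i \ Set.range j))ᶜ, hclosed.isOpen_compl⟩, ?_⟩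
  intro S' f
  constructor
  · rintro hf _ ⟨z, rfl⟩
    by_contra hz
    have h1 : g ((pullback.fst (i ≫ g) f ≫ i) z) ∈ g '' (Set.range i \ Set.range j) := by
      refine ⟨_, ⟨⟨pullback.fst (i ≫ g) f z, ?_⟩, hz⟩, rfl⟩
      simp
    have h2 : g ((pullback.fst (i ≫ g) f ≫ i) z) = f (pullback.snd (i ≫ g) f z) := by
      have := congrArg (fun φ : pullback (i ≫ g) f ⟶ S => φ z) (pullback.condition (f := i ≫ g) (g := f))
      simpa using this
    rw [h2] at h1
    exact hf ⟨_, rfl⟩ h1
  · rintro h _ ⟨s', rfl⟩
    rintro ⟨x, ⟨⟨v, rfl⟩, hx⟩, hgx⟩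
    obtain ⟨z, hz1, hz2⟩ := Scheme.Pullback.exists_preimage_pullback (f := i ≫ g) (g := f) v s'
      (by simpa using hgx)
    apply hx
    have := h ⟨z, rfl⟩
    simpa [hz1] using this

end Groth.Agent.S17075
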