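import Groth.Statements.S17076
import Groth.Agent.Lib.Helper54.SchemeIsoLocus
import Groth.Agent.Lib.Helper79.OverPullbackSq

set_option autoImplicit false
universe u
open CategoryTheory CategoryTheory.Limits AlgebraicGeometry
open MorSch

namespace Groth.Agent.S17076

open Groth.Agent.Lib.Helper54.SchemeIsoLocus


/-- Let S be a locally Noetherian scheme, X and Y schemes proper over S with X flat over S, and f : X →
Y an S-morphism. Then there is an open subset S₀ of S such that, for every locally Noetherian scheme
S' and every morphism h : S' → S, the image of h lies in S₀ if and only if the base change X ×_S S'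
→ Y ×_S S' of f is an isomorphism. (The published statement also supposes that some fibre of f is an
isomorphism; that hypothesis only serves to make S₀ nonempty and is not needed.) -/
theorem result
    {S : Scheme.{u}} [IsLocallyNoetherian S] (X Y : Over S) [IsProper X.hom] [IsProper Y.hom]
    [Flat X.hom] (f : X ⟶ Y) :
    ∃ S₀ : S.Opens, ∀ (S' : Scheme.{u}) [IsLocallyNoetherian S'] (h : S' ⟶ S),
      Set.range h ⊆ (S₀ : Set S) ↔ IsIso ((Over.pullback h).map f).left := by
  have hlfp : LocallyOfFinitePresentation X.hom :=
    LocallyOfFinitePresentation.iff_locallyOfFiniteType.2 inferInstance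
  obtain ⟨U, hU⟩ := exists_open_isIso_baseChange f.left X.hom Y.hom (Over.w f)
    (Scheme.Hom.isClosedMap Y.hom)
  refine ⟨U, fun S' _ h => ?_⟩
  have sqY : IsPullback (pullback.fst Y.hom h) (pullback.snd Y.hom h) Y.hom h :=
    IsPullback.of_hasPullback _ _
  have sqX := Groth.Agent.Lib.Helper79.isPullback_overPullback_map h f
  have e : Set.range h = Set.range h.base := rfl
  rw [e, hU S' h]
  constructor
  · intro HH
    exact HH _ _ _ _ _ _ sqY sqX
  · intro hi YT XT gY hT gX fT s1 s2
    exact isIso_baseChange_congr sqY sqX s1 s2

end Groth.Agent.S17076
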