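import Groth.Statements.S17077
import Mathlib.Tactic
import Mathlib.RingTheory.Nullstellensatz
import Mathlib.Algebra.MvPolynomial.Division

set_option autoImplicit false
universe u
open RatCurve

namespace Groth.Agent.S17077

open MvPolynomial in
theorem aeval_mul_of_isHomogeneous {k : Type u} [Field k] {S : Type u} [CommRing S] [Algebra k S]
    (F : MvPolynomial (Fin 2) k) (d : ℕ) (hF : F.IsHomogeneous d) (Q : S) (g : Fin 2 → S) :
    aeval (fun l => Q * g l) F = Q ^ d * aeval g F := by
  have hdeg : ∀ m ∈ F.support, ∑ i, m i = d := by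
    intro m hm
    have h1 := hF (mem_support_iff.mp hm)
    rw [← Finsupp.degree_eq_sum]
    rw [Finsupp.degree_eq_weight_one]
    exact h1
  rw [aeval_def, aeval_def, eval₂_eq', eval₂_eq', Finset.mul_sum]
  refine Finset.sum_congr rfl ?_
  intro m hm
  simp only [mul_pow, Finset.prod_mul_distrib, Finset.prod_pow_eq_pow_sum, hdeg m hm]
  ring

open MvPolynomial in
theorem lin_dvd {k : Type u} [Field k] (a : Fin 2 → k) (i j : Fin 2) (hij : i ≠ j) (haj : a j ≠ 0)
    (F : MvPolynomial (Fin 2) k) (d : ℕ) (hF : F.IsHomogeneous d) (h0 : eval a F = 0) :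
    (C (a j) * X i - C (a i) * X j) ∣ F := by
  set H : MvPolynomial (Fin 2) k := C (a j) * X i - C (a i) * X j with hH
  let π := Ideal.Quotient.mkₐ k (Ideal.span {H})
  let θ : MvPolynomial (Fin 2) k →ₐ[k] MvPolynomial (Fin 2) k := aeval (fun l => X j * C (a l))
  let sc : MvPolynomial (Fin 2) k →ₐ[k] MvPolynomial (Fin 2) k := aeval (fun l => C (a j) * X l)
  have h1 : π.comp θ = π.comp sc := by
    apply MvPolynomial.algHom_ext
    intro l
    have hl : l = i ∨ l = j := by
      fin_cases i <;> fin_cases j <;> fin_cases l <;> simp_all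
    rcases hl with rfl | rfl
    · simp only [AlgHom.comp_apply, θ, sc, aeval_X]
      apply (Ideal.Quotient.mk_eq_mk_iff_sub_mem _ _).mpr
      rw [Ideal.mem_span_singleton]
      refine ⟨-1, ?_⟩
      rw [hH]; ring
    · simp only [AlgHom.comp_apply, θ, sc, aeval_X]
      rw [mul_comm]
  have h2 : θ F = 0 := by
    have := aeval_mul_of_isHomogeneous F d hF (X j : MvPolynomial (Fin 2) k) (fun l => C (a l))
    simp only [θ]
    rw [this]
    have h3 : (aeval (fun l => (C (a l) : MvPolynomial (Fin 2) k))) F = C (eval a F) := by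
      have : (fun l => (C (a l) : MvPolynomial (Fin 2) k)) =
          (algebraMap k (MvPolynomial (Fin 2) k)) ∘ a := rfl
      rw [this, aeval_algebraMap_apply]
      rfl
    rw [h3, h0, map_zero, mul_zero]
  have h3 : sc F = C (a j ^ d) * F := by
    have := aeval_mul_of_isHomogeneous F d hF (C (a j) : MvPolynomial (Fin 2) k) (fun l => X l)
    simp only [sc]
    rw [this, aeval_X_left_apply, map_pow]
  have h4 : π (C (a j ^ d) * F) = 0 := by
    rw [← h3]
    have := congrArg (fun ψ => ψ F) h1
    simp only [AlgHom.comp_apply] at this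
    rw [← this, h2, map_zero]
  have h5 : H ∣ C (a j ^ d) * F := by
    rw [← Ideal.mem_span_singleton]
    exact (Ideal.Quotient.eq_zero_iff_mem).mp h4
  have h6 : F = C ((a j ^ d)⁻¹) * (C (a j ^ d) * F) := by
    rw [← mul_assoc, ← C_mul, inv_mul_cancel₀ (pow_ne_zero _ haj), C_1, one_mul]
  rw [h6]
  exact Dvd.dvd.mul_left h5 _

open MvPolynomial in
theorem exists_zero {k : Type u} [Field k] [IsAlgClosed k] (H : MvPolynomial (Fin 2) k)
    (hH : ¬ IsUnit H) : ∃ a : Fin 2 → k, a ≠ 0 ∧ eval a H = 0 := by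
  by_contra hcon
  push Not at hcon
  have hX : ∀ l : Fin 2, ∃ N : ℕ, H ∣ (X l : MvPolynomial (Fin 2) k) ^ N := by
    intro l
    have hmem : (X l : MvPolynomial (Fin 2) k) ∈
        vanishingIdeal k (zeroLocus k (Ideal.span {H})) := by
      rw [mem_vanishingIdeal_iff]
      intro x hx
      have hx0 : x = 0 := by
        by_contra hne
        apply hcon x hne
        have := hx H (Ideal.mem_span_singleton_self H)
        simpa using this
      simp [hx0]
    rw [vanishingIdeal_zeroLocus_eq_radical] at hmem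
    obtain ⟨N, hN⟩ := hmem
    exact ⟨N, Ideal.mem_span_singleton.mp hN⟩
  obtain ⟨N0, h0⟩ := hX 0
  obtain ⟨N1, h1⟩ := hX 1
  obtain ⟨i0, -, hi0⟩ := (dvd_prime_pow (X_prime (R := k) (σ := Fin 2) (i := 0)) N0).mp h0
  by_cases hi : i0 = 0
  · rw [hi, pow_zero] at hi0
    exact hH (associated_one_iff_isUnit.mp hi0)
  · have h2 : (X 0 : MvPolynomial (Fin 2) k) ^ i0 ∣ X 1 ^ N1 := hi0.symm.dvd.trans h1
    obtain ⟨q, hq⟩ := h2
    have := congrArg (eval (![0, 1] : Fin 2 → k)) hq
    simp [hi] at this

/-- Let k be an algebraically closed field and F_0, …, F_{n-1} homogeneous polynomials in k[u, v] (of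
possibly different degrees). Then the F_i have a common factor which is not a unit if and only if
they have a common zero (a, b) ≠ (0, 0) in k², that is, a common zero in the projective line. -/
theorem result
    {k : Type u} [Field k] [IsAlgClosed k] {n : ℕ} (F : Fin n → MvPolynomial (Fin 2) k)
    (d : Fin n → ℕ) (hF : ∀ i, (F i).IsHomogeneous (d i)) :
    (∃ H : MvPolynomial (Fin 2) k, ¬ IsUnit H ∧ ∀ i, H ∣ F i) ↔
      ∃ a : Fin 2 → k, a ≠ 0 ∧ ∀ i, MvPolynomial.eval a (F i) = 0 := by
  classical
  constructor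
  · rintro ⟨H, hHu, hHd⟩
    obtain ⟨a, ha, haH⟩ := exists_zero H hHu
    refine ⟨a, ha, fun i => ?_⟩
    obtain ⟨q, hq⟩ := hHd i
    rw [hq, map_mul, haH, zero_mul]
  · rintro ⟨a, ha, haF⟩
    have hex : a 0 ≠ 0 ∨ a 1 ≠ 0 := by
      by_contra hcon
      push Not at hcon
      apply ha
      ext l
      fin_cases l
      · exact hcon.1
      · exact hcon.2
    rcases hex with h | h
    · refine ⟨MvPolynomial.C (a 0) * MvPolynomial.X 1 - MvPolynomial.C (a 1) * MvPolynomial.X 0, ?_, ?_⟩
      · intro hu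
        have := hu.map (MvPolynomial.eval a)
        simp [mul_comm] at this
      · intro i
        exact lin_dvd a 1 0 (by decide) h (F i) (d i) (hF i) (haF i)
    · refine ⟨MvPolynomial.C (a 1) * MvPolynomial.X 0 - MvPolynomial.C (a 0) * MvPolynomial.X 1, ?_, ?_⟩
      · intro hu
        have := hu.map (MvPolynomial.eval a)
        simp [mul_comm] at this
      · intro i
        exact lin_dvd a 0 1 (by decide) h (F i) (d i) (hF i) (haF i)

end Groth.Agent.S17077
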