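import Groth.Statements.S17078
import Mathlib.Tactic
import Mathlib.RingTheory.Nullstellensatz
import Mathlib.Algebra.MvPolynomial.Division
import Groth.Agent.S17077

set_option autoImplicit false
universe u
open RatCurve

namespace Groth.Agent.S17078

open MvPolynomial in
theorem hc_mul {k : Type u} [Field k] (F G : MvPolynomial (Fin 2) k) (d m : ℕ)
    (hF : F.IsHomogeneous d) (hdm : d ≤ m) :
    homogeneousComponent m (F * G) = F * homogeneousComponent (m - d) G := by
  letI := MvPolynomial.gradedAlgebra (σ := Fin 2) (R := k)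
  have h := DirectSum.coe_decompose_mul_of_left_mem_of_le (𝒜 := homogeneousSubmodule (Fin 2) k)
    (a := F) (b := G) (i := d) (n := m) ((mem_homogeneousSubmodule d F).mpr hF) hdm
  have e1 := decomposition.decompose'_apply (σ := Fin 2) (R := k) (F * G) m
  have e2 := decomposition.decompose'_apply (σ := Fin 2) (R := k) G (m - d)
  rw [← e1, ← e2]
  exact h

/-- Let k be an algebraically closed field and F_0, …, F_{n-1} homogeneous polynomials of degree d in
k[u, v]. Then the F_i have no common factor other than units if and only if there is an integer m ≥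
d such that every homogeneous polynomial of degree m can be written Σ_i F_i G_i with each G_i
homogeneous of degree m − d, i.e. the k-linear map (G_i)_i ↦ Σ_i F_i G_i from n copies of k[u,
v]_{m−d} to k[u, v]_m is surjective. -/
theorem result
    {k : Type u} [Field k] [IsAlgClosed k] {n : ℕ} (F : Fin n → MvPolynomial (Fin 2) k)
    (d : ℕ) (hF : ∀ i, (F i).IsHomogeneous d) :
    (¬ ∃ H : MvPolynomial (Fin 2) k, ¬ IsUnit H ∧ ∀ i, H ∣ F i) ↔
      ∃ m : ℕ, d ≤ m ∧ ∀ P : MvPolynomial (Fin 2) k, P.IsHomogeneous m →
        ∃ G : Fin n → MvPolynomial (Fin 2) k, (∀ i, (G i).IsHomogeneous (m - d)) ∧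
          P = ∑ i, F i * G i := by
  classical
  have hS := Groth.Agent.S17077.result F (fun _ => d) hF
  rw [hS]
  constructor
  · intro hno
    have hno' : ∀ a : Fin 2 → k, a ≠ 0 → ∃ i, MvPolynomial.eval a (F i) ≠ 0 := by
      intro a ha
      by_contra hcon
      push Not at hcon
      exact hno ⟨a, ha, hcon⟩
    have hX : ∀ l : Fin 2, ∃ N : ℕ, (MvPolynomial.X l : MvPolynomial (Fin 2) k) ^ N ∈
        Ideal.span (Set.range F) := by
      intro l
      have hmem : (MvPolynomial.X l : MvPolynomial (Fin 2) k) ∈
          MvPolynomial.vanishingIdeal k (MvPolynomial.zeroLocus k (Ideal.span (Set.range F))) := by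
        rw [MvPolynomial.mem_vanishingIdeal_iff]
        intro x hx
        have hx0 : x = 0 := by
          by_contra hne
          obtain ⟨i, hi⟩ := hno' x hne
          apply hi
          have := hx (F i) (Ideal.subset_span ⟨i, rfl⟩)
          simpa using this
        simp [hx0]
      rw [MvPolynomial.vanishingIdeal_zeroLocus_eq_radical] at hmem
      exact hmem
    obtain ⟨N0, h0⟩ := hX 0
    obtain ⟨N1, h1⟩ := hX 1
    refine ⟨d + (N0 + N1), Nat.le_add_right _ _, ?_⟩
    intro P hP
    have hmono : ∀ e : Fin 2 →₀ ℕ, e.degree = d + (N0 + N1) → ∀ c : k,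
        MvPolynomial.monomial e c ∈ Ideal.span (Set.range F) := by
      intro e he c
      have hsum : e 0 + e 1 = d + (N0 + N1) := by
        rw [← he, Finsupp.degree_eq_sum, Fin.sum_univ_two]
      have hform : MvPolynomial.monomial e c =
          MvPolynomial.C c * (MvPolynomial.X 0 ^ e 0 * MvPolynomial.X 1 ^ e 1) := by
        rw [MvPolynomial.monomial_eq]
        congr 1
        rw [Finsupp.prod_fintype _ _ (fun i => pow_zero _), Fin.prod_univ_two]
      rw [hform]
      rcases (by omega : N0 ≤ e 0 ∨ N1 ≤ e 1) with h | h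
      · have : (MvPolynomial.X 0 : MvPolynomial (Fin 2) k) ^ e 0 ∈ Ideal.span (Set.range F) := by
          obtain ⟨r, hr⟩ := Nat.exists_eq_add_of_le h
          rw [hr, pow_add]
          exact Ideal.mul_mem_right _ _ h0
        exact Ideal.mul_mem_left _ _ (Ideal.mul_mem_right _ _ this)
      · have : (MvPolynomial.X 1 : MvPolynomial (Fin 2) k) ^ e 1 ∈ Ideal.span (Set.range F) := by
          obtain ⟨r, hr⟩ := Nat.exists_eq_add_of_le h
          rw [hr, pow_add]
          exact Ideal.mul_mem_right _ _ h1
        exact Ideal.mul_mem_left _ _ (Ideal.mul_mem_left _ _ this)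
    have hPmem : P ∈ Ideal.span (Set.range F) := by
      rw [P.as_sum]
      refine Ideal.sum_mem _ ?_
      intro e he
      apply hmono
      have := hP (MvPolynomial.mem_support_iff.mp he)
      rw [Finsupp.degree_eq_weight_one]
      exact this
    obtain ⟨G', hG'⟩ := (Ideal.mem_span_range_iff_exists_fun).mp hPmem
    refine ⟨fun i => MvPolynomial.homogeneousComponent (d + (N0 + N1) - d) (G' i), ?_, ?_⟩
    · intro i
      exact MvPolynomial.homogeneousComponent_isHomogeneous _ _
    · have hP' : P = MvPolynomial.homogeneousComponent (d + (N0 + N1)) P :=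
        (MvPolynomial.homogeneousComponent_of_mem ((MvPolynomial.mem_homogeneousSubmodule _ _).mpr hP)).symm ▸ by simp
      rw [hP']
      conv_lhs => rw [← hG']
      rw [map_sum]
      refine Finset.sum_congr rfl ?_
      intro i _
      rw [mul_comm (G' i) (F i)]
      exact hc_mul (F i) (G' i) d _ (hF i) (Nat.le_add_right _ _)
  · rintro ⟨m, hdm, hm⟩ ⟨a, ha, haF⟩
    have hex : a 0 ≠ 0 ∨ a 1 ≠ 0 := by
      by_contra hcon
      push Not at hcon
      apply ha
      ext l
      fin_cases l
      · exact hcon.1
      · exact hcon.2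
    have key : ∀ l : Fin 2, a l ≠ 0 → False := by
      intro l hl
      obtain ⟨G, -, hG⟩ := hm (MvPolynomial.X l ^ m) (MvPolynomial.isHomogeneous_X_pow l m)
      have := congrArg (MvPolynomial.eval a) hG
      simp only [map_pow, MvPolynomial.eval_X, map_sum, map_mul, haF, zero_mul,
        Finset.sum_const_zero] at this
      exact pow_ne_zero _ hl this
    rcases hex with h | h
    · exact key 0 h
    · exact key 1 h

end Groth.Agent.S17078
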