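import Groth.Statements.S17080
import Groth.Agent.Lib.Helper6.MorSOpen

set_option autoImplicit false
universe u
open CategoryTheory CategoryTheory.Limits AlgebraicGeometry
open MorSch Opposite Groth.Agent.Lib.Helper6.MorSOpen

namespace Groth.Agent.S17080

/-- Let gX : X → S be proper and flat, gY : Y → S separated and j : U → Y an open immersion, and suppose
the functor Mor_S(X, Y) — S-schemes T ↦ S-morphisms T ×_S X → Y — is represented by an S-scheme M
via e. Then there are an open subset M₀ of M and a representation e₀ of Mor_S(X, U) by the open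
subscheme M₀ (viewed over S through M) which is compatible with e: for every S-morphism φ : T → M₀,
the S-morphism T ×_S X → Y classified by φ followed by the inclusion M₀ → M is the S-morphism T ×_S
X → U classified by φ, followed by j. In particular the morphism Mor_S(X, U) → Mor_S(X, Y) induced
by j is an open immersion. (Published for X projective and flat and Y quasi-projective over a
locally Noetherian S, which is how M is known to exist there; representability is taken as a
hypothesis here.) -/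
theorem result
    {X Y U S : Scheme.{u}} (gX : X ⟶ S) [IsProper gX] [Flat gX] (gY : Y ⟶ S) [IsSeparated gY]
    (j : U ⟶ Y) [IsOpenImmersion j] (M : Over S) (e : (Flatn.morS gX gY).RepresentableBy M) :
    ∃ (M₀ : M.left.Opens)
      (e₀ : (Flatn.morS gX (j ≫ gY)).RepresentableBy (Over.mk (M₀.ι ≫ M.hom))),
      ∀ (T : Over S) (φ : T ⟶ Over.mk (M₀.ι ≫ M.hom)),
        (e.homEquiv (φ ≫ Over.homMk M₀.ι rfl) :
            (Over.map gX).obj ((Over.pullback gX).obj T) ⟶ Over.mk gY) =
          (e₀.homEquiv φ : (Over.map gX).obj ((Over.pullback gX).obj T) ⟶ Over.mk (j ≫ gY)) ≫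
            (Over.homMk j rfl : Over.mk (j ≫ gY) ⟶ Over.mk gY) := by
  classical
  let V : Y.Opens := j.opensRange
  let ξ : (Flatn.morS gX gY).obj (op M) := e.homEquiv (𝟙 M)
  let M₀ : M.left.Opens := locus gX gY V ξ
  let ι₀ : Over.mk (M₀.ι ≫ M.hom) ⟶ M := Over.homMk M₀.ι rfl
  let jj : Over.mk (j ≫ gY) ⟶ Over.mk gY := Over.homMk j rfl
  have hjj : ∀ {A : Over S} (a b : A ⟶ Over.mk (j ≫ gY)), a ≫ jj = b ≫ jj → a = b := by
    intro A a b h
    apply Over.OverMorphism.ext
    have h1 := congrArg (fun t => CommaMorphism.left t) h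
    exact (cancel_mono j).mp h1
  have hι₀ : ∀ {A : Over S} (a b : A ⟶ Over.mk (M₀.ι ≫ M.hom)), a ≫ ι₀ = b ≫ ι₀ → a = b := by
    intro A a b h
    apply Over.OverMorphism.ext
    have h1 := congrArg (fun t => CommaMorphism.left t) h
    exact (cancel_mono M₀.ι).mp h1
  have hξ : ∀ {T : Over S} (k : T ⟶ M), e.homEquiv k = (Flatn.morS gX gY).map k.op ξ := by
    intro T k
    have := e.homEquiv_comp k (𝟙 M)
    rwa [Category.comp_id] at this
  have key1 : ∀ (T : Over S) (φ : T ⟶ Over.mk (M₀.ι ≫ M.hom)),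
      ∃ ψ : (Flatn.morS gX (j ≫ gY)).obj (op T), ψ ≫ jj = e.homEquiv (φ ≫ ι₀) := by
    intro T φ
    have hmem : ∀ y' : ↥(pullback T.hom gX),
        ((Flatn.morS gX gY).map (φ ≫ ι₀).op ξ).left y' ∈ V := by
      rw [forall_mem_iff]
      intro t'
      exact (φ.left t').2
    rw [← hξ] at hmem
    have hr : Set.range (e.homEquiv (φ ≫ ι₀)).left ⊆ Set.range j := by
      rintro _ ⟨y, rfl⟩
      exact hmem y
    refine ⟨Over.homMk (IsOpenImmersion.lift j (e.homEquiv (φ ≫ ι₀)).left hr) ?_, ?_⟩
    · change IsOpenImmersion.lift j _ hr ≫ j ≫ gY = _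
      rw [IsOpenImmersion.lift_fac_assoc]
      exact Over.w (e.homEquiv (φ ≫ ι₀))
    · apply Over.OverMorphism.ext
      exact IsOpenImmersion.lift_fac _ _ _
  have key2 : ∀ (T : Over S) (ψ : (Flatn.morS gX (j ≫ gY)).obj (op T)),
      ∃ φ : T ⟶ Over.mk (M₀.ι ≫ M.hom), e.homEquiv (φ ≫ ι₀) = ψ ≫ jj := by
    intro T ψ
    let k : T ⟶ M := e.homEquiv.symm (ψ ≫ jj)
    have hk : e.homEquiv k = ψ ≫ jj := e.homEquiv.apply_symm_apply _
    have hkm : ∀ t' : T.left, k.left t' ∈ M₀ := by
      rw [← forall_mem_iff, ← hξ, hk]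
      intro y'
      exact ⟨ψ.left y', rfl⟩
    have hr : Set.range k.left ⊆ Set.range M₀.ι := by
      rintro _ ⟨t', rfl⟩
      rw [Scheme.Opens.range_ι]
      exact hkm t'
    let a : T ⟶ Over.mk (M₀.ι ≫ M.hom) := Over.homMk (IsOpenImmersion.lift M₀.ι k.left hr) (by
      change IsOpenImmersion.lift M₀.ι k.left hr ≫ M₀.ι ≫ M.hom = _
      rw [IsOpenImmersion.lift_fac_assoc]
      exact Over.w k)
    have ha : a ≫ ι₀ = k := by
      apply Over.OverMorphism.ext
      exact IsOpenImmersion.lift_fac _ _ _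
    exact ⟨a, by rw [ha, hk]⟩
  choose F hF using key1
  have hinj : ∀ T : Over S, Function.Injective (F T) := by
    intro T a b hab
    apply hι₀
    apply e.homEquiv.injective
    rw [← hF, ← hF, hab]
  have hsurj : ∀ T : Over S, Function.Surjective (F T) := by
    intro T ψ
    obtain ⟨φ, hφ⟩ := key2 T ψ
    refine ⟨φ, ?_⟩
    apply hjj
    rw [hF, hφ]
  let e₀ : (Flatn.morS gX (j ≫ gY)).RepresentableBy (Over.mk (M₀.ι ≫ M.hom)) :=
    { homEquiv := fun {T} => Equiv.ofBijective (F T) ⟨hinj T, hsurj T⟩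
      homEquiv_comp := by
        intro T T' f g
        change F T (f ≫ g) = (Flatn.morS gX (j ≫ gY)).map f.op (F T' g)
        apply hjj
        rw [hF, Category.assoc, e.homEquiv_comp, ← hF]
        rfl }
  refine ⟨M₀, e₀, ?_⟩
  intro T φ
  exact (hF T φ).symm

end Groth.Agent.S17080
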