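import Groth.Statements.S17081
import Groth.Agent.Lib.Helper6.HilbClosed2

set_option autoImplicit false
universe u
open CategoryTheory CategoryTheory.Limits AlgebraicGeometry
open MorSch

namespace Groth.Agent.S17081

open Groth.Agent.Lib.Helper6.HilbDesc Groth.Agent.Lib.Helper6.HilbIncl
  Groth.Agent.Lib.Helper6.HilbClosed

section Aux
variable {X S S' : Scheme.{u}} (f : X ⟶ S) (h : S' ⟶ S)

/-- restriction of scalars `Over S' → Over S`. -/
noncomputable abbrev dn (T' : Over S') : Over S := Over.mk (T'.hom ≫ h)

noncomputable abbrev dnMap {T' T'' : Over S'} (g : T'' ⟶ T') : dn h T'' ⟶ dn h T' :=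
  Over.homMk g.left (by simp [dn, Over.w_assoc g])

/-- `X' ×_{S'} T' ≅ X ×_S T'`. -/
noncomputable abbrev E (T' : Over S') :
    PicF.XT (pullback.snd f h) T' ≅ PicF.XT f (dn h T') :=
  pullbackLeftPullbackSndIso f h T'.hom

theorem E_natural {T' T'' : Over S'} (g : T'' ⟶ T') :
    PicF.XTmap (pullback.snd f h) g ≫ (E f h T').hom =
      (E f h T'').hom ≫ PicF.XTmap f (dnMap h g) := by
  apply pullback.hom_ext
  · rw [Category.assoc, Category.assoc, XTmap_fst]
    erw [pullbackLeftPullbackSndIso_hom_fst, pullbackLeftPullbackSndIso_hom_fst]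
    rw [← Category.assoc, XTmap_fst]
  · rw [Category.assoc, Category.assoc, XTmap_snd]
    erw [pullbackLeftPullbackSndIso_hom_snd, pullbackLeftPullbackSndIso_hom_snd_assoc]
    rw [XTmap_snd]
    rfl

theorem E_inv_proj (T' : Over S') :
    (E f h T').inv ≫ PicF.XTproj (pullback.snd f h) T' = PicF.XTproj f (dn h T') := by
  erw [pullbackLeftPullbackSndIso_inv_snd_snd]
  rfl

variable (H : Over S)

/-- the projection `H'↓ ⟶ H`. -/
noncomputable abbrev prH : dn h (Over.mk (pullback.snd H.hom h)) ⟶ H :=
  Over.homMk (pullback.fst H.hom h) (by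
    simp only [dn, Over.mk_hom, Over.mk_left]; exact pullback.condition)

theorem P_eq :
    pullback.map (pullback.snd f h) (pullback.snd H.hom h) f H.hom
      (pullback.fst f h) (pullback.fst H.hom h) h pullback.condition.symm pullback.condition.symm =
      (E f h (Over.mk (pullback.snd H.hom h))).hom ≫ PicF.XTmap f (prH h H) := by
  apply pullback.hom_ext
  · rw [pullback.lift_fst, Category.assoc, XTmap_fst]
    erw [pullbackLeftPullbackSndIso_hom_fst]
    rfl
  · rw [pullback.lift_snd, Category.assoc, XTmap_snd]
    erw [pullbackLeftPullbackSndIso_hom_snd_assoc]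
    rfl

theorem star (Z : (PicF.XT f H).IdealSheafData) {T' : Over S'}
    (g' : T' ⟶ Over.mk (pullback.snd H.hom h)) :
    FGA.hilbPull (pullback.snd f h) g'
      (Z.comap (pullback.map (pullback.snd f h) (pullback.snd H.hom h) f H.hom
      (pullback.fst f h) (pullback.fst H.hom h) h pullback.condition.symm pullback.condition.symm)) =
      (FGA.hilbPull f (dnMap h g' ≫ prH h H) Z).comap (E f h T').hom := by
  change HilbD.pull (pullback.snd f h) g' _ =
    (HilbD.pull f (dnMap h g' ≫ prH h H) Z).comap (E f h T').hom
  rw [pull_eq_comap, pull_eq_comap, ← Scheme.IdealSheafData.comap_comp,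
    ← Scheme.IdealSheafData.comap_comp, P_eq, XTmap_comp, ← Category.assoc,
    E_natural, Category.assoc]

end Aux

/-- Let S and S' be Noetherian schemes, h : S' → S and f : X → S morphisms, and (H, Z) a pair
representing the Hilbert functor of X over S on locally Noetherian S-schemes (H locally Noetherian
over S; Z ⊆ X ×_S H closed, proper and flat over H; every closed subscheme of X ×_S T proper and
flat over a locally Noetherian S-scheme T is the pullback of Z along a unique S-morphism T → H),
with H locally of finite type over S. Write X' = X ×_S S' → S' and H' = H ×_S S' → S', and let Z' ⊆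
X' ×_{S'} H' be the closed subscheme pulled back from Z along the morphism X' ×_{S'} H' → X ×_S H
induced by the projections X' → X and H' → H. Then (H', Z') represents the Hilbert functor of X'
over S'. (Published for X flat and projective over S, which is how (H, Z) is known to exist there;
representability is taken as a hypothesis here; the hypothesis that H is locally of finite type over
S is added here (it holds for the Hilbert scheme of a flat projective scheme) so that H ×_S S' is
locally Noetherian.) -/
theorem result
    {X S S' : Scheme.{u}} [IsNoetherian S] [IsNoetherian S'] (f : X ⟶ S) (h : S' ⟶ S)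
    (H : Over S) (Z : FGA.HilbSet f H) (hH : FGA.HilbRepresentedBy f H Z)
    [LocallyOfFiniteType H.hom]
    (Z' : FGA.HilbSet (pullback.snd f h) (Over.mk (pullback.snd H.hom h)))
    (hZ' : Z'.1 = Z.1.comap (pullback.map (pullback.snd f h) (pullback.snd H.hom h) f H.hom
      (pullback.fst f h) (pullback.fst H.hom h) h pullback.condition.symm pullback.condition.symm)) :
    FGA.HilbRepresentedBy (pullback.snd f h) (Over.mk (pullback.snd H.hom h)) Z' := by
  classical
  refine ⟨?_, ?_⟩
  · have : LocallyOfFiniteType (pullback.snd H.hom h) := inferInstance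
    exact LocallyOfFiniteType.isLocallyNoetherian (pullback.snd H.hom h)
  · intro T' _ Y
    -- transport `Y` to `X ×_S T'`
    have hcomp : (Y.1.comap (E f h T').inv).subschemeι ≫ PicF.XTproj f (dn h T') =
        ((Y.1.comapIso (E f h T').inv).hom ≫ pullback.snd (E f h T').inv Y.1.subschemeι) ≫
          (Y.1.subschemeι ≫ PicF.XTproj (pullback.snd f h) T') := by
      rw [← E_inv_proj f h T', ← Scheme.IdealSheafData.comapIso_hom_fst, Category.assoc,
        Category.assoc, pullback.condition_assoc]
    have hY₀mem : IsProper ((Y.1.comap (E f h T').inv).subschemeι ≫ PicF.XTproj f (dn h T')) ∧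
        Flat ((Y.1.comap (E f h T').inv).subschemeι ≫ PicF.XTproj f (dn h T')) := by
      obtain ⟨hp, hfl⟩ := Y.2
      have := hp
      have := hfl
      rw [hcomp]
      exact ⟨inferInstance, inferInstance⟩
    have : IsLocallyNoetherian (dn h T').left := ‹IsLocallyNoetherian T'.left›
    obtain ⟨g, hg, hguniq⟩ := hH.2 (dn h T') ⟨Y.1.comap (E f h T').inv, hY₀mem⟩
    have hgw : g.left ≫ H.hom = T'.hom ≫ h := Over.w g
    let g' : T' ⟶ Over.mk (pullback.snd H.hom h) :=
      Over.homMk (pullback.lift g.left T'.hom hgw) (by
        simp only [Over.mk_hom]; exact pullback.lift_snd _ _ _)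
    have hg'π : dnMap h g' ≫ prH h H = g := by
      apply Over.OverMorphism.ext
      simp only [Over.comp_left, Over.homMk_left, g']
      exact pullback.lift_fst _ _ _
    refine ⟨g', ?_, ?_⟩
    · change FGA.hilbPull (pullback.snd f h) g' Z'.1 = Y.1
      rw [hZ', star f h H Z.1 g', hg'π]
      have : FGA.hilbPull f g Z.1 = Y.1.comap (E f h T').inv := hg
      rw [this, ← Scheme.IdealSheafData.comap_comp, Iso.hom_inv_id,
        Scheme.IdealSheafData.comap_id]
    · intro g'' hg''
      have hg''2 : FGA.hilbPull (pullback.snd f h) g'' Z'.1 = Y.1 := hg''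
      rw [hZ', star f h H Z.1 g''] at hg''2
      have h1 : FGA.hilbPull f (dnMap h g'' ≫ prH h H) Z.1 = Y.1.comap (E f h T').inv := by
        rw [← hg''2, ← Scheme.IdealSheafData.comap_comp, Iso.inv_hom_id,
          Scheme.IdealSheafData.comap_id]
      have h2 : dnMap h g'' ≫ prH h H = g := hguniq _ h1
      have h3 : g''.left ≫ pullback.fst H.hom h = g.left := by
        have := congrArg (fun m => m.left) h2
        simpa using this
      apply Over.OverMorphism.ext
      apply pullback.hom_ext
      · rw [h3]
        simp only [Over.homMk_left, g']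
        exact (pullback.lift_fst _ _ _).symm
      · have hw : g''.left ≫ pullback.snd H.hom h = T'.hom := Over.w g''
        rw [hw]
        simp only [Over.homMk_left, g']
        exact (pullback.lift_snd _ _ _).symm

end Groth.Agent.S17081
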