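import Groth.Statements.S17088
import Mathlib.AlgebraicGeometry.Morphisms.Immersion
import Mathlib.AlgebraicGeometry.Morphisms.Proper
import Mathlib.AlgebraicGeometry.IdealSheaf.Functorial
import Mathlib.Tactic
-- import your own Groth.Agent.* helpers here

set_option autoImplicit false
universe u
open CategoryTheory CategoryTheory.Limits AlgebraicGeometry
open MorSch

namespace Groth.Agent.S17088

lemma ker_eq_comap {A B C : Scheme.{u}} (a : A ⟶ B) (m : B ⟶ C) [Mono m] [IsClosedImmersion (a ≫ m)] :
    a.ker = (a ≫ m).ker.comap m := by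
  rw [← Scheme.IdealSheafData.ker_fst_of_isClosedImmersion (a ≫ m) m]
  have h : pullback.fst m (a ≫ m) = pullback.snd m (a ≫ m) ≫ a := by
    rw [← cancel_mono m, Category.assoc, pullback.condition]
  rw [h, Scheme.Hom.ker_comp_of_isIso]


/-- Let f : X → S be a separated morphism, ι : W → X an immersion and T an S-scheme. For every closed
subscheme V of W ×_S T which is proper and flat over T — a T-point of the Hilbert functor of W over
S — the composite V → W ×_S T → X ×_S T is a closed immersion, and the map sending V to the ideal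
sheaf of this composite, from T-points of the Hilbert functor of W to ideal sheaves on X ×_S T, is
injective: an immersion induces a monomorphism of Hilbert functors. -/
theorem result
    {W X S : Scheme.{u}} (f : X ⟶ S) [IsSeparated f] (ι : W ⟶ X) [IsImmersion ι]
    (T : Over S) :
    (∀ V : FGA.HilbSet (ι ≫ f) T,
      IsClosedImmersion (V.1.subschemeι ≫ pullback.map (ι ≫ f) T.hom f T.hom ι (𝟙 T.left) (𝟙 S)
          (Category.comp_id _) ((Category.comp_id _).trans (Category.id_comp _).symm))) ∧
    Function.Injective (fun V : FGA.HilbSet (ι ≫ f) T =>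
      (V.1.subschemeι ≫ pullback.map (ι ≫ f) T.hom f T.hom ι (𝟙 T.left) (𝟙 S)
          (Category.comp_id _) ((Category.comp_id _).trans (Category.id_comp _).symm)).ker) := by
  have hm : IsImmersion (pullback.map (ι ≫ f) T.hom f T.hom ι (𝟙 T.left) (𝟙 S)
      (Category.comp_id _) ((Category.comp_id _).trans (Category.id_comp _).symm)) :=
    MorphismProperty.pullbackMap (P := @IsImmersion) (f := ι ≫ f) (g := T.hom) (f' := f) (g' := T.hom)
      (i₁ := ι) (i₂ := 𝟙 T.left) inferInstance inferInstance rfl (Category.id_comp _).symm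
  have hcl : ∀ V : FGA.HilbSet (ι ≫ f) T,
      IsClosedImmersion (V.1.subschemeι ≫ pullback.map (ι ≫ f) T.hom f T.hom ι (𝟙 T.left) (𝟙 S)
          (Category.comp_id _) ((Category.comp_id _).trans (Category.id_comp _).symm)) := by
    intro V
    obtain ⟨I, hp, hfl⟩ := V
    have e : (I.subschemeι ≫ pullback.map (ι ≫ f) T.hom f T.hom ι (𝟙 T.left) (𝟙 S)
          (Category.comp_id _) ((Category.comp_id _).trans (Category.id_comp _).symm)) ≫
        pullback.snd f T.hom = I.subschemeι ≫ PicF.XTproj (ι ≫ f) T := by
      rw [Category.assoc, pullback.lift_snd, Category.comp_id]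
    have : IsProper ((I.subschemeι ≫ pullback.map (ι ≫ f) T.hom f T.hom ι (𝟙 T.left) (𝟙 S)
          (Category.comp_id _) ((Category.comp_id _).trans (Category.id_comp _).symm)) ≫
        pullback.snd f T.hom) := by rw [e]; exact hp
    have hprop : IsProper (I.subschemeι ≫ pullback.map (ι ≫ f) T.hom f T.hom ι (𝟙 T.left) (𝟙 S)
          (Category.comp_id _) ((Category.comp_id _).trans (Category.id_comp _).symm)) :=
      IsProper.of_comp _ (pullback.snd f T.hom)
    exact IsClosedImmersion.of_isPreimmersion _ (Scheme.Hom.isClosedMap _).isClosed_range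
  refine ⟨hcl, ?_⟩
  intro V V' h
  have hV := hcl V
  have hV' := hcl V'
  apply Subtype.ext
  have h1 := ker_eq_comap V.1.subschemeι (pullback.map (ι ≫ f) T.hom f T.hom ι (𝟙 T.left) (𝟙 S)
          (Category.comp_id _) ((Category.comp_id _).trans (Category.id_comp _).symm))
  have h2 := ker_eq_comap V'.1.subschemeι (pullback.map (ι ≫ f) T.hom f T.hom ι (𝟙 T.left) (𝟙 S)
          (Category.comp_id _) ((Category.comp_id _).trans (Category.id_comp _).symm))
  rw [Scheme.IdealSheafData.ker_subschemeι] at h1 h2
  rw [h1, h2]
  exact congrArg (fun K => Scheme.IdealSheafData.comap K _) h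

end Groth.Agent.S17088
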