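import Groth.Statements.S17082
-- import your own Groth.Agent.* helpers here
import Groth.Agent.S17088
import Mathlib.AlgebraicGeometry.Morphisms.Immersion
import Mathlib.AlgebraicGeometry.Morphisms.Proper
import Mathlib.AlgebraicGeometry.Morphisms.Flat
import Mathlib.AlgebraicGeometry.IdealSheaf.Functorial
import Mathlib.AlgebraicGeometry.PullbackCarrier
import Mathlib.AlgebraicGeometry.Noetherian
import Mathlib.Tactic

set_option autoImplicit false
universe u
open CategoryTheory CategoryTheory.Limits AlgebraicGeometry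
open MorSch

namespace Groth.Agent.S17082

lemma hilbPull_eq_comap {X S : Scheme.{u}} (f : X ⟶ S) {T T' : Over S} (g : T' ⟶ T)
    (I : (PicF.XT f T).IdealSheafData) :
    FGA.hilbPull f g I = I.comap (PicF.XTmap f g) := by
  unfold FGA.hilbPull Scheme.IdealSheafData.comap
  rw [← pullbackSymmetry_hom_comp_fst, Scheme.Hom.ker_comp_of_isIso]

lemma XTmap_snd {X S : Scheme.{u}} (f : X ⟶ S) {T T' : Over S} (g : T' ⟶ T) :
    PicF.XTmap f g ≫ pullback.snd f T.hom = pullback.snd f T'.hom ≫ g.left := by
  simp only [PicF.XTmap, pullback.map, pullback.lift_snd]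

lemma isPullback_XTmap {X S : Scheme.{u}} (f : X ⟶ S) {T T' : Over S} (g : T' ⟶ T) :
    IsPullback (PicF.XTmap f g) (pullback.snd f T'.hom) (pullback.snd f T.hom) g.left := by
  have t : IsPullback (pullback.fst f T.hom) (pullback.snd f T.hom) f T.hom :=
    IsPullback.of_hasPullback _ _
  have s : IsPullback (PicF.XTmap f g ≫ pullback.fst f T.hom) (pullback.snd f T'.hom) f
      (g.left ≫ T.hom) := by
    rw [FGA.XTmap_fst, Over.w g]
    exact IsPullback.of_hasPullback _ _
  exact IsPullback.of_right s (XTmap_snd f g) t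

lemma isPullback_of_range_eq {A W H₁ H : Scheme.{u}} (a : A ⟶ W) (b : A ⟶ H₁) (π : W ⟶ H)
    (ι : H₁ ⟶ H) [IsOpenImmersion a] [IsOpenImmersion ι] (w : a ≫ π = b ≫ ι)
    (hr : Set.range a = π ⁻¹' Set.range ι) : IsPullback a b π ι := by
  have hr' : Set.range a = Set.range (pullback.fst π ι) := by
    rw [hr, Scheme.Pullback.range_fst]
  let e := IsOpenImmersion.isoOfRangeEq a (pullback.fst π ι) hr'
  have h1 : e.hom ≫ pullback.fst π ι = a := IsOpenImmersion.isoOfRangeEq_hom_fac _ _ _
  have h2 : e.hom ≫ pullback.snd π ι = b := by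
    rw [← cancel_mono ι, Category.assoc, ← pullback.condition, ← Category.assoc, h1, w]
  exact IsPullback.of_iso_pullback ⟨w⟩ e h1 h2

lemma isPullback_comap {A B : Scheme.{u}} (I : B.IdealSheafData) (g : A ⟶ B) :
    IsPullback (I.comap g).subschemeι ((I.comapIso g).hom ≫ pullback.snd g I.subschemeι) g
      I.subschemeι := by
  refine IsPullback.of_iso_pullback ⟨?_⟩ (I.comapIso g) (by simp) rfl
  rw [Category.assoc, ← pullback.condition, ← Category.assoc,
    Scheme.IdealSheafData.comapIso_hom_fst]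

lemma eq_ker_of_support_subset {A B : Scheme.{u}} (m : A ⟶ B) [IsOpenImmersion m]
    (K' : B.IdealSheafData) (h : (K'.support : Set B) ⊆ Set.range m) :
    K' = ((K'.comap m).subschemeι ≫ m).ker := by
  let ℓ := IsOpenImmersion.lift m K'.subschemeι
    (by rw [Scheme.IdealSheafData.range_subschemeι]; exact h)
  have hℓ : ℓ ≫ m = K'.subschemeι := IsOpenImmersion.lift_fac _ _ _
  have : IsClosedImmersion (ℓ ≫ m) := by rw [hℓ]; infer_instance
  have h1 : ℓ.ker = K'.comap m := by
    rw [Groth.Agent.S17088.ker_eq_comap ℓ m, hℓ, Scheme.IdealSheafData.ker_subschemeι]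
  have : IsClosedImmersion ℓ := IsClosedImmersion.of_comp ℓ m
  rw [← h1]
  have h2 : ℓ.toImage ≫ (ℓ.ker.subschemeι ≫ m) = K'.subschemeι := by
    rw [← Category.assoc]
    have := ℓ.toImage_imageι
    rw [Scheme.Hom.imageι] at this
    rw [this, hℓ]
  rw [← Scheme.Hom.ker_comp_of_isIso ℓ.toImage (ℓ.ker.subschemeι ≫ m), h2,
    Scheme.IdealSheafData.ker_subschemeι]



/-- Let f : X → S be a separated morphism, j : U → X an open immersion, and (H, Z) a pair representing
the Hilbert functor of X over S on locally Noetherian S-schemes (H locally Noetherian over S; Z ⊆ X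
×_S H closed, proper and flat over H; every closed subscheme of X ×_S T proper and flat over a
locally Noetherian S-scheme T is the pullback of Z along a unique S-morphism T → H). Then there are
an open subset H₀ of H and a closed subscheme Z₀ ⊆ U ×_S H₀, proper and flat over H₀, such that Z₀
is the pullback of Z along the morphism U ×_S H₀ → X ×_S H induced by j and the inclusion of H₀, and
(H₀, Z₀) represents the Hilbert functor of U over S. So the Hilbert scheme of U over S exists and is
an open subscheme of that of X. (Published for X projective and flat over a Noetherian S in the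
representable case; this row assumes only X separated over S and takes the Hilbert scheme of X as
given.) -/
theorem result
    {X U S : Scheme.{u}} (f : X ⟶ S) [IsSeparated f] (j : U ⟶ X) [IsOpenImmersion j]
    (H : Over S) (Z : FGA.HilbSet f H) (hH : FGA.HilbRepresentedBy f H Z) :
    ∃ (H₀ : H.left.Opens) (Z₀ : FGA.HilbSet (j ≫ f) (Over.mk (H₀.ι ≫ H.hom))),
      Z₀.1 = Z.1.comap (pullback.map (j ≫ f) (H₀.ι ≫ H.hom) f H.hom j H₀.ι (𝟙 S)
        (Category.comp_id _) (Category.comp_id _)) ∧
      FGA.HilbRepresentedBy (j ≫ f) (Over.mk (H₀.ι ≫ H.hom)) Z₀ := by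
  obtain ⟨hHn, huniv⟩ := hH
  obtain ⟨IZ, hZp, hZf⟩ := Z
  let π : IZ.subscheme ⟶ H.left := IZ.subschemeι ≫ PicF.XTproj f H
  have hπp : IsProper π := hZp
  let C : Set IZ.subscheme := (IZ.subschemeι ≫ pullback.fst f H.hom) ⁻¹' (Set.range j)ᶜ
  have hC : IsClosed C :=
    (j.isOpenEmbedding.isOpen_range.isClosed_compl).preimage (Scheme.Hom.continuous _)
  have hπC : IsClosed (π '' C) := (Scheme.Hom.isClosedMap π) C hC
  let H₀ : H.left.Opens := ⟨(π '' C)ᶜ, hπC.isOpen_compl⟩
  have key : ∀ w : IZ.subscheme, π w ∈ H₀ →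
      (IZ.subschemeι ≫ pullback.fst f H.hom) w ∈ Set.range j := by
    intro w hw
    by_contra hn
    exact hw ⟨w, hn, rfl⟩
  let m₀ := pullback.map (j ≫ f) (H₀.ι ≫ H.hom) f H.hom j H₀.ι (𝟙 S)
    (Category.comp_id _) (Category.comp_id _)
  have hm₀ : IsOpenImmersion m₀ :=
    MorphismProperty.pullbackMap (P := @IsOpenImmersion) (f := j ≫ f) (g := H₀.ι ≫ H.hom)
      (f' := f) (g' := H.hom) (i₁ := j) (i₂ := H₀.ι) inferInstance inferInstance rfl rfl
  have hm₀r : Set.range m₀ = (pullback.fst f H.hom) ⁻¹' Set.range j ∩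
      (pullback.snd f H.hom) ⁻¹' (H₀ : Set H.left) := by
    rw [Scheme.Pullback.range_map, Scheme.Opens.range_ι]
  let I₀ := IZ.comap m₀
  let a : I₀.subscheme ⟶ IZ.subscheme := (IZ.comapIso m₀).hom ≫ pullback.snd m₀ IZ.subschemeι
  have sq₀ : IsPullback I₀.subschemeι a m₀ IZ.subschemeι := isPullback_comap IZ m₀
  have ha : IsOpenImmersion a := MorphismProperty.of_isPullback (P := @IsOpenImmersion) sq₀ hm₀
  have har : Set.range a = π ⁻¹' (H₀ : Set H.left) := by
    have h1 : Set.range a = IZ.subschemeι ⁻¹' Set.range m₀ := by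
      have := Scheme.image_preimage_eq_of_isPullback sq₀ Set.univ
      simpa [Set.image_univ] using this
    rw [h1, hm₀r]
    ext w
    simp only [Set.mem_preimage, Set.mem_inter_iff]
    constructor
    · rintro ⟨_, h2⟩; exact h2
    · intro h; exact ⟨key w h, h⟩
  let b : I₀.subscheme ⟶ (H₀ : Scheme) :=
    I₀.subschemeι ≫ PicF.XTproj (j ≫ f) (Over.mk (H₀.ι ≫ H.hom))
  have hab : a ≫ π = b ≫ H₀.ι := by
    simp only [π, b, PicF.XTproj, Category.assoc]
    rw [← sq₀.w_assoc]
    simp only [m₀, pullback.map, pullback.lift_snd]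
    rfl
  have sq₁ : IsPullback a b π H₀.ι :=
    isPullback_of_range_eq a b π H₀.ι hab (by rw [har, Scheme.Opens.range_ι])
  have hbp : IsProper b := MorphismProperty.of_isPullback (P := @IsProper) sq₁ hπp
  have hbf : Flat b := MorphismProperty.of_isPullback (P := @Flat) sq₁ hZf
  refine ⟨H₀, ⟨I₀, hbp, hbf⟩, rfl, ?_, ?_⟩
  · exact isLocallyNoetherian_of_isOpenImmersion H₀.ι
  · intro T _ Y
    obtain ⟨IY, hYp, hYf⟩ := Y
    let mT := pullback.map (j ≫ f) T.hom f T.hom j (𝟙 T.left) (𝟙 S) (Category.comp_id _)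
      ((Category.comp_id _).trans (Category.id_comp _).symm)
    have hmT : IsOpenImmersion mT :=
      MorphismProperty.pullbackMap (P := @IsOpenImmersion) (f := j ≫ f) (g := T.hom)
        (f' := f) (g' := T.hom) (i₁ := j) (i₂ := 𝟙 T.left) inferInstance inferInstance rfl
        (Category.id_comp _).symm
    have hmTr : Set.range mT = (pullback.fst f T.hom) ⁻¹' Set.range j := by
      rw [Scheme.Pullback.range_map]
      simp
    obtain ⟨hcl, -⟩ := Groth.Agent.S17088.result f j T
    have hc : IsClosedImmersion (IY.subschemeι ≫ mT) := hcl ⟨IY, hYp, hYf⟩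
    let c := IY.subschemeι ≫ mT
    let K := c.ker
    have hKeq : K.subschemeι ≫ PicF.XTproj f T =
        inv c.toImage ≫ (IY.subschemeι ≫ PicF.XTproj (j ≫ f) T) := by
      rw [IsIso.eq_inv_comp, ← Category.assoc]
      have := c.toImage_imageι
      rw [Scheme.Hom.imageι] at this
      rw [this]
      simp only [c, mT, PicF.XTproj, Category.assoc, pullback.map, pullback.lift_snd,
        Category.comp_id]
    have hKp : IsProper (K.subschemeι ≫ PicF.XTproj f T) := by
      rw [hKeq]
      exact (MorphismProperty.cancel_left_of_respectsIso @IsProper _ _).mpr hYp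
    have hKf : Flat (K.subschemeι ≫ PicF.XTproj f T) := by
      rw [hKeq]
      have := hYf
      infer_instance
    let ι₀ : Over.mk (H₀.ι ≫ H.hom) ⟶ H := Over.homMk H₀.ι rfl
    have L1 : ∀ g₀ : T ⟶ Over.mk (H₀.ι ≫ H.hom),
        PicF.XTmap (j ≫ f) g₀ ≫ m₀ = mT ≫ PicF.XTmap f (g₀ ≫ ι₀) := by
      intro g₀
      apply pullback.hom_ext
      · simp only [PicF.XTmap, m₀, mT, ι₀, pullback.map, Category.assoc, pullback.lift_fst,
          pullback.lift_snd, pullback.lift_fst_assoc, pullback.lift_snd_assoc, Category.comp_id,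
          Category.id_comp, Over.comp_left, Over.homMk_left]
        erw [pullback.lift_fst_assoc]
      · simp only [PicF.XTmap, m₀, mT, ι₀, pullback.map, Category.assoc, pullback.lift_fst,
          pullback.lift_snd, pullback.lift_fst_assoc, pullback.lift_snd_assoc, Category.comp_id,
          Category.id_comp, Over.comp_left, Over.homMk_left]
        erw [pullback.lift_snd_assoc]
        simp only [Category.assoc]
    have L2 : ∀ g₀ : T ⟶ Over.mk (H₀.ι ≫ H.hom),
        FGA.hilbPull (j ≫ f) g₀ I₀ = (IZ.comap (PicF.XTmap f (g₀ ≫ ι₀))).comap mT := by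
      intro g₀
      rw [hilbPull_eq_comap]
      show (IZ.comap m₀).comap _ = _
      rw [← Scheme.IdealSheafData.comap_comp, ← Scheme.IdealSheafData.comap_comp, L1]
    have hsupp : ∀ g₀ : T ⟶ Over.mk (H₀.ι ≫ H.hom),
        ((IZ.comap (PicF.XTmap f (g₀ ≫ ι₀))).support : Set _) ⊆ Set.range mT := by
      intro g₀ x hx
      rw [Scheme.IdealSheafData.support_comap] at hx
      have hx' : (PicF.XTmap f (g₀ ≫ ι₀)) x ∈ (IZ.support : Set _) := hx
      rw [← Scheme.IdealSheafData.range_subschemeι] at hx'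
      obtain ⟨w, hw⟩ := hx'
      rw [hmTr]
      show (pullback.fst f T.hom) x ∈ Set.range j
      have e1 : (pullback.fst f H.hom) ((PicF.XTmap f (g₀ ≫ ι₀)) x) = (pullback.fst f T.hom) x := by
        rw [← Scheme.Hom.comp_apply, FGA.XTmap_fst]
      have e2 : (pullback.snd f H.hom) ((PicF.XTmap f (g₀ ≫ ι₀)) x) =
          H₀.ι (g₀.left ((pullback.snd f T.hom) x)) := by
        rw [← Scheme.Hom.comp_apply, XTmap_snd, ← Scheme.Hom.comp_apply]
        rfl
      have hπw : π w ∈ H₀ := by
        have : π w = H₀.ι (g₀.left ((pullback.snd f T.hom) x)) := by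
          rw [← e2, ← hw]; rfl
        rw [this]
        exact (g₀.left ((pullback.snd f T.hom) x)).2
      have := key w hπw
      rw [Scheme.Hom.comp_apply, hw, e1] at this
      exact this
    have L3 : ∀ g₀ : T ⟶ Over.mk (H₀.ι ≫ H.hom),
        IZ.comap (PicF.XTmap f (g₀ ≫ ι₀)) =
          ((FGA.hilbPull (j ≫ f) g₀ I₀).subschemeι ≫ mT).ker := by
      intro g₀
      rw [L2]
      exact eq_ker_of_support_subset mT _ (hsupp g₀)
    obtain ⟨g', hg', hg'u⟩ := huniv T ⟨K, hKp, hKf⟩
    have hg'c : IZ.comap (PicF.XTmap f g') = K := by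
      rw [← hilbPull_eq_comap]; exact hg'
    have hrange : Set.range g'.left ⊆ Set.range H₀.ι := by
      rintro _ ⟨t, rfl⟩
      rw [Scheme.Opens.range_ι]
      by_contra hn
      have hmem : g'.left t ∈ π '' C := by
        by_contra h'
        exact hn h'
      obtain ⟨w, hwC, hwt⟩ := hmem
      obtain ⟨x, hx1, hx2⟩ := Scheme.exists_preimage_of_isPullback (isPullback_XTmap f g')
        (IZ.subschemeι w) t hwt
      have hxK : x ∈ (K.support : Set _) := by
        rw [← hg'c, Scheme.IdealSheafData.support_comap]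
        show (PicF.XTmap f g') x ∈ (IZ.support : Set _)
        rw [hx1, ← Scheme.IdealSheafData.range_subschemeι]
        exact ⟨w, rfl⟩
      have hxc : x ∈ Set.range c := by
        have h1 := Scheme.Hom.support_ker c
        rw [h1, c.isClosedEmbedding.isClosed_range.closure_eq] at hxK
        exact hxK
      obtain ⟨v, rfl⟩ := hxc
      apply hwC
      show (IZ.subschemeι ≫ pullback.fst f H.hom) w ∈ Set.range j
      refine ⟨(pullback.fst (j ≫ f) T.hom) (IY.subschemeι v), ?_⟩
      rw [Scheme.Hom.comp_apply, ← hx1, ← Scheme.Hom.comp_apply (PicF.XTmap f g'), FGA.XTmap_fst]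
      simp only [c, mT, ← Scheme.Hom.comp_apply, Category.assoc, pullback.map, pullback.lift_fst]
    let g₀l : T.left ⟶ (H₀ : Scheme) := IsOpenImmersion.lift H₀.ι g'.left hrange
    have hg₀l : g₀l ≫ H₀.ι = g'.left := IsOpenImmersion.lift_fac _ _ _
    let g₀ : T ⟶ Over.mk (H₀.ι ≫ H.hom) := Over.homMk g₀l (by
      show g₀l ≫ H₀.ι ≫ H.hom = T.hom
      rw [← Category.assoc, hg₀l, Over.w g'])
    have hg₀ : g₀ ≫ ι₀ = g' := by
      ext
      exact hg₀l
    refine ⟨g₀, ?_, ?_⟩
    · show FGA.hilbPull (j ≫ f) g₀ I₀ = IY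
      rw [L2, hg₀, hg'c]
      have := Groth.Agent.S17088.ker_eq_comap IY.subschemeι mT
      rw [Scheme.IdealSheafData.ker_subschemeι] at this
      exact this.symm
    · intro g₁ hg₁
      have h1 : FGA.hilbPull f (g₁ ≫ ι₀) IZ = K := by
        rw [hilbPull_eq_comap, L3 g₁]
        have : FGA.hilbPull (j ≫ f) g₁ I₀ = IY := hg₁
        rw [this]
      have h2 := hg'u (g₁ ≫ ι₀) h1
      have h3 : g₁ ≫ ι₀ = g₀ ≫ ι₀ := h2.trans hg₀.symm
      ext
      have := congrArg (fun k => k.left) h3
      simp only [Over.comp_left, ι₀, Over.homMk_left] at this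
      exact (cancel_mono H₀.ι).mp this

end Groth.Agent.S17082
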