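import Groth.Statements.S17083
import Mathlib
import Groth.Agent.Lib.Helper82.BlowUpMul

set_option autoImplicit false
universe u
open CategoryTheory CategoryTheory.Limits AlgebraicGeometry
open MorSch

namespace Groth.Agent.S17083


open Groth.Agent.Lib.Helper82 in
theorem inf_eq_mul_of_sup_eq_top {X : Scheme.{u}} (I₁ I₂ : X.IdealSheafData) (h : I₁ ⊔ I₂ = ⊤) :
    I₁ ⊓ I₂ = I₁ * I₂ := by
  refine Scheme.IdealSheafData.ext ?_
  funext U
  have h1 : I₁.ideal U ⊔ I₂.ideal U = ⊤ := by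
    have := congrArg (fun K => Scheme.IdealSheafData.ideal K U) h
    simpa [Scheme.IdealSheafData.ideal_sup, Scheme.IdealSheafData.ideal_top] using this
  rw [Scheme.IdealSheafData.ideal_inf, Scheme.IdealSheafData.ideal_mul]
  simp only [Pi.inf_apply, Pi.mul_apply]
  exact (Ideal.mul_eq_inf_of_isCoprime (Ideal.isCoprime_iff_sup_eq.mpr h1)).symm

open Groth.Agent.Lib.Helper82 in
theorem effCartierAt_of_comap_ι {X : Scheme.{u}} (K : X.IdealSheafData) (W : X.Opens)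
    (h : BlowUp.IsEffCartierIdeal (K.comap W.ι)) (x : X) (hx : x ∈ W) :
    ∃ U : X.affineOpens, x ∈ U.1 ∧
      ∃ f : Γ(X, U.1), f ∈ nonZeroDivisors Γ(X, U.1) ∧ K.ideal U = Ideal.span {f} := by
  obtain ⟨U', hxU', hU'⟩ := h ⟨x, hx⟩
  replace hU' : IsPrincipalNZD ((K.comap W.ι).ideal U') := hU'
  rw [Scheme.IdealSheafData.ideal_comap_of_isOpenImmersion] at hU'
  refine ⟨⟨W.ι ''ᵁ U'.1, U'.2.image_of_isOpenImmersion W.ι⟩, ⟨⟨x, hx⟩, hxU', rfl⟩, ?_⟩
  exact IsPrincipalNZD.of_comap_iso_inv (W.ι.appIso U'.1) hU'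

open Groth.Agent.Lib.Helper82 in
theorem effCartierAt_of_notMem_support {X : Scheme.{u}} (K : X.IdealSheafData) (x : X)
    (hx : x ∉ K.support) :
    ∃ U : X.affineOpens, x ∈ U.1 ∧
      ∃ f : Γ(X, U.1), f ∈ nonZeroDivisors Γ(X, U.1) ∧ K.ideal U = Ideal.span {f} := by
  apply effCartierAt_of_comap_ι K K.support.compl _ x hx
  rw [comap_ι_support_compl]
  exact isEffCartierIdeal_top _

open Groth.Agent.Lib.Helper82 in
theorem effCartier_comap_of_isPullback {X B₁ B₂ P : Scheme.{u}} (I₁ I₂ : X.IdealSheafData)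
    (hdisj : I₁ ⊔ I₂ = ⊤) (σ₁ : B₁ ⟶ X) (σ₂ : B₂ ⟶ X) (p₁ : P ⟶ B₁) (p₂ : P ⟶ B₂)
    (sq : IsPullback p₁ p₂ σ₁ σ₂)
    (h₁ : BlowUp.IsEffCartierIdeal (I₁.comap σ₁)) (hσ₂ : BlowUp.IsBlowUp σ₂ I₂) :
    BlowUp.IsEffCartierIdeal ((I₁.comap σ₁).comap p₁) := by
  intro p
  by_cases hy : σ₁ (p₁ p) ∈ I₁.support
  · have hy2 : σ₂ (p₂ p) ∉ I₂.support := by
      have e : σ₂ (p₂ p) = σ₁ (p₁ p) := by
        have := congrArg (fun f : P ⟶ X => f p) sq.w
        exact this.symm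
      rw [e]
      intro h2
      have h3 : σ₁ (p₁ p) ∈ (I₁ ⊔ I₂).support := by
        rw [Scheme.IdealSheafData.support_sup]
        exact ⟨hy, h2⟩
      rw [hdisj, Scheme.IdealSheafData.support_top] at h3
      exact h3
    set U₂ : X.Opens := I₂.support.compl with hU₂
    set V₂ : B₂.Opens := σ₂ ⁻¹ᵁ U₂ with hV₂
    set W : P.Opens := p₂ ⁻¹ᵁ V₂ with hW
    have hpW : p ∈ W := hy2
    haveI hiso : IsIso (σ₂ ∣_ U₂) := isIso_morphismRestrict_of_isBlowUp I₂ σ₂ hσ₂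
    haveI hoi : IsOpenImmersion (V₂.ι ≫ σ₂) := by
      rw [← morphismRestrict_ι]
      infer_instance
    have sq1 : IsPullback W.ι (p₂ ∣_ V₂) p₂ V₂.ι := (isPullback_morphismRestrict p₂ V₂).flip
    have sq3 : IsPullback (W.ι ≫ p₁) (p₂ ∣_ V₂) σ₁ (V₂.ι ≫ σ₂) := sq1.paste_horiz sq
    haveI : IsOpenImmersion (W.ι ≫ p₁) :=
      MorphismProperty.of_isPullback (P := @IsOpenImmersion) sq3.flip hoi
    apply effCartierAt_of_comap_ι _ W _ p hpW
    rw [← Scheme.IdealSheafData.comap_comp]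
    exact isEffCartierIdeal_comap_of_flat (W.ι ≫ p₁) _ h₁
  · apply effCartierAt_of_notMem_support
    rw [Scheme.IdealSheafData.support_comap, Scheme.IdealSheafData.support_comap]
    exact hy

/-- The closed immersion constructed in its proof, as follows. Let X be a scheme, I₁ and I₂
quasi-coherent ideal sheaves on X with I₁ + I₂ = O_X, so that they cut out disjoint closed
subschemes Z₁ and Z₂, let σ : B → X be a blow-up of X in the ideal I₁ ∩ I₂ of Z₁ ∪ Z₂, and let σ₁ :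
B₁ → X and σ₂ : B₂ → X be blow-ups of X in Z₁ and in Z₂ (blow-up in the sense of the universal
property: the inverse image ideal is effective Cartier, finally so). Then there is a morphism ι : B
→ B₁ ×_X B₂ over X which is a closed immersion; the components B → B_i are necessarily the unique
X-morphisms given by the universal properties. (Published for X a projective space over an
algebraically closed field, Z₂ a closed point and Z₁ a finite set of closed points not containing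
it, and iterated there to embed the blow-up at r distinct points as a closed subscheme of the fibre
product over X of the r blow-ups at single points.) -/
theorem result
    {X B B₁ B₂ : Scheme.{u}} (I₁ I₂ : X.IdealSheafData) (hdisj : I₁ ⊔ I₂ = ⊤)
    (σ : B ⟶ X) (hσ : BlowUp.IsBlowUp σ (I₁ ⊓ I₂))
    (σ₁ : B₁ ⟶ X) (hσ₁ : BlowUp.IsBlowUp σ₁ I₁) (σ₂ : B₂ ⟶ X) (hσ₂ : BlowUp.IsBlowUp σ₂ I₂) :
    ∃ ι : B ⟶ pullback σ₁ σ₂, IsClosedImmersion ι ∧ ι ≫ pullback.fst σ₁ σ₂ ≫ σ₁ = σ := by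
  have hJ : I₁ ⊓ I₂ = I₁ * I₂ := inf_eq_mul_of_sup_eq_top I₁ I₂ hdisj
  rw [hJ] at hσ
  set π : pullback σ₁ σ₂ ⟶ X := pullback.fst σ₁ σ₂ ≫ σ₁ with hπ
  have hπ' : π = pullback.snd σ₁ σ₂ ≫ σ₂ := pullback.condition
  have h1 : BlowUp.IsEffCartierIdeal (I₁.comap π) := by
    rw [hπ, Scheme.IdealSheafData.comap_comp]
    exact effCartier_comap_of_isPullback I₁ I₂ hdisj σ₁ σ₂ _ _ (IsPullback.of_hasPullback σ₁ σ₂)
      hσ₁.1 hσ₂
  have h2 : BlowUp.IsEffCartierIdeal (I₂.comap π) := by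
    rw [hπ', Scheme.IdealSheafData.comap_comp]
    exact effCartier_comap_of_isPullback I₂ I₁ (by rw [sup_comm]; exact hdisj) σ₂ σ₁ _ _
      (IsPullback.of_hasPullback σ₁ σ₂).flip hσ₂.1 hσ₁
  have hP : BlowUp.IsBlowUp π (I₁ * I₂) := by
    refine ⟨?_, ?_⟩
    · rw [Groth.Agent.Lib.Helper82.comap_mul]
      exact Groth.Agent.Lib.Helper82.isEffCartierIdeal_mul _ _ h1 h2
    · intro Y g hg
      rw [Groth.Agent.Lib.Helper82.comap_mul] at hg
      obtain ⟨hg1, hg2⟩ := Groth.Agent.S8852.result _ _ hg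
      obtain ⟨g₁, hg₁, hu₁⟩ := hσ₁.2 Y g hg1
      obtain ⟨g₂, hg₂, hu₂⟩ := hσ₂.2 Y g hg2
      refine ⟨pullback.lift g₁ g₂ (by rw [hg₁, hg₂]), ?_, ?_⟩
      · show pullback.lift _ _ _ ≫ pullback.fst _ _ ≫ σ₁ = g
        rw [pullback.lift_fst_assoc, hg₁]
      · intro k hk
        apply pullback.hom_ext
        · rw [pullback.lift_fst]
          apply hu₁
          rw [Category.assoc]
          exact hk
        · rw [pullback.lift_snd]
          apply hu₂
          rw [Category.assoc, ← pullback.condition]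
          exact hk
  obtain ⟨ι, hι, -⟩ := hP.2 B σ hσ.1
  obtain ⟨k, hk, -⟩ := hσ.2 _ π hP.1
  have e1 : ι ≫ k = 𝟙 B :=
    (hσ.2 B σ hσ.1).unique (by rw [Category.assoc, hk, hι]) (Category.id_comp _)
  have e2 : k ≫ ι = 𝟙 _ :=
    (hP.2 _ π hP.1).unique (by rw [Category.assoc, hι, hk]) (Category.id_comp _)
  haveI : IsIso ι := ⟨k, e1, e2⟩
  exact ⟨ι, inferInstance, hι⟩

end Groth.Agent.S17083
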