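import Groth.Statements.S17084
import Mathlib.CategoryTheory.Extensive
import Mathlib.AlgebraicGeometry.Limits
import Mathlib.Tactic
-- import your own Groth.Agent.* helpers here

set_option autoImplicit false
universe u
open CategoryTheory CategoryTheory.Limits AlgebraicGeometry
open MorSch

namespace Groth.Agent.S17084

section aux
variable {S : Scheme.{u}} {ι : Type u} [Finite ι] (X : ι → Scheme.{u}) (g : ∀ i, X i ⟶ S)
  {T : Scheme.{u}} (t : T ⟶ S)

/-- the comparison maps -/
noncomputable abbrev pm (i : ι) : pullback t (g i) ⟶ pullback t (Sigma.desc g) :=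
  pullback.map t (g i) t (Sigma.desc g) (𝟙 T) (Sigma.ι X i) (𝟙 S)
    ((Category.comp_id _).trans (Category.id_comp _).symm)
    ((Category.comp_id _).trans (Sigma.ι_desc g i).symm)

lemma isPullback_pm (i : ι) :
    IsPullback (pm X g t i) (pullback.snd t (g i)) (pullback.snd t (Sigma.desc g)) (Sigma.ι X i) := by
  have hO : IsPullback (pm X g t i ≫ pullback.fst t (Sigma.desc g)) (pullback.snd t (g i))
      t (Sigma.ι X i ≫ Sigma.desc g) := by
    have := (IsPullback.of_hasPullback t (g i))
    simp only [pm, pullback.lift_fst, Category.comp_id, Sigma.ι_desc]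
    exact this
  exact IsPullback.of_right hO (pullback.lift_snd _ _ _) (IsPullback.of_hasPullback t (Sigma.desc g))

lemma isColimit_pm : Nonempty (IsColimit (Cofan.mk (pullback t (Sigma.desc g)) (pm X g t))) := by
  have hu : IsUniversalColimit (Cofan.mk (∐ X) (Sigma.ι X)) :=
    FinitaryPreExtensive.isUniversal_finiteCoproducts (coproductIsCoproduct X)
  refine hu (Cofan.mk (pullback t (Sigma.desc g)) (pm X g t))
    (Discrete.natTrans fun i => pullback.snd t (g i.as)) (pullback.snd t (Sigma.desc g)) ?_
    (.of_discrete _) ?_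
  · ext ⟨i⟩
    exact (pullback.lift_snd _ _ _).symm
  · rintro ⟨i⟩
    exact isPullback_pm X g t i

end aux


/-- Let (X_i)_{i ∈ ι} be a finite family of schemes over S with structure morphisms g_i : X_i → S, let Y
→ S be a scheme over S and T an S-scheme. Then for every family of S-morphisms a_i : T ×_S X_i → Y
there is a unique S-morphism b : T ×_S (∐_i X_i) → Y whose restriction along each T ×_S X_i → T ×_S
(∐_i X_i) is a_i. In other words the canonical map Mor_S(∐_i X_i, Y) → ∏_i Mor_S(X_i, Y) of functors
on S-schemes is an isomorphism. -/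
theorem result
    {S Y : Scheme.{u}} {ι : Type u} [Finite ι] (X : ι → Scheme.{u}) (g : ∀ i, X i ⟶ S)
    (gY : Y ⟶ S) (T : Over S) (a : ∀ i, (Flatn.morS (g i) gY).obj (Opposite.op T)) :
    ∃! b : (Flatn.morS (Sigma.desc g) gY).obj (Opposite.op T),
      ∀ i, pullback.map T.hom (g i) T.hom (Sigma.desc g) (𝟙 T.left) (Sigma.ι X i) (𝟙 S)
          ((Category.comp_id _).trans (Category.id_comp _).symm)
          ((Category.comp_id _).trans (Sigma.ι_desc g i).symm) ≫ b.left = (a i).left := by
  obtain ⟨hc⟩ := isColimit_pm X g T.hom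
  have hw : ∀ i, (a i).left ≫ gY = pullback.snd T.hom (g i) ≫ g i := fun i => Over.w (a i)
  let b' : pullback T.hom (Sigma.desc g) ⟶ Y := Cofan.IsColimit.desc hc (fun i => (a i).left)
  have hb' : ∀ i, pm X g T.hom i ≫ b' = (a i).left := fun i => Cofan.IsColimit.fac hc _ i
  have hbw : b' ≫ gY = pullback.snd T.hom (Sigma.desc g) ≫ Sigma.desc g := by
    apply Cofan.IsColimit.hom_ext hc
    intro i
    change pm X g T.hom i ≫ b' ≫ gY = pm X g T.hom i ≫ pullback.snd T.hom (Sigma.desc g) ≫ Sigma.desc g
    rw [← Category.assoc, hb', hw, ← Category.assoc, pullback.lift_snd, Category.assoc, Sigma.ι_desc]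
  refine ⟨Over.homMk b' hbw, fun i => hb' i, ?_⟩
  intro c hcc
  apply Over.OverMorphism.ext
  apply Cofan.IsColimit.hom_ext hc
  intro i
  change pm X g T.hom i ≫ c.left = pm X g T.hom i ≫ b'
  rw [hb']
  exact hcc i

end Groth.Agent.S17084
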