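import Groth.Statements.S17086
import Mathlib
import Groth.Agent.Lib.Helper60.Gs3
import Groth.Agent.Lib.Helper93.ProjConst2

set_option autoImplicit false
universe u
open CategoryTheory CategoryTheory.Limits AlgebraicGeometry
open RatCurve

namespace Groth.Agent.S17086

section helpers
open CategoryTheory CategoryTheory.Limits AlgebraicGeometry


open Groth.Agent.Lib.Helper60.PicPn Groth.Agent.Lib.Helper60.Split Groth.Agent.Lib.Helper60.ProjUPLib

/-- an ideal sheaf on `P^1_k` which is the unit ideal at some point is effective Cartier -/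
lemma effCartier_P1 (k : Type u) [Field k] (J : (Proj (CohB1.polyGrading 1 k)).IdealSheafData)
    (hJ : (J.support : Set (Proj (CohB1.polyGrading 1 k))) ≠ Set.univ) :
    BlowUp.IsEffCartierIdeal J := by
  intro x
  obtain ⟨i, hi⟩ := exists_mem_basicOpen (CohB1.polyGrading 1 k)
    (MvPolynomial.X : Fin (1 + 1) → MvPolynomial (Fin (1 + 1)) k) MvPolynomial.adjoin_range_X x
  have hiU : x ∈ DD 1 k i := hi
  obtain ⟨j, hji⟩ := exists_other i
  have hU := isAffineOpen_DD1 k i
  haveI := isDomain_chart1 k i j hji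
  haveI := isPrincipalIdealRing_chart1 k i j hji
  refine ⟨⟨DD 1 k i, hU⟩, hiU, ?_⟩
  have hprin : (J.ideal ⟨DD 1 k i, hU⟩).IsPrincipal := IsPrincipalIdealRing.principal _
  refine ⟨Submodule.IsPrincipal.generator (J.ideal ⟨DD 1 k i, hU⟩), ?_,
    (Ideal.span_singleton_generator _).symm⟩
  rw [mem_nonZeroDivisors_iff_ne_zero]
  intro h0
  have hbot : J.ideal ⟨DD 1 k i, hU⟩ = ⊥ := by
    rw [← Ideal.span_singleton_generator (J.ideal ⟨DD 1 k i, hU⟩), h0]
    simp
  apply hJ
  -- the chart is contained in the support, and is dense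
  have hsub : ((DD 1 k i : (Proj (CohB1.polyGrading 1 k)).Opens) : Set _) ⊆
      (J.support : Set (Proj (CohB1.polyGrading 1 k))) := by
    intro y hy
    have := Scheme.IdealSheafData.coe_support_inter J ⟨DD 1 k i, hU⟩
    rw [hbot] at this
    have hy' : y ∈ (J.support : Set (Proj (CohB1.polyGrading 1 k))) ∩ (DD 1 k i : Set _) := by
      rw [this]
      refine ⟨?_, hy⟩
      simp [Scheme.zeroLocus]
    exact hy'.1
  haveI : IsIntegral (Proj (CohB1.polyGrading 1 k)) := Groth.Agent.Lib.Helper93.ProjConst.isIntegral_projSpace 1 k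
  have hdense : Dense ((DD 1 k i : (Proj (CohB1.polyGrading 1 k)).Opens) : Set (Proj (CohB1.polyGrading 1 k))) :=
    (DD 1 k i).isOpen.dense ⟨x, hiU⟩
  have hcl : IsClosed (J.support : Set (Proj (CohB1.polyGrading 1 k))) := J.support.isClosed
  exact Set.eq_univ_of_univ_subset (hdense.closure_eq ▸ closure_minimal hsub hcl)

end helpers

/-- Let k be an algebraically closed field, X a closed subscheme of P^n_k, Z ⊆ X a closed subscheme and
σ : B → X a blow-up of X along Z (the inverse image ideal of Z is effective Cartier and σ is final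
with this property). Then every k-morphism f : P^1_k → X whose image is not contained in Z lifts
uniquely along σ: there is exactly one morphism g : P^1_k → B with g ≫ σ = f. Equivalently, over the
open locus of morphisms meeting X ∖ Z, the morphism Mor(P^1_k, B) → Mor(P^1_k, X) induced by σ is a
bijection on k-points. -/
theorem result
    {k : Type u} [Field k] [IsAlgClosed k] {n : ℕ} (X : Scheme.{u})
    (c : X ⟶ CohB1.ProjSpace n k) [IsClosedImmersion c]
    (Z : Scheme.{u}) (iZ : Z ⟶ X) [IsClosedImmersion iZ]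
    (B : Scheme.{u}) (σ : B ⟶ X) (hσ : BlowUp.IsBlowUp σ iZ.ker)
    (f : CohB1.ProjSpace 1 k ⟶ X)
    (hf : f ≫ c ≫ CohB1.ProjSpace.toSpec n k = CohB1.ProjSpace.toSpec 1 k)
    (hfZ : ¬ Set.range f ⊆ Set.range iZ) :
    ∃! g : CohB1.ProjSpace 1 k ⟶ B, g ≫ σ = f := by
  apply hσ.2
  refine effCartier_P1 k (iZ.ker.comap f) ?_
  intro hall
  apply hfZ
  rintro _ ⟨p, rfl⟩
  have hp : p ∈ ((iZ.ker.comap f).support : Set (CohB1.ProjSpace 1 k)) :=
    (Set.ext_iff.mp hall p).mpr (Set.mem_univ _)
  rw [Scheme.IdealSheafData.support_comap] at hp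
  have hp' : f p ∈ (iZ.ker.support : Set X) := hp
  rw [Scheme.Hom.support_ker] at hp'
  have hcl : IsClosed (Set.range iZ) := iZ.isClosedEmbedding.isClosed_range
  rw [hcl.closure_eq] at hp'
  exact hp'

end Groth.Agent.S17086
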