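import Groth.Statements.S1709
import Groth.Agent.Lib.Helper29.QCohPush

set_option autoImplicit false
universe u
open CategoryTheory CategoryTheory.Limits AlgebraicGeometry TopologicalSpace
open SDiv

namespace Groth.Agent.S1709

/-- Let f : X ⟶ S be an affine morphism with X locally Noetherian and F a quasi-coherent module on X.
Then the following subsets of S coincide: the image of the associated points of F, the associated
points of f_* F, the weakly associated points of f_* F, and the image of the weakly associated
points of F. -/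
theorem result {X S : Scheme.{u}} (f : X ⟶ S) [IsAffineHom f] [IsLocallyNoetherian X] (F : X.Modules)
    (hF : Coh.IsQCoh F) :
    (fun x => f x) '' {x : ↥X | Curv2.IsAssPoint F x} = {s : ↥S | Curv2.IsAssPoint ((Scheme.Modules.pushforward f).obj F) s} ∧
      {s : ↥S | Curv2.IsAssPoint ((Scheme.Modules.pushforward f).obj F) s} =
        {s : ↥S | Curv2.IsWeakAssPoint ((Scheme.Modules.pushforward f).obj F) s} ∧
      {s : ↥S | Curv2.IsWeakAssPoint ((Scheme.Modules.pushforward f).obj F) s} =
        (fun x => f x) '' {x : ↥X | Curv2.IsWeakAssPoint F x} := by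
  have : F.IsQuasicoherent := hF
  have hiff := fun (G : X.Modules) (x : X) =>
    Groth.Agent.Lib.Helper29.QCohLoc.isAssPoint_iff_isWeakAssPoint G x
  have hiffS := fun (s : S) =>
    Groth.Agent.Lib.Helper29.QCohLoc.isAssPoint_iff_isWeakAssPoint
      ((Scheme.Modules.pushforward f).obj F) s
  have key : {s : ↥S | Curv2.IsWeakAssPoint ((Scheme.Modules.pushforward f).obj F) s} =
      (fun x => f x) '' {x : ↥X | Curv2.IsWeakAssPoint F x} := by
    ext s
    constructor
    · intro hs
      obtain ⟨x, hx1, hx2⟩ :=
        Groth.Agent.Lib.Helper29.QCohLoc.exists_isWeakAssPoint_of_pushforward f F s hs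
      exact ⟨x, hx2, hx1⟩
    · rintro ⟨x, hx, rfl⟩
      exact Groth.Agent.Lib.Helper29.QCohLoc.isWeakAssPoint_pushforward_of_isLocallyNoetherian
        f F x hx
  have e1 : {x : ↥X | Curv2.IsAssPoint F x} = {x : ↥X | Curv2.IsWeakAssPoint F x} := by
    ext x; exact hiff F x
  have e2 : {s : ↥S | Curv2.IsAssPoint ((Scheme.Modules.pushforward f).obj F) s} =
      {s : ↥S | Curv2.IsWeakAssPoint ((Scheme.Modules.pushforward f).obj F) s} := by
    ext s; exact hiffS s
  refine ⟨?_, e2, key⟩
  rw [e1, e2, key]

end Groth.Agent.S1709
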