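import Groth.Statements.S1712
import Groth.Agent.Lib.Helper39.Dual.LocExt
import Groth.Agent.Lib.Helper67.Depth2
-- import your own Groth.Agent.* helpers here

set_option autoImplicit false
universe u
open CategoryTheory
attribute [local instance] HasDerivedCategory.standard
open Dual

namespace Groth.Agent.S1712

/-- Let A be a Noetherian local ring with a normalized dualizing complex ω, M a finite A-module and E^j
the A-module of maps M → ω[-j] in D(A). A prime p is in the support of one of E^0, …, E^i if and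
only if the depth of M_p over A_p plus the dimension of A/p is at most i. -/
theorem result (A : Type u) [CommRing A] [IsLocalRing A] [IsNoetherianRing A] (ω : Dual.D A) (hω : Dual.IsDualizing A ω) (hn : Dual.IsNormalized A ω) (M : Type u) [AddCommGroup M] [Module A M] [Module.Finite A M] (i : ℕ) (p : PrimeSpectrum A) : (∃ j : ℕ, j ≤ i ∧ p ∈ Module.support A (Dual.inD A M ⟶ ω⟦(-(j : ℤ))⟧)) ↔ ((LocCoh.depth (Localization.AtPrime p.asIdeal) (LocalizedModule p.asIdeal.primeCompl M) : ℕ∞) : WithBot ℕ∞) + ringKrullDim (A ⧸ p.asIdeal) ≤ (i : WithBot ℕ∞) := by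
  have hfin : Order.coheight p ≠ ⊤ := by
    intro htop
    have h2 := Order.coheight_le_krullDim p
    rw [htop] at h2
    have h3 : ringKrullDim A < ⊤ := ringKrullDim_lt_top
    exact absurd (lt_of_le_of_lt h2 h3) (lt_irrefl _)
  obtain ⟨e, he⟩ := ENat.ne_top_iff_exists.mp hfin
  obtain ⟨hBn, ω', hω', hn', hiff⟩ :=
    Lib.Helper39.Dual.exists_local_model ω hω hn p e he.symm
  have hdimq : ringKrullDim (A ⧸ p.asIdeal) = ((e : ℕ∞) : WithBot ℕ∞) := by
    rw [Lib.Helper25.LocDual.ringKrullDim_quotient_eq_coheight p, ← he]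
  have hfinB := Lib.Helper39.Dual.finite_extendScalars
    (algebraMap A (Localization.AtPrime p.asIdeal)) M
  obtain ⟨eN⟩ := Lib.Helper39.Dual.nonempty_extendScalars_equiv_localizedModule p.asIdeal M
  rw [← Lib.Helper67.depth_congr eN, hdimq]
  -- support membership in terms of `B`
  have hmem : ∀ j : ℕ, p ∈ Module.support A (Dual.inD A M ⟶ ω⟦(-(j : ℤ))⟧) ↔
      Nontrivial (Dual.inD (Localization.AtPrime p.asIdeal)
        ((ModuleCat.extendScalars.{u, u, u}
          (algebraMap A (Localization.AtPrime p.asIdeal))).obj (ModuleCat.of A M)) ⟶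
            ω'⟦(-(j : ℤ)) + (e : ℤ)⟧) := by
    intro j
    rw [Module.mem_support_iff, ← not_subsingleton_iff_nontrivial,
      ← Lib.Helper25.LocDual.locZero_iff_subsingleton, ← not_subsingleton_iff_nontrivial]
    exact not_congr (hiff (ModuleCat.of A M) (-(j : ℤ)))
  simp only [hmem]
  by_cases hsub : Subsingleton ((ModuleCat.extendScalars.{u, u, u}
      (algebraMap A (Localization.AtPrime p.asIdeal))).obj (ModuleCat.of A M))
  · -- zero module: depth is `⊤`, all `Ext` vanish
    have hdtop : LocCoh.depth (Localization.AtPrime p.asIdeal)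
        ((ModuleCat.extendScalars.{u, u, u}
          (algebraMap A (Localization.AtPrime p.asIdeal))).obj (ModuleCat.of A M)) = ⊤ := by
      unfold LocCoh.depth LocCoh.idealDepth
      rw [if_pos (Subsingleton.elim _ _)]
    rw [hdtop]
    constructor
    · rintro ⟨j, _, hj⟩
      rw [← not_subsingleton_iff_nontrivial] at hj
      exact absurd (Lib.Helper39.Dual.subsingleton_hom_of_subsingleton _ _) hj
    · intro h
      exfalso
      have h1 : ((⊤ : ℕ∞) : WithBot ℕ∞) + ((e : ℕ∞) : WithBot ℕ∞) = ((⊤ : ℕ∞) : WithBot ℕ∞) := by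
        rw [← WithBot.coe_add, top_add]
      rw [h1] at h
      have h2 : ((i : ℕ∞) : WithBot ℕ∞) < ((⊤ : ℕ∞) : WithBot ℕ∞) :=
        WithBot.coe_lt_coe.mpr (ENat.coe_lt_top i)
      exact absurd (lt_of_le_of_lt h (by exact_mod_cast h2)) (lt_irrefl _)
  · have hnt : Nontrivial ((ModuleCat.extendScalars.{u, u, u}
        (algebraMap A (Localization.AtPrime p.asIdeal))).obj (ModuleCat.of A M)) :=
      not_subsingleton_iff_nontrivial.mp hsub
    obtain ⟨k, hk⟩ := ENat.ne_top_iff_exists.mp
      (Lib.Helper67.depth_ne_top (R := Localization.AtPrime p.asIdeal)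
        ((ModuleCat.extendScalars.{u, u, u}
          (algebraMap A (Localization.AtPrime p.asIdeal))).obj (ModuleCat.of A M)))
    rw [← hk]
    have hntk := Lib.Helper39.Dual.nontrivial_hom_of_depth_eq ω' hω' hn' k
      ((ModuleCat.extendScalars.{u, u, u}
          (algebraMap A (Localization.AtPrime p.asIdeal))).obj (ModuleCat.of A M)) hk.symm
    have hcast : (((k : ℕ∞) : WithBot ℕ∞) + ((e : ℕ∞) : WithBot ℕ∞) ≤ (i : WithBot ℕ∞)) ↔
        k + e ≤ i := by
      have : (((k : ℕ∞) : WithBot ℕ∞) + ((e : ℕ∞) : WithBot ℕ∞)) = (((k + e : ℕ) : ℕ∞) : WithBot ℕ∞) := by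
        push_cast
        rfl
      rw [this]
      have h2 : ((i : ℕ) : WithBot ℕ∞) = (((i : ℕ) : ℕ∞) : WithBot ℕ∞) := rfl
      rw [h2, WithBot.coe_le_coe, Nat.cast_le]
    rw [hcast]
    constructor
    · rintro ⟨j, hji, hj⟩
      by_contra hlt
      push Not at hlt
      have hvan := Lib.Helper39.Dual.vanProp ω' hω' hn' (-(j : ℤ) + (e : ℤ))
        ((ModuleCat.extendScalars.{u, u, u}
          (algebraMap A (Localization.AtPrime p.asIdeal))).obj (ModuleCat.of A M)) k
        (le_of_eq hk) (by omega)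
      rw [← not_subsingleton_iff_nontrivial] at hj
      exact hj hvan
    · intro hle
      refine ⟨k + e, hle, ?_⟩
      have hidx : (-((k + e : ℕ) : ℤ)) + (e : ℤ) = -(k : ℤ) := by push_cast; ring
      rw [hidx]
      exact hntk

end Groth.Agent.S1712
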