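import Groth.Statements.S17139
import Groth.Agent.Lib.Helper90.Isoc10

set_option autoImplicit false
universe u v
open Isoc
open Groth.Agent.Lib.Helper90.IsocLib

namespace Groth.Agent.S17139

/-- Let k be a perfect field of characteristic p, a ∈ ℤ, and (N, F) a non-zero σ^a-F-isocrystal over k
of height h, with b an L-basis of N indexed by Fin h and d the p-adic order of the determinant
coefficient of F in the basis b. If M is a W(k)-lattice in N and r ∈ ℤ, s > 0 satisfy F^s(M) = p^r ·
M, then the first Newton slope λ₁(N, F) equals r/s, and r · h = s · d. (The published statement adds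
that F^h(M) = p^d · M for the same lattice M; that clause is not established by the published proof
and fails when gcd(r, s) ≠ 1 — for a = 0, N = L², M = W², F with matrix rows (p, 1), (0, p) and p
odd one has F^p(M) = p^p · M, h = d = 2, but F²(M) ≠ p² · M — so it is omitted here; the converse
direction is a separate statement.) -/
theorem result (p : ℕ) [Fact p.Prime] (k : Type u) [Field k] [CharP k p] [PerfectRing k p] (a : ℤ)
    (N : Type v) [AddCommGroup N] [Module (WittVector p k) N] [Module (FractionRing (WittVector p k)) N]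
    [IsScalarTower (WittVector p k) (FractionRing (WittVector p k)) N]
    [Nontrivial N] (F : N →ₛₗ[Isoc.frob p k a] N) (hF : Isoc.IsIsoc F)
    (h : ℕ) (b : Module.Basis (Fin h) (FractionRing (WittVector p k)) N)
    (d : ℤ) (hd : Isoc.IsOrdP (Isoc.detCoeff b F) d)
    (M : Submodule (WittVector p k) N) (hM : M.IsLattice (FractionRing (WittVector p k)))
    (r : ℤ) (s : ℕ) (hs : 0 < s) (hFM : Isoc.latImg F s M = Isoc.pPow r M) :
    Isoc.IsFirstSlope F ((r : ℝ) / s) ∧ r * h = s * d := by
  have hτ := isWAut_frob (p := p) (k := k) a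
  haveI := hF.finite
  refine ⟨?_, ?_⟩
  · obtain ⟨o, ho, lam, hlam⟩ := exists_ord_seq_tendsto hτ hF.bijective hM
    have hne : M ≠ ⊥ := lattice_ne_bot hM
    have hsub : ∀ j : ℕ, o (s * j) = r * j := by
      intro j
      have h1 := latImg_mul_eq hτ hFM j
      have h2 : Isoc.IsOrd M F (s * j) (r * j) := by
        refine ⟨le_of_eq h1, ?_⟩
        rw [h1]
        exact not_pPow_le_pPow_succ hM.fg hne _
      exact isOrd_unique (ho (s * j)) h2
    have hmul : Filter.Tendsto (fun j : ℕ => s * j) Filter.atTop Filter.atTop :=
      Filter.tendsto_atTop_atTop.mpr fun b =>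
        ⟨b, fun j hj => le_trans hj (Nat.le_mul_of_pos_left j hs)⟩
    have h1 : Filter.Tendsto (fun j : ℕ => (o (s * j) : ℝ) / ((s * j : ℕ) : ℝ)) Filter.atTop
        (nhds lam) := hlam.comp hmul
    have h2 : Filter.Tendsto (fun j : ℕ => (o (s * j) : ℝ) / ((s * j : ℕ) : ℝ)) Filter.atTop
        (nhds ((r : ℝ) / s)) := by
      apply tendsto_const_nhds.congr'
      filter_upwards [Filter.eventually_ge_atTop 1] with j hj
      have hj' : (j : ℝ) ≠ 0 := by
        have : (1 : ℝ) ≤ j := by exact_mod_cast hj
        linarith
      have hs' : (s : ℝ) ≠ 0 := by exact_mod_cast hs.ne'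
      rw [hsub j]
      push_cast
      field_simp
    have hlam' : lam = (r : ℝ) / s := tendsto_nhds_unique h1 h2
    rw [← hlam']
    exact ⟨M, hM, o, fun n _ => ho n, hlam⟩
  · have := mul_orddet_eq_mul_height hτ b hF.bijective.surjective hd hM hFM
    linarith

end Groth.Agent.S17139
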