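import Groth.Statements.S17143
import Groth.Agent.Lib.Helper90.Isoc3

set_option autoImplicit false
universe u v
open Isoc
open Groth.Agent.Lib.Helper90.IsocLib
open Filter Topology

namespace Groth.Agent.S17143

/-- Let k be a perfect field of characteristic p, a ∈ ℤ, W = W(k) with fraction field L, and (N, F) a
σ^a-F-isocrystal over k (N finite-dimensional over L, F a bijective σ^a-semilinear endomorphism)
with first Newton slope λ₁(N, F) = lam. Then for m ∈ ℤ and n ∈ ℕ the twisted iterate (N, p^m F^n), a
σ^(an)-F-isocrystal, has first Newton slope n · lam + m. (The published statement allows every n ∈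
ℤ, with F^n the inverse iterate for n < 0; that case is false in general, since the first slope of
(N, F⁻¹) is minus the LARGEST slope of (N, F): for N = N_0 ⊕ N_1, the sum of the standard
isocrystals of slopes 0 and 1, λ₁(N, F) = 0 while λ₁(N, F⁻¹) = −1. Only n ≥ 0 is stated here.) -/
theorem result (p : ℕ) [Fact p.Prime] (k : Type u) [Field k] [CharP k p] [PerfectRing k p] (a : ℤ)
    (N : Type v) [AddCommGroup N] [Module (WittVector p k) N] [Module (FractionRing (WittVector p k)) N]
    [IsScalarTower (WittVector p k) (FractionRing (WittVector p k)) N]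
    (F : N →ₛₗ[Isoc.frob p k a] N) (hF : Isoc.IsIsoc F) (lam : ℝ) (hlam : Isoc.IsFirstSlope F lam) (m : ℤ) (n : ℕ) :
    Isoc.IsFirstSlope ((p : (FractionRing (WittVector p k))) ^ m • Isoc.iter F n) (n * lam + m) := by
  have hτ := isWAut_frob (p := p) (k := k) a
  obtain ⟨M, hM, o, ho, hlim⟩ := hlam
  have hne : M ≠ ⊥ := isOrd_ne_bot (ho 1 le_rfl)
  refine ⟨M, hM, ?_⟩
  rcases Nat.eq_zero_or_pos n with rfl | hn
  · refine ⟨fun j => m * j, fun j hj => ?_, ?_⟩
    · have h0 : Isoc.IsOrd M F (0 * j) 0 := by
        rw [Nat.zero_mul]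
        exact isOrd_zero hM.fg hne F
      have h1 := isOrd_twist hτ (F := F) m 0 j h0
      rw [add_zero] at h1
      exact h1
    · simp only [Nat.cast_zero, zero_mul, zero_add]
      apply tendsto_const_nhds.congr'
      filter_upwards [Filter.eventually_ge_atTop 1] with j hj
      have hj' : (j : ℝ) ≠ 0 := by
        have : (1 : ℝ) ≤ j := by exact_mod_cast hj
        linarith
      push_cast
      field_simp
  · refine ⟨fun j => m * j + o (n * j), fun j hj => ?_, ?_⟩
    · exact isOrd_twist hτ m n j (ho (n * j) (Nat.mul_pos hn hj))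
    · have hmul : Tendsto (fun j : ℕ => n * j) atTop atTop :=
        Filter.tendsto_atTop_atTop.mpr fun b =>
          ⟨b, fun j hj => le_trans hj (Nat.le_mul_of_pos_left j hn)⟩
      have h1 : Tendsto (fun j : ℕ => (o (n * j) : ℝ) / ((n * j : ℕ) : ℝ)) atTop (𝓝 lam) :=
        hlim.comp hmul
      have h2 : Tendsto (fun j : ℕ => (n : ℝ) * ((o (n * j) : ℝ) / ((n * j : ℕ) : ℝ)) + (m : ℝ))
          atTop (𝓝 (n * lam + m)) :=
        (h1.const_mul _).add tendsto_const_nhds
      apply h2.congr'
      filter_upwards [Filter.eventually_ge_atTop 1] with j hj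
      have hj' : (j : ℝ) ≠ 0 := by
        have : (1 : ℝ) ≤ j := by exact_mod_cast hj
        linarith
      have hn' : (n : ℝ) ≠ 0 := by exact_mod_cast hn.ne'
      push_cast
      field_simp
      ring

end Groth.Agent.S17143
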