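import Groth.Statements.S17147
import Groth.Agent.Lib.Helper90.Isoc7

set_option autoImplicit false
universe u v
open Isoc
open Groth.Agent.Lib.Helper90.IsocLib

namespace Groth.Agent.S17147

/-- Let k be a perfect field of characteristic p, a ∈ ℤ, W = W(k) with fraction field L, and (N, F) a
σ^a-F-isocrystal over k (N finite-dimensional over L, F a bijective σ^a-semilinear endomorphism) of
height h, with b an L-basis of N indexed by Fin h and d the p-adic order of the determinant
coefficient of F in b. If λ₁(N, F) = d/h, then there exists a W-lattice M in N with F^h(M) = p^d · M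
(so (N, F) is isoclinic of slope d/h in the lattice sense). -/
theorem result (p : ℕ) [Fact p.Prime] (k : Type u) [Field k] [CharP k p] [PerfectRing k p] (a : ℤ)
    (N : Type v) [AddCommGroup N] [Module (WittVector p k) N] [Module (FractionRing (WittVector p k)) N]
    [IsScalarTower (WittVector p k) (FractionRing (WittVector p k)) N]
    (F : N →ₛₗ[Isoc.frob p k a] N) (hF : Isoc.IsIsoc F)
    (h : ℕ) (b : Module.Basis (Fin h) (FractionRing (WittVector p k)) N)
    (d : ℤ) (hd : Isoc.IsOrdP (Isoc.detCoeff b F) d)
    (hlam : Isoc.IsFirstSlope F ((d : ℝ) / h)) :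
    ∃ M : Submodule (WittVector p k) N, M.IsLattice (FractionRing (WittVector p k)) ∧ Isoc.latImg F h M = Isoc.pPow d M := by
  have hτ := isWAut_frob (p := p) (k := k) a
  haveI := hF.finite
  have hfr : Module.finrank (FractionRing (WittVector p k)) N = h := by
    rw [Module.finrank_eq_card_basis b, Fintype.card_fin]
  by_cases hh : h = 0
  · subst hh
    haveI : Subsingleton N := b.repr.toEquiv.subsingleton
    exact ⟨⊥, ⟨Submodule.fg_bot, Subsingleton.elim _ _⟩, Subsingleton.elim _ _⟩
  · have hpos : 0 < h := Nat.pos_of_ne_zero hh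
    obtain ⟨M, hM, hle⟩ := exists_lattice_le_of_le_firstSlope hτ F hlam d h hpos le_rfl
    refine ⟨M, hM, ?_⟩
    have h1 : IsIdx M (Isoc.latImg F h M) ((h : ℤ) * d) :=
      isIdx_latImg hτ b hF.bijective.surjective hd hM h
    have h2 := IsIdx.pPow M d
    rw [hfr] at h2
    have h3 : IsIdx (Isoc.pPow d M) (Isoc.latImg F h M) 0 := by
      have h4 := h2.symm.trans h1
      have e : -(d * (h : ℤ)) + (h : ℤ) * d = 0 := by ring
      rwa [e] at h4
    exact IsIdx.eq_of_le_of_zero (pPow_isLattice d hM) hle h3

end Groth.Agent.S17147
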