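import Groth.Statements.S17149
import Groth.Agent.Lib.Helper90.Isoc

set_option autoImplicit false
universe u v
open Isoc
open Groth.Agent.Lib.Helper90.IsocLib

namespace Groth.Agent.S17149

/-- Let k be a perfect field of characteristic p, a ∈ ℤ, W = W(k) with fraction field L, and (N, F) a
σ^a-F-isocrystal over k (N finite-dimensional over L, F a bijective σ^a-semilinear endomorphism)
that is isoclinic of slope μ (some W-lattice M, r ∈ ℤ, s > 0 with r/s = μ and F^s(M) = p^r · M).
Then for every L-subspace P of N with F(P) ⊆ P, the quotient N/P with the σ^a-semilinear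
endomorphism induced by F is again isoclinic of slope μ. -/
theorem result (p : ℕ) [Fact p.Prime] (k : Type u) [Field k] [CharP k p] [PerfectRing k p] (a : ℤ)
    (N : Type v) [AddCommGroup N] [Module (WittVector p k) N] [Module (FractionRing (WittVector p k)) N]
    [IsScalarTower (WittVector p k) (FractionRing (WittVector p k)) N]
    (F : N →ₛₗ[Isoc.frob p k a] N) (hF : Isoc.IsIsoc F) (μ : ℚ) (hμ : Isoc.IsIsoclinic F μ)
    (P : Submodule (FractionRing (WittVector p k)) N) (hP : P ≤ P.comap F) :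
    Isoc.IsIsoclinic (P.mapQ P F hP) μ := by
  obtain ⟨M, hM, r, s, hs, hrs, hFM⟩ := hμ
  have hτ := isWAut_frob (p := p) (k := k) a
  let q : N →ₗ[WittVector p k] N ⧸ P := (P.mkQ).restrictScalars (WittVector p k)
  refine ⟨M.map q, ?_, r, s, hs, hrs, ?_⟩
  · refine ⟨hM.fg.map q, ?_⟩
    rw [eq_top_iff]
    rintro x -
    obtain ⟨y, rfl⟩ := P.mkQ_surjective x
    have hy : y ∈ Submodule.span (FractionRing (WittVector p k)) (M : Set N) := by
      rw [hM.span_eq_top]; trivial
    have h2 : P.mkQ y ∈ (Submodule.span (FractionRing (WittVector p k)) (M : Set N)).map P.mkQ :=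
      ⟨y, hy, rfl⟩
    rw [Submodule.map_span] at h2
    refine Submodule.span_mono ?_ h2
    rintro _ ⟨z, hz, rfl⟩
    exact ⟨z, hz, rfl⟩
  · have hiter : ∀ (j : ℕ) (y : N),
        (⇑(P.mapQ P F hP))^[j] (P.mkQ y) = P.mkQ ((⇑F)^[j] y) := by
      intro j
      induction j with
      | zero => intro y; rfl
      | succ j ih =>
        intro y
        rw [Function.iterate_succ_apply', Function.iterate_succ_apply', ih]
        rfl
    ext x
    rw [mem_latImg hτ, mem_pPow]
    constructor
    · rintro ⟨_, ⟨y, hy, rfl⟩, rfl⟩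
      have h1 : (⇑F)^[s] y ∈ Isoc.pPow r M := hFM ▸ iterate_mem_latImg hy
      obtain ⟨z, hz, hzy⟩ := mem_pPow.mp h1
      refine ⟨q z, ⟨z, hz, rfl⟩, ?_⟩
      show _ • P.mkQ z = (⇑(P.mapQ P F hP))^[s] (P.mkQ y)
      rw [hiter, ← hzy, map_smul]
    · rintro ⟨_, ⟨z, hz, rfl⟩, rfl⟩
      have h1 : ((p : FractionRing (WittVector p k)) ^ r) • z ∈ Isoc.latImg F s M :=
        hFM ▸ smul_mem_pPow hz
      obtain ⟨y, hy, hyz⟩ := (mem_latImg hτ).mp h1
      refine ⟨q y, ⟨y, hy, rfl⟩, ?_⟩
      show (⇑(P.mapQ P F hP))^[s] (P.mkQ y) = _ • P.mkQ z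
      rw [hiter, hyz, map_smul]

end Groth.Agent.S17149
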