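import Groth.Statements.S17150
import Groth.Agent.Lib.Helper90.Isoc

set_option autoImplicit false
universe u v w
open Isoc
open Groth.Agent.Lib.Helper90.IsocLib

namespace Groth.Agent.S17150

/-- Let k be a perfect field of characteristic p and a ∈ ℤ; let (N₁, F₁) and (N₂, F₂) be
σ^a-F-isocrystals over k that are isoclinic of slopes μ₁ and μ₂ respectively (in the lattice sense:
F_i^{s_i}(M_i) = p^{r_i} · M_i with r_i/s_i = μ_i), with μ₁ ≠ μ₂. Then every morphism of isocrystals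
f : (N₁, F₁) → (N₂, F₂), i.e. every L-linear map with f ∘ F₁ = F₂ ∘ f, is zero. -/
theorem result (p : ℕ) [Fact p.Prime] (k : Type u) [Field k] [CharP k p] [PerfectRing k p] (a : ℤ)
    (N₁ : Type v) [AddCommGroup N₁] [Module (WittVector p k) N₁] [Module (FractionRing (WittVector p k)) N₁]
    [IsScalarTower (WittVector p k) (FractionRing (WittVector p k)) N₁]
    (N₂ : Type w) [AddCommGroup N₂] [Module (WittVector p k) N₂] [Module (FractionRing (WittVector p k)) N₂]
    [IsScalarTower (WittVector p k) (FractionRing (WittVector p k)) N₂]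
    (F₁ : N₁ →ₛₗ[Isoc.frob p k a] N₁) (F₂ : N₂ →ₛₗ[Isoc.frob p k a] N₂)
    (h₁ : Isoc.IsIsoc F₁) (h₂ : Isoc.IsIsoc F₂)
    (μ₁ μ₂ : ℚ) (hμ₁ : Isoc.IsIsoclinic F₁ μ₁) (hμ₂ : Isoc.IsIsoclinic F₂ μ₂) (hne : μ₁ ≠ μ₂)
    (f : N₁ →ₗ[(FractionRing (WittVector p k))] N₂) (hf : ∀ x : N₁, f (F₁ x) = F₂ (f x)) : f = 0 := by
  obtain ⟨M₁, hM₁, r₁, s₁, hs₁, hrs₁, hFM₁⟩ := hμ₁
  obtain ⟨M₂, hM₂, r₂, s₂, hs₂, hrs₂, hFM₂⟩ := hμ₂
  have hτ := isWAut_frob (p := p) (k := k) a
  have e₁ : ∀ n : ℕ, Isoc.latImg F₁ (s₁ * s₂ * n) M₁ = Isoc.pPow (r₁ * s₂ * n) M₁ := by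
    intro n
    have h := latImg_mul_eq hτ hFM₁ (s₂ * n)
    rw [← mul_assoc] at h
    rw [h]
    congr 1
    push_cast
    ring
  have e₂ : ∀ n : ℕ, Isoc.latImg F₂ (s₁ * s₂ * n) M₂ = Isoc.pPow (r₂ * s₁ * n) M₂ := by
    intro n
    have h := latImg_mul_eq hτ hFM₂ (s₁ * n)
    have e : s₂ * (s₁ * n) = s₁ * s₂ * n := by ring
    rw [e] at h
    rw [h]
    congr 1
    push_cast
    ring
  have hR : r₁ * s₂ ≠ r₂ * s₁ := by
    intro h
    apply hne
    rw [← hrs₁, ← hrs₂]
    have h1 : (s₁ : ℚ) ≠ 0 := by exact_mod_cast hs₁.ne'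
    have h2 : (s₂ : ℚ) ≠ 0 := by exact_mod_cast hs₂.ne'
    rw [div_eq_div_iff h1 h2]
    exact_mod_cast h
  have hfiter : ∀ (j : ℕ) (x : N₁), f ((⇑F₁)^[j] x) = (⇑F₂)^[j] (f x) := by
    intro j
    induction j with
    | zero => intro x; rfl
    | succ j ih =>
      intro x
      rw [Function.iterate_succ_apply', Function.iterate_succ_apply', hf, ih]
  obtain ⟨c, hc⟩ := exists_pPow_le (M := M₁.map (f.restrictScalars (WittVector p k)))
    (M' := M₂) (hM₁.fg.map _) hM₂.span_eq_top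
  have hc' : ∀ x ∈ M₁, ((p : FractionRing (WittVector p k)) ^ c) • f x ∈ M₂ := by
    intro x hx
    apply hc
    rw [← zpow_natCast]
    exact smul_mem_pPow ⟨x, hx, rfl⟩
  have hzero : ∀ x ∈ M₁, f x = 0 := by
    intro x hx
    have hcx : ((p : FractionRing (WittVector p k)) ^ c) • f x = 0 := by
      rcases lt_or_gt_of_ne hR with hlt | hgt
      · apply eq_zero_of_forall_mem_pPow_mul hM₂.fg (δ := r₂ * s₁ - r₁ * s₂) (by omega)
        intro n
        have hx' : x ∈ Isoc.pPow (-(r₁ * s₂ * n)) (Isoc.latImg F₁ (s₁ * s₂ * n) M₁) := by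
          rw [e₁, pPow_pPow, neg_add_cancel, pPow_zero]
          exact hx
        obtain ⟨y', hy', rfl⟩ := mem_pPow.mp hx'
        obtain ⟨y, hy, rfl⟩ := (mem_latImg hτ).mp hy'
        have h1 : ((p : FractionRing (WittVector p k)) ^ c) •
            f (((p : FractionRing (WittVector p k)) ^ (-(r₁ * s₂ * n))) • (⇑F₁)^[s₁ * s₂ * n] y) =
            ((p : FractionRing (WittVector p k)) ^ (-(r₁ * s₂ * n))) •
              (⇑F₂)^[s₁ * s₂ * n] (((p : FractionRing (WittVector p k)) ^ c) • f y) := by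
          rw [map_smul, hfiter, ← zpow_natCast, iterate_pzpow_smul, smul_comm]
        rw [h1]
        have h2 : (⇑F₂)^[s₁ * s₂ * n] (((p : FractionRing (WittVector p k)) ^ c) • f y) ∈
            Isoc.pPow (r₂ * s₁ * n) M₂ := by
          rw [← e₂]
          exact iterate_mem_latImg (hc' y hy)
        have h3 := smul_mem_pPow (r := -(r₁ * s₂ * n)) h2
        rw [pPow_pPow] at h3
        convert h3 using 2
        ring
      · apply eq_zero_of_forall_mem_pPow_mul hM₂.fg (δ := r₁ * s₂ - r₂ * s₁) (by omega)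
        intro n
        have hzM : ((p : FractionRing (WittVector p k)) ^ c) • f x ∈ M₂ := hc' x hx
        have h1 : (⇑F₁)^[s₁ * s₂ * n] x ∈ Isoc.pPow (r₁ * s₂ * n) M₁ := by
          rw [← e₁]
          exact iterate_mem_latImg hx
        obtain ⟨x', hx', hxx'⟩ := mem_pPow.mp h1
        have h2 : (⇑F₂)^[s₁ * s₂ * n] (((p : FractionRing (WittVector p k)) ^ c) • f x) =
            ((p : FractionRing (WittVector p k)) ^ (r₁ * s₂ * n)) •
              (((p : FractionRing (WittVector p k)) ^ c) • f x') := by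
          rw [← zpow_natCast, iterate_pzpow_smul, ← hfiter, ← hxx', map_smul, smul_comm]
        have h3 : (⇑F₂)^[s₁ * s₂ * n] (((p : FractionRing (WittVector p k)) ^ c) • f x) ∈
            Isoc.latImg F₂ (s₁ * s₂ * n) (Isoc.pPow ((r₁ * s₂ - r₂ * s₁) * n) M₂) := by
          rw [latImg_pPow hτ, e₂, pPow_pPow, h2]
          have h4 := smul_mem_pPow (r := r₁ * s₂ * n) (hc' x' hx')
          convert h4 using 2
          ring
        obtain ⟨z', hz', hzz'⟩ := (mem_latImg hτ).mp h3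
        have h5 : z' = ((p : FractionRing (WittVector p k)) ^ c) • f x :=
          (h₂.bijective.1.iterate (s₁ * s₂ * n)) hzz'
        rw [← h5]
        exact hz'
    rcases smul_eq_zero.mp hcx with h | h
    · exact absurd h (pow_ne_zero _ p_ne_zero)
    · exact h
  apply LinearMap.ext_on hM₁.span_eq_top
  intro x hx
  rw [hzero x hx]
  rfl

end Groth.Agent.S17150
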