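import Groth.Statements.S17157
import Mathlib

set_option autoImplicit false
universe u
open Isoc

namespace Groth.Agent.S17157

lemma charZero_witt (p : ℕ) [Fact p.Prime] (k : Type u) [Field k] [CharP k p] :
    CharZero (WittVector p k) := by
  obtain ⟨q, hq⟩ := CharP.exists (WittVector p k)
  rcases CharP.char_is_prime_or_zero (WittVector p k) q with hq' | rfl
  · exfalso
    have h1 : (q : WittVector p k) = 0 := CharP.cast_eq_zero _ q
    have h2 : (q : k) = 0 := by
      have := congrArg (WittVector.constantCoeff (p := p) (R := k)) h1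
      rw [map_natCast, map_zero] at this
      exact this
    have h3 : p ∣ q := (CharP.cast_eq_zero_iff k p q).mp h2
    have h4 : p = q := (Nat.prime_dvd_prime_iff_eq (Fact.out) hq').mp h3
    subst h4
    exact WittVector.p_nonzero p k h1
  · exact CharP.charP_to_charZero _

lemma frob_iter_id (p : ℕ) [Fact p.Prime] (k : Type u) [Field k] [CharP k p] [PerfectRing k p]
    [Finite k] : ∃ m : ℕ, 0 < m ∧
      ∀ c : FractionRing (WittVector p k), (Isoc.frob p k 1)^[m] c = c := by
  classical
  haveI : Fintype k := Fintype.ofFinite k
  obtain ⟨n, hn⟩ := FiniteField.card k p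
  refine ⟨n, n.pos, ?_⟩
  have hW : ∀ (j : ℕ) (w : WittVector p k),
      (Isoc.frob p k 1)^[j] (algebraMap (WittVector p k) (FractionRing (WittVector p k)) w) =
      algebraMap (WittVector p k) (FractionRing (WittVector p k)) ((WittVector.frobenius)^[j] w) := by
    intro j
    induction j with
    | zero => intro w; rfl
    | succ j ih =>
      intro w
      rw [Function.iterate_succ_apply', Function.iterate_succ_apply', ih, Isoc.frob_algebraMap,
        zpow_one]
      rfl
  have hW2 : ∀ w : WittVector p k, (WittVector.frobenius)^[(n : ℕ)] w = w := by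
    intro w
    ext i
    rw [WittVector.iterate_frobenius_coeff, ← hn.2, FiniteField.pow_card]
  intro c
  obtain ⟨a, b, hb, rfl⟩ := IsFractionRing.div_surjective (A := WittVector p k) c
  have hdiv : ∀ (j : ℕ) (x y : FractionRing (WittVector p k)),
      (Isoc.frob p k 1)^[j] (x / y) = (Isoc.frob p k 1)^[j] x / (Isoc.frob p k 1)^[j] y := by
    intro j
    induction j with
    | zero => intro x y; rfl
    | succ j ih =>
      intro x y
      rw [Function.iterate_succ_apply', Function.iterate_succ_apply', Function.iterate_succ_apply',
        ih, map_div₀]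
  rw [hdiv, hW, hW, hW2, hW2]

/-- Let k be a finite field of characteristic p, W = W(k), L its fraction field with Frobenius σ, and
let U be the σ-semilinear endomorphism of L² = (Fin 2 → L) determined by U(e₀) = e₀ and U(e₁) = e₀ +
e₁ on the standard basis. Then (L², U) is an F-isocrystal in which the sub-isocrystal L · e₀ admits
no U-stable complementary L-subspace; in particular the category of F-isocrystals over a finite
field is not semisimple. (Over an algebraically closed field a complement exists.) -/
theorem result
    (p : ℕ) [Fact p.Prime] (k : Type u) [Field k] [CharP k p] [PerfectRing k p] [Finite k]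
    (U : (Fin 2 → (FractionRing (WittVector p k))) →ₛₗ[Isoc.frob p k 1] (Fin 2 → (FractionRing (WittVector p k))))
    (hU0 : U (Pi.single 0 1) = Pi.single 0 1)
    (hU1 : U (Pi.single 1 1) = Pi.single 0 1 + Pi.single 1 1)
    (Q : Submodule (FractionRing (WittVector p k)) (Fin 2 → (FractionRing (WittVector p k)))) (hQ : ∀ x ∈ Q, U x ∈ Q) :
    ¬ IsCompl (Submodule.span (FractionRing (WittVector p k)) {(Pi.single 0 1 : Fin 2 → (FractionRing (WittVector p k)))}) Q := by
  intro hc
  obtain ⟨m, hm, hσ⟩ := frob_iter_id p k
  set e0 : Fin 2 → FractionRing (WittVector p k) := Pi.single 0 1 with he0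
  set e1 : Fin 2 → FractionRing (WittVector p k) := Pi.single 1 1 with he1
  have he0ne : e0 ≠ 0 := by
    intro h
    have := congrFun h 0
    simp [he0] at this
  have htop : e1 ∈ Submodule.span (FractionRing (WittVector p k)) {e0} ⊔ Q := by
    rw [hc.sup_eq_top]; trivial
  obtain ⟨y, hy, q, hq, hyq⟩ := Submodule.mem_sup.mp htop
  obtain ⟨c', rfl⟩ := Submodule.mem_span_singleton.mp hy
  have hq' : q = e1 - c' • e0 := by rw [← hyq]; abel
  have hUq : U q = e1 + (1 - Isoc.frob p k 1 c') • e0 := by
    rw [hq', map_sub, map_smulₛₗ, hU0, hU1, sub_smul, one_smul]; abel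
  have hdiff : U q - q = (1 - Isoc.frob p k 1 c' + c') • e0 := by
    rw [hUq, hq', add_smul]; abel
  have hmem : (1 - Isoc.frob p k 1 c' + c') • e0 ∈
      Submodule.span (FractionRing (WittVector p k)) {e0} ⊓ Q := by
    refine ⟨Submodule.smul_mem _ _ (Submodule.mem_span_singleton_self e0), ?_⟩
    rw [← hdiff]
    exact Q.sub_mem (hQ q hq) hq
  rw [hc.inf_eq_bot, Submodule.mem_bot, smul_eq_zero] at hmem
  have hrec : Isoc.frob p k 1 c' = c' + 1 := by
    rcases hmem with h | h
    · linear_combination -h
    · exact absurd h he0ne
  have hiter : ∀ j : ℕ, (Isoc.frob p k 1)^[j] c' = c' + j := by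
    intro j
    induction j with
    | zero => simp
    | succ j ih =>
      rw [Function.iterate_succ_apply', ih, map_add, map_natCast, hrec]
      push_cast; ring
  have h1 := hiter m
  rw [hσ] at h1
  have h2 : (m : FractionRing (WittVector p k)) = 0 := by linear_combination -h1
  have h3 : (m : FractionRing (WittVector p k)) ≠ 0 := by
    haveI : CharZero (WittVector p k) := charZero_witt p k
    exact_mod_cast hm.ne'
  exact h3 h2

end Groth.Agent.S17157
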