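import Groth.Statements.S1717
-- import your own Groth.Agent.* helpers here
import Groth.Agent.Lib.Helper85.Equidim

set_option autoImplicit false
universe u
open LocCoh

namespace Groth.Agent.S1717

theorem support_self (R : Type u) [CommRing R] : Module.support R R = Set.univ := by
  rw [Set.eq_univ_iff_forall]
  intro p
  rw [Module.mem_support_iff_of_finite]
  intro x hx
  have := Module.mem_annihilator.mp hx 1
  simp at this
  rw [this]; exact zero_mem _

/-- Let A be a catenary Noetherian local ring satisfying Serre's condition (S_2). Then Spec A is
equidimensional: for every minimal prime p of A the dimension of A/p equals the dimension of A. -/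
theorem result (A : Type u) [CommRing A] [IsLocalRing A] [IsNoetherianRing A] (hc : CAlg.IsCatenary A) (hS : LocCoh.HasSk 2 A A) (p : Ideal A) (hp : p ∈ minimalPrimes A) : ringKrullDim (A ⧸ p) = ringKrullDim A := by
  refine Groth.Agent.Lib.Helper85.Equidim.ringKrullDim_quotient_eq_of_mem_minimalPrimes hc
    (fun Q hQ h2 => ?_) p hp
  have hsk := (Groth.Agent.Lib.Helper85.ZClosed.hasSk_iff (A := A) (M := A) (support_self A) 2).mp hS Q
  exact ((Groth.Agent.Lib.Helper85.ZClosed.sk2 _ _).mp hsk).1 h2

end Groth.Agent.S1717
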