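import Groth.Statements.S17171
import Groth.Agent.Lib.Helper84.QSymLib

set_option autoImplicit false
open QSymFn

namespace Groth.Agent.S17171

/-- The ring QSym of quasisymmetric functions over ℤ, with its restriction maps to the polynomial rings
in finitely many ordered variables, is the limit of the diagram S ↦ ℤ[α_s : s ∈ S] over finite
ordered sets S and order-preserving injections (an injection φ : S → T acting by α_t ↦ α_s when t =
φ s and α_t ↦ 0 otherwise), the limit being taken in graded rings. Stated here on degree-d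
components, with the variables indexed by ℕ in place of the positive integers and the finite ordered
sets taken to be the Fin n: (a) if F is a formal power series over ℤ in variables indexed by ℕ which
is quasisymmetric (for strictly increasing i, j : Fin ℓ → ℕ and positive exponents a, the
coefficients of ∏ x_{i t}^{a t} and ∏ x_{j t}^{a t} agree) and all of whose monomials have degree d,
then its restrictions to the initial segments Fin n ⊂ ℕ are compatible with every order embedding
Fin n ↪o Fin m; (b) every family of degree-d homogeneous polynomials f n ∈ ℤ[x_s : s ∈ Fin n],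
compatible with all order embeddings Fin n ↪o Fin m in this sense, is the family of restrictions of
exactly one such quasisymmetric F of degree d. -/
theorem result (d : ℕ) :
    (∀ F : MvPowerSeries ℕ ℤ,
      (∀ (ℓ : ℕ) (i j : Fin ℓ → ℕ) (a : Fin ℓ → ℕ), StrictMono i → StrictMono j → (∀ t, 0 < a t) →
        MvPowerSeries.coeff (∑ t : Fin ℓ, Finsupp.single (i t) (a t)) F =
          MvPowerSeries.coeff (∑ t : Fin ℓ, Finsupp.single (j t) (a t)) F) →
      (∀ e : ℕ →₀ ℕ, MvPowerSeries.coeff e F ≠ 0 → e.degree = d) →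
      ∀ (n m : ℕ) (φ : Fin n ↪o Fin m) (e : Fin n →₀ ℕ),
        MvPowerSeries.coeff (Finsupp.mapDomain Fin.val e) F =
          MvPowerSeries.coeff (Finsupp.mapDomain Fin.val (Finsupp.mapDomain φ e)) F) ∧
    (∀ f : (n : ℕ) → MvPolynomial (Fin n) ℤ,
      (∀ n, (f n).IsHomogeneous d) →
      (∀ (n m : ℕ) (φ : Fin n ↪o Fin m) (e : Fin n →₀ ℕ),
        MvPolynomial.coeff e (f n) = MvPolynomial.coeff (Finsupp.mapDomain φ e) (f m)) →
      ∃! F : MvPowerSeries ℕ ℤ,
        (∀ (ℓ : ℕ) (i j : Fin ℓ → ℕ) (a : Fin ℓ → ℕ), StrictMono i → StrictMono j → (∀ t, 0 < a t) →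
          MvPowerSeries.coeff (∑ t : Fin ℓ, Finsupp.single (i t) (a t)) F =
            MvPowerSeries.coeff (∑ t : Fin ℓ, Finsupp.single (j t) (a t)) F) ∧
        (∀ e : ℕ →₀ ℕ, MvPowerSeries.coeff e F ≠ 0 → e.degree = d) ∧
        (∀ (n : ℕ) (e : Fin n →₀ ℕ),
          MvPowerSeries.coeff (Finsupp.mapDomain Fin.val e) F = MvPolynomial.coeff e (f n))) := by
  classical
  have key : ∀ f : (n : ℕ) → MvPolynomial (Fin n) ℤ,
      (∀ (n m : ℕ) (φ : Fin n ↪o Fin m) (e : Fin n →₀ ℕ),
        MvPolynomial.coeff e (f n) = MvPolynomial.coeff (Finsupp.mapDomain φ e) (f m)) →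
      ∀ (n m : ℕ) (e' : Fin n →₀ ℕ) (e'' : Fin m →₀ ℕ),
        Finsupp.mapDomain Fin.val e' = Finsupp.mapDomain Fin.val e'' →
        MvPolynomial.coeff e' (f n) = MvPolynomial.coeff e'' (f m) := by
    intro f hf n m e' e'' h
    rw [hf n (max n m) (Fin.castLEOrderEmb (le_max_left n m)) e',
      hf m (max n m) (Fin.castLEOrderEmb (le_max_right n m)) e'']
    congr 1
    apply Groth.Agent.Lib.Helper84.QSymLib.mapDomain_val_injective
    rw [Groth.Agent.Lib.Helper84.QSymLib.mapDomain_castLE,
      Groth.Agent.Lib.Helper84.QSymLib.mapDomain_castLE, h]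
  refine ⟨?_, ?_⟩
  · intro F hq _ n m φ e
    obtain ⟨ℓ, i, a, hi, ha, rfl⟩ := Groth.Agent.Lib.Helper84.QSymLib.canon e
    rw [Groth.Agent.Lib.Helper84.QSymLib.mapDomain_sum_single,
      Groth.Agent.Lib.Helper84.QSymLib.mapDomain_sum_single,
      Groth.Agent.Lib.Helper84.QSymLib.mapDomain_sum_single]
    exact hq ℓ (fun t => (i t : ℕ)) (fun t => ((φ (i t) : Fin m) : ℕ)) a
      (fun x y hxy => Fin.lt_def.mp (hi hxy))
      (fun x y hxy => Fin.lt_def.mp (φ.strictMono (hi hxy))) ha
  · intro f hhom hf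
    have hex := Groth.Agent.Lib.Helper84.QSymLib.exists_fin
    choose N E hE using hex
    let F : MvPowerSeries ℕ ℤ := fun e => MvPolynomial.coeff (E e) (f (N e))
    have hF : ∀ (n : ℕ) (e : Fin n →₀ ℕ),
        MvPowerSeries.coeff (Finsupp.mapDomain Fin.val e) F = MvPolynomial.coeff e (f n) := by
      intro n e
      change MvPolynomial.coeff (E _) (f (N _)) = _
      exact key f hf _ _ _ _ (hE _)
    refine ⟨F, ⟨?_, ?_, hF⟩, ?_⟩
    · intro ℓ i j a hi hj ha
      -- lift to Fin M
      set M := max (Finset.univ.sup i) (Finset.univ.sup j) + 1 with hM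
      have hiM : ∀ t, i t < M := fun t =>
        Nat.lt_succ_of_le (le_trans (Finset.le_sup (f := i) (Finset.mem_univ t)) (le_max_left _ _))
      have hjM : ∀ t, j t < M := fun t =>
        Nat.lt_succ_of_le (le_trans (Finset.le_sup (f := j) (Finset.mem_univ t)) (le_max_right _ _))
      let i' : Fin ℓ ↪o Fin M := OrderEmbedding.ofStrictMono (fun t => ⟨i t, hiM t⟩)
        (fun x y hxy => Fin.lt_def.mpr (hi hxy))
      let j' : Fin ℓ ↪o Fin M := OrderEmbedding.ofStrictMono (fun t => ⟨j t, hjM t⟩)
        (fun x y hxy => Fin.lt_def.mpr (hj hxy))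
      let e₀ : Fin ℓ →₀ ℕ := ∑ t : Fin ℓ, Finsupp.single t (a t)
      have h1 : (∑ t : Fin ℓ, Finsupp.single (i t) (a t)) =
          Finsupp.mapDomain Fin.val (Finsupp.mapDomain i' e₀) := by
        rw [Groth.Agent.Lib.Helper84.QSymLib.mapDomain_sum_single,
          Groth.Agent.Lib.Helper84.QSymLib.mapDomain_sum_single]
        rfl
      have h2 : (∑ t : Fin ℓ, Finsupp.single (j t) (a t)) =
          Finsupp.mapDomain Fin.val (Finsupp.mapDomain j' e₀) := by
        rw [Groth.Agent.Lib.Helper84.QSymLib.mapDomain_sum_single,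
          Groth.Agent.Lib.Helper84.QSymLib.mapDomain_sum_single]
        rfl
      rw [h1, h2, hF, hF, ← hf, ← hf]
    · intro e he
      have h1 : MvPolynomial.coeff (E e) (f (N e)) ≠ 0 := he
      have h2 := hhom (N e) h1
      rw [← hE e, Finsupp.degree_mapDomain, ← h2, Finsupp.degree_eq_weight_one]
      rfl
    · rintro F' ⟨-, -, hF'⟩
      ext e
      rw [← hE e, hF', hF]

end Groth.Agent.S17171
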