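import Groth.Statements.S17179
import Mathlib.Tactic

set_option autoImplicit false
universe u

namespace Groth.Agent.S17179

open LabGraph

section

variable {V E : Type u} [Fintype V] [Fintype E] [DecidableEq V] [DecidableEq E]

/-- indicator of an edge being cut by `S` -/
def chi (ends : E → V × V) (S : Finset V) (e : E) : ℤ :=
  if ((ends e).1 ∈ S ∧ (ends e).2 ∉ S) ∨ ((ends e).1 ∉ S ∧ (ends e).2 ∈ S) then 1 else 0

theorem cut_eq_sum (ends : E → V × V) (S : Finset V) :
    (cut ends S : ℤ) = ∑ e : E, chi ends S e := by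
  unfold cut chi
  rw [Finset.card_filter]
  push_cast
  rfl

theorem sum_twist (ends : E → V × V) (φ : V → ℤ) (Y : Finset V) :
    ∑ v ∈ Y, twist ends φ v =
      ∑ e : E, ((if (ends e).1 ∈ Y then φ (ends e).2 - φ (ends e).1 else 0) +
        (if (ends e).2 ∈ Y then φ (ends e).1 - φ (ends e).2 else 0)) := by
  unfold twist
  rw [Finset.sum_comm]
  refine Finset.sum_congr rfl fun e _ => ?_
  rw [Finset.sum_add_distrib, Finset.sum_ite_eq, Finset.sum_ite_eq]

theorem sum_twist_univ (ends : E → V × V) (φ : V → ℤ) :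
    ∑ v : V, twist ends φ v = 0 := by
  rw [sum_twist]
  apply Finset.sum_eq_zero
  intro e _
  simp

theorem canDeg_univ (ends : E → V × V) (w : V → ℕ) :
    canDeg ends w Finset.univ = 2 * genus ends w - 2 := by
  unfold canDeg genus
  have h1 : ∑ v : V, (endCount ends Finset.univ v : ℤ) = 2 * (Fintype.card E : ℤ) := by
    unfold endCount
    push_cast
    rw [Finset.sum_comm]
    have : ∀ e : E, ∑ v : V, (((if (ends e).1 = v then 1 else 0) : ℤ) +
        (if (ends e).2 = v then 1 else 0)) = 2 := by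
      intro e
      rw [Finset.sum_add_distrib, Finset.sum_ite_eq, Finset.sum_ite_eq]
      simp
    rw [Finset.sum_congr rfl (fun e _ => this e)]
    simp [mul_comm]
  rw [Finset.sum_add_distrib, Finset.sum_sub_distrib, h1, ← Finset.mul_sum]
  simp
  ring


theorem edge_upper (ends : E → V × V) (Y Z : Finset V) (e : E) :
    chi ends (Y ∩ Z) e + chi ends (Y ∪ Z) e - chi ends Z e +
      2 * ((if (ends e).1 ∈ Y then (if (ends e).2 ∈ Z then (1 : ℤ) else 0) -
          (if (ends e).1 ∈ Z then 1 else 0) else 0) +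
        (if (ends e).2 ∈ Y then (if (ends e).1 ∈ Z then (1 : ℤ) else 0) -
          (if (ends e).2 ∈ Z then 1 else 0) else 0)) ≤ chi ends Y e := by
  unfold chi
  simp only [Finset.mem_inter, Finset.mem_union]
  by_cases h1 : (ends e).1 ∈ Y <;> by_cases h2 : (ends e).1 ∈ Z <;>
    by_cases h3 : (ends e).2 ∈ Y <;> by_cases h4 : (ends e).2 ∈ Z <;>
    simp [h1, h2, h3, h4]

theorem edge_lower (ends : E → V × V) (Y Z : Finset V) (e : E) :
    chi ends (Z \ Y) e - chi ends Z e + chi ends (Y \ Z) e -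
      2 * ((if (ends e).1 ∈ Y then (if (ends e).2 ∈ Z then (1 : ℤ) else 0) -
          (if (ends e).1 ∈ Z then 1 else 0) else 0) +
        (if (ends e).2 ∈ Y then (if (ends e).1 ∈ Z then (1 : ℤ) else 0) -
          (if (ends e).2 ∈ Z then 1 else 0) else 0)) ≤ chi ends Y e := by
  unfold chi
  simp only [Finset.mem_sdiff]
  by_cases h1 : (ends e).1 ∈ Y <;> by_cases h2 : (ends e).1 ∈ Z <;>
    by_cases h3 : (ends e).2 ∈ Y <;> by_cases h4 : (ends e).2 ∈ Z <;>
    simp [h1, h2, h3, h4]

end

open LabGraph in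
/-- Let Γ be the weighted dual graph of a Deligne–Mumford semistable curve X of genus g ≥ 3 (connected;
every weight-zero vertex without loop joined to the other vertices by at least two edges), d a
multidegree of total degree D satisfying the Basic Inequality, and Z a set of vertices whose degree
equals the upper extreme M_Z of the inequality, that is 2((2g - 2)·d_Z - D·canDeg Z) = cut Z·(2g -
2). Then d + z again satisfies the Basic Inequality, where z, the multidegree of O(Z) on the total
space of a regular smoothing, is the twist of the indicator function of Z (it lowers the degree on Z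
by cut Z and raises it on each outside vertex by its number of edges to Z). -/
theorem result {V E : Type u} [Fintype V] [Fintype E]
    [DecidableEq V] [DecidableEq E] (ends : E → V × V) (w : V → ℕ) (hX : IsSemistableGraph ends w)
    (hg : 3 ≤ genus ends w) (d : V → ℤ) (hBI : SatisfiesBI ends w d) (Z : Finset V)
    (hZ : 2 * (canDeg ends w Finset.univ * (∑ v ∈ Z, d v) - (∑ v : V, d v) * canDeg ends w Z) =
      (cut ends Z : ℤ) * canDeg ends w Finset.univ) :
    SatisfiesBI ends w (fun v => d v + twist ends (fun u => if u ∈ Z then 1 else 0) v) := by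
  intro Y
  have hKpos : 0 ≤ canDeg ends w Finset.univ := by rw [canDeg_univ]; linarith
  -- the additive function
  let μ : V → ℤ := fun v => canDeg ends w Finset.univ * d v -
    (∑ v : V, d v) * (2 * (w v : ℤ) - 2 + (endCount ends Finset.univ v : ℤ))
  have hM : ∀ S : Finset V, canDeg ends w Finset.univ * (∑ v ∈ S, d v) -
      (∑ v : V, d v) * canDeg ends w S = ∑ v ∈ S, μ v := by
    intro S
    simp only [μ]
    rw [Finset.sum_sub_distrib, ← Finset.mul_sum, ← Finset.mul_sum]
    rfl
  have hBI' : ∀ S : Finset V, 2 * |∑ v ∈ S, μ v| ≤ (cut ends S : ℤ) * canDeg ends w Finset.univ := by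
    intro S
    rw [← hM]; exact hBI S
  rw [hM] at hZ
  -- total degree unchanged
  have htot : ∑ v : V, (d v + twist ends (fun u => if u ∈ Z then 1 else 0) v) = ∑ v : V, d v := by
    rw [Finset.sum_add_distrib, sum_twist_univ, add_zero]
  have hY : ∑ v ∈ Y, (d v + twist ends (fun u => if u ∈ Z then 1 else 0) v) =
      ∑ v ∈ Y, d v + ∑ v ∈ Y, twist ends (fun u => if u ∈ Z then 1 else 0) v :=
    Finset.sum_add_distrib
  have hgoal : canDeg ends w Finset.univ *
      (∑ v ∈ Y, (d v + twist ends (fun u => if u ∈ Z then 1 else 0) v)) -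
      (∑ v : V, (d v + twist ends (fun u => if u ∈ Z then 1 else 0) v)) * canDeg ends w Y =
      ∑ v ∈ Y, μ v + canDeg ends w Finset.univ *
        ∑ v ∈ Y, twist ends (fun u => if u ∈ Z then 1 else 0) v := by
    rw [htot, hY, ← hM]; ring
  change 2 * |canDeg ends w Finset.univ *
      (∑ v ∈ Y, (d v + twist ends (fun u => if u ∈ Z then 1 else 0) v)) -
      (∑ v : V, (d v + twist ends (fun u => if u ∈ Z then 1 else 0) v)) * canDeg ends w Y| ≤ _
  rw [hgoal]
  -- edge inequalities summed
  have hzY := sum_twist ends (fun u => if u ∈ Z then (1 : ℤ) else 0) Y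
  have hU : (cut ends (Y ∩ Z) : ℤ) + cut ends (Y ∪ Z) - cut ends Z +
      2 * ∑ v ∈ Y, twist ends (fun u => if u ∈ Z then 1 else 0) v ≤ cut ends Y := by
    rw [hzY, cut_eq_sum, cut_eq_sum, cut_eq_sum, cut_eq_sum, Finset.mul_sum,
      ← Finset.sum_add_distrib, ← Finset.sum_sub_distrib, ← Finset.sum_add_distrib]
    exact Finset.sum_le_sum fun e _ => edge_upper ends Y Z e
  have hL : (cut ends (Z \ Y) : ℤ) - cut ends Z + cut ends (Y \ Z) -
      2 * ∑ v ∈ Y, twist ends (fun u => if u ∈ Z then 1 else 0) v ≤ cut ends Y := by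
    rw [hzY, cut_eq_sum, cut_eq_sum, cut_eq_sum, cut_eq_sum, Finset.mul_sum,
      ← Finset.sum_sub_distrib, ← Finset.sum_add_distrib, ← Finset.sum_sub_distrib]
    exact Finset.sum_le_sum fun e _ => edge_lower ends Y Z e
  have hU' := mul_le_mul_of_nonneg_left hU hKpos
  have hL' := mul_le_mul_of_nonneg_left hL hKpos
  -- additivity
  have hYs : ∑ v ∈ Y ∩ Z, μ v + ∑ v ∈ Y \ Z, μ v = ∑ v ∈ Y, μ v :=
    Finset.sum_inter_add_sum_sdiff Y Z μ
  have hZs : ∑ v ∈ Y ∩ Z, μ v + ∑ v ∈ Z \ Y, μ v = ∑ v ∈ Z, μ v := by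
    rw [Finset.inter_comm]; exact Finset.sum_inter_add_sum_sdiff Z Y μ
  have hUn : ∑ v ∈ Y ∪ Z, μ v + ∑ v ∈ Y ∩ Z, μ v = ∑ v ∈ Y, μ v + ∑ v ∈ Z, μ v :=
    Finset.sum_union_inter
  have key : ∀ S : Finset V, 2 * (∑ v ∈ S, μ v) ≤ (cut ends S : ℤ) * canDeg ends w Finset.univ ∧
      -(2 * (∑ v ∈ S, μ v)) ≤ (cut ends S : ℤ) * canDeg ends w Finset.univ := by
    intro S
    have h0 := hBI' S
    have h1 := le_abs_self (∑ v ∈ S, μ v)
    have h2 := neg_abs_le (∑ v ∈ S, μ v)
    constructor <;> linarith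
  have hA := (key (Y ∩ Z)).1
  have hB := (key (Z \ Y)).1
  have hC := (key (Y \ Z)).2
  have hYZ := (key (Y ∪ Z)).1
  have h2 : |2 * (∑ v ∈ Y, μ v + canDeg ends w Finset.univ *
      ∑ v ∈ Y, twist ends (fun u => if u ∈ Z then 1 else 0) v)| ≤
      (cut ends Y : ℤ) * canDeg ends w Finset.univ := by
    rw [abs_le]
    constructor
    · nlinarith
    · nlinarith
  calc 2 * |∑ v ∈ Y, μ v + canDeg ends w Finset.univ *
        ∑ v ∈ Y, twist ends (fun u => if u ∈ Z then 1 else 0) v|
      = |2 * (∑ v ∈ Y, μ v + canDeg ends w Finset.univ *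
        ∑ v ∈ Y, twist ends (fun u => if u ∈ Z then 1 else 0) v)| := by
        rw [abs_mul, abs_two]
    _ ≤ _ := h2

end Groth.Agent.S17179
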