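import Groth.Statements.S17173
import Groth.Agent.S17179
import Mathlib.Tactic

set_option autoImplicit false
universe u

namespace Groth.Agent.S17173

open LabGraph Groth.Agent.S17179

section

variable {V E : Type u} [Fintype V] [Fintype E] [DecidableEq V] [DecidableEq E]

theorem exists_cut_edge (ends : E → V × V) (hconn : Connected ends) (Y : V → Prop) (u v : V)
    (hu : Y u) (hv : ¬ Y v) :
    ∃ e : E, (Y (ends e).1 ∧ ¬ Y (ends e).2) ∨ (¬ Y (ends e).1 ∧ Y (ends e).2) := by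
  have key : ∀ a, Relation.ReflTransGen (Adj ends) a v → Y a →
      ∃ e : E, (Y (ends e).1 ∧ ¬ Y (ends e).2) ∨ (¬ Y (ends e).1 ∧ Y (ends e).2) := by
    intro a hpath
    induction hpath using Relation.ReflTransGen.head_induction_on with
    | refl => intro h; exact absurd h hv
    | @head a c hac _ ih =>
      intro ha
      by_cases hc : Y c
      · exact ih hc
      · obtain ⟨e, he | he⟩ := hac
        · exact ⟨e, Or.inl (by rw [he]; exact ⟨ha, hc⟩)⟩
        · exact ⟨e, Or.inr (by rw [he]; exact ⟨hc, ha⟩)⟩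
  exact key u (hconn.2 u v) hu

theorem diff_le_T (ends : E → V × V) (hconn : Connected ends) (φ : V → ℤ) (u v : V) :
    φ u - φ v ≤ ∑ e : E, |φ (ends e).1 - φ (ends e).2| := by
  by_contra h
  push Not at h
  have hT0 : 0 ≤ ∑ e : E, |φ (ends e).1 - φ (ends e).2| :=
    Finset.sum_nonneg fun e _ => abs_nonneg _
  have h1 : ∀ t ∈ Finset.Ioc (φ v) (φ u), (1 : ℤ) ≤ ∑ e : E,
      (if (t ≤ φ (ends e).1 ∧ ¬ t ≤ φ (ends e).2) ∨ (¬ t ≤ φ (ends e).1 ∧ t ≤ φ (ends e).2)
        then 1 else 0) := by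
    intro t ht
    rw [Finset.mem_Ioc] at ht
    obtain ⟨e, he⟩ := exists_cut_edge ends hconn (fun w => t ≤ φ w) u v ht.2 (by linarith [ht.1])
    calc (1 : ℤ) = (if (t ≤ φ (ends e).1 ∧ ¬ t ≤ φ (ends e).2) ∨
          (¬ t ≤ φ (ends e).1 ∧ t ≤ φ (ends e).2) then 1 else 0) := by rw [if_pos he]
      _ ≤ _ := Finset.single_le_sum (f := fun e => (if (t ≤ φ (ends e).1 ∧ ¬ t ≤ φ (ends e).2) ∨
          (¬ t ≤ φ (ends e).1 ∧ t ≤ φ (ends e).2) then (1 : ℤ) else 0))
          (fun _ _ => by split_ifs <;> norm_num) (Finset.mem_univ e)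
  have h2 : ((Finset.Ioc (φ v) (φ u)).card : ℤ) ≤ ∑ t ∈ Finset.Ioc (φ v) (φ u), ∑ e : E,
      (if (t ≤ φ (ends e).1 ∧ ¬ t ≤ φ (ends e).2) ∨ (¬ t ≤ φ (ends e).1 ∧ t ≤ φ (ends e).2)
        then (1 : ℤ) else 0) := by
    have : ((Finset.Ioc (φ v) (φ u)).card : ℤ) = ∑ t ∈ Finset.Ioc (φ v) (φ u), (1 : ℤ) := by
      simp
    rw [this]
    exact Finset.sum_le_sum h1
  rw [Finset.sum_comm] at h2
  have h3 : ∀ e : E, ∑ t ∈ Finset.Ioc (φ v) (φ u),
      (if (t ≤ φ (ends e).1 ∧ ¬ t ≤ φ (ends e).2) ∨ (¬ t ≤ φ (ends e).1 ∧ t ≤ φ (ends e).2)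
        then (1 : ℤ) else 0) ≤ |φ (ends e).1 - φ (ends e).2| := by
    intro e
    rw [← Finset.sum_filter]
    simp only [Finset.sum_const, nsmul_eq_mul, mul_one]
    have hsub : (Finset.Ioc (φ v) (φ u)).filter (fun t =>
        (t ≤ φ (ends e).1 ∧ ¬ t ≤ φ (ends e).2) ∨ (¬ t ≤ φ (ends e).1 ∧ t ≤ φ (ends e).2)) ⊆
        Finset.Ioc (min (φ (ends e).1) (φ (ends e).2)) (max (φ (ends e).1) (φ (ends e).2)) := by
      intro t ht
      rw [Finset.mem_filter] at ht
      rw [Finset.mem_Ioc]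
      rcases ht.2 with ⟨h1, h2⟩ | ⟨h1, h2⟩
      · push Not at h2
        exact ⟨lt_of_le_of_lt (min_le_right _ _) h2, le_trans h1 (le_max_left _ _)⟩
      · push Not at h1
        exact ⟨lt_of_le_of_lt (min_le_left _ _) h1, le_trans h2 (le_max_right _ _)⟩
    have hcard := Finset.card_le_card hsub
    rw [Int.card_Ioc] at hcard
    have hmm : (0 : ℤ) ≤ max (φ (ends e).1) (φ (ends e).2) - min (φ (ends e).1) (φ (ends e).2) := by
      linarith [min_le_max (a := φ (ends e).1) (b := φ (ends e).2)]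
    have : ((max (φ (ends e).1) (φ (ends e).2) - min (φ (ends e).1) (φ (ends e).2)).toNat : ℤ) =
        |φ (ends e).1 - φ (ends e).2| := by
      rw [Int.toNat_of_nonneg hmm, max_sub_min_eq_abs']
    rw [← this]
    exact_mod_cast hcard
  have h4 : ((Finset.Ioc (φ v) (φ u)).card : ℤ) = φ u - φ v := by
    rw [Int.card_Ioc, Int.toNat_of_nonneg (by linarith)]
  have h5 := Finset.sum_le_sum (fun e (_ : e ∈ Finset.univ) => h3 e)
  linarith


/-- the functional to be minimised -/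
def F (ends : E → V × V) (K : ℤ) (μ : V → ℤ) (φ : V → ℤ) : ℤ :=
  K * ∑ e : E, (φ (ends e).1 - φ (ends e).2) ^ 2 - 2 * ∑ v : V, μ v * φ v

theorem F_bdd (ends : E → V × V) (hconn : Connected ends) (K : ℤ) (hK : 1 ≤ K) (μ : V → ℤ)
    (hμ : ∑ v : V, μ v = 0) : ∃ B : ℤ, ∀ φ : V → ℤ, B ≤ F ends K μ φ := by
  obtain ⟨v₀⟩ := hconn.1
  refine ⟨-(Fintype.card E : ℤ) * (∑ v : V, |μ v|) ^ 2, fun φ => ?_⟩
  have hS0 : 0 ≤ ∑ v : V, |μ v| := Finset.sum_nonneg fun v _ => abs_nonneg _
  have h1 : ∑ v : V, μ v * φ v = ∑ v : V, μ v * (φ v - φ v₀) := by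
    simp only [mul_sub, Finset.sum_sub_distrib, ← Finset.sum_mul, hμ, zero_mul, sub_zero]
  have h2 : ∑ v : V, μ v * (φ v - φ v₀) ≤
      (∑ v : V, |μ v|) * ∑ e : E, |φ (ends e).1 - φ (ends e).2| := by
    rw [Finset.sum_mul]
    apply Finset.sum_le_sum
    intro v _
    calc μ v * (φ v - φ v₀) ≤ |μ v * (φ v - φ v₀)| := le_abs_self _
      _ = |μ v| * |φ v - φ v₀| := abs_mul _ _
      _ ≤ |μ v| * ∑ e : E, |φ (ends e).1 - φ (ends e).2| :=
        mul_le_mul_of_nonneg_left
          (abs_le.mpr ⟨by linarith [diff_le_T ends hconn φ v₀ v], diff_le_T ends hconn φ v v₀⟩)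
          (abs_nonneg _)
  have h3 : ∀ e : E, -((∑ v : V, |μ v|) ^ 2) ≤ K * (φ (ends e).1 - φ (ends e).2) ^ 2 -
      2 * (∑ v : V, |μ v|) * |φ (ends e).1 - φ (ends e).2| := by
    intro e
    nlinarith [mul_nonneg (sub_nonneg.2 hK) (sq_nonneg (φ (ends e).1 - φ (ends e).2)),
      sq_nonneg (|φ (ends e).1 - φ (ends e).2| - ∑ v : V, |μ v|),
      sq_abs (φ (ends e).1 - φ (ends e).2)]
  have h4 := Finset.sum_le_sum (fun e (_ : e ∈ Finset.univ) => h3 e)
  rw [Finset.sum_sub_distrib, ← Finset.mul_sum, ← Finset.mul_sum, Finset.sum_const,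
    Finset.card_univ, nsmul_eq_mul] at h4
  unfold F
  rw [h1]
  nlinarith

theorem sum_mul_indicator (μ : V → ℤ) (Y : Finset V) :
    ∑ v : V, μ v * (if v ∈ Y then (1 : ℤ) else 0) = ∑ v ∈ Y, μ v := by
  simp only [mul_ite, mul_one, mul_zero]
  rw [Finset.sum_ite_mem, Finset.univ_inter]

theorem edge_sq (ends : E → V × V) (Y : Finset V) (e : E) :
    ((if (ends e).1 ∈ Y then (1 : ℤ) else 0) - (if (ends e).2 ∈ Y then 1 else 0)) ^ 2 =
      chi ends Y e := by
  unfold chi
  by_cases h1 : (ends e).1 ∈ Y <;> by_cases h2 : (ends e).2 ∈ Y <;> simp [h1, h2]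

theorem edge_twist (ends : E → V × V) (φ : V → ℤ) (Y : Finset V) (e : E) :
    (if (ends e).1 ∈ Y then φ (ends e).2 - φ (ends e).1 else 0) +
      (if (ends e).2 ∈ Y then φ (ends e).1 - φ (ends e).2 else 0) =
      -((φ (ends e).1 - φ (ends e).2) *
        ((if (ends e).1 ∈ Y then (1 : ℤ) else 0) - (if (ends e).2 ∈ Y then 1 else 0))) := by
  by_cases h1 : (ends e).1 ∈ Y <;> by_cases h2 : (ends e).2 ∈ Y <;> simp [h1, h2]

theorem F_add (ends : E → V × V) (K : ℤ) (μ : V → ℤ) (φ : V → ℤ) (Y : Finset V) (s : ℤ)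
    (hs : s ^ 2 = 1) :
    F ends K μ (fun v => φ v + s * (if v ∈ Y then 1 else 0)) =
      F ends K μ φ + K * (2 * s * (∑ e : E, (φ (ends e).1 - φ (ends e).2) *
        ((if (ends e).1 ∈ Y then (1 : ℤ) else 0) - (if (ends e).2 ∈ Y then 1 else 0))) +
        (cut ends Y : ℤ)) - 2 * s * ∑ v ∈ Y, μ v := by
  unfold F
  have h1 : ∑ e : E, ((φ (ends e).1 + s * (if (ends e).1 ∈ Y then (1 : ℤ) else 0)) -
      (φ (ends e).2 + s * (if (ends e).2 ∈ Y then 1 else 0))) ^ 2 =
      ∑ e : E, (φ (ends e).1 - φ (ends e).2) ^ 2 +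
        (2 * s * (∑ e : E, (φ (ends e).1 - φ (ends e).2) *
        ((if (ends e).1 ∈ Y then (1 : ℤ) else 0) - (if (ends e).2 ∈ Y then 1 else 0))) +
        (cut ends Y : ℤ)) := by
    rw [cut_eq_sum, Finset.mul_sum, ← Finset.sum_add_distrib, ← Finset.sum_add_distrib]
    refine Finset.sum_congr rfl fun e _ => ?_
    rw [← edge_sq]
    linear_combination (((if (ends e).1 ∈ Y then (1 : ℤ) else 0) -
      (if (ends e).2 ∈ Y then 1 else 0)) ^ 2) * hs
  have h2 : ∑ v : V, μ v * (φ v + s * (if v ∈ Y then (1 : ℤ) else 0)) =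
      ∑ v : V, μ v * φ v + s * ∑ v ∈ Y, μ v := by
    rw [← sum_mul_indicator μ Y, Finset.mul_sum, ← Finset.sum_add_distrib]
    refine Finset.sum_congr rfl fun v _ => ?_
    ring
  rw [h1, h2]
  ring

end

open LabGraph in
/-- Let Γ be the weighted dual graph of a quasistable curve X of genus g ≥ 3 over an algebraically
closed field (vertices the irreducible components C_v with weight the geometric genus, one edge per
node, a loop for a node on a single component): Γ is connected, every weight-zero vertex without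
loop is joined to the other vertices by at least two edges, and no edge joins two exceptional
vertices (weight zero, no loop, exactly two edges to other vertices). Let d be a multidegree of any
total degree D (the combinatorial section fixes an arbitrary integer d; g ≥ 3 is the paper's
standing assumption). Then the degree class of d contains a representative satisfying the Basic
Inequality: there is a multidegree d', differing from d by the twist of some integer vertex
labelling (the multidegree of a divisor Σ φ_v C_v on the total space of a regular smoothing), such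
that for every set Y of vertices 2·|(2g - 2)·d'_Y - D·canDeg Y| ≤ cut Y·(2g - 2), where canDeg Y = 2
g_Y - 2 + cut Y is the degree of the dualizing sheaf on the subcurve Y and cut Y the number of nodes
where Y meets the rest of X. -/
theorem result {V E : Type u} [Fintype V] [Fintype E]
    [DecidableEq V] [DecidableEq E] (ends : E → V × V) (w : V → ℕ) (hX : IsQuasistableGraph ends w)
    (hg : 3 ≤ genus ends w) (d : V → ℤ) :
    ∃ d' : V → ℤ, TwistEquiv ends d' d ∧ SatisfiesBI ends w d' := by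
  have hconn : Connected ends := hX.1.1
  have hK : 1 ≤ canDeg ends w Finset.univ := by rw [canDeg_univ]; linarith
  let μ : V → ℤ := fun v => canDeg ends w Finset.univ * d v -
    (∑ v : V, d v) * (2 * (w v : ℤ) - 2 + (endCount ends Finset.univ v : ℤ))
  have hM : ∀ S : Finset V, canDeg ends w Finset.univ * (∑ v ∈ S, d v) -
      (∑ v : V, d v) * canDeg ends w S = ∑ v ∈ S, μ v := by
    intro S
    simp only [μ]
    rw [Finset.sum_sub_distrib, ← Finset.mul_sum, ← Finset.mul_sum]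
    rfl
  have hμ0 : ∑ v : V, μ v = 0 := by
    rw [← hM]; ring
  obtain ⟨B, hB⟩ := F_bdd ends hconn _ hK μ hμ0
  obtain ⟨m, ⟨φ, hφ⟩, hmin⟩ := Int.exists_least_of_bdd
    (P := fun z => ∃ φ : V → ℤ, F ends (canDeg ends w Finset.univ) μ φ = z)
    ⟨B, fun z ⟨φ, h⟩ => h ▸ hB φ⟩ ⟨_, fun _ => 0, rfl⟩
  have hmin' : ∀ ψ : V → ℤ, F ends (canDeg ends w Finset.univ) μ φ ≤
      F ends (canDeg ends w Finset.univ) μ ψ := fun ψ => hφ ▸ hmin _ ⟨ψ, rfl⟩
  refine ⟨fun v => d v + twist ends φ v, ⟨φ, fun v => by ring⟩, ?_⟩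
  intro Y
  have htot : ∑ v : V, (d v + twist ends φ v) = ∑ v : V, d v := by
    rw [Finset.sum_add_distrib, sum_twist_univ, add_zero]
  have hY : ∑ v ∈ Y, (d v + twist ends φ v) = ∑ v ∈ Y, d v + ∑ v ∈ Y, twist ends φ v :=
    Finset.sum_add_distrib
  have hgoal : canDeg ends w Finset.univ * (∑ v ∈ Y, (d v + twist ends φ v)) -
      (∑ v : V, (d v + twist ends φ v)) * canDeg ends w Y =
      ∑ v ∈ Y, μ v + canDeg ends w Finset.univ * ∑ v ∈ Y, twist ends φ v := by
    rw [htot, hY, ← hM]; ring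
  change 2 * |canDeg ends w Finset.univ * (∑ v ∈ Y, (d v + twist ends φ v)) -
      (∑ v : V, (d v + twist ends φ v)) * canDeg ends w Y| ≤ _
  rw [hgoal]
  have htw : ∑ v ∈ Y, twist ends φ v = -∑ e : E, (φ (ends e).1 - φ (ends e).2) *
      ((if (ends e).1 ∈ Y then (1 : ℤ) else 0) - (if (ends e).2 ∈ Y then 1 else 0)) := by
    rw [sum_twist, ← Finset.sum_neg_distrib]
    exact Finset.sum_congr rfl fun e _ => edge_twist ends φ Y e
  have hp := hmin' (fun v => φ v + 1 * (if v ∈ Y then 1 else 0))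
  rw [F_add ends _ μ φ Y 1 (by norm_num)] at hp
  have hn := hmin' (fun v => φ v + (-1) * (if v ∈ Y then 1 else 0))
  rw [F_add ends _ μ φ Y (-1) (by norm_num)] at hn
  have h2 : |2 * (∑ v ∈ Y, μ v + canDeg ends w Finset.univ * ∑ v ∈ Y, twist ends φ v)| ≤
      (cut ends Y : ℤ) * canDeg ends w Finset.univ := by
    rw [abs_le, htw]
    constructor
    · nlinarith
    · nlinarith
  calc 2 * |∑ v ∈ Y, μ v + canDeg ends w Finset.univ * ∑ v ∈ Y, twist ends φ v|
      = |2 * (∑ v ∈ Y, μ v + canDeg ends w Finset.univ * ∑ v ∈ Y, twist ends φ v)| := by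
        rw [abs_mul, abs_two]
    _ ≤ _ := h2

end Groth.Agent.S17173
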