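import Groth.Statements.S17174
import Groth.Agent.S17179
import Groth.Agent.S17173
import Mathlib.Tactic

set_option autoImplicit false
universe u

namespace Groth.Agent.S17174

open LabGraph Groth.Agent.S17179 Groth.Agent.S17173

section

variable {V E : Type u} [Fintype V] [Fintype E] [DecidableEq V] [DecidableEq E]

/-- the twist of a labelling on a vertex set is bounded by the cut, when both multidegrees satisfy BI -/
theorem abs_twist_le_cut (ends : E → V × V) (w : V → ℕ) (hK : 1 ≤ canDeg ends w Finset.univ)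
    (d d' : V → ℤ) (hBI : SatisfiesBI ends w d) (hBI' : SatisfiesBI ends w d') (φ : V → ℤ)
    (hφ : ∀ v : V, d v - d' v = twist ends φ v) (Y : Finset V) :
    |∑ v ∈ Y, twist ends φ v| ≤ (cut ends Y : ℤ) := by
  have htot : ∑ v : V, d v = ∑ v : V, d' v := by
    have : ∑ v : V, (d v - d' v) = 0 := by
      rw [Finset.sum_congr rfl (fun v _ => hφ v), sum_twist_univ]
    rw [Finset.sum_sub_distrib] at this
    linarith
  have h1 := hBI Y
  have h2 := hBI' Y
  rw [← htot] at h2
  have hY : ∑ v ∈ Y, twist ends φ v = ∑ v ∈ Y, d v - ∑ v ∈ Y, d' v := by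
    rw [← Finset.sum_sub_distrib]
    exact (Finset.sum_congr rfl (fun v _ => hφ v)).symm
  have ha := abs_le.mp (le_trans (le_refl _) (le_of_eq rfl) :
    |canDeg ends w Finset.univ * (∑ v ∈ Y, d v) - (∑ v : V, d v) * canDeg ends w Y| ≤
    |canDeg ends w Finset.univ * (∑ v ∈ Y, d v) - (∑ v : V, d v) * canDeg ends w Y|)
  have ha' := abs_le.mp (le_refl
    |canDeg ends w Finset.univ * (∑ v ∈ Y, d' v) - (∑ v : V, d v) * canDeg ends w Y|)
  rw [abs_le]
  constructor
  · nlinarith
  · nlinarith

theorem edge_diff_le_one (ends : E → V × V) (φ : V → ℤ)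
    (hcut : ∀ Y : Finset V, |∑ v ∈ Y, twist ends φ v| ≤ (cut ends Y : ℤ)) (e₀ : E) :
    |φ (ends e₀).1 - φ (ends e₀).2| ≤ 1 := by
  by_contra hcon
  push Not at hcon
  set t := max (φ (ends e₀).1) (φ (ends e₀).2) with ht
  set Y : Finset V := Finset.univ.filter (fun v => t ≤ φ v) with hY
  have hmem : ∀ v, v ∈ Y ↔ t ≤ φ v := by intro v; simp [hY]
  have htw : ∑ v ∈ Y, twist ends φ v = -∑ e : E, (φ (ends e).1 - φ (ends e).2) *
      ((if (ends e).1 ∈ Y then (1 : ℤ) else 0) - (if (ends e).2 ∈ Y then 1 else 0)) := by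
    rw [sum_twist, ← Finset.sum_neg_distrib]
    exact Finset.sum_congr rfl fun e _ => edge_twist ends φ Y e
  have hle : ∀ e : E, chi ends Y e ≤ (φ (ends e).1 - φ (ends e).2) *
      ((if (ends e).1 ∈ Y then (1 : ℤ) else 0) - (if (ends e).2 ∈ Y then 1 else 0)) := by
    intro e
    unfold chi
    by_cases h1 : (ends e).1 ∈ Y <;> by_cases h2 : (ends e).2 ∈ Y <;> simp only [h1, h2] <;>
      simp only [hmem] at h1 h2 <;> simp <;> omega
  have hlt : chi ends Y e₀ < (φ (ends e₀).1 - φ (ends e₀).2) *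
      ((if (ends e₀).1 ∈ Y then (1 : ℤ) else 0) - (if (ends e₀).2 ∈ Y then 1 else 0)) := by
    unfold chi
    rcases le_total (φ (ends e₀).2) (φ (ends e₀).1) with hle' | hle'
    · have habs : |φ (ends e₀).1 - φ (ends e₀).2| = φ (ends e₀).1 - φ (ends e₀).2 :=
        abs_of_nonneg (by linarith)
      have h1 : (ends e₀).1 ∈ Y := by rw [hmem, ht, max_eq_left hle']
      have h2 : (ends e₀).2 ∉ Y := by rw [hmem, ht, max_eq_left hle']; omega
      simp only [h1, h2]; simp; omega
    · have habs : |φ (ends e₀).1 - φ (ends e₀).2| = φ (ends e₀).2 - φ (ends e₀).1 := by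
        rw [abs_sub_comm]; exact abs_of_nonneg (by linarith)
      have h2 : (ends e₀).2 ∈ Y := by rw [hmem, ht, max_eq_right hle']
      have h1 : (ends e₀).1 ∉ Y := by rw [hmem, ht, max_eq_right hle']; omega
      simp only [h1, h2]; simp; omega
  have hsum := Finset.sum_lt_sum (fun e (_ : e ∈ Finset.univ) => hle e) ⟨e₀, Finset.mem_univ _, hlt⟩
  rw [← cut_eq_sum] at hsum
  have := (abs_le.mp (hcut Y)).1
  rw [htw] at this
  linarith

end

open LabGraph in
/-- Let Γ be the weighted dual graph of a Deligne–Mumford semistable curve X of genus g ≥ 3 over an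
algebraically closed field (connected; every weight-zero vertex without loop is joined to the other
vertices by at least two edges), and let d, d' be two multidegrees of the same (arbitrary) total
degree D (g ≥ 3 being the paper's standing assumption) which both satisfy the Basic Inequality and
lie in the same degree class (d - d' is a twist). Then d - d' can be written in normal form: there
is a labelling h of the vertices by natural numbers taking exactly the values 0, 1, …, q, with d -
d' equal to the twist of h (that is, d - d' = Σ_v h(v)·c_v with c_v the multidegree of O(C_v)), such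
that for distinct levels i ≠ j in {0, …, q} the subcurves on h⁻¹(i) and h⁻¹(j) meet (some edge joins
the two levels) exactly when |i - j| = 1. -/
theorem result {V E : Type u} [Fintype V] [Fintype E]
    [DecidableEq V] [DecidableEq E] (ends : E → V × V) (w : V → ℕ) (hX : IsSemistableGraph ends w)
    (hg : 3 ≤ genus ends w) (d d' : V → ℤ)
    (hBI : SatisfiesBI ends w d) (hBI' : SatisfiesBI ends w d') (heq : TwistEquiv ends d d') :
    ∃ (q : ℕ) (h : V → ℕ), (∀ v : V, h v ≤ q) ∧ (∀ i : ℕ, i ≤ q → ∃ v : V, h v = i) ∧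
      (∀ v : V, d v - d' v = twist ends (fun u => (h u : ℤ)) v) ∧
      (∀ i j : ℕ, i ≤ q → j ≤ q → i ≠ j →
        ((∃ e : E, (h (ends e).1 = i ∧ h (ends e).2 = j) ∨ (h (ends e).1 = j ∧ h (ends e).2 = i)) ↔
          (i + 1 = j ∨ j + 1 = i))) := by
  have hconn : Connected ends := hX.1
  have hK : 1 ≤ canDeg ends w Finset.univ := by rw [canDeg_univ]; linarith
  obtain ⟨φ, hφ⟩ := heq
  have hcut := abs_twist_le_cut ends w hK d d' hBI hBI' φ hφ
  have hedge := edge_diff_le_one ends φ hcut
  obtain ⟨v₀⟩ := hconn.1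
  obtain ⟨vmin, -, hvmin⟩ := Finset.exists_min_image Finset.univ φ ⟨v₀, Finset.mem_univ _⟩
  obtain ⟨vmax, -, hvmax⟩ := Finset.exists_max_image Finset.univ φ ⟨v₀, Finset.mem_univ _⟩
  have hmin : ∀ v, φ vmin ≤ φ v := fun v => hvmin v (Finset.mem_univ v)
  have hmax : ∀ v, φ v ≤ φ vmax := fun v => hvmax v (Finset.mem_univ v)
  let h : V → ℕ := fun v => (φ v - φ vmin).toNat
  have hh : ∀ v, (h v : ℤ) = φ v - φ vmin := fun v =>
    Int.toNat_of_nonneg (by linarith [hmin v])
  have hdiff : ∀ a b : V, ((h a : ℤ) - (h b : ℤ)) = φ a - φ b := by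
    intro a b; rw [hh, hh]; ring
  have hedge' : ∀ e : E, (h (ends e).1 : ℤ) - h (ends e).2 ≤ 1 ∧
      (h (ends e).2 : ℤ) - h (ends e).1 ≤ 1 := by
    intro e
    have := abs_le.mp (hedge e)
    rw [hdiff, hdiff]
    constructor <;> linarith [this.1, this.2]
  have hvmin0 : h vmin = 0 := by simp [h]
  have hq : ∀ v, h v ≤ h vmax := by
    intro v
    have : (h v : ℤ) ≤ h vmax := by rw [hh, hh]; linarith [hmax v]
    exact_mod_cast this
  have hstep : ∀ t : ℕ, 1 ≤ t → t ≤ h vmax →
      ∃ e : E, (h (ends e).1 = t ∧ h (ends e).2 + 1 = t) ∨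
        (h (ends e).1 + 1 = t ∧ h (ends e).2 = t) := by
    intro t ht1 htq
    obtain ⟨e, he⟩ := exists_cut_edge ends hconn (fun v => t ≤ h v) vmax vmin htq
      (by rw [hvmin0]; omega)
    have := hedge' e
    refine ⟨e, ?_⟩
    rcases he with ⟨h1, h2⟩ | ⟨h1, h2⟩
    · left; omega
    · right; omega
  refine ⟨h vmax, h, hq, ?_, ?_, ?_⟩
  · intro i hi
    rcases Nat.eq_zero_or_pos i with rfl | hpos
    · exact ⟨vmin, hvmin0⟩
    · obtain ⟨e, he | he⟩ := hstep i hpos hi
      · exact ⟨_, he.1⟩
      · exact ⟨_, he.2⟩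
  · intro v
    rw [hφ v]
    unfold twist
    simp only [hdiff]
  · intro i j hi hj hij
    constructor
    · rintro ⟨e, he | he⟩
      · have := hedge' e
        omega
      · have := hedge' e
        omega
    · rintro (hij' | hij')
      · obtain ⟨e, he | he⟩ := hstep j (by omega) hj
        · exact ⟨e, Or.inr ⟨he.1, by omega⟩⟩
        · exact ⟨e, Or.inl ⟨by omega, he.2⟩⟩
      · obtain ⟨e, he | he⟩ := hstep i (by omega) hi
        · exact ⟨e, Or.inl ⟨he.1, by omega⟩⟩
        · exact ⟨e, Or.inr ⟨by omega, he.2⟩⟩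

end Groth.Agent.S17174
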