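import Groth.Statements.S17243
import Mathlib
import Groth.Agent.Lib.Helper91.WronskHyp

set_option autoImplicit false
open W4c4effdivwronsk2

set_option linter.unusedSectionVars false

namespace Groth.Agent.S17243

open Polynomial in
/-- Let `k` be a field of characteristic zero and take, on the projective line over `k`, the point `∞`
and `m` further distinct points `r_1, …, r_m` of the affine line, with positive integers `b` (at
`∞`) and `a_1, …, a_m`; put `N = b + ∑ a_j`. The sum of the spaces of differentials with a single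
pole, of order at most `b + 1` at `∞`, resp. at most `a_j + 1` at `r_j`, `V = H⁰(ω((b+1)∞)) + ∑_j
H⁰(ω((a_j+1)r_j)) ⊆ H⁰(ω((b+1)∞ + ∑_j (a_j+1)r_j)) ≅ H⁰(O(d))`, `d = b - 1 + ∑ (a_j+1)`, becomes,
after multiplying by `dX⁻¹ ∏_j (X - r_j)^(a_j+1)`, the subspace of `k[X]_{≤ d}` spanned by
`D·k[X]_{<b}` and the `D_i·k[X]_{<a_i}`, where `D = ∏_j (X - r_j)^(a_j+1)` and `D_i` omits the
`i`-th factor; a member `h` vanishes to order `n` at a point `q` of the affine line when `(X - q)^n
∣ h`, and to order `d - deg h` at `∞`. Let `V₁ ⊆ V` be a hyperplane (`dim V₁ = N - 1`) containing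
`H⁰(ω((b-1)∞)) + ∑_j H⁰(ω((a_j+1)r_j))`, i.e. containing `D·k[X]_{<b-2}` and every
`D_i·k[X]_{<a_i}`. Then `V₁` has at most one ramification point off the marked points, and that
point is simple: at every point `q` of the affine line other than the `r_j` the weight of `V₁` is at
most one (no nonzero member divisible by `(X - q)^N`, at most a line of members divisible by `(X -
q)^(N-2)`), and at most one such `q` has positive weight (a nonzero member divisible by `(X -
q)^(N-1)`). (The published statement is over the complex numbers with the distinguished marked point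
arbitrary; it is placed at `∞` here, so that the unmarked points are the points of the affine line
other than the `r_j`.) -/
theorem result
    (k : Type*) [Field k] [CharZero k] (m : ℕ) (r : Fin m → k) (hr : Function.Injective r)
    (a : Fin m → ℕ) (ha : ∀ j, 1 ≤ a j) (b : ℕ) (hb : 1 ≤ b) (N d : ℕ)
    (hN : N = (∑ j, a j) + b) (hd : d + 1 = (∑ j, (a j + 1)) + b)
    (V : Submodule k (Polynomial k))
    (hV : V = (Polynomial.degreeLT k b).map (LinearMap.mulLeft k (∏ j, (X - C (r j)) ^ (a j + 1))) ⊔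
      ⨆ i, (Polynomial.degreeLT k (a i)).map
        (LinearMap.mulLeft k (∏ j ∈ Finset.univ.erase i, (X - C (r j)) ^ (a j + 1))))
    (V₁ : Submodule k (Polynomial k)) (hV₁ : V₁ ≤ V) (hfin : Module.finrank k ↥V₁ + 1 = N)
    (hU : (Polynomial.degreeLT k (b - 2)).map (LinearMap.mulLeft k (∏ j, (X - C (r j)) ^ (a j + 1))) ⊔
      (⨆ i, (Polynomial.degreeLT k (a i)).map
        (LinearMap.mulLeft k (∏ j ∈ Finset.univ.erase i, (X - C (r j)) ^ (a j + 1)))) ≤ V₁) :
    (∀ q : k, (∀ j, q ≠ r j) →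
      (V₁ ⊓ (Ideal.span {(X - C q) ^ N}).restrictScalars k) = ⊥ ∧
      Module.finrank k ↥(V₁ ⊓ (Ideal.span {(X - C q) ^ (N - 2)}).restrictScalars k) ≤ 1) ∧
    (∀ q q' : k, (∀ j, q ≠ r j) → (∀ j, q' ≠ r j) →
      (V₁ ⊓ (Ideal.span {(X - C q) ^ (N - 1)}).restrictScalars k) ≠ ⊥ →
      (V₁ ⊓ (Ideal.span {(X - C q') ^ (N - 1)}).restrictScalars k) ≠ ⊥ → q = q') := by
  have hV' : V = Groth.Agent.Lib.Helper91.Wronsk.VN r a N := by
    rw [hV]
    exact Groth.Agent.Lib.Helper91.Wronsk.Vdef_eq_VN r a hr b N hN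
  rw [hV'] at hV₁
  have hσ : ∑ j, a j ≤ N := by omega
  have hN1 : 1 ≤ N := by omega
  have hW : (Polynomial.degreeLT k (N - 1)).map (Groth.Agent.Lib.Helper91.Wronsk.Tlin r a) ≤ V₁ :=
    (Groth.Agent.Lib.Helper91.Wronsk.U_ge r a hr b N hb hN).trans hU
  have hfinV₁ : Module.Finite k V₁ := Submodule.finiteDimensional_of_le hV₁
  refine ⟨fun q hq => ⟨?_, ?_⟩, ?_⟩
  · -- no member divisible by `(X - q)^N`
    rw [eq_bot_iff]
    rintro x ⟨hx1, hx2⟩
    rw [Submodule.mem_bot]
    have hx2' : (X - C q) ^ N ∣ x := (Groth.Agent.Lib.Helper91.Wronsk.mem_Idl q N x).mp hx2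
    exact Groth.Agent.Lib.Helper91.Wronsk.VN_unmarked_top r a N hσ q hq x (hV₁ hx1) hx2'
  · -- at most a line divisible by `(X - q)^(N-2)`
    show Module.finrank k ↥(V₁ ⊓ Groth.Agent.Lib.Helper91.Wronsk.Idl q (N - 2)) ≤ 1
    by_cases hN2 : N ≤ 2
    · have h0 : N - 2 = 0 := by omega
      rw [h0, Groth.Agent.Lib.Helper91.Wronsk.Idl_zero, inf_top_eq]
      omega
    · by_contra hcon
      have hV2 := Groth.Agent.Lib.Helper91.Wronsk.finrank_VN_unmarked r a N hσ q hq (N - 2)
        (by omega)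
      have hle : V₁ ⊓ Groth.Agent.Lib.Helper91.Wronsk.Idl q (N - 2)
          ≤ Groth.Agent.Lib.Helper91.Wronsk.VN r a N ⊓ Groth.Agent.Lib.Helper91.Wronsk.Idl q (N - 2) :=
        inf_le_inf_right _ hV₁
      have heq := Submodule.eq_of_le_of_finrank_le hle (by omega)
      have hmem : ∀ t, N - 2 ≤ t → t + 1 ≤ N →
          Groth.Agent.Lib.Helper91.Wronsk.T r a ((X - C q) ^ (t + 1)) ∈ V₁ := by
        intro t ht1 ht2
        have : Groth.Agent.Lib.Helper91.Wronsk.T r a ((X - C q) ^ (t + 1))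
            ∈ V₁ ⊓ Groth.Agent.Lib.Helper91.Wronsk.Idl q (N - 2) := by
          rw [heq]
          refine ⟨Groth.Agent.Lib.Helper91.Wronsk.T_pow_mem_VN r a N q (t + 1) ht2, ?_⟩
          rw [SetLike.mem_coe, Groth.Agent.Lib.Helper91.Wronsk.mem_Idl]
          exact dvd_trans (pow_dvd_pow _ ht1) (Groth.Agent.Lib.Helper91.Wronsk.T_pow_dvd r a q t)
        exact this.1
      have h1 := hmem (N - 1) (by omega) (by omega)
      have h2 := hmem (N - 2) (by omega) (by omega)
      rw [show N - 1 + 1 = N by omega] at h1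
      rw [show N - 2 + 1 = N - 1 by omega] at h2
      refine Groth.Agent.Lib.Helper91.Wronsk.not_top_two r a N hσ hN1 V₁ hV₁ hfin hW
        ((X - C q) ^ N) ((X - C q) ^ (N - 1))
        (Groth.Agent.Lib.Helper91.Wronsk.X_sub_C_pow_mem_degreeLT q N) ?_ ?_ ?_ h1 h2
      · rw [Groth.Agent.Lib.Helper91.Wronsk.X_sub_C_pow_coeff]; exact one_ne_zero
      · have := Groth.Agent.Lib.Helper91.Wronsk.X_sub_C_pow_mem_degreeLT q (N - 1)
        rwa [show N - 1 + 1 = N by omega] at this
      · rw [Groth.Agent.Lib.Helper91.Wronsk.X_sub_C_pow_coeff]; exact one_ne_zero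
  · -- at most one point of positive weight
    intro q q' hq hq' hne hne'
    by_contra hqq
    have h1 := Groth.Agent.Lib.Helper91.Wronsk.T_pow_mem_of_ne_bot r a N hσ hN1 q hq V₁ hV₁ hne
    have h2 := Groth.Agent.Lib.Helper91.Wronsk.T_pow_mem_of_ne_bot r a N hσ hN1 q' hq' V₁ hV₁ hne'
    obtain ⟨h3, h4⟩ := Groth.Agent.Lib.Helper91.Wronsk.two_points N hN1 q q' hqq
    refine Groth.Agent.Lib.Helper91.Wronsk.not_top_two r a N hσ hN1 V₁ hV₁ hfin hW
      ((X - C q) ^ N) ((X - C q') ^ N - (X - C q) ^ N)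
      (Groth.Agent.Lib.Helper91.Wronsk.X_sub_C_pow_mem_degreeLT q N) ?_ h3 h4 h1 ?_
    · rw [Groth.Agent.Lib.Helper91.Wronsk.X_sub_C_pow_coeff]; exact one_ne_zero
    · rw [Groth.Agent.Lib.Helper91.Wronsk.T_sub]
      exact V₁.sub_mem h2 h1

end Groth.Agent.S17243
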