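import Groth.Statements.S17244
import Mathlib
import Groth.Agent.Lib.Helper91.WronskWt

set_option autoImplicit false
open W4c4effdivwronsk2

set_option linter.unusedSectionVars false

namespace Groth.Agent.S17244

open Polynomial in
/-- Let `k` be a field of characteristic zero and take, on the projective line over `k`, the point `∞`
and `m` further distinct points `r_1, …, r_m` of the affine line, with positive integers `b` (at
`∞`) and `a_1, …, a_m`; put `N = b + ∑ a_j`. The sum of the spaces of differentials with a single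
pole, of order at most `b + 1` at `∞`, resp. at most `a_j + 1` at `r_j`, `V = H⁰(ω((b+1)∞)) + ∑_j
H⁰(ω((a_j+1)r_j)) ⊆ H⁰(ω((b+1)∞ + ∑_j (a_j+1)r_j)) ≅ H⁰(O(d))`, `d = b - 1 + ∑ (a_j+1)`, becomes,
after multiplying by `dX⁻¹ ∏_j (X - r_j)^(a_j+1)`, the subspace of `k[X]_{≤ d}` spanned by
`D·k[X]_{<b}` and the `D_i·k[X]_{<a_i}`, where `D = ∏_j (X - r_j)^(a_j+1)` and `D_i` omits the
`i`-th factor; a member `h` vanishes to order `n` at a point `q` of the affine line when `(X - q)^n
∣ h`, and to order `d - deg h` at `∞`. Let `V₁ ⊆ V` be a hyperplane (`dim V₁ = N - 1`) containing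
`D·k[X]_{<b-2}` and every `D_i·k[X]_{<a_i}` (that is, containing `H⁰(ω((b-1)∞)) + ∑_j
H⁰(ω((a_j+1)r_j))`). The weight of `V₁` at a point is `∑_{n=1}^{d} dim V₁(-n·point) - (N-1 choose
2)` (the sum of the vanishing orders minus `0 + 1 + ⋯ + (N-2)`). Then the weight of `V₁` at `r_i` is
`∑_{j≠i} a_j + b - 1 + ε_i` and its weight at `∞` is `∑_j a_j + N - 2 + ε`, with `ε_i, ε ∈ {0, 1}`.
(The published statement is over the complex numbers with the distinguished marked point arbitrary;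
it is placed at `∞` here.) -/
theorem result
    (k : Type*) [Field k] [CharZero k] (m : ℕ) (r : Fin m → k) (hr : Function.Injective r)
    (a : Fin m → ℕ) (ha : ∀ j, 1 ≤ a j) (b : ℕ) (hb : 1 ≤ b) (N d : ℕ)
    (hN : N = (∑ j, a j) + b) (hd : d + 1 = (∑ j, (a j + 1)) + b)
    (V : Submodule k (Polynomial k))
    (hV : V = (Polynomial.degreeLT k b).map (LinearMap.mulLeft k (∏ j, (X - C (r j)) ^ (a j + 1))) ⊔
      ⨆ i, (Polynomial.degreeLT k (a i)).map
        (LinearMap.mulLeft k (∏ j ∈ Finset.univ.erase i, (X - C (r j)) ^ (a j + 1))))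
    (V₁ : Submodule k (Polynomial k)) (hV₁ : V₁ ≤ V) (hfin : Module.finrank k ↥V₁ + 1 = N)
    (hU : (Polynomial.degreeLT k (b - 2)).map (LinearMap.mulLeft k (∏ j, (X - C (r j)) ^ (a j + 1))) ⊔
      (⨆ i, (Polynomial.degreeLT k (a i)).map
        (LinearMap.mulLeft k (∏ j ∈ Finset.univ.erase i, (X - C (r j)) ^ (a j + 1)))) ≤ V₁) :
    (∀ i : Fin m, ∃ ε : ℕ, ε ≤ 1 ∧
      (∑ n ∈ Finset.range d, Module.finrank k ↥(V₁ ⊓ (Ideal.span {(X - C (r i)) ^ (n + 1)}).restrictScalars k)) + 1 =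
        (N - 1).choose 2 + (N - a i) + ε) ∧
    (∃ ε : ℕ, ε ≤ 1 ∧
      (∑ n ∈ Finset.range d, Module.finrank k ↥(V₁ ⊓ Polynomial.degreeLT k (d - n))) =
        (N - 1).choose 2 + (N - b) + (N - 2) + ε) := by
  have hV' : V = Groth.Agent.Lib.Helper91.Wronsk.VN r a N := by
    rw [hV]
    exact Groth.Agent.Lib.Helper91.Wronsk.Vdef_eq_VN r a hr b N hN
  rw [hV'] at hV₁
  have hσ : ∑ j, a j ≤ N := by omega
  have hN1 : 1 ≤ N := by omega
  have hd' : d + 1 = N + m := by
    rw [Groth.Agent.Lib.Helper91.Wronsk.sum_succ_eq] at hd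
    omega
  have hW : (Polynomial.degreeLT k (N - 1)).map (Groth.Agent.Lib.Helper91.Wronsk.Tlin r a) ≤ V₁ :=
    (Groth.Agent.Lib.Helper91.Wronsk.U_ge r a hr b N hb hN).trans hU
  have hfinV₁ : Module.Finite k V₁ := Submodule.finiteDimensional_of_le hV₁
  constructor
  · intro i
    have hai := Groth.Agent.Lib.Helper91.Wronsk.le_sum a i
    have hm1 : 1 ≤ m := by
      have := i.2
      omega
    refine Groth.Agent.Lib.Helper91.Wronsk.weight_sum
      (fun n => Module.finrank k ↥(V₁ ⊓ Groth.Agent.Lib.Helper91.Wronsk.Idl (r i) n))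
      N (a i) d hN1 (by omega) (by omega) (by omega) ?_ ?_ (by omega) ?_
    · intro n hn1 hn2
      show Module.finrank k ↥(V₁ ⊓ Groth.Agent.Lib.Helper91.Wronsk.Idl (r i) n) + 1 = _
      rw [Groth.Agent.Lib.Helper91.Wronsk.hyp_inf_of_not_le r a N hσ V₁ hV₁ hfin _ ?_]
      · exact Groth.Agent.Lib.Helper91.Wronsk.finrank_VN_marked r a hr N hσ i n
      · intro hcon
        have h1 := hcon (Groth.Agent.Lib.Helper91.Wronsk.top_powers_mem r a N i n N (by omega) le_rfl)
        have h2 := hcon (Groth.Agent.Lib.Helper91.Wronsk.top_powers_mem r a N i n (N - 1)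
          (by omega) (by omega))
        refine Groth.Agent.Lib.Helper91.Wronsk.not_top_two r a N hσ hN1 V₁ hV₁ hfin hW
          ((X - C (r i)) ^ N) ((X - C (r i)) ^ (N - 1))
          (Groth.Agent.Lib.Helper91.Wronsk.X_sub_C_pow_mem_degreeLT (r i) N) ?_ ?_ ?_ h1 h2
        · rw [Groth.Agent.Lib.Helper91.Wronsk.X_sub_C_pow_coeff]; exact one_ne_zero
        · have := Groth.Agent.Lib.Helper91.Wronsk.X_sub_C_pow_mem_degreeLT (r i) (N - 1)
          rwa [show N - 1 + 1 = N by omega] at this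
        · rw [Groth.Agent.Lib.Helper91.Wronsk.X_sub_C_pow_coeff]; exact one_ne_zero
    · show Module.finrank k ↥(V₁ ⊓ Groth.Agent.Lib.Helper91.Wronsk.Idl (r i) N) ≤ 1
      have h1 := Groth.Agent.Lib.Helper91.Wronsk.hyp_inf_le r a N V₁ hV₁
        (Groth.Agent.Lib.Helper91.Wronsk.Idl (r i) N)
      rw [Groth.Agent.Lib.Helper91.Wronsk.finrank_VN_marked r a hr N hσ i N] at h1
      split_ifs at h1 <;> omega
    · intro n hn
      show Module.finrank k ↥(V₁ ⊓ Groth.Agent.Lib.Helper91.Wronsk.Idl (r i) n) = 0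
      have h1 := Groth.Agent.Lib.Helper91.Wronsk.hyp_inf_le r a N V₁ hV₁
        (Groth.Agent.Lib.Helper91.Wronsk.Idl (r i) n)
      rw [Groth.Agent.Lib.Helper91.Wronsk.finrank_VN_marked r a hr N hσ i n] at h1
      split_ifs at h1 <;> omega
  · have key := Groth.Agent.Lib.Helper91.Wronsk.weight_sum_inf
      (fun n => Module.finrank k ↥(V₁ ⊓ Polynomial.degreeLT k (d + 1 - n)))
      N b d hb (by omega) (by omega) ?_ ?_ ?_
    · obtain ⟨ε, hε, hsum⟩ := key
      refine ⟨ε, hε, ?_⟩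
      rw [← hsum]
      refine Finset.sum_congr rfl fun n _ => ?_
      show _ = Module.finrank k ↥(V₁ ⊓ Polynomial.degreeLT k (d + 1 - (n + 1)))
      rw [Nat.add_sub_add_right]
    · intro hdN
      have hm0 : m = 0 := by omega
      have := Groth.Agent.Lib.Helper91.Wronsk.sum_eq_zero_of_m_zero a hm0
      omega
    · show Module.finrank k ↥(V₁ ⊓ Polynomial.degreeLT k (d + 1 - 1)) + 1 = N ∨
        Module.finrank k ↥(V₁ ⊓ Polynomial.degreeLT k (d + 1 - 1)) + 2 = N
      have hF := Groth.Agent.Lib.Helper91.Wronsk.finrank_VN_inf r a N b d hN hd' 1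
      rw [if_pos hb] at hF
      by_cases hcon : Groth.Agent.Lib.Helper91.Wronsk.VN r a N ⊓ Polynomial.degreeLT k (d + 1 - 1) ≤ V₁
      · left
        rw [Groth.Agent.Lib.Helper91.Wronsk.hyp_inf_of_le r a N V₁ hV₁ _ hcon, hF]
        omega
      · right
        have := Groth.Agent.Lib.Helper91.Wronsk.hyp_inf_of_not_le r a N hσ V₁ hV₁ hfin _ hcon
        omega
    · intro n hn
      show Module.finrank k ↥(V₁ ⊓ Polynomial.degreeLT k (d + 1 - n)) = _
      rw [Groth.Agent.Lib.Helper91.Wronsk.hyp_inf_of_le r a N V₁ hV₁ _ ?_]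
      · exact Groth.Agent.Lib.Helper91.Wronsk.finrank_VN_inf r a N b d hN hd' n
      · rintro x ⟨hx1, hx2⟩
        apply hW
        apply Groth.Agent.Lib.Helper91.Wronsk.VN_inf_low r a N d hd' x hx1
        exact Polynomial.degreeLT_mono (by omega) hx2

end Groth.Agent.S17244
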