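import Groth.Statements.S17245
import Mathlib
import Groth.Agent.Lib.Helper91.WronskPt

set_option autoImplicit false
open W4c4effdivwronsk2

set_option linter.unusedSectionVars false

namespace Groth.Agent.S17245

open Polynomial in
/-- Let `k` be a field of characteristic zero and take, on the projective line over `k`, the point `∞`
and `m` further distinct points `r_1, …, r_m` of the affine line, with positive integers `b` (at
`∞`) and `a_1, …, a_m`; put `N = b + ∑ a_j`. The sum of the spaces of differentials with a single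
pole, of order at most `b + 1` at `∞`, resp. at most `a_j + 1` at `r_j`, `V = H⁰(ω((b+1)∞)) + ∑_j
H⁰(ω((a_j+1)r_j)) ⊆ H⁰(ω((b+1)∞ + ∑_j (a_j+1)r_j)) ≅ H⁰(O(d))`, `d = b - 1 + ∑ (a_j+1)`, becomes,
after multiplying by `dX⁻¹ ∏_j (X - r_j)^(a_j+1)`, the subspace of `k[X]_{≤ d}` spanned by
`D·k[X]_{<b}` and the `D_i·k[X]_{<a_i}`, where `D = ∏_j (X - r_j)^(a_j+1)` and `D_i` omits the
`i`-th factor; a member `h` vanishes to order `n` at a point `q` of the affine line when `(X - q)^n
∣ h`, and to order `d - deg h` at `∞`. Let `p` be a further point of the affine line, distinct from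
the `r_j`, and `V₁ = V(-p)` the members divisible by `X - p`, an `(N-1)`-dimensional system in the
line bundle twisted down by `p` (its vanishing orders at points `q ≠ p`, and at `∞`, are read off
exactly as for `V`; at `p` itself they are one less than the order of divisibility by `X - p`). Then
`dim V₁ = N - 1`, the point `p` is not a ramification point of `V₁` (no nonzero member of `V₁` is
divisible by `(X - p)^N`), and `V₁` has at most one ramification point off the marked points, a
simple one: at every `q` other than `p` and the `r_j`, no nonzero member is divisible by `(X - q)^N`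
and at most a line of members is divisible by `(X - q)^(N-2)`, and at most one such `q` has a
nonzero member divisible by `(X - q)^(N-1)`. (The published statement is over the complex numbers
with all points arbitrary; one marked point is placed at `∞` here and `p` is taken distinct from the
marked points.) -/
theorem result
    (k : Type*) [Field k] [CharZero k] (m : ℕ) (r : Fin m → k) (hr : Function.Injective r)
    (a : Fin m → ℕ) (ha : ∀ j, 1 ≤ a j) (b : ℕ) (hb : 1 ≤ b) (N d : ℕ)
    (hN : N = (∑ j, a j) + b) (hd : d + 1 = (∑ j, (a j + 1)) + b)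
    (V : Submodule k (Polynomial k))
    (hV : V = (Polynomial.degreeLT k b).map (LinearMap.mulLeft k (∏ j, (X - C (r j)) ^ (a j + 1))) ⊔
      ⨆ i, (Polynomial.degreeLT k (a i)).map
        (LinearMap.mulLeft k (∏ j ∈ Finset.univ.erase i, (X - C (r j)) ^ (a j + 1))))
    (p : k) (hp : ∀ j, p ≠ r j) (V₁ : Submodule k (Polynomial k))
    (hV₁ : V₁ = V ⊓ (Ideal.span {X - C p}).restrictScalars k) :
    Module.finrank k ↥V₁ + 1 = N ∧
    (V₁ ⊓ (Ideal.span {(X - C p) ^ N}).restrictScalars k) = ⊥ ∧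
    (∀ q : k, (∀ j, q ≠ r j) → q ≠ p →
      (V₁ ⊓ (Ideal.span {(X - C q) ^ N}).restrictScalars k) = ⊥ ∧
      Module.finrank k ↥(V₁ ⊓ (Ideal.span {(X - C q) ^ (N - 2)}).restrictScalars k) ≤ 1) ∧
    (∀ q q' : k, (∀ j, q ≠ r j) → q ≠ p → (∀ j, q' ≠ r j) → q' ≠ p →
      (V₁ ⊓ (Ideal.span {(X - C q) ^ (N - 1)}).restrictScalars k) ≠ ⊥ →
      (V₁ ⊓ (Ideal.span {(X - C q') ^ (N - 1)}).restrictScalars k) ≠ ⊥ → q = q') := by
  have hV' : V = Groth.Agent.Lib.Helper91.Wronsk.VN r a N := by
    rw [hV]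
    exact Groth.Agent.Lib.Helper91.Wronsk.Vdef_eq_VN r a hr b N hN
  have hV₁' : V₁ = Groth.Agent.Lib.Helper91.Wronsk.VN r a N ⊓ Groth.Agent.Lib.Helper91.Wronsk.Vp p := by
    rw [hV₁, hV']
    rfl
  have hσ : ∑ j, a j ≤ N := by omega
  have hN1 : 1 ≤ N := by omega
  have hle : V₁ ≤ Groth.Agent.Lib.Helper91.Wronsk.VN r a N := by
    rw [hV₁']
    exact inf_le_left
  have hev : ∀ x ∈ V₁, eval p x = 0 := by
    intro x hx
    rw [hV₁'] at hx
    exact (Groth.Agent.Lib.Helper91.Wronsk.mem_Vp p x).mp hx.2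
  have hfin : Module.finrank k ↥V₁ + 1 = N := by
    rw [hV₁']
    exact Groth.Agent.Lib.Helper91.Wronsk.finrank_VN_inf_Vp r a N hσ hN1 p hp
  have hfinV₁ : Module.Finite k V₁ := Submodule.finiteDimensional_of_le hle
  have hbot : ∀ q : k, (∀ j, q ≠ r j) →
      V₁ ⊓ Groth.Agent.Lib.Helper91.Wronsk.Idl q N = ⊥ := by
    intro q hq
    rw [eq_bot_iff]
    rintro x ⟨hx1, hx2⟩
    rw [Submodule.mem_bot]
    have hx2' : (X - C q) ^ N ∣ x := (Groth.Agent.Lib.Helper91.Wronsk.mem_Idl q N x).mp hx2
    exact Groth.Agent.Lib.Helper91.Wronsk.VN_unmarked_top r a N hσ q hq x (hle hx1) hx2'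
  refine ⟨hfin, hbot p hp, fun q hq hqp => ⟨hbot q hq, ?_⟩, ?_⟩
  · -- at most a line divisible by `(X - q)^(N-2)`
    show Module.finrank k ↥(V₁ ⊓ Groth.Agent.Lib.Helper91.Wronsk.Idl q (N - 2)) ≤ 1
    by_cases hN2 : N ≤ 2
    · have h0 : N - 2 = 0 := by omega
      rw [h0, Groth.Agent.Lib.Helper91.Wronsk.Idl_zero, inf_top_eq]
      omega
    · by_contra hcon
      have hV2 := Groth.Agent.Lib.Helper91.Wronsk.finrank_VN_unmarked r a N hσ q hq (N - 2)
        (by omega)
      have hle2 : V₁ ⊓ Groth.Agent.Lib.Helper91.Wronsk.Idl q (N - 2)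
          ≤ Groth.Agent.Lib.Helper91.Wronsk.VN r a N ⊓ Groth.Agent.Lib.Helper91.Wronsk.Idl q (N - 2) :=
        inf_le_inf_right _ hle
      have heq := Submodule.eq_of_le_of_finrank_le hle2 (by omega)
      have hmem : ∀ t, N - 2 ≤ t → t + 1 ≤ N →
          Groth.Agent.Lib.Helper91.Wronsk.T r a ((X - C q) ^ (t + 1)) ∈ V₁ := by
        intro t ht1 ht2
        have : Groth.Agent.Lib.Helper91.Wronsk.T r a ((X - C q) ^ (t + 1))
            ∈ V₁ ⊓ Groth.Agent.Lib.Helper91.Wronsk.Idl q (N - 2) := by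
          rw [heq]
          refine ⟨Groth.Agent.Lib.Helper91.Wronsk.T_pow_mem_VN r a N q (t + 1) ht2, ?_⟩
          rw [SetLike.mem_coe, Groth.Agent.Lib.Helper91.Wronsk.mem_Idl]
          exact dvd_trans (pow_dvd_pow _ ht1) (Groth.Agent.Lib.Helper91.Wronsk.T_pow_dvd r a q t)
        exact this.1
      have h1 := hev _ (hmem (N - 2) (by omega) (by omega))
      have h2 := hev _ (hmem (N - 2 + 1) (by omega) (by omega))
      exact Groth.Agent.Lib.Helper91.Wronsk.not_both_vanish r a p q hp (Ne.symm hqp) (N - 2) h1 h2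
  · -- at most one point of positive weight
    intro q q' hq hqp hq' hqp' hne hne'
    by_contra hqq
    have h1 := Groth.Agent.Lib.Helper91.Wronsk.T_pow_mem_of_ne_bot r a N hσ hN1 q hq V₁ hle hne
    have h2 := Groth.Agent.Lib.Helper91.Wronsk.T_pow_mem_of_ne_bot r a N hσ hN1 q' hq' V₁ hle hne'
    have e1 := hev _ h1
    have e2 := hev _ h2
    obtain ⟨M, rfl⟩ : ∃ M, N = M + 1 := ⟨N - 1, by omega⟩
    exact Groth.Agent.Lib.Helper91.Wronsk.not_both_vanish' r a p q q' hp (Ne.symm hqp)
      (Ne.symm hqp') hqq M e1 e2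

end Groth.Agent.S17245
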