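import Groth.Statements.S17246
import Mathlib
import Groth.Agent.Lib.Helper91.WronskWt

set_option autoImplicit false
open W4c4effdivwronsk2

set_option linter.unusedSectionVars false

namespace Groth.Agent.S17246

open Polynomial in
/-- Let `k` be a field of characteristic zero and take, on the projective line over `k`, the point `∞`
and `m` further distinct points `r_1, …, r_m` of the affine line, with positive integers `b` (at
`∞`) and `a_1, …, a_m`; put `N = b + ∑ a_j`. The sum of the spaces of differentials with a single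
pole, of order at most `b + 1` at `∞`, resp. at most `a_j + 1` at `r_j`, `V = H⁰(ω((b+1)∞)) + ∑_j
H⁰(ω((a_j+1)r_j)) ⊆ H⁰(ω((b+1)∞ + ∑_j (a_j+1)r_j)) ≅ H⁰(O(d))`, `d = b - 1 + ∑ (a_j+1)`, becomes,
after multiplying by `dX⁻¹ ∏_j (X - r_j)^(a_j+1)`, the subspace of `k[X]_{≤ d}` spanned by
`D·k[X]_{<b}` and the `D_i·k[X]_{<a_i}`, where `D = ∏_j (X - r_j)^(a_j+1)` and `D_i` omits the
`i`-th factor; a member `h` vanishes to order `n` at a point `q` of the affine line when `(X - q)^n
∣ h`, and to order `d - deg h` at `∞`. Let `p` be a further point of the affine line, distinct from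
the `r_j`, and `V₁ = V(-p)` the members divisible by `X - p` (an `(N-1)`-dimensional system in the
line bundle twisted down by `p`, with vanishing orders at the marked points read off as for `V`).
With the weight of `V₁` at a marked point defined as `∑_{n=1}^{d} dim V₁(-n·point) - (N-1 choose
2)`: the weight at `r_i` is `∑_{j≠i} a_j + b - 1 + ε_i` and the weight at `∞` is `∑_j a_j - 1 + ε`,
with all `ε` in `{0, 1}`. (The published statement is over the complex numbers with all points
arbitrary; one marked point is placed at `∞` here and `p` is taken distinct from the marked points.) -/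
theorem result
    (k : Type*) [Field k] [CharZero k] (m : ℕ) (r : Fin m → k) (hr : Function.Injective r)
    (a : Fin m → ℕ) (ha : ∀ j, 1 ≤ a j) (b : ℕ) (hb : 1 ≤ b) (N d : ℕ)
    (hN : N = (∑ j, a j) + b) (hd : d + 1 = (∑ j, (a j + 1)) + b)
    (V : Submodule k (Polynomial k))
    (hV : V = (Polynomial.degreeLT k b).map (LinearMap.mulLeft k (∏ j, (X - C (r j)) ^ (a j + 1))) ⊔
      ⨆ i, (Polynomial.degreeLT k (a i)).map
        (LinearMap.mulLeft k (∏ j ∈ Finset.univ.erase i, (X - C (r j)) ^ (a j + 1))))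
    (p : k) (hp : ∀ j, p ≠ r j) (V₁ : Submodule k (Polynomial k))
    (hV₁ : V₁ = V ⊓ (Ideal.span {X - C p}).restrictScalars k) :
    (∀ i : Fin m, ∃ ε : ℕ, ε ≤ 1 ∧
      (∑ n ∈ Finset.range d, Module.finrank k ↥(V₁ ⊓ (Ideal.span {(X - C (r i)) ^ (n + 1)}).restrictScalars k)) + 1 =
        (N - 1).choose 2 + (N - a i) + ε) ∧
    (∃ ε : ℕ, ε ≤ 1 ∧
      (∑ n ∈ Finset.range d, Module.finrank k ↥(V₁ ⊓ Polynomial.degreeLT k (d - n))) + 1 =
        (N - 1).choose 2 + (N - b) + ε) := by
  have hV' : V = Groth.Agent.Lib.Helper91.Wronsk.VN r a N := by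
    rw [hV]
    exact Groth.Agent.Lib.Helper91.Wronsk.Vdef_eq_VN r a hr b N hN
  have hV₁' : V₁ = Groth.Agent.Lib.Helper91.Wronsk.VN r a N ⊓ Groth.Agent.Lib.Helper91.Wronsk.Vp p := by
    rw [hV₁, hV']
    rfl
  have hσ : ∑ j, a j ≤ N := by omega
  have hN1 : 1 ≤ N := by omega
  have hd' : d + 1 = N + m := by
    rw [Groth.Agent.Lib.Helper91.Wronsk.sum_succ_eq] at hd
    omega
  have hle : V₁ ≤ Groth.Agent.Lib.Helper91.Wronsk.VN r a N := by
    rw [hV₁']
    exact inf_le_left
  have hev : ∀ x ∈ V₁, eval p x = 0 := by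
    intro x hx
    rw [hV₁'] at hx
    exact (Groth.Agent.Lib.Helper91.Wronsk.mem_Vp p x).mp hx.2
  have hfin : Module.finrank k ↥V₁ + 1 = N := by
    rw [hV₁']
    exact Groth.Agent.Lib.Helper91.Wronsk.finrank_VN_inf_Vp r a N hσ hN1 p hp
  have hfinV₁ : Module.Finite k V₁ := Submodule.finiteDimensional_of_le hle
  constructor
  · intro i
    have hai := Groth.Agent.Lib.Helper91.Wronsk.le_sum a i
    have hm1 : 1 ≤ m := by
      have := i.2
      omega
    refine Groth.Agent.Lib.Helper91.Wronsk.weight_sum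
      (fun n => Module.finrank k ↥(V₁ ⊓ Groth.Agent.Lib.Helper91.Wronsk.Idl (r i) n))
      N (a i) d hN1 (by omega) (by omega) (by omega) ?_ ?_ (by omega) ?_
    · intro n hn1 hn2
      show Module.finrank k ↥(V₁ ⊓ Groth.Agent.Lib.Helper91.Wronsk.Idl (r i) n) + 1 = _
      rw [Groth.Agent.Lib.Helper91.Wronsk.hyp_inf_of_not_le r a N hσ V₁ hle hfin _ ?_]
      · exact Groth.Agent.Lib.Helper91.Wronsk.finrank_VN_marked r a hr N hσ i n
      · intro hcon
        have h1 := hev _ (hcon (Groth.Agent.Lib.Helper91.Wronsk.top_powers_mem r a N i n (N - 1)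
          (by omega) (by omega)))
        have h2 := hev _ (hcon (Groth.Agent.Lib.Helper91.Wronsk.top_powers_mem r a N i n N
          (by omega) le_rfl))
        obtain ⟨M, rfl⟩ : ∃ M, N = M + 1 + 1 := ⟨N - 2, by omega⟩
        rw [show M + 1 + 1 - 1 = M + 1 by omega] at h1
        exact Groth.Agent.Lib.Helper91.Wronsk.not_both_vanish r a p (r i) hp (hp i) M h1 h2
    · show Module.finrank k ↥(V₁ ⊓ Groth.Agent.Lib.Helper91.Wronsk.Idl (r i) N) ≤ 1
      have h1 := Groth.Agent.Lib.Helper91.Wronsk.hyp_inf_le r a N V₁ hle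
        (Groth.Agent.Lib.Helper91.Wronsk.Idl (r i) N)
      rw [Groth.Agent.Lib.Helper91.Wronsk.finrank_VN_marked r a hr N hσ i N] at h1
      split_ifs at h1 <;> omega
    · intro n hn
      show Module.finrank k ↥(V₁ ⊓ Groth.Agent.Lib.Helper91.Wronsk.Idl (r i) n) = 0
      have h1 := Groth.Agent.Lib.Helper91.Wronsk.hyp_inf_le r a N V₁ hle
        (Groth.Agent.Lib.Helper91.Wronsk.Idl (r i) n)
      rw [Groth.Agent.Lib.Helper91.Wronsk.finrank_VN_marked r a hr N hσ i n] at h1
      split_ifs at h1 <;> omega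
  · have key := Groth.Agent.Lib.Helper91.Wronsk.weight_sum
      (fun n => Module.finrank k ↥(V₁ ⊓ Polynomial.degreeLT k (d + 1 - n)))
      N b d hN1 (by omega) (by omega) ?_ ?_ ?_ ?_ ?_
    · obtain ⟨ε, hε, hsum⟩ := key
      refine ⟨ε, hε, ?_⟩
      rw [← hsum]
      congr 1
      refine Finset.sum_congr rfl fun n _ => ?_
      show _ = Module.finrank k ↥(V₁ ⊓ Polynomial.degreeLT k (d + 1 - (n + 1)))
      rw [Nat.add_sub_add_right]
    · intro hdN
      have hm0 : m = 0 := by omega
      have := Groth.Agent.Lib.Helper91.Wronsk.sum_eq_zero_of_m_zero a hm0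
      omega
    · intro n hn1 hn2
      show Module.finrank k ↥(V₁ ⊓ Polynomial.degreeLT k (d + 1 - n)) + 1 = _
      rw [Groth.Agent.Lib.Helper91.Wronsk.hyp_inf_of_not_le r a N hσ V₁ hle hfin _ ?_]
      · exact Groth.Agent.Lib.Helper91.Wronsk.finrank_VN_inf r a N b d hN hd' n
      · intro hcon
        have hx : Groth.Agent.Lib.Helper91.Wronsk.T r a ((X - C p) ^ 1)
            ∈ Groth.Agent.Lib.Helper91.Wronsk.VN r a N ⊓ Polynomial.degreeLT k (d + 1 - n) :=
          ⟨Groth.Agent.Lib.Helper91.Wronsk.T_pow_mem_VN r a N p 1 hN1,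
            Polynomial.degreeLT_mono (by omega)
              (Groth.Agent.Lib.Helper91.Wronsk.T_lin_mem_degreeLT r a p)⟩
        have h1 := hev _ (hcon hx)
        rw [show (1 : ℕ) = 0 + 1 from rfl, Groth.Agent.Lib.Helper91.Wronsk.eval_T_pow] at h1
        simp only [pow_zero, one_mul, sub_self, mul_zero, sub_zero, Nat.cast_zero, zero_add] at h1
        exact Groth.Agent.Lib.Helper91.Wronsk.Pis_eval_ne_zero r Finset.univ p (fun j _ => hp j) h1
    · show Module.finrank k ↥(V₁ ⊓ Polynomial.degreeLT k (d + 1 - N)) ≤ 1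
      have h1 := Groth.Agent.Lib.Helper91.Wronsk.hyp_inf_le r a N V₁ hle
        (Polynomial.degreeLT k (d + 1 - N))
      rw [Groth.Agent.Lib.Helper91.Wronsk.finrank_VN_inf r a N b d hN hd' N] at h1
      split_ifs at h1 <;> omega
    · intro hbN
      show Module.finrank k ↥(V₁ ⊓ Polynomial.degreeLT k (d + 1 - N)) = 0
      have h1 := Groth.Agent.Lib.Helper91.Wronsk.hyp_inf_le r a N V₁ hle
        (Polynomial.degreeLT k (d + 1 - N))
      rw [Groth.Agent.Lib.Helper91.Wronsk.finrank_VN_inf r a N b d hN hd' N] at h1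
      split_ifs at h1 <;> omega
    · intro n hn
      show Module.finrank k ↥(V₁ ⊓ Polynomial.degreeLT k (d + 1 - n)) = 0
      have h1 := Groth.Agent.Lib.Helper91.Wronsk.hyp_inf_le r a N V₁ hle
        (Polynomial.degreeLT k (d + 1 - n))
      rw [Groth.Agent.Lib.Helper91.Wronsk.finrank_VN_inf r a N b d hN hd' n] at h1
      split_ifs at h1 <;> omega

end Groth.Agent.S17246
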