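import Groth.Statements.S17255
import Groth.Agent.Lib.Helper22.AbVarIsogeny2

set_option autoImplicit false
universe u
open CategoryTheory CategoryTheory.Limits MonoidalCategory CartesianMonoidalCategory MonObj GrpObj AlgebraicGeometry
open AbVar

namespace Groth.Agent.S17255

/-- Let k be a field, A and B abelian varieties over k (smooth proper k-group schemes with geometrically
connected fibres) with dim A = dim B (Krull dimensions of the underlying spaces), and f : A → B a
homomorphism. Then flatness of f is equivalent to finiteness of f. -/
theorem result (k : Type u) [Field k]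
    (A B : Over (Spec (CommRingCat.of k)))
    [GrpObj A] [Smooth A.hom] [IsProper A.hom] [GeometricallyConnected A.hom]
    [GrpObj B] [Smooth B.hom] [IsProper B.hom] [GeometricallyConnected B.hom]
    (f : A ⟶ B) [IsMonHom f] (hdim : topologicalKrullDim A.left = topologicalKrullDim B.left) :
    Flat f.left ↔ IsFinite f.left := by
  haveI : GeometricallyIntegral A.hom :=
    Groth.Agent.Lib.Helper22.AbVarIsogeny.geometricallyIntegral_of_smooth A.hom
  haveI : GeometricallyIntegral B.hom :=
    Groth.Agent.Lib.Helper22.AbVarIsogeny.geometricallyIntegral_of_smooth B.hom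
  haveI : IsIntegral A.left := GeometricallyIntegral.isIntegral_of_subsingleton (f := A.hom)
  haveI : IsIntegral B.left := GeometricallyIntegral.isIntegral_of_subsingleton (f := B.hom)
  constructor
  · intro hflat
    haveI : Surjective f.left :=
      Groth.Agent.Lib.Helper22.AbVarIsogeny.surjective_of_flat_of_isProper A.hom B.hom f.left
        (Over.w f)
    exact Groth.Agent.Lib.Helper22.AbVarIsogeny.isFinite_of_surjective_of_dim_eq A B.hom f.left
      (Over.w f) hdim
  · intro hfin
    haveI : Surjective f.left :=
      Groth.Agent.Lib.Helper22.AbVarIsogeny.surjective_of_isFinite_of_dim_eq A.hom B.hom hdim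
        f.left (Over.w f)
    exact Groth.Agent.Lib.Helper22.AbVarIsogeny.flat_of_locallyQuasiFinite_of_smooth A.hom B.hom
      f.left (Over.w f)
      (Groth.Agent.Lib.Helper22.AbVarIsogeny.map_genericPoint_of_surjective f.left)

end Groth.Agent.S17255
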