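import Groth.Statements.S1726
import Mathlib
import Groth.Agent.S2669
import Groth.Agent.Lib.Helper73.DimFormula.Catenary
import Groth.Agent.Lib.Helper73.DimFormula.UnivCatenary

set_option autoImplicit false
universe u
open LocCoh

namespace Groth.Agent.S1726

open Groth.Agent.Lib.Helper73

set_option linter.style.haveILetI false
set_option linter.unusedSectionVars false

theorem height_Ici_eq {R : Type u} [CommRing R] (p q : PrimeSpectrum R) (h : p ≤ q) :
    ∃ Q : PrimeSpectrum (R ⧸ p.asIdeal),
      Q.asIdeal.comap (Ideal.Quotient.mk p.asIdeal) = q.asIdeal ∧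
      Order.height (⟨q, h⟩ : Set.Ici p) = Q.asIdeal.height := by
  let e := p.asIdeal.primeSpectrumQuotientOrderIsoZeroLocus
  have hset : PrimeSpectrum.zeroLocus (R := R) p.asIdeal = Set.Ici p := by
    ext x
    rw [PrimeSpectrum.mem_zeroLocus, Set.mem_Ici]
    rfl
  let e' : (PrimeSpectrum.zeroLocus (R := R) p.asIdeal) ≃o Set.Ici p := OrderIso.setCongr _ _ hset
  let E := e.trans e'
  refine ⟨E.symm ⟨q, h⟩, ?_, ?_⟩
  · have h1 : E (E.symm ⟨q, h⟩) = ⟨q, h⟩ := E.apply_symm_apply _
    have h2 : ((E (E.symm ⟨q, h⟩) : Set.Ici p) : PrimeSpectrum R) = q := by rw [h1]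
    exact congrArg PrimeSpectrum.asIdeal h2
  · rw [PrimeSpectrum.height_eq_orderHeight]
    have h1 : E (E.symm ⟨q, h⟩) = ⟨q, h⟩ := E.apply_symm_apply _
    conv_lhs => rw [← h1]
    rw [Order.height_orderIso]

theorem height_Ici_eq' {R : Type u} [CommRing R] (P : Ideal R) [P.IsPrime] (p q : PrimeSpectrum R)
    (hp : p.asIdeal = P) (h : p ≤ q) :
    ∃ Q : Ideal (R ⧸ P), Q.IsPrime ∧ Q.comap (Ideal.Quotient.mk P) = q.asIdeal ∧
      Order.height (⟨q, h⟩ : Set.Ici p) = Q.height := by
  subst hp
  obtain ⟨Q, h1, h2⟩ := height_Ici_eq p q h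
  exact ⟨Q.asIdeal, Q.isPrime, h1, h2⟩

theorem height_Ici_comap {A B : Type u} [CommRing A] [CommRing B] [Algebra A B]
    [Module.Finite A B] (hA : CAlg.IsUniversallyCatenary A)
    (p' q' : PrimeSpectrum B) (h' : p' ≤ q') (p q : PrimeSpectrum A) (h : p ≤ q)
    (hp : p = PrimeSpectrum.comap (algebraMap A B) p')
    (hq : q = PrimeSpectrum.comap (algebraMap A B) q') :
    Order.height (⟨q', h'⟩ : Set.Ici p') = Order.height (⟨q, h⟩ : Set.Ici p) := by
  obtain ⟨QB, hQBp, hQB, hhB⟩ := height_Ici_eq' p'.asIdeal p' q' rfl h'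
  obtain ⟨QA, hQAp, hQA, hhA⟩ := height_Ici_eq' (p'.asIdeal.comap (algebraMap A B)) p q
    (by rw [hp]; rfl) h
  rw [hhB, hhA]
  have hlo : QB.LiesOver QA := by
    constructor
    apply Ideal.comap_injective_of_surjective (Ideal.Quotient.mk (p'.asIdeal.comap (algebraMap A B)))
      Ideal.Quotient.mk_surjective
    rw [hQA, Ideal.under_def, Ideal.comap_comap]
    have : (algebraMap (A ⧸ p'.asIdeal.comap (algebraMap A B)) (B ⧸ p'.asIdeal)).comp
        (Ideal.Quotient.mk (p'.asIdeal.comap (algebraMap A B))) =
        (Ideal.Quotient.mk p'.asIdeal).comp (algebraMap A B) := by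
      ext a
      rfl
    rw [this, ← Ideal.comap_comap, hQB, hq]
    rfl
  have hcat := isUniversallyCatenary_quotient hA (p'.asIdeal.comap (algebraMap A B))
  have key := dimFormula_eq (A ⧸ p'.asIdeal.comap (algebraMap A B)) hcat (B ⧸ p'.asIdeal) QA QB
  rw [trdeg_eq_zero, trdeg_eq_zero, add_zero, add_zero] at key
  exact_mod_cast key


theorem depth_eq_top_of_subsingleton {R : Type u} [CommRing R] [IsLocalRing R] (N : Type u)
    [AddCommGroup N] [Module R N] [Subsingleton N] : LocCoh.depth R N = ⊤ := by
  unfold LocCoh.depth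
  exact Groth.Agent.Lib.Helper67.idealDepth_eq_top_of_smul_top_eq_top _ _ (Subsingleton.elim _ _)

/-- depth over `A_p` is at most the depth over `B_{p'}` for `p'` over `p`. -/
theorem depth_le_depth_of_comap {A B : Type u} [CommRing A] [CommRing B] [Algebra A B]
    [IsNoetherianRing A] [IsNoetherianRing B] (M : Type u) [AddCommGroup M] [Module B M]
    [Module A M] [IsScalarTower A B M] [Module.Finite A M] (p' : PrimeSpectrum B) :
    LocCoh.depth (Localization.AtPrime (p'.asIdeal.comap (algebraMap A B)))
        (LocalizedModule (p'.asIdeal.comap (algebraMap A B)).primeCompl M) ≤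
      LocCoh.depth (Localization.AtPrime p'.asIdeal) (LocalizedModule p'.asIdeal.primeCompl M) := by
  by_cases hsupp : p' ∈ Module.support B M
  · rw [(Groth.Agent.S2669.result A B M (p'.asIdeal.comap (algebraMap A B))).2]
    exact iInf₂_le p' ⟨rfl, hsupp⟩
  · rw [Module.notMem_support_iff] at hsupp
    rw [depth_eq_top_of_subsingleton (LocalizedModule p'.asIdeal.primeCompl M)]
    exact le_top

/-- when the depth over `A_p` is finite it is attained at some `p'` over `p`. -/
theorem exists_depth_le {A B : Type u} [CommRing A] [CommRing B] [Algebra A B]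
    [IsNoetherianRing A] [IsNoetherianRing B] (M : Type u) [AddCommGroup M] [Module B M]
    [Module A M] [IsScalarTower A B M] [Module.Finite A M] (p : Ideal A) [p.IsPrime]
    (htop : LocCoh.depth (Localization.AtPrime p) (LocalizedModule p.primeCompl M) ≠ ⊤) :
    ∃ p' : PrimeSpectrum B, p'.asIdeal.comap (algebraMap A B) = p ∧
      LocCoh.depth (Localization.AtPrime p'.asIdeal) (LocalizedModule p'.asIdeal.primeCompl M) ≤
        LocCoh.depth (Localization.AtPrime p) (LocalizedModule p.primeCompl M) := by
  have h := (Groth.Agent.S2669.result A B M p).2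
  have hlt : LocCoh.depth (Localization.AtPrime p) (LocalizedModule p.primeCompl M) <
      LocCoh.depth (Localization.AtPrime p) (LocalizedModule p.primeCompl M) + 1 :=
    (ENat.lt_add_one_iff htop).mpr le_rfl
  conv_lhs at hlt => rw [h]
  obtain ⟨p', hp'⟩ := iInf_lt_iff.mp hlt
  obtain ⟨hp'T, hp''⟩ := iInf_lt_iff.mp hp'
  exact ⟨p', hp'T.1, (ENat.lt_add_one_iff htop).mp hp''⟩

/-- Let A → B be a finite homomorphism of Noetherian rings with A universally catenary, I an ideal of A
and M a finite B-module. Then s_{B, IB}(M) = s_{A, I}(M), where M is regarded as an A-module by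
restriction of scalars. -/
theorem result (A B : Type u) [CommRing A] [CommRing B] [Algebra A B] [IsNoetherianRing A] [IsNoetherianRing B] [Module.Finite A B] (hA : CAlg.IsUniversallyCatenary A) (I : Ideal A) (M : Type u) [AddCommGroup M] [Module B M] [Module A M] [IsScalarTower A B M] [Module.Finite B M] : Dual2.cutoff B (I.map (algebraMap A B)) M = Dual2.cutoff A I M := by
  have hN : IsNoetherianRing A := hA.1
  have hfinAM : Module.Finite A M := Module.Finite.trans B M
  have hint : Algebra.IsIntegral A B := inferInstance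
  unfold Dual2.cutoff
  apply le_antisymm
  · refine le_iInf fun p => le_iInf fun q => le_iInf fun h => le_iInf fun h1 => le_iInf fun h2 => ?_
    by_cases htop : LocCoh.depth (Localization.AtPrime p.asIdeal)
        (LocalizedModule p.asIdeal.primeCompl M) = ⊤
    · rw [htop, top_add]
      exact le_top
    · obtain ⟨p', hp'p, hp'le⟩ := exists_depth_le (B := B) M p.asIdeal htop
      obtain ⟨Q, hQge, hQprime, hQq⟩ := Ideal.exists_ideal_over_prime_of_isIntegral_of_isPrime
        (R := A) (S := B) q.asIdeal p'.asIdeal (by rw [hp'p]; exact h)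
      let q' : PrimeSpectrum B := ⟨Q, hQprime⟩
      have h' : p' ≤ q' := hQge
      have h1' : ¬ I.map (algebraMap A B) ≤ p'.asIdeal := by
        intro hle
        apply h1
        rw [← hp'p]
        exact Ideal.map_le_iff_le_comap.mp hle
      have h2' : I.map (algebraMap A B) ≤ q'.asIdeal := by
        rw [Ideal.map_le_iff_le_comap]
        change I ≤ Q.comap (algebraMap A B)
        rw [hQq]
        exact h2
      refine iInf_le_of_le p' (iInf_le_of_le q' (iInf_le_of_le h' (iInf_le_of_le h1'
        (iInf_le_of_le h2' ?_))))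
      refine add_le_add hp'le (le_of_eq ?_)
      exact height_Ici_comap hA p' q' h' p q h (PrimeSpectrum.ext hp'p.symm)
        (PrimeSpectrum.ext hQq.symm)
  · refine le_iInf fun p' => le_iInf fun q' => le_iInf fun h' => le_iInf fun h1' =>
      le_iInf fun h2' => ?_
    have h : PrimeSpectrum.comap (algebraMap A B) p' ≤ PrimeSpectrum.comap (algebraMap A B) q' :=
      Ideal.comap_mono h'
    have h1 : ¬ I ≤ (PrimeSpectrum.comap (algebraMap A B) p').asIdeal := by
      intro hle
      exact h1' (Ideal.map_le_iff_le_comap.mpr hle)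
    have h2 : I ≤ (PrimeSpectrum.comap (algebraMap A B) q').asIdeal :=
      Ideal.map_le_iff_le_comap.mp h2'
    refine iInf_le_of_le (PrimeSpectrum.comap (algebraMap A B) p')
      (iInf_le_of_le (PrimeSpectrum.comap (algebraMap A B) q') (iInf_le_of_le h
        (iInf_le_of_le h1 (iInf_le_of_le h2 ?_))))
    refine add_le_add (depth_le_depth_of_comap (A := A) M p') (le_of_eq ?_)
    exact (height_Ici_comap hA p' q' h' _ _ h rfl rfl).symm

end Groth.Agent.S1726
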