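import Groth.Statements.S17266
import Mathlib.Tactic
-- import your own Groth.Agent.* helpers here

set_option autoImplicit false
open CategoryTheory
universe v u
open Stk

namespace Groth.Agent.S17266


section helpers

variable {C : Type u} [Category.{v} C]

/-- right whiskering of a based natural isomorphism -/
def wrIso {𝒜 ℬ 𝒟 : BasedCategory.{v, max u v} C} {F G : 𝒜 ⥤ᵇ ℬ} (α : F ≅ G) (H : ℬ ⥤ᵇ 𝒟) :
    BasedFunctor.comp F H ≅ BasedFunctor.comp G H :=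
  Bicategory.whiskerRightIso (B := BasedCategory.{v, max u v} C) (a := 𝒜) (b := ℬ) (c := 𝒟)
    (f := F) (g := G) α H

/-- left whiskering of a based natural isomorphism -/
def wlIso {𝒜 ℬ 𝒟 : BasedCategory.{v, max u v} C} (H : 𝒜 ⥤ᵇ ℬ) {F G : ℬ ⥤ᵇ 𝒟} (α : F ≅ G) :
    BasedFunctor.comp H F ≅ BasedFunctor.comp H G :=
  Bicategory.whiskerLeftIso (B := BasedCategory.{v, max u v} C) (a := 𝒜) (b := ℬ) (c := 𝒟)
    H (g := F) (h := G) α

/-- the based functor `C/V ⥤ C/U` given by composition with `h` -/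
abbrev mapB {U V : C} (h : V ⟶ U) : FibCat.overCat V ⥤ᵇ FibCat.overCat U :=
  ⟨Over.map h, Over.mapForget_eq h⟩

/-- composition of the `mapB` -/
def mapBComp {U V W : C} (k : W ⟶ V) (h : V ⟶ U) :
    BasedFunctor.comp (mapB k) (mapB h) ≅ mapB (k ≫ h) :=
  BasedNatIso.mkNatIso (Over.mapComp k h).symm (fun a => by
    apply IsHomLift.of_fac' _ _ _ rfl rfl
    change ((Over.mapComp k h).inv.app a).left = 𝟙 a.left ≫ 𝟙 a.left ≫ 𝟙 a.left
    simp)

end helpers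

/-- Let C be a category with a Grothendieck topology J and let F : 𝒳 → 𝒴, G : 𝒴 → 𝒵 be functors over C
between categories fibred in groupoids over C. Say that a functor H : 𝒜 → ℬ over C is covering when
for every object U of C and every functor b : C/U → ℬ over C there is a J-covering sieve of U such
that for each of its arrows h : V → U the composite of C/V → C/U with b is 2-isomorphic over C to H
∘ a for some functor a : C/V → 𝒜 over C (locally on the base every object of ℬ lifts to 𝒜 up to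
isomorphism). If F and G are covering, then the composite G ∘ F is covering. -/
theorem result {C : Type u} [Category.{v} C] (J : GrothendieckTopology C)
    {𝒳 𝒴 𝒵 : BasedCategory.{v, max u v} C}
    (h𝒳 : FibCat.IsFibGrpd 𝒳.p) (h𝒴 : FibCat.IsFibGrpd 𝒴.p) (h𝒵 : FibCat.IsFibGrpd 𝒵.p)
    (F : 𝒳 ⥤ᵇ 𝒴) (G : 𝒴 ⥤ᵇ 𝒵)
    (hF : (∀ (U : C) (y : FibCat.overCat U ⥤ᵇ 𝒴), ∃ R ∈ J U, ∀ ⦃V : C⦄ (h : V ⟶ U), R.arrows h →
        ∃ x : FibCat.overCat V ⥤ᵇ 𝒳,
          Nonempty (BasedFunctor.comp x F ≅ BasedFunctor.comp (⟨Over.map h, Over.mapForget_eq h⟩ : FibCat.overCat V ⥤ᵇ FibCat.overCat U) y)))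
    (hG : (∀ (U : C) (y : FibCat.overCat U ⥤ᵇ 𝒵), ∃ R ∈ J U, ∀ ⦃V : C⦄ (h : V ⟶ U), R.arrows h →
        ∃ x : FibCat.overCat V ⥤ᵇ 𝒴,
          Nonempty (BasedFunctor.comp x G ≅ BasedFunctor.comp (⟨Over.map h, Over.mapForget_eq h⟩ : FibCat.overCat V ⥤ᵇ FibCat.overCat U) y))) :
    (∀ (U : C) (y : FibCat.overCat U ⥤ᵇ 𝒵), ∃ R ∈ J U, ∀ ⦃V : C⦄ (h : V ⟶ U), R.arrows h →
        ∃ x : FibCat.overCat V ⥤ᵇ 𝒳,
          Nonempty (BasedFunctor.comp x (BasedFunctor.comp F G) ≅ BasedFunctor.comp (⟨Over.map h, Over.mapForget_eq h⟩ : FibCat.overCat V ⥤ᵇ FibCat.overCat U) y)) := by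
  intro U y
  obtain ⟨R, hR, hRy⟩ := hG U y
  choose x hx using hRy
  have hF' : ∀ ⦃V : C⦄ ⦃h : V ⟶ U⦄ (hh : R.arrows h), ∃ R' ∈ J V,
      ∀ ⦃W : C⦄ (k : W ⟶ V), R'.arrows k → ∃ w : FibCat.overCat W ⥤ᵇ 𝒳,
        Nonempty (BasedFunctor.comp w F ≅ BasedFunctor.comp (mapB k) (x h hh)) :=
    fun V h hh => hF V (x h hh)
  choose R' hR' hR'x using hF'
  refine ⟨Sieve.bind R.arrows (fun V h hh => R' hh),
    J.bind_covering hR (fun V h hh => hR' hh), ?_⟩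
  rintro W g ⟨V, k, h, hh, hk, rfl⟩
  obtain ⟨w, ⟨e1⟩⟩ := hR'x hh k hk
  obtain ⟨e2⟩ := hx h hh
  refine ⟨w, ⟨?_⟩⟩
  have α₁ : BasedFunctor.comp w (BasedFunctor.comp F G) ≅
      BasedFunctor.comp (mapB k) (BasedFunctor.comp (x h hh) G) := wrIso e1 G
  have α₂ : BasedFunctor.comp (mapB k) (BasedFunctor.comp (x h hh) G) ≅
      BasedFunctor.comp (mapB k) (BasedFunctor.comp (mapB h) y) := wlIso (mapB k) e2
  have α₃ : BasedFunctor.comp (mapB k) (BasedFunctor.comp (mapB h) y) ≅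
      BasedFunctor.comp (mapB (k ≫ h)) y := wrIso (mapBComp k h) y
  exact α₁ ≪≫ α₂ ≪≫ α₃

end Groth.Agent.S17266
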