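import Groth.Statements.S17271
import Groth.Agent.Lib.Helper17.DiagComp
import Groth.Agent.Lib.Helper17.DiagSections
import Groth.Agent.Lib.Helper38.DiagBaseChangeAlgSt

set_option autoImplicit false
open CategoryTheory CategoryTheory.Limits AlgebraicGeometry
universe u
open AlgSt

namespace Groth.Agent.S17271


open Groth.Agent.Lib.Helper17 in
theorem key {S : Scheme.{u}} {𝒳 𝒴 : AlgSt.Cat S} (P : MorphismProperty (AlgSp.Sp S)) (f : 𝒳 ⥤ᵇ 𝒴)
    (h : ∀ (T : Over S) (y : FibCat.overCat T ⥤ᵇ 𝒴),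
      AlgSt.RepByAlgSpWith P (FibCat.diag (FibCat.fpFst y f)))
    (U : Over S) (y' : FibCat.overCat U ⥤ᵇ FibCat.fp f f) :
    ∃ (F : AlgSp.Space S) (e : AlgSt.ofSp F.obj ⥤ᵇ FibCat.fp y' (FibCat.diag f)),
      FibCat.IsEquivOver e ∧
        P (AlgSt.spMapOfOver (BasedFunctor.comp e (FibCat.fpFst y' (FibCat.diag f)))) := by
  -- the base change `π : U ×_𝒴 𝒳 ⟶ U` and its two sections
  let y : FibCat.overCat U ⥤ᵇ 𝒴 := BasedFunctor.comp (DS.x1 f y') f
  let π : DS.A f y' ⥤ᵇ FibCat.overCat U := FibCat.fpFst y f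
  have hπ : AlgSt.RepByAlgSpWith P (FibCat.diag π) := h U y
  let d : FibCat.overCat U ⥤ᵇ MS.B (DS.s2 f y') π (DS.s1 f y') :=
    CMP.gr (BasedFunctor.id (FibCat.overCat U))
  have hd : FibCat.IsEquivOver d := CMP.gr_isEquivOver (BasedFunctor.id (FibCat.overCat U))
  have h0 := hπ U (BasedFunctor.comp d (MS.m (DS.s2 f y') π (DS.s1 f y')))
  have h1 := AT.transfer_fwd P (FI.fa d (MS.m (DS.s2 f y') π (DS.s1 f y')) (FibCat.diag π))
    (FI.fa_isEquivOver d (MS.m (DS.s2 f y') π (DS.s1 f y')) (FibCat.diag π) hd)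
    (FibCat.fpFst (BasedFunctor.comp d (MS.m (DS.s2 f y') π (DS.s1 f y'))) (FibCat.diag π))
    (BasedFunctor.comp (FibCat.fpFst (MS.m (DS.s2 f y') π (DS.s1 f y')) (FibCat.diag π))
      (FibCat.fpFst (BasedFunctor.comp (DS.s1 f y') π) (BasedFunctor.comp (DS.s2 f y') π)))
    rfl h0
  have h2 := AT.transfer_inv P (MS.M (DS.s2 f y') π (DS.s1 f y'))
    (MS.M_isEquivOver (DS.s2 f y') π (DS.s1 f y'))
    (FibCat.fpFst (DS.s1 f y') (DS.s2 f y')) _ (MS.M_fst (DS.s2 f y') π (DS.s1 f y')) h1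
  exact AT.transfer_inv P (DS.K f y') (DS.K_isEquivOver f y')
    (FibCat.fpFst y' (FibCat.diag f)) _ (DS.K_fst f y') h2

/-- Let S be a scheme, P a property of morphisms of algebraic spaces over S (fppf sheaves on (Sch/S)
with representable diagonal and an etale surjective map from a scheme) which is stable under base
change (along every pullback square of sheaves whose corners are algebraic spaces) and under
composition, and let 𝒳, 𝒴 be algebraic stacks over (Sch/S) for the etale topology (stacks in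
groupoids with diagonal representable by algebraic spaces and a smooth surjective presentation by a
scheme), with a functor f : 𝒳 → 𝒴 over (Sch/S). Then the diagonal 𝒳 → 𝒳 ×_𝒴 𝒳 of f is representable
by algebraic spaces and has property P if and only if for every scheme T over S and every functor y
: (Sch/T) → 𝒴 over (Sch/S) the diagonal of the base change (Sch/T) ×_𝒴 𝒳 → (Sch/T) (first projection
of the 2-fibre product) is representable by algebraic spaces and has property P. -/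
theorem result (S : Scheme.{u}) (𝒳 𝒴 : AlgSt.Cat S)
    (h𝒳 : AlgSt.IsAlgStack Scheme.etalePrecoverage 𝒳) (h𝒴 : AlgSt.IsAlgStack Scheme.etalePrecoverage 𝒴)
    (P : MorphismProperty (AlgSp.Sp S))
    (hPb : ∀ ⦃X₁ Y₁ X₂ Y₂ : AlgSp.Sp S⦄, AlgSp.IsAlgSpace X₁ → AlgSp.IsAlgSpace Y₁ → AlgSp.IsAlgSpace X₂ →
      AlgSp.IsAlgSpace Y₂ → ∀ (a : X₁ ⟶ Y₁) (b : Y₂ ⟶ Y₁) (a' : X₂ ⟶ Y₂) (b' : X₂ ⟶ X₁),
      IsPullback b' a' a b → P a → P a')
    (hPc : ∀ ⦃X Y Z : AlgSp.Sp S⦄, AlgSp.IsAlgSpace X → AlgSp.IsAlgSpace Y → AlgSp.IsAlgSpace Z →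
      ∀ (a : X ⟶ Y) (b : Y ⟶ Z), P a → P b → P (a ≫ b))
    (f : 𝒳 ⥤ᵇ 𝒴) :
    AlgSt.RepByAlgSpWith P (FibCat.diag f) ↔
      ∀ (T : Over S) (y : FibCat.overCat T ⥤ᵇ 𝒴), AlgSt.RepByAlgSpWith P (FibCat.diag (FibCat.fpFst y f)) := by
  constructor
  · intro h T y
    exact Groth.Agent.Lib.Helper38.DBCAlgSt.repByAlgSpWith_diag_fpFst h𝒳.isStack.1 h𝒴.isStack.1
      (Groth.Agent.Lib.Helper17.FG.isFibGrpd_overForget T) P f y h
  · intro h U y'
    exact key P f h U y'

end Groth.Agent.S17271
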