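import Groth.Statements.S1728

set_option autoImplicit false
universe u
open InjHull

namespace Groth.Agent.S1728

theorem result (R : Type u) [CommRing R] (I : Type u) [AddCommGroup I] [Module R I] [Module.Injective R I] (E : Submodule R I) : Module.Injective R E ↔ ∀ E' : Submodule R I, E ≤ E' → (∀ N : Submodule R I, N ≤ E' → N ≠ ⊥ → N ⊓ E ≠ ⊥) → E' = E := by
  constructor
  · intro hE E' hEE' hess
    obtain ⟨ρ, hρ⟩ := Module.Injective.extension_property R E E E' (Submodule.inclusion hEE')
      (Submodule.inclusion_injective hEE') LinearMap.id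
    have hρ' : ∀ e : E, ρ (Submodule.inclusion hEE' e) = e := fun e => LinearMap.congr_fun hρ e
    have hN : Submodule.map E'.subtype (LinearMap.ker ρ) = ⊥ := by
      by_contra hne
      apply hess _ (Submodule.map_subtype_le E' _) hne
      rw [Submodule.eq_bot_iff]
      rintro x ⟨⟨y, hy, rfl⟩, hxE⟩
      have h1 : y = Submodule.inclusion hEE' ⟨E'.subtype y, hxE⟩ := by
        apply Subtype.ext
        rfl
      have hy' : ρ y = 0 := hy
      rw [h1, hρ'] at hy'
      have := congr_arg Subtype.val hy'
      exact this
    have hker : LinearMap.ker ρ = ⊥ := by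
      rw [Submodule.eq_bot_iff]
      intro y hy
      have : E'.subtype y ∈ Submodule.map E'.subtype (LinearMap.ker ρ) := ⟨y, hy, rfl⟩
      rw [hN, Submodule.mem_bot] at this
      exact Subtype.ext this
    apply le_antisymm _ hEE'
    intro y hy
    have h2 : (⟨y, hy⟩ : E') - Submodule.inclusion hEE' (ρ ⟨y, hy⟩) ∈ LinearMap.ker ρ := by
      rw [LinearMap.mem_ker, map_sub, hρ', sub_self]
    rw [hker, Submodule.mem_bot, sub_eq_zero] at h2
    have h3 := congr_arg Subtype.val h2
    change y = ((ρ ⟨y, hy⟩ : E) : I) at h3
    rw [h3]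
    exact (ρ ⟨y, hy⟩).2
  · intro H
    obtain ⟨C, hC⟩ := zorn_le₀ {C : Submodule R I | Disjoint C E} (by
      intro c hc hchain
      refine ⟨sSup c, ?_, fun z hz => le_sSup hz⟩
      change Disjoint (sSup c) E
      rw [hchain.directedOn.disjoint_sSup_left]
      intro b hb
      exact hc hb)
    have hCE : Disjoint C E := hC.1
    have hmax : ∀ K : Submodule R I, Disjoint K E → C ≤ K → K = C :=
      fun K hK hCK => le_antisymm (hC.2 hK hCK) hCK
    have hinj : Function.Injective (C.mkQ ∘ₗ E.subtype) := by
      rw [← LinearMap.ker_eq_bot, Submodule.eq_bot_iff]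
      intro e he
      rw [LinearMap.mem_ker, LinearMap.comp_apply, Submodule.mkQ_apply,
        Submodule.Quotient.mk_eq_zero] at he
      have := (Submodule.disjoint_def.mp hCE) _ he e.2
      exact Subtype.ext this
    obtain ⟨φ, hφ⟩ := Module.Injective.extension_property R I E (I ⧸ C) (C.mkQ ∘ₗ E.subtype) hinj
      E.subtype
    have hφ' : ∀ e : I, e ∈ E → φ (C.mkQ e) = e := fun e he => LinearMap.congr_fun hφ ⟨e, he⟩
    let r : I →ₗ[R] I := φ ∘ₗ C.mkQ
    have hrC : ∀ x ∈ C, r x = 0 := by
      intro x hx
      change φ (C.mkQ x) = 0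
      rw [Submodule.mkQ_apply, (Submodule.Quotient.mk_eq_zero C).mpr hx, map_zero]
    have hE' : LinearMap.range r = E := by
      apply H
      · intro e he
        exact ⟨e, hφ' e he⟩
      · intro N hN hne hNE
        apply hne
        have hK : Submodule.comap r N = C := by
          apply hmax
          · rw [Submodule.disjoint_def]
            intro x hx hxE
            rw [Submodule.mem_comap] at hx
            have h1 : r x = x := hφ' x hxE
            rw [h1] at hx
            have : x ∈ N ⊓ E := ⟨hx, hxE⟩
            rw [hNE] at this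
            exact this
          · intro x hx
            rw [Submodule.mem_comap, hrC x hx]
            exact N.zero_mem
        rw [← Submodule.map_comap_eq_of_le hN, hK, Submodule.eq_bot_iff]
        rintro _ ⟨x, hx, rfl⟩
        exact hrC x hx
    have hrE : ∀ x, r x ∈ E := by
      intro x
      rw [← hE']
      exact ⟨x, rfl⟩
    let r' : I →ₗ[R] E := LinearMap.codRestrict E r hrE
    have hr' : ∀ e : E, r' (e : I) = e := by
      intro e
      apply Subtype.ext
      exact hφ' e e.2
    constructor
    intro X Y _ _ _ _ f hf g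
    obtain ⟨h, hh⟩ := Module.Injective.extension_property R I X Y f hf (E.subtype ∘ₗ g)
    refine ⟨r' ∘ₗ h, fun x => ?_⟩
    have := LinearMap.congr_fun hh x
    rw [LinearMap.comp_apply, LinearMap.comp_apply] at this
    rw [LinearMap.comp_apply, this]
    exact hr' (g x)

end Groth.Agent.S1728
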