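import Groth.Statements.S17287
import Groth.Agent.Lib.Helper73.DimFormula.GenericLocus

set_option linter.style.haveILetI false

set_option autoImplicit false
universe u
open CategoryTheory CategoryTheory.Limits AlgebraicGeometry TopologicalSpace
open Variety

namespace Groth.Agent.S17287

/-- Let f : Y → X be a surjective k-morphism of proper schemes over a field k and C ⊆ X an integral
closed subscheme of dimension one. Then there is an integral closed subscheme C' ⊆ Y of dimension
one with f(C') = C as closed subsets. (The source states this for proper algebraic spaces over k;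
this is the case of schemes.) -/
theorem result (k : Type u) [Field k] (X Y : Scheme.{u})
    [X.Over (Spec (CommRingCat.of k))] [IsProper (X ↘ (Spec (CommRingCat.of k)))] [Y.Over (Spec (CommRingCat.of k))] [IsProper (Y ↘ (Spec (CommRingCat.of k)))]
    (f : Y ⟶ X) (hf : f ≫ (X ↘ (Spec (CommRingCat.of k))) = Y ↘ (Spec (CommRingCat.of k))) [Surjective f]
    (C : X.IdealSheafData) [IsIntegral C.subscheme] (hC : topologicalKrullDim (C.support : Set X) = 1) :
    ∃ C' : Y.IdealSheafData, IsIntegral C'.subscheme ∧ topologicalKrullDim (C'.support : Set Y) = 1 ∧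
      f.base '' (C'.support : Set Y) = (C.support : Set X) := by
  classical
  have hlftX : LocallyOfFiniteType (X ↘ Spec (CommRingCat.of k)) := inferInstance
  have hlftY : LocallyOfFiniteType (Y ↘ Spec (CommRingCat.of k)) := inferInstance
  haveI hpf : IsProper f := by
    haveI : IsProper (f ≫ (X ↘ Spec (CommRingCat.of k))) := by rw [hf]; infer_instance
    exact IsProper.of_comp f (X ↘ Spec (CommRingCat.of k))
  -- generic point of `C`
  set ξ : X := C.subschemeι (genericPoint C.subscheme) with hξdef
  have hξ : closure ({ξ} : Set X) = (C.support : Set X) := by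
    rw [← C.range_subschemeι, hξdef, ← Set.image_singleton,
      (C.subschemeι.isClosedEmbedding).closure_image_eq, (genericPoint_spec C.subscheme).def,
      Set.image_univ]
  have hδX := Groth.Agent.Lib.Helper73.isDimFun_trdegNat (X ↘ Spec (CommRingCat.of k))
  have hδY := Groth.Agent.Lib.Helper73.isDimFun_trdegNat (Y ↘ Spec (CommRingCat.of k))
  have h1 : Groth.Agent.Lib.Helper73.trdegNat (X ↘ Spec (CommRingCat.of k)) ξ = 1 := by
    have h := hδX.topologicalKrullDim_closure_singleton ξ
    rw [hξ, hC] at h
    exact_mod_cast h.symm
  -- a closed point of the fibre over `ξ`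
  obtain ⟨x0, hx0⟩ := f.surjective ξ
  have hne : (Set.univ : Set (f.fiber ξ)).Nonempty :=
    ⟨(f.fiberHomeo ξ).symm ⟨x0, hx0⟩, trivial⟩
  obtain ⟨z, -, hz⟩ := IsClosed.exists_closed_singleton
    (isClosed_univ : IsClosed (Set.univ : Set (f.fiber ξ))) hne
  set y : Y := f.fiberι ξ z with hydef
  have hy : f y = ξ := by
    have : y ∈ Set.range (f.fiberι ξ) := ⟨z, rfl⟩
    rw [f.range_fiberι ξ] at this
    exact this
  have h2 : Groth.Agent.Lib.Helper73.trdegNat (k := X.residueField ξ)
      (f.fiberToSpecResidueField ξ) z = 0 :=
    Groth.Agent.Lib.Helper73.trdegNat_eq_zero_of_isClosed _ hz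
  have h3 := Groth.Agent.Lib.Helper73.trdegNat_fiber_eq_resTrdeg f ξ z
  rw [h2, Nat.cast_zero] at h3
  have h4 : Groth.Agent.Lib.Helper73.resTrdegNat f y = 0 := by
    unfold Groth.Agent.Lib.Helper73.resTrdegNat
    rw [hydef, ← h3]
    simp
  have h5 := Groth.Agent.Lib.Helper73.trdegNat_eq_add (Y ↘ Spec (CommRingCat.of k))
    (X ↘ Spec (CommRingCat.of k)) f hf y
  rw [hy, h1, h4] at h5
  -- the reduced closed subscheme on the closure of `y`
  let Z : TopologicalSpace.Closeds Y := ⟨closure {y}, isClosed_closure⟩
  set I := Scheme.IdealSheafData.vanishingIdeal Z with hI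
  have hsupp : (I.support : Set Y) = closure {y} := by
    rw [hI, Scheme.IdealSheafData.coe_support_vanishingIdeal]
    rfl
  refine ⟨I, ?_, ?_, ?_⟩
  · haveI hred : IsReduced I.subscheme := by
      have h1 : ∀ U : Y.affineOpens, IsReduced (Spec (.of (Γ(Y, U) ⧸ I.ideal U))) := by
        intro U
        rw [affine_isReduced_iff]
        change _root_.IsReduced (Γ(Y, U) ⧸ I.ideal U)
        rw [← Ideal.isRadical_iff_quotient_reduced, hI,
          Scheme.IdealSheafData.vanishingIdeal_ideal]
        exact PrimeSpectrum.isRadical_vanishingIdeal _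
      have : ∀ U, IsReduced (I.subschemeCover.openCover.X U) := fun U => h1 U
      exact IsReduced.of_openCover _ I.subschemeCover.openCover
    haveI hirr : IrreducibleSpace I.subscheme := by
      have hr : Set.range I.subschemeι = closure {y} := by rw [I.range_subschemeι, hsupp]
      have hirr' : IsIrreducible (Set.range I.subschemeι) := by
        rw [hr]; exact isIrreducible_singleton.closure
      haveI : IrreducibleSpace (Set.range I.subschemeι) := Subtype.irreducibleSpace hirr'
      let e : I.subscheme ≃ₜ Set.range I.subschemeι :=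
        I.subschemeι.isEmbedding.toHomeomorph
      have h0 : IsIrreducible (Set.univ : Set (Set.range I.subschemeι)) :=
        IrreducibleSpace.isIrreducible_univ _
      have h1 := h0.image e.symm e.symm.continuous.continuousOn
      rw [Set.image_univ, e.symm.surjective.range_eq] at h1
      exact (irreducibleSpace_def _).mpr h1
    exact isIntegral_of_irreducibleSpace_of_isReduced _
  · rw [hsupp]
    have h := hδY.topologicalKrullDim_closure_singleton y
    rw [h, h5]
    rfl
  · rw [hsupp, ← hξ]
    have h := (f.isClosedMap.closure_image_eq_of_continuous f.continuous {y}).symm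
    rw [Set.image_singleton, hy] at h
    exact h

end Groth.Agent.S17287
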