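import Groth.Statements.S17289
import Groth.Agent.Lib.Helper35.SymMap1
import Groth.Agent.Lib.Helper35.PbAmple
import Groth.Agent.Lib.Helper35.Ample1
import Groth.Agent.Lib.Helper21.QCohSections
import Groth.Agent.Lib.Helper2.RankSections
import Groth.Agent.S8258
import Groth.Agent.S8284

set_option autoImplicit false
universe u
open CategoryTheory CategoryTheory.Limits AlgebraicGeometry TopologicalSpace
open Variety

namespace Groth.Agent.S17289

/-- Suppose X is a proper scheme over a field k, and E, F are finite locally free O_X-modules with E → F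
surjective. Assume E is ample, meaning that the fundamental module O(1) of the projective bundle
P(E) = Proj(Sym E) → X is ample (for any relative-Proj data of the graded symmetric algebra of E
with its O(1)); then F is ample in the same sense. (The source states this for proper algebraic
spaces over k, together with the analogous assertion for nef modules; this is the ample assertion in
the case of schemes.) -/
theorem result (k : Type u) [Field k] (X : Scheme.{u})
    [X.Over (Spec (CommRingCat.of k))] [IsProper (X ↘ (Spec (CommRingCat.of k)))] (E F : X.Modules)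
    (hE : FlatMod.IsFinLocFree E) (hF : FlatMod.IsFinLocFree F) (φ : E ⟶ F) [Epi φ]
    (hample : ∀ (𝒮 : RelProj.QCGrAlg X) (j : E ⟶ 𝒮.toModule) (P : Scheme.{u}) (p : P ⟶ X)
        (chart : ∀ (U : X.Opens) (hU : IsAffineOpen U),
          (((p ⁻¹ᵁ U : P.Opens) : Scheme.{u}) ≅ Proj (𝒮.deg U hU)))
        (O1 : P.Modules)
        (lam : ∀ (U : X.Opens) (hU : IsAffineOpen U),
          O1 ⟶ (Scheme.Modules.pushforward (RelProj.emb p chart U hU)).obj (GrTwist.twist (𝒮.deg U hU) 1)),
        RelProj.IsGrSymAlg E 𝒮 j → RelProj.IsRelProj 𝒮 p chart → RelProj.IsRelTwist 𝒮 p chart 1 O1 lam →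
        CohB1.IsAmple O1) :
    ∀ (𝒮 : RelProj.QCGrAlg X) (j : F ⟶ 𝒮.toModule) (P : Scheme.{u}) (p : P ⟶ X)
      (chart : ∀ (U : X.Opens) (hU : IsAffineOpen U),
        (((p ⁻¹ᵁ U : P.Opens) : Scheme.{u}) ≅ Proj (𝒮.deg U hU)))
      (O1 : P.Modules)
      (lam : ∀ (U : X.Opens) (hU : IsAffineOpen U),
        O1 ⟶ (Scheme.Modules.pushforward (RelProj.emb p chart U hU)).obj (GrTwist.twist (𝒮.deg U hU) 1)),
      RelProj.IsGrSymAlg F 𝒮 j → RelProj.IsRelProj 𝒮 p chart → RelProj.IsRelTwist 𝒮 p chart 1 O1 lam →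
      CohB1.IsAmple O1 := by
  intro 𝒮F jF P p chart O1 lam hjF hP hO1
  open scoped Groth.Agent.Lib.Helper74.SymQ in
  haveI : E.IsQuasicoherent :=
    Groth.Agent.Lib.Helper2.RankSections.isQuasicoherent_of_isFinLocFree E hE
  haveI : F.IsQuasicoherent :=
    Groth.Agent.Lib.Helper2.RankSections.isQuasicoherent_of_isFinLocFree F hF
  have hA := Groth.Agent.Lib.Helper74.SymQ.isSymAlg_symAlg E
  have hjE := Groth.Agent.Lib.Helper35.GS.isGrSymAlg_grSym _ _ hA
  obtain ⟨PE, pE, chartE, hPE⟩ := Groth.Agent.S8258.result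
    (Groth.Agent.Lib.Helper35.GS.grSym _ _ hA)
  obtain ⟨O1E, lamE, hO1E⟩ := Groth.Agent.S8284.result _ pE chartE hPE 1
  have hampE := hample _ _ PE pE chartE O1E lamE hjE hPE hO1E
  obtain ⟨θ, hθ, -⟩ := hA 𝒮F.toQCAlg (φ ≫ jF)
  have hm : ∀ (U : X.Opens) (hU : IsAffineOpen U) (x : Γ(E, U)),
      ((φ ≫ jF).app U).hom x ∈ 𝒮F.deg U hU 1 := fun U hU x => hjF.2 U hU _
  have hgr := Groth.Agent.Lib.Helper35.SymMap.isGradedHom hA (φ ≫ jF) hm θ hθ
  have hs : ∀ (U : X.Opens) (_ : IsAffineOpen U),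
      Function.Surjective (θ.hom.app (Opposite.op U)).hom := by
    intro U hU
    have hsym := Groth.Agent.Lib.Helper74.SymQ.isSymmetricAlgebra_of_isSymAlg hjF.1 U hU
    intro x
    change x ∈ (θ.hom.app (Opposite.op U)).hom.range
    induction x using hsym.induction with
    | algebraMap r =>
      exact ⟨algebraMap _ _ r, Groth.Agent.Lib.Helper74.SymQ.hom_algebraMap θ U r⟩
    | ι f =>
      obtain ⟨e, rfl⟩ :=
        Groth.Agent.Lib.Helper21.QCohSections.app_surjective_of_epi φ hU f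
      exact ⟨Groth.Agent.Lib.Helper74.SymQ.jLin _ U e,
        Groth.Agent.Lib.Helper35.SymMap.theta_j (φ ≫ jF) θ hθ U e⟩
    | mul a b ha hb => exact Subring.mul_mem _ ha hb
    | add a b ha hb => exact Subring.add_mem _ ha hb
  have hpos : ∀ (U : X.Opens) (hU : IsAffineOpen U) (n : ℕ), 0 < n → ∀ b ∈ 𝒮F.deg U hU n,
      ∃ a ∈ (Groth.Agent.Lib.Helper35.GS.grSym _ _ hA).deg U hU n,
        (θ.hom.app (Opposite.op U)).hom a = b := fun U hU =>
    Groth.Agent.Lib.Helper35.PBiprod.surj_graded_of_surjective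
      (RelProj.gradedHomAt (𝒜 := Groth.Agent.Lib.Helper35.GS.grSym _ _ hA) (ℬ := 𝒮F) θ hgr U hU)
      (hs U hU)
  obtain ⟨h, hcl, -, ⟨iso⟩⟩ :=
    Groth.Agent.Lib.Helper35.SymMap.exists_closedImmersion_of_pos θ hgr hpos
      (Groth.Agent.Lib.Helper35.RVA.isGenDegOne_of_isGrSymAlg ‹E.IsQuasicoherent› hjE) 1
      hPE hP hO1E hO1
  exact Groth.Agent.Lib.Helper35.Ample.isAmple_of_iso iso
    (Groth.Agent.Lib.Helper35.PbInv.isAmple_pullback_of_isAffineHom h hampE)

end Groth.Agent.S17289
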