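import Groth.Statements.S1729
import Mathlib.RingTheory.TensorProduct.Free
import Mathlib.RingTheory.LocalRing.Module

set_option autoImplicit false
universe u
open Dual2

namespace Groth.Agent.S1729

theorem result (R : Type u) [CommRing R] [IsLocalRing R] (M : Type u) [AddCommGroup M] [Module R M] [Module.Finite R M] : ∃ (P : Type u) (_ : AddCommGroup P) (_ : Module R P) (f : P →ₗ[R] M), Dual2.IsProjectiveCover f := by
  classical
  let k := IsLocalRing.ResidueField R
  let w := Module.Free.chooseBasis k (TensorProduct R k M)
  obtain ⟨v, hv⟩ := (TensorProduct.mk_surjective R M k Ideal.Quotient.mk_surjective).comp_left w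
  have hv' : ∀ i, (1 : k) ⊗ₜ[R] v i = w i := fun i => congr_fun hv i
  let ι := Module.Free.ChooseBasisIndex k (TensorProduct R k M)
  let f : (ι →₀ R) →ₗ[R] M := Finsupp.linearCombination R v
  have hsurj : Function.Surjective f := by
    rw [← LinearMap.range_eq_top, Finsupp.range_linearCombination]
    exact IsLocalRing.span_eq_top_of_tmul_eq_basis v w hv'
  refine ⟨ι →₀ R, inferInstance, inferInstance, f, ⟨inferInstance, hsurj, ?_⟩⟩
  intro N hN
  rw [← IsLocalRing.map_tensorProduct_mk_eq_top]
  let b1 : Module.Basis ι k (TensorProduct R k (ι →₀ R)) :=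
    Algebra.TensorProduct.basis k (Finsupp.basisSingleOne (R := R) (ι := ι))
  let F : TensorProduct R k (ι →₀ R) →ₗ[k] TensorProduct R k M := f.baseChange k
  have hF : F = (b1.equiv w (Equiv.refl ι)).toLinearMap := by
    apply b1.ext
    intro i
    rw [LinearEquiv.coe_coe, Module.Basis.equiv_apply, Equiv.refl_apply]
    simp [F, b1, f, hv', Algebra.TensorProduct.basis_apply]
  have hFinj : Function.Injective (f.lTensor k) := by
    have : Function.Injective F := by
      rw [hF]
      exact (b1.equiv w (Equiv.refl ι)).injective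
    exact this
  apply Submodule.map_injective_of_injective hFinj
  rw [← Submodule.map_comp]
  have hcomp : (f.lTensor k) ∘ₗ (TensorProduct.mk R k (ι →₀ R) 1) =
      (TensorProduct.mk R k M 1) ∘ₗ f := by
    ext x
    simp
  rw [hcomp, Submodule.map_comp, hN, Submodule.map_top, Submodule.map_top, LinearMap.range_eq_top.mpr
    (TensorProduct.mk_surjective R M k Ideal.Quotient.mk_surjective)]
  rw [eq_comm, LinearMap.range_eq_top]
  intro y
  obtain ⟨z, rfl⟩ : ∃ z, F z = y := by
    rw [hF]
    exact (b1.equiv w (Equiv.refl ι)).surjective y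
  exact ⟨z, rfl⟩

end Groth.Agent.S1729
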