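import Groth.Statements.S17308
import Mathlib.Tactic
import Groth.Agent.Lib.Helper43.LCICancel
-- import your own Groth.Agent.* helpers here

set_option autoImplicit false
universe u
open CurvSt

namespace Groth.Agent.S17308

open CategoryTheory AlgebraicGeometry in
/-- Let X be a proper scheme of dimension at most 1 over a field k with structure morphism p, and Spec k
→ S a point of the base. The classifying object of X in the stack of curves over S lies in the local
complete intersection open substack — by definition: the morphism of sheaves h_X → h_{Spec k}
induced by p is a Koszul morphism etale locally on every chart diagram — if and only if X is a local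
complete intersection over k, i.e. p is Koszul at every point of X (near each point, locally of
finite type and a Koszul-regular immersion into a scheme smooth over k). -/
theorem result (S : Scheme.{u}) (k : Type u) [Field k] (t : Spec (CommRingCat.of k) ⟶ S)
    (X : Scheme.{u}) (p : X ⟶ Spec (CommRingCat.of k)) [IsProper p] (hdim : topologicalKrullDim ↥X ≤ 1) :
    AlgSp.IsLCIMor ((AlgSp.yon S).map (Over.homMk p rfl : Over.mk (p ≫ t) ⟶ Over.mk t)) ↔ ∀ x : ↥X, Synt.IsKoszulAt p x := by
  constructor
  · intro h
    exact AlgSp.locP_yon_map h
  · intro hp U V a b h ha hb hcomm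
    obtain ⟨a', rfl⟩ := (AlgSp.yon S).map_surjective a
    obtain ⟨b', rfl⟩ := (AlgSp.yon S).map_surjective b
    have ha' : Etale a'.left := (AlgSp.repWith_yon_map_iff _ _).1 ha
    have hb' : Etale b'.left := (AlgSp.repWith_yon_map_iff _ _).1 hb
    rw [← Functor.map_comp, ← Functor.map_comp] at hcomm
    have hcomm' := (AlgSp.yon S).map_injective hcomm
    have hleft : a'.left ≫ p = h.left ≫ b'.left := by
      have := congrArg (fun f => f.left) hcomm'
      simpa using this
    change ∀ x, Synt.IsKoszulAt h.left x
    haveI : Smooth a'.left := inferInstance
    haveI : Smooth b'.left := inferInstance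
    apply Groth.Agent.Lib.Helper43.LCICancel.isKoszulAt_of_comp_smooth h.left b'.left
    rw [← hleft]
    exact Groth.Agent.Lib.Helper43.KoszulAtLCI.isKoszulAt_comp a'.left p
      (Groth.Agent.Lib.Helper43.LCICancel.isKoszulAt_of_smooth a'.left) hp

end Groth.Agent.S17308
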