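import Groth.Statements.S17310
import Mathlib
import Groth.Agent.Lib.Helper51.CurvStField
import Groth.Agent.Lib.Helper51.GeomRed
import Groth.Agent.Lib.Helper51.Tower
import Groth.Agent.Lib.Helper22.GenStrDim

set_option autoImplicit false
universe u
open CurvSt

namespace Groth.Agent.S17310

open CategoryTheory AlgebraicGeometry in
/-- Let X be a proper scheme of dimension at most 1 over a field k with structure morphism p, and Spec k
→ S a point of the base. The classifying object of X in the stack of curves over S lies in the open
substack of curves with geometrically reduced, connected fibres of dimension 1 — by definition: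
every geometric fibre of h_X → h_{Spec k}, realised as a scheme over an algebraically closed field
through a cartesian square of sheaves, is reduced, connected and of Krull dimension 1 — if and only
if X is geometrically reduced and geometrically connected over k and has Krull dimension 1. -/
theorem result (S : Scheme.{u}) (k : Type u) [Field k] (t : Spec (CommRingCat.of k) ⟶ S)
    (X : Scheme.{u}) (p : X ⟶ Spec (CommRingCat.of k)) [IsProper p] (hdim : topologicalKrullDim ↥X ≤ 1) :
    CurvSt.GeomFib (fun _ _ _ X' _ _ => IsReduced X' ∧ ConnectedSpace ↥X' ∧ topologicalKrullDim ↥X' = 1) ((CurvSt.toSpFam S 0).obj ⟨Over.mk t, X, p, Fin.elim0, fun i => i.elim0⟩) ↔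
      GeometricallyReduced p ∧ GeometricallyConnected p ∧ topologicalKrullDim ↥X = 1 := by
  rw [Groth.Agent.Lib.Helper51.geomFib_toSpFam_iff]
  constructor
  · intro H
    have H0 := H (AlgebraicClosure k) _ _ _ _
      (IsPullback.of_hasPullback p (Spec.map (CommRingCat.ofHom
        (algebraMap k (AlgebraicClosure k))))) Fin.elim0
    refine ⟨?_, ?_, ?_⟩
    · haveI : IsReduced (Limits.pullback p (Spec.map (CommRingCat.ofHom
          (algebraMap k (AlgebraicClosure k))))) := H0.1
      haveI := Groth.Agent.Lib.Helper51.geometricallyReduced_of_perfectField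
        (Limits.pullback.snd p (Spec.map (CommRingCat.ofHom (algebraMap k (AlgebraicClosure k)))))
      exact Groth.Agent.Lib.Helper51.geometricallyReduced_of_isPullback p
        (Limits.pullback.snd p (Spec.map (CommRingCat.ofHom (algebraMap k (AlgebraicClosure k)))))
        (Limits.pullback.fst p (Spec.map (CommRingCat.ofHom (algebraMap k (AlgebraicClosure k)))))
        (IsPullback.of_hasPullback _ _)
    · refine ⟨geometrically_iff_of_commRing_of_isClosedUnderIsomorphisms.mpr fun K _ _ => ?_⟩
      haveI : ConnectedSpace ↥(Limits.pullback p (Spec.map (CommRingCat.ofHom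
          (algebraMap k (AlgebraicClosure K))))) :=
        (H (AlgebraicClosure K) _ _ _ _ (IsPullback.of_hasPullback _ _) Fin.elim0).2.1
      exact (Groth.Agent.Lib.Helper51.surjective_bcMap p K (AlgebraicClosure K)).connectedSpace
        (Groth.Agent.Lib.Helper51.bcMap p K (AlgebraicClosure K)).continuous
    · rw [← H0.2.2]
      exact (Groth.Agent.Lib.Helper22.GenStr.topologicalKrullDim_eq_of_isPullback_subsingleton p
        (Limits.pullback.snd p (Spec.map (CommRingCat.ofHom (algebraMap k (AlgebraicClosure k)))))
        (Limits.pullback.fst p (Spec.map (CommRingCat.ofHom (algebraMap k (AlgebraicClosure k)))))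
        (Spec.map (CommRingCat.ofHom (algebraMap k (AlgebraicClosure k))))
        (IsPullback.of_hasPullback _ _)).symm
  · rintro ⟨h1, h2, h3⟩ Ω _ _ s X' q i₀ sq m
    refine ⟨GeometricallyReduced.geometrically_isReduced _ _ _ sq,
      GeometricallyConnected.geometrically_connectedSpace _ _ _ sq, ?_⟩
    rw [← h3]
    exact Groth.Agent.Lib.Helper22.GenStr.topologicalKrullDim_eq_of_isPullback_subsingleton p q i₀ s sq

end Groth.Agent.S17310
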