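import Groth.Statements.S17311
import Mathlib
import Groth.Agent.Lib.Helper51.CurvStField
import Groth.Agent.Lib.Helper51.SmoothLocus
import Groth.Agent.Lib.Helper51.GeomConn

set_option autoImplicit false
universe u
open CurvSt

namespace Groth.Agent.S17311

open CategoryTheory AlgebraicGeometry in
/-- Let X be a proper scheme of dimension at most 1 over a field k with structure morphism p, and Spec k
→ S a point of the base. The classifying object of X in the stack of curves over S lies in the open
substack of curves with isolated singularities — by definition: every geometric fibre of h_X →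
h_{Spec k}, realised as a scheme over an algebraically closed field Ω through a cartesian square of
sheaves, is smooth over Ω outside a finite set of points — if and only if p : X → Spec k is smooth
outside a finite set of points of X. -/
theorem result (S : Scheme.{u}) (k : Type u) [Field k] (t : Spec (CommRingCat.of k) ⟶ S)
    (X : Scheme.{u}) (p : X ⟶ Spec (CommRingCat.of k)) [IsProper p] (hdim : topologicalKrullDim ↥X ≤ 1) :
    CurvSt.GeomFib (fun _ _ _ X' q _ => Set.Finite {x : ↥X' | ¬ ∃ U : X'.Opens, x ∈ U ∧ Smooth (U.ι ≫ q)}) ((CurvSt.toSpFam S 0).obj ⟨Over.mk t, X, p, Fin.elim0, fun i => i.elim0⟩) ↔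
      Set.Finite {x : ↥X | ¬ ∃ U : X.Opens, x ∈ U ∧ Smooth (U.ι ≫ p)} := by
  rw [Groth.Agent.Lib.Helper51.geomFib_toSpFam_iff]
  constructor
  · intro H
    have H0 := H (AlgebraicClosure k) _ _ _ _
      (IsPullback.of_hasPullback p (Spec.map (CommRingCat.ofHom
        (algebraMap k (AlgebraicClosure k))))) Fin.elim0
    haveI : Surjective (Spec.map (CommRingCat.ofHom (algebraMap k (AlgebraicClosure k)))) := by
      constructor
      intro y
      exact ⟨default, Subsingleton.elim _ _⟩
    haveI : Flat (Spec.map (CommRingCat.ofHom (algebraMap k (AlgebraicClosure k)))) := by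
      rw [Flat.SpecMap_iff]
      exact (RingHom.flat_algebraMap_iff (R := k) (S := AlgebraicClosure k)).mpr inferInstance
    have hsub := Groth.Agent.Lib.Helper51.nonSmoothLocus_subset_image
      (IsPullback.of_hasPullback p (Spec.map (CommRingCat.ofHom
        (algebraMap k (AlgebraicClosure k)))))
      (Groth.Agent.Lib.Helper51.isClosedMap_pullback_fst_of_isIntegral p (AlgebraicClosure k))
    exact (Set.Finite.image _ H0).subset hsub
  · intro hfin Ω _ _ s X' q i₀ sq m
    haveI : JacobsonSpace ↥X := LocallyOfFiniteType.jacobsonSpace p
    have hcl := Groth.Agent.Lib.Helper51.subset_closedPoints_of_finite_of_isClosed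
      (Groth.Agent.Lib.Helper51.isClosed_nonSmoothLocus p) hfin
    refine Set.Finite.subset ?_ (Groth.Agent.Lib.Helper51.nonSmoothLocus_subset_preimage sq)
    exact Set.Finite.preimage' hfin fun x hx =>
      Groth.Agent.Lib.Helper51.finite_preimage_singleton_of_isClosed sq x (hcl hx)

end Groth.Agent.S17311
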