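import Groth.Statements.S17321
import Mathlib
import Groth.Agent.Lib.Helper31.FinAlgClosed

set_option autoImplicit false
universe u v
open CAlg

namespace Groth.Agent.S17321

/-- Let k be an algebraically closed field and A a commutative k-algebra which is finite-dimensional as
a k-vector space (the coordinate ring of a finite k-scheme). Then the space Der(A) of k-derivations
A → A is zero if and only if A is reduced. -/
theorem result (k : Type u) [Field k] [IsAlgClosed k]
    (A : Type v) [CommRing A] [Algebra k A] [Module.Finite k A] :
    Subsingleton (Derivation k A A) ↔ IsReduced A := by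
  classical
  constructor
  · intro hsub
    by_contra hred
    obtain ⟨D, hD⟩ := Groth.Agent.Lib.Helper31.exists_derivation_ne_zero k A hred
    exact hD (Subsingleton.elim D 0)
  · intro hred
    obtain ⟨ι, hι, ⟨e⟩⟩ := Groth.Agent.Lib.Helper31.exists_algEquiv_pi k A
    have : Fintype ι := Fintype.ofFinite ι
    have hzero : ∀ D : Derivation k A A, D = 0 := by
      intro D
      ext a
      have hidem : ∀ i : ι, D (e.symm (Pi.single i (1 : k))) = 0 := by
        intro i
        apply Groth.Agent.Lib.Helper31.derivation_idem_eq_zero
        rw [← map_mul, ← Pi.single_mul, one_mul]
      have ha : a = ∑ i : ι, (e a i) • e.symm (Pi.single i (1 : k)) := by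
        apply e.injective
        rw [map_sum]
        simp only [map_smul, AlgEquiv.apply_symm_apply]
        funext j
        rw [Finset.sum_apply]
        simp only [Pi.smul_apply, smul_eq_mul]
        rw [Finset.sum_eq_single j]
        · simp
        · intro i _ hij
          rw [Pi.single_eq_of_ne hij.symm, mul_zero]
        · intro h
          exact absurd (Finset.mem_univ j) h
      have hDa : D a = 0 := by
        rw [ha, map_sum]
        refine Finset.sum_eq_zero (fun i _ => ?_)
        rw [D.map_smul, hidem, smul_zero]
      rw [hDa]
      rfl
    exact ⟨fun D D' => by rw [hzero D, hzero D']⟩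

end Groth.Agent.S17321
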