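import Groth.Statements.S17322
import Mathlib

set_option autoImplicit false
universe u v w
open Hopf

namespace Groth.Agent.S17322

namespace Aux
open TensorProduct Polynomial

section BC
variable {k : Type u} [Field k] {A : Type v} [CommRing A] [Algebra k A] [Module.Finite k A]
  {R : Type w} [CommRing R] [Algebra k R] {S : Type*} [CommRing S] [Algebra k S]

/-- coordinates commute with base change of coefficients. -/
lemma repr_map {ι : Type*} [Fintype ι] [DecidableEq ι] (b : Module.Basis ι k A) (φ : R →ₐ[k] S)
    (w : R ⊗[k] A) (i : ι) :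
    (Algebra.TensorProduct.basis S b).repr (Algebra.TensorProduct.map φ (AlgHom.id k A) w) i =
      φ ((Algebra.TensorProduct.basis R b).repr w i) := by
  induction w using TensorProduct.induction_on with
  | zero => simp
  | tmul x a => simp [Algebra.TensorProduct.basis_repr_tmul]
  | add x y hx hy => simp only [map_add, Finsupp.add_apply, hx, hy]

lemma charpoly_map_tensor (φ : R →ₐ[k] S) (z : R ⊗[k] A) :
    (Algebra.lmul S (S ⊗[k] A) (Algebra.TensorProduct.map φ (AlgHom.id k A) z)).charpoly =
      ((Algebra.lmul R (R ⊗[k] A) z).charpoly).map (φ : R →+* S) := by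
  classical
  let b := Module.finBasis k A
  rw [← LinearMap.charpoly_toMatrix _ (Algebra.TensorProduct.basis S b),
    ← LinearMap.charpoly_toMatrix _ (Algebra.TensorProduct.basis R b), ← Matrix.charpoly_map]
  congr 1
  ext i j
  simp only [LinearMap.toMatrix_apply, Matrix.map_apply]
  refine Eq.trans ?_ (repr_map b φ _ i)
  congr 2
  simp [Algebra.TensorProduct.basis_apply]

end BC

section Theta
variable {k : Type u} [Field k] {A : Type v} [CommRing A] [HopfAlgebra k A]
  {S : Type*} [CommRing S] [Algebra k S]

open WithConv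

/-- `b ↦ Σ L(b₁) ⊗ b₂` -/
noncomputable def gL (L : A →ₐ[k] S) : A →ₐ[k] S ⊗[k] A :=
  (Algebra.TensorProduct.map L (AlgHom.id k A)).comp (Bialgebra.comulAlgHom k A)

/-- translation by the `S`-point `L`: `s ⊗ b ↦ Σ s L(b₁) ⊗ b₂`. -/
noncomputable def theta (L : A →ₐ[k] S) : S ⊗[k] A →ₐ[S] S ⊗[k] A :=
  Algebra.TensorProduct.lift (Algebra.ofId S (S ⊗[k] A)) (gL L) (fun _ _ => Commute.all _ _)

lemma inv_mul_conv (L : A →ₐ[k] S) :
    toConv (L.comp (HopfAlgebra.antipodeAlgHom k A)) * toConv L = 1 := by
  have h := AlgHom.comp_convMul_distrib L (toConv (HopfAlgebra.antipodeAlgHom k A)) (toConv (AlgHom.id k A))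
  rw [AlgHom.antipode_id_cancel] at h
  simp only [AlgHom.comp_id] at h
  apply WithConv.ofConv_injective
  rw [← h]
  ext b
  simp [AlgHom.convOne_def]

lemma gL_eq (L : A →ₐ[k] S) :
    gL L = ofConv (toConv ((Algebra.TensorProduct.includeLeft : S →ₐ[k] S ⊗[k] A).comp L) *
      toConv (Algebra.TensorProduct.includeRight : A →ₐ[k] S ⊗[k] A)) := by
  ext b
  rw [AlgHom.convMul_apply]
  simp only [gL, AlgHom.comp_apply, Bialgebra.comulAlgHom_apply]
  have : Algebra.TensorProduct.map L (AlgHom.id k A) =
      Algebra.TensorProduct.lift ((Algebra.TensorProduct.includeLeft : S →ₐ[k] S ⊗[k] A).comp L)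
        (Algebra.TensorProduct.includeRight : A →ₐ[k] S ⊗[k] A) (fun _ _ => Commute.all _ _) := by
    ext <;> simp
  exact DFunLike.congr_fun this _

lemma theta_gL (L L' : A →ₐ[k] S) (b : A) :
    theta L (gL L' b) =
      (toConv ((Algebra.TensorProduct.includeLeft : S →ₐ[k] S ⊗[k] A).comp L') * toConv (gL L)) b := by
  have h1 : ((theta L).restrictScalars k).comp (Algebra.TensorProduct.map L' (AlgHom.id k A)) =
      Algebra.TensorProduct.lift ((Algebra.TensorProduct.includeLeft : S →ₐ[k] S ⊗[k] A).comp L')
        (gL L) (fun _ _ => Commute.all _ _) := by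
    ext x
    · simp [theta]
    · simp [theta, ← Algebra.TensorProduct.one_def]
  rw [AlgHom.convMul_apply, ← h1]
  simp [gL]

lemma theta_gL_antipode (L : A →ₐ[k] S) (b : A) :
    theta L (gL (L.comp (HopfAlgebra.antipodeAlgHom k A)) b) = 1 ⊗ₜ b := by
  rw [theta_gL, gL_eq, toConv_ofConv, ← mul_assoc]
  have : toConv ((Algebra.TensorProduct.includeLeft : S →ₐ[k] S ⊗[k] A).comp
      (L.comp (HopfAlgebra.antipodeAlgHom k A))) *
      toConv ((Algebra.TensorProduct.includeLeft : S →ₐ[k] S ⊗[k] A).comp L) = 1 :=
    inv_mul_conv ((Algebra.TensorProduct.includeLeft : S →ₐ[k] S ⊗[k] A).comp L)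
  rw [this, one_mul]
  simp

lemma theta_surjective (L : A →ₐ[k] S) : Function.Surjective (theta L) := by
  have h : (theta L).comp (theta (L.comp (HopfAlgebra.antipodeAlgHom k A))) =
      AlgHom.id S (S ⊗[k] A) := by
    ext b
    have h1 : theta (L.comp (HopfAlgebra.antipodeAlgHom k A)) ((1 : S) ⊗ₜ[k] b) =
        gL (L.comp (HopfAlgebra.antipodeAlgHom k A)) b := by
      simp [theta, ← Algebra.TensorProduct.one_def]
    change theta L (theta (L.comp (HopfAlgebra.antipodeAlgHom k A)) ((1 : S) ⊗ₜ[k] b)) = 1 ⊗ₜ b
    rw [h1, theta_gL_antipode]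
  intro x
  exact ⟨_, DFunLike.congr_fun h x⟩

lemma theta_bijective [Module.Finite k A] (L : A →ₐ[k] S) : Function.Bijective (theta L) :=
  ⟨OrzechProperty.injective_of_surjective_endomorphism (theta L).toLinearMap (theta_surjective L),
    theta_surjective L⟩

end Theta

section Main
variable (k : Type u) [Field k] (A : Type v) [CommRing A] [HopfAlgebra k A] [Module.Finite k A]
  (R : Type w) [CommRing R] [Algebra k R] [HopfRep.Comod k A R] [GLin.IsCoactAlg k A R]

omit [Module.Finite k A] in
lemma theta_incl (w : R ⊗[k] A) :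
    theta (Algebra.TensorProduct.includeRight : A →ₐ[k] R ⊗[k] A)
      (Algebra.TensorProduct.map (Algebra.TensorProduct.includeLeft : R →ₐ[k] R ⊗[k] A) (AlgHom.id k A) w) =
    (TensorProduct.assoc k R A A).symm ((CoalgebraStruct.comul (R := k) (A := A)).lTensor R w) := by
  induction w using TensorProduct.induction_on with
  | zero => simp
  | tmul x b =>
    simp only [Algebra.TensorProduct.map_tmul, AlgHom.id_apply, LinearMap.lTensor_tmul, theta,
      Algebra.TensorProduct.lift_tmul, gL, AlgHom.comp_apply, Bialgebra.comulAlgHom_apply,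
      Algebra.TensorProduct.includeLeft_apply, Algebra.ofId_apply,
      Algebra.TensorProduct.algebraMap_apply, Algebra.algebraMap_self, RingHom.id_apply]
    generalize (CoalgebraStruct.comul (R := k) b) = t
    induction t using TensorProduct.induction_on with
    | zero => simp
    | tmul c d => simp
    | add t1 t2 h1 h2 => simp only [map_add, mul_add, tmul_add, h1, h2]
  | add x y hx hy => simp only [map_add, hx, hy]

omit [Module.Finite k A] in
lemma theta_coact (r : R) :
    theta (Algebra.TensorProduct.includeRight : A →ₐ[k] R ⊗[k] A)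
      (Algebra.TensorProduct.map (Algebra.TensorProduct.includeLeft : R →ₐ[k] R ⊗[k] A) (AlgHom.id k A)
        (GLin.coactAlgHom k A R r)) =
    Algebra.TensorProduct.map (GLin.coactAlgHom k A R) (AlgHom.id k A) (GLin.coactAlgHom k A R r) := by
  rw [theta_incl]
  have h := LinearMap.congr_fun (HopfRep.Comod.coassoc (k := k) (A := A) (V := R)) r
  simp only [LinearMap.comp_apply, LinearEquiv.coe_coe] at h
  rw [GLin.coactAlgHom_apply, ← h, LinearEquiv.symm_apply_apply]
  generalize (HopfRep.Comod.coact (k := k) (A := A) r) = w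
  induction w using TensorProduct.induction_on with
  | zero => simp
  | tmul x b => simp
  | add x y hx hy => simp only [map_add, hx, hy]

/-- characteristic polynomial of the coaction of `r` on the free `R`-module `R ⊗ A`. -/
noncomputable def chi (r : R) : R[X] :=
  (Algebra.lmul R (R ⊗[k] A) (GLin.coactAlgHom k A R r)).charpoly

lemma chi_monic (r : R) : (chi k A R r).Monic := LinearMap.charpoly_monic _

lemma lmul_conj {S P : Type*} [CommRing S] [CommRing P] [Algebra S P] (e : P ≃ₐ[S] P) (y : P) :
    e.toLinearEquiv.conj (Algebra.lmul S P y) = Algebra.lmul S P (e y) := by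
  ext v
  simp [LinearEquiv.conj_apply]

lemma chi_map_eq (r : R) :
    (chi k A R r).map ((GLin.coactAlgHom k A R : R →ₐ[k] R ⊗[k] A) : R →+* R ⊗[k] A) =
      (chi k A R r).map ((Algebra.TensorProduct.includeLeft : R →ₐ[k] R ⊗[k] A) : R →+* R ⊗[k] A) := by
  unfold chi
  rw [← charpoly_map_tensor, ← charpoly_map_tensor, ← theta_coact]
  set e : ((R ⊗[k] A) ⊗[k] A) ≃ₐ[R ⊗[k] A] ((R ⊗[k] A) ⊗[k] A) :=
    AlgEquiv.ofBijective (theta (Algebra.TensorProduct.includeRight : A →ₐ[k] R ⊗[k] A))
      (theta_bijective _) with he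
  have h := lmul_conj e (Algebra.TensorProduct.map
    (Algebra.TensorProduct.includeLeft : R →ₐ[k] R ⊗[k] A) (AlgHom.id k A) (GLin.coactAlgHom k A R r))
  have h2 : e (Algebra.TensorProduct.map
      (Algebra.TensorProduct.includeLeft : R →ₐ[k] R ⊗[k] A) (AlgHom.id k A) (GLin.coactAlgHom k A R r)) =
      theta (Algebra.TensorProduct.includeRight : A →ₐ[k] R ⊗[k] A) (Algebra.TensorProduct.map
      (Algebra.TensorProduct.includeLeft : R →ₐ[k] R ⊗[k] A) (AlgHom.id k A) (GLin.coactAlgHom k A R r)) := rfl
  rw [← h2, ← h, LinearEquiv.charpoly_conj]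

lemma chi_coeff_mem (r : R) (n : ℕ) : (chi k A R r).coeff n ∈ GLin.invariants k A R := by
  rw [GLin.mem_invariants_iff]
  have h := congrArg (fun p => Polynomial.coeff p n) (chi_map_eq k A R r)
  simp only [Polynomial.coeff_map] at h
  exact h

/-- `id ⊗ ε : R ⊗ A → R` as an `R`-algebra map. -/
noncomputable def piHom : R ⊗[k] A →ₐ[R] R :=
  Algebra.TensorProduct.lift (AlgHom.id R R) ((Algebra.ofId k R).comp (Bialgebra.counitAlgHom k A))
    (fun _ _ => Commute.all _ _)

omit [Module.Finite k A] in
lemma piHom_coact (r : R) : piHom k A R (GLin.coactAlgHom k A R r) = r := by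
  have h : ∀ w : R ⊗[k] A, piHom k A R w =
      TensorProduct.rid k R ((CoalgebraStruct.counit (R := k) (A := A)).lTensor R w) := by
    intro w
    induction w using TensorProduct.induction_on with
    | zero => simp
    | tmul x b => simp [piHom, Algebra.smul_def, mul_comm]
    | add x y hx hy => simp only [map_add, hx, hy]
  rw [h, GLin.coactAlgHom_apply]
  have h2 := LinearMap.congr_fun (HopfRep.Comod.counit_comp (k := k) (A := A) (V := R)) r
  simp only [LinearMap.comp_apply] at h2
  rw [h2]
  simp

lemma aeval_chi (r : R) : Polynomial.aeval r (chi k A R r) = 0 := by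
  have h1 : Polynomial.aeval (GLin.coactAlgHom k A R r) (chi k A R r) = 0 := by
    have h := LinearMap.aeval_self_charpoly (Algebra.lmul R (R ⊗[k] A) (GLin.coactAlgHom k A R r))
    rw [Polynomial.aeval_algHom_apply] at h
    have h' := LinearMap.congr_fun h 1
    simpa [chi] using h'
  have h2 := congrArg (piHom k A R) h1
  rw [← Polynomial.aeval_algHom_apply, piHom_coact, map_zero] at h2
  exact h2

lemma isIntegral_invariants (r : R) : IsIntegral (GLin.invariants k A R) r := by
  rcases subsingleton_or_nontrivial R with hR | hR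
  · have : r = 0 := Subsingleton.elim _ _
    rw [this]
    exact isIntegral_zero
  have hl : chi k A R r ∈ Polynomial.lifts (algebraMap (GLin.invariants k A R) R) := by
    rw [Polynomial.lifts_iff_coeff_lifts]
    intro n
    exact ⟨⟨_, chi_coeff_mem k A R r n⟩, rfl⟩
  obtain ⟨q, hq, -, hmonic⟩ := Polynomial.lifts_and_degree_eq_and_monic hl (chi_monic k A R r)
  refine ⟨q, hmonic, ?_⟩
  rw [← Polynomial.eval_map, hq]
  have := aeval_chi k A R r
  rwa [Polynomial.aeval_def, Polynomial.eval₂_eq_eval_map, Algebra.algebraMap_self, Polynomial.map_id] at this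

end Main

end Aux

/-- Let k be an algebraically closed field, A a commutative Hopf algebra over k which is
finite-dimensional as a k-vector space (a finite group scheme G = Spec A over k), and R a finitely
generated commutative k-algebra with an A-comodule structure whose coaction R → R ⊗ A is a k-algebra
homomorphism (an action of G on the affine scheme Spec R). Then the subalgebra R^G of invariants
(elements whose coaction is r ⊗ 1) is finitely generated as a k-algebra, and R is finitely generated
as a module over R^G. -/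
theorem result (k : Type u) [Field k] [IsAlgClosed k]
    (A : Type v) [CommRing A] [HopfAlgebra k A] [Module.Finite k A]
    (R : Type w) [CommRing R] [Algebra k R] [Algebra.FiniteType k R]
    [HopfRep.Comod k A R] [GLin.IsCoactAlg k A R] :
    Algebra.FiniteType k ↥(GLin.invariants k A R) ∧ Module.Finite ↥(GLin.invariants k A R) R := by
  haveI : Algebra.IsIntegral (GLin.invariants k A R) R := ⟨Aux.isIntegral_invariants k A R⟩
  haveI : Algebra.FiniteType (GLin.invariants k A R) R :=
    Algebra.FiniteType.of_restrictScalars_finiteType k (GLin.invariants k A R) R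
  have hfin : Module.Finite (GLin.invariants k A R) R := Algebra.IsIntegral.finite
  refine ⟨⟨?_⟩, hfin⟩
  exact fg_of_fg_of_fg k (GLin.invariants k A R) R Algebra.FiniteType.out hfin.fg_top
    Subtype.val_injective

end Groth.Agent.S17322
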