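import Groth.Statements.S17323
import Mathlib
import Groth.Agent.Lib.Helper31.SemisimpleSub

set_option autoImplicit false
universe u v
open CAlg

namespace Groth.Agent.S17323

/-- Let k be an algebraically closed field and A a commutative k-algebra which is finite-dimensional as
a k-vector space. Then A has a largest reduced subalgebra: a k-subalgebra B which is reduced and
contains every reduced k-subalgebra of A; moreover the composite of the inclusion B → A with the
projection A → A/nilradical(A) is bijective. -/
theorem result (k : Type u) [Field k] [IsAlgClosed k]
    (A : Type v) [CommRing A] [Algebra k A] [Module.Finite k A] :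
    ∃ B : Subalgebra k A, IsReduced ↥B ∧ (∀ C : Subalgebra k A, IsReduced ↥C → C ≤ B) ∧
      Function.Bijective ((Ideal.Quotient.mkₐ k (nilradical A)).comp B.val) := by
  exact ⟨Groth.Agent.Lib.Helper31.ssSubalgebra k A,
    Groth.Agent.Lib.Helper31.ssSubalgebra_isReduced k A,
    Groth.Agent.Lib.Helper31.le_ssSubalgebra_of_isReduced k A,
    Groth.Agent.Lib.Helper31.ssSubalgebra_bijective k A⟩

end Groth.Agent.S17323
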