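import Groth.Statements.S17324
import Mathlib
import Groth.Agent.Lib.Helper31.FinAlgClosed

set_option autoImplicit false
universe u v
open CAlg

namespace Groth.Agent.S17324

/-- (i) ⟺ (ii): let k be an algebraically closed field, A a commutative k-algebra which is
finite-dimensional as a k-vector space and is a local ring with maximal ideal m, and a_1, …, a_m ∈
m. Then A is generated as a k-algebra by a_1, …, a_m if and only if m is generated as an ideal by
a_1, …, a_m. (The printed lemma has a third equivalent condition, that the images of the a_i span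
m/m²; its equivalence with (ii) is Nakayama's lemma.) -/
theorem result (k : Type u) [Field k] [IsAlgClosed k]
    (A : Type v) [CommRing A] [Algebra k A] [Module.Finite k A] [IsLocalRing A]
    (m : ℕ) (a : Fin m → A) (ha : ∀ i, a i ∈ IsLocalRing.maximalIdeal A) :
    Algebra.adjoin k (Set.range a) = ⊤ ↔ Ideal.span (Set.range a) = IsLocalRing.maximalIdeal A := by
  classical
  have hJle : Ideal.span (Set.range a) ≤ IsLocalRing.maximalIdeal A := by
    rw [Ideal.span_le]
    rintro _ ⟨i, rfl⟩
    exact ha i
  constructor
  · intro htop
    refine le_antisymm hJle ?_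
    intro x hx
    have hmem : x ∈ Algebra.adjoin k (Set.range a) := by rw [htop]; exact Algebra.mem_top
    have key : ∀ y ∈ Algebra.adjoin k (Set.range a),
        ∃ c : k, y - algebraMap k A c ∈ Ideal.span (Set.range a) := by
      intro y hy
      induction hy using Algebra.adjoin_induction with
      | mem z hz => exact ⟨0, by rw [map_zero, sub_zero]; exact Ideal.subset_span hz⟩
      | algebraMap r => exact ⟨r, by rw [sub_self]; exact Ideal.zero_mem _⟩
      | add y z _ _ hy hz =>
        obtain ⟨c, hc⟩ := hy
        obtain ⟨d, hd⟩ := hz
        refine ⟨c + d, ?_⟩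
        have : y + z - algebraMap k A (c + d) = (y - algebraMap k A c) + (z - algebraMap k A d) := by
          rw [map_add]; ring
        rw [this]
        exact Ideal.add_mem _ hc hd
      | mul y z _ _ hy hz =>
        obtain ⟨c, hc⟩ := hy
        obtain ⟨d, hd⟩ := hz
        refine ⟨c * d, ?_⟩
        have : y * z - algebraMap k A (c * d)
            = (y - algebraMap k A c) * z + algebraMap k A c * (z - algebraMap k A d) := by
          rw [map_mul]; ring
        rw [this]
        exact Ideal.add_mem _ (Ideal.mul_mem_right _ _ hc) (Ideal.mul_mem_left _ _ hd)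
    obtain ⟨c, hc⟩ := key x hmem
    have hcm : algebraMap k A c ∈ IsLocalRing.maximalIdeal A := by
      have : algebraMap k A c = x - (x - algebraMap k A c) := by ring
      rw [this]
      exact Ideal.sub_mem _ hx (hJle hc)
    have hc0 : c = 0 := by
      by_contra hne
      have hunit : IsUnit (algebraMap k A c) := (IsUnit.mk0 c hne).map (algebraMap k A)
      exact (IsLocalRing.mem_maximalIdeal _).mp hcm hunit
    rw [hc0, map_zero, sub_zero] at hc
    exact hc
  · intro hspan
    have : IsArtinianRing A := IsArtinianRing.of_finite k A
    have hclaim : ∀ n : ℕ, ∀ x : A, ∃ b ∈ Algebra.adjoin k (Set.range a),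
        x - b ∈ (IsLocalRing.maximalIdeal A) ^ n := by
      intro n
      induction n with
      | zero =>
        intro x
        exact ⟨0, Subalgebra.zero_mem _, by rw [pow_zero, Ideal.one_eq_top]; exact Submodule.mem_top⟩
      | succ n ih =>
        intro x
        have hx' := Groth.Agent.Lib.Helper31.sub_charOfMaximal_mem k A (IsLocalRing.maximalIdeal A) x
        set c := Groth.Agent.Lib.Helper31.charOfMaximal k A (IsLocalRing.maximalIdeal A) x with hc
        rw [← hspan, Ideal.mem_span_range_iff_exists_fun] at hx'
        obtain ⟨r, hr⟩ := hx'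
        choose b hb hbr using fun i => ih (r i)
        refine ⟨algebraMap k A c + ∑ i, b i * a i, ?_, ?_⟩
        · refine Subalgebra.add_mem _ (Subalgebra.algebraMap_mem _ _) (Subalgebra.sum_mem _ ?_)
          intro i _
          exact Subalgebra.mul_mem _ (hb i) (Algebra.subset_adjoin ⟨i, rfl⟩)
        · have : x - (algebraMap k A c + ∑ i, b i * a i) = ∑ i, (r i - b i) * a i := by
            simp only [sub_mul, Finset.sum_sub_distrib, hr]
            ring
          rw [this, pow_succ]
          refine Ideal.sum_mem _ (fun i _ => ?_)
          exact Ideal.mul_mem_mul (hbr i) (ha i)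
    obtain ⟨n, hn⟩ : ∃ n : ℕ, (IsLocalRing.maximalIdeal A) ^ n = ⊥ := by
      have h1 := IsArtinianRing.isNilpotent_jacobson_bot (R := A)
      rw [IsLocalRing.jacobson_eq_maximalIdeal _ bot_ne_top] at h1
      obtain ⟨n, hn⟩ := h1
      exact ⟨n, hn⟩
    rw [eq_top_iff]
    intro x _
    obtain ⟨b, hb, hxb⟩ := hclaim n x
    rw [hn, Ideal.mem_bot, sub_eq_zero] at hxb
    rw [hxb]
    exact hb

end Groth.Agent.S17324
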