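import Groth.Statements.S17325
-- import your own Groth.Agent.* helpers here
import Mathlib
import Groth.Agent.Lib.Helper90.Isoc20

set_option autoImplicit false
universe u v
open LieAlg

namespace Groth.Agent.S17325

/-- Let k be an algebraically closed field of characteristic p > 0, V a finite-dimensional k-vector
space and g a nonzero k-linear subspace of End_k(V) closed under the p-th power map u ↦ u^p. Then g
contains a nonzero u with u^p = c u for some c ∈ k, i.e. a line k u closed under p-th powers. (The
published lemma concerns an abstract nonzero finite-dimensional restricted Lie algebra; this row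
concerns subspaces of End_k(V) closed under p-th powers, a class that contains every restricted Lie
subalgebra of gl(V).) -/
theorem result (k : Type u) [Field k] [IsAlgClosed k]
    (p : ℕ) [Fact p.Prime] [CharP k p] (V : Type v) [AddCommGroup V] [Module k V] [FiniteDimensional k V]
    (g : Submodule k (Module.End k V)) (hg : ∀ u ∈ g, u ^ p ∈ g) (hne : g ≠ ⊥) :
    ∃ u ∈ g, u ≠ 0 ∧ ∃ c : k, u ^ p = c • u := by
  classical
  obtain ⟨u₀, hu₀g, hu₀⟩ := (Submodule.ne_bot_iff g).mp hne
  haveI : Nontrivial (Module.End k V) := ⟨⟨u₀, 0, hu₀⟩⟩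
  letI : CommRing (Algebra.adjoin k ({u₀} : Set (Module.End k V))) :=
    Algebra.adjoinCommRingOfComm k (by
      intro a ha b hb
      rw [Set.mem_singleton_iff] at ha hb
      rw [ha, hb])
  set A := Algebra.adjoin k ({u₀} : Set (Module.End k V)) with hA
  haveI : CharP A p := charP_of_injective_algebraMap (algebraMap k A).injective p
  let W : Submodule k A := g.comap A.val.toLinearMap
  have hWmem : ∀ w : A, w ∈ W ↔ (w : Module.End k V) ∈ g := fun w => Iff.rfl
  have hWst : ∀ w ∈ W, w ^ p ∈ W := fun w hw => by
    rw [hWmem, SubmonoidClass.coe_pow]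
    exact hg _ hw
  let φ : W →ₛₗ[frobenius k p] W :=
    { toFun := fun w => ⟨(w : A) ^ p, hWst w w.2⟩
      map_add' := fun x y => Subtype.ext (by
        simp only [Submodule.coe_add]
        exact add_pow_char (x : A) (y : A) p)
      map_smul' := fun c x => Subtype.ext (by
        simp only [Submodule.coe_smul, frobenius_def]
        exact smul_pow c (x : A) p) }
  have hφ : ∀ w : W, ((φ w : W) : A) = (w : A) ^ p := fun _ => rfl
  let w₀ : W := ⟨⟨u₀, Algebra.self_mem_adjoin_singleton k u₀⟩, hu₀g⟩
  haveI : Nontrivial W := ⟨⟨w₀, 0, fun h => hu₀ (congrArg (fun w : W => ((w : A) : Module.End k V)) h)⟩⟩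
  by_cases hinj : Function.Injective φ
  · have hψ : ∀ t : k, frobenius k p t = t ^ (p ^ 1) := fun t => by rw [pow_one, frobenius_def]
    haveI : FiniteDimensional k A := inferInstance
    haveI : FiniteDimensional k W := inferInstance
    obtain ⟨w, hw0, hw⟩ := Groth.Agent.Lib.Helper90.IsocLib.lang_fixed (V := W) p Nat.one_pos hψ φ hinj
    refine ⟨((w : A) : Module.End k V), w.2, fun h => hw0 ?_, 1, ?_⟩
    · apply Subtype.ext
      apply Subtype.ext
      exact h
    · have h1 : ((φ w : W) : A) = (w : A) := congrArg Subtype.val hw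
      rw [hφ] at h1
      have h2 := congrArg (Subtype.val : A → Module.End k V) h1
      rw [SubmonoidClass.coe_pow] at h2
      rw [h2, one_smul]
  · rw [injective_iff_map_eq_zero] at hinj
    push_neg at hinj
    obtain ⟨w, hw, hw0⟩ := hinj
    refine ⟨((w : A) : Module.End k V), w.2, fun h => hw0 ?_, 0, ?_⟩
    · apply Subtype.ext
      apply Subtype.ext
      exact h
    · have h1 : ((φ w : W) : A) = 0 := by rw [hw]; rfl
      rw [hφ] at h1
      have h2 := congrArg (Subtype.val : A → Module.End k V) h1
      rw [SubmonoidClass.coe_pow] at h2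
      rw [h2, zero_smul]
      rfl

end Groth.Agent.S17325
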