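import Groth.Statements.S17326
import Mathlib
import Groth.Agent.Lib.Helper31.FinAlgClosed

set_option autoImplicit false
universe u v
open CAlg

namespace Groth.Agent.S17326

/-- Let k be an algebraically closed field of characteristic p > 0, A a commutative k-algebra which is
finite-dimensional as a k-vector space (a finite k-scheme X), and n ≥ 1. The n-th iterated relative
Frobenius morphism X → X^(p^n) is an isomorphism if and only if X is reduced; on rings: the map a ↦
a^(p^n) of A to itself (which is the ring homomorphism underlying the relative Frobenius, the twist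
A^(p^n) having the same underlying ring as A) is bijective if and only if A is reduced. -/
theorem result (k : Type u) [Field k] [IsAlgClosed k]
    (p : ℕ) [Fact p.Prime] [CharP k p] (A : Type v) [CommRing A] [Algebra k A] [Module.Finite k A]
    (n : ℕ) (hn : 1 ≤ n) :
    Function.Bijective (fun a : A => a ^ p ^ n) ↔ IsReduced A := by
  have hpp : p.Prime := Fact.out
  have hq : 1 < p ^ n := Nat.one_lt_pow (by omega) hpp.one_lt
  constructor
  · rintro ⟨hinj, -⟩
    refine ⟨fun x hx => ?_⟩
    obtain ⟨m, hm⟩ := hx
    have h1 : x ^ (p ^ n) ^ m = 0 := pow_eq_zero_of_le (Nat.lt_pow_self hq).le hm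
    have h2 : (fun a : A => a ^ p ^ n)^[m] x = (fun a : A => a ^ p ^ n)^[m] 0 := by
      rw [pow_iterate]
      simp only
      rw [h1, zero_pow]
      exact (pow_pos (by omega) m).ne'
    exact hinj.iterate m h2
  · intro hred
    rcases subsingleton_or_nontrivial A with hA | hA
    · exact ⟨fun a b _ => Subsingleton.elim a b, fun a => ⟨a, Subsingleton.elim _ _⟩⟩
    haveI : CharP A p := charP_of_injective_algebraMap (algebraMap k A).injective p
    refine ⟨?_, ?_⟩
    · intro a b hab
      simp only at hab
      have h1 : (a - b) ^ p ^ n = 0 := by rw [sub_pow_char_pow, hab, sub_self]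
      have h2 : a - b = 0 := (IsNilpotent.eq_zero ⟨_, h1⟩)
      exact sub_eq_zero.mp h2
    · intro a
      obtain ⟨ι, _, ⟨e⟩⟩ := Groth.Agent.Lib.Helper31.exists_algEquiv_pi k A
      have hroot : ∀ i, ∃ z : k, z ^ p ^ n = e a i := fun i =>
        IsAlgClosed.exists_pow_nat_eq (e a i) (by omega)
      choose g hg using hroot
      refine ⟨e.symm g, ?_⟩
      simp only
      rw [← map_pow]
      have : g ^ p ^ n = e a := by
        funext i
        rw [Pi.pow_apply, hg]
      rw [this, e.symm_apply_apply]

end Groth.Agent.S17326
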