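import Groth.Statements.S17328
import Mathlib
import Groth.Agent.Lib.Helper66.TruncPoly
open Groth.Agent.Lib.Helper66.TruncPoly

set_option autoImplicit false
universe u v
open Hopf

namespace Groth.Agent.S17328

/-- Let k be an algebraically closed field of characteristic p > 0 and A a commutative Hopf algebra over
k, finite-dimensional as a k-vector space, with augmentation ideal I (kernel of the counit), such
that f^p = 0 for every f ∈ I (the finite group scheme G = Spec A is infinitesimal of height at most
one: A is then a local ring with maximal ideal I). Then the order of G is dim_k A = p^n where n =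
dim_k I/I² is the dimension of the Lie algebra of G. -/
theorem result (k : Type u) [Field k] [IsAlgClosed k]
    (p : ℕ) [Fact p.Prime] [CharP k p] (A : Type v) [CommRing A] [HopfAlgebra k A] [Module.Finite k A]
    (h1 : ∀ f : A, Bialgebra.counitAlgHom k A f = 0 → f ^ p = 0) :
    Module.finrank k A = p ^ Module.finrank k (RingHom.ker (Bialgebra.counitAlgHom k A)).Cotangent := by
  set I : Ideal A := RingHom.ker (Bialgebra.counitAlgHom k A) with hIdef
  have hp : 0 < p := (Fact.out : p.Prime).pos
  have hI : ∀ a, a ∈ I ↔ Coalgebra.counit (R := k) a = 0 := fun a => by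
    rw [hIdef, RingHom.mem_ker]; rfl
  have hnoeth : IsNoetherianRing A := isNoetherian_of_tower k (inferInstance : IsNoetherian k A)
  have hfg : I.FG := IsNoetherian.noetherian I
  have hnil : I ≤ nilradical A := by
    intro a ha
    rw [mem_nilradical]
    exact ⟨p, h1 a ((hI a).1 ha)⟩
  obtain ⟨N, hN⟩ := (Ideal.FG.isNilpotent_iff_le_nilradical hfg).2 hnil
  rw [Ideal.zero_eq_bot] at hN
  have hfin : Module.Finite k I.Cotangent := by
    refine Module.Finite.of_surjective ((I.toCotangent.restrictScalars k) ∘ₗ augProj I hI) ?_
    intro y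
    obtain ⟨z, rfl⟩ := I.toCotangent_surjective y
    exact ⟨z, by rw [LinearMap.comp_apply, augProj_of_mem I hI z z.2]; rfl⟩
  let b := Module.finBasis k I.Cotangent
  choose y hy using fun i => I.toCotangent_surjective (b i)
  obtain ⟨hspan, hinj⟩ := hopf_field_main p I hI hfg N hN b (fun i => (y i : A)) (fun i => (y i).2)
    (fun i => hy i)
  have hJ : Ideal.span ((fun a : A => a ^ p) '' (I : Set A)) = ⊥ := by
    rw [Ideal.span_eq_bot]
    rintro _ ⟨a, ha, rfl⟩
    exact h1 a ((hI a).1 ha)
  rw [hJ] at hinj
  obtain ⟨e⟩ := algEquiv_of_reduced (R := k) (fun i => (y i : A)) (⊥ : Ideal A) p hp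
    (fun i => by rw [Ideal.mem_bot]; exact h1 _ ((hI _).1 (y i).2))
    (fun a => by
      obtain ⟨P, hP⟩ := aeval_surjective (Bialgebra.counitAlgHom k A) I (fun a => by rw [hI]; rfl)
        (fun i => (y i : A)) hspan N hN a
      exact ⟨P, by rw [hP, sub_self]; exact zero_mem _⟩)
    hinj
  rw [← finrank_quot (R := k) (n := Module.finrank k I.Cotangent) hp, ← e.toLinearEquiv.finrank_eq]
  exact ((AlgEquiv.quotientBot k A).toLinearEquiv.finrank_eq).symm

end Groth.Agent.S17328
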