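import Groth.Statements.S17329
import Mathlib
import Groth.Agent.Lib.Helper66.PointsDecomp
import Groth.Agent.Lib.Helper66.EtaleCase

open Groth.Agent.Lib.Helper66.PointsDecomp Groth.Agent.Lib.Helper66.EtaleCase

set_option autoImplicit false
universe u v
open scoped TensorProduct
open Hopf

namespace Groth.Agent.S17329


section BasisPts
variable {k : Type*} [Field k] [IsAlgClosed k] {C : Type*} [CommRing C] [Algebra k C] [Module.Finite k C]
  {M : Type*} [AddCommGroup M] [Module k M] {ι : Type*} [Fintype ι] [DecidableEq ι]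

/-- evaluation of `C ⊗ M` at a point of `C` -/
noncomputable def evPt (χ : C →ₐ[k] k) : C ⊗[k] M →ₗ[k] M :=
  (TensorProduct.lid k M).toLinearMap ∘ₗ (TensorProduct.map χ.toLinearMap LinearMap.id)

theorem evPt_tmul (χ : C →ₐ[k] k) (c : C) (m : M) : evPt χ (c ⊗ₜ[k] m) = χ c • m := by
  simp [evPt]

theorem evPt_smul (χ : C →ₐ[k] k) (c : C) (x : C ⊗[k] M) : evPt χ (c • x) = χ c • evPt χ x := by
  induction x using TensorProduct.induction_on with
  | zero => simp
  | tmul d m => rw [TensorProduct.smul_tmul', evPt_tmul, evPt_tmul, smul_eq_mul, map_mul, mul_smul]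
  | add x y hx hy => rw [smul_add, map_add, map_add, hx, hy, smul_add]

theorem evPt_eq_sum (r : Module.Basis ι k M) (χ : C →ₐ[k] k) (x : C ⊗[k] M) :
    evPt χ x = ∑ j, χ ((Algebra.TensorProduct.basis C r).repr x j) • r j := by
  conv_lhs => rw [← (Algebra.TensorProduct.basis C r).sum_repr x]
  rw [map_sum]
  refine Finset.sum_congr rfl fun j _ => ?_
  rw [evPt_smul, Algebra.TensorProduct.basis_apply, evPt_tmul, map_one, one_smul]

theorem isUnit_of_forall_points (x : C) (h : ∀ χ : C →ₐ[k] k, χ x ≠ 0) : IsUnit x := by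
  by_contra hx
  obtain ⟨𝔪, h𝔪, hxm⟩ := exists_max_ideal_of_mem_nonunits hx
  obtain ⟨γ, hγ⟩ := exists_algHom_ker_eq (K := k) 𝔪
  apply h γ
  rw [← RingHom.mem_ker, hγ]
  exact hxm

/-- a family in `C ⊗ M` which is a basis at every point of `C` is a `C`-basis -/
theorem exists_basis_of_points (r : Module.Basis ι k M) (v : ι → C ⊗[k] M)
    (h : ∀ χ : C →ₐ[k] k, LinearIndependent k (fun i => evPt χ (v i))) :
    ∃ b : Module.Basis ι C (C ⊗[k] M), ∀ i, b i = v i := by
  set e := Algebra.TensorProduct.basis C r with he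
  set φ : C ⊗[k] M →ₗ[C] C ⊗[k] M := e.constr C v with hφ
  have hdet : IsUnit (LinearMap.toMatrix e e φ).det := by
    rcases isEmpty_or_nonempty ι with hι | hι
    · rw [Matrix.det_isEmpty]; exact isUnit_one
    apply isUnit_of_forall_points (k := k)
    intro χ
    rw [← AlgHom.coe_toRingHom, RingHom.map_det]
    have hcard : Fintype.card ι = Module.finrank k M := (Module.finrank_eq_card_basis r).symm
    set w := basisOfLinearIndependentOfCardEqFinrank (h χ) hcard with hw
    have h1 : (χ : C →+* k).mapMatrix (LinearMap.toMatrix e e φ) = r.toMatrix w := by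
      ext j i
      rw [RingHom.mapMatrix_apply, Matrix.map_apply, LinearMap.toMatrix_apply, Module.Basis.toMatrix_apply,
        hw, coe_basisOfLinearIndependentOfCardEqFinrank, hφ, Module.Basis.constr_basis, evPt_eq_sum r χ (v i)]
      simp only [map_sum, map_smul, Module.Basis.repr_self, Finsupp.smul_single, smul_eq_mul, mul_one]
      rw [Finsupp.finsetSum_apply, Finset.sum_eq_single j]
      · simp [he]
      · intro b _ hb; simp [hb]
      · intro hj; exact absurd (Finset.mem_univ j) hj
    rw [h1, ← Module.Basis.det_apply]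
    exact (r.isUnit_det w).ne_zero
  set φe := LinearEquiv.ofIsUnitDet hdet with hφe
  refine ⟨e.map φe, fun i => ?_⟩
  rw [Module.Basis.map_apply]
  show φ (e i) = v i
  rw [hφ, Module.Basis.constr_basis]

end BasisPts

/-- finitely many subspaces of the same codimension `n` over an infinite field admit `n` vectors
independent modulo each of them -/
theorem exists_common_indep {k V : Type*} [Field k] [Infinite k] [AddCommGroup V] [Module k V]
    [FiniteDimensional k V] {J : Type*} [Finite J] :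
    ∀ (n : ℕ) (U : J → Submodule k V), (∀ j, Module.finrank k (U j) + n = Module.finrank k V) →
      ∃ a : Fin n → V, ∀ j, LinearIndependent k (fun i => (U j).mkQ (a i)) := by
  intro n
  induction n with
  | zero =>
    intro U _
    exact ⟨fun _ => 0, fun j => linearIndependent_empty_type⟩
  | succ n ih =>
    intro U hU
    rcases isEmpty_or_nonempty J with hJ | hJ
    · exact ⟨fun _ => 0, fun j => (hJ.false j).elim⟩
    have hne : ∀ j, U j ≠ ⊤ := by
      intro j hj
      have := hU j
      rw [hj, finrank_top] at this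
      omega
    obtain ⟨v, hv⟩ : ∃ v : V, ∀ j, v ∉ U j := by
      by_contra hcon
      push Not at hcon
      have hcov : ⋃ j, (U j : Set V) = Set.univ := by
        ext x
        simp only [Set.mem_iUnion, SetLike.mem_coe, Set.mem_univ, iff_true]
        exact hcon x
      obtain ⟨j, hj⟩ := Subspace.exists_eq_top_of_iUnion_eq_univ hcov
      exact hne j hj
    have hv0 : v ≠ 0 := by
      intro h0
      obtain ⟨j⟩ := hJ
      exact hv j (h0 ▸ (U j).zero_mem)
    set U' : J → Submodule k V := fun j => U j ⊔ Submodule.span k {v} with hU'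
    have hU'fr : ∀ j, Module.finrank k (U' j) + n = Module.finrank k V := by
      intro j
      have h1 := Submodule.finrank_sup_add_finrank_inf_eq (U j) (Submodule.span k {v})
      have h2 : U j ⊓ Submodule.span k {v} = ⊥ := by
        rw [← disjoint_iff]
        exact (Submodule.disjoint_span_singleton' hv0).2 (hv j)
      rw [h2, finrank_bot, finrank_span_singleton hv0] at h1
      have := hU j
      show Module.finrank k ↥(U j ⊔ Submodule.span k {v}) + n = _
      omega
    obtain ⟨a', ha'⟩ := ih U' hU'fr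
    refine ⟨Fin.cons v a', fun j => ?_⟩
    have hle : U j ≤ U' j := le_sup_left
    set q : (V ⧸ U j) →ₗ[k] (V ⧸ U' j) := Submodule.mapQ (U j) (U' j) LinearMap.id (by simpa using hle) with hq
    have hqmk : ∀ x : V, q ((U j).mkQ x) = (U' j).mkQ x := fun x => rfl
    have h1 : (fun i => (U j).mkQ ((Fin.cons v a' : Fin (n + 1) → V) i)) =
        Fin.cons ((U j).mkQ v) (fun i => (U j).mkQ (a' i)) := by
      funext i
      refine Fin.cases ?_ (fun i => ?_) i
      · simp
      · simp
    rw [h1, linearIndependent_finCons]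
    constructor
    · apply LinearIndependent.of_comp q
      exact ha' j
    · intro hmem
      obtain ⟨c, hc⟩ := (Submodule.mem_span_range_iff_exists_fun k).1 hmem
      have h2 := congrArg q hc
      rw [map_sum] at h2
      simp only [map_smul, hqmk] at h2
      have hvU' : (U' j).mkQ v = 0 := by
        rw [Submodule.mkQ_apply, Submodule.Quotient.mk_eq_zero]
        exact Submodule.mem_sup_right (Submodule.mem_span_singleton_self v)
      rw [hvU'] at h2
      have h3 := Fintype.linearIndependent_iff.1 (ha' j) c h2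
      have h4 : (U j).mkQ v = 0 := by
        rw [← hc]
        exact Finset.sum_eq_zero fun i _ => by rw [h3 i, zero_smul]
      rw [Submodule.mkQ_apply, Submodule.Quotient.mk_eq_zero] at h4
      exact hv j h4

section Coact
variable {k : Type*} [Field k] {A : Type*} [CommRing A] [HopfAlgebra k A] (I : Ideal A) [I.IsHopfIdeal k]

/-- the right coaction of `A ⧸ I` on `A` -/
noncomputable def ρ : A →ₐ[k] A ⊗[k] (A ⧸ I) :=
  (Algebra.TensorProduct.map (AlgHom.id k A) (Ideal.Quotient.mkₐ k I)).comp (Bialgebra.comulAlgHom k A)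

theorem ρ_eq_sum (a : A) {ι : Type*} (𝓡 : Coalgebra.Repr k a ι) :
    ρ I a = ∑ i ∈ 𝓡.index, 𝓡.left i ⊗ₜ[k] Ideal.Quotient.mk I (𝓡.right i) := by
  show (Algebra.TensorProduct.map (AlgHom.id k A) (Ideal.Quotient.mkₐ k I)) (Coalgebra.comul (R := k) a) = _
  rw [← 𝓡.eq, map_sum]
  rfl

/-- coassociativity of the coaction -/
theorem ρ_coassoc (a : A) :
    Algebra.TensorProduct.map (ρ (k := k) I) (AlgHom.id k (A ⧸ I)) (ρ (k := k) I a) =
      (Algebra.TensorProduct.assoc k k k A (A ⧸ I) (A ⧸ I)).symm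
        (Algebra.TensorProduct.map (AlgHom.id k A) (Bialgebra.comulAlgHom k (A ⧸ I)) (ρ I a)) := by
  rw [AlgEquiv.eq_symm_apply]
  set 𝓡 := Coalgebra.Repr.arbitrary k a with h𝓡
  have key := Coalgebra.sum_tmul_tmul_eq 𝓡 (fun i => Coalgebra.Repr.arbitrary k (𝓡.left i))
    (fun i => Coalgebra.Repr.arbitrary k (𝓡.right i))
  have key2 := congrArg (TensorProduct.map (LinearMap.id : A →ₗ[k] A)
    (TensorProduct.map (Ideal.Quotient.mkₐ k I).toLinearMap (Ideal.Quotient.mkₐ k I).toLinearMap)) key
  simp only [map_sum, TensorProduct.map_tmul, LinearMap.id_apply, AlgHom.toLinearMap_apply,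
    Ideal.Quotient.mkₐ_eq_mk] at key2
  rw [ρ_eq_sum I a 𝓡, map_sum, map_sum, map_sum]
  calc _ = ∑ i ∈ 𝓡.index, ∑ j ∈ (Coalgebra.Repr.arbitrary k (𝓡.left i)).index,
        (Coalgebra.Repr.arbitrary k (𝓡.left i)).left j ⊗ₜ[k]
          (Ideal.Quotient.mk I ((Coalgebra.Repr.arbitrary k (𝓡.left i)).right j) ⊗ₜ[k]
            Ideal.Quotient.mk I (𝓡.right i)) := by
        refine Finset.sum_congr rfl fun i _ => ?_
        rw [Algebra.TensorProduct.map_tmul, ρ_eq_sum I _ (Coalgebra.Repr.arbitrary k (𝓡.left i)),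
          TensorProduct.sum_tmul, map_sum]
        rfl
    _ = _ := by
        rw [key2]
        refine Finset.sum_congr rfl fun i _ => ?_
        rw [Algebra.TensorProduct.map_tmul]
        show _ = 𝓡.left i ⊗ₜ[k] Coalgebra.comul (R := k) (Ideal.Quotient.mk I (𝓡.right i))
        rw [Bialgebra.Quotient.comul_mk, ← (Coalgebra.Repr.arbitrary k (𝓡.right i)).eq, map_sum,
          TensorProduct.tmul_sum]
        rfl

end Coact

-- MAINAUX

section Aux2
variable {k : Type*} [Field k] [IsAlgClosed k] {C C' Q : Type*} [CommRing C] [Algebra k C]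
  [Module.Finite k C] [CommRing C'] [Algebra k C'] [Module.Finite k C'] [CommRing Q] [Algebra k Q]

theorem evPt_map (f : C →ₐ[k] C') (χ : C' →ₐ[k] k) (x : C ⊗[k] Q) :
    evPt χ (Algebra.TensorProduct.map f (AlgHom.id k Q) x) = evPt (χ.comp f) x := by
  induction x using TensorProduct.induction_on with
  | zero => simp
  | tmul c q => rw [Algebra.TensorProduct.map_tmul, evPt_tmul, evPt_tmul]; rfl
  | add x y hx hy => rw [map_add, map_add, map_add, hx, hy]

theorem smul_eq_tmul_one_mul (c : C) (y : C ⊗[k] Q) : c • y = (c ⊗ₜ[k] (1 : Q)) * y := by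
  induction y using TensorProduct.induction_on with
  | zero => simp
  | tmul d q =>
    rw [TensorProduct.smul_tmul', Algebra.TensorProduct.tmul_mul_tmul, one_mul, smul_eq_mul]
  | add x y hx hy => rw [smul_add, mul_add, hx, hy]

end Aux2

section Coact2
variable {k : Type*} [Field k] [IsAlgClosed k] {A : Type*} [CommRing A] [HopfAlgebra k A]
  [Module.Finite k A] (I : Ideal A) [I.IsHopfIdeal k]

theorem evPt_ρ (γ : A →ₐ[k] k) (a : A) :
    evPt γ (ρ (k := k) I a) = Ideal.Quotient.mk I (transHom γ a) := by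
  set 𝓡 := Coalgebra.Repr.arbitrary k a with h𝓡
  rw [ρ_eq_sum I a 𝓡, map_sum]
  have h1 : transHom γ a = ∑ i ∈ 𝓡.index, γ (𝓡.left i) • 𝓡.right i := by
    simp only [transHom, Groth.Agent.Lib.Helper66.Translate.gL, AlgHom.comp_apply,
      Bialgebra.comulAlgHom_apply]
    rw [← 𝓡.eq]
    simp [map_sum]
  rw [h1, map_sum]
  refine Finset.sum_congr rfl fun i _ => ?_
  rw [evPt_tmul]
  rfl

/-- `id ⊗ ε` -/
noncomputable def εr : A ⊗[k] (A ⧸ I) →ₐ[k] A :=
  Algebra.TensorProduct.lift (AlgHom.id k A)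
    ((Algebra.ofId k A).comp (Bialgebra.counitAlgHom k (A ⧸ I))) (fun _ _ => Commute.all _ _)

theorem εr_tmul_one (c : A) : εr (k := k) I (c ⊗ₜ[k] 1) = c := by
  simp [εr]

theorem εr_ρ (a : A) : εr (k := k) I (ρ (k := k) I a) = a := by
  set 𝓡 := Coalgebra.Repr.arbitrary k a with h𝓡
  rw [ρ_eq_sum I a 𝓡, map_sum]
  have h := Coalgebra.sum_tmul_counit_eq (R := k) 𝓡
  have h2 := congrArg (Algebra.TensorProduct.rid k k A) h
  simp only [map_sum, Algebra.TensorProduct.rid_tmul, one_smul] at h2
  refine Eq.trans (Finset.sum_congr rfl fun i _ => ?_) h2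
  simp [εr, Algebra.smul_def, mul_comm]

end Coact2

/-- Let k be an algebraically closed field, A a commutative Hopf algebra over k which is
finite-dimensional as a k-vector space (a finite group scheme G = Spec A), and I a Hopf ideal of A
(a subgroup scheme H = Spec (A/I) of G, of order dim_k (A/I)). Let B ⊆ A be the k-subalgebra of
functions invariant under right multiplication by H: the equaliser of the two algebra maps A → A ⊗
(A/I), a ↦ (id ⊗ π)(Δ a) and a ↦ a ⊗ 1, so that Spec B is the quotient G/H. Then the quotient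
morphism G → G/H is finite locally free of rank |H|: A is a free B-module of rank dim_k (A/I) (B
being a finite product of local rings, locally free of constant rank is the same as free of that
rank). -/
theorem result (k : Type u) [Field k] [IsAlgClosed k]
    (A : Type v) [CommRing A] [HopfAlgebra k A] [Module.Finite k A] (I : Ideal A) [I.IsHopfIdeal k] :
    Module.Free
        ↥(AlgHom.equalizer
          ((Algebra.TensorProduct.map (AlgHom.id k A) (Ideal.Quotient.mkₐ k I)).comp (Bialgebra.comulAlgHom k A))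
          (Algebra.TensorProduct.includeLeft : A →ₐ[k] A ⊗[k] (A ⧸ I))) A ∧
      Module.finrank
        ↥(AlgHom.equalizer
          ((Algebra.TensorProduct.map (AlgHom.id k A) (Ideal.Quotient.mkₐ k I)).comp (Bialgebra.comulAlgHom k A))
          (Algebra.TensorProduct.includeLeft : A →ₐ[k] A ⊗[k] (A ⧸ I))) A =
        Module.finrank k (A ⧸ I) := by
  classical
  change Module.Free ↥(AlgHom.equalizer (ρ (k := k) I)
      (Algebra.TensorProduct.includeLeft : A →ₐ[k] A ⊗[k] (A ⧸ I))) A ∧
    Module.finrank ↥(AlgHom.equalizer (ρ (k := k) I)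
      (Algebra.TensorProduct.includeLeft : A →ₐ[k] A ⊗[k] (A ⧸ I))) A = Module.finrank k (A ⧸ I)
  set B := AlgHom.equalizer (ρ (k := k) I)
      (Algebra.TensorProduct.includeLeft : A →ₐ[k] A ⊗[k] (A ⧸ I)) with hB
  have hBmem : ∀ c : A, c ∈ B ↔ ρ (k := k) I c = c ⊗ₜ[k] 1 := fun c => by
    rw [hB, AlgHom.mem_equalizer]; rfl
  set n := Module.finrank k (A ⧸ I) with hn
  let r : Module.Basis (Fin n) k (A ⧸ I) := Module.finBasis k (A ⧸ I)
  haveI : IsArtinianRing A := IsArtinianRing.of_finite k A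
  haveI : Finite (A →ₐ[k] k) := Finite.of_equiv _ (pointsEquiv (K := k) (A := A)).symm
  -- the evaluation maps
  set evL : (A →ₐ[k] k) → (A →ₗ[k] (A ⧸ I)) := fun γ =>
    (Ideal.Quotient.mkₐ k I).toLinearMap ∘ₗ (transHom γ).toLinearMap with hevL
  have hevL_apply : ∀ γ a, evL γ a = evPt γ (ρ (k := k) I a) := fun γ a => (evPt_ρ I γ a).symm
  have hsurj : ∀ γ, Function.Surjective (evL γ) := by
    intro γ
    exact (Ideal.Quotient.mkₐ_surjective k I).comp (transHom_bijective γ).surjective
  have hfr : ∀ γ : A →ₐ[k] k, Module.finrank k (LinearMap.ker (evL γ)) + n = Module.finrank k A := by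
    intro γ
    have h1 := LinearMap.finrank_range_add_finrank_ker (evL γ)
    rw [LinearMap.range_eq_top.2 (hsurj γ), finrank_top] at h1
    omega
  obtain ⟨a, ha⟩ := exists_common_indep n (fun γ : A →ₐ[k] k => LinearMap.ker (evL γ)) hfr
  have hind : ∀ γ : A →ₐ[k] k, LinearIndependent k (fun i => evPt γ (ρ (k := k) I (a i))) := by
    intro γ
    have h1 := (ha γ).map' ((LinearMap.ker (evL γ)).liftQ (evL γ) le_rfl)
      (Submodule.ker_liftQ_eq_bot _ _ _ le_rfl)
    have h2 : (fun i => evPt γ (ρ (k := k) I (a i))) =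
        ((LinearMap.ker (evL γ)).liftQ (evL γ) le_rfl) ∘ (fun i => (LinearMap.ker (evL γ)).mkQ (a i)) := by
      funext i
      rw [← hevL_apply]
      rfl
    rw [h2]
    exact h1
  -- the `A`-basis `ρ (a i)` of `A ⊗ A/I`
  obtain ⟨bA, hbA⟩ := exists_basis_of_points (C := A) r (fun i => ρ (k := k) I (a i)) hind
  -- the `A ⊗ A/I`-basis `Λ (ρ (a i))`
  set Λ : A ⊗[k] (A ⧸ I) →ₐ[k] (A ⊗[k] (A ⧸ I)) ⊗[k] (A ⧸ I) :=
    Algebra.TensorProduct.map (ρ (k := k) I) (AlgHom.id k (A ⧸ I)) with hΛ
  set Λ' : A ⊗[k] (A ⧸ I) →ₐ[k] (A ⊗[k] (A ⧸ I)) ⊗[k] (A ⧸ I) :=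
    ((Algebra.TensorProduct.assoc k k k A (A ⧸ I) (A ⧸ I)).symm : _ →ₐ[k] _).comp
      (Algebra.TensorProduct.map (AlgHom.id k A) (Bialgebra.comulAlgHom k (A ⧸ I))) with hΛ'
  have hcoassoc : ∀ x : A, Λ (ρ (k := k) I x) = Λ' (ρ (k := k) I x) := fun x => ρ_coassoc I x
  have hindF : ∀ χ : A ⊗[k] (A ⧸ I) →ₐ[k] k,
      LinearIndependent k (fun i => evPt χ (Λ (ρ (k := k) I (a i)))) := by
    intro χ
    have h1 : (fun i => evPt χ (Λ (ρ (k := k) I (a i)))) =
        fun i => evPt (χ.comp (ρ (k := k) I)) (ρ (k := k) I (a i)) := by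
      funext i
      rw [hΛ, evPt_map]
    rw [h1]
    exact hind _
  obtain ⟨bF, hbF⟩ := exists_basis_of_points (C := A ⊗[k] (A ⧸ I)) r
    (fun i => Λ (ρ (k := k) I (a i))) hindF
  -- coefficients of `ρ x` are invariant
  have hexp : ∀ x : A, ρ (k := k) I x = ∑ i, (bA.repr (ρ (k := k) I x) i ⊗ₜ[k] (1 : A ⧸ I)) * ρ (k := k) I (a i) := by
    intro x
    conv_lhs => rw [← bA.sum_repr (ρ (k := k) I x)]
    refine Finset.sum_congr rfl fun i _ => ?_
    rw [hbA, smul_eq_tmul_one_mul]
  have hcoef : ∀ (x : A) (i : Fin n), bA.repr (ρ (k := k) I x) i ∈ B := by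
    intro x i
    set c := fun i => bA.repr (ρ (k := k) I x) i with hc
    have h1 : Λ (ρ (k := k) I x) = ∑ i, ρ (k := k) I (c i) • bF i := by
      conv_lhs => rw [hexp x]
      rw [map_sum]
      refine Finset.sum_congr rfl fun i _ => ?_
      rw [map_mul, hbF, smul_eq_tmul_one_mul, hΛ, Algebra.TensorProduct.map_tmul]
      rfl
    have h2 : Λ' (ρ (k := k) I x) = ∑ i, (c i ⊗ₜ[k] (1 : A ⧸ I)) • bF i := by
      conv_lhs => rw [hexp x]
      rw [map_sum]
      refine Finset.sum_congr rfl fun i _ => ?_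
      rw [map_mul, ← hcoassoc, hbF, smul_eq_tmul_one_mul]
      congr 1
      rw [hΛ', AlgHom.comp_apply, Algebra.TensorProduct.map_tmul, map_one]
      rfl
    have h3 : ∑ i, (ρ (k := k) I (c i) - c i ⊗ₜ[k] (1 : A ⧸ I)) • bF i = 0 := by
      have h5 : ∀ i, (ρ (k := k) I (c i) - c i ⊗ₜ[k] (1 : A ⧸ I)) • bF i =
          ρ (k := k) I (c i) • bF i - (c i ⊗ₜ[k] (1 : A ⧸ I)) • bF i :=
        fun i => sub_smul (ρ (k := k) I (c i)) (c i ⊗ₜ[k] (1 : A ⧸ I)) (bF i)
      rw [Finset.sum_congr rfl (fun i _ => h5 i), Finset.sum_sub_distrib, ← h1, ← h2, hcoassoc, sub_self]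
    have h4 := Fintype.linearIndependent_iff.1 bF.linearIndependent _ h3 i
    rw [hBmem]
    exact sub_eq_zero.1 h4
  -- independence over `B`
  have hli : LinearIndependent ↥B a := by
    rw [Fintype.linearIndependent_iff]
    intro g hg i
    have h1 : ∑ i, (g i : A) • bA i = 0 := by
      have h2 := congrArg (ρ (k := k) I) hg
      rw [map_sum, map_zero] at h2
      rw [← h2]
      refine Finset.sum_congr rfl fun i _ => ?_
      rw [Subalgebra.smul_def, smul_eq_mul, map_mul, (hBmem _).1 (g i).2, hbA, smul_eq_tmul_one_mul]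
    have h3 := Fintype.linearIndependent_iff.1 bA.linearIndependent _ h1 i
    exact Subtype.ext h3
  have hsp : ⊤ ≤ Submodule.span ↥B (Set.range a) := by
    intro x _
    have h1 : x = ∑ i, (⟨bA.repr (ρ (k := k) I x) i, hcoef x i⟩ : ↥B) • a i := by
      conv_lhs => rw [← εr_ρ (k := k) I x, hexp x]
      rw [map_sum]
      refine Finset.sum_congr rfl fun i _ => ?_
      rw [map_mul, εr_tmul_one, εr_ρ (k := k) I, Subalgebra.smul_def, smul_eq_mul]
    rw [h1]
    exact Submodule.sum_mem _ fun i _ => Submodule.smul_mem _ _ (Submodule.subset_span ⟨i, rfl⟩)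
  haveI : Nontrivial A := by
    refine ⟨⟨1, 0, fun h => ?_⟩⟩
    have := congrArg (Coalgebra.counit (R := k)) h
    rw [Bialgebra.counit_one, map_zero] at this
    exact one_ne_zero this
  haveI : Nontrivial ↥B := ⟨⟨0, 1, fun h => zero_ne_one (congrArg Subtype.val h)⟩⟩
  set b : Module.Basis (Fin n) ↥B A := Module.Basis.mk hli hsp with hb
  refine ⟨Module.Free.of_basis b, ?_⟩
  rw [Module.finrank_eq_card_basis b, Fintype.card_fin]

end Groth.Agent.S17329
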