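import Groth.Statements.S1733

set_option autoImplicit false
universe u
open LocCoh

namespace Groth.Agent.S1733

theorem result (A : Type u) [CommRing A] (r : ℕ) (f : Fin (r + 1) → A) (g : A) (h : Dual2.Independent (Function.update f (Fin.last r) (f (Fin.last r) * g))) : Dual2.Independent f := by
  set f' := Function.update f (Fin.last r) (f (Fin.last r) * g) with hf'
  have hc : ∀ i : Fin r, f' i.castSucc = f i.castSucc := by
    intro i
    rw [hf', Function.update_of_ne (Fin.castSucc_lt_last i).ne]
  have hl : f' (Fin.last r) = f (Fin.last r) * g := by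
    rw [hf', Function.update_self]
  have hle : Ideal.span (Set.range f') ≤ Ideal.span (Set.range f) := by
    rw [Ideal.span_le]
    rintro _ ⟨i, rfl⟩
    refine Fin.lastCases ?_ (fun j => ?_) i
    · rw [hl]
      exact Ideal.mul_mem_right _ _ (Ideal.subset_span ⟨_, rfl⟩)
    · rw [hc]
      exact Ideal.subset_span ⟨_, rfl⟩
  intro a ha
  rw [Fin.sum_univ_castSucc] at ha
  have h1 : a (Fin.last r) ∈ Ideal.span (Set.range f') := by
    have := h (Function.update (fun i => a i * g) (Fin.last r) (a (Fin.last r))) (by
      rw [Fin.sum_univ_castSucc, Function.update_self, hl]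
      have : ∀ i : Fin r, Function.update (fun i => a i * g) (Fin.last r) (a (Fin.last r)) i.castSucc
          * f' i.castSucc = g * (a i.castSucc * f i.castSucc) := by
        intro i
        rw [Function.update_of_ne (Fin.castSucc_lt_last i).ne, hc]
        ring
      rw [Finset.sum_congr rfl (fun i _ => this i), ← Finset.mul_sum]
      have e : a (Fin.last r) * (f (Fin.last r) * g) = g * (a (Fin.last r) * f (Fin.last r)) := by
        ring
      rw [e, ← mul_add, ha, mul_zero]) (Fin.last r)
    rwa [Function.update_self] at this
  obtain ⟨b, hb⟩ := (Ideal.mem_span_range_iff_exists_fun).mp h1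
  rw [Fin.sum_univ_castSucc, hl] at hb
  have h2 := h (Function.update (fun i => a i + b i * f (Fin.last r)) (Fin.last r)
    (b (Fin.last r) * f (Fin.last r))) (by
      rw [Fin.sum_univ_castSucc, Function.update_self, hl]
      have : ∀ i : Fin r, Function.update (fun i => a i + b i * f (Fin.last r)) (Fin.last r)
          (b (Fin.last r) * f (Fin.last r)) i.castSucc * f' i.castSucc =
          a i.castSucc * f i.castSucc + f (Fin.last r) * (b i.castSucc * f' i.castSucc) := by
        intro i
        rw [Function.update_of_ne (Fin.castSucc_lt_last i).ne, hc]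
        ring
      rw [Finset.sum_congr rfl (fun i _ => this i), Finset.sum_add_distrib, ← Finset.mul_sum]
      have e : b (Fin.last r) * f (Fin.last r) * (f (Fin.last r) * g) =
          f (Fin.last r) * (b (Fin.last r) * (f (Fin.last r) * g)) := by ring
      rw [e, add_assoc, ← mul_add, hb, mul_comm (f (Fin.last r)), ha])
  intro i
  refine Fin.lastCases ?_ (fun j => ?_) i
  · exact hle h1
  · have h3 := hle (h2 j.castSucc)
    rw [Function.update_of_ne (Fin.castSucc_lt_last j).ne] at h3
    have h4 : b j.castSucc * f (Fin.last r) ∈ Ideal.span (Set.range f) :=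
      Ideal.mul_mem_left _ _ (Ideal.subset_span ⟨_, rfl⟩)
    have := Ideal.sub_mem _ h3 h4
    rwa [add_sub_cancel_right] at this

end Groth.Agent.S1733
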