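import Groth.Statements.S17332
import Mathlib

set_option autoImplicit false
universe u v w
open CAlg

namespace Groth.Agent.S17332

/-- Let k be a field, E and F finite sets, and O(E), O(F) the k-algebras of k-valued functions with
pointwise operations. Then every k-algebra homomorphism u : O(F) → O(E) is pull-back along a unique
map φ : E → F, i.e. u(g) = g ∘ φ for all g. (In the source k is algebraically closed; the printed
argument only uses that k is a field.) -/
theorem result (k : Type u) [Field k] (E : Type v) [Finite E]
    (F : Type w) [Finite F] (u : (F → k) →ₐ[k] (E → k)) :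
    ∃! φ : E → F, ∀ g : F → k, u g = g ∘ φ := by
  classical
  have : Fintype F := Fintype.ofFinite F
  have key : ∀ e : E, ∃ f0 : F, ∀ g : F → k, u g e = g f0 := by
    intro e
    have h1 : ∑ f : F, u (Pi.single f (1 : k)) e = 1 := by
      have : u (∑ f : F, Pi.single f (1 : k)) e = 1 := by
        rw [Finset.univ_sum_single]
        have h1' : (fun _ : F => (1 : k)) = 1 := rfl
        rw [h1', map_one]
        rfl
      rw [map_sum, Finset.sum_apply] at this
      exact this
    have h2 : ∃ f0 : F, u (Pi.single f0 (1 : k)) e ≠ 0 := by
      by_contra hcon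
      simp only [not_exists, not_not] at hcon
      rw [Finset.sum_eq_zero (fun f _ => hcon f)] at h1
      exact zero_ne_one h1
    obtain ⟨f0, hf0⟩ := h2
    refine ⟨f0, fun g => ?_⟩
    have h3 : g * Pi.single f0 (1 : k) = g f0 • Pi.single f0 (1 : k) := by
      funext x
      by_cases hx : x = f0
      · subst hx
        simp
      · simp [Pi.single_eq_of_ne hx]
    have h4 := congrArg (fun w => u w e) h3
    simp only [map_mul, map_smul, Pi.mul_apply, Pi.smul_apply, smul_eq_mul] at h4
    exact mul_right_cancel₀ hf0 h4
  choose φ hφ using key
  refine ⟨φ, fun g => funext fun e => hφ e g, ?_⟩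
  intro ψ hψ
  funext e
  have h5 := congrFun (hψ (Pi.single (φ e) (1 : k))) e
  rw [hφ e] at h5
  simp only [Pi.single_eq_same, Function.comp_apply] at h5
  by_contra hne
  rw [Pi.single_eq_of_ne hne] at h5
  exact one_ne_zero h5

end Groth.Agent.S17332
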