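import Groth.Statements.S17334
import Mathlib.RingTheory.Artinian.Ring
import Mathlib.RingTheory.Artinian.Algebra
import Mathlib.RingTheory.LocalRing.Basic
import Mathlib.RingTheory.Nilpotent.Basic

set_option autoImplicit false
universe u v
open CAlg

namespace Groth.Agent.S17334

/-- Let k be a field and A a nonzero commutative k-algebra which is finite-dimensional as a k-vector
space. Then A is indecomposable (no decomposition as a product of two nonzero rings, i.e. no
idempotent other than 0 and 1) if and only if A is a local ring. (In the source k is algebraically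
closed and the lemma adds that the maximal ideal is then the nilradical, is nilpotent, and has
residue field k; the equivalence itself uses only that k is a field, and the zero algebra is
excluded here explicitly.) -/
theorem result (k : Type u) [Field k]
    (A : Type v) [CommRing A] [Algebra k A] [Module.Finite k A] [Nontrivial A] :
    (∀ e : A, IsIdempotentElem e → e = 0 ∨ e = 1) ↔ IsLocalRing A := by
  constructor
  · intro h
    have : IsArtinianRing A := IsArtinianRing.of_finite k A
    refine IsLocalRing.of_isUnit_or_isUnit_one_sub_self fun a => ?_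
    let f : ℕ →o (Ideal A)ᵒᵈ :=
      ⟨fun n => OrderDual.toDual (Ideal.span {a ^ n}), fun m n hmn => by
        show Ideal.span {a ^ n} ≤ Ideal.span {a ^ m}
        rw [Ideal.span_singleton_le_span_singleton]
        exact pow_dvd_pow a hmn⟩
    obtain ⟨n, hn⟩ := IsArtinian.monotone_stabilizes f
    have h1 : Ideal.span {a ^ (n + 1)} = Ideal.span {a ^ (2 * (n + 1))} := by
      have e1 := hn (n + 1) (by omega)
      have e2 := hn (2 * (n + 1)) (by omega)
      have e3 : f (n + 1) = f (2 * (n + 1)) := e1.symm.trans e2
      exact congrArg OrderDual.ofDual e3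
    have h2 : a ^ (n + 1) ∈ Ideal.span {a ^ (2 * (n + 1))} := by
      rw [← h1]
      exact Ideal.mem_span_singleton_self _
    obtain ⟨c, hc⟩ := Ideal.mem_span_singleton'.1 h2
    have hc' : a ^ (n + 1) * (a ^ (n + 1) * c) = a ^ (n + 1) := by
      calc a ^ (n + 1) * (a ^ (n + 1) * c) = c * a ^ (2 * (n + 1)) := by ring
        _ = a ^ (n + 1) := hc
    have he : IsIdempotentElem (a ^ (n + 1) * c) := by
      show a ^ (n + 1) * c * (a ^ (n + 1) * c) = a ^ (n + 1) * c
      calc a ^ (n + 1) * c * (a ^ (n + 1) * c) = (a ^ (n + 1) * (a ^ (n + 1) * c)) * c := by ring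
        _ = a ^ (n + 1) * c := by rw [hc']
    rcases h _ he with h0 | h1'
    · right
      have : a ^ (n + 1) = 0 := by rw [← hc', h0, mul_zero]
      exact IsNilpotent.isUnit_one_sub ⟨n + 1, this⟩
    · left
      refine IsUnit.of_mul_eq_one (a ^ n * c) ?_
      rw [← h1']
      ring
  · intro h e he
    rcases IsLocalRing.isUnit_or_isUnit_one_sub_self e with hu | hu
    · right
      have : e * e = e * 1 := by rw [mul_one]; exact he
      exact hu.mul_left_cancel this
    · left
      have : (1 - e) * e = (1 - e) * 0 := by
        rw [mul_zero, sub_mul, one_mul, he.eq, sub_self]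
      exact hu.mul_left_cancel this

end Groth.Agent.S17334
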