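import Groth.Statements.S17336
import Groth.Agent.Lib.Helper55.FinAlgSection

set_option autoImplicit false
universe u v
open CAlg

namespace Groth.Agent.S17336

/-- Let k be an algebraically closed field and A a commutative k-algebra which is finite-dimensional as
a k-vector space (a finite scheme X = Spec A with largest reduced subscheme X_red = Spec
(A/nilradical A) and immersion i : X_red → X). Then there is a unique morphism r : X → X_red with r
∘ i = id; on rings: the projection A → A/nilradical(A) admits exactly one section that is a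
k-algebra homomorphism. -/
theorem result (k : Type u) [Field k]
    [IsAlgClosed k] (A : Type v) [CommRing A] [Algebra k A] [Module.Finite k A] :
    ∃! s : (A ⧸ nilradical A) →ₐ[k] A,
      (Ideal.Quotient.mkₐ k (nilradical A)).comp s = AlgHom.id k (A ⧸ nilradical A) := by
  classical
  have hfin := Groth.Agent.Lib.Helper55.FinAlg.finite_algHom k A
  letI : Fintype (A →ₐ[k] k) := Fintype.ofFinite _
  set ev : A →ₐ[k] ((A →ₐ[k] k) → k) := AlgHom.pi (R := k) (fun f : A →ₐ[k] k => f) with hev
  have hker : RingHom.ker ev = nilradical A := Groth.Agent.Lib.Helper55.FinAlg.ker_pi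
  have hsurj : Function.Surjective ev := Groth.Agent.Lib.Helper55.FinAlg.pi_surjective
  have hnil : ∀ x ∈ RingHom.ker (ev : A →+* ((A →ₐ[k] k) → k)), IsNilpotent x := by
    intro x hx
    have : x ∈ RingHom.ker ev := hx
    rw [hker] at this
    exact this
  obtain ⟨e, he, hee⟩ := CompleteOrthogonalIdempotents.lift_of_isNilpotent_ker
    (ev : A →+* ((A →ₐ[k] k) → k)) hnil
    (CompleteOrthogonalIdempotents.single (fun _ : A →ₐ[k] k => k)) (fun i => hsurj _)
  have hev_e : ∀ f, ev (e f) = Pi.single f 1 := fun f => congrFun hee f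
  let s₀ : ((A →ₐ[k] k) → k) →ₐ[k] A := Groth.Agent.Lib.Helper55.FinAlg.sumAlgHom e he
  have hs₀ : ∀ t, s₀ t = ∑ i, t i • e i :=
    Groth.Agent.Lib.Helper55.FinAlg.sumAlgHom_apply e he
  have hev_s₀ : ∀ t, ev (s₀ t) = t := by
    intro t
    rw [hs₀, map_sum]
    simp only [map_smul, hev_e]
    ext g
    simp [Finset.sum_apply, Pi.single_apply]
  have hmem : ∀ a, s₀ (ev a) - a ∈ nilradical A := by
    intro a
    rw [← hker, RingHom.mem_ker, map_sub, hev_s₀, sub_self]
  let evq : (A ⧸ nilradical A) →ₐ[k] ((A →ₐ[k] k) → k) :=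
    Ideal.Quotient.liftₐ (nilradical A) ev (fun a ha => by
      rw [← hker] at ha
      exact ha)
  have hevq : ∀ a, evq (Ideal.Quotient.mk (nilradical A) a) = ev a := fun a => rfl
  refine ⟨s₀.comp evq, ?_, ?_⟩
  · ext x
    obtain ⟨a, rfl⟩ := Ideal.Quotient.mk_surjective x
    simp only [AlgHom.coe_comp, Function.comp_apply, hevq, Ideal.Quotient.mkₐ_eq_mk,
      AlgHom.coe_id, id_eq]
    rw [Ideal.Quotient.eq]
    exact hmem a
  · intro s' hs'
    have hs'1 : ∀ x, Ideal.Quotient.mk (nilradical A) (s' x) = x := fun x =>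
      congrArg (fun φ : (A ⧸ nilradical A) →ₐ[k] (A ⧸ nilradical A) => φ x) hs'
    have hidem : ∀ f, s' (Ideal.Quotient.mk (nilradical A) (e f)) = e f := by
      intro f
      apply eq_of_isNilpotent_sub_of_isIdempotentElem
      · exact ((he.idem f).map (Ideal.Quotient.mk (nilradical A))).map s'
      · exact he.idem f
      · have := hs'1 (Ideal.Quotient.mk (nilradical A) (e f))
        rw [Ideal.Quotient.eq] at this
        exact this
    ext x
    obtain ⟨a, rfl⟩ := Ideal.Quotient.mk_surjective x
    have hx : Ideal.Quotient.mk (nilradical A) a =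
        ∑ f, (ev a f) • Ideal.Quotient.mk (nilradical A) (e f) := by
      have h1 : Ideal.Quotient.mk (nilradical A) a =
          Ideal.Quotient.mk (nilradical A) (s₀ (ev a)) := by
        rw [eq_comm, Ideal.Quotient.eq]
        exact hmem a
      rw [h1, hs₀, map_sum]
      refine Finset.sum_congr rfl fun f _ => ?_
      rw [← Ideal.Quotient.mkₐ_eq_mk k, map_smul]
    simp only [AlgHom.coe_comp, Function.comp_apply, hevq]
    rw [hx, map_sum, hs₀]
    refine Finset.sum_congr rfl fun f _ => ?_
    rw [map_smul, hidem]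

end Groth.Agent.S17336
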