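import Groth.Statements.S17337
import Mathlib
import Groth.Agent.Lib.Helper66.RUEA

set_option autoImplicit false
universe u v
open PLie

namespace Groth.Agent.S17337

open Groth.Agent.Lib.Helper66.RPBW
attribute [local instance] LieRing.ofAssociativeRing

/-- Let k be a field of characteristic p > 0 and (L, x ↦ x^[p]) a finite-dimensional restricted Lie
algebra over k. Then L is isomorphic to a restricted Lie subalgebra of gl_n(k) for some n: there is
an injective k-linear map e : L → M_n(k) with e[x, y] = e(x)e(y) − e(y)e(x) and e(x^[p]) = e(x)^p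
for all x, y. (The published statement takes k algebraically closed; this row takes any field of
characteristic p.) -/
theorem result (k : Type u) [Field k] (p : ℕ) [Fact p.Prime] [CharP k p]
    (L : Type v) [LieRing L] [LieAlgebra k L] [Module.Finite k L] (φ : PLie.PMap k p L) :
    ∃ (n : ℕ) (e : L →ₗ[k] Matrix (Fin n) (Fin n) k), PLie.IsPSubOfAssoc φ e := by
  classical
  let b := Module.finBasis k L
  let B := Module.finBasis k (RU b φ)
  let lm : RU b φ →ₐ[k] Matrix (Fin (Module.finrank k (RU b φ))) (Fin (Module.finrank k (RU b φ))) k :=
    Algebra.leftMulMatrix B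
  refine ⟨Module.finrank k (RU b φ), lm.toLinearMap.comp (ιu b φ : L →ₗ[k] RU b φ), ?_, ?_, ?_⟩
  · intro x y h
    exact ιu_injective b φ (Algebra.leftMulMatrix_injective B h)
  · intro x y
    simp only [LinearMap.coe_comp, Function.comp_apply, AlgHom.toLinearMap_apply, LieHom.coe_toLinearMap]
    rw [LieHom.map_lie, LieRing.of_associative_ring_bracket, map_sub, map_mul, map_mul]
  · intro x
    simp only [LinearMap.coe_comp, Function.comp_apply, AlgHom.toLinearMap_apply, LieHom.coe_toLinearMap]
    rw [← map_pow, ιu_pow]

end Groth.Agent.S17337
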