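import Groth.Statements.S1734

set_option autoImplicit false
universe u
open LocCoh

namespace Groth.Agent.S1734

theorem result (A : Type u) [CommRing A] (r : ℕ) (f : Fin (r + 1) → A) (g : A) (h : Dual2.Independent (Function.update f (Fin.last r) (f (Fin.last r) * g))) (hfin : IsFiniteLength A (A ⧸ Ideal.span (Set.range (Function.update f (Fin.last r) (f (Fin.last r) * g))))) : Module.length A (A ⧸ Ideal.span (Set.range (Function.update f (Fin.last r) (f (Fin.last r) * g)))) = Module.length A (A ⧸ Ideal.span (Set.range f)) + Module.length A (A ⧸ Ideal.span (Set.range (Function.update f (Fin.last r) g))) := by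
  set f' := Function.update f (Fin.last r) (f (Fin.last r) * g) with hf'
  set f'' := Function.update f (Fin.last r) g with hf''
  have hc : ∀ i : Fin r, f' i.castSucc = f i.castSucc := by
    intro i
    rw [hf', Function.update_of_ne (Fin.castSucc_lt_last i).ne]
  have hl : f' (Fin.last r) = f (Fin.last r) * g := by
    rw [hf', Function.update_self]
  have hc'' : ∀ i : Fin r, f'' i.castSucc = f i.castSucc := by
    intro i
    rw [hf'', Function.update_of_ne (Fin.castSucc_lt_last i).ne]
  have hl'' : f'' (Fin.last r) = g := by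
    rw [hf'', Function.update_self]
  have hle : Ideal.span (Set.range f') ≤ Ideal.span (Set.range f) := by
    rw [Ideal.span_le]
    rintro _ ⟨i, rfl⟩
    refine Fin.lastCases ?_ (fun j => ?_) i
    · rw [hl]
      exact Ideal.mul_mem_right _ _ (Ideal.subset_span ⟨_, rfl⟩)
    · rw [hc]
      exact Ideal.subset_span ⟨_, rfl⟩
  have hle'' : Ideal.span (Set.range f') ≤ Ideal.span (Set.range f'') := by
    rw [Ideal.span_le]
    rintro _ ⟨i, rfl⟩
    refine Fin.lastCases ?_ (fun j => ?_) i
    · rw [hl, ← hl'']
      exact Ideal.mul_mem_left _ _ (Ideal.subset_span ⟨_, rfl⟩)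
    · rw [hc, ← hc'']
      exact Ideal.subset_span ⟨_, rfl⟩
  have hmul : Ideal.span (Set.range f'') ≤
      Submodule.comap (LinearMap.mulLeft A (f (Fin.last r))) (Ideal.span (Set.range f')) := by
    rw [Ideal.span_le]
    rintro _ ⟨i, rfl⟩
    change f (Fin.last r) * f'' i ∈ Ideal.span (Set.range f')
    refine Fin.lastCases ?_ (fun j => ?_) i
    · rw [hl'', ← hl]
      exact Ideal.subset_span ⟨_, rfl⟩
    · rw [hc'', ← hc]
      exact Ideal.mul_mem_left _ _ (Ideal.subset_span ⟨_, rfl⟩)
  let φ : (A ⧸ Ideal.span (Set.range f'')) →ₗ[A] (A ⧸ Ideal.span (Set.range f')) :=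
    Submodule.mapQ _ _ (LinearMap.mulLeft A (f (Fin.last r))) hmul
  let ψ : (A ⧸ Ideal.span (Set.range f')) →ₗ[A] (A ⧸ Ideal.span (Set.range f)) :=
    Submodule.mapQ _ _ LinearMap.id hle
  have hφ : ∀ x : A, φ (Submodule.Quotient.mk x) = Submodule.Quotient.mk (f (Fin.last r) * x) :=
    fun x => rfl
  have hψ : ∀ x : A, ψ (Submodule.Quotient.mk x) = Submodule.Quotient.mk x := fun x => rfl
  have hinj : Function.Injective φ := by
    rw [← LinearMap.ker_eq_bot, Submodule.eq_bot_iff]
    intro y hy
    obtain ⟨x, rfl⟩ := Submodule.Quotient.mk_surjective _ y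
    rw [LinearMap.mem_ker, hφ, Submodule.Quotient.mk_eq_zero] at hy
    rw [Submodule.Quotient.mk_eq_zero]
    obtain ⟨c, hcx⟩ := (Ideal.mem_span_range_iff_exists_fun).mp hy
    rw [Fin.sum_univ_castSucc, hl] at hcx
    have h2 := h (Function.update (fun i => c i * g) (Fin.last r)
      (c (Fin.last r) * g - x)) (by
        rw [Fin.sum_univ_castSucc, Function.update_self, hl]
        have : ∀ i : Fin r, Function.update (fun i => c i * g) (Fin.last r)
            (c (Fin.last r) * g - x) i.castSucc * f' i.castSucc =
            g * (c i.castSucc * f' i.castSucc) := by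
          intro i
          rw [Function.update_of_ne (Fin.castSucc_lt_last i).ne]
          ring
        rw [Finset.sum_congr rfl (fun i _ => this i), ← Finset.mul_sum]
        have e : (c (Fin.last r) * g - x) * (f (Fin.last r) * g) =
            g * (c (Fin.last r) * (f (Fin.last r) * g) - f (Fin.last r) * x) := by ring
        rw [e, ← mul_add, ← add_sub_assoc, hcx, sub_self, mul_zero]) (Fin.last r)
    rw [Function.update_self] at h2
    have h3 := hle'' h2
    have h4 : c (Fin.last r) * g ∈ Ideal.span (Set.range f'') := by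
      rw [← hl'']
      exact Ideal.mul_mem_left _ _ (Ideal.subset_span ⟨_, rfl⟩)
    have := Ideal.sub_mem _ h4 h3
    rwa [sub_sub_cancel] at this
  have hsurj : Function.Surjective ψ := by
    intro y
    obtain ⟨x, rfl⟩ := Submodule.Quotient.mk_surjective _ y
    exact ⟨Submodule.Quotient.mk x, hψ x⟩
  have hex : Function.Exact φ ψ := by
    intro y
    obtain ⟨x, rfl⟩ := Submodule.Quotient.mk_surjective _ y
    rw [hψ, Submodule.Quotient.mk_eq_zero]
    constructor
    · intro hx
      obtain ⟨c, hcx⟩ := (Ideal.mem_span_range_iff_exists_fun).mp hx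
      rw [Fin.sum_univ_castSucc] at hcx
      refine ⟨Submodule.Quotient.mk (c (Fin.last r)), ?_⟩
      rw [hφ, Submodule.Quotient.eq, ← hcx]
      have e : f (Fin.last r) * c (Fin.last r) - (∑ i : Fin r, c i.castSucc * f i.castSucc +
          c (Fin.last r) * f (Fin.last r)) = - ∑ i : Fin r, c i.castSucc * f' i.castSucc := by
        simp only [hc]
        ring
      rw [e]
      apply Ideal.neg_mem_iff _ |>.mpr
      apply Ideal.sum_mem
      intro i _
      exact Ideal.mul_mem_left _ _ (Ideal.subset_span ⟨_, rfl⟩)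
    · rintro ⟨z, hz⟩
      obtain ⟨w, rfl⟩ := Submodule.Quotient.mk_surjective _ z
      rw [hφ, Submodule.Quotient.eq] at hz
      have h5 : f (Fin.last r) * w ∈ Ideal.span (Set.range f) :=
        Ideal.mul_mem_right _ _ (Ideal.subset_span ⟨_, rfl⟩)
      have := Ideal.sub_mem _ h5 (hle hz)
      rwa [sub_sub_cancel] at this
  rw [Module.length_eq_add_of_exact φ ψ hinj hsurj hex, add_comm]

end Groth.Agent.S1734
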