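import Groth.Statements.S17360
import Mathlib.Data.Sym.Card
import Mathlib.LinearAlgebra.Dimension.Constructions
import Mathlib.LinearAlgebra.Dimension.StrongRankCondition
import Mathlib.RingTheory.Flat.Basic
import Mathlib.Tactic
-- import your own Groth.Agent.* helpers here

set_option autoImplicit false
universe u
open scoped TensorProduct
open AzInv

namespace Groth.Agent.S17360


section helpers

variable {R : Type u} [CommRing R]

/-- symmetric functions on pairs, as symmetric matrices -/
def alpha (ι : Type) [Fintype ι] [DecidableEq ι] : (Sym2 ι → R) →ₗ[R] Matrix ι ι R where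
  toFun g := Matrix.of fun i j => g s(i, j)
  map_add' _ _ := rfl
  map_smul' _ _ := rfl

theorem alpha_apply (ι : Type) [Fintype ι] [DecidableEq ι] (g : Sym2 ι → R) (i j : ι) :
    alpha ι g i j = g s(i, j) := rfl

theorem alpha_injective (ι : Type) [Fintype ι] [DecidableEq ι] :
    Function.Injective (alpha (R := R) ι) := by
  intro g h hgh
  funext s
  induction s using Sym2.ind with
  | _ i j => exact congrFun (congrFun hgh i) j

theorem alpha_symm (ι : Type) [Fintype ι] [DecidableEq ι] (g : Sym2 ι → R) (i j : ι) :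
    alpha ι g j i = alpha ι g i j := by
  simp only [alpha_apply, Sym2.eq_swap]

/-- the 2x2 block of a symmetric function on `(Fin n' × Fin 2)` -/
def blk (n' : ℕ) (g : Sym2 (Fin n' × Fin 2) → R) (i j : Fin n') : Matrix (Fin 2) (Fin 2) R :=
  Matrix.of fun k l => g s((i, k), (j, l))

theorem blk_transpose (n' : ℕ) (g : Sym2 (Fin n' × Fin 2) → R) (i j : Fin n') :
    (blk n' g j i).transpose = blk n' g i j := by
  ext k l
  simp only [blk, Matrix.transpose_apply, Matrix.of_apply, Sym2.eq_swap]

/-- symmetric functions on pairs of `Fin n' × Fin 2`, as block matrices `Z * J` -/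
def beta (n' : ℕ) (J : Matrix (Fin 2) (Fin 2) R) :
    (Sym2 (Fin n' × Fin 2) → R) →ₗ[R] Matrix (Fin n') (Fin n') (Matrix (Fin 2) (Fin 2) R) where
  toFun g := Matrix.of fun i j => blk n' g i j * J
  map_add' g h := by
    ext i j k l
    simp only [Matrix.of_apply, Matrix.add_apply, Matrix.mul_apply, blk, Pi.add_apply, add_mul,
      Finset.sum_add_distrib]
  map_smul' r g := by
    ext i j k l
    simp only [Matrix.of_apply, Matrix.smul_apply, Matrix.mul_apply, blk, Pi.smul_apply,
      smul_eq_mul, RingHom.id_apply, Finset.mul_sum, mul_assoc]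

theorem beta_apply (n' : ℕ) (J : Matrix (Fin 2) (Fin 2) R) (g : Sym2 (Fin n' × Fin 2) → R)
    (i j : Fin n') : beta n' J g i j = blk n' g i j * J := rfl

theorem beta_injective (n' : ℕ) (J : (Matrix (Fin 2) (Fin 2) R)ˣ) :
    Function.Injective (beta (R := R) n' (↑J : Matrix (Fin 2) (Fin 2) R)) := by
  intro g h hgh
  funext s
  induction s using Sym2.ind with
  | _ a b =>
    obtain ⟨i, k⟩ := a
    obtain ⟨j, l⟩ := b
    have h1 : blk n' g i j * (↑J : Matrix (Fin 2) (Fin 2) R) =
        blk n' h i j * (↑J : Matrix (Fin 2) (Fin 2) R) := by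
      have := congrFun (congrFun hgh i) j
      simpa only [beta_apply] using this
    have h2 : blk n' g i j = blk n' h i j := by
      have := congrArg (fun M => M * (↑J⁻¹ : Matrix (Fin 2) (Fin 2) R)) h1
      simpa only [mul_assoc, Units.mul_inv, mul_one] using this
    exact congrFun (congrFun h2 k) l

theorem J_mul_transpose (J : Matrix (Fin 2) (Fin 2) R)
    (hJ : J = Matrix.of ![![0, -1], ![1, 0]]) : J * J.transpose = 1 := by
  subst hJ
  ext i j
  fin_cases i <;> fin_cases j <;> simp [Matrix.mul_apply, Fin.sum_univ_two]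

theorem J_inv (J : (Matrix (Fin 2) (Fin 2) R)ˣ)
    (hJ : (↑J : Matrix (Fin 2) (Fin 2) R) = Matrix.of ![![0, -1], ![1, 0]]) :
    (↑J⁻¹ : Matrix (Fin 2) (Fin 2) R) = -(↑J : Matrix (Fin 2) (Fin 2) R) := by
  apply Units.inv_eq_of_mul_eq_one_right
  rw [hJ]
  ext i j
  fin_cases i <;> fin_cases j <;> simp [Matrix.mul_apply, Fin.sum_univ_two]

theorem t_alpha (hlam : ∀ r : R, (AlgEquiv.refl : R ≃ₐ[R] R) ((AlgEquiv.refl : R ≃ₐ[R] R) r) = r)
    (n : ℕ) (g : Sym2 (Fin n) → R) :
    (AzInv.LamInv.self (AlgEquiv.refl : R ≃ₐ[R] R) hlam).matrix (Fin n) (alpha (Fin n) g) =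
      alpha (Fin n) g := by
  ext i j
  rw [AzInv.LamInv.matrix_apply, AzInv.LamInv.self_apply, alpha_symm]
  rfl

theorem t_beta (hlam : ∀ r : R, (AlgEquiv.refl : R ≃ₐ[R] R) ((AlgEquiv.refl : R ≃ₐ[R] R) r) = r)
    (J : (Matrix (Fin 2) (Fin 2) R)ˣ)
    (hJ : (↑J : Matrix (Fin 2) (Fin 2) R) = Matrix.of ![![0, -1], ![1, 0]])
    (hJt : AzInv.LamInv.transpose (AlgEquiv.refl : R ≃ₐ[R] R) (Fin 2) hlam
      (↑J : Matrix (Fin 2) (Fin 2) R) = (-1 : R) • (↑J : Matrix (Fin 2) (Fin 2) R))
    (hneg : (AlgEquiv.refl : R ≃ₐ[R] R) (-1) * (-1) = 1)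
    (n' : ℕ) (g : Sym2 (Fin n' × Fin 2) → R) :
    ((AzInv.LamInv.transpose (AlgEquiv.refl : R ≃ₐ[R] R) (Fin 2) hlam).conj J (-1) hJt hneg).matrix
      (Fin n') (beta n' (↑J : Matrix (Fin 2) (Fin 2) R) g) =
      -beta n' (↑J : Matrix (Fin 2) (Fin 2) R) g := by
  ext i j : 1
  rw [AzInv.LamInv.matrix_apply, AzInv.LamInv.conj_apply, Matrix.neg_apply, beta_apply, beta_apply]
  have htr : ∀ X : Matrix (Fin 2) (Fin 2) R,
      AzInv.LamInv.transpose (AlgEquiv.refl : R ≃ₐ[R] R) (Fin 2) hlam X = X.transpose := by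
    intro X
    ext k l
    rfl
  rw [htr, Matrix.transpose_mul, blk_transpose, J_inv J hJ, ← mul_assoc,
    J_mul_transpose _ hJ, one_mul, mul_neg]

end helpers

/-- Let `R` be a nontrivial commutative ring in which `2` is a unit, with the trivial involution. This
row states the second half of the count of types: the identity of `R` (the orthogonal type) and the
standard symplectic involution `x ↦ J xᵀ J⁻¹` of the `2 × 2` matrix algebra, `J` the matrix with
rows `(0, -1)` and `(1, 0)`, do not have the same type, i.e. for no positive sizes do the matrix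
algebras over `R` with the transpose and over `M_2(R)` with the involution induced by the symplectic
one become isomorphic as `R`-algebras with involution after an etale faithfully flat base change of
`R`. (The source states that the monoid of types is isomorphic to the group of global square roots
of `1`, for a locally ringed topos with trivial involution and `2` invertible; the row is the affine
case.) -/
theorem result (R : Type u) [CommRing R] (hlam : ∀ r : R, (AlgEquiv.refl : R ≃ₐ[R] R) ((AlgEquiv.refl : R ≃ₐ[R] R) r) = r)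
    [Nontrivial R] (h2 : IsUnit (2 : R))
    (J : (Matrix (Fin 2) (Fin 2) R)ˣ) (hJ : (↑J : Matrix (Fin 2) (Fin 2) R) = Matrix.of ![![0, -1], ![1, 0]])
    (hJt : AzInv.LamInv.transpose (AlgEquiv.refl : R ≃ₐ[R] R) (Fin 2) hlam (↑J : Matrix (Fin 2) (Fin 2) R) = (-1 : R) • (↑J : Matrix (Fin 2) (Fin 2) R))
    (hneg : (AlgEquiv.refl : R ≃ₐ[R] R) (-1) * (-1) = 1) :
    ¬ AzInv.SameType R (AlgEquiv.refl : R ≃ₐ[R] R) (AzInv.LamInv.self (AlgEquiv.refl : R ≃ₐ[R] R) hlam) ((AzInv.LamInv.transpose (AlgEquiv.refl : R ≃ₐ[R] R) (Fin 2) hlam).conj J (-1) hJt hneg) := by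
  rintro ⟨n, n', hn, hn', S', _, _, _, hff, f, -, hfT⟩
  have hntS : Nontrivial S' :=
    (TensorProduct.rid R S').symm.toEquiv.nontrivial
  have h2S : IsUnit (2 : S') := by
    have := h2.map (algebraMap R S')
    rwa [map_ofNat] at this
  have ha : Function.Injective ((alpha (R := R) (Fin n)).baseChange S') :=
    Module.Flat.lTensor_preserves_injective_linearMap _ (alpha_injective _)
  have hb : Function.Injective
      ((beta (R := R) n' (↑J : Matrix (Fin 2) (Fin 2) R)).baseChange S') :=
    Module.Flat.lTensor_preserves_injective_linearMap _ (beta_injective _ J)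
  have hTa : ∀ x, ((AzInv.LamInv.self (AlgEquiv.refl : R ≃ₐ[R] R) hlam).matrix (Fin n)).bc R
      (AlgEquiv.refl : R ≃ₐ[R] R) S' ((alpha (R := R) (Fin n)).baseChange S' x) =
      (alpha (R := R) (Fin n)).baseChange S' x := by
    intro x
    have hc : (((AzInv.LamInv.self (AlgEquiv.refl : R ≃ₐ[R] R) hlam).matrix (Fin n)).linS R
        (AlgEquiv.refl : R ≃ₐ[R] R)) ∘ₗ alpha (R := R) (Fin n) = alpha (R := R) (Fin n) := by
      apply LinearMap.ext
      intro g
      exact t_alpha hlam n g
    change ((((AzInv.LamInv.self (AlgEquiv.refl : R ≃ₐ[R] R) hlam).matrix (Fin n)).linS R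
        (AlgEquiv.refl : R ≃ₐ[R] R)).baseChange S' ∘ₗ (alpha (R := R) (Fin n)).baseChange S') x = _
    rw [← LinearMap.baseChange_comp, hc]
  have hTb : ∀ y, (((AzInv.LamInv.transpose (AlgEquiv.refl : R ≃ₐ[R] R) (Fin 2) hlam).conj J (-1)
      hJt hneg).matrix (Fin n')).bc R (AlgEquiv.refl : R ≃ₐ[R] R) S'
      ((beta (R := R) n' (↑J : Matrix (Fin 2) (Fin 2) R)).baseChange S' y) =
      -(beta (R := R) n' (↑J : Matrix (Fin 2) (Fin 2) R)).baseChange S' y := by
    intro y
    have hc : ((((AzInv.LamInv.transpose (AlgEquiv.refl : R ≃ₐ[R] R) (Fin 2) hlam).conj J (-1)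
        hJt hneg).matrix (Fin n')).linS R (AlgEquiv.refl : R ≃ₐ[R] R)) ∘ₗ
        beta (R := R) n' (↑J : Matrix (Fin 2) (Fin 2) R) =
        -beta (R := R) n' (↑J : Matrix (Fin 2) (Fin 2) R) := by
      apply LinearMap.ext
      intro g
      exact t_beta hlam J hJ hJt hneg n' g
    change (((((AzInv.LamInv.transpose (AlgEquiv.refl : R ≃ₐ[R] R) (Fin 2) hlam).conj J (-1)
        hJt hneg).matrix (Fin n')).linS R (AlgEquiv.refl : R ≃ₐ[R] R)).baseChange S' ∘ₗ
        (beta (R := R) n' (↑J : Matrix (Fin 2) (Fin 2) R)).baseChange S') y = _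
    rw [← LinearMap.baseChange_comp, hc, LinearMap.baseChange_neg]
    rfl
  let Φ : (S' ⊗[R] (Sym2 (Fin n) → R)) × (S' ⊗[R] (Sym2 (Fin n' × Fin 2) → R)) →ₗ[S']
      S' ⊗[R] Matrix (Fin n') (Fin n') (Matrix (Fin 2) (Fin 2) R) :=
    (f.toLinearEquiv.toLinearMap ∘ₗ (alpha (R := R) (Fin n)).baseChange S').coprod
      ((beta (R := R) n' (↑J : Matrix (Fin 2) (Fin 2) R)).baseChange S')
  have hΦ : Function.Injective Φ := by
    rw [← LinearMap.ker_eq_bot, LinearMap.ker_eq_bot']
    rintro ⟨x, y⟩ hxy
    have h1 : f ((alpha (R := R) (Fin n)).baseChange S' x) +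
        (beta (R := R) n' (↑J : Matrix (Fin 2) (Fin 2) R)).baseChange S' y = 0 := hxy
    have h2' : f ((alpha (R := R) (Fin n)).baseChange S' x) -
        (beta (R := R) n' (↑J : Matrix (Fin 2) (Fin 2) R)).baseChange S' y = 0 := by
      have := congrArg ((((AzInv.LamInv.transpose (AlgEquiv.refl : R ≃ₐ[R] R) (Fin 2) hlam).conj J
        (-1) hJt hneg).matrix (Fin n')).bc R (AlgEquiv.refl : R ≃ₐ[R] R) S') h1
      rw [map_add, ← hfT, hTa, hTb, map_zero] at this
      rwa [sub_eq_add_neg]
    have h3 : (2 : S') • f ((alpha (R := R) (Fin n)).baseChange S' x) = 0 := by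
      rw [two_smul]
      have := congrArg₂ (· + ·) h1 h2'
      simpa only [add_add_sub_cancel, add_zero] using this
    have h4 : f ((alpha (R := R) (Fin n)).baseChange S' x) = 0 := h2S.smul_eq_zero.mp h3
    have hx : x = 0 := by
      apply ha
      rw [map_zero]
      exact (map_eq_zero_iff f f.injective).mp h4
    have hy : y = 0 := by
      apply hb
      rw [map_zero]
      rw [h4, zero_add] at h1
      exact h1
    rw [hx, hy]
    rfl
  have hle := LinearMap.finrank_le_finrank_of_injective hΦ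
  have heq := f.toLinearEquiv.finrank_eq
  rw [Module.finrank_prod, Module.finrank_baseChange, Module.finrank_baseChange,
    Module.finrank_baseChange, Module.finrank_pi, Module.finrank_pi, Module.finrank_matrix,
    Module.finrank_matrix, Module.finrank_self, Sym2.card, Sym2.card] at hle
  rw [Module.finrank_baseChange, Module.finrank_baseChange, Module.finrank_matrix,
    Module.finrank_matrix, Module.finrank_matrix, Module.finrank_self] at heq
  simp only [Fintype.card_fin, Fintype.card_prod, mul_one] at hle heq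
  have hnn : n = 2 * n' := by
    have : n * n = (2 * n') * (2 * n') := by rw [heq]; ring
    exact Nat.mul_self_inj.mp this
  have hc1 := Nat.add_one_mul_choose_eq n 1
  have hc2 := Nat.add_one_mul_choose_eq (n' * 2) 1
  rw [Nat.choose_one_right] at hc1 hc2
  simp only [Nat.succ_eq_add_one, Nat.reduceAdd] at hc1 hc2
  subst hnn
  nlinarith

end Groth.Agent.S17360
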