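import Groth.Statements.S17361
import Groth.Agent.Lib.Helper3.DimAdapted
import Groth.Agent.Lib.Helper3.TypeCompare2
import Groth.Agent.Lib.Helper3.RamPrimes
import Groth.Agent.Lib.Helper3.MatIsoAt
import Groth.Agent.Lib.Helper3.SameTypeIso
-- import your own Groth.Agent.* helpers here

set_option autoImplicit false
universe u v w w'
open scoped TensorProduct
open AzInv

namespace Groth.Agent.S17361

/-- Let `R` be a commutative ring with an involution `lam` whose fixed ring is exactly `S`, with `2` a
unit in `S`, and let `(A, t)` and `(A', t')` be Azumaya `R`-algebras of degrees `n, n' ≥ 1` with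
`lam`-involutions. For a prime `q` of `R` in the ramification locus, i.e. such that `lam` is the
identity modulo `q`, the involution induced by `t` on the central simple algebra `k(q) ⊗_R A` is of
the first kind, and it is orthogonal precisely when the images of the `t`-symmetric elements of `A`
span a subspace of dimension `n (n + 1) / 2` over `k(q)` (and symplectic otherwise). Then `t` and
`t'` have the same type (for some positive sizes, the matrix algebras over `A` and `A'` with the
induced involutions become isomorphic as `R`-algebras with involution after an etale faithfully flat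
base change of `S`) if and only if at every prime of the ramification locus the involutions induced
by `t` and by `t'` are both orthogonal or both symplectic. (The source states this for a good
quotient of schemes by an involution, with `2` invertible, through a locally constant sign function
on the ramification locus; the row is the affine case `Spec R → Spec S` with the signs spelled out
by dimensions of symmetric elements.) -/
theorem result (S : Type u) (R : Type v) [CommRing S] [CommRing R] [Algebra S R]
    (lam : R ≃ₐ[S] R) (hlam : ∀ r, lam (lam r) = r) (hfix : RInv.IsFixedRing S R lam.toRingEquiv)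
    (h2 : IsUnit (2 : S))
    (A : Type w) [Ring A] [Algebra S A] [Algebra R A] [IsScalarTower S R A]
    (A' : Type w') [Ring A'] [Algebra S A'] [Algebra R A'] [IsScalarTower S R A']
    (n n' : ℕ) (hn : 0 < n) (hn' : 0 < n') (hA : AzInv.IsAzumayaDeg R A n) (hA' : AzInv.IsAzumayaDeg R A' n')
    (t : AzInv.LamInv R A lam) (t' : AzInv.LamInv R A' lam) :
    AzInv.SameType S lam t t' ↔
      ∀ q : PrimeSpectrum R, (∀ r : R, lam r - r ∈ q.asIdeal) →
        (Module.finrank q.asIdeal.ResidueField
            (Submodule.span q.asIdeal.ResidueField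
              (Set.range fun a : {a : A // t a = a} => (1 : q.asIdeal.ResidueField) ⊗ₜ[R] (a : A))) = Nat.choose (n + 1) 2 ↔
          Module.finrank q.asIdeal.ResidueField
            (Submodule.span q.asIdeal.ResidueField
              (Set.range fun a : {a : A' // t' a = a} => (1 : q.asIdeal.ResidueField) ⊗ₜ[R] (a : A'))) = Nat.choose (n' + 1) 2) := by
  have hchoose : ∀ N : ℕ, Nat.choose (N + 1) 2 * 2 = (N + 1) * N := by
    intro N
    rw [Nat.choose_two_right, Nat.add_sub_cancel]
    exact Nat.div_mul_cancel (Nat.even_mul_pred_self (N + 1)).two_dvd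
  -- a symplectic dimension is never the orthogonal one
  have hne : ∀ (k d : ℕ), 0 < k * 2 → d + Nat.choose (k * 2 + 1) 2 = (k * 2) * (k * 2) →
      d ≠ Nat.choose (k * 2 + 1) 2 := by
    intro k d hk hd hEq
    have h1 := hchoose (k * 2)
    rw [hEq] at hd
    nlinarith
  constructor
  · -- same type implies equal signs
    intro h q hq
    have hram := Groth.Agent.Lib.Helper3.RamPrimes.not_qe_of_ramified lam hlam hfix q hq
    set p := PrimeSpectrum.comap (algebraMap S R) q with hp
    have d₁ := Groth.Agent.Lib.Helper3.RamDichotomy.local_dichotomy_ram lam hlam hfix h2 n hn hA t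
      p hram
    have d₂ := Groth.Agent.Lib.Helper3.RamDichotomy.local_dichotomy_ram lam hlam hfix h2 n' hn' hA'
      t' p hram
    obtain ⟨m, m', hm, hm', S₃, _, _, _, hff, g, hg1, hg2⟩ := h
    have hq₃ : p ∈ Set.range (PrimeSpectrum.comap (algebraMap S S₃)) :=
      PrimeSpectrum.comap_surjective_of_faithfullyFlat p
    haveI := p.isPrime
    have hqH : p ∈ Set.range (PrimeSpectrum.comap (algebraMap S
        (Groth.Agent.Lib.Helper3.StrictHensPrime.Hq p.asIdeal))) := by
      refine ⟨⟨IsLocalRing.maximalIdeal (Groth.Agent.Lib.Helper3.StrictHensPrime.Hq p.asIdeal),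
        inferInstance⟩, ?_⟩
      ext1
      exact Groth.Agent.Lib.Helper3.StrictHensPrime.comap_maximalIdeal p.asIdeal
    rcases d₁ with ⟨E₁, hE₁⟩ | ⟨k, hk, E₁, hE₁⟩
    · rcases d₂ with ⟨E₂, hE₂⟩ | ⟨k', hk', E₂, hE₂⟩
      · have e1 := Groth.Agent.Lib.Helper3.DimAdapted.finrank_sym_orth lam h2 n hn hA t q hq E₁ hE₁
        have e2 := Groth.Agent.Lib.Helper3.DimAdapted.finrank_sym_orth lam h2 n' hn' hA' t' q hq
          E₂ hE₂
        exact ⟨fun _ => e2, fun _ => e1⟩
      · exfalso
        subst hk'
        exact Groth.Agent.Lib.Helper3.TypeCompare2.not_orth_sympl' lam hlam hfix h2 n hn k' hn'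
          hA hA' t t' p hram _ hqH E₁ hE₁ _ hqH E₂ hE₂ m m' hm' S₃ hq₃ g hg1 hg2
    · subst hk
      rcases d₂ with ⟨E₂, hE₂⟩ | ⟨k', hk', E₂, hE₂⟩
      · exfalso
        obtain ⟨hs1, hs2⟩ := Groth.Agent.Lib.Helper3.SameTypeIso.iso_symm_props lam
          (t.matrix (Fin m)) (t'.matrix (Fin m')) S₃ g hg1 hg2
        exact Groth.Agent.Lib.Helper3.TypeCompare2.not_orth_sympl' lam hlam hfix h2 n' hn' k hn
          hA' hA t' t p hram _ hqH E₂ hE₂ _ hqH E₁ hE₁ m' m hm S₃ hq₃ g.symm hs1 hs2
      · subst hk'
        have e1 := Groth.Agent.Lib.Helper3.DimAdapted.finrank_sym_sympl lam h2 k hn hA t q hq E₁ hE₁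
        have e2 := Groth.Agent.Lib.Helper3.DimAdapted.finrank_sym_sympl lam h2 k' hn' hA' t' q hq
          E₂ hE₂
        exact ⟨fun h' => absurd h' (hne k _ hn e1), fun h' => absurd h' (hne k' _ hn' e2)⟩
  · -- equal signs imply same type
    intro h
    refine ⟨n', n, hn', hn, ?_⟩
    apply Groth.Agent.Lib.Helper3.GlueIso.locIsoEt_of_local
    intro p
    haveI := p.isPrime
    have horth : (∃ E : Fin n → Fin n → Groth.Agent.Lib.Helper3.StrictHensPrime.Hq p.asIdeal ⊗[S] A,
          Groth.Agent.Lib.Helper3.IndEtDescent.IsAdaptedC A (t.linS S lam)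
            (Groth.Agent.Lib.Helper3.StrictHensPrime.Hq p.asIdeal)
            (Groth.Agent.Lib.Helper3.AdaptedSplit.cst A (1 : Matrix (Fin n) (Fin n) R))
            (Groth.Agent.Lib.Helper3.AdaptedSplit.cst A (1 : Matrix (Fin n) (Fin n) R)) E) →
        (∃ E : Fin n' → Fin n' → Groth.Agent.Lib.Helper3.StrictHensPrime.Hq p.asIdeal ⊗[S] A',
          Groth.Agent.Lib.Helper3.IndEtDescent.IsAdaptedC A' (t'.linS S lam)
            (Groth.Agent.Lib.Helper3.StrictHensPrime.Hq p.asIdeal)
            (Groth.Agent.Lib.Helper3.AdaptedSplit.cst A' (1 : Matrix (Fin n') (Fin n') R))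
            (Groth.Agent.Lib.Helper3.AdaptedSplit.cst A' (1 : Matrix (Fin n') (Fin n') R)) E) →
        ∃ (T : Type u) (_ : CommRing T) (_ : Algebra S T) (_ : Algebra.Etale S T),
          p ∈ Set.range (PrimeSpectrum.comap (algebraMap S T)) ∧
          ∃ f : T ⊗[S] Matrix (Fin n') (Fin n') A ≃ₐ[T] T ⊗[S] Matrix (Fin n) (Fin n) A',
            (∀ (r : R) (x : T ⊗[S] Matrix (Fin n') (Fin n') A),
              f (((1 : T) ⊗ₜ[S] algebraMap R (Matrix (Fin n') (Fin n') A) r) * x) =
                ((1 : T) ⊗ₜ[S] algebraMap R (Matrix (Fin n) (Fin n) A') r) * f x) ∧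
            ∀ x : T ⊗[S] Matrix (Fin n') (Fin n') A,
              f ((t.matrix (Fin n')).bc S lam T x) = (t'.matrix (Fin n)).bc S lam T (f x) := by
      intro h₁ h₂
      refine Groth.Agent.Lib.Helper3.MatIsoAt.exists_mat_iso_at lam n n' hn hn' hA hA' t t' n' n
        1 1 1 1 (finCongr (Nat.mul_comm n' n)) ?_ ?_ p h₁ h₂
      · intro a b
        have e1 : (Matrix.diagonal fun _ : Fin n' => (1 : Matrix (Fin n) (Fin n) R)) = 1 :=
          Matrix.diagonal_one
        have e2 : (Matrix.diagonal fun _ : Fin n => (1 : Matrix (Fin n') (Fin n') R)) = 1 :=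
          Matrix.diagonal_one
        rw [e1, e2, map_one, map_one, Matrix.one_apply, Matrix.one_apply]
        by_cases hab : a = b
        · rw [if_pos hab, if_pos (by rw [hab])]
        · rw [if_neg hab, if_neg (fun h' => hab ((finCongr (Nat.mul_comm n' n)).injective h'))]
      · intro a b
        have e1 : (Matrix.diagonal fun _ : Fin n' => (1 : Matrix (Fin n) (Fin n) R)) = 1 :=
          Matrix.diagonal_one
        have e2 : (Matrix.diagonal fun _ : Fin n => (1 : Matrix (Fin n') (Fin n') R)) = 1 :=
          Matrix.diagonal_one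
        rw [e1, e2, map_one, map_one, Matrix.one_apply, Matrix.one_apply]
        by_cases hab : a = b
        · rw [if_pos hab, if_pos (by rw [hab])]
        · rw [if_neg hab, if_neg (fun h' => hab ((finCongr (Nat.mul_comm n' n)).injective h'))]
    by_cases hram : RInv.IsQuadEtale (Localization.AtPrime p.asIdeal)
        (Localization.AtPrime p.asIdeal ⊗[S] R)
    · have hq' := Groth.Agent.Lib.Helper3.SameTypeIso.isQuadEtale_Hq lam hlam hfix p hram
      obtain ⟨E, hE, hEs⟩ := Groth.Agent.Lib.Helper3.SymUnitsLocal.exists_symm_matUnits' lam hlam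
        hfix n hn hA t (Groth.Agent.Lib.Helper3.StrictHensPrime.Hq p.asIdeal) hq'
      obtain ⟨E', hE', hEs'⟩ := Groth.Agent.Lib.Helper3.SymUnitsLocal.exists_symm_matUnits' lam hlam
        hfix n' hn' hA' t' (Groth.Agent.Lib.Helper3.StrictHensPrime.Hq p.asIdeal) hq'
      exact horth
        ⟨E, Groth.Agent.Lib.Helper3.OrthSymplTarget.adapted_one_of_symm (R := R) (t.linS S lam) _ E
          hE hEs⟩
        ⟨E', Groth.Agent.Lib.Helper3.OrthSymplTarget.adapted_one_of_symm (R := R) (t'.linS S lam) _
          E' hE' hEs'⟩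
    · obtain ⟨q, hqp, hq⟩ := Groth.Agent.Lib.Helper3.RamPrimes.exists_ramified_over lam hlam hfix
        h2 p hram
      subst hqp
      have d₁ := Groth.Agent.Lib.Helper3.RamDichotomy.local_dichotomy_ram lam hlam hfix h2 n hn hA
        t _ hram
      have d₂ := Groth.Agent.Lib.Helper3.RamDichotomy.local_dichotomy_ram lam hlam hfix h2 n' hn'
        hA' t' _ hram
      rcases d₁ with ⟨E₁, hE₁⟩ | ⟨k, hk, E₁, hE₁⟩
      · rcases d₂ with ⟨E₂, hE₂⟩ | ⟨k', hk', E₂, hE₂⟩
        · exact horth ⟨E₁, hE₁⟩ ⟨E₂, hE₂⟩
        · exfalso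
          subst hk'
          have e1 := Groth.Agent.Lib.Helper3.DimAdapted.finrank_sym_orth lam h2 n hn hA t q hq
            E₁ hE₁
          have e2 := Groth.Agent.Lib.Helper3.DimAdapted.finrank_sym_sympl lam h2 k' hn' hA' t' q hq
            E₂ hE₂
          exact hne k' _ hn' e2 ((h q hq).mp e1)
      · subst hk
        rcases d₂ with ⟨E₂, hE₂⟩ | ⟨k', hk', E₂, hE₂⟩
        · exfalso
          have e1 := Groth.Agent.Lib.Helper3.DimAdapted.finrank_sym_sympl lam h2 k hn hA t q hq
            E₁ hE₁
          have e2 := Groth.Agent.Lib.Helper3.DimAdapted.finrank_sym_orth lam h2 n' hn' hA' t' q hq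
            E₂ hE₂
          exact hne k _ hn e1 ((h q hq).mpr e2)
        · subst hk'
          obtain ⟨e, he1, he2⟩ := Groth.Agent.Lib.Helper3.MatIsoAt.exists_equiv_Jn R k k'
          exact Groth.Agent.Lib.Helper3.MatIsoAt.exists_mat_iso_at lam (k * 2) (k' * 2) hn hn' hA hA'
            t t' (k' * 2) (k * 2) _ _ _ _ e he1 he2 _ ⟨E₁, hE₁⟩ ⟨E₂, hE₂⟩

end Groth.Agent.S17361
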