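import Groth.Statements.S17366
-- import your own Groth.Agent.* helpers here
import Groth.Agent.Lib.Helper58.VBHart
import Groth.Agent.Lib.Helper58.FibTF
import Groth.Agent.Lib.Helper58.NormalFam
import Groth.Agent.Lib.Helper64.HomSh3
import Groth.Agent.Lib.Helper73.DimFormula.FiberMax

set_option autoImplicit false
universe u
open CategoryTheory CategoryTheory.Limits AlgebraicGeometry TopologicalSpace
open CInt

namespace Groth.Agent.S17366

open Groth.Agent.Lib.Helper58 in

/-- Let k be an algebraically closed field, X a smooth proper k-scheme admitting an ample invertible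
sheaf, and S a locally Noetherian k-scheme. Let E be a coherent module on S ×_k X, flat over S,
whose restriction to every fibre {s} × X is torsion-free, let F be a finite locally free module on S
×_k X, and let U be the largest open subset of S ×_k X over which E is finite locally free. Then
every homomorphism E|_U ⟶ F|_U is the restriction of a unique homomorphism E ⟶ F. (The published
statement also asserts the compatibility of this extension with base change along morphisms S' ⟶ S;
that clause is not restated here.) -/
theorem result
    (k : Type u) [Field k] [IsAlgClosed k] (S X : Scheme.{u})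
    (b : S ⟶ Spec (CommRingCat.of k)) (a : X ⟶ Spec (CommRingCat.of k))
    [IsLocallyNoetherian S] [Smooth a] [IsProper a]
    (hproj : ∃ H : X.Modules, CohB1.IsAmple H)
    (E F : (pullback b a).Modules) (hEcoh : Coh.IsCoh E)
    (hEfl : FlatMod.IsFlatOver (pullback.fst b a) E)
    (hEtf : ∀ s : ↥S, TorSh.IsTorsionFree
      ((Scheme.Modules.pullback ((pullback.fst b a).fiberι s)).obj E))
    (hF : FlatMod.IsFinLocFree F)
    (U : (pullback b a).Opens)
    (hU : ∀ x : ↥(pullback b a), x ∈ U ↔
      ∃ (V : (pullback b a).Opens) (n : ℕ), x ∈ V ∧ Nonempty (E.restrict V.ι ≅ FlatMod.freeMod (↑V) n))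
    (ψ : E.restrict U.ι ⟶ F.restrict U.ι) :
    ∃! φ : E ⟶ F, (Scheme.Modules.restrictFunctor U.ι).map φ = ψ := by
  have hfp : CohB1.IsFP E := Groth.Agent.Lib.Helper64.HomSh.isFP_of_isCoh hEcoh
  have hπ : Smooth (pullback.fst b a) := inferInstance
  have hdim2 : ∀ x : ↥(pullback b a), x ∉ U →
      (2 : WithBot ℕ∞) ≤ ringKrullDim ↑(CInt.fiberStalk (pullback.fst b a) x) := by
    intro x hx
    by_contra hcon
    apply hx
    rw [hU]
    have hsm : Smooth ((pullback.fst b a).fiberToSpecResidueField ((pullback.fst b a).base x)) :=
      MorphismProperty.pullback_snd _ _ hπ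
    have hreg := NormalFam.fibre_stalk_regular (pullback.fst b a) _ hsm
      ((pullback.fst b a).asFiber x)
    obtain ⟨n, hn⟩ := Groth.Agent.Lib.Helper73.exists_ringKrullDim_fiber_stalk_eq_natCast
      (pullback.fst b a) x
    have hle : ringKrullDim ↑(CInt.fiberStalk (pullback.fst b a) x) ≤ 1 := by
      rw [hn] at hcon ⊢
      have : ¬ (2 ≤ n) := fun h => hcon (by exact_mod_cast h)
      have h1 : n ≤ 1 := by omega
      exact_mod_cast h1
    exact FibTF.exists_free_nhds (pullback.fst b a) E hfp hEfl x hreg hle
      (hEtf ((pullback.fst b a).base x) ((pullback.fst b a).asFiber x))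
  have hreg : ∀ x : ↥(pullback b a), x ∉ U →
      Groth.Agent.Lib.Helper64.HartogsRing.HasRegPair ((pullback b a).presheaf.stalk x) :=
    fun x hx => VBHart.hasRegPair_stalk_pullback_swap b a x (hdim2 x hx)
  have := VBHart.isIso_unit_of_isFinLocFree F hF U hreg
  exact (Groth.Agent.Lib.Helper35.InvHom.bijective_map_of_isIso_unit
    (Scheme.Modules.restrictAdjunction U.ι) E F).existsUnique ψ

end Groth.Agent.S17366
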