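import Groth.Statements.S17367
import Mathlib
import Groth.Agent.Lib.Helper27.FlatLiftExist

set_option autoImplicit false
universe u
open scoped TensorProduct
open Deform

namespace Groth.Agent.S17367

open Groth.Agent.Lib.Helper27.FlatLift

/-- The affine computation, for a square-zero extension of Noetherian rings. Let A' be a Noetherian
ring, J an ideal with J·J = 0 and A = A'/J; let B' be a flat A'-algebra, B = B'/JB', I an ideal of B
with B/I flat over A, and I', I'' two ideals of B' with A'-flat quotients whose images in B are both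
I (two deformations over A' of the closed subscheme V(I) of Spec B inside Spec B'). Then there is
exactly one B'-linear map φ from I to (B/I) ⊗_{A'} J (that is, Hom_B(I, (B/I) ⊗_A J)) such that for
every x in I, all lifts x' in I' and x'' in I'' of x, and every z in B' ⊗_{A'} J whose image under
multiplication is x'' - x', the image of z in (B/I) ⊗_{A'} J equals φ(x). (The published statement
is global (X' a separated scheme over A') and does not assume X' flat over A'; this row is the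
affine case X' = Spec B' and assumes B' flat over A'.) -/
theorem result (A' : Type u) [CommRing A'] [IsNoetherianRing A']
    (J : Ideal A') (hJ : J * J = ⊥) (B' : Type u) [CommRing B'] [Algebra A' B'] [Module.Flat A' B']
    (I : Ideal (B' ⧸ J.map (algebraMap A' B')))
    [Module.Flat (A' ⧸ J) ((B' ⧸ J.map (algebraMap A' B')) ⧸ I)]
    (I' I'' : Ideal B') [Module.Flat A' (B' ⧸ I')] [Module.Flat A' (B' ⧸ I'')]
    (hI' : I'.map (Ideal.Quotient.mk (J.map (algebraMap A' B'))) = I)
    (hI'' : I''.map (Ideal.Quotient.mk (J.map (algebraMap A' B'))) = I) :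
    ∃! φ : ↥I →ₗ[B'] (((B' ⧸ J.map (algebraMap A' B')) ⧸ I) ⊗[A'] ↥J),
      (∀ (x : (B' ⧸ J.map (algebraMap A' B'))) (hx : x ∈ I) (x' x'' : B'), x' ∈ I' → x'' ∈ I'' →
          Ideal.Quotient.mk (J.map (algebraMap A' B')) x' = x → Ideal.Quotient.mk (J.map (algebraMap A' B')) x'' = x →
          ∀ z : B' ⊗[A'] ↥J, TensorProduct.rid A' B' (LinearMap.lTensor B' (Submodule.subtype J) z) = x'' - x' →
            LinearMap.rTensor ↥J (IsScalarTower.toAlgHom A' B' ((B' ⧸ J.map (algebraMap A' B')) ⧸ I)).toLinearMap z = φ ⟨x, hx⟩) := by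
  let π := IsScalarTower.toAlgHom A' B' ((B' ⧸ (J.map (algebraMap A' B'))) ⧸ I)
  have hπ' : ∀ a ∈ I', π a = 0 := by
    intro a ha
    have : Ideal.Quotient.mk (J.map (algebraMap A' B')) a ∈ I := hI' ▸ Ideal.mem_map_of_mem _ ha
    exact Ideal.Quotient.eq_zero_iff_mem.mpr this
  have hπ'' : ∀ a ∈ I'', π a = 0 := by
    intro a ha
    have : Ideal.Quotient.mk (J.map (algebraMap A' B')) a ∈ I := hI'' ▸ Ideal.mem_map_of_mem _ ha
    exact Ideal.Quotient.eq_zero_iff_mem.mpr this
  let Valid : (B' ⧸ (J.map (algebraMap A' B'))) → (B' ⊗[A'] ↥J) → Prop := fun x z =>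
    ∃ x' ∈ I', ∃ x'' ∈ I'', Ideal.Quotient.mk (J.map (algebraMap A' B')) x' = x ∧ Ideal.Quotient.mk (J.map (algebraMap A' B')) x'' = x ∧
      mulJ J B' z = x'' - x'
  have hex : ∀ x ∈ I, ∃ z, Valid x z := by
    intro x hx
    have h1 : x ∈ I'.map (Ideal.Quotient.mk (J.map (algebraMap A' B'))) := hI' ▸ hx
    have h2 : x ∈ I''.map (Ideal.Quotient.mk (J.map (algebraMap A' B'))) := hI'' ▸ hx
    obtain ⟨x', hx', e'⟩ := (Ideal.mem_map_iff_of_surjective _ Ideal.Quotient.mk_surjective).mp h1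
    obtain ⟨x'', hx'', e''⟩ := (Ideal.mem_map_iff_of_surjective _ Ideal.Quotient.mk_surjective).mp h2
    have hk : x'' - x' ∈ (J.map (algebraMap A' B')) := by
      rw [← Ideal.Quotient.eq, e', e'']
    obtain ⟨z, hz⟩ := exists_mulJ_eq J B' hk
    exact ⟨z, x', hx', x'', hx'', e', e'', hz⟩
  have huniq : ∀ x z₁ z₂, Valid x z₁ → Valid x z₂ →
      LinearMap.rTensor ↥J π.toLinearMap z₁ = LinearMap.rTensor ↥J π.toLinearMap z₂ := by
    rintro x z₁ z₂ ⟨x₁', hx₁', x₁'', hx₁'', e₁', e₁'', h₁⟩ ⟨x₂', hx₂', x₂'', hx₂'', e₂', e₂'', h₂⟩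
    have hk' : x₁' - x₂' ∈ (J.map (algebraMap A' B')) := by rw [← Ideal.Quotient.eq, e₁', e₂']
    have hk'' : x₁'' - x₂'' ∈ (J.map (algebraMap A' B')) := by rw [← Ideal.Quotient.eq, e₁'', e₂'']
    obtain ⟨w', hw'⟩ := exists_mulJ_eq J B' hk'
    obtain ⟨w'', hw''⟩ := exists_mulJ_eq J B' hk''
    have hz : z₁ - z₂ = w'' - w' := by
      apply mulJ_injective J B'
      rw [map_sub, map_sub, h₁, h₂, hw', hw'']
      ring
    have h0' : LinearMap.rTensor ↥J π.toLinearMap w' = 0 :=
      rTensor_eq_zero_of_mem J π I' hπ' w' (hw' ▸ I'.sub_mem hx₁' hx₂')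
    have h0'' : LinearMap.rTensor ↥J π.toLinearMap w'' = 0 :=
      rTensor_eq_zero_of_mem J π I'' hπ'' w'' (hw'' ▸ I''.sub_mem hx₁'' hx₂'')
    rw [← sub_eq_zero, ← map_sub, hz, map_sub, h0', h0'', sub_zero]
  have hadd : ∀ x y z w, Valid x z → Valid y w → Valid (x + y) (z + w) := by
    rintro x y z w ⟨x', hx', x'', hx'', e', e'', h⟩ ⟨y', hy', y'', hy'', f', f'', g⟩
    refine ⟨x' + y', I'.add_mem hx' hy', x'' + y'', I''.add_mem hx'' hy'', ?_, ?_, ?_⟩
    · rw [map_add, e', f']
    · rw [map_add, e'', f'']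
    · rw [map_add, h, g]; ring
  have hsmul : ∀ (a : B') x z, Valid x z → Valid (a • x) (a • z) := by
    rintro a x z ⟨x', hx', x'', hx'', e', e'', h⟩
    refine ⟨a * x', I'.mul_mem_left a hx', a * x'', I''.mul_mem_left a hx'', ?_, ?_, ?_⟩
    · rw [map_mul, e', Algebra.smul_def]; rfl
    · rw [map_mul, e'', Algebra.smul_def]; rfl
    · rw [mulJ_smul, h]; ring
  let φ : ↥I →ₗ[B'] (((B' ⧸ (J.map (algebraMap A' B'))) ⧸ I) ⊗[A'] ↥J) :=
    { toFun := fun x => LinearMap.rTensor ↥J π.toLinearMap (hex x.1 x.2).choose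
      map_add' := by
        intro x y
        rw [← map_add]
        exact huniq _ _ _ (hex _ (x + y).2).choose_spec
          (hadd _ _ _ _ (hex x.1 x.2).choose_spec (hex y.1 y.2).choose_spec)
      map_smul' := by
        intro a x
        rw [RingHom.id_apply, ← rTensor_smul]
        exact huniq _ _ _ (hex _ (a • x).2).choose_spec
          (hsmul a _ _ (hex x.1 x.2).choose_spec) }
  refine ⟨φ, ?_, ?_⟩
  · intro x hx x' x'' hx' hx'' e' e'' z hz
    exact huniq x _ _ ⟨x', hx', x'', hx'', e', e'', hz⟩ (hex x hx).choose_spec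
  · intro ψ hψ
    ext ⟨x, hx⟩
    obtain ⟨x', hx', x'', hx'', e', e'', hz⟩ := (hex x hx).choose_spec
    exact (hψ x hx x' x'' hx' hx'' e' e'' _ hz).symm


end Groth.Agent.S17367
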