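import Groth.Statements.S17368
import Mathlib
import Groth.Agent.Lib.Helper27.FlatLiftExist

set_option autoImplicit false
universe u
open scoped TensorProduct
open Deform

namespace Groth.Agent.S17368

open Groth.Agent.Lib.Helper27.FlatLift

/-- The affine computation, for a square-zero extension of Noetherian rings. Let A' be a Noetherian
ring, J an ideal with J·J = 0 and A = A'/J; let B' be a flat A'-algebra, B = B'/JB', I an ideal of B
with B/I flat over A, I' an ideal of B' with A'-flat quotient whose image in B is I, and φ a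
B'-linear map from I to (B/I) ⊗_{A'} J. Then there is exactly one ideal I'' of B' with A'-flat
quotient and image I in B whose difference from I' is φ: for every x in I, all lifts x' in I' and
x'' in I'' of x, and every z in B' ⊗_{A'} J whose image under multiplication is x'' - x', the image
of z in (B/I) ⊗_{A'} J equals φ(x). Together with the uniqueness of the difference this makes the
set of such ideals, when non-empty, a torsor under Hom_B(I, (B/I) ⊗_A J). (The published statement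
is global (X' a separated scheme over A') and does not assume X' flat over A'; this row is the
affine case X' = Spec B' and assumes B' flat over A'.) -/
theorem result (A' : Type u) [CommRing A'] [IsNoetherianRing A']
    (J : Ideal A') (hJ : J * J = ⊥) (B' : Type u) [CommRing B'] [Algebra A' B'] [Module.Flat A' B']
    (I : Ideal (B' ⧸ J.map (algebraMap A' B')))
    [Module.Flat (A' ⧸ J) ((B' ⧸ J.map (algebraMap A' B')) ⧸ I)]
    (I' : Ideal B') [Module.Flat A' (B' ⧸ I')]
    (hI' : I'.map (Ideal.Quotient.mk (J.map (algebraMap A' B'))) = I)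
    (φ : ↥I →ₗ[B'] (((B' ⧸ J.map (algebraMap A' B')) ⧸ I) ⊗[A'] ↥J)) :
    ∃! I'' : Ideal B', Module.Flat A' (B' ⧸ I'') ∧
      I''.map (Ideal.Quotient.mk (J.map (algebraMap A' B'))) = I ∧
      (∀ (x : (B' ⧸ J.map (algebraMap A' B'))) (hx : x ∈ I) (x' x'' : B'), x' ∈ I' → x'' ∈ I'' →
          Ideal.Quotient.mk (J.map (algebraMap A' B')) x' = x → Ideal.Quotient.mk (J.map (algebraMap A' B')) x'' = x →
          ∀ z : B' ⊗[A'] ↥J, TensorProduct.rid A' B' (LinearMap.lTensor B' (Submodule.subtype J) z) = x'' - x' →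
            LinearMap.rTensor ↥J (IsScalarTower.toAlgHom A' B' ((B' ⧸ J.map (algebraMap A' B')) ⧸ I)).toLinearMap z = φ ⟨x, hx⟩) := by
  have hJJ : J * J = ⊥ := hJ
  let π := IsScalarTower.toAlgHom A' B' ((B' ⧸ (J.map (algebraMap A' B'))) ⧸ I)
  have hπ' : ∀ a ∈ I', π a = 0 := fun a ha => pi_eq_zero_of_mem J I hI' ha
  have hmem : ∀ a ∈ I', Ideal.Quotient.mk (J.map (algebraMap A' B')) a ∈ I :=
    fun a ha => hI' ▸ Ideal.mem_map_of_mem _ ha
  have hρsurj : Function.Surjective (LinearMap.rTensor ↥J π.toLinearMap) := by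
    apply LinearMap.rTensor_surjective
    intro b
    obtain ⟨b', rfl⟩ := Ideal.Quotient.mk_surjective b
    obtain ⟨a, rfl⟩ := Ideal.Quotient.mk_surjective b'
    exact ⟨a, rfl⟩
  let I'' : Ideal B' :=
    { carrier := {a | ∃ (x' : B') (hx' : x' ∈ I') (w : B' ⊗[A'] ↥J),
        LinearMap.rTensor ↥J π.toLinearMap w = φ ⟨_, hmem x' hx'⟩ ∧ a = x' + mulJ J B' w}
      zero_mem' := by
        refine ⟨0, I'.zero_mem, 0, ?_, by simp⟩
        rw [map_zero]
        have : (⟨Ideal.Quotient.mk (J.map (algebraMap A' B')) 0, hmem 0 I'.zero_mem⟩ : ↥I) = 0 :=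
          Subtype.ext (map_zero _)
        rw [this, map_zero]
      add_mem' := by
        rintro a b ⟨x', hx', w, hw, rfl⟩ ⟨y', hy', v, hv, rfl⟩
        refine ⟨x' + y', I'.add_mem hx' hy', w + v, ?_, by rw [map_add]; ring⟩
        rw [map_add, hw, hv, ← map_add]
        congr 1
      smul_mem' := by
        rintro c a ⟨x', hx', w, hw, rfl⟩
        refine ⟨c * x', I'.mul_mem_left c hx', c • w, ?_, by rw [mulJ_smul, smul_eq_mul]; ring⟩
        rw [rTensor_smul, hw, ← map_smul]
        congr 1 }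
  have hmap'' : I''.map (Ideal.Quotient.mk (J.map (algebraMap A' B'))) = I := by
    apply le_antisymm
    · rw [Ideal.map_le_iff_le_comap]
      rintro a ⟨x', hx', w, hw, rfl⟩
      rw [Ideal.mem_comap, map_add,
        Ideal.Quotient.eq_zero_iff_mem.mpr (mulJ_mem J B' w), add_zero]
      exact hmem x' hx'
    · intro x hx
      have h1 : x ∈ I'.map (Ideal.Quotient.mk (J.map (algebraMap A' B'))) := hI' ▸ hx
      obtain ⟨x', hx', rfl⟩ :=
        (Ideal.mem_map_iff_of_surjective _ Ideal.Quotient.mk_surjective).mp h1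
      obtain ⟨w, hw⟩ := hρsurj (φ ⟨_, hmem x' hx'⟩)
      have h2 : x' + mulJ J B' w ∈ I'' := ⟨x', hx', w, hw, rfl⟩
      have h3 := Ideal.mem_map_of_mem (Ideal.Quotient.mk (J.map (algebraMap A' B'))) h2
      rwa [map_add, Ideal.Quotient.eq_zero_iff_mem.mpr (mulJ_mem J B' w), add_zero] at h3
  have hdiff : ∀ (I₂ : Ideal B'),
      I₂.map (Ideal.Quotient.mk (J.map (algebraMap A' B'))) = I →
      (∀ a ∈ I₂, ∃ (x' : B') (hx' : x' ∈ I') (w : B' ⊗[A'] ↥J),
        LinearMap.rTensor ↥J π.toLinearMap w = φ ⟨_, hmem x' hx'⟩ ∧ a = x' + mulJ J B' w) →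
      (∀ (x : (B' ⧸ J.map (algebraMap A' B'))) (hx : x ∈ I) (x' x'' : B'), x' ∈ I' → x'' ∈ I₂ →
          Ideal.Quotient.mk (J.map (algebraMap A' B')) x' = x →
          Ideal.Quotient.mk (J.map (algebraMap A' B')) x'' = x →
          ∀ z : B' ⊗[A'] ↥J, mulJ J B' z = x'' - x' →
            LinearMap.rTensor ↥J π.toLinearMap z = φ ⟨x, hx⟩) := by
    intro I₂ _ hI₂ x hx x' x'' hx' hx'' e' e'' z hz
    obtain ⟨y', hy', w, hw, rfl⟩ := hI₂ x'' hx''
    have e3 : Ideal.Quotient.mk (J.map (algebraMap A' B')) y' = x := by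
      rw [← e'', map_add, Ideal.Quotient.eq_zero_iff_mem.mpr (mulJ_mem J B' w), add_zero]
    have hk : y' - x' ∈ J.map (algebraMap A' B') := by
      rw [← Ideal.Quotient.eq, e3, e']
    obtain ⟨v, hv⟩ := exists_mulJ_eq J B' hk
    have hv0 : LinearMap.rTensor ↥J π.toLinearMap v = 0 :=
      rTensor_eq_zero_of_mem J π I' hπ' v (hv ▸ I'.sub_mem hy' hx')
    have hzz : z = v + w := by
      apply mulJ_injective J B'
      rw [hz, map_add, hv]
      ring
    rw [hzz, map_add, hv0, zero_add, hw]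
    congr 1
    exact Subtype.ext e3
  have hcrit : ∀ z : B' ⊗[A'] ↥J, mulJ J B' z ∈ I'' →
      LinearMap.rTensor ↥J π.toLinearMap z = 0 := by
    rintro z ⟨x', hx', w, hw, e⟩
    have hx'K : x' ∈ J.map (algebraMap A' B') := by
      have : x' = mulJ J B' (z - w) := by rw [map_sub, e]; ring
      rw [this]
      exact mulJ_mem J B' _
    have h0 : (⟨Ideal.Quotient.mk (J.map (algebraMap A' B')) x', hmem x' hx'⟩ : ↥I) = 0 :=
      Subtype.ext (Ideal.Quotient.eq_zero_iff_mem.mpr hx'K)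
    rw [h0, map_zero] at hw
    have h1 : LinearMap.rTensor ↥J π.toLinearMap (z - w) = 0 := by
      apply rTensor_eq_zero_of_mem J π I' hπ'
      rw [map_sub, e]
      simpa using hx'
    rw [map_sub, hw, sub_zero] at h1
    exact h1
  have hflat'' : Module.Flat A' (B' ⧸ I'') := flat_quotient_of_crit J I hJJ hmap'' hcrit
  refine ⟨I'', ⟨hflat'', hmap'', ?_⟩, ?_⟩
  · intro x hx x' x'' hx' hx'' e' e'' z hz
    exact hdiff I'' hmap'' (fun a ha => ha) x hx x' x'' hx' hx'' e' e'' z hz
  · rintro I₂ ⟨_, hmap₂, hd₂⟩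
    have key : ∀ (I₃ I₄ : Ideal B'),
        I₃.map (Ideal.Quotient.mk (J.map (algebraMap A' B'))) = I →
        I₄.map (Ideal.Quotient.mk (J.map (algebraMap A' B'))) = I →
        (∀ (x : (B' ⧸ J.map (algebraMap A' B'))) (hx : x ∈ I) (x' x'' : B'), x' ∈ I' → x'' ∈ I₃ →
          Ideal.Quotient.mk (J.map (algebraMap A' B')) x' = x →
          Ideal.Quotient.mk (J.map (algebraMap A' B')) x'' = x →
          ∀ z : B' ⊗[A'] ↥J, mulJ J B' z = x'' - x' →
            LinearMap.rTensor ↥J π.toLinearMap z = φ ⟨x, hx⟩) →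
        (∀ (x : (B' ⧸ J.map (algebraMap A' B'))) (hx : x ∈ I) (x' x'' : B'), x' ∈ I' → x'' ∈ I₄ →
          Ideal.Quotient.mk (J.map (algebraMap A' B')) x' = x →
          Ideal.Quotient.mk (J.map (algebraMap A' B')) x'' = x →
          ∀ z : B' ⊗[A'] ↥J, mulJ J B' z = x'' - x' →
            LinearMap.rTensor ↥J π.toLinearMap z = φ ⟨x, hx⟩) → I₃ ≤ I₄ := by
      intro I₃ I₄ h₃ h₄ d₃ d₄ a ha
      have hx : Ideal.Quotient.mk (J.map (algebraMap A' B')) a ∈ I :=
        h₃ ▸ Ideal.mem_map_of_mem _ ha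
      have h1 : Ideal.Quotient.mk (J.map (algebraMap A' B')) a ∈
          I'.map (Ideal.Quotient.mk (J.map (algebraMap A' B'))) := hI' ▸ hx
      have h2 : Ideal.Quotient.mk (J.map (algebraMap A' B')) a ∈
          I₄.map (Ideal.Quotient.mk (J.map (algebraMap A' B'))) := h₄ ▸ hx
      obtain ⟨x', hx', e'⟩ :=
        (Ideal.mem_map_iff_of_surjective _ Ideal.Quotient.mk_surjective).mp h1
      obtain ⟨a₄, ha₄, e₄⟩ :=
        (Ideal.mem_map_iff_of_surjective _ Ideal.Quotient.mk_surjective).mp h2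
      have hk₁ : a - x' ∈ J.map (algebraMap A' B') := by rw [← Ideal.Quotient.eq, e']
      have hk₂ : a₄ - x' ∈ J.map (algebraMap A' B') := by rw [← Ideal.Quotient.eq, e', e₄]
      obtain ⟨z₁, hz₁⟩ := exists_mulJ_eq J B' hk₁
      obtain ⟨z₂, hz₂⟩ := exists_mulJ_eq J B' hk₂
      have r₁ := d₃ _ hx x' a hx' ha e' rfl z₁ hz₁
      have r₂ := d₄ _ hx x' a₄ hx' ha₄ e' e₄ z₂ hz₂
      have hzero : LinearMap.rTensor ↥J π.toLinearMap (z₁ - z₂) = 0 := by
        rw [map_sub, r₁, r₂, sub_self]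
      have hmem₄ := mulJ_mem_of_rTensor_pi J I hJJ h₄ (z₁ - z₂) hzero
      rw [map_sub, hz₁, hz₂] at hmem₄
      have : a = (a - x' - (a₄ - x')) + a₄ := by ring
      rw [this]
      exact I₄.add_mem hmem₄ ha₄
    have d'' := hdiff I'' hmap'' (fun a ha => ha)
    exact le_antisymm (key I₂ I'' hmap₂ hmap'' hd₂ d'') (key I'' I₂ hmap'' hmap₂ d'' hd₂)


end Groth.Agent.S17368
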