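import Groth.Statements.S1737
import Groth.Agent.Lib.Helper67.Depth

set_option autoImplicit false
universe u
open LocCoh

namespace Groth.Agent.S1737

variable {A : Type u} [CommRing A]

def gam (T : Set (PrimeSpectrum A)) (M : Type u) [AddCommGroup M] [Module A M] : Submodule A M where
  carrier := {m | ∀ q : PrimeSpectrum A, (Submodule.span A {m}).annihilator ≤ q.asIdeal → q ∈ T}
  zero_mem' := by
    intro q hq
    exfalso
    apply q.isPrime.ne_top
    rw [eq_top_iff]
    refine le_trans ?_ hq
    intro x _
    rw [Submodule.mem_annihilator_span_singleton, smul_zero]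
  add_mem' := by
    intro a b ha hb q hq
    by_cases h1 : (Submodule.span A {a}).annihilator ≤ q.asIdeal
    · exact ha q h1
    · apply hb q
      intro y hy
      obtain ⟨x, hx, hxq⟩ := Set.not_subset.mp h1
      rw [SetLike.mem_coe] at hx
      have hxy : x * y ∈ (Submodule.span A {a + b}).annihilator := by
        rw [Submodule.mem_annihilator_span_singleton] at hx hy ⊢
        rw [smul_add, mul_smul x y b, hy, smul_zero, add_zero, mul_comm, mul_smul, hx, smul_zero]
      exact (q.isPrime.mem_or_mem (hq hxy)).resolve_left hxq
  smul_mem' := by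
    intro c a ha q hq
    apply ha q
    intro x hx
    apply hq
    rw [Submodule.mem_annihilator_span_singleton] at hx ⊢
    rw [smul_comm, hx, smul_zero]

lemma mem_gam {T : Set (PrimeSpectrum A)} {M : Type u} [AddCommGroup M] [Module A M] (m : M) :
    m ∈ gam T M ↔
      ∀ q : PrimeSpectrum A, (Submodule.span A {m}).annihilator ≤ q.asIdeal → q ∈ T :=
  Iff.rfl

lemma not_mem_ass [IsNoetherianRing A] {T : Set (PrimeSpectrum A)} (hT : StableUnderSpecialization T)
    {M : Type u} [AddCommGroup M] [Module A M] (p : PrimeSpectrum A) (hp : p ∈ T) :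
    p.asIdeal ∉ associatedPrimes A (M ⧸ gam T M) := by
  intro hass
  obtain ⟨hpr, y, hy⟩ := isAssociatedPrime_iff.mp hass
  obtain ⟨m, rfl⟩ := Submodule.Quotient.mk_surjective _ y
  have hm : m ∈ gam T M := by
    rw [mem_gam]
    intro q hq
    by_cases hpq : p.asIdeal ≤ q.asIdeal
    · exact hT ((PrimeSpectrum.le_iff_specializes p q).mp hpq) hp
    · obtain ⟨a, hap, haq⟩ := Set.not_subset.mp hpq
      have ham : a • m ∈ gam T M := by
        have : a ∈ (⊥ : Submodule A (M ⧸ gam T M)).colon {Submodule.Quotient.mk m} := by
          rw [← hy]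
          exact hap
        rw [Submodule.mem_colon_singleton, Submodule.mem_bot, ← Submodule.Quotient.mk_smul,
          Submodule.Quotient.mk_eq_zero] at this
        exact this
      apply (mem_gam _).mp ham q
      intro x hx
      rw [Submodule.mem_annihilator_span_singleton, ← mul_smul] at hx
      have : x * a ∈ q.asIdeal := hq (by rwa [Submodule.mem_annihilator_span_singleton])
      exact (q.isPrime.mem_or_mem this).resolve_right haq
  apply hpr.ne_top
  rw [hy, eq_top_iff]
  intro x _
  rw [Submodule.mem_colon_singleton, Submodule.mem_bot,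
    (Submodule.Quotient.mk_eq_zero _).mpr hm, smul_zero]

theorem result (A : Type u) [CommRing A] [IsNoetherianRing A] (T : Set (PrimeSpectrum A)) (hT : StableUnderSpecialization T) (M : Type u) [AddCommGroup M] [Module A M] [Module.Finite A M] : ∃ (M' : Type u) (_ : AddCommGroup M') (_ : Module A M') (_ : Module.Finite A M') (f : M →ₗ[A] M'), Function.Surjective f ∧ (∀ p : PrimeSpectrum A, p ∉ T → Function.Bijective (LocalizedModule.map p.asIdeal.primeCompl f)) ∧ ∀ p : PrimeSpectrum A, p ∈ T → 1 ≤ LocCoh.depth (Localization.AtPrime p.asIdeal) (LocalizedModule p.asIdeal.primeCompl M') := by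
  refine ⟨M ⧸ gam T M, inferInstance, inferInstance, inferInstance, (gam T M).mkQ,
    Submodule.mkQ_surjective _, ?_, ?_⟩
  · intro p hp
    constructor
    · rw [← LinearMap.ker_eq_bot, Submodule.eq_bot_iff]
      intro x hx
      induction x using LocalizedModule.induction_on with
      | h m s =>
        rw [LinearMap.mem_ker, LocalizedModule.map_mk, ← LocalizedModule.zero_mk s,
          LocalizedModule.mk_eq] at hx
        obtain ⟨t, ht⟩ := hx
        rw [smul_zero, smul_zero, ← mul_smul, Submodule.mkQ_apply, ← Submodule.Quotient.mk_smul,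
          Submodule.Quotient.mk_eq_zero] at ht
        have h1 : ¬ (Submodule.span A {(t * s) • m}).annihilator ≤ p.asIdeal :=
          fun h => hp ((mem_gam _).mp ht p h)
        obtain ⟨a, ha, hap⟩ := Set.not_subset.mp h1
        rw [← LocalizedModule.zero_mk s, LocalizedModule.mk_eq]
        refine ⟨⟨a, hap⟩ * t, ?_⟩
        rw [SetLike.mem_coe, Submodule.mem_annihilator_span_singleton] at ha
        rw [smul_zero, smul_zero, ← mul_smul, mul_assoc, mul_smul]
        exact ha
    · exact LocalizedModule.map_surjective _ _ (Submodule.mkQ_surjective _)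
  · intro p hp
    rw [Order.one_le_iff_ne_zero]
    intro h0
    rw [Groth.Agent.Lib.Helper67.depth_eq_zero_iff] at h0
    have h1 := Module.associatedPrimes.comap_mem_associatedPrimes_of_mem_associatedPrimes_of_isLocalizedModule_of_fg
      p.asIdeal.primeCompl (LocalizedModule.mkLinearMap p.asIdeal.primeCompl (M ⧸ gam T M))
      (IsLocalRing.maximalIdeal (Localization.AtPrime p.asIdeal)) h0
      ((isNoetherianRing_iff_ideal_fg A).mp inferInstance _)
    rw [← Ideal.under_def, Localization.AtPrime.under_maximalIdeal] at h1
    exact not_mem_ass hT p hp h1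

end Groth.Agent.S1737
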