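import Groth.Statements.S17386
import Mathlib

set_option autoImplicit false
universe u
open BlowUp

namespace Groth.Agent.S17386

section helpers
open AlgebraicGeometry CategoryTheory Limits
variable {X Y : Scheme.{u}}

theorem comap_self_eq_bot (I : X.IdealSheafData) : I.comap I.subschemeι = ⊥ := by
  unfold Scheme.IdealSheafData.comap
  exact Scheme.Hom.ker_eq_bot_of_isIso _

theorem comap_iSup {ι : Type*} (J : ι → Y.IdealSheafData) (f : X ⟶ Y) :
    (⨆ i, J i).comap f = ⨆ i, (J i).comap f :=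
  (Scheme.IdealSheafData.map_gc f).l_iSup

theorem comap_ι_eq_of_ideal_eq (I E : X.IdealSheafData) (D : X.affineOpens)
    (h : I.ideal D = E.ideal D) : I.comap D.1.ι = E.comap D.1.ι := by
  have : IsAffine (D.1 : Scheme) := D.2
  apply Scheme.IdealSheafData.ext_of_isAffine
  rw [Scheme.IdealSheafData.ideal_comap_of_isOpenImmersion,
    Scheme.IdealSheafData.ideal_comap_of_isOpenImmersion]
  have key : ∀ V : X.affineOpens, V = D → I.ideal V = E.ideal V := by
    rintro _ rfl; exact h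
  rw [key _ (Subtype.ext (by simp))]


theorem ring_lem {R S : Type*} [CommRing R] [CommRing S] (φ : R →+* S)
    (hφ : Function.Surjective φ) (I : Ideal S) (h : I.comap φ = ⊥) : I = ⊥ := by
  have := Ideal.map_comap_of_surjective φ hφ I
  rw [h] at this
  rw [← this]; simp

theorem ideal_eq_bot_of_comap_ι (G : Y.IdealSheafData) (W : Y.Opens)
    (hG : G.comap W.ι = ⊥) (V : Y.affineOpens) (hV : V.1 ≤ W) : G.ideal V = ⊥ := by
  have hle : V.1 ≤ W.ι.opensRange := by rw [Scheme.Opens.opensRange_ι]; exact hV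
  have hV' : IsAffineOpen (W.ι ⁻¹ᵁ V.1) := V.2.preimage_of_isOpenImmersion W.ι hle
  have h1 := Scheme.IdealSheafData.ideal_comap_of_isOpenImmersion G W.ι ⟨W.ι ⁻¹ᵁ V.1, hV'⟩
  rw [hG] at h1
  have himg : W.ι ''ᵁ (W.ι ⁻¹ᵁ V.1) = V.1 := by
    rw [Scheme.Hom.image_preimage_eq_opensRange_inf, inf_eq_right.mpr hle]
  have h2 := ring_lem _ (ConcreteCategory.bijective_of_isIso
    (Scheme.Hom.appIso W.ι (W.ι ⁻¹ᵁ V.1)).inv).2 _ h1.symm
  have h3 : (⟨W.ι ''ᵁ (W.ι ⁻¹ᵁ V.1), hV'.image_of_isOpenImmersion W.ι⟩ : Y.affineOpens) = V :=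
    Subtype.ext himg
  have key : ∀ V' : Y.affineOpens, V' = V → G.ideal V' = ⊥ → G.ideal V = ⊥ := by
    rintro _ rfl h; exact h
  exact key _ h3 h2


/-- if sections sum to one, some basic open contains a given point -/
theorem exists_mem_basicOpen_of_sum_eq_one {n : ℕ} (U : X.Opens) (c : Fin n → Γ(X, U))
    (hsum : ∑ i, c i = 1) (x : X) (hx : x ∈ U) : ∃ i, x ∈ X.basicOpen (c i) := by
  by_contra hcon
  push Not at hcon
  have h1 : ∀ i, X.presheaf.germ U x hx (c i) ∈ IsLocalRing.maximalIdeal (X.presheaf.stalk x) := by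
    intro i
    rw [IsLocalRing.mem_maximalIdeal, mem_nonunits_iff]
    intro hu
    exact hcon i ((X.mem_basicOpen (c i) x hx).mpr hu)
  have h2 : X.presheaf.germ U x hx (∑ i, c i) ∈ IsLocalRing.maximalIdeal (X.presheaf.stalk x) := by
    rw [map_sum]
    exact Ideal.sum_mem _ fun i _ => h1 i
  rw [hsum, map_one] at h2
  exact (Ideal.ne_top_iff_one _).mp (IsLocalRing.maximalIdeal.isMaximal _).ne_top h2

/-- a nonzerodivisor on an affine open restricts to a nonzero section on any nonempty basic open -/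
theorem res_ne_zero_of_nzd (V : Y.affineOpens) (f g : Γ(Y, V.1)) (hf : f ∈ nonZeroDivisors Γ(Y, V.1))
    (y : Y) (hy : y ∈ Y.basicOpen g) :
    Y.presheaf.map (homOfLE (Y.basicOpen_le g)).op f ≠ 0 := by
  intro h0
  have hloc := V.2.isLocalization_basicOpen g
  have h1 : algebraMap Γ(Y, V.1) Γ(Y, Y.basicOpen g) f = 0 := h0
  obtain ⟨⟨_, m, rfl⟩, hm⟩ := (IsLocalization.map_eq_zero_iff (Submonoid.powers g) _ f).mp h1
  have h2 : g ^ m = 0 := (mul_right_mem_nonZeroDivisors_eq_zero_iff hf).mp hm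
  have h3 : g ^ (m + 1) = 0 := by rw [pow_succ, h2, zero_mul]
  have h4 : Y.basicOpen (g ^ (m + 1)) = Y.basicOpen g := Y.basicOpen_pow g (Nat.succ_pos m)
  rw [h3, Y.basicOpen_zero] at h4
  rw [← h4] at hy
  exact hy


theorem main {X X' : Scheme.{u}} {n : ℕ} (𝓙 : Fin n → X.IdealSheafData) (b : X' ⟶ X)
    (hb : BlowUp.IsBlowUp b (⨆ i, 𝓙 i))
    (Y' : Fin n → Scheme.{u}) (b' : ∀ i, Y' i ⟶ (𝓙 i).subscheme)
    (hb' : ∀ i, BlowUp.IsBlowUp (b' i) ((⨆ j, 𝓙 j).comap (𝓙 i).subschemeι))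
    (k : ∀ i, Y' i ⟶ X') (hk : ∀ i, k i ≫ b = b' i ≫ (𝓙 i).subschemeι) :
    (⋂ i, Set.range (fun y => k i y)) = (∅ : Set X') := by
  rw [Set.eq_empty_iff_forall_notMem]
  intro x' hx'
  rw [Set.mem_iInter] at hx'
  set E := (⨆ i, 𝓙 i).comap b with hE
  have hEsup : E = ⨆ i, (𝓙 i).comap b := comap_iSup _ _
  have hIE : ∀ i, (𝓙 i).comap b ≤ E := by
    intro i; rw [hEsup]; exact le_iSup (fun i => (𝓙 i).comap b) i
  obtain ⟨U, hxU, e, he, hUe⟩ := hb.1 x'
  have he_mem : e ∈ ⨆ i, ((𝓙 i).comap b).ideal U := by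
    have : E.ideal U = ⨆ i, ((𝓙 i).comap b).ideal U := by
      rw [hEsup, Scheme.IdealSheafData.ideal_iSup, iSup_apply]
    rw [← this, hUe]; exact Ideal.mem_span_singleton_self e
  obtain ⟨a, ha, hsum⟩ := (Submodule.mem_iSup_iff_exists_finsupp _ _).mp he_mem
  have hle : ∀ i, ((𝓙 i).comap b).ideal U ≤ Ideal.span {e} := by
    intro i
    rw [← hUe]
    exact hIE i U
  have hc : ∀ i, ∃ c, c * e = a i := fun i => Ideal.mem_span_singleton'.mp (hle i (ha i))
  choose c hc using hc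
  have hsum1 : ∑ i, c i = 1 := by
    have h1 : (∑ i, c i - 1) * e = 0 := by
      rw [sub_mul, Finset.sum_mul, one_mul]
      simp_rw [hc]
      rw [Finsupp.sum_fintype _ _ (fun _ => rfl)] at hsum
      rw [hsum, sub_self]
    have := (mul_right_mem_nonZeroDivisors_eq_zero_iff he).mp h1
    exact sub_eq_zero.mp this
  obtain ⟨i₀, hi₀⟩ := exists_mem_basicOpen_of_sum_eq_one U.1 c hsum1 x' hxU
  -- the basic open D
  set D : X'.affineOpens := X'.affineBasicOpen (c i₀) with hD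
  have hDU : D ≤ U := X'.affineBasicOpen_le (c i₀)
  set I := (𝓙 i₀).comap b with hI
  have hID : I.ideal D = E.ideal D := by
    apply le_antisymm (hIE i₀ D)
    rw [← E.map_ideal hDU, ← I.map_ideal hDU, hUe, Ideal.map_span, Set.image_singleton,
      Ideal.span_singleton_le_iff_mem]
    have hunit : IsUnit (X'.presheaf.map (homOfLE hDU).op (c i₀)) :=
      X'.toRingedSpace.isUnit_res_basicOpen (c i₀)
    have hmem : (X'.presheaf.map (homOfLE hDU).op).hom (a i₀) ∈
        Ideal.map (X'.presheaf.map (homOfLE hDU).op).hom (I.ideal U) :=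
      Ideal.mem_map_of_mem _ (ha i₀)
    rw [← hc i₀, map_mul] at hmem
    exact (Ideal.unit_mul_mem_iff_mem _ hunit).mp hmem
  have hcomapD : I.comap D.1.ι = E.comap D.1.ι := comap_ι_eq_of_ideal_eq I E D hID
  -- the point y over x'
  obtain ⟨y, hy⟩ := hx' i₀
  simp only at hy
  -- pull back to Y' i₀
  have hIk : I.comap (k i₀) = ⊥ := by
    rw [hI, ← Scheme.IdealSheafData.comap_comp, hk i₀, Scheme.IdealSheafData.comap_comp,
      comap_self_eq_bot, Scheme.IdealSheafData.comap_bot]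
  have hEk : E.comap (k i₀) = ((⨆ j, 𝓙 j).comap (𝓙 i₀).subschemeι).comap (b' i₀) := by
    rw [hE, ← Scheme.IdealSheafData.comap_comp, hk i₀, Scheme.IdealSheafData.comap_comp]
  set W : (Y' i₀).Opens := (k i₀) ⁻¹ᵁ D.1 with hW
  have hyW : y ∈ W := by
    change (k i₀) y ∈ D.1
    rw [hy]; exact hi₀
  have hsq : W.ι ≫ k i₀ = ((k i₀) ∣_ D.1) ≫ D.1.ι := (morphismRestrict_ι (k i₀) D.1).symm
  have hG : (E.comap (k i₀)).comap W.ι = ⊥ := by
    rw [← Scheme.IdealSheafData.comap_comp, hsq, Scheme.IdealSheafData.comap_comp, ← hcomapD,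
      ← Scheme.IdealSheafData.comap_comp, ← hsq, Scheme.IdealSheafData.comap_comp, hIk,
      Scheme.IdealSheafData.comap_bot]
  -- effective Cartier at y
  have hcart : BlowUp.IsEffCartierIdeal (E.comap (k i₀)) := by
    rw [hEk]; exact (hb' i₀).1
  obtain ⟨V, hyV, f, hf, hVf⟩ := hcart y
  obtain ⟨g, hgW, hyg⟩ := V.2.exists_basicOpen_le (V := W) ⟨y, hyW⟩ hyV
  set V₁ : (Y' i₀).affineOpens := (Y' i₀).affineBasicOpen g with hV₁
  have hV₁V : V₁ ≤ V := (Y' i₀).affineBasicOpen_le g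
  have h0 : (E.comap (k i₀)).ideal V₁ = ⊥ :=
    ideal_eq_bot_of_comap_ι (E.comap (k i₀)) W hG V₁ hgW
  rw [← (E.comap (k i₀)).map_ideal hV₁V, hVf, Ideal.map_span, Set.image_singleton,
    Ideal.span_singleton_eq_bot] at h0
  exact res_ne_zero_of_nzd V f g hf y hyg h0


end helpers

open AlgebraicGeometry CategoryTheory Limits in
/-- Let X be any scheme, J_1, …, J_n quasi-coherent ideals on X with closed subschemes Y_i, and b : X' →
X a blowing up of X in the ideal J_1 + ⋯ + J_n of the intersection of the Y_i. For each i let b_i' :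
Y_i' → Y_i be a blowing up of Y_i in the inverse image of J_1 + ⋯ + J_n and k_i : Y_i' → X' the
morphism with k_i ≫ b = b_i' ≫ (Y_i → X), so that the image of k_i is the strict transform of Y_i.
Then the strict transforms have empty common intersection: no point of X' lies in the image of every
k_i. -/
theorem result
    {X X' : Scheme.{u}} {n : ℕ} (𝓙 : Fin n → X.IdealSheafData) (b : X' ⟶ X)
    (hb : BlowUp.IsBlowUp b (⨆ i, 𝓙 i))
    (Y' : Fin n → Scheme.{u}) (b' : ∀ i, Y' i ⟶ (𝓙 i).subscheme)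
    (hb' : ∀ i, BlowUp.IsBlowUp (b' i) ((⨆ j, 𝓙 j).comap (𝓙 i).subschemeι))
    (k : ∀ i, Y' i ⟶ X') (hk : ∀ i, k i ≫ b = b' i ≫ (𝓙 i).subschemeι) :
    (⋂ i, Set.range (fun y => k i y)) = (∅ : Set X') := by
  exact main 𝓙 b hb Y' b' hb' k hk

end Groth.Agent.S17386
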