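import Groth.Statements.S17393
import Mathlib
import Groth.Agent.S17386

set_option autoImplicit false
universe u
open BlowUp

namespace Groth.Agent.S17393

section helpers
open AlgebraicGeometry CategoryTheory Limits
variable {X Y : Scheme.{u}}

theorem appLE_mem_comap (f : X ⟶ Y) (I : Y.IdealSheafData) (V : Y.affineOpens)
    (V' : X.affineOpens) (hV' : V'.1 ≤ f ⁻¹ᵁ V.1) (s : Γ(Y, V.1)) (hs : s ∈ I.ideal V) :
    (f.appLE V.1 V'.1 hV').hom s ∈ (I.comap f).ideal V' := by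
  rw [← Scheme.IdealSheafData.ker_subschemeι_app, RingHom.mem_ker]
  set ι' := (I.comap f).subschemeι with hι'
  set g : (I.comap f).subscheme ⟶ I.subscheme := (I.comapIso f).hom ≫ pullback.snd _ _ with hg
  have e1 : ι' ≫ f = g ≫ I.subschemeι := by
    rw [hg, Category.assoc, ← pullback.condition, ← Category.assoc,
      Scheme.IdealSheafData.comapIso_hom_fst]
  have e2 : (ι'.app V'.1).hom ((f.appLE V.1 V'.1 hV').hom s) =
      ((f.appLE V.1 V'.1 hV') ≫ ι'.app V'.1).hom s := rfl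
  rw [e2, Scheme.Hom.app_eq_appLE, Scheme.Hom.appLE_comp_appLE]
  have key : ∀ (h : (I.comap f).subscheme ⟶ Y) (W : (I.comap f).subscheme.Opens)
      (e : W ≤ h ⁻¹ᵁ V.1), h = g ≫ I.subschemeι → (h.appLE V.1 W e).hom s = 0 := by
    rintro _ W e rfl
    rw [Scheme.Hom.comp_appLE]
    have hs0 : (I.subschemeι.app V.1).hom s = 0 := by
      rw [← RingHom.mem_ker, Scheme.IdealSheafData.ker_subschemeι_app]; exact hs
    rw [CommRingCat.hom_comp, RingHom.comp_apply, hs0, map_zero]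
  exact key _ _ _ e1


theorem tail {X' Yt : Scheme.{u}} (I E : X'.IdealSheafData) (D : X'.affineOpens)
    (hcomapD : I.comap D.1.ι = E.comap D.1.ι) (k : Yt ⟶ X') (hIk : I.comap k = ⊥)
    (hcart : BlowUp.IsEffCartierIdeal (E.comap k)) (y : Yt) (hy : k y ∈ D.1) : False := by
  set W : Yt.Opens := k ⁻¹ᵁ D.1 with hW
  have hyW : y ∈ W := hy
  have hsq : W.ι ≫ k = (k ∣_ D.1) ≫ D.1.ι := (morphismRestrict_ι k D.1).symm
  have hG : (E.comap k).comap W.ι = ⊥ := by
    rw [← Scheme.IdealSheafData.comap_comp, hsq, Scheme.IdealSheafData.comap_comp, ← hcomapD,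
      ← Scheme.IdealSheafData.comap_comp, ← hsq, Scheme.IdealSheafData.comap_comp, hIk,
      Scheme.IdealSheafData.comap_bot]
  obtain ⟨V, hyV, f, hf, hVf⟩ := hcart y
  obtain ⟨g, hgW, hyg⟩ := V.2.exists_basicOpen_le (V := W) ⟨y, hyW⟩ hyV
  set V₁ : Yt.affineOpens := Yt.affineBasicOpen g with hV₁
  have hV₁V : V₁ ≤ V := Yt.affineBasicOpen_le g
  have h0 : (E.comap k).ideal V₁ = ⊥ :=
    Groth.Agent.S17386.ideal_eq_bot_of_comap_ι (E.comap k) W hG V₁ hgW
  rw [← (E.comap k).map_ideal hV₁V, hVf, Ideal.map_span, Set.image_singleton,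
    Ideal.span_singleton_eq_bot] at h0
  exact Groth.Agent.S17386.res_ne_zero_of_nzd V f g hf y hyg h0

theorem main93 {X X' Yt : Scheme.{u}} (𝓘 𝓘' : X.IdealSheafData) (b : X' ⟶ X)
    (hb : BlowUp.IsBlowUp b (𝓘 ⊔ 𝓘'))
    (b' : Yt ⟶ 𝓘.subscheme) (hb' : BlowUp.IsBlowUp b' ((𝓘 ⊔ 𝓘').comap 𝓘.subschemeι))
    (k : Yt ⟶ X') (hk : k ≫ b = b' ≫ 𝓘.subschemeι)
    (V : X.affineOpens) (s : Γ(X, V.1)) (hs : s ∈ 𝓘.ideal V)
    (V' : X'.affineOpens) (hV' : V'.1 ≤ b ⁻¹ᵁ V.1)
    (hmeet : (Set.range (fun y => k y) ∩ (V'.1 : Set X')).Nonempty) :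
    ((𝓘 ⊔ 𝓘').comap b).ideal V' ≠ Ideal.span {(b.appLE V.1 V'.1 hV').hom s} := by
  intro heq
  have hIE : 𝓘.comap b ≤ (𝓘 ⊔ 𝓘').comap b := Scheme.IdealSheafData.comap_mono b le_sup_left
  have hID : (𝓘.comap b).ideal V' = ((𝓘 ⊔ 𝓘').comap b).ideal V' := by
    apply le_antisymm (hIE V')
    rw [heq, Ideal.span_singleton_le_iff_mem]
    exact appLE_mem_comap b 𝓘 V V' hV' s hs
  have hcomapD := Groth.Agent.S17386.comap_ι_eq_of_ideal_eq _ _ V' hID
  obtain ⟨x', ⟨y, hy⟩, hx'V⟩ := hmeet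
  simp only at hy
  have hIk : (𝓘.comap b).comap k = ⊥ := by
    rw [← Scheme.IdealSheafData.comap_comp, hk, Scheme.IdealSheafData.comap_comp,
      Groth.Agent.S17386.comap_self_eq_bot, Scheme.IdealSheafData.comap_bot]
  have hEk : ((𝓘 ⊔ 𝓘').comap b).comap k = ((𝓘 ⊔ 𝓘').comap 𝓘.subschemeι).comap b' := by
    rw [← Scheme.IdealSheafData.comap_comp, hk, Scheme.IdealSheafData.comap_comp]
  have hcart : BlowUp.IsEffCartierIdeal (((𝓘 ⊔ 𝓘').comap b).comap k) := by
    rw [hEk]; exact hb'.1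
  exact tail _ _ V' hcomapD k hIk hcart y (by rw [hy]; exact hx'V)

end helpers

open AlgebraicGeometry CategoryTheory Limits in
/-- Let X be any scheme, I and I' quasi-coherent ideals on X (of closed subschemes Y and Y'), b : X' → X
a blowing up of X in I + I' (the ideal of Y ∩ Y'), b' : Ỹ → Y a blowing up of Y = V(I) in the
inverse image of I + I' and k : Ỹ → X' the morphism with k ≫ b = b' ≫ (Y → X), whose image is the
strict transform of Y. For an affine open V of X, a section s of I over V, and an affine open V' ⊆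
b⁻¹(V) of X' which meets the image of k, the ideal of the inverse image ideal sheaf (I + I')·O_X' on
V' is not the principal ideal generated by the pullback of s. Equivalently the strict transform of Y
does not meet the open locus U(s) where s generates the (invertible) inverse image ideal; since the
U(s) for s ranging over local sections of I and of I' cover X', the strict transform of Y lies in
the union of the U(s) with s a local section of I'. -/
theorem result
    {X X' Yt : Scheme.{u}} (𝓘 𝓘' : X.IdealSheafData) (b : X' ⟶ X) (hb : BlowUp.IsBlowUp b (𝓘 ⊔ 𝓘'))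
    (b' : Yt ⟶ 𝓘.subscheme) (hb' : BlowUp.IsBlowUp b' ((𝓘 ⊔ 𝓘').comap 𝓘.subschemeι))
    (k : Yt ⟶ X') (hk : k ≫ b = b' ≫ 𝓘.subschemeι)
    (V : X.affineOpens) (s : Γ(X, V.1)) (hs : s ∈ 𝓘.ideal V)
    (V' : X'.affineOpens) (hV' : V'.1 ≤ b ⁻¹ᵁ V.1)
    (hmeet : (Set.range (fun y => k y) ∩ (V'.1 : Set X')).Nonempty) :
    ((𝓘 ⊔ 𝓘').comap b).ideal V' ≠ Ideal.span {(b.appLE V.1 V'.1 hV').hom s} := by
  exact main93 𝓘 𝓘' b hb b' hb' k hk V s hs V' hV' hmeet

end Groth.Agent.S17393
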