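import Groth.Statements.S17414
import Groth.Agent.Lib.Helper55.Quadric

set_option autoImplicit false
universe u
open Prym5

namespace Groth.Agent.S17414

/-- Over a perfect field K of characteristic different from 2 and 3, let G₂, G₃, G₄ be polynomials in x,
y, let h = G₂ z² + 2 G₃ z + G₄ in K[x, y, z] and D = G₃² − G₂ G₄ in K[x, y]. Suppose h ∈ (x, y, z) —
the origin Q lies on the surface h = 0 — and D ∈ (x, y) — the image of Q under (x, y, z) ↦ (x, y)
lies on the discriminant curve D = 0. Then D ∈ (x, y)², i.e. the image point is singular on the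
discriminant curve, if and only if either h ∈ (x, y, z)², i.e. Q is a singular point of the surface,
or G₂, G₃, G₄ ∈ (x, y), i.e. Q lies on all three cones G₂ = G₃ = G₄ = 0. (Affine-local form, in a
chart where the node projected from sits at infinity on the z-axis and Q at the origin, of the
published claim: for a point Q ≠ P of the nodal quartic whose projection lies on the branch sextic,
the projection is singular on the sextic exactly when Q is singular on the quartic or lies on the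
cones u₂ = u₃ = u₄ = 0.) -/
theorem result (K : Type u) [Field K] [PerfectField K]
    (h2 : (2 : K) ≠ 0) (h3 : (3 : K) ≠ 0) (G₂ G₃ G₄ : MvPolynomial (Fin 2) K)
    (hQ : MvPolynomial.rename (Fin.castSucc : Fin 2 → Fin 3) G₂ * MvPolynomial.X (2 : Fin 3) ^ 2
        + 2 * MvPolynomial.rename (Fin.castSucc : Fin 2 → Fin 3) G₃ * MvPolynomial.X (2 : Fin 3)
        + MvPolynomial.rename (Fin.castSucc : Fin 2 → Fin 3) G₄
        ∈ Ideal.span (Set.range (MvPolynomial.X : Fin 3 → MvPolynomial (Fin 3) K)))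
    (hD : G₃ ^ 2 - G₂ * G₄ ∈ Ideal.span (Set.range (MvPolynomial.X : Fin 2 → MvPolynomial (Fin 2) K))) :
    G₃ ^ 2 - G₂ * G₄ ∈ (Ideal.span (Set.range (MvPolynomial.X : Fin 2 → MvPolynomial (Fin 2) K))) ^ 2 ↔
      (MvPolynomial.rename (Fin.castSucc : Fin 2 → Fin 3) G₂ * MvPolynomial.X (2 : Fin 3) ^ 2
          + 2 * MvPolynomial.rename (Fin.castSucc : Fin 2 → Fin 3) G₃ * MvPolynomial.X (2 : Fin 3)
          + MvPolynomial.rename (Fin.castSucc : Fin 2 → Fin 3) G₄
          ∈ (Ideal.span (Set.range (MvPolynomial.X : Fin 3 → MvPolynomial (Fin 3) K))) ^ 2 ∨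
        (G₂ ∈ Ideal.span (Set.range (MvPolynomial.X : Fin 2 → MvPolynomial (Fin 2) K)) ∧
          G₃ ∈ Ideal.span (Set.range (MvPolynomial.X : Fin 2 → MvPolynomial (Fin 2) K)) ∧
          G₄ ∈ Ideal.span (Set.range (MvPolynomial.X : Fin 2 → MvPolynomial (Fin 2) K)))) := by
  have hc₄ : MvPolynomial.coeff 0 G₄ = 0 := by
    rw [← Groth.Agent.Lib.Helper55.Quadric.coeff_zero_hpoly G₂ G₃ G₄]
    exact (Groth.Agent.Lib.Helper55.Quadric.mem_idealOfVars_iff _).1 hQ
  have hG₄ : G₄ ∈ MvPolynomial.idealOfVars (Fin 2) K :=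
    (Groth.Agent.Lib.Helper55.Quadric.mem_idealOfVars_iff _).2 hc₄
  have hc₃ : MvPolynomial.coeff 0 G₃ = 0 := by
    have := (Groth.Agent.Lib.Helper55.Quadric.mem_idealOfVars_iff _).1 hD
    rw [← MvPolynomial.constantCoeff_eq] at this hc₄ ⊢
    rw [map_sub, map_pow, map_mul, hc₄, mul_zero, sub_zero] at this
    exact pow_eq_zero_iff (two_ne_zero) |>.1 this
  have hG₃ : G₃ ∈ MvPolynomial.idealOfVars (Fin 2) K :=
    (Groth.Agent.Lib.Helper55.Quadric.mem_idealOfVars_iff _).2 hc₃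
  have hG₃sq : G₃ ^ 2 ∈ MvPolynomial.idealOfVars (Fin 2) K ^ 2 := by
    rw [sq, sq]
    exact Ideal.mul_mem_mul hG₃ hG₃
  constructor
  · intro hDsq
    have hmul : G₂ * G₄ ∈ MvPolynomial.idealOfVars (Fin 2) K ^ 2 := by
      have : G₂ * G₄ = G₃ ^ 2 - (G₃ ^ 2 - G₂ * G₄) := by ring
      rw [this]
      exact Ideal.sub_mem _ hG₃sq hDsq
    by_cases hc₂ : MvPolynomial.coeff 0 G₂ = 0
    · right
      exact ⟨(Groth.Agent.Lib.Helper55.Quadric.mem_idealOfVars_iff _).2 hc₂, hG₃, hG₄⟩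
    · left
      exact Groth.Agent.Lib.Helper55.Quadric.hpoly_mem_sq G₂ G₃ G₄ hG₃
        (Groth.Agent.Lib.Helper55.Quadric.mem_sq_of_mul_mem_sq G₂ G₄ hc₂ hG₄ hmul)
  · rintro (h | ⟨hG₂, -, -⟩)
    · obtain ⟨-, hG₄sq⟩ := Groth.Agent.Lib.Helper55.Quadric.mem_of_hpoly_mem_sq G₂ G₃ G₄ h2 h
      exact Ideal.sub_mem _ hG₃sq (Ideal.mul_mem_left _ _ hG₄sq)
    · refine Ideal.sub_mem _ hG₃sq ?_
      rw [sq]
      exact Ideal.mul_mem_mul hG₂ hG₄

end Groth.Agent.S17414
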