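import Groth.Statements.S1742
import Groth.Agent.Lib.Helper67.Spread

set_option autoImplicit false
universe u
open LocCoh

namespace Groth.Agent.S1742

/-- Let A be a Noetherian ring, I an ideal, M a finite A-module and p a prime containing I such that the
IA_p-depth of M_p is a finite number e. Then there is an open subset U of Spec A meeting V(p) such
that the IA_q-depth of M_q is at least e for every q in U ∩ V(p). -/
theorem result (A : Type u) [CommRing A] [IsNoetherianRing A] (I : Ideal A) (M : Type u) [AddCommGroup M] [Module A M] [Module.Finite A M] (p : PrimeSpectrum A) (hp : I ≤ p.asIdeal) (e : ℕ) (he : LocCoh.idealDepth (I.map (algebraMap A (Localization.AtPrime p.asIdeal))) (LocalizedModule p.asIdeal.primeCompl M) = e) : ∃ U : Set (PrimeSpectrum A), IsOpen U ∧ (U ∩ PrimeSpectrum.zeroLocus (p.asIdeal : Set A)).Nonempty ∧ ∀ q : PrimeSpectrum A, q ∈ U → p ≤ q → (e : ℕ∞) ≤ LocCoh.idealDepth (I.map (algebraMap A (Localization.AtPrime q.asIdeal))) (LocalizedModule q.asIdeal.primeCompl M) := by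
  have h1 : (e : ℕ∞) ≤ LocCoh.idealDepth (I.map (algebraMap A (Localization.AtPrime p.asIdeal)))
      (LocalizedModule p.asIdeal.primeCompl M) := he.ge
  rw [Groth.Agent.Lib.Helper67.le_idealDepth_iff] at h1
  rcases h1 with htop | ⟨rs, hlen, hreg, hmem⟩
  · exfalso
    rw [Groth.Agent.Lib.Helper67.idealDepth_eq_top_of_smul_top_eq_top _ _ htop] at he
    exact ENat.natCast_ne_top e he.symm
  · obtain ⟨as, haslen, hasI, hasreg⟩ :=
      Groth.Agent.Lib.Helper67.exists_numerators_isWeaklyRegular p.asIdeal.primeCompl I rs _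
        hreg hmem
    obtain ⟨g, hg, H⟩ :=
      Groth.Agent.Lib.Helper67.exists_isWeaklyRegular_localizedModule_of_atPrime p.asIdeal as M
        hasreg
    refine ⟨PrimeSpectrum.basicOpen g, (PrimeSpectrum.basicOpen g).isOpen,
      ⟨p, hg, ?_⟩, fun q hq _ => ?_⟩
    · rw [PrimeSpectrum.mem_zeroLocus]
    · have h2 := H q.asIdeal.primeCompl 1 (by rw [mul_one]; exact hq)
      have h3 := Groth.Agent.Lib.Helper67.length_le_idealDepth
        (I.map (algebraMap A (Localization.AtPrime q.asIdeal)))
        (LocalizedModule q.asIdeal.primeCompl M) _ h2 (by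
          intro r hr
          rcases List.mem_map.mp hr with ⟨a, ha, rfl⟩
          exact Ideal.mem_map_of_mem _ (hasI a ha))
      rw [List.length_map, haslen, hlen] at h3
      exact h3

end Groth.Agent.S1742
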