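import Groth.Statements.S17428
import Mathlib.Tactic
import Mathlib.RingTheory.AdicCompletion.AsTensorProduct
import Mathlib.RingTheory.Noetherian.Nilpotent
import Mathlib.RingTheory.Ideal.Operations
-- import your own Groth.Agent.* helpers here

set_option autoImplicit false
universe u
open FrobAlg
open scoped TensorProduct

namespace Groth.Agent.S17428


section helpers

variable (p : ℕ) [Fact p.Prime] (A : Type u) [CommRing A] [CharP A p]

/-- scalar action on the twist -/
theorem smul_twist (a : A) (m : Twist p A) :
    a • m = toTwist p A (a ^ p) * m := by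
  rw [Algebra.smul_def, algebraMap_twist]

/-- the identity `Twist p A → A` as a Frobenius-semilinear map -/
def iota : Twist p A →ₛₗ[frobenius A p] A where
  toFun m := (toTwist p A).symm m
  map_add' x y := map_add _ x y
  map_smul' a m := by
    rw [smul_twist, map_mul, RingEquiv.symm_apply_apply, frobenius_def, smul_eq_mul]

@[simp] theorem iota_apply (m : Twist p A) : iota p A m = (toTwist p A).symm m := rfl

/-- `K • ⊤` inside the twist is closed under multiplication by arbitrary elements. -/
theorem mul_mem_smul_top (K : Ideal A) (a x : Twist p A)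
    (hx : x ∈ (K • ⊤ : Submodule A (Twist p A))) :
    a * x ∈ (K • ⊤ : Submodule A (Twist p A)) := by
  refine Submodule.smul_induction_on hx ?_ ?_
  · intro r hr m _
    have : a * (r • m) = r • (a * m) := by
      rw [smul_twist, smul_twist]; ring
    rw [this]
    exact Submodule.smul_mem_smul hr Submodule.mem_top
  · intro x y hx hy
    rw [mul_add]
    exact Submodule.add_mem _ hx hy

/-- elements of `K • ⊤` in the twist lie in `K` -/
theorem mem_of_mem_smul_top (K : Ideal A) (x : Twist p A)
    (hx : x ∈ (K • ⊤ : Submodule A (Twist p A))) : (toTwist p A).symm x ∈ K := by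
  refine Submodule.smul_induction_on hx ?_ ?_
  · intro r hr m _
    rw [smul_twist, map_mul, RingEquiv.symm_apply_apply]
    exact Ideal.mul_mem_right _ _ (Ideal.pow_mem_of_mem _ hr p (Fact.out : p.Prime).pos)
  · intro x y hx hy
    rw [map_add]
    exact Ideal.add_mem _ hx hy

/-- the Frobenius image ideal lies in `K • ⊤` of the twist -/
theorem mem_smul_top_of_mem_map (K : Ideal A) (a : A)
    (ha : a ∈ Ideal.map (frobenius A p) K) :
    toTwist p A a ∈ (K • ⊤ : Submodule A (Twist p A)) := by
  unfold Ideal.map at ha
  refine Submodule.span_induction ?_ ?_ ?_ ?_ ha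
  · rintro _ ⟨i, hi, rfl⟩
    have : toTwist p A (frobenius A p i) = i • (1 : Twist p A) := by
      rw [smul_twist, mul_one, frobenius_def]
    rw [this]
    exact Submodule.smul_mem_smul hi Submodule.mem_top
  · rw [map_zero]; exact Submodule.zero_mem _
  · intro x y _ _ hx hy
    rw [map_add]; exact Submodule.add_mem _ hx hy
  · intro c x _ hx
    rw [smul_eq_mul, map_mul]
    exact mul_mem_smul_top p A K _ _ hx

theorem exists_k [IsNoetherianRing A] (I : Ideal A) :
    ∃ k : ℕ, 0 < k ∧ ∀ (n : ℕ) (a : A), a ∈ I ^ (k * n) →
      toTwist p A a ∈ (I ^ n • ⊤ : Submodule A (Twist p A)) := by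
  have hrad : I ≤ (Ideal.map (frobenius A p) I).radical := by
    intro x hx
    refine ⟨p, ?_⟩
    rw [← frobenius_def]
    exact Ideal.mem_map_of_mem _ hx
  obtain ⟨k, hk⟩ := Ideal.exists_pow_le_of_le_radical_of_fg hrad (IsNoetherian.noetherian I)
  refine ⟨k + 1, Nat.succ_pos k, fun n a ha => ?_⟩
  apply mem_smul_top_of_mem_map
  rw [Ideal.map_pow]
  have : I ^ ((k + 1) * n) ≤ (Ideal.map (frobenius A p) I) ^ n := by
    rw [pow_mul]
    exact Ideal.pow_right_mono ((Ideal.pow_le_pow_right (Nat.le_succ k)).trans hk) n
  exact this ha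

theorem le_comap_iota (I : Ideal A) (n : ℕ) :
    (I ^ n • ⊤ : Submodule A (Twist p A)) ≤
      Submodule.comap (iota p A) (I ^ n • ⊤ : Submodule A A) := by
  intro x hx
  rw [Submodule.mem_comap, iota_apply, smul_eq_mul, Ideal.mul_top]
  exact mem_of_mem_smul_top p A _ x hx

/-- the comparison maps on the quotients -/
def gmap (I : Ideal A) (n : ℕ) :
    (Twist p A ⧸ (I ^ n • ⊤ : Submodule A (Twist p A))) →ₛₗ[frobenius A p]
      (A ⧸ (I ^ n • ⊤ : Submodule A A)) :=
  Submodule.mapQ _ _ (iota p A) (le_comap_iota p A I n)

theorem gmap_mk (I : Ideal A) (n : ℕ) (m : Twist p A) :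
    gmap p A I n (Submodule.Quotient.mk m) = Submodule.Quotient.mk ((toTwist p A).symm m) := rfl

theorem relFrob_tmul (B : Type u) [CommRing B] [Algebra A B] [CharP B p] (b : B) (a : Twist p A) :
    relFrob p A B (b ⊗ₜ[A] a) = b ^ p * algebraMap A B ((toTwist p A).symm a) := by
  simp [relFrob, frobHom, inclHom, toTarget, frobenius_def]

theorem key (I : Ideal A) [CharP (AdicCompletion I A) p]
    (t : AdicCompletion I A ⊗[A] Twist p A) (n : ℕ) :
    gmap p A I n ((AdicCompletion.ofTensorProduct I (Twist p A) t).val n) =
      (relFrob p A (AdicCompletion I A) t).val n := by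
  induction t using TensorProduct.induction_on with
  | zero => simp
  | add x y hx hy =>
    rw [map_add, map_add, AdicCompletion.val_add_apply, map_add, hx, hy,
      AdicCompletion.val_add_apply]
  | tmul b a =>
    rw [AdicCompletion.ofTensorProduct_tmul, AdicCompletion.smul_eval, relFrob_tmul]
    obtain ⟨bn, hbn⟩ := Submodule.Quotient.mk_surjective _ (b.val n)
    rw [← hbn]
    have h1 : (Submodule.Quotient.mk bn : A ⧸ (I ^ n • ⊤ : Submodule A A)) •
        ((AdicCompletion.of I (Twist p A) a).val n) =
        Submodule.Quotient.mk (bn • a) := rfl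
    rw [h1, gmap_mk, smul_twist, map_mul, RingEquiv.symm_apply_apply]
    have h2 : (b ^ p * algebraMap A (AdicCompletion I A) ((toTwist p A).symm a)).val n =
        (b.val n) ^ p * Submodule.Quotient.mk ((toTwist p A).symm a) := rfl
    rw [h2, ← hbn]
    rfl

end helpers

/-- Let p be a prime, A a regular local ring of characteristic p whose absolute Frobenius a ↦ a^p is a
finite ring homomorphism, I an ideal of A and Â the I-adic completion of A. Then Spec Â → Spec A is
relatively perfect: the relative Frobenius Â ⊗_{A,Frob} A → Â, b ⊗ a ↦ b^p a, is bijective. (Â is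
also flat over A since A is Noetherian, so the morphism is flat and relatively perfect. The instance
hypothesis that Â has characteristic p holds as soon as I ≠ A.) -/
theorem result (p : ℕ) [Fact p.Prime]
    (A : Type u) [CommRing A] [IsRegularLocalRing A] [CharP A p] (hF : (frobenius A p).Finite)
    (I : Ideal A) [CharP (AdicCompletion I A) p] :
    Function.Bijective (FrobAlg.relFrob p A (AdicCompletion I A)) := by
  haveI : IsNoetherianRing A := inferInstance
  haveI : Module.Finite A (Twist p A) := hF
  have he := AdicCompletion.ofTensorProduct_bijective_of_finite_of_isNoetherian I (Twist p A)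
  obtain ⟨k, hk0, hk⟩ := exists_k p A I
  constructor
  · -- injective
    rw [injective_iff_map_eq_zero]
    intro t ht
    apply he.1
    rw [map_zero]
    apply AdicCompletion.ext
    intro n
    rw [AdicCompletion.val_zero_apply]
    set x := AdicCompletion.ofTensorProduct I (Twist p A) t with hx
    have hkn : n ≤ k * n := Nat.le_mul_of_pos_left n hk0
    rw [← AdicCompletion.transitionMap_comp_eval_apply I (Twist p A) hkn x]
    obtain ⟨m, hm⟩ := Submodule.Quotient.mk_surjective _ (x.val (k * n))
    have h0 := key p A I t (k * n)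
    rw [← hx, ← hm, gmap_mk, ht, AdicCompletion.val_zero_apply, Submodule.Quotient.mk_eq_zero,
      smul_eq_mul, Ideal.mul_top] at h0
    have h1 := hk n _ h0
    rw [RingEquiv.apply_symm_apply] at h1
    rw [← hm]
    exact (Submodule.Quotient.mk_eq_zero _).mpr h1
  · -- surjective
    intro y
    obtain ⟨a, rfl⟩ := AdicCompletion.mk_surjective I A y
    have hcauchy : AdicCompletion.IsAdicCauchy I (Twist p A)
        (fun n => toTwist p A (a (k * n))) := by
      intro m n hmn
      rw [SModEq.sub_mem, ← map_sub]
      apply hk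
      have hc := a.property (Nat.mul_le_mul_left k hmn)
      rwa [SModEq.sub_mem, smul_eq_mul, Ideal.mul_top] at hc
    obtain ⟨t, ht⟩ := he.2 (AdicCompletion.mk I (Twist p A) ⟨_, hcauchy⟩)
    refine ⟨t, ?_⟩
    apply AdicCompletion.ext
    intro n
    rw [← key, ht]
    have hkn : n ≤ k * n := Nat.le_mul_of_pos_left n hk0
    change gmap p A I n (Submodule.Quotient.mk (toTwist p A (a (k * n)))) =
      Submodule.Quotient.mk (a n)
    rw [gmap_mk, RingEquiv.symm_apply_apply]
    exact AdicCompletion.AdicCauchySequence.mk_eq_mk hkn a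

end Groth.Agent.S17428
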