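import Groth.Statements.S1744
import Groth.Agent.Lib.Helper98.LCSum
import Mathlib.Algebra.Homology.DerivedCategory.Ext.EnoughProjectives

set_option autoImplicit false
universe u
open CategoryTheory
attribute [local instance] HasDerivedCategory.standard
open LocCoh

namespace Groth.Agent.S1744

open Groth.Agent.Lib.Helper92.LC Abelian

variable {A : Type u} [CommRing A]

/-- universal elements of `Ext^j(X, -)` -/
theorem exists_universal (j : ℕ) : ∀ X : ModuleCat.{u} A, ∃ (K : ModuleCat.{u} A) (v : Ext.{u} X K j),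
    ∀ (N : ModuleCat.{u} A) (ξ : Ext.{u} X N j), ∃ φ : K ⟶ N, ξ = v.comp (Ext.mk₀ φ) (add_zero j) := by
  induction j with
  | zero =>
    intro X
    refine ⟨X, Ext.mk₀ (𝟙 X), fun N ξ => ⟨Ext.homEquiv₀ ξ, ?_⟩⟩
    rw [Ext.mk₀_comp_mk₀, Category.id_comp, Ext.mk₀_homEquiv₀_apply]
  | succ j ih =>
    intro X
    -- syzygy sequence
    let π : Projective.over X ⟶ X := Projective.π X
    have hπ : Function.Surjective π.hom := (ModuleCat.epi_iff_surjective π).1 inferInstance
    let S : ShortComplex (ModuleCat.{u} A) :=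
      ModuleCat.shortComplexOfCompEqZero (LinearMap.ker π.hom).subtype π.hom (by
        apply LinearMap.ext
        intro x
        exact x.2)
    have hS : S.ShortExact :=
      ModuleCat.shortComplex_shortExact _ (LinearMap.exact_subtype_ker_map π.hom)
        (Submodule.subtype_injective _) hπ
    have : Projective S.X₂ := (inferInstance : Projective (Projective.over X))
    obtain ⟨K, v, hv⟩ := ih S.X₁
    refine ⟨K, hS.extClass.comp v (add_comm 1 j), fun N ξ => ?_⟩
    obtain ⟨η, hη⟩ := Ext.contravariant_sequence_exact₃ hS N ξ (Ext.eq_zero_of_projective _) (add_comm 1 j)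
    obtain ⟨φ, hφ⟩ := hv N η
    refine ⟨φ, ?_⟩
    rw [← hη, hφ, Ext.comp_assoc_of_third_deg_zero]


/-- Let I be an ideal of a Noetherian ring A and e a natural number with cd(A, I) ≤ e. For every n ≥ 1
there is m > n such that for every A-module N and every i > e, precomposing with A/I^m → A/I^n kills
every map A/I^n → N[i] in D(A), i.e. the transition maps annihilate Ext^i_A(A/I^n, N) for i > e. -/
theorem result (A : Type u) [CommRing A] [IsNoetherianRing A] (I : Ideal A) (e : ℕ) (he : LocCoh.CdLE A I e) (n : ℕ) (hn : 1 ≤ n) : ∃ (m : ℕ) (hm : n < m), ∀ (N : Type u) [AddCommGroup N] [Module A N] (i : ℕ), e < i → ∀ φ : Dual.inD A (A ⧸ I ^ n) ⟶ (Dual.inD A N)⟦(i : ℤ)⟧, (DerivedCategory.singleFunctor (ModuleCat.{u} A) 0).map (ModuleCat.ofHom (Submodule.mapQ (I ^ m) (I ^ n) LinearMap.id (Ideal.pow_le_pow_right (Nat.le_of_lt hm)))) ≫ φ = 0 := by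
  obtain ⟨K, v, hv⟩ := exists_universal (e + 1) (Q I n)
  have h0 : mk I (e + 1) n v = 0 := by
    have := he K (e + 1) (Nat.lt_succ_self e)
    exact Subsingleton.elim _ _
  rw [mk_eq_zero_iff] at h0
  obtain ⟨k, hk, hkv⟩ := h0
  have hkm : n ≤ k + 1 := hk.trans (Nat.le_succ k)
  have hvm : (Ext.mk₀ (proj I hkm)).comp v (zero_add (e + 1)) = 0 := by
    rw [← proj_comp I hk (Nat.le_succ k), ← Ext.mk₀_comp_mk₀_assoc, hkv, Ext.comp_zero]
  -- all `ξ` in degree `e + 1 + d` die
  have key : ∀ (d : ℕ) (N : ModuleCat.{u} A) (ξ : Ext.{u} (Q I n) N (e + 1 + d)),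
      (Ext.mk₀ (proj I hkm)).comp ξ (zero_add _) = 0 := by
    intro d
    induction d with
    | zero =>
      intro N ξ
      obtain ⟨φ, rfl⟩ := hv N ξ
      rw [← Ext.comp_assoc_of_third_deg_zero, hvm, Ext.zero_comp]
    | succ d ih =>
      intro N ξ
      have hS := Helper98.LCSum.sesInj_shortExact N
      obtain ⟨η, hη⟩ := Ext.covariant_sequence_exact₁ (X := Q I n) hS ξ
        (Ext.eq_zero_of_injective _) (n₀ := e + 1 + d) rfl
      rw [← hη, ← Ext.comp_assoc _ _ _ (zero_add _) rfl (by omega), ih, Ext.zero_comp]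
  refine ⟨k + 1, Nat.lt_succ_of_le hk, ?_⟩
  intro N _ _ i hi φ
  obtain ⟨d, rfl⟩ : ∃ d, i = e + 1 + d := ⟨i - (e + 1), by omega⟩
  obtain ⟨ξ, rfl⟩ := (Ext.homEquiv (X := Q I n) (Y := ModuleCat.of A N)).surjective φ
  have := key d (ModuleCat.of A N) ξ
  have h2 := Ext.singleFunctor_map_comp_hom (proj I hkm) ξ
  rw [this] at h2
  simp only [Ext.zero_hom] at h2
  exact h2

end Groth.Agent.S1744
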