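import Groth.Statements.S17444
import Mathlib.Algebra.Polynomial.AlgebraMap
import Mathlib.Algebra.Polynomial.Div
import Mathlib.Algebra.Ring.GeomSum

set_option autoImplicit false
universe u v
open SSRed

namespace Groth.Agent.S17444

/-- Let K be a field of characteristic zero, V a K-vector space and g a K-linear endomorphism of V such
that g - 1 is nilpotent (a unipotent automorphism). Then for every integer n > 0 the endomorphisms
gⁿ - 1 and g - 1 have the same kernel: a vector fixed by gⁿ is fixed by g. (The published statement
assumes V finite-dimensional; this row allows any V.) -/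
theorem result (K : Type u) (V : Type v) [Field K] [CharZero K]
    [AddCommGroup V] [Module K V] (g : Module.End K V) (hg : IsNilpotent (g - 1)) (n : ℕ) (hn : 0 < n) :
    LinearMap.ker (g ^ n - 1) = LinearMap.ker (g - 1) := by
  classical
  set u : Module.End K V := ∑ i ∈ Finset.range n, g ^ i with hu
  have h1 : u * (g - 1) = g ^ n - 1 := geom_sum_mul g n
  have hunit : IsUnit u := by
    let P : Polynomial K := ∑ i ∈ Finset.range n, Polynomial.X ^ i
    have hP1 : P.eval 1 = (n : K) := by
      simp [P, Polynomial.eval_finset_sum]
    obtain ⟨Q, hQ⟩ : Polynomial.X - Polynomial.C (1 : K) ∣ P - Polynomial.C (P.eval 1) :=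
      Polynomial.X_sub_C_dvd_sub_C_eval
    have hP : P = Polynomial.C (n : K) + (Polynomial.X - Polynomial.C 1) * Q := by
      rw [← hQ, hP1]
      ring
    have huP : u = Polynomial.aeval g P := by
      simp [P, hu, map_sum]
    have hu2 : u = algebraMap K (Module.End K V) (n : K) + (g - 1) * Polynomial.aeval g Q := by
      rw [huP, hP]
      simp
    have hcomm : Commute (g - 1) (Polynomial.aeval g Q) := by
      have : g - 1 = Polynomial.aeval g (Polynomial.X - Polynomial.C (1 : K)) := by simp
      rw [this]
      exact (Commute.all _ _).map (Polynomial.aeval g)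
    have hnil : IsNilpotent ((g - 1) * Polynomial.aeval g Q) := hcomm.isNilpotent_mul_right hg
    have hn0 : (n : K) ≠ 0 := Nat.cast_ne_zero.2 hn.ne'
    have hunit_n : IsUnit (algebraMap K (Module.End K V) (n : K)) :=
      (IsUnit.mk0 _ hn0).map (algebraMap K (Module.End K V))
    rw [hu2]
    exact hnil.isUnit_add_left_of_commute hunit_n (Algebra.commutes _ _).symm
  ext v
  simp only [LinearMap.mem_ker]
  rw [← h1]
  constructor
  · intro h
    obtain ⟨w, hw⟩ := hunit
    have h2 : u ((g - 1) v) = 0 := h
    have h3 := congrArg (fun x => (↑w⁻¹ : Module.End K V) x) h2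
    simp only [map_zero] at h3
    rw [← hw, ← Module.End.mul_apply, Units.inv_mul, Module.End.one_apply] at h3
    exact h3
  · intro h
    rw [Module.End.mul_apply, h, map_zero]

end Groth.Agent.S17444
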