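import Groth.Statements.S17446
import Groth.Agent.Lib.Helper59.UnipProd

set_option autoImplicit false
universe u v
open SSRed

namespace Groth.Agent.S17446

/-- Let K be a field, V a finite-dimensional K-vector space and H₁, H₂ subgroups of the group of
K-linear automorphisms of V such that H₂ normalizes H₁. Call the action of a subgroup H unipotent
when, for some n, every product (h₁ - 1)(h₂ - 1)⋯(hₙ - 1) with all hᵢ in H is the zero endomorphism
(equivalently, V has an H-stable flag on whose successive quotients H acts trivially). If H₁ and H₂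
act unipotently, then the subgroup generated by H₁ and H₂ acts unipotently. (In the published result
H₁ and H₂ are the absolute Galois groups of two finite Galois extensions of a strictly henselian
discretely valued field over which an abelian variety becomes semistable, acting on its rational
ℓ-adic Tate module, and the conclusion is semistability over the intersection of the two fields; the
printed argument uses only that H₂ normalizes H₁.) -/
theorem result (K : Type u) (V : Type v) [Field K]
    [AddCommGroup V] [Module K V] [FiniteDimensional K V]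
    (H₁ H₂ : Subgroup (V ≃ₗ[K] V)) (hnorm : ∀ g ∈ H₂, ∀ h ∈ H₁, g * h * g⁻¹ ∈ H₁)
    (h₁ : ∃ n : ℕ, ∀ f : Fin n → ↥H₁,
      (List.ofFn fun i => (((f i : ↥H₁) : V ≃ₗ[K] V) : Module.End K V) - 1).prod = 0)
    (h₂ : ∃ n : ℕ, ∀ f : Fin n → ↥H₂,
      (List.ofFn fun i => (((f i : ↥H₂) : V ≃ₗ[K] V) : Module.End K V) - 1).prod = 0) :
    ∃ n : ℕ, ∀ f : Fin n → ↥(H₁ ⊔ H₂),
      (List.ofFn fun i => (((f i : ↥(H₁ ⊔ H₂)) : V ≃ₗ[K] V) : Module.End K V) - 1).prod = 0 := by
  classical
  obtain ⟨n₁, hn₁⟩ := h₁
  obtain ⟨n₂, hn₂⟩ := h₂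
  let ρ : (V ≃ₗ[K] V) →* Module.End K V := LinearEquiv.automorphismGroup.toLinearMapMonoidHom
  have e₁ := Groth.Agent.Lib.Helper59.UnipProd.J_pow_eq_bot (K := K) ρ H₁ n₁ hn₁
  have e₂ := Groth.Agent.Lib.Helper59.UnipProd.J_pow_eq_bot (K := K) ρ H₂ n₂ hn₂
  have e := Groth.Agent.Lib.Helper59.UnipProd.J_sup_pow_eq_bot (K := K) ρ hnorm n₁ n₂ e₁ e₂
  refine ⟨n₂ * n₁, ?_⟩
  intro f
  have hmem := Groth.Agent.Lib.Helper59.UnipProd.prod_mem_J_pow (K := K) ρ (H₁ ⊔ H₂) (n₂ * n₁) f
  rw [e] at hmem
  exact (Submodule.mem_bot K).mp hmem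

end Groth.Agent.S17446
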