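import Groth.Statements.S17448
import Groth.Agent.Lib.Helper9.HenselSplit

set_option autoImplicit false
universe u
open CategoryTheory CategoryTheory.Limits AlgebraicGeometry
open Hensel

namespace Groth.Agent.S17448

/-- Sections over henselian rings: let R be a henselian local ring with residue field k and X → Spec R a
quasi-finite (quasi-compact with discrete fibres), separated and étale morphism. Then the natural
map from sections X(R) to points X(k) of the special fibre is bijective: for every morphism t : Spec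
k → X over Spec k → Spec R there is exactly one section s : Spec R → X of X → Spec R whose
restriction to Spec k is t. -/
theorem result (R : Type u) [CommRing R]
    [HenselianLocalRing R] {X : Scheme.{u}} (f : X ⟶ Spec (CommRingCat.of R))
    [LocallyQuasiFinite f] [QuasiCompact f] [IsSeparated f] [Etale f]
    (t : Spec (CommRingCat.of (IsLocalRing.ResidueField R)) ⟶ X)
    (ht : t ≫ f = Spec.map (CommRingCat.ofHom (IsLocalRing.residue R))) :
    ∃! s : Spec (CommRingCat.of R) ⟶ X,
      s ≫ f = 𝟙 (Spec (CommRingCat.of R)) ∧ Spec.map (CommRingCat.ofHom (IsLocalRing.residue R)) ≫ s = t := by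
  let k := IsLocalRing.ResidueField R
  let x : X := t.base (IsLocalRing.closedPoint k)
  obtain ⟨V, hV, hxV, -⟩ := exists_isAffineOpen_mem_and_subset
    (show x ∈ (⊤ : X.Opens) from trivial)
  let R' : CommRingCat.{u} := Γ(X, V)
  let φ : CommRingCat.of R ⟶ R' := Spec.preimage (hV.fromSpec ≫ f)
  have hφ : Spec.map φ = hV.fromSpec ≫ f := Spec.map_preimage _
  letI : Algebra R R' := φ.hom.toAlgebra
  haveI : Etale (Spec.map φ) := by rw [hφ]; infer_instance
  have hEt : φ.hom.Etale := (HasRingHomProperty.Spec_iff (P := @Etale)).mp inferInstance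
  haveI : Algebra.Etale R R' := hEt
  -- morphisms from local schemes hitting `x` at the closed point factor through `V`
  have hfac : ∀ {B : Type u} [CommRing B] [IsLocalRing B] (a : Spec (CommRingCat.of B) ⟶ X),
      a.base (IsLocalRing.closedPoint B) = x →
      ∃ α : R' ⟶ CommRingCat.of B, Spec.map α ≫ hV.fromSpec = a := by
    intro B _ _ a ha
    have hrange : Set.range a.base ⊆ Set.range hV.fromSpec.base := by
      rintro _ ⟨p, rfl⟩
      rw [hV.range_fromSpec]
      exact ((IsLocalRing.specializes_closedPoint p).map a.continuous).mem_open V.2 (ha ▸ hxV)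
    refine ⟨Spec.preimage (IsOpenImmersion.lift hV.fromSpec a hrange), ?_⟩
    rw [Spec.map_preimage, IsOpenImmersion.lift_fac]
  obtain ⟨θ, hθ⟩ := hfac t rfl
  have hφθ : φ ≫ θ = CommRingCat.ofHom (IsLocalRing.residue R) := by
    apply Spec.map_injective
    rw [Spec.map_comp, hφ, ← Category.assoc, hθ, ht]
  let Ψ : R' →ₐ[R] IsLocalRing.ResidueField R :=
    { θ.hom with commutes' := fun r => congr($hφθ r) }
  obtain ⟨τ, hτ⟩ := Groth.Agent.Lib.Helper9.exists_lift_of_etale Ψ
  -- sections through `x` correspond to algebra maps lifting `θ`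
  have hsec : ∀ s : Spec (CommRingCat.of R) ⟶ X, s ≫ f = 𝟙 _ →
      Spec.map (CommRingCat.ofHom (IsLocalRing.residue R)) ≫ s = t →
      ∃ σ : R' →ₐ[R] R, (∀ a, IsLocalRing.residue R (σ a) = Ψ a) ∧
        s = Spec.map (CommRingCat.ofHom (σ : R' →+* R)) ≫ hV.fromSpec := by
    intro s hs₁ hs₂
    have hscl : s.base (IsLocalRing.closedPoint R) = x := by
      have h1 : (Spec.map (CommRingCat.ofHom (IsLocalRing.residue R))).base
          (IsLocalRing.closedPoint k) = IsLocalRing.closedPoint R :=
        IsLocalRing.comap_closedPoint (IsLocalRing.residue R)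
      rw [← h1, ← Scheme.Hom.comp_apply, hs₂]
    obtain ⟨α, hα⟩ := hfac s hscl
    have h1 : φ ≫ α = 𝟙 _ := by
      apply Spec.map_injective
      rw [Spec.map_comp, hφ, ← Category.assoc, hα, hs₁, Spec.map_id]
    have h2 : α ≫ CommRingCat.ofHom (IsLocalRing.residue R) = θ := by
      apply Spec.map_injective
      apply (cancel_mono hV.fromSpec).1
      rw [Spec.map_comp, Category.assoc, hα, hs₂, hθ]
    let σ : R' →ₐ[R] R := { α.hom with commutes' := fun r => congr($h1 r) }
    refine ⟨σ, fun a => congr($h2 a), ?_⟩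
    rw [← hα]
    rfl
  let s₀ : Spec (CommRingCat.of R) ⟶ X :=
    Spec.map (CommRingCat.ofHom (τ : R' →+* R)) ≫ hV.fromSpec
  have hs₀₁ : s₀ ≫ f = 𝟙 _ := by
    change (Spec.map _ ≫ hV.fromSpec) ≫ f = _
    rw [Category.assoc, ← hφ, ← Spec.map_comp, ← Spec.map_id]
    congr 1
    ext r
    exact τ.commutes r
  have hs₀₂ : Spec.map (CommRingCat.ofHom (IsLocalRing.residue R)) ≫ s₀ = t := by
    change _ ≫ Spec.map _ ≫ hV.fromSpec = _
    rw [← Category.assoc, ← Spec.map_comp, ← hθ]
    congr 2
    ext a
    exact hτ a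
  refine ⟨s₀, ⟨hs₀₁, hs₀₂⟩, fun s ⟨hs₁, hs₂⟩ => ?_⟩
  obtain ⟨σ, hσ, rfl⟩ := hsec s hs₁ hs₂
  have heq : σ = τ := by
    apply Groth.Agent.Lib.Helper9.algHom_ext_of_sub_mem_jacobson
    intro a
    rw [IsLocalRing.jacobson_eq_maximalIdeal ⊥ bot_ne_top, ← IsLocalRing.residue_eq_zero_iff,
      map_sub, hσ, hτ, sub_self]
  rw [heq]

end Groth.Agent.S17448
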