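import Groth.Statements.S17461
-- import your own Groth.Agent.* helpers here

set_option autoImplicit false
universe u
open CategoryTheory CategoryTheory.Limits AlgebraicGeometry
open Hensel

namespace Groth.Agent.S17461

theorem key (R : Type u) [CommRing R] [IsLocalRing R]
    {X Y : Scheme.{u}} (f : X ⟶ Spec (CommRingCat.of R)) (f' : Y ⟶ Spec (CommRingCat.of R))
    (WX : X.Opens) (hfin : IsFinite (WX.ι ≫ f))
    (WY : Y.Opens) (hWY : ∀ x : ↥Y, f'.base x = IsLocalRing.closedPoint R → x ∈ WY)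
    (g : X ⟶ Y) (hg : g ≫ f' = f) (x : X) (hx : x ∈ WX) :
    g.base x ∈ WY := by
  have hcl : IsClosedMap (WX.ι ≫ f).base := (WX.ι ≫ f).isClosedMap
  let x' : WX.toScheme := ⟨x, hx⟩
  have himg : IsClosed ((WX.ι ≫ f).base '' closure {x'}) := hcl _ isClosed_closure
  have hmem : (WX.ι ≫ f).base x' ∈ (WX.ι ≫ f).base '' closure {x'} :=
    ⟨x', subset_closure rfl, rfl⟩
  have hcp : IsLocalRing.closedPoint R ∈ (WX.ι ≫ f).base '' closure {x'} :=
    (IsLocalRing.specializes_closedPoint (R := R) ((WX.ι ≫ f).base x')).mem_closed himg hmem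
  obtain ⟨x₀', hx₀cl, hx₀⟩ := hcp
  have hspec' : x' ⤳ x₀' := specializes_iff_mem_closure.mpr hx₀cl
  have hspec : WX.ι.base x' ⤳ WX.ι.base x₀' := hspec'.map WX.ι.continuous
  have hspecg : g.base (WX.ι.base x') ⤳ g.base (WX.ι.base x₀') := hspec.map g.continuous
  have hxx : WX.ι.base x' = x := rfl
  rw [hxx] at hspecg
  apply hspecg.mem_open WY.2
  apply hWY
  rw [← hx₀, ← hg]
  rfl

/-- Let R be a henselian local ring and let X and Y be quasi-finite separated schemes over Spec R
(locally of finite type, quasi-compact, with discrete fibres, separated). Let W_X ⊆ X and W_Y ⊆ Y be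
their finite parts: open and closed subsets which are finite over Spec R as open subschemes and
contain every point over the closed point. Then every morphism g : X → Y over Spec R carries W_X
into W_Y. -/
theorem result (R : Type u) [CommRing R] [HenselianLocalRing R]
    {X Y : Scheme.{u}} (f : X ⟶ Spec (CommRingCat.of R)) (f' : Y ⟶ Spec (CommRingCat.of R))
    [LocallyQuasiFinite f] [LocallyOfFiniteType f] [QuasiCompact f] [IsSeparated f]
    [LocallyQuasiFinite f'] [LocallyOfFiniteType f'] [QuasiCompact f'] [IsSeparated f']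
    (WX : X.Opens) (hWX : (IsClosed (WX : Set ↥X) ∧ IsFinite (WX.ι ≫ f) ∧ ∀ x : ↥X, f.base x = IsLocalRing.closedPoint R → x ∈ WX))
    (WY : Y.Opens) (hWY : (IsClosed (WY : Set ↥Y) ∧ IsFinite (WY.ι ≫ f') ∧ ∀ x : ↥Y, f'.base x = IsLocalRing.closedPoint R → x ∈ WY))
    (g : X ⟶ Y) (hg : g ≫ f' = f) (x : X) (hx : x ∈ WX) :
    g.base x ∈ WY := by
  exact key R f f' WX hWX.2.1 WY hWY.2.2 g hg x hx

end Groth.Agent.S17461
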