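import Groth.Statements.S17462
import Mathlib.AlgebraicGeometry.PullbackCarrier
-- import your own Groth.Agent.* helpers here

set_option autoImplicit false
universe u
open CategoryTheory CategoryTheory.Limits AlgebraicGeometry
open Hensel

namespace Groth.Agent.S17462

theorem keyGen (R : Type u) [CommRing R] [IsLocalRing R]
    {X Y P : Scheme.{u}} (f : X ⟶ Spec (CommRingCat.of R)) (f' : Y ⟶ Spec (CommRingCat.of R))
    (j : P ⟶ X) (hfin : IsFinite (j ≫ f))
    (WY : Y.Opens) (hWY : ∀ x : ↥Y, f'.base x = IsLocalRing.closedPoint R → x ∈ WY)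
    (g : X ⟶ Y) (hg : g ≫ f' = f) (t : P) :
    g.base (j.base t) ∈ WY := by
  have hcl : IsClosedMap (j ≫ f).base := (j ≫ f).isClosedMap
  have himg : IsClosed ((j ≫ f).base '' closure {t}) := hcl _ isClosed_closure
  have hmem : (j ≫ f).base t ∈ (j ≫ f).base '' closure {t} :=
    ⟨t, subset_closure rfl, rfl⟩
  have hcp : IsLocalRing.closedPoint R ∈ (j ≫ f).base '' closure {t} :=
    (IsLocalRing.specializes_closedPoint (R := R) ((j ≫ f).base t)).mem_closed himg hmem
  obtain ⟨t₀, ht₀cl, ht₀⟩ := hcp
  have hspec' : t ⤳ t₀ := specializes_iff_mem_closure.mpr ht₀cl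
  have hspec : j.base t ⤳ j.base t₀ := hspec'.map j.continuous
  have hspecg : g.base (j.base t) ⤳ g.base (j.base t₀) := hspec.map g.continuous
  apply hspecg.mem_open WY.2
  apply hWY
  rw [← ht₀, ← hg]
  rfl

/-- Let R be a henselian local ring and let X and Y be quasi-finite separated schemes over Spec R
(locally of finite type, quasi-compact, with discrete fibres, separated), with finite parts W_X ⊆ X
and W_Y ⊆ Y (open and closed subsets, finite over Spec R as open subschemes, containing every point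
over the closed point). If W ⊆ X ×_R Y is the finite part of the fibre product (same three
conditions, for the structure morphism of X ×_R Y), then W = W_X ×_R W_Y: a point of X ×_R Y lies in
W if and only if its first projection lies in W_X and its second projection lies in W_Y. -/
theorem result (R : Type u) [CommRing R] [HenselianLocalRing R]
    {X Y : Scheme.{u}} (f : X ⟶ Spec (CommRingCat.of R)) (f' : Y ⟶ Spec (CommRingCat.of R))
    [LocallyQuasiFinite f] [LocallyOfFiniteType f] [QuasiCompact f] [IsSeparated f]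
    [LocallyQuasiFinite f'] [LocallyOfFiniteType f'] [QuasiCompact f'] [IsSeparated f']
    (WX : X.Opens) (hWX : (IsClosed (WX : Set ↥X) ∧ IsFinite (WX.ι ≫ f) ∧ ∀ x : ↥X, f.base x = IsLocalRing.closedPoint R → x ∈ WX))
    (WY : Y.Opens) (hWY : (IsClosed (WY : Set ↥Y) ∧ IsFinite (WY.ι ≫ f') ∧ ∀ x : ↥Y, f'.base x = IsLocalRing.closedPoint R → x ∈ WY))
    (W : (pullback f f').Opens)
    (hW : (IsClosed (W : Set ↥(pullback f f')) ∧ IsFinite (W.ι ≫ (pullback.fst f f' ≫ f)) ∧ ∀ x : ↥(pullback f f'), (pullback.fst f f' ≫ f).base x = IsLocalRing.closedPoint R → x ∈ W))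
    (z : ↥(pullback f f')) :
    z ∈ W ↔ ((pullback.fst f f').base z ∈ WX ∧ (pullback.snd f f').base z ∈ WY) := by
  constructor
  · intro hz
    have hz' : W.ι.base ⟨z, hz⟩ = z := rfl
    constructor
    · have := keyGen R (pullback.fst f f' ≫ f) f W.ι hW.2.1 WX hWX.2.2 (pullback.fst f f') rfl
        ⟨z, hz⟩
      rwa [hz'] at this
    · have := keyGen R (pullback.fst f f' ≫ f) f' W.ι hW.2.1 WY hWY.2.2 (pullback.snd f f')
        pullback.condition.symm ⟨z, hz⟩
      rwa [hz'] at this
  · rintro ⟨h1, h2⟩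
    let j : pullback (WX.ι ≫ f) (WY.ι ≫ f') ⟶ pullback f f' :=
      pullback.map (WX.ι ≫ f) (WY.ι ≫ f') f f' WX.ι WY.ι (𝟙 _) (by simp) (by simp)
    have hrange : z ∈ Set.range j := by
      rw [Scheme.Pullback.range_map]
      refine ⟨?_, ?_⟩
      · rw [Set.mem_preimage, Scheme.Opens.range_ι]
        exact h1
      · rw [Set.mem_preimage, Scheme.Opens.range_ι]
        exact h2
    obtain ⟨t, rfl⟩ := hrange
    have hfinX : IsFinite (WX.ι ≫ f) := hWX.2.1
    have hfinY : IsFinite (WY.ι ≫ f') := hWY.2.1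
    have hjf : j ≫ (pullback.fst f f' ≫ f) =
        pullback.fst (WX.ι ≫ f) (WY.ι ≫ f') ≫ (WX.ι ≫ f) := by
      rw [← Category.assoc, pullback.lift_fst, Category.assoc]
    have hfin : IsFinite (j ≫ (pullback.fst f f' ≫ f)) := by
      rw [hjf]
      infer_instance
    have := keyGen R (pullback.fst f f' ≫ f) (pullback.fst f f' ≫ f) j hfin W hW.2.2
      (𝟙 _) (Category.id_comp _) t
    exact this

end Groth.Agent.S17462
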