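import Groth.Statements.S17463
import Mathlib
-- import your own Groth.Agent.* helpers here

set_option autoImplicit false
universe u v w
open SSRed

namespace Groth.Agent.S17463

/-- Let K be a field of characteristic zero, V a K-vector space, G a group with a K-linear action ρ : G
→ GL(V) such that every ρ(g) is unipotent (ρ(g) - 1 is nilpotent), and H a subgroup of G of finite
index. Then the H-invariants equal the G-invariants: a vector fixed by every element of H is fixed
by every element of G. (In the source G and H are the absolute Galois groups of K and of a finite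
extension K', acting unipotently on the rational ℓ-adic Tate module of an abelian variety.) -/
theorem result (K : Type u) (V : Type v) (G : Type w) [Field K] [CharZero K]
    [AddCommGroup V] [Module K V] [Group G] (ρ : G →* (V ≃ₗ[K] V))
    (hunip : ∀ g : G, IsNilpotent (((ρ g : V ≃ₗ[K] V) : Module.End K V) - 1))
    (H : Subgroup G) [H.FiniteIndex] (v : V) (hv : ∀ h ∈ H, ρ h v = v) (g : G) :
    ρ g v = v := by
  classical
  obtain ⟨n, hn0, -, hgn⟩ := Subgroup.exists_pow_mem_of_index_ne_zero (H := H)
    Subgroup.FiniteIndex.index_ne_zero g
  let φ : G →* Module.End K V := (LinearEquiv.automorphismGroup.toLinearMapMonoidHom).comp ρ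
  have hφ : ∀ (a : G) (w : V), φ a w = ρ a w := fun a w => rfl
  set T : Module.End K V := φ g with hT
  set N : Module.End K V := T - 1 with hN
  have hNnil : IsNilpotent N := hunip g
  have hTn : (T ^ n) v = v := by
    rw [hT, ← map_pow, hφ]
    exact hv _ hgn
  have hc : Commute N T := (Commute.refl T).sub_left (Commute.one_left T)
  have hTN : T = N + 1 := by rw [hN]; abel
  obtain ⟨m, hm⟩ := hNnil
  have key : ∀ d j : ℕ, m ≤ j + 1 + d → (N ^ (j + 1)) v = 0 := by
    intro d
    induction d with
    | zero =>
      intro j hj
      have : N ^ (j + 1) = 0 := pow_eq_zero_of_le hj hm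
      rw [this, LinearMap.zero_apply]
    | succ d ih =>
      intro j hj
      have h1 : (N ^ (j + 1 + 1)) v = 0 := ih (j + 1) (by omega)
      set w := (N ^ (j + 1)) v with hw
      have hNw : N w = 0 := by
        rw [hw, ← Module.End.mul_apply, ← pow_succ']
        exact h1
      have hTw : T w = w := by
        rw [hTN, LinearMap.add_apply, hNw, zero_add, Module.End.one_apply]
      have hTiw : ∀ i : ℕ, (T ^ i) w = w := by
        intro i
        induction i with
        | zero => simp
        | succ i ihi => rw [pow_succ, Module.End.mul_apply, hTw, ihi]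
      have hUw : (∑ i ∈ Finset.range n, T ^ i) w = (n : K) • w := by
        rw [LinearMap.sum_apply]
        simp only [hTiw, Finset.sum_const, Finset.card_range]
        rw [Nat.cast_smul_eq_nsmul]
      have hUw0 : (∑ i ∈ Finset.range n, T ^ i) w = 0 := by
        have h2 : (∑ i ∈ Finset.range n, T ^ i) * N ^ (j + 1) =
            (T ^ n - 1) * N ^ j := by
          rw [pow_succ', ← mul_assoc, hN, geom_sum_mul]
        rw [hw, ← Module.End.mul_apply, h2, Module.End.mul_apply, LinearMap.sub_apply,
          Module.End.one_apply, sub_eq_zero]
        have h3 : Commute (N ^ j) (T ^ n) := (hc.pow_left j).pow_right n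
        rw [← Module.End.mul_apply, ← h3.eq, Module.End.mul_apply, hTn]
      rw [hUw] at hUw0
      have hn' : (n : K) ≠ 0 := Nat.cast_ne_zero.mpr hn0.ne'
      exact (smul_eq_zero.mp hUw0).resolve_left hn'
  have hNv : N v = 0 := by
    have := key m 0 (by omega)
    simpa using this
  have : T v = v := by
    rw [hTN, LinearMap.add_apply, hNv, zero_add, Module.End.one_apply]
  rw [← hφ]
  exact this

end Groth.Agent.S17463
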