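import Groth.Statements.S17466
import Mathlib

set_option autoImplicit false
universe u v
open BigOperators
open NRGIT

namespace Groth.Agent.S17466

section

variable {R : Type u} {A : Type v} [CommRing R] [CommRing A] [Algebra R A]
  (𝒜 : ℕ → Submodule R A) [GradedAlgebra 𝒜]

noncomputable def P (s : ℕ) : ℕ → Submodule R A
  | 0 => 𝒜 0
  | (N + 1) => 𝒜 s * P s N

omit [GradedAlgebra 𝒜] in
theorem P_zero (s : ℕ) : P 𝒜 s 0 = 𝒜 0 := rfl

omit [GradedAlgebra 𝒜] in
theorem P_succ (s N : ℕ) : P 𝒜 s (N + 1) = 𝒜 s * P 𝒜 s N := rfl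

theorem zero_mul_zero_le : 𝒜 0 * 𝒜 0 ≤ 𝒜 0 := by
  rw [Submodule.mul_le]
  intro a ha b hb
  have := SetLike.mul_mem_graded ha hb
  rwa [add_zero] at this

theorem zero_mul_P (s N : ℕ) : 𝒜 0 * P 𝒜 s N ≤ P 𝒜 s N := by
  induction N with
  | zero => exact zero_mul_zero_le 𝒜
  | succ N ih =>
    rw [P_succ, ← mul_assoc, mul_comm (𝒜 0) (𝒜 s), mul_assoc]
    exact mul_le_mul' le_rfl ih

theorem P_mul_P (s N N' : ℕ) : P 𝒜 s N * P 𝒜 s N' ≤ P 𝒜 s (N + N') := by
  induction N with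
  | zero => rw [Nat.zero_add]; exact zero_mul_P 𝒜 s N'
  | succ N ih =>
    rw [Nat.succ_add, P_succ, P_succ, mul_assoc]
    exact mul_le_mul' le_rfl ih

theorem mem_P_one (s : ℕ) {f : A} (hf : f ∈ 𝒜 s) : f ∈ P 𝒜 s 1 := by
  rw [P_succ, P_zero]
  have : f = f * 1 := (mul_one f).symm
  rw [this]
  exact Submodule.mul_mem_mul hf (SetLike.GradedOne.one_mem)

theorem pow_mem_P (s : ℕ) {ρ : A} (hρ : ρ ∈ 𝒜 1) (D : ℕ) : ρ ^ (s * D) ∈ P 𝒜 s D := by
  induction D with
  | zero => rw [mul_zero, pow_zero, P_zero]; exact SetLike.GradedOne.one_mem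
  | succ D ih =>
    rw [P_succ, mul_add, mul_one, add_comm, pow_add]
    refine Submodule.mul_mem_mul ?_ ih
    have := SetLike.pow_mem_graded s hρ
    rwa [smul_eq_mul, mul_one] at this

theorem partA (ρ : A) (s : ℕ) (hρ : ρ ∈ 𝒜 1) (hmem : ρ ^ s ∈ Submonoid.powers ρ)
    (hgen : Algebra.adjoin (𝒜 0)
      {z : HomogeneousLocalization.Away 𝒜 ρ |
        ∃ f ∈ 𝒜 s, z.val = Localization.mk f ⟨ρ ^ s, hmem⟩} = ⊤)
    (z : HomogeneousLocalization.Away 𝒜 ρ) :
    ∃ (D : ℕ) (p : A), p ∈ P 𝒜 s D ∧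
      algebraMap A (Localization (Submonoid.powers ρ)) (ρ ^ (s * D)) * z.val =
        algebraMap A (Localization (Submonoid.powers ρ)) p := by
  have hz : z ∈ Algebra.adjoin (𝒜 0)
      {z : HomogeneousLocalization.Away 𝒜 ρ |
        ∃ f ∈ 𝒜 s, z.val = Localization.mk f ⟨ρ ^ s, hmem⟩} := by rw [hgen]; trivial
  induction hz using Algebra.adjoin_induction with
  | mem z hz =>
    obtain ⟨f, hf, hzf⟩ := hz
    refine ⟨1, f, mem_P_one 𝒜 s hf, ?_⟩
    rw [hzf, mul_one, Localization.mk_eq_mk']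
    exact IsLocalization.mk'_spec' _ f ⟨ρ ^ s, hmem⟩
  | algebraMap a =>
    refine ⟨0, a.1, a.2, ?_⟩
    rw [mul_zero, pow_zero, map_one, one_mul]
    have h0 : (algebraMap (𝒜 0) (HomogeneousLocalization.Away 𝒜 ρ) a).val =
        Localization.mk (a : A) 1 := rfl
    rw [h0, Localization.mk_one_eq_algebraMap]
  | add z₁ z₂ _ _ h₁ h₂ =>
    obtain ⟨D₁, p₁, hp₁, e₁⟩ := h₁
    obtain ⟨D₂, p₂, hp₂, e₂⟩ := h₂
    refine ⟨D₁ + D₂, ρ ^ (s * D₂) * p₁ + ρ ^ (s * D₁) * p₂, ?_, ?_⟩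
    · apply Submodule.add_mem
      · rw [add_comm D₁ D₂]
        exact P_mul_P 𝒜 s D₂ D₁ (Submodule.mul_mem_mul (pow_mem_P 𝒜 s hρ D₂) hp₁)
      · exact P_mul_P 𝒜 s D₁ D₂ (Submodule.mul_mem_mul (pow_mem_P 𝒜 s hρ D₁) hp₂)
    · rw [HomogeneousLocalization.val_add, map_add, map_mul, map_mul, ← e₁, ← e₂, mul_add,
        mul_add, pow_add, map_mul]
      ring
  | mul z₁ z₂ _ _ h₁ h₂ =>
    obtain ⟨D₁, p₁, hp₁, e₁⟩ := h₁
    obtain ⟨D₂, p₂, hp₂, e₂⟩ := h₂
    refine ⟨D₁ + D₂, p₁ * p₂, P_mul_P 𝒜 s D₁ D₂ (Submodule.mul_mem_mul hp₁ hp₂), ?_⟩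
    rw [HomogeneousLocalization.val_mul, map_mul, ← e₁, ← e₂, mul_add, pow_add, map_mul]
    ring

theorem partA' (ρ : A) (s : ℕ) (hs : 0 < s) (hρ : ρ ∈ 𝒜 1)
    (hmem : ρ ^ s ∈ Submonoid.powers ρ)
    (hgen : Algebra.adjoin (𝒜 0)
      {z : HomogeneousLocalization.Away 𝒜 ρ |
        ∃ f ∈ 𝒜 s, z.val = Localization.mk f ⟨ρ ^ s, hmem⟩} = ⊤)
    (m : ℕ) (g : A) (hg : g ∈ 𝒜 (s * m)) :
    ∃ N : ℕ, g * ρ ^ (s * N) ∈ P 𝒜 s (m + N) := by
  have hg' : g ∈ 𝒜 ((s * m) • 1) := by rwa [smul_eq_mul, mul_one]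
  obtain ⟨D, p, hp, e⟩ := partA 𝒜 ρ s hρ hmem hgen
    (HomogeneousLocalization.Away.mk 𝒜 hρ (s * m) g hg')
  rw [HomogeneousLocalization.Away.val_mk] at e
  have hpm : ρ ^ (s * m) ∈ Submonoid.powers ρ := ⟨s * m, rfl⟩
  have h1 : algebraMap A (Localization (Submonoid.powers ρ)) (ρ ^ (s * m)) *
      Localization.mk g ⟨ρ ^ (s * m), hpm⟩ =
      algebraMap A (Localization (Submonoid.powers ρ)) g := by
    rw [Localization.mk_eq_mk']
    exact IsLocalization.mk'_spec' _ g ⟨ρ ^ (s * m), hpm⟩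
  have h2 : algebraMap A (Localization (Submonoid.powers ρ)) (ρ ^ (s * D) * g) =
      algebraMap A (Localization (Submonoid.powers ρ)) (ρ ^ (s * m) * p) := by
    rw [map_mul, map_mul, ← h1, ← e]
    ring
  obtain ⟨⟨c, k, rfl⟩, hc⟩ := (IsLocalization.eq_iff_exists (Submonoid.powers ρ) _).mp h2
  simp only at hc
  refine ⟨D + k, ?_⟩
  obtain ⟨t, ht⟩ : ∃ t, s * k = k + t := ⟨s * k - k, by
    have : k ≤ s * k := Nat.le_mul_of_pos_left k hs
    omega⟩
  have h3 : g * ρ ^ (s * (D + k)) = p * ρ ^ (s * (m + k)) := by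
    rw [mul_add, mul_add, ht, pow_add, pow_add, pow_add, pow_add]
    linear_combination (ρ ^ t) * hc
  rw [h3]
  have h5 : m + (D + k) = D + (m + k) := by omega
  rw [h5]
  exact P_mul_P 𝒜 s D (m + k) (Submodule.mul_mem_mul hp (pow_mem_P 𝒜 s hρ (m + k)))

theorem partB (τ : A) (s : ℕ) (hτ : τ ∈ 𝒜 s) (N : ℕ) (p : A) (hp : p ∈ P 𝒜 s N) :
    ∃ w ∈ Algebra.adjoin (𝒜 0)
      {z : HomogeneousLocalization.Away 𝒜 τ |
        ∃ f ∈ 𝒜 s, z.val = Localization.mk f ⟨τ, Submonoid.mem_powers _⟩},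
      algebraMap A (Localization (Submonoid.powers τ)) (τ ^ N) * w.val =
        algebraMap A (Localization (Submonoid.powers τ)) p := by
  induction N generalizing p with
  | zero =>
    refine ⟨algebraMap (𝒜 0) _ ⟨p, hp⟩, Subalgebra.algebraMap_mem _ _, ?_⟩
    have h0 : (algebraMap (𝒜 0) (HomogeneousLocalization.Away 𝒜 τ) ⟨p, hp⟩).val =
        Localization.mk p 1 := rfl
    rw [h0, Localization.mk_one_eq_algebraMap, pow_zero, map_one, one_mul]
  | succ N ih =>
    rw [P_succ] at hp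
    refine Submodule.mul_induction_on hp ?_ ?_
    · intro f hf q hq
      obtain ⟨wq, hwq, eq⟩ := ih q hq
      have hf' : f ∈ 𝒜 (1 • s) := by rwa [one_smul]
      refine ⟨HomogeneousLocalization.Away.mk 𝒜 hτ 1 f hf' * wq,
        Subalgebra.mul_mem _ (Algebra.subset_adjoin ⟨f, hf, ?_⟩) hwq, ?_⟩
      · rw [HomogeneousLocalization.Away.val_mk]
        congr 2
        exact pow_one τ
      · rw [HomogeneousLocalization.val_mul, HomogeneousLocalization.Away.val_mk, pow_succ,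
          map_mul, map_mul, ← eq]
        have hp1 : τ ^ 1 ∈ Submonoid.powers τ := ⟨1, rfl⟩
        have h1 : algebraMap A (Localization (Submonoid.powers τ)) τ *
            Localization.mk f ⟨τ ^ 1, hp1⟩ =
            algebraMap A (Localization (Submonoid.powers τ)) f := by
          rw [Localization.mk_eq_mk']
          simp
        rw [← h1]
        ring
    · intro x y hx hy
      obtain ⟨wx, hwx, ex⟩ := hx
      obtain ⟨wy, hwy, ey⟩ := hy
      refine ⟨wx + wy, Subalgebra.add_mem _ hwx hwy, ?_⟩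
      rw [HomogeneousLocalization.val_add, mul_add, ex, ey, map_add]

theorem pow_mem_P' (s : ℕ) {x : A} (hx : x ∈ 𝒜 s) (c : ℕ) : x ^ c ∈ P 𝒜 s c := by
  induction c with
  | zero => rw [pow_zero, P_zero]; exact SetLike.GradedOne.one_mem
  | succ c ih =>
    rw [pow_succ', P_succ]
    exact Submodule.mul_mem_mul hx ih

theorem prod_pow_mem_P (s : ℕ) {ι : Type*} (T : Finset ι) (x : ι → A)
    (hx : ∀ i ∈ T, x i ∈ 𝒜 s) (c : ι → ℕ) :
    ∏ i ∈ T, x i ^ c i ∈ P 𝒜 s (∑ i ∈ T, c i) := by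
  classical
  induction T using Finset.induction_on with
  | empty =>
    rw [Finset.prod_empty, Finset.sum_empty, P_zero]
    exact SetLike.GradedOne.one_mem
  | insert a T ha ih =>
    rw [Finset.prod_insert ha, Finset.sum_insert ha]
    exact P_mul_P 𝒜 s _ _ (Submodule.mul_mem_mul
      (pow_mem_P' 𝒜 s (hx a (Finset.mem_insert_self a T)) (c a))
      (ih (fun i hi => hx i (Finset.mem_insert_of_mem hi))))

end

/-- Let A be a commutative algebra graded by the natural numbers, let σ_1, …, σ_n be homogeneous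
elements of degree 1 and let s ≥ 1 be an integer such that, for every i, the degree-zero homogeneous
localisation of A away from σ_i is generated over A_0 by the fractions f / σ_i ^ s with f
homogeneous of degree s. Then for every exponent vector K = (k_1, …, k_n) with k_1 + ⋯ + k_n = s,
the degree-zero homogeneous localisation of A away from the monomial σ^K = ∏ σ_i ^ (k_i) is
generated over A_0 by the fractions f / σ^K with f homogeneous of degree s. (Equivalently: the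
natural map from the degree-zero localisation of the symmetric algebra on A_s, taken away from σ^K
viewed as an element of degree one, to the degree-zero localisation of A away from σ^K is
surjective. The published lemma concerns the algebra of invariant sections of the powers of a
linearised line bundle on an irreducible projective scheme over a field, with the σ_i a basis of a
weight space of sections, and concludes a closed immersion of a quotient into an open piece of a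
projective space; this row keeps only the graded-algebra step, for any commutative graded algebra,
with the base field replaced by A_0, which generates nothing new since a / 1 = a σ^s / σ^s for a of
degree zero.) -/
theorem result
    {R : Type u} {A : Type v} [CommRing R] [CommRing A] [Algebra R A]
    (𝒜 : ℕ → Submodule R A) [GradedAlgebra 𝒜]
    {n : ℕ} (σ : Fin n → A) (hσ : ∀ i, σ i ∈ 𝒜 1) {s : ℕ} (hs : 0 < s)
    (hgen : ∀ i, Algebra.adjoin (𝒜 0)
      {z : HomogeneousLocalization.Away 𝒜 (σ i) |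
        ∃ f ∈ 𝒜 s, z.val = Localization.mk f ⟨σ i ^ s, Submonoid.pow_mem _ (Submonoid.mem_powers (σ i)) s⟩} = ⊤)
    (K : Fin n → ℕ) (hK : ∑ i, K i = s) :
    Algebra.adjoin (𝒜 0)
      {z : HomogeneousLocalization.Away 𝒜 (∏ i, σ i ^ K i) |
        ∃ f ∈ 𝒜 s, z.val = Localization.mk f ⟨∏ i, σ i ^ K i, Submonoid.mem_powers _⟩} = ⊤ := by
  classical
  have hτ0 : ∏ i, σ i ^ K i ∈ 𝒜 s := by
    have := SetLike.prod_pow_mem_graded 𝒜 (fun _ => 1) σ K (F := Finset.univ) (fun i _ => hσ i)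
    simpa [hK] using this
  have hτpow0 : ∀ N : ℕ, ∀ i₀ : Fin n, 0 < K i₀ → (∏ i, σ i ^ K i) ^ (s * N) =
      σ i₀ ^ (s * N) * ((σ i₀ ^ s) ^ ((K i₀ - 1) * N) *
        ∏ i ∈ Finset.univ.erase i₀, (σ i ^ s) ^ (K i * N)) := by
    intro N i₀ hi₀
    rw [← Finset.prod_pow, ← Finset.mul_prod_erase Finset.univ _ (Finset.mem_univ i₀), ← mul_assoc]
    congr 1
    · rw [← pow_mul, ← pow_mul, ← pow_add]
      congr 1
      obtain ⟨a, ha⟩ : ∃ a, K i₀ = a + 1 := ⟨K i₀ - 1, by omega⟩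
      rw [ha, Nat.add_sub_cancel]
      ring
    · apply Finset.prod_congr rfl
      intro i _
      rw [← pow_mul, ← pow_mul]
      congr 1
      ring
  generalize (∏ i, σ i ^ K i) = τ at hτ0 hτpow0 ⊢
  obtain ⟨i₀, hi₀⟩ : ∃ i₀, 0 < K i₀ := by
    by_contra hcon
    push Not at hcon
    have : ∑ i, K i = 0 := Finset.sum_eq_zero (fun i _ => by have := hcon i; omega)
    omega
  rw [eq_top_iff]
  intro z _
  obtain ⟨m, g, hg, rfl⟩ := HomogeneousLocalization.Away.mk_surjective 𝒜 hτ0 z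
  have hg' : g ∈ 𝒜 (s * m) := by rwa [smul_eq_mul, mul_comm] at hg
  obtain ⟨N, hN⟩ := partA' 𝒜 (σ i₀) s hs (hσ i₀) _ (hgen i₀) m g hg'
  have hrest : (σ i₀ ^ s) ^ ((K i₀ - 1) * N) *
      ∏ i ∈ Finset.univ.erase i₀, (σ i ^ s) ^ (K i * N) ∈
      P 𝒜 s ((K i₀ - 1) * N + ∑ i ∈ Finset.univ.erase i₀, K i * N) := by
    have hσs : ∀ i, σ i ^ s ∈ 𝒜 s := by
      intro i
      have := SetLike.pow_mem_graded s (hσ i)
      rwa [smul_eq_mul, mul_one] at this
    exact P_mul_P 𝒜 s _ _ (Submodule.mul_mem_mul (pow_mem_P' 𝒜 s (hσs i₀) _)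
      (prod_pow_mem_P 𝒜 s _ (fun i => σ i ^ s) (fun i _ => hσs i) (fun i => K i * N)))
  have hsum : m + N + ((K i₀ - 1) * N + ∑ i ∈ Finset.univ.erase i₀, K i * N) = m + s * N := by
    obtain ⟨a, ha⟩ : ∃ a, K i₀ = a + 1 := ⟨K i₀ - 1, by omega⟩
    have h1 : K i₀ + ∑ i ∈ Finset.univ.erase i₀, K i = s := by
      rw [Finset.add_sum_erase Finset.univ K (Finset.mem_univ i₀)]; exact hK
    rw [← Finset.sum_mul, ← h1, ha, Nat.add_sub_cancel]
    ring
  have hmem : g * τ ^ (s * N) ∈ P 𝒜 s (m + s * N) := by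
    rw [hτpow0 N i₀ hi₀, ← mul_assoc, ← hsum]
    exact P_mul_P 𝒜 s _ _ (Submodule.mul_mem_mul hN hrest)
  obtain ⟨w, hw, ew⟩ := partB 𝒜 τ s hτ0 (m + s * N) (g * τ ^ (s * N)) hmem
  have hpm : τ ^ m ∈ Submonoid.powers τ := ⟨m, rfl⟩
  have h1 : algebraMap A (Localization (Submonoid.powers τ)) (τ ^ m) *
      (HomogeneousLocalization.Away.mk 𝒜 hτ0 m g hg).val =
      algebraMap A (Localization (Submonoid.powers τ)) g := by
    rw [HomogeneousLocalization.Away.val_mk, Localization.mk_eq_mk']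
    exact IsLocalization.mk'_spec' _ g ⟨τ ^ m, hpm⟩
  have h2 : algebraMap A (Localization (Submonoid.powers τ)) (τ ^ (m + s * N)) * w.val =
      algebraMap A (Localization (Submonoid.powers τ)) (τ ^ (m + s * N)) *
      (HomogeneousLocalization.Away.mk 𝒜 hτ0 m g hg).val := by
    rw [ew, pow_add, map_mul, map_mul, ← h1]
    ring
  have hunit : IsUnit (algebraMap A (Localization (Submonoid.powers τ)) (τ ^ (m + s * N))) :=
    IsLocalization.map_units (Localization (Submonoid.powers τ))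
      (⟨τ ^ (m + s * N), ⟨m + s * N, rfl⟩⟩ : Submonoid.powers τ)
  have h3 : w = HomogeneousLocalization.Away.mk 𝒜 hτ0 m g hg :=
    HomogeneousLocalization.val_injective _ (hunit.mul_left_cancel h2)
  rw [← h3]
  exact hw

end Groth.Agent.S17466
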