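import Groth.Statements.S17468
import Mathlib

set_option autoImplicit false
universe u v w
open LieRep

namespace Groth.Agent.S17468

open LieModule

theorem sum_sq_aux {k : Type u} [Field k] (c : k) (m : ℕ) :
    3 * ∑ j ∈ Finset.range (m + 1), (c - 2 * (j : k)) ^ 2 =
      3 * ((m : k) + 1) * c ^ 2 - 6 * c * (m : k) * ((m : k) + 1) + 2 * (m : k) * ((m : k) + 1) * (2 * (m : k) + 1) := by
  induction m with
  | zero => simp
  | succ m ih =>
    rw [Finset.sum_range_succ, mul_add, ih]
    push_cast
    ring

theorem six_choose_three (n : ℕ) : 6 * (n + 2).choose 3 = n * (n + 1) * (n + 2) := by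
  have := Nat.descFactorial_eq_factorial_mul_choose (n + 2) 3
  simp only [Nat.descFactorial, Nat.factorial] at this
  norm_num at this
  nlinarith [this]

theorem sum_sq_eq {k : Type u} [Field k] [CharZero k] (n : ℕ) :
    ∑ j ∈ Finset.range (n + 1), ((n : k) - 2 * (j : k)) ^ 2 = 2 * (((n + 2).choose 3 : ℕ) : k) := by
  have h1 := sum_sq_aux (n : k) n
  have h2 : (6 : k) * (((n + 2).choose 3 : ℕ) : k) = (n : k) * ((n : k) + 1) * ((n : k) + 2) := by
    have := congrArg (Nat.cast : ℕ → k) (six_choose_three n)
    push_cast at this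
    exact this
  have h3 : (3 : k) ≠ 0 := by norm_num
  apply mul_left_cancel₀ h3
  rw [h1]
  linear_combination (-1 : k) * h2

theorem trace_sq_of_irreducible (k : Type u) [Field k] [IsAlgClosed k] [CharZero k]
    (L : Type v) [LieRing L] [LieAlgebra k L]
    (h e f : L) (t : IsSl2Triple h e f) (hspan : t.toLieSubalgebra k = ⊤)
    (W : Type w) [AddCommGroup W] [Module k W] [LieRingModule L W] [LieModule k L W]
    [FiniteDimensional k W] [LieModule.IsIrreducible k L W] :
    LinearMap.trace k W ((LieModule.toEnd k L W h) ^ 2) =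
      2 * (((Module.finrank k W + 1).choose 3 : ℕ) : k) := by
  haveI : Nontrivial W := LieModule.nontrivial_of_isIrreducible k L W
  obtain ⟨μ, m, hm, P⟩ := t.exists_hasPrimitiveVectorWith (R := k) (M := W)
  obtain ⟨n, rfl⟩ := P.exists_nat
  let v : Fin (n + 1) → W := fun j => ((toEnd k L W f) ^ (j : ℕ)) m
  have hv_h : ∀ j : Fin (n + 1), ⁅h, v j⁆ = ((n : k) - 2 * ((j : ℕ) : k)) • v j := fun j =>
    P.lie_h_pow_toEnd_f j
  have hv_ne : ∀ j : Fin (n + 1), v j ≠ 0 := fun j =>
    P.pow_toEnd_f_ne_zero_of_eq_nat rfl (Nat.lt_succ_iff.mp j.2)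
  have hli : LinearIndependent k v := by
    apply Module.End.eigenvectors_linearIndependent' (toEnd k L W h)
      (fun j : Fin (n + 1) => (n : k) - 2 * ((j : ℕ) : k))
    · intro i j hij
      simp only [sub_right_inj, mul_eq_mul_left_iff, Nat.cast_inj, OfNat.ofNat_ne_zero, or_false] at hij
      exact Fin.ext hij
    · intro j
      rw [Module.End.hasEigenvector_iff]
      refine ⟨?_, hv_ne j⟩
      rw [Module.End.mem_eigenspace_iff]
      exact hv_h j
  -- the span is a Lie submodule
  have hstab : ∀ (x : L) (w : W), w ∈ Submodule.span k (Set.range v) → ⁅x, w⁆ ∈ Submodule.span k (Set.range v) := by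
    intro x w hw
    have hx : x ∈ t.toLieSubalgebra k := by rw [hspan]; trivial
    obtain ⟨c₁, c₂, c₃, rfl⟩ := IsSl2Triple.mem_toLieSubalgebra_iff.mp hx
    rw [t.lie_e_f]
    induction hw using Submodule.span_induction with
    | mem w hw =>
      obtain ⟨j, rfl⟩ := hw
      rw [add_lie, add_lie, smul_lie, smul_lie, smul_lie]
      refine Submodule.add_mem _ (Submodule.add_mem _ (Submodule.smul_mem _ _ ?_) (Submodule.smul_mem _ _ ?_))
        (Submodule.smul_mem _ _ ?_)
      · -- e
        obtain ⟨j, hj⟩ := j
        cases j with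
        | zero =>
          have : ⁅e, v ⟨0, hj⟩⁆ = 0 := by
            change ⁅e, ((toEnd k L W f) ^ 0) m⁆ = 0
            rw [pow_zero, Module.End.one_apply, P.lie_e]
          rw [this]; exact Submodule.zero_mem _
        | succ j =>
          have : ⁅e, v ⟨j + 1, hj⟩⁆ = (((j : k) + 1) * ((n : k) - j)) • v ⟨j, by omega⟩ :=
            P.lie_e_pow_succ_toEnd_f j
          rw [this]
          exact Submodule.smul_mem _ _ (Submodule.subset_span ⟨_, rfl⟩)
      · -- f
        by_cases hjn : (j : ℕ) = n
        · have : ⁅f, v j⁆ = 0 := by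
            change ⁅f, ((toEnd k L W f) ^ (j : ℕ)) m⁆ = 0
            rw [P.lie_f_pow_toEnd_f, hjn]
            exact P.pow_toEnd_f_eq_zero_of_eq_nat rfl
          rw [this]; exact Submodule.zero_mem _
        · have : ⁅f, v j⁆ = v ⟨(j : ℕ) + 1, by have := j.2; omega⟩ := P.lie_f_pow_toEnd_f j
          rw [this]
          exact Submodule.subset_span ⟨_, rfl⟩
      · rw [hv_h j]
        exact Submodule.smul_mem _ _ (Submodule.subset_span ⟨_, rfl⟩)
    | zero => rw [lie_zero]; exact Submodule.zero_mem _
    | add w w' _ _ h1 h2 => rw [lie_add]; exact Submodule.add_mem _ h1 h2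
    | smul c w _ h1 => rw [lie_smul]; exact Submodule.smul_mem _ _ h1
  let N : LieSubmodule k L W :=
    { Submodule.span k (Set.range v) with
      lie_mem := fun {x w} hw => hstab x w hw }
  have hNtop : N = ⊤ := by
    rcases IsSimpleOrder.eq_bot_or_eq_top N with hbot | htop
    · exfalso
      have hmem : v 0 ∈ N := Submodule.subset_span ⟨0, rfl⟩
      rw [hbot, LieSubmodule.mem_bot] at hmem
      exact hv_ne 0 hmem
    · exact htop
  have hspan_top : ⊤ ≤ Submodule.span k (Set.range v) := by
    intro w _
    have : w ∈ N := by rw [hNtop]; trivial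
    exact this
  let B : Module.Basis (Fin (n + 1)) k W := Module.Basis.mk hli hspan_top
  have hB : ∀ j, B j = v j := fun j => by simp [B]
  have hrank : Module.finrank k W = n + 1 := by
    rw [Module.finrank_eq_card_basis B, Fintype.card_fin]
  rw [hrank, LinearMap.trace_eq_matrix_trace k B, Matrix.trace]
  have hdiag : ∀ j : Fin (n + 1), (LinearMap.toMatrix B B ((toEnd k L W h) ^ 2)).diag j
      = ((n : k) - 2 * ((j : ℕ) : k)) ^ 2 := by
    intro j
    rw [Matrix.diag_apply, LinearMap.toMatrix_apply, hB, pow_two, Module.End.mul_apply, toEnd_apply_apply,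
      toEnd_apply_apply, hv_h, lie_smul, hv_h, smul_smul, ← hB, map_smul, Module.Basis.repr_self]
    simp [pow_two]
  rw [Finset.sum_congr rfl fun j _ => hdiag j]
  rw [Fin.sum_univ_eq_sum_range (fun j => ((n : k) - 2 * (j : k)) ^ 2) (n + 1)]
  exact sum_sq_eq n

/-- Let k be an algebraically closed field of characteristic zero, L a Lie algebra over k spanned by an
sl_2-triple (h, e, f), and V a finite-dimensional L-module written as an internal direct sum of
finitely many irreducible Lie submodules V_i. Then the trace on V of the square of the action of h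
is 2 Σ_i C(dim V_i + 1, 3). (The published statement concerns a finite-dimensional representation V
of a simple Lie algebra restricted to the copy of sl_2 attached to the highest root θ, with h the
coroot θ^∨; there Σ_i C(dim V_i + 1, 3) is the index of V, and the trace is the sum over the weights
λ of V, with multiplicity, of ⟨λ, θ^∨⟩².) -/
theorem result
    (k : Type u) [Field k] [IsAlgClosed k] [CharZero k]
    (L : Type v) [LieRing L] [LieAlgebra k L]
    (h e f : L) (t : IsSl2Triple h e f) (hspan : t.toLieSubalgebra k = ⊤)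
    (V : Type w) [AddCommGroup V] [Module k V] [LieRingModule L V] [LieModule k L V]
    [FiniteDimensional k V]
    (ι : Type) [Fintype ι] [DecidableEq ι] (W : ι → LieSubmodule k L V)
    (hW : DirectSum.IsInternal fun i => (W i).toSubmodule)
    (hirr : ∀ i, LieModule.IsIrreducible k L (W i)) :
    LinearMap.trace k V ((LieModule.toEnd k L V h) ^ 2) =
      2 * ∑ i, (((Module.finrank k (W i) + 1).choose 3 : ℕ) : k) := by
  have hf : ∀ i, Set.MapsTo (⇑((LieModule.toEnd k L V h) ^ 2)) ((W i).toSubmodule : Set V)
      ((W i).toSubmodule : Set V) := by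
    intro i w hw
    rw [pow_two, Module.End.mul_apply, toEnd_apply_apply, toEnd_apply_apply]
    exact (W i).lie_mem ((W i).lie_mem hw)
  rw [LinearMap.trace_eq_sum_trace_restrict hW hf, Finset.mul_sum]
  refine Finset.sum_congr rfl fun i _ => ?_
  haveI := hirr i
  have := trace_sq_of_irreducible k L h e f t hspan (W i)
  rw [← this]
  congr 1

end Groth.Agent.S17468
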