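import Groth.Statements.S17469
import Mathlib.Tactic
import Mathlib.AlgebraicGeometry.FunctionField

set_option autoImplicit false
universe u
open CategoryTheory AlgebraicGeometry
open Variety

namespace Groth.Agent.S17469

theorem germFF_res (X : Scheme.{u}) [IsIntegral X] {W W' : X.Opens} [Nonempty W] [Nonempty W']
    (i : W ⟶ W') (s : Γ(X, W')) :
    X.germToFunctionField W (X.presheaf.map i.op s) = X.germToFunctionField W' s :=
  X.presheaf.germ_res_apply i (genericPoint X) _ s



/-- Let X be a locally Noetherian integral scheme all of whose local rings are integrally closed domains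
and U an open subset of X. A section of O_X over U that is integral over the ring of global sections
of X, the latter acting through restriction, is itself the restriction of a global section. (The
published lemma is stated for an irreducible normal variety and for the graded ring of sections over
U of all non-negative powers of a line bundle, integral over the corresponding ring of sections over
X; for the trivial line bundle its homogeneous components are the present statement, which is made
here for any locally Noetherian normal integral scheme.) -/
theorem result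
    (X : Scheme.{u}) [AlgebraicGeometry.IsIntegral X] [IsLocallyNoetherian X]
    (hX : Pi1.IsNormalScheme X) (U : X.Opens) (b : Γ(X, U))
    (hb : (X.presheaf.map (homOfLE le_top : U ⟶ ⊤).op).hom.IsIntegralElem b) :
    b ∈ Set.range (X.presheaf.map (homOfLE le_top : U ⟶ ⊤).op).hom := by
  by_cases hU : Nonempty U
  swap
  · have hbot : U = ⊥ := by
      ext x
      simp only [TopologicalSpace.Opens.coe_bot, Set.mem_empty_iff_false, iff_false]
      exact fun hx => hU ⟨⟨x, hx⟩⟩
    subst hbot
    haveI : Subsingleton Γ(X, ⊥) := by
      infer_instance
    exact ⟨0, Subsingleton.elim _ _⟩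
  haveI : Nonempty (⊤ : X.Opens) := ⟨⟨hU.some.1, trivial⟩⟩
  obtain ⟨p, hp, hpb⟩ := hb
  have hβ : Polynomial.eval₂ (X.germToFunctionField ⊤).hom (X.germToFunctionField U b) p = 0 := by
    have h1 := congrArg (X.germToFunctionField U).hom hpb
    rw [Polynomial.hom_eval₂, map_zero] at h1
    have h2 : (X.germToFunctionField U).hom.comp (X.presheaf.map (homOfLE le_top : U ⟶ ⊤).op).hom =
        (X.germToFunctionField ⊤).hom := by
      ext s
      exact germFF_res X (homOfLE le_top : U ⟶ ⊤) s
    rw [h2] at h1
    exact h1
  have hx : ∀ x : X, ∃ s : X.presheaf.stalk x,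
      algebraMap (X.presheaf.stalk x) X.functionField s = X.germToFunctionField U b := by
    intro x
    haveI := (hX x).2
    have hint : IsIntegral (X.presheaf.stalk x) (X.germToFunctionField U b) := by
      refine ⟨p.map (X.presheaf.germ ⊤ x trivial).hom, hp.map _, ?_⟩
      rw [Polynomial.eval₂_map]
      have h3 : (algebraMap (X.presheaf.stalk x) X.functionField).comp
          (X.presheaf.germ ⊤ x trivial).hom = (X.germToFunctionField ⊤).hom := by
        ext s
        exact Scheme.algebraMap_germ_eq_germToFunctionField (X := X) (U := ⊤) trivial s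
      rw [h3]
      exact hβ
    exact IsIntegrallyClosed.algebraMap_eq_of_integral hint
  choose s hs using hx
  have hx2 : ∀ x : X, ∃ (V : X.Opens) (hxV : x ∈ V) (t : Γ(X, V)),
      X.presheaf.germ V x hxV t = s x := fun x => X.presheaf.exists_germ_eq (s x)
  choose V hxV t ht using hx2
  haveI hVne : ∀ x, Nonempty (V x) := fun x => ⟨⟨x, hxV x⟩⟩
  have htβ : ∀ x, X.germToFunctionField (V x) (t x) = X.germToFunctionField U b := by
    intro x
    rw [← Scheme.algebraMap_germ_eq_germToFunctionField (X := X) (hxV x), ht, hs]
  have hcompat : TopCat.Presheaf.IsCompatible X.presheaf V t := by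
    intro x y
    haveI : Nonempty (V x ⊓ V y : X.Opens) := by
      obtain ⟨z, hz⟩ := nonempty_preirreducible_inter (V x).isOpen (V y).isOpen
        ⟨x, hxV x⟩ ⟨y, hxV y⟩
      exact ⟨⟨z, hz⟩⟩
    apply X.germToFunctionField_injective (V x ⊓ V y)
    rw [germFF_res, germFF_res, htβ, htβ]
  obtain ⟨g, hg, -⟩ := X.sheaf.existsUnique_gluing' V ⊤ (fun x => homOfLE le_top)
    (fun x _ => TopologicalSpace.Opens.mem_iSup.2 ⟨x, hxV x⟩) t hcompat
  refine ⟨g, ?_⟩
  apply X.germToFunctionField_injective U
  have hx0 := hg hU.some.1
  have h5 : X.germToFunctionField ⊤ g = X.germToFunctionField U b := by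
    rw [← htβ hU.some.1, ← hx0]
    exact (germFF_res X _ g).symm
  rw [← h5]
  exact germFF_res X (homOfLE le_top : U ⟶ ⊤) g

end Groth.Agent.S17469
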