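import Groth.Statements.S17471
import Mathlib
-- import your own Groth.Agent.* helpers here

set_option autoImplicit false
universe u v w x
open RootCh

namespace Groth.Agent.S17471

/-- Let Φ be a finite, reduced, crystallographic, irreducible root system with a base, and θ a positive
root such that θ + β is a root for no positive root β (so θ is the highest root). Then Σ_{β>0} ⟨β,
θ^∨⟩² = 2 + Σ_{β>0} ⟨β, θ^∨⟩ = 2(1 + ⟨ρ, θ^∨⟩), ρ being half the sum of the positive roots; in the
source the left side is the index of the adjoint representation obtained from its formal character,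
and 1 + ⟨ρ, θ^∨⟩ is the dual Coxeter number. -/
theorem result
    {ι : Type u} {R : Type v} {M : Type w} {N : Type x}
    [Field R] [LinearOrder R] [IsStrictOrderedRing R]
    [AddCommGroup M] [Module R M] [AddCommGroup N] [Module R N] [Fintype ι]
    (P : RootPairing ι R M N) [P.IsRootSystem] [P.IsCrystallographic] [P.IsReduced]
    [P.IsIrreducible] (b : P.Base) (θ : ι) (hθ : b.IsPos θ)
    (hmax : ∀ i : ι, b.IsPos i → P.root θ + P.root i ∉ Set.range P.root) :
    ∑ i ∈ Finset.univ.filter (fun i => 0 < b.height i), P.pairing i θ ^ 2 =
      2 + ∑ i ∈ Finset.univ.filter (fun i => 0 < b.height i), P.pairing i θ := by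
  classical
  have hcast : ∀ i j : ι, ((P.pairingIn ℤ i j : ℤ) : R) = P.pairing i j := by
    intro i j
    have := P.algebraMap_pairingIn ℤ i j
    simpa using this
  -- positive roots are never negatives of each other
  have hneg : ∀ i j : ι, b.IsPos i → b.IsPos j → P.root i ≠ -P.root j := by
    intro i j hi hj h
    obtain ⟨f, -, -, hf⟩ := b.exists_root_eq_sum_int j
    have h1 : P.root i = ∑ l ∈ b.support, (-f) l • P.root l := by
      rw [h, hf, ← Finset.sum_neg_distrib]
      apply Finset.sum_congr rfl
      intro l _
      simp
    have h2 := RootPairing.Base.height_eq_sum hf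
    have h3 := RootPairing.Base.height_eq_sum h1
    simp only [Pi.neg_apply, Finset.sum_neg_distrib] at h3
    rw [RootPairing.Base.isPos_iff] at hi hj
    omega
  have L1 : ∀ i : ι, b.IsPos i → 0 ≤ P.pairingIn ℤ i θ := by
    intro i hi
    by_contra hlt
    rw [not_le] at hlt
    have := P.root_add_root_mem_of_pairingIn_neg hlt (hneg i θ hi hθ)
    rw [add_comm] at this
    exact hmax i hi this
  have L2 : ∀ i : ι, b.IsPos i → i ≠ θ → P.pairingIn ℤ i θ ≤ 1 := by
    intro i hi hiθ
    by_contra hlt
    rw [not_le] at hlt
    have hpos : 0 < P.pairingIn ℤ i θ := by omega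
    obtain ⟨k, hk⟩ := P.root_sub_root_mem_of_pairingIn_pos hpos hiθ
    by_cases hkpos : b.IsPos k
    · apply hmax k hkpos
      rw [hk]
      exact ⟨i, by abel⟩
    · letI := P.indexNeg
      have hk'pos : b.IsPos (-k) := (RootPairing.Base.IsPos.neg_iff_not b k).mpr hkpos
      have hk'root : P.root (-k) = P.root θ - P.root i := by
        have : P.root (-k) = -P.root k := by simp
        rw [this, hk]
        abel
      have hpk : P.pairing (-k) θ = 2 - P.pairing i θ := by
        rw [← P.root_coroot_eq_pairing, hk'root, map_sub, LinearMap.sub_apply,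
          P.root_coroot_eq_pairing, P.root_coroot_eq_pairing, P.pairing_same]
      have h0 := L1 (-k) hk'pos
      have h0' : (0 : R) ≤ P.pairing (-k) θ := by
        rw [← hcast]
        exact_mod_cast h0
      have hle2 : P.pairingIn ℤ i θ ≤ 2 := by
        have : P.pairing i θ ≤ 2 := by
          rw [hpk] at h0'
          linarith
        rw [← hcast] at this
        exact_mod_cast this
      have heq2 : P.pairingIn ℤ i θ = 2 := by omega
      have hx2 : P.pairing i θ = 2 := by
        rw [← hcast, heq2]
        norm_num
      have hk0 : P.pairing (-k) θ = 0 := by rw [hpk, hx2]; ring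
      have hk0' : P.pairing θ (-k) = 0 := P.pairing_eq_zero_iff'.mp hk0
      have hik : P.pairing i (-k) = -2 := by
        have hri : P.root i = P.root θ - P.root (-k) := by rw [hk'root]; abel
        rw [← P.root_coroot_eq_pairing, hri, map_sub, LinearMap.sub_apply,
          P.root_coroot_eq_pairing, P.root_coroot_eq_pairing, P.pairing_same, hk0']
        ring
      apply hmax (-k) hk'pos
      refine ⟨P.reflectionPerm (-k) i, ?_⟩
      rw [P.root_reflectionPerm, P.reflection_apply_root, hik, hk'root]
      module
  -- now the computation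
  have hθmem : θ ∈ Finset.univ.filter (fun i => 0 < b.height i) := by
    simp only [Finset.mem_filter, Finset.mem_univ, true_and]
    exact hθ
  rw [← Finset.add_sum_erase _ _ hθmem, ← Finset.add_sum_erase _ _ hθmem, P.pairing_same]
  have hrest : ∀ i ∈ (Finset.univ.filter (fun i => 0 < b.height i)).erase θ,
      P.pairing i θ ^ 2 = P.pairing i θ := by
    intro i hi
    rw [Finset.mem_erase, Finset.mem_filter] at hi
    obtain ⟨hiθ, -, hipos⟩ := hi
    have h1 := L1 i hipos
    have h2 := L2 i hipos hiθ
    have h3 : P.pairingIn ℤ i θ = 0 ∨ P.pairingIn ℤ i θ = 1 := by omega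
    rw [← hcast]
    rcases h3 with h3 | h3 <;> rw [h3] <;> norm_num
  rw [Finset.sum_congr rfl hrest]
  ring

end Groth.Agent.S17471
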