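import Groth.Statements.S17476
import Mathlib

set_option autoImplicit false
universe u
open CategoryTheory AlgebraicGeometry Opposite
open Coh

set_option linter.unusedSectionVars false

namespace Groth.Agent.S17476Aux

section Alg


open IsLocalRing

/-- Local key lemma. -/
theorem height_maximalIdeal_le_one {S K : Type*} [CommRing S] [IsNoetherianRing S] [IsDomain S]
    [IsIntegrallyClosed S] [IsLocalRing S] [Field K] [Algebra S K] [IsFractionRing S K]
    (y : K) (hy : y ∉ Set.range (algebraMap S K)) (hm : maximalIdeal S ≠ ⊥)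
    (h1 : ∀ z ∈ maximalIdeal S, ∃ w : S, y * algebraMap S K z = algebraMap S K w) :
    (maximalIdeal S).height ≤ 1 := by
  have hinjSK : Function.Injective (algebraMap S K) := IsFractionRing.injective S K
  by_cases hA : ∀ z ∈ maximalIdeal S, ∀ w : S, y * algebraMap S K z = algebraMap S K w →
      w ∈ maximalIdeal S
  · -- y is integral
    exfalso
    apply hy
    have hint : IsIntegral S y := by
      refine isIntegral_of_smul_mem_submodule (M := K)
        (Submodule.map (Algebra.linearMap S K) (maximalIdeal S)) ?_ ?_ y ?_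
      · intro h
        apply hm
        rw [eq_bot_iff]
        intro z hz
        have : algebraMap S K z ∈ Submodule.map (Algebra.linearMap S K) (maximalIdeal S) :=
          ⟨z, hz, rfl⟩
        rw [h, Submodule.mem_bot] at this
        exact (Submodule.mem_bot S).2 (hinjSK (this.trans (map_zero _).symm))
      · exact Submodule.FG.map _ (IsNoetherian.noetherian _)
      · rintro _ ⟨z, hz, rfl⟩
        obtain ⟨w, hw⟩ := h1 z hz
        exact ⟨w, hA z hz w hw, by simpa [smul_eq_mul] using hw.symm⟩
    exact IsIntegrallyClosed.isIntegral_iff.mp hint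
  · push Not at hA
    obtain ⟨z, hz, w, hw, hwm⟩ := hA
    have hwu : IsUnit w := by
      by_contra h
      exact hwm ((mem_maximalIdeal w).2 h)
    obtain ⟨u, rfl⟩ := hwu
    have hspan : maximalIdeal S = Ideal.span {z} := by
      apply le_antisymm
      · intro z' hz'
        obtain ⟨w', hw'⟩ := h1 z' hz'
        rw [Ideal.mem_span_singleton]
        refine ⟨w' * ((u⁻¹ : Sˣ) : S), ?_⟩
        apply hinjSK
        have hu : algebraMap S K (u : S) * algebraMap S K ((u⁻¹ : Sˣ) : S) = 1 := by
          rw [← map_mul, Units.mul_inv, map_one]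
        rw [map_mul, map_mul, ← hw']
        calc algebraMap S K z' = algebraMap S K z' * (algebraMap S K (u : S) *
              algebraMap S K ((u⁻¹ : Sˣ) : S)) := by rw [hu, mul_one]
          _ = algebraMap S K z' * (y * algebraMap S K z * algebraMap S K ((u⁻¹ : Sˣ) : S)) := by
              rw [hw]
          _ = _ := by ring
      · rw [Ideal.span_singleton_le_iff_mem]; exact hz
    haveI : (Ideal.span {z}).IsPrincipal := ⟨⟨z, rfl⟩⟩
    refine Ideal.height_le_one_of_isPrincipal_of_mem_minimalPrimes (Ideal.span {z})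
      (maximalIdeal S) ?_
    rw [← hspan]
    exact ⟨⟨inferInstance, le_rfl⟩, fun q hq _ => hq.2⟩

/-- Key lemma: in a Noetherian integrally closed domain, a prime of the form `(b : c)` with
`b ≠ 0` has height at most one. -/
theorem height_le_one_of_colon {R : Type*} [CommRing R] [IsNoetherianRing R] [IsDomain R]
    [IsIntegrallyClosed R] (P : Ideal R) [hP : P.IsPrime] (b c : R) (hb : b ≠ 0)
    (hPc : ∀ r, r ∈ P ↔ b ∣ r * c) : P.height ≤ 1 := by
  haveI : IsDomain (Localization.AtPrime P) :=
    IsLocalization.isDomain_of_atPrime (Localization.AtPrime P) P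
  haveI : IsIntegrallyClosed (Localization.AtPrime P) :=
    isIntegrallyClosed_of_isLocalization (Localization.AtPrime P) P.primeCompl
      P.primeCompl_le_nonZeroDivisors
  haveI : IsNoetherianRing (Localization.AtPrime P) :=
    IsLocalization.isNoetherianRing P.primeCompl (Localization.AtPrime P) inferInstance
  have hinjRK : Function.Injective (algebraMap R (FractionRing R)) :=
    IsFractionRing.injective _ _
  have hbP : b ∈ P := (hPc b).2 ⟨c, rfl⟩
  have hbK : algebraMap R (FractionRing R) b ≠ 0 :=
    fun h => hb (hinjRK (h.trans (map_zero _).symm))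
  have hRSK : ∀ r : R, algebraMap (Localization.AtPrime P) (FractionRing R)
      (algebraMap R (Localization.AtPrime P) r) = algebraMap R (FractionRing R) r :=
    fun r => (IsScalarTower.algebraMap_apply R (Localization.AtPrime P) (FractionRing R) r).symm
  have key := height_maximalIdeal_le_one (S := Localization.AtPrime P)
    (K := FractionRing R)
    (algebraMap R (FractionRing R) c / algebraMap R (FractionRing R) b) ?_ ?_ ?_
  · have h2 := IsLocalization.AtPrime.ringKrullDim_eq_height P (Localization.AtPrime P)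
    rw [← IsLocalRing.maximalIdeal_height_eq_ringKrullDim] at h2
    have h3 : (maximalIdeal (Localization.AtPrime P)).height = P.height := by exact_mod_cast h2
    rwa [h3] at key
  · rintro ⟨w, hw⟩
    obtain ⟨u, v, rfl⟩ := IsLocalization.exists_mk'_eq P.primeCompl w
    have hvK : algebraMap R (FractionRing R) (v : R) ≠ 0 := by
      intro h
      have : (v : R) = 0 := hinjRK (h.trans (map_zero _).symm)
      exact v.2 (this ▸ P.zero_mem)
    have h4 : algebraMap (Localization.AtPrime P) (FractionRing R)
        (IsLocalization.mk' (Localization.AtPrime P) u v) * algebraMap R (FractionRing R) v =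
        algebraMap R (FractionRing R) u := by
      rw [← hRSK, ← map_mul, IsLocalization.mk'_spec, hRSK]
    rw [eq_div_iff hbK] at hw
    have h5 : algebraMap R (FractionRing R) (u * b) = algebraMap R (FractionRing R) (v * c) := by
      rw [map_mul, map_mul, ← h4, ← hw]; ring
    have h6 := hinjRK h5
    exact v.2 ((hPc v).2 ⟨u, by rw [← h6]; ring⟩)
  · intro h
    have : algebraMap R (Localization.AtPrime P) b ∈ maximalIdeal (Localization.AtPrime P) := by
      rw [IsLocalization.AtPrime.to_map_mem_maximal_iff (Localization.AtPrime P) P]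
      exact hbP
    rw [h, Submodule.mem_bot] at this
    apply hbK
    rw [← hRSK, this, map_zero]
  · intro z hz
    obtain ⟨r, t, rfl⟩ := IsLocalization.exists_mk'_eq P.primeCompl z
    have hr : r ∈ P := by
      rwa [IsLocalization.AtPrime.mk'_mem_maximal_iff (Localization.AtPrime P) P] at hz
    obtain ⟨d, hd⟩ := (hPc r).1 hr
    refine ⟨IsLocalization.mk' (Localization.AtPrime P) d t, ?_⟩
    have htK : algebraMap R (FractionRing R) (t : R) ≠ 0 := by
      intro h
      have : (t : R) = 0 := hinjRK (h.trans (map_zero _).symm)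
      exact t.2 (this ▸ P.zero_mem)
    have h4 : ∀ e : R, algebraMap (Localization.AtPrime P) (FractionRing R)
        (IsLocalization.mk' (Localization.AtPrime P) e t) =
        algebraMap R (FractionRing R) e / algebraMap R (FractionRing R) t := by
      intro e
      rw [eq_div_iff htK, ← hRSK, ← map_mul, IsLocalization.mk'_spec, hRSK]
    rw [h4, h4, div_mul_div_comm, div_eq_div_iff (mul_ne_zero hbK htK) htK, ← map_mul,
      ← map_mul, ← map_mul, ← map_mul]
    congr 1
    rw [mul_comm c r, hd]; ring


end Alg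


/-- Algebraic Hartogs. -/
theorem hartogs_alg {R A : Type*} [CommRing R] [IsNoetherianRing R] [IsDomain R]
    [IsIntegrallyClosed R] [CommRing A] [IsDomain A] (ρ : R →+* A) (hρ : Function.Injective ρ)
    (V : Set (PrimeSpectrum R)) (hV : ∀ p : PrimeSpectrum R, p ∉ V → (2 : ℕ∞) ≤ p.asIdeal.height)
    (hloc : ∀ s : A, ∀ p ∈ V, ∃ g : R, g ∉ p.asIdeal ∧ ∃ a : R, ρ g * s = ρ a) :
    Function.Surjective ρ := by
  intro s
  -- the generic point lies in V
  have hbotV : (⟨⊥, Ideal.isPrime_bot⟩ : PrimeSpectrum R) ∈ V := by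
    by_contra h
    have := hV _ h
    simp at this
  obtain ⟨b, hb0, a, hba⟩ := hloc s _ hbotV
  have hb : b ≠ 0 := fun h => hb0 (h ▸ Ideal.zero_mem _)
  have hρb : ρ b ≠ 0 := fun h => hb (hρ (h.trans (map_zero ρ).symm))
  -- characterisation of the denominators
  have hI : ∀ r : R, (∃ c, ρ r * s = ρ c) ↔ b ∣ r * a := by
    intro r
    constructor
    · rintro ⟨c, hc⟩
      refine ⟨c, hρ ?_⟩
      rw [map_mul, map_mul, ← hba, ← hc]; ring
    · rintro ⟨c, hc⟩
      refine ⟨c, mul_left_cancel₀ hρb ?_⟩
      rw [← map_mul, ← hc, map_mul, ← hba]; ring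
  by_cases hdiv : b ∣ a
  · obtain ⟨c, hc⟩ := (hI 1).2 (by simpa using hdiv)
    exact ⟨c, by rw [← hc, map_one, one_mul]⟩
  exfalso
  -- associated prime of R/(b) containing the annihilator of a
  have hx : (Ideal.Quotient.mk (Ideal.span {b}) a) ≠ 0 := by
    rw [Ne, Ideal.Quotient.eq_zero_iff_mem, Ideal.mem_span_singleton]
    exact hdiv
  have hsm : ∀ r c : R, r • (Ideal.Quotient.mk (Ideal.span {b}) c) = 0 ↔ b ∣ r * c := by
    intro r c
    have : r • (Ideal.Quotient.mk (Ideal.span {b}) c) =
        Ideal.Quotient.mk (Ideal.span {b}) (r * c) := by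
      rw [Algebra.smul_def, map_mul]; rfl
    rw [this, Ideal.Quotient.eq_zero_iff_mem, Ideal.mem_span_singleton]
  obtain ⟨P, hPass, hPle⟩ := exists_le_isAssociatedPrime_of_isNoetherianRing (R := R)
    (M := R ⧸ Ideal.span {b}) _ hx
  rw [isAssociatedPrime_iff] at hPass
  obtain ⟨hPprime, x, hPx⟩ := hPass
  obtain ⟨c, rfl⟩ := Ideal.Quotient.mk_surjective x
  have hPc : ∀ r, r ∈ P ↔ b ∣ r * c := by
    intro r
    rw [hPx, Submodule.mem_colon_singleton, Submodule.mem_bot]
    exact hsm r c
  have hle : P.height ≤ 1 := height_le_one_of_colon P b c hb hPc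
  have hPV : (⟨P, hPprime⟩ : PrimeSpectrum R) ∈ V := by
    by_contra h
    have h2 := hV _ h
    have : (2 : ℕ∞) ≤ 1 := h2.trans hle
    exact absurd this (by decide)
  obtain ⟨g, hgP, a', hga'⟩ := hloc s _ hPV
  apply hgP
  apply hPle
  rw [Submodule.mem_colon_singleton, Submodule.mem_bot]
  exact (hsm g a).2 ((hI g).1 ⟨a', hga'⟩)



universe v₁ v₂ v₃ u₁ u₂ u₃

/-- Abstract formal part. -/
theorem formal_abstract {C : Type u₁} [Category.{v₁} C] {D : Type u₂} [Category.{v₂} D]
    {E : Type u₃} [Category.{v₃} E] {L : C ⥤ D} {G : D ⥤ C} (adj : L ⊣ G)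
    {T : E ⥤ C} {Γ : C ⥤ E} (tadj : T ⊣ Γ) (M : E) (N : C) :
    (Mono (Γ.map (adj.unit.app N)) →
      Function.Injective (fun φ : T.obj M ⟶ N => L.map φ)) ∧
    (IsIso (Γ.map (adj.unit.app N)) →
      Function.Bijective (fun φ : T.obj M ⟶ N => L.map φ)) := by
  have key : ∀ φ : T.obj M ⟶ N, L.map φ =
      (adj.homEquiv _ _).symm ((tadj.homEquiv M _).symm
        (tadj.homEquiv M _ φ ≫ Γ.map (adj.unit.app N))) := by
    intro φ
    rw [Equiv.eq_symm_apply, Equiv.eq_symm_apply]
    have h1 : adj.homEquiv (T.obj M) (L.obj N) (L.map φ) = φ ≫ adj.unit.app N := by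
      rw [Adjunction.homEquiv_unit, Adjunction.unit_naturality]
    rw [h1, Adjunction.homEquiv_naturality_right]
  have hfun : (fun φ : T.obj M ⟶ N => L.map φ) =
      (adj.homEquiv _ _).symm ∘ (tadj.homEquiv M _).symm ∘
        (fun h => h ≫ Γ.map (adj.unit.app N)) ∘ (tadj.homEquiv M N) := by
    funext φ
    exact key φ
  constructor
  · intro hmono
    rw [hfun]
    refine (Equiv.injective _).comp ((Equiv.injective _).comp (Function.Injective.comp ?_
      (Equiv.injective _)))
    intro a b hab
    exact (cancel_mono _).1 hab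
  · intro hiso
    rw [hfun]
    refine (Equiv.bijective _).comp ((Equiv.bijective _).comp (Function.Bijective.comp ?_
      (Equiv.bijective _)))
    constructor
    · intro a b hab
      exact (cancel_mono _).1 hab
    · intro h
      exact ⟨h ≫ inv (Γ.map (adj.unit.app N)), by simp⟩

theorem formal (R : Type u) [CommRing R]
    (M : ModuleCat.{u} (CommRingCat.of R)) (U : (Spec (CommRingCat.of R)).Opens) :
    let g := (moduleSpecΓFunctor (R := CommRingCat.of R)).map
      ((Scheme.Modules.restrictAdjunction U.ι).unit.app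
        (Coh.structureModule (Spec (CommRingCat.of R))))
    (Mono g → Function.Injective
      (fun φ : AlgebraicGeometry.tilde M ⟶ Coh.structureModule (Spec (CommRingCat.of R)) =>
        (Scheme.Modules.restrictFunctor U.ι).map φ)) ∧
    (IsIso g → Function.Bijective
      (fun φ : AlgebraicGeometry.tilde M ⟶ Coh.structureModule (Spec (CommRingCat.of R)) =>
        (Scheme.Modules.restrictFunctor U.ι).map φ)) := by
  intro g
  exact formal_abstract (Scheme.Modules.restrictAdjunction U.ι)
    (tilde.adjunction (R := CommRingCat.of R)) M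
    (Coh.structureModule (Spec (CommRingCat.of R)))



theorem map_congr_opens {X : Scheme.{u}} {W W' V : X.Opens} (h : W = W') (i : W ⟶ V) (i' : W' ⟶ V) :
    (Function.Injective (X.presheaf.map i.op) ↔ Function.Injective (X.presheaf.map i'.op)) ∧
    (Function.Bijective (X.presheaf.map i.op) ↔ Function.Bijective (X.presheaf.map i'.op)) := by
  subst h
  rw [Subsingleton.elim i i']
  exact ⟨Iff.rfl, Iff.rfl⟩

theorem image_preimage_top {X : Scheme.{u}} (U : X.Opens) : U.ι ''ᵁ (U.ι ⁻¹ᵁ ⊤) = U := by
  simp

theorem g_mono (R : Type u) [CommRing R] (U : (Spec (CommRingCat.of R)).Opens)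
    (h : Function.Injective ((Spec (CommRingCat.of R)).presheaf.map (homOfLE (le_top : U ≤ ⊤)).op)) :
    Mono ((moduleSpecΓFunctor (R := CommRingCat.of R)).map
      ((Scheme.Modules.restrictAdjunction U.ι).unit.app
        (Coh.structureModule (Spec (CommRingCat.of R))))) := by
  rw [ModuleCat.mono_iff_injective]
  have h2 := ((map_congr_opens (image_preimage_top U) (homOfLE (U.ι.image_preimage_le ⊤))
    (homOfLE (le_top : U ≤ ⊤))).1).2 h
  exact h2

theorem g_iso (R : Type u) [CommRing R] (U : (Spec (CommRingCat.of R)).Opens)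
    (h : Function.Bijective ((Spec (CommRingCat.of R)).presheaf.map (homOfLE (le_top : U ≤ ⊤)).op)) :
    IsIso ((moduleSpecΓFunctor (R := CommRingCat.of R)).map
      ((Scheme.Modules.restrictAdjunction U.ι).unit.app
        (Coh.structureModule (Spec (CommRingCat.of R))))) := by
  rw [ConcreteCategory.isIso_iff_bijective]
  have h2 := ((map_congr_opens (image_preimage_top U) (homOfLE (U.ι.image_preimage_le ⊤))
    (homOfLE (le_top : U ≤ ⊤))).2).2 h
  exact h2



theorem res_algebraMap (R : CommRingCat.{u}) {U V : (Spec R).Opens} (i : V ⟶ U) (x : R) :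
    ((Spec R).presheaf.map i.op).hom (algebraMap R Γ(Spec R, U) x) =
      algebraMap R Γ(Spec R, V) x := by
  rw [IsAffineOpen.algebraMap_Spec_obj, IsAffineOpen.algebraMap_Spec_obj]
  simp only [CommRingCat.hom_comp, RingHom.comp_apply]
  rw [← RingHom.comp_apply, ← CommRingCat.hom_comp, ← Functor.map_comp]
  rfl

set_option backward.isDefEq.respectTransparency.types false in
theorem hartogs_geom (R : CommRingCat.{u}) [IsNoetherianRing R] [IsDomain R]
    [IsIntegrallyClosed R] (U : (Spec R).Opens)
    (hU : ∀ p : PrimeSpectrum R, p ∉ U → (2 : ℕ∞) ≤ p.asIdeal.height) :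
    Function.Bijective ((Spec R).presheaf.map (homOfLE (le_top : U ≤ ⊤)).op) := by
  have hbotU : (⟨⊥, Ideal.isPrime_bot⟩ : PrimeSpectrum R) ∈ U := by
    by_contra h
    have := hU _ h
    simp at this
  haveI : Nonempty U := ⟨⟨_, hbotU⟩⟩
  haveI : IsIntegral (Spec R) := inferInstance
  haveI : IsDomain Γ(Spec R, U) := inferInstance
  have hinj : Function.Injective
      ((Spec R).presheaf.map (homOfLE (le_top : U ≤ ⊤)).op) :=
    map_injective_of_isIntegral (X := Spec R) (homOfLE (le_top : U ≤ ⊤))
  refine ⟨hinj, ?_⟩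
  have hρinj : Function.Injective (algebraMap R Γ(Spec R, U)) := by
    rw [IsAffineOpen.algebraMap_Spec_obj]
    simp only [CommRingCat.hom_comp, RingHom.coe_comp]
    exact hinj.comp (ConcreteCategory.bijective_of_isIso (Scheme.ΓSpecIso R).inv).1
  have hsurj := hartogs_alg (R := R) (A := Γ(Spec R, U))
    (algebraMap R Γ(Spec R, U)) hρinj
    {p | p ∈ U} (fun p hp => hU p hp) ?_
  · intro s
    obtain ⟨r, hr⟩ := hsurj s
    refine ⟨(Scheme.ΓSpecIso R).inv.hom r, ?_⟩
    rw [← hr, IsAffineOpen.algebraMap_Spec_obj]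
    rfl
  · intro s p hp
    obtain ⟨W, ⟨g, hWg⟩, hpW, hWU⟩ : ∃ W : (Spec R).Opens,
        (∃ g : R, W = PrimeSpectrum.basicOpen g) ∧ p ∈ W ∧ W ≤ U := by
      obtain ⟨_, ⟨g, rfl⟩, hpg, hgU⟩ := TopologicalSpace.Opens.isBasis_iff_nbhd.1
        (PrimeSpectrum.isBasis_basic_opens (R := R)) (show p ∈ U from hp)
      exact ⟨PrimeSpectrum.basicOpen g, ⟨g, rfl⟩, hpg, hgU⟩
    haveI : Nonempty W := ⟨⟨p, hpW⟩⟩
    have hinj2 : Function.Injective
        ((Spec R).presheaf.map (homOfLE hWU).op) :=
      map_injective_of_isIntegral (X := Spec R) (homOfLE hWU)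
    haveI : IsLocalization.Away g Γ(Spec R, W) := by
      rw [hWg]; infer_instance
    obtain ⟨⟨a, t⟩, hat⟩ := IsLocalization.surj (M := Submonoid.powers (g : R))
      (S := Γ(Spec R, W))
      (((Spec R).presheaf.map (homOfLE hWU).op).hom s)
    obtain ⟨t, n, rfl⟩ := t
    have hpg : g ∉ p.asIdeal := by
      rw [hWg] at hpW; exact hpW
    refine ⟨g ^ n, ?_, a, ?_⟩
    · intro h
      exact hpg (p.isPrime.mem_of_pow_mem n h)
    · apply hinj2
      refine (map_mul ((Spec R).presheaf.map (homOfLE hWU).op).hom _ _).trans ?_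
      refine (congrArg₂ (· * ·) (res_algebraMap R (homOfLE hWU) (g ^ n)) rfl).trans ?_
      refine Eq.trans ?_ (res_algebraMap R (homOfLE hWU) a).symm
      exact (mul_comm _ _).trans hat


end Groth.Agent.S17476Aux

namespace Groth.Agent.S17476

/-- Let R be a Noetherian ring, Z = Spec R, M a finitely generated R-module with associated
quasi-coherent sheaf M~ (so that Hom_R(M, R) = Hom_Z(M~, O_Z)), and Z₀ ⊆ Z an open subscheme. (1) If
the restriction of functions Γ(Z, O_Z) → Γ(Z₀, O_Z) is injective, then the restriction map Hom_Z(M~,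
O_Z) → Hom_{Z₀}(M~|Z₀, O_{Z₀}) is injective. (2) If R is an integrally closed domain and the closed
complement of Z₀ has codimension at least 2 (every prime ideal outside Z₀ has height at least 2),
then that restriction map is bijective. (The published first assertion assumes only that Z₀ is
dense; for R = k[x,y]/(x², xy), M = R and Z₀ the locus y ≠ 0, which is dense, multiplication by x is
a nonzero element of Hom_R(M, R) restricting to zero, so schematic density is what is needed and
what the printed argument uses. The published second assertion is for a normal irreducible affine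
variety; any Noetherian integrally closed domain is allowed here.) -/
theorem result (R : Type u) [CommRing R] [IsNoetherianRing R]
    (M : ModuleCat.{u} (CommRingCat.of R)) [Module.Finite R M] (U : (Spec (CommRingCat.of R)).Opens) :
    (Function.Injective ((Spec (CommRingCat.of R)).presheaf.map (homOfLE (le_top : U ≤ ⊤)).op) →
      Function.Injective (fun φ : AlgebraicGeometry.tilde M ⟶ Coh.structureModule (Spec (CommRingCat.of R)) =>
        (Scheme.Modules.restrictFunctor U.ι).map φ)) ∧
    (IsDomain R → IsIntegrallyClosed R → (∀ p : PrimeSpectrum R, p ∉ U → (2 : ℕ∞) ≤ p.asIdeal.height) →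
      Function.Bijective (fun φ : AlgebraicGeometry.tilde M ⟶ Coh.structureModule (Spec (CommRingCat.of R)) =>
        (Scheme.Modules.restrictFunctor U.ι).map φ)) := by
  have hf := Groth.Agent.S17476Aux.formal R M U
  refine ⟨fun h => hf.1 (Groth.Agent.S17476Aux.g_mono R U h), fun hdom hic hcodim => ?_⟩
  haveI : IsNoetherianRing (CommRingCat.of R) := inferInstanceAs (IsNoetherianRing R)
  haveI : IsDomain (CommRingCat.of R) := hdom
  haveI : IsIntegrallyClosed (CommRingCat.of R) := hic
  exact hf.2 (Groth.Agent.S17476Aux.g_iso R U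
    (Groth.Agent.S17476Aux.hartogs_geom (CommRingCat.of R) U hcodim))

end Groth.Agent.S17476
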