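import Groth.Statements.S17482
import Groth.Agent.S0009
import Groth.Agent.Lib.Helper26.SerreCrit
import Groth.Agent.Lib.Helper51.SchemeIdem
import Groth.Agent.Lib.Helper7.ProjSpaceProper

set_option autoImplicit false
universe u
open CategoryTheory CategoryTheory.Limits AlgebraicGeometry
open Surf

namespace Groth.Agent.S17482

/-- Let k be an algebraically closed field of characteristic zero and X a smooth projective surface over
k (an integral scheme of dimension two with all local rings regular, admitting a closed immersion
into some P^n_k over k) such that H^1(X, O_X) = 0. Let D be a nonempty closed subscheme of X, given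
by a quasi-coherent ideal sheaf whose associated O_X-module I_D is invertible (a nonzero effective
divisor). If H^1(X, I_D) = 0, then D is connected. (The published statement is for rational
surfaces; this row assumes only H^1(X, O_X) = 0. Since H^1(X, I_D) depends only on the isomorphism
class of I_D, the same holds for every effective divisor linearly equivalent to D.) -/
theorem result
    (k : Type u) [Field k] [IsAlgClosed k] [CharZero k]
    (X : Scheme.{u}) [X.Over (Spec (CommRingCat.of k))] [AlgebraicGeometry.IsIntegral X]
    (hdim : topologicalKrullDim X = 2) (hreg : ∀ x : X, IsRegularLocalRing (X.presheaf.stalk x))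
    (hproj : ∃ (n : ℕ) (ι : X ⟶ CohB1.ProjSpace n k), IsClosedImmersion ι ∧
      ι ≫ CohB1.ProjSpace.toSpec n k = (X ↘ (Spec (CommRingCat.of k))))
    (hH1 : Subsingleton (Coh.HH X (Coh.structureModule X) 1))
    (D : X.IdealSheafData) (hD : PicF.IsInvertible (ClSub.idealMod D)) (hne : Nonempty ↥D.subscheme)
    (hvan : Subsingleton (Coh.HH X (ClSub.idealMod D) 1)) :
    ConnectedSpace ↥D.subscheme := by
  obtain ⟨n, ι, hι, hιf⟩ := hproj
  haveI := hι
  haveI : UniversallyClosed (X ↘ (Spec (CommRingCat.of k))) := by
    rw [← hιf]
    infer_instance
  have hfield : IsField (Γ(X, ⊤) : Type u) :=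
    isField_of_universallyClosed k (X ↘ (Spec (CommRingCat.of k)))
  have hS := Groth.Agent.Lib.Helper26.SerreCrit.idealSC_shortExact D
  have hsurj : Function.Surjective (D.subschemeι.appTop).hom :=
    Groth.Agent.S0009.surjective_of_H1 hS hvan
  apply Groth.Agent.Lib.Helper51.connectedSpace_of_forall_idempotent
  intro e he
  obtain ⟨a, rfl⟩ := hsurj e
  letI := hfield.toField
  by_cases ha : a = 0
  · left
    rw [ha, map_zero]
  · right
    have h1 : IsIdempotentElem ((D.subschemeι.appTop).hom a) := he
    -- in a field, `a ≠ 0` is a unit; its image is an idempotent unit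
    have hu : IsUnit ((D.subschemeι.appTop).hom a) := (IsUnit.mk0 a ha).map _
    exact (IsIdempotentElem.iff_eq_one_of_isUnit hu).mp h1

end Groth.Agent.S17482
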