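import Groth.Statements.S1750
import Groth.Agent.Lib.Helper85.Matlis
import Mathlib.RingTheory.Flat.Basic
import Mathlib.Algebra.Module.Injective

set_option autoImplicit false
universe u
open InjHull

namespace Groth.Agent.S1750


open TensorProduct in
/-- An injective module over a flat algebra is injective over the base. -/
theorem injective_of_flat (R S : Type u) [CommRing R] [CommRing S] [Algebra R S] [Module.Flat R S]
    (E : Type u) [AddCommGroup E] [Module S E] [Module R E] [IsScalarTower R S E]
    [Module.Injective S E] : Module.Injective R E := by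
  refine ⟨fun X Y _ _ _ _ f hf g ↦ ?_⟩
  have hinj : Function.Injective (LinearMap.baseChange S f) := by
    have := Module.Flat.lTensor_preserves_injective_linearMap (M := S) f hf
    exact this
  obtain ⟨h', hh'⟩ := Module.Injective.out (R := S) (Q := E) (LinearMap.baseChange S f) hinj
    (LinearMap.liftBaseChange S g)
  refine ⟨(h'.restrictScalars R) ∘ₗ (TensorProduct.mk R S Y 1), fun x ↦ ?_⟩
  have := hh' ((1 : S) ⊗ₜ[R] x)
  simpa using this

/-- Let R → S be a flat local homomorphism of Noetherian local rings with m_R S = m_S inducing a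
bijection on residue fields. If κ_S → E is an injective hull of the residue field of S over S, then
E regarded as an R-module is an injective hull of the residue field of R (for a suitable R-linear
map κ_R → E). -/
theorem result (R S : Type u) [CommRing R] [CommRing S] [IsLocalRing R] [IsLocalRing S] [IsNoetherianRing R] [IsNoetherianRing S] [Algebra R S] [IsLocalHom (algebraMap R S)] [Module.Flat R S] (hm : (IsLocalRing.maximalIdeal R).map (algebraMap R S) = IsLocalRing.maximalIdeal S) (hk : Function.Bijective (IsLocalRing.ResidueField.map (algebraMap R S))) (E : Type u) [AddCommGroup E] [Module S E] [Module R E] [IsScalarTower R S E] (f : IsLocalRing.ResidueField S →ₗ[S] E) (hf : InjHull.IsInjectiveHull f) : ∃ g : IsLocalRing.ResidueField R →ₗ[R] E, InjHull.IsInjectiveHull g := by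
  classical
  have hE : Module.Injective S E := hf.isInjective
  have hRinj : Module.Injective R E := injective_of_flat R S E
  let ι : IsLocalRing.ResidueField R →ₗ[R] IsLocalRing.ResidueField S :=
    { toFun := IsLocalRing.ResidueField.map (algebraMap R S)
      map_add' := map_add _
      map_smul' := fun a c ↦ by
        obtain ⟨r, rfl⟩ := IsLocalRing.residue_surjective c
        simp only [RingHom.id_apply, Algebra.smul_def, map_mul]
        rfl }
  have hι : ∀ c, ι c = IsLocalRing.ResidueField.map (algebraMap R S) c := fun _ ↦ rfl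
  let g : IsLocalRing.ResidueField R →ₗ[R] E := (f.restrictScalars R) ∘ₗ ι
  have hg : ∀ c, g c = f (IsLocalRing.ResidueField.map (algebraMap R S) c) := fun _ ↦ rfl
  have hpt : LocCoh.IsPowerTorsion (IsLocalRing.maximalIdeal R) E := by
    intro x
    obtain ⟨n, hn⟩ := Lib.Helper85.Matlis.isPowerTorsion hf.toIsEssentialInj x
    refine ⟨n, fun a ha ↦ ?_⟩
    have : algebraMap R S a ∈ IsLocalRing.maximalIdeal S ^ n := by
      rw [← hm, ← Ideal.map_pow]
      exact Ideal.mem_map_of_mem _ ha
    rw [← algebraMap_smul S a x]
    exact hn _ this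
  refine ⟨g, ⟨⟨?_, ?_⟩, hRinj⟩⟩
  · intro c c' h
    rw [hg, hg] at h
    exact hk.1 (hf.injective h)
  · intro N hN
    obtain ⟨x, hxN, hx0⟩ := (Submodule.ne_bot_iff N).mp hN
    obtain ⟨a, hax, hasoc⟩ := Lib.Helper85.Matlis.exists_smul_mem_socle hpt x hx0
    have key : ∀ s ∈ (IsLocalRing.maximalIdeal R).map (algebraMap R S), s • a • x = 0 := by
      intro s hs
      induction hs using Submodule.span_induction with
      | mem s hs =>
        obtain ⟨r, hr, rfl⟩ := hs
        rw [algebraMap_smul]
        exact (Submodule.mem_torsionBySet_iff _ _).mp hasoc ⟨r, hr⟩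
      | zero => simp
      | add s t _ _ hs ht => rw [add_smul, hs, ht, add_zero]
      | smul b s _ hs => rw [smul_eq_mul, mul_smul, hs, smul_zero]
    have hS : a • x ∈ LocCoh.torsionBy (IsLocalRing.maximalIdeal S) E := by
      rw [Submodule.mem_torsionBySet_iff]
      rintro ⟨s, hs⟩
      exact key s (by rw [hm]; exact hs)
    rw [Lib.Helper85.Matlis.socle_eq_range hf.toIsEssentialInj] at hS
    obtain ⟨c, hc⟩ := hS
    obtain ⟨c', rfl⟩ := hk.2 c
    intro hbot
    apply hax
    have : a • x ∈ N ⊓ LinearMap.range g := ⟨N.smul_mem a hxN, ⟨c', hc⟩⟩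
    rw [hbot] at this
    exact (Submodule.mem_bot R).mp this

end Groth.Agent.S1750
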