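import Groth.Statements.S17500
import Mathlib

set_option autoImplicit false
universe u
open TorsMod

namespace Groth.Agent.S17500

theorem cast_pow_self (p n : ℕ) : ((p : ZMod (p ^ n)) ^ n) = 0 := by
  rw [← Nat.cast_pow, ZMod.natCast_self]

theorem zmod_unit_mul_pow (p n : ℕ) [Fact p.Prime] (x : ZMod (p ^ n)) :
    ∃ (u : (ZMod (p ^ n))ˣ) (j : ℕ), x = u * (p : ZMod (p ^ n)) ^ j := by
  have hp : p.Prime := Fact.out
  haveI : NeZero (p ^ n) := ⟨pow_ne_zero n hp.ne_zero⟩
  obtain ⟨m, rfl⟩ := ZMod.natCast_zmod_surjective x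
  by_cases hm : m = 0
  · refine ⟨1, n, ?_⟩
    subst hm
    rw [Nat.cast_zero, Units.val_one, one_mul, cast_pow_self]
  · obtain ⟨j, m', hm', rfl⟩ := Nat.exists_eq_pow_mul_and_not_dvd hm p hp.ne_one
    have hcop : Nat.Coprime m' (p ^ n) :=
      Nat.Coprime.pow_right n ((Nat.Prime.coprime_iff_not_dvd hp).mpr hm').symm
    refine ⟨ZMod.unitOfCoprime m' hcop, j, ?_⟩
    rw [ZMod.coe_unitOfCoprime]
    push_cast
    ring

theorem ideal_eq_span_pow (p n : ℕ) [Fact p.Prime] (I : Ideal (ZMod (p ^ n))) :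
    ∃ i, i ≤ n ∧ I = Ideal.span {(p : ZMod (p ^ n)) ^ i} := by
  classical
  have hn : (p : ZMod (p ^ n)) ^ n ∈ I := by
    rw [cast_pow_self]
    exact I.zero_mem
  have hex : ∃ i, (p : ZMod (p ^ n)) ^ i ∈ I := ⟨n, hn⟩
  refine ⟨Nat.find hex, Nat.find_min' hex hn, ?_⟩
  apply le_antisymm
  · intro x hx
    obtain ⟨u, j, rfl⟩ := zmod_unit_mul_pow p n x
    have hj : (p : ZMod (p ^ n)) ^ j ∈ I := by
      have := I.mul_mem_left (↑u⁻¹) hx
      rwa [← mul_assoc, Units.inv_mul, one_mul] at this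
    have hle := Nat.find_min' hex hj
    rw [Ideal.mem_span_singleton]
    exact Dvd.dvd.mul_left (pow_dvd_pow _ hle) _
  · rw [Ideal.span_singleton_le_iff_mem]
    exact Nat.find_spec hex

theorem exists_eq_pow_mul (p n i : ℕ) [Fact p.Prime] (hi : i ≤ n) (a : ZMod (p ^ n))
    (ha : (p : ZMod (p ^ n)) ^ i * a = 0) :
    ∃ b, a = (p : ZMod (p ^ n)) ^ (n - i) * b := by
  have hp : p.Prime := Fact.out
  haveI : NeZero (p ^ n) := ⟨pow_ne_zero n hp.ne_zero⟩
  obtain ⟨m, rfl⟩ := ZMod.natCast_zmod_surjective a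
  rw [← Nat.cast_pow, ← Nat.cast_mul, ZMod.natCast_eq_zero_iff] at ha
  have hdvd : p ^ (n - i) ∣ m := by
    have h1 : p ^ n = p ^ i * p ^ (n - i) := by
      rw [← pow_add]
      congr 1
      omega
    rw [h1] at ha
    exact (Nat.mul_dvd_mul_iff_left (pow_pos hp.pos i)).mp ha
  obtain ⟨m', rfl⟩ := hdvd
  exact ⟨m', by push_cast; ring⟩

/-- Let p be a prime number, n a natural number and H a module over ℤ/p^nℤ. Then H is flat over ℤ/p^nℤ
if and only if, for every i with 0 ≤ i ≤ n, the kernel of multiplication by p^i on H coincides with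
the image of multiplication by p^(n-i) on H. (The published item is phrased for an fppf sheaf of
ℤ/p^nℤ-modules on a scheme; this is the case of a single module, which is the case the argument
treats.) -/
theorem result (p n : ℕ) [Fact p.Prime]
    (H : Type u) [AddCommGroup H] [Module (ZMod (p ^ n)) H] :
    Module.Flat (ZMod (p ^ n)) H ↔
      ∀ i : ℕ, i ≤ n →
        LinearMap.ker ((p ^ i : ZMod (p ^ n)) • (LinearMap.id : H →ₗ[ZMod (p ^ n)] H)) =
          LinearMap.range ((p ^ (n - i) : ZMod (p ^ n)) • (LinearMap.id : H →ₗ[ZMod (p ^ n)] H)) := by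
  constructor
  · intro hflat i hi
    apply le_antisymm
    · intro x hx
      rw [LinearMap.mem_ker, LinearMap.smul_apply, LinearMap.id_apply] at hx
      obtain ⟨k, a, y, hxy, hfa⟩ := Module.Flat.iff_forall_isTrivialRelation.mp hflat (l := 1)
        (f := fun _ => (p : ZMod (p ^ n)) ^ i) (x := fun _ => x) (by simpa using hx)
      have hb : ∀ j, ∃ b, a 0 j = (p : ZMod (p ^ n)) ^ (n - i) * b := fun j =>
        exists_eq_pow_mul p n i hi (a 0 j) (by simpa using hfa j)
      choose b hb using hb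
      refine ⟨∑ j, b j • y j, ?_⟩
      have hx0 : x = ∑ j, a 0 j • y j := hxy 0
      rw [LinearMap.smul_apply, LinearMap.id_apply, hx0, Finset.smul_sum]
      refine Finset.sum_congr rfl fun j _ => ?_
      rw [hb j, mul_smul]
    · rintro _ ⟨x, rfl⟩
      rw [LinearMap.mem_ker, LinearMap.smul_apply, LinearMap.id_apply, LinearMap.smul_apply,
        LinearMap.id_apply, smul_smul, ← pow_add, show i + (n - i) = n by omega, cast_pow_self,
        zero_smul]
  · intro h
    rw [Module.Flat.iff_rTensor_injective']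
    intro I
    obtain ⟨i, hi, rfl⟩ := ideal_eq_span_pow p n I
    have hgen : (p : ZMod (p ^ n)) ^ i ∈ Ideal.span {(p : ZMod (p ^ n)) ^ i} :=
      Ideal.mem_span_singleton_self _
    have hform : ∀ z : TensorProduct (ZMod (p ^ n))
        (Ideal.span {(p : ZMod (p ^ n)) ^ i} : Ideal (ZMod (p ^ n))) H,
        ∃ x : H, z = TensorProduct.tmul (ZMod (p ^ n)) (⟨(p : ZMod (p ^ n)) ^ i, hgen⟩ :
        (Ideal.span {(p : ZMod (p ^ n)) ^ i} : Ideal (ZMod (p ^ n)))) x := by
      intro z
      induction z using TensorProduct.induction_on with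
      | zero => exact ⟨0, (TensorProduct.tmul_zero _ _).symm⟩
      | tmul a x =>
        obtain ⟨a, ha⟩ := a
        obtain ⟨c, rfl⟩ := Ideal.mem_span_singleton'.mp ha
        refine ⟨c • x, ?_⟩
        rw [← TensorProduct.smul_tmul]
        rfl
      | add z₁ z₂ h₁ h₂ =>
        obtain ⟨x₁, rfl⟩ := h₁
        obtain ⟨x₂, rfl⟩ := h₂
        exact ⟨x₁ + x₂, (TensorProduct.tmul_add _ _ _).symm⟩
    rw [injective_iff_map_eq_zero]
    intro z hz
    obtain ⟨x, rfl⟩ := hform z
    rw [LinearMap.rTensor_tmul] at hz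
    have hx : (p : ZMod (p ^ n)) ^ i • x = 0 := by
      have := congrArg (TensorProduct.lid (ZMod (p ^ n)) H) hz
      simpa using this
    have hmem : x ∈ LinearMap.ker (((p : ZMod (p ^ n)) ^ i) •
        (LinearMap.id : H →ₗ[ZMod (p ^ n)] H)) := by
      rw [LinearMap.mem_ker, LinearMap.smul_apply, LinearMap.id_apply]
      exact hx
    rw [h i hi] at hmem
    obtain ⟨x', rfl⟩ := hmem
    rw [LinearMap.smul_apply, LinearMap.id_apply, ← TensorProduct.smul_tmul]
    have hz0 : ((p : ZMod (p ^ n)) ^ (n - i)) • (⟨(p : ZMod (p ^ n)) ^ i, hgen⟩ :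
        (Ideal.span {(p : ZMod (p ^ n)) ^ i} : Ideal (ZMod (p ^ n)))) = 0 := by
      apply Subtype.ext
      change (p : ZMod (p ^ n)) ^ (n - i) * (p : ZMod (p ^ n)) ^ i = 0
      rw [← pow_add, show n - i + i = n by omega, cast_pow_self]
    rw [hz0, TensorProduct.zero_tmul]

end Groth.Agent.S17500
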