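import Groth.Statements.S17526
import Mathlib.Tactic
import Groth.Agent.Lib.Helper29.Reynolds

set_option autoImplicit false
universe u
open GLin

namespace Groth.Agent.S17526

open TensorProduct Groth.Agent.Lib.Helper29 Groth.Agent.Lib.Helper96

theorem mul_tmul_one_eq (k : Type u) [Field k] (A : Type u) [CommRing A] [Bialgebra k A]
    (R : Type u) [CommRing R] [Algebra k R] (y : R) (z : R ⊗[k] A) :
    z * (y ⊗ₜ[k] (1 : A)) = (LinearMap.mulRight k y).rTensor A z := by
  induction z using TensorProduct.induction_on with
  | zero => simp
  | tmul r a => simp [Algebra.TensorProduct.tmul_mul_tmul]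
  | add z w hz hw => rw [add_mul, hz, hw, map_add]

theorem mulRight_isHom (k : Type u) [Field k] (A : Type u) [CommRing A] [Bialgebra k A]
    (R : Type u) [CommRing R] [Algebra k R] [HopfRep.Comod k A R] [GLin.IsCoactAlg k A R]
    (y : R) (hy : y ∈ GLin.invariants k A R) :
    IsHom (inferInstance : HopfRep.Comod k A R) inferInstance
      (LinearMap.mulRight k y) := by
  apply LinearMap.ext
  intro x
  simp only [LinearMap.comp_apply, LinearMap.mulRight_apply]
  rw [GLin.IsCoactAlg.coact_mul, (GLin.mem_invariants_iff k A R y).mp hy, mul_tmul_one_eq]



/-- Let `k` be a field, `H` a commutative Hopf algebra of finite type over `k` which is linearly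
reductive (every finite-dimensional comodule is semisimple; `G = Spec H` is a linearly reductive
affine group), and `A` a Noetherian commutative `k`-algebra with a coaction of `H` that is an
algebra map (an action of `G` on `Spec A`). Then the ring of invariants `A^G` is Noetherian. (The
published corollary is stated over an algebraically closed field; it is the affine case of a
statement about good moduli spaces valid over any field, and is stated here over any field.) -/
theorem result
    (k : Type u) [Field k] (H : Type u) [CommRing H] [HopfAlgebra k H] [Algebra.FiniteType k H]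
    (hG : HopfRep.IsLinearlyReductive k H)
    (A : Type u) [CommRing A] [Algebra k A] [IsNoetherianRing A]
    [HopfRep.Comod k H A] [GLin.IsCoactAlg k H A] :
    IsNoetherianRing ↥(GLin.invariants k H A) := by
  let c : HopfRep.Comod k H A := inferInstance
  let R := E hG c
  have hR_inv : ∀ x, R x ∈ GLin.invariants k H A := fun x => E_mem_Fx hG c x
  have hR_id : ∀ x ∈ GLin.invariants k H A, R x = x := fun x hx => E_of_mem_Fx hG c hx
  have hR_mul : ∀ (x y : A), y ∈ GLin.invariants k H A → R (x * y) = R x * y := by
    intro x y hy
    have := LinearMap.congr_fun (E_comp_hom hG (mulRight_isHom k H A y hy)) x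
    simpa using this

  have key : ∀ J : Ideal ↥(GLin.invariants k H A),
      (J.map (algebraMap ↥(GLin.invariants k H A) A)).comap
        (algebraMap ↥(GLin.invariants k H A) A) = J := by
    intro J
    apply le_antisymm
    · intro x hx
      rw [Ideal.mem_comap] at hx

      have hall : ∀ z ∈ J.map (algebraMap ↥(GLin.invariants k H A) A),
          ∀ a : A, ∃ w ∈ J, (w : A) = R (a * z) := by
        intro z hz
        refine Submodule.span_induction ?_ ?_ ?_ ?_ hz
        · rintro _ ⟨j, hj, rfl⟩ a
          refine ⟨⟨R a, hR_inv a⟩ * j, J.mul_mem_left _ hj, ?_⟩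
          exact (hR_mul a _ j.2).symm
        · intro a
          exact ⟨0, J.zero_mem, by simp⟩
        · intro x y _ _ hx hy a
          obtain ⟨wa, hwa, ha⟩ := hx a
          obtain ⟨wb, hwb, hb⟩ := hy a
          refine ⟨wa + wb, J.add_mem hwa hwb, ?_⟩
          rw [mul_add, map_add, ← ha, ← hb]
          rfl
        · intro b x _ hx a
          obtain ⟨w, hw, h⟩ := hx (a * b)
          refine ⟨w, hw, ?_⟩
          rw [h, smul_eq_mul, mul_assoc]
      obtain ⟨w, hw, hwx⟩ := hall _ hx 1
      rw [one_mul] at hwx
      have : w = x := by
        apply Subtype.ext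
        rw [hwx]
        exact hR_id _ x.2
      rw [← this]
      exact hw
    · exact Ideal.le_comap_map
  rw [isNoetherianRing_iff, isNoetherian_iff'] at *
  let f : Ideal ↥(GLin.invariants k H A) → Ideal A :=
    fun J => J.map (algebraMap ↥(GLin.invariants k H A) A)
  have hf : StrictMono f := by
    intro J₁ J₂ hlt
    refine lt_of_le_of_ne (Ideal.map_mono hlt.le) ?_
    intro heq
    have := congrArg (Ideal.comap (algebraMap ↥(GLin.invariants k H A) A)) heq
    rw [key, key] at this
    exact hlt.ne this
  exact hf.wellFoundedGT

end Groth.Agent.S17526
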