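import Groth.Statements.S17530
import Groth.Agent.Lib.Helper29.Reynolds

set_option autoImplicit false
universe u
open GLin

namespace Groth.Agent.S17530

open TensorProduct Groth.Agent.Lib.Helper29 Groth.Agent.Lib.Helper96

/-- multiplication by an invariant vector is a comodule map `A → M` -/
theorem isHom_smul_fixed
    (k : Type u) [Field k] (H : Type u) [CommRing H] [HopfAlgebra k H]
    (A : Type u) [CommRing A] [Algebra k A]
    [cA : HopfRep.Comod k H A]
    (M : Type u) [AddCommGroup M] [Module k M] [Module A M] [IsScalarTower k A M]
    [cM : HopfRep.Comod k H M] [TameAct.IsHopfMod k H A M]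
    (x : M) (hx : x ∈ HopfRep.fixedPts k H M) :
    IsHom cA cM ((LinearMap.toSpanSingleton A M x).restrictScalars k) := by
  apply LinearMap.ext
  intro a
  simp only [LinearMap.comp_apply]
  have h1 : cM.coact (((LinearMap.toSpanSingleton A M x).restrictScalars k) a) =
      cM.coact (a • x) := rfl
  rw [h1, TameAct.IsHopfMod.coact_smul (k := k) (A := H) a x]
  have hx' : HopfRep.Comod.coact (k := k) (A := H) x = x ⊗ₜ[k] (1 : H) := hx
  rw [hx']
  generalize HopfRep.Comod.coact (k := k) (A := H) a = z
  induction z using TensorProduct.induction_on with
  | zero => simp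
  | add z w hz hw => simp only [map_add, LinearMap.add_apply, hz, hw]
  | tmul b h =>
    rw [TameAct.hmSMul_tmul, mul_one, LinearMap.rTensor_tmul]
    rfl

/-- Let `k` be a field, `H` a commutative Hopf algebra of finite type over `k` which is linearly
reductive (every finite-dimensional comodule semisimple; `G = Spec H`), `A` a commutative
`k`-algebra of finite type with a coaction of `H` that is an algebra map (an action of `G` on `Spec
A`), and `M` a finitely generated `A`-module with an `H`-coaction compatible with the module
structure and with the coaction on `A` (a `G`-equivariant coherent module on `Spec A`). Then the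
invariants `M^G` form a finitely generated module over the ring of invariants `A^G`. (The published
corollary is stated over an algebraically closed field; it is the affine case of a statement about
good moduli spaces valid over any Noetherian base, and is stated here over any field.) -/
theorem result
    (k : Type u) [Field k] (H : Type u) [CommRing H] [HopfAlgebra k H] [Algebra.FiniteType k H]
    (hG : HopfRep.IsLinearlyReductive k H)
    (A : Type u) [CommRing A] [Algebra k A] [Algebra.FiniteType k A]
    [HopfRep.Comod k H A] [GLin.IsCoactAlg k H A]
    (M : Type u) [AddCommGroup M] [Module k M] [Module A M] [IsScalarTower k A M] [Module.Finite A M]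
    [HopfRep.Comod k H M] [TameAct.IsHopfMod k H A M] :
    ∃ s : Finset M, (↑s : Set M) ⊆ ↑(HopfRep.fixedPts k H M) ∧
      (↑(HopfRep.fixedPts k H M) : Set M) ⊆
        ↑(Submodule.span ↥(GLin.invariants k H A) (↑s : Set M)) := by
  classical
  let cA : HopfRep.Comod k H A := inferInstance
  let cM : HopfRep.Comod k H M := inferInstance
  have hNoeth : IsNoetherianRing A := Algebra.FiniteType.isNoetherianRing k A
  have : IsNoetherian A M := isNoetherian_of_isNoetherianRing_of_finite A M
  have hfg : (Submodule.span A (HopfRep.fixedPts k H M : Set M)).FG := IsNoetherian.noetherian _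
  obtain ⟨s, hs, hspan⟩ := (Submodule.fg_span_iff_fg_span_finset_subset _).mp hfg
  refine ⟨s, hs, ?_⟩
  intro m hm
  have hm' : m ∈ Submodule.span A (s : Set M) := by
    rw [← hspan]; exact Submodule.subset_span hm
  obtain ⟨f, hfs, hf⟩ := Submodule.mem_span_finset.mp hm'
  have key : ∀ x ∈ s, ∀ a : A, E hG cM (a • x) = (E hG cA a) • x := by
    intro x hx a
    have := E_comp_hom hG (isHom_smul_fixed k H A M x (hs hx))
    exact LinearMap.congr_fun this a
  have hmE : m = ∑ x ∈ s, (E hG cA (f x)) • x := by
    calc m = E hG cM m := (E_of_mem_Fx hG cM hm).symm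
      _ = E hG cM (∑ x ∈ s, f x • x) := by rw [hf]
      _ = ∑ x ∈ s, E hG cM (f x • x) := map_sum _ _ _
      _ = ∑ x ∈ s, (E hG cA (f x)) • x := Finset.sum_congr rfl (fun x hx => key x hx _)
  rw [hmE]
  refine Submodule.sum_mem _ fun x hx => ?_
  have hmem : E hG cA (f x) ∈ GLin.invariants k H A := E_mem_Fx hG cA (f x)
  exact Submodule.smul_mem _ (⟨_, hmem⟩ : GLin.invariants k H A) (Submodule.subset_span hx)

end Groth.Agent.S17530
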