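import Groth.Statements.S17537
import Mathlib.Tactic
-- import your own Groth.Agent.* helpers here

set_option autoImplicit false
universe u v
open CAlg

namespace Groth.Agent.S17537

theorem lemmaA {A : Type u} [CommRing A] (I : Ideal A)
    (M : Type v) [AddCommGroup M] [Module A M] (n : ℕ) (y : M)
    (hy : y ∈ (I ^ n • ⊤ : Submodule A M)) :
    AdicCompletion.of I M y ∈ (I ^ n • ⊤ : Submodule A (AdicCompletion I M)) := by
  have h1 : (I ^ n • ⊤ : Submodule A M).map (AdicCompletion.of I M) ≤
      (I ^ n • ⊤ : Submodule A (AdicCompletion I M)) := by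
    rw [Submodule.map_smul'']
    exact Submodule.smul_mono le_rfl le_top
  exact h1 (Submodule.mem_map_of_mem hy)

theorem lemmaB {A : Type u} [CommRing A] (I : Ideal A)
    (M : Type v) [AddCommGroup M] [Module A M] (n : ℕ) (z : AdicCompletion I M)
    (hz : z ∈ (I ^ n • ⊤ : Submodule A (AdicCompletion I M))) : z.val n = 0 := by
  have := AdicCompletion.pow_smul_top_le_ker_eval (I := I) (M := M) n hz
  exact this

/-- For a commutative ring A, an ideal I and an A-module M, the I-adic completion M^ of M is itself
I-adically complete if and only if, for every n, every element of M^ is congruent modulo I^n M^ to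
the image of an element of M (the maps M/I^n M → M^/I^n M^ are surjective). -/
theorem result {A : Type u} [CommRing A] (I : Ideal A)
    (M : Type v) [AddCommGroup M] [Module A M] :
    IsAdicComplete I (AdicCompletion I M) ↔
      ∀ (n : ℕ) (x : AdicCompletion I M), ∃ y : M,
        x - AdicCompletion.of I M y ∈ (I ^ n • ⊤ : Submodule A (AdicCompletion I M)) := by
  constructor
  · intro hc n x
    obtain ⟨a, rfl⟩ := AdicCompletion.mk_surjective I M x
    have hcauchy : ∀ {m k : ℕ}, m ≤ k → AdicCompletion.of I M (a m) ≡ AdicCompletion.of I M (a k)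
        [SMOD (I ^ m • ⊤ : Submodule A (AdicCompletion I M))] := by
      intro m k hmk
      rw [SModEq.sub_mem, ← map_sub]
      apply lemmaA
      exact SModEq.sub_mem.mp (a.property hmk)
    obtain ⟨L, hL⟩ := hc.toIsPrecomplete.prec hcauchy
    have hLx : L = AdicCompletion.mk I M a := by
      apply AdicCompletion.ext
      intro k
      have h1 := lemmaB I M k _ (SModEq.sub_mem.mp (hL k))
      rw [AdicCompletion.val_sub_apply, sub_eq_zero] at h1
      rw [← h1]
      rfl
    refine ⟨a n, ?_⟩
    rw [← hLx]
    have h2 := SModEq.sub_mem.mp (hL n)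
    have h3 : L - AdicCompletion.of I M (a n) = -(AdicCompletion.of I M (a n) - L) := by abel
    rw [h3]
    exact Submodule.neg_mem _ h2
  · intro H
    have hK : ∀ (n : ℕ) (z : AdicCompletion I M), z.val n = 0 →
        z ∈ (I ^ n • ⊤ : Submodule A (AdicCompletion I M)) := by
      intro n z hz
      obtain ⟨y, hy⟩ := H n z
      have h1 : (AdicCompletion.of I M y).val n = 0 := by
        have h0 := lemmaB I M n _ hy
        rw [AdicCompletion.val_sub_apply, hz, zero_sub, neg_eq_zero] at h0
        exact h0
      rw [AdicCompletion.of_apply, Submodule.mkQ_apply, Submodule.Quotient.mk_eq_zero] at h1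
      have h2 := lemmaA I M n y h1
      have h3 : z = (z - AdicCompletion.of I M y) + AdicCompletion.of I M y := by abel
      rw [h3]
      exact Submodule.add_mem _ hy h2
    refine { toIsHausdorff := inferInstance, toIsPrecomplete := ⟨fun f hf => ?_⟩ }
    have hcompat : ∀ {m n : ℕ} (hmn : m ≤ n),
        AdicCompletion.transitionMap I M hmn ((f n).val n) = (f m).val m := by
      intro m n hmn
      rw [(f n).property hmn]
      have h1 := lemmaB I M m _ (SModEq.sub_mem.mp (hf hmn))
      rw [AdicCompletion.val_sub_apply, sub_eq_zero] at h1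
      exact h1.symm
    let L : AdicCompletion I M := ⟨fun n => (f n).val n, fun hmn => hcompat hmn⟩
    refine ⟨L, fun n => ?_⟩
    rw [SModEq.sub_mem]
    apply hK
    rw [AdicCompletion.val_sub_apply]
    exact sub_self _

end Groth.Agent.S17537
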