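import Groth.Statements.S17539
import Mathlib.Tactic
import Mathlib.RingTheory.Ideal.Operations
-- import your own Groth.Agent.* helpers here

set_option autoImplicit false
universe u v w
open W4c5adicflatcompl
open CAlg

namespace Groth.Agent.S17539


section helpers

variable {A : Type u} [CommRing A] (I : Ideal A) (Z : Type v) (M : Type w) [AddCommGroup M]
  [Module A M]

/-- membership of a finitely supported function in `K • ⊤` is coordinatewise -/
theorem finsupp_mem_smul_top (K : Ideal A) (f : Z →₀ M) :
    f ∈ (K • ⊤ : Submodule A (Z →₀ M)) ↔ ∀ z, f z ∈ (K • ⊤ : Submodule A M) := by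
  constructor
  · intro hf z
    refine Submodule.smul_induction_on hf ?_ ?_
    · intro r hr g _
      rw [Finsupp.smul_apply]
      exact Submodule.smul_mem_smul hr Submodule.mem_top
    · intro x y hx hy
      rw [Finsupp.add_apply]
      exact Submodule.add_mem _ hx hy
  · intro hf
    classical
    rw [← Finsupp.sum_single f]
    refine Submodule.sum_mem _ fun z _ => ?_
    have : Submodule.map (Finsupp.lsingle (R := A) (M := M) z) (K • ⊤ : Submodule A M) ≤
        (K • ⊤ : Submodule A (Z →₀ M)) := by
      rw [Submodule.map_smul'']
      exact Submodule.smul_mono le_rfl le_top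
    exact this (Submodule.mem_map_of_mem (hf z))

/-- If the completion is adically complete, the kernel of the `n`-th evaluation is `I ^ n • ⊤`. -/
theorem mem_smul_top_of_val_eq_zero [IsAdicComplete I (AdicCompletion I M)] (n : ℕ)
    (x : AdicCompletion I M) (hx : x.val n = 0) :
    x ∈ (I ^ n • ⊤ : Submodule A (AdicCompletion I M)) := by
  obtain ⟨a, rfl⟩ := AdicCompletion.mk_surjective I M x
  -- the sequence of(a j) is Cauchy for the I-adic filtration of the completion
  have hof : ∀ (j : ℕ) (m : M), m ∈ (I ^ j • ⊤ : Submodule A M) →
      AdicCompletion.of I M m ∈ (I ^ j • ⊤ : Submodule A (AdicCompletion I M)) := by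
    intro j m hm
    have : Submodule.map (AdicCompletion.of I M) (I ^ j • ⊤ : Submodule A M) ≤
        (I ^ j • ⊤ : Submodule A (AdicCompletion I M)) := by
      rw [Submodule.map_smul'']
      exact Submodule.smul_mono le_rfl le_top
    exact this (Submodule.mem_map_of_mem hm)
  obtain ⟨L, hL⟩ := IsPrecomplete.prec' (I := I) (M := AdicCompletion I M)
    (fun j => AdicCompletion.of I M (a j)) (by
      intro m k hmk
      rw [SModEq.sub_mem, ← map_sub]
      apply hof
      have := a.property hmk
      rwa [SModEq.sub_mem] at this)
  have hLx : L = AdicCompletion.mk I M a := by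
    apply AdicCompletion.ext
    intro j
    have h1 := hL j
    rw [SModEq.sub_mem] at h1
    have h2 := AdicCompletion.pow_smul_top_le_ker_eval (I := I) (M := M) j h1
    rw [LinearMap.mem_ker, map_sub, AdicCompletion.eval_apply, AdicCompletion.eval_apply,
      sub_eq_zero] at h2
    rw [← h2]
    rfl
  rw [← hLx]
  have h1 := hL n
  rw [SModEq.sub_mem] at h1
  have h3 : a n ∈ (I ^ n • ⊤ : Submodule A M) := by
    have : (AdicCompletion.mk I M a).val n = Submodule.Quotient.mk (a n) := rfl
    rw [this, Submodule.Quotient.mk_eq_zero] at hx
    exact hx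
  have h4 := hof n _ h3
  have : L = AdicCompletion.of I M (a n) - (AdicCompletion.of I M (a n) - L) := by abel
  rw [this]
  exact Submodule.sub_mem _ h4 h1

end helpers

/-- For a commutative ring A, an ideal I, a set Z and an A-module M whose I-adic completion M^ is itself
I-adically complete, the canonical map from the I-adic completion of Z →₀ M to the functions Z → M^,
whose z-th coordinate is the completion of evaluation at z, is injective with image the I-adically
decaying functions Z → M^. (The source states bijectivity of the inverse map, from decaying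
functions to the limit of the finitely supported functions Z → M/I^n M, induced by the projections
M^ → M/I^n M; the two formulations are equivalent.) -/
theorem result {A : Type u} [CommRing A] (I : Ideal A) (Z : Type v)
    (M : Type w) [AddCommGroup M] [Module A M] [IsAdicComplete I (AdicCompletion I M)] :
    Function.Injective
        (LinearMap.pi fun z : Z =>
          (AdicCompletion.map I (Finsupp.lapply (M := M) (R := A) z)).restrictScalars A) ∧
      LinearMap.range
        (LinearMap.pi fun z : Z =>
          (AdicCompletion.map I (Finsupp.lapply (M := M) (R := A) z)).restrictScalars A) =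
        decaying I Z (AdicCompletion I M) := by
  classical
  set Φ := LinearMap.pi fun z : Z =>
    (AdicCompletion.map I (Finsupp.lapply (M := M) (R := A) z)).restrictScalars A with hΦ
  have hΦval : ∀ (a : AdicCompletion.AdicCauchySequence I (Z →₀ M)) (z : Z) (n : ℕ),
      (Φ (AdicCompletion.mk I (Z →₀ M) a) z).val n = Submodule.Quotient.mk (a n z) := by
    intro a z n
    rfl
  have hmono : ∀ {m n : ℕ}, m ≤ n →
      (I ^ n • ⊤ : Submodule A (AdicCompletion I M)) ≤ I ^ m • ⊤ := fun h =>
    Submodule.smul_mono (Ideal.pow_le_pow_right h) le_rfl
  have hval0 : ∀ (n : ℕ) (x : AdicCompletion I M),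
      x ∈ (I ^ n • ⊤ : Submodule A (AdicCompletion I M)) → x.val n = 0 := by
    intro n x hx
    have := AdicCompletion.pow_smul_top_le_ker_eval (I := I) (M := M) n hx
    rwa [LinearMap.mem_ker, AdicCompletion.eval_apply] at this
  refine ⟨?_, le_antisymm ?_ ?_⟩
  · -- injective
    rw [← LinearMap.ker_eq_bot, LinearMap.ker_eq_bot']
    intro x hx
    obtain ⟨a, rfl⟩ := AdicCompletion.mk_surjective I (Z →₀ M) x
    apply AdicCompletion.ext
    intro n
    rw [AdicCompletion.val_zero_apply]
    change Submodule.Quotient.mk (a n) = 0
    rw [Submodule.Quotient.mk_eq_zero, finsupp_mem_smul_top]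
    intro z
    have := hΦval a z n
    rw [hx, Pi.zero_apply, AdicCompletion.val_zero_apply] at this
    exact (Submodule.Quotient.mk_eq_zero _).mp this.symm
  · -- range ≤ decaying
    rintro _ ⟨x, rfl⟩
    obtain ⟨a, rfl⟩ := AdicCompletion.mk_surjective I (Z →₀ M) x
    intro n
    refine (a n).support.finite_toSet.subset ?_
    intro z hz
    by_contra hcon
    apply hz
    apply mem_smul_top_of_val_eq_zero
    rw [hΦval]
    have : a n z = 0 := by simpa using hcon
    rw [this]
    rfl
  · -- decaying ≤ range
    intro f hf
    choose b hb using fun z => AdicCompletion.mk_surjective I M (f z)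
    let g : ℕ → Z → M := fun n z =>
      if f z ∈ (I ^ n • ⊤ : Submodule A (AdicCompletion I M)) then 0 else b z n
    have hgfin : ∀ n, (Function.support (g n)).Finite := by
      intro n
      refine (hf n).subset ?_
      intro z hz
      simp only [Function.mem_support, g] at hz
      by_contra hcon
      simp only [Set.mem_ofPred_eq, not_not] at hcon
      exact hz (if_pos hcon)
    let a : ℕ → Z →₀ M := fun n => Finsupp.ofSupportFinite (g n) (hgfin n)
    have ha : ∀ n z, a n z = g n z := fun n z => rfl
    have hbz : ∀ z n, f z ∈ (I ^ n • ⊤ : Submodule A (AdicCompletion I M)) →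
        b z n ∈ (I ^ n • ⊤ : Submodule A M) := by
      intro z n h
      have := hval0 n _ h
      rw [← hb z] at this
      exact (Submodule.Quotient.mk_eq_zero _).mp this
    have hcauchy : AdicCompletion.IsAdicCauchy I (Z →₀ M) a := by
      intro m n hmn
      rw [SModEq.sub_mem, finsupp_mem_smul_top]
      intro z
      rw [Finsupp.sub_apply, ha, ha]
      simp only [g]
      by_cases h1 : f z ∈ (I ^ n • ⊤ : Submodule A (AdicCompletion I M))
      · rw [if_pos h1, if_pos (hmono hmn h1), sub_zero]
        exact Submodule.zero_mem _
      · rw [if_neg h1]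
        have h4 := (b z).property hmn
        rw [SModEq.sub_mem] at h4
        by_cases h2 : f z ∈ (I ^ m • ⊤ : Submodule A (AdicCompletion I M))
        · rw [if_pos h2, zero_sub, Submodule.neg_mem_iff]
          have h3 := hbz z m h2
          have : (b z) n = (b z) m - ((b z) m - (b z) n) := by abel
          rw [this]
          exact Submodule.sub_mem _ h3 h4
        · rw [if_neg h2]
          exact h4
    refine ⟨AdicCompletion.mk I (Z →₀ M) ⟨a, hcauchy⟩, ?_⟩
    funext z
    apply AdicCompletion.ext
    intro n
    rw [hΦval]
    change Submodule.Quotient.mk (g n z) = (f z).val n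
    rw [← hb z]
    change _ = Submodule.Quotient.mk ((b z) n)
    simp only [g]
    by_cases h1 : f z ∈ (I ^ n • ⊤ : Submodule A (AdicCompletion I M))
    · rw [if_pos h1, Submodule.Quotient.mk_zero]
      symm
      exact (Submodule.Quotient.mk_eq_zero _).mpr (hbz z n h1)
    · rw [if_neg h1]

end Groth.Agent.S17539
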