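import Groth.Statements.S17540
import Mathlib.Tactic
import Mathlib.RingTheory.Ideal.Operations
-- import your own Groth.Agent.* helpers here

set_option autoImplicit false
universe u v w
open W4c5adicflatcompl
open CAlg

namespace Groth.Agent.S17540

/-- Let A be I-adically complete, M an I-adically complete A-module and m : Z → M a family. The images
of the m z generate M/IM (the span of the family together with IM is all of M) if and only if the
family I-adically generates M: every x in M is the I-adically convergent sum of g z • m z for some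
I-adically decaying function g : Z → A. -/
theorem result {A : Type u} [CommRing A] (I : Ideal A) [IsAdicComplete I A]
    (M : Type v) [AddCommGroup M] [Module A M] [IsAdicComplete I M] (Z : Type w) (m : Z → M) :
    Submodule.span A (Set.range m) ⊔ I • ⊤ = ⊤ ↔
      ∀ x : M, ∃ g : Z → A, g ∈ decaying I Z A ∧
        ∀ n : ℕ, ∃ S : Finset Z,
          (∀ z, z ∉ S → g z • m z ∈ (I ^ n • ⊤ : Submodule A M)) ∧
          x - (∑ z ∈ S, g z • m z) ∈ (I ^ n • ⊤ : Submodule A M) := by
  classical
  constructor
  · intro h x
    -- one approximation step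
    have hstep : ∀ (k : ℕ) (y : M), ∃ a : Z →₀ A, y ∈ (I ^ k • ⊤ : Submodule A M) →
        (∀ z, a z ∈ I ^ k) ∧
          y - (a.sum fun z c => c • m z) ∈ (I ^ (k + 1) • ⊤ : Submodule A M) := by
      intro k y
      by_cases hy : y ∈ (I ^ k • ⊤ : Submodule A M)
      · have hdec : (I ^ k • ⊤ : Submodule A M) =
            I ^ k • Submodule.span A (Set.range m) ⊔ I ^ (k + 1) • ⊤ := by
          conv_lhs => rw [← h]
          rw [Submodule.smul_sup, ← Submodule.mul_smul, ← pow_succ]
        rw [hdec] at hy
        obtain ⟨u, hu, v, hv, rfl⟩ := Submodule.mem_sup.mp hy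
        obtain ⟨a, ha, rfl⟩ := (Submodule.mem_ideal_smul_span_iff_exists_sum _ _ _).mp hu
        exact ⟨a, fun _ => ⟨ha, by simpa using hv⟩⟩
      · exact ⟨0, fun h' => absurd h' hy⟩
    choose a ha using hstep
    let xs : ℕ → M := fun k => Nat.rec x (fun k y => y - ((a k y).sum fun z c => c • m z)) k
    have hxs0 : xs 0 = x := rfl
    have hxsS : ∀ k, xs (k + 1) = xs k - ((a k (xs k)).sum fun z c => c • m z) := fun k => rfl
    have hxs : ∀ k, xs k ∈ (I ^ k • ⊤ : Submodule A M) := by
      intro k
      induction k with
      | zero => simp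
      | succ k ih => rw [hxsS]; exact (ha k (xs k) ih).2
    set c : ℕ → Z →₀ A := fun k => a k (xs k) with hcdef
    have hc : ∀ k z, c k z ∈ I ^ k := fun k z => (ha k (xs k) (hxs k)).1 z
    have hsum : ∀ n, x = (∑ k ∈ Finset.range n, (c k).sum fun z c => c • m z) + xs n := by
      intro n
      induction n with
      | zero => simp [hxs0]
      | succ n ih =>
        rw [Finset.sum_range_succ, hxsS]
        calc x = (∑ k ∈ Finset.range n, (c k).sum fun z c => c • m z) + xs n := ih
          _ = _ := by rw [hcdef]; abel
    -- partial sums of coefficients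
    have hpart : ∀ z (p q : ℕ), p ≤ q →
        (∑ k ∈ Finset.range q, c k z) - (∑ k ∈ Finset.range p, c k z) ∈ I ^ p := by
      intro z p q hpq
      rw [← Finset.sum_range_add_sum_Ico _ hpq, add_sub_cancel_left]
      refine Ideal.sum_mem _ fun k hk => ?_
      exact Ideal.pow_le_pow_right (Finset.mem_Ico.mp hk).1 (hc k z)
    have hg : ∀ z, ∃ L : A, ∀ n,
        (∑ k ∈ Finset.range n, c k z) ≡ L [SMOD (I ^ n • ⊤ : Submodule A A)] := by
      intro z
      refine IsPrecomplete.prec' (I := I) (M := A) (fun n => ∑ k ∈ Finset.range n, c k z) ?_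
      intro p q hpq
      rw [SModEq.sub_mem, smul_eq_mul, Ideal.mul_top]
      have := hpart z p q hpq
      rw [← neg_sub] at this
      exact (Ideal.neg_mem_iff _).mp this
    choose g hg using hg
    have hgmem : ∀ n z, (∑ k ∈ Finset.range n, c k z) - g z ∈ I ^ n := by
      intro n z
      have := hg z n
      rwa [SModEq.sub_mem, smul_eq_mul, Ideal.mul_top] at this
    have hgS : ∀ n z, z ∉ (Finset.range n).biUnion (fun k => (c k).support) → g z ∈ I ^ n := by
      intro n z hz
      have h0 : (∑ k ∈ Finset.range n, c k z) = 0 := by
        refine Finset.sum_eq_zero fun k hk => ?_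
        by_contra hne
        exact hz (Finset.mem_biUnion.mpr ⟨k, hk, Finsupp.mem_support_iff.mpr hne⟩)
      have := hgmem n z
      rw [h0, zero_sub] at this
      exact (Ideal.neg_mem_iff _).mp this
    refine ⟨g, ?_, ?_⟩
    · intro n
      refine ((Finset.range n).biUnion fun k => (c k).support).finite_toSet.subset ?_
      intro z hz
      by_contra hcon
      apply hz
      have := hgS n z (by simpa using hcon)
      rw [smul_eq_mul, Ideal.mul_top]
      exact this
    · intro n
      refine ⟨(Finset.range n).biUnion fun k => (c k).support, ?_, ?_⟩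
      · intro z hz
        exact Submodule.smul_mem_smul (hgS n z hz) Submodule.mem_top
      · have hx := hsum n
        have hrew : (∑ k ∈ Finset.range n, (c k).sum fun z c => c • m z) =
            ∑ z ∈ (Finset.range n).biUnion (fun k => (c k).support),
              (∑ k ∈ Finset.range n, c k z) • m z := by
          simp_rw [Finset.sum_smul]
          rw [Finset.sum_comm]
          refine Finset.sum_congr rfl fun k hk => ?_
          refine Finsupp.sum_of_support_subset _ ?_ _ (fun z _ => zero_smul _ _)
          exact Finset.subset_biUnion_of_mem (fun k => (c k).support) hk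
        rw [hrew] at hx
        have : x - ∑ z ∈ (Finset.range n).biUnion (fun k => (c k).support), g z • m z =
            (∑ z ∈ (Finset.range n).biUnion (fun k => (c k).support),
              ((∑ k ∈ Finset.range n, c k z) - g z) • m z) + xs n := by
          simp_rw [sub_smul]
          rw [Finset.sum_sub_distrib]
          nth_rewrite 1 [hx]
          abel
        rw [this]
        refine Submodule.add_mem _ (Submodule.sum_mem _ fun z _ => ?_) (hxs n)
        exact Submodule.smul_mem_smul (hgmem n z) Submodule.mem_top
  · intro h
    rw [eq_top_iff]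
    intro x _
    obtain ⟨g, -, hg⟩ := h x
    obtain ⟨S, -, hS⟩ := hg 1
    rw [pow_one] at hS
    have hx : x = (∑ z ∈ S, g z • m z) + (x - ∑ z ∈ S, g z • m z) := by abel
    rw [hx]
    refine Submodule.add_mem_sup (Submodule.sum_mem _ fun z _ => ?_) hS
    exact Submodule.smul_mem _ _ (Submodule.subset_span (Set.mem_range_self z))

end Groth.Agent.S17540
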