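import Groth.Statements.S17542
import Mathlib.Tactic
import Mathlib.RingTheory.Filtration
-- import your own Groth.Agent.* helpers here

set_option autoImplicit false
universe u v w
open W4c5adicflatcompl
open CAlg

namespace Groth.Agent.S17542

/-- Over a Noetherian ring A which is I-adically complete, for a surjection φ : M → M'' of A-modules
with M finitely generated and a set Z, every I-adically decaying function Z → M'' is the composite
of φ with an I-adically decaying function Z → M. (This is the right exactness of the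
decaying-functions functor on finitely generated modules; left exactness is the statement about
submodules.) -/
theorem result {A : Type u} [CommRing A] [IsNoetherianRing A] (I : Ideal A)
    [IsAdicComplete I A] (Z : Type v) {M : Type w} {M'' : Type w} [AddCommGroup M] [Module A M]
    [Module.Finite A M] [AddCommGroup M''] [Module A M''] (φ : M →ₗ[A] M'')
    (hφ : Function.Surjective φ) (g : Z → M'') (hg : g ∈ decaying I Z M'') :
    ∃ f : Z → M, f ∈ decaying I Z M ∧ ∀ z, φ (f z) = g z := by
  classical
  haveI : Module.Finite A M'' := Module.Finite.of_surjective φ hφ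
  have hkrull : (⨅ i : ℕ, I ^ i • ⊤ : Submodule A M'') = ⊥ :=
    Ideal.iInf_pow_smul_eq_bot_of_le_jacobson I (IsAdicComplete.le_jacobson_bot I)
  have hmapφ : ∀ n : ℕ, Submodule.map φ (I ^ n • ⊤ : Submodule A M) = I ^ n • ⊤ := by
    intro n
    rw [Submodule.map_smul'', Submodule.map_top, LinearMap.range_eq_top.2 hφ]
  have hanti : ∀ {a b : ℕ}, a ≤ b → (I ^ b • ⊤ : Submodule A M'') ≤ I ^ a • ⊤ := fun h =>
    Submodule.smul_mono (Ideal.pow_le_pow_right h) le_rfl
  have hantiM : ∀ {a b : ℕ}, a ≤ b → (I ^ b • ⊤ : Submodule A M) ≤ I ^ a • ⊤ := fun h =>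
    Submodule.smul_mono (Ideal.pow_le_pow_right h) le_rfl
  have hz : ∀ z : Z, ∃ m : M, φ m = g z ∧
      ∀ n : ℕ, g z ∈ (I ^ n • ⊤ : Submodule A M'') → m ∈ (I ^ n • ⊤ : Submodule A M) := by
    intro z
    by_cases h0 : g z = 0
    · exact ⟨0, by rw [map_zero, h0], fun n _ => Submodule.zero_mem _⟩
    · have : ∃ n₀ : ℕ, g z ∉ (I ^ n₀ • ⊤ : Submodule A M'') := by
        by_contra hcon
        push Not at hcon
        apply h0
        have : g z ∈ (⨅ i : ℕ, I ^ i • ⊤ : Submodule A M'') := (Submodule.mem_iInf _).2 hcon
        rw [hkrull] at this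
        exact (Submodule.mem_bot A).1 this
      obtain ⟨n₀, hn₀⟩ := this
      set N := Nat.findGreatest (fun n => g z ∈ (I ^ n • ⊤ : Submodule A M'')) n₀ with hN
      have hN0 : g z ∈ (I ^ N • ⊤ : Submodule A M'') := by
        have := Nat.findGreatest_spec (P := fun n => g z ∈ (I ^ n • ⊤ : Submodule A M''))
          (Nat.zero_le n₀) (by simp)
        exact this
      rw [← hmapφ N] at hN0
      obtain ⟨m, hm, hmg⟩ := hN0
      refine ⟨m, hmg, fun n hn => ?_⟩
      have hlt : n < n₀ := by
        by_contra hge
        rw [not_lt] at hge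
        exact hn₀ (hanti hge hn)
      have hle : n ≤ N := Nat.le_findGreatest hlt.le hn
      exact hantiM hle hm
  choose f hf1 hf2 using hz
  refine ⟨f, fun n => ?_, hf1⟩
  refine (hg n).subset ?_
  intro z hzn
  by_contra hcon
  simp only [Set.mem_ofPred_eq, not_not] at hcon
  exact hzn (hf2 z n hcon)

end Groth.Agent.S17542
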