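import Groth.Statements.S17543
import Groth.Agent.S17541
import Mathlib.Tactic
import Mathlib.RingTheory.Filtration
import Mathlib.RingTheory.Finiteness.Cardinality
-- import your own Groth.Agent.* helpers here

set_option autoImplicit false
universe u v w
open W4c5adicflatcompl
open CAlg

namespace Groth.Agent.S17543


universe w'

/-- Universe-polymorphic version of the lifting of decaying functions along a surjection. -/
theorem lift_decaying {A : Type u} [CommRing A] [IsNoetherianRing A] (I : Ideal A)
    [IsAdicComplete I A] (Z : Type v) {M : Type w} {M'' : Type w'} [AddCommGroup M] [Module A M]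
    [Module.Finite A M] [AddCommGroup M''] [Module A M''] (φ : M →ₗ[A] M'')
    (hφ : Function.Surjective φ) (g : Z → M'') (hg : g ∈ decaying I Z M'') :
    ∃ f : Z → M, f ∈ decaying I Z M ∧ ∀ z, φ (f z) = g z := by
  classical
  haveI : Module.Finite A M'' := Module.Finite.of_surjective φ hφ
  have hkrull : (⨅ i : ℕ, I ^ i • ⊤ : Submodule A M'') = ⊥ :=
    Ideal.iInf_pow_smul_eq_bot_of_le_jacobson I (IsAdicComplete.le_jacobson_bot I)
  have hmapφ : ∀ n : ℕ, Submodule.map φ (I ^ n • ⊤ : Submodule A M) = I ^ n • ⊤ := by
    intro n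
    rw [Submodule.map_smul'', Submodule.map_top, LinearMap.range_eq_top.2 hφ]
  have hanti : ∀ {a b : ℕ}, a ≤ b → (I ^ b • ⊤ : Submodule A M'') ≤ I ^ a • ⊤ := fun h =>
    Submodule.smul_mono (Ideal.pow_le_pow_right h) le_rfl
  have hantiM : ∀ {a b : ℕ}, a ≤ b → (I ^ b • ⊤ : Submodule A M) ≤ I ^ a • ⊤ := fun h =>
    Submodule.smul_mono (Ideal.pow_le_pow_right h) le_rfl
  have hz : ∀ z : Z, ∃ m : M, φ m = g z ∧
      ∀ n : ℕ, g z ∈ (I ^ n • ⊤ : Submodule A M'') → m ∈ (I ^ n • ⊤ : Submodule A M) := by
    intro z
    by_cases h0 : g z = 0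
    · exact ⟨0, by rw [map_zero, h0], fun n _ => Submodule.zero_mem _⟩
    · have : ∃ n₀ : ℕ, g z ∉ (I ^ n₀ • ⊤ : Submodule A M'') := by
        by_contra hcon
        push Not at hcon
        apply h0
        have : g z ∈ (⨅ i : ℕ, I ^ i • ⊤ : Submodule A M'') := (Submodule.mem_iInf _).2 hcon
        rw [hkrull] at this
        exact (Submodule.mem_bot A).1 this
      obtain ⟨n₀, hn₀⟩ := this
      set N := Nat.findGreatest (fun n => g z ∈ (I ^ n • ⊤ : Submodule A M'')) n₀ with hN
      have hN0 : g z ∈ (I ^ N • ⊤ : Submodule A M'') := by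
        have := Nat.findGreatest_spec (P := fun n => g z ∈ (I ^ n • ⊤ : Submodule A M''))
          (Nat.zero_le n₀) (by simp)
        exact this
      rw [← hmapφ N] at hN0
      obtain ⟨m, hm, hmg⟩ := hN0
      refine ⟨m, hmg, fun n hn => ?_⟩
      have hlt : n < n₀ := by
        by_contra hge
        rw [not_lt] at hge
        exact hn₀ (hanti hge hn)
      have hle : n ≤ N := Nat.le_findGreatest hlt.le hn
      exact hantiM hle hm
  choose f hf1 hf2 using hz
  refine ⟨f, fun n => ?_, hf1⟩
  refine (hg n).subset ?_
  intro z hzn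
  by_contra hcon
  simp only [Set.mem_ofPred_eq, not_not] at hcon
  exact hzn (hf2 z n hcon)

theorem coord_mem {A : Type u} [CommRing A] (I : Ideal A) (n r : ℕ) (v : Fin r → A) :
    v ∈ (I ^ n • ⊤ : Submodule A (Fin r → A)) ↔ ∀ j, v j ∈ I ^ n := by
  constructor
  · intro hv j
    refine Submodule.smul_induction_on hv ?_ ?_
    · intro a ha m _
      exact Ideal.mul_mem_right _ _ ha
    · intro x y hx hy
      exact Ideal.add_mem _ hx hy
  · intro hv
    have : v = ∑ j, v j • (Pi.single j (1 : A) : Fin r → A) := by
      ext i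
      simp [Finset.sum_apply, Pi.single_apply]
    rw [this]
    exact Submodule.sum_mem _ fun j _ => Submodule.smul_mem_smul (hv j) Submodule.mem_top

theorem mem_pow_smul_top_self {A : Type u} [CommRing A] (I : Ideal A) (n : ℕ) (a : A) :
    a ∈ (I ^ n • ⊤ : Submodule A A) ↔ a ∈ I ^ n := by
  rw [smul_eq_mul, Ideal.mul_top]

theorem coord_decaying {A : Type u} [CommRing A] (I : Ideal A) (Z : Type v) (r : ℕ)
    (F : Z → (Fin r → A)) :
    F ∈ decaying I Z (Fin r → A) ↔ ∀ j, (fun z => F z j) ∈ decaying I Z A := by
  constructor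
  · intro hF j n
    refine (hF n).subset ?_
    intro z hz hcon
    exact hz ((mem_pow_smul_top_self I n _).mpr ((coord_mem I n r (F z)).mp hcon j))
  · intro hF n
    refine (Set.finite_iUnion fun j => hF j n).subset ?_
    intro z hz
    by_contra hcon
    apply hz
    rw [coord_mem]
    intro j
    by_contra hj
    apply hcon
    exact Set.mem_iUnion.mpr ⟨j, fun h => hj ((mem_pow_smul_top_self I n _).mp h)⟩

/-- Over a Noetherian ring A which is I-adically complete, for a finitely generated A-module M and a set
Z, the canonical map from M ⊗ (decaying functions Z → A) to functions Z → M is injective and its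
image is the module of decaying functions Z → M. -/
theorem result {A : Type u} [CommRing A] [IsNoetherianRing A] (I : Ideal A)
    [IsAdicComplete I A] (Z : Type v) (M : Type w) [AddCommGroup M] [Module A M]
    [Module.Finite A M] :
    Function.Injective
        ((TensorProduct.piScalarRightHom A A M Z) ∘ₗ ((decaying I Z A).subtype.lTensor M)) ∧
      LinearMap.range
        ((TensorProduct.piScalarRightHom A A M Z) ∘ₗ ((decaying I Z A).subtype.lTensor M)) =
        decaying I Z M := by
  classical
  set T := (TensorProduct.piScalarRightHom A A M Z) ∘ₗ ((decaying I Z A).subtype.lTensor M) with hT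
  have hTt : ∀ (m : M) (g : decaying I Z A), T (m ⊗ₜ[A] g) = fun z => (g : Z → A) z • m := by
    intro m g
    simp [hT]
  -- presentation of M
  obtain ⟨r, φ, hφ⟩ := Module.Finite.exists_fin' A M
  set s : Fin r → M := fun j => φ (Pi.single j 1) with hs
  have hφs : ∀ v : Fin r → A, φ v = ∑ j, v j • s j := by
    intro v
    have : v = ∑ j, v j • (Pi.single j (1 : A) : Fin r → A) := by
      ext i
      simp [Finset.sum_apply, Pi.single_apply]
    conv_lhs => rw [this]
    simp [hs]
  -- every tensor is a combination of the generators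
  have hrepr : ∀ t : TensorProduct A M (decaying I Z A),
      ∃ g : Fin r → decaying I Z A, t = ∑ j, s j ⊗ₜ[A] g j := by
    intro t
    induction t using TensorProduct.induction_on with
    | zero => exact ⟨0, by simp⟩
    | tmul m g =>
      obtain ⟨v, rfl⟩ := hφ m
      refine ⟨fun j => v j • g, ?_⟩
      rw [hφs, TensorProduct.sum_tmul]
      refine Finset.sum_congr rfl fun j _ => ?_
      rw [TensorProduct.smul_tmul]
    | add x y hx hy =>
      obtain ⟨g, rfl⟩ := hx
      obtain ⟨g', rfl⟩ := hy
      refine ⟨g + g', ?_⟩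
      simp [TensorProduct.tmul_add, Finset.sum_add_distrib]
  have hTsum : ∀ (g : Fin r → decaying I Z A) (z : Z),
      T (∑ j, s j ⊗ₜ[A] g j) z = φ (fun j => (g j : Z → A) z) := by
    intro g z
    rw [map_sum, Finset.sum_apply, hφs]
    refine Finset.sum_congr rfl fun j _ => ?_
    rw [hTt]
  constructor
  · -- injectivity
    rw [← LinearMap.ker_eq_bot, LinearMap.ker_eq_bot']
    intro t ht
    obtain ⟨g, rfl⟩ := hrepr t
    have hker : ∀ z, (fun j => (g j : Z → A) z) ∈ LinearMap.ker φ := by
      intro z
      rw [LinearMap.mem_ker, ← hTsum, ht]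
      rfl
    set K := LinearMap.ker φ with hK
    let G : Z → K := fun z => ⟨fun j => (g j : Z → A) z, hker z⟩
    have hGdec : G ∈ decaying I Z K := by
      rw [Groth.Agent.S17541.result I Z (Fin r → A) K G]
      rw [coord_decaying]
      intro j
      exact (g j).2
    haveI : Module.Finite A K := Module.Finite.of_injective K.subtype K.injective_subtype
    obtain ⟨r', ψ, hψ⟩ := Module.Finite.exists_fin' A K
    obtain ⟨H, hHdec, hHG⟩ := lift_decaying I Z ψ hψ G hGdec
    rw [coord_decaying] at hHdec
    set k : Fin r' → (Fin r → A) := fun l => (ψ (Pi.single l 1) : Fin r → A) with hk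
    have hψk : ∀ v : Fin r' → A, ((ψ v : K) : Fin r → A) = ∑ l, v l • k l := by
      intro v
      have : v = ∑ l, v l • (Pi.single l (1 : A) : Fin r' → A) := by
        ext i
        simp [Finset.sum_apply, Pi.single_apply]
      conv_lhs => rw [this]
      simp [hk]
    have hφk : ∀ l, φ (k l) = 0 := fun l => (ψ (Pi.single l 1)).2
    let Hl : Fin r' → decaying I Z A := fun l => ⟨fun z => H z l, hHdec l⟩
    have hg : ∀ j, g j = ∑ l, k l j • Hl l := by
      intro j
      apply Subtype.ext
      funext z
      have h1 : (g j : Z → A) z = ((G z : K) : Fin r → A) j := rfl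
      rw [h1, ← hHG z, hψk]
      simp only [Finset.sum_apply, Pi.smul_apply, smul_eq_mul, Submodule.coe_sum,
        Submodule.coe_smul]
      refine Finset.sum_congr rfl fun l _ => ?_
      exact mul_comm _ _
    have : (∑ j, s j ⊗ₜ[A] g j) = ∑ l, φ (k l) ⊗ₜ[A] Hl l := by
      simp_rw [hg, TensorProduct.tmul_sum, hφs, TensorProduct.sum_tmul]
      rw [Finset.sum_comm]
      refine Finset.sum_congr rfl fun l _ => Finset.sum_congr rfl fun j _ => ?_
      rw [TensorProduct.smul_tmul]
    rw [this]
    simp [hφk]
  · -- range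
    apply le_antisymm
    · rintro _ ⟨t, rfl⟩
      induction t using TensorProduct.induction_on with
      | zero => rw [map_zero]; exact Submodule.zero_mem _
      | tmul m g =>
        rw [hTt]
        intro n
        refine (g.2 n).subset ?_
        intro z hz hcon
        apply hz
        exact Submodule.smul_mem_smul ((mem_pow_smul_top_self I n _).mp hcon) Submodule.mem_top
      | add x y hx hy => rw [map_add]; exact Submodule.add_mem _ hx hy
    · intro f hf
      obtain ⟨F, hFdec, hFf⟩ := lift_decaying I Z φ hφ f hf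
      rw [coord_decaying] at hFdec
      let Fl : Fin r → decaying I Z A := fun j => ⟨fun z => F z j, hFdec j⟩
      refine ⟨∑ j, s j ⊗ₜ[A] Fl j, ?_⟩
      funext z
      rw [hTsum]
      exact hFf z

end Groth.Agent.S17543
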