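import Groth.Statements.S17544
import Groth.Agent.Lib.Helper97.Decaying

set_option autoImplicit false
universe u v w
open W4c5adicflatcompl
open CAlg

namespace Groth.Agent.S17544

/-- For a Noetherian ring A which is I-adically complete, a set Z and n ≥ 0, reduction modulo I^n maps
the decaying functions Z → A onto the finitely supported functions Z → A/I^n, and its kernel, the
decaying functions with all values in I^n, equals I^n times the module of decaying functions; so
(A/I^n) ⊗ F_dec(Z, A) → F_fin(Z, A/I^n) is bijective. -/
theorem result {A : Type u} [CommRing A] [IsNoetherianRing A]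
    (I : Ideal A) [IsAdicComplete I A] (Z : Type v) (n : ℕ) :
    (∀ g : Z →₀ A ⧸ I ^ n, ∃ f : decaying I Z A,
        ∀ z, Ideal.Quotient.mk (I ^ n) ((f : Z → A) z) = g z) ∧
      ∀ f : decaying I Z A,
        f ∈ (I ^ n • ⊤ : Submodule A (decaying I Z A)) ↔ ∀ z, (f : Z → A) z ∈ I ^ n := by
  classical
  have htop : ∀ m : ℕ, (I ^ m • ⊤ : Submodule A A) = I ^ m := fun m => by
    rw [smul_eq_mul, Ideal.mul_top]
  constructor
  · intro g
    have hdec : (fun z => if g z = 0 then (0 : A) else Quotient.out (g z)) ∈ decaying I Z A := by
      intro m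
      refine (g.support.finite_toSet).subset ?_
      intro z hz
      by_contra h
      have h0 : g z = 0 := by simpa using h
      apply hz
      simp only [h0, if_true]
      exact Submodule.zero_mem _
    refine ⟨⟨_, hdec⟩, fun z => ?_⟩
    show Ideal.Quotient.mk (I ^ n) (if g z = 0 then (0 : A) else Quotient.out (g z)) = g z
    by_cases h0 : g z = 0
    · rw [if_pos h0, map_zero, h0]
    · rw [if_neg h0, Ideal.Quotient.mk_out]
  · intro f
    rw [Groth.Agent.Lib.Helper97.Decaying.mem_smul_top_iff I Z A n f, htop]

end Groth.Agent.S17544
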