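import Groth.Statements.S17549
import Groth.Agent.Lib.Helper97.Decaying
open Groth.Agent.Lib.Helper97.Decaying

set_option autoImplicit false
universe u
open W4c5adicflatcompl
open CAlg

namespace Groth.Agent.S17549

/-- Over a Noetherian ring A with I-adic completion Â, an A-module P is I-adically projective
(I-adically complete, and every A-linear map from P to the target of a surjection between I-adically
complete modules lifts along that surjection) exactly when P is a retract of some module of
I-adically decaying functions Z → Â: there are a set Z, an A-linear map i from P to the decaying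
functions Z → Â and an A-linear map r back with r ∘ i the identity of P. Test modules, P and Z live
in the universe of A. -/
theorem result {A : Type u} [CommRing A] [IsNoetherianRing A]
    (I : Ideal A) (P : Type u) [AddCommGroup P] [Module A P] :
    IsAdicProjective I P ↔
      ∃ (Z : Type u) (i : P →ₗ[A] decaying I Z (AdicCompletion I A))
        (r : decaying I Z (AdicCompletion I A) →ₗ[A] P), r ∘ₗ i = LinearMap.id := by
  classical
  have fg : I.FG := IsNoetherian.noetherian I
  have hD : ∀ Z : Type u, IsAdicComplete I (decaying I Z (AdicCompletion I A)) := fun Z => by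
    have : IsAdicComplete I (AdicCompletion I A) := AdicCompletion.isAdicComplete fg
    exact isAdicComplete_decaying I Z _
  constructor
  · rintro ⟨hc, hlift⟩
    obtain ⟨π, hπ, -⟩ := existsUnique_single I P P (fun p => p)
    have hsurj : Function.Surjective π := fun p => ⟨_, hπ p⟩
    obtain ⟨χ, hχ⟩ := hlift (decaying I P (AdicCompletion I A)) P (hD P) hc π hsurj LinearMap.id
    exact ⟨P, χ, π, hχ⟩
  · rintro ⟨Z, i, r, hri⟩
    have hri' : ∀ p, r (i p) = p := fun p => by simpa using LinearMap.congr_fun hri p
    refine ⟨{ toIsHausdorff := ⟨?_⟩, toIsPrecomplete := ⟨?_⟩ }, ?_⟩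
    · intro x hx
      have h0 : i x = 0 := by
        apply IsHausdorff.haus (hD Z).toIsHausdorff
        intro n
        have := hx n
        rw [SModEq.zero] at this ⊢
        exact map_mem_pow_smul_top I P i n this
      rw [← hri' x, h0, map_zero]
    · intro x hx
      obtain ⟨L, hL⟩ := IsPrecomplete.prec (hD Z).toIsPrecomplete (f := fun n => i (x n)) (by
        intro m n hmn
        have := hx hmn
        rw [SModEq.sub_mem] at this ⊢
        rw [← map_sub]
        exact map_mem_pow_smul_top I P i m this)
      refine ⟨r L, fun n => ?_⟩
      have := hL n
      rw [SModEq.sub_mem] at this ⊢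
      have h2 := map_mem_pow_smul_top I _ r n this
      rwa [map_sub, hri'] at h2
    · intro M N _ _ _ _ hM hN φ hφ ψ
      choose s hs using hφ
      obtain ⟨χ', hχ', -⟩ := existsUnique_single I Z M
        (fun z => s (ψ (r (single I z (1 : AdicCompletion I A)))))
      refine ⟨χ' ∘ₗ i, ?_⟩
      have h3 : φ ∘ₗ χ' = ψ ∘ₗ r := by
        apply ext_of_single I Z N
        intro z
        simp [hχ' z, hs]
      rw [← LinearMap.comp_assoc, h3, LinearMap.comp_assoc, hri, LinearMap.comp_id]

end Groth.Agent.S17549
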