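import Groth.Statements.S17550
import Groth.Agent.Lib.Helper97.Decaying
import Mathlib.RingTheory.AdicCompletion.Functoriality
import Mathlib.RingTheory.TensorProduct.Basic

set_option autoImplicit false
universe u
open W4c5adicflatcompl
open scoped TensorProduct
open CAlg

namespace Groth.Agent.S17550

open Groth.Agent.Lib.Helper97.Decaying

theorem main {A B : Type u} [CommRing A] [CommRing B] [Algebra A B]
    [IsNoetherianRing A] [IsNoetherianRing B] (I : Ideal A) (J : Ideal B)
    (hIJ : I.map (algebraMap A B) ≤ J) (Z : Type u)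
    (P : Type u) [AddCommGroup P] [Module A P]
    (e : P ≃ₗ[A] decaying I Z (AdicCompletion I A)) :
    Nonempty (AdicCompletion J (B ⊗[A] P) ≃ₗ[B] decaying J Z (AdicCompletion J B)) := by
  classical
  have fgJ : J.FG := IsNoetherian.noetherian J
  have hBh : IsAdicComplete J (AdicCompletion J B) := AdicCompletion.isAdicComplete fgJ
  have hD'J : IsAdicComplete J (decaying J Z (AdicCompletion J B)) :=
    isAdicComplete_decaying J Z _
  have hThJ : IsAdicComplete J (AdicCompletion J (B ⊗[A] P)) := AdicCompletion.isAdicComplete fgJ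
  have hD'I : IsAdicComplete I (decaying J Z (AdicCompletion J B)) :=
    isAdicComplete_of_map_le I J hIJ _
  have hThI : IsAdicComplete I (AdicCompletion J (B ⊗[A] P)) :=
    isAdicComplete_of_map_le I J hIJ _
  obtain ⟨θ₀, hθ₀, -⟩ := existsUnique_single I Z (decaying J Z (AdicCompletion J B))
    (fun z => single J z (1 : AdicCompletion J B))
  let θ₁ : P →ₗ[A] decaying J Z (AdicCompletion J B) := θ₀ ∘ₗ e.toLinearMap
  let θ : B ⊗[A] P →ₗ[B] decaying J Z (AdicCompletion J B) := θ₁.liftBaseChange B
  let α : AdicCompletion J (B ⊗[A] P) →ₗ[B] decaying J Z (AdicCompletion J B) :=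
    (AdicCompletion.ofLinearEquiv J (decaying J Z (AdicCompletion J B))).symm.toLinearMap ∘ₗ
      ((AdicCompletion.map J θ).restrictScalars B)
  have hα : ∀ t : B ⊗[A] P, α (AdicCompletion.of J (B ⊗[A] P) t) = θ t := by
    intro t
    simp only [α, LinearMap.comp_apply, LinearMap.restrictScalars_apply, AdicCompletion.map_of,
      LinearEquiv.coe_coe, AdicCompletion.ofLinearEquiv_symm_of]
  obtain ⟨β, hβ, -⟩ := existsUnique_single J Z (AdicCompletion J (B ⊗[A] P))
    (fun z => AdicCompletion.of J (B ⊗[A] P)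
      ((1 : B) ⊗ₜ[A] e.symm (single I z (1 : AdicCompletion I A))))
  have hθ1 : ∀ z, θ ((1 : B) ⊗ₜ[A] e.symm (single I z (1 : AdicCompletion I A))) =
      single J z (1 : AdicCompletion J B) := by
    intro z
    simp only [θ, θ₁, LinearMap.liftBaseChange_tmul, one_smul, LinearMap.comp_apply,
      LinearEquiv.coe_coe, LinearEquiv.apply_symm_apply, hθ₀ z]
  have hαβ : α ∘ₗ β = LinearMap.id := by
    apply ext_of_single J Z (decaying J Z (AdicCompletion J B))
    intro z
    simp only [LinearMap.comp_apply, LinearMap.id_apply, hβ z, hα, hθ1 z]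
  have hγ1 : ∀ p : P, β (α (AdicCompletion.of J (B ⊗[A] P) ((1 : B) ⊗ₜ[A] p))) =
      AdicCompletion.of J (B ⊗[A] P) ((1 : B) ⊗ₜ[A] p) := by
    let δ' : decaying I Z (AdicCompletion I A) →ₗ[A] AdicCompletion J (B ⊗[A] P) :=
      ((AdicCompletion.of J (B ⊗[A] P)).restrictScalars A) ∘ₗ (TensorProduct.mk A B P 1) ∘ₗ
        e.symm.toLinearMap
    let δ : decaying I Z (AdicCompletion I A) →ₗ[A] AdicCompletion J (B ⊗[A] P) :=
      ((β ∘ₗ α).restrictScalars A) ∘ₗ δ'
    have hδ : δ = δ' := by
      apply ext_of_single I Z (AdicCompletion J (B ⊗[A] P))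
      intro z
      simp only [δ, δ', LinearMap.comp_apply, LinearMap.restrictScalars_apply, LinearEquiv.coe_coe,
        TensorProduct.mk_apply, hα, hθ1 z, hβ z]
    intro p
    have := LinearMap.congr_fun hδ (e p)
    simpa only [δ, δ', LinearMap.comp_apply, LinearMap.restrictScalars_apply, LinearEquiv.coe_coe,
      TensorProduct.mk_apply, LinearEquiv.symm_apply_apply] using this
  have hγ2 : ∀ t : B ⊗[A] P, β (α (AdicCompletion.of J (B ⊗[A] P) t)) =
      AdicCompletion.of J (B ⊗[A] P) t := by
    intro t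
    induction t using TensorProduct.induction_on with
    | zero => simp
    | tmul b p =>
      have : b ⊗ₜ[A] p = b • ((1 : B) ⊗ₜ[A] p) := by
        rw [TensorProduct.smul_tmul', smul_eq_mul, mul_one]
      rw [this, map_smul, map_smul, map_smul, hγ1]
    | add x y hx hy => rw [map_add, map_add, map_add, hx, hy]
  have hγ3 : ∀ x : AdicCompletion J (B ⊗[A] P), β (α x) = x := by
    intro x
    rw [← sub_eq_zero]
    apply IsHausdorff.haus hThJ.toIsHausdorff
    intro n
    rw [SModEq.zero]
    obtain ⟨t, ht⟩ := exists_sub_of_mem J (B ⊗[A] P) fgJ x n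
    have h1 : β (α x) - x = (β ∘ₗ α) (x - AdicCompletion.of J (B ⊗[A] P) t) -
        (x - AdicCompletion.of J (B ⊗[A] P) t) := by
      have h2 : (β ∘ₗ α) (AdicCompletion.of J (B ⊗[A] P) t) =
          AdicCompletion.of J (B ⊗[A] P) t := hγ2 t
      rw [map_sub, h2]
      change β (α x) - x = β (α x) - _ - _
      abel
    rw [h1]
    exact Submodule.sub_mem _ (map_mem_pow_smul_top J _ (β ∘ₗ α) n ht) ht
  exact ⟨LinearEquiv.ofLinearMap α β hαβ (LinearMap.ext hγ3)⟩


/-- For Noetherian rings A and B with B an A-algebra, ideals I of A and J of B with I B contained in J,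
and an I-adically free A-module P, the J-adic completion of B ⊗ P is a J-adically free B-module (the
completed base change of an adically free module is adically free). -/
theorem result {A B : Type u} [CommRing A] [CommRing B] [Algebra A B]
    [IsNoetherianRing A] [IsNoetherianRing B] (I : Ideal A) (J : Ideal B)
    (hIJ : I.map (algebraMap A B) ≤ J) (P : Type u) [AddCommGroup P] [Module A P]
    (hP : IsAdicFree I P) :
    IsAdicFree J (AdicCompletion J (B ⊗[A] P)) := by
  obtain ⟨Z, ⟨e⟩⟩ := hP
  exact ⟨Z, main I J hIJ Z P e⟩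

end Groth.Agent.S17550
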