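import Groth.Statements.S17552
import Groth.Agent.Lib.Helper97.Decaying
import Mathlib.LinearAlgebra.Basis.VectorSpace
import Mathlib.RingTheory.AdicCompletion.Functoriality
import Mathlib.Algebra.Module.Torsion.Basic

set_option autoImplicit false
universe u
open W4c5adicflatcompl
open CAlg

namespace Groth.Agent.S17552

open Groth.Agent.Lib.Helper97.Decaying

section
variable {A : Type u} [CommRing A] [IsNoetherianRing A] [IsLocalRing A]
    [IsAdicComplete (IsLocalRing.maximalIdeal A) A]
    (M : Type u) [AddCommGroup M] [Module A M]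

lemma exists_family :
    ∃ (Zt : Type u) (b : Zt → M),
      (∀ x : M, ∃ (S : Finset Zt) (a : Zt → A),
        x - ∑ z ∈ S, a z • b z ∈ (IsLocalRing.maximalIdeal A • ⊤ : Submodule A M)) ∧
      (∀ (S : Finset Zt) (a : Zt → A),
        ∑ z ∈ S, a z • b z ∈ (IsLocalRing.maximalIdeal A • ⊤ : Submodule A M) →
          ∀ z ∈ S, a z ∈ IsLocalRing.maximalIdeal A) := by
  classical
  let _ : Field (A ⧸ (IsLocalRing.maximalIdeal A)) := Ideal.Quotient.field _
  let bas : Module.Basis (Module.Basis.ofVectorSpaceIndex (A ⧸ (IsLocalRing.maximalIdeal A)) (M ⧸ ((IsLocalRing.maximalIdeal A) • ⊤ : Submodule A M)))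
      (A ⧸ (IsLocalRing.maximalIdeal A)) (M ⧸ ((IsLocalRing.maximalIdeal A) • ⊤ : Submodule A M)) :=
    Module.Basis.ofVectorSpace (A ⧸ (IsLocalRing.maximalIdeal A)) (M ⧸ ((IsLocalRing.maximalIdeal A) • ⊤ : Submodule A M))
  have hsm : ∀ (a : A) (v : M ⧸ ((IsLocalRing.maximalIdeal A) • ⊤ : Submodule A M)),
      (Ideal.Quotient.mk (IsLocalRing.maximalIdeal A) a : A ⧸ (IsLocalRing.maximalIdeal A)) • v = a • v := by
    intro a v
    obtain ⟨x, rfl⟩ := Submodule.mkQ_surjective _ v
    rfl
  choose b hb using fun z : Module.Basis.ofVectorSpaceIndex (A ⧸ (IsLocalRing.maximalIdeal A)) (M ⧸ ((IsLocalRing.maximalIdeal A) • ⊤ : Submodule A M)) =>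
    Submodule.mkQ_surjective ((IsLocalRing.maximalIdeal A) • ⊤ : Submodule A M) (bas z)
  have hq : ∀ (S : Finset (Module.Basis.ofVectorSpaceIndex (A ⧸ (IsLocalRing.maximalIdeal A)) (M ⧸ ((IsLocalRing.maximalIdeal A) • ⊤ : Submodule A M))))
      (a : Module.Basis.ofVectorSpaceIndex (A ⧸ (IsLocalRing.maximalIdeal A)) (M ⧸ ((IsLocalRing.maximalIdeal A) • ⊤ : Submodule A M)) → A),
      ((IsLocalRing.maximalIdeal A) • ⊤ : Submodule A M).mkQ (∑ z ∈ S, a z • b z) =
        ∑ z ∈ S, (Ideal.Quotient.mk (IsLocalRing.maximalIdeal A) (a z) : A ⧸ (IsLocalRing.maximalIdeal A)) • bas z := by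
    intro S a
    rw [map_sum]
    refine Finset.sum_congr rfl fun z _ => ?_
    rw [map_smul, hb, hsm]
  refine ⟨Module.Basis.ofVectorSpaceIndex (A ⧸ (IsLocalRing.maximalIdeal A)) (M ⧸ ((IsLocalRing.maximalIdeal A) • ⊤ : Submodule A M)), b, ?_, ?_⟩
  · intro x
    choose a ha using fun z => Ideal.Quotient.mk_surjective
      (bas.repr (((IsLocalRing.maximalIdeal A) • ⊤ : Submodule A M).mkQ x) z)
    refine ⟨(bas.repr (((IsLocalRing.maximalIdeal A) • ⊤ : Submodule A M).mkQ x)).support, a, ?_⟩
    rw [← Submodule.Quotient.mk_eq_zero, ← Submodule.mkQ_apply, map_sub, sub_eq_zero, hq]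
    have h1 := bas.linearCombination_repr (((IsLocalRing.maximalIdeal A) • ⊤ : Submodule A M).mkQ x)
    rw [Finsupp.linearCombination_apply, Finsupp.sum] at h1
    refine Eq.trans h1.symm ?_
    exact (Finset.sum_congr rfl fun z _ => by rw [ha])
  · intro S a hS z hz
    have h0 : ((IsLocalRing.maximalIdeal A) • ⊤ : Submodule A M).mkQ (∑ z ∈ S, a z • b z) = 0 := by
      rw [Submodule.mkQ_apply, Submodule.Quotient.mk_eq_zero]; exact hS
    rw [hq] at h0
    have := linearIndependent_iff'.1 bas.linearIndependent S
      (fun z => (Ideal.Quotient.mk (IsLocalRing.maximalIdeal A) (a z) : A ⧸ (IsLocalRing.maximalIdeal A))) h0 z hz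
    exact Ideal.Quotient.eq_zero_iff_mem.1 this

end

/-- For a complete Noetherian local ring A (maximal ideal m, m-adic completion Â), an A-module M is
isomorphic to the module of m-adically decaying functions Z → Â for some set Z (m-adically free)
exactly when M is flat and m-adically complete. M and Z live in the universe of A. -/
theorem result {A : Type u} [CommRing A] [IsNoetherianRing A] [IsLocalRing A]
    [IsAdicComplete (IsLocalRing.maximalIdeal A) A]
    (M : Type u) [AddCommGroup M] [Module A M] :
    IsAdicFree (IsLocalRing.maximalIdeal A) M ↔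
      Module.Flat A M ∧ IsAdicComplete (IsLocalRing.maximalIdeal A) M := by
  classical
  have fg : (IsLocalRing.maximalIdeal A).FG := IsNoetherian.noetherian _
  have hÂ : IsAdicComplete (IsLocalRing.maximalIdeal A)
      (AdicCompletion (IsLocalRing.maximalIdeal A) A) := AdicCompletion.isAdicComplete fg
  let e0 : A ≃ₗ[A] AdicCompletion (IsLocalRing.maximalIdeal A) A :=
    AdicCompletion.ofLinearEquiv (IsLocalRing.maximalIdeal A) A
  constructor
  · rintro ⟨Z, ⟨e⟩⟩
    have h1 : IsAdicComplete (IsLocalRing.maximalIdeal A)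
        (decaying (IsLocalRing.maximalIdeal A) Z (AdicCompletion (IsLocalRing.maximalIdeal A) A)) :=
      isAdicComplete_decaying _ Z _
    have h2 : Module.Flat A (decaying (IsLocalRing.maximalIdeal A) Z A) := flat_decaying _ Z
    have h3 : Module.Flat A
        (decaying (IsLocalRing.maximalIdeal A) Z (AdicCompletion (IsLocalRing.maximalIdeal A) A)) :=
      Module.Flat.of_linearEquiv (decayingCongr _ Z e0).symm
    exact ⟨Module.Flat.of_linearEquiv e, isAdicComplete_of_linearEquiv _ e⟩
  · rintro ⟨hflat, hcomp⟩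
    obtain ⟨Zt, b, hspan, hindep⟩ := exists_family (A := A) M
    obtain ⟨φ, hφ⟩ := exists_sumMap (IsLocalRing.maximalIdeal A) Zt A M b
    have hD : IsAdicComplete (IsLocalRing.maximalIdeal A)
        (decaying (IsLocalRing.maximalIdeal A) Zt A) := isAdicComplete_decaying _ Zt _
    have htop : ∀ n : ℕ, (IsLocalRing.maximalIdeal A ^ n • ⊤ : Submodule A A) =
        IsLocalRing.maximalIdeal A ^ n := fun n => by rw [smul_eq_mul, Ideal.mul_top]
    have hsurj : Function.Surjective φ := by
      apply surjective_of_mkQ_comp_surjective (I := IsLocalRing.maximalIdeal A)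
      intro ybar
      obtain ⟨y, rfl⟩ := Submodule.mkQ_surjective _ ybar
      obtain ⟨S, a, hS⟩ := hspan y
      have hgdec : (fun z => if z ∈ S then a z else 0) ∈
          decaying (IsLocalRing.maximalIdeal A) Zt A := by
        intro n
        refine (S.finite_toSet).subset ?_
        intro z hz
        by_contra h
        apply hz
        have : z ∉ S := h
        simp only [this, if_false]
        exact Submodule.zero_mem _
      refine ⟨⟨_, hgdec⟩, ?_⟩
      have h1 := hφ ⟨_, hgdec⟩ 1 S (fun z hz => by
        simp only [hz, if_false]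
        exact Submodule.zero_mem _)
      have h2 : ∑ z ∈ S, (if z ∈ S then a z else 0) • b z = ∑ z ∈ S, a z • b z :=
        Finset.sum_congr rfl fun z hz => by rw [if_pos hz]
      simp only [h2, pow_one] at h1
      rw [LinearMap.comp_apply, Submodule.mkQ_apply, Submodule.mkQ_apply, Submodule.Quotient.eq]
      have := Submodule.sub_mem _ h1 hS
      simpa using this
    have hker1 : ∀ x : decaying (IsLocalRing.maximalIdeal A) Zt A, φ x = 0 →
        x ∈ (IsLocalRing.maximalIdeal A • ⊤ :
          Submodule A (decaying (IsLocalRing.maximalIdeal A) Zt A)) := by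
      intro x hx
      have h1 : x ∈ (IsLocalRing.maximalIdeal A ^ 1 • ⊤ :
          Submodule A (decaying (IsLocalRing.maximalIdeal A) Zt A)) := by
        apply mem_smul_top_of_forall_apply_mem
        intro z
        have h2 := hφ x 1 ((x.2 1).toFinset ∪ {z}) (fun z' hz' => by
          by_contra h
          exact hz' (Finset.mem_union_left _ ((x.2 1).mem_toFinset.2 h)))
        rw [hx, zero_sub, neg_mem_iff] at h2
        have h2' : ∑ z' ∈ (x.2 1).toFinset ∪ {z}, (x : Zt → A) z' • b z' ∈
            (IsLocalRing.maximalIdeal A • ⊤ : Submodule A M) := by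
          have hp : (IsLocalRing.maximalIdeal A ^ 1 • ⊤ : Submodule A M) =
              IsLocalRing.maximalIdeal A • ⊤ := by rw [pow_one]
          rw [← hp]; exact h2
        have h3 := hindep _ _ h2' z (Finset.mem_union_right _ (Finset.mem_singleton_self z))
        rw [htop, pow_one]
        exact h3
      rwa [pow_one] at h1
    have hkern : ∀ n : ℕ, ∀ x : decaying (IsLocalRing.maximalIdeal A) Zt A, φ x = 0 →
        x ∈ (IsLocalRing.maximalIdeal A ^ n • ⊤ :
          Submodule A (decaying (IsLocalRing.maximalIdeal A) Zt A)) := by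
      intro n
      induction n with
      | zero =>
        intro x _
        rw [pow_zero, Ideal.one_eq_top, Submodule.top_smul]
        exact Submodule.mem_top
      | succ n ih =>
        intro x hx
        have h1 := mem_smul_ker_of_flat φ hsurj (IsLocalRing.maximalIdeal A) x hx (hker1 x hx)
        have h2 : LinearMap.ker φ ≤ (IsLocalRing.maximalIdeal A ^ n • ⊤ :
            Submodule A (decaying (IsLocalRing.maximalIdeal A) Zt A)) := fun y hy => ih y hy
        have h3 := Submodule.smul_mono (le_refl (IsLocalRing.maximalIdeal A)) h2 h1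
        rwa [← Submodule.mul_smul, ← pow_succ'] at h3
    have hinj : Function.Injective φ := by
      rw [injective_iff_map_eq_zero]
      intro x hx
      apply IsHausdorff.haus hD.toIsHausdorff
      intro n
      rw [SModEq.zero]
      exact hkern n x hx
    exact ⟨Zt, ⟨(LinearEquiv.ofBijective φ ⟨hinj, hsurj⟩).symm.trans (decayingCongr _ Zt e0)⟩⟩

end Groth.Agent.S17552
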