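import Groth.Statements.S17551
import Groth.Agent.Lib.Helper97.Decaying
import Groth.Agent.S17552
import Mathlib.RingTheory.AdicCompletion.Functoriality

set_option autoImplicit false
universe u
open W4c5adicflatcompl
open CAlg

namespace Groth.Agent.S17551

open Groth.Agent.Lib.Helper97.Decaying

section
set_option linter.unusedSectionVars false
set_option linter.unusedVariables false

variable {A : Type u} [CommRing A] [IsNoetherianRing A] [IsLocalRing A]
    [IsAdicComplete (IsLocalRing.maximalIdeal A) A]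
    (M : ℕ → Type u) [∀ n, AddCommGroup (M n)] [∀ n, Module A (M n)]
    [∀ n, Module (A ⧸ IsLocalRing.maximalIdeal A ^ (n + 1)) (M n)]
    [∀ n, IsScalarTower A (A ⧸ IsLocalRing.maximalIdeal A ^ (n + 1)) (M n)]
    [∀ n, Module.Flat (A ⧸ IsLocalRing.maximalIdeal A ^ (n + 1)) (M n)]
    (ψ : ∀ n, M (n + 1) →ₗ[A] M n) (hψ : ∀ n, Function.Surjective (ψ n))
    (hker : ∀ n, LinearMap.ker (ψ n) =
      (IsLocalRing.maximalIdeal A ^ (n + 1) • ⊤ : Submodule A (M (n + 1))))

lemma pow_smul_eq_zero (n : ℕ) (a : A) (ha : a ∈ IsLocalRing.maximalIdeal A ^ (n + 1)) (x : M n) :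
    a • x = 0 := by
  rw [← algebraMap_smul (A ⧸ IsLocalRing.maximalIdeal A ^ (n + 1)) a x]
  have : algebraMap A (A ⧸ IsLocalRing.maximalIdeal A ^ (n + 1)) a = 0 :=
    Ideal.Quotient.eq_zero_iff_mem.2 ha
  rw [this, zero_smul]

lemma smul_top_eq_bot (n : ℕ) :
    (IsLocalRing.maximalIdeal A ^ (n + 1) • ⊤ : Submodule A (M n)) = ⊥ := by
  rw [eq_bot_iff]
  refine Submodule.smul_le.2 fun a ha x _ => ?_
  rw [pow_smul_eq_zero M n a ha x]
  exact Submodule.zero_mem _

lemma complete_level (n : ℕ) : IsAdicComplete (IsLocalRing.maximalIdeal A) (M n) :=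
  isAdicComplete_of_pow_smul_top_eq_bot _ (n + 1) (smul_top_eq_bot M n)

include hψ in
lemma exists_prefix (n : ℕ) (x : M n) :
    ∃ t : ∀ k, M k, t n = x ∧ ∀ k, k < n → ψ k (t (k + 1)) = t k := by
  classical
  induction n with
  | zero => exact ⟨Function.update 0 0 x, by simp, fun k hk => absurd hk (Nat.not_lt_zero k)⟩
  | succ n ih =>
    obtain ⟨t, ht1, ht2⟩ := ih (ψ n x)
    refine ⟨Function.update t (n + 1) x, by simp, fun k hk => ?_⟩
    rcases Nat.lt_succ_iff_lt_or_eq.1 hk with h | h
    · rw [Function.update_of_ne (by omega), Function.update_of_ne (by omega)]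
      exact ht2 k h
    · subst h
      rw [Function.update_self, Function.update_of_ne (by omega), ht1]

include hψ in
lemma exists_lift (n : ℕ) (x : M n) : ∃ s : sysLim M ψ, (s : ∀ k, M k) n = x := by
  classical
  obtain ⟨t, ht1, ht2⟩ := exists_prefix M ψ hψ n x
  let s : ∀ k, M k := fun k => Nat.rec (motive := fun k => M k) (t 0)
    (fun k sk => if k + 1 ≤ n then t (k + 1) else Classical.choose (hψ k sk)) k
  have hs0 : s 0 = t 0 := rfl
  have hssucc : ∀ k, s (k + 1) = if k + 1 ≤ n then t (k + 1) else Classical.choose (hψ k (s k)) :=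
    fun k => rfl
  have hst : ∀ k, k ≤ n → s k = t k := by
    intro k hk
    cases k with
    | zero => rfl
    | succ k => rw [hssucc, if_pos hk]
  refine ⟨⟨s, fun k => ?_⟩, hst n le_rfl ▸ ht1⟩
  by_cases hk : k + 1 ≤ n
  · rw [hst (k + 1) hk, hst k (by omega)]
    exact ht2 k (by omega)
  · rw [hssucc, if_neg hk]
    exact Classical.choose_spec (hψ k (s k))

lemma sysLim_zero_of_zero (k : ℕ) (s : sysLim M ψ) (hs : (s : ∀ k, M k) k = 0) :
    (s : ∀ k, M k) 0 = 0 := by
  induction k with
  | zero => exact hs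
  | succ k ih =>
    apply ih
    rw [← s.2 k, hs, map_zero]

end

/-- For a complete Noetherian local ring A (maximal ideal m, m-adic completion Â) and an m-adic system
(M n, ψ n : M (n+1) → M n) of A-modules, meaning that each M n is a module over A/m^(n+1) and each ψ
n is surjective with kernel m^(n+1) M (n+1), if every M n is flat over A/m^(n+1) then the inverse
limit of the system is m-adically free (isomorphic to the m-adically decaying functions Z → Â for
some set Z), and for every n its projection to M n is surjective with kernel m^(n+1) times the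
limit. A, the M n and Z share one universe. -/
theorem result {A : Type u} [CommRing A] [IsNoetherianRing A] [IsLocalRing A]
    [IsAdicComplete (IsLocalRing.maximalIdeal A) A]
    (M : ℕ → Type u) [∀ n, AddCommGroup (M n)] [∀ n, Module A (M n)]
    [∀ n, Module (A ⧸ IsLocalRing.maximalIdeal A ^ (n + 1)) (M n)]
    [∀ n, IsScalarTower A (A ⧸ IsLocalRing.maximalIdeal A ^ (n + 1)) (M n)]
    [∀ n, Module.Flat (A ⧸ IsLocalRing.maximalIdeal A ^ (n + 1)) (M n)]
    (ψ : ∀ n, M (n + 1) →ₗ[A] M n) (hψ : ∀ n, Function.Surjective (ψ n))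
    (hker : ∀ n, LinearMap.ker (ψ n) =
      (IsLocalRing.maximalIdeal A ^ (n + 1) • ⊤ : Submodule A (M (n + 1)))) :
    IsAdicFree (IsLocalRing.maximalIdeal A) (sysLim M ψ) ∧
      ∀ n, Function.Surjective (sysProj M ψ n) ∧
        LinearMap.ker (sysProj M ψ n) =
          (IsLocalRing.maximalIdeal A ^ (n + 1) • ⊤ : Submodule A (sysLim M ψ)) := by
  classical
  have hcl : ∀ n, IsAdicComplete (IsLocalRing.maximalIdeal A) (M n) := complete_level M
  have hD : ∀ Z : Type u, IsAdicComplete (IsLocalRing.maximalIdeal A) (decaying (IsLocalRing.maximalIdeal A) Z A) :=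
    fun Z => isAdicComplete_decaying _ Z _
  have htop : ∀ n : ℕ, ((IsLocalRing.maximalIdeal A) ^ n • ⊤ : Submodule A A) = (IsLocalRing.maximalIdeal A) ^ n :=
    fun n => by rw [smul_eq_mul, Ideal.mul_top]
  obtain ⟨Zt, b0, hspan0, hindep0⟩ := Groth.Agent.S17552.exists_family (A := A) (M 0)
  choose bL hbL using fun z => exists_lift M ψ hψ 0 (b0 z)
  have hφex : ∀ k, ∃ φ : decaying (IsLocalRing.maximalIdeal A) Zt A →ₗ[A] M k,
      ∀ (g : decaying (IsLocalRing.maximalIdeal A) Zt A) (n : ℕ) (S : Finset Zt),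
      (∀ z, z ∉ S → (g : Zt → A) z ∈ ((IsLocalRing.maximalIdeal A) ^ n • ⊤ : Submodule A A)) →
      φ g - ∑ z ∈ S, (g : Zt → A) z • ((bL z : ∀ k, M k) k) ∈
        ((IsLocalRing.maximalIdeal A) ^ n • ⊤ : Submodule A (M k)) := by
    intro k
    have := hcl k
    exact exists_sumMap (IsLocalRing.maximalIdeal A) Zt A (M k) (fun z => (bL z : ∀ k, M k) k)
  choose φ hφ using hφex
  have hT : ∀ (g : decaying (IsLocalRing.maximalIdeal A) Zt A) n z, z ∉ (g.2 n).toFinset →
      (g : Zt → A) z ∈ ((IsLocalRing.maximalIdeal A) ^ n • ⊤ : Submodule A A) := by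
    intro g n z hz
    by_contra h
    exact hz ((g.2 n).mem_toFinset.2 h)
  have hcompat : ∀ k g, ψ k (φ (k + 1) g) = φ k g := by
    intro k g
    rw [← sub_eq_zero]
    apply IsHausdorff.haus (hcl k).toIsHausdorff
    intro n
    rw [SModEq.zero]
    have h1 := hφ (k + 1) g n _ (hT g n)
    have h2 := hφ k g n _ (hT g n)
    have h3 := map_mem_pow_smul_top (IsLocalRing.maximalIdeal A) _ (ψ k) n h1
    rw [map_sub, map_sum] at h3
    have h4 : ∀ z, ψ k ((g : Zt → A) z • (bL z : ∀ k, M k) (k + 1)) =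
        (g : Zt → A) z • (bL z : ∀ k, M k) k := by
      intro z
      rw [map_smul, (bL z).2 k]
    simp only [h4] at h3
    have := Submodule.sub_mem _ h3 h2
    simpa using this
  have hspan : ∀ k (x : M k), ∃ (S : Finset Zt) (a : Zt → A),
      x - ∑ z ∈ S, a z • (bL z : ∀ k, M k) k ∈ ((IsLocalRing.maximalIdeal A) • ⊤ : Submodule A (M k)) := by
    intro k
    induction k with
    | zero =>
      intro x
      obtain ⟨S, a, h⟩ := hspan0 x
      refine ⟨S, a, ?_⟩
      simpa only [hbL] using h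
    | succ k ih =>
      intro x
      obtain ⟨S, a, h⟩ := ih (ψ k x)
      refine ⟨S, a, ?_⟩
      have hψw : ψ k (x - ∑ z ∈ S, a z • (bL z : ∀ k, M k) (k + 1)) ∈
          ((IsLocalRing.maximalIdeal A) • ⊤ : Submodule A (M k)) := by
        rw [map_sub, map_sum]
        have h4 : ∀ z, ψ k (a z • (bL z : ∀ k, M k) (k + 1)) = a z • (bL z : ∀ k, M k) k := by
          intro z
          rw [map_smul, (bL z).2 k]
        simp only [h4]
        exact h
      have hmap : ((IsLocalRing.maximalIdeal A) • ⊤ : Submodule A (M k)) =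
          ((IsLocalRing.maximalIdeal A) • ⊤ : Submodule A (M (k + 1))).map (ψ k) := by
        rw [Submodule.map_smul'', Submodule.map_top, LinearMap.range_eq_top.2 (hψ k)]
      rw [hmap] at hψw
      obtain ⟨w', hw', hww'⟩ := hψw
      have h5 : (x - ∑ z ∈ S, a z • (bL z : ∀ k, M k) (k + 1)) - w' ∈ LinearMap.ker (ψ k) := by
        rw [LinearMap.mem_ker, map_sub, hww', sub_self]
      rw [hker k] at h5
      have h6 := Submodule.smul_mono_left (N := (⊤ : Submodule A (M (k + 1))))
        (Ideal.pow_le_self (I := (IsLocalRing.maximalIdeal A)) (Nat.succ_ne_zero k)) h5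
      have := Submodule.add_mem _ hw' h6
      simpa using this
  have hsurj : ∀ k, Function.Surjective (φ k) := by
    intro k
    have := hcl k
    have := hD Zt
    apply surjective_of_mkQ_comp_surjective (I := (IsLocalRing.maximalIdeal A))
    intro ybar
    obtain ⟨y, rfl⟩ := Submodule.mkQ_surjective _ ybar
    obtain ⟨S, a, hS⟩ := hspan k y
    have hgdec : (fun z => if z ∈ S then a z else 0) ∈ decaying (IsLocalRing.maximalIdeal A) Zt A := by
      intro n
      refine (S.finite_toSet).subset ?_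
      intro z hz
      by_contra h
      apply hz
      have : z ∉ S := h
      simp only [this, if_false]
      exact Submodule.zero_mem _
    refine ⟨⟨_, hgdec⟩, ?_⟩
    have h1 := hφ k ⟨_, hgdec⟩ 1 S (fun z hz => by
      simp only [hz, if_false]
      exact Submodule.zero_mem _)
    have h2 : ∑ z ∈ S, (if z ∈ S then a z else 0) • (bL z : ∀ k, M k) k =
        ∑ z ∈ S, a z • (bL z : ∀ k, M k) k :=
      Finset.sum_congr rfl fun z hz => by rw [if_pos hz]
    simp only [h2, pow_one] at h1
    rw [LinearMap.comp_apply, Submodule.mkQ_apply, Submodule.mkQ_apply, Submodule.Quotient.eq]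
    have := Submodule.sub_mem _ h1 hS
    simpa using this
  have hprojsurj : ∀ k, Function.Surjective (sysProj M ψ k) := fun k x => by
    obtain ⟨s, hs⟩ := exists_lift M ψ hψ k x
    exact ⟨s, hs⟩
  have hindep : ∀ k (S : Finset Zt) (a : Zt → A),
      ∑ z ∈ S, a z • (bL z : ∀ k, M k) k ∈ ((IsLocalRing.maximalIdeal A) • ⊤ : Submodule A (M k)) →
      ∀ z ∈ S, a z ∈ (IsLocalRing.maximalIdeal A) := by
    intro k S a hS
    have hmap : ((IsLocalRing.maximalIdeal A) • ⊤ : Submodule A (M k)) =
        ((IsLocalRing.maximalIdeal A) • ⊤ : Submodule A (sysLim M ψ)).map (sysProj M ψ k) := by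
      rw [Submodule.map_smul'', Submodule.map_top, LinearMap.range_eq_top.2 (hprojsurj k)]
    rw [hmap] at hS
    obtain ⟨yh, hyh, hyk⟩ := hS
    have hw : sysProj M ψ k (∑ z ∈ S, a z • bL z - yh) = 0 := by
      rw [map_sub, hyk, map_sum]
      simp only [map_smul, sysProj_apply, sub_self]
    have hw0 := sysLim_zero_of_zero M ψ k (∑ z ∈ S, a z • bL z - yh) hw
    have h0 : sysProj M ψ 0 (∑ z ∈ S, a z • bL z - yh) = 0 := hw0
    rw [map_sub, map_sum, sub_eq_zero] at h0
    have h1 : sysProj M ψ 0 yh ∈ ((IsLocalRing.maximalIdeal A) • ⊤ : Submodule A (M 0)) := by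
      have hp : ((IsLocalRing.maximalIdeal A) ^ 1 • ⊤ : Submodule A (sysLim M ψ)) = (IsLocalRing.maximalIdeal A) • ⊤ := by rw [pow_one]
      have hp' : ((IsLocalRing.maximalIdeal A) ^ 1 • ⊤ : Submodule A (M 0)) = (IsLocalRing.maximalIdeal A) • ⊤ := by rw [pow_one]
      rw [← hp']
      exact map_mem_pow_smul_top (IsLocalRing.maximalIdeal A) _ (sysProj M ψ 0) 1 (hp ▸ hyh)
    rw [← h0] at h1
    simp only [map_smul, sysProj_apply, hbL] at h1
    exact hindep0 S a h1
  have hker1 : ∀ k (x : decaying (IsLocalRing.maximalIdeal A) Zt A), φ k x = 0 →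
      x ∈ ((IsLocalRing.maximalIdeal A) • ⊤ : Submodule A (decaying (IsLocalRing.maximalIdeal A) Zt A)) := by
    intro k x hx
    have h1 : x ∈ ((IsLocalRing.maximalIdeal A) ^ 1 • ⊤ : Submodule A (decaying (IsLocalRing.maximalIdeal A) Zt A)) := by
      apply mem_smul_top_of_forall_apply_mem
      intro z
      have h2 := hφ k x 1 ((x.2 1).toFinset ∪ {z}) (fun z' hz' => by
        by_contra h
        exact hz' (Finset.mem_union_left _ ((x.2 1).mem_toFinset.2 h)))
      rw [hx, zero_sub, neg_mem_iff] at h2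
      have h2' : ∑ z' ∈ (x.2 1).toFinset ∪ {z}, (x : Zt → A) z' • (bL z' : ∀ k, M k) k ∈
          ((IsLocalRing.maximalIdeal A) • ⊤ : Submodule A (M k)) := by
        have hp : ((IsLocalRing.maximalIdeal A) ^ 1 • ⊤ : Submodule A (M k)) = (IsLocalRing.maximalIdeal A) • ⊤ := by rw [pow_one]
        rw [← hp]; exact h2
      have h3 := hindep k _ _ h2' z (Finset.mem_union_right _ (Finset.mem_singleton_self z))
      rw [htop, pow_one]
      exact h3
    rwa [pow_one] at h1
  have hkern : ∀ k (j : ℕ) (x : decaying (IsLocalRing.maximalIdeal A) Zt A), φ k x = 0 →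
      x ∈ ((IsLocalRing.maximalIdeal A) ^ j • ⊤ : Submodule A (decaying (IsLocalRing.maximalIdeal A) Zt A)) ⊔ (IsLocalRing.maximalIdeal A) ^ (k + 1) • ⊤ := by
    intro k j
    induction j with
    | zero =>
      intro x _
      rw [pow_zero, Ideal.one_eq_top, Submodule.top_smul]
      exact Submodule.mem_sup_left Submodule.mem_top
    | succ j ih =>
      intro x hx
      have h1 := mem_smul_ker_sup_of_flat_quotient ((IsLocalRing.maximalIdeal A) ^ (k + 1)) (φ k) (hsurj k) (IsLocalRing.maximalIdeal A) x hx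
        (hker1 k x hx)
      have h2 : LinearMap.ker (φ k) ≤
          ((IsLocalRing.maximalIdeal A) ^ j • ⊤ : Submodule A (decaying (IsLocalRing.maximalIdeal A) Zt A)) ⊔ (IsLocalRing.maximalIdeal A) ^ (k + 1) • ⊤ := fun y hy => ih y hy
      have h3 : (IsLocalRing.maximalIdeal A) • LinearMap.ker (φ k) ≤
          ((IsLocalRing.maximalIdeal A) ^ (j + 1) • ⊤ : Submodule A (decaying (IsLocalRing.maximalIdeal A) Zt A)) ⊔ (IsLocalRing.maximalIdeal A) ^ (k + 1) • ⊤ := by
        refine (Submodule.smul_mono le_rfl h2).trans ?_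
        rw [Submodule.smul_sup, ← Submodule.mul_smul, ← Submodule.mul_smul, ← pow_succ']
        exact sup_le_sup le_rfl (Submodule.smul_mono_left Ideal.mul_le_right)
      exact sup_le h3 le_sup_right h1
  have hkerφ : ∀ k x, φ k x = 0 → x ∈ ((IsLocalRing.maximalIdeal A) ^ (k + 1) • ⊤ : Submodule A (decaying (IsLocalRing.maximalIdeal A) Zt A)) := by
    intro k x hx
    have := hkern k (k + 1) x hx
    rwa [sup_idem] at this
  have hkerφ' : ∀ k x, x ∈ ((IsLocalRing.maximalIdeal A) ^ (k + 1) • ⊤ : Submodule A (decaying (IsLocalRing.maximalIdeal A) Zt A)) → φ k x = 0 := by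
    intro k x hx
    have := map_mem_pow_smul_top (IsLocalRing.maximalIdeal A) _ (φ k) (k + 1) hx
    rwa [smul_top_eq_bot M k, Submodule.mem_bot] at this
  let Φ : decaying (IsLocalRing.maximalIdeal A) Zt A →ₗ[A] sysLim M ψ :=
    { toFun := fun g => ⟨fun k => φ k g, fun k => hcompat k g⟩
      map_add' := fun g g' => by
        apply Subtype.ext; funext k
        simp
      map_smul' := fun a g => by
        apply Subtype.ext; funext k
        simp }
  have hΦk : ∀ k g, ((Φ g : sysLim M ψ) : ∀ k, M k) k = φ k g := fun k g => rfl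
  have hΦinj : Function.Injective Φ := by
    rw [injective_iff_map_eq_zero]
    intro g hg
    apply IsHausdorff.haus (hD Zt).toIsHausdorff
    intro n
    rw [SModEq.zero]
    have h1 : φ n g = 0 := by
      rw [← hΦk, hg]; rfl
    exact pow_smul_top_mono (IsLocalRing.maximalIdeal A) _ (Nat.le_succ n) (hkerφ n g h1)
  have hΦsurj : Function.Surjective Φ := by
    intro s
    choose g hg using fun k => hsurj k ((s : ∀ k, M k) k)
    have hstep : ∀ k, g (k + 1) - g k ∈
        ((IsLocalRing.maximalIdeal A) ^ (k + 1) • ⊤ : Submodule A (decaying (IsLocalRing.maximalIdeal A) Zt A)) := by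
      intro k
      apply hkerφ
      rw [map_sub, hg k, ← hcompat k, hg (k + 1), s.2 k, sub_self]
    have hcauchy : ∀ {a b}, a ≤ b →
        g a ≡ g b [SMOD ((IsLocalRing.maximalIdeal A) ^ a • ⊤ : Submodule A (decaying (IsLocalRing.maximalIdeal A) Zt A))] := by
      intro a b hab
      induction b, hab using Nat.le_induction with
      | base => rfl
      | succ b hab ih =>
        refine ih.trans ?_
        rw [SModEq.sub_mem]
        have h2 := pow_smul_top_mono (IsLocalRing.maximalIdeal A) (decaying (IsLocalRing.maximalIdeal A) Zt A) (show a ≤ b + 1 by omega) (hstep b)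
        rw [← neg_sub]; exact Submodule.neg_mem _ h2
    obtain ⟨G, hG⟩ := IsPrecomplete.prec (hD Zt).toIsPrecomplete hcauchy
    refine ⟨G, ?_⟩
    apply Subtype.ext; funext k
    rw [hΦk]
    have h1 := hG (k + 1)
    rw [SModEq.sub_mem] at h1
    have h2 := hkerφ' k _ h1
    rw [map_sub, sub_eq_zero] at h2
    rw [← h2, ← hcompat k (g (k + 1)), hg (k + 1)]
    exact s.2 k
  let e0 : A ≃ₗ[A] AdicCompletion (IsLocalRing.maximalIdeal A) A := AdicCompletion.ofLinearEquiv (IsLocalRing.maximalIdeal A) A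
  let eΦ := LinearEquiv.ofBijective Φ ⟨hΦinj, hΦsurj⟩
  refine ⟨⟨Zt, ⟨eΦ.symm.trans (decayingCongr _ Zt e0)⟩⟩, fun n => ⟨hprojsurj n, ?_⟩⟩
  ext s
  rw [LinearMap.mem_ker]
  constructor
  · intro hs
    obtain ⟨g, rfl⟩ := hΦsurj s
    have h1 : φ n g = 0 := hs
    exact map_mem_pow_smul_top (IsLocalRing.maximalIdeal A) _ Φ (n + 1) (hkerφ n g h1)
  · intro hs
    have := map_mem_pow_smul_top (IsLocalRing.maximalIdeal A) _ (sysProj M ψ n) (n + 1) hs
    rwa [smul_top_eq_bot M n, Submodule.mem_bot] at this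

end Groth.Agent.S17551
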