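import Groth.Statements.S1757
import Mathlib

set_option autoImplicit false
universe u
open LocCoh

namespace Groth.Agent.S1757

open Function

section
variable {A : Type u} [CommRing A] {r : ℕ}

theorem sum_update (c f : Fin r → A) (j : Fin r) (a : A) :
    ∑ i, c i * update f j a i = ∑ i, c i * f i + c j * (a - f j) := by
  rw [← Finset.add_sum_erase _ _ (Finset.mem_univ j),
    ← Finset.add_sum_erase _ (fun i => c i * f i) (Finset.mem_univ j)]
  have h : ∑ i ∈ Finset.univ.erase j, c i * update f j a i =
      ∑ i ∈ Finset.univ.erase j, c i * f i :=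
    Finset.sum_congr rfl fun i hi => by rw [update_of_ne (Finset.ne_of_mem_erase hi)]
  rw [h, update_self]
  ring

theorem sum_update_left (c f : Fin r → A) (j : Fin r) (t : A) :
    ∑ i, update c j t i * f i = ∑ i, c i * f i + (t - c j) * f j := by
  rw [← Finset.add_sum_erase _ _ (Finset.mem_univ j),
    ← Finset.add_sum_erase _ (fun i => c i * f i) (Finset.mem_univ j)]
  have h : ∑ i ∈ Finset.univ.erase j, update c j t i * f i =
      ∑ i ∈ Finset.univ.erase j, c i * f i :=
    Finset.sum_congr rfl fun i hi => by rw [update_of_ne (Finset.ne_of_mem_erase hi)]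
  rw [h, update_self]
  ring

theorem le_update {f : Fin r → A} {j : Fin r} {a b : A} (hab : f j = a * b) :
    Ideal.span (Set.range f) ≤ Ideal.span (Set.range (update f j a)) := by
  rw [Ideal.span_le]
  rintro _ ⟨i, rfl⟩
  by_cases h : i = j
  · subst h
    rw [hab, mul_comm]
    exact Ideal.mul_mem_left _ _ (Ideal.subset_span ⟨i, update_self ..⟩)
  · exact Ideal.subset_span ⟨i, update_of_ne h ..⟩

theorem self_mem_update (f : Fin r → A) (j : Fin r) (a : A) :
    a ∈ Ideal.span (Set.range (update f j a)) :=
  Ideal.subset_span ⟨j, update_self ..⟩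

theorem indep_update {f : Fin r → A} (hf : Dual2.Independent f) {j : Fin r} {a b : A}
    (hab : f j = a * b) : Dual2.Independent (update f j a) := by
  intro c hc
  rw [sum_update] at hc
  -- c j lies in (f)
  have h1 : c j ∈ Ideal.span (Set.range f) := by
    have h2 := hf (update (fun i => b * c i) j (c j)) (by
      rw [sum_update_left]
      have : ∑ i, b * c i * f i = b * ∑ i, c i * f i := by
        rw [Finset.mul_sum]
        exact Finset.sum_congr rfl fun i _ => by ring
      rw [this]
      linear_combination b * hc + c j * hab) j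
    rwa [update_self] at h2
  obtain ⟨d, hd⟩ := Ideal.mem_span_range_iff_exists_fun.mp h1
  have h3 := hf (update (fun i => c i + a * d i) j (a * d j)) (by
    rw [sum_update_left]
    have : ∑ i, (c i + a * d i) * f i = ∑ i, c i * f i + a * ∑ i, d i * f i := by
      rw [Finset.mul_sum, ← Finset.sum_add_distrib]
      exact Finset.sum_congr rfl fun i _ => by ring
    rw [this, hd]
    linear_combination hc)
  intro i
  by_cases h : i = j
  · subst h
    exact le_update hab h1
  · have h4 := h3 i
    rw [update_of_ne h] at h4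
    have h5 : c i = (c i + a * d i) - d i * a := by ring
    rw [h5]
    exact sub_mem (le_update hab h4) (Ideal.mul_mem_left _ _ (self_mem_update f j a))

theorem mem_of_mul_mem {f : Fin r → A} (hf : Dual2.Independent f) {j : Fin r} {a b : A}
    (hab : f j = a * b) (c : A) (h : b * c ∈ Ideal.span (Set.range f)) :
    c ∈ Ideal.span (Set.range (update f j a)) := by
  obtain ⟨d, hd⟩ := Ideal.mem_span_range_iff_exists_fun.mp h
  have h3 := hf (update (fun i => a * d i) j (a * d j - c)) (by
    rw [sum_update_left]
    have : ∑ i, a * d i * f i = a * ∑ i, d i * f i := by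
      rw [Finset.mul_sum]
      exact Finset.sum_congr rfl fun i _ => by ring
    rw [this, hd, hab]
    ring) j
  rw [update_self] at h3
  have h5 : c = d j * a - (a * d j - c) := by ring
  rw [h5]
  exact sub_mem (Ideal.mul_mem_left _ _ (self_mem_update f j a)) (le_update hab h3)

theorem length_split {f : Fin r → A} (hf : Dual2.Independent f) {j : Fin r} {a b : A}
    (hab : f j = a * b) :
    Module.length A (A ⧸ Ideal.span (Set.range f)) =
      Module.length A (A ⧸ Ideal.span (Set.range (update f j a))) +
        Module.length A (A ⧸ Ideal.span (Set.range (update f j b))) := by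
  have hba : f j = b * a := by rw [hab, mul_comm]
  have hle1 : Ideal.span (Set.range (update f j a)) ≤
      Submodule.comap (LinearMap.mulLeft A b) (Ideal.span (Set.range f)) := by
    rw [Ideal.span_le]
    rintro _ ⟨i, rfl⟩
    rw [SetLike.mem_coe, Submodule.mem_comap, LinearMap.mulLeft_apply]
    by_cases h : i = j
    · subst h
      rw [update_self, ← hba]
      exact Ideal.subset_span ⟨i, rfl⟩
    · rw [update_of_ne h]
      exact Ideal.mul_mem_left _ _ (Ideal.subset_span ⟨i, rfl⟩)
  have hle2 : Ideal.span (Set.range f) ≤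
      Submodule.comap (LinearMap.id : A →ₗ[A] A) (Ideal.span (Set.range (update f j b))) := by
    rw [Submodule.comap_id]
    exact le_update hba
  let mulb : (A ⧸ Ideal.span (Set.range (update f j a))) →ₗ[A] (A ⧸ Ideal.span (Set.range f)) :=
    Submodule.mapQ _ _ (LinearMap.mulLeft A b) hle1
  let proj : (A ⧸ Ideal.span (Set.range f)) →ₗ[A] (A ⧸ Ideal.span (Set.range (update f j b))) :=
    Submodule.mapQ _ _ LinearMap.id hle2
  have hmulb : ∀ c : A, mulb (Submodule.Quotient.mk c) = Submodule.Quotient.mk (b * c) :=
    fun c => rfl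
  have hproj : ∀ c : A, proj (Submodule.Quotient.mk c) = Submodule.Quotient.mk c :=
    fun c => rfl
  refine Module.length_eq_add_of_exact mulb proj ?_ ?_ ?_
  · rw [injective_iff_map_eq_zero]
    intro y hy
    obtain ⟨c, rfl⟩ := Submodule.Quotient.mk_surjective _ y
    rw [hmulb, Submodule.Quotient.mk_eq_zero] at hy
    rw [Submodule.Quotient.mk_eq_zero]
    exact mem_of_mul_mem hf hab c hy
  · intro y
    obtain ⟨c, rfl⟩ := Submodule.Quotient.mk_surjective _ y
    exact ⟨Submodule.Quotient.mk c, hproj c⟩
  · intro y
    obtain ⟨t, rfl⟩ := Submodule.Quotient.mk_surjective _ y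
    rw [hproj, Submodule.Quotient.mk_eq_zero]
    constructor
    · intro ht
      obtain ⟨d, hd⟩ := Ideal.mem_span_range_iff_exists_fun.mp ht
      rw [sum_update] at hd
      refine ⟨Submodule.Quotient.mk (d j), ?_⟩
      rw [hmulb, Submodule.Quotient.eq]
      have h1 : b * d j - t = d j * f j - ∑ i, d i * f i := by rw [← hd]; ring
      rw [h1]
      exact sub_mem (Ideal.mul_mem_left _ _ (Ideal.subset_span ⟨j, rfl⟩))
        (Ideal.mem_span_range_iff_exists_fun.mpr ⟨d, rfl⟩)
    · rintro ⟨y, hy⟩
      obtain ⟨c, rfl⟩ := Submodule.Quotient.mk_surjective _ y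
      rw [hmulb, Submodule.Quotient.eq] at hy
      have h1 : t = b * c - (b * c - t) := by ring
      rw [h1]
      exact sub_mem (Ideal.mul_mem_right _ _ (self_mem_update f j b)) (le_update hba hy)

theorem main (A : Type u) [CommRing A] [IsLocalRing A] {r : ℕ} (x : Fin r → A)
    (hx : Ideal.span (Set.range x) = IsLocalRing.maximalIdeal A) :
    ∀ s : ℕ, ∀ e : Fin r → ℕ, (∀ i, 0 < e i) → ∑ i, e i = s →
      Dual2.Independent (fun i => x i ^ e i) →
      Module.length A (A ⧸ Ideal.span (Set.range (fun i => x i ^ e i))) =
        ((∏ i, e i : ℕ) : ℕ∞) := by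
  intro s
  induction s using Nat.strong_induction_on with
  | _ s IH =>
  intro e he hs hind
  by_cases h1 : ∀ i, e i = 1
  · have hxe : (fun i => x i ^ e i) = x := funext fun i => by rw [h1 i, pow_one]
    rw [hxe, hx]
    haveI : IsSimpleModule A (A ⧸ IsLocalRing.maximalIdeal A) :=
      isSimpleModule_iff_isCoatom.mpr (Ideal.isMaximal_def.mp inferInstance)
    rw [Module.length_eq_one]
    simp [h1]
  · simp only [not_forall] at h1
    obtain ⟨j, hj⟩ := h1
    have hj2 : 2 ≤ e j := by have := he j; omega
    have hab : (fun i => x i ^ e i) j = x j * x j ^ (e j - 1) := by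
      change x j ^ e j = _
      rw [← pow_succ']
      congr 1
      omega
    have hab' : (fun i => x i ^ e i) j = x j ^ (e j - 1) * x j := by rw [hab, mul_comm]
    have hu : ∀ t : ℕ, update (fun i => x i ^ e i) j (x j ^ t) =
        fun i => x i ^ (update e j t i) := by
      intro t
      funext i
      by_cases h : i = j
      · subst h; simp
      · simp [h]
    have hu1 := hu 1
    rw [pow_one] at hu1
    have hu2 := hu (e j - 1)
    have hsum : ∀ t : ℕ, ∑ i, update e j t i = t + ∑ i ∈ Finset.univ \ {j}, e i := fun t =>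
      Finset.sum_update_of_mem (Finset.mem_univ j) e t
    have hsum0 : ∑ i, e i = e j + ∑ i ∈ Finset.univ \ {j}, e i :=
      Finset.sum_eq_add_sum_sdiff_singleton_of_mem (Finset.mem_univ j) e
    have hprod : ∀ t : ℕ, ∏ i, update e j t i = t * ∏ i ∈ Finset.univ \ {j}, e i := fun t =>
      Finset.prod_update_of_mem (Finset.mem_univ j) e t
    have hprod0 : ∏ i, e i = e j * ∏ i ∈ Finset.univ \ {j}, e i :=
      Finset.prod_eq_mul_prod_sdiff_singleton_of_mem (Finset.mem_univ j) e
    have hpos : ∀ t : ℕ, 0 < t → ∀ i, 0 < update e j t i := by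
      intro t ht i
      by_cases h : i = j
      · subst h; simpa using ht
      · simpa [h] using he i
    have hi1 : Dual2.Independent (fun i => x i ^ (update e j 1 i)) := by
      rw [← hu1]; exact indep_update hind hab
    have hi2 : Dual2.Independent (fun i => x i ^ (update e j (e j - 1) i)) := by
      rw [← hu2]; exact indep_update hind hab'
    rw [length_split hind hab, hu1, hu2,
      IH (∑ i, update e j 1 i) (by rw [hsum, ← hs, hsum0]; omega) _ (hpos 1 one_pos) rfl hi1,
      IH (∑ i, update e j (e j - 1) i) (by rw [hsum, ← hs, hsum0]; omega) _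
        (hpos (e j - 1) (by omega)) rfl hi2,
      ← Nat.cast_add, hprod, hprod, hprod0, ← add_mul]
    congr 2
    omega

end

end Groth.Agent.S1757

namespace Groth.Agent.S1757

/-- Let A be a local ring whose maximal ideal is generated by x_1, …, x_r, and let e_1, …, e_r be
positive integers such that x_1^{e_1}, …, x_r^{e_r} are independent. Then the length of
A/(x_1^{e_1}, …, x_r^{e_r}) equals the product e_1 ⋯ e_r. -/
theorem result (A : Type u) [CommRing A] [IsLocalRing A] (r : ℕ) (x : Fin r → A) (hx : Ideal.span (Set.range x) = IsLocalRing.maximalIdeal A) (e : Fin r → ℕ) (he : ∀ i, 0 < e i) (hind : Dual2.Independent (fun i => x i ^ e i)) : Module.length A (A ⧸ Ideal.span (Set.range (fun i => x i ^ e i))) = ∏ i, (e i : ℕ∞) := by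
  have h := main A x hx (∑ i, e i) e he rfl hind
  rw [h]
  push_cast
  rfl

end Groth.Agent.S1757
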