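import Groth.Statements.S1758
import Mathlib.RingTheory.Flat.EquationalCriterion

set_option autoImplicit false
universe u
open LocCoh

namespace Groth.Agent.S1758

/-- Let A → B be a flat ring map. If a family f_1, …, f_r of elements of A is independent (every linear
relation has coefficients in the ideal the family generates), then so is the family of their images
in B. -/
theorem result (A B : Type u) [CommRing A] [CommRing B] [Algebra A B] [Module.Flat A B] (r : ℕ) (f : Fin r → A) (hf : Dual2.Independent f) : Dual2.Independent (fun i => algebraMap A B (f i)) := by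
  intro b hb i
  have h0 : ∑ i, f i • b i = 0 := by
    rw [← hb]
    refine Finset.sum_congr rfl fun i _ ↦ ?_
    rw [Algebra.smul_def, mul_comm]
  obtain ⟨k, a, y, hxy, hfa⟩ := Module.Flat.isTrivialRelation_of_sum_smul_eq_zero h0
  have ha : ∀ j i, a i j ∈ Ideal.span (Set.range f) := by
    intro j
    apply hf (fun i ↦ a i j)
    rw [← hfa j]
    exact Finset.sum_congr rfl fun i _ ↦ mul_comm _ _
  rw [hxy i]
  refine Ideal.sum_mem _ fun j _ ↦ ?_
  rw [Algebra.smul_def]
  refine Ideal.mul_mem_right _ _ ?_
  have h1 : algebraMap A B (a i j) ∈ (Ideal.span (Set.range f)).map (algebraMap A B) :=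
    Ideal.mem_map_of_mem _ (ha j i)
  rw [Ideal.map_span] at h1
  convert h1 using 2
  ext z
  simp [Set.mem_image]

end Groth.Agent.S1758
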