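import Groth.Statements.S2102
import Mathlib.AlgebraicGeometry.FunctionField
import Mathlib.RingTheory.IntegralClosure.IntegrallyClosed
import Mathlib.Topology.Sheaves.SheafCondition.UniqueGluing

set_option autoImplicit false
universe u
open CategoryTheory AlgebraicGeometry
open Mor

namespace Groth.Agent.S2102

/-- The ring of global sections of an integral normal scheme is an integrally closed domain. -/
theorem result (X : Scheme.{u}) [IsIntegral X] (hX : Pi1.IsNormalScheme X) :
    IsIntegrallyClosed (Γ(X, ⊤) : Type u) := by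
  have : Nonempty (⊤ : X.Opens) := ⟨⟨Nonempty.some inferInstance, trivial⟩⟩
  have hinj : Function.Injective (algebraMap Γ(X, ⊤) X.functionField) :=
    X.germToFunctionField_injective ⊤
  have : FaithfulSMul Γ(X, ⊤) X.functionField :=
    (faithfulSMul_iff_algebraMap_injective _ _).2 hinj
  have : IsIntegrallyClosedIn Γ(X, ⊤) X.functionField := by
    rw [isIntegrallyClosedIn_iff]
    refine ⟨hinj, ?_⟩
    intro a ha
    have h1 : ∀ x : X, ∃ (U : X.Opens) (hxU : x ∈ U) (s : Γ(X, U)),
        haveI : Nonempty U := ⟨⟨x, hxU⟩⟩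
        X.germToFunctionField U s = a := by
      intro x
      haveI := (hX x).2
      let x' : (⊤ : X.Opens) := ⟨x, trivial⟩
      letI := TopCat.Presheaf.algebra_section_stalk X.presheaf x'
      haveI := functionField_isScalarTower X ⊤ x'
      have ha' : IsIntegral (X.presheaf.stalk x) a := ha.tower_top
      obtain ⟨y, hy⟩ := IsIntegrallyClosed.isIntegral_iff.1 ha'
      obtain ⟨U, hxU, s, hs⟩ := X.presheaf.germ_exist (x := x) y
      refine ⟨U, hxU, s, ?_⟩
      haveI : Nonempty U := ⟨⟨x, hxU⟩⟩
      rw [← Scheme.algebraMap_germ_eq_germToFunctionField X hxU s, hs, hy]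
    choose U hxU s hs using h1
    have hne : ∀ x, Nonempty (U x) := fun x => ⟨⟨x, hxU x⟩⟩
    have hgp : ∀ V : X.Opens, (V : Set X).Nonempty → genericPoint X ∈ V := fun V hV =>
      ((genericPoint_spec X).mem_open_set_iff V.isOpen).mpr (by simpa using hV)
    have hcompat : TopCat.Presheaf.IsCompatible X.presheaf U s := by
      intro x y
      have hxy : ((U x ⊓ U y : X.Opens) : Set X).Nonempty :=
        nonempty_preirreducible_inter (U x).isOpen (U y).isOpen ⟨x, hxU x⟩ ⟨y, hxU y⟩
      have hgxy := hgp _ hxy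
      apply germ_injective_of_isIntegral X (genericPoint X) hgxy
      rw [TopCat.Presheaf.germ_res_apply, TopCat.Presheaf.germ_res_apply]
      exact (hs x).trans (hs y).symm
    obtain ⟨g, hg, -⟩ := X.sheaf.existsUnique_gluing' U ⊤ (fun x => homOfLE le_top)
      (fun x _ => TopologicalSpace.Opens.mem_iSup.2 ⟨x, hxU x⟩) s hcompat
    refine ⟨g, ?_⟩
    obtain ⟨x₀⟩ : Nonempty X := inferInstance
    rw [← hs x₀, ← hg x₀]
    exact (TopCat.Presheaf.germ_res_apply X.presheaf (homOfLE le_top) (genericPoint X)
      (hgp _ ⟨x₀, hxU x₀⟩) g).symm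
  exact IsIntegrallyClosed.of_isIntegrallyClosedIn Γ(X, ⊤) X.functionField

end Groth.Agent.S2102
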