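import Groth.Statements.S17584
import Mathlib.Tactic
import Mathlib.AlgebraicGeometry.Restrict
import Groth.Agent.S9821
import Groth.Agent.S2102

set_option autoImplicit false
open CategoryTheory CategoryTheory.Limits AlgebraicGeometry
open PosLin

namespace Groth.Agent.S17584

universe u

open Opposite in
theorem app_bijective {X Y : Scheme.{u}} (f : X ⟶ Y) (hfs : IsIso (ClSub.unitToPush f))
    (V : Y.Opens) : Function.Bijective (f.app V).hom := by
  have h1 : IsIso ((Scheme.Modules.toPresheaf Y).map (ClSub.unitToPush f)) := inferInstance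
  have h2 : IsIso (((Scheme.Modules.toPresheaf Y).map (ClSub.unitToPush f)).app (op V)) :=
    inferInstance
  have h3 := ConcreteCategory.bijective_of_isIso
    (((Scheme.Modules.toPresheaf Y).map (ClSub.unitToPush f)).app (op V))
  exact h3

theorem normal_open {X : Scheme.{u}} (hX : Pi1.IsNormalScheme X) (U : X.Opens) :
    Pi1.IsNormalScheme U.toScheme := by
  intro x
  obtain ⟨h1, h2⟩ := hX x.1
  let e : X.presheaf.stalk x.1 ≃+* U.toScheme.presheaf.stalk x :=
    (U.stalkIso x).symm.commRingCatIsoToRingEquiv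
  exact ⟨e.toMulEquiv.isDomain_iff.mp h1, IsIntegrallyClosed.of_equiv e⟩

/-- Let X and Y each be a projective variety over the complex numbers (an integral scheme, proper over
ℂ, with an ample invertible module), and f : X → Y an algebraic fibre space (a surjective morphism
over ℂ with O_Y → f_*O_X an isomorphism). If X is normal, then Y is normal. -/
theorem result (X : Scheme.{0}) [X.Over (Spec (CommRingCat.of ℂ))] [IsIntegral X] [IsProper (X ↘ Spec (CommRingCat.of ℂ))]
    (HX : X.Modules) (hHX : CohB1.IsAmple HX)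
    (Y : Scheme.{0}) [Y.Over (Spec (CommRingCat.of ℂ))] [IsIntegral Y] [IsProper (Y ↘ Spec (CommRingCat.of ℂ))]
    (HY : Y.Modules) (hHY : CohB1.IsAmple HY)
    (f : X ⟶ Y) (hf : f ≫ (Y ↘ Spec (CommRingCat.of ℂ)) = X ↘ Spec (CommRingCat.of ℂ)) [Surjective f]
    (hfs : IsIso (ClSub.unitToPush f))
    (hX : Pi1.IsNormalScheme X) : Pi1.IsNormalScheme Y := by
  rw [Groth.Agent.S9821.result]
  intro V hVne hV
  have hbij := app_bijective f hfs V
  have hne : Nonempty (f ⁻¹ᵁ V) := by
    obtain ⟨⟨y, hy⟩⟩ := hVne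
    obtain ⟨x, rfl⟩ := Surjective.surj (f := f) y
    exact ⟨⟨x, hy⟩⟩
  have hint : IsIntegral (f ⁻¹ᵁ V).toScheme := inferInstance
  have hn := normal_open hX (f ⁻¹ᵁ V)
  have h1 : IsIntegrallyClosed Γ((f ⁻¹ᵁ V).toScheme, ⊤) := Groth.Agent.S2102.result _ hn
  have h2 : IsIntegrallyClosed Γ(X, f ⁻¹ᵁ V) :=
    IsIntegrallyClosed.of_equiv ((f ⁻¹ᵁ V).topIso.commRingCatIsoToRingEquiv)
  exact IsIntegrallyClosed.of_equiv (RingEquiv.ofBijective (f.app V).hom hbij).symm

end Groth.Agent.S17584
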