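import Groth.Statements.S17593
import Groth.Agent.Lib.Helper23.AwayNbhd
import Groth.Agent.Lib.Helper55.FL.Core

set_option autoImplicit false
universe u
open Hensel

namespace Groth.Agent.S17593

open Groth.Agent.Lib.Helper55.FL


/-- Suppose (A, I) is a Henselian pair, and R is an A-algebra of finite presentation for which A → R is
flat at each prime of R that contains IR. Then there is an étale R-algebra R' such that R/IR →
R'/IR' is bijective and A → R' is flat. -/
theorem result (A : Type u) [CommRing A] (I : Ideal A) [HenselianRing A I]
    (R : Type u) [CommRing R] [Algebra A R] [Algebra.FinitePresentation A R]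
    (h : ∀ (p : Ideal R) [p.IsPrime], I.map (algebraMap A R) ≤ p → Module.Flat A (Localization.AtPrime p))
    : ∃ (R' : Type u) (_ : CommRing R') (_ : Algebra R R') (_ : Algebra A R') (_ : IsScalarTower A R R'),
      Algebra.Etale R R' ∧
      Function.Bijective (Ideal.quotientMap ((I.map (algebraMap A R)).map (algebraMap R R'))
        (algebraMap R R') Ideal.le_comap_map) ∧ Module.Flat A R' := by
  classical
  have hU : IsOpen (FL A R) := isOpen_FL_fp
  have hIU : PrimeSpectrum.zeroLocus ((I.map (algebraMap A R) : Ideal R) : Set R) ⊆
      FL A R := fun p hp => h p.asIdeal hp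
  obtain ⟨f, hf, hfU⟩ :=
    Groth.Agent.Lib.Helper23.exists_sub_one_mem_basicOpen_subset _ _ hU hIU
  refine ⟨Localization.Away f, inferInstance, inferInstance, inferInstance, inferInstance,
    ?_, ?_, ?_⟩
  · exact Algebra.Etale.of_isLocalizationAway f
  · exact Groth.Agent.Lib.Helper23.quotientMap_away_bijective _ f hf _
  · refine Module.flat_of_isLocalized_maximal (Localization.Away f) (Localization.Away f)
      (fun P _ => Localization.AtPrime P)
      (fun P _ => Algebra.linearMap (Localization.Away f) (Localization.AtPrime P)) ?_
    intro P hP
    rw [flat_atPrime_away_iff (Localization.Away f) f P]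
    have hmem : (⟨P.comap (algebraMap R (Localization.Away f)), inferInstance⟩ : PrimeSpectrum R) ∈
        (PrimeSpectrum.basicOpen f : Set (PrimeSpectrum R)) := by
      rw [SetLike.mem_coe, PrimeSpectrum.mem_basicOpen]
      intro hfP
      rw [Ideal.mem_comap] at hfP
      exact hP.ne_top (Ideal.eq_top_of_isUnit_mem _ hfP
        (IsLocalization.Away.algebraMap_isUnit f))
    exact hfU hmem

end Groth.Agent.S17593
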