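import Groth.Statements.S17595
import Groth.Agent.Lib.Helper23.AwayNbhd
import Groth.Agent.Lib.Helper23.QuasiFiniteLocus

set_option autoImplicit false
universe u
open Hensel

namespace Groth.Agent.S17595

/-- Suppose (A, I) is a Henselian pair, and R is an A-algebra of finite presentation for which A → R is
quasi-finite at each prime of R that contains IR. Then there is an étale R-algebra R' such that R/IR
→ R'/IR' is bijective and A → R' is quasi-finite. -/
theorem result (A : Type u) [CommRing A] (I : Ideal A) [HenselianRing A I]
    (R : Type u) [CommRing R] [Algebra A R] [Algebra.FinitePresentation A R]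
    (h : ∀ (p : Ideal R) [p.IsPrime], I.map (algebraMap A R) ≤ p → Algebra.QuasiFiniteAt A p)
    : ∃ (R' : Type u) (_ : CommRing R') (_ : Algebra R R') (_ : Algebra A R') (_ : IsScalarTower A R R'),
      Algebra.Etale R R' ∧
      Function.Bijective (Ideal.quotientMap ((I.map (algebraMap A R)).map (algebraMap R R'))
        (algebraMap R R') Ideal.le_comap_map) ∧ Algebra.QuasiFinite A R' := by
  classical
  have hU : IsOpen (Groth.Agent.Lib.Helper23.quasiFiniteLocus A R) :=
    Groth.Agent.Lib.Helper23.isOpen_quasiFiniteLocus
  have hIU : PrimeSpectrum.zeroLocus ((I.map (algebraMap A R) : Ideal R) : Set R) ⊆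
      Groth.Agent.Lib.Helper23.quasiFiniteLocus A R := fun p hp => h p.asIdeal hp
  obtain ⟨f, hf, hfU⟩ :=
    Groth.Agent.Lib.Helper23.exists_sub_one_mem_basicOpen_subset _ _ hU hIU
  refine ⟨Localization.Away f, inferInstance, inferInstance, inferInstance, inferInstance,
    ?_, ?_, ?_⟩
  · exact Algebra.Etale.of_isLocalizationAway f
  · exact Groth.Agent.Lib.Helper23.quotientMap_away_bijective _ f hf _
  · exact Groth.Agent.Lib.Helper23.quasiFinite_away_of_basicOpen_subset f hfU _

end Groth.Agent.S17595
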