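import Groth.Statements.S17596
-- import your own Groth.Agent.* helpers here
import Groth.Agent.Lib.Helper58.PairHensFinite

set_option autoImplicit false
universe u
open Hensel

namespace Groth.Agent.S17596

/-- Let (A, I) be a Henselian pair and let B be a Henselization of the pair (R, IR) for a finitely
presented A-algebra R (that is, A → B is a Henselian finitely presented map of Henselian pairs). If
the induced map A/I → B/IB is module-finite, then B is module-finite and finitely presented over A. -/
theorem result (A : Type u) [CommRing A] (I : Ideal A)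
    [HenselianRing A I] (R : Type u) [CommRing R] [Algebra A R] [Algebra.FinitePresentation A R]
    (B : Type u) [CommRing B] [Algebra R B] [Algebra A B] [IsScalarTower A R B]
    (hB : Hens2.IsPairHenselization R (I.map (algebraMap A R)) B)
    (hfin : (Ideal.quotientMap (I.map (algebraMap A B)) (algebraMap A B) Ideal.le_comap_map).Finite) :
    Module.Finite A B ∧ Algebra.FinitePresentation A B := by
  have hft : Algebra.FiniteType A R := inferInstance
  -- `B / I B` is finite over `A`
  have h1 : ((Ideal.quotientMap (I.map (algebraMap A B)) (algebraMap A B)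
      Ideal.le_comap_map).comp (Ideal.Quotient.mk I)).Finite :=
    RingHom.Finite.comp hfin (RingHom.Finite.of_surjective _ Ideal.Quotient.mk_surjective)
  have h2 : Module.Finite A (B ⧸ I.map (algebraMap A B)) := by
    rw [← RingHom.finite_algebraMap]
    exact h1
  -- `R / I R ≃ B / I B`
  have hIB : (I.map (algebraMap A R)).map (algebraMap R B) = I.map (algebraMap A B) := by
    rw [Ideal.map_map, ← IsScalarTower.algebraMap_eq]
  have hle : I.map (algebraMap A R) ≤
      (I.map (algebraMap A B)).comap (IsScalarTower.toAlgHom A R B) := by
    rw [← Ideal.map_le_iff_le_comap]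
    change Ideal.map (algebraMap R B) _ ≤ _
    rw [hIB]
  have hb := Groth.Agent.Lib.Helper58.PairHens.quotientMap_bijective_one _ hB
  have hb' := Groth.Agent.Lib.Helper58.PairHens.quotientMap_bijective_congr (algebraMap R B) rfl hIB
    Ideal.le_comap_map hle hb
  let e₀ : (R ⧸ I.map (algebraMap A R)) ≃ₐ[A] (B ⧸ I.map (algebraMap A B)) :=
    AlgEquiv.ofBijective (Ideal.quotientMapₐ _ (IsScalarTower.toAlgHom A R B) hle) hb'
  have h3 : Module.Finite A (R ⧸ I.map (algebraMap A R)) :=
    Module.Finite.equiv e₀.symm.toLinearEquiv
  obtain ⟨e, he, he1, hfinR, ⟨ψ⟩⟩ :=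
    Groth.Agent.Lib.Helper58.PairHens.exists_algEquiv_quotient_idempotent I R B hB
  have hfpq : Algebra.FinitePresentation R (R ⧸ Ideal.span {1 - e}) :=
    Algebra.FinitePresentation.quotient ⟨{1 - e}, by simp⟩
  have hfpA : Algebra.FinitePresentation A (R ⧸ Ideal.span {1 - e}) :=
    Algebra.FinitePresentation.trans A R _
  constructor
  · exact Module.Finite.equiv (ψ.symm.restrictScalars A).toLinearEquiv
  · exact Algebra.FinitePresentation.equiv (ψ.symm.restrictScalars A)

end Groth.Agent.S17596
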