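import Groth.Statements.S17597
-- import your own Groth.Agent.* helpers here
import Groth.Agent.Lib.Helper58.HenselPairMulti
import Groth.Agent.Lib.Helper58.PairHensProps

set_option autoImplicit false
universe u
open Hensel

namespace Groth.Agent.S17597

/-- the image of `R` in `B` is contained in the image of `A`. -/
theorem exists_algebraMap_eq (A : Type u) [CommRing A] (I : Ideal A)
    [HenselianRing A I] (R : Type u) [CommRing R] [Algebra A R] [Algebra.FiniteType A R]
    (B : Type u) [CommRing B] [Algebra R B] [Algebra A B] [IsScalarTower A R B]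
    (hB : Hens2.IsPairHenselization R (I.map (algebraMap A R)) B)
    (hsurj : Function.Surjective
      (Ideal.quotientMap (I.map (algebraMap A B)) (algebraMap A B) Ideal.le_comap_map))
    (r : R) : ∃ a : A, algebraMap A B a = algebraMap R B r := by
  obtain ⟨n, f, hf⟩ := Algebra.FiniteType.iff_quotient_mvPolynomial''.mp
    (inferInstance : Algebra.FiniteType A R)
  have hIB : (I.map (algebraMap A R)).map (algebraMap R B) = I.map (algebraMap A B) := by
    rw [Ideal.map_map, ← IsScalarTower.algebraMap_eq]
  have hmod : ∀ r : R, ∃ a : A, r - algebraMap A R a ∈ I.map (algebraMap A R) := by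
    intro r
    obtain ⟨y, hy⟩ := hsurj (Ideal.Quotient.mk _ (algebraMap R B r))
    obtain ⟨a, rfl⟩ := Ideal.Quotient.mk_surjective y
    rw [Ideal.quotientMap_mk, Ideal.Quotient.eq] at hy
    refine ⟨a, ?_⟩
    have hinj := (Groth.Agent.Lib.Helper58.PairHens.quotientMap_pow_bijective hB 1).1
    have h1 : algebraMap R B (r - algebraMap A R a) ∈
        ((I.map (algebraMap A R)) ^ 1).map (algebraMap R B) := by
      rw [pow_one, hIB, map_sub, ← IsScalarTower.algebraMap_apply]
      have := Ideal.neg_mem_iff _ |>.mpr hy
      rwa [neg_sub] at this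
    have h2 : Ideal.Quotient.mk ((I.map (algebraMap A R)) ^ 1) (r - algebraMap A R a) = 0 := by
      apply hinj
      rw [Ideal.quotientMap_mk, map_zero]
      exact Ideal.Quotient.eq_zero_iff_mem.mpr h1
    have := Ideal.Quotient.eq_zero_iff_mem.mp h2
    rwa [pow_one] at this
  let x : Fin n → R := fun i => f (MvPolynomial.X i)
  choose a ha using fun i => hmod (x i)
  have hmapf : I.map (algebraMap A R) =
      (I.map (MvPolynomial.C : A →+* MvPolynomial (Fin n) A)).map f.toRingHom := by
    rw [Ideal.map_map]
    congr 1
    ext t
    simp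
  have hex : ∀ i, ∃ h ∈ I.map (MvPolynomial.C : A →+* MvPolynomial (Fin n) A),
      f h = x i - algebraMap A R (a i) := by
    intro i
    have := ha i
    rw [hmapf] at this
    exact (Ideal.mem_map_iff_of_surjective f.toRingHom hf).mp this
  choose h hh hfh using hex
  obtain ⟨a', ha', heval, huniq⟩ :=
    Groth.Agent.Lib.Helper58.HenselPair.exists_solution_of_system.{u, u} I n a h hh
  let c : Fin n → B := fun i => algebraMap R B (x i)
  have haev : ∀ p : MvPolynomial (Fin n) A, MvPolynomial.aeval c p = algebraMap R B (f p) := by
    intro p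
    have : (MvPolynomial.aeval c : MvPolynomial (Fin n) A →ₐ[A] B) =
        (IsScalarTower.toAlgHom A R B).comp f := by
      apply MvPolynomial.algHom_ext
      intro i
      rw [MvPolynomial.aeval_X]
      rfl
    rw [this]
    rfl
  have hc : ∀ i, MvPolynomial.aeval c
      (MvPolynomial.X i - MvPolynomial.C (a i) - h i) = 0 := by
    intro i
    rw [haev]
    have h0 : f (MvPolynomial.C (a i)) = algebraMap A R (a i) := by
      rw [← MvPolynomial.algebraMap_eq, AlgHom.commutes]
    have h1 : f (MvPolynomial.X i - MvPolynomial.C (a i) - h i) = 0 := by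
      rw [map_sub f, map_sub f, h0]
      change x i - algebraMap A R (a i) - f (h i) = 0
      rw [hfh, sub_self]
    rw [h1, map_zero]
  have hBjac : I.map (algebraMap A B) ≤ Ideal.jacobson ⊥ := by
    rw [← hIB]
    have := hB.1
    exact HenselianRing.jac
  have hca := huniq B hBjac c hc
  obtain ⟨p, rfl⟩ := hf r
  refine ⟨MvPolynomial.eval a' p, ?_⟩
  rw [← haev]
  have : c = fun i => algebraMap A B (a' i) := funext hca
  rw [this]
  have := MvPolynomial.aeval_algebraMap_apply (A := A) (B := B) a' p
  rw [Function.comp_def] at this
  rw [this, MvPolynomial.aeval_eq_eval]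

/-- Let (A, I) be a Henselian pair and let B be a Henselization of the pair (R, IR) for a finitely
presented A-algebra R (so A → B is Henselian finitely presented). If the induced map A/I → B/IB is
surjective, then A → B is surjective. -/
theorem result (A : Type u) [CommRing A] (I : Ideal A)
    [HenselianRing A I] (R : Type u) [CommRing R] [Algebra A R] [Algebra.FinitePresentation A R]
    (B : Type u) [CommRing B] [Algebra R B] [Algebra A B] [IsScalarTower A R B]
    (hB : Hens2.IsPairHenselization R (I.map (algebraMap A R)) B)
    (hsurj : Function.Surjective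
      (Ideal.quotientMap (I.map (algebraMap A B)) (algebraMap A B) Ideal.le_comap_map)) :
    Function.Surjective (algebraMap A B) := by
  have hft : Algebra.FiniteType A R := inferInstance
  have h1 := exists_algebraMap_eq A I R B hB hsurj
  -- the image of `A` in `B`
  let A' : Subring B := (algebraMap A B).range
  let π : R →+* A' := (algebraMap R B).codRestrict A' (fun r => by
    obtain ⟨a, ha⟩ := h1 r
    exact ⟨a, ha⟩)
  let ρ : A →+* A' := (algebraMap A B).rangeRestrict
  have hρ : Function.Surjective ρ := (algebraMap A B).rangeRestrict_surjective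
  let _ : Algebra A A' := ρ.toAlgebra
  have _ : Algebra.IsIntegral A A' := Algebra.isIntegral_of_surjective hρ
  have hhens : HenselianRing A' (I.map (algebraMap A A')) :=
    Groth.Agent.Lib.Helper58.HenselPair.henselian_of_isIntegral (A := A) (I := I) A'
  have hπρ : π.comp (algebraMap A R) = ρ := by
    ext a
    change algebraMap R B (algebraMap A R a) = algebraMap A B a
    rw [← IsScalarTower.algebraMap_apply]
  have hle : (I.map (algebraMap A R)).map π ≤ I.map (algebraMap A A') := by
    rw [Ideal.map_map, hπρ]
    exact le_of_eq rfl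
  obtain ⟨g, hg, -⟩ := hB.2 A' _ π hhens hle
  obtain ⟨k, -, hk⟩ := hB.2 B _ (algebraMap R B) hB.1 le_rfl
  have e1 : RingHom.id B = k := hk _ (by ext; rfl)
  have e2 : (A'.subtype.comp g) = k := hk _ (by
    change (A'.subtype.comp g).comp (algebraMap R B) = algebraMap R B
    rw [RingHom.comp_assoc, hg]
    ext r
    rfl)
  intro b
  have hb : A'.subtype (g b) = b := by
    have := congrArg (fun φ : B →+* B => φ b) (e2.trans e1.symm)
    exact this
  obtain ⟨a, ha⟩ := (g b).2
  exact ⟨a, ha.trans hb⟩

end Groth.Agent.S17597
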