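import Groth.Statements.S17609
-- import your own Groth.Agent.* helpers here
import Groth.Agent.Lib.Helper58.PairHensFactor

set_option autoImplicit false
universe u
open Hensel

namespace Groth.Agent.S17609

/-- ring homs out of a tensor product of algebras agree if they agree on both factors. -/
theorem tensor_ringHom_ext {R B S D : Type*} [CommRing R] [CommRing B] [CommRing S] [CommRing D]
    [Algebra R B] [Algebra R S] (f g : TensorProduct R B S →+* D)
    (h1 : ∀ b : B, f (b ⊗ₜ[R] 1) = g (b ⊗ₜ[R] 1))
    (h2 : ∀ s : S, f (1 ⊗ₜ[R] s) = g (1 ⊗ₜ[R] s)) : f = g := by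
  refine RingHom.ext fun x => ?_
  induction x using TensorProduct.induction_on with
  | zero => rw [map_zero, map_zero]
  | tmul b s =>
    have : b ⊗ₜ[R] s = (b ⊗ₜ[R] (1 : S)) * ((1 : B) ⊗ₜ[R] s) := by
      rw [Algebra.TensorProduct.tmul_mul_tmul, mul_one, one_mul]
    rw [this, map_mul, map_mul, h1, h2]
  | add x y hx hy => rw [map_add, map_add, hx, hy]

/-- Let (A, I) be a Henselian pair and let B, C be Henselizations of the pairs (R, IR), (S, IS) for
finitely presented A-algebras R and S, with their induced A-algebra structures (so A → B and A → C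
are Henselian finitely presented). Then every A-algebra map B → C (encoded as a B-algebra structure
on C compatible with that of A) is Henselian finitely presented: there are a finitely presented
B-algebra T and a T-algebra structure on C compatible with that of B for which C is a Henselization
of the pair (T, IBT). -/
theorem result (A : Type u) [CommRing A] (I : Ideal A) [HenselianRing A I]
    (R : Type u) [CommRing R] [Algebra A R] [Algebra.FinitePresentation A R]
    (B : Type u) [CommRing B] [Algebra R B] [Algebra A B] [IsScalarTower A R B]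
    (hB : Hens2.IsPairHenselization R (I.map (algebraMap A R)) B)
    (S : Type u) [CommRing S] [Algebra A S] [Algebra.FinitePresentation A S]
    (C : Type u) [CommRing C] [Algebra S C] [Algebra A C] [IsScalarTower A S C]
    (hC : Hens2.IsPairHenselization S (I.map (algebraMap A S)) C)
    [Algebra B C] [IsScalarTower A B C] :
    ∃ (T : Type u) (_ : CommRing T) (_ : Algebra B T) (_ : Algebra T C) (_ : IsScalarTower B T C),
      Algebra.FinitePresentation B T ∧
      Hens2.IsPairHenselization T ((I.map (algebraMap A B)).map (algebraMap B T)) C := by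
  let χ : R →ₐ[A] C := (IsScalarTower.toAlgHom A B C).comp (IsScalarTower.toAlgHom A R B)
  obtain ⟨S', _, _, hEt, hb, φ, ρ, hρA, hρχ⟩ :=
    Groth.Agent.Lib.Helper58.PairHens.exists_factor_nbhd hC (Λ := A) R χ
  let _ : Algebra A S' := ((algebraMap S S').comp (algebraMap A S)).toAlgebra
  have _ : IsScalarTower A S S' := IsScalarTower.of_algebraMap_eq (fun _ => rfl)
  let _ : Algebra S' C := φ.toRingHom.toAlgebra
  have _ : IsScalarTower S S' C := IsScalarTower.of_algebraMap_eq (fun s => (φ.commutes s).symm)
  have _ : IsScalarTower A S' C := IsScalarTower.of_algebraMap_eq (fun a => by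
    change algebraMap A C a = φ (algebraMap S S' (algebraMap A S a))
    rw [φ.commutes, ← IsScalarTower.algebraMap_apply])
  let _ : Algebra R S' := ρ.toAlgebra
  have _ : IsScalarTower A R S' := IsScalarTower.of_algebraMap_eq (fun a => (hρA a).symm)
  let _ : Algebra R C := ((algebraMap B C).comp (algebraMap R B)).toAlgebra
  have _ : IsScalarTower R B C := IsScalarTower.of_algebraMap_eq (fun _ => rfl)
  have _ : IsScalarTower R S' C := IsScalarTower.of_algebraMap_eq (fun r => (hρχ r).symm)
  have hC' : Hens2.IsPairHenselization S' ((I.map (algebraMap A S)).map (algebraMap S S')) C :=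
    Groth.Agent.Lib.Helper58.PairHens.isPairHenselization_nbhd hb hC
  have hIS' : (I.map (algebraMap A S)).map (algebraMap S S') = I.map (algebraMap A S') := by
    rw [Ideal.map_map, ← IsScalarTower.algebraMap_eq]
  rw [hIS'] at hC'
  -- finite presentation
  have hfpS' : Algebra.FinitePresentation S S' := inferInstance
  have hfpAS' : Algebra.FinitePresentation A S' := Algebra.FinitePresentation.trans A S S'
  have hftR : Algebra.FiniteType A R := inferInstance
  have hfpRS' : Algebra.FinitePresentation R S' :=
    Algebra.FinitePresentation.of_restrict_scalars_finitePresentation (R := A) (A := R) (B := S')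
  -- the tensor product
  let μ : TensorProduct R B S' →ₐ[B] C :=
    Algebra.TensorProduct.lift (Algebra.ofId B C) (IsScalarTower.toAlgHom R S' C)
      (fun _ _ => Commute.all _ _)
  let _ : Algebra (TensorProduct R B S') C := μ.toRingHom.toAlgebra
  have hμ : ∀ t, algebraMap (TensorProduct R B S') C t = μ t := fun _ => rfl
  have _ : IsScalarTower B (TensorProduct R B S') C :=
    IsScalarTower.of_algebraMap_eq (fun b => (μ.commutes b).symm)
  have hμl : ∀ b : B, μ (b ⊗ₜ[R] (1 : S')) = algebraMap B C b := by
    intro b
    simp [μ]
  have hμr : ∀ s : S', μ ((1 : B) ⊗ₜ[R] s) = algebraMap S' C s := by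
    intro s
    simp [μ]
  have halgT : ∀ a : A, algebraMap B (TensorProduct R B S') (algebraMap A B a) =
      (1 : B) ⊗ₜ[R] (algebraMap A S' a) := by
    intro a
    rw [Algebra.TensorProduct.algebraMap_apply, Algebra.algebraMap_self, RingHom.id_apply,
      IsScalarTower.algebraMap_apply A R B, IsScalarTower.algebraMap_apply A R S',
      Algebra.algebraMap_eq_smul_one (algebraMap A R a), Algebra.algebraMap_eq_smul_one (A := S'),
      TensorProduct.smul_tmul]
  refine ⟨TensorProduct R B S', inferInstance, inferInstance, inferInstance, inferInstance,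
    inferInstance, ?_, ?_⟩
  · -- henselian
    have e1 : ((I.map (algebraMap A B)).map (algebraMap B (TensorProduct R B S'))).map
        (algebraMap (TensorProduct R B S') C) = I.map (algebraMap A C) := by
      rw [Ideal.map_map, Ideal.map_map, ← IsScalarTower.algebraMap_eq,
        ← IsScalarTower.algebraMap_eq]
    have e2 : (I.map (algebraMap A S')).map (algebraMap S' C) = I.map (algebraMap A C) := by
      rw [Ideal.map_map, ← IsScalarTower.algebraMap_eq]
    rw [e1, ← e2]
    exact hC'.1
  · intro D _ J f hD hle
    have hfa : ∀ a ∈ I, f (algebraMap B (TensorProduct R B S') (algebraMap A B a)) ∈ J := by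
      intro a ha
      exact hle (Ideal.mem_map_of_mem f (Ideal.mem_map_of_mem _ (Ideal.mem_map_of_mem _ ha)))
    let fS : S' →+* D := f.comp (Algebra.TensorProduct.includeRight : S' →ₐ[R] _).toRingHom
    have hfS : ∀ s, fS s = f ((1 : B) ⊗ₜ[R] s) := fun _ => rfl
    have hleS : (I.map (algebraMap A S')).map fS ≤ J := by
      rw [Ideal.map_map, Ideal.map_le_iff_le_comap]
      intro a ha
      rw [Ideal.mem_comap, RingHom.comp_apply, hfS, ← halgT]
      exact hfa a ha
    obtain ⟨g, hg, hguniq⟩ := hC'.2 D J fS hD hleS
    have hg' : ∀ s, g (algebraMap S' C s) = f ((1 : B) ⊗ₜ[R] s) := fun s =>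
      congrArg (fun ρ : S' →+* D => ρ s) hg
    -- the two maps `B → D`
    let fR : R →+* D := (f.comp (algebraMap B (TensorProduct R B S'))).comp (algebraMap R B)
    have hleR : (I.map (algebraMap A R)).map fR ≤ J := by
      rw [Ideal.map_map, Ideal.map_le_iff_le_comap]
      intro a ha
      rw [Ideal.mem_comap]
      change f (algebraMap B (TensorProduct R B S') (algebraMap R B (algebraMap A R a))) ∈ J
      rw [← IsScalarTower.algebraMap_apply A R B]
      exact hfa a ha
    obtain ⟨k, -, hkuniq⟩ := hB.2 D J fR hD hleR
    have hk1 : f.comp (algebraMap B (TensorProduct R B S')) = k := hkuniq _ rfl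
    have hk2 : g.comp (algebraMap B C) = k := hkuniq _ (by
      refine RingHom.ext fun r => ?_
      change g (algebraMap B C (algebraMap R B r)) =
        f (algebraMap B (TensorProduct R B S') (algebraMap R B r))
      have h1 : algebraMap B C (algebraMap R B r) = algebraMap S' C (algebraMap R S' r) := by
        rw [← IsScalarTower.algebraMap_apply R B C, ← IsScalarTower.algebraMap_apply R S' C]
      rw [h1, hg']
      congr 1
      rw [Algebra.TensorProduct.algebraMap_apply, Algebra.algebraMap_self, RingHom.id_apply,
        Algebra.algebraMap_eq_smul_one (A := B) r, Algebra.algebraMap_eq_smul_one (A := S') r,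
        TensorProduct.smul_tmul])
    have hgf : g.comp (algebraMap (TensorProduct R B S') C) = f := by
      apply tensor_ringHom_ext
      · intro b
        rw [RingHom.comp_apply, hμ, hμl]
        have := congrArg (fun ρ : B →+* D => ρ b) (hk2.trans hk1.symm)
        simp only [RingHom.comp_apply] at this
        rw [this, Algebra.TensorProduct.algebraMap_apply, Algebra.algebraMap_self,
          RingHom.id_apply]
      · intro s
        rw [RingHom.comp_apply, hμ, hμr, hg']
    refine ⟨g, hgf, ?_⟩
    intro g' hg'f
    apply hguniq
    refine RingHom.ext fun s => ?_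
    have := congrArg (fun ρ : TensorProduct R B S' →+* D => ρ ((1 : B) ⊗ₜ[R] s)) hg'f
    simp only [RingHom.comp_apply] at this
    rw [hμ, hμr] at this
    exact this

end Groth.Agent.S17609
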