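import Groth.Statements.S17600
-- import your own Groth.Agent.* helpers here
import Groth.Agent.Lib.Helper58.FlatKer
import Groth.Agent.Lib.Helper58.EtaleLiftQuot
import Groth.Agent.Lib.Helper58.PairHensNbhd
import Groth.Agent.S17609
import Groth.Agent.S17597
import Groth.Agent.S17596

set_option autoImplicit false
universe u
open Hensel

namespace Groth.Agent.S17600

open Groth.Agent.Lib.Helper58.PairHens in
/-- Core comparison: let `(A, I)` be henselian, `B` a henselization of `(R₀, I R₀)` with `R₀`
finitely presented, `E` an étale `A`-algebra with an `A`-algebra map `τ : E → B` such that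
`E / I E → B / I B` is bijective.  Then the induced map `H → B` from the henselization `H` of
`(E, I E)` is surjective with finitely generated kernel contained in `I H`. -/
theorem exists_surjective_of_etale (A : Type u) [CommRing A] (I : Ideal A)
    [HenselianRing A I] (R₀ : Type u) [CommRing R₀] [Algebra A R₀] [Algebra.FinitePresentation A R₀]
    (B : Type u) [CommRing B] [Algebra R₀ B] [Algebra A B] [IsScalarTower A R₀ B]
    (hB : Hens2.IsPairHenselization R₀ (I.map (algebraMap A R₀)) B)
    (E : Type u) [CommRing E] [Algebra A E] [Algebra.Etale A E] [Algebra E B] [IsScalarTower A E B]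
    (hinj : ∀ z : E, algebraMap E B z ∈ I.map (algebraMap A B) → z ∈ I.map (algebraMap A E))
    (hsurj : ∀ b : B, ∃ z : E, b - algebraMap E B z ∈ I.map (algebraMap A B))
    (H : Type u) [CommRing H] [Algebra E H] [Algebra A H] [IsScalarTower A E H]
    (hH : Hens2.IsPairHenselization E (I.map (algebraMap A E)) H)
    [Algebra H B] [IsScalarTower E H B] [IsScalarTower A H B] :
    Function.Surjective (algebraMap H B) ∧ (RingHom.ker (algebraMap H B)).FG ∧
      (∀ h : H, algebraMap H B h ∈ I.map (algebraMap A B) → h ∈ I.map (algebraMap A H)) := by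
  have hIH : (I.map (algebraMap A E)).map (algebraMap E H) = I.map (algebraMap A H) := by
    rw [Ideal.map_map, ← IsScalarTower.algebraMap_eq]
  have hIHB : (I.map (algebraMap A H)).map (algebraMap H B) = I.map (algebraMap A B) := by
    rw [Ideal.map_map, ← IsScalarTower.algebraMap_eq]
  have hhensH : HenselianRing H (I.map (algebraMap A H)) := by
    have := hH.1
    rwa [hIH] at this
  -- `E / I E → H / I H` bijective
  have hbEH := (quotMap_bijective_iff.1 (quotientMap_bijective_one _ hH))
  -- (i) `H / I H → B / I B` is bijective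
  have hinjH : ∀ h : H, algebraMap H B h ∈ I.map (algebraMap A B) → h ∈ I.map (algebraMap A H) := by
    intro h hh
    obtain ⟨z, hz⟩ := hbEH.2 h
    rw [hIH] at hz
    have h1 : algebraMap E B z ∈ I.map (algebraMap A B) := by
      have h2 : algebraMap H B (h - algebraMap E H z) ∈ I.map (algebraMap A B) := by
        rw [← hIHB]
        exact Ideal.mem_map_of_mem _ hz
      rw [map_sub, ← IsScalarTower.algebraMap_apply E H B] at h2
      have := Ideal.sub_mem _ hh h2
      rwa [sub_sub_cancel] at this
    have h3 : algebraMap E H z ∈ I.map (algebraMap A H) := by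
      rw [← hIH]
      exact Ideal.mem_map_of_mem _ (hinj z h1)
    have := Ideal.add_mem _ hz h3
    rwa [sub_add_cancel] at this
  have hsurjH : ∀ b : B, ∃ h : H, b - algebraMap H B h ∈ (I.map (algebraMap A H)).map (algebraMap H B) := by
    intro b
    obtain ⟨z, hz⟩ := hsurj b
    refine ⟨algebraMap E H z, ?_⟩
    rw [hIHB, ← IsScalarTower.algebraMap_apply E H B]
    exact hz
  have hbij : Function.Bijective (Ideal.quotientMap ((I.map (algebraMap A H)).map (algebraMap H B))
      (algebraMap H B) Ideal.le_comap_map) := by
    rw [quotMap_bijective_iff]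
    refine ⟨fun h hh => hinjH h (by rwa [hIHB] at hh), hsurjH⟩
  -- (ii) `B` is henselian finitely presented over `H`
  obtain ⟨T, _, _, _, _, hfpT, hT⟩ := Groth.Agent.S17609.result A I E H hH R₀ B hB
  have hsurjHB : Function.Surjective (algebraMap H B) :=
    Groth.Agent.S17597.result H (I.map (algebraMap A H)) T B hT hbij.2
  have hfinq : (Ideal.quotientMap ((I.map (algebraMap A H)).map (algebraMap H B))
      (algebraMap H B) Ideal.le_comap_map).Finite :=
    RingHom.Finite.of_surjective _ hbij.2
  obtain ⟨-, hfpB⟩ := Groth.Agent.S17596.result H (I.map (algebraMap A H)) T B hT hfinq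
  have hfg : (RingHom.ker (algebraMap H B)).FG := by
    have := Algebra.FinitePresentation.ker_fG_of_surjective (Algebra.ofId H B) hsurjHB
    exact this
  exact ⟨hsurjHB, hfg, hinjH⟩

/-- Let (A, I) be a Henselian pair and let B be a Henselization of the pair (R₀, IR₀) for a finitely
presented A-algebra R₀ (so A → B is Henselian finitely presented). If B is flat over A and A/I^r →
B/I^rB is étale for every r ≥ 1 (the h-formally étale property, in its equivalent form for Henselian
finitely presented maps), then A → B is h-étale: there is an étale A-algebra R, with an R-algebra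
structure on B compatible with that of A, such that B is a Henselization of the pair (R, IR). -/
theorem result (A : Type u) [CommRing A] (I : Ideal A)
    [HenselianRing A I] (R₀ : Type u) [CommRing R₀] [Algebra A R₀] [Algebra.FinitePresentation A R₀]
    (B : Type u) [CommRing B] [Algebra R₀ B] [Algebra A B] [IsScalarTower A R₀ B]
    (hB : Hens2.IsPairHenselization R₀ (I.map (algebraMap A R₀)) B) [Module.Flat A B]
    (het : ∀ r : ℕ, 1 ≤ r → Algebra.Etale (A ⧸ I ^ r) (B ⧸ (I ^ r).map (algebraMap A B))) :
    ∃ (R : Type u) (_ : CommRing R) (_ : Algebra A R) (_ : Algebra R B) (_ : IsScalarTower A R B),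
      Algebra.Etale A R ∧ Hens2.IsPairHenselization R (I.map (algebraMap A R)) B := by
  classical
  -- Step 1: lift the étale algebra `B / I B`
  have hpow : I ^ 1 = I := pow_one I
  have hEtC := het 1 le_rfl
  have hST : IsScalarTower A (A ⧸ I ^ 1) (B ⧸ (I ^ 1).map (algebraMap A B)) :=
    IsScalarTower.of_algebraMap_eq (fun _ => rfl)
  obtain ⟨E, _, _, hEt, π, hπsurj, hπker⟩ :=
    Groth.Agent.Lib.Helper58.EtaleLift.exists_etale_lift_quotient (I ^ 1)
      (B ⧸ (I ^ 1).map (algebraMap A B))
  -- Step 2: lift `π` to `τ : E → B`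
  have hIB : (I.map (algebraMap A R₀)).map (algebraMap R₀ B) = (I ^ 1).map (algebraMap A B) := by
    rw [Ideal.map_map, ← IsScalarTower.algebraMap_eq, hpow]
  have hhensB : HenselianRing B ((I ^ 1).map (algebraMap A B)) := by
    have := hB.1
    rwa [hIB] at this
  obtain ⟨τ, hτ⟩ := Groth.Agent.Lib.Helper58.HenselPair.exists_etale_lift_rel (R := A) (S := E)
    ((I ^ 1).map (algebraMap A B)) π
  have hτ' : ∀ z : E, Ideal.Quotient.mk ((I ^ 1).map (algebraMap A B)) (τ z) = π z := fun z =>
    AlgHom.congr_fun hτ z
  let _ : Algebra E B := τ.toRingHom.toAlgebra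
  have hτalg : ∀ z, algebraMap E B z = τ z := fun _ => rfl
  have _ : IsScalarTower A E B := IsScalarTower.of_algebraMap_eq (fun a => (τ.commutes a).symm)
  -- Step 3: the henselization of `(E, I E)`
  let H := Groth.Agent.Lib.Helper58.PairHens.Hp E (I.map (algebraMap A E))
  have hH : Hens2.IsPairHenselization E (I.map (algebraMap A E)) H :=
    Groth.Agent.Lib.Helper58.PairHens.Hp.isPairHenselization E (I.map (algebraMap A E))
  let _ : Algebra A H := ((algebraMap E H).comp (algebraMap A E)).toAlgebra
  have _ : IsScalarTower A E H := IsScalarTower.of_algebraMap_eq (fun _ => rfl)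
  have hIEB : (I.map (algebraMap A E)).map (algebraMap E B) = (I ^ 1).map (algebraMap A B) := by
    rw [Ideal.map_map, ← IsScalarTower.algebraMap_eq, hpow]
  obtain ⟨ψ, -⟩ := Groth.Agent.Lib.Helper58.PairHens.exists_algHom_of_isPairHenselization hH B
    ((I ^ 1).map (algebraMap A B)) hhensB (le_of_eq hIEB)
  let _ : Algebra H B := ψ.toRingHom.toAlgebra
  have hψalg : ∀ h, algebraMap H B h = ψ h := fun _ => rfl
  have _ : IsScalarTower E H B := IsScalarTower.of_algebraMap_eq (fun z => (ψ.commutes z).symm)
  have _ : IsScalarTower A H B := IsScalarTower.of_algebraMap_eq (fun a => by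
    change algebraMap A B a = ψ (algebraMap E H (algebraMap A E a))
    rw [ψ.commutes, ← IsScalarTower.algebraMap_apply])
  -- hypotheses of the core lemma
  have hinj : ∀ z : E, algebraMap E B z ∈ I.map (algebraMap A B) → z ∈ I.map (algebraMap A E) := by
    intro z hz
    have h1 : π z = 0 := by
      rw [← hτ', Ideal.Quotient.eq_zero_iff_mem, hpow]
      exact hz
    have := hπker z h1
    rwa [hpow] at this
  have hsurj : ∀ b : B, ∃ z : E, b - algebraMap E B z ∈ I.map (algebraMap A B) := by
    intro b
    obtain ⟨z, hz⟩ := hπsurj (Ideal.Quotient.mk _ b)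
    refine ⟨z, ?_⟩
    rw [← hτ', Ideal.Quotient.eq, hpow] at hz
    have := Ideal.neg_mem_iff _ |>.mpr hz
    rwa [neg_sub] at this
  obtain ⟨hsurjHB, hfg, hinjH⟩ := exists_surjective_of_etale A I R₀ B hB E hinj hsurj H hH
  -- injectivity by flatness and Nakayama
  have hIH : (I.map (algebraMap A E)).map (algebraMap E H) = I.map (algebraMap A H) := by
    rw [Ideal.map_map, ← IsScalarTower.algebraMap_eq]
  have hjacH : I.map (algebraMap A H) ≤ Ideal.jacobson ⊥ := by
    have := hH.1
    rw [hIH] at this
    exact HenselianRing.jac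
  let ψA : H →ₐ[A] B := IsScalarTower.toAlgHom A H B
  have hker_le : RingHom.ker (algebraMap H B) ≤
      I.map (algebraMap A H) • RingHom.ker (algebraMap H B) := by
    intro x hx
    have hx0 : ψA x = 0 := hx
    have hxI : x ∈ I.map (algebraMap A H) := hinjH x (by
      rw [show algebraMap H B x = 0 from hx]; exact Ideal.zero_mem _)
    have := Groth.Agent.Lib.Helper58.FlatKer.ker_inf_map_le_of_flat I ψA hsurjHB hx0 hxI
    exact this
  have hker_bot : RingHom.ker (algebraMap H B) = ⊥ :=
    Submodule.eq_bot_of_le_smul_of_le_jacobson_bot (I.map (algebraMap A H))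
      (RingHom.ker (algebraMap H B)) hfg hker_le hjacH
  have hinjHB : Function.Injective (algebraMap H B) :=
    (RingHom.injective_iff_ker_eq_bot _).mpr hker_bot
  let e : H ≃ₐ[E] B := AlgEquiv.ofBijective ψ ⟨hinjHB, hsurjHB⟩
  exact ⟨E, inferInstance, inferInstance, inferInstance, inferInstance, hEt,
    Groth.Agent.Lib.Helper58.PairHens.isPairHenselization_of_algEquiv e hH⟩

end Groth.Agent.S17600
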