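import Groth.Statements.S17598
-- import your own Groth.Agent.* helpers here
import Groth.Agent.S17600

set_option autoImplicit false
universe u
open Hensel

namespace Groth.Agent.S17598

/-- nilpotent Nakayama without finiteness. -/
theorem eq_bot_of_le_smul_of_pow_eq_bot {R M : Type*} [CommRing R] [AddCommGroup M] [Module R M]
    (J : Ideal R) (N : Submodule R M) (h : N ≤ J • N) (n : ℕ) (hn : J ^ n = ⊥) : N = ⊥ := by
  have key : ∀ m : ℕ, N ≤ J ^ m • N := by
    intro m
    induction m with
    | zero => rw [pow_zero, Ideal.one_eq_top, Submodule.top_smul]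
    | succ m ih =>
      calc N ≤ J • N := h
        _ ≤ J • (J ^ m • N) := Submodule.smul_mono le_rfl ih
        _ = J ^ (m + 1) • N := by rw [← Submodule.mul_smul, ← pow_succ']
  have := key n
  rw [hn, Submodule.bot_smul] at this
  exact le_bot_iff.mp this

/-- If `ψ : H → B` is a surjective `A`-algebra map, `B / I^n B` is flat over `A / I^n`, and
`ψ h ∈ I B → h ∈ I H`, then `ker ψ ≤ I^n H`. -/
theorem ker_le_map_pow {A : Type u} [CommRing A] (I : Ideal A) {H B : Type u} [CommRing H]
    [CommRing B] [Algebra A H] [Algebra A B] (ψ : H →ₐ[A] B) (hψ : Function.Surjective ψ)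
    (hinj : ∀ h : H, ψ h ∈ I.map (algebraMap A B) → h ∈ I.map (algebraMap A H))
    (n : ℕ) (hfl : 0 < n → Module.Flat (A ⧸ I ^ n) (B ⧸ (I ^ n).map (algebraMap A B))) :
    RingHom.ker ψ.toRingHom ≤ (I ^ n).map (algebraMap A H) := by
  rcases Nat.eq_zero_or_pos n with rfl | hn
  · rw [pow_zero, Ideal.one_eq_top, Ideal.map_top]
    exact le_top
  have _ := hfl hn
  set K := I ^ n with hK
  have hle : K.map (algebraMap A H) ≤ (K.map (algebraMap A B)).comap ψ := by
    rw [← Ideal.map_le_iff_le_comap]
    change Ideal.map ψ.toRingHom _ ≤ _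
    rw [Ideal.map_map]
    have : ψ.toRingHom.comp (algebraMap A H) = algebraMap A B := by
      ext a; simp
    rw [this]
  -- the induced map on truncations
  let F₀ : (H ⧸ K.map (algebraMap A H)) →ₐ[A] (B ⧸ K.map (algebraMap A B)) :=
    Ideal.quotientMapₐ _ ψ hle
  let F : (H ⧸ K.map (algebraMap A H)) →ₐ[A ⧸ K] (B ⧸ K.map (algebraMap A B)) :=
    AlgHom.extendScalarsOfSurjective (Ideal.Quotient.mk_surjective (I := K)) F₀
  have hF : ∀ h : H, F (Ideal.Quotient.mk _ h) = Ideal.Quotient.mk _ (ψ h) := fun _ => rfl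
  have hFsurj : Function.Surjective F := by
    intro y
    obtain ⟨b, rfl⟩ := Ideal.Quotient.mk_surjective y
    obtain ⟨h, rfl⟩ := hψ b
    exact ⟨Ideal.Quotient.mk _ h, rfl⟩
  let Jb : Ideal (A ⧸ K) := I.map (Ideal.Quotient.mk K)
  have hJbpow : Jb ^ n = ⊥ := by
    rw [← Ideal.map_pow, ← hK, Ideal.map_quotient_self]
  have hKI : K ≤ I := by
    rw [hK]
    exact Ideal.pow_le_self (Nat.pos_iff_ne_zero.mp hn)
  -- `ker F ≤ Jb • ⊤`
  have hkerF_le : LinearMap.ker F.toLinearMap ≤
      Jb • (⊤ : Submodule (A ⧸ K) (H ⧸ K.map (algebraMap A H))) := by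
    intro y hy
    obtain ⟨h, rfl⟩ := Ideal.Quotient.mk_surjective y
    have h0 : Ideal.Quotient.mk (K.map (algebraMap A B)) (ψ h) = 0 := hy
    have h1 : ψ h ∈ I.map (algebraMap A B) :=
      Ideal.map_mono hKI (Ideal.Quotient.eq_zero_iff_mem.mp h0)
    have h2 := hinj h h1
    -- `h ∈ I H` so `mk h ∈ Jb • ⊤`
    have h3 : ∀ x ∈ I.map (algebraMap A H), Ideal.Quotient.mk (K.map (algebraMap A H)) x ∈
        Jb • (⊤ : Submodule (A ⧸ K) (H ⧸ K.map (algebraMap A H))) := by
      intro x hx
      refine Submodule.span_induction ?_ ?_ ?_ ?_ hx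
      · rintro _ ⟨a, ha, rfl⟩
        have : Ideal.Quotient.mk (K.map (algebraMap A H)) (algebraMap A H a) =
            (Ideal.Quotient.mk K a) • (1 : H ⧸ K.map (algebraMap A H)) := by
          rw [Algebra.smul_def, mul_one]
          rfl
        rw [this]
        exact Submodule.smul_mem_smul (Ideal.mem_map_of_mem _ ha) Submodule.mem_top
      · rw [map_zero]; exact Submodule.zero_mem _
      · intro x y _ _ hx hy
        rw [map_add]; exact Submodule.add_mem _ hx hy
      · intro r x _ hx
        rw [smul_eq_mul, map_mul]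
        refine Submodule.smul_induction_on hx ?_ ?_
        · intro j hj t _
          have : Ideal.Quotient.mk (K.map (algebraMap A H)) r * j • t =
              j • (Ideal.Quotient.mk (K.map (algebraMap A H)) r * t) := by
            rw [mul_smul_comm]
          rw [this]
          exact Submodule.smul_mem_smul hj Submodule.mem_top
        · intro t₁ t₂ h₁ h₂
          rw [mul_add]; exact Submodule.add_mem _ h₁ h₂
    exact h3 h h2
  have hflat := Groth.Agent.Lib.Helper58.FlatKer.ker_inf_smul_top_le_of_flat Jb F.toLinearMap hFsurj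
  rw [inf_eq_left.mpr hkerF_le] at hflat
  have hbot := eq_bot_of_le_smul_of_pow_eq_bot Jb _ hflat n hJbpow
  intro x hx
  have h1 : Ideal.Quotient.mk (K.map (algebraMap A H)) x ∈ LinearMap.ker F.toLinearMap := by
    rw [LinearMap.mem_ker]
    change F (Ideal.Quotient.mk _ x) = 0
    rw [hF, show ψ x = 0 from hx, map_zero]
  rw [hbot, Submodule.mem_bot] at h1
  exact Ideal.Quotient.eq_zero_iff_mem.mp h1

/-- an étale `A`-algebra `E` mapping to `B` with `E / I E ≃ B / I B`. -/
theorem exists_etale_model (A : Type u) [CommRing A] (I : Ideal A)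
    [HenselianRing A I] (R₀ : Type u) [CommRing R₀] [Algebra A R₀]
    (B : Type u) [CommRing B] [Algebra R₀ B] [Algebra A B] [IsScalarTower A R₀ B]
    (hB : Hens2.IsPairHenselization R₀ (I.map (algebraMap A R₀)) B)
    (hEtC : Algebra.Etale (A ⧸ I ^ 1) (B ⧸ (I ^ 1).map (algebraMap A B))) :
    ∃ (E : Type u) (_ : CommRing E) (_ : Algebra A E) (_ : Algebra E B) (_ : IsScalarTower A E B),
      Algebra.Etale A E ∧
      (∀ z : E, algebraMap E B z ∈ I.map (algebraMap A B) → z ∈ I.map (algebraMap A E)) ∧
      (∀ b : B, ∃ z : E, b - algebraMap E B z ∈ I.map (algebraMap A B)) := by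
  have hpow : I ^ 1 = I := pow_one I
  have hST : IsScalarTower A (A ⧸ I ^ 1) (B ⧸ (I ^ 1).map (algebraMap A B)) :=
    IsScalarTower.of_algebraMap_eq (fun _ => rfl)
  obtain ⟨E, _, _, hEt, π, hπsurj, hπker⟩ :=
    Groth.Agent.Lib.Helper58.EtaleLift.exists_etale_lift_quotient (I ^ 1)
      (B ⧸ (I ^ 1).map (algebraMap A B))
  have hIB : (I.map (algebraMap A R₀)).map (algebraMap R₀ B) = (I ^ 1).map (algebraMap A B) := by
    rw [Ideal.map_map, ← IsScalarTower.algebraMap_eq, hpow]
  have hhensB : HenselianRing B ((I ^ 1).map (algebraMap A B)) := by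
    have := hB.1
    rwa [hIB] at this
  obtain ⟨τ, hτ⟩ := Groth.Agent.Lib.Helper58.HenselPair.exists_etale_lift_rel (R := A) (S := E)
    ((I ^ 1).map (algebraMap A B)) π
  have hτ' : ∀ z : E, Ideal.Quotient.mk ((I ^ 1).map (algebraMap A B)) (τ z) = π z := fun z =>
    AlgHom.congr_fun hτ z
  let _ : Algebra E B := τ.toRingHom.toAlgebra
  have hST' : IsScalarTower A E B := IsScalarTower.of_algebraMap_eq (fun a => (τ.commutes a).symm)
  refine ⟨E, inferInstance, inferInstance, inferInstance, hST', hEt, ?_, ?_⟩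
  · intro z hz
    have h1 : π z = 0 := by
      rw [← hτ', Ideal.Quotient.eq_zero_iff_mem, hpow]
      exact hz
    have := hπker z h1
    rwa [hpow] at this
  · intro b
    obtain ⟨z, hz⟩ := hπsurj (Ideal.Quotient.mk _ b)
    refine ⟨z, ?_⟩
    rw [← hτ', Ideal.Quotient.eq, hpow] at hz
    have := Ideal.neg_mem_iff _ |>.mpr hz
    rwa [neg_sub] at this

/-- Let (A, I) be a Henselian pair and let B be a Henselization of the pair (R₀, IR₀) for a finitely
presented A-algebra R₀ (so A → B is a Henselian finitely presented map of Henselian pairs). Assume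
that A/I^r → B/I^rB is étale for every r ≥ 1 (for Henselian finitely presented maps this is
equivalent to the h-formally étale lifting property). Then there exist an étale A-algebra R, a
Henselization H of the pair (R, IR) and a surjective A-algebra map H → B whose kernel is a finitely
generated ideal contained in I^n H for every n. -/
theorem result (A : Type u) [CommRing A] (I : Ideal A)
    [HenselianRing A I] (R₀ : Type u) [CommRing R₀] [Algebra A R₀] [Algebra.FinitePresentation A R₀]
    (B : Type u) [CommRing B] [Algebra R₀ B] [Algebra A B] [IsScalarTower A R₀ B]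
    (hB : Hens2.IsPairHenselization R₀ (I.map (algebraMap A R₀)) B)
    (het : ∀ r : ℕ, 1 ≤ r → Algebra.Etale (A ⧸ I ^ r) (B ⧸ (I ^ r).map (algebraMap A B))) :
    ∃ (R : Type u) (_ : CommRing R) (_ : Algebra A R) (H : Type u) (_ : CommRing H) (_ : Algebra R H)
      (_ : Algebra A H) (_ : IsScalarTower A R H),
      Algebra.Etale A R ∧ Hens2.IsPairHenselization R (I.map (algebraMap A R)) H ∧
      ∃ φ : H →ₐ[A] B, Function.Surjective φ ∧ (RingHom.ker φ).FG ∧
        ∀ n : ℕ, RingHom.ker φ ≤ (I ^ n).map (algebraMap A H) := by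
  obtain ⟨E, _, _, _, _, hEt, hinj, hsurj⟩ := exists_etale_model A I R₀ B hB (het 1 le_rfl)
  let H := Groth.Agent.Lib.Helper58.PairHens.Hp E (I.map (algebraMap A E))
  have hH : Hens2.IsPairHenselization E (I.map (algebraMap A E)) H :=
    Groth.Agent.Lib.Helper58.PairHens.Hp.isPairHenselization E (I.map (algebraMap A E))
  let _ : Algebra A H := ((algebraMap E H).comp (algebraMap A E)).toAlgebra
  have hSTH : IsScalarTower A E H := IsScalarTower.of_algebraMap_eq (fun _ => rfl)
  have hIEB : (I.map (algebraMap A E)).map (algebraMap E B) = I.map (algebraMap A B) := by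
    rw [Ideal.map_map, ← IsScalarTower.algebraMap_eq]
  have hIB : (I.map (algebraMap A R₀)).map (algebraMap R₀ B) = I.map (algebraMap A B) := by
    rw [Ideal.map_map, ← IsScalarTower.algebraMap_eq]
  have hhensB : HenselianRing B (I.map (algebraMap A B)) := by
    have := hB.1
    rwa [hIB] at this
  obtain ⟨ψ, -⟩ := Groth.Agent.Lib.Helper58.PairHens.exists_algHom_of_isPairHenselization hH B
    (I.map (algebraMap A B)) hhensB (le_of_eq hIEB)
  let _ : Algebra H B := ψ.toRingHom.toAlgebra
  have _ : IsScalarTower E H B := IsScalarTower.of_algebraMap_eq (fun z => (ψ.commutes z).symm)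
  have _ : IsScalarTower A H B := IsScalarTower.of_algebraMap_eq (fun a => by
    change algebraMap A B a = ψ (algebraMap E H (algebraMap A E a))
    rw [ψ.commutes, ← IsScalarTower.algebraMap_apply])
  obtain ⟨hsurjHB, hfg, hinjH⟩ :=
    Groth.Agent.S17600.exists_surjective_of_etale A I R₀ B hB E hinj hsurj H hH
  let φ : H →ₐ[A] B := IsScalarTower.toAlgHom A H B
  refine ⟨E, inferInstance, inferInstance, H, inferInstance, inferInstance, inferInstance, hSTH,
    hEt, hH, φ, hsurjHB, hfg, ?_⟩
  intro n
  exact ker_le_map_pow I φ hsurjHB hinjH n (fun hn => by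
    have := het n hn
    infer_instance)

end Groth.Agent.S17598
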