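import Groth.Statements.S1760
-- import your own Groth.Agent.* helpers here
import Groth.Agent.Lib.Helper85.GorField

set_option autoImplicit false
universe u
open scoped TensorProduct
open Goren

namespace Groth.Agent.S1760

/-- First assertion, written for the local ring B = O_{X,x}. Let k'/k be a finitely generated field
extension, B a Noetherian local k-algebra, and q a prime of B ⊗_k k' lying over the maximal ideal of
B. Then B is Gorenstein if and only if the localization of B ⊗_k k' at q is Gorenstein. -/
theorem result (k k' : Type u) [Field k] [Field k'] [Algebra k k'] (hfg : ∃ s : Finset k', IntermediateField.adjoin k (s : Set k') = ⊤) (B : Type u) [CommRing B] [IsLocalRing B] [IsNoetherianRing B] [Algebra k B] (q : PrimeSpectrum (B ⊗[k] k')) (hq : q.asIdeal.comap (algebraMap B (B ⊗[k] k')) = IsLocalRing.maximalIdeal B) : LocCoh.IsGorensteinLocalRing B ↔ LocCoh.IsGorensteinLocalRing (Localization.AtPrime q.asIdeal) := by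
  haveI : q.asIdeal.IsPrime := q.isPrime
  haveI : Module.Flat B (Localization.AtPrime q.asIdeal) :=
    Module.Flat.trans B (B ⊗[k] k') _
  haveI : IsLocalHom (algebraMap B (Localization.AtPrime q.asIdeal)) := by
    refine ⟨fun a ha => ?_⟩
    rw [IsScalarTower.algebraMap_apply B (B ⊗[k] k') (Localization.AtPrime q.asIdeal),
      IsLocalization.AtPrime.isUnit_to_map_iff _ q.asIdeal] at ha
    by_contra hna
    have : a ∈ q.asIdeal.comap (algebraMap B (B ⊗[k] k')) := by rw [hq]; exact hna
    exact ha this
  constructor
  · intro hB
    haveI := hB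
    haveI := Groth.Agent.Lib.Helper85.GorRing.gorRing_of_gorLocal B
    haveI : LocCoh.IsGorensteinRing (k' ⊗[k] B) :=
      Groth.Agent.Lib.Helper85.GorField.gorBC_of_fg k k' hfg B inferInstance
    haveI : LocCoh.IsGorensteinRing (B ⊗[k] k') :=
      Groth.Agent.Lib.Helper85.GorRing.gorRing_of_ringEquiv
        (Algebra.TensorProduct.comm k k' B).toRingEquiv
    exact LocCoh.IsGorensteinRing.isGorensteinLocalRing_localization q.asIdeal
  · intro hC
    haveI := hC
    exact ((Groth.Agent.Lib.Helper85.GorFlat.gor_iff B (Localization.AtPrime q.asIdeal)).mp hC).1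

end Groth.Agent.S1760
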