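import Groth.Statements.S17620
import Mathlib

set_option autoImplicit false
universe u
open Hensel

namespace Groth.Agent.S17620

/-- Every ring is henselian along the zero ideal. -/
theorem henselianRing_bot (C : Type u) [CommRing C] : HenselianRing C (⊥ : Ideal C) where
  jac := bot_le
  is_henselian := by
    intro f _ a₀ h₁ _
    refine ⟨a₀, ?_, ?_⟩
    · simpa [Polynomial.IsRoot] using h₁
    · simp

/-- Key lemma: for a henselization `H` of the pair `(R, J)`, every element of `H` is congruent
to an element of `R` modulo `J H`. -/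
theorem exists_sub_mem (R : Type u) [CommRing R] (J : Ideal R) (H : Type u) [CommRing H] [Algebra R H]
    (hH : Hens2.IsPairHenselization R J H) (h : H) :
    ∃ r : R, h - algebraMap R H r ∈ J.map (algebraMap R H) := by
  classical
  -- the map `g : H → R/J`
  obtain ⟨g, hg, -⟩ := hH.2 (R ⧸ J) ⊥ (Ideal.Quotient.mk J) (henselianRing_bot _) (by
    rw [Ideal.map_le_iff_le_comap]
    intro x hx
    rw [Ideal.mem_comap, Ideal.mem_bot, Ideal.Quotient.eq_zero_iff_mem]
    exact hx)
  -- the map `ι : R/J → H/JH`
  let ι : R ⧸ J →+* H ⧸ J.map (algebraMap R H) :=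
    Ideal.Quotient.lift J ((Ideal.Quotient.mk (J.map (algebraMap R H))).comp (algebraMap R H)) (by
      intro a ha
      rw [RingHom.comp_apply, Ideal.Quotient.eq_zero_iff_mem]
      exact Ideal.mem_map_of_mem _ ha)
  have hι : ι.comp (Ideal.Quotient.mk J) =
      (Ideal.Quotient.mk (J.map (algebraMap R H))).comp (algebraMap R H) := by
    ext a
    simp [ι]
  -- uniqueness of maps `H → H/JH`
  obtain ⟨k, -, hk⟩ := hH.2 (H ⧸ J.map (algebraMap R H)) ⊥
    ((Ideal.Quotient.mk (J.map (algebraMap R H))).comp (algebraMap R H)) (henselianRing_bot _) (by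
    rw [Ideal.map_le_iff_le_comap]
    intro x hx
    rw [Ideal.mem_comap, Ideal.mem_bot, RingHom.comp_apply, Ideal.Quotient.eq_zero_iff_mem]
    exact Ideal.mem_map_of_mem _ hx)
  have h1 : ι.comp g = k := hk _ (by
    show (ι.comp g).comp (algebraMap R H) = _
    rw [RingHom.comp_assoc, hg, hι])
  have h2 : Ideal.Quotient.mk (J.map (algebraMap R H)) = k := hk _ rfl
  have h3 : ι (g h) = Ideal.Quotient.mk (J.map (algebraMap R H)) h := by
    rw [h2, ← h1]; rfl
  obtain ⟨r, hr⟩ := Ideal.Quotient.mk_surjective (g h)
  refine ⟨r, ?_⟩
  rw [← Ideal.Quotient.eq_zero_iff_mem, map_sub, ← h3, ← hr]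
  have := congrArg (fun ψ : R →+* H ⧸ J.map (algebraMap R H) => ψ r) hι
  simp only [RingHom.comp_apply] at this
  rw [this, sub_self]

/-- Let R be a local ring and J an ideal of R contained in the maximal ideal, let H be a Henselization
of the pair (R, J) which is a local ring with local structure map R → H, and let S be a strict
Henselization of the local ring H. Then S, with its composite R-algebra structure, is a strict
Henselization of the local ring R. (This is the identification of the strict Henselization of the
local ring of a scheme at a point with that of the local ring of its Henselization along a closed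
subscheme through the point.) -/
theorem result
    (R : Type u) [CommRing R] [IsLocalRing R] (J : Ideal R) (hJ : J ≤ IsLocalRing.maximalIdeal R)
    (H : Type u) [CommRing H] [IsLocalRing H] [Algebra R H] [IsLocalHom (algebraMap R H)]
    (hH : Hens2.IsPairHenselization R J H)
    (S : Type u) [CommRing S] [IsLocalRing S] [Algebra H S] [IsLocalHom (algebraMap H S)]
    [Hensel.IsStrictHenselization H S]
    [Algebra R S] [IsScalarTower R H S] [IsLocalHom (algebraMap R S)] :
    Hensel.IsStrictHenselization R S := by
  classical
  have hJH : J.map (algebraMap R H) ≤ IsLocalRing.maximalIdeal H := by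
    rw [Ideal.map_le_iff_le_comap]
    intro x hx
    rw [Ideal.mem_comap, IsLocalRing.mem_maximalIdeal, mem_nonunits_iff]
    intro hu
    have := IsLocalHom.map_nonunit (f := algebraMap R H) x hu
    exact (IsLocalRing.mem_maximalIdeal x).mp (hJ hx) this
  -- surjectivity of the residue field map
  have hsurj : Function.Surjective (IsLocalRing.ResidueField.map (algebraMap R H)) := by
    intro y
    obtain ⟨h, rfl⟩ := IsLocalRing.residue_surjective y
    obtain ⟨r, hr⟩ := exists_sub_mem R J H hH h
    refine ⟨IsLocalRing.residue R r, ?_⟩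
    rw [IsLocalRing.ResidueField.map_residue]
    symm
    rw [← sub_eq_zero, ← map_sub, IsLocalRing.residue_eq_zero_iff]
    exact hJH hr
  have hbij : Function.Bijective (IsLocalRing.ResidueField.map (algebraMap R H)) :=
    ⟨(IsLocalRing.ResidueField.map (algebraMap R H)).injective, hsurj⟩
  have hcomp : (IsLocalRing.ResidueField.map (algebraMap H S)).comp
      (IsLocalRing.ResidueField.map (algebraMap R H)) =
      IsLocalRing.ResidueField.map (algebraMap R S) := by
    ext x
    obtain ⟨r, rfl⟩ := IsLocalRing.residue_surjective x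
    simp only [RingHom.comp_apply, IsLocalRing.ResidueField.map_residue]
    rw [← IsScalarTower.algebraMap_apply]
  have hstrict : Hensel.IsStrictHenselization H S := inferInstance
  refine ⟨hstrict.henselian, ?_, ?_⟩
  · -- separable closure
    haveI := hstrict.isSepClosure
    haveI : Algebra.IsSeparable (IsLocalRing.ResidueField H) (IsLocalRing.ResidueField S) :=
      IsSepClosure.separable
    let e₁ : IsLocalRing.ResidueField H ≃+* IsLocalRing.ResidueField R :=
      (RingEquiv.ofBijective _ hbij).symm
    refine ⟨IsSepClosure.sep_closed (IsLocalRing.ResidueField H), ?_⟩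
    refine Algebra.IsSeparable.of_equiv_equiv e₁ (RingEquiv.refl _) ?_
    ext x
    obtain ⟨y, rfl⟩ := hsurj x
    have : e₁ (IsLocalRing.ResidueField.map (algebraMap R H) y) = y :=
      (RingEquiv.ofBijective _ hbij).symm_apply_apply y
    simp only [RingHom.comp_apply, RingHom.coe_coe, this, RingEquiv.refl_apply]
    exact (congrArg (fun ψ => ψ y) hcomp).symm
  · -- universal property
    intro T _ _ f _ τ hτ
    have hJT : J.map f ≤ IsLocalRing.maximalIdeal T := by
      rw [Ideal.map_le_iff_le_comap]
      intro x hx
      rw [Ideal.mem_comap, IsLocalRing.mem_maximalIdeal, mem_nonunits_iff]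
      intro hu
      have := IsLocalHom.map_nonunit (f := f) x hu
      exact (IsLocalRing.mem_maximalIdeal x).mp (hJ hx) this
    obtain ⟨f', hf', hf'uniq⟩ := hH.2 T (IsLocalRing.maximalIdeal T) f inferInstance hJT
    -- `f'` is local
    have hf'J : (J.map (algebraMap R H)).map f' ≤ IsLocalRing.maximalIdeal T := by
      rw [Ideal.map_map, hf']; exact hJT
    haveI hloc : IsLocalHom f' := by
      constructor
      intro h hu
      by_contra hnu
      have hm : h ∈ IsLocalRing.maximalIdeal H := (IsLocalRing.mem_maximalIdeal h).mpr hnu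
      obtain ⟨r, hr⟩ := exists_sub_mem R J H hH h
      have hr' : algebraMap R H r ∈ IsLocalRing.maximalIdeal H := by
        have := (IsLocalRing.maximalIdeal H).sub_mem hm (hJH hr)
        simpa using this
      have hrm : r ∈ IsLocalRing.maximalIdeal R := by
        rw [IsLocalRing.mem_maximalIdeal, mem_nonunits_iff]
        intro hu'
        exact (IsLocalRing.mem_maximalIdeal _).mp hr' (hu'.map (algebraMap R H))
      have hfr : f r ∈ IsLocalRing.maximalIdeal T := by
        rw [IsLocalRing.mem_maximalIdeal, mem_nonunits_iff]
        intro hu'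
        exact (IsLocalRing.mem_maximalIdeal _).mp hrm (IsLocalHom.map_nonunit (f := f) r hu')
      have h1 : f' (h - algebraMap R H r) ∈ IsLocalRing.maximalIdeal T :=
        hf'J (Ideal.mem_map_of_mem _ hr)
      have h2 : f' (algebraMap R H r) = f r := congrArg (fun ψ : R →+* T => ψ r) hf'
      have h3 : f' h ∈ IsLocalRing.maximalIdeal T := by
        have := (IsLocalRing.maximalIdeal T).add_mem h1 hfr
        rw [map_sub, h2, sub_add_cancel] at this
        exact this
      exact (IsLocalRing.mem_maximalIdeal _).mp h3 hu
    have hτ' : τ.comp (IsLocalRing.ResidueField.map (algebraMap H S)) =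
        IsLocalRing.ResidueField.map f' := by
      ext x
      obtain ⟨y, rfl⟩ := hsurj x
      obtain ⟨r, rfl⟩ := IsLocalRing.residue_surjective y
      have e1 := congrArg (fun ψ => ψ (IsLocalRing.residue R r)) hτ
      simp only [RingHom.comp_apply, IsLocalRing.ResidueField.map_residue] at e1 ⊢
      rw [← IsScalarTower.algebraMap_apply, e1]
      exact congrArg (fun t => IsLocalRing.residue T t) (congrArg (fun ψ : R →+* T => ψ r) hf').symm
    obtain ⟨g, ⟨hg1, hg2⟩, hguniq⟩ := hstrict.universal T f' τ hτ'
    refine ⟨g, ⟨?_, hg2⟩, ?_⟩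
    · rw [IsScalarTower.algebraMap_eq R H S, ← RingHom.comp_assoc, hg1, hf']
    · rintro g₂ ⟨hg₂1, hg₂2⟩
      apply hguniq
      refine ⟨?_, hg₂2⟩
      apply hf'uniq
      rw [RingHom.comp_assoc, ← IsScalarTower.algebraMap_eq, hg₂1]

end Groth.Agent.S17620
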