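import Groth.Statements.S17604
-- import your own Groth.Agent.* helpers here
import Groth.Agent.S17620
import Groth.Agent.Lib.Helper58.HenselPairUniq

set_option autoImplicit false
universe u
open Hensel

namespace Groth.Agent.S17604

/-- Let (A, I) be a Henselian pair, R and R' étale A-algebras, and B, B' Henselizations of the pairs (R,
IR), (R', IR') with their induced A-algebra structures (so B and B' are h-étale over A). Then
reduction modulo I is a bijection from A-algebra maps B → B' to A-algebra maps B/IB → B'/IB': two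
A-algebra maps B → B' that agree modulo IB' are equal, and every A-algebra map B/IB → B'/IB' is
induced by an A-algebra map B → B'. -/
theorem result (A : Type u) [CommRing A]
    (I : Ideal A) [HenselianRing A I]
    (R : Type u) [CommRing R] [Algebra A R] [Algebra.Etale A R]
    (B : Type u) [CommRing B] [Algebra R B] [Algebra A B] [IsScalarTower A R B]
    (hB : Hens2.IsPairHenselization R (I.map (algebraMap A R)) B)
    (R' : Type u) [CommRing R'] [Algebra A R'] [Algebra.Etale A R']
    (B' : Type u) [CommRing B'] [Algebra R' B'] [Algebra A B'] [IsScalarTower A R' B']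
    (hB' : Hens2.IsPairHenselization R' (I.map (algebraMap A R')) B') :
    (∀ φ ψ : B →ₐ[A] B', (∀ b : B, φ b - ψ b ∈ I.map (algebraMap A B')) → φ = ψ) ∧
    ∀ χ : (B ⧸ I.map (algebraMap A B)) →ₐ[A] (B' ⧸ I.map (algebraMap A B')),
      ∃ φ : B →ₐ[A] B', ∀ b : B,
        Ideal.Quotient.mk (I.map (algebraMap A B')) (φ b) = χ (Ideal.Quotient.mk (I.map (algebraMap A B)) b) := by
  classical
  have hJB' : (I.map (algebraMap A R')).map (algebraMap R' B') = I.map (algebraMap A B') := by
    rw [Ideal.map_map, ← IsScalarTower.algebraMap_eq]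
  have hJB : (I.map (algebraMap A R)).map (algebraMap R B) = I.map (algebraMap A B) := by
    rw [Ideal.map_map, ← IsScalarTower.algebraMap_eq]
  have hH' : HenselianRing B' (I.map (algebraMap A B')) := hJB' ▸ hB'.1
  have hjac : I.map (algebraMap A B') ≤ Ideal.jacobson ⊥ := hH'.jac
  -- any A-algebra map R → B' sends I R into I B'
  have hle : ∀ τ : R →ₐ[A] B', (I.map (algebraMap A R)).map τ.toRingHom ≤ I.map (algebraMap A B') := by
    intro τ
    rw [Ideal.map_map]
    have : τ.toRingHom.comp (algebraMap A R) = algebraMap A B' := by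
      ext a; simp
    rw [this]
  refine ⟨?_, ?_⟩
  · intro φ ψ h
    have h1 : φ.comp (IsScalarTower.toAlgHom A R B) = ψ.comp (IsScalarTower.toAlgHom A R B) :=
      Groth.Agent.Lib.Helper58.HenselPair.algHom_ext_of_sub_mem_jacobson
        (I.map (algebraMap A B')) hjac _ _ (fun s => h _)
    obtain ⟨g, -, hg⟩ := hB.2 B' (I.map (algebraMap A B'))
      (φ.comp (IsScalarTower.toAlgHom A R B)).toRingHom hH' (hle _)
    have e1 : φ.toRingHom = g := hg _ (by ext r; rfl)
    have e2 : ψ.toRingHom = g := hg _ (by
      ext r
      have := congrArg (fun ρ : R →ₐ[A] B' => ρ r) h1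
      exact this.symm)
    refine AlgHom.ext fun b => ?_
    have := congrArg (fun ρ : B →+* B' => ρ b) (e1.trans e2.symm)
    exact this
  · intro χ
    let σ : R →ₐ[A] B' ⧸ I.map (algebraMap A B') :=
      χ.comp ((Ideal.Quotient.mkₐ A (I.map (algebraMap A B))).comp (IsScalarTower.toAlgHom A R B))
    obtain ⟨τ, hτ⟩ := Groth.Agent.Lib.Helper58.HenselPair.exists_etale_lift_rel
      (I.map (algebraMap A B')) σ
    obtain ⟨g, hg, -⟩ := hB.2 B' (I.map (algebraMap A B')) τ.toRingHom hH' (hle τ)
    have hgR : ∀ r : R, g (algebraMap R B r) = τ r := fun r =>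
      congrArg (fun ρ : R →+* B' => ρ r) hg
    let φ : B →ₐ[A] B' :=
      { g with
        commutes' := fun a => by
          change g (algebraMap A B a) = algebraMap A B' a
          rw [IsScalarTower.algebraMap_apply A R B, hgR, AlgHom.commutes] }
    have hφ : ∀ b, φ b = g b := fun _ => rfl
    refine ⟨φ, fun b => ?_⟩
    obtain ⟨r, hr⟩ := Groth.Agent.S17620.exists_sub_mem R (I.map (algebraMap A R)) B hB b
    rw [hJB] at hr
    have h1 : Ideal.Quotient.mk (I.map (algebraMap A B)) b =
        Ideal.Quotient.mk (I.map (algebraMap A B)) (algebraMap R B r) := by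
      rw [← sub_eq_zero, ← map_sub, Ideal.Quotient.eq_zero_iff_mem]
      exact hr
    have h2 : φ (b - algebraMap R B r) ∈ I.map (algebraMap A B') := by
      have hmap : (I.map (algebraMap A B)).map φ.toRingHom ≤ I.map (algebraMap A B') := by
        rw [Ideal.map_map]
        have : φ.toRingHom.comp (algebraMap A B) = algebraMap A B' := by
          ext a; simp
        rw [this]
      exact hmap (Ideal.mem_map_of_mem _ hr)
    have h3 : Ideal.Quotient.mk (I.map (algebraMap A B')) (φ b) =
        Ideal.Quotient.mk (I.map (algebraMap A B')) (φ (algebraMap R B r)) := by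
      rw [← sub_eq_zero, ← map_sub, ← map_sub, Ideal.Quotient.eq_zero_iff_mem]
      exact h2
    rw [h3, h1, hφ, hgR]
    have := congrArg (fun ρ : R →ₐ[A] B' ⧸ I.map (algebraMap A B') => ρ r) hτ
    exact this

end Groth.Agent.S17604
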