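import Groth.Statements.S17605
import Mathlib

set_option autoImplicit false
universe u
open Hensel

namespace Groth.Agent.S17605

/-- Let A be a ring with an ideal I and let f₁, f₂ be elements of A such that D(f₂) ∩ V(I) ⊆ D(f₁) ∩
V(I) in Spec A. If H₁ is a Henselization of the pair (A_{f₁}, IA_{f₁}) and H₂ a Henselization of the
pair (A_{f₂}, IA_{f₂}), with their induced A-algebra structures, then there is exactly one A-algebra
map H₁ → H₂. -/
theorem result (A : Type u) [CommRing A]
    (I : Ideal A) (f₁ f₂ : A)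
    (h : (PrimeSpectrum.basicOpen f₂ : Set (PrimeSpectrum A)) ∩ PrimeSpectrum.zeroLocus (I : Set A) ⊆
      (PrimeSpectrum.basicOpen f₁ : Set (PrimeSpectrum A)) ∩ PrimeSpectrum.zeroLocus (I : Set A))
    (H₁ : Type u) [CommRing H₁] [Algebra (Localization.Away f₁) H₁] [Algebra A H₁]
    [IsScalarTower A (Localization.Away f₁) H₁]
    (hH₁ : Hens2.IsPairHenselization (Localization.Away f₁)
      (I.map (algebraMap A (Localization.Away f₁))) H₁)
    (H₂ : Type u) [CommRing H₂] [Algebra (Localization.Away f₂) H₂] [Algebra A H₂]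
    [IsScalarTower A (Localization.Away f₂) H₂]
    (hH₂ : Hens2.IsPairHenselization (Localization.Away f₂)
      (I.map (algebraMap A (Localization.Away f₂))) H₂) :
    Nonempty (H₁ →ₐ[A] H₂) ∧ Subsingleton (H₁ →ₐ[A] H₂) := by
  classical
  -- the ideal of `H₂`
  have hJ₂ : (I.map (algebraMap A (Localization.Away f₂))).map (algebraMap (Localization.Away f₂) H₂) =
      I.map (algebraMap A H₂) := by
    rw [Ideal.map_map, ← IsScalarTower.algebraMap_eq]
  have hJ₁ : ∀ g : Localization.Away f₁ →+* H₂, g.comp (algebraMap A (Localization.Away f₁)) = algebraMap A H₂ →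
      (I.map (algebraMap A (Localization.Away f₁))).map g = I.map (algebraMap A H₂) := by
    intro g hg
    rw [Ideal.map_map, hg]
  have hhens := hH₂.1
  rw [hJ₂] at hhens
  -- `f₁` is a unit of `H₂`
  have hunit : IsUnit (algebraMap A H₂ f₁) := by
    have hloc := isLocalHom_of_le_jacobson_bot _ hhens.jac
    apply hloc.map_nonunit
    by_contra hnu
    obtain ⟨𝔮, h𝔮max, h𝔮⟩ := exists_max_ideal_of_mem_nonunits (mem_nonunits_iff.mpr hnu)
    have h𝔮prime : 𝔮.IsPrime := h𝔮max.isPrime
    let ρ : A →+* H₂ ⧸ I.map (algebraMap A H₂) :=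
      (Ideal.Quotient.mk (I.map (algebraMap A H₂))).comp (algebraMap A H₂)
    let 𝔭 : PrimeSpectrum A := ⟨𝔮.comap ρ, Ideal.comap_isPrime ρ 𝔮⟩
    have h𝔭2 : 𝔭 ∈ (PrimeSpectrum.basicOpen f₂ : Set (PrimeSpectrum A)) ∩
        PrimeSpectrum.zeroLocus (I : Set A) := by
      constructor
      · show f₂ ∉ 𝔮.comap ρ
        rw [Ideal.mem_comap]
        intro hmem
        have hu2 : IsUnit (ρ f₂) := by
          have h1 : IsUnit (algebraMap A (Localization.Away f₂) f₂) :=
            IsLocalization.Away.algebraMap_isUnit f₂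
          have h2 : IsUnit (algebraMap A H₂ f₂) := by
            rw [IsScalarTower.algebraMap_apply A (Localization.Away f₂) H₂]
            exact h1.map (algebraMap (Localization.Away f₂) H₂)
          exact h2.map (Ideal.Quotient.mk (I.map (algebraMap A H₂)))
        exact h𝔮prime.ne_top (Ideal.eq_top_of_isUnit_mem _ hmem hu2)
      · rw [PrimeSpectrum.mem_zeroLocus]
        intro a ha
        show a ∈ 𝔮.comap ρ
        rw [Ideal.mem_comap]
        have : ρ a = 0 := by
          show Ideal.Quotient.mk (I.map (algebraMap A H₂)) (algebraMap A H₂ a) = 0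
          rw [Ideal.Quotient.eq_zero_iff_mem]
          exact Ideal.mem_map_of_mem _ ha
        rw [this]
        exact 𝔮.zero_mem
    have h𝔭1 := (h h𝔭2).1
    exact h𝔭1 h𝔮
  -- the map `A_{f₁} → H₂`
  let l : Localization.Away f₁ →+* H₂ := IsLocalization.Away.lift f₁ hunit
  have hl : l.comp (algebraMap A (Localization.Away f₁)) = algebraMap A H₂ :=
    IsLocalization.Away.lift_comp f₁ hunit
  obtain ⟨g, hg, hguniq⟩ := hH₁.2 H₂ _ l hH₂.1 (by rw [hJ₁ l hl, hJ₂])
  have halg : ∀ φ : H₁ →ₐ[A] H₂, (φ : H₁ →+* H₂).comp (algebraMap (Localization.Away f₁) H₁) = l := by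
    intro φ
    apply IsLocalization.ringHom_ext (Submonoid.powers f₁)
    rw [RingHom.comp_assoc, ← IsScalarTower.algebraMap_eq, hl]
    ext a
    exact φ.commutes a
  refine ⟨⟨{ g with
    commutes' := fun a => by
      have := congrArg (fun ψ : Localization.Away f₁ →+* H₂ => ψ (algebraMap A (Localization.Away f₁) a)) hg
      simp only [RingHom.comp_apply] at this
      rw [IsScalarTower.algebraMap_apply A (Localization.Away f₁) H₁]
      show g _ = _
      rw [this]
      exact congrArg (fun ψ : A →+* H₂ => ψ a) hl }⟩, ⟨fun φ ψ => ?_⟩⟩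
  have h1 := hguniq _ (halg φ)
  have h2 := hguniq _ (halg ψ)
  ext x
  have := h1.trans h2.symm
  exact congrArg (fun χ : H₁ →+* H₂ => χ x) this

end Groth.Agent.S17605
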