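import Groth.Statements.S17607
-- import your own Groth.Agent.* helpers here
import Groth.Agent.Lib.Helper58.PairHensQuot

set_option autoImplicit false
universe u
open Hensel

namespace Groth.Agent.S17607

/-- Let (A, I) and (B, IB) be Henselian pairs with B an A-algebra. Then the following are equivalent:
(i) A → B is Henselian finitely presented, i.e. there are n, a Henselization P of the pair
(A[X₁,…,Xₙ], I·A[X₁,…,Xₙ]) (a Henselized polynomial ring) and a surjective A-algebra map P → B with
finitely generated kernel; (ii) there are a finitely presented A-algebra R and an R-algebra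
structure on B compatible with that of A for which B is a Henselization of the pair (R, IR). -/
theorem result (A : Type u) [CommRing A] (I : Ideal A)
    [HenselianRing A I] (B : Type u) [CommRing B] [Algebra A B]
    [HenselianRing B (I.map (algebraMap A B))] :
    (∃ (n : ℕ) (P : Type u) (_ : CommRing P) (_ : Algebra (MvPolynomial (Fin n) A) P) (_ : Algebra A P)
        (_ : IsScalarTower A (MvPolynomial (Fin n) A) P),
        Hens2.IsPairHenselization (MvPolynomial (Fin n) A)
          (I.map (algebraMap A (MvPolynomial (Fin n) A))) P ∧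
        ∃ φ : P →ₐ[A] B, Function.Surjective φ ∧ (RingHom.ker φ).FG) ↔
    ∃ (R : Type u) (_ : CommRing R) (_ : Algebra A R) (_ : Algebra R B) (_ : IsScalarTower A R B),
      Algebra.FinitePresentation A R ∧ Hens2.IsPairHenselization R (I.map (algebraMap A R)) B := by
  classical
  constructor
  · rintro ⟨n, P, _, _, _, _, hP, φ, hφ, s, hs⟩
    obtain ⟨E, _, _, _, hb, ψ, hψ⟩ :=
      Groth.Agent.Lib.Helper58.PairHens.exists_nbhd_of_finset hP s
    choose! z hz using hψ
    let _ : Algebra A E :=
      ((algebraMap (MvPolynomial (Fin n) A) E).comp (algebraMap A (MvPolynomial (Fin n) A))).toAlgebra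
    have _ : IsScalarTower A (MvPolynomial (Fin n) A) E :=
      IsScalarTower.of_algebraMap_eq (fun _ => rfl)
    have _ : Algebra.FinitePresentation A E :=
      Algebra.FinitePresentation.trans A (MvPolynomial (Fin n) A) E
    let _ : Algebra E P := ψ.toRingHom.toAlgebra
    have _ : IsScalarTower (MvPolynomial (Fin n) A) E P :=
      IsScalarTower.of_algebraMap_eq (fun q => (ψ.commutes q).symm)
    have hEP := Groth.Agent.Lib.Helper58.PairHens.isPairHenselization_nbhd hb hP
    let K : Ideal E := Ideal.span ((s.image z : Finset E) : Set E)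
    have hKfg : K.FG := ⟨s.image z, rfl⟩
    have hKmap : K.map (algebraMap E P) = RingHom.ker φ := by
      rw [← hs, Ideal.map_span]
      congr 1
      ext x
      simp only [Finset.coe_image, Set.mem_image, Finset.mem_coe, exists_exists_and_eq_and]
      constructor
      · rintro ⟨y, hy, rfl⟩
        have : algebraMap E P (z y) = y := hz y hy
        rw [this]; exact hy
      · intro hx
        exact ⟨x, hx, hz x hx⟩
    have hlift : ∀ a ∈ K, (φ.toRingHom.comp (algebraMap E P)) a = 0 := by
      intro a ha
      have : algebraMap E P a ∈ RingHom.ker φ := by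
        rw [← hKmap]; exact Ideal.mem_map_of_mem _ ha
      exact this
    let _ : Algebra (E ⧸ K) B :=
      (Ideal.Quotient.lift K (φ.toRingHom.comp (algebraMap E P)) hlift).toAlgebra
    have hA : ∀ a : A, algebraMap A B a = algebraMap (E ⧸ K) B (algebraMap A (E ⧸ K) a) := by
      intro a
      change _ = Ideal.Quotient.lift K (φ.toRingHom.comp (algebraMap E P)) hlift
        (Ideal.Quotient.mk K (algebraMap A E a))
      rw [Ideal.Quotient.lift_mk]
      change _ = φ (ψ (algebraMap (MvPolynomial (Fin n) A) E
        (algebraMap A (MvPolynomial (Fin n) A) a)))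
      rw [ψ.commutes, ← IsScalarTower.algebraMap_apply, φ.commutes]
    have _ : IsScalarTower A (E ⧸ K) B := IsScalarTower.of_algebraMap_eq hA
    refine ⟨E ⧸ K, inferInstance, inferInstance, inferInstance, inferInstance,
      Algebra.FinitePresentation.quotient hKfg, ?_⟩
    have key := Groth.Agent.Lib.Helper58.PairHens.isPairHenselization_of_surjective hEP
      (Ideal.Quotient.mk K) Ideal.Quotient.mk_surjective (φ : P →+* B) hφ
      (by rw [Ideal.mk_ker]; exact hKmap.symm)
      (by
        apply RingHom.ext
        intro x
        rfl)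
    have hI : ((I.map (algebraMap A (MvPolynomial (Fin n) A))).map
        (algebraMap (MvPolynomial (Fin n) A) E)).map (Ideal.Quotient.mk K) =
        I.map (algebraMap A (E ⧸ K)) := by
      rw [Ideal.map_map, Ideal.map_map]
      rfl
    rw [hI] at key
    exact key
  · rintro ⟨R, _, _, _, _, hfp, hRB⟩
    obtain ⟨n, f, hf, hker⟩ := Algebra.FinitePresentation.out (R := A) (A := R)
    let Q := MvPolynomial (Fin n) A
    let IQ : Ideal Q := I.map (algebraMap A Q)
    let P := Groth.Agent.Lib.Helper58.PairHens.Hp Q IQ
    let _ : Algebra A P := ((algebraMap Q P).comp (algebraMap A Q)).toAlgebra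
    have _ : IsScalarTower A Q P := IsScalarTower.of_algebraMap_eq (fun _ => rfl)
    have hP : Hens2.IsPairHenselization Q IQ P :=
      Groth.Agent.Lib.Helper58.PairHens.Hp.isPairHenselization Q IQ
    let K : Ideal Q := RingHom.ker f.toRingHom
    let KP : Ideal P := K.map (algebraMap Q P)
    have hle : RingHom.ker f.toRingHom ≤
        RingHom.ker ((Ideal.Quotient.mk KP).comp (algebraMap Q P)) := by
      intro q hq
      rw [RingHom.mem_ker, RingHom.comp_apply, Ideal.Quotient.eq_zero_iff_mem]
      exact Ideal.mem_map_of_mem _ hq
    let ι : R →+* P ⧸ KP :=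
      RingHom.liftOfSurjective f.toRingHom hf ⟨(Ideal.Quotient.mk KP).comp (algebraMap Q P), hle⟩
    have hι : ∀ q : Q, ι (f q) = Ideal.Quotient.mk KP (algebraMap Q P q) := fun q =>
      RingHom.liftOfSurjective_comp_apply f.toRingHom hf
        ⟨(Ideal.Quotient.mk KP).comp (algebraMap Q P), hle⟩ q
    let _ : Algebra R (P ⧸ KP) := ι.toAlgebra
    have key := Groth.Agent.Lib.Helper58.PairHens.isPairHenselization_of_surjective hP
      f.toRingHom hf (Ideal.Quotient.mk KP) Ideal.Quotient.mk_surjective
      (by rw [Ideal.mk_ker])
      (by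
        apply RingHom.ext
        intro q
        exact hι q)
    have hI : IQ.map f.toRingHom = I.map (algebraMap A R) := by
      simp only [IQ]
      rw [Ideal.map_map]
      congr 1
      ext a
      simp
    rw [hI] at key
    obtain ⟨e⟩ := Groth.Agent.Lib.Helper58.PairHens.nonempty_algEquiv_of_isPairHenselization key hRB
    let φ₀ : P →+* B := (e : (P ⧸ KP) →+* B).comp (Ideal.Quotient.mk KP)
    have hφ₀ : ∀ a : A, φ₀ (algebraMap A P a) = algebraMap A B a := by
      intro a
      change e (Ideal.Quotient.mk KP (algebraMap Q P (algebraMap A Q a))) = _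
      rw [← hι, f.commutes]
      have : ι (algebraMap A R a) = algebraMap R (P ⧸ KP) (algebraMap A R a) := rfl
      rw [this, e.commutes, ← IsScalarTower.algebraMap_apply]
    let φ : P →ₐ[A] B := { φ₀ with commutes' := hφ₀ }
    refine ⟨n, P, inferInstance, inferInstance, inferInstance, inferInstance, hP, φ, ?_, ?_⟩
    · intro b
      obtain ⟨y, rfl⟩ := e.surjective b
      obtain ⟨p, rfl⟩ := Ideal.Quotient.mk_surjective y
      exact ⟨p, rfl⟩
    · have : RingHom.ker φ = KP := by
        ext p
        rw [RingHom.mem_ker]
        change e (Ideal.Quotient.mk KP p) = 0 ↔ _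
        rw [map_eq_zero_iff _ e.injective, Ideal.Quotient.eq_zero_iff_mem]
      rw [this]
      exact Ideal.FG.map hker _

end Groth.Agent.S17607
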