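import Groth.Statements.S17608
-- import your own Groth.Agent.* helpers here
import Groth.Agent.Lib.Helper58.PairHensDescent
import Groth.Agent.Lib.Helper58.PairHensNbhd

set_option autoImplicit false
universe u
open Hensel

namespace Groth.Agent.S17608

/-- Let (A, I) be a Henselian pair, let B be a Henselization of the pair (R, IR) for a finitely
presented A-algebra R, and let C be a Henselization of the pair (S, IS) for a finitely presented
B-algebra S, all algebra structures being compatible (so A → B and B → C are Henselian finitely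
presented maps of Henselian pairs). Then the composite A → C is Henselian finitely presented: there
are a finitely presented A-algebra T and a T-algebra structure on C compatible with that of A for
which C is a Henselization of the pair (T, IT). -/
theorem result (A : Type u) [CommRing A] (I : Ideal A) [HenselianRing A I]
    (R : Type u) [CommRing R] [Algebra A R] [Algebra.FinitePresentation A R]
    (B : Type u) [CommRing B] [Algebra R B] [Algebra A B] [IsScalarTower A R B]
    (hB : Hens2.IsPairHenselization R (I.map (algebraMap A R)) B)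
    (S : Type u) [CommRing S] [Algebra B S] [Algebra A S] [IsScalarTower A B S] [Algebra.FinitePresentation B S]
    (C : Type u) [CommRing C] [Algebra S C] [Algebra B C] [Algebra A C] [IsScalarTower B S C]
    [IsScalarTower A B C]
    (hC : Hens2.IsPairHenselization S (I.map (algebraMap A S)) C) :
    ∃ (T : Type u) (_ : CommRing T) (_ : Algebra A T) (_ : Algebra T C) (_ : IsScalarTower A T C),
      Algebra.FinitePresentation A T ∧ Hens2.IsPairHenselization T (I.map (algebraMap A T)) C := by
  classical
  obtain ⟨R', _, _, hEt, hb, φ, n, f, rels, hf, hker⟩ :=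
    Groth.Agent.Lib.Helper58.PairHens.exists_presentation_over_nbhd hB S
  let _ : Algebra A R' := ((algebraMap R R').comp (algebraMap A R)).toAlgebra
  have _ : IsScalarTower A R R' := IsScalarTower.of_algebraMap_eq (fun _ => rfl)
  let _ : Algebra R' B := φ.toRingHom.toAlgebra
  have hφalg : ∀ r', algebraMap R' B r' = φ r' := fun _ => rfl
  have _ : IsScalarTower R R' B := IsScalarTower.of_algebraMap_eq (fun r => (φ.commutes r).symm)
  have _ : IsScalarTower A R' B := IsScalarTower.of_algebraMap_eq (fun a => by
    change algebraMap A B a = φ (algebraMap R R' (algebraMap A R a))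
    rw [φ.commutes, ← IsScalarTower.algebraMap_apply])
  have hB' : Hens2.IsPairHenselization R' ((I.map (algebraMap A R)).map (algebraMap R R')) B :=
    Groth.Agent.Lib.Helper58.PairHens.isPairHenselization_nbhd hb hB
  have hIR' : (I.map (algebraMap A R)).map (algebraMap R R') = I.map (algebraMap A R') := by
    rw [Ideal.map_map, ← IsScalarTower.algebraMap_eq]
  rw [hIR'] at hB'
  have hAS : ∀ a : A, algebraMap S C (algebraMap A S a) = algebraMap A C a := by
    intro a
    rw [IsScalarTower.algebraMap_apply A B S, ← IsScalarTower.algebraMap_apply B S C,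
      ← IsScalarTower.algebraMap_apply A B C]
  -- the descended algebra
  let Jr : Ideal (MvPolynomial (Fin n) R') := Ideal.span (rels : Set (MvPolynomial (Fin n) R'))
  have hfpS₀ : Algebra.FinitePresentation R' (MvPolynomial (Fin n) R' ⧸ Jr) :=
    Algebra.FinitePresentation.quotient ⟨rels, rfl⟩
  have hfpRR' : Algebra.FinitePresentation R R' := inferInstance
  have hfpAR' : Algebra.FinitePresentation A R' := Algebra.FinitePresentation.trans A R R'
  have hfpA : Algebra.FinitePresentation A (MvPolynomial (Fin n) R' ⧸ Jr) :=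
    Algebra.FinitePresentation.trans A R' _
  let θ₀ : MvPolynomial (Fin n) R' →+* S :=
    (f : MvPolynomial (Fin n) B →+* S).comp (MvPolynomial.map (φ : R' →+* B))
  have hθ₀ : ∀ g ∈ Jr, θ₀ g = 0 := by
    intro g hg
    have : Jr ≤ RingHom.ker θ₀ := by
      rw [Ideal.span_le]
      intro g hg
      have h1 : MvPolynomial.map (φ : R' →+* B) g ∈ RingHom.ker f.toRingHom := by
        rw [hker]
        exact Ideal.subset_span ⟨g, hg, rfl⟩
      exact h1
    exact this hg
  let θ : (MvPolynomial (Fin n) R' ⧸ Jr) →+* S := Ideal.Quotient.lift Jr θ₀ hθ₀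
  have hθC : ∀ r' : R', θ (Ideal.Quotient.mk Jr (MvPolynomial.C r')) = algebraMap B S (φ r') := by
    intro r'
    change f (MvPolynomial.map (φ : R' →+* B) (MvPolynomial.C r')) = _
    rw [MvPolynomial.map_C, ← MvPolynomial.algebraMap_eq, AlgHom.commutes]
    rfl
  have hθX : ∀ i, θ (Ideal.Quotient.mk Jr (MvPolynomial.X i)) = f (MvPolynomial.X i) := by
    intro i
    change f (MvPolynomial.map (φ : R' →+* B) (MvPolynomial.X i)) = _
    rw [MvPolynomial.map_X]
  let _ : Algebra (MvPolynomial (Fin n) R' ⧸ Jr) C := ((algebraMap S C).comp θ).toAlgebra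
  have halgT : ∀ t, algebraMap (MvPolynomial (Fin n) R' ⧸ Jr) C t = algebraMap S C (θ t) :=
    fun _ => rfl
  have hAT : ∀ a : A, algebraMap A (MvPolynomial (Fin n) R' ⧸ Jr) a =
      Ideal.Quotient.mk Jr (MvPolynomial.C (algebraMap A R' a)) := fun _ => rfl
  have hθA : ∀ a : A, θ (algebraMap A (MvPolynomial (Fin n) R' ⧸ Jr) a) = algebraMap A S a := by
    intro a
    rw [hAT, hθC, ← hφalg, ← IsScalarTower.algebraMap_apply A R' B,
      ← IsScalarTower.algebraMap_apply A B S]
  have hST : IsScalarTower A (MvPolynomial (Fin n) R' ⧸ Jr) C :=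
    IsScalarTower.of_algebraMap_eq (R := A) (S := MvPolynomial (Fin n) R' ⧸ Jr) (A := C)
      (fun a => by rw [halgT, hθA, hAS])
  refine ⟨MvPolynomial (Fin n) R' ⧸ Jr, inferInstance, inferInstance, inferInstance, inferInstance,
    hfpA, ?_, ?_⟩
  · have e1 : (I.map (algebraMap A (MvPolynomial (Fin n) R' ⧸ Jr))).map
        (algebraMap (MvPolynomial (Fin n) R' ⧸ Jr) C) = I.map (algebraMap A C) := by
      rw [Ideal.map_map, ← IsScalarTower.algebraMap_eq]
    have e2 : (I.map (algebraMap A S)).map (algebraMap S C) = I.map (algebraMap A C) := by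
      rw [Ideal.map_map]
      congr 1
      exact RingHom.ext hAS
    rw [e1, ← e2]
    exact hC.1
  · intro D _ J f' hD hle
    have hfa : ∀ a ∈ I, f' (algebraMap A (MvPolynomial (Fin n) R' ⧸ Jr) a) ∈ J := fun a ha =>
      hle (Ideal.mem_map_of_mem f' (Ideal.mem_map_of_mem _ ha))
    -- the map `B → D`
    let fR' : R' →+* D := f'.comp ((Ideal.Quotient.mk Jr).comp MvPolynomial.C)
    have hleR' : (I.map (algebraMap A R')).map fR' ≤ J := by
      rw [Ideal.map_map, Ideal.map_le_iff_le_comap]
      intro a ha
      exact hfa a ha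
    obtain ⟨β, hβ, hβuniq⟩ := hB'.2 D J fR' hD hleR'
    have hβ' : ∀ r', β (φ r') = f' (Ideal.Quotient.mk Jr (MvPolynomial.C r')) := fun r' =>
      congrArg (fun ρ : R' →+* D => ρ r') hβ
    -- the map `S → D`
    let y : Fin n → D := fun i => f' (Ideal.Quotient.mk Jr (MvPolynomial.X i))
    let F₀ : MvPolynomial (Fin n) B →+* D := MvPolynomial.eval₂Hom β y
    have hF₀map : ∀ g : MvPolynomial (Fin n) R',
        F₀ (MvPolynomial.map (φ : R' →+* B) g) = f' (Ideal.Quotient.mk Jr g) := by
      intro g
      have : F₀.comp (MvPolynomial.map (φ : R' →+* B)) = f'.comp (Ideal.Quotient.mk Jr) := by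
        apply MvPolynomial.ringHom_ext
        · intro r'
          simp only [RingHom.comp_apply, MvPolynomial.map_C, F₀, MvPolynomial.eval₂Hom_C]
          exact hβ' r'
        · intro i
          simp only [RingHom.comp_apply, MvPolynomial.map_X, F₀, MvPolynomial.eval₂Hom_X']
          rfl
      exact congrArg (fun ρ : MvPolynomial (Fin n) R' →+* D => ρ g) this
    have hF₀ker : RingHom.ker f.toRingHom ≤ RingHom.ker F₀ := by
      rw [hker, Ideal.span_le]
      rintro _ ⟨g, hg, rfl⟩
      change F₀ _ = 0
      rw [hF₀map, Ideal.Quotient.eq_zero_iff_mem.mpr (Ideal.subset_span hg), map_zero]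
    let F : S →+* D := f.toRingHom.liftOfSurjective hf ⟨F₀, hF₀ker⟩
    have hF : ∀ p, F (f p) = F₀ p := fun p =>
      f.toRingHom.liftOfSurjective_comp_apply hf ⟨F₀, hF₀ker⟩ p
    have hFθ : ∀ t, F (θ t) = f' t := by
      intro t
      obtain ⟨g, rfl⟩ := Ideal.Quotient.mk_surjective t
      change F (f (MvPolynomial.map (φ : R' →+* B) g)) = _
      rw [hF, hF₀map]
    have hleS : (I.map (algebraMap A S)).map F ≤ J := by
      rw [Ideal.map_map, Ideal.map_le_iff_le_comap]
      intro a ha
      rw [Ideal.mem_comap, RingHom.comp_apply, ← hθA, hFθ]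
      exact hfa a ha
    obtain ⟨g, hg, hguniq⟩ := hC.2 D J F hD hleS
    have hg' : ∀ s, g (algebraMap S C s) = F s := fun s =>
      congrArg (fun ρ : S →+* D => ρ s) hg
    refine ⟨g, ?_, ?_⟩
    · refine RingHom.ext fun t => ?_
      rw [RingHom.comp_apply, halgT, hg', hFθ]
    · intro g' hg'f
      apply hguniq
      have hg'T : ∀ t, g' (algebraMap S C (θ t)) = f' t := fun t =>
        congrArg (fun ρ : (MvPolynomial (Fin n) R' ⧸ Jr) →+* D => ρ t) hg'f
      -- `g' ∘ (B → C) = β`
      have hβ2 : g'.comp (algebraMap B C) = β := hβuniq _ (by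
        refine RingHom.ext fun r' => ?_
        change g' (algebraMap B C (φ r')) = f' (Ideal.Quotient.mk Jr (MvPolynomial.C r'))
        rw [← hg'T, hθC, ← IsScalarTower.algebraMap_apply B S C])
      refine RingHom.ext fun s => ?_
      obtain ⟨p, rfl⟩ := hf s
      rw [RingHom.comp_apply, hF]
      have : (g'.comp (algebraMap S C)).comp (f : MvPolynomial (Fin n) B →+* S) = F₀ := by
        apply MvPolynomial.ringHom_ext
        · intro b
          simp only [RingHom.comp_apply, F₀, MvPolynomial.eval₂Hom_C, RingHom.coe_coe]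
          rw [← MvPolynomial.algebraMap_eq, AlgHom.commutes,
            ← IsScalarTower.algebraMap_apply B S C]
          exact congrArg (fun ρ : B →+* D => ρ b) hβ2
        · intro i
          simp only [RingHom.comp_apply, F₀, MvPolynomial.eval₂Hom_X', RingHom.coe_coe]
          rw [← hθX, hg'T]
      exact congrArg (fun ρ : MvPolynomial (Fin n) B →+* D => ρ p) this

end Groth.Agent.S17608
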