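import Groth.Statements.S17610
-- import your own Groth.Agent.* helpers here
import Groth.Agent.Lib.Helper58.HfpTrunc

set_option autoImplicit false
universe u
open Hensel

namespace Groth.Agent.S17610

open Groth.Agent.Lib.Helper58.PairHens in
/-- lifting data for an `A/K`-algebra `T` with a square-zero ideal `J`, seen over `A`. -/
theorem exists_data {A : Type u} [CommRing A] (K : Ideal A) (T : Type u) [CommRing T]
    [Algebra (A ⧸ K) T] (J : Ideal T) :
    ∃ (_ : Algebra A T) (_ : IsScalarTower A (A ⧸ K) T) (_ : IsScalarTower A (A ⧸ K) (T ⧸ J)),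
      K.map (algebraMap A T) = ⊥ ∧ K.map (algebraMap A (T ⧸ J)) = ⊥ := by
  let _ : Algebra A T := ((algebraMap (A ⧸ K) T).comp (Ideal.Quotient.mk K)).toAlgebra
  have h1 : IsScalarTower A (A ⧸ K) T := IsScalarTower.of_algebraMap_eq (fun _ => rfl)
  have h2 : IsScalarTower A (A ⧸ K) (T ⧸ J) := IsScalarTower.of_algebraMap_eq (fun _ => rfl)
  refine ⟨inferInstance, h1, h2, ?_, ?_⟩
  · rw [eq_bot_iff, Ideal.map_le_iff_le_comap]
    intro a ha
    rw [Ideal.mem_comap, Ideal.mem_bot]
    exact algebraMap_eq_zero_of_mem K ha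
  · rw [eq_bot_iff, Ideal.map_le_iff_le_comap]
    intro a ha
    rw [Ideal.mem_comap, Ideal.mem_bot]
    exact algebraMap_eq_zero_of_mem K ha

/-- Let (A, I) be a Henselian pair and let B be a Henselization of the pair (R₀, IR₀) for a finitely
presented A-algebra R₀ (so A → B is a Henselian finitely presented map of Henselian pairs). Then A →
B is h-formally étale, meaning that for all A-algebras E and C annihilated by some power I^N (N ≥
1), every surjective A-algebra map p : E → C with nilpotent kernel and every A-algebra map u : B →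
C, there is exactly one A-algebra map v : B → E with p ∘ v = u, if and only if A/I^r → B/I^rB is
étale for every r ≥ 1. (Test algebras E, C are taken in the universe of A.) -/
theorem result (A : Type u) [CommRing A] (I : Ideal A)
    [HenselianRing A I] (R₀ : Type u) [CommRing R₀] [Algebra A R₀] [Algebra.FinitePresentation A R₀]
    (B : Type u) [CommRing B] [Algebra R₀ B] [Algebra A B] [IsScalarTower A R₀ B]
    (hB : Hens2.IsPairHenselization R₀ (I.map (algebraMap A R₀)) B) :
    (∀ (E C : Type u) [CommRing E] [CommRing C] [Algebra A E] [Algebra A C] (N : ℕ), 1 ≤ N →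
        (I ^ N).map (algebraMap A E) = ⊥ → (I ^ N).map (algebraMap A C) = ⊥ →
        ∀ (p : E →ₐ[A] C), Function.Surjective p → (∃ M : ℕ, 1 ≤ M ∧ RingHom.ker p ^ M = ⊥) →
        ∀ u : B →ₐ[A] C, ∃! v : B →ₐ[A] E, p.comp v = u) ↔
    ∀ r : ℕ, 1 ≤ r → Algebra.Etale (A ⧸ I ^ r) (B ⧸ (I ^ r).map (algebraMap A B)) := by
  constructor
  · intro H r hr
    have hfp := Groth.Agent.Lib.Helper58.PairHens.finitePresentation_quotient_pow A I R₀ B hB r
    have hfe : Algebra.FormallyEtale (A ⧸ I ^ r) (B ⧸ (I ^ r).map (algebraMap A B)) := by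
      rw [Algebra.FormallyEtale.iff_comp_bijective]
      intro T _ _ J hJ
      obtain ⟨_, _, _, hT, hTJ⟩ := exists_data (I ^ r) T J
      have hkerp : RingHom.ker (Ideal.Quotient.mkₐ A J) ^ 2 = ⊥ := by
        have : RingHom.ker (Ideal.Quotient.mkₐ A J) = J := by
          ext t
          rw [RingHom.mem_ker, Ideal.Quotient.mkₐ_eq_mk, Ideal.Quotient.eq_zero_iff_mem]
        rw [this]; exact hJ
      have key := H T (T ⧸ J) r hr hT hTJ (Ideal.Quotient.mkₐ A J)
        (Ideal.Quotient.mkₐ_surjective A J) ⟨2, by norm_num, hkerp⟩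
      constructor
      · intro φ₁ φ₂ h
        apply Groth.Agent.Lib.Helper58.PairHens.ascAlgHom_injective (I ^ r)
        obtain ⟨v, hv, huniq⟩ := key ((Ideal.Quotient.mkₐ A J).comp
          (Groth.Agent.Lib.Helper58.PairHens.ascAlgHom (I ^ r) φ₁))
        have h1 := huniq (Groth.Agent.Lib.Helper58.PairHens.ascAlgHom (I ^ r) φ₁) rfl
        have h2 := huniq (Groth.Agent.Lib.Helper58.PairHens.ascAlgHom (I ^ r) φ₂) (by
          refine AlgHom.ext fun b => ?_
          have := AlgHom.congr_fun h (Ideal.Quotient.mk _ b)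
          exact this.symm)
        rw [h1, h2]
      · intro ψ
        obtain ⟨v, hv, -⟩ := key (Groth.Agent.Lib.Helper58.PairHens.ascAlgHom (I ^ r) ψ)
        refine ⟨Groth.Agent.Lib.Helper58.PairHens.descAlgHom (I ^ r) v, ?_⟩
        refine AlgHom.ext fun x => ?_
        obtain ⟨b, rfl⟩ := Ideal.Quotient.mk_surjective x
        have := AlgHom.congr_fun hv b
        exact this
    exact ⟨hfe, hfp⟩
  · intro H E C _ _ _ _ N hN hE hC p hp hnil u
    obtain ⟨M, hM, hker⟩ := hnil
    have hEt := H N hN
    -- `E` and `C` are `A / I^N`-algebras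
    have hE' : ∀ a ∈ I ^ N, algebraMap A E a = 0 := fun a ha => by
      have := Ideal.mem_map_of_mem (algebraMap A E) ha
      rw [hE] at this
      exact this
    have hC' : ∀ a ∈ I ^ N, algebraMap A C a = 0 := fun a ha => by
      have := Ideal.mem_map_of_mem (algebraMap A C) ha
      rw [hC] at this
      exact this
    let _ : Algebra (A ⧸ I ^ N) E := (Ideal.Quotient.lift (I ^ N) (algebraMap A E) hE').toAlgebra
    let _ : Algebra (A ⧸ I ^ N) C := (Ideal.Quotient.lift (I ^ N) (algebraMap A C) hC').toAlgebra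
    have _ : IsScalarTower A (A ⧸ I ^ N) E := IsScalarTower.of_algebraMap_eq (fun _ => rfl)
    have _ : IsScalarTower A (A ⧸ I ^ N) C := IsScalarTower.of_algebraMap_eq (fun _ => rfl)
    let pN : E →ₐ[A ⧸ I ^ N] C :=
      AlgHom.extendScalarsOfSurjective (Ideal.Quotient.mk_surjective (I := I ^ N)) p
    have hpN : Function.Surjective pN := hp
    have hnilN : IsNilpotent (RingHom.ker (pN : E →+* C)) := ⟨M, hker⟩
    let uN := Groth.Agent.Lib.Helper58.PairHens.descAlgHom (I ^ N) u
    let vN := Algebra.FormallySmooth.liftOfSurjective uN pN hpN hnilN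
    have hvN : pN.comp vN = uN := Algebra.FormallySmooth.comp_liftOfSurjective uN pN hpN hnilN
    refine ⟨Groth.Agent.Lib.Helper58.PairHens.ascAlgHom (I ^ N) vN, ?_, ?_⟩
    · refine AlgHom.ext fun b => ?_
      have := AlgHom.congr_fun hvN (Ideal.Quotient.mk _ b)
      exact this
    · intro v' hv'
      have h1 : Groth.Agent.Lib.Helper58.PairHens.descAlgHom (I ^ N) v' = vN := by
        apply Algebra.FormallyUnramified.lift_unique' pN hnilN
        rw [hvN]
        refine AlgHom.ext fun x => ?_
        obtain ⟨b, rfl⟩ := Ideal.Quotient.mk_surjective x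
        have := AlgHom.congr_fun hv' b
        exact this
      rw [← h1, Groth.Agent.Lib.Helper58.PairHens.ascAlgHom_descAlgHom]

end Groth.Agent.S17610
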