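import Groth.Statements.S17611
-- import your own Groth.Agent.* helpers here
import Groth.Agent.Lib.Helper58.HfpTrunc
import Groth.Agent.S17610

set_option autoImplicit false
universe u
open Hensel

namespace Groth.Agent.S17611

/-- Let (A, I) be a Henselian pair and let B be a Henselization of the pair (R₀, IR₀) for a finitely
presented A-algebra R₀ (so A → B is a Henselian finitely presented map of Henselian pairs). Then A →
B is h-formally smooth, meaning that for all A-algebras E and C annihilated by some power I^N (N ≥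
1), every surjective A-algebra map p : E → C with nilpotent kernel and every A-algebra map u : B →
C, there is an A-algebra map v : B → E with p ∘ v = u, if and only if A/I^r → B/I^rB is smooth for
every r ≥ 1. (Test algebras E, C are taken in the universe of A.) -/
theorem result (A : Type u) [CommRing A] (I : Ideal A)
    [HenselianRing A I] (R₀ : Type u) [CommRing R₀] [Algebra A R₀] [Algebra.FinitePresentation A R₀]
    (B : Type u) [CommRing B] [Algebra R₀ B] [Algebra A B] [IsScalarTower A R₀ B]
    (hB : Hens2.IsPairHenselization R₀ (I.map (algebraMap A R₀)) B) :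
    (∀ (E C : Type u) [CommRing E] [CommRing C] [Algebra A E] [Algebra A C] (N : ℕ), 1 ≤ N →
        (I ^ N).map (algebraMap A E) = ⊥ → (I ^ N).map (algebraMap A C) = ⊥ →
        ∀ (p : E →ₐ[A] C), Function.Surjective p → (∃ M : ℕ, 1 ≤ M ∧ RingHom.ker p ^ M = ⊥) →
        ∀ u : B →ₐ[A] C, ∃ v : B →ₐ[A] E, p.comp v = u) ↔
    ∀ r : ℕ, 1 ≤ r → Algebra.Smooth (A ⧸ I ^ r) (B ⧸ (I ^ r).map (algebraMap A B)) := by
  constructor
  · intro H r hr
    have hfp := Groth.Agent.Lib.Helper58.PairHens.finitePresentation_quotient_pow A I R₀ B hB r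
    have hfe : Algebra.FormallySmooth (A ⧸ I ^ r) (B ⧸ (I ^ r).map (algebraMap A B)) := by
      apply Algebra.FormallySmooth.of_comp_surjective
      intro T _ _ J hJ
      obtain ⟨_, _, _, hT, hTJ⟩ := Groth.Agent.S17610.exists_data (I ^ r) T J
      have hkerp : RingHom.ker (Ideal.Quotient.mkₐ A J) ^ 2 = ⊥ := by
        have : RingHom.ker (Ideal.Quotient.mkₐ A J) = J := by
          ext t
          rw [RingHom.mem_ker, Ideal.Quotient.mkₐ_eq_mk, Ideal.Quotient.eq_zero_iff_mem]
        rw [this]; exact hJ
      have key := H T (T ⧸ J) r hr hT hTJ (Ideal.Quotient.mkₐ A J)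
        (Ideal.Quotient.mkₐ_surjective A J) ⟨2, by norm_num, hkerp⟩
      intro ψ
      obtain ⟨v, hv⟩ := key (Groth.Agent.Lib.Helper58.PairHens.ascAlgHom (I ^ r) ψ)
      refine ⟨Groth.Agent.Lib.Helper58.PairHens.descAlgHom (I ^ r) v, ?_⟩
      refine AlgHom.ext fun x => ?_
      obtain ⟨b, rfl⟩ := Ideal.Quotient.mk_surjective x
      have := AlgHom.congr_fun hv b
      exact this
    exact ⟨hfe, hfp⟩
  · intro H E C _ _ _ _ N hN hE hC p hp hnil u
    obtain ⟨M, hM, hker⟩ := hnil
    have hSm := H N hN
    have hE' : ∀ a ∈ I ^ N, algebraMap A E a = 0 := fun a ha => by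
      have := Ideal.mem_map_of_mem (algebraMap A E) ha
      rw [hE] at this
      exact this
    have hC' : ∀ a ∈ I ^ N, algebraMap A C a = 0 := fun a ha => by
      have := Ideal.mem_map_of_mem (algebraMap A C) ha
      rw [hC] at this
      exact this
    let _ : Algebra (A ⧸ I ^ N) E := (Ideal.Quotient.lift (I ^ N) (algebraMap A E) hE').toAlgebra
    let _ : Algebra (A ⧸ I ^ N) C := (Ideal.Quotient.lift (I ^ N) (algebraMap A C) hC').toAlgebra
    have _ : IsScalarTower A (A ⧸ I ^ N) E := IsScalarTower.of_algebraMap_eq (fun _ => rfl)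
    have _ : IsScalarTower A (A ⧸ I ^ N) C := IsScalarTower.of_algebraMap_eq (fun _ => rfl)
    let pN : E →ₐ[A ⧸ I ^ N] C :=
      AlgHom.extendScalarsOfSurjective (Ideal.Quotient.mk_surjective (I := I ^ N)) p
    have hpN : Function.Surjective pN := hp
    have hnilN : IsNilpotent (RingHom.ker (pN : E →+* C)) := ⟨M, hker⟩
    let uN := Groth.Agent.Lib.Helper58.PairHens.descAlgHom (I ^ N) u
    let vN := Algebra.FormallySmooth.liftOfSurjective uN pN hpN hnilN
    have hvN : pN.comp vN = uN := Algebra.FormallySmooth.comp_liftOfSurjective uN pN hpN hnilN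
    refine ⟨Groth.Agent.Lib.Helper58.PairHens.ascAlgHom (I ^ N) vN, ?_⟩
    refine AlgHom.ext fun b => ?_
    have := AlgHom.congr_fun hvN (Ideal.Quotient.mk _ b)
    exact this

end Groth.Agent.S17611
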