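import Groth.Statements.S17614
import Groth.Agent.Lib.Helper4.ZarEt
import Groth.Agent.Lib.Helper4.SiteDimShift
import Groth.Agent.Lib.Helper4.FlasquePush
import Mathlib.AlgebraicGeometry.AffineScheme

set_option autoImplicit false
open CategoryTheory CategoryTheory.Limits AlgebraicGeometry Opposite
universe u
open EtZar

namespace Groth.Agent.S17614
open Groth.Agent.Lib.Helper4 TopologicalSpace

variable (S : Scheme.{u}) [EtZar.ZarCont S]

def P (G : EtCoh.Ab S) : Prop :=
  ∀ (T : S.Etale), IsAffine T.left → ∀ i : ℕ, 1 ≤ i →
    Subsingleton (EtCoh.H T.left ((EtCoh.pull T.hom).obj G) i)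

instance : PreservesFiniteLimits (EtZar.resZar S) :=
  have : PreservesLimitsOfSize.{0, 0} (EtZar.resZar S) :=
    (ZarEt.adjZar S).rightAdjoint_preservesLimits
  PreservesLimitsOfSize.preservesFiniteLimits _

instance : (EtZar.resZar S).Additive where

theorem isAffine_zarToEt (W : S.Opens) (hW : IsAffineOpen W) :
    IsAffine ((EtZar.zarToEt S).obj W).left := hW

theorem P_X₃ (G : EtCoh.Ab S) (hG : P S G) : P S (FlasquePush.injSC G).X₃ := by
  intro T hT i hi
  have : Etale T.hom := T.prop
  exact FlasquePush.subsingleton_H_X₃ (FlasquePush.injSC G) (FlasquePush.injSC_shortExact G)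
    T.hom i hi (hG T hT (i + 1) (Nat.succ_pos i))

theorem shortExact_resZar (G : EtCoh.Ab S) (hG : P S G) :
    ((FlasquePush.injSC G).map (EtZar.resZar S)).ShortExact := by
  have hS := FlasquePush.injSC_shortExact G
  have := hS.mono_f
  have hex : ((FlasquePush.injSC G).map (EtZar.resZar S)).Exact :=
    hS.exact.map_of_mono_of_preservesKernel (EtZar.resZar S) hS.mono_f inferInstance
  have hm : Mono ((FlasquePush.injSC G).map (EtZar.resZar S)).f := by
    change Mono ((EtZar.resZar S).map (FlasquePush.injSC G).f)
    infer_instance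
  have he : Epi ((FlasquePush.injSC G).map (EtZar.resZar S)).g := by
    have : Sheaf.IsLocallySurjective ((FlasquePush.injSC G).map (EtZar.resZar S)).g := by
      constructor
      intro V s
      intro x hx
      obtain ⟨W, hW, hxW, hWV⟩ := (Opens.isBasis_iff_nbhd.1 (S.isBasis_affineOpens)) hx
      have hsurj := FlasqueSurj.surjective_sections_of_H1 (FlasquePush.injSC G) hS
        ((EtZar.zarToEt S).obj W) (hG _ (isAffine_zarToEt S W hW) 1 le_rfl)
      obtain ⟨t, ht⟩ := hsurj
        (((EtZar.resZar S).obj (FlasquePush.injSC G).X₃).obj.map (homOfLE hWV).op s)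
      exact ⟨W, homOfLE hWV, ⟨t, ht⟩, hxW⟩
    exact Sheaf.epi_of_isLocallySurjective _
  exact { exact := hex, mono_f := hm, epi_g := he }

theorem main (i : ℕ) (hi : 1 ≤ i) [IsAffine S] :
    ∀ G : EtCoh.Ab S, P S G → Subsingleton (EtZar.H ((EtZar.resZar S).obj G) i) := by
  induction i, hi using Nat.le_induction with
  | base =>
    intro G hG
    have hS := FlasquePush.injSC_shortExact G
    have hT := shortExact_resZar S G hG
    have : Injective ((FlasquePush.injSC G).map (EtZar.resZar S)).X₂ :=
      ZarEt.injective_resZar S (FlasquePush.injSC G).X₂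
    refine SiteDimShift.subsingleton_H1_of_surjective (T := (⊤ : S.Opens)) isTerminalTop
      ((FlasquePush.injSC G).map (EtZar.resZar S)) hT inferInstance ?_
    exact FlasqueSurj.surjective_sections_of_H1 (FlasquePush.injSC G) hS
      ((EtZar.zarToEt S).obj ⊤) (hG _ (isAffine_zarToEt S ⊤ (isAffineOpen_top S)) 1 le_rfl)
  | succ q hq ih =>
    intro G hG
    have hT := shortExact_resZar S G hG
    have : Injective ((FlasquePush.injSC G).map (EtZar.resZar S)).X₂ :=
      ZarEt.injective_resZar S (FlasquePush.injSC G).X₂
    exact SiteDimShift.subsingleton_H_succ ((FlasquePush.injSC G).map (EtZar.resZar S)) hT q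
      inferInstance (ih _ (P_X₃ S G hG))


/-- Suppose S is an affine scheme, and G denotes a sheaf of abelian groups on the small étale site of S.
If for every affine scheme T étale over S and every i ≥ 1 the étale cohomology group H^i(T, G|_T)
vanishes, then the Zariski cohomology groups H^i(S, G|_{S_Zar}) of the restriction of G to the site
of opens of S vanish for every i ≥ 1. (Continuity of the opens-to-étale-schemes functor is carried
as an instance binder.) -/
theorem result (S : Scheme.{u}) [IsAffine S]
    [EtZar.ZarCont S] (G : EtCoh.Ab S)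
    (hG : ∀ (T : S.Etale), IsAffine T.left → ∀ i : ℕ, 1 ≤ i →
      Subsingleton (EtCoh.H T.left ((EtCoh.pull T.hom).obj G) i))
    (i : ℕ) (hi : 1 ≤ i) :
    Subsingleton (EtZar.H ((EtZar.resZar S).obj G) i) := by
  exact main S i hi G hG

end Groth.Agent.S17614
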