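import Groth.Statements.S17615
-- import your own Groth.Agent.* helpers here
import Groth.Agent.S17593
import Groth.Agent.Lib.Helper58.HSmoothFlat
import Groth.Agent.Lib.Helper58.PairHensNbhd

set_option autoImplicit false
universe u
open Hensel

namespace Groth.Agent.S17615

/-- Let (A, I) be a Henselian pair and let B be a Henselization of the pair (R₀, IR₀) for a finitely
presented A-algebra R₀ (so A → B is a Henselian finitely presented map of Henselian pairs). If B is
flat over A, then there are a finitely presented A-algebra S that is flat over A and an S-algebra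
structure on B compatible with that of A for which B is a Henselization of the pair (S, IS). -/
theorem result (A : Type u) [CommRing A]
    (I : Ideal A) [HenselianRing A I]
    (R₀ : Type u) [CommRing R₀] [Algebra A R₀] [Algebra.FinitePresentation A R₀]
    (B : Type u) [CommRing B] [Algebra R₀ B] [Algebra A B] [IsScalarTower A R₀ B]
    (hB : Hens2.IsPairHenselization R₀ (I.map (algebraMap A R₀)) B) [Module.Flat A B] :
    ∃ (S : Type u) (_ : CommRing S) (_ : Algebra A S) (_ : Algebra S B) (_ : IsScalarTower A S B),
      Algebra.FinitePresentation A S ∧ Module.Flat A S ∧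
      Hens2.IsPairHenselization S (I.map (algebraMap A S)) B := by
  have hflat : ∀ (p : Ideal R₀) [p.IsPrime], I.map (algebraMap A R₀) ≤ p →
      Module.Flat A (Localization.AtPrime p) := fun p _ hp =>
    Groth.Agent.Lib.Helper58.PairHens.flat_localization_atPrime I hB p hp
  obtain ⟨S, _, _, _, _, hEt, hb, hSflat⟩ := Groth.Agent.S17593.result A I R₀ hflat
  obtain ⟨⟨⟨φ⟩, -⟩⟩ := Groth.Agent.Lib.Helper58.PairHens.nonempty_unique_algHom_nbhd hB S hb
  let _ : Algebra S B := φ.toRingHom.toAlgebra
  have _ : IsScalarTower R₀ S B := IsScalarTower.of_algebraMap_eq (fun a => (φ.commutes a).symm)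
  have hAS : IsScalarTower A S B := IsScalarTower.of_algebraMap_eq (fun a => by
    rw [IsScalarTower.algebraMap_apply A R₀ B, IsScalarTower.algebraMap_apply R₀ S B,
      ← IsScalarTower.algebraMap_apply A R₀ S])
  have hfp : Algebra.FinitePresentation A S :=
    Algebra.FinitePresentation.trans A R₀ S
  have hH := Groth.Agent.Lib.Helper58.PairHens.isPairHenselization_nbhd hb hB
  rw [Ideal.map_map, ← IsScalarTower.algebraMap_eq] at hH
  exact ⟨S, inferInstance, inferInstance, inferInstance, hAS, hfp, hSflat, hH⟩

end Groth.Agent.S17615
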