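import Groth.Statements.S17616
-- import your own Groth.Agent.* helpers here
import Groth.Agent.Lib.Helper23.AwayNbhd

set_option autoImplicit false
universe u
open Hensel

namespace Groth.Agent.S17616

/-- Let P be a property of ring maps (between rings in a fixed universe), and say that f : B → B' has P
at a prime q of B' if the composite B → B' → B'_g has P for some g ∉ q. Assume (i) for every
finitely presented f : B → B' the set of primes of B' at which f has P is ind-constructible in Spec
B', and f has P as soon as it has P at every prime; (ii) every étale ring map has P; (iii) for g : C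
→ C' and h : C' → C'', if h has P at a prime q of C'' and g has P at the inverse image of q in C',
then h ∘ g has P at q. Now suppose (A, I) is a Henselian pair, and take an A-algebra R of finite
presentation for which A → R has P at each prime of R that contains IR. Then there is an étale
R-algebra R' with R/IR → R'/IR' bijective such that A → R' has P. -/
theorem result
    (P : ∀ ⦃B B' : Type u⦄ [CommRing B] [CommRing B'], (B →+* B') → Prop)
    (PAt : ∀ ⦃B B' : Type u⦄ [CommRing B] [CommRing B'], (B →+* B') → Ideal B' → Prop)
    (hPAt : ∀ ⦃B B' : Type u⦄ [CommRing B] [CommRing B'] (f : B →+* B') (q : Ideal B'),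
      PAt f q ↔ ∃ g : B', g ∉ q ∧ P ((algebraMap B' (Localization.Away g)).comp f))
    (h₁ : ∀ ⦃B B' : Type u⦄ [CommRing B] [CommRing B'] (f : B →+* B'), f.FinitePresentation →
      ProCons.IsIndConstructible {q : PrimeSpectrum B' | PAt f q.asIdeal} ∧
        ((∀ q : PrimeSpectrum B', PAt f q.asIdeal) → P f))
    (h₂ : ∀ ⦃B B' : Type u⦄ [CommRing B] [CommRing B'] (f : B →+* B'), f.Etale → P f)
    (h₃ : ∀ ⦃C C' C'' : Type u⦄ [CommRing C] [CommRing C'] [CommRing C''] (g : C →+* C')
      (h : C' →+* C'') (q : Ideal C'') [q.IsPrime],
      PAt h q → PAt g (q.comap h) → PAt (h.comp g) q)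
    (A : Type u) [CommRing A] (I : Ideal A) [HenselianRing A I]
    (R : Type u) [CommRing R] [Algebra A R] [Algebra.FinitePresentation A R]
    (hR : ∀ (p : Ideal R) [p.IsPrime], I.map (algebraMap A R) ≤ p → PAt (algebraMap A R) p) :
    ∃ (R' : Type u) (_ : CommRing R') (_ : Algebra R R') (_ : Algebra A R') (_ : IsScalarTower A R R'),
      Algebra.Etale R R' ∧
      Function.Bijective (Ideal.quotientMap ((I.map (algebraMap A R)).map (algebraMap R R'))
        (algebraMap R R') Ideal.le_comap_map) ∧ P (algebraMap A R') := by
  classical
  let G : Set R := {g | P ((algebraMap R (Localization.Away g)).comp (algebraMap A R))}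
  have hcover : Ideal.span G ⊔ I.map (algebraMap A R) = ⊤ := by
    by_contra hne
    obtain ⟨M, hM, hle⟩ := Ideal.exists_le_maximal _ hne
    have hMp := hM.isPrime
    obtain ⟨g, hgM, hg⟩ := (hPAt (algebraMap A R) M).1 (hR M (le_trans le_sup_right hle))
    exact hgM (hle (Ideal.mem_sup_left (Ideal.subset_span hg)))
  obtain ⟨a, ha, i, hi, hai⟩ := Submodule.mem_sup.1 ((Ideal.eq_top_iff_one _).1 hcover)
  have ha1 : a - 1 ∈ I.map (algebraMap A R) := by
    have : a - 1 = -i := by rw [← hai]; ring
    rw [this]
    exact (Ideal.neg_mem_iff _).2 hi
  have hEt : Algebra.Etale R (Localization.Away a) := Algebra.Etale.of_isLocalizationAway a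
  refine ⟨Localization.Away a, inferInstance, inferInstance, inferInstance, inferInstance, hEt,
    Groth.Agent.Lib.Helper23.quotientMap_away_bijective _ a ha1 _, ?_⟩
  have hfp : (algebraMap A (Localization.Away a)).FinitePresentation := by
    have h1 : Algebra.FinitePresentation R (Localization.Away a) :=
      IsLocalization.Away.finitePresentation a
    have h2 : Algebra.FinitePresentation A (Localization.Away a) :=
      Algebra.FinitePresentation.trans A R (Localization.Away a)
    exact RingHom.finitePresentation_algebraMap.2 h2
  refine (h₁ (algebraMap A (Localization.Away a)) hfp).2 fun q' => ?_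
  have hcomp : algebraMap A (Localization.Away a) =
      (algebraMap R (Localization.Away a)).comp (algebraMap A R) :=
    IsScalarTower.algebraMap_eq A R (Localization.Away a)
  rw [hcomp]
  have _ := q'.isPrime
  refine h₃ (algebraMap A R) (algebraMap R (Localization.Away a)) q'.asIdeal ?_ ?_
  · -- étale maps have `P` at every prime
    rw [hPAt]
    refine ⟨1, fun h1 => q'.isPrime.ne_top ((Ideal.eq_top_iff_one _).2 h1), ?_⟩
    apply h₂
    have e1 : Algebra.Etale (Localization.Away a)
        (Localization.Away (1 : Localization.Away a)) := Algebra.Etale.of_isLocalizationAway 1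
    have e2 : Algebra.Etale R (Localization.Away (1 : Localization.Away a)) :=
      Algebra.Etale.comp R (Localization.Away a) _
    rw [← IsScalarTower.algebraMap_eq R (Localization.Away a)
      (Localization.Away (1 : Localization.Away a))]
    exact RingHom.etale_algebraMap.2 e2
  · -- the contraction of `q'` lies in the good locus
    set q := q'.asIdeal.comap (algebraMap R (Localization.Away a)) with hq
    have hqp : q.IsPrime := Ideal.IsPrime.comap _
    have haq : a ∉ q := by
      intro haq
      have hu : IsUnit (algebraMap R (Localization.Away a) a) :=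
        IsLocalization.Away.algebraMap_isUnit a
      exact q'.isPrime.ne_top (Ideal.eq_top_of_isUnit_mem _ haq hu)
    have hnot : ¬ Ideal.span G ≤ q := fun hle => haq (hle ha)
    rw [Ideal.span_le] at hnot
    obtain ⟨g, hgG, hgq⟩ := Set.not_subset.1 hnot
    rw [hPAt]
    exact ⟨g, hgq, hgG⟩

end Groth.Agent.S17616
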