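import Groth.Statements.S17617
-- import your own Groth.Agent.* helpers here
import Groth.Agent.Lib.Helper58.PairHensProps

set_option autoImplicit false
universe u
open Hensel

namespace Groth.Agent.S17617

theorem one_mem_of_exact {A : Type u} [CommRing A] {M' M M'' : Type u}
    [AddCommGroup M'] [Module A M'] [AddCommGroup M] [Module A M]
    [AddCommGroup M''] [Module A M''] (f : M' →ₗ[A] M) (g : M →ₗ[A] M'')
    (H : Type u) [CommRing H] [Algebra A H] [Module.Flat A H]
    (hex : Function.Exact (f.baseChange H) (g.baseChange H)) (m : M) (hm : g m = 0) :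
    (1 : H) ∈ (LinearMap.ker ((LinearMap.range f).mkQ.comp (LinearMap.toSpanSingleton A M m)) • ⊤ :
      Submodule A H) := by
  have h1 : (1 : H) ⊗ₜ[A] m ∈ LinearMap.range (f.baseChange H) :=
    (hex _).1 (by rw [LinearMap.baseChange_tmul, hm, TensorProduct.tmul_zero])
  set q := (LinearMap.range f).mkQ with hq
  set ι := q.comp (LinearMap.toSpanSingleton A M m) with hι
  set 𝔞 := LinearMap.ker ι with h𝔞
  have h2 : (q.baseChange H) ((1 : H) ⊗ₜ[A] m) = 0 := by
    obtain ⟨y, hy⟩ := h1
    rw [← hy, ← LinearMap.comp_apply, ← LinearMap.baseChange_comp, hq, LinearMap.range_mkQ_comp,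
      LinearMap.baseChange_zero, LinearMap.zero_apply]
  let ιb : (A ⧸ 𝔞) →ₗ[A] (M ⧸ LinearMap.range f) := Submodule.liftQ 𝔞 ι le_rfl
  have hinj : Function.Injective ιb :=
    LinearMap.ker_eq_bot.mp (Submodule.ker_liftQ_eq_bot _ _ _ le_rfl)
  have hinj' := Module.Flat.lTensor_preserves_injective_linearMap (M := H) ιb hinj
  have h3 : (1 : H) ⊗ₜ[A] (Ideal.Quotient.mk 𝔞 1) = 0 := by
    apply hinj'
    rw [map_zero, LinearMap.lTensor_tmul]
    have : ιb (Ideal.Quotient.mk 𝔞 1) = q m := by
      change ι 1 = q m
      rw [hι, LinearMap.comp_apply, LinearMap.toSpanSingleton_apply, one_smul]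
    rw [this]
    rw [LinearMap.baseChange_tmul] at h2
    exact h2
  have h4 := congrArg (TensorProduct.tensorQuotEquivQuotSMul H 𝔞) h3
  rw [TensorProduct.tensorQuotEquivQuotSMul_tmul_mk, map_zero, one_smul,
    Submodule.Quotient.mk_eq_zero] at h4
  exact h4

/-- Let (A, I) be a Henselian pair and let M' → M → M'' be A-linear maps with zero composite. Then M' →
M → M'' is exact if and only if for every prime ideal p of A containing I and every Henselization H
of the pair (A_p, IA_p), the sequence H ⊗_A M' → H ⊗_A M → H ⊗_A M'' is exact. (The modules H ⊗_A M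
are the stalks at p of the sheaf associated to M on the affine Henselian scheme of (A, I), and
exactness of a sequence of such sheaves is exactness at every stalk, so this is the statement that
the sequence of modules is exact exactly when the associated sequence of sheaves is.) -/
theorem result (A : Type u) [CommRing A]
    (I : Ideal A) [HenselianRing A I]
    (M' M M'' : Type u) [AddCommGroup M'] [Module A M'] [AddCommGroup M] [Module A M]
    [AddCommGroup M''] [Module A M''] (f : M' →ₗ[A] M) (g : M →ₗ[A] M'') (hfg : g.comp f = 0) :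
    Function.Exact f g ↔
    ∀ (p : Ideal A) [p.IsPrime], I ≤ p →
      ∀ (H : Type u) [CommRing H] [Algebra (Localization.AtPrime p) H] [Algebra A H]
        [IsScalarTower A (Localization.AtPrime p) H],
        Hens2.IsPairHenselization (Localization.AtPrime p)
          (I.map (algebraMap A (Localization.AtPrime p))) H →
        Function.Exact (f.baseChange H) (g.baseChange H) := by
  constructor
  · intro hex p _ hIp H _ _ _ _ hH
    have hfl1 : Module.Flat (Localization.AtPrime p) H :=
      Groth.Agent.Lib.Helper58.PairHens.flat_of_isPairHenselization hH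
    have hfl : Module.Flat A H := Module.Flat.trans A (Localization.AtPrime p) H
    rw [LinearMap.baseChange_eq_ltensor, LinearMap.baseChange_eq_ltensor]
    exact Module.Flat.lTensor_exact H hex
  · intro h
    intro m
    constructor
    swap
    · rintro ⟨y, rfl⟩
      exact congrArg (fun ρ : M' →ₗ[A] M'' => ρ y) hfg
    intro hm
    set 𝔞 := LinearMap.ker ((LinearMap.range f).mkQ.comp (LinearMap.toSpanSingleton A M m)) with h𝔞
    by_cases htop : 𝔞 = ⊤
    · have h1 : (1 : A) ∈ 𝔞 := by rw [htop]; exact Submodule.mem_top
      rw [h𝔞, LinearMap.mem_ker, LinearMap.comp_apply, LinearMap.toSpanSingleton_apply, one_smul,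
        Submodule.mkQ_apply, Submodule.Quotient.mk_eq_zero] at h1
      exact h1
    exfalso
    obtain ⟨J, hJmax, h𝔞J⟩ := Ideal.exists_le_maximal 𝔞 htop
    have hIJ : I ≤ J := by
      refine le_trans (HenselianRing.jac (R := A) (I := I)) ?_
      exact sInf_le ⟨bot_le, hJmax⟩
    have _ : J.IsPrime := hJmax.isPrime
    let Ap := Localization.AtPrime J
    let IJ : Ideal Ap := I.map (algebraMap A Ap)
    let H := Groth.Agent.Lib.Helper58.PairHens.Hp Ap IJ
    let _ : Algebra A H := ((algebraMap Ap H).comp (algebraMap A Ap)).toAlgebra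
    have _ : IsScalarTower A Ap H := IsScalarTower.of_algebraMap_eq (fun x => rfl)
    have hH : Hens2.IsPairHenselization Ap IJ H :=
      Groth.Agent.Lib.Helper58.PairHens.Hp.isPairHenselization Ap IJ
    have hex := h J hIJ H hH
    have hfl1 : Module.Flat Ap H :=
      Groth.Agent.Lib.Helper58.PairHens.flat_of_isPairHenselization hH
    have hfl : Module.Flat A H := Module.Flat.trans A Ap H
    have h1 := one_mem_of_exact f g H hex m hm
    -- the map to the residue field
    have hhens : HenselianRing (IsLocalRing.ResidueField Ap) ⊥ :=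
      Groth.Agent.Lib.Helper58.PairHens.henselian_of_pow_eq_bot ⊥ 1 (pow_one _)
    have hle : IJ.map (IsLocalRing.residue Ap) ≤ ⊥ := by
      rw [Ideal.map_le_iff_le_comap]
      change I.map (algebraMap A Ap) ≤ _
      rw [Ideal.map_le_iff_le_comap]
      intro a ha
      rw [Ideal.mem_comap, Ideal.mem_comap, Ideal.mem_bot, IsLocalRing.residue_eq_zero_iff]
      exact (IsLocalization.AtPrime.to_map_mem_maximal_iff Ap J a).mpr (hIJ ha)
    obtain ⟨φ, hφ, -⟩ := hH.2 (IsLocalRing.ResidueField Ap) ⊥ (IsLocalRing.residue Ap) hhens hle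
    have hzero : ∀ x ∈ (𝔞 • ⊤ : Submodule A H), φ x = 0 := by
      intro x hx
      refine Submodule.smul_induction_on hx ?_ ?_
      · intro a ha y _
        rw [Algebra.smul_def, map_mul]
        have : φ (algebraMap A H a) = 0 := by
          change φ (algebraMap Ap H (algebraMap A Ap a)) = 0
          have := congrArg (fun ρ : Ap →+* IsLocalRing.ResidueField Ap => ρ (algebraMap A Ap a)) hφ
          simp only [RingHom.comp_apply] at this
          rw [this, IsLocalRing.residue_eq_zero_iff]
          exact (IsLocalization.AtPrime.to_map_mem_maximal_iff Ap J a).mpr (h𝔞J ha)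
        rw [this, zero_mul]
      · intro x y hx hy
        rw [map_add, hx, hy, add_zero]
    have := hzero 1 h1
    rw [map_one] at this
    exact one_ne_zero this

end Groth.Agent.S17617
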