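import Mathlib
-- Template for statement S17619 (row 17618; see the milestone table for weights).
-- Copy to Groth/Agent/S17619.lean and replace the sorry. The statement below is byte-identical to the frozen
-- statement FlatMor.GrothFrozen.S17619 (Groth/Statements/S17619.lean; the theorem FlatMor.univInj_toAdicCompletion_of_smooth_geomIntegralFibres_section);
-- the grader kernel-checks Groth.Agent.S17619.result against that frozen type. Keep the theorem IN THIS FILE
-- (a `result` declared elsewhere and merely imported here is not credited); helpers may live anywhere
-- under Groth/Agent/.
import Groth.Statements.S17619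
import Groth.Agent.Lib.Helper24.UnivInjSection

set_option autoImplicit false
universe u
open FlatMor

namespace Groth.Agent.S17619

/-- Let A be a Noetherian ring and B a smooth A-algebra whose fibres are geometrically integral, and let
u : B → A be an A-algebra retraction with kernel I (the situation reached, after a faithfully flat
base change, in the proof that flat and pure modules are projective). Let B̂ be the I-adic
completion of B, presented as a B-algebra, compatibly an A-algebra, that is I B̂-adically complete
and for which every truncation B/I^n → B̂/I^n B̂ is bijective. Then the canonical map B → B̂ is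
universally injective over A: it remains injective after tensoring over A with any A-module (modules
in the universe of A). -/
theorem result (A : Type u) [CommRing A]
    [IsNoetherianRing A] (B : Type u) [CommRing B] [Algebra A B] [Algebra.Smooth A B]
    (hfib : FlatCA.GeomIntegralFibres A B) (u : B →ₐ[A] A)
    (Bh : Type u) [CommRing Bh] [Algebra B Bh] [Algebra A Bh] [IsScalarTower A B Bh]
    [IsAdicComplete ((RingHom.ker u).map (algebraMap B Bh)) Bh]
    (hq : ∀ n : ℕ, Function.Bijective (Ideal.quotientMap ((RingHom.ker u ^ n).map (algebraMap B Bh))
      (algebraMap B Bh) Ideal.le_comap_map)) :
    FlatCA.UnivInj A (IsScalarTower.toAlgHom A B Bh).toLinearMap := by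
  have hNB : IsNoetherianRing B := Algebra.FiniteType.isNoetherianRing A B
  have key := Groth.Agent.Lib.Helper24.UnivInjSection.univInj_of_quotient_bijective
    (A := A) (B := B) (Bh := Bh) (RingHom.ker u) hq
    (fun Q _ _ hQ q hq' =>
      Groth.Agent.Lib.Helper24.UnivInjSection.ker_sup_ne_top hfib u Q q hq')
  intro Q _ _
  rw [LinearMap.lTensor_inj_iff_rTensor_inj]
  exact key Q

end Groth.Agent.S17619
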