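import Groth.Statements.S1764
import Groth.Agent.Lib.Helper39.HDT.Main
-- import your own Groth.Agent.* helpers here

set_option autoImplicit false
universe u
open CategoryTheory
attribute [local instance] HasDerivedCategory.standard
open LocCoh

namespace Groth.Agent.S1764

/-- (1)⇔(2): Let A be a Noetherian ring, T ⊆ Spec A stable under specialization, n an integer and K an
object of D(A) which is bounded below with finite cohomology modules. Then H^i_T(K) (the direct
limit of Hom(A/J, K[i]) over ideals J with V(J) ⊆ T) is a finite A-module for every i ≤ n if and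
only if there is an ideal J with V(J) ⊆ T annihilating H^i_T(K) for every i ≤ n. -/
theorem result (A : Type u) [CommRing A] [IsNoetherianRing A] (T : Set (PrimeSpectrum A)) (hT : StableUnderSpecialization T) (K : Dual.D A) (a : ℤ) (hKa : ∀ i : ℤ, i < a → Subsingleton (Dual.HD A K i)) (hK : ∀ i : ℤ, Module.Finite A (Dual.HD A K i)) (n : ℤ) : (∀ i : ℤ, i ≤ n → Module.Finite A (Dual2.HDT A T K i)) ↔ ∃ J : Ideal A, PrimeSpectrum.zeroLocus (J : Set A) ⊆ T ∧ ∀ i : ℤ, i ≤ n → ∀ x : A, x ∈ J → ∀ y : Dual2.HDT A T K i, x • y = 0 := by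
  have hGE : K.IsGE a := by
    rw [DerivedCategory.isGE_iff]
    intro i hi
    haveI := hKa i hi
    exact ModuleCat.isZero_of_subsingleton _
  constructor
  · intro h
    haveI := hGE
    have key : ∀ k : ℕ, ∃ J : Groth.Agent.Lib.Helper39.HT.Idx T, ∀ i : ℤ, i < a + k → i ≤ n →
        ∀ b ∈ J.obj, ∀ y : Dual2.HDT A T K i, b • y = 0 := by
      intro k
      induction k with
      | zero =>
        refine ⟨Classical.arbitrary _, fun i hi _ b _ y => ?_⟩
        rw [Groth.Agent.Lib.Helper39.HDT.eq_zero_of_isGE T K a i (by simpa using hi) y, smul_zero]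
      | succ k ih =>
        obtain ⟨J, hJ⟩ := ih
        by_cases hk : a + k ≤ n
        · haveI := h (a + k) hk
          obtain ⟨J₁, hJ₁⟩ := Groth.Agent.Lib.Helper39.HT.exists_idx_kills_of_finite T
            (H := Dual2.HDT A T K (a + k))
            (fun y => Groth.Agent.Lib.Helper39.HDT.exists_idx_smul_eq_zero T y)
          refine ⟨Groth.Agent.Lib.Helper39.HT.Idx.inf J J₁, fun i hi hin b hb y => ?_⟩
          by_cases h' : i < a + k
          · exact hJ i h' hin b (Groth.Agent.Lib.Helper39.HT.Idx.inf_le_left J J₁ hb) y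
          · obtain rfl : i = a + k := by push_cast at hi; omega
            exact hJ₁ b (Groth.Agent.Lib.Helper39.HT.Idx.inf_le_right J J₁ hb) y
        · exact ⟨J, fun i hi hin b hb y => hJ i (by push_cast at hi; omega) hin b hb y⟩
    obtain ⟨J, hJ⟩ := key (n + 1 - a).toNat
    refine ⟨J.obj, J.property, fun i hi x hx y => hJ i ?_ hi x hx y⟩
    have := Int.self_le_toNat (n + 1 - a)
    omega
  · rintro ⟨J, hJT, hJ⟩
    exact Groth.Agent.Lib.Helper39.HDT.finProp T hT (n + 1 - a).toNat K a n
      (Int.self_le_toNat _) hGE hK ⟨J, hJT⟩ (fun i hi b hb x => hJ i hi b hb x)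

end Groth.Agent.S1764
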