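import Groth.Statements.S17642
import Groth.Agent.Lib.Helper16.ProjSpaceSmooth

set_option autoImplicit false
universe u
open CategoryTheory AlgebraicGeometry
open DerSch

namespace Groth.Agent.S17642

/-- Consider Noetherian schemes X and Y together with a morphism f : X ⟶ Y that is locally of finite
type. Given affine open subsets U ⊆ X and V ⊆ Y such that f(U) ⊆ V, the restriction of f to U can be
written as a composite U ⟶ W ⟶ P ⟶ Y in which the first map U ⟶ W is an open immersion, the middle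
map W ⟶ P is a closed immersion, and the last map P ⟶ Y is both smooth and proper. In the published
section every morphism is taken to be separated as a standing convention; since the printed proof
never uses this, no separatedness hypothesis appears here. -/
theorem result {X Y : Scheme.{u}}
    [IsNoetherian X] [IsNoetherian Y] (f : X ⟶ Y) [LocallyOfFiniteType f]
    (U : X.Opens) (hU : IsAffineOpen U) (V : Y.Opens) (hV : IsAffineOpen V) (hUV : U ≤ f ⁻¹ᵁ V) :
    ∃ (W P : Scheme.{u}) (g : (U : Scheme.{u}) ⟶ W) (h : W ⟶ P) (k : P ⟶ Y),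
      IsOpenImmersion g ∧ IsClosedImmersion h ∧ Smooth k ∧ IsProper k ∧ g ≫ h ≫ k = U.ι ≫ f := by
  classical
  open Groth.Agent.Lib.Helper16.ProjSpaceSmooth Groth.Agent.Lib.Helper60.PicPn
    HomogeneousLocalization in
  -- the finite type ring map
  have hft : (f.appLE V U hUV).hom.FiniteType := f.finiteType_appLE hV hU hUV
  letI alg : Algebra Γ(Y, V) Γ(X, U) := (f.appLE V U hUV).hom.toAlgebra
  have hft' : Algebra.FiniteType Γ(Y, V) Γ(X, U) := hft
  obtain ⟨n, σ, hσ⟩ := Algebra.FiniteType.iff_quotient_mvPolynomial''.mp hft'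
  -- the surjection from the chart ring
  let e : {j : Fin (n + 1) // j ≠ 0} ≃ Fin n := (finSuccAboveEquiv (0 : Fin (n + 1))).symm
  let θ : Away (CohB1.polyGrading n Γ(Y, V))
      (MvPolynomial.X 0 : MvPolynomial (Fin (n + 1)) Γ(Y, V)) →+* Γ(X, U) :=
    (σ : MvPolynomial (Fin n) Γ(Y, V) →+* Γ(X, U)).comp
      (((MvPolynomial.renameEquiv Γ(Y, V) e : MvPolynomial {j : Fin (n + 1) // j ≠ 0} Γ(Y, V) ≃ₐ[Γ(Y, V)]
          MvPolynomial (Fin n) Γ(Y, V)) : MvPolynomial {j : Fin (n + 1) // j ≠ 0} Γ(Y, V) →+*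
          MvPolynomial (Fin n) Γ(Y, V)).comp
        (chartEquiv n Γ(Y, V) 0 : Away (CohB1.polyGrading n Γ(Y, V)) (MvPolynomial.X 0) →+*
          MvPolynomial {j : Fin (n + 1) // j ≠ 0} Γ(Y, V)))
  have hθsurj : Function.Surjective θ := by
    intro b
    obtain ⟨p, rfl⟩ := hσ b
    obtain ⟨q, rfl⟩ := (MvPolynomial.renameEquiv Γ(Y, V) e).surjective p
    obtain ⟨w, rfl⟩ := (chartEquiv n Γ(Y, V) 0).surjective q
    exact ⟨w, rfl⟩
  have hθρ : θ.comp (ρ n Γ(Y, V) 0) = (f.appLE V U hUV).hom := by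
    ext a
    change σ (MvPolynomial.renameEquiv Γ(Y, V) e (chartFwd n Γ(Y, V) 0 (ρ n Γ(Y, V) 0 a))) = _
    rw [chartFwd_ρ]
    change σ (MvPolynomial.rename e (MvPolynomial.C a)) = _
    rw [MvPolynomial.rename_C, ← MvPolynomial.algebraMap_eq, σ.commutes]
    rfl
  -- the pieces of the immersion
  haveI hcl : IsClosedImmersion (Spec.map (CommRingCat.ofHom θ)) :=
    IsClosedImmersion.spec_of_surjective (CommRingCat.ofHom θ) hθsurj
  let ι0 := chart n Γ(Y, V) 0
  let o := (Groth.Agent.Lib.Helper93.ProjOverIso.overIso n Γ(Y, V)).inv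
  let m := mapBase n hV.fromSpec
  haveI : IsOpenImmersion m :=
    MorphismProperty.of_isPullback (isPullback_mapBase n hV.fromSpec).flip inferInstance
  let j : (U : Scheme.{u}) ⟶ CohB1.ProjSpaceOver n Y :=
    hU.isoSpec.hom ≫ Spec.map (CommRingCat.ofHom θ) ≫ ι0 ≫ o ≫ m
  haveI : IsImmersion j := by
    change IsImmersion (hU.isoSpec.hom ≫ Spec.map (CommRingCat.ofHom θ) ≫ chart n Γ(Y, V) 0 ≫
      (Groth.Agent.Lib.Helper93.ProjOverIso.overIso n Γ(Y, V)).inv ≫ m)
    infer_instance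
  haveI : IsNoetherianRing Γ(X, U) := IsLocallyNoetherian.component_noetherian ⟨U, hU⟩
  haveI : TopologicalSpace.NoetherianSpace (U : Scheme.{u}) := noetherianSpace_of_isAffineOpen U hU
  haveI : QuasiCompact j := inferInstance
  refine ⟨j.image, CohB1.ProjSpaceOver n Y, j.toImage, j.imageι, CohB1.ProjSpaceOver.toBase n Y,
    inferInstance, inferInstance, inferInstance, inferInstance, ?_⟩
  rw [← Category.assoc, Scheme.Hom.toImage_imageι]
  change (hU.isoSpec.hom ≫ Spec.map (CommRingCat.ofHom θ) ≫ chart n Γ(Y, V) 0 ≫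
      (Groth.Agent.Lib.Helper93.ProjOverIso.overIso n Γ(Y, V)).inv ≫ mapBase n hV.fromSpec) ≫
      CohB1.ProjSpaceOver.toBase n Y = _
  simp only [Category.assoc]
  have h1 : (Groth.Agent.Lib.Helper93.ProjOverIso.overIso n Γ(Y, V)).inv ≫
      CohB1.ProjSpaceOver.toBase n (Spec Γ(Y, V)) = CohB1.ProjSpace.toSpec n Γ(Y, V) :=
    Groth.Agent.Lib.Helper93.ProjOverIso.overIso_inv_toBase n Γ(Y, V)
  have h2 := awayι_toSpec n Γ(Y, V) 0
  rw [(isPullback_mapBase n hV.fromSpec).w, reassoc_of% h1, reassoc_of% h2,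
    ← Spec.map_comp_assoc, ← CommRingCat.ofHom_comp, hθρ]
  change hU.isoSpec.hom ≫ Spec.map (f.appLE V U hUV) ≫ hV.fromSpec = _
  rw [IsAffineOpen.SpecMap_appLE_fromSpec f hV hU hUV, IsAffineOpen.isoSpec_hom_fromSpec_assoc]

end Groth.Agent.S17642
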