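import Groth.Statements.S17643
import Groth.Agent.Lib.Helper2.SmoothTorSch2
import Groth.Agent.Lib.Helper15.RelAmp
import Groth.Agent.Lib.Helper15.PCRelQCoh

set_option autoImplicit false
universe u
open CategoryTheory AlgebraicGeometry
attribute [local instance] HasDerivedCategory.standard
open DerSch

namespace Groth.Agent.S17643

open Groth.Agent.Lib.Helper2.SmoothTorSch Groth.Agent.Lib.Helper84.FlatAmp
  Groth.Agent.Lib.Helper15.RelAmp Groth.Agent.Lib.Helper15.PCRelQCoh
  Groth.Agent.Lib.Helper2.Lpull Groth.Agent.Lib.Helper2.DCohBase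

/-- the structure sheaf complex restricts to the structure sheaf complex -/
noncomputable def resUnitCxIso {X : Scheme.{u}} (U : X.Opens) :
    (resCx U.ι).obj (DerSch.unitCx X) ≅ DerSch.unitCx (U : Scheme.{u}) :=
  (HomologicalComplex.singleMapHomologicalComplex (Scheme.Modules.restrictFunctor U.ι)
    (ComplexShape.up ℤ) 0).app (Coh.structureModule X) ≪≫
    (HomologicalComplex.single _ (ComplexShape.up ℤ) 0).mapIso (Scheme.Modules.restrictUnitIso U.ι)


/-- Let f : X ⟶ Y be a morphism of finite type between Noetherian schemes which is of finite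
Tor-dimension (the structure sheaf of X, placed in degree 0, has finite tor amplitude stalkwise over
the local rings of Y), U ⊆ X an affine open subset and V ⊆ Y an affine open subset with f(U) ⊆ V.
Then the restriction of f to U factors as U ⟶ W ⟶ Y with U ⟶ W a closed immersion of finite
Tor-dimension and W ⟶ Y smooth. The published section's standing conventions also take all morphisms
separated; the printed argument does not use this, so separatedness is not assumed here. -/
theorem result {X Y : Scheme.{u}}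
    [IsNoetherian X] [IsNoetherian Y] (f : X ⟶ Y) [LocallyOfFiniteType f] (hf : DerSch.HasFiniteTorDim f)
    (U : X.Opens) (hU : IsAffineOpen U) (V : Y.Opens) (hV : IsAffineOpen V) (hUV : U ≤ f ⁻¹ᵁ V) :
    ∃ (W : Scheme.{u}) (g : (U : Scheme.{u}) ⟶ W) (h : W ⟶ Y),
      IsClosedImmersion g ∧ DerSch.HasFiniteTorDim g ∧ Smooth h ∧ g ≫ h = U.ι ≫ f := by
  have hft : (f.appLE V U hUV).hom.FiniteType := f.finiteType_appLE hV hU hUV
  letI alg : Algebra Γ(Y, V) Γ(X, U) := (f.appLE V U hUV).hom.toAlgebra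
  obtain ⟨n, φ, hφ⟩ := Algebra.FiniteType.iff_quotient_mvPolynomial''.1
    (show Algebra.FiniteType Γ(Y, V) Γ(X, U) from hft)
  have hφC : φ.toRingHom.comp MvPolynomial.C = (f.appLE V U hUV).hom := by
    ext a
    exact φ.commutes a
  let g : (U : Scheme.{u}) ⟶ Spec (CommRingCat.of (MvPolynomial (Fin n) Γ(Y, V))) :=
    DerSch.chartImm U φ.toRingHom
  let h : Spec (CommRingCat.of (MvPolynomial (Fin n) Γ(Y, V))) ⟶ Y :=
    Spec.map (CommRingCat.ofHom (MvPolynomial.C : Γ(Y, V) →+* MvPolynomial (Fin n) Γ(Y, V))) ≫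
      hV.fromSpec
  have hcl : IsClosedImmersion g := isClosedImmersion_chartImm hU φ.toRingHom hφ
  have hsm : Smooth h := by
    haveI : Smooth (Spec.map (CommRingCat.ofHom
        (MvPolynomial.C : Γ(Y, V) →+* MvPolynomial (Fin n) Γ(Y, V)))) := by
      rw [HasRingHomProperty.Spec_iff (P := @Smooth)]
      have := (RingHom.smooth_algebraMap (R := Γ(Y, V)) (S := MvPolynomial (Fin n) Γ(Y, V))).2
        ⟨inferInstance, inferInstance⟩
      rwa [MvPolynomial.algebraMap_eq] at this
    infer_instance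
  have hcomm : g ≫ h = U.ι ≫ f := by
    change (U.toSpecΓ ≫ Spec.map (CommRingCat.ofHom φ.toRingHom)) ≫
      Spec.map (CommRingCat.ofHom MvPolynomial.C) ≫ hV.fromSpec = _
    rw [Category.assoc, ← Spec.map_comp_assoc, ← CommRingCat.ofHom_comp, hφC,
      CommRingCat.ofHom_hom, IsAffineOpen.SpecMap_appLE_fromSpec f hV hU hUV,
      ← Category.assoc, hU.toSpecΓ_fromSpec]
  obtain ⟨a, b, hab⟩ := hf
  haveI : CompactSpace (U : Scheme.{u}) := isCompact_iff_compactSpace.mp hU.isCompact
  obtain ⟨N, hN⟩ := exists_uniform_shift h g (Coh.structureModule (U : Scheme.{u}))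
  refine ⟨_, g, h, hcl, ⟨-((((-a).toNat + N : ℕ)) : ℤ), 0, fun u => ?_⟩, hsm, hcomm⟩
  apply hN u a b
  rw [hcomm]
  have h1 := (hasTorAmplitudeAt_res_iff f U (DerSch.unitCx X) a b u).2 (hab _)
  exact torAmp_of_iso h1 (DerivedCategory.Q.mapIso
    ((DerSch.stalkCxOver (U.ι ≫ f) u).mapIso (resUnitCxIso U)))

end Groth.Agent.S17643
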