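import Groth.Statements.S17646
import Groth.Agent.Lib.Helper62.GabUniform

set_option autoImplicit false
universe w v u
open CategoryTheory CategoryTheory.Limits
open GabLoc

namespace Groth.Agent.S17646

/-- Let C be a Grothendieck abelian category, E an indecomposable injective object of C (E is nonzero
and whenever E ≅ A ⊞ B one of A, B is zero) and S₁, S₂ localizing classes of objects (Serre classes
closed under coproducts). If there are an object of S₁ with a nonzero morphism to E and an object of
S₂ with a nonzero morphism to E, then there is an object belonging to both S₁ and S₂ with a nonzero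
morphism to E. Thus, on the set of isomorphism classes of indecomposable injectives, the subsets of
those having S-torsion, S localizing, are closed under finite intersections (they are also closed
under unions, and form a topology). The published definition of the injective spectrum says
injective objects without the word indecomposable; the published proof of this step uses that each
point of the spectrum is uniform, which is the indecomposable reading taken here. -/
theorem result {C : Type u} [Category.{v} C] [Abelian C]
    [IsGrothendieckAbelian.{w} C] (E : C) [Injective E] (hE : ¬ IsZero E)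
    (hind : ∀ (A B : C), Nonempty (E ≅ A ⊞ B) → IsZero A ∨ IsZero B)
    (S₁ S₂ : ObjectProperty C) (h₁ : GabLoc.IsLocalizing.{w} S₁) (h₂ : GabLoc.IsLocalizing.{w} S₂)
    (ht₁ : GabLoc.HasTorsion S₁ E) (ht₂ : GabLoc.HasTorsion S₂ E) :
    GabLoc.HasTorsion (S₁ ⊓ S₂) E := by
  obtain ⟨Y₁, hY₁, f₁, hf₁⟩ := ht₁
  obtain ⟨Y₂, hY₂, f₂, hf₂⟩ := ht₂
  have := h₁.isSerreClass
  have := h₂.isSerreClass
  have key : ∀ (S : ObjectProperty C) [S.IsSerreClass] (Y : C) (hY : S Y) (f : Y ⟶ E) (hf : f ≠ 0),
      Subobject.mk (image.ι f) ≠ ⊥ ∧
        ∀ (B : Subobject E), B ≤ Subobject.mk (image.ι f) → S (B : C) := by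
    intro S _ Y hY f hf
    refine ⟨fun h => hf ?_, fun B hB => ?_⟩
    · have h0 : image.ι f = 0 := Subobject.mk_eq_bot_iff_zero.1 h
      rw [← image.fac f, h0, comp_zero]
    · have hI : S (image f) := S.prop_of_epi (factorThruImage f) hY
      exact S.prop_of_mono (Subobject.ofLEMk B (image.ι f) hB) hI
  obtain ⟨hne₁, hS₁⟩ := key S₁ Y₁ hY₁ f₁ hf₁
  obtain ⟨hne₂, hS₂⟩ := key S₂ Y₂ hY₂ f₂ hf₂
  have hne := Groth.Agent.Lib.Helper62.GabUniform.inf_ne_bot_of_indecomposable.{w} hind _ _ hne₁ hne₂
  refine ⟨_, ⟨hS₁ _ inf_le_left, hS₂ _ inf_le_right⟩, (Subobject.mk (image.ι f₁) ⊓ Subobject.mk (image.ι f₂)).arrow, ?_⟩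
  intro h0
  exact hne (Groth.Agent.Lib.Helper62.GabUniform.eq_bot_of_arrow_eq_zero _ h0)

end Groth.Agent.S17646
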