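import Groth.Statements.S17647
import Groth.Agent.S2249
import Groth.Agent.Lib.Helper21.QCohKernel
import Groth.Agent.Lib.Helper78.ModStalk
import Mathlib.CategoryTheory.Adjunction.Restrict
import Mathlib.CategoryTheory.Localization.Adjunction

set_option autoImplicit false
universe u
open CategoryTheory CategoryTheory.Limits AlgebraicGeometry
open QCohCat

namespace Groth.Agent.S17647

open Groth.Agent.Lib.Helper21.QCohKernel

theorem isZero_of_stalks {Y : Scheme.{u}} (M : Y.Modules)
    (h : ∀ y, Subsingleton (M.presheaf.stalk y)) : IsZero M := by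
  by_contra hM
  obtain ⟨V, s, hs⟩ := Groth.Agent.Lib.Helper78.ModStalk.exists_section_ne_zero hM
  apply hs
  apply TopCat.Presheaf.section_ext (⟨M.presheaf, M.isSheaf⟩ : TopCat.Sheaf Ab Y) V s 0
  intro x hx
  exact Subsingleton.elim _ _

theorem subsingleton_stalk_of_isZero {Y : Scheme.{u}} (M : Y.Modules) (h : IsZero M) (y : Y) :
    Subsingleton (M.presheaf.stalk y) := by
  refine ⟨fun a b => ?_⟩
  have key : ∀ c : M.presheaf.stalk y, c = 0 := by
    intro c
    obtain ⟨V, hyV, s, rfl⟩ := TopCat.Presheaf.exists_germ_eq M.presheaf c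
    have hs : s = 0 := by
      have h1 : 𝟙 M = 0 := (IsZero.iff_id_eq_zero M).1 h
      have h2 := congr(($h1).app V s)
      simpa using h2
    rw [hs, map_zero]
  rw [key a, key b]

variable {X : Scheme.{u}} (U : X.Opens)

theorem isZero_restrict_iff (M : X.Modules) :
    IsZero ((Scheme.Modules.restrictFunctor U.ι).obj M) ↔
      CohB1.support M ⊆ (↑U : Set X)ᶜ := by
  constructor
  · intro h x hx hxU
    apply hx
    have e : (((Scheme.Modules.restrictFunctor U.ι).obj M).presheaf.stalk ⟨x, hxU⟩) ≅
        (M.presheaf.stalk x) := (Scheme.Modules.restrictStalkNatIso U.ι ⟨x, hxU⟩).app M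
    have h1 := subsingleton_stalk_of_isZero _ h ⟨x, hxU⟩
    exact e.symm.addCommGroupIsoToAddEquiv.toEquiv.subsingleton
  · intro h
    apply isZero_of_stalks
    intro y
    have e : (((Scheme.Modules.restrictFunctor U.ι).obj M).presheaf.stalk y) ≅
        (M.presheaf.stalk (U.ι y)) := (Scheme.Modules.restrictStalkNatIso U.ι y).app M
    have h1 : Subsingleton (M.presheaf.stalk (U.ι y)) := by
      by_contra hc
      exact h hc y.2
    exact e.addCommGroupIsoToAddEquiv.toEquiv.subsingleton

theorem isIso_restrict_iff {M N : X.Modules} (g : M ⟶ N) :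
    IsIso ((Scheme.Modules.restrictFunctor U.ι).map g) ↔
      CohB1.support (kernel g) ⊆ (↑U : Set X)ᶜ ∧ CohB1.support (cokernel g) ⊆ (↑U : Set X)ᶜ := by
  rw [← isZero_restrict_iff, ← isZero_restrict_iff]
  let R := Scheme.Modules.restrictFunctor U.ι
  have e1 : R.obj (kernel g) ≅ kernel (R.map g) := PreservesKernel.iso R g
  have e2 : R.obj (cokernel g) ≅ cokernel (R.map g) := PreservesCokernel.iso R g
  rw [isIso_iff_mono_and_epi, Preadditive.mono_iff_isZero_kernel, Preadditive.epi_iff_isZero_cokernel]
  exact ⟨fun h => ⟨h.1.of_iso e1, h.2.of_iso e2⟩, fun h => ⟨h.1.of_iso e1.symm, h.2.of_iso e2.symm⟩⟩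

/-- pushforward along `U.ι` restricted to quasi-coherent modules. -/
noncomputable def pushQ [QuasiCompact U.ι] : QCohCat.QCoh (↑U : Scheme.{u}) ⥤ QCohCat.QCoh X :=
  ObjectProperty.lift (QCohCat.isQCoh X)
    ((QCohCat.isQCoh (↑U : Scheme.{u})).ι ⋙ Scheme.Modules.pushforward U.ι)
    (fun M => by
      haveI : M.obj.IsQuasicoherent := M.property
      exact Groth.Agent.S2249.isQuasicoherent_pushforward_of_qcqs U.ι M.obj)

instance [QuasiCompact U.ι] : (pushQ U).Full := by
  unfold pushQ; infer_instance

instance [QuasiCompact U.ι] : (pushQ U).Faithful := by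
  unfold pushQ; infer_instance

/-- Let X be a scheme and U ⊆ X an open subset whose inclusion U ⟶ X is quasi-compact, Z = X ∖ U. Then
the restriction functor QCoh(X) ⥤ QCoh(U) between the categories of quasi-coherent modules is a
localization functor for the class of morphisms of quasi-coherent O_X-modules whose kernel and
cokernel (computed in O_X-modules) have support contained in Z: the category QCoh(U) is the quotient
of QCoh(X) by the localizing subcategory of quasi-coherent modules supported in Z, the direct image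
along U ⟶ X being the fully faithful right adjoint. No hypothesis is made on X beyond the
quasi-compactness of U ⟶ X. -/
theorem result (X : Scheme.{u})
    (U : X.Opens) [QuasiCompact U.ι] :
    (ObjectProperty.lift (QCohCat.isQCoh (↑U : Scheme.{u}))
        (ObjectProperty.ι (QCohCat.isQCoh X) ⋙ Scheme.Modules.restrictFunctor U.ι)
        (fun M => @Scheme.Modules.isQuasicoherent_restrictFunctor (↑U : Scheme.{u}) X U.ι
          inferInstance M.obj M.property)).IsLocalization
      (fun (A B : QCohCat.QCoh X) (f : A ⟶ B) =>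
        CohB1.support (kernel f.hom) ⊆ (↑U : Set X)ᶜ ∧
          CohB1.support (cokernel f.hom) ⊆ (↑U : Set X)ᶜ) := by
  set Res := (ObjectProperty.lift (QCohCat.isQCoh (↑U : Scheme.{u}))
        (ObjectProperty.ι (QCohCat.isQCoh X) ⋙ Scheme.Modules.restrictFunctor U.ι)
        (fun M => @Scheme.Modules.isQuasicoherent_restrictFunctor (↑U : Scheme.{u}) X U.ι
          inferInstance M.obj M.property)) with hRes
  have adj : Res ⊣ pushQ U :=
    (Scheme.Modules.restrictAdjunction U.ι).restrictFullyFaithful
      (QCohCat.isQCoh X).fullyFaithfulι (QCohCat.isQCoh (↑U : Scheme.{u})).fullyFaithfulι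
      (Iso.refl _) (Iso.refl _)
  have hW : (fun (A B : QCohCat.QCoh X) (f : A ⟶ B) =>
        CohB1.support (kernel f.hom) ⊆ (↑U : Set X)ᶜ ∧
          CohB1.support (cokernel f.hom) ⊆ (↑U : Set X)ᶜ) =
      (MorphismProperty.isomorphisms _).inverseImage Res := by
    ext A B f
    rw [← isIso_restrict_iff]
    change _ ↔ IsIso (Res.map f)
    rw [← isIso_iff_of_reflects_iso (Res.map f) (QCohCat.isQCoh (↑U : Scheme.{u})).ι]
    rfl
  rw [hW]
  exact adj.isLocalization

end Groth.Agent.S17647
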