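import Groth.Statements.S17649
import Groth.Agent.S2249
import Groth.Agent.Lib.Helper21.QCohKernel
import Groth.Agent.Lib.Helper78.ModStalk

set_option autoImplicit false
universe u
open CategoryTheory CategoryTheory.Limits AlgebraicGeometry
open QCohCat

namespace Groth.Agent.S17649

open Groth.Agent.Lib.Helper21.QCohKernel

theorem isZero_of_sections {Y : Scheme.{u}} (M : Y.Modules)
    (h : ∀ (W : Y.Opens) (s : Γ(M, W)), s = 0) : IsZero M := by
  by_contra hM
  obtain ⟨V, s, hs⟩ := Groth.Agent.Lib.Helper78.ModStalk.exists_section_ne_zero hM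
  exact hs (h V s)

theorem sections_eq_zero_of_isZero {Y : Scheme.{u}} (M : Y.Modules) (h : IsZero M)
    (W : Y.Opens) (s : Γ(M, W)) : s = 0 := by
  have h1 : 𝟙 M = 0 := (IsZero.iff_id_eq_zero M).1 h
  have h2 := congr(($h1).app W s)
  simpa using h2

variable {X : Scheme.{u}}

theorem sections_eq_zero_of_isZero_restrict (F : X.Modules) (O T : X.Opens) (hT : T ≤ O)
    (h : IsZero ((Scheme.Modules.restrictFunctor O.ι).obj F)) (s : Γ(F, T)) : s = 0 := by
  have hT' : O.ι ''ᵁ (O.ι ⁻¹ᵁ T) = T := by
    rw [Scheme.Hom.image_preimage_eq_opensRange_inf, Scheme.Opens.opensRange_ι]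
    exact inf_eq_right.2 hT
  have h0 : F.presheaf.map (eqToHom hT').op s = 0 :=
    sections_eq_zero_of_isZero _ h (O.ι ⁻¹ᵁ T) _
  have h1 : s = F.presheaf.map (eqToHom hT'.symm).op (F.presheaf.map (eqToHom hT').op s) := by
    rw [← ConcreteCategory.comp_apply, ← Functor.map_comp]
    simp
  rw [h1, h0, map_zero]

/-- Suppose the scheme X is quasi-compact and quasi-separated, and take two quasi-compact opens U, V ⊆
X. Given a quasi-compact open W, denote by S_W the class of quasi-coherent O_X-modules that restrict
to zero on W. Then S_{U ∩ V} is the smallest localizing subcategory of Qcoh(X) that contains both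
S_U and S_V; concretely (this is the inclusion that is not formal): any quasi-coherent O_X-module F
satisfying F|_{U ∩ V} = 0 arises as an extension of a quasi-coherent module that is zero on V by a
quasi-coherent submodule that is zero on U — one can find a monomorphism A ⟶ F where A is
quasi-coherent, A|_U = 0 and (F/A)|_V = 0. -/
theorem result {X : Scheme.{u}}
    [CompactSpace X] [QuasiSeparatedSpace X] (U V : X.Opens) [QuasiCompact U.ι] [QuasiCompact V.ι]
    (F : X.Modules) (hF : Coh.IsQCoh F) (h : IsZero ((Scheme.Modules.restrictFunctor (U ⊓ V).ι).obj F)) :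
    ∃ (A : X.Modules) (i : A ⟶ F), Mono i ∧ Coh.IsQCoh A ∧
      IsZero ((Scheme.Modules.restrictFunctor U.ι).obj A) ∧
      IsZero ((Scheme.Modules.restrictFunctor V.ι).obj (cokernel i)) := by
  haveI : F.IsQuasicoherent := hF
  let η : F ⟶ (Scheme.Modules.pushforward U.ι).obj ((Scheme.Modules.restrictFunctor U.ι).obj F) :=
    (Scheme.Modules.restrictAdjunction U.ι).unit.app F
  haveI : ((Scheme.Modules.restrictFunctor U.ι).obj F).IsQuasicoherent :=
    isQuasicoherent_restrict U.ι F
  haveI : ((Scheme.Modules.pushforward U.ι).obj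
      ((Scheme.Modules.restrictFunctor U.ι).obj F)).IsQuasicoherent :=
    Groth.Agent.S2249.isQuasicoherent_pushforward_of_qcqs U.ι _
  refine ⟨kernel η, kernel.ι η, inferInstance, isQuasicoherent_kernel η, ?_, ?_⟩
  · let R := Scheme.Modules.restrictFunctor U.ι
    have e1 : R.obj (kernel η) ≅ kernel (R.map η) := PreservesKernel.iso R η
    have htri := (Scheme.Modules.restrictAdjunction U.ι).left_triangle_components F
    have hiso : IsIso (R.map η) := by
      have : IsIso (R.map η ≫ (Scheme.Modules.restrictAdjunction U.ι).counit.app (R.obj F)) := by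
        rw [htri]; infer_instance
      exact IsIso.of_isIso_comp_right (R.map η)
        ((Scheme.Modules.restrictAdjunction U.ι).counit.app (R.obj F))
    have hmono : Mono (R.map η) := inferInstance
    exact ((Preadditive.mono_iff_isZero_kernel _).1 hmono).of_iso e1
  · let R := Scheme.Modules.restrictFunctor V.ι
    let m := Abelian.factorThruCoimage η
    have hm : Mono (R.map m) := inferInstance
    refine IsZero.of_mono (R.map m) ?_
    apply isZero_of_sections
    intro W s
    exact sections_eq_zero_of_isZero_restrict F (U ⊓ V)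
      (U.ι ''ᵁ (U.ι ⁻¹ᵁ (V.ι ''ᵁ W)))
      (le_inf (U.ι_image_le _) ((U.ι.image_preimage_le _).trans (V.ι_image_le W))) h s

end Groth.Agent.S17649
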