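import Groth.Statements.S17653
import Groth.Agent.Lib.Helper72.FibDimQF

set_option autoImplicit false
universe u
open CategoryTheory CategoryTheory.Limits AlgebraicGeometry TopologicalSpace
open Variety
open Groth.Agent.Lib.Helper73 Groth.Agent.Lib.Helper72.FibDimQF

namespace Groth.Agent.S17653

/-- Suppose X and Y are locally Noetherian schemes of the same pure dimension d (every irreducible
component of X and every irreducible component of Y has topological Krull dimension d), and π : X →
Y is a proper morphism between them. If there is a point x of X which is isolated in its fibre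
π⁻¹(π(x)), i.e. some open neighbourhood of x meets that fibre only in x, then the image of π, with
the subspace topology, has the same dimension as Y. -/
theorem result
    (X Y : Scheme.{u}) [IsLocallyNoetherian X] [IsLocallyNoetherian Y] (π : X ⟶ Y) [IsProper π]
    (d : WithBot ℕ∞) (hX : ∀ Z ∈ irreducibleComponents ↥X, topologicalKrullDim ↥Z = d)
    (hY : ∀ Z ∈ irreducibleComponents ↥Y, topologicalKrullDim ↥Z = d)
    (x : ↥X) (hx : ∃ U : X.Opens, x ∈ U ∧ ∀ x' ∈ U, π x' = π x → x' = x) :
    topologicalKrullDim ↥(Set.range (fun z : ↥X => π z)) = topologicalKrullDim ↥Y := by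
  obtain ⟨U, hxU, hU⟩ := hx
  obtain ⟨ξ, hξx, hξmax⟩ := exists_maximal_specializes x
  have h0 := resTrdegNat_eq_zero_of_specializes_isolated π x ξ hξx U U.isOpen hxU hU
  have h1 := dim_closure_le_dim_closure_image π ξ h0
  have h2 : topologicalKrullDim ↥(closure ({ξ} : Set X)) = d :=
    hX _ (closure_singleton_mem_irreducibleComponents_of_maximal ξ hξmax)
  have hsub : closure ({π ξ} : Set Y) ⊆ Set.range (fun z : ↥X => π z) := by
    have hcl : IsClosed (π '' closure ({ξ} : Set X)) := π.isClosedMap _ isClosed_closure
    refine (closure_minimal ?_ hcl).trans ?_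
    · exact Set.singleton_subset_iff.mpr ⟨ξ, subset_closure rfl, rfl⟩
    · rintro _ ⟨z, -, rfl⟩
      exact ⟨z, rfl⟩
  have h3 : topologicalKrullDim ↥(closure ({π ξ} : Set Y)) ≤
      topologicalKrullDim ↥(Set.range (fun z : ↥X => π z)) :=
    (Topology.IsInducing.of_comp (continuous_inclusion hsub) continuous_subtype_val
      (Topology.IsInducing.subtypeVal :
        Topology.IsInducing (Subtype.val ∘ Set.inclusion hsub))).topologicalKrullDim_le
  have h4 : topologicalKrullDim ↥(Set.range (fun z : ↥X => π z)) ≤ topologicalKrullDim ↥Y :=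
    topologicalKrullDim_subspace_le _ _
  have h5 : topologicalKrullDim ↥Y ≤ d :=
    topologicalKrullDim_le_of_components Y d (fun Z hZ => (hY Z hZ).le)
  refine le_antisymm h4 (h5.trans ?_)
  rw [← h2]
  exact h1.trans h3

end Groth.Agent.S17653
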