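import Groth.Statements.S17661
import Mathlib
import Groth.Agent.Lib.Helper6.ThickIsAffine

set_option autoImplicit false
universe u
open CategoryTheory CategoryTheory.Limits AlgebraicGeometry
open Ribbon

namespace Groth.Agent.S17661

section helpers

/-- A morphism to an affine scheme built from a ring map on global sections. -/
theorem exists_hom_appTop {C D : Scheme.{u}} [IsAffine C] [IsAffine D] (φ : Γ(D, ⊤) ⟶ Γ(C, ⊤)) :
    ∃ r : C ⟶ D, r.appTop = φ := by
  refine ⟨C.toSpecΓ ≫ Spec.map φ ≫ D.isoSpec.inv, ?_⟩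
  set r := C.toSpecΓ ≫ Spec.map φ ≫ D.isoSpec.inv with hr
  have h1 : r ≫ D.toSpecΓ = C.toSpecΓ ≫ Spec.map φ := by
    rw [hr, Category.assoc, Category.assoc]
    have : D.isoSpec.inv ≫ D.toSpecΓ = 𝟙 _ := D.isoSpec.inv_hom_id
    rw [this, Category.comp_id]
  rw [Scheme.toSpecΓ_naturality] at h1
  have h2 : Spec.map r.appTop = Spec.map φ := by
    have : IsIso C.toSpecΓ := inferInstance
    exact (cancel_epi C.toSpecΓ).mp h1
  exact Spec.map_injective h2

/-- A square-zero thickening of a smooth affine scheme over an affine base retracts. -/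
theorem exists_retraction {C S : Scheme.{u}} [IsAffine S] (s : C ⟶ S)
    (I : C.IdealSheafData) (hI : I ^ 2 = ⊥) [IsAffine I.subscheme]
    [Smooth (I.subschemeι ≫ s)] :
    ∃ r : C ⟶ I.subscheme, I.subschemeι ≫ r = 𝟙 I.subscheme ∧ r ≫ I.subschemeι ≫ s = s := by
  have hsupp : I.support = ⊤ := by
    rw [← Scheme.IdealSheafData.support_pow I 2 two_ne_zero, hI, Scheme.IdealSheafData.support_bot]
  have hιsurj : Function.Surjective I.subschemeι := by
    rw [← Set.range_eq_univ, Scheme.IdealSheafData.range_subschemeι, hsupp]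
    rfl
  have hC : IsAffine C :=
    Groth.Agent.Lib.Helper6.ThickIsAffine.isAffine_of_thickening I.subschemeι hιsurj
  let π : Γ(C, ⊤) ⟶ Γ(I.subscheme, ⊤) := I.subschemeι.appTop
  letI algA : Algebra Γ(S, ⊤) Γ(C, ⊤) := s.appTop.hom.toAlgebra
  letI algB : Algebra Γ(S, ⊤) Γ(I.subscheme, ⊤) := (I.subschemeι ≫ s).appTop.hom.toAlgebra
  have hsm : Algebra.Smooth Γ(S, ⊤) Γ(I.subscheme, ⊤) :=
    HasRingHomProperty.appTop (P := @Smooth) (I.subschemeι ≫ s) inferInstance
  have hfs : Algebra.FormallySmooth Γ(S, ⊤) Γ(I.subscheme, ⊤) := inferInstance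
  let πalg : Γ(C, ⊤) →ₐ[Γ(S, ⊤)] Γ(I.subscheme, ⊤) :=
    { π.hom with commutes' := fun x => rfl }
  have hπsurj : Function.Surjective πalg :=
    I.subschemeι.app_surjective ⊤ (isAffineOpen_top C)
  have hker : RingHom.ker (πalg : Γ(C, ⊤) →+* Γ(I.subscheme, ⊤)) =
      I.ideal ⟨⊤, isAffineOpen_top C⟩ :=
    I.ker_subschemeι_app ⟨⊤, isAffineOpen_top C⟩
  have hnil : IsNilpotent (RingHom.ker (πalg : Γ(C, ⊤) →+* Γ(I.subscheme, ⊤))) := by
    refine ⟨2, ?_⟩
    rw [hker]
    have := congrArg (fun K : C.IdealSheafData => K.ideal ⟨⊤, isAffineOpen_top C⟩) hI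
    simpa using this
  let σ := Algebra.FormallySmooth.liftOfSurjective (AlgHom.id Γ(S, ⊤) Γ(I.subscheme, ⊤))
    πalg hπsurj hnil
  have hσ : ∀ x, π (σ x) = x := fun x =>
    Algebra.FormallySmooth.liftOfSurjective_apply (AlgHom.id Γ(S, ⊤) Γ(I.subscheme, ⊤))
      πalg hπsurj hnil x
  obtain ⟨r, hr⟩ := exists_hom_appTop (C := C) (D := I.subscheme)
    (CommRingCat.ofHom σ.toRingHom)
  refine ⟨r, ?_, ?_⟩
  · apply ext_of_isAffine
    rw [Scheme.Hom.comp_appTop, hr]
    ext x
    exact hσ x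
  · apply ext_of_isAffine
    rw [Scheme.Hom.comp_appTop, hr]
    ext x
    exact σ.commutes x


end helpers

/-- Let k be a field, C a scheme locally of finite type over k and I ⊂ O_C a quasi-coherent ideal with
I² = 0, with closed subscheme D ⊂ C; suppose D is affine, connected and smooth over k and that I,
regarded as an O_D-module, is invertible (so C is a ribbon on the smooth affine scheme D, and D is
the reduced scheme underlying C). Then the ribbon is split: the inclusion D → C admits a retraction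
C → D over k. -/
theorem result (k : Type u) [Field k] (C : Scheme.{u}) [C.Over (Spec (CommRingCat.of k))]
    [LocallyOfFiniteType (C ↘ (Spec (CommRingCat.of k)))]
    (I : C.IdealSheafData) (hI : I ^ 2 = ⊥) [IsAffine I.subscheme] [ConnectedSpace I.subscheme]
    [Smooth (I.subschemeι ≫ (C ↘ (Spec (CommRingCat.of k))))]
    (hconormal : PicF.IsInvertible ((Scheme.Modules.pullback I.subschemeι).obj (ClSub.idealMod I))) :
    ∃ r : C ⟶ I.subscheme, I.subschemeι ≫ r = 𝟙 I.subscheme ∧
      r ≫ I.subschemeι ≫ (C ↘ (Spec (CommRingCat.of k))) = C ↘ (Spec (CommRingCat.of k)) := by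
  exact exists_retraction (C ↘ (Spec (CommRingCat.of k))) I hI

end Groth.Agent.S17661
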