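import Groth.Statements.S17677
import Mathlib.Tactic
import Mathlib.RingTheory.Bialgebra.MonoidAlgebra

set_option autoImplicit false
universe u
open Hoch

namespace Groth.Agent.S17677

open TensorProduct

section
variable (k : Type u) [CommRing k] (M : Type u) [AddCommMonoid M]

noncomputable def pi0 : AddMonoidAlgebra k M →ₗ[k] k :=
  Finsupp.lapply 0 ∘ₗ (AddMonoidAlgebra.coeffLinearEquiv k).toLinearMap

theorem pi0_single (m : M) (r : k) [Decidable (m = 0)] :
    pi0 k M (AddMonoidAlgebra.single m r) = if m = 0 then r else 0 := by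
  unfold pi0
  simp [AddMonoidAlgebra.coeffLinearEquiv, Finsupp.single_apply]

theorem pi0_one : pi0 k M 1 = 1 := by
  classical
  rw [AddMonoidAlgebra.one_def, pi0_single, if_pos rfl]

variable (V : Type u) [AddCommGroup V] [Module k V]

noncomputable def E0 : V ⊗[k] AddMonoidAlgebra k M →ₗ[k] V :=
  (TensorProduct.rid k V).toLinearMap ∘ₗ (pi0 k M).lTensor V

theorem E0_tmul (v : V) (a : AddMonoidAlgebra k M) : E0 k M V (v ⊗ₜ a) = pi0 k M a • v := by
  unfold E0
  simp

variable [HopfRep.Comod k (AddMonoidAlgebra k M) V]

theorem tail_single (v : V) (m : M) (r : k) :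
    E0 k M (V ⊗[k] AddMonoidAlgebra k M)
      (Hoch.tail k (AddMonoidAlgebra k M) V (v ⊗ₜ AddMonoidAlgebra.single m r)) =
      -(v ⊗ₜ[k] AddMonoidAlgebra.single m r) := by
  classical
  rw [Hoch.tail_tmul, AddMonoidAlgebra.comul_single, CommSemiring.comul_apply, TensorProduct.map_tmul,
    AddMonoidAlgebra.lsingle_apply, AddMonoidAlgebra.lsingle_apply, TensorProduct.tmul_sub,
    TensorProduct.tmul_sub, map_sub, map_sub, map_sub, map_sub, TensorProduct.assoc_symm_tmul,
    TensorProduct.assoc_symm_tmul, TensorProduct.assoc_symm_tmul, E0_tmul, E0_tmul, E0_tmul, pi0_one,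
    one_smul, pi0_single]
  split_ifs with hm
  · subst hm
    rw [← AddMonoidAlgebra.one_def]
    abel
  · simp

theorem key_tmul (v : V) (a : AddMonoidAlgebra k M) :
    E0 k M (V ⊗[k] AddMonoidAlgebra k M) (Hoch.d k (AddMonoidAlgebra k M) V 1 (v ⊗ₜ a)) =
      Hoch.d k (AddMonoidAlgebra k M) V 0 (E0 k M V (v ⊗ₜ a)) + v ⊗ₜ a := by
  rw [Hoch.d_succ]
  induction a using AddMonoidAlgebra.induction_linear with
  | zero => simp
  | add x y hx hy =>
    rw [TensorProduct.tmul_add, map_add, map_add, map_add, map_add, hx, hy]
    abel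
  | single m r =>
    rw [LinearMap.add_apply, map_add, LinearMap.rTensor_tmul, E0_tmul, LinearMap.smul_apply, map_smul]
    have h2 := tail_single k M V v m r
    change E0 k M (V ⊗[k] AddMonoidAlgebra k M)
      (Hoch.tail k (AddMonoidAlgebra k M) (Hoch.cochain k (AddMonoidAlgebra k M) V 0)
        (v ⊗ₜ AddMonoidAlgebra.single m r)) = _ at h2
    rw [h2, E0_tmul, map_smul]
    simp

theorem key (c : V ⊗[k] AddMonoidAlgebra k M) :
    E0 k M (V ⊗[k] AddMonoidAlgebra k M) (Hoch.d k (AddMonoidAlgebra k M) V 1 c) =
      Hoch.d k (AddMonoidAlgebra k M) V 0 (E0 k M V c) + c := by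
  induction c using TensorProduct.induction_on with
  | zero => simp
  | tmul v a => exact key_tmul k M V v a
  | add x y hx hy =>
    rw [map_add, map_add, map_add, map_add, hx, hy]
    abel

end



/-- Let k be a commutative ring, M a commutative monoid and V a right comodule over the monoid bialgebra
k[M] (a quasi-coherent module with an action of the diagonalizable monoid scheme Spec k[M]). Then
every 1-cocycle of the Hochschild complex of V is a 1-coboundary, i.e. the first Hochschild
cohomology module of the diagonalizable monoid with coefficients in V is zero. (The source works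
over an algebraic space with M finitely generated and cancellative, hypotheses it uses only to
identify modules under the monoid with comodules; the cocycle computation, which is the affine
statement given here, uses neither.) -/
theorem result (k : Type u) [CommRing k] (M : Type u)
    [AddCommMonoid M] (V : Type u) [AddCommGroup V] [Module k V]
    [HopfRep.Comod k (AddMonoidAlgebra k M) V] :
    Hoch.cocycles k (AddMonoidAlgebra k M) V 1 ≤ Hoch.coboundaries k (AddMonoidAlgebra k M) V 1 := by
  intro c hc
  have hc0 : Hoch.d k (AddMonoidAlgebra k M) V 1 c = 0 := hc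
  have h := key k M V c
  rw [hc0, map_zero] at h
  refine ⟨-(E0 k M V c), ?_⟩
  rw [map_neg]
  exact (eq_neg_of_add_eq_zero_right h.symm).symm

end Groth.Agent.S17677
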