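import Groth.Statements.S17678
import Mathlib
-- import your own Groth.Agent.* helpers here

set_option autoImplicit false
universe u v
open DiagMon

namespace Groth.Agent.S17678

/-- the shear automorphism `(a, b) ↦ (a + b, b)` -/
def shear (N : Type v) [AddCommGroup N] : N × N ≃+ N × N where
  toFun x := (x.1 + x.2, x.2)
  invFun x := (x.1 - x.2, x.2)
  left_inv x := by ext <;> simp
  right_inv x := by ext <;> simp
  map_add' x y := by ext <;> simp; abel

theorem diag_factor (R : Type u) [CommRing R] (N : Type v) [AddCommGroup N] :
    AddMonoidAlgebra.mapDomainRingHom R ((AddMonoidHom.id N).prod (AddMonoidHom.id N)) =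
      (((AddMonoidAlgebra.mapDomainRingEquiv R (shear N)).toRingHom).comp
        (AddMonoidAlgebra.curryRingEquiv (R := R) (M := N) (N := N)).symm.toRingHom).comp
        (algebraMap (AddMonoidAlgebra R N) (AddMonoidAlgebra (AddMonoidAlgebra R N) N)) := by
  apply AddMonoidAlgebra.ringHom_ext
  · intro r
    simp [shear]
  · intro m
    simp [shear]


/-- Let R be a commutative ring and N an abelian group. Then the ring map R[N] → R[N × N] of monoid
algebras induced by the diagonal n ↦ (n, n), which is the comorphism of the multiplication morphism
of the diagonalizable group scheme Spec R[N] over Spec R, is flat. (The published statement asserts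
flatness for every cancellative commutative monoid N, on the ground that N acts freely on N × N
through the diagonal; but for the submonoid N of the natural numbers generated by 2 and 3, the pairs
(x, x − 1) with x ≥ 3 form one orbit class that is not a free orbit, and the corresponding direct
summand of k[N × N] is the ideal t³k[t] viewed as a module over k[t², t³], which is not flat. The
statement is therefore given for groups, where N × N is a free N-set with basis the pairs (0, b).) -/
theorem result (R : Type u) [CommRing R] (N : Type v)
    [AddCommGroup N] :
    (AddMonoidAlgebra.mapDomainRingHom R ((AddMonoidHom.id N).prod (AddMonoidHom.id N))).Flat := by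
  rw [diag_factor]
  apply RingHom.Flat.comp
  · rw [RingHom.flat_algebraMap_iff]
    infer_instance
  · apply RingHom.Flat.of_bijective
    exact ((AddMonoidAlgebra.curryRingEquiv (R := R) (M := N) (N := N)).symm.trans
      (AddMonoidAlgebra.mapDomainRingEquiv R (shear N))).bijective

end Groth.Agent.S17678
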