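import Groth.Statements.S17679
import Mathlib
-- import your own Groth.Agent.* helpers here

set_option autoImplicit false
open DiagMon

namespace Groth.Agent.S17679

/-- the generators `e_i` and `-(e_1 + ... + e_n)` -/
def gen (n : ℕ) : Option (Fin n) → (Fin n → ℤ)
  | some i => Pi.single i 1
  | none => fun _ => -1

theorem gen_injective (n : ℕ) : Function.Injective (gen n) := by
  intro a b hab
  cases a with
  | none =>
    cases b with
    | none => rfl
    | some j =>
      have := congrFun hab j
      simp [gen] at this
  | some i =>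
    cases b with
    | none =>
      have := congrFun hab i
      simp [gen] at this
    | some j =>
      have := congrFun hab i
      simp only [gen, Pi.single_eq_same] at this
      by_cases hij : i = j
      · rw [hij]
      · rw [Pi.single_eq_of_ne hij] at this
        norm_num at this

theorem part_a (n : ℕ) :
    ∃ s : Finset (Fin n → ℤ), s.card = n + 1 ∧
      AddSubmonoid.closure (s : Set (Fin n → ℤ)) = ⊤ := by
  classical
  refine ⟨Finset.univ.image (gen n), ?_, ?_⟩
  · rw [Finset.card_image_of_injective _ (gen_injective n), Finset.card_univ, Fintype.card_option,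
      Fintype.card_fin]
  · set S := AddSubmonoid.closure ((Finset.univ.image (gen n) : Finset (Fin n → ℤ)) : Set (Fin n → ℤ))
      with hS
    have hmem : ∀ o, gen n o ∈ S := by
      intro o
      apply AddSubmonoid.subset_closure
      simp
    have hpos : ∀ i, (Pi.single i 1 : Fin n → ℤ) ∈ S := fun i => hmem (some i)
    have hneg : ∀ i, (Pi.single i (-1) : Fin n → ℤ) ∈ S := by
      intro i
      have h1 : (Pi.single i (-1) : Fin n → ℤ) =
          gen n none + ∑ j ∈ Finset.univ.erase i, (Pi.single j 1 : Fin n → ℤ) := by
        funext k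
        simp only [gen, Pi.add_apply, Finset.sum_apply]
        by_cases hk : k = i
        · subst hk
          rw [Pi.single_eq_same, Finset.sum_eq_zero]
          · simp
          · intro j hj
            rw [Finset.mem_erase] at hj
            exact Pi.single_eq_of_ne (Ne.symm hj.1) _
        · rw [Pi.single_eq_of_ne hk, Finset.sum_eq_single k]
          · simp
          · intro j _ hjk
            exact Pi.single_eq_of_ne (Ne.symm hjk) _
          · intro hk'
            exact absurd (Finset.mem_erase.mpr ⟨hk, Finset.mem_univ k⟩) hk'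
      rw [h1]
      exact S.add_mem (hmem none) (S.sum_mem fun j _ => hpos j)
    have hall : ∀ i (z : ℤ), (Pi.single i z : Fin n → ℤ) ∈ S := by
      intro i z
      rcases Int.eq_nat_or_neg z with ⟨k, rfl | rfl⟩
      · have : (Pi.single i (k : ℤ) : Fin n → ℤ) = k • (Pi.single i 1 : Fin n → ℤ) := by
          rw [← Pi.single_smul]; simp
        rw [this]
        exact S.nsmul_mem (hpos i) k
      · have : (Pi.single i (-(k : ℤ)) : Fin n → ℤ) = k • (Pi.single i (-1) : Fin n → ℤ) := by
          rw [← Pi.single_smul]; simp
        rw [this]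
        exact S.nsmul_mem (hneg i) k
    rw [eq_top_iff]
    intro v _
    have hv : v = ∑ i, (Pi.single i (v i) : Fin n → ℤ) := (Finset.univ_sum_single v).symm
    rw [hv]
    exact S.sum_mem fun i _ => hall i (v i)

theorem part_b (n : ℕ) (hn : 1 ≤ n) (s : Finset (Fin n → ℤ))
    (hs : AddSubmonoid.closure (s : Set (Fin n → ℤ)) = ⊤) : n + 1 ≤ s.card := by
  classical
  by_contra hlt
  have hcard : s.card ≤ n := by omega
  have hspan : ⊤ ≤ Submodule.span ℤ (Set.range (Subtype.val : s → (Fin n → ℤ))) := by
    rw [Subtype.range_coe]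
    intro v _
    have hv : v ∈ AddSubmonoid.closure (s : Set (Fin n → ℤ)) := by rw [hs]; trivial
    have hle : AddSubmonoid.closure (s : Set (Fin n → ℤ)) ≤
        (Submodule.span ℤ (s : Set (Fin n → ℤ))).toAddSubmonoid :=
      AddSubmonoid.closure_le.mpr Submodule.subset_span
    exact hle hv
  have hli : LinearIndependent ℤ (Subtype.val : s → (Fin n → ℤ)) := by
    apply linearIndependent_of_top_le_span_of_card_le_finrank hspan
    rw [Fintype.card_coe, Module.finrank_fin_fun]
    exact hcard
  rw [Fintype.linearIndependent_iff] at hli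
  let x : Fin n → ℤ := fun _ => 1
  have hx : x ∈ AddSubmonoid.closure (s : Set (Fin n → ℤ)) := by rw [hs]; trivial
  have hnx : -x ∈ AddSubmonoid.closure (s : Set (Fin n → ℤ)) := by rw [hs]; trivial
  rw [AddSubmonoid.mem_closure_finset'] at hx hnx
  obtain ⟨a, ha⟩ := hx
  obtain ⟨c, hc⟩ := hnx
  have hsum : ∑ i : s, ((a i + c i : ℕ) : ℤ) • (i : Fin n → ℤ) = 0 := by
    have : ∑ i : s, ((a i + c i : ℕ) : ℤ) • (i : Fin n → ℤ) =
        ∑ i : s, a i • (i : Fin n → ℤ) + ∑ i : s, c i • (i : Fin n → ℤ) := by
      rw [← Finset.sum_add_distrib]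
      apply Finset.sum_congr rfl
      intro i _
      rw [natCast_zsmul, add_smul]
    rw [this, ← ha, ← hc]
    simp
  have hzero := hli _ hsum
  have ha0 : ∀ i : s, a i = 0 := by
    intro i
    have := hzero i
    have h2 : (a i + c i : ℕ) = 0 := by exact_mod_cast this
    omega
  have hx0 : x = 0 := by
    rw [ha]
    apply Finset.sum_eq_zero
    intro i _
    rw [ha0 i, zero_smul]
  have := congrFun hx0 ⟨0, by omega⟩
  simp [x] at this


/-- For n ≥ 1 the minimal number of generators of ℤ^n as an additive monoid is n + 1: some n + 1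
elements generate ℤ^n as a monoid, and every finite set generating ℤ^n as a monoid has at least n +
1 elements. (For n = 0 the empty set generates the zero monoid, so the count n + 1 is stated for n ≥
1 only.) -/
theorem result (n : ℕ) (hn : 1 ≤ n) :
    (∃ s : Finset (Fin n → ℤ), s.card = n + 1 ∧ AddSubmonoid.closure (s : Set (Fin n → ℤ)) = ⊤) ∧
    ∀ s : Finset (Fin n → ℤ), AddSubmonoid.closure (s : Set (Fin n → ℤ)) = ⊤ → n + 1 ≤ s.card := by
  exact ⟨part_a n, part_b n hn⟩

end Groth.Agent.S17679
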