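import Groth.Statements.S17681
import Groth.Agent.Lib.Helper78.GeomConnBase
import Groth.Agent.S18861
import Groth.Agent.Lib.Helper78.FpqcQuot

set_option autoImplicit false
universe u
open CategoryTheory MonoidalCategory CartesianMonoidalCategory MonObj GrpObj AlgebraicGeometry
open AlgGrp

namespace Groth.Agent.S17681

set_option backward.isDefEq.respectTransparency.types false
set_option linter.style.haveILetI false
set_option linter.unusedSectionVars false

open Groth.Agent.S18861 Groth.Agent.Lib.Helper78.FpqcQuot Groth.Agent.Lib.Helper78.GeomConn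
open CategoryTheory.Limits

/-- two morphisms with the same image under an unramified morphism agree iff the induced
morphism to the fibre square lands in the (open) diagonal. -/
theorem range_subset_diagonal_iff {X Y W : Scheme.{u}} (f : X ⟶ Y)
    [IsOpenImmersion (pullback.diagonal f)] (u v : W ⟶ X) (h : u ≫ f = v ≫ f) :
    Set.range (pullback.lift u v h).base ⊆ Set.range (pullback.diagonal f).base ↔ u = v := by
  constructor
  · intro hr
    have e := IsOpenImmersion.lift_fac (pullback.diagonal f) (pullback.lift u v h) hr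
    have e1 := congr_arg (fun φ => φ ≫ pullback.fst f f) e
    have e2 := congr_arg (fun φ => φ ≫ pullback.snd f f) e
    simp only [Category.assoc, pullback.diagonal_fst, pullback.diagonal_snd, Category.comp_id,
      pullback.lift_fst, pullback.lift_snd] at e1 e2
    exact e1.symm.trans e2
  · rintro rfl
    have : pullback.lift u u h = u ≫ pullback.diagonal f := by
      apply pullback.hom_ext
      · rw [pullback.lift_fst, Category.assoc, pullback.diagonal_fst, Category.comp_id]
      · rw [pullback.lift_snd, Category.assoc, pullback.diagonal_snd, Category.comp_id]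
    rw [this, Scheme.Hom.comp_base, TopCat.coe_comp, Set.range_comp]
    exact Set.image_subset_range _ _

section
variable {S : Scheme.{u}} {G X Y : Over S} [GrpObj G] (a : AlgGrp.Action G X)
  (b : AlgGrp.Action G Y) (f : X ⟶ Y)

/-- `g` fixes the point `y`. -/
def Fix {W : Over S} (g : W ⟶ G) (y : W ⟶ X) : Prop := lift g y ≫ a.act = y

theorem fix_one {W : Over S} (y : W ⟶ X) : Fix a (1 : W ⟶ G) y := act_one a y

theorem fix_mul {W : Over S} {g h : W ⟶ G} {y : W ⟶ X} (hg : Fix a g y) (hh : Fix a h y) :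
    Fix a (g * h) y := by
  unfold Fix at *
  rw [act_mul, hh, hg]

theorem fix_inv {W : Over S} {g : W ⟶ G} {y : W ⟶ X} (hg : Fix a g y) : Fix a g⁻¹ y := by
  unfold Fix at *
  conv_lhs => rw [← hg]
  rw [← act_mul, inv_mul_cancel, act_one]

theorem fix_comp {W W' : Over S} (s : W' ⟶ W) {g : W ⟶ G} {y : W ⟶ X} (hg : Fix a g y) :
    Fix a (s ≫ g) (s ≫ y) := by
  unfold Fix at *
  rw [← comp_lift, Category.assoc, hg]

theorem fix_of_epi {W W' : Over S} (s : W' ⟶ W) [Epi s] {g : W ⟶ G} {y : W ⟶ X}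
    (hg : Fix a (s ≫ g) (s ≫ y)) : Fix a g y := by
  unfold Fix at *
  rw [← cancel_epi s, ← Category.assoc, comp_lift, hg]

/-- the two morphisms `G × T ⟶ X` to be compared -/
noncomputable def phi {T : Over S} (x : T ⟶ X) : G ⊗ T ⟶ X := (G ◁ x) ≫ a.act
noncomputable def psi {T : Over S} (x : T ⟶ X) : G ⊗ T ⟶ X := snd G T ≫ x

theorem comp_phi {T W : Over S} (x : T ⟶ X) (m : W ⟶ G ⊗ T) :
    m ≫ phi a x = lift (m ≫ fst G T) (m ≫ snd G T ≫ x) ≫ a.act := by
  rw [phi, ← Category.assoc]
  congr 1
  apply CartesianMonoidalCategory.hom_ext <;> simp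

theorem phi_comp_eq (hf : a.act ≫ f = (G ◁ f) ≫ b.act) {T : Over S} (x : T ⟶ X)
    (hx : ∀ (T' : Over S) (t : T' ⟶ T) (g : T' ⟶ G), lift g (t ≫ x ≫ f) ≫ b.act = t ≫ x ≫ f) :
    phi a x ≫ f = psi x ≫ f := by
  rw [phi, psi, Category.assoc, hf, Category.assoc, ← hx (G ⊗ T) (snd G T) (fst G T),
    ← Category.assoc]
  congr 1
  apply CartesianMonoidalCategory.hom_ext <;> simp

end

section Stab
variable {S : Scheme.{u}} {G X Y : Over S} [GrpObj G] (a : AlgGrp.Action G X)
  (f : X ⟶ Y) [Etale f.left] {T : Over S} (x : T ⟶ X) (hφ : phi a x ≫ f = psi x ≫ f)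

/-- the comparison morphism to the fibre square of `f` -/
noncomputable def cmap : (G ⊗ T).left ⟶ pullback f.left f.left :=
  pullback.lift (phi a x).left (psi x).left (by rw [← Over.comp_left, ← Over.comp_left, hφ])

/-- the open subscheme of `G × T` of elements fixing `x` -/
noncomputable def stabOpen : (G ⊗ T).left.Opens :=
  (cmap a f x hφ) ⁻¹ᵁ (pullback.diagonal f.left).opensRange

theorem range_subset_stabOpen_iff {W : Over S} (m : W ⟶ G ⊗ T) :
    Set.range m.left.base ⊆ (stabOpen a f x hφ : Set (G ⊗ T).left) ↔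
      m ≫ phi a x = m ≫ psi x := by
  have hc : m.left ≫ cmap a f x hφ = pullback.lift (m ≫ phi a x).left (m ≫ psi x).left
      (by rw [← Over.comp_left, ← Over.comp_left, Category.assoc, Category.assoc, hφ]) := by
    apply pullback.hom_ext
    · rw [Category.assoc, cmap, pullback.lift_fst, pullback.lift_fst, Over.comp_left]
    · rw [Category.assoc, cmap, pullback.lift_snd, pullback.lift_snd, Over.comp_left]
  have h1 : Set.range m.left.base ⊆ (stabOpen a f x hφ : Set (G ⊗ T).left) ↔
      Set.range (m.left ≫ cmap a f x hφ).base ⊆ Set.range (pullback.diagonal f.left).base := by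
    rw [Scheme.Hom.comp_base, TopCat.coe_comp, Set.range_comp, Set.image_subset_iff]
    rfl
  rw [h1, hc, range_subset_diagonal_iff]
  constructor
  · intro h
    exact Over.OverMorphism.ext h
  · intro h
    rw [h]

theorem mem_stabOpen_iff (z : (G ⊗ T).left) :
    z ∈ stabOpen a f x hφ ↔
      (Over.homMk ((G ⊗ T).left.fromSpecResidueField z) rfl :
        Over.mk ((G ⊗ T).left.fromSpecResidueField z ≫ (G ⊗ T).hom) ⟶ G ⊗ T) ≫ phi a x =
      (Over.homMk ((G ⊗ T).left.fromSpecResidueField z) rfl :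
        Over.mk ((G ⊗ T).left.fromSpecResidueField z ≫ (G ⊗ T).hom) ⟶ G ⊗ T) ≫ psi x := by
  rw [← range_subset_stabOpen_iff a f x hφ]
  change z ∈ stabOpen a f x hφ ↔
    Set.range ⇑((G ⊗ T).left.fromSpecResidueField z) ⊆ (stabOpen a f x hφ : Set (G ⊗ T).left)
  rw [Scheme.range_fromSpecResidueField, Set.singleton_subset_iff]
  exact Iff.rfl

theorem comp_phi_eq_comp_psi_iff {W : Over S} (m : W ⟶ G ⊗ T) :
    m ≫ phi a x = m ≫ psi x ↔ Fix a (m ≫ fst G T) (m ≫ snd G T ≫ x) := by
  rw [comp_phi, psi, Fix]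

theorem range_subset_stabOpen_iff_fix {W : Over S} (g : W ⟶ G) (t : W ⟶ T) :
    Set.range (lift g t).left.base ⊆ (stabOpen a f x hφ : Set (G ⊗ T).left) ↔
      Fix a g (t ≫ x) := by
  rw [range_subset_stabOpen_iff, comp_phi_eq_comp_psi_iff, lift_fst, lift_snd_assoc]

end Stab

section FieldCase
variable {S : Scheme.{u}} {G X Y : Over S} [GrpObj G] (a : AlgGrp.Action G X)
  (f : X ⟶ Y) [Etale f.left]

theorem isClosed_stabOpen_of_field (K : Over S) [IsIntegral K.left] [Subsingleton K.left]
    (x : K ⟶ X) (hφ : phi a x ≫ f = psi x ≫ f) :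
    IsClosed (stabOpen a f x hφ : Set (G ⊗ K).left) := by
  set U := stabOpen a f x hφ with hU
  rw [← closure_subset_iff_isClosed]
  intro z hz
  -- residue field point of `z`
  let mz := (G ⊗ K).left.fromSpecResidueField z
  let 𝓛 : Over S := Over.mk (mz ≫ (G ⊗ K).hom)
  let zL : 𝓛 ⟶ G ⊗ K := Over.homMk mz rfl
  let gz : 𝓛 ⟶ G := zL ≫ fst G K
  let kz : 𝓛 ⟶ K := zL ≫ snd G K
  have hzL : lift gz kz = zL := by
    apply CartesianMonoidalCategory.hom_ext <;> simp [gz, kz]
  let π : G ⊗ 𝓛 ⟶ G ⊗ K := G ◁ kz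
  have hπ : IsOpenMap π.left.base := by
    have sq := (isPullback_whiskerLeft G kz).map (Over.forget S)
    haveI : UniversallyOpen kz.left := inferInstance
    haveI : UniversallyOpen π.left :=
      MorphismProperty.of_isPullback (P := @UniversallyOpen) sq.flip
        (inferInstance : UniversallyOpen kz.left)
    exact π.left.isOpenMap
  -- translation by `gz⁻¹`
  let θ' : G ⊗ 𝓛 ⟶ G ⊗ 𝓛 := lift ((snd G 𝓛 ≫ gz)⁻¹ * fst G 𝓛) (snd G 𝓛)
  let e' : 𝓛 ⟶ G ⊗ 𝓛 := lift (1 : 𝓛 ⟶ G) (𝟙 𝓛)
  let z' : 𝓛 ⟶ G ⊗ 𝓛 := lift gz (𝟙 𝓛)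
  have h1 : z' ≫ θ' = e' := by
    apply CartesianMonoidalCategory.hom_ext
    · simp only [z', θ', e', Category.assoc, lift_fst, MonObj.comp_mul, GrpObj.comp_inv,
        lift_snd_assoc, Category.id_comp, inv_mul_cancel]
    · simp [z', θ', e']
  have h2 : z' ≫ π = zL := by
    rw [← hzL]
    apply CartesianMonoidalCategory.hom_ext <;> simp [z', π]
  let pt : Spec ((G ⊗ K).left.residueField z) := default
  have hz' : π.left.base (z'.left.base pt) = z := by
    rw [← Scheme.Hom.comp_apply, ← Over.comp_left, h2]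
    exact Scheme.fromSpecResidueField_apply _ _
  let UL : (G ⊗ 𝓛).left.Opens := π.left ⁻¹ᵁ U
  let V : (G ⊗ 𝓛).left.Opens := θ'.left ⁻¹ᵁ UL
  have hptV : z'.left.base pt ∈ V := by
    change π.left.base (θ'.left.base (z'.left.base pt)) ∈ U
    rw [← Scheme.Hom.comp_apply, ← Scheme.Hom.comp_apply, ← Over.comp_left, ← Over.comp_left,
      ← Category.assoc, h1]
    have hr : Set.range (e' ≫ π).left.base ⊆ (U : Set (G ⊗ K).left) := by
      rw [hU, range_subset_stabOpen_iff, comp_phi_eq_comp_psi_iff]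
      have : (e' ≫ π) ≫ fst G K = 1 := by simp [e', π]
      rw [this]
      exact fix_one a _
    exact hr ⟨pt, rfl⟩
  have hcl : z'.left.base pt ∈ closure (UL : Set (G ⊗ 𝓛).left) := by
    have h3 : z'.left.base pt ∈ π.left.base ⁻¹' closure (U : Set (G ⊗ K).left) := by
      change π.left.base (z'.left.base pt) ∈ closure (U : Set (G ⊗ K).left)
      rw [hz']
      exact hz
    exact hπ.preimage_closure_subset_closure_preimage h3
  obtain ⟨w, hwV, hwU⟩ := mem_closure_iff.mp hcl V V.isOpen hptV
  -- residue field point of `w`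
  let mw := (G ⊗ 𝓛).left.fromSpecResidueField w
  let 𝓜 : Over S := Over.mk (mw ≫ (G ⊗ 𝓛).hom)
  let wM : 𝓜 ⟶ G ⊗ 𝓛 := Over.homMk mw rfl
  let gw : 𝓜 ⟶ G := wM ≫ fst G 𝓛
  let lw : 𝓜 ⟶ 𝓛 := wM ≫ snd G 𝓛
  have hrw : Set.range wM.left.base = {w} := Scheme.range_fromSpecResidueField _
  have F1 : Fix a gw (lw ≫ kz ≫ x) := by
    have hr : Set.range (wM ≫ π).left.base ⊆ (U : Set (G ⊗ K).left) := by
      rw [Over.comp_left, Scheme.Hom.comp_base, TopCat.coe_comp, Set.range_comp, hrw,
        Set.image_singleton, Set.singleton_subset_iff]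
      exact hwU
    rw [hU, range_subset_stabOpen_iff, comp_phi_eq_comp_psi_iff] at hr
    have e1 : (wM ≫ π) ≫ fst G K = gw := by simp [π, gw]
    have e2 : (wM ≫ π) ≫ snd G K ≫ x = lw ≫ kz ≫ x := by simp [π, lw]
    rwa [e1, e2] at hr
  have F2 : Fix a ((lw ≫ gz)⁻¹ * gw) (lw ≫ kz ≫ x) := by
    have hr : Set.range (wM ≫ θ' ≫ π).left.base ⊆ (U : Set (G ⊗ K).left) := by
      rw [Over.comp_left, Scheme.Hom.comp_base, TopCat.coe_comp, Set.range_comp, hrw,
        Set.image_singleton, Set.singleton_subset_iff]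
      exact hwV
    rw [hU, range_subset_stabOpen_iff, comp_phi_eq_comp_psi_iff] at hr
    have e1 : (wM ≫ θ' ≫ π) ≫ fst G K = (lw ≫ gz)⁻¹ * gw := by
      simp only [π, θ', gw, lw, Category.assoc, whiskerLeft_fst, lift_fst, MonObj.comp_mul,
        GrpObj.comp_inv]
    have e2 : (wM ≫ θ' ≫ π) ≫ snd G K ≫ x = lw ≫ kz ≫ x := by simp [π, θ', lw]
    rwa [e1, e2] at hr
  have F3 : Fix a (lw ≫ gz) (lw ≫ kz ≫ x) := by
    have := fix_mul a F1 (fix_inv a F2)
    have e : gw * ((lw ≫ gz)⁻¹ * gw)⁻¹ = lw ≫ gz := by group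
    rwa [e] at this
  have F4 : Fix a gz (kz ≫ x) := by
    haveI : Subsingleton 𝓛.left :=
      (inferInstance : Subsingleton (Spec ((G ⊗ K).left.residueField z)))
    haveI : IsIntegral 𝓛.left :=
      (inferInstance : IsIntegral (Spec ((G ⊗ K).left.residueField z)))
    haveI : Flat lw.left := inferInstance
    haveI : Surjective lw.left :=
      ⟨fun p => ⟨(default : Spec ((G ⊗ 𝓛).left.residueField w)), Subsingleton.elim _ _⟩⟩
    haveI : Epi lw.left := Flat.epi_of_flat_of_surjective lw.left
    haveI : Epi lw := Functor.epi_of_epi_map (Over.forget S) (inferInstance : Epi lw.left)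
    exact fix_of_epi a lw F3
  have hr : Set.range zL.left.base ⊆ (U : Set (G ⊗ K).left) := by
    rw [hU, ← hzL, range_subset_stabOpen_iff_fix]
    exact F4
  exact hr ⟨pt, Scheme.fromSpecResidueField_apply _ _⟩

theorem stabOpen_eq_top_of_field [GeometricallyConnected G.hom] (K : Over S)
    [IsIntegral K.left] [Subsingleton K.left] (x : K ⟶ X) (hφ : phi a x ≫ f = psi x ≫ f) :
    stabOpen a f x hφ = ⊤ := by
  haveI : ConnectedSpace (G ⊗ K).left := by
    have h := GeometricallyConnected.geometrically_connectedSpace (f := G.hom)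
    rw [geometrically_eq_universally] at h
    exact h (fst G K).left K.hom (snd G K).left (IsPullback.of_hasPullback G.hom K.hom).flip
      inferInstance inferInstance
  have hclopen : IsClopen (stabOpen a f x hφ : Set (G ⊗ K).left) :=
    ⟨isClosed_stabOpen_of_field a f K x hφ, (stabOpen a f x hφ).isOpen⟩
  have hne : (stabOpen a f x hφ : Set (G ⊗ K).left).Nonempty := by
    obtain ⟨pt⟩ : Nonempty K.left := inferInstance
    refine ⟨(lift (1 : K ⟶ G) (𝟙 K)).left.base pt, ?_⟩
    have hr := (range_subset_stabOpen_iff_fix a f x hφ (1 : K ⟶ G) (𝟙 K)).mpr (fix_one a _)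
    exact hr ⟨pt, rfl⟩
  exact TopologicalSpace.Opens.ext (hclopen.eq_univ hne)

end FieldCase

section Main
variable {S : Scheme.{u}} {G X Y : Over S} [GrpObj G] (a : AlgGrp.Action G X)
  (b : AlgGrp.Action G Y) (f : X ⟶ Y) [Etale f.left]

theorem phi_whisker {T K : Over S} (j : K ⟶ T) (x : T ⟶ X) :
    (G ◁ j) ≫ phi a x = phi a (j ≫ x) := by
  rw [phi, phi, MonoidalCategory.whiskerLeft_comp, Category.assoc]

theorem psi_whisker {T K : Over S} (j : K ⟶ T) (x : T ⟶ X) :
    (G ◁ j) ≫ psi (G := G) x = psi (j ≫ x) := by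
  rw [psi, psi, whiskerLeft_snd_assoc]

theorem phi_eq_psi [GeometricallyConnected G.hom] (hf : a.act ≫ f = (G ◁ f) ≫ b.act)
    {T : Over S} (x : T ⟶ X)
    (hx : ∀ (T' : Over S) (t : T' ⟶ T) (g : T' ⟶ G), lift g (t ≫ x ≫ f) ≫ b.act = t ≫ x ≫ f) :
    phi a x = psi x := by
  have hφ := phi_comp_eq a b f hf x hx
  have key : stabOpen a f x hφ = ⊤ := by
    refine TopologicalSpace.Opens.ext (Set.eq_univ_of_forall fun z => ?_)
    let τ := (snd G T).left.base z
    let K : Over S := Over.mk (T.left.fromSpecResidueField τ ≫ T.hom)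
    let j : K ⟶ T := Over.homMk (T.left.fromSpecResidueField τ) rfl
    have sq := (isPullback_whiskerLeft G j).map (Over.forget S)
    let pt : Spec (T.left.residueField τ) := default
    obtain ⟨z', hz', -⟩ := Groth.Agent.S18824.exists_preimage_of_isPullback sq z pt
      (Scheme.fromSpecResidueField_apply _ _).symm
    haveI : Subsingleton K.left :=
      (inferInstance : Subsingleton (Spec (T.left.residueField τ)))
    haveI : IsIntegral K.left :=
      (inferInstance : IsIntegral (Spec (T.left.residueField τ)))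
    have hxK : ∀ (T' : Over S) (t : T' ⟶ K) (g : T' ⟶ G),
        lift g (t ≫ (j ≫ x) ≫ f) ≫ b.act = t ≫ (j ≫ x) ≫ f := by
      intro T' t g
      have := hx T' (t ≫ j) g
      simpa only [Category.assoc] using this
    have hφK := phi_comp_eq a b f hf (j ≫ x) hxK
    have hK := stabOpen_eq_top_of_field a f K (j ≫ x) hφK
    have e : (G ◁ j) ≫ phi a x = (G ◁ j) ≫ psi x := by
      have := (range_subset_stabOpen_iff a f (j ≫ x) hφK (𝟙 _)).mp
        (by rw [hK]; exact Set.subset_univ _)
      rw [Category.id_comp, Category.id_comp] at this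
      rw [phi_whisker, psi_whisker, this]
    have hr := (range_subset_stabOpen_iff a f x hφ (G ◁ j)).mpr e
    rw [← hz']
    exact hr ⟨z', rfl⟩
  have := (range_subset_stabOpen_iff a f x hφ (𝟙 _)).mp (by rw [key]; exact Set.subset_univ _)
  rwa [Category.id_comp, Category.id_comp] at this

end Main


/-- Let S be a scheme, G a flat S-group scheme of finite presentation with connected fibres, X and Y
S-schemes locally of finite presentation with actions of G, and f : X → Y an étale G-equivariant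
S-morphism; assume that S is locally Noetherian or that X and Y are quasi-separated over S. Then f
reflects fixed points: a T-point x of X whose image in Y is fixed by G after every base change T' →
T is itself fixed by G after every base change, so that the fixed-point subfunctor of X is the
preimage of that of Y. (The source allows X and Y to be algebraic spaces over S; this row is the
case of schemes.) -/
theorem result (S : Scheme.{u})
    (G : Over S) [GrpObj G] [Flat G.hom] [LocallyOfFinitePresentation G.hom] [QuasiCompact G.hom]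
    [QuasiSeparated G.hom] (hconn : ∀ s : S, ConnectedSpace (G.hom.fiber s))
    (X Y : Over S) [LocallyOfFinitePresentation X.hom] [LocallyOfFinitePresentation Y.hom]
    (hS : IsLocallyNoetherian S ∨ (QuasiSeparated X.hom ∧ QuasiSeparated Y.hom))
    (a : AlgGrp.Action G X) (b : AlgGrp.Action G Y) (f : X ⟶ Y) [Etale f.left]
    (hf : a.act ≫ f = (G ◁ f) ≫ b.act) (T : Over S) (x : T ⟶ X)
    (hx : ∀ (T' : Over S) (t : T' ⟶ T) (g : T' ⟶ G), lift g (t ≫ x ≫ f) ≫ b.act = t ≫ x ≫ f)
    (T' : Over S) (t : T' ⟶ T) (g : T' ⟶ G) : lift g (t ≫ x) ≫ a.act = t ≫ x := by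
  haveI : GeometricallyConnected G.hom := geometricallyConnected_of_grpObj G hconn
  have hx' : ∀ (T'' : Over S) (s : T'' ⟶ T') (g' : T'' ⟶ G),
      lift g' (s ≫ (t ≫ x) ≫ f) ≫ b.act = s ≫ (t ≫ x) ≫ f := by
    intro T'' s g'
    have := hx T'' (s ≫ t) g'
    simpa only [Category.assoc] using this
  have key := phi_eq_psi a b f hf (t ≫ x) hx'
  have h2 := congr_arg (fun m => lift g (𝟙 T') ≫ m) key
  simp only [comp_phi, psi, lift_fst, lift_snd_assoc, Category.id_comp] at h2
  exact h2

end Groth.Agent.S17681
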