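import Groth.Statements.S17682
import Mathlib
-- import your own Groth.Agent.* helpers here

set_option autoImplicit false
universe u v w u'
open DiagMon

namespace Groth.Agent.S17682

section aux

open DirectSum

variable (R : Type u) [CommRing R]
    (A : Type v) [CommRing A] [Algebra R A] (M : Type w) [AddCommMonoid M] [DecidableEq M]
    (𝒜 : M → Submodule R A) [GradedAlgebra 𝒜] (R' : Type u') [CommRing R']
    [Algebra R R'] (F : A →ₐ[R] R')

noncomputable def fComp (m : M) : 𝒜 m →ₗ[R] AddMonoidAlgebra R' M :=
  ((AddMonoidAlgebra.lsingle m : R' →ₗ[R'] AddMonoidAlgebra R' M).restrictScalars R) ∘ₗ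
    F.toLinearMap ∘ₗ (𝒜 m).subtype

theorem fComp_apply (m : M) (x : 𝒜 m) :
    fComp R A M 𝒜 R' F m x = AddMonoidAlgebra.single m (F x) := rfl

noncomputable def fDS : (⨁ i, 𝒜 i) →ₐ[R] AddMonoidAlgebra R' M :=
  DirectSum.toAlgebra R (fun i => 𝒜 i) (fComp R A M 𝒜 R' F)
    (by
      rw [fComp_apply]
      show AddMonoidAlgebra.single 0 (F ((1 : A))) = 1
      rw [map_one]
      rfl)
    (by
      intro i j ai aj
      rw [fComp_apply, fComp_apply, fComp_apply, AddMonoidAlgebra.single_mul_single, ← map_mul]
      rfl)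

noncomputable def fA : A →ₐ[R] AddMonoidAlgebra R' M :=
  (fDS R A M 𝒜 R' F).comp (DirectSum.decomposeAlgEquiv 𝒜).toAlgHom

theorem fA_of_mem (m : M) (a : A) (ha : a ∈ 𝒜 m) :
    fA R A M 𝒜 R' F a = AddMonoidAlgebra.single m (F a) := by
  show fDS R A M 𝒜 R' F (DirectSum.decompose 𝒜 a) = _
  rw [DirectSum.decompose_of_mem 𝒜 ha]
  unfold fDS
  rw [toAlgebra_apply, DirectSum.toSemiring_of]
  rfl

theorem counit_fA (a : A) :
    Bialgebra.counitAlgHom R' (AddMonoidAlgebra R' M) (fA R A M 𝒜 R' F a) = F a := by
  induction a using DirectSum.Decomposition.inductionOn 𝒜 with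
  | zero => simp
  | homogeneous x =>
    rw [fA_of_mem R A M 𝒜 R' F _ x x.2]
    simp [AddMonoidAlgebra.counit_single]
  | add a b ha hb => rw [map_add, map_add, map_add, ha, hb]

end aux


/-- Let R be a commutative ring, A a commutative R-algebra graded by a commutative monoid M, N a
submonoid of M and R' a commutative R-algebra. For every R-algebra homomorphism F : A → R' vanishing
on the homogeneous elements of degree outside N there is a unique R-algebra homomorphism f : A →
R'[M] which is graded (a homogeneous element of degree m goes to a multiple of X^m), vanishes on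
homogeneous elements of degree outside N, and composes with the augmentation X^m ↦ 1 to F. In the
dictionary where an M-grading of A is an action of the diagonalizable monoid scheme Spec R[M] on
Spec A and graded maps A → R'[M] supported on N are equivariant maps from the monoid scheme of N
over R', this says that the attractor of Spec A for the magnet N is represented by the closed
subscheme of Spec A defined by the homogeneous elements of degree outside N. -/
theorem result (R : Type u) [CommRing R]
    (A : Type v) [CommRing A] [Algebra R A] (M : Type w) [AddCommMonoid M] [DecidableEq M]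
    (𝒜 : M → Submodule R A) [GradedAlgebra 𝒜] (N : AddSubmonoid M) (R' : Type u') [CommRing R']
    [Algebra R R'] (F : A →ₐ[R] R') (hF : ∀ m, m ∉ N → ∀ a ∈ 𝒜 m, F a = 0) :
    ∃! f : A →ₐ[R] AddMonoidAlgebra R' M,
      (∀ m, ∀ a ∈ 𝒜 m, f a =
          AddMonoidAlgebra.single m (Bialgebra.counitAlgHom R' (AddMonoidAlgebra R' M) (f a))) ∧
      (∀ m, m ∉ N → ∀ a ∈ 𝒜 m, f a = 0) ∧
      ∀ a, Bialgebra.counitAlgHom R' (AddMonoidAlgebra R' M) (f a) = F a := by
  refine ⟨fA R A M 𝒜 R' F, ⟨?_, ?_, ?_⟩, ?_⟩
  · intro m a ha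
    rw [counit_fA, fA_of_mem R A M 𝒜 R' F m a ha]
  · intro m hm a ha
    rw [fA_of_mem R A M 𝒜 R' F m a ha, hF m hm a ha]
    simp
  · exact counit_fA R A M 𝒜 R' F
  · rintro g ⟨hg1, _, hg3⟩
    apply AlgHom.ext
    intro a
    induction a using DirectSum.Decomposition.inductionOn 𝒜 with
    | zero => simp
    | homogeneous x =>
      rw [fA_of_mem R A M 𝒜 R' F _ x x.2, hg1 _ x x.2, hg3]
    | add a b ha hb => rw [map_add, map_add, ha, hb]

end Groth.Agent.S17682
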