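import Groth.Statements.S17683
import Mathlib
-- import your own Groth.Agent.* helpers here

set_option autoImplicit false
universe u
open DiagMon

namespace Groth.Agent.S17683

theorem c_single_mem {N : Type u} [AddCommMonoid N] (F : AddSubmonoid N) (n : N) (h : n ∈ F)
    (r : ℤ) :
    AddMonoidAlgebra.comapDomain ((↑) : F → N) Subtype.val_injective
      (AddMonoidAlgebra.single n r) = AddMonoidAlgebra.single ⟨n, h⟩ r :=
  AddMonoidAlgebra.comapDomain_single_map ((↑) : F → N) Subtype.val_injective ⟨n, h⟩ r

theorem c_single_not_mem {N : Type u} [AddCommMonoid N] (F : AddSubmonoid N) (n : N) (h : n ∉ F)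
    (r : ℤ) :
    AddMonoidAlgebra.comapDomain ((↑) : F → N) Subtype.val_injective
      (AddMonoidAlgebra.single n r) = 0 := by
  classical
  ext ⟨m, hm⟩
  simp only [AddMonoidAlgebra.coeff_comapDomain, Finsupp.comapDomain_apply,
    AddMonoidAlgebra.coeff_single, AddMonoidAlgebra.coeff_zero, Finsupp.coe_zero, Pi.zero_apply]
  rw [Finsupp.single_apply, if_neg]
  rintro rfl
  exact h hm


/-- Let N be a commutative monoid and F a submonoid of N. The additive projection ℤ[N] → ℤ[F] of monoid
algebras keeping the monomials with exponent in F and killing the others is multiplicative, i.e. F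
is a face of N, if and only if for all x, y in N the sum x + y lies in F exactly when both x and y
do. -/
theorem result {N : Type u} [AddCommMonoid N] (F : AddSubmonoid N) :
    (∀ a b : AddMonoidAlgebra ℤ N,
        AddMonoidAlgebra.comapDomain ((↑) : F → N) Subtype.val_injective (a * b) =
          AddMonoidAlgebra.comapDomain ((↑) : F → N) Subtype.val_injective a *
            AddMonoidAlgebra.comapDomain ((↑) : F → N) Subtype.val_injective b) ↔
      ∀ x y : N, x + y ∈ F ↔ (x ∈ F ∧ y ∈ F) := by
  classical
  constructor
  · intro H x y
    constructor
    · intro hxy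
      have h1 := H (AddMonoidAlgebra.single x 1) (AddMonoidAlgebra.single y 1)
      rw [AddMonoidAlgebra.single_mul_single, c_single_mem F (x + y) hxy] at h1
      by_contra hcon
      have h0 : AddMonoidAlgebra.comapDomain ((↑) : F → N) Subtype.val_injective
            (AddMonoidAlgebra.single x (1 : ℤ)) *
          AddMonoidAlgebra.comapDomain ((↑) : F → N) Subtype.val_injective
            (AddMonoidAlgebra.single y (1 : ℤ)) = 0 := by
        by_cases hx : x ∈ F
        · have hy : y ∉ F := fun hy => hcon ⟨hx, hy⟩
          rw [c_single_not_mem F y hy, mul_zero]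
        · rw [c_single_not_mem F x hx, zero_mul]
      rw [h0, AddMonoidAlgebra.single_eq_zero] at h1
      norm_num at h1
    · rintro ⟨hx, hy⟩
      exact F.add_mem hx hy
  · intro H a b
    induction a using AddMonoidAlgebra.induction_linear with
    | zero => simp
    | add a₁ a₂ h₁ h₂ =>
      rw [add_mul, AddMonoidAlgebra.comapDomain_add, AddMonoidAlgebra.comapDomain_add, add_mul,
        h₁, h₂]
    | single x r =>
      induction b using AddMonoidAlgebra.induction_linear with
      | zero => simp
      | add b₁ b₂ h₁ h₂ =>
        rw [mul_add, AddMonoidAlgebra.comapDomain_add, AddMonoidAlgebra.comapDomain_add, mul_add,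
          h₁, h₂]
      | single y t =>
        rw [AddMonoidAlgebra.single_mul_single]
        by_cases hx : x ∈ F
        · by_cases hy : y ∈ F
          · rw [c_single_mem F x hx, c_single_mem F y hy, c_single_mem F (x + y) (F.add_mem hx hy),
              AddMonoidAlgebra.single_mul_single]
            rfl
          · have hxy : x + y ∉ F := fun h => hy ((H x y).1 h).2
            rw [c_single_not_mem F y hy, c_single_not_mem F _ hxy, mul_zero]
        · have hxy : x + y ∉ F := fun h => hx ((H x y).1 h).1
          rw [c_single_not_mem F x hx, c_single_not_mem F _ hxy, zero_mul]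

end Groth.Agent.S17683
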