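import Groth.Statements.S17685
import Groth.Agent.Lib.Helper6.FixedLocus2

set_option autoImplicit false
universe u
open CategoryTheory MonoidalCategory CartesianMonoidalCategory MonObj GrpObj AlgebraicGeometry
open AlgGrp

namespace Groth.Agent.S17685

/-- Let S be a scheme, F an S-scheme that is finite locally free over S (finite, flat and locally of
finite presentation) with a section e of F over S which is a surjective closed immersion (an
infinitesimal pointed S-scheme), and X an S-scheme with an action of the pointed scheme F, i.e. an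
S-morphism F ×_S X → X through which e acts as the identity. Then the subfunctor of F-fixed points
of X, whose T-points are the T-points x of X with g · x_{T'} = x_{T'} for every S-scheme T' over T
and every T'-point g of F, is represented by a closed subscheme of X. (The source allows F and X to
be algebraic spaces over S; this row is the case of schemes.) -/
theorem result (S : Scheme.{u})
    (F X : Over S) (e : 𝟙_ (Over S) ⟶ F) (act : F ⊗ X ⟶ X) (he : (e ▷ X) ≫ act = (λ_ X).hom)
    [IsFinite F.hom] [Flat F.hom] [LocallyOfFinitePresentation F.hom]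
    [IsClosedImmersion e.left] [Surjective e.left] :
    ∃ (Z : Scheme.{u}) (i : Z ⟶ X.left), IsClosedImmersion i ∧
      ∀ (T : Over S) (x : T ⟶ X), (∃ y : T.left ⟶ Z, y ≫ i = x.left) ↔
        ∀ (T' : Over S) (t : T' ⟶ T) (g : T' ⟶ F), lift g (t ≫ x) ≫ act = t ≫ x := by
  have hEF : SGA3x.IsEssentiallyFree F.hom := by
    apply Groth.Agent.Lib.Helper6.FixedLocus2.essFree_of_charts
    intro s
    have hB := Groth.Agent.Lib.Helper6.MorSGlue.isBasis_freeOpens F.hom
    rw [TopologicalSpace.Opens.isBasis_iff_nbhd] at hB
    obtain ⟨W, ⟨hWaff, n, ⟨b⟩⟩, hsW, -⟩ := hB (U := ⊤) (x := s) trivial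
    haveI : IsAffine (W : Scheme.{u}) := hWaff
    refine ⟨W, hsW, hWaff, isAffine_of_isAffineHom (Limits.pullback.snd F.hom (Scheme.Opens.ι W)), ?_⟩
    letI := (Limits.pullback.snd F.hom (Scheme.Opens.ι W)).appTop.hom.toAlgebra
    haveI : Module.Free Γ((W : Scheme.{u}), ⊤) Γ(Limits.pullback F.hom (Scheme.Opens.ι W), ⊤) := Module.Free.of_basis b
    infer_instance
  haveI := Groth.Agent.Lib.Helper6.FixedLocus2.jMap_closed_of_infinitesimal F X act e he
  exact Groth.Agent.Lib.Helper6.FixedLocus2.fixed_closed_of_act F X act hEF

end Groth.Agent.S17685
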