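import Groth.Statements.S17687
import Mathlib
-- import your own Groth.Agent.* helpers here

set_option autoImplicit false
universe u v w
open DiagMon

namespace Groth.Agent.S17687

section aux

open DirectSum

variable {R : Type u} [CommRing R] {A : Type v} [CommRing A]
    [Algebra R A] {M : Type w} [AddCommMonoid M] [DecidableEq M]
    (𝒜 : M → Submodule R A) [GradedAlgebra 𝒜]

/-- the ideal generated by homogeneous elements with degree in the finite set `D'` -/
def idealOf (D' : Finset M) : Ideal A := Ideal.span {a : A | ∃ m ∈ D', a ∈ 𝒜 m}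

theorem key (s : Finset A) (hs : Algebra.adjoin R (s : Set A) = ⊤) (D : Finset M)
    (hD : ∀ a ∈ s, ∀ m, (DirectSum.decompose 𝒜 a m : A) ≠ 0 → m ∈ D) (N : AddSubmonoid M) :
    ∃ D' ⊆ D, Ideal.span {a : A | ∃ m : M, m ∉ N ∧ a ∈ 𝒜 m} = idealOf 𝒜 D' := by
  classical
  refine ⟨D.filter (fun m => m ∉ N), Finset.filter_subset _ _, ?_⟩
  apply le_antisymm
  · rw [Ideal.span_le]
    rintro a ⟨m, hm, ha⟩
    have hall : ∀ b : A, ∀ m, m ∉ N →
        (DirectSum.decompose 𝒜 b m : A) ∈ idealOf 𝒜 (D.filter (fun m => m ∉ N)) := by
      intro b
      have hb : b ∈ Algebra.adjoin R (s : Set A) := by rw [hs]; trivial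
      induction hb using Algebra.adjoin_induction with
      | mem x hx =>
        intro m hm
        by_cases h0 : (DirectSum.decompose 𝒜 x m : A) = 0
        · rw [h0]; exact Ideal.zero_mem _
        · apply Ideal.subset_span
          refine ⟨m, ?_, (DirectSum.decompose 𝒜 x m).2⟩
          rw [Finset.mem_filter]
          exact ⟨hD x hx m h0, hm⟩
      | algebraMap r =>
        intro m hm
        have hm0 : m ≠ 0 := by
          rintro rfl
          exact hm N.zero_mem
        have hmem : algebraMap R A r ∈ 𝒜 0 := SetLike.algebraMap_mem_graded 𝒜 r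
        rw [DirectSum.decompose_of_mem_ne 𝒜 hmem (Ne.symm hm0)]
        exact Ideal.zero_mem _
      | add x y _ _ hx hy =>
        intro m hm
        rw [DirectSum.decompose_add, DirectSum.add_apply, Submodule.coe_add]
        exact Ideal.add_mem _ (hx m hm) (hy m hm)
      | mul x y _ _ hx hy =>
        intro m hm
        rw [DirectSum.decompose_mul, DirectSum.coe_mul_apply]
        apply Ideal.sum_mem
        rintro ⟨i, j⟩ hij
        rw [Finset.mem_filter] at hij
        have hsum : i + j = m := hij.2
        by_cases hi : i ∈ N
        · have hj : j ∉ N := by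
            intro hj
            exact hm (hsum ▸ N.add_mem hi hj)
          exact Ideal.mul_mem_left _ _ (hy j hj)
        · exact Ideal.mul_mem_right _ _ (hx i hi)
    have := hall a m hm
    rwa [DirectSum.decompose_of_mem_same 𝒜 ha] at this
  · unfold idealOf
    apply Ideal.span_mono
    rintro a ⟨m, hm, ha⟩
    rw [Finset.mem_filter] at hm
    exact ⟨m, hm.2, ha⟩

end aux


/-- Let R be a commutative ring and A a commutative R-algebra of finite type graded by a commutative
monoid M. Then the set of ideals J_N, N running over all submonoids of M, where J_N is generated by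
the homogeneous elements of degree not in N (the ideal of the attractor of Spec A for the magnet N),
is finite: Spec A has finitely many attractors and hence finitely many pure magnets. (The source
assumes Spec A of finite presentation over the base; its proof uses only a finite set of homogeneous
algebra generators, so finite type is assumed here.) -/
theorem result (R : Type u) [CommRing R] (A : Type v) [CommRing A]
    [Algebra R A] [Algebra.FiniteType R A] (M : Type w) [AddCommMonoid M] [DecidableEq M]
    (𝒜 : M → Submodule R A) [GradedAlgebra 𝒜] :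
    (Set.range fun N : AddSubmonoid M => Ideal.span {a : A | ∃ m : M, m ∉ N ∧ a ∈ 𝒜 m}).Finite := by
  classical
  obtain ⟨s, hs⟩ := (Algebra.FiniteType.out : (⊤ : Subalgebra R A).FG)
  let D : Finset M := s.biUnion (fun a => (DirectSum.decompose 𝒜 a).support)
  have hD : ∀ a ∈ s, ∀ m, (DirectSum.decompose 𝒜 a m : A) ≠ 0 → m ∈ D := by
    intro a ha m hm
    rw [Finset.mem_biUnion]
    refine ⟨a, ha, ?_⟩
    rw [DFinsupp.mem_support_iff]
    intro h0
    apply hm
    rw [h0]
    rfl
  apply Set.Finite.subset ((D.powerset.image (idealOf 𝒜)).finite_toSet)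
  rintro _ ⟨N, rfl⟩
  simp only [Finset.coe_image, Set.mem_image, Finset.mem_coe, Finset.mem_powerset]
  obtain ⟨D', hD', h⟩ := key 𝒜 s hs D hD N
  exact ⟨D', hD', h.symm⟩

end Groth.Agent.S17687
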