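import Groth.Statements.S17688
import Mathlib
import Groth.Agent.Lib.Helper7.GenFibreDense

set_option autoImplicit false
set_option linter.style.haveILetI false
universe u
open CategoryTheory CategoryTheory.Limits AlgebraicGeometry MonObj
open Neron

namespace Groth.Agent.S17688

open CategoryTheory CategoryTheory.Limits AlgebraicGeometry MonObj
open Neron
open Groth.Agent.Lib.Helper7.GenFibreDense

lemma genPt_schDominant (R : Type u) [CommRing R] [IsDomain R] :
    IsSchemeTheoreticallyDominant (Neron.genPt R) :=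
  schDominant_SpecMap_of_injective _ (IsFractionRing.injective R (FractionRing R))


/-- Let R be a discrete valuation ring whose fraction field K has characteristic p > 0, and let U be a
flat, separated, commutative group scheme over Spec R whose generic fibre U_K is annihilated by a
power p^N of p (in the group of endomorphisms of U_K as a K-scheme, the p^N-th power of the identity
is the unit). Then for every prime ℓ invertible in R the ℓ-th power map of U (the ℓ-th power of the
identity in the group of R-morphisms U → U) is an isomorphism. -/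
theorem result
    (R : Type u) [CommRing R] [IsDomain R] [IsDiscreteValuationRing R]
    (p : ℕ) (hp : p.Prime) [CharP (FractionRing R) p]
    (U : Over (Spec (CommRingCat.of R))) [GrpObj U] [IsCommMonObj U] [Flat U.hom] [IsSeparated U.hom]
    (N : ℕ) (hN : (𝟙 (Red.bc (Neron.genPt R) U) : Red.bc (Neron.genPt R) U ⟶ Red.bc (Neron.genPt R) U) ^ (p ^ N) = 1)
    (ℓ : ℕ) (hℓ : ℓ.Prime) (hℓu : IsUnit (ℓ : R)) :
    IsIso ((𝟙 U : U ⟶ U) ^ ℓ) := by
  haveI := genPt_schDominant R
  -- ℓ ≠ p
  have hne : ℓ ≠ p := by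
    rintro rfl
    have h0 : ((ℓ : ℕ) : FractionRing R) = 0 := CharP.cast_eq_zero _ _
    have hu : IsUnit ((ℓ : ℕ) : FractionRing R) := by
      have := hℓu.map (algebraMap R (FractionRing R))
      simpa using this
    rw [h0] at hu
    exact not_isUnit_zero hu
  have hcop : Nat.Coprime ℓ (p ^ N) :=
    Nat.Coprime.pow_right N ((Nat.coprime_primes hℓ hp).mpr hne)
  -- the order of `𝟙` on the generic fibre divides `p ^ N`
  have hU1 : (𝟙 (Red.bc (Neron.genPt R) U) : Red.bc (Neron.genPt R) U ⟶ Red.bc (Neron.genPt R) U) ^ (p ^ N) = 1 := hN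
  obtain ⟨m, hm⟩ : ∃ m : ℕ, (𝟙 (Red.bc (Neron.genPt R) U) :
      Red.bc (Neron.genPt R) U ⟶ Red.bc (Neron.genPt R) U) ^ (ℓ * m) =
      𝟙 (Red.bc (Neron.genPt R) U) := by
    have hord : orderOf (𝟙 (Red.bc (Neron.genPt R) U) :
      Red.bc (Neron.genPt R) U ⟶ Red.bc (Neron.genPt R) U) ∣ p ^ N := orderOf_dvd_of_pow_eq_one hN
    have hc : Nat.Coprime (orderOf (𝟙 (Red.bc (Neron.genPt R) U) :
      Red.bc (Neron.genPt R) U ⟶ Red.bc (Neron.genPt R) U)) ℓ :=
      (Nat.Coprime.coprime_dvd_left hord hcop.symm)
    obtain ⟨m, hm⟩ := exists_pow_eq_self_of_coprime hc.symm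
    exact ⟨m, by rw [pow_mul]; exact hm⟩
  -- descend to `U`
  have key : (𝟙 U : U ⟶ U) ^ (ℓ * m) = 𝟙 U := by
    apply Over.pullback_map_injective_of_flat (Neron.genPt R)
    have := map_pow (Functor.homMonoidHom (Over.pullback (Neron.genPt R)) (X := U) (M := U)) (𝟙 U) (ℓ * m)
    simp only [Functor.homMonoidHom_apply] at this
    rw [this, CategoryTheory.Functor.map_id]
    exact hm
  refine ⟨(𝟙 U : U ⟶ U) ^ m, ?_, ?_⟩
  · rw [MonObj.comp_pow, Category.comp_id, ← pow_mul]
    exact key
  · rw [MonObj.comp_pow, Category.comp_id, ← pow_mul, mul_comm]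
    exact key

end Groth.Agent.S17688
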