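import Groth.Statements.S17689
import Mathlib.AlgebraicGeometry.Morphisms.UniversallyInjective
import Mathlib.AlgebraicGeometry.Morphisms.Integral
import Mathlib.FieldTheory.PurelyInseparable.Basic
import Mathlib.Algebra.CharP.Reduced
import Mathlib.RingTheory.DedekindDomain.Dvr

set_option autoImplicit false
universe u
open CategoryTheory AlgebraicGeometry
open Neron

namespace Groth.Agent.S17689

section ringlevel
set_option linter.unusedSectionVars false

variable (R S K L : Type u) [CommRing R] [IsDomain R] [IsDiscreteValuationRing R]
    [CommRing S] [IsDomain S] [IsDiscreteValuationRing S] [Algebra R S] [Module.Finite R S] [FaithfulSMul R S]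
    [Field K] [Field L] [Algebra R K] [IsFractionRing R K] [Algebra S L] [IsFractionRing S L]
    [Algebra K L] [Algebra R L] [IsScalarTower R S L] [IsScalarTower R K L] [IsPurelyInseparable K L]

include K L in
lemma key_pow (q : ℕ) [ExpChar K q] (s : S) : ∃ n : ℕ, ∃ r : R, s ^ q ^ n = algebraMap R S r := by
  obtain ⟨n, k, hk⟩ := IsPurelyInseparable.pow_mem K q (algebraMap S L s)
  have hs : IsIntegral R s := Algebra.IsIntegral.isIntegral s
  have h1 : IsIntegral R ((algebraMap S L s) ^ q ^ n) := (hs.algebraMap).pow _
  rw [← hk] at h1
  have h2 : IsIntegral R k := (isIntegral_algebraMap_iff (algebraMap K L).injective).1 h1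
  obtain ⟨r, hr⟩ := IsIntegrallyClosed.isIntegral_iff.1 h2
  refine ⟨n, r, ?_⟩
  apply IsFractionRing.injective S L
  rw [map_pow, ← hk, ← hr, ← IsScalarTower.algebraMap_apply, ← IsScalarTower.algebraMap_apply]

include K L in
lemma hom_ext_field (F : Type u) [Field F] (φ₁ φ₂ : S →+* F)
    (h : φ₁.comp (algebraMap R S) = φ₂.comp (algebraMap R S)) : φ₁ = φ₂ := by
  obtain ⟨q, hq⟩ := ExpChar.exists K
  ext s
  obtain ⟨n, r, hr⟩ := key_pow R S K L q s
  have h3 : φ₁ s ^ q ^ n = φ₂ s ^ q ^ n := by
    rw [← map_pow, ← map_pow, hr]
    exact congrArg (fun ψ : R →+* F => ψ r) h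
  cases hq with
  | zero => simpa using h3
  | prime hprime =>
    have hqK : (q : K) = 0 := CharP.cast_eq_zero K q
    have hqR : (q : R) = 0 := by
      apply IsFractionRing.injective R K
      rw [map_natCast, hqK, map_zero]
    have hqF : (q : F) = 0 := by
      have := congrArg (φ₁.comp (algebraMap R S)) hqR
      simpa using this
    have : ringChar F = q := CharP.ringChar_of_prime_eq_zero hprime hqF
    have : CharP F q := this ▸ ringChar.charP F
    have : ExpChar F q := ExpChar.prime hprime
    exact iterateFrobenius_inj F q n h3

end ringlevel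

theorem univHomeo_of {X Y : Scheme.{u}} (f : X ⟶ Y) [IsIntegralHom f] [UniversallyInjective f]
    [Surjective f] : FlatMor.IsUnivHomeo f := by
  intro X' Y' i₁ i₂ f' h
  have h1 : IsIntegralHom f' := MorphismProperty.of_isPullback h.flip inferInstance
  have h2 : UniversallyInjective f' := MorphismProperty.of_isPullback h.flip inferInstance
  have h3 : Surjective f' := MorphismProperty.of_isPullback h.flip inferInstance
  show IsHomeomorph f'
  rw [isHomeomorph_iff_continuous_isClosedMap_bijective]
  exact ⟨f'.continuous, f'.isClosedMap, f'.injective, f'.surjective⟩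

/-- Let R ⊆ S be a finite extension of discrete valuation rings (the structure map R → S is injective
and S is a finite R-module) such that the induced extension K ⊆ L of fraction fields is purely
inseparable. Then the morphism Spec S → Spec R is a universal homeomorphism: every base change of it
is a homeomorphism on underlying spaces. (No excellence hypothesis is needed here.) -/
theorem result
    (R S K L : Type u) [CommRing R] [IsDomain R] [IsDiscreteValuationRing R]
    [CommRing S] [IsDomain S] [IsDiscreteValuationRing S] [Algebra R S] [Module.Finite R S] [FaithfulSMul R S]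
    [Field K] [Field L] [Algebra R K] [IsFractionRing R K] [Algebra S L] [IsFractionRing S L]
    [Algebra K L] [Algebra R L] [IsScalarTower R S L] [IsScalarTower R K L] [IsPurelyInseparable K L] :
    FlatMor.IsUnivHomeo (Spec.map (CommRingCat.ofHom (algebraMap R S))) := by
  have hint : (algebraMap R S).IsIntegral := fun s => Algebra.IsIntegral.isIntegral s
  have h1 : IsIntegralHom (Spec.map (CommRingCat.ofHom (algebraMap R S))) :=
    IsIntegralHom.SpecMap_iff.2 hint
  have h3 : Surjective (Spec.map (CommRingCat.ofHom (algebraMap R S))) := by
    rw [surjective_iff]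
    exact hint.comap_surjective (FaithfulSMul.algebraMap_injective R S)
  have h2 : UniversallyInjective (Spec.map (CommRingCat.ofHom (algebraMap R S))) := by
    refine ((tfae_universallyInjective (Spec.map (CommRingCat.ofHom (algebraMap R S)))).out 0 1).2 ?_
    intro F _ g₁ g₂ hg
    obtain ⟨ψ₁, rfl⟩ := Spec.map_surjective g₁
    obtain ⟨ψ₂, rfl⟩ := Spec.map_surjective g₂
    simp only [← Spec.map_comp] at hg
    have hg' := Spec.map_injective hg
    have : ψ₁.hom = ψ₂.hom := by
      apply hom_ext_field R S K L F
      have := congrArg CommRingCat.Hom.hom hg'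
      simpa using this
    congr 1
    ext x
    rw [this]
  exact univHomeo_of _

end Groth.Agent.S17689
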