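import Groth.Statements.S17692
import Groth.Agent.Lib.Helper6.WeilEx

set_option autoImplicit false
universe u
open CategoryTheory CategoryTheory.Limits AlgebraicGeometry
open WeilRes

namespace Groth.Agent.S17692

/-- Suppose f : S' → S is a finite, locally free morphism of schemes (i.e. finite, flat and locally of
finite presentation) that is also a universal homeomorphism, and let X' be an arbitrary scheme over
S' (no condition on finite sets of points lying in a common affine open). Then the Weil restriction
of X' along f is representable by an S-scheme: there exist an S-scheme R and an S'-morphism q from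
the base change R ×_S S' to X' such that, for every S-scheme T, sending an S-morphism g : T → R to
(g ×_S S') followed by q is a bijection onto the S'-morphisms T ×_S S' → X'. (The published
statement writes X' as a scheme over S; the proof treats an S'-scheme, as here.) -/
theorem result
    {S S' : Scheme.{u}} (f : S' ⟶ S) [IsFinite f] [Flat f] [LocallyOfFinitePresentation f]
    (hf : FlatMor.IsUnivHomeo f) (X' : Over S') :
    ∃ (R : Over S) (q : Red.bc f R ⟶ X'), WeilRes.IsWeilRes f X' R q := by
  open Groth.Agent.Lib.Helper6.WeilEx Groth.Agent.Lib.Helper6.MorSOpen CategoryTheory.Limits in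
  have hfl : Mor2.IsFinLocFree f := ⟨inferInstance, inferInstance, inferInstance⟩
  apply exists_isWeilRes f X' hfl
  apply isRepresentable_of_cov f (X'.hom ≫ f) hfl
  intro T φ t
  have hhom : IsHomeomorph (pullback.fst T.hom f) :=
    hf _ _ _ (IsPullback.of_hasPullback T.hom f)
  obtain ⟨y₀, hy₀⟩ := hhom.bijective.2 t
  obtain ⟨_, ⟨U, hU : IsAffineOpen U, rfl⟩, hyU, -⟩ :=
    (X'.left.isBasis_affineOpens).exists_subset_of_mem_open (Set.mem_univ (φ.left y₀)) isOpen_univ
  refine ⟨U, hU, fun y hy => ?_⟩
  have : y = y₀ := hhom.bijective.1 (hy.trans hy₀.symm)
  rw [this]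
  exact hyU

end Groth.Agent.S17692
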