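import Groth.Statements.S17715
import Groth.Agent.Lib.Helper91.Jet
-- import your own Groth.Agent.* helpers here

set_option autoImplicit false
open MoretBailly

namespace Groth.Agent.S17715

/-- Write B(x) = x/(1 - e^(-x)) for the exponential generating series of the Bernoulli numbers (B'_1 =
1/2). For all natural numbers d and p the coefficient of x^3 in B(-dx)^(-1) B(-dpx) B(x)^4
e^((dp-d-3)x), i.e. the case n = 3, s = 1 of the Todd-class integrand, equals
-d(d+2)(p-1)(dp-d-2)/24 = -(d^3+2d^2) p^2/24 + (d^3+3d^2+2d) p/12 - (d^3+4d^2+4d)/24. (The published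
closed form has the same p^2 and p coefficients but constant term -(d^3+2d^2+2d)/24; direct
expansion gives the value stated here, which vanishes at p = 1.) -/
theorem result (d p : ℕ) :
    PowerSeries.coeff 3 ((PowerSeries.rescale (-(d : ℚ)) (bernoulli'PowerSeries ℚ))⁻¹ * PowerSeries.rescale (-((d : ℚ) * p)) (bernoulli'PowerSeries ℚ) * bernoulli'PowerSeries ℚ ^ (4) * PowerSeries.rescale ((d : ℚ) * p - d - 3) (PowerSeries.exp ℚ)) =
      -((d : ℚ) * (d + 2) * (p - 1) * (d * p - d - 2)) / 24 := by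
  have h2 : (d : ℚ) * p - d - 3 = (d : ℚ) * p - d - ((3 : ℕ) : ℚ) - 1 + 1 := by
    push_cast; ring
  rw [h2]
  have key := Lib.Helper91.todd_eq 3 (d : ℚ) (p : ℚ) 1
  rw [show (3 + 1 : ℕ) = 4 from rfl] at key
  rw [key, Lib.Helper91.G]
  rw [show (3 + 1 : ℕ) = 4 from rfl]
  have hj := (((Lib.Helper91.jet_rescale_E1 (d : ℚ)).mul Lib.Helper91.jet_B4).mul
    (Lib.Helper91.jet_rescale_exp (1 - (d : ℚ) - ((3 : ℕ) : ℚ) - 1))).mul
    (Lib.Helper91.jet_rescale_B ((d : ℚ) * p))
  rw [hj.2.2.2]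
  push_cast
  ring

end Groth.Agent.S17715
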