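import Groth.Statements.S17720
import Groth.Agent.Lib.Helper61.MvPSIdeal
import Mathlib

set_option autoImplicit false
universe u
open CAlg

namespace Groth.Agent.S17720

open MvPowerSeries IsLocalRing

section krull

variable {B : Type*} [CommRing B] [IsLocalRing B] [IsNoetherianRing B]

theorem eq_zero_of_mul_eq_C (F₁ F₂ : PowerSeries B) (c : B) (h : F₁ * F₂ = PowerSeries.C c)
    (h0 : PowerSeries.constantCoeff F₁ ∈ maximalIdeal B)
    (h1 : IsUnit (PowerSeries.coeff 1 F₁)) : F₂ = 0 := by
  set c₁ := PowerSeries.constantCoeff F₁ with hc₁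
  have key : ∀ N : ℕ, ∀ j : ℕ, PowerSeries.coeff j F₂ ∈ (Ideal.span {c₁}) ^ N := by
    intro N
    induction N with
    | zero => intro j; simp
    | succ N ih =>
      intro j
      induction j using Nat.strong_induction_on with
      | _ j ihj =>
        have hc : PowerSeries.coeff (j + 1) (F₁ * F₂) = 0 := by
          rw [h, PowerSeries.coeff_C]; simp
        rw [PowerSeries.coeff_mul] at hc
        have hmem : (1, j) ∈ Finset.HasAntidiagonal.antidiagonal (j + 1) := by simp [add_comm]
        rw [← Finset.add_sum_erase _ _ hmem] at hc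
        have hrest : ∑ p ∈ (Finset.HasAntidiagonal.antidiagonal (j + 1)).erase (1, j),
            PowerSeries.coeff p.1 F₁ * PowerSeries.coeff p.2 F₂ ∈ (Ideal.span {c₁}) ^ (N + 1) := by
          apply Ideal.sum_mem
          rintro ⟨i, l⟩ hp
          rw [Finset.mem_erase, Finset.HasAntidiagonal.mem_antidiagonal] at hp
          obtain ⟨hne, hil⟩ := hp
          simp only at hil ⊢
          rcases Nat.lt_or_ge l j with hl | hl
          · exact Ideal.mul_mem_left _ _ (ihj l hl)
          · have hi : i = 0 := by
              by_contra hi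
              have : i = 1 ∧ l = j := by omega
              exact hne (by rw [this.1, this.2])
            subst hi
            have hl' : l = j + 1 := by omega
            subst hl'
            rw [pow_succ']
            apply Ideal.mul_mem_mul
            · rw [PowerSeries.coeff_zero_eq_constantCoeff_apply]
              exact Ideal.mem_span_singleton_self _
            · exact ih _
        have h2 : PowerSeries.coeff 1 F₁ * PowerSeries.coeff j F₂ ∈
            (Ideal.span {c₁}) ^ (N + 1) := by
          have := eq_neg_of_add_eq_zero_left hc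
          rw [this]; exact neg_mem hrest
        obtain ⟨v, hv⟩ := h1.exists_left_inv
        have h3 : PowerSeries.coeff j F₂ =
            v * (PowerSeries.coeff 1 F₁ * PowerSeries.coeff j F₂) := by
          rw [← mul_assoc, hv, one_mul]
        rw [h3]; exact Ideal.mul_mem_left _ _ h2
  ext j
  have hj : PowerSeries.coeff j F₂ ∈ (⨅ N, (Ideal.span {c₁}) ^ N : Ideal B) := by
    rw [Ideal.mem_iInf]; exact fun N => key N j
  rw [Ideal.iInf_pow_eq_bot_of_isLocalRing] at hj
  · simpa using hj
  · intro htop
    rw [Ideal.span_singleton_eq_top] at htop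
    exact (IsLocalRing.mem_maximalIdeal _).mp h0 htop

end krull

section main

variable (A : Type u) [CommRing A] [IsLocalRing A] [IsNoetherianRing A]

/-- the ideal of power series whose constant and linear coefficients are non-units. -/
def lowIdeal (B : Type*) [CommRing B] [IsLocalRing B] : Ideal (PowerSeries B) where
  carrier := {F | PowerSeries.coeff 0 F ∈ maximalIdeal B ∧ PowerSeries.coeff 1 F ∈ maximalIdeal B}
  add_mem' := by
    rintro F G ⟨hF0, hF1⟩ ⟨hG0, hG1⟩
    exact ⟨by rw [map_add]; exact add_mem hF0 hG0, by rw [map_add]; exact add_mem hF1 hG1⟩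
  zero_mem' := by simp
  smul_mem' := by
    rintro c F ⟨hF0, hF1⟩
    refine ⟨?_, ?_⟩
    · rw [smul_eq_mul, PowerSeries.coeff_mul]
      simp only [Finset.Nat.antidiagonal_zero, Finset.sum_singleton]
      exact Ideal.mul_mem_left _ _ hF0
    · rw [smul_eq_mul, PowerSeries.coeff_mul]
      rw [show Finset.HasAntidiagonal.antidiagonal 1 = {(0, 1), (1, 0)} by decide]
      rw [Finset.sum_pair (by decide)]
      exact add_mem (Ideal.mul_mem_left _ _ hF1) (Ideal.mul_mem_left _ _ hF0)

theorem mem_span_of_surjective (α β : A) (hβ : β ∈ maximalIdeal A)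
    (φ : (MvPowerSeries (Fin 2) A ⧸ Ideal.span {(X 0 * X 1 - C α : MvPowerSeries (Fin 2) A)}) →ₐ[A]
      (MvPowerSeries (Fin 2) A ⧸ Ideal.span {(X 0 * X 1 - C β : MvPowerSeries (Fin 2) A)}))
    (hφ : Function.Surjective φ) : α ∈ Ideal.span {β} := by
  classical
  let A' := A ⧸ Ideal.span {β}
  haveI : Nontrivial A' := Ideal.Quotient.nontrivial_iff.mpr (by
    rw [Ne, Ideal.span_singleton_eq_top]; exact (IsLocalRing.mem_maximalIdeal _).mp hβ)
  haveI : IsLocalRing A' :=
    IsLocalRing.of_surjective' (Ideal.Quotient.mk (Ideal.span {β})) Ideal.Quotient.mk_surjective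
  haveI : IsNoetherianRing A' := Ideal.Quotient.isNoetherianRing _
  let a : Fin 2 → PowerSeries A' := ![PowerSeries.X, 0]
  have ha : HasSubst a := hasSubst_of_constantCoeff_zero (by
    intro s; fin_cases s
    · exact PowerSeries.constantCoeff_X
    · exact map_zero _)
  let θ : MvPowerSeries (Fin 2) A →ₐ[A] PowerSeries A' := substAlgHom ha
  have hθ0 : θ (X 0) = PowerSeries.X := substAlgHom_X ha 0
  have hθ1 : θ (X 1) = 0 := substAlgHom_X ha 1
  have hC : ∀ (ρ : MvPowerSeries (Fin 2) A →ₐ[A] PowerSeries A') (r : A),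
      ρ (C r) = PowerSeries.C (Ideal.Quotient.mk (Ideal.span {β}) r) := by
    intro ρ r
    have : (C r : MvPowerSeries (Fin 2) A) = algebraMap A _ r := rfl
    rw [this, ρ.commutes, PowerSeries.algebraMap_apply]
    rfl
  have hker : ∀ x ∈ Ideal.span {(X 0 * X 1 - C β : MvPowerSeries (Fin 2) A)}, θ x = 0 := by
    intro x hx
    obtain ⟨y, rfl⟩ := Ideal.mem_span_singleton'.mp hx
    rw [map_mul, map_sub, map_mul, hθ0, hθ1, hC θ β, mul_zero, zero_sub]
    have : Ideal.Quotient.mk (Ideal.span {β}) β = 0 :=
      Ideal.Quotient.eq_zero_iff_mem.mpr (Ideal.mem_span_singleton_self β)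
    rw [this, map_zero, neg_zero, mul_zero]
  let θ' : (MvPowerSeries (Fin 2) A ⧸ Ideal.span {(X 0 * X 1 - C β : MvPowerSeries (Fin 2) A)})
      →ₐ[A] PowerSeries A' := Ideal.Quotient.liftₐ _ θ hker
  let ρ : MvPowerSeries (Fin 2) A →ₐ[A] PowerSeries A' :=
    (θ'.comp φ).comp (Ideal.Quotient.mkₐ A _)
  have hρ : ∀ f, ρ f = θ' (φ (Ideal.Quotient.mk _ f)) := fun f => rfl
  have hF : ρ (X 0) * ρ (X 1) = PowerSeries.C (Ideal.Quotient.mk (Ideal.span {β}) α) := by
    rw [← map_mul, ← hC ρ α, hρ, hρ]
    congr 2
    exact Ideal.Quotient.eq.mpr (Ideal.mem_span_singleton_self _)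
  -- Claim 1: the constant coefficients are non-units
  have hcl1 : ∀ i, PowerSeries.constantCoeff (ρ (X i)) ∈ maximalIdeal A' := by
    intro i
    by_contra hni
    have hu : IsUnit (PowerSeries.constantCoeff (ρ (X i))) :=
      IsLocalRing.notMem_maximalIdeal.mp hni
    obtain ⟨c', hc'⟩ := hu.exists_right_inv
    obtain ⟨r, hr⟩ := Ideal.Quotient.mk_surjective (I := Ideal.span {β}) (-c')
    have hu1 : IsUnit (1 + X i * C r : MvPowerSeries (Fin 2) A) := by
      rw [MvPowerSeries.isUnit_iff_constantCoeff]
      simp
    have hu2 : IsUnit (PowerSeries.constantCoeff (ρ (1 + X i * C r))) :=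
      (hu1.map ρ).map PowerSeries.constantCoeff
    rw [map_add, map_one, map_mul, hC ρ r, map_add, map_one, map_mul,
      PowerSeries.constantCoeff_C, hr, mul_neg, hc', add_neg_cancel] at hu2
    exact not_isUnit_zero hu2
  -- Claim 2: one of the linear coefficients is a unit
  have hcl2 : IsUnit (PowerSeries.coeff 1 (ρ (X 0))) ∨ IsUnit (PowerSeries.coeff 1 (ρ (X 1))) := by
    by_contra hcon
    rw [not_or] at hcon
    have hmem : ∀ i, ρ (X i) ∈ lowIdeal A' := by
      intro i
      refine ⟨?_, ?_⟩
      · rw [PowerSeries.coeff_zero_eq_constantCoeff_apply]; exact hcl1 i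
      · fin_cases i
        · exact (IsLocalRing.mem_maximalIdeal _).mpr hcon.1
        · exact (IsLocalRing.mem_maximalIdeal _).mpr hcon.2
    obtain ⟨r, hr⟩ := hφ (Ideal.Quotient.mk _ (X 0))
    obtain ⟨f, rfl⟩ := Ideal.Quotient.mk_surjective r
    have hρf : ρ f = PowerSeries.X := by
      rw [hρ, hr]
      exact hθ0
    have h1 : f - C (constantCoeff f) ∈
        Ideal.span (Set.range (X : Fin 2 → MvPowerSeries (Fin 2) A)) := by
      have := Groth.Agent.Lib.Helper61.MvPSIdeal.mem_pow_span_X_of_coeff_eq_zero 1
        (f - C (constantCoeff f)) (by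
          intro e he
          have he0 : e = 0 := by
            rw [Nat.lt_one_iff] at he
            exact (Finsupp.degree_eq_zero_iff e).mp he
          subst he0
          simp)
      rwa [pow_one] at this
    have h2 : ρ (f - C (constantCoeff f)) ∈ lowIdeal A' := by
      have hle : Ideal.span (Set.range (X : Fin 2 → MvPowerSeries (Fin 2) A)) ≤
          (lowIdeal A').comap ρ := by
        rw [Ideal.span_le]
        rintro _ ⟨i, rfl⟩
        exact hmem i
      exact hle h1
    rw [map_sub, hρf, hC ρ] at h2
    have h3 := h2.2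
    rw [map_sub, PowerSeries.coeff_one_X, PowerSeries.coeff_C] at h3
    simp only [one_ne_zero, if_false, sub_zero] at h3
    exact (IsLocalRing.mem_maximalIdeal _).mp h3 isUnit_one
  have hzero : Ideal.Quotient.mk (Ideal.span {β}) α = 0 := by
    rcases hcl2 with h | h
    · have := eq_zero_of_mul_eq_C _ _ _ hF (hcl1 0) h
      rw [this, mul_zero] at hF
      exact PowerSeries.C_injective (by rw [← hF, map_zero])
    · rw [mul_comm] at hF
      have := eq_zero_of_mul_eq_C _ _ _ hF (hcl1 1) h
      rw [this, mul_zero] at hF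
      exact PowerSeries.C_injective (by rw [← hF, map_zero])
  exact Ideal.Quotient.eq_zero_iff_mem.mp hzero

end main

end Groth.Agent.S17720

namespace Groth.Agent.S17720

open MvPowerSeries IsLocalRing in
/-- Let A be a Noetherian local ring and α, β two elements of its maximal ideal. If the quotient of the
power series ring in two variables over A by xy − α is isomorphic, as an A-algebra, to the quotient
by xy − β, then αA = βA. (The published statement allows any local ring A; it is taken Noetherian
here, the case in which an algebra isomorphism between these complete local rings is continuous for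
their adic topologies.) -/
theorem result
    (A : Type u) [CommRing A] [IsLocalRing A] [IsNoetherianRing A]
    (α β : A) (hα : α ∈ maximalIdeal A) (hβ : β ∈ maximalIdeal A)
    (φ : (MvPowerSeries (Fin 2) A ⧸ Ideal.span {(X 0 * X 1 - C α : MvPowerSeries (Fin 2) A)}) ≃ₐ[A] (MvPowerSeries (Fin 2) A ⧸ Ideal.span {(X 0 * X 1 - C β : MvPowerSeries (Fin 2) A)})) :
    Ideal.span {α} = Ideal.span {β} := by
  apply le_antisymm
  · rw [Ideal.span_le, Set.singleton_subset_iff]
    exact mem_span_of_surjective A α β hβ φ.toAlgHom φ.surjective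
  · rw [Ideal.span_le, Set.singleton_subset_iff]
    exact mem_span_of_surjective A β α hα φ.symm.toAlgHom φ.symm.surjective

end Groth.Agent.S17720
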