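import Groth.Statements.S17721
import Mathlib
-- import your own Groth.Agent.* helpers here

set_option autoImplicit false
universe u
open CAlg

namespace Groth.Agent.S17721

section aux

open PowerSeries

theorem dvd_coeff_of_map_eq_zero {R : Type u} [CommRing R] (π : R) (h : PowerSeries R)
    (hz : PowerSeries.map (Ideal.Quotient.mk (Ideal.span {π})) h = 0) (j : ℕ) : π ∣ coeff j h := by
  have := congrArg (coeff j) hz
  rw [coeff_map, map_zero, Ideal.Quotient.eq_zero_iff_mem, Ideal.mem_span_singleton] at this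
  exact this

theorem exists_eq_C_mul {R : Type u} [CommRing R] (π : R) (h : PowerSeries R)
    (hdvd : ∀ j, π ∣ coeff j h) : ∃ h₁ : PowerSeries R, h = C π * h₁ := by
  choose g hg using hdvd
  refine ⟨PowerSeries.mk g, ?_⟩
  ext j
  rw [coeff_C_mul, coeff_mk, hg j]

theorem core {R : Type u} [CommRing R] [IsDomain R] (π : R) (hπ : Prime π)
    (F' : PowerSeries R) (i₀ : ℕ) (hi₀ : ¬ π ∣ coeff i₀ F') (a' : R) (ha' : π ∣ a') :
    ∀ e : ℕ, ∀ c : R, ¬ π ^ (e + 1) ∣ c → ∀ h : PowerSeries R, coeff 0 h = c →
      h * F' = C (c * a') → False := by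
  haveI : (Ideal.span {π}).IsPrime := (Ideal.span_singleton_prime hπ.ne_zero).mpr hπ
  have hF' : PowerSeries.map (Ideal.Quotient.mk (Ideal.span {π})) F' ≠ 0 := by
    intro hz
    exact hi₀ (dvd_coeff_of_map_eq_zero π F' hz i₀)
  have hCπ : (C π : PowerSeries R) ≠ 0 := by
    intro hz
    have := congrArg (coeff 0) hz
    simp at this
    exact hπ.ne_zero this
  intro e
  induction e with
  | zero =>
    intro c hc h h0 hmul
    have hmap := congrArg (PowerSeries.map (Ideal.Quotient.mk (Ideal.span {π}))) hmul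
    rw [map_mul, map_C] at hmap
    have hzero : (Ideal.Quotient.mk (Ideal.span {π})) (c * a') = 0 := by
      rw [Ideal.Quotient.eq_zero_iff_mem, Ideal.mem_span_singleton]
      exact Dvd.dvd.mul_left ha' c
    rw [hzero, map_zero] at hmap
    rcases mul_eq_zero.mp hmap with hh | hh
    · have := dvd_coeff_of_map_eq_zero π h hh 0
      rw [h0] at this
      apply hc
      simpa using this
    · exact hF' hh
  | succ e ih =>
    intro c hc h h0 hmul
    have hmap := congrArg (PowerSeries.map (Ideal.Quotient.mk (Ideal.span {π}))) hmul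
    rw [map_mul, map_C] at hmap
    have hzero : (Ideal.Quotient.mk (Ideal.span {π})) (c * a') = 0 := by
      rw [Ideal.Quotient.eq_zero_iff_mem, Ideal.mem_span_singleton]
      exact Dvd.dvd.mul_left ha' c
    rw [hzero, map_zero] at hmap
    rcases mul_eq_zero.mp hmap with hh | hh
    · obtain ⟨h₁, rfl⟩ := exists_eq_C_mul π h (dvd_coeff_of_map_eq_zero π h hh)
      rw [coeff_C_mul] at h0
      set c₁ := coeff 0 h₁ with hc₁
      have hc1 : ¬ π ^ (e + 1) ∣ c₁ := by
        intro hd
        apply hc
        rw [← h0, pow_succ']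
        exact mul_dvd_mul_left π hd
      apply ih c₁ hc1 h₁ rfl
      apply mul_left_cancel₀ hCπ
      rw [← mul_assoc, hmul, ← h0, ← map_mul]
      ring_nf
    · exact hF' hh



open PowerSeries
open scoped Polynomial

theorem not_pow_succ_dvd {R : Type u} [CommRing R] [IsDomain R] (π : R) (hπ : Prime π) (u : Rˣ)
    (n : ℕ) : ¬ π ^ (n + 1) ∣ (u : R) * π ^ n := by
  intro hd
  rw [Units.dvd_mul_left] at hd
  have h1 : π ^ n * π ∣ π ^ n * 1 := by
    rw [← pow_succ, mul_one]; exact hd
  have h2 := (mul_dvd_mul_iff_left (pow_ne_zero n hπ.ne_zero)).mp h1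
  exact hπ.not_isUnit (isUnit_of_dvd_one h2)

theorem main_aux (R : Type u) [CommRing R] [IsDomain R] [IsDiscreteValuationRing R]
    (K : Type u) [Field K] [Algebra R K] [IsFractionRing R K]
    (f : R[X]) (h0 : f.coeff 0 ≠ 0) (hslope : ∃ i : ℕ, 0 < i ∧ ¬ (f.coeff 0 ∣ f.coeff i))
    (b : PowerSeries K)
    (hb : b * ((f.map (algebraMap R K) : K[X]) : PowerSeries K) =
      PowerSeries.C (algebraMap R K (f.coeff 0))) :
    ∀ c : R, c ≠ 0 → ∃ j : ℕ,
      algebraMap R K c * PowerSeries.coeff j b ∉ (algebraMap R K).range := by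
  classical
  intro c hc
  by_contra hcon
  push Not at hcon
  obtain ⟨π, hπ⟩ := IsDiscreteValuationRing.exists_prime R
  have hirr := hπ.irreducible
  obtain ⟨i, _, hi⟩ := hslope
  have hai : f.coeff i ≠ 0 := fun hz => hi (hz ▸ dvd_zero _)
  obtain ⟨n₀, u₀, h₀⟩ := IsDiscreteValuationRing.eq_unit_mul_pow_irreducible h0 hirr
  obtain ⟨nᵢ, uᵢ, hᵢ⟩ := IsDiscreteValuationRing.eq_unit_mul_pow_irreducible hai hirr
  have hlt : nᵢ < n₀ := by
    by_contra hge
    push Not at hge
    apply hi
    rw [h₀, hᵢ, Units.mul_left_dvd, Units.dvd_mul_left]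
    exact pow_dvd_pow π hge
  have hnd : ¬ π ^ (nᵢ + 1) ∣ f.coeff i := by
    rw [hᵢ]; exact not_pow_succ_dvd π hπ uᵢ nᵢ
  have hex : ∃ m, ∃ j, ¬ π ^ (m + 1) ∣ f.coeff j := ⟨nᵢ, i, hnd⟩
  obtain ⟨i₀, hi₀⟩ := Nat.find_spec hex
  have hm_le : Nat.find hex ≤ nᵢ := Nat.find_min' hex ⟨i, hnd⟩
  have hall : ∀ j, π ^ (Nat.find hex) ∣ f.coeff j := by
    intro j
    rcases Nat.eq_zero_or_pos (Nat.find hex) with hm0 | hmpos
    · rw [hm0]; simp
    · have hmin := Nat.find_min hex (m := Nat.find hex - 1) (by omega)
      push Not at hmin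
      have := hmin j
      rwa [Nat.sub_add_cancel hmpos] at this
  generalize Nat.find hex = m at *
  choose a' ha' using hall
  set F' : PowerSeries R := PowerSeries.mk a' with hF'
  have hfF : (f : PowerSeries R) = C (π ^ m) * F' := by
    ext j
    rw [Polynomial.coeff_coe, coeff_C_mul, coeff_mk, ha' j]
  have hi₀' : ¬ π ∣ coeff i₀ F' := by
    rw [coeff_mk]
    intro hd
    apply hi₀
    rw [ha' i₀, pow_succ]
    exact mul_dvd_mul_left _ hd
  have ha0' : π ∣ a' 0 := by
    have h1 : π ^ (m + 1) ∣ f.coeff 0 := by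
      rw [h₀]
      apply Dvd.dvd.mul_left
      exact pow_dvd_pow π (by omega)
    rw [ha' 0, pow_succ] at h1
    exact (mul_dvd_mul_iff_left (pow_ne_zero _ hπ.ne_zero)).mp h1
  choose g hg using hcon
  set h : PowerSeries R := PowerSeries.mk g with hh
  have hinj : Function.Injective (algebraMap R K) := IsFractionRing.injective R K
  have hmaph : PowerSeries.map (algebraMap R K) h = C (algebraMap R K c) * b := by
    ext j
    rw [coeff_map, coeff_mk, coeff_C_mul]
    exact hg j
  have hmul : h * (f : PowerSeries R) = C (c * f.coeff 0) := by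
    apply PowerSeries.map_injective _ hinj
    rw [map_mul, hmaph, ← Polynomial.polynomial_map_coe, mul_assoc, hb, map_C,
      map_mul (algebraMap R K), map_mul C]
  have hb0 : coeff 0 b = 1 := by
    have h1 := congrArg (coeff 0) hb
    rw [coeff_zero_eq_constantCoeff_apply, map_mul, ← coeff_zero_eq_constantCoeff_apply,
      ← coeff_zero_eq_constantCoeff_apply, Polynomial.coeff_coe, Polynomial.coeff_map,
      coeff_zero_C] at h1
    have hne : algebraMap R K (f.coeff 0) ≠ 0 := by
      intro hz
      exact h0 (hinj (by rw [hz, map_zero]))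
    exact mul_right_cancel₀ hne (by rw [h1, one_mul])
  have hh0 : coeff 0 h = c := by
    apply hinj
    rw [coeff_mk, hg 0, hb0, mul_one]
  have hmul' : h * F' = C (c * a' 0) := by
    have hne : (C (π ^ m) : PowerSeries R) ≠ 0 := by
      intro hz
      have := congrArg (coeff 0) hz
      rw [coeff_zero_C, map_zero] at this
      exact pow_ne_zero m hπ.ne_zero this
    apply mul_left_cancel₀ hne
    rw [hfF] at hmul
    calc C (π ^ m) * (h * F') = h * (C (π ^ m) * F') := by ring
      _ = C (c * f.coeff 0) := hmul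
      _ = C (π ^ m) * C (c * a' 0) := by
        rw [← map_mul, ha' 0]
        congr 1
        ring
  obtain ⟨e, u, hcu⟩ := IsDiscreteValuationRing.eq_unit_mul_pow_irreducible hc hirr
  have hce : ¬ π ^ (e + 1) ∣ c := by
    rw [hcu]; exact not_pow_succ_dvd π hπ u e
  exact core π hπ F' i₀ hi₀' (a' 0) ha0' e c hce h hh0 hmul'


end aux


open Polynomial IsLocalRing in
/-- Let R be a complete discrete valuation ring with fraction field K, and f a polynomial over R with
non-zero constant term a₀ such that a₀ does not divide some coefficient of f of positive degree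
(equivalently, the Newton polygon of f has a side of negative slope). Let b be the power series over
K with b · f = a₀, the expansion of the geometric series in 1 − f/a₀. Then the valuations of the
coefficients b_j are not bounded below: for every non-zero c in R there is an index j with c · b_j
outside R. -/
theorem result
    (R : Type u) [CommRing R] [IsDomain R] [IsDiscreteValuationRing R]
    [IsAdicComplete (maximalIdeal R) R]
    (K : Type u) [Field K] [Algebra R K] [IsFractionRing R K]
    (f : R[X]) (h0 : f.coeff 0 ≠ 0) (hslope : ∃ i : ℕ, 0 < i ∧ ¬ (f.coeff 0 ∣ f.coeff i))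
    (b : PowerSeries K)
    (hb : b * ((f.map (algebraMap R K) : K[X]) : PowerSeries K) = PowerSeries.C (algebraMap R K (f.coeff 0))) :
    ∀ c : R, c ≠ 0 → ∃ j : ℕ, algebraMap R K c * PowerSeries.coeff j b ∉ (algebraMap R K).range := by
  exact main_aux R K f h0 hslope b hb

end Groth.Agent.S17721
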