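import Groth.Statements.S17722
import Mathlib
-- import your own Groth.Agent.* helpers here

set_option autoImplicit false
universe u
open CAlg

namespace Groth.Agent.S17722

open TensorProduct in
theorem flat_of_map_principal {R S : Type u} [CommRing R] [CommRing S] [IsDomain S]
    [Algebra R S] [Module.FaithfullyFlat R S] (I : Ideal R)
    (hI : (I.map (algebraMap R S)).IsPrincipal) : Module.Flat R I := by
  let f : S ⊗[R] I →ₗ[S] S :=
    (AlgebraTensorModule.rid _ _ _).toLinearMap ∘ₗ AlgebraTensorModule.lTensor S S I.subtype
  have hf : Function.Injective f := by simp [f]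
  have hrange : I.map (algebraMap R S) = LinearMap.range f := by
    refine le_antisymm ?_ ?_
    · rw [Ideal.map_le_iff_le_comap]
      intro x hx
      use 1 ⊗ₜ ⟨x, hx⟩
      simp [f, Algebra.smul_def]
    · rintro - ⟨x, rfl⟩
      induction x with
      | zero => simp
      | add _ _ _ _ => simp_all [Ideal.add_mem]
      | tmul s x =>
        have : f (s ⊗ₜ[R] x) = s • f (1 ⊗ₜ x) := by simp [f]
        rw [this]
        apply Ideal.mul_mem_left
        simpa [f, Algebra.smul_def] using Ideal.mem_map_of_mem _ x.2
  let e : S ⊗[R] I ≃ₗ[S] I.map (algebraMap R S) :=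
    .ofInjective _ hf ≪≫ₗ .ofEq _ _ hrange.symm
  have hflat : Module.Flat S (I.map (algebraMap R S)) := by
    obtain ⟨x, hx⟩ := hI.principal
    by_cases hx0 : x = 0
    · have hbot : I.map (algebraMap R S) = ⊥ := by
        rw [hx, hx0]; simp
      rw [hbot]
      infer_instance
    · have e2 : S ≃ₗ[S] (I.map (algebraMap R S)) := by
        rw [hx]
        exact LinearEquiv.toSpanNonzeroSingleton S S x hx0
      exact Module.Flat.of_linearEquiv e2.symm
  have : Module.Flat S (S ⊗[R] I) := Module.Flat.of_linearEquiv e
  exact Module.Flat.of_flat_tensorProduct R I S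


/-- Let R → R' be a faithfully flat ring map between Noetherian integrally closed local domains, and p
an ideal of R. If the ideal pR' generated by the image of p is principal, then p is principal. (The
second assertion of the published lemma, descent of unique factorization, is not part of this row.) -/
theorem result
    (R R' : Type u) [CommRing R] [CommRing R'] [IsDomain R] [IsDomain R']
    [IsNoetherianRing R] [IsNoetherianRing R'] [IsLocalRing R] [IsLocalRing R']
    [IsIntegrallyClosed R] [IsIntegrallyClosed R']
    [Algebra R R'] [Module.FaithfullyFlat R R']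
    (p : Ideal R) (hp : (p.map (algebraMap R R')).IsPrincipal) :
    p.IsPrincipal := by
  have hflat : Module.Flat R p := flat_of_map_principal p hp
  have hfin : Module.Finite R p := Module.Finite.of_fg (IsNoetherian.noetherian p)
  have hfree : Module.Free R p := Module.free_of_flat_of_isLocalRing
  rw [← Submodule.rank_le_one_iff_isPrincipal]
  calc Module.rank R p ≤ Module.rank R R := Submodule.rank_le p
    _ = 1 := Module.rank_self R

end Groth.Agent.S17722
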