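import Groth.Statements.S17723
import Mathlib.Data.Nat.Totient
import Mathlib.FieldTheory.Finite.Basic
import Mathlib.Algebra.Order.BigOperators.Ring.Finset
import Mathlib.Tactic.Ring
import Mathlib.Tactic.Linarith

set_option autoImplicit false
universe u
open LabGraph

namespace Groth.Agent.S17723

section aux

variable {V E : Type u} [Fintype V] [Fintype E] [DecidableEq V] [DecidableEq E]

/-- elementary Cartier functions -/
def Elem (ends : E → V × V) (l : E → ℕ) : Set (V → ℤ) :=
  {g : V → ℤ | ∃ n : ℕ, 0 < n ∧ (∀ v, (n : ℤ) ∣ g v) ∧
      ∀ e, ¬ (l e ∣ n) → g (ends e).1 = g (ends e).2}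

theorem elem_isCartier (ends : E → V × V) (l : E → ℕ) (g : V → ℤ) (hg : g ∈ Elem ends l) :
    LabGraph.IsCartier ends l g := by
  obtain ⟨n, _, hdiv, hagree⟩ := hg
  intro e
  by_cases h : l e ∣ n
  · have h1 : (l e : ℤ) ∣ (n : ℤ) := Int.natCast_dvd_natCast.mpr h
    exact dvd_sub (h1.trans (hdiv _)) (h1.trans (hdiv _))
  · rw [hagree e h, sub_self]
    exact dvd_zero _

theorem smul_elem (ends : E → V × V) (l l' : E → ℕ) (p : ℕ) (hp : 0 < p)
    (hl' : ∀ e, (p ∣ l e ∧ l e = p * l' e) ∨ (¬ p ∣ l e ∧ l' e = l e))
    (g : V → ℤ) (hg : g ∈ Elem ends l') : (p : ℤ) • g ∈ Elem ends l := by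
  obtain ⟨n, hn, hdiv, hagree⟩ := hg
  refine ⟨p * n, Nat.mul_pos hp hn, ?_, ?_⟩
  · intro v
    simp only [Pi.smul_apply, smul_eq_mul]
    push_cast
    exact mul_dvd_mul_left _ (hdiv v)
  · intro e he
    simp only [Pi.smul_apply, smul_eq_mul]
    congr 1
    apply hagree
    intro hdvd
    apply he
    rcases hl' e with ⟨_, h2⟩ | ⟨_, h2⟩
    · rw [h2]; exact Nat.mul_dvd_mul_left p hdvd
    · rw [← h2]; exact hdvd.trans (Nat.dvd_mul_left n p)

theorem main (ends : E → V × V) : ∀ (N : ℕ) (l : E → ℕ), (∀ e, 0 < l e) → ∏ e, l e = N →
    ∀ f : V → ℤ, LabGraph.IsCartier ends l f → f ∈ Submodule.span ℤ (Elem ends l) := by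
  intro N
  induction N using Nat.strong_induction_on with
  | _ N ih =>
    intro l hl hN f hf
    by_cases hall : ∀ e, l e = 1
    · apply Submodule.subset_span
      refine ⟨1, Nat.one_pos, fun v => by simp, fun e he => ?_⟩
      exact absurd (by rw [hall e]) he
    · simp only [not_forall] at hall
      obtain ⟨e₀, he₀⟩ := hall
      set p := (l e₀).minFac with hp_def
      have hp : p.Prime := Nat.minFac_prime he₀
      have hpe₀ : p ∣ l e₀ := Nat.minFac_dvd _
      have hp0 : 0 < p := hp.pos
      let l' : E → ℕ := fun e => if p ∣ l e then l e / p else l e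
      have hl'spec : ∀ e, (p ∣ l e ∧ l e = p * l' e) ∨ (¬ p ∣ l e ∧ l' e = l e) := by
        intro e
        by_cases h : p ∣ l e
        · left
          refine ⟨h, ?_⟩
          simp only [l', if_pos h]
          exact (Nat.mul_div_cancel' h).symm
        · right
          exact ⟨h, by simp only [l', if_neg h]⟩
      have hl'pos : ∀ e, 0 < l' e := by
        intro e
        rcases hl'spec e with ⟨_, h2⟩ | ⟨_, h2⟩
        · have := hl e
          rw [h2] at this
          exact Nat.pos_of_mul_pos_left (by rwa [Nat.mul_comm] at this) |> fun _ =>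
            Nat.pos_of_ne_zero (by rintro h0; rw [h0, Nat.mul_zero] at this; exact lt_irrefl _ this)
        · rw [h2]; exact hl e
      have hl'le : ∀ e, l' e ≤ l e := by
        intro e
        rcases hl'spec e with ⟨_, h2⟩ | ⟨_, h2⟩
        · rw [h2]; exact Nat.le_mul_of_pos_left _ hp0
        · exact h2.le
      have hlt : ∏ e, l' e < N := by
        rw [← hN]
        apply Finset.prod_lt_prod (fun e _ => hl'pos e) (fun e _ => hl'le e)
        refine ⟨e₀, Finset.mem_univ _, ?_⟩
        rcases hl'spec e₀ with ⟨_, h2⟩ | ⟨h1, _⟩
        · have := hl'pos e₀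
          rw [h2]
          have : 1 < p := hp.one_lt
          nlinarith
        · exact absurd hpe₀ h1
      -- the modulus `m`
      let M : ℕ := ∏ e, if p ∣ l e then 1 else l e
      have hMcop : Nat.Coprime M p := by
        apply Nat.Coprime.prod_left
        intro e _
        by_cases h : p ∣ l e
        · simp [h]
        · simp only [if_neg h]
          exact ((Nat.Prime.coprime_iff_not_dvd hp).mpr h).symm
      have hMpos : 0 < M := by
        apply Finset.prod_pos
        intro e _
        by_cases h : p ∣ l e
        · simp [h]
        · simp only [if_neg h]; exact hl e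
      let m : ℕ := M ^ Nat.totient p
      have hmpos : 0 < m := Nat.pow_pos hMpos
      have hMm : M ∣ m := dvd_pow_self M (Nat.totient_pos.mpr hp0).ne'
      have hm1 : (p : ℤ) ∣ (m : ℤ) - 1 := by
        have h1 : m ≡ 1 [MOD p] := Nat.ModEq.pow_totient hMcop
        have h2 := (Nat.modEq_iff_dvd.mp h1.symm)
        simpa using h2
      have hlm : ∀ e, ¬ p ∣ l e → l e ∣ m := by
        intro e h
        refine Dvd.dvd.trans ?_ hMm
        have : l e = (fun e => if p ∣ l e then 1 else l e) e := by simp [h]
        rw [this]
        exact Finset.dvd_prod_of_mem _ (Finset.mem_univ e)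
      have hpm : ¬ p ∣ m := by
        intro h
        have h1 : (p : ℤ) ∣ (m : ℤ) := Int.natCast_dvd_natCast.mpr h
        have h2 : (p : ℤ) ∣ 1 := by
          have := dvd_sub h1 hm1
          simpa using this
        have h3 : p ∣ 1 := by exact_mod_cast h2
        exact hp.one_lt.ne' (Nat.dvd_one.mp h3)
      -- the equivalence relation
      let R : V → V → Prop := fun v w => ∃ e, p ∣ l e ∧ (ends e).1 = v ∧ (ends e).2 = w
      let st : Setoid V := Relation.EqvGen.setoid R
      let rep : V → V := fun v => (Quotient.mk st v).out
      have hrep_edge : ∀ e, p ∣ l e → rep (ends e).1 = rep (ends e).2 := by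
        intro e he
        have : Quotient.mk st (ends e).1 = Quotient.mk st (ends e).2 :=
          Quotient.sound (Relation.EqvGen.rel _ _ ⟨e, he, rfl, rfl⟩)
        simp only [rep, this]
      have hcong : ∀ a b, Relation.EqvGen R a b → (p : ℤ) ∣ f a - f b := by
        intro a b hab
        induction hab with
        | rel a b h =>
          obtain ⟨e, he, h1, h2⟩ := h
          have h3 := hf e
          rw [h1, h2] at h3
          exact (Int.natCast_dvd_natCast.mpr he).trans h3
        | refl a => simp
        | symm a b _ ih' =>
          have : f b - f a = -(f a - f b) := by ring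
          rw [this]; exact (dvd_neg).mpr ih'
        | trans a b c _ _ ih1 ih2 =>
          have : f a - f c = (f a - f b) + (f b - f c) := by ring
          rw [this]; exact dvd_add ih1 ih2
      have hrep_cong : ∀ v, (p : ℤ) ∣ f v - f (rep v) := by
        intro v
        apply hcong
        have : Quotient.mk st (rep v) = Quotient.mk st v := Quotient.out_eq _
        exact Relation.EqvGen.symm _ _ (Quotient.exact this)
      let h0 : V → ℤ := fun v => (m : ℤ) * f (rep v)
      have hh0 : h0 ∈ Elem ends l := by
        refine ⟨m, hmpos, fun v => Dvd.intro _ rfl, fun e he => ?_⟩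
        have hpe : p ∣ l e := by
          by_contra h
          exact he (hlm e h)
        simp only [h0, hrep_edge e hpe]
      have hdiv : ∀ v, (p : ℤ) ∣ f v - h0 v := by
        intro v
        have : f v - h0 v = (f v - f (rep v)) - ((m : ℤ) - 1) * f (rep v) := by
          simp only [h0]; ring
        rw [this]
        exact dvd_sub (hrep_cong v) (Dvd.dvd.mul_right hm1 _)
      let f1 : V → ℤ := fun v => (f v - h0 v) / (p : ℤ)
      have hf1 : ∀ v, f v - h0 v = (p : ℤ) * f1 v := by
        intro v
        exact (Int.mul_ediv_cancel' (hdiv v)).symm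
      have hf1cart : LabGraph.IsCartier ends l' f1 := by
        intro e
        have h1 : (l e : ℤ) ∣ (p : ℤ) * (f1 (ends e).1 - f1 (ends e).2) := by
          have h2 := dvd_sub (hf e) (elem_isCartier ends l h0 hh0 e)
          have : (p : ℤ) * (f1 (ends e).1 - f1 (ends e).2) =
              f (ends e).1 - f (ends e).2 - (h0 (ends e).1 - h0 (ends e).2) := by
            rw [mul_sub, ← hf1, ← hf1]; ring
          rw [this]; exact h2
        rcases hl'spec e with ⟨_, h2⟩ | ⟨h3, h2⟩
        · rw [h2] at h1
          push_cast at h1
          have hpz : (p : ℤ) ≠ 0 := by exact_mod_cast hp0.ne'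
          exact (mul_dvd_mul_iff_left hpz).mp h1
        · rw [h2]
          have hcop : IsCoprime (l e : ℤ) (p : ℤ) := by
            have : Nat.Coprime (l e) p := ((Nat.Prime.coprime_iff_not_dvd hp).mpr h3).symm
            exact Nat.isCoprime_iff_coprime.mpr this
          exact hcop.dvd_of_dvd_mul_left h1
      have hf1span := ih (∏ e, l' e) hlt l' hl'pos rfl f1 hf1cart
      have hpf1 : (p : ℤ) • f1 ∈ Submodule.span ℤ (Elem ends l) := by
        have hmap : ∀ x ∈ Submodule.span ℤ (Elem ends l'), (p : ℤ) • x ∈
            Submodule.span ℤ (Elem ends l) := by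
          intro x hx
          induction hx using Submodule.span_induction with
          | mem x hx => exact Submodule.subset_span (smul_elem ends l l' p hp0 hl'spec x hx)
          | zero => simp
          | add x y _ _ hx hy => rw [smul_add]; exact Submodule.add_mem _ hx hy
          | smul a x _ hx => rw [smul_comm]; exact Submodule.smul_mem _ _ hx
        exact hmap f1 hf1span
      have hfeq : f = h0 + (p : ℤ) • f1 := by
        funext v
        simp only [Pi.add_apply, Pi.smul_apply, smul_eq_mul]
        linarith [hf1 v]
      rw [hfeq]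
      exact Submodule.add_mem _ (Submodule.subset_span hh0) hpf1

end aux

/-- Let G be a finite connected multigraph with endpoint map ends and edge labels l taking positive
integer values. We say g : V → ℤ is elementary-Cartier if, for some integer n ≥ 1, all values of g
are multiples of n and, for each edge whose label fails to divide n, g agrees at its two endpoints
(equivalently, once the edges with label dividing n are removed, g takes a single value on each
connected piece of what remains). Then every Cartier function f (for each edge, the label divides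
the difference of the values of f at its endpoints) lies in the ℤ-span of the elementary-Cartier
functions. -/
theorem result
    {V E : Type u} [Fintype V] [Fintype E] [DecidableEq V] [DecidableEq E]
    (ends : E → V × V) (l : E → ℕ) (hl : ∀ e, 0 < l e) (hconn : LabGraph.Connected ends)
    (f : V → ℤ) (hf : LabGraph.IsCartier ends l f) :
    f ∈ Submodule.span ℤ {g : V → ℤ | ∃ n : ℕ, 0 < n ∧ (∀ v, (n : ℤ) ∣ g v) ∧
      ∀ e, ¬ (l e ∣ n) → g (ends e).1 = g (ends e).2} := by
  exact main ends _ l hl rfl f hf

end Groth.Agent.S17723
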