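import Groth.Statements.S17724
import Mathlib.Tactic
import Mathlib.Data.ZMod.Basic
import Mathlib.Algebra.CharP.Two

set_option autoImplicit false
universe u v
open LabGraph

namespace Groth.Agent.S17724

section
set_option linter.unusedSectionVars false
set_option linter.unusedVariables false
variable {V E : Type u} [Fintype V] [Fintype E] [DecidableEq V] [DecidableEq E]

def AdjF (ends : E → V × V) (F : Finset E) (v w : V) : Prop :=
  ∃ e ∈ F, ends e = (v, w) ∨ ends e = (w, v)

abbrev Reach (ends : E → V × V) (F : Finset E) (a b : V) : Prop :=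
  Relation.ReflTransGen (AdjF ends F) a b

def dl (a v : V) : ZMod 2 := if a = v then 1 else 0

def par (ends : E → V × V) (S : Finset E) (v : V) : ZMod 2 :=
  ∑ e ∈ S, (dl (ends e).1 v + dl (ends e).2 v)

lemma par_eq_cast (ends : E → V × V) (S : Finset E) (v : V) :
    par ends S v = (endCount ends S v : ZMod 2) := by
  simp only [par, endCount, dl, Nat.cast_sum, Nat.cast_add, Nat.cast_ite, Nat.cast_one,
    Nat.cast_zero]

lemma even_iff_par (ends : E → V × V) (S : Finset E) (v : V) :
    Even (endCount ends S v) ↔ par ends S v = 0 := by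
  rw [par_eq_cast, ZMod.natCast_eq_zero_iff_even]

lemma adjF_symm (ends : E → V × V) (F : Finset E) {v w : V} (h : AdjF ends F v w) :
    AdjF ends F w v := by
  obtain ⟨e, he, h⟩ := h
  exact ⟨e, he, h.symm⟩

lemma reach_symm (ends : E → V × V) (F : Finset E) {a b : V} (h : Reach ends F a b) :
    Reach ends F b a := by
  induction h with
  | refl => exact Relation.ReflTransGen.refl
  | tail _ hbc ih => exact Relation.ReflTransGen.head (adjF_symm ends F hbc) ih

lemma reach_mono (ends : E → V × V) {F G : Finset E} (hFG : F ⊆ G) {a b : V}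
    (h : Reach ends F a b) : Reach ends G a b := by
  refine Relation.ReflTransGen.mono ?_ _ _ h
  rintro v w ⟨e, he, h⟩
  exact ⟨e, hFG he, h⟩

lemma reach_invariant (ends : E → V × V) (F : Finset E) {α : Type*} (h : V → α)
    (hinv : ∀ e ∈ F, h (ends e).1 = h (ends e).2) {a b : V} (hab : Reach ends F a b) :
    h a = h b := by
  induction hab with
  | refl => rfl
  | tail _ hbc ih =>
    obtain ⟨e, he, h1 | h1⟩ := hbc
    · have := hinv e he
      rw [h1] at this
      exact ih.trans this
    · have := hinv e he
      rw [h1] at this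
      exact ih.trans this.symm

lemma reach_edge (ends : E → V × V) (F : Finset E) (a : V) {e : E} (he : e ∈ F) :
    Reach ends F a (ends e).1 ↔ Reach ends F a (ends e).2 := by
  constructor
  · intro h
    exact Relation.ReflTransGen.tail h ⟨e, he, Or.inl rfl⟩
  · intro h
    exact Relation.ReflTransGen.tail h ⟨e, he, Or.inr rfl⟩

lemma par_insert (ends : E → V × V) (S : Finset E) {e : E} (he : e ∉ S) (v : V) :
    par ends (insert e S) v = (dl (ends e).1 v + dl (ends e).2 v) + par ends S v := by
  simp only [par, Finset.sum_insert he]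

lemma par_erase (ends : E → V × V) (S : Finset E) {e : E} (he : e ∈ S) (v : V) :
    par ends (S.erase e) v = (dl (ends e).1 v + dl (ends e).2 v) + par ends S v := by
  have h := par_insert ends (S.erase e) (Finset.notMem_erase e S) v
  rw [Finset.insert_erase he] at h
  rw [h, ← add_assoc, CharTwo.add_self_eq_zero, zero_add]

lemma exists_chain (ends : E → V × V) (F : Finset E) {a b : V} (h : Reach ends F a b) :
    ∃ S ⊆ F, ∀ v, par ends S v = dl a v + dl b v := by
  induction h with
  | refl =>
    refine ⟨∅, Finset.empty_subset _, fun v => ?_⟩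
    simp [par, CharTwo.add_self_eq_zero]
  | @tail b c _ hbc ih =>
    obtain ⟨S, hSF, hS⟩ := ih
    obtain ⟨e, he, h1⟩ := hbc
    have hx : ∀ v, dl (ends e).1 v + dl (ends e).2 v = dl b v + dl c v := by
      intro v
      rcases h1 with h1 | h1
      · rw [h1]
      · rw [h1, add_comm]
    by_cases heS : e ∈ S
    · refine ⟨S.erase e, (Finset.erase_subset _ _).trans hSF, fun v => ?_⟩
      rw [par_erase ends S heS, hx, hS]
      have := CharTwo.add_self_eq_zero (dl b v)
      linear_combination this
    · refine ⟨insert e S, Finset.insert_subset he hSF, fun v => ?_⟩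
      rw [par_insert ends S heS, hx, hS]
      have := CharTwo.add_self_eq_zero (dl b v)
      linear_combination this

lemma par_sdiff (ends : E → V × V) {C C' : Finset E} (h : C' ⊆ C) (v : V) :
    par ends (C \ C') v + par ends C' v = par ends C v := by
  simp only [par]
  exact Finset.sum_sdiff h

lemma exists_circuit (ends : E → V × V) (C : Finset E) {e₀ : E} (he₀ : e₀ ∈ C)
    (hC : ∀ v, par ends C v = 0) :
    ∃ C₀ ⊆ C, e₀ ∈ C₀ ∧ IsCircuit ends C₀ := by
  classical
  let 𝒮 : Finset (Finset E) := C.powerset.filter (fun D => e₀ ∈ D ∧ ∀ v, par ends D v = 0)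
  have h𝒮 : 𝒮.Nonempty := ⟨C, by simp [𝒮, he₀, hC]⟩
  obtain ⟨C₀, hC₀, hmin⟩ := Finset.exists_min_image 𝒮 Finset.card h𝒮
  simp only [𝒮, Finset.mem_filter, Finset.mem_powerset] at hC₀ hmin
  obtain ⟨hC₀C, he₀C₀, hpar⟩ := hC₀
  refine ⟨C₀, hC₀C, he₀C₀, ⟨e₀, he₀C₀⟩, fun v => (even_iff_par ends C₀ v).2 (hpar v), ?_⟩
  intro C' hC' hne
  by_contra hcon
  simp only [not_exists, not_not] at hcon
  have hpar' : ∀ v, par ends C' v = 0 := fun v => (even_iff_par ends C' v).1 (hcon v)
  by_cases he : e₀ ∈ C'
  · have := hmin C' ⟨hC'.subset.trans hC₀C, he, hpar'⟩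
    exact absurd (Finset.card_lt_card hC') (not_lt.2 this)
  · have hsub : C₀ \ C' ⊆ C₀ := Finset.sdiff_subset
    have h1 : ∀ v, par ends (C₀ \ C') v = 0 := by
      intro v
      have := par_sdiff ends hC'.subset v
      rw [hpar' v, hpar v, add_zero] at this
      exact this
    have := hmin (C₀ \ C') ⟨hsub.trans hC₀C, Finset.mem_sdiff.2 ⟨he₀C₀, he⟩, h1⟩
    have hlt : (C₀ \ C').card < C₀.card := by
      apply Finset.card_lt_card
      refine ⟨hsub, fun hh => ?_⟩
      obtain ⟨x, hx⟩ := hne
      have := hh (hC'.subset hx)
      exact (Finset.mem_sdiff.1 this).2 hx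
    exact absurd hlt (not_lt.2 this)

lemma reach_of_par (ends : E → V × V) (P : Finset E) (a b : V)
    (hP : ∀ v, par ends P v = dl a v + dl b v) : Reach ends P a b := by
  classical
  let K : Finset V := Finset.univ.filter (fun v => Reach ends P a v)
  have haK : a ∈ K := by simp [K, Reach, Relation.ReflTransGen.refl]
  have h1 : ∑ v ∈ K, par ends P v = 0 := by
    simp only [par]
    rw [Finset.sum_comm]
    apply Finset.sum_eq_zero
    intro e he
    rw [Finset.sum_add_distrib]
    simp only [dl, Finset.sum_ite_eq]
    have := reach_edge ends P a he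
    by_cases h : Reach ends P a (ends e).1
    · have h2 := this.1 h
      simp [K, h, h2, CharTwo.add_self_eq_zero]
    · have h2 : ¬ Reach ends P a (ends e).2 := fun h2 => h (this.2 h2)
      simp [K, h, h2]
  have h2 : ∑ v ∈ K, (dl a v + dl b v) = 1 + (if b ∈ K then 1 else 0) := by
    rw [Finset.sum_add_distrib]
    simp only [dl, Finset.sum_ite_eq, haK, if_true]
  rw [Finset.sum_congr rfl (fun v _ => hP v), h2] at h1
  by_contra hb
  have : b ∉ K := by simpa [K] using hb
  rw [if_neg this, add_zero] at h1
  exact one_ne_zero h1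

lemma key {L : Type v} (ends : E → V × V) (lab : E → L)
    (hcirc : ∀ C : Finset E, IsCircuit ends C → ∀ e ∈ C, ∀ e' ∈ C, lab e = lab e')
    (F : Finset E) (e₀ : E) (he₀ : e₀ ∉ F) (hr : Reach ends F (ends e₀).1 (ends e₀).2)
    (Q : Finset E) (hQ : ∀ e ∈ F, lab e = lab e₀ → e ∈ Q) :
    Reach ends Q (ends e₀).1 (ends e₀).2 := by
  classical
  obtain ⟨S, hSF, hS⟩ := exists_chain ends F hr
  have he₀S : e₀ ∉ S := fun h => he₀ (hSF h)
  have hC : ∀ v, par ends (insert e₀ S) v = 0 := by
    intro v
    rw [par_insert ends S he₀S, hS, CharTwo.add_self_eq_zero]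
  obtain ⟨C₀, hC₀, he₀C₀, hcir⟩ := exists_circuit ends (insert e₀ S) (Finset.mem_insert_self _ _) hC
  have hlab := hcirc C₀ hcir
  have hpar : ∀ v, par ends C₀ v = 0 := fun v => (even_iff_par ends C₀ v).1 (hcir.2.1 v)
  have hP : ∀ v, par ends (C₀.erase e₀) v = dl (ends e₀).1 v + dl (ends e₀).2 v := by
    intro v
    rw [par_erase ends C₀ he₀C₀, hpar, add_zero]
  have := reach_of_par ends (C₀.erase e₀) _ _ hP
  refine reach_mono ends ?_ this
  intro e he
  have heC₀ := Finset.mem_of_mem_erase he
  have hne := Finset.ne_of_mem_erase he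
  have heS : e ∈ S := by
    have := hC₀ heC₀
    rcases Finset.mem_insert.1 this with h | h
    · exact absurd h hne
    · exact h
  exact hQ e (hSF heS) (hlab e heC₀ e₀ he₀C₀)

lemma exists_potential {L : Type v} (ends : E → V × V) (lab : E → L)
    (hcirc : ∀ C : Finset E, IsCircuit ends C → ∀ e ∈ C, ∀ e' ∈ C, lab e = lab e')
    (f : V → ℤ) (lam : L) (F : Finset E) :
    ∃ g : V → ℤ, ∀ e ∈ F, (lab e = lam → g (ends e).1 - g (ends e).2 = f (ends e).1 - f (ends e).2) ∧
      (lab e ≠ lam → g (ends e).1 - g (ends e).2 = 0) := by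
  classical
  induction F using Finset.induction_on with
  | empty => exact ⟨0, by simp⟩
  | @insert e₀ F he₀ ih =>
    obtain ⟨g, hg⟩ := ih
    by_cases hr : Reach ends F (ends e₀).1 (ends e₀).2
    · have hk := key ends lab hcirc F e₀ he₀ hr (F.filter (fun e => lab e = lab e₀))
        (fun e he h => Finset.mem_filter.2 ⟨he, h⟩)
      refine ⟨g, fun e he => ?_⟩
      rcases Finset.mem_insert.1 he with rfl | he
      · by_cases hl : lab e = lam
        · have := reach_invariant ends _ (fun v => g v - f v) (fun e' he' => by
            obtain ⟨h1, h2⟩ := Finset.mem_filter.1 he'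
            have := (hg e' h1).1 (h2.trans hl)
            show g _ - f _ = g _ - f _
            linarith) hk
          exact ⟨fun _ => by linarith, fun h => absurd hl h⟩
        · have := reach_invariant ends _ g (fun e' he' => by
            obtain ⟨h1, h2⟩ := Finset.mem_filter.1 he'
            have := (hg e' h1).2 (by rw [h2]; exact hl)
            linarith) hk
          exact ⟨fun h => absurd h hl, fun _ => by linarith⟩
      · exact hg e he
    · let t : ℤ := if lab e₀ = lam then f (ends e₀).1 - f (ends e₀).2 else 0
      let δ : ℤ := t - (g (ends e₀).1 - g (ends e₀).2)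
      refine ⟨fun v => g v + (if Reach ends F (ends e₀).1 v then δ else 0), fun e he => ?_⟩
      rcases Finset.mem_insert.1 he with rfl | he
      · have h1 : Reach ends F (ends e).1 (ends e).1 := Relation.ReflTransGen.refl
        simp only [h1, hr, if_true, if_false, δ, t]
        constructor
        · intro hl
          rw [if_pos hl]; ring
        · intro hl
          rw [if_neg hl]; ring
      · have h1 := reach_edge ends F (ends e₀).1 he
        have h2 := hg e he
        by_cases h : Reach ends F (ends e₀).1 (ends e).1
        · have h' := h1.1 h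
          simp only [h, h', if_true]
          constructor
          · intro hl; have := h2.1 hl; linarith
          · intro hl; have := h2.2 hl; linarith
        · have h' : ¬ Reach ends F (ends e₀).1 (ends e).2 := fun h' => h (h1.2 h')
          simp only [h, h', if_false]
          constructor
          · intro hl; have := h2.1 hl; linarith
          · intro hl; have := h2.2 hl; linarith

lemma conn_invariant (ends : E → V × V) (hconn : LabGraph.Connected ends) (h : V → ℤ)
    (hinv : ∀ e, h (ends e).1 = h (ends e).2) (a b : V) : h a = h b := by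
  have := hconn.2 a b
  induction this with
  | refl => rfl
  | tail _ hbc ih =>
    obtain ⟨e, h1 | h1⟩ := hbc
    · have := hinv e
      rw [h1] at this
      exact ih.trans this
    · have := hinv e
      rw [h1] at this
      exact ih.trans this.symm

lemma main {L : Type v} (ends : E → V × V) (lab : E → L) (n : E → ℕ)
    (hconn : LabGraph.Connected ends)
    (hcirc : ∀ C : Finset E, LabGraph.IsCircuit ends C → ∀ e ∈ C, ∀ e' ∈ C, lab e = lab e')
    (f : V → ℤ) (hf : LabGraph.IsCartier ends n f) (v₀ : V) :
    (fun v => f v - f v₀) ∈ AddSubmonoid.closure {g : V → ℤ | LabGraph.IsCartier ends n g ∧ (∃ B : Finset E, (∀ e ∈ B, ∀ e' ∈ B, lab e = lab e') ∧ ∀ e, e ∉ B → g (ends e).1 = g (ends e).2) ∧ g v₀ = 0} := by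
  classical
  choose g hg using fun lam => exists_potential ends lab hcirc f lam Finset.univ
  let Λ : Finset L := Finset.univ.image lab
  let fl : L → V → ℤ := fun lam v => g lam v - g lam v₀
  have hsum : (fun v => f v - f v₀) = ∑ lam ∈ Λ, fl lam := by
    have hinv : ∀ e, (fun v => f v - ∑ lam ∈ Λ, fl lam v) (ends e).1 =
        (fun v => f v - ∑ lam ∈ Λ, fl lam v) (ends e).2 := by
      intro e
      simp only
      have : ∑ lam ∈ Λ, fl lam (ends e).1 - ∑ lam ∈ Λ, fl lam (ends e).2 =
          f (ends e).1 - f (ends e).2 := by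
        rw [← Finset.sum_sub_distrib]
        rw [Finset.sum_eq_single (lab e)]
        · have := (hg (lab e) e (Finset.mem_univ _)).1 rfl
          simp only [fl]; linarith
        · intro lam _ hne
          have := (hg lam e (Finset.mem_univ _)).2 (Ne.symm hne)
          simp only [fl]; linarith
        · intro h
          exact absurd (Finset.mem_image_of_mem lab (Finset.mem_univ e)) h
      linarith
    funext v
    have := conn_invariant ends hconn (fun v => f v - ∑ lam ∈ Λ, fl lam v) hinv v v₀
    simp only [fl, sub_self, Finset.sum_const_zero, sub_zero] at this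
    rw [Finset.sum_apply]
    simp only [fl]
    linarith
  rw [hsum]
  refine AddSubmonoid.sum_mem _ (fun lam _ => AddSubmonoid.subset_closure ?_)
  refine ⟨?_, ⟨Finset.univ.filter (fun e => lab e = lam), ?_, ?_⟩, ?_⟩
  · intro e
    by_cases hl : lab e = lam
    · have := (hg lam e (Finset.mem_univ _)).1 hl
      have h2 : fl lam (ends e).1 - fl lam (ends e).2 = f (ends e).1 - f (ends e).2 := by
        simp only [fl]; linarith
      rw [h2]; exact hf e
    · have := (hg lam e (Finset.mem_univ _)).2 hl
      have h2 : fl lam (ends e).1 - fl lam (ends e).2 = 0 := by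
        simp only [fl]; linarith
      rw [h2]; exact dvd_zero _
  · intro e he e' he'
    rw [(Finset.mem_filter.1 he).2, (Finset.mem_filter.1 he').2]
  · intro e he
    have hl : lab e ≠ lam := fun h => he (Finset.mem_filter.2 ⟨Finset.mem_univ _, h⟩)
    have := (hg lam e (Finset.mem_univ _)).2 hl
    simp only [fl]; linarith
  · simp [fl]

end

/-- Let G be a finite connected multigraph with endpoint map ends, whose edges carry labels lab in a set
L and positive integer labels n, and suppose the L-labels are constant along every circuit. Say g :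
V → ℤ is pre-achievable when for some finite set B of edges all carrying the same L-label, g takes
equal values at the two endpoints of every edge outside B (so g is constant on the connected
components of the graph with B deleted); say g is Cartier when for every edge e the integer n(e)
divides the difference of the values of g at its endpoints. Then every Cartier function f is a
finite sum of functions each of which is Cartier and pre-achievable, and when f vanishes at a vertex
v₀ the summands can all be taken to vanish at v₀. -/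
theorem result
    {V E : Type u} [Fintype V] [Fintype E] [DecidableEq V] [DecidableEq E] {L : Type v}
    (ends : E → V × V) (lab : E → L) (n : E → ℕ) (hn : ∀ e, 0 < n e)
    (hconn : LabGraph.Connected ends)
    (hcirc : ∀ C : Finset E, LabGraph.IsCircuit ends C → ∀ e ∈ C, ∀ e' ∈ C, lab e = lab e')
    (f : V → ℤ) (hf : LabGraph.IsCartier ends n f) :
    f ∈ AddSubmonoid.closure {g : V → ℤ | LabGraph.IsCartier ends n g ∧ (∃ B : Finset E, (∀ e ∈ B, ∀ e' ∈ B, lab e = lab e') ∧ ∀ e, e ∉ B → g (ends e).1 = g (ends e).2)} ∧
    ∀ v₀ : V, f v₀ = 0 →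
      f ∈ AddSubmonoid.closure {g : V → ℤ | LabGraph.IsCartier ends n g ∧ (∃ B : Finset E, (∀ e ∈ B, ∀ e' ∈ B, lab e = lab e') ∧ ∀ e, e ∉ B → g (ends e).1 = g (ends e).2) ∧ g v₀ = 0} := by
  constructor
  · obtain ⟨v₀⟩ := hconn.1
    have h1 := main ends lab n hconn hcirc f hf v₀
    have h2 : f = (fun _ => f v₀) + (fun v => f v - f v₀) := by
      funext v; simp
    rw [h2]
    refine AddSubmonoid.add_mem _ (AddSubmonoid.subset_closure ?_) ?_
    · refine ⟨fun e => by simp, ∅, by simp, fun e _ => rfl⟩
    · refine AddSubmonoid.closure_mono ?_ h1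
      rintro g ⟨h1, h2, _⟩
      exact ⟨h1, h2⟩
  · intro v₀ hv₀
    have h1 := main ends lab n hconn hcirc f hf v₀
    have h2 : (fun v => f v - f v₀) = f := by
      funext v; simp [hv₀]
    rw [h2] at h1
    exact h1

end Groth.Agent.S17724
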