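import Groth.Statements.S17725
import Mathlib
-- import your own Groth.Agent.* helpers here

set_option autoImplicit false
universe u
open SpecSp

namespace Groth.Agent.S17725

open TopologicalSpace in
theorem eqvGen_specializes_top {X : Type u} [TopologicalSpace X] [NoetherianSpace X]
    [QuasiSober X] [ConnectedSpace X] (p q : X) :
    Relation.EqvGen (fun x y : X => x ⤳ y) p q := by
  classical
  set r : X → X → Prop := Relation.EqvGen (fun x y : X => x ⤳ y) with hr
  have hfin : (irreducibleComponents X).Finite := NoetherianSpace.finite_irreducibleComponents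
  have key : ∀ x : X, ∃ η, IsGenericPoint η (irreducibleComponent x) :=
    fun x => QuasiSober.sober isIrreducible_irreducibleComponent isClosed_irreducibleComponent
  have hcl : ∀ Z ∈ irreducibleComponents X, IsClosed Z :=
    fun Z hZ => isClosed_of_mem_irreducibleComponents Z hZ
  let S : Set X := ⋃ Z ∈ {Z ∈ irreducibleComponents X | ∃ η, IsGenericPoint η Z ∧ r p η}, Z
  let T : Set X := ⋃ Z ∈ {Z ∈ irreducibleComponents X | ∃ η, IsGenericPoint η Z ∧ ¬ r p η}, Z
  have hS : IsClosed S :=
    Set.Finite.isClosed_biUnion (hfin.subset fun Z hZ => hZ.1) fun Z hZ => hcl Z hZ.1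
  have hT : IsClosed T :=
    Set.Finite.isClosed_biUnion (hfin.subset fun Z hZ => hZ.1) fun Z hZ => hcl Z hZ.1
  have hSC : S = {x | r p x} := by
    ext x
    simp only [S, Set.mem_iUnion, Set.mem_setOf_eq, exists_prop]
    constructor
    · rintro ⟨Z, ⟨_, η, hη, hpη⟩, hxZ⟩
      exact Relation.EqvGen.trans _ _ _ hpη (Relation.EqvGen.rel _ _ (hη.specializes hxZ))
    · intro hx
      obtain ⟨η, hη⟩ := key x
      refine ⟨irreducibleComponent x, ⟨irreducibleComponent_mem_irreducibleComponents x, η, hη, ?_⟩,
        mem_irreducibleComponent⟩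
      exact Relation.EqvGen.trans _ _ _ hx (Relation.EqvGen.symm _ _
        (Relation.EqvGen.rel _ _ (hη.specializes mem_irreducibleComponent)))
  have hTC : T = {x | r p x}ᶜ := by
    ext x
    simp only [T, Set.mem_iUnion, Set.mem_setOf_eq, exists_prop, Set.mem_compl_iff]
    constructor
    · rintro ⟨Z, ⟨_, η, hη, hpη⟩, hxZ⟩ hx
      exact hpη (Relation.EqvGen.trans _ _ _ hx (Relation.EqvGen.symm _ _
        (Relation.EqvGen.rel _ _ (hη.specializes hxZ))))
    · intro hx
      obtain ⟨η, hη⟩ := key x
      refine ⟨irreducibleComponent x, ⟨irreducibleComponent_mem_irreducibleComponents x, η, hη, ?_⟩,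
        mem_irreducibleComponent⟩
      intro hpη
      exact hx (Relation.EqvGen.trans _ _ _ hpη
        (Relation.EqvGen.rel _ _ (hη.specializes mem_irreducibleComponent)))
  have hclopen : IsClopen {x | r p x} := by
    refine ⟨hSC ▸ hS, ?_⟩
    rw [← isClosed_compl_iff, ← hTC]
    exact hT
  have huniv : {x | r p x} = Set.univ :=
    hclopen.eq_univ ⟨p, Relation.EqvGen.refl p⟩
  have : q ∈ {x | r p x} := huniv ▸ Set.mem_univ q
  exact this


open AlgebraicGeometry in
/-- In a connected Noetherian scheme any two points p, q are linked by a finite chain of points p = x₁,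
…, xₙ = q such that for each i one of x_i, x_{i+1} is a specialization of the other; equivalently, p
and q are related by the equivalence relation generated by the specialization relation. -/
theorem result
    (X : Scheme.{u}) [IsNoetherian X] [ConnectedSpace X] (p q : X) :
    Relation.EqvGen (fun x y : X => x ⤳ y) p q := by
  haveI : TopologicalSpace.NoetherianSpace X := inferInstance
  exact eqvGen_specializes_top p q

end Groth.Agent.S17725
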