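import Groth.Statements.S17726
import Mathlib
-- import your own Groth.Agent.* helpers here

set_option autoImplicit false
universe u
open CAlg

namespace Groth.Agent.S17726

theorem pow_span_eq_imp {A : Type u} [CommRing A] (f : A) (hf : f ∈ nonZeroDivisors A)
    (a b : ℕ) (hab : a < b) (h : Ideal.span {f ^ a} = Ideal.span {f ^ b}) : IsUnit f := by
  have h1 : f ^ a ∈ Ideal.span {f ^ b} := by
    rw [← h]; exact Ideal.subset_span rfl
  rw [Ideal.mem_span_singleton'] at h1
  obtain ⟨c, hc⟩ := h1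
  obtain ⟨k, rfl⟩ : ∃ k, b = a + (k + 1) := ⟨b - a - 1, by omega⟩
  have hfa : f ^ a ∈ nonZeroDivisors A := pow_mem hf a
  have h2 : (c * f ^ k * f - 1) * f ^ a = 0 := by
    have : c * f ^ (a + (k + 1)) = f ^ a := hc
    rw [pow_add, pow_succ] at this
    linear_combination this
  have h3 : c * f ^ k * f - 1 = 0 := (mem_nonZeroDivisors_iff_right.mp hfa) _ h2
  have h4 : c * f ^ k * f = 1 := by linear_combination h3
  exact IsUnit.of_mul_eq_one_right _ h4

theorem unit_case {A : Type u} [CommRing A] (f g : A) (hg : ¬ IsUnit g) (hfu : IsUnit f)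
    (m n : ℕ) (h : Ideal.span {g ^ m} = Ideal.span {f ^ n}) : m = 0 := by
  by_contra hm
  apply hg
  have h1 : Ideal.span {f ^ n} = ⊤ := by
    rw [Ideal.span_singleton_eq_top]; exact hfu.pow n
  rw [h1, Ideal.span_singleton_eq_top] at h
  exact (isUnit_pow_iff hm).mp h


/-- Let f and g be non-zero-divisors of a commutative ring A, not both units; think of them as local
equations, at a point of the union of the supports, of two effective Cartier divisors E and D. If
the ideals generated by g^{m₁} and f^{n₁} coincide, and likewise for g^{m₂} and f^{n₂}, then m₁ n₂ =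
m₂ n₁. So all pairs (m, n) with m D = n E locally at the point are proportional, and the saturation
of the monoid they form is generated by a single element. -/
theorem result
    (A : Type u) [CommRing A] (f g : A)
    (hf : f ∈ nonZeroDivisors A) (hg : g ∈ nonZeroDivisors A) (hfg : ¬ (IsUnit f ∧ IsUnit g))
    (m₁ n₁ m₂ n₂ : ℕ)
    (h₁ : Ideal.span {g ^ m₁} = Ideal.span {f ^ n₁})
    (h₂ : Ideal.span {g ^ m₂} = Ideal.span {f ^ n₂}) :
    m₁ * n₂ = m₂ * n₁ := by
  by_cases hfu : IsUnit f
  · have hgu : ¬ IsUnit g := fun h => hfg ⟨hfu, h⟩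
    have e1 := unit_case f g hgu hfu m₁ n₁ h₁
    have e2 := unit_case f g hgu hfu m₂ n₂ h₂
    subst e1 e2
    simp
  by_cases hgu : IsUnit g
  · have e1 := unit_case g f hfu hgu n₁ m₁ h₁.symm
    have e2 := unit_case g f hfu hgu n₂ m₂ h₂.symm
    subst e1 e2
    simp
  have k1 : Ideal.span {f ^ (n₁ * m₂)} = Ideal.span {f ^ (n₂ * m₁)} := by
    have a1 : Ideal.span {g ^ m₁} ^ m₂ = Ideal.span {f ^ n₁} ^ m₂ := by rw [h₁]
    have a2 : Ideal.span {g ^ m₂} ^ m₁ = Ideal.span {f ^ n₂} ^ m₁ := by rw [h₂]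
    rw [Ideal.span_singleton_pow, Ideal.span_singleton_pow, ← pow_mul, ← pow_mul] at a1 a2
    rw [← a1, ← a2, mul_comm m₁ m₂]
  by_contra hne
  rcases lt_trichotomy (n₁ * m₂) (n₂ * m₁) with hlt | heq | hgt
  · exact hfu (pow_span_eq_imp f hf _ _ hlt k1)
  · apply hne
    rw [mul_comm m₁ n₂, mul_comm m₂ n₁]
    exact heq.symm
  · exact hfu (pow_span_eq_imp f hf _ _ hgt k1.symm)

end Groth.Agent.S17726
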