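import Groth.Statements.S17727
import Mathlib

set_option autoImplicit false
universe u
open Neron

namespace Groth.Agent.S17727

section helpers
open CategoryTheory CategoryTheory.Limits AlgebraicGeometry


lemma homOfLE_appTop_injective {E : Scheme.{u}} {W₀ W : E.Opens} (h : W₀ ≤ W)
    (hinj : Function.Injective (E.presheaf.map (homOfLE h).op)) :
    Function.Injective (E.homOfLE h).appTop := by
  have e1 : W.ι ''ᵁ ⊤ = W := by simp
  have e2 : W₀.ι ''ᵁ ((E.homOfLE h) ⁻¹ᵁ ⊤) = W₀ := by simp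
  have key : (E.homOfLE h).appTop ≫ E.presheaf.map (eqToHom e2.symm).op =
      E.presheaf.map (eqToHom e1.symm).op ≫ E.presheaf.map (homOfLE h).op := by
    rw [Scheme.Hom.appTop, Scheme.homOfLE_app]
    exact ((E.presheaf.map_comp _ _).symm.trans (by congr 1)).trans (E.presheaf.map_comp _ _)
  have hiso : Function.Injective (E.presheaf.map (eqToHom e1.symm).op) :=
    ((ConcreteCategory.isIso_iff_bijective _).mp inferInstance).1
  have : Function.Injective ((E.homOfLE h).appTop ≫ E.presheaf.map (eqToHom e2.symm).op) := by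
    rw [key]
    simp only [CommRingCat.hom_comp, RingHom.coe_comp]
    exact hinj.comp hiso
  simp only [CommRingCat.hom_comp, RingHom.coe_comp] at this
  exact Function.Injective.of_comp this

end helpers

open CategoryTheory AlgebraicGeometry in
/-- Let f : E → S be a morphism of schemes and U ⊆ S a schematically dense open subscheme such that f
restricts to an isomorphism over U and the preimage of U is schematically dense in E. Then for every
section σ of f and every point s of S there is an open neighbourhood W of σ(s) in E on which f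
restricts to an open immersion. (The published statements conclude that the section lands in the
étale locus of f, in one published form for an algebraic space E, in another for f locally of finite
type over a Noetherian base; the affine-local argument gives the sharper conclusion recorded here,
for schemes.) -/
theorem result
    {E S : Scheme.{u}} (f : E ⟶ S) (U : S.Opens) (hU : CInt.IsSchematicallyDense U)
    (hiso : IsIso (morphismRestrict f U)) (hdense : CInt.IsSchematicallyDense (f ⁻¹ᵁ U))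
    (σ : S ⟶ E) (hσ : σ ≫ f = 𝟙 S) (s : S) :
    ∃ W : E.Opens, σ.base s ∈ W ∧ IsOpenImmersion (W.ι ≫ f) := by
  -- step 0: on f⁻¹U, f ≫ σ is the identity
  have h0 : (f ⁻¹ᵁ U).ι ≫ f ≫ σ = (f ⁻¹ᵁ U).ι := by
    have hr : Set.range (U.ι ≫ σ).base ⊆ Set.range (f ⁻¹ᵁ U).ι.base := by
      rintro _ ⟨u, rfl⟩
      rw [Scheme.Opens.range_ι]
      show f.base ((U.ι ≫ σ).base u) ∈ U
      have : f.base ((U.ι ≫ σ).base u) = (U.ι ≫ σ ≫ f).base u := by simp
      rw [this, hσ]
      simpa using u.2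
    let σU : (U : Scheme.{u}) ⟶ (f ⁻¹ᵁ U : Scheme.{u}) :=
      IsOpenImmersion.lift (f ⁻¹ᵁ U).ι (U.ι ≫ σ) hr
    have hσU : σU ≫ (f ⁻¹ᵁ U).ι = U.ι ≫ σ := IsOpenImmersion.lift_fac _ _ _
    have h1 : σU ≫ (f ∣_ U) = 𝟙 _ := by
      rw [← cancel_mono U.ι, Category.assoc, morphismRestrict_ι, ← Category.assoc, hσU,
        Category.assoc, hσ]
      simp
    have h2 : (f ∣_ U) ≫ σU = 𝟙 _ := by
      rw [← cancel_epi (inv (f ∣_ U)), ← Category.assoc, ← cancel_mono (f ∣_ U)]
      simp [h1]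
    calc (f ⁻¹ᵁ U).ι ≫ f ≫ σ = ((f ∣_ U) ≫ U.ι) ≫ σ := by
          rw [morphismRestrict_ι, Category.assoc]
      _ = (f ∣_ U) ≫ σU ≫ (f ⁻¹ᵁ U).ι := by rw [Category.assoc, hσU]
      _ = (f ⁻¹ᵁ U).ι := by rw [← Category.assoc, h2, Category.id_comp]
  -- affine nbhd
  obtain ⟨W', hW'aff, hsW', -⟩ := exists_isAffineOpen_mem_and_subset
    (x := σ.base s) (U := ⊤) trivial
  let V : S.Opens := σ ⁻¹ᵁ W'
  let W : E.Opens := W' ⊓ f ⁻¹ᵁ V
  have hfσ : ∀ x, f.base (σ.base x) = x := fun x => by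
    rw [← Scheme.Hom.comp_apply, hσ]; rfl
  have hsW : σ.base s ∈ W := ⟨hsW', by
    show σ.base (f.base (σ.base s)) ∈ W'
    rw [hfσ]; exact hsW'⟩
  have claim : W.ι ≫ f ≫ σ = W.ι := by
    have hr : Set.range (W.ι ≫ f ≫ σ).base ⊆ Set.range W'.ι.base := by
      rintro _ ⟨w, rfl⟩
      rw [Scheme.Opens.range_ι]
      exact w.2.2
    let b : (W : Scheme.{u}) ⟶ (W' : Scheme.{u}) := IsOpenImmersion.lift W'.ι (W.ι ≫ f ≫ σ) hr
    let a : (W : Scheme.{u}) ⟶ (W' : Scheme.{u}) := E.homOfLE inf_le_left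
    have hb : b ≫ W'.ι = W.ι ≫ f ≫ σ := IsOpenImmersion.lift_fac _ _ _
    have ha : a ≫ W'.ι = W.ι := E.homOfLE_ι _
    haveI : IsAffine (W' : Scheme.{u}) := hW'aff
    have hab : a = b := by
      apply ext_of_isAffine
      let j := E.homOfLE (inf_le_left : W ⊓ f ⁻¹ᵁ U ≤ W)
      have hj : Function.Injective j.appTop := homOfLE_appTop_injective _ (hdense W)
      have hjab : j ≫ a = j ≫ b := by
        rw [← cancel_mono W'.ι, Category.assoc, Category.assoc, ha, hb]
        have hj' : j ≫ W.ι =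
            E.homOfLE (inf_le_right : W ⊓ f ⁻¹ᵁ U ≤ f ⁻¹ᵁ U) ≫ (f ⁻¹ᵁ U).ι := by
          simp [j]
        rw [← Category.assoc, hj', Category.assoc, h0]
      have h2 : a.appTop ≫ j.appTop = b.appTop ≫ j.appTop := by
        rw [← Scheme.Hom.comp_appTop, ← Scheme.Hom.comp_appTop, hjab]
      ext x
      apply hj
      exact congr($h2 x)
    rw [← hb, ← hab, ha]
  have hrg : Set.range (W.ι ≫ f).base ⊆ Set.range V.ι.base := by
    rintro _ ⟨w, rfl⟩
    rw [Scheme.Opens.range_ι]
    exact w.2.2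
  have hrσ : Set.range (V.ι ≫ σ).base ⊆ Set.range W.ι.base := by
    rintro _ ⟨v, rfl⟩
    rw [Scheme.Opens.range_ι]
    refine ⟨v.2, ?_⟩
    show σ.base (f.base (σ.base v.1)) ∈ W'
    rw [hfσ]; exact v.2
  let g : (W : Scheme.{u}) ⟶ (V : Scheme.{u}) := IsOpenImmersion.lift V.ι (W.ι ≫ f) hrg
  let σ' : (V : Scheme.{u}) ⟶ (W : Scheme.{u}) := IsOpenImmersion.lift W.ι (V.ι ≫ σ) hrσ
  have hg : g ≫ V.ι = W.ι ≫ f := IsOpenImmersion.lift_fac _ _ _
  have hσ' : σ' ≫ W.ι = V.ι ≫ σ := IsOpenImmersion.lift_fac _ _ _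
  have h1 : g ≫ σ' = 𝟙 _ := by
    rw [← cancel_mono W.ι, Category.assoc, hσ', ← Category.assoc, hg, Category.assoc, claim]
    simp
  have h2 : σ' ≫ g = 𝟙 _ := by
    rw [← cancel_mono V.ι, Category.assoc, hg, ← Category.assoc, hσ', Category.assoc, hσ]
    simp
  haveI : IsIso g := ⟨σ', h1, h2⟩
  refine ⟨W, hsW, ?_⟩
  rw [← hg]
  infer_instance

end Groth.Agent.S17727
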