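import Groth.Statements.S17728
-- import your own Groth.Agent.* helpers here
import Groth.Agent.Lib.Helper58.GenIso

set_option autoImplicit false
universe u
open Neron

namespace Groth.Agent.S17728

open CategoryTheory AlgebraicGeometry in

open CategoryTheory AlgebraicGeometry in
/-- Let S be a Noetherian scheme, U ⊆ S a dense open subscheme and f : X → S a morphism locally of
finite type which restricts to an isomorphism over U and for which the preimage of U is
schematically dense in X. For a point x of X the following are equivalent: f is étale on some open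
neighbourhood of x; f is flat at x, that is, the local ring of X at x is flat over the local ring of
S at f(x); some open neighbourhood V of f(x) carries a section σ of f over V passing through x. -/
theorem result
    {X S : Scheme.{u}} [IsNoetherian S] (f : X ⟶ S) [LocallyOfFiniteType f]
    (U : S.Opens) (hU : Dense (U : Set S))
    (hiso : IsIso (morphismRestrict f U)) (hdense : CInt.IsSchematicallyDense (f ⁻¹ᵁ U))
    (x : X) :
    List.TFAE [
      ∃ W : X.Opens, x ∈ W ∧ Etale (W.ι ≫ f),
      (f.stalkMap x).hom.Flat,
      ∃ (V : S.Opens) (hV : f.base x ∈ V) (σ : (V : Scheme.{u}) ⟶ X),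
        σ ≫ f = V.ι ∧ σ.base ⟨f.base x, hV⟩ = x] := by
  have hS : IsLocallyNoetherian S := inferInstance
  have hX : IsLocallyNoetherian X := LocallyOfFiniteType.isLocallyNoetherian f
  have hqc : QuasiCompact (f ⁻¹ᵁ U).ι := inferInstance
  have hdom : IsSchemeTheoreticallyDominant (f ⁻¹ᵁ U).ι :=
    Groth.Agent.Lib.Helper58.GenIso.isSchemeTheoreticallyDominant_ι _ hdense
  tfae_have 1 → 2 := by
    rintro ⟨W, hxW, het⟩
    have hfl : Flat (W.ι ≫ f) := inferInstance
    let x' : (W : Scheme.{u}) := ⟨x, hxW⟩
    have h1 : ((W.ι.stalkMap x').hom.comp (f.stalkMap (W.ι x')).hom).Flat := by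
      have h0 := Flat.stalkMap (W.ι ≫ f) x'
      rw [Scheme.Hom.stalkMap_comp] at h0
      exact h0
    have h4 : ((inv (W.ι.stalkMap x')).hom.comp
        ((W.ι.stalkMap x').hom.comp (f.stalkMap (W.ι x')).hom)).Flat :=
      RingHom.Flat.comp h1 (RingHom.Flat.of_bijective
        (ConcreteCategory.bijective_of_isIso (inv (W.ι.stalkMap x'))))
    have h5 : (inv (W.ι.stalkMap x')).hom.comp
        ((W.ι.stalkMap x').hom.comp (f.stalkMap (W.ι x')).hom) = (f.stalkMap (W.ι x')).hom := by
      ext a
      show (inv (W.ι.stalkMap x')).hom ((W.ι.stalkMap x').hom ((f.stalkMap (W.ι x')).hom a)) = _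
      have := congrArg (fun g => g.hom ((f.stalkMap (W.ι x')).hom a))
        (IsIso.hom_inv_id (W.ι.stalkMap x'))
      exact this
    rw [h5] at h4
    exact h4
  tfae_have 2 → 3 := fun h =>
    Groth.Agent.Lib.Helper58.GenIso.exists_section_of_flat f U x h
  tfae_have 3 → 1 := by
    rintro ⟨V, hV, σ, h1, h2⟩
    obtain ⟨W, hxW, hW⟩ :=
      Groth.Agent.Lib.Helper58.GenIso.exists_isOpenImmersion_of_section f U x V hV σ h1 h2
    exact ⟨W, hxW, inferInstance⟩
  tfae_finish

end Groth.Agent.S17728
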