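import Groth.Statements.S17731
import Mathlib

set_option autoImplicit false
set_option linter.style.haveILetI false
universe u
open Neron

namespace Groth.Agent.S17731

open CategoryTheory.Limits TopologicalSpace Opposite


open CategoryTheory AlgebraicGeometry in
/-- Let S be a scheme, U ⊆ S a schematically dense open subscheme and N → S a smooth S-scheme having
uniqueness in the Néron mapping property with respect to U: for every smooth S-scheme Y, restriction
to U is injective on S-morphisms Y → N. Then for every smooth morphism g : S' → S the base change N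
×_S S' → S' has uniqueness in the Néron mapping property with respect to g⁻¹(U): for every smooth
S'-scheme Y', restriction to g⁻¹(U) is injective on S'-morphisms Y' → N ×_S S'. (The published
statement is for models which are algebraic spaces, tested against smooth algebraic spaces; this row
states the case of a scheme model tested against smooth schemes. The companion assertion that Néron
models are preserved by smooth base change is not restated here.) -/
theorem result
    {S S' : Scheme.{u}} (g : S' ⟶ S) [Smooth g]
    (U : S.Opens) (hU : CInt.IsSchematicallyDense U) (N : Over S) [Smooth N.hom]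
    (hN : ∀ Y : Over S, Smooth Y.hom →
      Function.Injective (fun f : Y ⟶ N => (Over.pullback U.ι).map f))
    (Y' : Over S') [Smooth Y'.hom] :
    Function.Injective (fun f : Y' ⟶ (Over.pullback g).obj N => (Over.pullback (g ⁻¹ᵁ U).ι).map f) := by
  intro f₁ f₂ h
  have h' : pullback.fst Y'.hom (g ⁻¹ᵁ U).ι ≫ f₁.left =
      pullback.fst Y'.hom (g ⁻¹ᵁ U).ι ≫ f₂.left := by
    have := congr($(h).left ≫ pullback.fst _ _)
    simp only [Over.pullback_map_left] at this
    rwa [pullback.lift_fst, pullback.lift_fst] at this
  have w₁ : f₁.left ≫ pullback.snd N.hom g = Y'.hom := Over.w f₁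
  have w₂ : f₂.left ≫ pullback.snd N.hom g = Y'.hom := Over.w f₂
  let φ₁ : Over.mk (Y'.hom ≫ g) ⟶ N := Over.homMk (f₁.left ≫ pullback.fst N.hom g) (by
    simp only [Over.mk_hom, Category.assoc, pullback.condition]
    rw [← Category.assoc, w₁])
  let φ₂ : Over.mk (Y'.hom ≫ g) ⟶ N := Over.homMk (f₂.left ≫ pullback.fst N.hom g) (by
    simp only [Over.mk_hom, Category.assoc, pullback.condition]
    rw [← Category.assoc, w₂])
  have hsm : Smooth (Over.mk (Y'.hom ≫ g)).hom := by
    simp only [Over.mk_hom]
    infer_instance
  have hφ : φ₁ = φ₂ := by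
    apply hN _ hsm
    ext
    simp only [Over.pullback_map_left]
    apply pullback.hom_ext
    · rw [pullback.lift_fst, pullback.lift_fst]
      -- pullback.fst (Y'.hom ≫ g) U.ι ≫ φ₁.left = ...
      let P := pullback (Y'.hom ≫ g) U.ι
      have hpb := isPullback_morphismRestrict g U
      let e₀ : P ⟶ (g ⁻¹ᵁ U : Scheme) := hpb.lift (pullback.snd (Y'.hom ≫ g) U.ι)
        (pullback.fst (Y'.hom ≫ g) U.ι ≫ Y'.hom) (by
          rw [Category.assoc, pullback.condition])
      have he₀ : e₀ ≫ (g ⁻¹ᵁ U).ι = pullback.fst (Y'.hom ≫ g) U.ι ≫ Y'.hom := hpb.lift_snd _ _ _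
      let e : P ⟶ pullback Y'.hom (g ⁻¹ᵁ U).ι := pullback.lift (pullback.fst _ _) e₀ he₀.symm
      have he : e ≫ pullback.fst Y'.hom (g ⁻¹ᵁ U).ι = pullback.fst (Y'.hom ≫ g) U.ι :=
        pullback.lift_fst _ _ _
      change pullback.fst (Y'.hom ≫ g) U.ι ≫ f₁.left ≫ pullback.fst N.hom g =
        pullback.fst (Y'.hom ≫ g) U.ι ≫ f₂.left ≫ pullback.fst N.hom g
      rw [← he, Category.assoc, Category.assoc, reassoc_of% h']
    · rw [pullback.lift_snd, pullback.lift_snd]
  have hφl : f₁.left ≫ pullback.fst N.hom g = f₂.left ≫ pullback.fst N.hom g :=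
    congr($(hφ).left)
  ext
  apply pullback.hom_ext
  · exact hφl
  · exact w₁.trans w₂.symm

end Groth.Agent.S17731
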