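import Groth.Statements.S17733
-- import your own Groth.Agent.* helpers here
import Groth.Agent.Lib.Helper82.EffCartier
import Groth.Agent.S2422

set_option autoImplicit false
universe u
open CDiv

namespace Groth.Agent.S17733

open CategoryTheory AlgebraicGeometry TopologicalSpace Opposite

/-- In an integrally closed domain, if `a` is a root of `p.scaleRoots h` with `p` monic and `h ≠ 0`,
then `h ∣ a`. -/
theorem dvd_of_scaleRoots_eval_eq_zero {R : Type*} [CommRing R] [IsDomain R] [IsIntegrallyClosed R]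
    (h a : R) (hh : h ≠ 0) (p : Polynomial R) (hp : p.Monic)
    (hpa : (p.scaleRoots h).eval a = 0) : h ∣ a := by
  let K := FractionRing R
  let φ := algebraMap R K
  have hφh : φ h ≠ 0 := by
    intro h0
    exact hh ((injective_iff_map_eq_zero φ).mp (IsFractionRing.injective R K) h h0)
  set z : K := φ a / φ h with hz
  have h1 : φ h * z = φ a := by
    rw [hz, mul_div_assoc', mul_div_cancel_left₀ _ hφh]
  have h2 := Polynomial.scaleRoots_eval₂_mul (p := p) φ z h
  rw [h1, Polynomial.eval₂_at_apply, hpa, map_zero] at h2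
  have h3 : Polynomial.eval₂ φ z p = 0 := by
    rcases mul_eq_zero.mp h2.symm with h4 | h4
    · exact absurd (pow_eq_zero_iff (Nat.pos_iff_ne_zero.mp (by
        by_contra hn
        have : p.natDegree = 0 := by omega
        simp [this] at h4)) |>.mp h4) hφh
    · exact h4
  have h4 : IsIntegral R z := ⟨p, hp, h3⟩
  obtain ⟨y, hy⟩ := IsIntegrallyClosed.isIntegral_iff.mp h4
  refine ⟨y, ?_⟩
  apply IsFractionRing.injective R K
  rw [map_mul, hy]
  exact h1.symm

section Glue

variable {X : Scheme.{u}}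

theorem res_res {U V W : X.Opens} (s : Γ(X, U)) (i : V ⟶ U) (j : W ⟶ V) (k : W ⟶ U) :
    (X.presheaf.map j.op) ((X.presheaf.map i.op) s) = (X.presheaf.map k.op) s := by
  rw [← CommRingCat.comp_apply, ← Functor.map_comp]
  rfl

/-- Local-to-global divisibility by a section which is a non-zero-divisor on every smaller open. -/
theorem exists_eq_mul_of_local (V : X.Opens) (a b : Γ(X, V))
    (hnzd : ∀ (V' : X.Opens) (e : V' ≤ V) (c : Γ(X, V')),
      X.presheaf.map (homOfLE e).op b * c = 0 → c = 0)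
    (hloc : ∀ x ∈ V, ∃ (V' : X.Opens) (e : V' ≤ V), x ∈ V' ∧ ∃ c : Γ(X, V'),
      X.presheaf.map (homOfLE e).op a = X.presheaf.map (homOfLE e).op b * c) :
    ∃ c : Γ(X, V), a = b * c := by
  choose V' e hxV' t ht using hloc
  let Vf : V → X.Opens := fun x => V' x.1 x.2
  let tf : ∀ x : V, Γ(X, Vf x) := fun x => t x.1 x.2
  have hcompat : TopCat.Presheaf.IsCompatible X.presheaf Vf tf := by
    intro x y
    have hle : Vf x ⊓ Vf y ≤ V := inf_le_left.trans (e x.1 x.2)
    rw [← sub_eq_zero]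
    apply hnzd (Vf x ⊓ Vf y) hle
    have e1 := congrArg (X.presheaf.map (Opens.infLELeft (Vf x) (Vf y)).op) (ht x.1 x.2)
    have e2 := congrArg (X.presheaf.map (Opens.infLERight (Vf x) (Vf y)).op) (ht y.1 y.2)
    rw [map_mul, res_res _ _ _ (homOfLE hle)] at e1 e2
    rw [res_res _ _ _ (homOfLE hle)] at e1 e2
    rw [mul_sub, ← e1, ← e2, sub_self]
  have hcover : V ≤ iSup Vf := fun x hx => Opens.mem_iSup.2 ⟨⟨x, hx⟩, hxV' x hx⟩
  obtain ⟨c, hc, -⟩ : ∃! c : Γ(X, V), ∀ x : V,
      (X.presheaf.map (homOfLE (e x.1 x.2) : Vf x ⟶ V).op) c = tf x :=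
    TopCat.Sheaf.existsUnique_gluing' X.sheaf Vf V
      (fun x => homOfLE (e x.1 x.2)) hcover tf hcompat
  refine ⟨c, ?_⟩
  apply TopCat.Sheaf.eq_of_locally_eq' X.sheaf Vf V (fun x => homOfLE (e x.1 x.2)) hcover
  intro x
  change (X.presheaf.map (homOfLE (e x.1 x.2) : Vf x ⟶ V).op) a =
    (X.presheaf.map (homOfLE (e x.1 x.2) : Vf x ⟶ V).op) (b * c)
  rw [map_mul, ht x.1 x.2]
  congr 1
  exact (hc x).symm

end Glue

section Main

variable {S S' : Scheme.{u}}

/-- Off the support of `E`, a local generator is invertible. -/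
theorem inf_le_basicOpen (E : S.IdealSheafData) (U : S.Opens)
    (hEU : (E.support : Set S) ⊆ (U : Set S)ᶜ)
    (W : S.affineOpens) (h : Γ(S, W)) (hE : E.ideal W = Ideal.span {h}) :
    (W : S.Opens) ⊓ U ≤ S.basicOpen h := by
  rintro y ⟨hyW, hyU⟩
  have h1 : y ∉ E.support := fun hy => hEU hy hyU
  rw [Scheme.IdealSheafData.mem_support_iff_of_mem (U := W) hyW, Scheme.mem_zeroLocus_iff] at h1
  push Not at h1
  obtain ⟨g, hg, hyg⟩ := h1
  rw [SetLike.mem_coe, hE, Ideal.mem_span_singleton] at hg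
  obtain ⟨c, rfl⟩ := hg
  rw [Scheme.basicOpen_mul] at hyg
  exact hyg.1

/-- The pullback of a local generator is a non-zero-divisor on every open of the preimage. -/
theorem eq_zero_of_mul_eq_zero (f : S' ⟶ S) (U : S.Opens)
    (hU' : CInt.IsSchematicallyDense (f ⁻¹ᵁ U))
    (E : S.IdealSheafData) (hEU : (E.support : Set S) ⊆ (U : Set S)ᶜ)
    (W : S.affineOpens) (h : Γ(S, W)) (hE : E.ideal W = Ideal.span {h})
    (V' : S'.Opens) (e : V' ≤ f ⁻¹ᵁ W) (c : Γ(S', V'))
    (hc : S'.presheaf.map (homOfLE e).op (f.app W h) * c = 0) : c = 0 := by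
  apply hU' V'
  rw [map_zero]
  have hle : V' ⊓ f ⁻¹ᵁ U ≤ S'.basicOpen (f.app W h) := by
    rw [← Scheme.preimage_basicOpen]
    intro y hy
    exact inf_le_basicOpen E U hEU W h hE ⟨e hy.1, hy.2⟩
  have hunit : IsUnit (S'.presheaf.map (homOfLE (inf_le_left : V' ⊓ f ⁻¹ᵁ U ≤ V')).op
      (S'.presheaf.map (homOfLE e).op (f.app W h))) := by
    have h1 := S'.toRingedSpace.isUnit_res_basicOpen (f.app W h)
    have h2 := h1.map (S'.presheaf.map (homOfLE hle).op).hom
    convert h2 using 1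
    rw [res_res _ _ _ (homOfLE (inf_le_left.trans e))]
    exact (res_res _ _ _ (homOfLE (inf_le_left.trans e))).symm
  have h3 := congrArg (S'.presheaf.map (homOfLE (inf_le_left : V' ⊓ f ⁻¹ᵁ U ≤ V')).op) hc
  rw [map_mul, map_zero] at h3
  exact (hunit.mul_right_eq_zero).mp h3

theorem app_injective (f : S' ⟶ S) [QuasiCompact f] (hdom : f.ker = ⊥) (W : S.affineOpens) :
    Function.Injective (f.app W).hom := by
  rw [RingHom.injective_iff_ker_eq_bot, ← Scheme.Hom.ker_apply, hdom]
  rfl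

theorem map_comap_le
    (hnorm : ∀ x : S, IsDomain (S.presheaf.stalk x) ∧ IsIntegrallyClosed (S.presheaf.stalk x))
    (f : S' ⟶ S) [IsProper f] (hdom : f.ker = ⊥)
    (U : S.Opens) (hU' : CInt.IsSchematicallyDense (f ⁻¹ᵁ U))
    (E : S.IdealSheafData) (hEU : (E.support : Set S) ⊆ (U : Set S)ᶜ)
    (W : S.affineOpens) (h : Γ(S, W)) (hh : h ∈ nonZeroDivisors Γ(S, W))
    (hE : E.ideal W = Ideal.span {h}) :
    ((E.comap f).map f).ideal W ≤ E.ideal W := by
  intro a ha
  have hker : ((E.comap f).subschemeι ≫ f).app W a = 0 :=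
    Scheme.Hom.ideal_ker_le ((E.comap f).subschemeι ≫ f) W ha
  -- local divisibility on affine opens of `f⁻¹W`
  have hloc : ∀ x ∈ f ⁻¹ᵁ W, ∃ (V' : S'.Opens) (e : V' ≤ f ⁻¹ᵁ W), x ∈ V' ∧ ∃ c : Γ(S', V'),
      S'.presheaf.map (homOfLE e).op (f.app W a) =
        S'.presheaf.map (homOfLE e).op (f.app W h) * c := by
    intro x hx
    obtain ⟨_, ⟨V', hV', rfl⟩, hxV', e⟩ :=
      S'.isBasis_affineOpens.exists_subset_of_mem_open hx (f ⁻¹ᵁ W.1).isOpen
    refine ⟨V', e, hxV', ?_⟩
    have h1 : S'.presheaf.map (homOfLE e).op (f.app W a) ∈ (E.comap f).ideal ⟨V', hV'⟩ := by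
      rw [← Scheme.IdealSheafData.ker_subschemeι_app, RingHom.mem_ker]
      have h2 := ConcreteCategory.congr_hom
        ((E.comap f).subschemeι.naturality (homOfLE e).op) (f.app W a)
      rw [CommRingCat.comp_apply, CommRingCat.comp_apply] at h2
      erw [h2]
      have hker2 : ((E.comap f).subschemeι.app (f ⁻¹ᵁ W)).hom ((f.app W).hom a) = 0 := hker
      erw [hker2]
      exact map_zero _
    rw [Groth.Agent.Lib.Helper82.ideal_comap_of_le f E V' hV' W.1 W.2 e, hE, Ideal.map_span,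
      Set.image_singleton, Ideal.mem_span_singleton] at h1
    obtain ⟨c, hc⟩ := h1
    exact ⟨c, hc⟩
  obtain ⟨b, hb⟩ := exists_eq_mul_of_local (f ⁻¹ᵁ W) (f.app W a) (f.app W h)
    (fun V' e c hc => eq_zero_of_mul_eq_zero f U hU' E hEU W h hE V' e c hc) hloc
  -- integrality
  obtain ⟨p, hp, hpb⟩ := Groth.Agent.S2422.isIntegral_app_of_isAffineOpen f W.2 b
  have h2 := Polynomial.scaleRoots_eval₂_mul (p := p) (f.app W).hom b h
  rw [hpb, mul_zero] at h2
  have h3 : (f.app W).hom h * b = (f.app W).hom a := hb.symm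
  rw [h3, Polynomial.eval₂_at_apply] at h2
  have h4 : (p.scaleRoots h).eval a = 0 :=
    (injective_iff_map_eq_zero _).mp (app_injective f hdom W) _ h2
  -- stalkwise
  rw [hE, W.2.mem_ideal_iff]
  intro x hx
  rw [Ideal.map_span, Set.image_singleton, Ideal.mem_span_singleton]
  obtain ⟨hd, hic⟩ := hnorm x
  set g := (S.presheaf.germ W x hx).hom with hg
  have h5 : ((p.map g).scaleRoots (g h)).eval (g a) = 0 := by
    rw [← Polynomial.map_scaleRoots _ _ _ (by rw [hp.leadingCoeff, map_one]; exact one_ne_zero),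
      Polynomial.eval_map, Polynomial.eval₂_at_apply, h4, map_zero]
  have hgh : g h ≠ 0 := by
    let := S.presheaf.algebra_section_stalk ⟨x, hx⟩
    have := W.2.isLocalization_stalk ⟨x, hx⟩
    have h6 := IsLocalization.map_nonZeroDivisors_le (W.2.primeIdealOf ⟨x, hx⟩).asIdeal.primeCompl
      (S.presheaf.stalk x) (Submonoid.mem_map_of_mem _ hh)
    exact nonZeroDivisors.ne_zero h6
  exact dvd_of_scaleRoots_eval_eq_zero (g h) (g a) hgh (p.map g) (hp.map g) h5

theorem le_of_comap_le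
    (hnorm : ∀ x : S, IsDomain (S.presheaf.stalk x) ∧ IsIntegrallyClosed (S.presheaf.stalk x))
    (f : S' ⟶ S) [IsProper f] (hdom : f.ker = ⊥)
    (U : S.Opens) (hU' : CInt.IsSchematicallyDense (f ⁻¹ᵁ U))
    (D E : S.IdealSheafData)
    (hE : (∀ x : S, ∃ U : S.affineOpens, x ∈ (U : S.Opens) ∧ ∃ g : Γ(S, U),
      g ∈ nonZeroDivisors Γ(S, U) ∧ E.ideal U = Ideal.span {g}))
    (hEU : (E.support : Set S) ⊆ (U : Set S)ᶜ)
    (h : D.comap f ≤ E.comap f) : D ≤ E := by
  choose WE hxWE gE hgE hEW using hE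
  refine Scheme.IdealSheafData.le_of_iSup_eq_top (fun x => WE x) ?_ ?_
  · rw [eq_top_iff]
    intro x _
    exact Opens.mem_iSup.2 ⟨x, hxWE x⟩
  · intro x
    have h1 : D ≤ (E.comap f).map f :=
      Scheme.IdealSheafData.le_map_iff_comap_le.mpr h
    exact (h1 (WE x)).trans
      (map_comap_le hnorm f hdom U hU' E hEU (WE x) (gE x) (hgE x) (hEW x))

end Main

open CategoryTheory AlgebraicGeometry in
/-- Let S be a locally Noetherian normal scheme (every local ring an integrally closed domain), f : S' →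
S a proper morphism whose scheme-theoretic image is S (its kernel ideal sheaf is zero), and U ⊆ S a
schematically dense open subscheme such that f⁻¹(U) is also schematically dense in S'. Suppose D and
E are effective Cartier divisors of S, encoded by ideal sheaves each locally generated on an affine
open by one non-zero-divisor, with supports disjoint from U. If the pulled-back ideal sheaves of D
and E along f coincide, then D = E. -/
theorem result
    {S S' : Scheme.{u}} [IsLocallyNoetherian S]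
    (hnorm : ∀ x : S, IsDomain (S.presheaf.stalk x) ∧ IsIntegrallyClosed (S.presheaf.stalk x))
    (f : S' ⟶ S) [IsProper f] (hdom : f.ker = ⊥)
    (U : S.Opens) (hU : CInt.IsSchematicallyDense U) (hU' : CInt.IsSchematicallyDense (f ⁻¹ᵁ U))
    (D E : S.IdealSheafData)
    (hD : (∀ x : S, ∃ U : S.affineOpens, x ∈ (U : S.Opens) ∧ ∃ g : Γ(S, U), g ∈ nonZeroDivisors Γ(S, U) ∧ D.ideal U = Ideal.span {g}))
    (hE : (∀ x : S, ∃ U : S.affineOpens, x ∈ (U : S.Opens) ∧ ∃ g : Γ(S, U), g ∈ nonZeroDivisors Γ(S, U) ∧ E.ideal U = Ideal.span {g}))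
    (hDU : (D.support : Set S) ⊆ (U : Set S)ᶜ) (hEU : (E.support : Set S) ⊆ (U : Set S)ᶜ)
    (h : D.comap f = E.comap f) : D = E := by
  apply le_antisymm
  · exact le_of_comap_le hnorm f hdom U hU' D E hE hEU h.le
  · exact le_of_comap_le hnorm f hdom U hU' E D hD hDU h.ge

end Groth.Agent.S17733
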