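import Groth.Statements.S17739
import Mathlib
import Groth.Agent.Lib.Helper31.Qs1

set_option autoImplicit false
open QsChow

namespace Groth.Agent.S17739

/-- For an integer n ≥ 2 put s := n / 2 + 1 (integer part) and, for 2 ≤ j ≤ s, let k_j be the integer
part of the base-2 logarithm of (2n - 1)/(2j - 3); let P := F_2[ε_1, …, ε_s]/(ε_1^n, ε_2^(2^k_2), …,
ε_s^(2^k_s)) over the field F_2 with two elements, and let τ be the F_2-algebra involution of P with
τ(ε_1) = ε_1 and τ(ε_j) = ε_j + ε_1^(2j-3) for 2 ≤ j ≤ s (it exists since (2j-3)·2^k_j ≥ n, and is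
unique). Then the image of the map y ↦ y + τ(y) on P equals the set of products ε_1 · z with z
running over the τ-fixed subalgebra of P. (The printed statement is the same assertion after passing
to the quotients by ε_1^m for 1 ≤ m ≤ n, which follows at once; n ≥ 2 is assumed so that ε_2
exists.) -/
theorem result (n : ℕ) (hn : 2 ≤ n)
    (τ : QsChow.P n →ₐ[ZMod 2] QsChow.P n) (hτ1 : τ (QsChow.eps n 1) = QsChow.eps n 1)
    (hτ : ∀ j : ℕ, 2 ≤ j → j ≤ QsChow.numVars n →
      τ (QsChow.eps n j) = QsChow.eps n j + QsChow.eps n 1 ^ (2 * j - 3)) :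
    Set.range (fun y : QsChow.P n => y + τ y) =
      (fun z : QsChow.P n => QsChow.eps n 1 * z) '' (AlgHom.equalizer τ (AlgHom.id (ZMod 2) (QsChow.P n)) : Set (QsChow.P n)) := by
  classical
  open Groth.Agent.Lib.Helper31.Qs in
  ext w
  constructor
  · rintro ⟨y, rfl⟩
    obtain ⟨y', rfl⟩ := mkP_surj y
    obtain ⟨a, b, rfl⟩ := decomp hn y'
    refine ⟨mkP n (psiL n b), ?_, ?_⟩
    · show τ (mkP n (psiL n b)) = mkP n (psiL n b)
      rw [tau_mk τ hτ1 hτ, tauL_psiL hn]
    · show QsChow.eps n 1 * mkP n (psiL n b) = mkP n (psiL n a + psiL n b * t n) +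
        τ (mkP n (psiL n a + psiL n b * t n))
      rw [tau_mk τ hτ1 hτ, ← map_add, one_add_tauL hn, map_mul, mkP_u]
  · rintro ⟨z, hz, rfl⟩
    have hz' : τ z = z := hz
    refine ⟨QsChow.eps n 2 * z, ?_⟩
    show QsChow.eps n 2 * z + τ (QsChow.eps n 2 * z) = QsChow.eps n 1 * z
    rw [map_mul, hz', hτ 2 le_rfl (numVars_ge hn)]
    have h2 := add_self2 (QsChow.eps n 2 * z)
    norm_num
    linear_combination h2

end Groth.Agent.S17739
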