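import Groth.Statements.S1774
import Groth.Agent.Lib.Helper25.TrivDual

set_option autoImplicit false
universe u
open CategoryTheory
attribute [local instance] HasDerivedCategory.standard
open Dual

namespace Groth.Agent.S1774

/-- Let A → B be a finite homomorphism of Noetherian rings and R : D(A) → D(B) a right adjoint to
restriction of scalars D(B) → D(A). If K in D(A) is bounded below (its cohomology modules vanish
below some degree) and all its cohomology modules are finite A-modules, then all cohomology modules
of R(K) are finite B-modules. -/
theorem result (A B : Type u) [CommRing A] [CommRing B] [Algebra A B] [IsNoetherianRing A] [IsNoetherianRing B] [Module.Finite A B] (R : Dual.D A ⥤ Dual.D B) (adj : DRing.restrictD (algebraMap A B) ⊣ R) (K : Dual.D A) (a : ℤ) (hKa : ∀ i : ℤ, i < a → Subsingleton (Dual.HD A K i)) (hK : ∀ i : ℤ, Module.Finite A (Dual.HD A K i)) (i : ℤ) : Module.Finite B (Dual.HD B (R.obj K) i) := by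
  haveI : K.IsGE a := (DerivedCategory.isGE_iff K a).2 (fun j hj =>
    haveI := hKa j hj
    ModuleCat.isZero_of_subsingleton _)
  exact Groth.Agent.Lib.Helper25.TrivDual.finite_homology_rightAdjoint R adj
    (RingHom.finite_algebraMap.2 inferInstance) K a hK i

end Groth.Agent.S1774
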