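import Groth.Statements.S17740
import Mathlib
import Groth.Agent.Lib.Helper31.Qs1

set_option autoImplicit false
open QsChow

namespace Groth.Agent.S17740

/-- For an integer n ≥ 2 put s := n / 2 + 1 (integer part) and, for 2 ≤ j ≤ s, let k_j be the integer
part of the base-2 logarithm of (2n - 1)/(2j - 3); let P := F_2[ε_1, …, ε_s]/(ε_1^n, ε_2^(2^k_2), …,
ε_s^(2^k_s)) over the field F_2 with two elements, and let τ be the F_2-algebra involution of P with
τ(ε_1) = ε_1 and τ(ε_j) = ε_j + ε_1^(2j-3) for 2 ≤ j ≤ s (it exists since (2j-3)·2^k_j ≥ n, and is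
unique). Let 1 ≤ m ≤ n. If for some y in P the element y + τ(y) lies in the ideal ε_1^m P, then y +
τ(y) = ε_1^m z for some τ-fixed z in P. Equivalently: the map from the τ-fixed subalgebra modulo
ε_1^m to P modulo ε_1^m induced by the inclusion is injective on the image of id + τ. -/
theorem result (n : ℕ) (hn : 2 ≤ n)
    (τ : QsChow.P n →ₐ[ZMod 2] QsChow.P n) (hτ1 : τ (QsChow.eps n 1) = QsChow.eps n 1)
    (hτ : ∀ j : ℕ, 2 ≤ j → j ≤ QsChow.numVars n →
      τ (QsChow.eps n j) = QsChow.eps n j + QsChow.eps n 1 ^ (2 * j - 3))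
    (m : ℕ) (hm1 : 1 ≤ m) (hmn : m ≤ n) (y : QsChow.P n)
    (hy : y + τ y ∈ Ideal.span ({QsChow.eps n 1 ^ m} : Set (QsChow.P n))) :
    ∃ z : QsChow.P n, τ z = z ∧ y + τ y = QsChow.eps n 1 ^ m * z := by
  classical
  open Groth.Agent.Lib.Helper31.Qs in
  obtain ⟨y', rfl⟩ := mkP_surj y
  obtain ⟨a, b, rfl⟩ := decomp hn y'
  have h1 : mkP n (psiL n a + psiL n b * t n) + τ (mkP n (psiL n a + psiL n b * t n)) =
      mkP n (u n * psiL n b) := by
    rw [tau_mk τ hτ1 hτ, ← map_add, one_add_tauL hn]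
  rw [h1] at hy ⊢
  obtain ⟨c, hc⟩ := Ideal.mem_span_singleton'.1 hy
  obtain ⟨c', rfl⟩ := mkP_surj c
  have h2 : u n ^ 1 * psiL n b ∈ QsChow.truncIdeal n ⊔ Ideal.span {u n ^ m} := by
    have h3 : u n * psiL n b - c' * u n ^ m ∈ QsChow.truncIdeal n := by
      rw [← mkP_eq_zero, map_sub, ← hc, map_mul, map_pow, mkP_u, sub_self]
    have e : u n ^ 1 * psiL n b = (u n * psiL n b - c' * u n ^ m) + c' * u n ^ m := by ring
    rw [e]
    exact Submodule.add_mem_sup h3 (Ideal.mul_mem_left _ _ (Ideal.subset_span rfl))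
  obtain ⟨i, hi, d, hb⟩ := colon_u m 1 hmn _ h2
  obtain ⟨c0, c1, rfl⟩ := decomp hn d
  obtain ⟨i0, i1, hi01⟩ := decomp hn i
  set X0 : QsChow.FreeP n := (MvPolynomial.X (⟨0, numVars_pos⟩ : Fin (QsChow.numVars n)) : QsChow.FreeP n) with hX0
  have hdir := decomp_unique hn (b + i0 + X0 ^ (m - 1) * c0) (i1 + X0 ^ (m - 1) * c1) (by
    simp only [map_add, map_mul, map_pow, hX0, psiL_X0]
    rw [hi01] at hb
    linear_combination (add_self2 (psiL n b)) - hb)
  have hi1 : psiL n i1 = u n ^ (m - 1) * psiL n c1 := by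
    have := hdir.1
    simp only [map_add, map_mul, map_pow, hX0, psiL_X0] at this
    have h4 := eq_add_of_add_eq2 this
    rw [zero_add] at h4
    exact h4
  -- `u^m ψ̃ c1 ∈ I`
  have h5 : u n ^ m * psiL n c1 ∈ QsChow.truncIdeal n := by
    have h6 : i + tauL n i ∈ QsChow.truncIdeal n := Ideal.add_mem _ hi (tauL_mem τ hτ1 hτ hi)
    rw [hi01, one_add_tauL hn, hi1] at h6
    have e : u n ^ m * psiL n c1 = u n * (u n ^ (m - 1) * psiL n c1) := by
      rw [← mul_assoc, ← pow_succ']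
      congr 2
      omega
    rw [e]
    exact h6
  obtain ⟨i', hi', d', hc1⟩ := colon_u n m le_rfl (psiL n c1) (Ideal.mem_sup_left h5)
  refine ⟨mkP n (psiL n c0), ?_, ?_⟩
  · rw [tau_mk τ hτ1 hτ, tauL_psiL hn]
  · rw [← mkP_u, ← map_pow, ← map_mul, ← sub_eq_zero, ← map_sub, mkP_eq_zero]
    have e : u n * psiL n b - u n ^ m * psiL n c0 =
        u n * i + (u n ^ m * t n) * i' + (d' * t n) * u n ^ n := by
      have hm' : u n ^ m = u n * u n ^ (m - 1) := by
        rw [← pow_succ']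
        congr 1
        omega
      have hn' : u n ^ n = u n ^ m * u n ^ (n - m) := by
        rw [← pow_add]
        congr 1
        omega
      rw [hb, hn', hm']
      linear_combination (u n * u n ^ (m - 1) * t n) * hc1
    rw [e]
    exact Ideal.add_mem _ (Ideal.add_mem _ (Ideal.mul_mem_left _ _ hi) (Ideal.mul_mem_left _ _ hi'))
      (Ideal.mul_mem_left _ _ u_pow_mem)

end Groth.Agent.S17740
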