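import Groth.Statements.S17741
import Mathlib
import Groth.Agent.Lib.Helper31.Qs1

set_option autoImplicit false
open QsChow

namespace Groth.Agent.S17741

/-- For an integer n ≥ 2 put s := n / 2 + 1 (integer part) and, for 2 ≤ j ≤ s, let k_j be the integer
part of the base-2 logarithm of (2n - 1)/(2j - 3); let P := F_2[ε_1, …, ε_s]/(ε_1^n, ε_2^(2^k_2), …,
ε_s^(2^k_s)) over the field F_2 with two elements, and let τ be the F_2-algebra involution of P with
τ(ε_1) = ε_1 and τ(ε_j) = ε_j + ε_1^(2j-3) for 2 ≤ j ≤ s (it exists since (2j-3)·2^k_j ≥ n, and is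
unique); let ē_1 := ε_1, ē_2 := ε_2^2 + ε_1 ε_2, ē_j := ε_j + ε_1^(2j-4) ε_2 for 3 ≤ j ≤ s and x̄ :=
ε_1^(n-1) ε_2, and let φ : F_2[e_1, …, e_s, x] → P be the F_2-algebra homomorphism with e_j ↦ ē_j
and x ↦ x̄. Then the range of φ is exactly the subalgebra of τ-fixed elements of P. (Together with
the description of the kernel of φ this is the printed isomorphism of the τ-fixed subalgebra modulo
ε_1^m with the stated presentation, for every 1 ≤ m ≤ n.) -/
theorem result (n : ℕ) (hn : 2 ≤ n)
    (τ : QsChow.P n →ₐ[ZMod 2] QsChow.P n) (hτ1 : τ (QsChow.eps n 1) = QsChow.eps n 1)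
    (hτ : ∀ j : ℕ, 2 ≤ j → j ≤ QsChow.numVars n →
      τ (QsChow.eps n j) = QsChow.eps n j + QsChow.eps n 1 ^ (2 * j - 3)) :
    (QsChow.phi n).range = AlgHom.equalizer τ (AlgHom.id (ZMod 2) (QsChow.P n)) := by
  classical
  open Groth.Agent.Lib.Helper31.Qs in
  apply le_antisymm
  · -- the range consists of fixed elements
    rintro _ ⟨q, rfl⟩
    show τ (QsChow.phi n q) = QsChow.phi n q
    rw [← mkP_phiL, tau_mk τ hτ1 hτ]
    have key : ((mkP n).comp (tauL n)).comp (phiL n) = (mkP n).comp (phiL n) := by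
      apply MvPolynomial.algHom_ext
      intro o
      simp only [AlgHom.comp_apply]
      cases o with
      | none =>
        rw [phiL_X_none, map_mul, map_pow, tauL_u, tauL_t hn, mul_add, map_add]
        have e : u n ^ (n - 1) * u n = u n ^ n := by
          rw [← pow_succ]
          congr 1
          omega
        rw [e, mkP_eq_zero.2 u_pow_mem, add_zero]
      | some i =>
        have : phiL n (MvPolynomial.X (some i)) = psiL n (MvPolynomial.X i) := by
          rw [← phiL_rename, MvPolynomial.rename_X]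
        rw [this, tauL_psiL hn]
    exact DFunLike.congr_fun key q
  · -- fixed elements are in the range
    intro z hz
    have hz' : τ z = z := hz
    obtain ⟨z', rfl⟩ := mkP_surj z
    obtain ⟨a, b, rfl⟩ := decomp hn z'
    have h1 : mkP n (u n * psiL n b) = 0 := by
      rw [← one_add_tauL hn a b, map_add, ← tau_mk τ hτ1 hτ, hz']
      exact add_self2 _
    have h2 : u n ^ 1 * psiL n b ∈ QsChow.truncIdeal n ⊔ Ideal.span {u n ^ n} := by
      rw [pow_one]
      exact Ideal.mem_sup_left (mkP_eq_zero.1 h1)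
    obtain ⟨i, hi, d, hb⟩ := colon_u n 1 le_rfl _ h2
    obtain ⟨c0, c1, rfl⟩ := decomp hn d
    have ht2 := t_sq hn
    set X0 : QsChow.FreeP n := (MvPolynomial.X (⟨0, numVars_pos⟩ : Fin (QsChow.numVars n)) : QsChow.FreeP n) with hX0
    set X1 : QsChow.FreeP n := (MvPolynomial.X (⟨1, numVars_ge hn⟩ : Fin (QsChow.numVars n)) : QsChow.FreeP n) with hX1
    refine ⟨MvPolynomial.rename some (a + X0 ^ (n - 1) * c1 * X1) +
      MvPolynomial.rename some c0 * MvPolynomial.X none, ?_⟩
    show QsChow.phi n _ = _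
    rw [← mkP_phiL, map_add, map_mul, phiL_rename, phiL_rename, phiL_X_none, ← sub_eq_zero,
      ← map_sub, mkP_eq_zero]
    simp only [map_add, map_mul, map_pow, hX0, psiL_X0]
    have e : psiL n a + u n ^ (n - 1) * psiL n c1 * psiL n X1 + psiL n c0 * (u n ^ (n - 1) * t n) -
        (psiL n a + psiL n b * t n) = (t n) * i + (psiL n c1 * t n) * u n ^ n + (u n ^ (n - 1) * psiL n c1 * t n * t n + u n ^ (n - 1) * psiL n c1 * t n * t n) := by
      have hn' : u n ^ n = u n ^ (n - 1) * u n := by
        rw [← pow_succ]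
        congr 1
        omega
      rw [hb, hn']
      have h3 := add_self2 (t n * i)
      have h4 := add_self2 (u n ^ (n - 1) * psiL n c1 * t n * t n)
      have h5 := add_self2 (psiL n c1 * t n * (u n ^ (n - 1) * u n))
      linear_combination (-(u n ^ (n - 1) * psiL n c1)) * ht2 - h3 - h4 - h5
    rw [e, add_self2, add_zero]
    exact Ideal.add_mem _ (Ideal.mul_mem_left _ _ hi) (Ideal.mul_mem_left _ _ u_pow_mem)

end Groth.Agent.S17741
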