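import Groth.Statements.S17743
import Groth.Agent.Lib.Helper84.PtChow

set_option autoImplicit false
universe u
open CategoryTheory AlgebraicGeometry
open QsChow

namespace Groth.Agent.S17743

/-- Let K be a separable algebraic field extension of k and suppose that some intermediate field L of K
over k is finite Galois over k with degree [L:k] not of the form p^n for a prime p and n ≥ 0 (so
[L:k] has at least two prime factors). Then the subgroup of the Chow group of zero-cycles of Spec k
generated by the classes of push-forwards from Spec F, over the intermediate fields F of K over k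
that are finite over k and different from k, is the whole group; that is, the conormed Chow group of
the point relative to K over k is zero. (Degree 1 = p^0 must be excluded: for L = K = k the quotient
is ℤ.) -/
theorem result
    (k : Type u) [Field k] (K : Type u) [Field K] [Algebra k K] [Algebra.IsSeparable k K]
    (L : IntermediateField k K) [FiniteDimensional k L] [IsGalois k L]
    (hL : ∀ p n : ℕ, p.Prime → Module.finrank k L ≠ p ^ n) :
    QsChow.ptNormSubgroup k K = ⊤ := by
  classical
  open Groth.Agent.Lib.Helper84.PtChow in
  rw [ptNormSubgroup_eq_comap]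
  suffices h : AddSubgroup.closure (degSet k K) = ⊤ by rw [h, AddSubgroup.comap_top]
  set D := AddSubgroup.closure (Groth.Agent.Lib.Helper84.PtChow.degSet k K) with hD
  -- indices of Sylow subgroups lie in `D`
  have hcard : Nat.card (L ≃ₐ[k] L) = Module.finrank k L := IsGalois.card_aut_eq_finrank k L
  have hsyl : ∀ (p : ℕ) [Fact p.Prime] (P : Sylow p (L ≃ₐ[k] L)),
      ((P : Subgroup (L ≃ₐ[k] L)).index : ℤ) ∈ D := by
    intro p _ P
    apply Groth.Agent.Lib.Helper84.PtChow.index_mem_closure k K L
    intro h1
    rw [Subgroup.index_eq_one] at h1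
    obtain ⟨a, ha⟩ := IsPGroup.iff_card.1 P.isPGroup'
    rw [h1, Subgroup.card_top, hcard] at ha
    exact hL p a Fact.out ha
  obtain ⟨g, hg⟩ := Int.subgroup_cyclic D
  have hg1 : g.natAbs = 1 := by
    by_contra hne
    obtain ⟨l, hl, hlg⟩ := Nat.exists_prime_and_dvd hne
    have : Fact l.Prime := ⟨hl⟩
    let P : Sylow l (L ≃ₐ[k] L) := default
    have hmem := hsyl l P
    rw [hg, AddSubgroup.mem_closure_singleton] at hmem
    obtain ⟨n, hn⟩ := hmem
    have hdvd : (l : ℤ) ∣ ((P : Subgroup (L ≃ₐ[k] L)).index : ℤ) := by
      rw [← hn, smul_eq_mul]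
      exact Dvd.dvd.mul_left (Int.natCast_dvd.2 hlg) n
    exact Sylow.not_dvd_index P (Int.natCast_dvd_natCast.1 hdvd)
  rw [eq_top_iff]
  intro x _
  rw [hg, AddSubgroup.mem_closure_singleton]
  rcases Int.natAbs_eq g with h | h
  · exact ⟨x, by rw [h, hg1, smul_eq_mul]; simp⟩
  · exact ⟨-x, by rw [h, hg1, smul_eq_mul]; simp⟩

end Groth.Agent.S17743
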