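import Groth.Statements.S17744
import Groth.Agent.Lib.Helper84.PtChow

set_option autoImplicit false
universe u
open CategoryTheory AlgebraicGeometry
open QsChow

namespace Groth.Agent.S17744

/-- Let K be a separable algebraic field extension of k, let L be an intermediate field of K over k that
is finite Galois over k of degree p^n with p prime and n ≥ 1, and suppose that every intermediate
field of K over k that is finite over k has degree a power of p. Then the subgroup of the Chow group
of zero-cycles of Spec k generated by the classes of push-forwards from Spec F, over the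
intermediate fields F of K over k that are finite over k and different from k, has index p; that is,
the conormed Chow group of the point relative to K over k is cyclic of order p (the field with p
elements, in the source's ring language). (For n = 0, i.e. L = k, the assertion fails with K = k, so
n ≥ 1 is required.) -/
theorem result
    (k : Type u) [Field k] (K : Type u) [Field K] [Algebra k K] [Algebra.IsSeparable k K]
    (L : IntermediateField k K) [FiniteDimensional k L] [IsGalois k L]
    (p n : ℕ) (hp : p.Prime) (hn : 1 ≤ n) (hL : Module.finrank k L = p ^ n)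
    (hF : ∀ F : IntermediateField k K, FiniteDimensional k F → ∃ e : ℕ, Module.finrank k F = p ^ e) :
    (QsChow.ptNormSubgroup k K).index = p := by
  classical
  haveI : Fact p.Prime := ⟨hp⟩
  rw [Groth.Agent.Lib.Helper84.PtChow.ptNormSubgroup_eq_comap,
    AddSubgroup.index_comap_of_surjective _ (Groth.Agent.Lib.Helper84.PtChow.ev_surjective k)]
  suffices h : AddSubgroup.closure (Groth.Agent.Lib.Helper84.PtChow.degSet k K) =
      AddSubgroup.zmultiples (p : ℤ) by
    rw [h, Int.index_zmultiples, Int.natAbs_natCast]
  apply le_antisymm
  · rw [AddSubgroup.closure_le]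
    rintro d ⟨F, hFfd, hne, m, rfl⟩
    obtain ⟨e, he⟩ := hF F hFfd
    have he0 : e ≠ 0 := by
      rintro rfl
      rw [pow_zero] at he
      exact hne (IntermediateField.finrank_eq_one_iff.1 he)
    rw [SetLike.mem_coe, Int.mem_zmultiples_iff, he]
    obtain ⟨e', rfl⟩ := Nat.exists_eq_succ_of_ne_zero he0
    refine Dvd.dvd.mul_left ?_ m
    rw [pow_succ]
    push_cast
    exact Dvd.intro_left _ rfl
  · rw [AddSubgroup.zmultiples_eq_closure, AddSubgroup.closure_le, Set.singleton_subset_iff]
    have hcard : Nat.card (L ≃ₐ[k] L) = p ^ n := by
      rw [IsGalois.card_aut_eq_finrank k L, hL]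
    obtain ⟨n', rfl⟩ := Nat.exists_eq_succ_of_ne_zero (by omega : n ≠ 0)
    obtain ⟨H, hH⟩ := Sylow.exists_subgroup_card_pow_prime (G := L ≃ₐ[k] L) p (n := n')
      (by rw [hcard]; exact pow_dvd_pow p (Nat.le_succ n'))
    have hidx : H.index = p := by
      have h1 := Subgroup.card_mul_index H
      rw [hH, hcard, pow_succ] at h1
      exact Nat.eq_of_mul_eq_mul_left (pow_pos hp.pos n') h1
    have := Groth.Agent.Lib.Helper84.PtChow.index_mem_closure k K L H
      (by rw [hidx]; exact hp.one_lt.ne')
    rwa [hidx] at this

end Groth.Agent.S17744
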