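import Groth.Statements.S17750
-- import your own Groth.Agent.* helpers here
import Groth.Agent.Lib.Helper85.CanonIdeal
import Groth.Agent.Lib.Helper64.UfdPrincipal
import Groth.Agent.S7701

set_option autoImplicit false
universe u
open Goren

namespace Groth.Agent.S17750

/-- Let B be a regular local ring and p a prime ideal of B such that the integral domain B ⧸ p is a
unique factorization domain. If the local ring B ⧸ p is Cohen–Macaulay then it is Gorenstein, i.e.
has finite injective dimension as a module over itself. (For a unique factorization domain that is a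
quotient of a regular local ring, Cohen–Macaulay and Gorenstein are equivalent; the converse
implication holds for every Noetherian local ring.) -/
theorem result (B : Type u) [CommRing B] [IsRegularLocalRing B] (p : Ideal B) [p.IsPrime] [UniqueFactorizationMonoid (B ⧸ p)] [LocCoh.IsCohenMacaulayLocalRing (B ⧸ p)] : LocCoh.IsGorensteinLocalRing (B ⧸ p) := by
  obtain ⟨r, hr⟩ := ENat.ne_top_iff_exists.mp
    (Ideal.height_ne_top (I := p) (Ideal.IsPrime.ne_top inferInstance))
  obtain ⟨n, hn, E, _, _, f, hf, K, _, _, _, _, _, eK, -, μ, hμ⟩ :=
    Groth.Agent.Lib.Helper85.CanonIdeal.exists_canon_data B p r hr.symm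
  let I : Ideal (B ⧸ p) := LinearMap.range μ
  let eI : K ≃ₗ[B ⧸ p] I := LinearEquiv.ofInjective μ hμ
  rw [Groth.Agent.S7701.result (B ⧸ p) n hn E f hf K eK]
  by_cases hI : I = ⊤
  · exact ⟨eI.trans (LinearEquiv.ofTop _ hI)⟩
  · have hun := Groth.Agent.Lib.Helper85.CanonIdeal.unmixed_of_equiv_canon (B ⧸ p) n hn hf K eK
      I hI eI
    have hminass : ∀ P ∈ I.minimalPrimes,
        P ∈ associatedPrimes (B ⧸ p) ((B ⧸ p) ⧸ I) := by
      intro P hP
      apply Module.associatedPrimes.minimalPrimes_annihilator_subset_associatedPrimes
      rwa [Ideal.annihilator_quotient]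
    obtain ⟨g, hg0, hg⟩ := Groth.Agent.Lib.Helper64.UfdPrincipal.exists_span_singleton_of_ufd
      I (by
        intro P hP
        have hPprime : P.IsPrime := hP.isPrime
        have hIP : I ≤ P := by
          have h7 := hP.annihilator_le
          rwa [Submodule.annihilator_top, Ideal.annihilator_quotient] at h7
        obtain ⟨P', hP'min, hP'P⟩ := Ideal.exists_minimalPrimes_le hIP
        have h1 := hun P' (hminass P' hP'min)
        have h2 := hun P hP
        haveI : P'.IsPrime := hP'min.1.1
        by_contra hne
        have hlt : P' < P := lt_of_le_of_ne hP'P (by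
          rintro rfl
          exact hne hP'min)
        have := Ideal.height_strict_mono_of_isPrime hlt
        rw [h1, h2] at this
        exact lt_irrefl _ this)
      (fun P hP => hun P (hminass P hP))
    exact ⟨eI.trans ((LinearEquiv.ofEq _ _ hg).trans
      (LinearEquiv.toSpanNonzeroSingleton (B ⧸ p) (B ⧸ p) g hg0).symm)⟩

end Groth.Agent.S17750
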