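import Groth.Statements.S17751
-- import your own Groth.Agent.* helpers here
import Mathlib.RingTheory.Ideal.Height
import Mathlib.RingTheory.Ideal.MinimalPrime.Noetherian
import Mathlib.RingTheory.Ideal.Operations
import Mathlib.Tactic

set_option autoImplicit false
universe u
open LocCoh

namespace Groth.Agent.S17751

/-- General form, by induction on `r`. -/
theorem key (R : Type u) [CommRing R] [IsNoetherianRing R] (I : Ideal R) (r : ℕ) :
    ∃ f : Fin r → R, (∀ i, f i ∈ I) ∧ ∀ (p : Ideal R) [p.IsPrime], p.height < r →
      (I ≤ p ↔ Ideal.span (Set.range f) ≤ p) := by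
  classical
  induction r with
  | zero =>
    refine ⟨Fin.elim0, fun i => i.elim0, fun p _ hp => ?_⟩
    simp at hp
  | succ r ih =>
    obtain ⟨f, hfI, hf⟩ := ih
    set J : Ideal R := Ideal.span (Set.range f) with hJ
    have hfin : J.minimalPrimes.Finite := Ideal.finite_minimalPrimes_of_isNoetherianRing R J
    let Q : Finset (Ideal R) := hfin.toFinset.filter (fun q => ¬ I ≤ q)
    have hQprime : ∀ q ∈ Q, q.IsPrime := by
      intro q hq
      have : q ∈ J.minimalPrimes := hfin.mem_toFinset.mp (Finset.mem_filter.mp hq).1
      exact this.1.1
    -- prime avoidance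
    have hx : ∃ x ∈ I, ∀ q ∈ Q, x ∉ q := by
      by_contra hcon
      push Not at hcon
      have hsub : (I : Set R) ⊆ ⋃ q ∈ (↑Q : Set (Ideal R)), (id q : Ideal R) := by
        intro x hx
        obtain ⟨q, hq, hxq⟩ := hcon x hx
        exact Set.mem_biUnion (Finset.mem_coe.mpr hq) hxq
      obtain ⟨q, hq, hIq⟩ := (Ideal.subset_union_prime (s := Q) (f := id) ⊤ ⊤
        (fun q hq _ _ => hQprime q hq)).mp hsub
      exact (Finset.mem_filter.mp hq).2 hIq
    obtain ⟨x, hxI, hxQ⟩ := hx
    refine ⟨Fin.snoc f x, ?_, ?_⟩
    · intro i
      refine Fin.lastCases ?_ (fun j => ?_) i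
      · simpa using hxI
      · simpa using hfI j
    · intro p hp hht
      have hspan : Ideal.span (Set.range (Fin.snoc f x : Fin (r + 1) → R)) = J ⊔ Ideal.span {x} := by
        rw [hJ, ← Ideal.span_union]
        congr 1
        ext y
        constructor
        · rintro ⟨i, rfl⟩
          refine Fin.lastCases ?_ (fun j => ?_) i
          · right
            simp
          · left
            exact ⟨j, by simp⟩
        · rintro (⟨j, rfl⟩ | hy)
          · exact ⟨j.castSucc, by simp⟩
          · refine ⟨Fin.last r, ?_⟩
            simp only [Set.mem_singleton_iff] at hy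
            simp [hy]
      constructor
      · intro hIp
        rw [hspan]
        refine sup_le ?_ ?_
        · rw [hJ, Ideal.span_le]
          rintro _ ⟨j, rfl⟩
          exact hIp (hfI j)
        · rw [Ideal.span_le]
          rintro _ rfl
          exact hIp hxI
      · intro hle
        rw [hspan] at hle
        have hJp : J ≤ p := le_sup_left.trans hle
        have hxp : x ∈ p := hle (Ideal.mem_sup_right (Ideal.subset_span rfl))
        obtain ⟨q, hqmin, hqp⟩ := Ideal.exists_minimalPrimes_le hJp
        have : q.IsPrime := hqmin.1.1
        by_cases hq : q.height < r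
        · exact ((hf q hq).mpr hqmin.1.2).trans hqp
        · -- q has height ≥ r, so q = p
          have hqr : (r : ℕ∞) ≤ q.height := not_lt.mp hq
          have hpr : p.height ≤ r := by
            have : p.height < (r : ℕ∞) + 1 := by exact_mod_cast hht
            exact (ENat.lt_add_one_iff (ENat.natCast_ne_top r)).mp this
          have hqeq : q = p := by
            by_contra hne
            have hlt : q < p := lt_of_le_of_ne hqp hne
            have : q.height < p.height := Ideal.height_strict_mono_of_isPrime hlt
            exact absurd (hqr.trans_lt (this.trans_le hpr)) (lt_irrefl _)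
          subst hqeq
          by_contra hIq
          have : q ∈ Q := Finset.mem_filter.mpr ⟨hfin.mem_toFinset.mpr hqmin, hIq⟩
          exact hxQ q this hxp

/-- Suppose R is a Noetherian ring, r is a natural number, and I is an ideal of R. Then there are
elements f_1, …, f_r of I such that for every prime ideal p of R of height less than r, p contains I
if and only if p contains f_1, …, f_r. (For r = 0 there is nothing to prove.) -/
theorem result (R : Type u) [CommRing R] [IsNoetherianRing R] (I : Ideal R) (r : ℕ) : ∃ f : Fin r → R, (∀ i, f i ∈ I) ∧ ∀ (p : Ideal R) [p.IsPrime], p.height < r → (I ≤ p ↔ Ideal.span (Set.range f) ≤ p) := by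
  exact key R I r

end Groth.Agent.S17751
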