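import Groth.Statements.S17753
-- import your own Groth.Agent.* helpers here
import Groth.Agent.S17751
import Mathlib.RingTheory.Ideal.Height
import Mathlib.RingTheory.LocalRing.MaximalIdeal.Basic
import Mathlib.Tactic

set_option autoImplicit false
universe u
open LocCoh

namespace Groth.Agent.S17753

/-- Let R be a Noetherian local ring of Krull dimension d and I a proper ideal of R. Then there are d
elements f_1, …, f_d of I such that I and the ideal they generate have the same radical, so the
arithmetic rank of I is at most d. (The published statement has no properness hypothesis; for the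
unit ideal of a field, d = 0 and no empty family generates the unit ideal up to radical, and the
published proof uses that the maximal ideal contains I.) -/
theorem result (R : Type u) [CommRing R] [IsNoetherianRing R] [IsLocalRing R] (d : ℕ) (hd : ringKrullDim R = d) (I : Ideal R) (hI : I ≠ ⊤) : ∃ f : Fin d → R, (∀ i, f i ∈ I) ∧ I.radical = (Ideal.span (Set.range f)).radical := by
  obtain ⟨f, hfI, hf⟩ := Groth.Agent.S17751.key R I d
  refine ⟨f, hfI, ?_⟩
  have hIm : I ≤ IsLocalRing.maximalIdeal R := IsLocalRing.le_maximalIdeal hI
  have hfle : Ideal.span (Set.range f) ≤ I := by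
    rw [Ideal.span_le]
    rintro _ ⟨i, rfl⟩
    exact hfI i
  have hall : ∀ (p : Ideal R) [p.IsPrime], (I ≤ p ↔ Ideal.span (Set.range f) ≤ p) := by
    intro p hp
    by_cases hlt : p.height < d
    · exact hf p hlt
    · -- then p is the maximal ideal
      have hpm : p ≤ IsLocalRing.maximalIdeal R := IsLocalRing.le_maximalIdeal hp.ne_top
      have hp_eq : p = IsLocalRing.maximalIdeal R := by
        by_contra hne
        have hlt' : p < IsLocalRing.maximalIdeal R := lt_of_le_of_ne hpm hne
        have h1 : p.height < (IsLocalRing.maximalIdeal R).height :=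
          Ideal.height_strict_mono_of_isPrime hlt'
        have h2 : ((IsLocalRing.maximalIdeal R).height : WithBot ℕ∞) ≤ ringKrullDim R :=
          Ideal.height_le_ringKrullDim_of_isPrime
        rw [hd] at h2
        have h3 : (IsLocalRing.maximalIdeal R).height ≤ (d : ℕ∞) := by exact_mod_cast h2
        exact hlt (h1.trans_le h3)
      subst hp_eq
      exact ⟨fun _ => hfle.trans hIm, fun _ => hIm⟩
  rw [Ideal.radical_eq_sInf, Ideal.radical_eq_sInf]
  congr 1
  ext p
  constructor
  · rintro ⟨h1, h2⟩
    exact ⟨(hall p).mp h1, h2⟩
  · rintro ⟨h1, h2⟩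
    exact ⟨(hall p).mpr h1, h2⟩

end Groth.Agent.S17753
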