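import Groth.Statements.S17754

set_option autoImplicit false
universe u
open CAlg

namespace Groth.Agent.S17754

open IsLocalRing

section
variable (R : Type u) [CommRing R] [IsNoetherianRing R] [IsLocalRing R]

theorem isArtinianRing_quot_pow (k : ℕ) : IsArtinianRing (R ⧸ maximalIdeal R ^ k) := by
  rw [isArtinianRing_iff_krullDimLE_zero,
    Ideal.krullDimLE_zero_quotient_iff_forall_minimalPrimes_isMaximal]
  intro p hp
  have hpp : p.IsPrime := hp.1.1
  have hle : maximalIdeal R ^ k ≤ p := hp.1.2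
  by_cases hk : k = 0
  · subst hk
    rw [pow_zero, Ideal.one_eq_top, top_le_iff] at hle
    exact absurd hle hpp.ne_top
  · rw [Ideal.IsPrime.pow_le_iff hk] at hle
    have : p = maximalIdeal R := le_antisymm (le_maximalIdeal hpp.ne_top) hle
    rw [this]
    infer_instance

theorem mem_of_forall_mem_sup_pow (J : Ideal R) (x : R)
    (h : ∀ k, x ∈ J ⊔ maximalIdeal R ^ k) : x ∈ J := by
  have h0 := Ideal.iInf_pow_smul_eq_bot_of_isLocalRing (R := R) (M := R ⧸ J)
    (maximalIdeal R) (Ideal.IsPrime.ne_top inferInstance)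
  have h1 : (Ideal.Quotient.mk J x) ∈ (⨅ i : ℕ, maximalIdeal R ^ i • ⊤ : Submodule R (R ⧸ J)) := by
    rw [Submodule.mem_iInf]
    intro k
    obtain ⟨a, ha, y, hy, rfl⟩ := Submodule.mem_sup.1 (h k)
    rw [map_add, Ideal.Quotient.eq_zero_iff_mem.2 ha, zero_add]
    have : Ideal.Quotient.mk J y = y • (1 : R ⧸ J) := by
      rw [Algebra.smul_def, mul_one]; rfl
    rw [this]
    exact Submodule.smul_mem_smul hy Submodule.mem_top
  rw [h0, Submodule.mem_bot] at h1
  exact Ideal.Quotient.eq_zero_iff_mem.1 h1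

theorem exists_stable (I : ℕ → Ideal R) (hI : Antitone I) (k : ℕ) :
    ∃ s₀ : ℕ, ∀ s, s₀ ≤ s → I s ⊔ maximalIdeal R ^ k = I s₀ ⊔ maximalIdeal R ^ k := by
  have := isArtinianRing_quot_pow R k
  let f : ℕ →o (Submodule (R ⧸ maximalIdeal R ^ k) (R ⧸ maximalIdeal R ^ k))ᵒᵈ :=
    ⟨fun s => OrderDual.toDual ((I s).map (Ideal.Quotient.mk (maximalIdeal R ^ k))),
      fun a b hab => Ideal.map_mono (hI hab)⟩
  obtain ⟨s₀, hs₀⟩ := IsArtinian.monotone_stabilizes f
  refine ⟨s₀, fun s hs => ?_⟩
  have h1 : (I s₀).map (Ideal.Quotient.mk (maximalIdeal R ^ k)) =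
      (I s).map (Ideal.Quotient.mk (maximalIdeal R ^ k)) := hs₀ s hs
  have h2 := congrArg (Ideal.comap (Ideal.Quotient.mk (maximalIdeal R ^ k))) h1
  rw [Ideal.comap_map_of_surjective _ Ideal.Quotient.mk_surjective,
    Ideal.comap_map_of_surjective _ Ideal.Quotient.mk_surjective,
    ← RingHom.ker_eq_comap_bot, Ideal.mk_ker] at h2
  exact h2.symm

end

/-- Let R be a complete Noetherian local ring with maximal ideal m, and let I_0 ⊇ I_1 ⊇ I_2 ⊇ ⋯ be a
descending sequence of ideals of R whose intersection is zero. Then for every natural number n there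
is an index s with I_s contained in m^n; that is, the filtration by the I_s is at least as fine as
the m-adic one. -/
theorem result (R : Type u) [CommRing R] [IsNoetherianRing R] [IsLocalRing R] [IsAdicComplete (IsLocalRing.maximalIdeal R) R] (I : ℕ → Ideal R) (hI : Antitone I) (hinf : ⨅ s, I s = ⊥) (n : ℕ) : ∃ s : ℕ, I s ≤ IsLocalRing.maximalIdeal R ^ n := by
  by_contra hcon
  push Not at hcon
  have hst := exists_stable R I hI
  choose s hs using hst
  set J : ℕ → Ideal R := fun k => I (s k) ⊔ maximalIdeal R ^ k with hJ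
  have P1 : ∀ k t, s k ≤ t → I t ⊔ maximalIdeal R ^ k = J k := fun k t ht => hs k t ht
  have P2 : ∀ k, ∀ a ∈ J k, ∃ b ∈ J (k + 1), a - b ∈ maximalIdeal R ^ k := by
    intro k a ha
    rw [← P1 k (max (s k) (s (k + 1))) (le_max_left _ _)] at ha
    obtain ⟨b, hb, y, hy, rfl⟩ := Submodule.mem_sup.1 ha
    refine ⟨b, ?_, by rwa [add_sub_cancel_left]⟩
    rw [← P1 (k + 1) (max (s k) (s (k + 1))) (le_max_right _ _)]
    exact Ideal.mem_sup_left hb
  obtain ⟨x₀, hx₀I, hx₀⟩ : ∃ x₀ ∈ I (s n), x₀ ∉ maximalIdeal R ^ n := by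
    have := hcon (s n)
    rw [SetLike.not_le_iff_exists] at this
    exact this
  have hx₀J : x₀ ∈ J n := Ideal.mem_sup_left hx₀I
  choose! g hgmem hgsub using P2
  let X : (j : ℕ) → {a : R // a ∈ J (n + j)} := fun j =>
    Nat.rec ⟨x₀, hx₀J⟩ (fun i xi => ⟨g (n + i) xi.1, hgmem (n + i) xi.1 xi.2⟩) j
  let x : ℕ → R := fun j => (X j).1
  have hx0 : x 0 = x₀ := rfl
  have hxmem : ∀ j, x j ∈ J (n + j) := fun j => (X j).2
  have hxs : ∀ j, x j - x (j + 1) ∈ maximalIdeal R ^ (n + j) := by
    intro j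
    exact hgsub (n + j) (x j) (hxmem j)
  have hxab : ∀ a d, x a - x (a + d) ∈ maximalIdeal R ^ (n + a) := by
    intro a d
    induction d with
    | zero => simp
    | succ d ih =>
      have h1 : x a - x (a + (d + 1)) = (x a - x (a + d)) + (x (a + d) - x (a + d + 1)) := by
        rw [← add_assoc]; ring
      rw [h1]
      refine Ideal.add_mem _ ih ?_
      exact Ideal.pow_le_pow_right (by omega) (hxs (a + d))
  have hprec := (IsAdicComplete.toIsPrecomplete (I := maximalIdeal R) (M := R)).prec'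
    (fun i => x (i - n)) (by
      intro i j hij
      rw [SModEq.sub_mem, smul_eq_mul, Ideal.mul_top]
      have h1 := hxab (i - n) ((j - n) - (i - n))
      have h2 : i - n + ((j - n) - (i - n)) = j - n := by omega
      rw [h2] at h1
      exact Ideal.pow_le_pow_right (by omega) h1)
  obtain ⟨L, hL⟩ := hprec
  have hL' : ∀ i, x (i - n) - L ∈ maximalIdeal R ^ i := by
    intro i
    have := hL i
    rwa [SModEq.sub_mem, smul_eq_mul, Ideal.mul_top] at this
  have hLJ : ∀ k, n ≤ k → L ∈ J k := by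
    intro k hk
    have h1 : x (k - n) ∈ J k := by
      have := hxmem (k - n)
      rwa [Nat.add_sub_cancel' hk] at this
    have h2 : x (k - n) - L ∈ J k := Ideal.mem_sup_right (hL' k)
    have : L = x (k - n) - (x (k - n) - L) := by ring
    rw [this]
    exact Ideal.sub_mem _ h1 h2
  have hLI : ∀ t, L ∈ I t := by
    intro t
    apply mem_of_forall_mem_sup_pow R
    intro k
    have h1 : L ∈ J (max k n) := hLJ _ (le_max_right _ _)
    rw [← P1 (max k n) (max t (s (max k n))) (le_max_right _ _)] at h1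
    refine sup_le_sup (hI (le_max_left _ _)) (Ideal.pow_le_pow_right (le_max_left _ _)) h1
  have hL0 : L = 0 := by
    have : L ∈ ⨅ t, I t := by
      rw [Ideal.mem_iInf]; exact hLI
    rwa [hinf, Ideal.mem_bot] at this
  have := hL' n
  rw [Nat.sub_self, hx0, hL0, sub_zero] at this
  exact hx₀ this

end Groth.Agent.S17754
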