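import Groth.Statements.S17756
-- import your own Groth.Agent.* helpers here
import Groth.Agent.Lib.Helper85.Matlis
import Mathlib.Algebra.Module.SpanRankOperations
import Mathlib.Tactic

set_option autoImplicit false
universe u
open Matlis

namespace Groth.Agent.S17756

theorem isFiniteLength_quot_smul_top (R : Type u) [CommRing R] [IsNoetherianRing R] [IsLocalRing R]
    (M : Type u) [AddCommGroup M] [Module R M] [Module.Finite R M] :
    IsFiniteLength R (M ⧸ (IsLocalRing.maximalIdeal R • (⊤ : Submodule R M))) := by
  letI : Field (R ⧸ IsLocalRing.maximalIdeal R) := Ideal.Quotient.field _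
  have h1 : IsArtinian (R ⧸ IsLocalRing.maximalIdeal R) (M ⧸ (IsLocalRing.maximalIdeal R • (⊤ : Submodule R M))) :=
    inferInstance
  have h2 : IsArtinian R (M ⧸ (IsLocalRing.maximalIdeal R • (⊤ : Submodule R M))) :=
    isArtinian_of_surjective_algebraMap (R := R ⧸ IsLocalRing.maximalIdeal R) Ideal.Quotient.mk_surjective
  exact isFiniteLength_iff_isNoetherian_isArtinian.mpr ⟨inferInstance, h2⟩

theorem length_quot_eq_spanFinrank (R : Type u) [CommRing R] [IsNoetherianRing R] [IsLocalRing R]
    (M : Type u) [AddCommGroup M] [Module R M] [Module.Finite R M] :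
    Module.length R (M ⧸ (IsLocalRing.maximalIdeal R • (⊤ : Submodule R M))) =
      ((⊤ : Submodule R M).spanFinrank : ℕ∞) := by
  letI : Field (R ⧸ IsLocalRing.maximalIdeal R) := Ideal.Quotient.field _
  have h1 := IsLocalRing.spanFinrank_eq_finrank_quotient (⊤ : Submodule R M) Module.Finite.fg_top
  rw [h1]
  have h2 := Module.length_eq_finrank (R ⧸ IsLocalRing.maximalIdeal R)
    ((⊤ : Submodule R M) ⧸ (IsLocalRing.maximalIdeal R • (⊤ : Submodule R (⊤ : Submodule R M))))
  rw [← h2, ← Module.length_eq_of_surjective (S := R) (R := R ⧸ IsLocalRing.maximalIdeal R)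
    Ideal.Quotient.mk_surjective]
  have e : ((⊤ : Submodule R M) ⧸ (IsLocalRing.maximalIdeal R • (⊤ : Submodule R (⊤ : Submodule R M)))) ≃ₗ[R]
      (M ⧸ (IsLocalRing.maximalIdeal R • (⊤ : Submodule R M))) :=
    Submodule.Quotient.equiv _ _ Submodule.topEquiv (by
      rw [Submodule.map_smul'', Submodule.map_top, LinearEquiv.range])
  exact e.length_eq.symm

/-- Let R be a Noetherian local ring with maximal ideal m and residue field k, E an injective hull of k,
and M a finitely generated R-module with Matlis dual M^v = Hom_R(M, E). Then the minimal number of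
generators of M equals the k-dimension of the socle of M^v, the submodule of elements of M^v killed
by m (stated as its length as an R-module). -/
theorem result (R : Type u) [CommRing R] [IsNoetherianRing R] [IsLocalRing R] (E : Type u) [AddCommGroup E] [Module R E] (f : IsLocalRing.ResidueField R →ₗ[R] E) (hf : InjHull.IsInjectiveHull f) (M : Type u) [AddCommGroup M] [Module R M] [Module.Finite R M] : ((⊤ : Submodule R M).spanFinrank : ℕ∞) = Module.length R (LocCoh.torsionBy (IsLocalRing.maximalIdeal R) (M →ₗ[R] E)) := by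
  rw [← length_quot_eq_spanFinrank, ← Groth.Agent.Lib.Helper85.Matlis.length_hom hf _ (isFiniteLength_quot_smul_top R M)]
  -- Hom(M/mM, E) ≃ Soc(Hom(M,E))
  let P : Submodule R M := IsLocalRing.maximalIdeal R • (⊤ : Submodule R M)
  let α : ((M ⧸ P) →ₗ[R] E) →ₗ[R] (M →ₗ[R] E) := LinearMap.lcomp R E P.mkQ
  have hα : Function.Injective α := by
    intro φ ψ hφψ
    apply LinearMap.ext
    intro y
    obtain ⟨y, rfl⟩ := Submodule.mkQ_surjective P y
    exact LinearMap.congr_fun hφψ y
  have hrange : LinearMap.range α = LocCoh.torsionBy (IsLocalRing.maximalIdeal R) (M →ₗ[R] E) := by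
    apply le_antisymm
    · rintro _ ⟨ψ, rfl⟩
      rw [Submodule.mem_torsionBySet_iff]
      rintro ⟨a, ha⟩
      apply LinearMap.ext
      intro x
      change a • ψ (P.mkQ x) = 0
      rw [← map_smul, ← map_smul]
      have : P.mkQ (a • x) = 0 := (Submodule.Quotient.mk_eq_zero P).mpr
        (Submodule.smul_mem_smul ha trivial)
      rw [this, map_zero]
    · intro φ hφ
      rw [Submodule.mem_torsionBySet_iff] at hφ
      have hle : P ≤ LinearMap.ker φ := by
        change IsLocalRing.maximalIdeal R • (⊤ : Submodule R M) ≤ _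
        rw [Submodule.smul_le]
        intro a ha x _
        rw [LinearMap.mem_ker, map_smul]
        exact LinearMap.congr_fun (hφ ⟨a, ha⟩) x
      exact ⟨P.liftQ φ hle, P.liftQ_mkQ φ hle⟩
  rw [(LinearEquiv.ofInjective α hα).length_eq, hrange]

end Groth.Agent.S17756
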