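import Groth.Statements.S17758
import Groth.Agent.Lib.Helper92.HLVTConn
import Groth.Agent.S11668

set_option autoImplicit false
universe u
open LocCoh

namespace Groth.Agent.S17758

open Groth.Agent.Lib.Helper92 Groth.Agent.Lib.Helper92.HLVT IsLocalRing

theorem one_le_dim_of_prime_ne_maximal {R : Type u} [CommRing R] [IsLocalRing R]
    (a x : Ideal R) [hx : x.IsPrime] (hax : a ≤ x) (hxm : x ≠ maximalIdeal R) :
    1 ≤ ringKrullDim (R ⧸ a) := by
  have hlt : x < maximalIdeal R := lt_of_le_of_ne (le_maximalIdeal hx.ne_top) hxm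
  have h2 := SDim.ringKrullDim_quotient_add_one_le hlt
  have h0 : (0 : WithBot ℕ∞) ≤ ringKrullDim (R ⧸ maximalIdeal R) :=
    ringKrullDim_nonneg_of_nontrivial
  have h3 : ringKrullDim (R ⧸ x) ≤ ringKrullDim (R ⧸ a) :=
    ringKrullDim_le_of_surjective (Ideal.Quotient.factor hax) (Ideal.Quotient.factor_surjective hax)
  calc (1 : WithBot ℕ∞) = 0 + 1 := by simp
    _ ≤ ringKrullDim (R ⧸ maximalIdeal R) + 1 := add_le_add_left h0 1
    _ ≤ _ := h2
    _ ≤ _ := h3

open PrimeSpectrum in
/-- Let R be a complete Noetherian local domain of Krull dimension d with maximal ideal m, and I a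
proper ideal of R of arithmetic rank at most d − 2: there are elements f_1, …, f_t with t + 2 ≤ d
such that I and (f_1, …, f_t) have the same radical. Then the punctured spectrum of R ⧸ I, viewed as
the set of prime ideals of R that contain I and differ from m, is a nonempty connected subset of
Spec R. (Connectedness is taken here to include nonemptiness, so the unit ideal, whose punctured
spectrum is empty, is excluded; for a proper I nonemptiness is automatic, since otherwise I would be
m-primary and m would be minimal over an ideal generated by t ≤ d − 2 elements, against Krull's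
height bound.) -/
theorem result (R : Type u) [CommRing R] [IsDomain R] [IsNoetherianRing R] [IsLocalRing R] [IsAdicComplete (IsLocalRing.maximalIdeal R) R] (d : ℕ) (hd : ringKrullDim R = d) (t : ℕ) (ht : t + 2 ≤ d) (f : Fin t → R) (I : Ideal R) (hItop : I ≠ ⊤) (hI : I.radical = (Ideal.span (Set.range f)).radical) : IsConnected {x : PrimeSpectrum R | I ≤ x.asIdeal ∧ x.asIdeal ≠ IsLocalRing.maximalIdeal R} := by
  classical
  let T : Finset R := Finset.univ.image f
  have hT : (T : Set R) = Set.range f := by
    rw [Finset.coe_image, Finset.coe_univ, Set.image_univ]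
  have hTcard : T.card ≤ t := by
    have := Finset.card_image_le (s := (Finset.univ : Finset (Fin t))) (f := f)
    simpa using this
  have hIm : I ≤ maximalIdeal R := le_maximalIdeal hItop
  have hspan_le : Ideal.span (Set.range f) ≤ maximalIdeal R := by
    have h1 : Ideal.span (Set.range f) ≤ I.radical := by rw [hI]; exact Ideal.le_radical
    have h2 : I.radical ≤ maximalIdeal R := by
      have := Ideal.radical_mono hIm
      rwa [(maximalIdeal.isMaximal R).isPrime.radical] at this
    exact h1.trans h2
  have hcdI : LocCoh.CdLE R I t := by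
    have h1 : LocCoh.CdLE R (Ideal.span (T : Set R)) T.card := LC.cdLE_span_finset T
    have h2 : LocCoh.CdLE R (Ideal.span (T : Set R)) t :=
      fun M _ _ i hi => h1 M i (lt_of_le_of_lt hTcard hi)
    rw [hT] at h2
    exact cdLE_of_radical_eq hI.symm t h2
  refine ⟨?_, ?_⟩
  · -- nonempty
    have hTm : (T : Set R) ⊆ Ring.jacobson R := by
      rw [IsLocalRing.ringJacobson_eq_maximalIdeal, hT]
      exact fun x hx => hspan_le (Ideal.subset_span hx)
    have h1 := ringKrullDim_le_ringKrullDim_quotient_add_card T hTm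
    rw [hT, hd] at h1
    have h2 : 1 ≤ ringKrullDim (R ⧸ Ideal.span (Set.range f)) := by
      by_contra hcon
      have h3 := Groth.Agent.S11668.le_zero_of_lt_one _ (not_le.1 hcon)
      have h4 : (d : WithBot ℕ∞) ≤ (T.card : WithBot ℕ∞) := by
        calc (d : WithBot ℕ∞) ≤ ringKrullDim (R ⧸ Ideal.span (Set.range f)) + T.card := h1
          _ ≤ 0 + T.card := add_le_add_left h3 _
          _ = T.card := zero_add _
      have h5 : d ≤ T.card := by exact_mod_cast h4
      omega
    obtain ⟨P, hP, hle, hdim⟩ := exists_prime_coheight_one _ h2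
    haveI := hP
    refine ⟨⟨P, hP⟩, ?_, ne_maximalIdeal_of_dim_quot_eq_one P hdim⟩
    have h3 : I.radical ≤ P := by
      rw [hI]
      exact (Ideal.IsPrime.radical_le_iff hP).2 hle
    exact Ideal.le_radical.trans h3
  · rw [isPreconnected_closed_iff]
    intro Z Z' hZ hZ' hsub hne hne'
    obtain ⟨a0, rfl⟩ := (isClosed_iff_zeroLocus_ideal Z).1 hZ
    obtain ⟨b0, rfl⟩ := (isClosed_iff_zeroLocus_ideal Z').1 hZ'
    by_contra hempty
    rw [Set.not_nonempty_iff_eq_empty] at hempty
    obtain ⟨x, ⟨hxI, hxm⟩, hxa⟩ := hne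
    obtain ⟨y, ⟨hyI, hym⟩, hyb⟩ := hne'
    rw [mem_zeroLocus, SetLike.coe_subset_coe] at hxa hyb
    have ha1 : 1 ≤ ringKrullDim (R ⧸ (a0 ⊔ I)) :=
      one_le_dim_of_prime_ne_maximal (a0 ⊔ I) x.asIdeal (sup_le hxa hxI) hxm
    have hb1 : 1 ≤ ringKrullDim (R ⧸ (b0 ⊔ I)) :=
      one_le_dim_of_prime_ne_maximal (b0 ⊔ I) y.asIdeal (sup_le hyb hyI) hym
    have ham : a0 ⊔ I ≤ maximalIdeal R :=
      (sup_le hxa hxI).trans (le_maximalIdeal x.2.ne_top)
    have hbm : b0 ⊔ I ≤ maximalIdeal R :=
      (sup_le hyb hyI).trans (le_maximalIdeal y.2.ne_top)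
    -- radical of the sum
    have hrad : ((a0 ⊔ I) ⊔ (b0 ⊔ I)).radical = maximalIdeal R := by
      apply le_antisymm
      · have := Ideal.radical_mono (sup_le ham hbm)
        rwa [(maximalIdeal.isMaximal R).isPrime.radical] at this
      · rw [Ideal.radical_eq_sInf]
        refine le_sInf fun Q ⟨hle, hQ⟩ => ?_
        by_contra hcon
        have hQm : Q ≠ maximalIdeal R := fun h => hcon (le_of_eq h.symm)
        have hmem : (⟨Q, hQ⟩ : PrimeSpectrum R) ∈
            {x : PrimeSpectrum R | I ≤ x.asIdeal ∧ x.asIdeal ≠ maximalIdeal R} ∩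
              (zeroLocus (a0 : Set R) ∩ zeroLocus (b0 : Set R)) := by
          refine ⟨⟨(le_sup_right.trans le_sup_left).trans hle, hQm⟩, ?_, ?_⟩
          · rw [mem_zeroLocus, SetLike.coe_subset_coe]
            exact (le_sup_left.trans le_sup_left).trans hle
          · rw [mem_zeroLocus, SetLike.coe_subset_coe]
            exact (le_sup_left.trans le_sup_right).trans hle
        rw [hempty] at hmem
        exact hmem
    -- radical of the intersection
    have hrad2 : ((a0 ⊔ I) ⊓ (b0 ⊔ I)).radical = I.radical := by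
      apply le_antisymm
      · rw [Ideal.radical_le_radical_iff, Ideal.radical_eq_sInf I]
        refine le_sInf fun Q ⟨hle, hQ⟩ => ?_
        by_cases hQm : Q = maximalIdeal R
        · rw [hQm]; exact inf_le_left.trans ham
        · have hmem : (⟨Q, hQ⟩ : PrimeSpectrum R) ∈
              {x : PrimeSpectrum R | I ≤ x.asIdeal ∧ x.asIdeal ≠ maximalIdeal R} := ⟨hle, hQm⟩
          rcases hsub hmem with h | h
          · rw [mem_zeroLocus, SetLike.coe_subset_coe] at h
            exact inf_le_left.trans (sup_le h hle)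
          · rw [mem_zeroLocus, SetLike.coe_subset_coe] at h
            exact inf_le_right.trans (sup_le h hle)
      · exact Ideal.radical_mono (le_inf le_sup_right le_sup_right)
    obtain ⟨m, rfl⟩ : ∃ m, d = m + 1 := ⟨d - 1, by omega⟩
    have hnt := nontrivial_H_inf R m hd _ _ ha1 hb1 hrad
    have hcd := cdLE_of_radical_eq hrad2.symm t hcdI
    exact not_subsingleton_iff_nontrivial.2 hnt (hcd R m (by omega))

end Groth.Agent.S17758
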