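import Groth.Statements.S17763
import Groth.Agent.Lib.Helper98.LCTop

set_option autoImplicit false
universe u
open LocCoh

namespace Groth.Agent.S17763

open Groth.Agent.Lib.Helper98.LCTop Groth.Agent.Lib.Helper92.LC


/-- Let R be a Noetherian local ring of Krull dimension d. Then the following are equivalent: (1)
H^d_I(R) = 0 for every ideal I of R such that R ⧸ I has positive dimension; (2) H^d_p(R) = 0 for
every prime ideal p of R such that R ⧸ p has dimension one. -/
theorem result (R : Type u) [CommRing R] [IsNoetherianRing R] [IsLocalRing R] (d : ℕ) (hd : ringKrullDim R = d) : (∀ I : Ideal R, 0 < ringKrullDim (R ⧸ I) → Subsingleton (LocCoh.H I d R)) ↔ (∀ (p : Ideal R) [p.IsPrime], ringKrullDim (R ⧸ p) = 1 → Subsingleton (LocCoh.H p d R)) := by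
  have hpos : ∀ a : WithBot ℕ∞, 0 < a → 1 ≤ a := by
    intro a ha
    induction a using WithBot.recBotCoe with
    | bot => exact absurd ha not_lt_bot
    | coe b =>
      have hb : (0 : ℕ∞) < b := by exact_mod_cast ha
      have : (1 : ℕ∞) ≤ b := Order.one_le_iff_pos.2 hb
      exact_mod_cast this
  constructor
  · intro h p _ hp
    apply h p
    rw [hp]
    exact zero_lt_one
  · intro h I hI
    -- a prime `q ⊇ I`, `q ≠ 𝔪`, maximal with these properties
    rw [ringKrullDim_quotient, Order.krullDim_pos_iff] at hI
    obtain ⟨x, y, hxy⟩ := hI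
    have hxm : x.1.asIdeal ≠ IsLocalRing.maximalIdeal R := by
      intro heq
      have hy : y.1.asIdeal ≤ IsLocalRing.maximalIdeal R :=
        IsLocalRing.le_maximalIdeal y.1.isPrime.ne_top
      have hlt : x.1.asIdeal < y.1.asIdeal := hxy
      rw [heq] at hlt
      exact absurd hy (not_le_of_gt hlt)
    let S : Set (Ideal R) := {q | q.IsPrime ∧ I ≤ q ∧ q ≠ IsLocalRing.maximalIdeal R}
    have hS : S.Nonempty := ⟨x.1.asIdeal, x.1.isPrime, (PrimeSpectrum.mem_zeroLocus _ _).1 x.2, hxm⟩
    obtain ⟨q, ⟨hqprime, hIq, hqm⟩, hqmax⟩ := set_has_maximal_iff_noetherian.2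
      (inferInstance : IsNoetherian R R) S hS
    have hqle : q ≤ IsLocalRing.maximalIdeal R := IsLocalRing.le_maximalIdeal hqprime.ne_top
    -- `dim R/q = 1`
    have hdim : ringKrullDim (R ⧸ q) = 1 := by
      rw [ringKrullDim_quotient]
      apply le_antisymm
      · rw [Order.krullDim_le_one_iff]
        intro z
        by_cases hz : z.1.asIdeal = q
        · left
          intro w hw
          have hqw : q ≤ w.1.asIdeal := (PrimeSpectrum.mem_zeroLocus _ _).1 w.2
          have h1 : w.1.asIdeal ≤ z.1.asIdeal := hw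
          have h2 : z.1.asIdeal ≤ w.1.asIdeal := by rw [hz]; exact hqw
          exact h2
        · right
          have hqz : q ≤ z.1.asIdeal := (PrimeSpectrum.mem_zeroLocus _ _).1 z.2
          have hzm : z.1.asIdeal = IsLocalRing.maximalIdeal R := by
            by_contra hne
            have hmem : z.1.asIdeal ∈ S := ⟨z.1.isPrime, hIq.trans hqz, hne⟩
            exact hqmax _ hmem (lt_of_le_of_ne hqz (Ne.symm hz))
          intro w hw
          have h1 : w.1.asIdeal ≤ IsLocalRing.maximalIdeal R :=
            IsLocalRing.le_maximalIdeal w.1.isPrime.ne_top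
          have : w.1.asIdeal ≤ z.1.asIdeal := by rw [hzm]; exact h1
          exact this
      · apply hpos
        rw [Order.krullDim_pos_iff]
        refine ⟨⟨⟨q, hqprime⟩, ?_⟩, ⟨IsLocalRing.closedPoint R, ?_⟩, ?_⟩
        · rw [PrimeSpectrum.mem_zeroLocus]
        · rw [PrimeSpectrum.mem_zeroLocus]; exact hqle
        · change q < IsLocalRing.maximalIdeal R
          exact lt_of_le_of_ne hqle hqm
    have hq0 := @h q hqprime hdim
    rw [← not_nontrivial_iff_subsingleton] at hq0 ⊢
    intro hne
    exact hq0 (nontrivial_of_le d hd (ModuleCat.of R R) I q hIq hqle hne)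

end Groth.Agent.S17763
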