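import Groth.Statements.S17765
import Groth.Agent.Lib.Helper77.RegularCM
import Groth.Agent.Lib.Helper77.AuslanderBuchsbaum
import Groth.Agent.Lib.Helper77.RegularLocalization
import Groth.Agent.S11657
import Mathlib.RingTheory.Ideal.AssociatedPrime.Localization

set_option autoImplicit false
universe u
open CategoryTheory
open LocCoh

namespace Groth.Agent.S17765

section Aux
open IsLocalRing CategoryTheory LocCoh


theorem main (B : Type u) [CommRing B] [IsRegularLocalRing B] (M : Type u) [AddCommGroup M] [Module B M] [Module.Finite B M] (p : Ideal B) (hp : p ∈ associatedPrimes B M) (n : ℕ) (hn : HasProjectiveDimensionLE (ModuleCat.of B M) n) : p.height ≤ n := by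
  have hpp : p.IsPrime := IsAssociatedPrime.isPrime hp
  have hreg : IsRegularLocalRing (Localization.AtPrime p) :=
    Groth.Agent.Lib.Helper77.RegularLocalization.localization_regular B p
  have h1 : HasProjectiveDimensionLE ((ModuleCat.of B M).localizedModule p.primeCompl) n :=
    ModuleCat.localizedModule_hasProjectiveDimensionLE n p.primeCompl _
  have h2 : HasProjectiveDimensionLE (ModuleCat.of (Localization.AtPrime p)
      (LocalizedModule p.primeCompl M)) n :=
    hasProjectiveDimensionLT_of_iso (Groth.Agent.S11657.locIso p.primeCompl (ModuleCat.of B M)) (n + 1)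
  have h3 : maximalIdeal (Localization.AtPrime p) ∈
      associatedPrimes (Localization.AtPrime p) (LocalizedModule p.primeCompl M) :=
    Module.associatedPrimes.mem_associatedPrimes_atPrime_of_mem_associatedPrimes hp
  have h4 : depth (Localization.AtPrime p) (LocalizedModule p.primeCompl M) = 0 :=
    (Groth.Agent.Lib.Helper67.depth_eq_zero_iff _).mpr h3
  have hnt : Nontrivial (LocalizedModule p.primeCompl M) := by
    by_contra hcon
    rw [not_nontrivial_iff_subsingleton] at hcon
    rw [associatedPrimes.eq_empty_of_subsingleton] at h3
    exact h3
  have h5 := Groth.Agent.Lib.Helper77.RegularCM.depth_eq_dim (Localization.AtPrime p)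
  have h6 : ringKrullDim (Localization.AtPrime p) = p.height :=
    IsLocalization.AtPrime.ringKrullDim_eq_height p (Localization.AtPrime p)
  rw [← projectiveDimension_le_iff] at h2
  generalize hd : projectiveDimension (ModuleCat.of (Localization.AtPrime p)
      (LocalizedModule p.primeCompl M)) = d at h2
  induction d with
  | bot =>
    rw [projectiveDimension_eq_bot_iff, ModuleCat.isZero_iff_subsingleton] at hd
    exact absurd hnt (not_nontrivial_iff_subsingleton.mpr hd)
  | coe d =>
    induction d with
    | top =>
      exfalso
      have h8 : ((⊤ : ℕ∞) : WithBot ℕ∞) ≤ ((n : ℕ∞) : WithBot ℕ∞) := h2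
      rw [WithBot.coe_le_coe, top_le_iff] at h8
      exact ENat.natCast_ne_top n h8
    | coe e =>
      have hAB := Groth.Agent.Lib.Helper77.AuslanderBuchsbaum.auslander_buchsbaum
        (Localization.AtPrime p) (LocalizedModule p.primeCompl M) e hd
      rw [h4, add_zero] at hAB
      rw [hAB, h6] at h5
      have h7 : p.height = (e : ℕ∞) := by exact_mod_cast h5.symm
      rw [h7]
      exact_mod_cast h2


end Aux

/-- Let B be a regular local ring, M a finitely generated B-module and p an associated prime ideal of M.
Then the height of p is at most the projective dimension of M: for every n such that M has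
projective dimension at most n, ht p ≤ n. -/
theorem result (B : Type u) [CommRing B] [IsRegularLocalRing B] (M : Type u) [AddCommGroup M] [Module B M] [Module.Finite B M] (p : Ideal B) (hp : p ∈ associatedPrimes B M) (n : ℕ) (hn : HasProjectiveDimensionLE (ModuleCat.of B M) n) : p.height ≤ n := by
  exact main B M p hp n hn

end Groth.Agent.S17765
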