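import Groth.Statements.S17766
-- import your own Groth.Agent.* helpers here
import Groth.Agent.Lib.Helper85.CanonIdeal

set_option autoImplicit false
universe u
open CategoryTheory Opposite
open LocCoh

namespace Groth.Agent.S17766

/-- Let B be a regular local ring, p a prime ideal of B of height r, and suppose that A = B ⧸ p is
Cohen–Macaulay. Then the B-module Ext^r_B(A, B) is isomorphic either to A itself or to a proper
ideal I of A which is unmixed of height one, i.e. every associated prime of A ⧸ I has height one in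
A (existence of a B-linear isomorphism in each case). -/
theorem result (B : Type u) [CommRing B] [IsRegularLocalRing B] (p : Ideal B) [p.IsPrime] [LocCoh.IsCohenMacaulayLocalRing (B ⧸ p)] (r : ℕ) (hr : p.height = r) : Nonempty (((Ext B (ModuleCat.{u} B) r).obj (op (ModuleCat.of B (B ⧸ p)))).obj (ModuleCat.of B B) ≃ₗ[B] (B ⧸ p)) ∨ ∃ I : Ideal (B ⧸ p), I ≠ ⊤ ∧ (∀ q ∈ associatedPrimes (B ⧸ p) ((B ⧸ p) ⧸ I), q.height = 1) ∧ Nonempty (((Ext B (ModuleCat.{u} B) r).obj (op (ModuleCat.of B (B ⧸ p)))).obj (ModuleCat.of B B) ≃ₗ[B] I) := by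
  obtain ⟨n, hn, E, _, _, f, hf, K, _, _, _, _, _, eK, Φ, μ, hμ⟩ :=
    Groth.Agent.Lib.Helper85.CanonIdeal.exists_canon_data B p r hr
  let eI : K ≃ₗ[B ⧸ p] LinearMap.range μ := LinearEquiv.ofInjective μ hμ
  by_cases hI : LinearMap.range μ = ⊤
  · left
    exact ⟨Φ.trans ((eI.trans (LinearEquiv.ofTop _ hI)).restrictScalars B)⟩
  · right
    refine ⟨LinearMap.range μ, hI, ?_, ⟨Φ.trans (eI.restrictScalars B)⟩⟩
    exact Groth.Agent.Lib.Helper85.CanonIdeal.unmixed_of_equiv_canon (B ⧸ p) n hn hf K eK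
      (LinearMap.range μ) hI eI

end Groth.Agent.S17766
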