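import Groth.Statements.S1777
import Groth.Agent.Lib.Helper89.Bass2

set_option autoImplicit false
universe u
open CategoryTheory
attribute [local instance] HasDerivedCategory.standard
open Dual

namespace Groth.Agent.S1777

/-- Let A → B be a flat local homomorphism of Noetherian local rings with m_A B = m_B and ω a normalized
dualizing complex for A. Assuming the derived base change functor D(A) → D(B) exists, the base
change of ω is a normalized dualizing complex for B. -/
theorem result (A B : Type u) [CommRing A] [CommRing B] [IsLocalRing A] [IsLocalRing B] [Algebra A B] [IsLocalHom (algebraMap A B)] [IsNoetherianRing A] [IsNoetherianRing B] [Module.Flat A B] (hm : (IsLocalRing.maximalIdeal A).map (algebraMap A B) = IsLocalRing.maximalIdeal B) [DRing.HasLBaseChange (algebraMap A B)] (ω : Dual.D A) (hω : Dual.IsDualizing A ω) (hn : Dual.IsNormalized A ω) : Dual.IsDualizing B ((DRing.LBaseChange (algebraMap A B)).obj ω) ∧ Dual.IsNormalized B ((DRing.LBaseChange (algebraMap A B)).obj ω) := by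
  haveI hflat : Module.Flat A B := inferInstance
  have hm' : (IsLocalRing.maximalIdeal A).map (algebraMap A B) = IsLocalRing.maximalIdeal B :=
    hm
  have hf : (algebraMap A B).Flat := RingHom.flat_algebraMap_iff.2 hflat
  haveI : Limits.PreservesFiniteLimits
      (Groth.Agent.Lib.Helper84.FlatBC.ext (algebraMap A B)) :=
    Groth.Agent.Lib.Helper84.FlatBC.preservesFiniteLimits_ext _ hf
  have e := (Groth.Agent.Lib.Helper15.LBCFlat.lbcFlatIso (algebraMap A B)).app ω
  have hmax : ∀ n : Ideal B, n.IsMaximal → ∃ m : Ideal A, n = m.map (algebraMap A B) :=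
    fun n hn => ⟨IsLocalRing.maximalIdeal A, by rw [hm', IsLocalRing.eq_maximalIdeal hn]⟩
  have h1 := Groth.Agent.Lib.Helper89.Bass.isDualizing_bc (algebraMap A B) hf hmax ω hω
  have h2 := Groth.Agent.Lib.Helper89.Bass.isNormalized_bc (algebraMap A B) hf hm' ω hω hn
  refine ⟨Groth.Agent.Lib.Helper25.Bidual.isDualizing_of_iso e.symm h1, ?_⟩
  intro i hi
  haveI := h2 i hi
  exact @Equiv.subsingleton _ _
    ((Iso.refl (Dual.inD B (IsLocalRing.ResidueField B))).homCongr
      ((shiftFunctor (Dual.D B) i).mapIso e)) (h2 i hi)

end Groth.Agent.S1777
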