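import Groth.Statements.S17772
import Groth.Agent.Lib.Helper8.GrLCEulerMain
import Groth.Agent.Lib.Helper8.GrLCCM

set_option autoImplicit false
universe u
open GrLC

namespace Groth.Agent.S17772

/-- Let R = ⊕_{n ≥ 0} R_n be a positively ℤ-graded ring which is standard graded (irrelevant ideal
generated by R_1), with R_0 Artinian, *local with unique homogeneous maximal ideal m, and
Cohen–Macaulay of Krull dimension d; let H_R(n) = ℓ_{R_0}(R_n) be its Hilbert function and P_R ∈
ℚ[X] its Hilbert polynomial (a polynomial agreeing with H_R for all large n, taken as given). Then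
the a-invariant of R, the largest degree in which H^d_m(R) is nonzero (computed from any *injective
resolution of R), equals the supremum of the integers n with P_R(n) ≠ H_R(n). (The published text
writes 'min' for this supremum; the set of such n is unbounded below whenever it is nonempty, e.g.
all n < 0 for a polynomial ring over a field, and the published one-line proof H_R(n) − P_R(n) =
(−1)^d ℓ(H^d_m(R)_n) identifies the set with the nonzero degrees of H^d_m(R), whose largest element
is a(R).) -/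
theorem result (R : Type u) [CommRing R] [LocCoh.IsCohenMacaulayRing R] (𝒜 : ℤ → AddSubgroup R) [GradedRing 𝒜] (hpos : ∀ n : ℤ, n < 0 → 𝒜 n = ⊥) (hstd : Ideal.span (⋃ n ∈ Set.Ioi (0 : ℤ), (𝒜 n : Set R)) = Ideal.span ((𝒜 1 : AddSubgroup R) : Set R)) [IsArtinianRing (GrLC.deg0 𝒜)] (m : HomogeneousIdeal 𝒜) (hm : GrLC.IsStarLocal 𝒜 m) (d : ℕ) (hd : ringKrullDim R = d) (I : GrLC.StarInjRes 𝒜 𝒜) (P : Polynomial ℚ) (hP : ∃ N : ℤ, ∀ n : ℤ, N ≤ n → P.eval (n : ℚ) = ((Module.length (GrLC.deg0 𝒜) (GrLC.comp 𝒜 𝒜 n)).toNat : ℚ)) : GrLC.endDeg (I.Hgr m d) = ⨆ (n : ℤ) (_ : P.eval (n : ℚ) ≠ ((Module.length (GrLC.deg0 𝒜) (GrLC.comp 𝒜 𝒜 n)).toNat : ℚ)), ((n : WithTop ℤ) : WithBot (WithTop ℤ)) := by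
  classical
  have key : ∀ n : ℤ, (I.Hgr m d n ≠ ⊥) ↔ (P.eval (n : ℚ) ≠
      ((Module.length (GrLC.deg0 𝒜) (GrLC.comp 𝒜 𝒜 n)).toNat : ℚ)) := by
    intro n
    have h1 := Groth.Agent.Lib.Helper8.GrLCEulerMain.serre_formula hpos hstd m hm d hd 𝒜 I P hP n
    have h2 : Groth.Agent.Lib.Helper8.GrLCEulerMain.chiE m d I n =
        (-1 : ℚ) ^ d * ((Module.length (GrLC.deg0 𝒜) (I.Hcomp m d n)).toNat : ℚ) := by
      unfold Groth.Agent.Lib.Helper8.GrLCEulerMain.chiE
      rw [Finset.sum_range_succ, Finset.sum_eq_zero, zero_add]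
      intro i hi
      rw [Groth.Agent.Lib.Helper8.GrLCEulerInv.length_eq_zero_of_vanM I m i n
        (Groth.Agent.Lib.Helper8.GrLCCM.vanM_of_cm hpos m hm d hd i (Finset.mem_range.mp hi) n)]
      simp
    have hfin := Groth.Agent.Lib.Helper8.GrLCEulerMain.fin_H hpos m hm 𝒜 I d n
    have hbot : I.Hgr m d n = ⊥ ↔ Module.length (GrLC.deg0 𝒜) (I.Hcomp m d n) = 0 := by
      rw [Module.length_eq_zero_iff]
      constructor
      · intro h
        refine ⟨fun x y => ?_⟩
        have hx : (x : I.H m d) ∈ I.Hgr m d n := x.2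
        have hy : (y : I.H m d) ∈ I.Hgr m d n := y.2
        rw [h, AddSubgroup.mem_bot] at hx hy
        exact Subtype.ext (hx.trans hy.symm)
      · intro h
        rw [eq_bot_iff]
        intro x hx
        rw [AddSubgroup.mem_bot]
        have hx' : x ∈ I.Hcomp m d n := hx
        have := Subsingleton.elim (⟨x, hx'⟩ : ↥(I.Hcomp m d n)) 0
        exact congrArg Subtype.val this
    have hzero : ((Module.length (GrLC.deg0 𝒜) (I.Hcomp m d n)).toNat : ℚ) = 0 ↔
        Module.length (GrLC.deg0 𝒜) (I.Hcomp m d n) = 0 := by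
      rw [Nat.cast_eq_zero, ENat.toNat_eq_zero]
      constructor
      · rintro (h | h)
        · exact h
        · exact absurd h hfin
      · intro h
        exact Or.inl h
    unfold Groth.Agent.Lib.Helper8.GrLCEulerMain.hilb at h1
    rw [h2] at h1
    rw [not_iff_not, hbot, ← hzero]
    constructor
    · intro h
      rw [h, mul_zero] at h1
      linarith
    · intro h
      rw [h, sub_self] at h1
      have hpow : (-1 : ℚ) ^ d ≠ 0 := pow_ne_zero _ (by norm_num)
      rcases mul_eq_zero.mp h1.symm with h3 | h3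
      · exact absurd h3 hpow
      · exact h3
  unfold GrLC.endDeg
  exact iSup_congr (fun n => iSup_congr_Prop (key n) (fun _ => rfl))

end Groth.Agent.S17772
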