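import Groth.Statements.S17779
import Mathlib.Algebra.Group.ForwardDiff
import Mathlib.Tactic.Ring
import Mathlib.Tactic.LinearCombination

set_option autoImplicit false
open DRR

namespace Groth.Agent.S17779

open Finset Nat Function fwdDiff

theorem two_mul_choose_two (m : ℕ) : 2 * (m + 1).choose 2 = (m + 1) * m := by
  have := Nat.add_one_mul_choose_eq m 1
  simp only [Nat.choose_one_right, Nat.reduceAdd] at this
  omega

theorem fwdDiff_iter_succ_pow (n : ℕ) :
    Δ_[1]^[n] (fun (r : ℤ) ↦ r ^ (n + 1)) =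
      fun r => ((n + 1)! : ℤ) * r + ((n ! * (n + 1).choose 2 : ℕ) : ℤ) := by
  induction n with
  | zero =>
    funext r
    simp
  | succ n IH =>
    have h1 : (Δ_[1] fun (r : ℤ) ↦ r ^ (n + 2)) =
        ∑ i ∈ range (n + 2), (n + 2).choose i • fun r ↦ r ^ i := by
      ext x
      simp [nsmul_eq_mul, fwdDiff, add_pow, sum_range_succ, mul_comm]
    rw [iterate_succ_apply, h1, fwdDiff_iter_finsetSum]
    simp_rw [fwdDiff_iter_const_smul]
    rw [sum_range_succ, sum_range_succ, IH, fwdDiff_iter_eq_factorial (R := ℤ) (n := n)]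
    have h0 : ∑ x ∈ range n, (n + 2).choose x • Δ_[1]^[n] (fun (r : ℤ) => r ^ x) = 0 := by
      refine sum_eq_zero fun i hi => ?_
      rw [fwdDiff_iter_pow_eq_zero_of_lt (mem_range.mp hi), smul_zero]
    rw [h0, zero_add]
    funext r
    simp only [Pi.add_apply, Pi.smul_apply]
    simp only [nsmul_eq_mul, Pi.natCast_apply]
    have e1 : (n + 2).choose (n + 1) = n + 2 := by
      rw [show n + 2 = (n + 1) + 1 from rfl, Nat.choose_succ_self_right]
    have e2 : (n + 2).choose n = (n + 2).choose 2 := by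
      rw [← Nat.choose_symm (by omega : 2 ≤ n + 2)]
      congr 1
    have e3 : (n + 2).choose 2 = (n + 1).choose 2 + (n + 1) := by
      rw [show n + 2 = (n + 1) + 1 from rfl, Nat.choose_succ_succ' (n + 1) 1, Nat.choose_one_right]
      ring
    have e4 := two_mul_choose_two n
    have f1 : (n + 2)! = (n + 2) * (n + 1)! := Nat.factorial_succ (n + 1)
    have f2 : (n + 1)! = (n + 1) * n ! := Nat.factorial_succ n
    rw [e1, e2, e3, f1, f2]
    push_cast
    have e4' : (2 : ℤ) * ((n + 1).choose 2 : ℤ) = ((n : ℤ) + 1) * n := by exact_mod_cast e4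
    linear_combination ((n ! : ℤ)) * e4'

/-- For natural numbers n and k with k ≤ n + 1, the alternating sum over j = 0, …, n of (−1)^(n−j) C(n,
j) j^k (with the convention 0^0 = 1) equals n! · n(n+1)/2 when k = n + 1, equals n! when k = n, and
vanishes when k < n. (The published statement takes n ≥ 1 and divides through by n!; the case n = 0
holds as well and is included.) -/
theorem result (n k : ℕ) (hk : k ≤ n + 1) :
    (∑ j ∈ Finset.range (n + 1), (-1 : ℤ) ^ (n - j) * (n.choose j : ℤ) * (j : ℤ) ^ k) =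
      (if k = n + 1 then (((n + 1).choose 2 * n.factorial : ℕ) : ℤ)
        else if k = n then (n.factorial : ℤ) else 0) := by
  have hsum : (∑ j ∈ Finset.range (n + 1), (-1 : ℤ) ^ (n - j) * (n.choose j : ℤ) * (j : ℤ) ^ k) =
      Δ_[1]^[n] (fun (r : ℤ) ↦ r ^ k) 0 := by
    rw [fwdDiff_iter_eq_sum_shift]
    refine Finset.sum_congr rfl fun j _ => ?_
    simp
  rw [hsum]
  by_cases h1 : k = n + 1
  · subst h1
    rw [if_pos rfl, fwdDiff_iter_succ_pow]
    simp [mul_comm]
  · rw [if_neg h1]
    by_cases h2 : k = n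
    · subst h2
      rw [if_pos rfl, fwdDiff_iter_eq_factorial]
      simp
    · rw [if_neg h2, fwdDiff_iter_pow_eq_zero_of_lt (by omega)]
      rfl

end Groth.Agent.S17779
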