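import Groth.Statements.S1778
import Groth.Agent.Lib.Helper89.Bass2

set_option autoImplicit false
universe u
open CategoryTheory
attribute [local instance] HasDerivedCategory.standard
open Dual

namespace Groth.Agent.S1778

/-- Let A → B be a flat homomorphism of Noetherian rings and I an ideal of A such that A → B/IB is
surjective with kernel I (so A/I = B/IB) and IB lies in the Jacobson radical of B. Assuming the
derived base change functor D(A) → D(B) exists, the base change of a dualizing complex ω of A is a
dualizing complex for B. -/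
theorem result (A B : Type u) [CommRing A] [CommRing B] [Algebra A B] [IsNoetherianRing A] [IsNoetherianRing B] [Module.Flat A B] (I : Ideal A) (hs : Function.Surjective ((Ideal.Quotient.mk (I.map (algebraMap A B))).comp (algebraMap A B))) (hk : RingHom.ker ((Ideal.Quotient.mk (I.map (algebraMap A B))).comp (algebraMap A B)) = I) (hJ : I.map (algebraMap A B) ≤ (⊥ : Ideal B).jacobson) [DRing.HasLBaseChange (algebraMap A B)] (ω : Dual.D A) (hω : Dual.IsDualizing A ω) : Dual.IsDualizing B ((DRing.LBaseChange (algebraMap A B)).obj ω) := by
  have hf : (algebraMap A B).Flat := RingHom.flat_algebraMap_iff.2 inferInstance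
  haveI : Limits.PreservesFiniteLimits
      (Groth.Agent.Lib.Helper84.FlatBC.ext (algebraMap A B)) :=
    Groth.Agent.Lib.Helper84.FlatBC.preservesFiniteLimits_ext _ hf
  have e := (Groth.Agent.Lib.Helper15.LBCFlat.lbcFlatIso (algebraMap A B)).app ω
  have hmax : ∀ n : Ideal B, n.IsMaximal → ∃ m : Ideal A, n = m.map (algebraMap A B) := by
    intro n hn
    have hIn : I.map (algebraMap A B) ≤ n := hJ.trans (sInf_le ⟨bot_le, hn⟩)
    refine ⟨n.comap (algebraMap A B), le_antisymm ?_ Ideal.map_comap_le⟩
    intro b hb
    obtain ⟨a, ha⟩ := hs (Ideal.Quotient.mk _ b)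
    have hab : algebraMap A B a - b ∈ I.map (algebraMap A B) := by
      rw [← Ideal.Quotient.eq]
      exact ha
    have ha' : algebraMap A B a ∈ n := by
      have := n.add_mem (hIn hab) hb
      simpa using this
    have hIm : I.map (algebraMap A B) ≤ (n.comap (algebraMap A B)).map (algebraMap A B) :=
      Ideal.map_mono (Ideal.map_le_iff_le_comap.1 hIn)
    have h1 : algebraMap A B a ∈ (n.comap (algebraMap A B)).map (algebraMap A B) :=
      Ideal.mem_map_of_mem _ ha'
    have h2 := Ideal.sub_mem _ h1 (hIm hab)
    simpa using h2
  have h1 := Groth.Agent.Lib.Helper89.Bass.isDualizing_bc (algebraMap A B) hf hmax ω hω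
  exact Groth.Agent.Lib.Helper25.Bidual.isDualizing_of_iso e.symm h1

end Groth.Agent.S1778
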