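import Groth.Statements.S17780
import Groth.Agent.S17779

set_option autoImplicit false
universe u
open DRR

namespace Groth.Agent.S17780

open Finset Nat

theorem altSum_cast (A : Type u) [CommRing A] (n k : ℕ) (hk : k ≤ n + 1) :
    (∑ j ∈ Finset.range (n + 1), (-1 : A) ^ (n - j) * (n.choose j : A) * (j : A) ^ k) =
      (if k = n + 1 then (((n + 1).choose 2 * n.factorial : ℕ) : A)
        else if k = n then (n.factorial : A) else 0) := by
  have h := congrArg (Int.cast : ℤ → A) (Groth.Agent.S17779.result n k hk)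
  rw [Int.cast_sum] at h
  rw [show (∑ j ∈ Finset.range (n + 1), (-1 : A) ^ (n - j) * (n.choose j : A) * (j : A) ^ k) =
    ∑ x ∈ range (n + 1), (((-1 : ℤ) ^ (n - x) * (n.choose x : ℤ) * (x : ℤ) ^ k : ℤ) : A) from
      Finset.sum_congr rfl fun j _ => by push_cast; ring]
  rw [h]
  split_ifs <;> simp

theorem half_eq (n : ℕ) : n * (n + 1).factorial / 2 = (n + 1).choose 2 * n.factorial := by
  have e4 := Groth.Agent.S17779.two_mul_choose_two n
  have f2 : (n + 1)! = (n + 1) * n ! := Nat.factorial_succ n
  apply Nat.div_eq_of_eq_mul_right (by norm_num)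
  rw [f2]
  calc n * ((n + 1) * n !) = ((n + 1) * n) * n ! := by ring
    _ = (2 * (n + 1).choose 2) * n ! := by rw [e4]
    _ = 2 * ((n + 1).choose 2 * n !) := by ring

/-- For x, y in a commutative ring and a natural number n, (n+1)! · x · y^n equals the sum over j = 0,
…, n of (−1)^(n−j) C(n, j) (x + j y)^(n+1), minus (n · (n+1)!/2) · y^(n+1). (The published identity
is stated in ℚ[x, y] with an overall factor 1/(n+1) and the coefficients C(n, j)(−1)^(n−j)/n!; it is
given here multiplied through by (n+1)!, which makes it an identity with integer coefficients valid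
in every commutative ring; n · (n+1)!/2 is an integer.) -/
theorem result (A : Type u) [CommRing A] (x y : A) (n : ℕ) :
    ((n + 1).factorial : A) * x * y ^ n =
      (∑ j ∈ Finset.range (n + 1), (-1 : A) ^ (n - j) * (n.choose j : A) * (x + (j : A) * y) ^ (n + 1))
        - ((n * (n + 1).factorial / 2 : ℕ) : A) * y ^ (n + 1) := by
  have hexp : (∑ j ∈ Finset.range (n + 1),
        (-1 : A) ^ (n - j) * (n.choose j : A) * (x + (j : A) * y) ^ (n + 1)) =
      ∑ i ∈ range (n + 2), x ^ i * y ^ (n + 1 - i) * ((n + 1).choose i : A) *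
        (∑ j ∈ Finset.range (n + 1), (-1 : A) ^ (n - j) * (n.choose j : A) * (j : A) ^ (n + 1 - i)) := by
    simp_rw [add_pow, mul_pow, Finset.mul_sum]
    rw [Finset.sum_comm]
    refine Finset.sum_congr rfl fun i _ => Finset.sum_congr rfl fun j _ => ?_
    ring
  rw [hexp]
  have hinner : ∀ i ∈ range (n + 2),
      x ^ i * y ^ (n + 1 - i) * ((n + 1).choose i : A) *
        (∑ j ∈ Finset.range (n + 1), (-1 : A) ^ (n - j) * (n.choose j : A) * (j : A) ^ (n + 1 - i)) =
      x ^ i * y ^ (n + 1 - i) * ((n + 1).choose i : A) *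
        (if n + 1 - i = n + 1 then (((n + 1).choose 2 * n.factorial : ℕ) : A)
          else if n + 1 - i = n then (n.factorial : A) else 0) := by
    intro i _
    rw [altSum_cast A n (n + 1 - i) (Nat.sub_le _ _)]
  rw [Finset.sum_congr rfl hinner, Finset.sum_range_succ', Finset.sum_range_succ']
  have hz : ∑ i ∈ range n, x ^ (i + 1 + 1) * y ^ (n + 1 - (i + 1 + 1)) *
      ((n + 1).choose (i + 1 + 1) : A) *
        (if n + 1 - (i + 1 + 1) = n + 1 then (((n + 1).choose 2 * n.factorial : ℕ) : A)
          else if n + 1 - (i + 1 + 1) = n then (n.factorial : A) else 0) = 0 := by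
    refine Finset.sum_eq_zero fun i hi => ?_
    have hi' := Finset.mem_range.mp hi
    rw [if_neg (by omega), if_neg (by omega), mul_zero]
  rw [hz, half_eq]
  have f2 : ((n + 1)! : A) = ((n : A) + 1) * (n ! : A) := by
    rw [Nat.factorial_succ]; push_cast; ring
  have hne : ¬ (n = n + 1) := by omega
  simp only [zero_add, Nat.sub_zero, if_true, pow_zero, one_mul, Nat.choose_zero_right,
    Nat.cast_one, mul_one, Nat.add_sub_cancel, pow_one, Nat.choose_one_right, if_neg hne]
  rw [f2]
  push_cast
  ring

end Groth.Agent.S17780
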