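import Groth.Statements.S17781
import Mathlib

set_option autoImplicit false
open Variety

set_option linter.unusedSectionVars false

namespace Groth.Agent.S17781Aux

theorem not_dvd_choose (p : ℕ) [Fact p.Prime] :
    ∀ (j d : ℕ), 1 ≤ d → p ^ j ∣ d → ¬ p ∣ (d - 1).choose (p ^ j - 1) := by
  have hp : p.Prime := Fact.out
  intro j
  induction j with
  | zero =>
    intro d _ _
    simp [hp.ne_one]
  | succ j ih =>
    intro d hd hdvd
    obtain ⟨d', rfl⟩ : p ∣ d := dvd_trans (dvd_pow_self p (Nat.succ_ne_zero j)) hdvd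
    have hd' : 1 ≤ d' := by
      rcases Nat.eq_zero_or_pos d' with h | h
      · subst h; simp at hd
      · exact h
    have hdvd' : p ^ j ∣ d' := by
      rw [pow_succ'] at hdvd
      exact Nat.dvd_of_mul_dvd_mul_left hp.pos hdvd
    have key := Choose.choose_modEq_choose_mod_mul_choose_div_nat
      (n := p * d' - 1) (k := p ^ (j + 1) - 1) (p := p)
    obtain ⟨e, rfl⟩ : ∃ e, d' = e + 1 := ⟨d' - 1, by omega⟩
    obtain ⟨q, hq⟩ : ∃ q, p ^ j = q + 1 := ⟨p ^ j - 1, by have := Nat.pow_pos (n := j) hp.pos; omega⟩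
    obtain ⟨p', hp'⟩ : ∃ p', p = p' + 1 := ⟨p - 1, by have := hp.pos; omega⟩
    have e1 : p * (e + 1) - 1 = p * e + (p - 1) := by
      rw [Nat.mul_succ]; have := hp.pos; omega
    have e2 : p ^ (j + 1) - 1 = p * q + (p - 1) := by
      rw [pow_succ', hq, Nat.mul_succ]; have := hp.pos; omega
    have hlt : p - 1 < p := by have := hp.pos; omega
    have h1 : (p * (e + 1) - 1) % p = p - 1 := by
      rw [e1, Nat.mul_add_mod, Nat.mod_eq_of_lt hlt]
    have h2 : (p * (e + 1) - 1) / p = e := by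
      rw [e1, Nat.mul_add_div hp.pos, Nat.div_eq_of_lt hlt, add_zero]
    have h3 : (p ^ (j + 1) - 1) % p = p - 1 := by
      rw [e2, Nat.mul_add_mod, Nat.mod_eq_of_lt hlt]
    have h4 : (p ^ (j + 1) - 1) / p = q := by
      rw [e2, Nat.mul_add_div hp.pos, Nat.div_eq_of_lt hlt, add_zero]
    rw [h1, h2, h3, h4, Nat.choose_self, one_mul] at key
    intro hdiv
    have := ih (e + 1) hd' hdvd'
    rw [hq] at this
    simp only [Nat.add_sub_cancel] at this
    exact this ((Nat.modEq_zero_iff_dvd).1 (key.symm.trans ((Nat.modEq_zero_iff_dvd).2 hdiv)))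

theorem fact_choose (p : ℕ) [Fact p.Prime] (j d : ℕ) (hd : 1 ≤ d) (hdvd : p ^ j ∣ d) :
    (d.choose (p ^ j)).factorization p + j = d.factorization p := by
  have hp : p.Prime := Fact.out
  have hpj : 1 ≤ p ^ j := Nat.pow_pos (n := j) hp.pos
  have hle : p ^ j ≤ d := Nat.le_of_dvd hd hdvd
  have h := Nat.add_one_mul_choose_eq (d - 1) (p ^ j - 1)
  rw [Nat.sub_add_cancel hd, Nat.sub_add_cancel hpj] at h
  have hnd := not_dvd_choose p j d hd hdvd
  have hC0 : d.choose (p ^ j) ≠ 0 := (Nat.choose_pos hle).ne'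
  have hC1 : (d - 1).choose (p ^ j - 1) ≠ 0 := (Nat.choose_pos (by omega)).ne'
  have h' : (d * (d - 1).choose (p ^ j - 1)).factorization p =
      (d.choose (p ^ j) * p ^ j).factorization p := by rw [h]
  rw [Nat.factorization_mul (by omega) hC1, Nat.factorization_mul hC0 (by omega),
    Finsupp.add_apply, Finsupp.add_apply, Nat.factorization_eq_zero_of_not_dvd hnd,
    hp.factorization_pow, Finsupp.single_eq_same, add_zero] at h'
  exact h'.symm

theorem div_gcd_dvd_choose (d k : ℕ) (hd : 1 ≤ d) (hk : 1 ≤ k) :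
    d / Nat.gcd d k ∣ d.choose k := by
  set δ := Nat.gcd d k with hδ
  have hδpos : 0 < δ := Nat.gcd_pos_of_pos_left k hd
  have h := Nat.add_one_mul_choose_eq (d - 1) (k - 1)
  rw [Nat.sub_add_cancel hd, Nat.sub_add_cancel hk] at h
  have h1 : d / δ * δ = d := Nat.div_mul_cancel (Nat.gcd_dvd_left d k)
  have h2 : k / δ * δ = k := Nat.div_mul_cancel (Nat.gcd_dvd_right d k)
  have h3 : d / δ * (d - 1).choose (k - 1) = d.choose k * (k / δ) := by
    apply Nat.eq_of_mul_eq_mul_right hδpos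
    calc d / δ * (d - 1).choose (k - 1) * δ = (d / δ * δ) * (d - 1).choose (k - 1) := by ring
      _ = d.choose k * (k / δ * δ) := by rw [h1, h2, h]
      _ = d.choose k * (k / δ) * δ := by ring
    
  have hcop : Nat.Coprime (d / δ) (k / δ) := Nat.coprime_div_gcd_div_gcd hδpos
  exact hcop.dvd_of_dvd_mul_right ⟨_, h3.symm⟩

end Groth.Agent.S17781Aux

namespace Groth.Agent.S17781

/-- Let d ≥ 1 and N ≥ 1 be integers and let I(d, N) be the greatest common divisor of the quotients d/δ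
over the divisors δ of d with 1 ≤ δ ≤ N. Then I(d, N) equals the greatest common divisor of the
integers χ(d, n) = 1 − (−1)^n C(d − 1, n) for 1 ≤ n ≤ N (χ(d, n) is the Euler characteristic of O_H
for a degree-d hypersurface H in projective n-space). Both greatest common divisors are taken in ℤ,
normalised to be non-negative. -/
theorem result (d N : ℕ) (hd : 1 ≤ d) (hN : 1 ≤ N) :
    (Finset.Icc 1 N).gcd (fun n => 1 - (-1 : ℤ) ^ n * ((d - 1).choose n : ℤ)) =
      ((Finset.Icc 1 N).filter (fun δ => δ ∣ d)).gcd (fun δ => ((d / δ : ℕ) : ℤ)) := by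
  have hstep : ∀ n : ℕ, (1 - (-1 : ℤ) ^ (n + 1) * ((d - 1).choose (n + 1) : ℤ)) -
      (1 - (-1 : ℤ) ^ n * ((d - 1).choose n : ℤ)) = (-1 : ℤ) ^ n * (d.choose (n + 1) : ℤ) := by
    intro n
    have : d.choose (n + 1) = (d - 1).choose n + (d - 1).choose (n + 1) := by
      obtain ⟨e, rfl⟩ : ∃ e, d = e + 1 := ⟨d - 1, by omega⟩
      simp [Nat.choose_succ_succ]
    rw [this]; push_cast; ring
  apply dvd_antisymm_of_normalize_eq (Finset.normalize_gcd) (Finset.normalize_gcd)
  · -- G ∣ H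
    set G := (Finset.Icc 1 N).gcd (fun n => 1 - (-1 : ℤ) ^ n * ((d - 1).choose n : ℤ)) with hG
    have hGχ : ∀ n : ℕ, n ≤ N → G ∣ 1 - (-1 : ℤ) ^ n * ((d - 1).choose n : ℤ) := by
      intro n hn
      rcases Nat.eq_zero_or_pos n with h | h
      · subst h; simp
      · exact Finset.gcd_dvd (f := fun n => 1 - (-1 : ℤ) ^ n * ((d - 1).choose n : ℤ))
          (Finset.mem_Icc.2 ⟨h, hn⟩)
    have hg : ∀ k : ℕ, 1 ≤ k → k ≤ N → G.natAbs ∣ d.choose k := by
      intro k hk1 hkN
      obtain ⟨n, rfl⟩ : ∃ n, k = n + 1 := ⟨k - 1, by omega⟩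
      have h1 := dvd_sub (hGχ (n + 1) hkN) (hGχ n (by omega))
      rw [hstep] at h1
      have h2 := Int.natAbs_dvd_natAbs.2 h1
      simpa [Int.natAbs_mul, Int.natAbs_pow] using h2
    rw [Finset.dvd_gcd_iff]
    intro δ hδ
    rw [Finset.mem_filter, Finset.mem_Icc] at hδ
    obtain ⟨⟨hδ1, hδN⟩, hδd⟩ := hδ
    rw [← Int.natAbs_dvd_natAbs, Int.natAbs_natCast]
    have hg0 : G.natAbs ≠ 0 := by
      intro h0
      have := hg 1 le_rfl hN
      rw [h0, Nat.choose_one_right, zero_dvd_iff] at this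
      omega
    have hq0 : d / δ ≠ 0 := by
      have := Nat.div_pos (Nat.le_of_dvd hd hδd) hδ1
      omega
    rw [← Nat.factorization_le_iff_dvd hg0 hq0]
    intro p
    by_cases hp : p.Prime
    · have : Fact p.Prime := ⟨hp⟩
      set j := δ.factorization p with hj
      have hpjδ : p ^ j ∣ δ := Nat.ordProj_dvd δ p
      have hpjd : p ^ j ∣ d := dvd_trans hpjδ hδd
      have hpj1 : 1 ≤ p ^ j := Nat.pow_pos (n := j) hp.pos
      have hpjN : p ^ j ≤ N := le_trans (Nat.le_of_dvd hδ1 hpjδ) hδN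
      have hC0 : d.choose (p ^ j) ≠ 0 := (Nat.choose_pos (Nat.le_of_dvd hd hpjd)).ne'
      have h1 := (Nat.factorization_le_iff_dvd hg0 hC0).2 (hg _ hpj1 hpjN) p
      have h2 := Groth.Agent.S17781Aux.fact_choose p j d hd hpjd
      rw [Nat.factorization_div hδd, Finsupp.tsub_apply]
      omega
    · rw [Nat.factorization_eq_zero_of_not_prime _ hp]
      exact Nat.zero_le _
  · -- H ∣ G
    set H := ((Finset.Icc 1 N).filter (fun δ => δ ∣ d)).gcd (fun δ => ((d / δ : ℕ) : ℤ)) with hH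
    have hHC : ∀ k : ℕ, 1 ≤ k → k ≤ N → H ∣ (d.choose k : ℤ) := by
      intro k hk1 hkN
      have hδ : Nat.gcd d k ∈ (Finset.Icc 1 N).filter (fun δ => δ ∣ d) := by
        rw [Finset.mem_filter, Finset.mem_Icc]
        exact ⟨⟨Nat.gcd_pos_of_pos_left k hd, le_trans (Nat.gcd_le_right (m := d) hk1) hkN⟩,
          Nat.gcd_dvd_left d k⟩
      have h1 : H ∣ ((d / Nat.gcd d k : ℕ) : ℤ) :=
        Finset.gcd_dvd (f := fun δ => ((d / δ : ℕ) : ℤ)) hδ
      exact dvd_trans h1 (Int.natCast_dvd_natCast.2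
        (Groth.Agent.S17781Aux.div_gcd_dvd_choose d k hd hk1))
    have hHχ : ∀ n : ℕ, n ≤ N → H ∣ 1 - (-1 : ℤ) ^ n * ((d - 1).choose n : ℤ) := by
      intro n
      induction n with
      | zero => intro _; simp
      | succ n ih =>
        intro hn
        have h1 := ih (by omega)
        have h2 := hHC (n + 1) (by omega) hn
        have h3 := hstep n
        have h4 : (1 - (-1 : ℤ) ^ (n + 1) * ((d - 1).choose (n + 1) : ℤ)) =
            (1 - (-1 : ℤ) ^ n * ((d - 1).choose n : ℤ)) + (-1 : ℤ) ^ n * (d.choose (n + 1) : ℤ) := by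
          rw [← h3]; ring
        rw [h4]
        exact dvd_add h1 (Dvd.dvd.mul_left h2 _)
    rw [Finset.dvd_gcd_iff]
    intro n hn
    rw [Finset.mem_Icc] at hn
    exact hHχ n hn.2

end Groth.Agent.S17781
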