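import Groth.Statements.S1779
import Groth.Agent.Lib.Helper89.Bass2
import Groth.Agent.S0543

set_option autoImplicit false
universe u
open CategoryTheory
attribute [local instance] HasDerivedCategory.standard
open Dual

namespace Groth.Agent.S1779

/-- Let A be a Noetherian ring, I an ideal and ω a dualizing complex for A. Assuming the derived base
change functor to the I-adic completion exists, the base change of ω is a dualizing complex for the
I-adic completion of A. -/
theorem result (A : Type u) [CommRing A] [IsNoetherianRing A] (I : Ideal A) [DRing.HasLBaseChange (algebraMap A (AdicCompletion I A))] (ω : Dual.D A) (hω : Dual.IsDualizing A ω) : Dual.IsDualizing (AdicCompletion I A) ((DRing.LBaseChange (algebraMap A (AdicCompletion I A))).obj ω) := by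
  haveI : IsNoetherianRing (AdicCompletion I A) := Groth.Agent.S0543.result A I
  have fg : I.FG := IsNoetherian.noetherian I
  have hf : (algebraMap A (AdicCompletion I A)).Flat := RingHom.flat_algebraMap_iff.2 inferInstance
  haveI : Limits.PreservesFiniteLimits
      (Groth.Agent.Lib.Helper84.FlatBC.ext (algebraMap A (AdicCompletion I A))) :=
    Groth.Agent.Lib.Helper84.FlatBC.preservesFiniteLimits_ext _ hf
  have e := (Groth.Agent.Lib.Helper15.LBCFlat.lbcFlatIso (algebraMap A (AdicCompletion I A))).app ω
  haveI := AdicCompletion.isAdicComplete_self I fg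
  have hJ : I.map (algebraMap A (AdicCompletion I A)) ≤ (⊥ : Ideal (AdicCompletion I A)).jacobson :=
    IsAdicComplete.le_jacobson_bot _
  have hmax : ∀ n : Ideal (AdicCompletion I A), n.IsMaximal →
      ∃ m : Ideal A, n = m.map (algebraMap A (AdicCompletion I A)) := by
    intro n hn
    have hIn : I.map (algebraMap A (AdicCompletion I A)) ≤ n := hJ.trans (sInf_le ⟨bot_le, hn⟩)
    refine ⟨n.comap (algebraMap A (AdicCompletion I A)), le_antisymm ?_ Ideal.map_comap_le⟩
    intro b hb
    obtain ⟨a, ha⟩ := Ideal.Quotient.mk_surjective (AdicCompletion.evalOneₐ I b)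
    have hab : algebraMap A (AdicCompletion I A) a - b ∈
        I.map (algebraMap A (AdicCompletion I A)) := by
      rw [← AdicCompletion.ker_evalOneₐ_eq_map I fg, RingHom.mem_ker, map_sub]
      have h1 : (AdicCompletion.evalOneₐ I).toRingHom (algebraMap A (AdicCompletion I A) a) =
          Ideal.Quotient.mk I a := (AdicCompletion.evalOneₐ I).commutes a
      have h2 : (AdicCompletion.evalOneₐ I).toRingHom b = Ideal.Quotient.mk I a := ha.symm
      rw [h1, h2, sub_self]
    have ha' : algebraMap A (AdicCompletion I A) a ∈ n := by
      have := n.add_mem (hIn hab) hb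
      simpa using this
    have hIm : I.map (algebraMap A (AdicCompletion I A)) ≤
        (n.comap (algebraMap A (AdicCompletion I A))).map (algebraMap A (AdicCompletion I A)) :=
      Ideal.map_mono (Ideal.map_le_iff_le_comap.1 hIn)
    have h1 : algebraMap A (AdicCompletion I A) a ∈
        (n.comap (algebraMap A (AdicCompletion I A))).map (algebraMap A (AdicCompletion I A)) :=
      Ideal.mem_map_of_mem _ ha'
    have h2 := Ideal.sub_mem _ h1 (hIm hab)
    simpa using h2
  have h1 := Groth.Agent.Lib.Helper89.Bass.isDualizing_bc
    (algebraMap A (AdicCompletion I A)) hf hmax ω hω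
  exact Groth.Agent.Lib.Helper25.Bidual.isDualizing_of_iso e.symm h1

end Groth.Agent.S1779
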