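import Groth.Statements.S17794
import Groth.Agent.Lib.Helper5.QuotSchemes
import Groth.Agent.Lib.Helper50.LimDesc10
import Groth.Agent.Lib.Helper72.GrpExt
import Groth.Agent.S2806
import Groth.Prelude.Def_NonAbH2

set_option autoImplicit false
universe u
open CategoryTheory CategoryTheory.Limits MonoidalCategory CartesianMonoidalCategory MonObj GrpObj AlgebraicGeometry
open GrpSch

namespace Groth.Agent.S17794

/-- Let S be a scheme and f : G → H a homomorphism of S-group schemes, both of finite presentation over
S (locally of finite presentation, quasi-compact and quasi-separated), and let i : N → G be the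
kernel of f (the square formed by i, f, the unit section of H and N → S is cartesian). Then f is
faithfully flat (flat and surjective) if and only if the map of representable sheaves h_G → h_H
induced by f on the big fppf site of S is an epimorphism of sheaves of sets and N is flat over S. -/
theorem result {S : Scheme.{u}} {G H N : Over S} [GrpObj G] [GrpObj H] (f : G ⟶ H) [IsMonHom f] [LocallyOfFinitePresentation G.hom] [QuasiCompact G.hom] [QuasiSeparated G.hom] [LocallyOfFinitePresentation H.hom] [QuasiCompact H.hom] [QuasiSeparated H.hom] (i : N ⟶ G) (hi : AlgGrp.IsKernel i f) : (Flat f.left ∧ Surjective f.left) ↔ (Epi (QuotSh.repMap Scheme.fppfPrecoverage f) ∧ Flat N.hom) := by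
  classical
  -- translate the epimorphism condition to the representable sheaves `yon`
  have hconj : Epi (QuotSh.repMap Scheme.fppfPrecoverage f) ↔ Epi ((AlgSp.yon S).map f) := by
    have h := Groth.Agent.Lib.Helper5.repMap_comp_repIso_hom f
    constructor
    · intro he
      have e1 : (AlgSp.yon S).map f =
          (QuotSh.repIsoUliftYoneda Scheme.fppfPrecoverage G).inv ≫
            QuotSh.repMap Scheme.fppfPrecoverage f ≫
              (QuotSh.repIsoUliftYoneda Scheme.fppfPrecoverage H).hom := by
        rw [h, Iso.inv_hom_id_assoc]
      rw [e1]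
      infer_instance
    · intro he
      have e1 : QuotSh.repMap Scheme.fppfPrecoverage f =
          (QuotSh.repIsoUliftYoneda Scheme.fppfPrecoverage G).hom ≫ (AlgSp.yon S).map f ≫
            (QuotSh.repIsoUliftYoneda Scheme.fppfPrecoverage H).inv := by
        rw [← Category.assoc, ← h, Category.assoc, Iso.hom_inv_id, Category.comp_id]
      rw [e1]
      infer_instance
  rw [hconj]
  have hk : IsPullback i.left (toUnit N).left f.left η[H].left := hi.map (Over.forget _)
  have hsq := Groth.Agent.Lib.Helper72.GrpExt.isPullback_of_isKernel i f hi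
  have hsql : IsPullback (fst G N).left ((G ◁ i) ≫ μ[G]).left f.left f.left :=
    hsq.map (Over.forget _)
  have hw : f.left ≫ H.hom = G.hom := Over.w f
  constructor
  · rintro ⟨hfl, hsurj⟩
    haveI := hfl
    haveI := hsurj
    haveI : LocallyOfFinitePresentation (f.left ≫ H.hom) := by rw [hw]; infer_instance
    haveI : LocallyOfFinitePresentation f.left :=
      Groth.Agent.Lib.Helper50.locallyOfFinitePresentation_of_comp f.left H.hom
    refine ⟨Groth.Agent.Lib.Helper5.QuotSchemes.epi_yon_map_of_fppf f, ?_⟩
    have : Flat (toUnit N).left := MorphismProperty.of_isPullback (P := @Flat) hk hfl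
    exact this
  · rintro ⟨hepi, hNfl⟩
    haveI := hepi
    haveI := hNfl
    -- local sections of `f`
    obtain ⟨R₀, hR₀, hlift⟩ := Groth.Agent.Lib.Helper5.SheafQuot.exists_local_lift_of_epi
      ((AlgSp.yon S).map f) (𝟙 ((AlgSp.yon S).obj H))
    haveI : Scheme.fppfPrecoverage.{u}.HasIsos := NonAbH1.fppfPrecoverage_hasIsos
    rw [AlgSp.J_eq, GrothendieckTopology.mem_over_iff,
      Precoverage.mem_toGrothendieck_iff_of_isStableUnderComposition] at hR₀
    obtain ⟨R, hR, hle⟩ := hR₀
    have hsec : ∀ ⦃T : Scheme.{u}⦄ (c : T ⟶ H.left), R c → ∃ x : T ⟶ G.left, x ≫ f.left = c := by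
      intro T c hc
      have h1 := hle _ _ hc
      rw [Sieve.overEquiv_iff] at h1
      obtain ⟨x, hx⟩ := hlift _ h1
      obtain ⟨x₀, rfl⟩ := (AlgSp.yon S).map_surjective x
      rw [Category.comp_id, ← Functor.map_comp] at hx
      have h2 := (AlgSp.yon S).map_injective hx
      exact ⟨x₀.left, congrArg Over.Hom.left h2⟩
    obtain ⟨hjs, hP⟩ := (hR : R ∈ Scheme.precoverage (@Flat ⊓ @LocallyOfFinitePresentation) _)
    rw [Presieve.mem_comap_jointlySurjectivePrecoverage_iff] at hjs
    haveI hfstfl : Flat (fst G N).left :=
      inferInstanceAs (Flat (Limits.pullback.fst G.hom N.hom))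
    refine ⟨?_, ?_⟩
    · -- flatness, checked on stalks after a flat base change with a section
      apply Flat.of_stalkMap
      intro g₀
      obtain ⟨T, c, hRc, t, ht⟩ := hjs (f.left g₀)
      obtain ⟨x, hx⟩ := hsec c hRc
      haveI hcfl : Flat c := (hP hRc).1
      obtain ⟨p, rfl, hp2⟩ := Scheme.Pullback.exists_preimage_pullback g₀ t ht.symm
      have hpr2 : Flat (pullback.snd f.left c) := by
        have hcond : (pullback.snd f.left c ≫ x) ≫ f.left = pullback.fst f.left c ≫ f.left := by
          rw [Category.assoc, hx, pullback.condition]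
        have hleft : IsPullback (hsql.lift (pullback.snd f.left c ≫ x) (pullback.fst f.left c) hcond)
            (pullback.snd f.left c) (fst G N).left x := by
          refine IsPullback.of_right ?_ (hsql.lift_fst _ _ _) hsql.flip
          rw [hsql.lift_snd, hx]
          exact IsPullback.of_hasPullback f.left c
        exact MorphismProperty.of_isPullback (P := @Flat) hleft hfstfl
      haveI := hpr2
      haveI : Flat (pullback.fst f.left c ≫ f.left) := by
        rw [pullback.condition]
        infer_instance
      exact Groth.Agent.S2806.stalk_flat_descent f.left (pullback.fst f.left c) p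
        (Flat.stalkMap (pullback.fst f.left c) p)
        (Flat.stalkMap (pullback.fst f.left c ≫ f.left) p)
    · -- surjectivity
      refine ⟨fun h => ?_⟩
      obtain ⟨T, c, hRc, t, ht⟩ := hjs h
      obtain ⟨x, hx⟩ := hsec c hRc
      refine ⟨x t, ?_⟩
      rw [← Scheme.Hom.comp_apply, hx]
      exact ht

end Groth.Agent.S17794
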