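import Groth.Statements.S17797
import Mathlib

set_option autoImplicit false
universe u
open CAlg

namespace Groth.Agent.S17797

section
open IsLocalRing

theorem mainK (k K S : Type u) [Field k] [Field K] [Algebra k K] [CommRing S] [IsLocalRing S]
    [Algebra k S] [Algebra K S] [IsScalarTower k K S] [Algebra.EssFiniteType k S]
    (halg : Algebra.IsAlgebraic K (ResidueField S)) :
    ∃ (A : Type u) (_ : CommRing A) (_ : Algebra K A) (_ : Algebra k A)
      (_ : IsScalarTower k K A) (_ : Algebra.FiniteType K A) (m : Ideal A) (_ : m.IsMaximal),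
      Nonempty (S ≃ₐ[k] Localization.AtPrime m) := by
  obtain ⟨s, hs⟩ := (Algebra.EssFiniteType.cond : ∃ s : Finset S,
    IsLocalization ((IsUnit.submonoid S).comap
      (algebraMap (Algebra.adjoin k (s : Set S)) S)) S)
  have hft : Algebra.FiniteType K (Algebra.adjoin K (s : Set S)) :=
    (Subalgebra.fg_iff_finiteType _).1 ⟨s, rfl⟩
  have hle : Algebra.adjoin k (s : Set S) ≤ (Algebra.adjoin K (s : Set S)).restrictScalars k :=
    Algebra.adjoin_le (fun z hz => Algebra.subset_adjoin hz)
  have hmprime : ((maximalIdeal S).comap (algebraMap (Algebra.adjoin K (s : Set S)) S)).IsPrime :=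
    Ideal.IsPrime.comap _
  have hmem : ∀ a : Algebra.adjoin K (s : Set S),
      a ∈ (maximalIdeal S).comap (algebraMap (Algebra.adjoin K (s : Set S)) S) ↔
        (a : S) ∈ maximalIdeal S := fun a => Iff.rfl
  have hm : ((maximalIdeal S).comap (algebraMap (Algebra.adjoin K (s : Set S)) S)).IsMaximal := by
    apply Ideal.Quotient.maximal_of_isField
    let f : (Algebra.adjoin K (s : Set S) ⧸
        (maximalIdeal S).comap (algebraMap (Algebra.adjoin K (s : Set S)) S)) →ₐ[K]
        ResidueField S :=
      Ideal.Quotient.liftₐ _ ((IsScalarTower.toAlgHom K S (ResidueField S)).comp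
        (Algebra.adjoin K (s : Set S)).val) (by
          intro a ha
          rw [hmem] at ha
          exact (residue_eq_zero_iff _).2 ha)
    have hf : Function.Injective f := by
      rw [injective_iff_map_eq_zero]
      intro q hq
      obtain ⟨a, rfl⟩ := Ideal.Quotient.mk_surjective q
      have : residue S (a : S) = 0 := hq
      rw [residue_eq_zero_iff] at this
      exact Ideal.Quotient.eq_zero_iff_mem.2 ((hmem a).2 this)
    have : Algebra.IsIntegral K (ResidueField S) := Algebra.IsAlgebraic.isIntegral
    have hint : Algebra.IsIntegral K (Algebra.adjoin K (s : Set S) ⧸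
        (maximalIdeal S).comap (algebraMap (Algebra.adjoin K (s : Set S)) S)) :=
      Algebra.IsIntegral.of_injective f hf
    exact isField_of_isIntegral_of_isField' (Field.toIsField K)
  have hloc : IsLocalization
      ((maximalIdeal S).comap (algebraMap (Algebra.adjoin K (s : Set S)) S)).primeCompl S := by
    rw [isLocalization_iff]
    refine ⟨?_, ?_, ?_⟩
    · rintro ⟨a, ha⟩
      have : (a : S) ∉ maximalIdeal S := fun h => ha ((hmem a).2 h)
      exact (IsLocalRing.notMem_maximalIdeal).1 this
    · intro z
      obtain ⟨⟨x1, x2⟩, hx⟩ := IsLocalization.surj ((IsUnit.submonoid S).comap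
        (algebraMap (Algebra.adjoin k (s : Set S)) S)) z
      have hu : IsUnit ((x2 : Algebra.adjoin k (s : Set S)) : S) := x2.2
      have h1 : (x1 : S) ∈ Algebra.adjoin K (s : Set S) :=
        (Subalgebra.mem_restrictScalars k).1 (hle x1.2)
      have h2 : ((x2 : Algebra.adjoin k (s : Set S)) : S) ∈ Algebra.adjoin K (s : Set S) :=
        (Subalgebra.mem_restrictScalars k).1 (hle x2.1.2)
      refine ⟨(⟨x1.1, h1⟩, ⟨⟨(x2 : Algebra.adjoin k (s : Set S)).1, h2⟩, ?_⟩), hx⟩
      intro h
      exact (IsLocalRing.notMem_maximalIdeal).2 hu ((hmem _).1 h)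
    · intro x y hxy
      exact ⟨1, by rw [Subtype.ext hxy]⟩
  refine ⟨Algebra.adjoin K (s : Set S), inferInstance, inferInstance, inferInstance,
    inferInstance, hft, (maximalIdeal S).comap (algebraMap (Algebra.adjoin K (s : Set S)) S),
    hm, ⟨?_⟩⟩
  exact (IsLocalization.algEquiv
    ((maximalIdeal S).comap (algebraMap (Algebra.adjoin K (s : Set S)) S)).primeCompl S
    (Localization.AtPrime
      ((maximalIdeal S).comap (algebraMap (Algebra.adjoin K (s : Set S)) S)))).restrictScalars k

theorem exK (k S : Type u) [Field k] [CommRing S] [IsLocalRing S] [Algebra k S] :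
    ∃ (K : Type u) (_ : Field K) (_ : Algebra k K) (_ : Algebra K S) (_ : IsScalarTower k K S),
      Algebra.IsAlgebraic K (ResidueField S) := by
  classical
  obtain ⟨t, ht⟩ := exists_isTranscendenceBasis k (ResidueField S)
  choose y hy using fun i : t => IsLocalRing.residue_surjective (i : ResidueField S)
  let φ : MvPolynomial t k →ₐ[k] S := MvPolynomial.aeval y
  have hres : ∀ p : MvPolynomial t k,
      residue S (φ p) = MvPolynomial.aeval (fun i : t => (i : ResidueField S)) p := by
    intro p
    have h1 : (IsScalarTower.toAlgHom k S (ResidueField S)).comp φ =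
        MvPolynomial.aeval (fun i : t => (i : ResidueField S)) := by
      apply MvPolynomial.algHom_ext
      intro i
      simp only [φ, AlgHom.comp_apply, MvPolynomial.aeval_X]
      exact hy i
    exact AlgHom.congr_fun h1 p
  have hunit : ∀ p : MvPolynomial t k, p ≠ 0 → IsUnit (φ p) := by
    intro p hp
    rw [← IsLocalRing.notMem_maximalIdeal, ← residue_eq_zero_iff, hres]
    intro h0
    exact hp (ht.1 (by rw [h0, map_zero]))
  let Φ : FractionRing (MvPolynomial t k) →+* S :=
    IsLocalization.lift (M := nonZeroDivisors (MvPolynomial t k)) (g := (φ : MvPolynomial t k →+* S))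
      (fun p => hunit p (nonZeroDivisors.ne_zero p.2))
  have hΦ : ∀ q : MvPolynomial t k, Φ (algebraMap _ _ q) = φ q := fun q =>
    IsLocalization.lift_eq _ q
  let _ : Algebra (FractionRing (MvPolynomial t k)) S := Φ.toAlgebra
  have htower : IsScalarTower k (FractionRing (MvPolynomial t k)) S := by
    apply IsScalarTower.of_algebraMap_eq
    intro c
    rw [RingHom.algebraMap_toAlgebra,
      IsScalarTower.algebraMap_apply k (MvPolynomial t k) (FractionRing (MvPolynomial t k)), hΦ,
      AlgHom.commutes]
  refine ⟨FractionRing (MvPolynomial t k), inferInstance, inferInstance, Φ.toAlgebra, htower, ?_⟩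
  have halg := ht.isAlgebraic
  let ι0 : Algebra.adjoin k (Set.range (fun i : t => (i : ResidueField S))) →+*
      FractionRing (MvPolynomial t k) :=
    (algebraMap (MvPolynomial t k) (FractionRing (MvPolynomial t k))).comp
      (ht.1.aevalEquiv.symm : _ →+* MvPolynomial t k)
  let _ : Algebra (Algebra.adjoin k (Set.range (fun i : t => (i : ResidueField S))))
      (FractionRing (MvPolynomial t k)) := ι0.toAlgebra
  have htower2 : IsScalarTower (Algebra.adjoin k (Set.range (fun i : t => (i : ResidueField S))))
      (FractionRing (MvPolynomial t k)) (ResidueField S) := by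
    apply IsScalarTower.of_algebraMap_eq
    intro z
    obtain ⟨q, rfl⟩ := ht.1.aevalEquiv.surjective z
    have e1 : algebraMap (Algebra.adjoin k (Set.range (fun i : t => (i : ResidueField S))))
        (FractionRing (MvPolynomial t k)) (ht.1.aevalEquiv q) = algebraMap _ _ q := by
      rw [RingHom.algebraMap_toAlgebra]
      simp [ι0]
    rw [e1, IsScalarTower.algebraMap_apply (FractionRing (MvPolynomial t k)) S (ResidueField S),
      RingHom.algebraMap_toAlgebra, hΦ]
    change _ = residue S (φ q)
    rw [hres]
    rfl
  have hinj : Function.Injective (algebraMap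
      (Algebra.adjoin k (Set.range (fun i : t => (i : ResidueField S))))
      (FractionRing (MvPolynomial t k))) := by
    rw [RingHom.algebraMap_toAlgebra]
    exact (IsFractionRing.injective (MvPolynomial t k) (FractionRing (MvPolynomial t k))).comp
      ht.1.aevalEquiv.symm.injective
  exact Algebra.IsAlgebraic.extendScalars
    (R := Algebra.adjoin k (Set.range (fun i : t => (i : ResidueField S)))) hinj

end

/-- Suppose k is a field of characteristic zero and S is a local domain that is an essentially
finite-type k-algebra. Then there are an extension field K of k, a K-algebra A of finite type and a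
maximal ideal m of A such that S is isomorphic over k to the localization A_m. -/
theorem result (k : Type u) [Field k] [CharZero k] (S : Type u) [CommRing S] [IsDomain S] [IsLocalRing S] [Algebra k S] [Algebra.EssFiniteType k S] : ∃ (K : Type u) (_ : Field K) (_ : Algebra k K) (A : Type u) (_ : CommRing A) (_ : Algebra K A) (_ : Algebra k A) (_ : IsScalarTower k K A) (_ : Algebra.FiniteType K A) (m : Ideal A) (_ : m.IsMaximal), Nonempty (S ≃ₐ[k] Localization.AtPrime m) := by
  obtain ⟨K, iK, iA, iS, iT, halg⟩ := exK k S
  obtain ⟨A, i1, i2, i3, i4, i5, m, hm, e⟩ := mainK k K S halg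
  exact ⟨K, iK, iA, A, i1, i2, i3, i4, i5, m, hm, e⟩

end Groth.Agent.S17797
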