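import Groth.Statements.S17803
import Groth.Agent.Lib.Helper56.AdicAway

set_option autoImplicit false
universe u
open EGA4

namespace Groth.Agent.S17803

/-- Let A be an excellent normal domain which is a quotient of a regular ring, I an ideal of A and f ∈
A. Then the I-adic completion of the localization A_f is a normal ring (its localization at every
prime ideal is an integrally closed domain), and it is a quotient of a regular ring. -/
theorem result (A : Type u) [CommRing A] [IsDomain A] [IsIntegrallyClosed A] (hexc : EGA4.IsExcellent A) (hreg : ∃ (R : Type u) (_ : CommRing R) (_ : IsRegularRing R) (φ : R →+* A), Function.Surjective φ) (I : Ideal A) (f : A) : EGA4.IsNormalRing (AdicCompletion (I.map (algebraMap A (Localization.Away f))) (Localization.Away f)) ∧ ∃ (R' : Type u) (_ : CommRing R') (_ : IsRegularRing R') (ψ : R' →+* AdicCompletion (I.map (algebraMap A (Localization.Away f))) (Localization.Away f)), Function.Surjective ψ := by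
  obtain ⟨R, _, _, φ, hφ⟩ := hreg
  have hG : CAlg.IsGRing (Localization.Away f) :=
    Groth.Agent.Lib.Helper58.ExcellentLoc.isGRing_localization A hexc.2.2.1
      (Submonoid.powers f) (Localization.Away f)
  have hN : EGA4.IsNormalRing (Localization.Away f) :=
    Groth.Agent.Lib.Helper57.isNormalRing_of_isLocalization (Submonoid.powers f)
      (Localization.Away f) (Groth.Agent.Lib.Helper57.isNormalRing_of_isIntegrallyClosed A)
  refine ⟨Groth.Agent.Lib.Helper56.AdicAway.isNormalRing_adicCompletion _ hG hN _, ?_⟩
  obtain ⟨g, hg⟩ := hφ f
  have hle : Submonoid.powers g ≤ (Submonoid.powers f).comap φ := by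
    rintro _ ⟨n, rfl⟩
    exact ⟨n, by simp [hg]⟩
  let ψ : Localization.Away g →+* Localization.Away f :=
    IsLocalization.map (Localization.Away f) φ hle
  have hψ : Function.Surjective ψ := by
    intro y
    obtain ⟨a, ⟨_, n, rfl⟩, rfl⟩ := IsLocalization.exists_mk'_eq (Submonoid.powers f) y
    obtain ⟨r, rfl⟩ := hφ a
    refine ⟨IsLocalization.mk' (Localization.Away g) r (⟨g ^ n, ⟨n, rfl⟩⟩ : Submonoid.powers g), ?_⟩
    rw [IsLocalization.map_mk']
    congr 1
    ext
    simp [hg]
  have : IsRegularRing (Localization.Away g) :=
    Groth.Agent.Lib.Helper56.isRegularRing_of_isLocalization' (Submonoid.powers g)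
      (Localization.Away g) inferInstance
  exact Groth.Agent.Lib.Helper56.AdicAway.exists_regular_surjective_adicCompletion
    (Localization.Away g) (Localization.Away f) ψ hψ _

end Groth.Agent.S17803
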