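import Groth.Statements.S1781
import Groth.Agent.Lib.Helper89.Shriek5

set_option autoImplicit false
universe u
open CategoryTheory
attribute [local instance] HasDerivedCategory.standard
open Dual2

namespace Groth.Agent.S1781

/-- Let R → A be a ring map of finite type between Noetherian rings. Here φ^!(K) is formed from a
presentation ψ : R[x_1, …, x_n] → A as RHom_P(A, K ⊗^L_R P)[n], assuming the derived base change to
P exists and taking for RHom_P(A, −) a right adjoint of restriction of scalars along ψ. For two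
presentations (with n and m variables) the resulting objects of D(A) are isomorphic, for every K in
D(R). -/
theorem result (R A : Type u) [CommRing R] [CommRing A] [IsNoetherianRing R] [IsNoetherianRing A] [Algebra R A] (n : ℕ) (ψ : MvPolynomial (Fin n) R →ₐ[R] A) (hψ : Function.Surjective ψ) [DRing.HasLBaseChange (algebraMap R (MvPolynomial (Fin n) R))] (Rψ : Dual.D (MvPolynomial (Fin n) R) ⥤ Dual.D A) (adj : DRing.restrictD ψ.toRingHom ⊣ Rψ) (m : ℕ) (ψ' : MvPolynomial (Fin m) R →ₐ[R] A) (hψ' : Function.Surjective ψ') [DRing.HasLBaseChange (algebraMap R (MvPolynomial (Fin m) R))] (Rψ' : Dual.D (MvPolynomial (Fin m) R) ⥤ Dual.D A) (adj' : DRing.restrictD ψ'.toRingHom ⊣ Rψ') (K : Dual.D R) : Nonempty (Dual2.shriekVia n Rψ K ≅ Dual2.shriekVia m Rψ' K) := by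
  open Groth.Agent.Lib.Helper89 in
  obtain ⟨R₁, ⟨adj₁⟩⟩ := Shriek2.exists_rightAdjoint
    (MvPolynomial.eval₂Hom ψ.toRingHom (fun j : Fin m => ψ' (MvPolynomial.X j)))
  obtain ⟨R₂, ⟨adj₂⟩⟩ := Shriek2.exists_rightAdjoint
    (MvPolynomial.eval₂Hom ψ'.toRingHom (fun i : Fin n => ψ (MvPolynomial.X i)))
  obtain ⟨e1⟩ := Shriek5.add_variables (algebraMap R (MvPolynomial (Fin n) R)) ψ.toRingHom hψ
    (Fin m) (fun j : Fin m => ψ' (MvPolynomial.X j)) adj adj₁ K
  obtain ⟨e2⟩ := Shriek5.add_variables (algebraMap R (MvPolynomial (Fin m) R)) ψ'.toRingHom hψ'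
    (Fin n) (fun i : Fin n => ψ (MvPolynomial.X i)) adj' adj₂ K
  obtain ⟨e3⟩ := Shriek2.iso_invariance
    ((MvPolynomial.C : MvPolynomial (Fin n) R →+* MvPolynomial (Fin m) (MvPolynomial (Fin n) R)).comp
        (algebraMap R (MvPolynomial (Fin n) R)))
    (MvPolynomial.commAlgEquiv R (Fin m) (Fin n)).toRingEquiv
    ((MvPolynomial.C : MvPolynomial (Fin m) R →+* MvPolynomial (Fin n) (MvPolynomial (Fin m) R)).comp
      (algebraMap R (MvPolynomial (Fin m) R)))
    (Shriek5.swap_C R (Fin n) (Fin m)) _ _ (Shriek5.swap_eval R A (Fin n) (Fin m) ψ ψ') adj₁ adj₂ K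
  rw [Nat.card_fin] at e1 e2
  -- e1 : R₁(...) ≅ X⟦-m⟧, e2 : R₂(...) ≅ Y⟦-n⟧, e3 : R₁(...) ≅ R₂(...)
  have e4 := e1.symm ≪≫ e3 ≪≫ e2
  have h1 : (-(m : ℤ)) + ((n : ℤ) + (m : ℤ)) = (n : ℤ) := by ring
  have h2 : (-(n : ℤ)) + ((n : ℤ) + (m : ℤ)) = (m : ℤ) := by ring
  exact ⟨((shiftFunctorAdd' (Dual.D A) _ _ _ h1).app _) ≪≫
    (shiftFunctor (Dual.D A) ((n : ℤ) + (m : ℤ))).mapIso e4 ≪≫
    ((shiftFunctorAdd' (Dual.D A) _ _ _ h2).app _).symm⟩

end Groth.Agent.S1781
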