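import Groth.Statements.S17814
-- import your own Groth.Agent.* helpers here
import Groth.Agent.Lib.Helper82.EffCartier

set_option autoImplicit false
universe u
open CategoryTheory CategoryTheory.Limits AlgebraicGeometry
open SDiv

namespace Groth.Agent.S17814

open TensorProduct

theorem exists_notMem_mul_eq_zero {A : Type u} [CommRing A] [IsReduced A] {p : Ideal A}
    (hp : p ∈ minimalPrimes A) {a : A} (ha : a ∈ p) : ∃ y ∉ p, a * y = 0 := by
  haveI : p.IsPrime := hp.1.1
  let Ap := Localization.AtPrime p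
  have hnil : IsNilpotent (algebraMap A Ap a) := by
    rw [nilpotent_iff_mem_prime]
    intro J hJ
    have h1 : J.comap (algebraMap A Ap) ≤ p :=
      ((IsLocalization.AtPrime.orderIsoOfPrime Ap p) ⟨J, hJ⟩).2.2
    have h2 : p ≤ J.comap (algebraMap A Ap) :=
      hp.2 ⟨Ideal.comap_isPrime _ _, bot_le⟩ h1
    exact h2 ha
  obtain ⟨n, hn⟩ := hnil
  rw [← map_pow, IsLocalization.map_eq_zero_iff p.primeCompl] at hn
  obtain ⟨y, hy⟩ := hn
  refine ⟨y, y.2, ?_⟩
  apply IsReduced.eq_zero
  refine ⟨n + 1, ?_⟩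
  calc (a * (y : A)) ^ (n + 1) = a * (y : A) ^ n * ((y : A) * a ^ n) := by ring
    _ = 0 := by rw [hy, mul_zero]

/-- For a minimal prime `p` of a reduced ring, a field `K` over `A` with kernel `p`, and a flat
module `M`: if `1 ⊗ m = 0` in `K ⊗ M` then `m` is killed by some `s ∉ p`. -/
theorem exists_smul_eq_zero_of_tmul_eq_zero {A : Type u} [CommRing A] [IsReduced A]
    {M : Type u} [AddCommGroup M] [Module A M] [Module.Flat A M] (m : M)
    (p : Ideal A) (hp : p ∈ minimalPrimes A) (K : Type u) [Field K] [Algebra A K]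
    (hker : RingHom.ker (algebraMap A K) = p) (h : (1 : K) ⊗ₜ[A] m = 0) :
    ∃ s ∉ p, s • m = 0 := by
  haveI : p.IsPrime := hp.1.1
  let Ap := Localization.AtPrime p
  have hunit : ∀ y : p.primeCompl, IsUnit (algebraMap A K y) := by
    intro y
    rw [isUnit_iff_ne_zero]
    intro hy
    have : (y : A) ∈ RingHom.ker (algebraMap A K) := hy
    rw [hker] at this
    exact y.2 this
  let j : Ap →ₐ[A] K := IsLocalization.liftAlgHom (M := p.primeCompl) (f := Algebra.ofId A K) hunit
  have hj : Function.Injective j := by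
    rw [injective_iff_map_eq_zero]
    intro x hx
    obtain ⟨a, s, rfl⟩ := IsLocalization.exists_mk'_eq p.primeCompl x
    have h1 : j (IsLocalization.mk' Ap a s) * algebraMap A K s = algebraMap A K a := by
      have : IsLocalization.mk' Ap a s * algebraMap A Ap s = algebraMap A Ap a :=
        IsLocalization.mk'_spec _ _ _
      have h2 := congrArg j this
      rw [map_mul, AlgHom.commutes, AlgHom.commutes] at h2
      exact h2
    rw [hx, zero_mul] at h1
    have ha : a ∈ p := by
      rw [← hker]; exact h1.symm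
    obtain ⟨y, hy, hay0⟩ := exists_notMem_mul_eq_zero hp ha
    rw [IsLocalization.mk'_eq_zero_iff]
    exact ⟨⟨y, hy⟩, by simpa [mul_comm] using hay0⟩
  have hinj := Module.Flat.rTensor_preserves_injective_linearMap (M := M) j.toLinearMap hj
  have h0 : (1 : Ap) ⊗ₜ[A] m = 0 := by
    apply hinj
    rw [map_zero, LinearMap.rTensor_tmul]
    simpa using h
  have hloc : IsLocalizedModule p.primeCompl (TensorProduct.mk A Ap M 1) :=
    (isLocalizedModule_iff_isBaseChange p.primeCompl Ap _).mpr (TensorProduct.isBaseChange A M Ap)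
  obtain ⟨s, hs⟩ := (IsLocalizedModule.eq_zero_iff p.primeCompl (TensorProduct.mk A Ap M 1)).mp h0
  exact ⟨s.1, s.2, hs⟩

theorem eq_zero_of_forall_exists_smul_eq_zero {A : Type u} [CommRing A] [IsNoetherianRing A]
    [IsReduced A] {M : Type u} [AddCommGroup M] [Module A M] [Module.Flat A M] (m : M)
    (h : ∀ p ∈ minimalPrimes A, ∃ s ∉ p, s • m = 0) : m = 0 := by
  classical
  let J : Ideal A := LinearMap.ker (LinearMap.toSpanSingleton A M m)
  have hfin : (minimalPrimes A).Finite := minimalPrimes.finite_of_isNoetherianRing A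
  have hJ : ¬ ((J : Set A) ⊆ ⋃ p ∈ (hfin.toFinset : Set (Ideal A)), ((id p : Ideal A) : Set A)) := by
    rw [Ideal.subset_union_prime (R := A) (s := hfin.toFinset) (f := id) ⊥ ⊥
      (fun p hp _ _ => (hfin.mem_toFinset.mp hp).1.1)]
    push Not
    intro p hp hJp
    obtain ⟨s, hs, hsm⟩ := h p (hfin.mem_toFinset.mp hp)
    exact hs (hJp (by simpa [J] using hsm))
  rw [Set.not_subset] at hJ
  obtain ⟨s, hsJ, hs⟩ := hJ
  have hs' : ∀ p ∈ minimalPrimes A, s ∉ p := by
    intro p hp hsp
    apply hs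
    simp only [Set.mem_iUnion]
    exact ⟨p, by simpa using hp, hsp⟩
  have hnzd : s ∈ nonZeroDivisors A := by
    rw [mem_nonZeroDivisors_iff_right]
    intro a ha
    have h1 : a ∈ sInf (minimalPrimes A) := by
      rw [Ideal.mem_sInf]
      intro p hp
      have : a * s ∈ p := by rw [ha]; exact zero_mem _
      exact (hp.1.1.mem_or_mem this).resolve_right (hs' p hp)
    have h2 : sInf (minimalPrimes A) = (⊥ : Ideal A) := by
      rw [minimalPrimes, Ideal.sInf_minimalPrimes]
      exact nilradical_eq_zero A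
    rw [h2] at h1
    exact h1
  have hreg : IsSMulRegular M s := Module.Flat.isSMulRegular_of_nonZeroDivisors hnzd
  apply hreg
  have : s • m = 0 := by simpa [J] using hsJ
  simp only [this, smul_zero]


theorem fromSpecResidueField_eq {T : Scheme.{u}} {V : T.Opens} (hV : IsAffineOpen V) (t : T)
    (ht : t ∈ V) :
    T.fromSpecResidueField t = Spec.map (T.evaluation V t ht) ≫ hV.fromSpec := by
  rw [Scheme.fromSpecResidueField, ← hV.fromSpecStalk_eq_fromSpecStalk ht,
    IsAffineOpen.fromSpecStalk, ← Category.assoc, ← Spec.map_comp]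
  rfl

theorem ker_evaluation {T : Scheme.{u}} {V : T.Opens} (hV : IsAffineOpen V)
    (p : Spec Γ(T, V)) (ht : hV.fromSpec p ∈ V) :
    RingHom.ker (T.evaluation V (hV.fromSpec p) ht).hom = p.asIdeal := by
  ext a
  rw [RingHom.mem_ker, Scheme.evaluation_eq_zero_iff_notMem_basicOpen]
  have h1 : hV.fromSpec p ∈ T.basicOpen a ↔ p ∈ hV.fromSpec ⁻¹ᵁ T.basicOpen a := Iff.rfl
  rw [h1, hV.fromSpec_preimage_basicOpen]
  exact not_not

theorem map_eq_zero_of_fibre {𝒞 T Z : Scheme.{u}} (π : 𝒞 ⟶ T) (D D' : 𝒞.IdealSheafData) (t : T)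
    (hfib : D.comap (pullback.fst π (T.fromSpecResidueField t)) ≤
      D'.comap (pullback.fst π (T.fromSpecResidueField t)))
    (i : Z ⟶ 𝒞) (hi : D'.comap i = ⊥)
    {W : 𝒞.Opens} (hW : IsAffineOpen W) {V : T.Opens} (hV : IsAffineOpen V) (ht : t ∈ V)
    {W' : Z.Opens} (hW' : IsAffineOpen W') (e1 : W' ≤ i ⁻¹ᵁ W) (e2 : W' ≤ (i ≫ π) ⁻¹ᵁ V)
    (R' : CommRingCat.{u}) (incC : Γ(Z, W') ⟶ R') (incK : T.residueField t ⟶ R')
    (hcomm : (i ≫ π).appLE V W' e2 ≫ incC = T.evaluation V t ht ≫ incK)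
    (b : Γ(𝒞, W)) (hb : b ∈ D.ideal ⟨W, hW⟩) : incC (i.appLE W W' e1 b) = 0 := by
  let g : Spec R' ⟶ 𝒞 := Spec.map incC ≫ hW'.fromSpec ≫ i
  let h : Spec R' ⟶ Spec (T.residueField t) := Spec.map incK
  have comm : g ≫ π = h ≫ T.fromSpecResidueField t := by
    rw [fromSpecResidueField_eq hV t ht]
    simp only [g, h, Category.assoc]
    rw [← IsAffineOpen.SpecMap_appLE_fromSpec (i ≫ π) hV hW' e2, ← Spec.map_comp_assoc,
      ← Spec.map_comp_assoc, hcomm]
  let l : Spec R' ⟶ pullback π (T.fromSpecResidueField t) := pullback.lift g h comm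
  have hl : l ≫ pullback.fst _ _ = g := pullback.lift_fst _ _ _
  have h1 : D.comap g ≤ D'.comap g := by
    rw [← hl, Scheme.IdealSheafData.comap_comp, Scheme.IdealSheafData.comap_comp]
    exact Scheme.IdealSheafData.comap_mono _ hfib
  have h2 : D'.comap g = ⊥ := by
    have : g = (Spec.map incC ≫ hW'.fromSpec) ≫ i := by simp [g]
    rw [this, Scheme.IdealSheafData.comap_comp, hi, Scheme.IdealSheafData.comap_bot]
  rw [h2] at h1
  have e3 : (⊤ : (Spec R').Opens) ≤ g ⁻¹ᵁ W := by
    intro x _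
    have h0 : hW'.fromSpec (Spec.map incC x) ∈ W' := by
      rw [← SetLike.mem_coe, ← hW'.range_fromSpec]
      exact ⟨_, rfl⟩
    exact e1 h0
  have h3 := Groth.Agent.Lib.Helper82.ideal_comap_of_le g D ⊤ (isAffineOpen_top _) W hW e3
  have h4 : (D.comap g).ideal ⟨⊤, isAffineOpen_top _⟩ = ⊥ := le_bot_iff.mp (h1 _)
  have h5 : (g.appLE W ⊤ e3) b = 0 := by
    have : (g.appLE W ⊤ e3).hom b ∈ (D.ideal ⟨W, hW⟩).map (g.appLE W ⊤ e3).hom :=
      Ideal.mem_map_of_mem _ hb
    rw [← h3, h4] at this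
    exact this
  have h6 : g.appLE W ⊤ e3 = i.appLE W W' e1 ≫ incC ≫ (Scheme.ΓSpecIso R').inv := by
    apply Spec.map_injective
    rw [← cancel_mono hW.fromSpec, IsAffineOpen.SpecMap_appLE_fromSpec g hW (isAffineOpen_top _) e3]
    rw [IsAffineOpen.fromSpec_top, Scheme.isoSpec_Spec_inv]
    simp only [g, Spec.map_comp, Category.assoc]
    rw [IsAffineOpen.SpecMap_appLE_fromSpec i hW hW' e1]
  rw [h6] at h5
  have h7 : Function.Injective (Scheme.ΓSpecIso R').inv :=
    (ConcreteCategory.bijective_of_isIso (Scheme.ΓSpecIso R').inv).1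
  apply h7
  rw [map_zero]
  exact h5

theorem ideal_le_of_fibre {𝒞 T : Scheme.{u}} [IsLocallyNoetherian T] [AlgebraicGeometry.IsReduced T]
    (π : 𝒞 ⟶ T)
    (D D' : 𝒞.IdealSheafData) (hflat : Flat (D'.subschemeι ≫ π))
    (hfib : ∀ t : T, D.comap (pullback.fst π (T.fromSpecResidueField t)) ≤
      D'.comap (pullback.fst π (T.fromSpecResidueField t)))
    {W : 𝒞.Opens} (hW : IsAffineOpen W) {V : T.Opens} (hV : IsAffineOpen V) (e : W ≤ π ⁻¹ᵁ V) :
    D.ideal ⟨W, hW⟩ ≤ D'.ideal ⟨W, hW⟩ := by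
  intro b hb
  set i := D'.subschemeι with hi_def
  have hi : D'.comap i = ⊥ := by
    rw [eq_bot_iff, ← Scheme.IdealSheafData.le_map_iff_comap_le, Scheme.IdealSheafData.map_bot,
      Scheme.IdealSheafData.ker_subschemeι]
  let W' : D'.subscheme.Opens := i ⁻¹ᵁ W
  have hW' : IsAffineOpen W' := hW.preimage i
  have e1 : W' ≤ i ⁻¹ᵁ W := le_rfl
  have e2 : W' ≤ (i ≫ π) ⁻¹ᵁ V := fun x hx => e hx
  let A := Γ(T, V)
  let C := Γ(D'.subscheme, W')
  let ρ : A ⟶ C := (i ≫ π).appLE V W' e2
  have hρ : ρ.hom.Flat := (i ≫ π).flat_appLE hV hW' e2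
  letI : Algebra A C := ρ.hom.toAlgebra
  haveI : Module.Flat A C := hρ
  haveI : IsNoetherianRing A := IsLocallyNoetherian.component_noetherian ⟨V, hV⟩
  haveI : _root_.IsReduced A := inferInstance
  rw [← Scheme.IdealSheafData.ker_subschemeι_app D' ⟨W, hW⟩, RingHom.mem_ker]
  have happ : i.appLE W W' e1 = i.app W := (Scheme.Hom.app_eq_appLE i).symm
  apply eq_zero_of_forall_exists_smul_eq_zero (A := A) (M := C)
  intro p hp
  haveI : p.IsPrime := hp.1.1
  let pt : Spec A := ⟨p, inferInstance⟩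
  let t : T := hV.fromSpec pt
  have ht : t ∈ V := by
    rw [← SetLike.mem_coe, ← hV.range_fromSpec]
    exact ⟨_, rfl⟩
  let K : Type u := T.residueField t
  letI : Field K := inferInstanceAs (Field (T.residueField t))
  let ev : A →+* K := (T.evaluation V t ht).hom
  letI : Algebra A K := ev.toAlgebra
  have hker : RingHom.ker (algebraMap A K) = p := ker_evaluation hV pt ht
  apply exists_smul_eq_zero_of_tmul_eq_zero _ p hp K hker
  let R' : CommRingCat := CommRingCat.of (K ⊗[A] C)
  let incC : C ⟶ R' :=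
    CommRingCat.ofHom (Algebra.TensorProduct.includeRight : C →ₐ[A] K ⊗[A] C).toRingHom
  let incK : T.residueField t ⟶ R' :=
    CommRingCat.ofHom (Algebra.TensorProduct.includeLeftRingHom : K →+* K ⊗[A] C)
  have hcomm : ρ ≫ incC = T.evaluation V t ht ≫ incK := by
    apply CommRingCat.hom_ext
    refine RingHom.ext fun a => ?_
    show (1 : K) ⊗ₜ[A] (algebraMap A C a) = (algebraMap A K a) ⊗ₜ[A] (1 : C)
    rw [Algebra.algebraMap_eq_smul_one, Algebra.algebraMap_eq_smul_one, TensorProduct.smul_tmul]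
  have := map_eq_zero_of_fibre π D D' t (hfib t) i hi hW hV ht hW' e1 e2 R' incC incK hcomm b hb
  rw [happ] at this
  exact this

/-- Let T be a reduced locally Noetherian scheme, π : 𝒞 ⟶ T a proper smooth morphism of relative
dimension 1, and D, D' relative effective divisors on 𝒞/T: closed subschemes whose ideal sheaves are
locally generated by a single nonzerodivisor and which are flat over T. If for every point t of T
the fibre of D over t contains the fibre of D' as closed subschemes of 𝒞_t (containment of ideal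
sheaves the other way), then D contains D': the ideal sheaf of D is contained in that of D'. (The
published statement has no hypothesis on T; over T = Spec k[ε] the divisors x = 0 and x = ε on the
projective line have equal fibres while neither contains the other. This row assumes T reduced and
locally Noetherian.) -/
theorem result {𝒞 T : Scheme.{u}} [IsLocallyNoetherian T] [AlgebraicGeometry.IsReduced T]
    (π : 𝒞 ⟶ T) [IsProper π] [SmoothOfRelativeDimension 1 π]
    (D D' : 𝒞.IdealSheafData)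
    (hD : BlowUp.IsEffCartierIdeal D ∧ Flat (D.subschemeι ≫ π))
    (hD' : BlowUp.IsEffCartierIdeal D' ∧ Flat (D'.subschemeι ≫ π))
    (hfib : ∀ t : ↥T, D.comap (pullback.fst π (T.fromSpecResidueField t)) ≤
      D'.comap (pullback.fst π (T.fromSpecResidueField t))) :
    D ≤ D' := by
  refine Scheme.IdealSheafData.le_of_iSup_eq_top
    (ι := {W : 𝒞.affineOpens // ∃ V : T.affineOpens, W.1 ≤ π ⁻¹ᵁ V.1}) (fun W => W.1) ?_ ?_
  · rw [eq_top_iff]
    intro x _
    obtain ⟨V, hV, hxV, -⟩ := exists_isAffineOpen_mem_and_subset (x := π x) (U := ⊤) trivial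
    obtain ⟨W, hW, hxW, hWV⟩ := exists_isAffineOpen_mem_and_subset (x := x) (U := π ⁻¹ᵁ V) hxV
    exact TopologicalSpace.Opens.mem_iSup.mpr ⟨⟨⟨W, hW⟩, ⟨V, hV⟩, hWV⟩, hxW⟩
  · rintro ⟨⟨W, hW⟩, ⟨V, hV⟩, e⟩
    exact ideal_le_of_fibre π D D' hD'.2 hfib hW hV e

end Groth.Agent.S17814
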