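import Groth.Statements.S17825

set_option autoImplicit false
universe u
open CategoryTheory CategoryTheory.Limits AlgebraicGeometry
open JacVar

namespace Groth.Agent.S17825

/-- Let S be a scheme, Y an S-scheme separated over S, F a presheaf of sets on the category of
S-schemes, f : h_Y ⟶ F a morphism from the functor of points of Y, and s : F ⟶ h_Y a section of f (s
followed by f is the identity). Then F is represented by a closed subscheme of Y: there are an
S-scheme Z, a morphism i : Z ⟶ Y over S which is a closed immersion, and an isomorphism F ≅ h_Z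
whose composite with h_i : h_Z ⟶ h_Y is s. (The published lemma treats the case where Y is the r-th
symmetric power of a curve, F the functor of degree-r invertible families modulo twisting and f the
divisor-class map.) -/
theorem result {S : Scheme.{u}} (Y : Over S) [IsSeparated Y.hom]
    (F : (Over S)ᵒᵖ ⥤ Type u) (f : yoneda.obj Y ⟶ F) (s : F ⟶ yoneda.obj Y) (hsf : s ≫ f = 𝟙 F) :
    ∃ (Z : Over S) (i : Z ⟶ Y), IsClosedImmersion i.left ∧
      ∃ e : F ≅ yoneda.obj Z, e.hom ≫ yoneda.map i = s := by
  let ε : Y ⟶ Y := (f ≫ s).app (Opposite.op Y) (𝟙 Y)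
  have hε : ∀ (T : (Over S)ᵒᵖ) (t : T.unop ⟶ Y), s.app T (f.app T t) = t ≫ ε := by
    intro T t
    have := NatTrans.naturality_apply (f ≫ s) t.op (𝟙 Y)
    simpa [ε] using this
  have hfs : ∀ (T : (Over S)ᵒᵖ) (x : F.obj T), f.app T (s.app T x) = x := by
    intro T x
    have := NatTrans.comp_app_apply s f T x
    rw [hsf] at this
    simpa using this.symm
  have hs : ∀ (T : (Over S)ᵒᵖ) (x : F.obj T), s.app T x ≫ ε = s.app T x := by
    intro T x
    rw [← hε, hfs]
  let i : equalizer (𝟙 Y) ε ⟶ Y := equalizer.ι (𝟙 Y) ε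
  refine ⟨equalizer (𝟙 Y) ε, i, inferInstance, ?_⟩
  let e₁ : F ⟶ yoneda.obj (equalizer (𝟙 Y) ε) :=
    { app := fun T => ↾(fun x => equalizer.lift (s.app T x) (by rw [Category.comp_id, hs]))
      naturality := by
        intro T T' φ
        ext x
        apply equalizer.hom_ext
        have := NatTrans.naturality_apply s φ x
        simp [this] }
  have he₁ : ∀ (T : (Over S)ᵒᵖ) (x : F.obj T), e₁.app T x ≫ equalizer.ι (𝟙 Y) ε = s.app T x := by
    intro T x
    simp [e₁]
  let e₂ : yoneda.obj (equalizer (𝟙 Y) ε) ⟶ F := yoneda.map i ≫ f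
  have h₁ : e₁ ≫ yoneda.map i = s := by
    ext T x
    simp [i, he₁]
  refine ⟨⟨e₁, e₂, ?_, ?_⟩, h₁⟩
  · rw [← Category.assoc, h₁, hsf]
  · ext T t
    apply equalizer.hom_ext
    have h3 : t ≫ i ≫ ε = t ≫ i := by
      have := equalizer.condition (𝟙 Y) ε
      rw [Category.comp_id] at this
      rw [← this]
    change e₁.app T (f.app T (t ≫ i)) ≫ equalizer.ι (𝟙 Y) ε = t ≫ equalizer.ι (𝟙 Y) ε
    rw [he₁, hε, Category.assoc, h3]

end Groth.Agent.S17825
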