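import Groth.Statements.S17833
import Groth.Agent.S0348
import Groth.Agent.Lib.Helper22.GeomBC
import Groth.Agent.Lib.Helper19.Grp.QuotDesc
import Groth.Agent.Lib.Helper19.Act.SectionRigid

set_option autoImplicit false
universe u
open CategoryTheory MonoidalCategory CartesianMonoidalCategory MonObj GrpObj AlgebraicGeometry
open AlgGrp

namespace Groth.Agent.S17833

/-- Over an algebraically closed field k, let G be a connected smooth k-group scheme of finite type (in
the terminology of the notes, a smooth connected algebraic group), and H an affine normal subgroup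
scheme of G such that the quotient G/H is an abelian variety: here j : H → G is the kernel of a flat
surjective homomorphism q : G → Q of k-group schemes with Q proper over k, and H is affine. Then an
automorphism u of the algebraic group G which fixes H pointwise (j ∘ u = j) and induces the identity
of Q (q ∘ u = q) is the identity. Equivalently, the map from the group of automorphisms of G fixing
H pointwise to the automorphism group of G/H is injective. -/
theorem result (k : Type u) [Field k] [IsAlgClosed k]
    (G H Q : Over (Spec (CommRingCat.of k))) [GrpObj G] [GrpObj H] [GrpObj Q]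
    [Smooth G.hom] [QuasiCompact G.hom] [ConnectedSpace ↥G.left]
    [IsAffine H.left] [IsProper Q.hom]
    (j : H ⟶ G) [IsMonHom j] (q : G ⟶ Q) [IsMonHom q] [Flat q.left] [Surjective q.left]
    (hker : AlgGrp.IsKernel j q)
    (u : G ≅ G) [IsMonHom u.hom] (hH : j ≫ u.hom = j) (hQ : u.hom ≫ q = q) :
    u.hom = 𝟙 G := by
  haveI : QuasiCompact q.left := by
    haveI : QuasiCompact (q.left ≫ Q.hom) := by rw [Over.w q]; infer_instance
    exact QuasiCompact.of_comp q.left Q.hom
  haveI : EffectiveEpi q.left := inferInstance
  haveI : Epi q.left := inferInstance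
  haveI : Epi q := Over.epi_of_epi_left q
  let φ : G ⟶ G := u.hom * (𝟙 G)⁻¹
  have hφT : ∀ {T : Over (Spec (CommRingCat.of k))} (g : T ⟶ G),
      g ≫ φ = (g ≫ u.hom) * g⁻¹ := by
    intro T g
    simp only [φ, MonObj.comp_mul, GrpObj.comp_inv, Category.comp_id]
  have hφq : φ ≫ q = 1 := by
    simp only [φ, MonObj.mul_comp, GrpObj.inv_comp, hQ, Category.id_comp, mul_inv_cancel]
  obtain ⟨φ', hφ'⟩ := Groth.Agent.Lib.Helper19.QuotDesc.exists_desc_of_isKernel hker φ (by
    intro T g h
    rw [hφT, hφT, MonObj.mul_comp, Category.assoc, hH]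
    group)
  have hφ'q : φ' ≫ q = 1 := by
    rw [← cancel_epi q, ← Category.assoc, hφ', hφq, Hom.one_def, Hom.one_def, ← Category.assoc]
    congr 1
    exact toUnit_unique _ _
  obtain ⟨ψ, hψ⟩ := Groth.Agent.Lib.Helper19.QuotDesc.exists_lift_of_isKernel hker φ' hφ'q
  haveI : IsReduced G.left := Groth.Agent.Lib.Helper19.Act.isReduced_of_smooth G.hom
  haveI : IsReduced Q.left :=
    Groth.Agent.Lib.Helper22.GeomBC.isReduced_of_flat_of_surjective q.left inferInstance
      inferInstance inferInstance
  haveI : ConnectedSpace Q.left :=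
    Function.Surjective.connectedSpace q.left.surjective q.left.continuous
  haveI : IrreducibleSpace Q.left := Groth.Agent.S0348.result k Q
  haveI : IsIntegral Q.left := isIntegral_of_irreducibleSpace_of_isReduced _
  obtain ⟨c, hc⟩ := Groth.Agent.Lib.Helper19.QuotDesc.exists_factor_of_isAffine k Q.hom ψ.left
  have hφ'left : φ'.left = Q.hom ≫ c ≫ j.left := by
    rw [← hψ, Over.comp_left, hc, Category.assoc]
  have hηφ' : η[Q] ≫ φ' = 1 := by
    rw [← IsMonHom.one_hom q, Category.assoc, hφ', hφT, IsMonHom.one_hom, mul_inv_cancel]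
  have hw : η[Q].left ≫ Q.hom = 𝟙 _ := Over.w η[Q]
  have hd : c ≫ j.left = (1 : 𝟙_ (Over (Spec (CommRingCat.of k))) ⟶ G).left := by
    rw [← hηφ', Over.comp_left, hφ'left, ← Category.assoc, hw, Category.id_comp]
  have hφ'1 : φ' = 1 := by
    ext
    rw [hφ'left, hd, Hom.one_def, Hom.one_def, Over.comp_left, Over.comp_left]
    have h1 : toUnit (𝟙_ (Over (Spec (CommRingCat.of k)))) = 𝟙 _ := toUnit_unique _ _
    rw [h1, Over.id_left, Category.id_comp, Over.toUnit_left]
  have hφ1 : φ = 1 := by
    rw [← hφ', hφ'1, Hom.one_def, Hom.one_def, ← Category.assoc]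
    congr 1
    exact toUnit_unique _ _
  exact mul_inv_eq_one.mp hφ1

end Groth.Agent.S17833
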