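import Groth.Statements.S17843
import Mathlib

set_option autoImplicit false
universe u v
open CAlg

namespace Groth.Agent.S17843

section

open Polynomial

theorem coeff_scale {S : Type*} [CommRing S] (c : S) (p : S[X]) (j : ℕ) :
    (aeval (C c * X) p).coeff j = p.coeff j * c ^ j := by
  rw [← comp_eq_aeval, comp_C_mul_X_coeff]

theorem uniform_pow {R : Type*} [CommRing R] (r : R) (T : Finset R)
    (h : ∀ a ∈ T, ∃ m : ℕ, r ^ m * a = 0) : ∃ M : ℕ, ∀ a ∈ T, r ^ M * a = 0 := by
  classical
  induction T using Finset.induction_on with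
  | empty => exact ⟨0, fun a ha => absurd ha (Finset.notMem_empty a)⟩
  | insert a T _ ih =>
    obtain ⟨M₁, h₁⟩ := ih (fun b hb => h b (Finset.mem_insert_of_mem hb))
    obtain ⟨M₂, h₂⟩ := h a (Finset.mem_insert_self a T)
    refine ⟨M₁ + M₂, fun b hb => ?_⟩
    rcases Finset.mem_insert.mp hb with rfl | hb
    · rw [pow_add, mul_assoc, h₂, mul_zero]
    · rw [pow_add, mul_comm (r ^ M₁), mul_assoc, h₁ b hb, mul_zero]

theorem main_poly (R : Type u) (B : Type v) [CommRing R] [CommRing B] [Algebra R B] (r : R)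
    (k : ℕ) (f : MvPolynomial (Fin k) R →ₐ[R] B) (hf : Function.Surjective f)
    (s : Finset (MvPolynomial (Fin k) R))
    (hs : Ideal.span (s : Set (MvPolynomial (Fin k) R)) = RingHom.ker f.toRingHom)
    (x : B →ₐ[R] Polynomial (Localization.Away r)) (x₀ : B →ₐ[R] R)
    (hx₀ : ∀ b, algebraMap R (Localization.Away r) (x₀ b) = (x b).coeff 0) :
    ∃ N : ℕ, ∀ n : ℕ, N ≤ n → ∃ y : B →ₐ[R] Polynomial R,
      (∀ b, (y b).coeff 0 = x₀ b) ∧
      ∀ b, map (algebraMap R (Localization.Away r)) (y b) =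
        aeval (C (algebraMap R (Localization.Away r) (r ^ n)) * X) (x b) := by
  classical
  obtain ⟨ι, hι⟩ : ∃ ι : R →+* Localization.Away r, ι = algebraMap R (Localization.Away r) :=
    ⟨_, rfl⟩
  rw [← hι] at hx₀ ⊢
  obtain ⟨P, hP⟩ : ∃ P : Fin k → (Localization.Away r)[X],
      ∀ i, P i = x (f (MvPolynomial.X i)) := ⟨_, fun _ => rfl⟩
  obtain ⟨⟨b, hb⟩, hcs⟩ := IsLocalization.exist_integer_multiples_of_finset (Submonoid.powers r)
    (Finset.univ.biUnion (fun i => (P i).coeffs))
  obtain ⟨e, rfl⟩ := hb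
  have hβ : ∀ i j, ∃ b' : R, ι b' = ι (r ^ e) * (P i).coeff j := by
    intro i j
    by_cases h0 : (P i).coeff j = 0
    · exact ⟨0, by rw [h0, map_zero, mul_zero]⟩
    · have hmem : (P i).coeff j ∈ Finset.univ.biUnion (fun i => (P i).coeffs) :=
        Finset.mem_biUnion.mpr ⟨i, Finset.mem_univ _, coeff_mem_coeffs h0⟩
      obtain ⟨b', hb'⟩ := hcs _ hmem
      exact ⟨b', by rw [hι, hb', Algebra.smul_def]⟩
  choose β hβ using hβ
  obtain ⟨γ, hγ0, hγ1⟩ : ∃ γ : Fin k → ℕ → R, (∀ i, γ i 0 = x₀ (f (MvPolynomial.X i))) ∧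
      ∀ i j, j ≠ 0 → γ i j = β i j * r ^ (e * (j - 1)) :=
    ⟨fun i j => if j = 0 then x₀ (f (MvPolynomial.X i)) else β i j * r ^ (e * (j - 1)),
      fun i => if_pos rfl, fun i j hj => if_neg hj⟩
  obtain ⟨Q, hQcoeff⟩ : ∃ Q : Fin k → R[X],
      ∀ i j, (Q i).coeff j = if j ≤ (P i).natDegree then γ i j else 0 := by
    refine ⟨fun i => ∑ j ∈ Finset.range ((P i).natDegree + 1), monomial j (γ i j), ?_⟩
    intro i j
    simp only [finsetSum_coeff, coeff_monomial]
    rw [Finset.sum_ite_eq' (Finset.range ((P i).natDegree + 1)) j (fun j => γ i j)]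
    simp only [Finset.mem_range, Nat.lt_succ_iff]
  have hQmap : ∀ i, map ι (Q i) = aeval (C (ι (r ^ e)) * X) (P i) := by
    intro i
    ext j
    rw [coeff_map, coeff_scale, hQcoeff]
    split_ifs with hj
    · by_cases j0 : j = 0
      · subst j0
        rw [hγ0, hx₀, pow_zero, mul_one, hP]
      · rw [hγ1 i j j0, map_mul, hβ, map_pow, map_pow]
        obtain ⟨j', rfl⟩ : ∃ j', j = j' + 1 := ⟨j - 1, by omega⟩
        rw [Nat.add_sub_cancel, pow_succ, ← pow_mul]
        ring
    · rw [coeff_eq_zero_of_natDegree_lt (by omega), map_zero, zero_mul]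
  obtain ⟨yh, hyh⟩ : ∃ yh : MvPolynomial (Fin k) R →ₐ[R] R[X], yh = MvPolynomial.aeval Q :=
    ⟨_, rfl⟩
  have hE1 : ∀ p, map ι (yh p) = aeval (C (ι (r ^ e)) * X) (x (f p)) := by
    have h1 : (mapAlg R (Localization.Away r)).comp yh =
        (((aeval (C (ι (r ^ e)) * X) :
          (Localization.Away r)[X] →ₐ[Localization.Away r] (Localization.Away r)[X]).restrictScalars
            R).comp x).comp f := by
      apply MvPolynomial.algHom_ext
      intro i
      simp only [AlgHom.comp_apply, AlgHom.restrictScalars_apply, hyh, MvPolynomial.aeval_X]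
      rw [← hP, ← hQmap, hι]
      rfl
    intro p
    have h2 := DFunLike.congr_fun h1 p
    simp only [AlgHom.comp_apply, AlgHom.restrictScalars_apply] at h2
    rw [← h2, hι]
    rfl
  have hE2 : ∀ p, (yh p).coeff 0 = x₀ (f p) := by
    have h1 : ((aeval (0 : R) : R[X] →ₐ[R] R)).comp yh = x₀.comp f := by
      apply MvPolynomial.algHom_ext
      intro i
      simp only [AlgHom.comp_apply, hyh, MvPolynomial.aeval_X]
      rw [← coeff_zero_eq_aeval_zero, hQcoeff, if_pos (Nat.zero_le _), hγ0]
    intro p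
    have h2 := DFunLike.congr_fun h1 p
    simp only [AlgHom.comp_apply] at h2
    rw [coeff_zero_eq_aeval_zero, h2]
  have hkillι : ∀ g ∈ s, ∀ j, ι ((yh g).coeff j) = 0 := by
    intro g hg j
    have hfg : f g = 0 := by
      have : g ∈ RingHom.ker f.toRingHom := by rw [← hs]; exact Ideal.subset_span hg
      exact this
    have h1 := hE1 g
    rw [hfg, map_zero, map_zero] at h1
    have h2 := congrArg (fun q => q.coeff j) h1
    simpa [coeff_map] using h2
  obtain ⟨M, hM⟩ := uniform_pow r (s.biUnion (fun g => (yh g).coeffs)) (by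
    intro a ha
    obtain ⟨g, hg, hag⟩ := Finset.mem_biUnion.mp ha
    obtain ⟨j, -, rfl⟩ := Finset.mem_image.mp hag
    have h1 := hkillι g hg j
    rw [hι] at h1
    obtain ⟨⟨m, hm⟩, hm0⟩ := (IsLocalization.map_eq_zero_iff (Submonoid.powers r) _ _).mp h1
    obtain ⟨m', rfl⟩ := hm
    exact ⟨m', hm0⟩)
  have hM' : ∀ g ∈ s, ∀ j, r ^ M * (yh g).coeff j = 0 := by
    intro g hg j
    by_cases h0 : (yh g).coeff j = 0
    · rw [h0, mul_zero]
    · exact hM _ (Finset.mem_biUnion.mpr ⟨g, hg, coeff_mem_coeffs h0⟩)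
  refine ⟨e + M, fun n hn => ?_⟩
  obtain ⟨yn, hyn⟩ : ∃ yn : MvPolynomial (Fin k) R →ₐ[R] R[X],
      ∀ p j, (yn p).coeff j = (yh p).coeff j * (r ^ (n - e)) ^ j :=
    ⟨(aeval (C (r ^ (n - e)) * X) : R[X] →ₐ[R] R[X]).comp yh, fun p j => by
      rw [AlgHom.comp_apply, coeff_scale]⟩
  have hkill : ∀ g ∈ s, yn g = 0 := by
    intro g hg
    ext j
    rw [hyn, coeff_zero]
    by_cases j0 : j = 0
    · subst j0
      have hfg : f g = 0 := by
        have : g ∈ RingHom.ker f.toRingHom := by rw [← hs]; exact Ideal.subset_span hg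
        exact this
      rw [hE2, hfg, map_zero, zero_mul]
    · have h1 : M ≤ (n - e) * j := by
        have : M ≤ n - e := by omega
        calc M ≤ n - e := this
          _ = (n - e) * 1 := (mul_one _).symm
          _ ≤ (n - e) * j := Nat.mul_le_mul_left _ (by omega)
      rw [← pow_mul, ← Nat.sub_add_cancel h1, pow_add, mul_comm, mul_assoc, hM' g hg j, mul_zero]
  have hker : RingHom.ker f.toRingHom ≤ RingHom.ker yn.toRingHom := by
    rw [← hs, Ideal.span_le]
    intro g hg
    exact hkill g hg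
  refine ⟨AlgHom.liftOfSurjective f hf yn hker, ?_, ?_⟩
  · intro b
    obtain ⟨p, rfl⟩ := hf b
    rw [AlgHom.liftOfSurjective_apply, hyn, pow_zero, mul_one, hE2]
  · intro b
    obtain ⟨p, rfl⟩ := hf b
    rw [AlgHom.liftOfSurjective_apply]
    ext j
    rw [coeff_map, hyn, coeff_scale, map_mul]
    have h1 := congrArg (fun q => q.coeff j) (hE1 p)
    simp only [coeff_map, coeff_scale] at h1
    rw [h1, mul_assoc, map_pow ι (r ^ (n - e)) j, ← mul_pow, ← map_mul, ← pow_add]
    have hen : e + (n - e) = n := by omega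
    rw [hen]

end

/-- In the case of an affine scheme of finite presentation, let B be a finitely presented R-algebra, r ∈
R, and x : B → R[1/r][T] an R-algebra homomorphism whose value at T = 0, a homomorphism B → R[1/r],
is induced by a homomorphism x̃₀ : B → R. Then for every large enough n, the homomorphism x(rⁿT) : B
→ R[1/r][T] is induced by a homomorphism x̃ : B → R[T] whose value at T = 0 is x̃₀. The published
statement is for algebraic spaces locally of finite presentation over R; this row takes an affine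
scheme of finite presentation. -/
theorem result
    (R : Type u) (B : Type v) [CommRing R] [CommRing B] [Algebra R B]
    [Algebra.FinitePresentation R B] (r : R)
    (x : B →ₐ[R] Polynomial (Localization.Away r))
    (x₀ : B →ₐ[R] R)
    (hx₀ : (algebraMap R (Localization.Away r)).comp x₀.toRingHom =
      (Polynomial.evalRingHom 0).comp x.toRingHom) :
    ∃ N : ℕ, ∀ n : ℕ, N ≤ n →
      ∃ y : B →ₐ[R] Polynomial R,
        (Polynomial.evalRingHom 0).comp y.toRingHom = x₀.toRingHom ∧
        (Polynomial.mapRingHom (algebraMap R (Localization.Away r))).comp y.toRingHom =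
          (Polynomial.aeval (Polynomial.C (algebraMap R (Localization.Away r) (r ^ n)) * Polynomial.X) :
              Polynomial (Localization.Away r) →ₐ[Localization.Away r] Polynomial (Localization.Away r)).toRingHom.comp
            x.toRingHom := by
  obtain ⟨k, f, hf, hfg⟩ := Algebra.FinitePresentation.out (R := R) (A := B)
  obtain ⟨s, hs⟩ := hfg
  have hx₀' : ∀ b, algebraMap R (Localization.Away r) (x₀ b) = (x b).coeff 0 := by
    intro b
    have := RingHom.congr_fun hx₀ b
    simp only [RingHom.comp_apply] at this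
    rw [Polynomial.coeff_zero_eq_eval_zero]
    exact this
  obtain ⟨N, hN⟩ := main_poly R B r k f hf s hs x x₀ hx₀'
  refine ⟨N, fun n hn => ?_⟩
  obtain ⟨y, hy1, hy2⟩ := hN n hn
  refine ⟨y, ?_, ?_⟩
  · ext b
    show Polynomial.eval 0 (y b) = x₀ b
    rw [← hy1 b, Polynomial.coeff_zero_eq_eval_zero]
  · ext b : 1
    simp only [RingHom.comp_apply]
    exact hy2 b

end Groth.Agent.S17843
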