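import Groth.Statements.S17849
import Groth.Agent.Lib.Helper84.GLatRep

set_option autoImplicit false
open CategoryTheory
open GalLat

namespace Groth.Agent.S17849

/-- For a finite group Γ and a Γ-lattice Λ (finitely generated free ℤ-module with Γ-action) the
following are equivalent: (i) H¹(Γ', Λ) = 0 for every subgroup Γ' ≤ Γ; (ii) Ext¹ over ℤ[Γ] of P into
Λ vanishes for every permutation lattice P = ℤ[X], X a finite Γ-set. Condition (ii) is stated
through Yoneda extensions: every short exact sequence 0 → Λ' → E → P → 0 of ℤ-linear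
Γ-representations with Λ' ≅ Λ and P ≅ ℤ[X] splits. (These are the lattices called coflasque.) The
group, the lattice and the Γ-sets are taken in the lowest universe. -/
theorem result
    (Γ : Type) [Group Γ] [Finite Γ] (Λ : Rep ℤ Γ) [Module.Free ℤ Λ.V] [Module.Finite ℤ Λ.V] :
    (∀ Γ' : Subgroup Γ, Limits.IsZero (groupCohomology (Rep.res Γ'.subtype Λ) 1)) ↔
      ∀ (X : Type) [MulAction Γ X] [Finite X] (E : ShortComplex (Rep ℤ Γ)),
        E.ShortExact → Nonempty (E.X₁ ≅ Λ) → Nonempty (E.X₃ ≅ Rep.ofMulAction ℤ Γ X) →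
          Nonempty E.Splitting := by
  open Groth.Agent.Lib.Helper84.GLatRes in
  constructor
  · intro h1 X _ _ E hE he₁ he₃
    obtain ⟨e₁⟩ := he₁
    obtain ⟨e₃⟩ := he₃
    exact splitting_of_cf X E hE (cf_of_iso e₁.symm (cf_of_H1 Λ h1)) (e₃ ≪≫ (permIso X).symm)
  · intro h2 Γ'
    exact H1_of_cf Λ (cf_of_split Λ inferInstance inferInstance h2) Γ'

end Groth.Agent.S17849
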