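import Groth.Statements.S17853
import Groth.Agent.Lib.Helper47.HorrocksMain

set_option autoImplicit false
open Polynomial LaurentPolynomial TensorProduct
universe u
open CAlg

namespace Groth.Agent.S17853

/-- For an arbitrary commutative ring A, a finitely generated projective A[t]-module M is extended from
A (isomorphic to A[t] ⊗_A P for an A-module P) if and only if it extends to a vector bundle on the
projective line over A. The latter is stated by gluing: there are a finitely generated projective
module N over the polynomial ring of the chart at infinity and an isomorphism over the Laurent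
polynomial ring between the localisation of M and the base change of N along s ↦ t⁻¹, written as a
bijective additive map A[t,t⁻¹] ⊗ M → A[t,t⁻¹] ⊗ N that is semilinear with respect to the A-algebra
involution t ↦ t⁻¹ of A[t,t⁻¹]. (The published statement adds: for A semilocal, M is then free on
each connected component of the affine line.) -/
theorem result
    (A : Type u) [CommRing A] (M : Type u) [AddCommGroup M] [Module A[X] M]
    [Module.Finite A[X] M] [Module.Projective A[X] M] :
    (∃ (P : Type u) (_ : AddCommGroup P) (_ : Module A P), Nonempty (M ≃ₗ[A[X]] (A[X] ⊗[A] P))) ↔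
      ∃ (N : Type u) (_ : AddCommGroup N) (_ : Module A[X] N),
        Module.Finite A[X] N ∧ Module.Projective A[X] N ∧
        ∃ e : (A[T;T⁻¹] ⊗[A[X]] M) →ₛₗ[(LaurentPolynomial.invert (R := A)).toRingEquiv.toRingHom]
            (A[T;T⁻¹] ⊗[A[X]] N), Function.Bijective e := by
  open Groth.Agent.Lib.Helper47.Horrocks in
  constructor
  · rintro ⟨P, _, _, ⟨e₀⟩⟩
    refine ⟨M, inferInstance, inferInstance, inferInstance, inferInstance, ?_⟩
    let ψ : A[T;T⁻¹] ⊗[A[X]] M ≃ₗ[A[T;T⁻¹]] A[T;T⁻¹] ⊗[A] P :=
      (LinearEquiv.baseChange A[X] A[T;T⁻¹] M _ e₀) ≪≫ₗ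
        AlgebraTensorModule.cancelBaseChange A A[X] A[T;T⁻¹] A[T;T⁻¹] P
    let inv : A[T;T⁻¹] →ₐ[A] A[T;T⁻¹] := (LaurentPolynomial.invert : A[T;T⁻¹] ≃ₐ[A] A[T;T⁻¹])
    have hinv : ∀ y : A[T;T⁻¹] ⊗[A] P, tmap P inv (tmap P inv y) = y := by
      intro y
      rw [← tmap_comp]
      have : inv.comp inv = AlgHom.id A A[T;T⁻¹] := by
        refine AlgHom.ext fun x => ?_
        show invert (invert x) = x
        exact involutive_invert x
      rw [this, tmap_id]
    let e : (A[T;T⁻¹] ⊗[A[X]] M) →ₛₗ[(LaurentPolynomial.invert (R := A)).toRingEquiv.toRingHom]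
        (A[T;T⁻¹] ⊗[A[X]] M) :=
      { toFun := fun x => ψ.symm (tmap P inv (ψ x))
        map_add' := fun x y => by simp only [map_add]
        map_smul' := fun a x => by
          simp only [map_smul, tmap_smul]
          rfl }
    refine ⟨e, Function.Involutive.bijective fun x => ?_⟩
    show ψ.symm (tmap P inv (ψ (ψ.symm (tmap P inv (ψ x))))) = x
    rw [LinearEquiv.apply_symm_apply, hinv, LinearEquiv.symm_apply_apply]
  · rintro ⟨N, _, _, _, _, e, hbij⟩
    have : Module.Finite A (Fib A N) := (FibrePair.ofQuotient A N).finite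
    have : Module.Projective A (Fib A N) := (FibrePair.ofQuotient A N).projective
    obtain ⟨h, u, v, hh, h1, h2⟩ := exists_monic_isogeny_of_P1 (M := M) (N := N)
      e.toAddMonoidHom (fun a x => e.map_smulₛₗ a x) hbij
    obtain ⟨ε⟩ := extended_of_monic_isogeny h hh u v h1 h2
    exact ⟨Fib A M, inferInstance, inferInstance, ⟨ε.symm⟩⟩

end Groth.Agent.S17853
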