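import Groth.Statements.S17858
import Mathlib.AlgebraicGeometry.Morphisms.Affine

set_option autoImplicit false
open CategoryTheory AlgebraicGeometry
universe u
open Algz

namespace Groth.Agent.S17858

open Limits

lemma isAffineOpen_pullback_inf {X Y Z : Scheme.{u}} {f : X ⟶ Z} {g : Y ⟶ Z}
    {U : X.Opens} (hU : IsAffineOpen U) {V : Y.Opens} (hV : IsAffineOpen V)
    {W : Z.Opens} (hW : IsAffineOpen W) (hUW : U ≤ f ⁻¹ᵁ W) (hVW : V ≤ g ⁻¹ᵁ W) :
    IsAffineOpen (pullback.fst f g ⁻¹ᵁ U ⊓ pullback.snd f g ⁻¹ᵁ V) := by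
  have : IsAffine U.toScheme := hU
  have : IsAffine W.toScheme := hW
  have : IsAffine V.toScheme := hV
  let f' : U.toScheme ⟶ W := f.resLE _ _ hUW
  let q : V.toScheme ⟶ W := g.resLE _ _ hVW
  let p : pullback f' q ⟶ pullback f g :=
    pullback.map _ _ _ _ U.ι V.ι W.ι (by simp [f']) (by simp [q])
  have : IsOpenImmersion p := inferInstance
  convert isAffineOpen_opensRange p
  ext x
  simp [p, Scheme.Pullback.range_map]

lemma exists_basicOpen_refinement {B : Type u} [CommRing B] {ι : Type*} [Finite ι]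
    (U : ι → TopologicalSpace.Opens (PrimeSpectrum B)) (hU : ⨆ i, U i = ⊤) :
    ∃ b : ι → B, (∀ i, PrimeSpectrum.basicOpen (b i) ≤ U i) ∧
      ⨆ i, PrimeSpectrum.basicOpen (b i) = ⊤ := by
  classical
  let I : ι → Ideal B := fun i => PrimeSpectrum.vanishingIdeal ((U i : Set (PrimeSpectrum B))ᶜ)
  have hI : ⨆ i, I i = ⊤ := by
    rw [← PrimeSpectrum.zeroLocus_empty_iff_eq_top, PrimeSpectrum.zeroLocus_iSup]
    rw [Set.eq_empty_iff_forall_notMem]
    intro x hx
    rw [Set.mem_iInter] at hx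
    have hxU : x ∈ (⨆ i, U i : TopologicalSpace.Opens (PrimeSpectrum B)) := by rw [hU]; trivial
    obtain ⟨i, hi⟩ := TopologicalSpace.Opens.mem_iSup.mp hxU
    have h1 := hx i
    rw [PrimeSpectrum.zeroLocus_vanishingIdeal_eq_closure,
      (U i).isOpen.isClosed_compl.closure_eq] at h1
    exact h1 hi
  have h1 : (1 : B) ∈ ⨆ i, I i := by rw [hI]; trivial
  obtain ⟨f, hf, hsum⟩ := (Submodule.mem_iSup_iff_exists_finsupp _ _).mp h1
  refine ⟨fun i => f i, fun i x hx => ?_, ?_⟩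
  · by_contra hxU
    have : f i ∈ x.asIdeal := by
      have := hf i
      rw [PrimeSpectrum.mem_vanishingIdeal] at this
      exact this x hxU
    exact hx this
  · rw [eq_top_iff]
    intro x _
    rw [TopologicalSpace.Opens.mem_iSup]
    by_contra hcon
    push Not at hcon
    have hall : ∀ i, f i ∈ x.asIdeal := by
      intro i
      by_contra h
      exact hcon i h
    have : (1 : B) ∈ x.asIdeal := by
      rw [← hsum, Finsupp.sum]
      exact sum_mem (fun i _ => hall i)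
    exact x.isPrime.ne_top ((Ideal.eq_top_iff_one _).mpr this)

/-- Let `j : W ⟶ Y` be a quasi-affine morphism of quasi-compact quasi-separated schemes. There is a
natural number `m` such that for every commutative ring `B` and every morphism `Spec B ⟶ Y`, the
fibre product `W ×_Y Spec B` is the union of `m` affine open subschemes. -/
theorem result {W Y : Scheme.{u}} (j : W ⟶ Y)
    [CompactSpace W] [QuasiSeparatedSpace W] [CompactSpace Y] [QuasiSeparatedSpace Y]
    (hj : Mor2.IsQuasiAffine j) :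
    ∃ m : ℕ, ∀ (B : CommRingCat.{u}) (g : Spec B ⟶ Y),
      ∃ U : Fin m → (Limits.pullback j g).Opens, (∀ k, IsAffineOpen (U k)) ∧ ⨆ k, U k = ⊤ := by
  classical
  have hqc : QuasiCompact j := hj.1
  obtain ⟨s, hs, hsY⟩ := isCompact_iff_finite_and_eq_biUnion_affineOpens.mp
    (show IsCompact ((⊤ : Y.Opens) : Set Y) from isCompact_univ)
  have hcpt : ∀ V : Y.affineOpens, IsCompact ((j ⁻¹ᵁ (V : Y.Opens) : W.Opens) : Set W) :=
    fun V => j.isCompact_preimage V.2.isCompact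
  choose t ht htW using fun V : Y.affineOpens =>
    isCompact_iff_finite_and_eq_biUnion_affineOpens.mp (hcpt V)
  have : Finite s := hs
  have : ∀ V : s, Finite (t V.1) := fun V => ht V.1
  obtain ⟨m, ⟨e⟩⟩ := Finite.exists_equiv_fin (Σ V : s, t V.1)
  refine ⟨m, fun B g => ?_⟩
  have hcov : ⨆ V : s, (g ⁻¹ᵁ (V.1 : Y.Opens)) = ⊤ := by
    rw [eq_top_iff]
    intro x _
    have hx : g x ∈ (⊤ : Y.Opens) := trivial
    rw [hsY] at hx
    simp only [TopologicalSpace.Opens.mem_iSup] at hx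
    obtain ⟨V, hVs, hxV⟩ := hx
    exact TopologicalSpace.Opens.mem_iSup.mpr ⟨⟨V, hVs⟩, hxV⟩
  obtain ⟨b, hb, hbtop⟩ := exists_basicOpen_refinement (fun V : s => g ⁻¹ᵁ (V.1 : Y.Opens)) hcov
  let Uf : (Σ V : s, t V.1) → (pullback j g).Opens := fun p =>
    pullback.fst j g ⁻¹ᵁ (p.2.1 : W.Opens) ⊓ pullback.snd j g ⁻¹ᵁ (PrimeSpectrum.basicOpen (b p.1))
  refine ⟨fun k => Uf (e.symm k), fun k => ?_, ?_⟩
  · refine isAffineOpen_pullback_inf (W := ((e.symm k).1.1 : Y.Opens)) (e.symm k).2.1.2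
      (IsAffineOpen.Spec_basicOpen _) (e.symm k).1.1.2 ?_ (hb _)
    rw [htW (e.symm k).1.1]
    exact le_iSup₂_of_le (e.symm k).2.1 (e.symm k).2.2 le_rfl
  · rw [eq_top_iff]
    intro x _
    have hx : (pullback.snd j g) x ∈ (⨆ i, PrimeSpectrum.basicOpen (b i) :
        TopologicalSpace.Opens (PrimeSpectrum B)) := by rw [hbtop]; trivial
    obtain ⟨V, hV⟩ := TopologicalSpace.Opens.mem_iSup.mp hx
    have h1 : (pullback.fst j g) x ∈ j ⁻¹ᵁ (V.1 : Y.Opens) := by
      change j ((pullback.fst j g) x) ∈ (V.1 : Y.Opens)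
      rw [← Scheme.Hom.comp_apply, pullback.condition, Scheme.Hom.comp_apply]
      exact hb V hV
    rw [htW V.1] at h1
    simp only [TopologicalSpace.Opens.mem_iSup] at h1
    obtain ⟨W', hW't, hxW'⟩ := h1
    refine TopologicalSpace.Opens.mem_iSup.mpr ⟨e ⟨V, ⟨W', hW't⟩⟩, ?_⟩
    change x ∈ Uf (e.symm (e ⟨V, ⟨W', hW't⟩⟩))
    rw [e.symm_apply_apply]
    exact ⟨hxW', hV⟩

end Groth.Agent.S17858
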