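import Groth.Statements.S17859
import Mathlib.RingTheory.Finiteness.Projective
import Mathlib.LinearAlgebra.Dual.Defs

set_option autoImplicit false
open CategoryTheory MonoidalCategory
universe u
open Algz

namespace Groth.Agent.S17859

open TensorProduct in
/-- Over an affine scheme, that is for modules over a commutative ring `R`, a finitely generated
projective `R`-module `M`, viewed as an object of the monoidal category of `R`-modules (tensor
product over `R`), has a right dual. (The published statement is the equivalence, for quasi-coherent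
sheaves on a quasi-compact quasi-separated scheme, between being dualizable and being a vector
bundle; stated here is the affine case of the implication from vector bundle to dualizable. The
converse implication, that a module admitting a dual is finitely generated projective, is stated
separately and is not repeated here.) -/
theorem result (R : Type u) [CommRing R] (M : ModuleCat.{u} R)
    [Module.Finite R M] [Module.Projective R M] : Nonempty (HasRightDual M) := by
  classical
  obtain ⟨n, π, s, -, -, hs⟩ := Module.Finite.exists_comp_eq_id_of_projective R M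
  let m : Fin n → M := fun i => π (Pi.single i 1)
  let φ : Fin n → Module.Dual R M := fun i => (LinearMap.proj i) ∘ₗ s
  have hdual : ∀ x : M, ∑ i, φ i x • m i = x := by
    intro x
    have h1 : π (s x) = x := LinearMap.congr_fun hs x
    have h2 : s x = ∑ i, (s x i) • Pi.single (M := fun _ => R) i (1 : R) := pi_eq_sum_univ' (s x)
    conv_rhs => rw [← h1, h2]
    simp only [map_sum, map_smul]
    rfl
  have hdual' : ∀ ψ : Module.Dual R M, ∑ i, ψ (m i) • φ i = ψ := by
    intro ψ
    apply LinearMap.ext
    intro x
    simp only [LinearMap.sum_apply, LinearMap.smul_apply, smul_eq_mul]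
    conv_rhs => rw [← hdual x]
    simp only [map_sum, map_smul, smul_eq_mul]
    exact Finset.sum_congr rfl fun i _ => mul_comm _ _
  let D : ModuleCat.{u} R := ModuleCat.of R (Module.Dual R M)
  let coev : 𝟙_ (ModuleCat.{u} R) ⟶ M ⊗ D :=
    ModuleCat.ofHom (LinearMap.toSpanSingleton R (M ⊗[R] Module.Dual R M) (∑ i, m i ⊗ₜ[R] φ i))
  let ev : D ⊗ M ⟶ 𝟙_ (ModuleCat.{u} R) :=
    ModuleCat.ofHom (TensorProduct.lift (LinearMap.id : Module.Dual R M →ₗ[R] M →ₗ[R] R))
  have hcoev : ∀ r : R, coev.hom r = r • ∑ i, m i ⊗ₜ[R] φ i := fun r => rfl
  have hev : ∀ (ψ : Module.Dual R M) (x : M), ev.hom (ψ ⊗ₜ x) = ψ x := fun ψ x => rfl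
  refine ⟨@HasRightDual.mk _ _ _ M D ?_⟩
  exact
    { coevaluation' := coev
      evaluation' := ev
      coevaluation_evaluation' := by
        apply ModuleCat.MonoidalCategory.tensor_ext
        intro ψ r
        change (LinearMap.rTensor (Module.Dual R M)
            (TensorProduct.lift (LinearMap.id : Module.Dual R M →ₗ[R] M →ₗ[R] R)))
          ((TensorProduct.assoc R (Module.Dual R M) M (Module.Dual R M)).symm
            ((LinearMap.lTensor (Module.Dual R M)
              (LinearMap.toSpanSingleton R (M ⊗[R] Module.Dual R M) (∑ i, m i ⊗ₜ[R] φ i)))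
                (ψ ⊗ₜ[R] r))) =
          (1 : R) ⊗ₜ[R] (TensorProduct.rid R (Module.Dual R M)) (ψ ⊗ₜ[R] r)
        simp only [LinearMap.lTensor_tmul, LinearMap.toSpanSingleton_apply, TensorProduct.rid_tmul,
          TensorProduct.tmul_smul, TensorProduct.tmul_sum, map_sum, map_smul,
          TensorProduct.assoc_symm_tmul, LinearMap.rTensor_tmul, TensorProduct.lift.tmul,
          LinearMap.id_apply]
        congr 1
        calc ∑ x, ψ (m x) ⊗ₜ[R] φ x = ∑ x, (1 : R) ⊗ₜ[R] (ψ (m x) • φ x) := by
              refine Finset.sum_congr rfl fun i _ => ?_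
              rw [← TensorProduct.smul_tmul, smul_eq_mul, mul_one]
          _ = (1 : R) ⊗ₜ[R] ψ := by rw [← TensorProduct.tmul_sum, hdual']
      evaluation_coevaluation' := by
        apply ModuleCat.MonoidalCategory.tensor_ext
        intro r x
        change (LinearMap.lTensor M
            (TensorProduct.lift (LinearMap.id : Module.Dual R M →ₗ[R] M →ₗ[R] R)))
          ((TensorProduct.assoc R M (Module.Dual R M) M)
            ((LinearMap.rTensor M
              (LinearMap.toSpanSingleton R (M ⊗[R] Module.Dual R M) (∑ i, m i ⊗ₜ[R] φ i)))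
                (r ⊗ₜ[R] x))) =
          (TensorProduct.lid R M) (r ⊗ₜ[R] x) ⊗ₜ[R] (1 : R)
        simp only [LinearMap.rTensor_tmul, LinearMap.toSpanSingleton_apply, TensorProduct.lid_tmul,
          ← TensorProduct.smul_tmul', TensorProduct.sum_tmul, map_sum, map_smul,
          TensorProduct.assoc_tmul, LinearMap.lTensor_tmul, TensorProduct.lift.tmul,
          LinearMap.id_apply]
        congr 1
        calc ∑ i, m i ⊗ₜ[R] (φ i x) = ∑ i, (φ i x • m i) ⊗ₜ[R] (1 : R) := by
              refine Finset.sum_congr rfl fun i _ => ?_
              rw [TensorProduct.smul_tmul, smul_eq_mul, mul_one]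
          _ = x ⊗ₜ[R] (1 : R) := by rw [← TensorProduct.sum_tmul, hdual] }

end Groth.Agent.S17859
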