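import Groth.Statements.S17863
import Mathlib

set_option autoImplicit false
open CategoryTheory AlgebraicGeometry
universe u
open Algz

namespace Groth.Agent.S17863

section

theorem open_eq_univ {A : Type u} [CommRing A] (I : Ideal A) (hI : I ≤ (⊥ : Ideal A).jacobson)
    (U : Set (PrimeSpectrum A)) (hU : IsOpen U) (h : PrimeSpectrum.zeroLocus (I : Set A) ⊆ U) :
    U = Set.univ := by
  by_contra hne
  obtain ⟨x, hx⟩ : ∃ x, x ∉ U := by
    by_contra hh
    push Not at hh
    exact hne (Set.eq_univ_of_forall hh)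
  obtain ⟨K, hK⟩ := (PrimeSpectrum.isClosed_iff_zeroLocus_ideal _).mp hU.isClosed_compl
  have hxK : x ∈ PrimeSpectrum.zeroLocus (K : Set A) := by rw [← hK]; exact hx
  obtain ⟨m, hm, hxm⟩ := Ideal.exists_le_maximal x.asIdeal x.isPrime.ne_top
  let y : PrimeSpectrum A := ⟨m, hm.isPrime⟩
  have hyK : y ∈ PrimeSpectrum.zeroLocus (K : Set A) := by
    rw [PrimeSpectrum.mem_zeroLocus] at hxK ⊢
    exact hxK.trans hxm
  have hyI : y ∈ PrimeSpectrum.zeroLocus (I : Set A) := by
    rw [PrimeSpectrum.mem_zeroLocus]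
    exact (hI.trans (sInf_le ⟨bot_le, hm⟩) : I ≤ m)
  rw [← hK] at hyK
  exact hyK (h hyI)

end

/-- Let `A` be a commutative ring which is `I`-adically complete for an ideal `I` and let `X` be a
quasi-affine scheme. Then the natural map from `X(A)` to compatible systems in the `X(A/I^n)` is
bijective: two morphisms `Spec A ⟶ X` with the same restriction to every `Spec (A/I^n)` are equal,
and every family of morphisms `Spec (A/I^n) ⟶ X` compatible with the transition maps `Spec (A/I^n) ⟶
Spec (A/I^(n+1))` is the family of restrictions of a morphism `Spec A ⟶ X`. -/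
theorem result (A : Type u) [CommRing A] (I : Ideal A) [IsAdicComplete I A]
    (X : Scheme.{u}) [X.IsQuasiAffine] :
    (∀ f g : Spec (CommRingCat.of A) ⟶ X,
      (∀ n : ℕ, Spec.map (CommRingCat.ofHom (Ideal.Quotient.mk (I ^ n))) ≫ f =
        Spec.map (CommRingCat.ofHom (Ideal.Quotient.mk (I ^ n))) ≫ g) → f = g) ∧
    (∀ e : ∀ n : ℕ, Spec (CommRingCat.of (A ⧸ I ^ n)) ⟶ X,
      (∀ n : ℕ, Spec.map (CommRingCat.ofHom (Ideal.Quotient.factorPowSucc I n)) ≫ e (n + 1) = e n) →
      ∃ f : Spec (CommRingCat.of A) ⟶ X,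
        ∀ n : ℕ, Spec.map (CommRingCat.ofHom (Ideal.Quotient.mk (I ^ n))) ≫ f = e n) := by
  classical
  have hjac : I ≤ (⊥ : Ideal A).jacobson := IsAdicComplete.le_jacobson_bot I
  constructor
  · intro f g h
    rw [← cancel_mono X.toSpecΓ]
    obtain ⟨φ, hφ⟩ := Spec.map_surjective (f ≫ X.toSpecΓ)
    obtain ⟨ψ, hψ⟩ := Spec.map_surjective (g ≫ X.toSpecΓ)
    rw [← hφ, ← hψ]
    congr 1
    ext b
    rw [IsHausdorff.eq_iff_smodEq (I := I)]
    intro n
    have h2 : Spec.map (CommRingCat.ofHom (Ideal.Quotient.mk (I ^ n))) ≫ Spec.map φ =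
        Spec.map (CommRingCat.ofHom (Ideal.Quotient.mk (I ^ n))) ≫ Spec.map ψ := by
      rw [hφ, hψ, ← Category.assoc, h n, Category.assoc]
    rw [← Spec.map_comp, ← Spec.map_comp] at h2
    have h3 := Spec.map_injective h2
    have h4 := congrArg (fun k => k.hom b) h3
    simp only [CommRingCat.hom_comp, CommRingCat.hom_ofHom, RingHom.comp_apply] at h4
    rw [SModEq.sub_mem]
    rw [Ideal.Quotient.eq] at h4
    simpa using h4
  · intro e he
    choose φ hφ using fun n => Spec.map_surjective (e n ≫ X.toSpecΓ)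
    have hcompat : ∀ n, φ (n+1) ≫ CommRingCat.ofHom (Ideal.Quotient.factorPowSucc I n) = φ n := by
      intro n
      apply Spec.map_injective
      rw [Spec.map_comp, hφ, hφ, ← Category.assoc, he n]
    let f' : ∀ n, Γ(X, ⊤) →+* A ⧸ I ^ n := fun n => (φ n).hom
    have hf' : ∀ {m n : ℕ} (hle : m ≤ n),
        (Ideal.Quotient.factorPow I hle).comp (f' n) = f' m := by
      intro m n hle
      induction n, hle using Nat.le_induction with
      | base =>
        ext b
        simp
      | succ n hmn ih =>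
        rw [← ih]
        ext b
        have h1 := congrArg (fun k => k.hom b) (hcompat n)
        simp only [CommRingCat.hom_comp, CommRingCat.hom_ofHom, RingHom.comp_apply] at h1
        simp only [f', RingHom.comp_apply, ← h1]
        simp
    let Φ : Γ(X, ⊤) →+* A := IsAdicComplete.liftRingHom I f' hf'
    have hΦ : ∀ n b, Ideal.Quotient.mk (I^n) (Φ b) = f' n b :=
      IsAdicComplete.mk_liftRingHom I f' hf'
    let F : Spec (CommRingCat.of A) ⟶ Spec Γ(X, ⊤) := Spec.map (CommRingCat.ofHom Φ)
    have hF : ∀ n, Spec.map (CommRingCat.ofHom (Ideal.Quotient.mk (I ^ n))) ≫ F =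
        e n ≫ X.toSpecΓ := by
      intro n
      rw [← hφ n, ← Spec.map_comp]
      congr 1
      ext b
      simp [hΦ, f']
    have hrange : Set.range F ⊆ Set.range X.toSpecΓ := by
      have hopen : IsOpen (F ⁻¹' (Set.range X.toSpecΓ)) :=
        (X.toSpecΓ.isOpenEmbedding.isOpen_range).preimage F.continuous
      have hzero : PrimeSpectrum.zeroLocus (I : Set A) ⊆ F ⁻¹' (Set.range X.toSpecΓ) := by
        intro p hp
        have h1 : p ∈ Set.range (PrimeSpectrum.comap (Ideal.Quotient.mk (I^1))) := by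
          rw [_root_.range_comap_of_surjective _ _ Ideal.Quotient.mk_surjective,
            Ideal.mk_ker, pow_one]
          exact hp
        obtain ⟨p', rfl⟩ := h1
        let q : Spec (CommRingCat.of (A ⧸ I ^ 1)) := p'
        refine ⟨e 1 q, ?_⟩
        have h2 : (Spec.map (CommRingCat.ofHom (Ideal.Quotient.mk (I ^ 1))) ≫ F) q =
            (e 1 ≫ X.toSpecΓ) q := by rw [hF 1]
        rw [Scheme.Hom.comp_apply, Scheme.Hom.comp_apply] at h2
        rw [← h2]
        rfl
      have h3 := open_eq_univ I hjac _ hopen hzero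
      rintro _ ⟨x, rfl⟩
      have hx : x ∈ F ⁻¹' (Set.range X.toSpecΓ) := by rw [h3]; trivial
      exact hx
    refine ⟨IsOpenImmersion.lift X.toSpecΓ F hrange, fun n => ?_⟩
    rw [← cancel_mono X.toSpecΓ, Category.assoc, IsOpenImmersion.lift_fac, hF]

end Groth.Agent.S17863
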