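import Groth.Statements.S17864
import Mathlib.RingTheory.Finiteness.Projective

set_option autoImplicit false
universe u
open Algz

namespace Groth.Agent.S17864

section helpers

variable {R : Type*} [CommRing R] (I : Ideal R)
variable {M : Type*} [AddCommGroup M] [Module R M]
variable {N : Type*} [AddCommGroup N] [Module R N]

theorem smodEq_map (f : M →ₗ[R] N) (n : ℕ) {x y : M}
    (h : x ≡ y [SMOD (I ^ n • ⊤ : Submodule R M)]) :
    f x ≡ f y [SMOD (I ^ n • ⊤ : Submodule R N)] := by
  have hm : Submodule.map f (I ^ n • ⊤ : Submodule R M) ≤ (I ^ n • ⊤ : Submodule R N) := by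
    rw [Submodule.map_smul'']
    exact smul_mono_right _ le_top
  exact SModEq.mono hm (SModEq.map h f)

theorem isHausdorff_of_retract [IsHausdorff I M] (i : N →ₗ[R] M) (p : M →ₗ[R] N)
    (hpi : p ∘ₗ i = LinearMap.id) : IsHausdorff I N := by
  refine ⟨fun x hx => ?_⟩
  have h0 : i x = 0 := by
    apply IsHausdorff.haus ‹IsHausdorff I M›
    intro n
    have := smodEq_map I i n (hx n)
    rwa [map_zero] at this
  have : p (i x) = x := LinearMap.congr_fun hpi x
  rw [← this, h0, map_zero]

theorem isPrecomplete_of_retract [IsPrecomplete I M] (i : N →ₗ[R] M) (p : M →ₗ[R] N)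
    (hpi : p ∘ₗ i = LinearMap.id) : IsPrecomplete I N := by
  refine ⟨fun f hf => ?_⟩
  obtain ⟨L, hL⟩ := IsPrecomplete.prec ‹IsPrecomplete I M› (f := fun n => i (f n))
    (fun {m n} hmn => smodEq_map I i m (hf hmn))
  refine ⟨p L, fun n => ?_⟩
  have h1 := smodEq_map I p n (hL n)
  have h2 : p (i (f n)) = f n := LinearMap.congr_fun hpi (f n)
  rwa [h2] at h1

theorem mem_pow_of_smodEq_zero (n : ℕ) {a : R}
    (h : a ≡ 0 [SMOD (I ^ n • ⊤ : Submodule R R)]) : a ∈ I ^ n := by
  rw [SModEq.zero] at h
  simpa using h

theorem isHausdorff_pi (m : ℕ) [IsHausdorff I R] : IsHausdorff I (Fin m → R) := by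
  refine ⟨fun x hx => ?_⟩
  funext j
  apply IsHausdorff.haus ‹IsHausdorff I R›
  intro n
  have := smodEq_map I (LinearMap.proj (R := R) (φ := fun _ : Fin m => R) j) n (hx n)
  simpa using this

theorem mem_smul_top_pi (m : ℕ) (n : ℕ) (x : Fin m → R) (hx : ∀ j, x j ∈ I ^ n) :
    x ∈ (I ^ n • ⊤ : Submodule R (Fin m → R)) := by
  classical
  have hsum : x = ∑ j, x j • (Pi.single j (1 : R) : Fin m → R) := pi_eq_sum_univ' x
  rw [hsum]
  refine Submodule.sum_mem _ fun j _ => ?_
  exact Submodule.smul_mem_smul (hx j) Submodule.mem_top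

theorem isPrecomplete_pi (m : ℕ) [IsPrecomplete I R] : IsPrecomplete I (Fin m → R) := by
  refine ⟨fun f hf => ?_⟩
  have hcoord : ∀ j : Fin m, ∃ L : R, ∀ n, f n j ≡ L [SMOD (I ^ n • ⊤ : Submodule R R)] := by
    intro j
    apply IsPrecomplete.prec ‹IsPrecomplete I R› (f := fun n => f n j)
    intro a b hab
    have := smodEq_map I (LinearMap.proj (R := R) (φ := fun _ : Fin m => R) j) a (hf hab)
    simpa using this
  choose L hL using hcoord
  refine ⟨L, fun n => ?_⟩
  rw [SModEq.sub_mem]
  apply mem_smul_top_pi
  intro j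
  have := hL j n
  rw [SModEq.sub_mem] at this
  simpa using this

theorem isAdicComplete_of_finite_projective [IsAdicComplete I R]
    [Module.Finite R N] [Module.Projective R N] : IsAdicComplete I N := by
  obtain ⟨m, π, s, -, -, hs⟩ := Module.Finite.exists_comp_eq_id_of_projective R N
  have : IsHausdorff I (Fin m → R) := isHausdorff_pi I m
  have : IsPrecomplete I (Fin m → R) := isPrecomplete_pi I m
  have := isHausdorff_of_retract I s π hs
  have := isPrecomplete_of_retract I s π hs
  exact { }

end helpers

/-- The full-faithfulness assertion. Let `A` be a commutative ring which is `I`-adically complete for an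
ideal `I`, and `P`, `Q` finitely generated projective `A`-modules. An `A`-linear map `P → Q` is
determined by its reductions modulo the powers `I^n`, and every family of `A`-linear maps `P/I^n P →
Q/I^n Q` compatible with the transition maps is the family of reductions of an `A`-linear map `P →
Q`. (The companion assertion, that compatible systems of finite projective modules over the rings
`A/I^n` lift to `A`, is not restated here.) -/
theorem result (A : Type u) [CommRing A] (I : Ideal A)
    [IsAdicComplete I A] (P Q : Type u) [AddCommGroup P] [Module A P] [Module.Finite A P]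
    [Module.Projective A P] [AddCommGroup Q] [Module A Q] [Module.Finite A Q] [Module.Projective A Q] :
    (∀ f f' : P →ₗ[A] Q, (∀ n : ℕ, f.reduceModIdeal (I ^ n) = f'.reduceModIdeal (I ^ n)) → f = f') ∧
    (∀ g : ∀ n : ℕ, P ⧸ (I ^ n • ⊤ : Submodule A P) →ₗ[A] Q ⧸ (I ^ n • ⊤ : Submodule A Q),
      (∀ n : ℕ, AdicCompletion.transitionMap I Q (Nat.le_succ n) ∘ₗ g (n + 1) =
        g n ∘ₗ AdicCompletion.transitionMap I P (Nat.le_succ n)) →
      ∃ f : P →ₗ[A] Q, ∀ n : ℕ, f.reduceModIdeal (I ^ n) = g n) := by
  have hQ : IsAdicComplete I Q := isAdicComplete_of_finite_projective I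
  constructor
  · intro f f' h
    apply DFunLike.coe_injective
    apply IsHausdorff.funext I
    intro n x
    have := LinearMap.congr_fun (h n) (Submodule.Quotient.mk x)
    simpa using this
  · intro g hg
    let F : ∀ n : ℕ, P →ₗ[A] Q ⧸ (I ^ n • ⊤ : Submodule A Q) := fun n => g n ∘ₗ Submodule.mkQ _
    have hF : ∀ {m n : ℕ} (hle : m ≤ n), Submodule.factorPow I Q hle ∘ₗ F n = F m := by
      intro m n hle
      ext x
      symm
      refine Submodule.eq_factor_of_eq_factor_succ ?_ (fun n => F n x) ?_ hle
      · exact fun _ _ le => Submodule.pow_smul_top_le I Q le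
      · intro s
        have := LinearMap.congr_fun (hg s) (Submodule.Quotient.mk x)
        exact this.symm
    refine ⟨IsAdicComplete.lift I F hF, fun n => ?_⟩
    apply LinearMap.ext
    intro y
    obtain ⟨x, rfl⟩ := Submodule.Quotient.mk_surjective _ y
    change Submodule.Quotient.mk (IsAdicComplete.lift I F hF x) = g n (Submodule.Quotient.mk x)
    rw [IsAdicComplete.mk_lift]
    rfl

end Groth.Agent.S17864
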