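import Groth.Statements.S1787
import Groth.Agent.Lib.Helper89.BCHom5

set_option autoImplicit false
universe u
open CategoryTheory
attribute [local instance] HasDerivedCategory.standard
open Dual

namespace Groth.Agent.S1787

/-- Let A be a Noetherian ring and f_1, …, f_n elements generating the unit ideal. Let ω be an object of
D(A) such that for each i, assuming the derived base change functor D(A) → D(A_{f_i}) exists, the
base change of ω is a dualizing complex for A_{f_i}. Then ω is a dualizing complex for A. -/
theorem result (A : Type u) [CommRing A] [IsNoetherianRing A] (n : ℕ) (f : Fin n → A) (hf : Ideal.span (Set.range f) = ⊤) (ω : Dual.D A) (h : ∀ i : Fin n, ∃ _ : DRing.HasLBaseChange (algebraMap A (Localization.Away (f i))), Dual.IsDualizing (Localization.Away (f i)) ((DRing.LBaseChange (algebraMap A (Localization.Away (f i)))).obj ω)) : Dual.IsDualizing A ω := by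
  have hflat : ∀ i : Fin n, (algebraMap A (Localization.Away (f i))).Flat := fun i =>
    RingHom.flat_algebraMap_iff.2 inferInstance
  haveI : ∀ i : Fin n, Limits.PreservesFiniteLimits
      (Groth.Agent.Lib.Helper84.FlatBC.ext (algebraMap A (Localization.Away (f i)))) := fun i =>
    Groth.Agent.Lib.Helper84.FlatBC.preservesFiniteLimits_ext _ (hflat i)
  have hloc : ∀ i : Fin n, letI := (algebraMap A (Localization.Away (f i))).toAlgebra
      IsLocalization.Away (f i) (Localization.Away (f i)) := fun i =>
    (@isLocalization_iff_isLocalizationMap A _ (Submonoid.powers (f i)) (Localization.Away (f i)) _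
      (algebraMap A (Localization.Away (f i))).toAlgebra).2
      ((@isLocalization_iff_isLocalizationMap A _ (Submonoid.powers (f i))
        (Localization.Away (f i)) _ inferInstance).1 inferInstance)
  have hK : ∀ i : Fin n, Dual.IsDualizing (Localization.Away (f i))
      ((Groth.Agent.Lib.Helper84.FlatBC.bc (algebraMap A (Localization.Away (f i)))).obj ω) := by
    intro i
    obtain ⟨inst, hd⟩ := h i
    exact Groth.Agent.Lib.Helper25.Bidual.isDualizing_of_iso
      ((Groth.Agent.Lib.Helper15.LBCFlat.lbcFlatIso (algebraMap A (Localization.Away (f i)))).app ω)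
      hd
  exact Groth.Agent.Lib.Helper89.BCHom.isDualizing_of_bc_family
    (B := fun i : Fin n => Localization.Away (f i))
    (φ := fun i : Fin n => algebraMap A (Localization.Away (f i))) hflat
    (Groth.Agent.Lib.Helper89.BCHom.j1u_of_loc _ _ f hloc hf)
    (Groth.Agent.Lib.Helper89.BCHom.j1v_of_loc _ _ f hloc hf)
    (Groth.Agent.Lib.Helper89.BCHom.j2_of_loc _ _ f hloc hf) ω hK

end Groth.Agent.S1787
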