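import Groth.Statements.S17873
import Mathlib
import Groth.Agent.Lib.Helper67.Depth2
import Groth.Agent.Lib.Helper67.DepthAlg

set_option autoImplicit false
universe u
open GRRSing

namespace Groth.Agent.S17873

open IsLocalRing LocCoh RingTheory.Sequence
open scoped Pointwise

section LemmaX

variable {T : Type u} [CommRing T] [IsLocalRing T] [IsNoetherianRing T]

omit [IsLocalRing T] [IsNoetherianRing T] in
theorem comap_map_mk (t : T) (K : Ideal T) :
    Ideal.comap (Ideal.Quotient.mk (Ideal.span {t})) (K.map (Ideal.Quotient.mk (Ideal.span {t}))) =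
      K ⊔ Ideal.span {t} := by
  rw [Ideal.comap_map_of_surjective _ Ideal.Quotient.mk_surjective, ← RingHom.ker_eq_comap_bot,
    Ideal.mk_ker]

omit [IsLocalRing T] in
theorem spanFinrank_le_map_add_one (J : Ideal T) (t : T) (ht : t ∈ J) :
    J.spanFinrank ≤ (J.map (Ideal.Quotient.mk (Ideal.span {t}))).spanFinrank + 1 := by
  classical
  obtain ⟨s', hcard, hspan⟩ := Submodule.FG.exists_span_finset_card_eq_spanFinrank
    (IsNoetherian.noetherian (J.map (Ideal.Quotient.mk (Ideal.span {t}))))
  set l : Finset T := s'.image (Function.surjInv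
    (Ideal.Quotient.mk_surjective (I := Ideal.span {t}))) with hl
  have hmapl : (Ideal.Quotient.mk (Ideal.span {t})) '' (l : Set T) = (s' : Set _) := by
    ext x
    simp only [hl, Finset.coe_image, Set.mem_image, Finset.mem_coe, exists_exists_and_eq_and,
      Function.surjInv_eq, exists_eq_right]
  have hmk : Ideal.Quotient.mk (Ideal.span {t}) t = 0 :=
    Ideal.Quotient.eq_zero_iff_mem.2 (Ideal.mem_span_singleton_self t)
  have hJ : Ideal.span (insert t (l : Set T)) = J := by
    have h1 : (Ideal.span (insert t (l : Set T))).map (Ideal.Quotient.mk (Ideal.span {t})) =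
        J.map (Ideal.Quotient.mk (Ideal.span {t})) := by
      rw [Ideal.map_span, Set.image_insert_eq, hmapl, hmk, Ideal.span_insert_zero]
      exact hspan
    have h2 := congrArg (Ideal.comap (Ideal.Quotient.mk (Ideal.span {t}))) h1
    rw [comap_map_mk, comap_map_mk,
      sup_eq_left.2 (Ideal.span_mono (Set.singleton_subset_iff.2 (Set.mem_insert _ _))),
      sup_eq_left.2 ((Ideal.span_singleton_le_iff_mem _).2 ht)] at h2
    exact h2
  calc J.spanFinrank = (Ideal.span (insert t (l : Set T))).spanFinrank := by rw [hJ]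
    _ ≤ (insert t (l : Set T)).ncard :=
        Submodule.spanFinrank_span_le_ncard_of_finite ((Finset.finite_toSet l).insert t)
    _ ≤ (l : Set T).ncard + 1 := Set.ncard_insert_le t _
    _ ≤ s'.card + 1 := by
        rw [Set.ncard_coe_finset]; exact Nat.add_le_add_right Finset.card_image_le 1
    _ = _ := by rw [hcard]

theorem map_spanFinrank_add_one_le (J : Ideal T) (t : T) (ht : t ∈ J)
    (htm : t ∉ maximalIdeal T * J) :
    (J.map (Ideal.Quotient.mk (Ideal.span {t}))).spanFinrank + 1 ≤ J.spanFinrank := by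
  classical
  obtain ⟨s, hcard, hspan⟩ := Submodule.FG.exists_span_finset_card_eq_spanFinrank
    (IsNoetherian.noetherian J)
  have hsJ : ∀ g ∈ s, g ∈ J := fun g hg => hspan ▸ Submodule.subset_span (Finset.mem_coe.2 hg)
  have ht' : t ∈ Submodule.span T (s : Set T) := hspan ▸ ht
  obtain ⟨f, -, hf⟩ := Submodule.mem_span_finset.1 ht'
  have hex : ∃ g₀ ∈ s, f g₀ ∉ maximalIdeal T := by
    by_contra hcon
    push Not at hcon
    apply htm
    rw [← hf]
    refine Ideal.sum_mem _ fun g hg => ?_
    rw [smul_eq_mul]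
    exact Ideal.mul_mem_mul (hcon g hg) (hsJ g hg)
  obtain ⟨g₀, hg₀, hunit⟩ := hex
  have hu : IsUnit (f g₀) := by
    rwa [mem_maximalIdeal, mem_nonunits_iff, not_not] at hunit
  set K := Ideal.span (insert t ((s.erase g₀ : Finset T) : Set T)) with hK
  have hg₀K : g₀ ∈ K := by
    have h1 : f g₀ * g₀ = t - ∑ a ∈ s.erase g₀, f a • a := by
      rw [← hf, ← Finset.add_sum_erase s _ hg₀, smul_eq_mul, add_sub_cancel_right]
    have h2 : f g₀ * g₀ ∈ K := by
      rw [h1]
      refine K.sub_mem (Ideal.subset_span (Set.mem_insert _ _)) (Ideal.sum_mem _ fun a ha => ?_)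
      exact K.mul_mem_left _ (Ideal.subset_span (Set.mem_insert_of_mem _ (Finset.mem_coe.2 ha)))
    obtain ⟨u, hu'⟩ := hu
    have h3 : g₀ = ↑u⁻¹ * (f g₀ * g₀) := by
      rw [← hu', ← mul_assoc, Units.inv_mul, one_mul]
    rw [h3]
    exact K.mul_mem_left _ h2
  have hJK : J = K := by
    apply le_antisymm
    · rw [← hspan]
      refine Submodule.span_le.2 fun g hg => ?_
      by_cases h : g = g₀
      · rw [h]; exact hg₀K
      · exact Ideal.subset_span (Set.mem_insert_of_mem _
          (Finset.mem_coe.2 (Finset.mem_erase.2 ⟨h, Finset.mem_coe.1 hg⟩)))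
    · refine Ideal.span_le.2 ?_
      intro x hx
      rcases Set.mem_insert_iff.1 hx with rfl | hx
      · exact ht
      · exact hsJ x (Finset.mem_of_mem_erase (Finset.mem_coe.1 hx))
  have hmk : Ideal.Quotient.mk (Ideal.span {t}) t = 0 :=
    Ideal.Quotient.eq_zero_iff_mem.2 (Ideal.mem_span_singleton_self t)
  have hmap : J.map (Ideal.Quotient.mk (Ideal.span {t})) =
      Ideal.span ((Ideal.Quotient.mk (Ideal.span {t})) '' ((s.erase g₀ : Finset T) : Set T)) := by
    rw [hJK, hK, Ideal.map_span, Set.image_insert_eq, hmk, Ideal.span_insert_zero]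
  have h3 : (J.map (Ideal.Quotient.mk (Ideal.span {t}))).spanFinrank ≤ (s.erase g₀).card := by
    rw [hmap]
    refine le_trans (Submodule.spanFinrank_span_le_ncard_of_finite
      (Set.Finite.image _ (Finset.finite_toSet _))) ?_
    refine le_trans (Set.ncard_image_le (Finset.finite_toSet _)) ?_
    rw [Set.ncard_coe_finset]
  rw [Finset.card_erase_of_mem hg₀] at h3
  have hpos : 0 < s.card := Finset.card_pos.2 ⟨g₀, hg₀⟩
  omega

theorem exists_regular_not_mem (J : Ideal T) (hJ : J ≠ ⊤) (h1 : 1 ≤ idealDepth J T) :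
    ∃ t ∈ J, t ∉ maximalIdeal T * J ∧ IsSMulRegular T t := by
  have hJtop : J • (⊤ : Submodule T T) ≠ ⊤ := by
    rw [smul_eq_mul, Ideal.mul_top]; exact hJ
  rcases (Groth.Agent.Lib.Helper67.one_le_idealDepth_iff J T).1 h1 with h | ⟨x, hxJ, hx⟩
  · exact absurd h hJtop
  have hne : ¬ J ≤ maximalIdeal T * J := by
    intro hle
    have hbot : J = ⊥ := Submodule.eq_bot_of_le_smul_of_le_jacobson_bot (maximalIdeal T) J
      (IsNoetherian.noetherian J) (by rwa [smul_eq_mul]) (maximalIdeal_le_jacobson ⊥)
    have hx0 : x = 0 := by rw [hbot] at hxJ; exact hxJ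
    rw [hx0] at hx
    have : (1 : T) = 0 := hx (by simp)
    exact one_ne_zero this
  by_contra hcon
  push Not at hcon
  have hsub : (J : Set T) ⊆
      ⋃ i ∈ (insert (maximalIdeal T * J) (associatedPrimes T T)), ((fun i => i) i : Ideal T) := by
    intro t ht
    by_cases htm : t ∈ maximalIdeal T * J
    · exact Set.mem_biUnion (Set.mem_insert _ _) htm
    · have hnr := hcon t ht htm
      have hmem : t ∈ ({r : T | IsSMulRegular T r}ᶜ : Set T) := hnr
      rw [← biUnion_associatedPrimes_eq_compl_regular T T] at hmem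
      obtain ⟨p, hp, htp⟩ := Set.mem_iUnion₂.1 hmem
      exact Set.mem_biUnion (Set.mem_insert_of_mem _ hp) htp
  have hfin : (insert (maximalIdeal T * J) (associatedPrimes T T)).Finite :=
    (associatedPrimes.finite T T).insert _
  have hp : ∀ i ∈ insert (maximalIdeal T * J) (associatedPrimes T T),
      i ≠ maximalIdeal T * J → i ≠ maximalIdeal T * J → ((fun i => i) i : Ideal T).IsPrime := by
    intro i hi hia _
    rcases Set.mem_insert_iff.1 hi with rfl | hi
    · exact absurd rfl hia
    · exact IsAssociatedPrime.isPrime hi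
  obtain ⟨i, hi, hJi⟩ := (Ideal.subset_union_prime_finite hfin (maximalIdeal T * J)
    (maximalIdeal T * J) hp).1 hsub
  rcases Set.mem_insert_iff.1 hi with rfl | hi
  · exact hne hJi
  · have hmem : x ∈ ⋃ p ∈ associatedPrimes T T, (p : Set T) := Set.mem_biUnion hi (hJi hxJ)
    rw [biUnion_associatedPrimes_eq_compl_regular T T] at hmem
    exact hmem hx

omit [IsLocalRing T] [IsNoetherianRing T] in
theorem smul_top_eq_span (t : T) : t • (⊤ : Submodule T T) = Ideal.span {t} := by
  rw [← Submodule.ideal_span_singleton_smul, smul_eq_mul, Ideal.mul_top]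

theorem idealDepth_quotient (J : Ideal T) (hJ : J ≠ ⊤) (t : T) (ht : t ∈ J)
    (hreg : IsSMulRegular T t) :
    idealDepth (J.map (Ideal.Quotient.mk (Ideal.span {t}))) (T ⧸ Ideal.span {t}) + 1 =
      idealDepth J T := by
  have hJtop : J • (⊤ : Submodule T T) ≠ ⊤ := by
    rw [smul_eq_mul, Ideal.mul_top]; exact hJ
  rw [← Groth.Agent.Lib.Helper67.idealDepth_quotSMulTop_add_one J T hJtop t ht hreg]
  congr 1
  rw [← Ideal.Quotient.algebraMap_eq,
    ← Groth.Agent.Lib.Helper67.idealDepth_eq_idealDepth_map_of_finite (A := T)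
      (B := T ⧸ Ideal.span {t}) J (T ⧸ Ideal.span {t})]
  exact Groth.Agent.Lib.Helper67.idealDepth_congr J
    (Submodule.quotEquivOfEq _ _ (smul_top_eq_span t).symm)

end LemmaX

theorem enat_cancel (d : ℕ∞) (s : ℕ) (h : d + 1 = ((s + 1 : ℕ) : ℕ∞)) : d = s := by
  induction d using ENat.recTopCoe with
  | top =>
    rw [top_add] at h
    exact absurd h.symm (ENat.coe_ne_top _)
  | coe k =>
    have h2 : k + 1 = s + 1 := by exact_mod_cast h
    have : k = s := by omega
    rw [this]

theorem main (j : ℕ) : ∀ (T : Type u) [CommRing T] [IsLocalRing T] [IsNoetherianRing T]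
    (J : Ideal T), J ≠ ⊤ → idealDepth J T = j →
    j ≤ J.spanFinrank ∧ ∃ ts : List T, ts.length = J.spanFinrank ∧ Ideal.ofList ts = J ∧
      IsWeaklyRegular T (ts.take j) := by
  classical
  induction j with
  | zero =>
    intro T _ _ _ J hJ hd
    refine ⟨Nat.zero_le _, ?_⟩
    obtain ⟨s, hcard, hspan⟩ := Submodule.FG.exists_span_finset_card_eq_spanFinrank
      (IsNoetherian.noetherian J)
    refine ⟨s.toList, by simp [hcard], ?_, by simp⟩
    rw [Ideal.ofList, ← hspan]
    congr 1
    ext x
    simp
  | succ j ih =>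
    intro T _ _ _ J hJ hd
    have h1 : 1 ≤ idealDepth J T := by
      rw [hd]; exact_mod_cast Nat.succ_le_succ (Nat.zero_le j)
    obtain ⟨t, htJ, htm, hreg⟩ := exists_regular_not_mem J hJ h1
    have hspanle : Ideal.span {t} ≤ J := (Ideal.span_singleton_le_iff_mem _).2 htJ
    have hnt : Nontrivial (T ⧸ Ideal.span {t}) :=
      Ideal.Quotient.nontrivial_iff.2 (fun h => hJ (top_le_iff.1 (h ▸ hspanle)))
    have hloc : IsLocalRing (T ⧸ Ideal.span {t}) :=
      IsLocalRing.of_surjective' (Ideal.Quotient.mk _) Ideal.Quotient.mk_surjective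
    have hJ' : J.map (Ideal.Quotient.mk (Ideal.span {t})) ≠ ⊤ := by
      intro h
      have h2 := congrArg (Ideal.comap (Ideal.Quotient.mk (Ideal.span {t}))) h
      rw [comap_map_mk, Ideal.comap_top, sup_eq_left.2 hspanle] at h2
      exact hJ h2
    have hd' : idealDepth (J.map (Ideal.Quotient.mk (Ideal.span {t}))) (T ⧸ Ideal.span {t}) = j := by
      have h3 := idealDepth_quotient J hJ t htJ hreg
      rw [hd] at h3
      exact enat_cancel _ j h3
    obtain ⟨hle, ts', hlen, hof, hwr⟩ := ih (T ⧸ Ideal.span {t}) _ hJ' hd'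
    have hc : (J.map (Ideal.Quotient.mk (Ideal.span {t}))).spanFinrank + 1 = J.spanFinrank :=
      le_antisymm (map_spanFinrank_add_one_le J t htJ htm) (spanFinrank_le_map_add_one J t htJ)
    refine ⟨by omega, ?_⟩
    have hl : (ts'.map (Function.surjInv
        (Ideal.Quotient.mk_surjective (I := Ideal.span {t})))).map
        (Ideal.Quotient.mk (Ideal.span {t})) = ts' := by
      rw [List.map_map]
      conv_rhs => rw [← List.map_id ts']
      apply List.map_congr_left
      intro a _
      simp [Function.surjInv_eq]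
    set l := ts'.map (Function.surjInv (Ideal.Quotient.mk_surjective (I := Ideal.span {t})))
      with hldef
    refine ⟨t :: l, by simp [hldef, hlen, hc], ?_, ?_⟩
    · rw [Ideal.ofList_cons]
      have h1 : (Ideal.ofList l).map (Ideal.Quotient.mk (Ideal.span {t})) =
          J.map (Ideal.Quotient.mk (Ideal.span {t})) := by
        rw [Ideal.map_ofList, hl, hof]
      have h2 := congrArg (Ideal.comap (Ideal.Quotient.mk (Ideal.span {t}))) h1
      rw [comap_map_mk, comap_map_mk, sup_eq_left.2 hspanle] at h2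
      rw [sup_comm, h2]
    · rw [List.take_succ_cons, isWeaklyRegular_cons_iff]
      refine ⟨hreg, ?_⟩
      let e : (T ⧸ Ideal.span {t}) ≃ₗ[T] QuotSMulTop t T :=
        Submodule.quotEquivOfEq _ _ (smul_top_eq_span t).symm
      rw [← e.isWeaklyRegular_congr,
        ← isWeaklyRegular_map_algebraMap_iff (T ⧸ Ideal.span {t}) (T ⧸ Ideal.span {t}) (l.take j),
        Ideal.Quotient.algebraMap_eq, List.map_take, hl]
      exact hwr

/-- Let T be a Cohen–Macaulay Noetherian local ring, J a proper ideal of T, j the grade of J (the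
J-depth of T, i.e. the supremum of the lengths of T-regular sequences inside J; a natural number
here) and c the minimal number of generators of J (equal to the dimension of J/𝔪J over the residue
field). Then j ≤ c and there is a generating sequence t_1, …, t_c of J such that t_1, …, t_j is a
T-regular sequence. (The published statement does not exclude J = T; there c = 1 while the grade,
read as the depth of T, can exceed 1, so this row assumes J proper.) -/
theorem result {T : Type u} [CommRing T] [LocCoh.IsCohenMacaulayLocalRing T]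
    (J : Ideal T) (hJ : J ≠ ⊤) (j : ℕ) (hj : LocCoh.idealDepth J T = j) :
    j ≤ Submodule.spanFinrank J ∧
      ∃ ts : List T, ts.length = Submodule.spanFinrank J ∧ Ideal.ofList ts = J ∧
        RingTheory.Sequence.IsRegular T (ts.take j) := by
  obtain ⟨h1, ts, hlen, hof, hwr⟩ := main j T J hJ hj
  refine ⟨h1, ts, hlen, hof, ?_⟩
  have hJtop : J • (⊤ : Submodule T T) ≠ ⊤ := by
    rw [smul_eq_mul, Ideal.mul_top]; exact hJ
  apply Groth.Agent.Lib.Helper67.isRegular_of_isWeaklyRegular_of_mem J hJtop hwr
  intro r hr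
  rw [← hof]
  exact Ideal.subset_span (List.mem_of_mem_take hr)

end Groth.Agent.S17873
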