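import Groth.Statements.S17875
import Mathlib.Data.Nat.Choose.Cast
import Mathlib.Data.Nat.Choose.Sum
import Mathlib.Tactic.FieldSimp
import Mathlib.Tactic.Ring
import Mathlib.Tactic.LinearCombination

set_option autoImplicit false
universe u
open Polynomial
open GRRSing

namespace Groth.Agent.S17875

open Finset

theorem part1 {R : Type u} [CommRing R] [Algebra ℚ R]
    (r : R) (δ : ℕ) (hr : (r - 1) ^ (δ + 1) = 0) (n : ℕ) :
    r ^ n = ∑ k ∈ Finset.range (δ + 1),
      ((descPochhammer ℚ k).eval (n : ℚ) / (k.factorial : ℚ)) • (r - 1) ^ k := by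
  have hcoef : ∀ k : ℕ, ((descPochhammer ℚ k).eval (n : ℚ) / (k.factorial : ℚ)) =
      (n.choose k : ℚ) := by
    intro k
    rw [descPochhammer_eval_eq_descFactorial, Nat.descFactorial_eq_factorial_mul_choose]
    have : (k.factorial : ℚ) ≠ 0 := Nat.cast_ne_zero.mpr (Nat.factorial_pos k).ne'
    push_cast
    field_simp
  simp_rw [hcoef]
  have hsmul : ∀ (k : ℕ) (x : R), ((n.choose k : ℕ) : ℚ) • x = (n.choose k : R) * x := by
    intro k x
    rw [Nat.cast_smul_eq_nsmul, nsmul_eq_mul]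
  simp_rw [hsmul]
  have hzero : ∀ k, δ + 1 ≤ k → (r - 1) ^ k = 0 := fun k hk => pow_eq_zero_of_le hk hr
  have h1 : r ^ n = ∑ k ∈ range (n + 1), (n.choose k : R) * (r - 1) ^ k := by
    conv_lhs => rw [show r = (r - 1) + 1 by ring]
    rw [add_pow]
    refine Finset.sum_congr rfl fun k _ => ?_
    rw [one_pow, mul_one, mul_comm]
  rw [h1]
  have hA : ∑ k ∈ range (n + 1), (n.choose k : R) * (r - 1) ^ k =
      ∑ k ∈ range (n + δ + 1), (n.choose k : R) * (r - 1) ^ k := by
    apply Finset.sum_subset (Finset.range_mono (by omega))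
    intro k _ hk
    have hk' : n < k := by
      rw [Finset.mem_range] at hk; omega
    rw [Nat.choose_eq_zero_of_lt hk']
    simp
  have hB : ∑ k ∈ range (δ + 1), (n.choose k : R) * (r - 1) ^ k =
      ∑ k ∈ range (n + δ + 1), (n.choose k : R) * (r - 1) ^ k := by
    apply Finset.sum_subset (Finset.range_mono (by omega))
    intro k _ hk
    have hk' : δ + 1 ≤ k := by
      rw [Finset.mem_range] at hk; omega
    rw [hzero k hk']
    simp
  rw [hA, hB]

theorem scalar_id {R : Type u} [CommRing R] [Algebra ℚ R] (r : R) (k : ℕ) (s : ℤ) :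
    ((k.factorial : ℚ)⁻¹) • ((s : R) * (r - 1) ^ k) =
      ∑ u ∈ Finset.range (k + 1),
        (((-1 : ℚ) ^ (k - u) * (s : ℚ)) / ((u.factorial * (k - u).factorial : ℕ) : ℚ)) • r ^ u := by
  have hpow : (r - 1) ^ k = ∑ u ∈ range (k + 1), r ^ u * (-1 : R) ^ (k - u) * (k.choose u : R) := by
    rw [sub_eq_add_neg, add_pow]
  rw [hpow, Finset.mul_sum, Finset.smul_sum]
  refine Finset.sum_congr rfl fun u hu => ?_
  have hu' : u ≤ k := by
    rw [Finset.mem_range] at hu; omega
  have h1 : (s : R) * (r ^ u * (-1 : R) ^ (k - u) * (k.choose u : R)) =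
      ((s : ℚ) * (-1 : ℚ) ^ (k - u) * (k.choose u : ℚ)) • r ^ u := by
    rw [Algebra.smul_def]
    simp only [map_mul, map_pow, map_neg, map_one, map_intCast, map_natCast]
    ring
  rw [h1, smul_smul]
  congr 1
  rw [Nat.cast_choose ℚ hu']
  have hk0 : (k.factorial : ℚ) ≠ 0 := Nat.cast_ne_zero.mpr (Nat.factorial_pos k).ne'
  have hu0 : (u.factorial : ℚ) ≠ 0 := Nat.cast_ne_zero.mpr (Nat.factorial_pos u).ne'
  have hku0 : ((k - u).factorial : ℚ) ≠ 0 := Nat.cast_ne_zero.mpr (Nat.factorial_pos _).ne'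
  push_cast
  field_simp

theorem descPochhammer_expand (R : Type u) [CommRing R] (k δ : ℕ) (hk : k < δ + 1) :
    descPochhammer R k =
      ∑ j ∈ Finset.range (δ + 1), C (((descPochhammer ℤ k).coeff j : ℤ) : R) * X ^ j := by
  have h1 : descPochhammer R k = (descPochhammer ℤ k).map (Int.castRingHom R) :=
    (descPochhammer_map _ _).symm
  have hdeg : (descPochhammer R k).natDegree < δ + 1 := by
    rw [h1]
    refine lt_of_le_of_lt natDegree_map_le ?_
    rw [descPochhammer_natDegree]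
    exact hk
  conv_lhs => rw [as_sum_range_C_mul_X_pow' _ hdeg]
  refine Finset.sum_congr rfl fun j _ => ?_
  rw [h1, coeff_map]
  rfl

theorem part2 {R : Type u} [CommRing R] [Algebra ℚ R] (r : R) (δ : ℕ) :
    (∑ k ∈ Finset.range (δ + 1),
        ((k.factorial : ℚ)⁻¹ • (descPochhammer R k * Polynomial.C ((r - 1) ^ k))) =
      ∑ j ∈ Finset.range (δ + 1), Polynomial.C (∑ k ∈ Finset.range (δ + 1),
        ∑ u ∈ Finset.range (k + 1),
        (((-1 : ℚ) ^ (k - u) * (((descPochhammer ℤ k).coeff j : ℤ) : ℚ)) /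
          ((u.factorial * (k - u).factorial : ℕ) : ℚ)) • r ^ u) * Polynomial.X ^ j) := by
  have hk : ∀ k ∈ Finset.range (δ + 1),
      ((k.factorial : ℚ)⁻¹ • (descPochhammer R k * Polynomial.C ((r - 1) ^ k))) =
        ∑ j ∈ Finset.range (δ + 1), Polynomial.C (∑ u ∈ Finset.range (k + 1),
          (((-1 : ℚ) ^ (k - u) * (((descPochhammer ℤ k).coeff j : ℤ) : ℚ)) /
            ((u.factorial * (k - u).factorial : ℕ) : ℚ)) • r ^ u) * Polynomial.X ^ j := by
    intro k hk
    rw [Finset.mem_range] at hk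
    conv_lhs => rw [descPochhammer_expand R k δ hk]
    rw [Finset.sum_mul, Finset.smul_sum]
    refine Finset.sum_congr rfl fun j _ => ?_
    rw [← scalar_id r k ((descPochhammer ℤ k).coeff j)]
    rw [mul_right_comm, ← C_mul, ← smul_mul_assoc, smul_C]
  rw [Finset.sum_congr rfl hk, Finset.sum_comm]
  refine Finset.sum_congr rfl fun j _ => ?_
  rw [map_sum, Finset.sum_mul]

/-- Let R be a commutative ℚ-algebra, r an element of R and δ a natural number with (r - 1) ^ (δ + 1) =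
0. Write s(k, j) for the signed Stirling numbers of the first kind, the coefficients of x (x - 1) ⋯
(x - k + 1) = Σ_j s(k, j) x ^ j. Then (i) for every natural number n, r ^ n = Σ_{k ≤ δ} [n (n - 1) ⋯
(n - k + 1) / k!] (r - 1) ^ k; and (ii) in the polynomial ring R[x], Σ_{k ≤ δ} [x (x - 1) ⋯ (x - k +
1) / k!] (r - 1) ^ k = Σ_{j ≤ δ} [Σ_{k ≤ δ} Σ_{u ≤ k} (-1) ^ (k - u) s(k, j) / (u! (k - u)!) · r ^
u] x ^ j. -/
theorem result {R : Type u} [CommRing R] [Algebra ℚ R]
    (r : R) (δ : ℕ) (hr : (r - 1) ^ (δ + 1) = 0) :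
    (∀ n : ℕ, r ^ n = ∑ k ∈ Finset.range (δ + 1), ((descPochhammer ℚ k).eval (n : ℚ) / (k.factorial : ℚ)) • (r - 1) ^ k) ∧
    (∑ k ∈ Finset.range (δ + 1), ((k.factorial : ℚ)⁻¹ • (descPochhammer R k * Polynomial.C ((r - 1) ^ k))) =
      ∑ j ∈ Finset.range (δ + 1), Polynomial.C (∑ k ∈ Finset.range (δ + 1), ∑ u ∈ Finset.range (k + 1),
        (((-1 : ℚ) ^ (k - u) * (((descPochhammer ℤ k).coeff j : ℤ) : ℚ)) / ((u.factorial * (k - u).factorial : ℕ) : ℚ)) • r ^ u) * Polynomial.X ^ j) := by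
  exact ⟨fun n => part1 r δ hr n, part2 r δ⟩

end Groth.Agent.S17875
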