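import Groth.Statements.S17878
import Mathlib.Analysis.SpecificLimits.Normed
import Mathlib.Topology.Algebra.InfiniteSum.Constructions
import Mathlib.Topology.Algebra.InfiniteSum.NatInt
import Mathlib.Tactic
-- import your own Groth.Agent.* helpers here

set_option autoImplicit false
universe u
open Filter Topology
open GRRSing

namespace Groth.Agent.S17878

noncomputable def S (n : ℕ) (y : ℂ) : ℂ := ∑' k : ℕ, (k : ℂ) ^ n * y ^ k

lemma summable_S (n : ℕ) {y : ℂ} (hy : ‖y‖ < 1) : Summable (fun k : ℕ => (k : ℂ) ^ n * y ^ k) :=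
  summable_pow_mul_geometric_of_norm_lt_one n hy

lemma S_functional (n : ℕ) {y : ℂ} (hy : ‖y‖ < 1) :
    S n y = (if n = 0 then 1 else 0) + y * ∑ j ∈ Finset.range (n + 1), (n.choose j : ℂ) * S j y := by
  unfold S
  rw [(summable_S n hy).tsum_eq_zero_add]
  congr 1
  · rcases Nat.eq_zero_or_pos n with h | h
    · simp [h]
    · simp [h.ne']
  · have h1 : ∀ k : ℕ, ((k + 1 : ℕ) : ℂ) ^ n * y ^ (k + 1) =
        ∑ j ∈ Finset.range (n + 1), y * ((n.choose j : ℂ) * ((k : ℂ) ^ j * y ^ k)) := by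
      intro k
      push_cast
      rw [add_pow, Finset.sum_mul]
      apply Finset.sum_congr rfl
      intro j _
      ring
    simp_rw [h1]
    rw [Summable.tsum_finsetSum]
    · rw [Finset.mul_sum]
      apply Finset.sum_congr rfl
      intro j _
      rw [tsum_mul_left, tsum_mul_left]
    · intro j _
      exact ((summable_S j hy).mul_left _).mul_left _

lemma E_recurrence (E : ℕ → ℚ)
    (hE : PowerSeries.mk (fun j => E j / (j.factorial : ℚ)) * (PowerSeries.exp ℚ + 1) = 2) (n : ℕ) :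
    E n + ∑ j ∈ Finset.range (n + 1), (n.choose j : ℚ) * E j = if n = 0 then 2 else 0 := by
  have h := congrArg (PowerSeries.coeff n) hE
  rw [PowerSeries.coeff_mul, Finset.Nat.sum_antidiagonal_eq_sum_range_succ_mk] at h
  have h2 : (PowerSeries.coeff n) (2 : PowerSeries ℚ) = if n = 0 then 2 else 0 := by
    rw [← one_add_one_eq_two, map_add, PowerSeries.coeff_one]
    split_ifs <;> norm_num
  rw [h2] at h
  have hn : (n.factorial : ℚ) ≠ 0 := by exact_mod_cast n.factorial_ne_zero
  have h3 : (n.factorial : ℚ) * ∑ j ∈ Finset.range n.succ,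
      (PowerSeries.coeff j) (PowerSeries.mk fun j => E j / (j.factorial : ℚ)) *
        (PowerSeries.coeff (n - j)) (PowerSeries.exp ℚ + 1) =
      E n + ∑ j ∈ Finset.range (n + 1), (n.choose j : ℚ) * E j := by
    rw [Finset.mul_sum]
    have h4 : ∀ j ∈ Finset.range n.succ, (n.factorial : ℚ) *
        ((PowerSeries.coeff j) (PowerSeries.mk fun j => E j / (j.factorial : ℚ)) *
        (PowerSeries.coeff (n - j)) (PowerSeries.exp ℚ + 1)) =
        (n.choose j : ℚ) * E j + (if j = n then E n else 0) := by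
      intro j hj
      have hjn : j ≤ n := Nat.lt_succ_iff.mp (Finset.mem_range.mp hj)
      rw [PowerSeries.coeff_mk, map_add, PowerSeries.coeff_exp, PowerSeries.coeff_one,
        Nat.cast_choose ℚ hjn]
      have hj' : (j.factorial : ℚ) ≠ 0 := by exact_mod_cast j.factorial_ne_zero
      have hnj : ((n - j).factorial : ℚ) ≠ 0 := by exact_mod_cast (n - j).factorial_ne_zero
      by_cases hjeq : j = n
      · subst hjeq
        simp
        field_simp
      · have : n - j ≠ 0 := by omega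
        simp [this, hjeq]
        field_simp
    rw [Finset.sum_congr rfl h4, Finset.sum_add_distrib, Finset.sum_ite_eq' (Finset.range n.succ) n]
    simp [add_comm]
  rw [← h3, h]
  split_ifs with h0
  · subst h0; simp
  · simp


lemma tendsto_S (E : ℕ → ℚ)
    (hE : PowerSeries.mk (fun j => E j / (j.factorial : ℚ)) * (PowerSeries.exp ℚ + 1) = 2) (n : ℕ) :
    Tendsto (fun y : ℝ => S n (y : ℂ)) (𝓝[Set.Ioo (-1 : ℝ) 1] (-1 : ℝ)) (𝓝 ((E n : ℂ) / 2)) := by
  induction n using Nat.strong_induction_on with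
  | _ n ih =>
    have hev : ∀ᶠ y : ℝ in 𝓝[Set.Ioo (-1 : ℝ) 1] (-1 : ℝ),
        S n (y : ℂ) = ((if n = 0 then 1 else 0) +
          (y : ℂ) * ∑ j ∈ Finset.range n, (n.choose j : ℂ) * S j (y : ℂ)) / (1 - (y : ℂ)) := by
      filter_upwards [self_mem_nhdsWithin] with y hy
      have hy' : ‖(y : ℂ)‖ < 1 := by
        rw [Complex.norm_real, Real.norm_eq_abs, abs_lt]; exact hy
      have h1 := S_functional n hy'
      rw [Finset.sum_range_succ, Nat.choose_self, Nat.cast_one, one_mul] at h1
      have hne : (1 - (y : ℂ)) ≠ 0 := by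
        intro h
        have h2 : (y : ℂ) = 1 := (sub_eq_zero.mp h).symm
        have h3 : y = 1 := by exact_mod_cast h2
        linarith [hy.2]
      rw [eq_div_iff hne]
      linear_combination h1
    refine Tendsto.congr' (EventuallyEq.symm hev) ?_
    have hy : Tendsto (fun y : ℝ => (y : ℂ)) (𝓝[Set.Ioo (-1 : ℝ) 1] (-1 : ℝ)) (𝓝 (-1 : ℂ)) := by
      have : Tendsto (fun y : ℝ => (y : ℂ)) (𝓝 (-1 : ℝ)) (𝓝 ((-1 : ℝ) : ℂ)) :=
        Complex.continuous_ofReal.tendsto _
      simpa using this.mono_left nhdsWithin_le_nhds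
    have hsum : Tendsto (fun y : ℝ => ∑ j ∈ Finset.range n, (n.choose j : ℂ) * S j (y : ℂ))
        (𝓝[Set.Ioo (-1 : ℝ) 1] (-1 : ℝ))
        (𝓝 (∑ j ∈ Finset.range n, (n.choose j : ℂ) * ((E j : ℂ) / 2))) :=
      tendsto_finsetSum _ (fun j hj => (ih j (Finset.mem_range.mp hj)).const_mul _)
    have hnum := (tendsto_const_nhds (x := (if n = 0 then (1 : ℂ) else 0))
      (f := 𝓝[Set.Ioo (-1 : ℝ) 1] (-1 : ℝ))).add (hy.mul hsum)
    have hden : Tendsto (fun y : ℝ => 1 - (y : ℂ)) (𝓝[Set.Ioo (-1 : ℝ) 1] (-1 : ℝ))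
        (𝓝 (1 - (-1))) := tendsto_const_nhds.sub hy
    have hrec := E_recurrence E hE n
    rw [Finset.sum_range_succ, Nat.choose_self, Nat.cast_one, one_mul] at hrec
    have hrecC : (E n : ℂ) + (∑ j ∈ Finset.range n, (n.choose j : ℂ) * (E j : ℂ) + (E n : ℂ)) =
        if n = 0 then 2 else 0 := by
      have h5 := congrArg (Rat.cast (K := ℂ)) hrec
      push_cast at h5
      rw [h5]
      split_ifs <;> simp
    have hhalf : ∑ j ∈ Finset.range n, (n.choose j : ℂ) * ((E j : ℂ) / 2) =
        (∑ j ∈ Finset.range n, (n.choose j : ℂ) * (E j : ℂ)) / 2 := by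
      rw [Finset.sum_div]
      apply Finset.sum_congr rfl
      intro j _
      ring
    have key : (E n : ℂ) / 2 = ((if n = 0 then (1 : ℂ) else 0) +
        -1 * ∑ j ∈ Finset.range n, (n.choose j : ℂ) * ((E j : ℂ) / 2)) / (1 - -1) := by
      rw [hhalf]
      have h2 : (1 : ℂ) - -1 = 2 := by norm_num
      rw [h2, eq_div_iff (two_ne_zero)]
      split_ifs at hrecC ⊢ with h0
      · linear_combination (1 / 2 : ℂ) * hrecC
      · linear_combination (1 / 2 : ℂ) * hrecC
    rw [key]
    exact hnum.div hden (by norm_num)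


lemma term_eq {T : Type u} [NormedCommRing T] [NormedAlgebra ℂ T] (P : Polynomial T) (y : ℂ) (k : ℕ) :
    y ^ k • P.eval (k : T) =
      ∑ j ∈ Finset.range (P.natDegree + 1), ((k : ℂ) ^ j * y ^ k) • P.coeff j := by
  rw [Polynomial.eval_eq_sum_range, Finset.smul_sum]
  apply Finset.sum_congr rfl
  intro j _
  have h1 : (k : T) = algebraMap ℂ T (k : ℂ) := by simp
  rw [h1, ← map_pow, Algebra.algebraMap_eq_smul_one, mul_smul_comm, mul_one, smul_smul, mul_comm]

/-- Let T be a nonzero commutative normed ℂ-algebra such that the map ℂ → T/nilradical(T) is surjective,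
let P = Σ_j d_j x ^ j be a polynomial over T and put h_k = P(k). Let E_0, E_1, … be the rational
numbers with 2/(e^t + 1) = Σ_j E_j t ^ j / j! (so E_0 = 1, E_1 = -1/2). Then for every complex y
with |y| < 1 the series Σ_k h_k y ^ k converges in T, and as y → -1 along real y in (-1, 1) its sum
tends to (1/2) Σ_j E_j d_j. (The published statement allows any norm topology on T as a complex
vector space; this row takes T a normed ℂ-algebra.) -/
theorem result {T : Type u} [NormedCommRing T] [NormedAlgebra ℂ T] [Nontrivial T]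
    (hT : Function.Surjective (algebraMap ℂ (T ⧸ nilradical T)))
    (E : ℕ → ℚ) (hE : PowerSeries.mk (fun j => E j / (j.factorial : ℚ)) * (PowerSeries.exp ℚ + 1) = 2)
    (P : Polynomial T) :
    (∀ y : ℂ, ‖y‖ < 1 → Summable (fun k : ℕ => y ^ k • P.eval (k : T))) ∧
    Tendsto (fun y : ℝ => ∑' k : ℕ, ((y : ℂ) ^ k) • P.eval (k : T)) (𝓝[Set.Ioo (-1 : ℝ) 1] (-1 : ℝ))
      (𝓝 ((2 : ℂ)⁻¹ • ∑ j ∈ Finset.range (P.natDegree + 1), ((E j : ℚ) : ℂ) • P.coeff j)) := by
  have hsummable : ∀ y : ℂ, ‖y‖ < 1 → ∀ j : ℕ,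
      Summable (fun k : ℕ => ((k : ℂ) ^ j * y ^ k) • P.coeff j) :=
    fun y hy j => (summable_S j hy).smul_const _
  constructor
  · intro y hy
    simp_rw [term_eq]
    exact summable_sum (fun j _ => hsummable y hy j)
  · have hev : ∀ᶠ y : ℝ in 𝓝[Set.Ioo (-1 : ℝ) 1] (-1 : ℝ),
        ∑' k : ℕ, ((y : ℂ) ^ k) • P.eval (k : T) =
          ∑ j ∈ Finset.range (P.natDegree + 1), S j (y : ℂ) • P.coeff j := by
      filter_upwards [self_mem_nhdsWithin] with y hy
      have hy' : ‖(y : ℂ)‖ < 1 := by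
        rw [Complex.norm_real, Real.norm_eq_abs, abs_lt]; exact hy
      simp_rw [term_eq]
      rw [Summable.tsum_finsetSum (fun j _ => hsummable _ hy' j)]
      apply Finset.sum_congr rfl
      intro j _
      rw [(summable_S j hy').tsum_smul_const]
      rfl
    refine Tendsto.congr' (EventuallyEq.symm hev) ?_
    have hlim : Tendsto (fun y : ℝ => ∑ j ∈ Finset.range (P.natDegree + 1), S j (y : ℂ) • P.coeff j)
        (𝓝[Set.Ioo (-1 : ℝ) 1] (-1 : ℝ))
        (𝓝 (∑ j ∈ Finset.range (P.natDegree + 1), ((E j : ℂ) / 2) • P.coeff j)) :=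
      tendsto_finsetSum _ (fun j _ => (tendsto_S E hE j).smul_const _)
    convert hlim using 2
    rw [Finset.smul_sum]
    apply Finset.sum_congr rfl
    intro j _
    rw [smul_smul, div_eq_inv_mul]

end Groth.Agent.S17878
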