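import Groth.Statements.S1788
import Groth.Agent.Lib.Helper89.GorBC3
import Groth.Agent.S1780

set_option autoImplicit false
universe u
open CategoryTheory
attribute [local instance] HasDerivedCategory.standard
open scoped TensorProduct
open Dual

namespace Groth.Agent.S1788

/-- Let A → B be a faithfully flat finite type homomorphism of Noetherian rings all of whose fibre rings
B ⊗_A κ(p) are Gorenstein, and K an object of D(A). Assuming the derived base change functor D(A) →
D(B) exists, K is a dualizing complex for A if and only if its base change is a dualizing complex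
for B. -/
theorem result (A B : Type u) [CommRing A] [CommRing B] [Algebra A B] [IsNoetherianRing A] [IsNoetherianRing B] [Module.FaithfullyFlat A B] [Algebra.FiniteType A B] (hG : ∀ p : PrimeSpectrum A, LocCoh.IsGorensteinRing (B ⊗[A] p.asIdeal.ResidueField)) [DRing.HasLBaseChange (algebraMap A B)] (K : Dual.D A) : Dual.IsDualizing A K ↔ Dual.IsDualizing B ((DRing.LBaseChange (algebraMap A B)).obj K) := by
  have hff : (algebraMap A B).FaithfullyFlat :=
    RingHom.faithfullyFlat_algebraMap_iff.2 inferInstance
  haveI : Limits.PreservesFiniteLimits
      (Groth.Agent.Lib.Helper84.FlatBC.ext (algebraMap A B)) :=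
    Groth.Agent.Lib.Helper84.FlatBC.preservesFiniteLimits_ext _ hff.flat
  have e := (Groth.Agent.Lib.Helper15.LBCFlat.lbcFlatIso (algebraMap A B)).app K
  constructor
  · intro hK
    exact Groth.Agent.Lib.Helper25.Bidual.isDualizing_of_iso e.symm
      (Groth.Agent.Lib.Helper89.GorBC.isDualizing_bc_of_gorenstein_fibres hG K hK)
  · intro hK
    exact Groth.Agent.S1780.result A B K hK

end Groth.Agent.S1788
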