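import Groth.Statements.S17882
import Mathlib.LinearAlgebra.Matrix.Nondegenerate
import Mathlib.LinearAlgebra.Matrix.Adjugate
-- import your own Groth.Agent.* helpers here

set_option autoImplicit false
universe u
open CAlg

namespace Groth.Agent.S17882

/-- Let B be a commutative ring, r ≥ 1, N a finitely generated submodule of B^r, and n_1, …, n_r ∈ N.
Suppose the determinant of the matrix with rows n_1, …, n_r is a nonzerodivisor of B and that the
determinant of every matrix whose rows lie in N is a multiple of it (the image of the top exterior
power of N in that of B^r ≅ B is the principal ideal generated by n_1 ∧ ⋯ ∧ n_r, a nonzerodivisor).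
Then n_1, …, n_r are linearly independent over B and span N: N is free of rank r with this basis. -/
theorem result (B : Type u) [CommRing B] (r : ℕ) (hr : 0 < r)
    (N : Submodule B (Fin r → B)) (hN : N.FG) (n : Fin r → (Fin r → B)) (hn : ∀ i, n i ∈ N)
    (hgen : ∀ m : Fin r → (Fin r → B), (∀ i, m i ∈ N) →
      Matrix.det (Matrix.of m) ∈ Ideal.span {Matrix.det (Matrix.of n)})
    (hnzd : Matrix.det (Matrix.of n) ∈ nonZeroDivisors B) :
    LinearIndependent B n ∧ Submodule.span B (Set.range n) = N := by
  set M : Matrix (Fin r) (Fin r) B := Matrix.of n with hM
  constructor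
  · rw [Fintype.linearIndependent_iff]
    intro c hc
    have h0 : Matrix.vecMul c M = 0 := by
      rw [Matrix.vecMul_eq_sum]
      exact hc
    have := Matrix.eq_zero_of_det_mem_nonZeroDivisors_of_vecMul_eq_zero hnzd h0
    intro i
    rw [this]; rfl
  · apply le_antisymm
    · rw [Submodule.span_le]
      rintro _ ⟨i, rfl⟩
      exact hn i
    · intro x hx
      have hc : ∀ i : Fin r, ∃ c : B, (M.updateRow i x).det = c * M.det := by
        intro i
        have hmem : ∀ k, (M.updateRow i x) k ∈ N := by
          intro k
          by_cases hk : k = i
          · subst hk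
            rw [Matrix.updateRow_self]; exact hx
          · rw [Matrix.updateRow_ne hk]; exact hn k
        have := hgen (fun k => (M.updateRow i x) k) hmem
        rw [Ideal.mem_span_singleton'] at this
        obtain ⟨c, hc⟩ := this
        exact ⟨c, hc.symm⟩
      choose c hc using hc
      have hcr : Matrix.mulVec M.transpose (Matrix.cramer M.transpose x) = M.det • x := by
        rw [Matrix.mulVec_cramer, Matrix.det_transpose]
      have hsum : M.det • x = M.det • ∑ i, c i • n i := by
        rw [← hcr, Matrix.mulVec_eq_sum]
        rw [Finset.smul_sum]
        apply Finset.sum_congr rfl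
        intro i _
        rw [Matrix.cramer_transpose_apply, hc i, Matrix.transpose_transpose]
        funext j
        simp only [Pi.smul_apply, MulOpposite.smul_eq_mul_unop, MulOpposite.unop_op, smul_eq_mul, hM,
          Matrix.of_apply]
        ring
      have hx' : x = ∑ i, c i • n i := by
        funext j
        have := congrFun hsum j
        simp only [Pi.smul_apply, smul_eq_mul] at this
        exact (mul_cancel_left_mem_nonZeroDivisors hnzd).mp this
      rw [hx']
      exact Submodule.sum_mem _ (fun i _ => Submodule.smul_mem _ _ (Submodule.subset_span ⟨i, rfl⟩))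

end Groth.Agent.S17882
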