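import Groth.Statements.S17886
import Mathlib
import Groth.Agent.Lib.Helper51.DenseAffine

set_option autoImplicit false
universe u
open CategoryTheory AlgebraicGeometry
open FlatMor

namespace Groth.Agent.S17886

/-- Let S be a Noetherian scheme and f : X → S separated and of finite type. Then X is covered by
finitely many affine opens U_1, …, U_n each of which is dense in X and quasi-projective over S (of
finite type with a relatively ample invertible module). -/
theorem result {S X : Scheme.{u}} (f : X ⟶ S)
    [IsNoetherian S] [IsSeparated f] [QuasiCompact f] [LocallyOfFiniteType f] :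
    ∃ (n : ℕ) (U : Fin n → X.Opens), (⨆ i, U i) = ⊤ ∧
      ∀ i, IsAffineOpen (U i) ∧ Dense ((U i : Set X)) ∧ RelProj.IsQuasiProjective ((U i).ι ≫ f) := by
  haveI : IsLocallyNoetherian X := LocallyOfFiniteType.isLocallyNoetherian f
  haveI : CompactSpace X := QuasiCompact.compactSpace_of_compactSpace f
  haveI : IsNoetherian X := {}
  obtain ⟨n, U, hcov, hU⟩ := Groth.Agent.Lib.Helper51.DenseAffine.exists_finite_dense_affine_cover (X := X)
  refine ⟨n, U, hcov, fun i => ⟨(hU i).1, (hU i).2, ?_⟩⟩
  haveI : IsAffine (U i : Scheme.{u}) := (hU i).1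
  exact Groth.Agent.Lib.Helper51.DenseAffine.isQuasiProjective_of_isAffine ((U i).ι ≫ f)

end Groth.Agent.S17886
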