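import Groth.Statements.S17887
import Mathlib
import Groth.Agent.Lib.Helper82.EffCartier
import Groth.Agent.Lib.Helper82.EffCartierCompl

set_option autoImplicit false
universe u
open CategoryTheory AlgebraicGeometry
open BlowUp

namespace Groth.Agent.S17887

/-- Let X be a Noetherian scheme, U ⊆ X an open subscheme that is schematically dense in X, I a
quasi-coherent ideal sheaf on X whose support does not meet U, and π : X' → X a blowing-up of X
along I. Then π⁻¹(U) is schematically dense in X'. -/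
theorem result {X X' : Scheme.{u}} [IsNoetherian X]
    (U : X.Opens) [IsSchemeTheoreticallyDominant U.ι] (𝓘 : X.IdealSheafData)
    (hU : Disjoint (𝓘.support : Set X) (U : Set X)) (π : X' ⟶ X) (hπ : BlowUp.IsBlowUp π 𝓘) :
    IsSchemeTheoreticallyDominant (π ⁻¹ᵁ U).ι := by
  haveI : IsIso (π ∣_ 𝓘.support.compl) :=
    Groth.Agent.Lib.Helper82.isIso_morphismRestrict_of_isBlowUp 𝓘 π hπ
  have hD : IsSchemeTheoreticallyDominant (π ⁻¹ᵁ 𝓘.support.compl).ι := by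
    have := Groth.Agent.Lib.Helper82.isSchemeTheoreticallyDominant_ι_compl_support (𝓘.comap π) hπ.1
    have e : (𝓘.comap π).support.compl = π ⁻¹ᵁ 𝓘.support.compl := by
      ext x
      simp [Scheme.IdealSheafData.support_comap]
    rwa [e] at this
  haveI : Flat ((π ⁻¹ᵁ 𝓘.support.compl).ι ≫ π) := by
    rw [← morphismRestrict_ι]; infer_instance
  haveI : QuasiCompact U.ι := inferInstance
  have h1 := isPullback_morphismRestrict π U
  have h2 := isPullback_morphismRestrict (π ⁻¹ᵁ 𝓘.support.compl).ι (π ⁻¹ᵁ U)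
  have h3 := (h2.flip.paste_vert h1.flip).flip
  haveI : IsSchemeTheoreticallyDominant
      ((π ⁻¹ᵁ 𝓘.support.compl).ι ⁻¹ᵁ (π ⁻¹ᵁ U)).ι := .of_isPullback h3
  haveI : IsSchemeTheoreticallyDominant
      (((π ⁻¹ᵁ 𝓘.support.compl).ι ⁻¹ᵁ (π ⁻¹ᵁ U)).ι ≫ (π ⁻¹ᵁ 𝓘.support.compl).ι) := inferInstance
  constructor
  rw [← le_bot_iff]
  calc (π ⁻¹ᵁ U).ι.ker
      ≤ (((π ⁻¹ᵁ 𝓘.support.compl).ι ∣_ (π ⁻¹ᵁ U)) ≫ (π ⁻¹ᵁ U).ι).ker :=
        Scheme.Hom.le_ker_comp _ _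
    _ = (((π ⁻¹ᵁ 𝓘.support.compl).ι ⁻¹ᵁ (π ⁻¹ᵁ U)).ι ≫ (π ⁻¹ᵁ 𝓘.support.compl).ι).ker := by
        rw [h2.w]
    _ = ⊥ := Scheme.Hom.ker_eq_bot _

end Groth.Agent.S17887
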