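import Groth.Statements.S17889
import Mathlib
import Groth.Agent.S17391

set_option autoImplicit false
universe u
open CategoryTheory AlgebraicGeometry TopologicalSpace
open BlowUp

namespace Groth.Agent.S17889

section Aux
open CategoryTheory CategoryTheory.Limits AlgebraicGeometry TopologicalSpace

open Groth.Agent.S17391 in
theorem core2 {R R' B C : Type u} [CommRing R] [CommRing R'] [CommRing B] [CommRing C]
    (ρ : R →+* R') (β : R →+* B) (σ : B →+* C) (τ : R' →+* C) (hcomm : σ.comp β = τ.comp ρ)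
    (I a : Ideal R) (hIa : I ≤ a) (J : Ideal B) (e : R') (he : a.map ρ = Ideal.span {e})
    (hincl : a.map β ≤ I.map β ⊔ J) (𝔭 : Ideal C) [𝔭.IsPrime]
    (hK : ∀ k : R', k * e ∈ I.map ρ → τ k ∈ 𝔭) :
    ∃ w : C, w ∉ 𝔭 ∧ τ e * w ∈ J.map σ := by
  have hIle : I.map ρ ≤ Ideal.span {e} := by rw [← he]; exact Ideal.map_mono hIa
  let K' : Ideal R' :=
    { carrier := {j | j * e ∈ I.map ρ}
      add_mem' := fun {a b} ha hb => by
        change (a + b) * e ∈ I.map ρ; rw [add_mul]; exact add_mem ha hb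
      zero_mem' := by change (0 : R') * e ∈ I.map ρ; rw [zero_mul]; exact zero_mem _
      smul_mem' := fun c a ha => by
        change (c • a) * e ∈ I.map ρ; rw [smul_eq_mul, mul_assoc]; exact Ideal.mul_mem_left _ _ ha }
  have hK'le : K'.map τ ≤ 𝔭 := by
    rw [Ideal.map_le_iff_le_comap]
    intro x hx
    exact hK x hx
  have hIK' : I.map ρ ≤ K' * Ideal.span {e} := by
    intro x hx
    obtain ⟨b, hb⟩ := Ideal.mem_span_singleton'.mp (hIle hx)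
    rw [← hb]
    exact Ideal.mul_mem_mul (show b ∈ K' from (hb ▸ hx : b * e ∈ I.map ρ))
      (Ideal.mem_span_singleton_self e)
  have hτe : τ e ∈ 𝔭 * Ideal.span {τ e} ⊔ J.map σ := by
    have h1 : τ e ∈ (a.map ρ).map τ :=
      Ideal.mem_map_of_mem τ (by rw [he]; exact Ideal.mem_span_singleton_self e)
    rw [Ideal.map_map, ← hcomm, ← Ideal.map_map] at h1
    have h2 := Ideal.map_mono (f := σ) hincl h1
    rw [Ideal.map_sup, Ideal.map_map, hcomm, ← Ideal.map_map] at h2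
    have h3 : (I.map ρ).map τ ≤ 𝔭 * Ideal.span {τ e} := by
      refine (Ideal.map_mono hIK').trans ?_
      rw [Ideal.map_mul, Ideal.map_span, Set.image_singleton]
      exact Ideal.mul_mono_left hK'le
    exact (sup_le_sup_right h3 (J.map σ)) h2
  obtain ⟨s, hs, κ, hκ, hsκ⟩ := Submodule.mem_sup.mp hτe
  obtain ⟨m, hm, hms⟩ := Ideal.mem_mul_span_singleton.mp hs
  refine ⟨1 - m, ?_, ?_⟩
  · intro hw
    have h1 : (1 : C) ∈ 𝔭 := by
      have : (1 : C) = (1 - m) + m := by ring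
      rw [this]
      exact add_mem hw hm
    exact (Ideal.IsPrime.ne_top inferInstance) ((Ideal.eq_top_iff_one _).mpr h1)
  · have h1 : τ e * (1 - m) = κ := by
      rw [← hms] at hsκ
      rw [mul_sub, mul_one, mul_comm (τ e) m]
      exact sub_eq_of_eq_add' hsκ.symm
    rw [h1]; exact hκ

open Groth.Agent.S17391 in
theorem main {X Z : Scheme.{u}} (p : Z ⟶ X)
    (X₀ : X.Opens) (F : Closeds X) (G : Closeds Z)
    (𝔞 : X.IdealSheafData) (h₁ : Disjoint (𝔞.support : Set X) (X₀ : Set X))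
    (h₂ : Scheme.IdealSheafData.vanishingIdeal F ≤ 𝔞)
    (h₃ : 𝔞 ≤ (((Scheme.IdealSheafData.vanishingIdeal F).comap p ⊔
      Scheme.IdealSheafData.vanishingIdeal G).subschemeι ≫ p).ker)
    {X' : Scheme.{u}} (π : X' ⟶ X) (hπ : BlowUp.IsBlowUp π 𝔞) :
    (Limits.pullback.snd p π).base ⁻¹' closure (π.base ⁻¹' ((F : Set X) ∩ (X₀ : Set X))) ∩
      closure ((Limits.pullback.fst p π).base ⁻¹' ((G : Set Z) ∩ (p ⁻¹ᵁ X₀ : Set Z))) = ∅ := by
  rw [Set.eq_empty_iff_forall_notMem]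
  rintro z' ⟨hz'1, hz'2⟩
  have h₃' : 𝔞.comap p ≤ (Scheme.IdealSheafData.vanishingIdeal F).comap p ⊔
      Scheme.IdealSheafData.vanishingIdeal G :=
    Scheme.IdealSheafData.le_map_iff_comap_le.mp h₃
  have hFsupp : F ≤ (Scheme.IdealSheafData.vanishingIdeal F).support :=
    Scheme.IdealSheafData.le_support_iff_le_vanishingIdeal.mpr le_rfl
  have hGsupp : G ≤ (Scheme.IdealSheafData.vanishingIdeal G).support :=
    Scheme.IdealSheafData.le_support_iff_le_vanishingIdeal.mpr le_rfl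
  have hsq : pullback.fst p π ≫ p = pullback.snd p π ≫ π := pullback.condition
  set π₁ := pullback.fst p π with hπ₁
  set π₂ := pullback.snd p π with hπ₂
  set x' : X' := π₂ z' with hx'
  have hx'cl : x' ∈ closure (π.base ⁻¹' ((F : Set X) ∩ (X₀ : Set X))) := hz'1
  obtain ⟨W, hW, hxW, -⟩ :=
    exists_isAffineOpen_mem_and_subset (X := X) (U := ⊤) (x := π x') (by simp)
  obtain ⟨D₀, hx'D₀, e₀, -, hD₀⟩ := hπ.1 x'
  obtain ⟨D, hD, hx'D, hDle⟩ := exists_isAffineOpen_mem_and_subset (X := X')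
    (U := D₀.1 ⊓ π ⁻¹ᵁ W) (x := x') ⟨hx'D₀, hxW⟩
  have hDD₀ : D ≤ D₀.1 := hDle.trans inf_le_left
  have hDW : D ≤ π ⁻¹ᵁ W := hDle.trans inf_le_right
  set e : Γ(X', D) := X'.presheaf.map (homOfLE hDD₀).op e₀ with he_def
  have hDe : (𝔞.comap π).ideal ⟨D, hD⟩ = Ideal.span {e} := by
    rw [← (𝔞.comap π).map_ideal (U := ⟨D, hD⟩) (V := D₀) hDD₀, hD₀, Ideal.map_span,
      Set.image_singleton]
    rfl
  have he : (𝔞.ideal ⟨W, hW⟩).map (π.appLE W D hDW).hom = Ideal.span {e} := by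
    rw [← hDe, Groth.Agent.Lib.Helper82.ideal_comap_of_le π 𝔞 D hD W hW hDW]
  set z : Z := π₁ z' with hz
  have hpz : p z = π x' := by
    have h1 : (π₁ ≫ p) z' = (π₂ ≫ π) z' := by rw [hsq]
    simpa using h1
  obtain ⟨Z₀, hZ₀, hzZ₀, hZ₀W⟩ := exists_isAffineOpen_mem_and_subset (X := Z)
    (U := p ⁻¹ᵁ W) (x := z) (by change p z ∈ W; rw [hpz]; exact hxW)
  obtain ⟨N, hN, hz'N, hNle⟩ := exists_isAffineOpen_mem_and_subset (X := pullback p π)
    (U := π₂ ⁻¹ᵁ D ⊓ π₁ ⁻¹ᵁ Z₀) (x := z') ⟨hx'D, hzZ₀⟩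
  have hND : N ≤ π₂ ⁻¹ᵁ D := hNle.trans inf_le_left
  have hNZ₀ : N ≤ π₁ ⁻¹ᵁ Z₀ := hNle.trans inf_le_right
  have hcomm : (π₁.appLE Z₀ N hNZ₀).hom.comp (p.appLE W Z₀ hZ₀W).hom =
      (π₂.appLE D N hND).hom.comp (π.appLE W D hDW).hom := by
    rw [← CommRingCat.hom_comp, ← CommRingCat.hom_comp, Scheme.Hom.appLE_comp_appLE,
      Scheme.Hom.appLE_comp_appLE]
    exact congrArg _ (appLE_congr_hom hsq W N _ _)
  have hincl' : (𝔞.ideal ⟨W, hW⟩).map (p.appLE W Z₀ hZ₀W).hom ≤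
      ((Scheme.IdealSheafData.vanishingIdeal F).ideal ⟨W, hW⟩).map (p.appLE W Z₀ hZ₀W).hom ⊔
        (Scheme.IdealSheafData.vanishingIdeal G).ideal ⟨Z₀, hZ₀⟩ := by
    have h1 := h₃' ⟨Z₀, hZ₀⟩
    rw [Scheme.IdealSheafData.ideal_sup, Pi.sup_apply,
      Groth.Agent.Lib.Helper82.ideal_comap_of_le p 𝔞 Z₀ hZ₀ W hW hZ₀W,
      Groth.Agent.Lib.Helper82.ideal_comap_of_le p _ Z₀ hZ₀ W hW hZ₀W] at h1
    exact h1
  haveI h𝔭 : (hN.primeIdealOf ⟨z', hz'N⟩).asIdeal.IsPrime := (hN.primeIdealOf ⟨z', hz'N⟩).isPrime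
  have he_not : ∀ (x'' : X') (hx''D : x'' ∈ D), π x'' ∈ X₀ →
      e ∉ (hD.primeIdealOf ⟨x'', hx''D⟩).asIdeal := by
    intro x'' hx''D hX₀ heP
    have hyW : π x'' ∈ W := hDW hx''D
    have hnot : ¬ 𝔞.ideal ⟨W, hW⟩ ≤ (hW.primeIdealOf ⟨π x'', hyW⟩).asIdeal := by
      intro hle
      have := (mem_support_iff_le 𝔞 hW _ hyW).mpr hle
      exact Set.disjoint_left.mp h₁ this hX₀
    obtain ⟨r, hr, hr'⟩ := SetLike.not_le_iff_exists.mp hnot
    have h3 : (π.appLE W D hDW).hom r ∈ Ideal.span {e} := by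
      rw [← he]
      exact Ideal.mem_map_of_mem _ hr
    obtain ⟨c, hc⟩ := Ideal.mem_span_singleton'.mp h3
    apply hr'
    rw [← comap_primeIdealOf π hW hD hDW x'' hx''D]
    change (π.appLE W D hDW).hom r ∈ (hD.primeIdealOf ⟨x'', hx''D⟩).asIdeal
    rw [← hc]
    exact Ideal.mul_mem_left _ c heP
  have hK : ∀ k : Γ(X', D),
      k * e ∈ ((Scheme.IdealSheafData.vanishingIdeal F).ideal ⟨W, hW⟩).map (π.appLE W D hDW).hom →
      (π₂.appLE D N hND).hom k ∈ (hN.primeIdealOf ⟨z', hz'N⟩).asIdeal := by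
    intro k hk
    by_contra hcon
    have hk1 : k ∉ (hD.primeIdealOf ⟨x', hx'D⟩).asIdeal := by
      rw [← comap_primeIdealOf π₂ hD hN hND z' hz'N]
      exact hcon
    have hx'k : x' ∈ X'.basicOpen k := (not_mem_primeIdealOf_iff hD x' hx'D k).mp hk1
    obtain ⟨x'', hx''k, hx''F, hx''X₀⟩ := mem_closure_iff.mp hx'cl (X'.basicOpen k)
      (X'.basicOpen k).isOpen hx'k
    have hx''D : x'' ∈ D := X'.basicOpen_le k hx''k
    have hyW : π x'' ∈ W := hDW hx''D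
    haveI hP'' : (hD.primeIdealOf ⟨x'', hx''D⟩).asIdeal.IsPrime :=
      (hD.primeIdealOf ⟨x'', hx''D⟩).isPrime
    have hcm := comap_primeIdealOf π hW hD hDW x'' hx''D
    have hI : (Scheme.IdealSheafData.vanishingIdeal F).ideal ⟨W, hW⟩ ≤
        (hW.primeIdealOf ⟨π x'', hyW⟩).asIdeal :=
      (mem_support_iff_le _ hW (π x'') hyW).mp (hFsupp hx''F)
    have he'' := he_not x'' hx''D hx''X₀
    have hk'' : k ∉ (hD.primeIdealOf ⟨x'', hx''D⟩).asIdeal :=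
      (not_mem_primeIdealOf_iff hD x'' hx''D k).mpr hx''k
    have h6 : ((Scheme.IdealSheafData.vanishingIdeal F).ideal ⟨W, hW⟩).map
        (π.appLE W D hDW).hom ≤ (hD.primeIdealOf ⟨x'', hx''D⟩).asIdeal := by
      rw [Ideal.map_le_iff_le_comap, hcm]
      exact hI
    rcases hP''.mem_or_mem (h6 hk) with h7 | h7
    · exact hk'' h7
    · exact he'' h7
  obtain ⟨w, hw, hwJ⟩ := core2 (π.appLE W D hDW).hom (p.appLE W Z₀ hZ₀W).hom
    (π₁.appLE Z₀ N hNZ₀).hom (π₂.appLE D N hND).hom hcomm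
    ((Scheme.IdealSheafData.vanishingIdeal F).ideal ⟨W, hW⟩) (𝔞.ideal ⟨W, hW⟩) (h₂ ⟨W, hW⟩)
    ((Scheme.IdealSheafData.vanishingIdeal G).ideal ⟨Z₀, hZ₀⟩) e he hincl'
    (hN.primeIdealOf ⟨z', hz'N⟩).asIdeal hK
  have hz'w : z' ∈ (pullback p π).basicOpen w := (not_mem_primeIdealOf_iff hN z' hz'N w).mp hw
  obtain ⟨y', hy'w, hy'G, hy'X₀⟩ := mem_closure_iff.mp hz'2 ((pullback p π).basicOpen w)
    ((pullback p π).basicOpen w).isOpen hz'w
  have hy'N : y' ∈ N := (pullback p π).basicOpen_le w hy'w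
  haveI hP' : (hN.primeIdealOf ⟨y', hy'N⟩).asIdeal.IsPrime := (hN.primeIdealOf ⟨y', hy'N⟩).isPrime
  have hw' : w ∉ (hN.primeIdealOf ⟨y', hy'N⟩).asIdeal :=
    (not_mem_primeIdealOf_iff hN y' hy'N w).mpr hy'w
  have hπ₁y'Z₀ : π₁ y' ∈ Z₀ := hNZ₀ hy'N
  have hJ : (Scheme.IdealSheafData.vanishingIdeal G).ideal ⟨Z₀, hZ₀⟩ ≤
      (hZ₀.primeIdealOf ⟨π₁ y', hπ₁y'Z₀⟩).asIdeal :=
    (mem_support_iff_le _ hZ₀ (π₁ y') hπ₁y'Z₀).mp (hGsupp hy'G)
  have hJσ : ((Scheme.IdealSheafData.vanishingIdeal G).ideal ⟨Z₀, hZ₀⟩).map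
      (π₁.appLE Z₀ N hNZ₀).hom ≤ (hN.primeIdealOf ⟨y', hy'N⟩).asIdeal := by
    rw [Ideal.map_le_iff_le_comap, comap_primeIdealOf π₁ hZ₀ hN hNZ₀ y' hy'N]
    exact hJ
  have hτe : (π₂.appLE D N hND).hom e ∈ (hN.primeIdealOf ⟨y', hy'N⟩).asIdeal := by
    rcases hP'.mem_or_mem (hJσ hwJ) with h | h
    · exact h
    · exact absurd h hw'
  have hπ₂y'D : π₂ y' ∈ D := hND hy'N
  have heP : e ∈ (hD.primeIdealOf ⟨π₂ y', hπ₂y'D⟩).asIdeal := by
    rw [← comap_primeIdealOf π₂ hD hN hND y' hy'N]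
    exact hτe
  have hqX₀ : π (π₂ y') ∈ X₀ := by
    have h1 : (π₁ ≫ p) y' = (π₂ ≫ π) y' := by rw [hsq]
    have h2 : p (π₁ y') = π (π₂ y') := by simpa using h1
    rw [← h2]
    exact hy'X₀
  exact he_not (π₂ y') hπ₂y'D hqX₀ heP


end Aux

/-- Let X be a Noetherian scheme, X₀ ⊆ X an open subscheme, p : Z → X a morphism of finite type with Z
Noetherian, and F ⊆ X, G ⊆ Z closed subsets with p⁻¹(F ∩ X₀) ∩ G = ∅. Let a be a quasi-coherent
ideal sheaf on X whose support does not meet X₀, which contains the vanishing ideal I_F of F, and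
which is contained in the kernel ideal of V(I_F·O_Z + I_G) → Z → X (the ideal of the
scheme-theoretic image under p of p⁻¹(F) ∩ G). Let π : X' → X be a blowing-up along a, Z' = Z ×_X X'
with projections π' : Z' → Z and p' : Z' → X'. Then p'⁻¹ of the closure in X' of π⁻¹(F ∩ X₀) is
disjoint from the closure in Z' of π'⁻¹(G ∩ p⁻¹(X₀)). Taking a to be that kernel ideal shows such an
a exists. -/
theorem result
    {X Z : Scheme.{u}} [IsNoetherian X] [IsNoetherian Z] (p : Z ⟶ X) [LocallyOfFiniteType p]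
    (X₀ : X.Opens) (F : Closeds X) (G : Closeds Z)
    (hFG : p.base ⁻¹' ((F : Set X) ∩ (X₀ : Set X)) ∩ (G : Set Z) = ∅)
    (𝔞 : X.IdealSheafData) (h₁ : Disjoint (𝔞.support : Set X) (X₀ : Set X))
    (h₂ : Scheme.IdealSheafData.vanishingIdeal F ≤ 𝔞)
    (h₃ : 𝔞 ≤ (((Scheme.IdealSheafData.vanishingIdeal F).comap p ⊔
      Scheme.IdealSheafData.vanishingIdeal G).subschemeι ≫ p).ker)
    {X' : Scheme.{u}} (π : X' ⟶ X) (hπ : BlowUp.IsBlowUp π 𝔞) :
    (Limits.pullback.snd p π).base ⁻¹' closure (π.base ⁻¹' ((F : Set X) ∩ (X₀ : Set X))) ∩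
      closure ((Limits.pullback.fst p π).base ⁻¹' ((G : Set Z) ∩ (p ⁻¹ᵁ X₀ : Set Z))) = ∅ := by
  exact main p X₀ F G 𝔞 h₁ h₂ h₃ π hπ

end Groth.Agent.S17889
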