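import Groth.Statements.S1789
import Groth.Agent.Lib.Helper89.Norm2
import Groth.Agent.Lib.Helper39.Dual.MvPolyDual
import Groth.Agent.S1782
import Groth.Agent.S1775

set_option autoImplicit false
universe u
open CategoryTheory
attribute [local instance] HasDerivedCategory.standard
open Dual2

namespace Groth.Agent.S1789

/-- Let R → A be a ring map of finite type between Noetherian rings with R local, where φ^!(K) is formed
from a presentation ψ : R[x_1, …, x_n] → A as RHom_P(A, K ⊗^L_R P)[n], assuming the derived base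
change to P exists and taking for RHom_P(A, −) a right adjoint of restriction of scalars along ψ.
Let m be a maximal ideal of A lying over the maximal ideal of R and ω a normalized dualizing complex
for R. Assuming the derived base change D(A) → D(A_m) exists, the base change of φ^!(ω) to A_m is a
normalized dualizing complex for A_m. -/
theorem result (R A : Type u) [CommRing R] [CommRing A] [IsNoetherianRing R] [IsNoetherianRing A] [Algebra R A] (n : ℕ) (ψ : MvPolynomial (Fin n) R →ₐ[R] A) (hψ : Function.Surjective ψ) [DRing.HasLBaseChange (algebraMap R (MvPolynomial (Fin n) R))] (Rψ : Dual.D (MvPolynomial (Fin n) R) ⥤ Dual.D A) (adj : DRing.restrictD ψ.toRingHom ⊣ Rψ) [IsLocalRing R] (m : Ideal A) [m.IsMaximal] (hm : m.comap (algebraMap R A) = IsLocalRing.maximalIdeal R) (ω : Dual.D R) (hω : Dual.IsDualizing R ω) (hn : Dual.IsNormalized R ω) [DRing.HasLBaseChange (algebraMap A (Localization.AtPrime m))] : Dual.IsDualizing (Localization.AtPrime m) ((DRing.LBaseChange (algebraMap A (Localization.AtPrime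 m))).obj (Dual2.shriekVia n Rψ ω)) ∧ Dual.IsNormalized (Localization.AtPrime m) ((DRing.LBaseChange (algebraMap A (Localization.AtPrime m))).obj (Dual2.shriekVia n Rψ ω)) := by
  classical
  -- notation
  have hfR : (algebraMap R (MvPolynomial (Fin n) R)).Flat :=
    RingHom.flat_algebraMap_iff.2 inferInstance
  haveI : Limits.PreservesFiniteLimits
      (Groth.Agent.Lib.Helper84.FlatBC.ext (algebraMap R (MvPolynomial (Fin n) R))) :=
    Groth.Agent.Lib.Helper84.FlatBC.preservesFiniteLimits_ext _ hfR
  have hfA : (algebraMap A (Localization.AtPrime m)).Flat :=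
    RingHom.flat_algebraMap_iff.2 inferInstance
  haveI : Limits.PreservesFiniteLimits
      (Groth.Agent.Lib.Helper84.FlatBC.ext (algebraMap A (Localization.AtPrime m))) :=
    Groth.Agent.Lib.Helper84.FlatBC.preservesFiniteLimits_ext _ hfA
  -- the dualizing complex on the polynomial ring
  have hW := Groth.Agent.Lib.Helper39.Dual.MvPolyDual.isDualizing_LBaseChange_mvPolynomial R n ω hω
  have eW := (Groth.Agent.Lib.Helper15.LBCFlat.lbcFlatIso
    (algebraMap R (MvPolynomial (Fin n) R))).app ω
  -- vanishing of Ext^i(P/m_R P, W) for i ≠ 0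
  obtain ⟨a₀, b₀, hab₀⟩ := hω.finite_injective_dimension
  have hGE₀ : ω.IsGE a₀ := Groth.Agent.Lib.Helper89.Bass.isGE_of_fid ω a₀ b₀ hab₀
  have h0 : ∀ i : ℤ, i ≠ 0 → Subsingleton
      (Dual.inD (MvPolynomial (Fin n) R)
        (MvPolynomial (Fin n) R ⧸ Groth.Agent.Lib.Helper89.Norm.I R n) ⟶
        ((DRing.LBaseChange (algebraMap R (MvPolynomial (Fin n) R))).obj ω)⟦i⟧) := by
    intro i hi
    have h0 := hn i hi
    let eA : Dual.inD R (R ⧸ IsLocalRing.maximalIdeal R) ≅
        Dual.inD R (IsLocalRing.ResidueField R) :=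
      (DerivedCategory.singleFunctor (ModuleCat.{u} R) 0).mapIso
        (Groth.Agent.Lib.Helper89.Bass.residueEquiv R).toModuleIso
    have h1 : Subsingleton (Dual.inD R (R ⧸ IsLocalRing.maximalIdeal R) ⟶ ω⟦i⟧) :=
      @Equiv.subsingleton _ _ (eA.homCongr (Iso.refl _)) h0
    have h2 := Groth.Agent.Lib.Helper89.Bass.subsingleton_inD_bc
      (algebraMap R (MvPolynomial (Fin n) R)) hfR ω a₀ hGE₀ (IsLocalRing.maximalIdeal R) i h1
    exact @Equiv.subsingleton _ _
      ((Iso.refl _).homCongr ((shiftFunctor (Dual.D (MvPolynomial (Fin n) R)) i).mapIso eW)) h2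
  -- dualizing
  have hK : Dual.IsDualizing A (Dual2.shriekVia n Rψ ω) :=
    Groth.Agent.S1782.result R A n ψ hψ Rψ adj ω hω
  have hKm := Groth.Agent.S1775.result A m.primeCompl (Dual2.shriekVia n Rψ ω) hK
  refine ⟨hKm, ?_⟩
  -- normalized
  have hIm : Groth.Agent.Lib.Helper89.Norm.I R n ≤ m.comap ψ.toRingHom := by
    rw [Ideal.map_le_iff_le_comap, Ideal.comap_comap]
    have : ψ.toRingHom.comp (algebraMap R (MvPolynomial (Fin n) R)) = algebraMap R A :=
      RingHom.ext fun r => ψ.commutes r
    rw [this, hm]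
  have hvan : ∀ i : ℤ, i ≠ 0 → Subsingleton
      (Dual.inD A (A ⧸ m) ⟶ (Dual2.shriekVia n Rψ ω)⟦i⟧) := fun i hi =>
    Groth.Agent.Lib.Helper89.Norm.shriek_normalized R n ψ.toRingHom hψ Rψ adj _ hW h0 m hIm i hi
  obtain ⟨a₁, b₁, hab₁⟩ := hK.finite_injective_dimension
  have hGE₁ : (Dual2.shriekVia n Rψ ω).IsGE a₁ :=
    Groth.Agent.Lib.Helper89.Bass.isGE_of_fid _ a₁ b₁ hab₁
  have eK := (Groth.Agent.Lib.Helper15.LBCFlat.lbcFlatIso
    (algebraMap A (Localization.AtPrime m))).app (Dual2.shriekVia n Rψ ω)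
  have hmm : m.map (algebraMap A (Localization.AtPrime m)) =
      IsLocalRing.maximalIdeal (Localization.AtPrime m) :=
    Localization.AtPrime.map_eq_maximalIdeal
  intro i hi
  have h2 := Groth.Agent.Lib.Helper89.Bass.subsingleton_inD_bc
    (algebraMap A (Localization.AtPrime m)) hfA (Dual2.shriekVia n Rψ ω) a₁ hGE₁ m i (hvan i hi)
  let eB : Dual.inD (Localization.AtPrime m) (IsLocalRing.ResidueField (Localization.AtPrime m)) ≅
      Dual.inD (Localization.AtPrime m)
        (Localization.AtPrime m ⧸ m.map (algebraMap A (Localization.AtPrime m))) :=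
    (DerivedCategory.singleFunctor (ModuleCat.{u} (Localization.AtPrime m)) 0).mapIso
      ((Groth.Agent.Lib.Helper89.Bass.residueEquiv (Localization.AtPrime m)).symm ≪≫ₗ
        (Submodule.quotEquivOfEq _ _ hmm).symm).toModuleIso
  exact @Equiv.subsingleton _ _
    (eB.homCongr ((shiftFunctor (Dual.D (Localization.AtPrime m)) i).mapIso eK)) h2

end Groth.Agent.S1789
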