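import Groth.Statements.S17891
import Groth.Agent.Lib.Helper16.YBlowUp2

set_option autoImplicit false
universe u
open CategoryTheory AlgebraicGeometry
open FlatMor

namespace Groth.Agent.S17891

/-- Here f : Y → X is an affine morphism with X and Y quasi-compact and quasi-separated; a
Y-modification of X is a factorization f = fᵢ ≫ gᵢ with fᵢ : Y → Xᵢ schematically dominant and gᵢ :
Xᵢ → X proper, and it is a Y-blow-up of X when Xᵢ carries a gᵢ-ample module L with a section ε : O →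
L whose pullback along fᵢ is an isomorphism (a Y-trivialization). Given two Y-blow-ups (X₁, f₁, g₁),
(X₂, f₂, g₂) of X there is a Y-blow-up (X₃, f₃, g₃) of X together with morphisms dᵢ : X₃ → Xᵢ
satisfying f₃ ≫ dᵢ = fᵢ and dᵢ ≫ gᵢ = g₃. -/
theorem result {X Y : Scheme.{u}} (f : Y ⟶ X)
    [CompactSpace X] [QuasiSeparatedSpace X] [CompactSpace Y] [QuasiSeparatedSpace Y] [IsAffineHom f]
    {X₁ X₂ : Scheme.{u}} (f₁ : Y ⟶ X₁) (g₁ : X₁ ⟶ X) (f₂ : Y ⟶ X₂) (g₂ : X₂ ⟶ X)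
    (h₁ : IsSchemeTheoreticallyDominant f₁ ∧ IsProper g₁ ∧ f₁ ≫ g₁ = f ∧
        ∃ (L : X₁.Modules) (ε : Coh.structureModule X₁ ⟶ L),
          RelAmple.IsRelAmple g₁ L ∧ IsIso ((Scheme.Modules.pullback f₁).map ε))
    (h₂ : IsSchemeTheoreticallyDominant f₂ ∧ IsProper g₂ ∧ f₂ ≫ g₂ = f ∧
        ∃ (L : X₂.Modules) (ε : Coh.structureModule X₂ ⟶ L),
          RelAmple.IsRelAmple g₂ L ∧ IsIso ((Scheme.Modules.pullback f₂).map ε)) :
    ∃ (X₃ : Scheme.{u}) (f₃ : Y ⟶ X₃) (g₃ : X₃ ⟶ X) (d₁ : X₃ ⟶ X₁) (d₂ : X₃ ⟶ X₂),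
      (IsSchemeTheoreticallyDominant f₃ ∧ IsProper g₃ ∧ f₃ ≫ g₃ = f ∧
        ∃ (L : X₃.Modules) (ε : Coh.structureModule X₃ ⟶ L),
          RelAmple.IsRelAmple g₃ L ∧ IsIso ((Scheme.Modules.pullback f₃).map ε)) ∧
      f₃ ≫ d₁ = f₁ ∧ d₁ ≫ g₁ = g₃ ∧ f₃ ≫ d₂ = f₂ ∧ d₂ ≫ g₂ = g₃ := by
  classical
  obtain ⟨_, hprop₁, hcomp₁, L₁, ε₁, hamp₁, hiso₁⟩ := h₁
  obtain ⟨_, hprop₂, hcomp₂, L₂, ε₂, hamp₂, hiso₂⟩ := h₂
  haveI := hprop₁
  haveI := hprop₂
  have hinv₁ : PicF.IsInvertible L₁ :=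
    Groth.Agent.Lib.Helper35.AmpleFamily.isInvertible_of_isRelAmple g₁ hamp₁
  have hinv₂ : PicF.IsInvertible L₂ :=
    Groth.Agent.Lib.Helper35.AmpleFamily.isInvertible_of_isRelAmple g₂ hamp₂
  have hy1 := Groth.Agent.Lib.Helper16.YBlowUp.mem_genLocus_of_isIso f₁ hinv₁ ε₁ hiso₁
  have hy2 := Groth.Agent.Lib.Helper16.YBlowUp.mem_genLocus_of_isIso f₂ hinv₂ ε₂ hiso₂
  -- the morphism to the product
  obtain ⟨φ, hφ⟩ : ∃ φ : Y ⟶ Limits.pullback g₁ g₂, φ = Limits.pullback.lift f₁ f₂ (by rw [hcomp₁, hcomp₂]) :=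
    ⟨_, rfl⟩
  have hφ₁ : φ ≫ Limits.pullback.fst g₁ g₂ = f₁ := by rw [hφ]; exact Limits.pullback.lift_fst _ _ _
  have hφ₂ : φ ≫ Limits.pullback.snd g₁ g₂ = f₂ := by rw [hφ]; exact Limits.pullback.lift_snd _ _ _
  haveI : IsProper (Limits.pullback.snd g₁ g₂) :=
    MorphismProperty.pullback_snd (P := @IsProper) g₁ g₂ inferInstance
  haveI : QuasiCompact (φ ≫ (Limits.pullback.snd g₁ g₂ ≫ g₂)) := by
    have h : φ ≫ (Limits.pullback.snd g₁ g₂ ≫ g₂) = f := by rw [← Category.assoc, hφ₂, hcomp₂]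
    rw [h]
    infer_instance
  haveI : QuasiCompact φ := QuasiCompact.of_comp φ (Limits.pullback.snd g₁ g₂ ≫ g₂)
  haveI : IsSchemeTheoreticallyDominant φ.toImage :=
    Groth.Agent.Lib.Helper16.YBlowUp.isSchemeTheoreticallyDominant_toImage φ
  have hti : φ.toImage ≫ φ.imageι = φ := φ.toImage_imageι
  -- relative ampleness
  have hA : RelAmple.IsRelAmple (Limits.pullback.snd g₁ g₂)
      ((Scheme.Modules.pullback (Limits.pullback.fst g₁ g₂)).obj L₁) :=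
    Groth.Agent.Lib.Helper35.PbInv.isRelAmple_baseChange g₁ g₂ L₁ hamp₁
  have hB : RelAmple.IsRelAmple (φ.imageι ≫ Limits.pullback.snd g₁ g₂)
      ((Scheme.Modules.pullback φ.imageι).obj
        ((Scheme.Modules.pullback (Limits.pullback.fst g₁ g₂)).obj L₁)) :=
    Groth.Agent.Lib.Helper35.PbInv.isRelAmple_pullback_of_isEmbedding (Limits.pullback.snd g₁ g₂)
      φ.imageι φ.imageι.isEmbedding _ hA
  obtain ⟨n₀, hn₀, hn⟩ :=
    Groth.Agent.Lib.Helper35.RelAmpComp.isRelAmple_comp (φ.imageι ≫ Limits.pullback.snd g₁ g₂) g₂ _ L₂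
      hB hamp₂
  obtain ⟨k, rfl⟩ : ∃ k, n₀ = k + 1 := ⟨n₀ - 1, by omega⟩
  have hpb1 : PicF.IsInvertible ((Scheme.Modules.pullback (Limits.pullback.fst g₁ g₂)).obj L₁) :=
    Groth.Agent.Lib.Helper35.PbInv.isInvertible_pullback _ hinv₁
  have hpb1' : PicF.IsInvertible ((Scheme.Modules.pullback φ.imageι).obj
      ((Scheme.Modules.pullback (Limits.pullback.fst g₁ g₂)).obj L₁)) :=
    Groth.Agent.Lib.Helper35.PbInv.isInvertible_pullback _ hpb1
  have hpow : PicF.IsInvertible (CohB1.tensorPow L₂ (k + 1)) :=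
    Groth.Agent.Lib.Helper35.Gen.isInvertible_tensorPow hinv₂ (k + 1)
  have hpb2 : PicF.IsInvertible ((Scheme.Modules.pullback (φ.imageι ≫ Limits.pullback.snd g₁ g₂)).obj
      (CohB1.tensorPow L₂ (k + 1))) :=
    Groth.Agent.Lib.Helper35.PbInv.isInvertible_pullback _ hpow
  -- pointwise bookkeeping
  have e1 : ∀ y : Y, Limits.pullback.fst g₁ g₂ (φ.imageι (φ.toImage y)) = f₁ y := by
    intro y
    have h : φ.toImage ≫ φ.imageι ≫ Limits.pullback.fst g₁ g₂ = f₁ := by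
      rw [← Category.assoc, hti, hφ₁]
    have h' := congrArg (fun ψ : Y ⟶ X₁ => ψ y) h
    exact h'
  have e2 : ∀ y : Y, (φ.imageι ≫ Limits.pullback.snd g₁ g₂) (φ.toImage y) = f₂ y := by
    intro y
    have h : φ.toImage ≫ φ.imageι ≫ Limits.pullback.snd g₁ g₂ = f₂ := by
      rw [← Category.assoc, hti, hφ₂]
    have h' := congrArg (fun ψ : Y ⟶ X₂ => ψ y) h
    exact h'
  refine ⟨φ.image, φ.toImage, (φ.imageι ≫ Limits.pullback.snd g₁ g₂) ≫ g₂,
    φ.imageι ≫ Limits.pullback.fst g₁ g₂, φ.imageι ≫ Limits.pullback.snd g₁ g₂,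
    ⟨inferInstance, inferInstance, ?_, ?_⟩, ?_, ?_, ?_, rfl⟩
  · rw [← Category.assoc, ← Category.assoc, hti, hφ₂, hcomp₂]
  · refine Groth.Agent.Lib.Helper16.YBlowUp.hasTrivAmple_of_forall_mem φ.toImage _ _
      (Groth.Agent.Lib.Lead.Inv.secMul
        (Groth.Agent.Lib.Helper16.YBlowUp.pbSection φ.imageι
          (Groth.Agent.Lib.Helper16.YBlowUp.pbSection (Limits.pullback.fst g₁ g₂) ε₁))
        (Groth.Agent.Lib.Helper16.YBlowUp.pbSection (φ.imageι ≫ Limits.pullback.snd g₁ g₂)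
          (Groth.Agent.Lib.Lead.Inv.secPow ε₂ (k + 1))))
      (hn (k + 1) le_rfl) ?_
    intro y
    rw [Groth.Agent.Lib.Lead.Inv.genLocus_secMul hpb1' hpb2,
      Groth.Agent.Lib.Helper16.YBlowUp.genLocus_pbSection φ.imageι hpb1,
      Groth.Agent.Lib.Helper16.YBlowUp.genLocus_pbSection (Limits.pullback.fst g₁ g₂) hinv₁,
      Groth.Agent.Lib.Helper16.YBlowUp.genLocus_pbSection (φ.imageι ≫ Limits.pullback.snd g₁ g₂) hpow,
      Groth.Agent.Lib.Lead.Inv.genLocus_secPow hinv₂]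
    refine ⟨?_, ?_⟩
    · have h := hy1 y
      rw [← e1 y] at h
      exact h
    · have h := hy2 y
      rw [← e2 y] at h
      exact h
  · rw [← Category.assoc, hti, hφ₁]
  · rw [Category.assoc, Category.assoc, Limits.pullback.condition]
  · rw [← Category.assoc, hti, hφ₂]

end Groth.Agent.S17891
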