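import Groth.Statements.S17892
import Groth.Agent.Lib.Helper16.YBlowUp

set_option autoImplicit false
universe u
open CategoryTheory AlgebraicGeometry
open FlatMor

namespace Groth.Agent.S17892

/-- Here f : Y → X is an affine morphism with X and Y quasi-compact and quasi-separated; a
Y-modification of X is a factorization f = fᵢ ≫ gᵢ with fᵢ : Y → Xᵢ schematically dominant and gᵢ :
Xᵢ → X proper, and it is a Y-blow-up of X when Xᵢ carries a gᵢ-ample module L with a section ε : O →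
L whose pullback along fᵢ is an isomorphism (a Y-trivialization). If (Xᵢ, fᵢ, gᵢ) is a Y-blow-up of
X and (Xⱼ, fⱼ, gᵢⱼ) is a Y-blow-up of Xᵢ (with respect to fᵢ : Y → Xᵢ), then (Xⱼ, fⱼ, gᵢⱼ ≫ gᵢ) is a
Y-blow-up of X. -/
theorem result {X Y : Scheme.{u}} (f : Y ⟶ X)
    [CompactSpace X] [QuasiSeparatedSpace X] [CompactSpace Y] [QuasiSeparatedSpace Y] [IsAffineHom f]
    {Xᵢ Xⱼ : Scheme.{u}} (fᵢ : Y ⟶ Xᵢ) (gᵢ : Xᵢ ⟶ X) (fⱼ : Y ⟶ Xⱼ) (gᵢⱼ : Xⱼ ⟶ Xᵢ)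
    (hᵢ : IsSchemeTheoreticallyDominant fᵢ ∧ IsProper gᵢ ∧ fᵢ ≫ gᵢ = f ∧
        ∃ (L : Xᵢ.Modules) (ε : Coh.structureModule Xᵢ ⟶ L),
          RelAmple.IsRelAmple gᵢ L ∧ IsIso ((Scheme.Modules.pullback fᵢ).map ε))
    (hⱼ : IsSchemeTheoreticallyDominant fⱼ ∧ IsProper gᵢⱼ ∧ fⱼ ≫ gᵢⱼ = fᵢ ∧
        ∃ (L : Xⱼ.Modules) (ε : Coh.structureModule Xⱼ ⟶ L),
          RelAmple.IsRelAmple gᵢⱼ L ∧ IsIso ((Scheme.Modules.pullback fⱼ).map ε)) :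
    IsSchemeTheoreticallyDominant fⱼ ∧ IsProper (gᵢⱼ ≫ gᵢ) ∧ fⱼ ≫ (gᵢⱼ ≫ gᵢ) = f ∧
        ∃ (L : Xⱼ.Modules) (ε : Coh.structureModule Xⱼ ⟶ L),
          RelAmple.IsRelAmple (gᵢⱼ ≫ gᵢ) L ∧ IsIso ((Scheme.Modules.pullback fⱼ).map ε) := by
  classical
  obtain ⟨_, hpropᵢ, hcompᵢ, Lᵢ, εᵢ, hampᵢ, hisoᵢ⟩ := hᵢ
  obtain ⟨hdomⱼ, hpropⱼ, hcompⱼ, Lⱼ, εⱼ, hampⱼ, hisoⱼ⟩ := hⱼ
  haveI := hpropᵢ
  haveI := hpropⱼ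
  refine ⟨hdomⱼ, inferInstance, by rw [← Category.assoc, hcompⱼ, hcompᵢ], ?_⟩
  have hinvᵢ : PicF.IsInvertible Lᵢ :=
    Groth.Agent.Lib.Helper35.AmpleFamily.isInvertible_of_isRelAmple gᵢ hampᵢ
  have hinvⱼ : PicF.IsInvertible Lⱼ :=
    Groth.Agent.Lib.Helper35.AmpleFamily.isInvertible_of_isRelAmple gᵢⱼ hampⱼ
  obtain ⟨n₀, hn₀, hn⟩ :=
    Groth.Agent.Lib.Helper35.RelAmpComp.isRelAmple_comp gᵢⱼ gᵢ Lⱼ Lᵢ hampⱼ hampᵢ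
  obtain ⟨k, rfl⟩ : ∃ k, n₀ = k + 1 := ⟨n₀ - 1, by omega⟩
  have hpowinv : PicF.IsInvertible (CohB1.tensorPow Lᵢ (k + 1)) :=
    Groth.Agent.Lib.Helper35.Gen.isInvertible_tensorPow hinvᵢ (k + 1)
  have hpbinv : PicF.IsInvertible
      ((Scheme.Modules.pullback gᵢⱼ).obj (CohB1.tensorPow Lᵢ (k + 1))) :=
    Groth.Agent.Lib.Helper35.PbInv.isInvertible_pullback gᵢⱼ hpowinv
  have hy1 := Groth.Agent.Lib.Helper16.YBlowUp.mem_genLocus_of_isIso fⱼ hinvⱼ εⱼ hisoⱼ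
  have hy2 := Groth.Agent.Lib.Helper16.YBlowUp.mem_genLocus_of_isIso fᵢ hinvᵢ εᵢ hisoᵢ
  refine ⟨_, Groth.Agent.Lib.Lead.Inv.secMul εⱼ
    (Groth.Agent.Lib.Helper16.YBlowUp.pbSection gᵢⱼ
      (Groth.Agent.Lib.Lead.Inv.secPow εᵢ (k + 1))), hn (k + 1) le_rfl, ?_⟩
  rw [Groth.Agent.Lib.Helper16.YBlowUp.isIso_pullback_map_iff fⱼ
      (Groth.Agent.Lib.Helper35.Gen.isInvertible_tensorMod hinvⱼ hpbinv),
    Groth.Agent.Lib.Lead.Inv.genLocus_secMul hinvⱼ hpbinv,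
    Groth.Agent.Lib.Helper16.YBlowUp.genLocus_pbSection gᵢⱼ hpowinv,
    Groth.Agent.Lib.Lead.Inv.genLocus_secPow hinvᵢ]
  rw [eq_top_iff]
  intro y _
  have h2 : gᵢⱼ (fⱼ y) ∈ CohB1.genLocus Lᵢ εᵢ := by
    have h3 := hy2 y
    rw [← hcompⱼ] at h3
    exact h3
  exact ⟨hy1 y, h2⟩

end Groth.Agent.S17892
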