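import Groth.Statements.S17897
import Mathlib.AlgebraicGeometry.Stalk
import Mathlib.AlgebraicGeometry.ResidueField
import Mathlib.AlgebraicGeometry.Morphisms.Preimmersion
-- import your own Groth.Agent.* helpers here

set_option autoImplicit false
universe u
open CategoryTheory AlgebraicGeometry
open ValCrit

namespace Groth.Agent.S17897

/-- Every morphism from the spectrum of a local ring factors through the stalk at any point equal to
the image of the closed point. -/
lemma exists_stalk_factor {X : Scheme.{u}} (R : CommRingCat.{u}) [IsLocalRing R]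
    (φ : Spec R ⟶ X) (x : X) (hx : φ (IsLocalRing.closedPoint R) = x) :
    ∃ ψ : X.presheaf.stalk x ⟶ R, Spec.map ψ ≫ X.fromSpecStalk x = φ := by
  subst hx
  exact ⟨Scheme.stalkClosedPointTo φ, Scheme.Spec_stalkClosedPointTo_fromSpecStalk φ⟩

lemma stalk_factor_unique {X : Scheme.{u}} (R : CommRingCat.{u}) (x : X)
    (ψ₁ ψ₂ : X.presheaf.stalk x ⟶ R)
    (h : Spec.map ψ₁ ≫ X.fromSpecStalk x = Spec.map ψ₂ ≫ X.fromSpecStalk x) : ψ₁ = ψ₂ := by
  rw [cancel_mono] at h
  exact Spec.map_injective h

/-- Let f : Y → X be a morphism of schemes (not assumed separated), R a valuation ring with fraction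
field K, and i : Spec K → Y, φ : Spec R → X with i ≫ f = (Spec K → Spec R) ≫ φ. Let y be the point
of Y hit by i and g : κ(y) → K the induced embedding, R' = g⁻¹(R) the induced valuation ring of κ(y)
and ρ : R' → R the restriction of g. Then φ factors uniquely through Spec R → Spec R': there is a
unique φ' : Spec R' → X with (Spec ρ) ≫ φ' = φ whose restriction to the generic point Spec κ(y) is
the canonical morphism Spec κ(y) → Y followed by f. (Here y and g are given as data with Spec g
followed by Spec κ(y) → Y equal to i, and ρ as data by its defining equation.) -/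
theorem result {X Y : Scheme.{u}} (f : Y ⟶ X)
    (K : Type u) [Field K] (R : ValuationSubring K)
    (i : Spec (CommRingCat.of K) ⟶ Y) (φ : Spec (CommRingCat.of ↥R) ⟶ X)
    (w : Spec.map (CommRingCat.ofHom R.subtype) ≫ φ = i ≫ f)
    (y : Y) (g : Y.residueField y ⟶ CommRingCat.of K) (hg : Spec.map g ≫ Y.fromSpecResidueField y = i)
    (ρ : ↥(R.comap g.hom) →+* ↥R)
    (hρ : ∀ x : ↥(R.comap g.hom), ((ρ x : ↥R) : K) = g.hom (x : ↑(Y.residueField y))) :
    ∃! φ' : Spec (CommRingCat.of ↥(R.comap g.hom)) ⟶ X,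
      Spec.map (CommRingCat.ofHom ρ) ≫ φ' = φ ∧
      Spec.map (CommRingCat.ofHom (R.comap g.hom).subtype) ≫ φ' = Y.fromSpecResidueField y ≫ f := by
  -- the image of the closed point
  set x : X := φ (IsLocalRing.closedPoint (CommRingCat.of ↥R)) with hx
  obtain ⟨ψ, hψ⟩ := exists_stalk_factor (CommRingCat.of ↥R) φ x rfl
  -- injectivity of ρ
  have hρinj : Function.Injective ρ := by
    intro a b hab
    have h1 : g.hom (a : ↑(Y.residueField y)) = g.hom (b : ↑(Y.residueField y)) := by
      rw [← hρ a, ← hρ b, hab]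
    exact Subtype.ext (g.hom.injective h1)
  -- ρ is local
  have hρloc : IsLocalHom ρ := by
    constructor
    intro a ha
    obtain ⟨v, hv⟩ := ha.exists_right_inv
    have hvK : g.hom (a : ↑(Y.residueField y)) * (v : K) = 1 := by
      rw [← hρ a, ← R.coe_mul, hv]; rfl
    have hne : (a : ↑(Y.residueField y)) ≠ 0 := by
      intro h0
      rw [h0, map_zero, zero_mul] at hvK
      exact zero_ne_one hvK
    have hinv : ((a : ↑(Y.residueField y)))⁻¹ ∈ R.comap g.hom := by
      rw [ValuationSubring.mem_comap, map_inv₀, inv_eq_of_mul_eq_one_right hvK]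
      exact v.2
    refine IsUnit.of_mul_eq_one ⟨_, hinv⟩ ?_
    apply Subtype.ext
    exact mul_inv_cancel₀ hne
  -- the generic part
  set β : Spec (Y.residueField y) ⟶ X := Y.fromSpecResidueField y ≫ f with hβ
  have hspec : β (IsLocalRing.closedPoint (Y.residueField y)) ⤳ x := by
    have h1 : β (IsLocalRing.closedPoint (Y.residueField y)) =
        (i ≫ f) (IsLocalRing.closedPoint (CommRingCat.of K)) := by
      rw [hβ, ← hg]
      have e1 : ∀ s, Y.fromSpecResidueField y s = y := Scheme.fromSpecResidueField_apply y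
      change f (Y.fromSpecResidueField y _) = f (Y.fromSpecResidueField y _)
      exact congrArg f ((e1 _).trans (e1 _).symm)
    rw [h1, ← w]
    change φ (Spec.map (CommRingCat.ofHom R.subtype) _) ⤳ φ _
    exact (IsLocalRing.specializes_closedPoint _).map φ.continuous
  obtain ⟨θ, hθ⟩ : ∃ θ : X.presheaf.stalk x ⟶ Y.residueField y,
      Spec.map θ ≫ X.fromSpecStalk x = β := by
    obtain ⟨θ0, hθ0⟩ := exists_stalk_factor (Y.residueField y) β _ rfl
    refine ⟨X.presheaf.stalkSpecializes hspec ≫ θ0, ?_⟩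
    rw [Spec.map_comp, Category.assoc, Scheme.SpecMap_stalkSpecializes_fromSpecStalk, hθ0]
  have hcomp : θ ≫ g = ψ ≫ CommRingCat.ofHom R.subtype := by
    apply stalk_factor_unique
    rw [Spec.map_comp, Spec.map_comp, Category.assoc, Category.assoc, hθ, hψ, w, ← hg, Category.assoc]
  have hmem : ∀ a : X.presheaf.stalk x, θ.hom a ∈ R.comap g.hom := by
    intro a
    rw [ValuationSubring.mem_comap]
    have h1 : g.hom (θ.hom a) = ((ψ.hom a : ↥R) : K) := congr($(hcomp).hom a)
    rw [h1]
    exact (ψ.hom a).2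
  let ψ'hom : X.presheaf.stalk x →+* ↥(R.comap g.hom) :=
    { toFun := fun a => ⟨θ.hom a, hmem a⟩
      map_one' := Subtype.ext (map_one _)
      map_mul' := fun a b => Subtype.ext (map_mul _ _ _)
      map_zero' := Subtype.ext (map_zero _)
      map_add' := fun a b => Subtype.ext (map_add _ _ _) }
  have hψ'ρ : CommRingCat.ofHom ψ'hom ≫ CommRingCat.ofHom ρ = ψ := by
    ext a
    have h1 : g.hom (θ.hom a) = ((ψ.hom a : ↥R) : K) := congr($(hcomp).hom a)
    rw [← h1]
    exact hρ (ψ'hom a)
  have hψ'sub : CommRingCat.ofHom ψ'hom ≫ CommRingCat.ofHom (R.comap g.hom).subtype = θ := by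
    ext a
    rfl
  refine ⟨Spec.map (CommRingCat.ofHom ψ'hom) ≫ X.fromSpecStalk x, ⟨?_, ?_⟩, ?_⟩
  · rw [← Category.assoc, ← Spec.map_comp, hψ'ρ, hψ]
  · rw [← Category.assoc, ← Spec.map_comp, hψ'sub, hθ]
  · rintro φ'' ⟨h1, -⟩
    have : IsLocalHom (CommRingCat.ofHom ρ).hom := hρloc
    have hpt : φ'' (IsLocalRing.closedPoint (CommRingCat.of ↥(R.comap g.hom))) = x := by
      rw [hx, ← h1]
      change φ'' _ = φ'' (Spec.map (CommRingCat.ofHom ρ) _)
      exact congrArg φ'' (Spec_closedPoint (f := CommRingCat.ofHom ρ)).symm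
    obtain ⟨ψ'', hψ''⟩ := exists_stalk_factor _ φ'' x hpt
    have h3 : ψ'' ≫ CommRingCat.ofHom ρ = ψ := by
      apply stalk_factor_unique
      rw [Spec.map_comp, Category.assoc, hψ'', h1, hψ]
    have h4 : ψ'' = CommRingCat.ofHom ψ'hom := by
      ext a
      refine congrArg Subtype.val (hρinj ?_)
      exact congr($(h3.trans hψ'ρ.symm).hom a)
    rw [← hψ'', h4]

end Groth.Agent.S17897
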