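import Groth.Statements.S17898
import Mathlib.AlgebraicGeometry.Stalk
import Mathlib.AlgebraicGeometry.ResidueField
import Mathlib.AlgebraicGeometry.Morphisms.Preimmersion
import Mathlib.RingTheory.LocalRing.RingHom.Basic
-- import your own Groth.Agent.* helpers here

set_option autoImplicit false
universe u
open CategoryTheory AlgebraicGeometry
open ValCrit

namespace Groth.Agent.S17898

lemma exists_stalk_factor {X : Scheme.{u}} (R : CommRingCat.{u}) [IsLocalRing R]
    (φ : Spec R ⟶ X) (x : X) (hx : φ (IsLocalRing.closedPoint R) = x) :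
    ∃ ψ : X.presheaf.stalk x ⟶ R, Spec.map ψ ≫ X.fromSpecStalk x = φ := by
  subst hx
  exact ⟨Scheme.stalkClosedPointTo φ, Scheme.Spec_stalkClosedPointTo_fromSpecStalk φ⟩

lemma stalk_factor_unique {X : Scheme.{u}} (R : CommRingCat.{u}) (x : X)
    (ψ₁ ψ₂ : X.presheaf.stalk x ⟶ R)
    (h : Spec.map ψ₁ ≫ X.fromSpecStalk x = Spec.map ψ₂ ≫ X.fromSpecStalk x) : ψ₁ = ψ₂ := by
  rw [cancel_mono] at h
  exact Spec.map_injective h

lemma hom_ext_of_restrictions {Z : Scheme.{u}} {A B C : Type u} [CommRing A] [CommRing B]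
    [CommRing C] [IsLocalRing A] [IsLocalRing C] (ι : A →+* B) (hι : Function.Injective ι)
    (σ : A →+* C) [IsLocalHom σ] (h₁ h₂ : Spec (CommRingCat.of A) ⟶ Z)
    (e₁ : Spec.map (CommRingCat.ofHom ι) ≫ h₁ = Spec.map (CommRingCat.ofHom ι) ≫ h₂)
    (e₂ : Spec.map (CommRingCat.ofHom σ) ≫ h₁ = Spec.map (CommRingCat.ofHom σ) ≫ h₂) :
    h₁ = h₂ := by
  have : IsLocalHom (CommRingCat.ofHom σ).hom := ‹IsLocalHom σ›
  have hpt : h₂ (IsLocalRing.closedPoint (CommRingCat.of A)) =
      h₁ (IsLocalRing.closedPoint (CommRingCat.of A)) := by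
    have hc : Spec.map (CommRingCat.ofHom σ) (IsLocalRing.closedPoint (CommRingCat.of C)) =
        IsLocalRing.closedPoint (CommRingCat.of A) := Spec_closedPoint (f := CommRingCat.ofHom σ)
    rw [← hc]
    change (Spec.map (CommRingCat.ofHom σ) ≫ h₂) _ = (Spec.map (CommRingCat.ofHom σ) ≫ h₁) _
    rw [e₂]
  obtain ⟨ψ₁, hψ₁⟩ := exists_stalk_factor (CommRingCat.of A) h₁ _ rfl
  obtain ⟨ψ₂, hψ₂⟩ := exists_stalk_factor (CommRingCat.of A) h₂ _ hpt
  have h3 : ψ₁ ≫ CommRingCat.ofHom ι = ψ₂ ≫ CommRingCat.ofHom ι := by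
    apply stalk_factor_unique
    rw [Spec.map_comp, Spec.map_comp, Category.assoc, Category.assoc, hψ₁, hψ₂, e₁]
  have h4 : ψ₁ = ψ₂ := by
    ext a
    apply hι
    exact congr($(h3).hom a)
  rw [← hψ₁, ← hψ₂, h4]


lemma coe_mem_of_residue_eq_zero {K : Type u} [Field K] (R R' : ValuationSubring K) (hRR' : R ≤ R')
    (b : ↥R') (hb : IsLocalRing.residue ↥R' b = 0) : (b : K) ∈ R := by
  rw [IsLocalRing.residue_eq_zero_iff, IsLocalRing.mem_maximalIdeal, mem_nonunits_iff] at hb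
  by_cases hb0 : (b : K) = 0
  · rw [hb0]; exact R.zero_mem
  rcases R.mem_or_inv_mem (b : K) with h | h
  · exact h
  · exfalso
    apply hb
    refine IsUnit.of_mul_eq_one ⟨(b : K)⁻¹, hRR' h⟩ ?_
    apply Subtype.ext
    exact mul_inv_cancel₀ hb0

/-- Let f : Y → X be a morphism of schemes (not assumed separated), K a field with valuation rings R ⊆
R' (inclusion ι), i : Spec K → Y and φ : Spec R → X a commutative square over f, and g : Spec R' → Y
a lift of Spec R' → Spec R → X restricting to i on Spec K. Let K̃ be the residue field of R', R̃ ⊆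
K̃ the image of R (a valuation ring of K̃) with the surjection σ : R → R̃. Then every h̃ : Spec R̃ →
Y whose restriction to Spec K̃ is Spec K̃ → Spec R' → Y (via g) and which lies over Spec R̃ → Spec R
→ X is induced by a unique h : Spec R → Y compatible with the whole diagram: h restricts to i on
Spec K, lies over φ, restricts to g along Spec R' → Spec R and to h̃ along Spec R̃ → Spec R. (ι, R̃,
σ are given as data pinned by their defining equations.) -/
theorem result {X Y : Scheme.{u}} (f : Y ⟶ X)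
    (K : Type u) [Field K] (R R' : ValuationSubring K) (hRR' : R ≤ R')
    (ι : ↥R →+* ↥R') (hι : ∀ x : ↥R, ((ι x : ↥R') : K) = (x : K))
    (i : Spec (CommRingCat.of K) ⟶ Y) (φ : Spec (CommRingCat.of ↥R) ⟶ X)
    (w : Spec.map (CommRingCat.ofHom R.subtype) ≫ φ = i ≫ f)
    (g : Spec (CommRingCat.of ↥R') ⟶ Y) (hg₁ : Spec.map (CommRingCat.ofHom R'.subtype) ≫ g = i)
    (hg₂ : g ≫ f = Spec.map (CommRingCat.ofHom ι) ≫ φ)
    (Rt : ValuationSubring (IsLocalRing.ResidueField ↥R')) (σ : ↥R →+* ↥Rt) (hσs : Function.Surjective σ)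
    (hσ : ∀ x : ↥R, ((σ x : ↥Rt) : IsLocalRing.ResidueField ↥R') = IsLocalRing.residue ↥R' (ι x))
    (ht : Spec (CommRingCat.of ↥Rt) ⟶ Y)
    (hht₁ : Spec.map (CommRingCat.ofHom Rt.subtype) ≫ ht =
      Spec.map (CommRingCat.ofHom (IsLocalRing.residue ↥R')) ≫ g)
    (hht₂ : ht ≫ f = Spec.map (CommRingCat.ofHom σ) ≫ φ) :
    ∃! h : Spec (CommRingCat.of ↥R) ⟶ Y, Spec.map (CommRingCat.ofHom R.subtype) ≫ h = i ∧ h ≫ f = φ ∧
      Spec.map (CommRingCat.ofHom ι) ≫ h = g ∧ Spec.map (CommRingCat.ofHom σ) ≫ h = ht := by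
  have hιinj : Function.Injective ι := by
    intro a b hab
    apply Subtype.ext
    rw [← hι a, ← hι b, hab]
  have hσloc : IsLocalHom σ := hσs.isLocalHom
  have hsub : CommRingCat.ofHom ι ≫ CommRingCat.ofHom R'.subtype = CommRingCat.ofHom R.subtype := by
    ext a
    exact hι a
  -- the point
  set z : Y := ht (IsLocalRing.closedPoint (CommRingCat.of ↥Rt)) with hz
  obtain ⟨ψt, hψt⟩ := exists_stalk_factor (CommRingCat.of ↥Rt) ht z rfl
  have hspec : g (IsLocalRing.closedPoint (CommRingCat.of ↥R')) ⤳ z := by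
    have : IsLocalHom (CommRingCat.ofHom (IsLocalRing.residue ↥R')).hom :=
      inferInstanceAs (IsLocalHom (IsLocalRing.residue ↥R'))
    have hc : Spec.map (CommRingCat.ofHom (IsLocalRing.residue ↥R'))
        (IsLocalRing.closedPoint (CommRingCat.of (IsLocalRing.ResidueField ↥R'))) =
        IsLocalRing.closedPoint (CommRingCat.of ↥R') :=
      Spec_closedPoint (f := CommRingCat.ofHom (IsLocalRing.residue ↥R'))
    rw [← hc]
    change (Spec.map (CommRingCat.ofHom (IsLocalRing.residue ↥R')) ≫ g) _ ⤳ z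
    rw [← hht₁]
    change ht (Spec.map (CommRingCat.ofHom Rt.subtype) _) ⤳ ht _
    exact (IsLocalRing.specializes_closedPoint _).map ht.continuous
  obtain ⟨θ', hθ'⟩ : ∃ θ' : Y.presheaf.stalk z ⟶ CommRingCat.of ↥R',
      Spec.map θ' ≫ Y.fromSpecStalk z = g := by
    obtain ⟨θ0, hθ0⟩ := exists_stalk_factor (CommRingCat.of ↥R') g _ rfl
    refine ⟨Y.presheaf.stalkSpecializes hspec ≫ θ0, ?_⟩
    rw [Spec.map_comp, Category.assoc, Scheme.SpecMap_stalkSpecializes_fromSpecStalk, hθ0]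
  have hcomp : θ' ≫ CommRingCat.ofHom (IsLocalRing.residue ↥R') =
      ψt ≫ CommRingCat.ofHom Rt.subtype := by
    apply stalk_factor_unique
    rw [Spec.map_comp, Spec.map_comp, Category.assoc, Category.assoc, hθ', hψt, hht₁]
  have hmem : ∀ a : Y.presheaf.stalk z, ((θ'.hom a : ↥R') : K) ∈ R := by
    intro a
    obtain ⟨r, hr⟩ := hσs (ψt.hom a)
    have h1 : IsLocalRing.residue ↥R' (θ'.hom a) = ((ψt.hom a : ↥Rt) : IsLocalRing.ResidueField ↥R') :=
      congr($(hcomp).hom a)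
    have h2 : IsLocalRing.residue ↥R' (θ'.hom a - ι r) = 0 := by
      rw [map_sub, h1, ← hσ r, hr, sub_self]
    have h3 := coe_mem_of_residue_eq_zero R R' hRR' _ h2
    have h4 : ((θ'.hom a : ↥R') : K) = ((θ'.hom a - ι r : ↥R') : K) + (r : K) := by
      rw [← hι r]
      push_cast
      ring
    rw [h4]
    exact R.add_mem _ _ h3 r.2
  let ψhom : Y.presheaf.stalk z →+* ↥R :=
    { toFun := fun a => ⟨((θ'.hom a : ↥R') : K), hmem a⟩
      map_one' := Subtype.ext (by simp)
      map_mul' := fun a b => Subtype.ext (by simp)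
      map_zero' := Subtype.ext (by simp)
      map_add' := fun a b => Subtype.ext (by simp) }
  have hψι : CommRingCat.ofHom ψhom ≫ CommRingCat.ofHom ι = θ' := by
    ext a
    exact hι (ψhom a)
  have hψσ : CommRingCat.ofHom ψhom ≫ CommRingCat.ofHom σ = ψt := by
    ext a
    have h1 : IsLocalRing.residue ↥R' (θ'.hom a) = ((ψt.hom a : ↥Rt) : IsLocalRing.ResidueField ↥R') :=
      congr($(hcomp).hom a)
    rw [← h1]
    have h2 : ι (ψhom a) = θ'.hom a := congr($(hψι).hom a)
    rw [← h2]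
    exact hσ (ψhom a)
  have e3 : Spec.map (CommRingCat.ofHom ι) ≫ Spec.map (CommRingCat.ofHom ψhom) ≫ Y.fromSpecStalk z = g := by
    rw [← Category.assoc, ← Spec.map_comp, hψι, hθ']
  have e4 : Spec.map (CommRingCat.ofHom σ) ≫ Spec.map (CommRingCat.ofHom ψhom) ≫ Y.fromSpecStalk z = ht := by
    rw [← Category.assoc, ← Spec.map_comp, hψσ, hψt]
  refine ⟨Spec.map (CommRingCat.ofHom ψhom) ≫ Y.fromSpecStalk z, ⟨?_, ?_, e3, e4⟩, ?_⟩
  · rw [← hsub, Spec.map_comp, Category.assoc, e3, hg₁]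
  · apply hom_ext_of_restrictions ι hιinj σ
    · rw [← Category.assoc, e3, hg₂]
    · rw [← Category.assoc, e4, hht₂]
  · rintro h' ⟨-, -, h3, h4⟩
    apply hom_ext_of_restrictions ι hιinj σ
    · rw [h3, e3]
    · rw [h4, e4]

end Groth.Agent.S17898
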