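import Groth.Statements.S17901
import Groth.Agent.Lib.Helper74.FibreSq

set_option autoImplicit false
universe u
open TensorProduct
open Pinch

namespace Groth.Agent.S17901

theorem map_eq_lTensor {R : Type u} [CommRing R] {R' C D : Type u} [CommRing R'] [Algebra R R']
    [CommRing C] [CommRing D] [Algebra R C] [Algebra R D] (φ : C →ₐ[R] D) (x : R' ⊗[R] C) :
    Algebra.TensorProduct.map (AlgHom.id R R') φ x = φ.toLinearMap.lTensor R' x := by
  induction x using TensorProduct.induction_on with
  | zero => simp
  | tmul a b => simp
  | add a b ha hb => rw [map_add, map_add, ha, hb]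

/-- Let R be a commutative ring and let B' → B → A, B' → A' → A be a fibre square of R-algebras (B' = B
×_A A') with A' → A surjective, where B, A' and A are flat over R. Then for every commutative
R-algebra R' the square obtained by applying R' ⊗_R − is again a fibre square: R' ⊗_R A' → R' ⊗_R A
is surjective and every pair of elements of R' ⊗_R B and R' ⊗_R A' with the same image in R' ⊗_R A
is the image of a unique element of R' ⊗_R B'. (The published lemma concludes that the base-changed
square of spectra is co-cartesian in ringed spaces; this row states the ring form, surjective edge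
and fibre product, which its proof establishes before translating it to ringed spaces.) -/
theorem result (R B' B A' A : Type u) [CommRing R] [CommRing B'] [CommRing B] [CommRing A'] [CommRing A]
    [Algebra B' B] [Algebra B' A'] [Algebra B A] [Algebra A' A] [Algebra B' A]
    [IsScalarTower B' B A] [IsScalarTower B' A' A]
    [Algebra R B'] [Algebra R B] [Algebra R A'] [Algebra R A]
    [IsScalarTower R B' B] [IsScalarTower R B' A'] [IsScalarTower R B' A] [IsScalarTower R B A] [IsScalarTower R A' A]
    (hsq : EtMil.IsFibreSquare B' B A' A)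
    [Module.Flat R B] [Module.Flat R A'] [Module.Flat R A]
    (R' : Type u) [CommRing R'] [Algebra R R'] :
    Function.Surjective (Algebra.TensorProduct.map (AlgHom.id R R') (IsScalarTower.toAlgHom R A' A)) ∧
    ∀ (x : R' ⊗[R] B) (y : R' ⊗[R] A'),
      Algebra.TensorProduct.map (AlgHom.id R R') (IsScalarTower.toAlgHom R B A) x =
        Algebra.TensorProduct.map (AlgHom.id R R') (IsScalarTower.toAlgHom R A' A) y →
      ∃! z : R' ⊗[R] B',
        Algebra.TensorProduct.map (AlgHom.id R R') (IsScalarTower.toAlgHom R B' B) z = x ∧
        Algebra.TensorProduct.map (AlgHom.id R R') (IsScalarTower.toAlgHom R B' A') z = y := by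
  obtain ⟨hsurj, hfib⟩ := hsq
  have hcomm : ∀ b' : B', (IsScalarTower.toAlgHom R B A).toLinearMap
      ((IsScalarTower.toAlgHom R B' B).toLinearMap b') =
      (IsScalarTower.toAlgHom R A' A).toLinearMap ((IsScalarTower.toAlgHom R B' A').toLinearMap b') := by
    intro b'
    change algebraMap B A (algebraMap B' B b') = algebraMap A' A (algebraMap B' A' b')
    rw [← IsScalarTower.algebraMap_apply, ← IsScalarTower.algebraMap_apply]
  refine ⟨?_, ?_⟩
  · intro a
    obtain ⟨a', ha'⟩ := LinearMap.lTensor_surjective R'
      (g := (IsScalarTower.toAlgHom R A' A).toLinearMap) hsurj a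
    exact ⟨a', by rw [map_eq_lTensor]; exact ha'⟩
  · intro x y hxy
    rw [map_eq_lTensor, map_eq_lTensor] at hxy
    obtain ⟨z, ⟨hz1, hz2⟩, hzu⟩ := Groth.Agent.Lib.Helper74.FibreSq.sq_baseChange
      (IsScalarTower.toAlgHom R B' B).toLinearMap (IsScalarTower.toAlgHom R B' A').toLinearMap
      (IsScalarTower.toAlgHom R B A).toLinearMap (IsScalarTower.toAlgHom R A' A).toLinearMap
      (fun b a' h => hfib b a' h) hcomm hsurj R' x y hxy
    refine ⟨z, ⟨?_, ?_⟩, ?_⟩
    · rw [map_eq_lTensor]; exact hz1
    · rw [map_eq_lTensor]; exact hz2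
    · rintro z' ⟨h1, h2⟩
      rw [map_eq_lTensor] at h1 h2
      exact hzu z' ⟨h1, h2⟩

end Groth.Agent.S17901
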