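import Groth.Statements.S17902
import Mathlib.RingTheory.Spectrum.Prime.FreeLocus
import Mathlib.RingTheory.LocalRing.Module
import Mathlib.RingTheory.Support
import Mathlib.RingTheory.Localization.Ideal
import Mathlib.LinearAlgebra.Dimension.OrzechProperty
import Mathlib.Algebra.Module.FinitePresentation
-- import your own Groth.Agent.* helpers here

set_option autoImplicit false
universe u
open CAlg

namespace Groth.Agent.S17902

open Module TensorProduct

section aux

variable {A : Type u} [CommRing A]

lemma exists_mem_under_le (P : Finset (PrimeSpectrum A)) (S : Submonoid A)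
    (hS : ∀ x, x ∈ S ↔ ∀ p ∈ P, x ∉ p.asIdeal)
    (m : Ideal (Localization S)) [hm : m.IsPrime] :
    ∃ p ∈ P, m.under A ≤ p.asIdeal := by
  have h1 := (IsLocalization.isPrime_iff_isPrime_disjoint S _ m).mp hm
  obtain ⟨hpr, hdisj⟩ := h1
  have hsub : ((m.under A : Ideal A) : Set A) ⊆ ⋃ p ∈ (↑P : Set (PrimeSpectrum A)), p.asIdeal := by
    intro x hx
    by_contra hcon
    refine (Set.disjoint_left.mp hdisj : ∀ ⦃a⦄, a ∈ (S : Set A) → a ∉ _) (a := x) ?_ hx
    simp only [Set.mem_iUnion, not_exists] at hcon
    rw [SetLike.mem_coe, hS]
    intro p hp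
    exact fun h => hcon p (by simpa using hp) h
  exact (Ideal.subset_union_prime (⟨m.under A, hpr⟩ : PrimeSpectrum A) ⟨m.under A, hpr⟩
    (fun p _ _ _ => p.isPrime)).mp hsub

lemma finite_maximalSpectrum_localization (P : Finset (PrimeSpectrum A)) (S : Submonoid A)
    (hS : ∀ x, x ∈ S ↔ ∀ p ∈ P, x ∉ p.asIdeal) :
    Finite (MaximalSpectrum (Localization S)) := by
  have key : ∀ m : MaximalSpectrum (Localization S), ∃ p : {p // p ∈ P},
      m.asIdeal = Ideal.map (algebraMap A (Localization S)) p.1.asIdeal := by
    intro m
    have := m.isMaximal.isPrime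
    obtain ⟨p, hp, hle⟩ := exists_mem_under_le P S hS m.asIdeal
    refine ⟨⟨p, hp⟩, ?_⟩
    have hdisj : Disjoint (S : Set A) p.asIdeal := by
      rw [Set.disjoint_left]
      intro x hxS hxp
      rw [SetLike.mem_coe, hS] at hxS
      exact hxS p hp hxp
    have hprime := IsLocalization.isPrime_of_isPrime_disjoint S (Localization S) p.asIdeal p.isPrime hdisj
    have hle' : m.asIdeal ≤ Ideal.map (algebraMap A (Localization S)) p.asIdeal := by
      rw [← IsLocalization.map_under S (Localization S) m.asIdeal]
      exact Ideal.map_mono hle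
    exact m.isMaximal.eq_of_le hprime.ne_top hle'
  choose φ hφ using key
  apply Finite.of_injective φ
  intro m m' h
  ext1
  rw [hφ m, hφ m', h]

variable {M : Type u} [AddCommGroup M] [Module A M]
    [Module.Finite A M] [Module.Projective A M]

lemma rank_eq_of_basis_away (n : ℕ) (p : PrimeSpectrum A) (g : A) (hg : g ∉ p.asIdeal)
    (b : Module.Basis (Fin n) (Localization.Away g) (LocalizedModule (Submonoid.powers g) M)) :
    rankAtStalk M p = n := by
  obtain ⟨p', hp'⟩ : p ∈ Set.range (PrimeSpectrum.comap (algebraMap A (Localization.Away g))) := by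
    rw [PrimeSpectrum.localization_away_comap_range (Localization.Away g) g]
    exact hg
  have hnt : Nontrivial (Localization.Away g) :=
    ⟨⟨0, 1, fun h => p'.isPrime.ne_top ((Ideal.eq_top_iff_one _).mpr (h ▸ p'.asIdeal.zero_mem))⟩⟩
  have h1 := rankAtStalk_isBaseChange (LocalizedModule.isBaseChange (Submonoid.powers g) M) p'
  have : Module.Free (Localization.Away g) (LocalizedModule (Submonoid.powers g) M) :=
    Module.Free.of_basis b
  rw [rankAtStalk_eq_finrank_of_free] at h1
  rw [← hp', ← h1]
  simp [Module.finrank_eq_card_basis b]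

lemma finrank_quotient_tensor_eq_rankAtStalk {R : Type u} [CommRing R] {N : Type u} [AddCommGroup N]
    [Module R N] [Module.Finite R N] [Module.Flat R N] (m : Ideal R) [hm : m.IsMaximal] :
    finrank (R ⧸ m) ((R ⧸ m) ⊗[R] N) = rankAtStalk N ⟨m, hm.isPrime⟩ := by
  let _ := Ideal.Quotient.field m
  rw [rankAtStalk_eq]
  let e := AlgebraTensorModule.cancelBaseChange R (R ⧸ m) m.ResidueField m.ResidueField N
  have h2 := e.finrank_eq
  have h3 := Module.finrank_baseChange (R := m.ResidueField) (S := R ⧸ m) (M' := (R ⧸ m) ⊗[R] N)
  rw [← h3, h2]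

end aux

/-- Let A be a commutative ring, M a finitely generated projective A-module, n a natural number and P a
finite set of prime ideals of A such that for every p in P there is g outside p with M_g free of
rank n over A_g. Then there exist n elements of M and an open subset U of Spec A containing P such
that for every prime q in U the images of these elements in M_q form a basis of M_q over A_q. (The
published conclusion is that the associated sheaf is free of rank n on some open neighbourhood of P;
the form given here, with n global elements of M, is what its proof produces.) -/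
theorem result (A : Type u) [CommRing A] (M : Type u) [AddCommGroup M] [Module A M]
    [Module.Finite A M] [Module.Projective A M] (n : ℕ) (P : Finset (PrimeSpectrum A))
    (hP : ∀ p ∈ P, ∃ g : A, g ∉ p.asIdeal ∧
      Nonempty (Module.Basis (Fin n) (Localization.Away g) (LocalizedModule (Submonoid.powers g) M))) :
    ∃ (s : Fin n → M) (U : Set (PrimeSpectrum A)), IsOpen U ∧ (∀ p ∈ P, p ∈ U) ∧
      ∀ q ∈ U,
        LinearIndependent (Localization.AtPrime q.asIdeal)
            (fun j => LocalizedModule.mkLinearMap q.asIdeal.primeCompl M (s j)) ∧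
          Submodule.span (Localization.AtPrime q.asIdeal)
            (Set.range fun j => LocalizedModule.mkLinearMap q.asIdeal.primeCompl M (s j)) = ⊤ := by
  classical
  set S : Submonoid A := ⨅ p ∈ P, p.asIdeal.primeCompl with hSdef
  have hS : ∀ x, x ∈ S ↔ ∀ p ∈ P, x ∉ p.asIdeal := by
    intro x
    simp only [hSdef, Submonoid.mem_iInf, Ideal.mem_primeCompl_iff]
  have hrankP : ∀ p ∈ P, rankAtStalk M p = n := by
    intro p hp
    obtain ⟨g, hg, ⟨b⟩⟩ := hP p hp
    exact rank_eq_of_basis_away n p g hg b
  haveI : Finite (MaximalSpectrum (Localization S)) := finite_maximalSpectrum_localization P S hS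
  have hrk : ∀ m : MaximalSpectrum (Localization S),
      finrank (Localization S ⧸ m.1) ((Localization S ⧸ m.1) ⊗[Localization S] LocalizedModule S M) = n := by
    intro m
    haveI := m.isMaximal
    rw [finrank_quotient_tensor_eq_rankAtStalk]
    have hpr := m.isMaximal.isPrime
    rw [rankAtStalk_isBaseChange (LocalizedModule.isBaseChange S M)]
    obtain ⟨p, hp, hle⟩ := exists_mem_under_le P S hS m.asIdeal
    rw [← hrankP p hp]
    exact rankAtStalk_eq_of_le_of_finite_of_flat M hle
  obtain ⟨b⟩ := Module.nonempty_basis_of_flat_of_finrank_eq (Localization S) (LocalizedModule S M) n hrk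
  choose x hx using fun j => IsLocalizedModule.surj S (LocalizedModule.mkLinearMap S M) (b j)
  let s : Fin n → M := fun j => (x j).1
  set N : Submodule A M := Submodule.span A (Set.range s) with hN
  have hspanS : Submodule.span (Localization S)
      (Set.range fun j => LocalizedModule.mkLinearMap S M (s j)) = ⊤ := by
    rw [eq_top_iff, ← b.span_eq, Submodule.span_le]
    rintro _ ⟨j, rfl⟩
    have h1 : b j = (IsLocalization.mk' (Localization S) (1 : A) (x j).2) •
        LocalizedModule.mkLinearMap S M (s j) := by
      rw [← hx j, Submonoid.smul_def, ← algebraMap_smul (Localization S) ((x j).2 : A) (b j),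
        ← mul_smul, IsLocalization.mk'_spec, map_one, one_smul]
    rw [h1]
    exact Submodule.smul_mem _ _ (Submodule.subset_span ⟨j, rfl⟩)
  have hPsupp : ∀ p ∈ P, p ∉ Module.support A (M ⧸ N) := by
    intro p hp
    rw [Module.notMem_support_iff']
    intro mbar
    obtain ⟨m, rfl⟩ := Submodule.Quotient.mk_surjective _ mbar
    have hm : LocalizedModule.mkLinearMap S M m ∈
        N.localized' (Localization S) S (LocalizedModule.mkLinearMap S M) := by
      rw [hN, Submodule.localized'_span, ← Set.range_comp]
      have : ((LocalizedModule.mkLinearMap S M) ∘ s) = fun j => LocalizedModule.mkLinearMap S M (s j) := rfl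
      rw [this, hspanS]
      trivial
    obtain ⟨n', hn', u, hu⟩ := hm
    rw [IsLocalizedModule.mk'_eq_iff, Submonoid.smul_def, ← map_smul] at hu
    obtain ⟨c, hc⟩ := (IsLocalizedModule.eq_iff_exists S (LocalizedModule.mkLinearMap S M)).mp hu
    refine ⟨(c : A) * (u : A), ?_, ?_⟩
    · have hcS := (hS _).mp c.2 p hp
      have huS := (hS _).mp u.2 p hp
      intro hmem
      rcases p.isPrime.mem_or_mem hmem with h | h
      · exact hcS h
      · exact huS h
    · rw [← Submodule.Quotient.mk_smul, Submodule.Quotient.mk_eq_zero, mul_smul]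
      have : (c : A) • (u : A) • m = c • n' := by
        rw [Submonoid.smul_def, Submonoid.smul_def] at hc
        exact hc.symm
      rw [this]
      exact Submodule.smul_mem _ _ hn'
  refine ⟨s, {q | rankAtStalk M q = n} ∩ (Module.support A (M ⧸ N))ᶜ, ?_, ?_, ?_⟩
  · have hfp : Module.FinitePresentation A M := Module.finitePresentation_of_projective A M
    refine (isLocallyConstant_rankAtStalk.isOpen_fiber n).inter ?_
    rw [Module.support_eq_zeroLocus]
    exact (PrimeSpectrum.isClosed_zeroLocus _).isOpen_compl
  · intro p hp
    exact ⟨hrankP p hp, hPsupp p hp⟩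
  · rintro q ⟨hq1, hq2⟩
    have hspan : Submodule.span (Localization.AtPrime q.asIdeal)
        (Set.range fun j => LocalizedModule.mkLinearMap q.asIdeal.primeCompl M (s j)) = ⊤ := by
      rw [eq_top_iff]
      intro y _
      have hle : N.map (LocalizedModule.mkLinearMap q.asIdeal.primeCompl M) ≤
          (Submodule.span (Localization.AtPrime q.asIdeal)
            (Set.range fun j => LocalizedModule.mkLinearMap q.asIdeal.primeCompl M (s j))).restrictScalars A := by
        rw [hN, Submodule.map_span, Submodule.span_le]
        rintro _ ⟨_, ⟨j, rfl⟩, rfl⟩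
        exact Submodule.subset_span ⟨j, rfl⟩
      induction y using LocalizedModule.induction_on with
      | h m u =>
        obtain ⟨r, hr, hrm⟩ := (Module.notMem_support_iff'.mp hq2) (Submodule.Quotient.mk m)
        have hrm' : r • m ∈ N := by
          rwa [← Submodule.Quotient.mk_smul, Submodule.Quotient.mk_eq_zero] at hrm
        have hmk : LocalizedModule.mk m u =
            (Localization.mk (1 : A) ((⟨r, hr⟩ : q.asIdeal.primeCompl) * u)) •
              LocalizedModule.mkLinearMap q.asIdeal.primeCompl M (r • m) := by
          rw [LocalizedModule.mkLinearMap_apply, LocalizedModule.mk_smul_mk, LocalizedModule.mk_eq]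
          refine ⟨1, ?_⟩
          simp only [one_smul, mul_one, Submonoid.smul_def, mul_smul]
          rw [smul_comm]
        rw [hmk]
        exact Submodule.smul_mem _ _ (hle (Submodule.mem_map_of_mem hrm'))
    refine ⟨?_, hspan⟩
    apply linearIndependent_of_top_le_span_of_card_eq_finrank hspan.ge
    rw [Fintype.card_fin]
    exact hq1.symm

end Groth.Agent.S17902
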