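import Groth.Statements.S17903
import Groth.Agent.Lib.Helper6.RSPush
import Groth.Agent.Lib.Helper6.FibSq

set_option autoImplicit false
universe u
open CategoryTheory AlgebraicGeometry
open Pinch

namespace Groth.Agent.S17903

/-- Let S be a scheme and Z → X, Z → Z', X → X', Z' → X' a commutative square of S-schemes in which Z →
X and Z' → X' are closed immersions and Z → Z' and X → X' are affine, and which is a pushout square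
in the category of ringed spaces. If X, Z and Z' are flat over S then X' is flat over S. -/
theorem result {S X Z Z' X' : Scheme.{u}}
    (fX : X ⟶ S) (fZ' : Z' ⟶ S) (fX' : X' ⟶ S) (ι : Z ⟶ X) (q : Z ⟶ Z') (π : X ⟶ X') (ι' : Z' ⟶ X')
    [IsClosedImmersion ι] [IsClosedImmersion ι'] [IsAffineHom q] [IsAffineHom π]
    (hq : q ≫ fZ' = ι ≫ fX) (hπ : π ≫ fX' = fX) (hι' : ι' ≫ fX' = fZ')
    (hpo : IsPushout ((Scheme.forgetToLocallyRingedSpace ⋙ LocallyRingedSpace.forgetToSheafedSpace).map ι) ((Scheme.forgetToLocallyRingedSpace ⋙ LocallyRingedSpace.forgetToSheafedSpace).map q)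
      ((Scheme.forgetToLocallyRingedSpace ⋙ LocallyRingedSpace.forgetToSheafedSpace).map π) ((Scheme.forgetToLocallyRingedSpace ⋙ LocallyRingedSpace.forgetToSheafedSpace).map ι'))
    [Flat fX] [Flat (ι ≫ fX)] [Flat fZ'] :
    Flat fX' := by
  have hw : ι ≫ π = q ≫ ι' := Groth.Agent.Lib.Helper6.RSPush.w_of_isPushout hpo
  rw [HasRingHomProperty.iff_appLE (P := @Flat)]
  intro V U' e
  have hUX : IsAffineOpen (π ⁻¹ᵁ U'.1) := U'.2.preimage π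
  have hUZ' : IsAffineOpen (ι' ⁻¹ᵁ U'.1) := U'.2.preimage ι'
  have hUZ : IsAffineOpen (ι ⁻¹ᵁ π ⁻¹ᵁ U'.1) := hUX.preimage ι
  have hUZ2 : IsAffineOpen (q ⁻¹ᵁ ι' ⁻¹ᵁ U'.1) := hUZ'.preimage q
  have hle := Groth.Agent.Lib.Helper6.RSPush.preimage_le hw U'.1
  have eX : π ⁻¹ᵁ U'.1 ≤ fX ⁻¹ᵁ V.1 := by
    rw [← hπ, Scheme.Hom.comp_preimage]
    exact fun x hx => e hx
  have eZ' : ι' ⁻¹ᵁ U'.1 ≤ fZ' ⁻¹ᵁ V.1 := by
    rw [← hι', Scheme.Hom.comp_preimage]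
    exact fun x hx => e hx
  have eZ : q ⁻¹ᵁ ι' ⁻¹ᵁ U'.1 ≤ (ι ≫ fX) ⁻¹ᵁ V.1 := by
    rw [← hq, Scheme.Hom.comp_preimage]
    exact fun x hx => eZ' hx
  have h1 : (fX.appLE V.1 (π ⁻¹ᵁ U'.1) eX).hom.Flat :=
    HasRingHomProperty.appLE (P := @Flat) fX inferInstance V ⟨_, hUX⟩ eX
  have h2 : (fZ'.appLE V.1 (ι' ⁻¹ᵁ U'.1) eZ').hom.Flat :=
    HasRingHomProperty.appLE (P := @Flat) fZ' inferInstance V ⟨_, hUZ'⟩ eZ'
  have h3 : ((ι ≫ fX).appLE V.1 (q ⁻¹ᵁ ι' ⁻¹ᵁ U'.1) eZ).hom.Flat :=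
    HasRingHomProperty.appLE (P := @Flat) (ι ≫ fX) inferInstance V ⟨_, hUZ2⟩ eZ
  -- the four ring maps of the square
  let p := (π.app U'.1).hom
  let a := (ι'.app U'.1).hom
  let s := (ι.appLE (π ⁻¹ᵁ U'.1) (q ⁻¹ᵁ ι' ⁻¹ᵁ U'.1) hle).hom
  let t := (q.app (ι' ⁻¹ᵁ U'.1)).hom
  have hcomm : ∀ b', s (p b') = t (a b') := by
    intro b'
    have h : π.app U'.1 ≫ ι.appLE (π ⁻¹ᵁ U'.1) (q ⁻¹ᵁ ι' ⁻¹ᵁ U'.1) hle =
        ι'.app U'.1 ≫ q.app (ι' ⁻¹ᵁ U'.1) := by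
      rw [← Scheme.Hom.appLE_eq_app (f := π), Scheme.Hom.appLE_comp_appLE,
        ← Scheme.Hom.comp_app]
      rw [← Scheme.Hom.appLE_eq_app]
      exact Groth.Agent.Lib.Helper6.RSPush.appLE_congr' hw _ _ _ _
    exact congr($h b')
  have hfib : ∀ (b : Γ(X, π ⁻¹ᵁ U'.1)) (a' : Γ(Z', ι' ⁻¹ᵁ U'.1)), s b = t a' →
      ∃! b' : Γ(X', U'.1), p b' = b ∧ a b' = a' := fun b a' h =>
    Groth.Agent.Lib.Helper6.RSPush.existsUnique_section hpo U'.1 b a' h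
  have hs : Function.Surjective s := by
    have heq : q ⁻¹ᵁ ι' ⁻¹ᵁ U'.1 = ι ⁻¹ᵁ π ⁻¹ᵁ U'.1 := by
      rw [← Scheme.Hom.comp_preimage, ← Scheme.Hom.comp_preimage, hw]
    have key : ∀ (W' : Z.Opens) (h : W' = ι ⁻¹ᵁ π ⁻¹ᵁ U'.1) (hle' : W' ≤ ι ⁻¹ᵁ π ⁻¹ᵁ U'.1),
        Function.Surjective (ι.appLE (π ⁻¹ᵁ U'.1) W' hle').hom := by
      intro W' h hle'
      subst h
      rw [Scheme.Hom.appLE_eq_app]
      exact ι.app_surjective _ hUX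
    exact key _ heq hle
  have e1 : p.comp (fX'.appLE V.1 U'.1 e).hom = (fX.appLE V.1 (π ⁻¹ᵁ U'.1) eX).hom := by
    have h : fX'.appLE V.1 U'.1 e ≫ π.app U'.1 = fX.appLE V.1 (π ⁻¹ᵁ U'.1) eX := by
      rw [← Scheme.Hom.appLE_eq_app (f := π), Scheme.Hom.appLE_comp_appLE]
      exact Groth.Agent.Lib.Helper6.RSPush.appLE_congr' hπ _ _ _ _
    rw [← h]; rfl
  have e2 : a.comp (fX'.appLE V.1 U'.1 e).hom = (fZ'.appLE V.1 (ι' ⁻¹ᵁ U'.1) eZ').hom := by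
    have h : fX'.appLE V.1 U'.1 e ≫ ι'.app U'.1 = fZ'.appLE V.1 (ι' ⁻¹ᵁ U'.1) eZ' := by
      rw [← Scheme.Hom.appLE_eq_app (f := ι'), Scheme.Hom.appLE_comp_appLE]
      exact Groth.Agent.Lib.Helper6.RSPush.appLE_congr' hι' _ _ _ _
    rw [← h]; rfl
  have e3 : s.comp (p.comp (fX'.appLE V.1 U'.1 e).hom) =
      ((ι ≫ fX).appLE V.1 (q ⁻¹ᵁ ι' ⁻¹ᵁ U'.1) eZ).hom := by
    rw [e1]
    have h : fX.appLE V.1 (π ⁻¹ᵁ U'.1) eX ≫ ι.appLE (π ⁻¹ᵁ U'.1) (q ⁻¹ᵁ ι' ⁻¹ᵁ U'.1) hle =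
        (ι ≫ fX).appLE V.1 (q ⁻¹ᵁ ι' ⁻¹ᵁ U'.1) eZ := by
      rw [Scheme.Hom.appLE_comp_appLE]
    rw [← h]; rfl
  exact Groth.Agent.Lib.Helper6.FibSq.flat_of_fibre_ringHom (fX'.appLE V.1 U'.1 e).hom p a s t
    hcomm hfib hs (e1 ▸ h1) (e2 ▸ h2) (e3 ▸ h3)

end Groth.Agent.S17903
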