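import Groth.Statements.S17906
import Mathlib
import Groth.Agent.Lib.Helper35.PbAmple

set_option autoImplicit false
universe u
open CategoryTheory CategoryTheory.Limits AlgebraicGeometry
open PicRel

set_option linter.unusedSectionVars false

namespace Groth.Agent.S17906Aux

open PicF

theorem pullCl_comp {Y Y' Y'' : Scheme.{u}} (a : Y'' ⟶ Y') (b : Y' ⟶ Y) (c : Cl Y) :
    pullCl (a ≫ b) c = pullCl a (pullCl b c) := by
  refine Quot.inductionOn c (fun L => ?_)
  exact Quot.sound ⟨((Scheme.Modules.pullbackComp a b).app L).symm⟩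

theorem pullCl_id {Y : Scheme.{u}} (c : Cl Y) : pullCl (𝟙 Y) c = c := by
  refine Quot.inductionOn c (fun L => ?_)
  exact Quot.sound ⟨(Scheme.Modules.pullbackId Y).app L⟩

theorem pullCl_congr {Y Y' : Scheme.{u}} {a b : Y' ⟶ Y} (h : a = b) (c : Cl Y) :
    pullCl a c = pullCl b c := by
  subst h; rfl

theorem isInvertibleCl_pullCl {Y Y' : Scheme.{u}} (a : Y' ⟶ Y) {c : Cl Y}
    (hc : IsInvertibleCl c) : IsInvertibleCl (pullCl a c) := by
  obtain ⟨L, rfl, hL⟩ := hc
  exact ⟨_, rfl, Groth.Agent.Lib.Helper35.PbInv.isInvertible_pullback a hL⟩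

theorem pullCl_hom_inv {Y Y' : Scheme.{u}} (e : Y' ≅ Y) (c : Cl Y') :
    pullCl e.hom (pullCl e.inv c) = c := by
  rw [← pullCl_comp, e.hom_inv_id, pullCl_id]

theorem pullCl_inv_hom {Y Y' : Scheme.{u}} (e : Y' ≅ Y) (c : Cl Y) :
    pullCl e.inv (pullCl e.hom c) = c := by
  rw [← pullCl_comp, e.inv_hom_id, pullCl_id]

section

variable {X S : Scheme.{u}} (f : X ⟶ S)

@[reassoc]
theorem XTmap_fst {T T' : Over S} (h : T' ⟶ T) :
    XTmap f h ≫ pullback.fst f T.hom = pullback.fst f T'.hom := by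
  unfold XTmap pullback.map
  rw [pullback.lift_fst, Category.comp_id]

@[reassoc]
theorem XTmap_snd {T T' : Over S} (h : T' ⟶ T) :
    XTmap f h ≫ pullback.snd f T.hom = pullback.snd f T'.hom ≫ h.left := by
  unfold XTmap pullback.map
  rw [pullback.lift_snd]

theorem XTmap_comp {T T' T'' : Over S} (h : T'' ⟶ T') (k : T' ⟶ T) :
    XTmap f (h ≫ k) = XTmap f h ≫ XTmap f k := by
  apply pullback.hom_ext
  · rw [Category.assoc, XTmap_fst, XTmap_fst, XTmap_fst]
  · rw [Category.assoc, XTmap_snd, XTmap_snd, XTmap_snd_assoc]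
    simp

end


section Main

variable {X S S' : Scheme.{u}} (f : X ⟶ S) (g : S' ⟶ S)

/-- an `S'`-scheme regarded as an `S`-scheme -/
noncomputable abbrev D (T : Over S') : Over S := Over.mk (T.hom ≫ g)

/-- functoriality of `D` -/
noncomputable abbrev Dmap {T T' : Over S'} (h : T' ⟶ T) : D g T' ⟶ D g T :=
  Over.homMk h.left (by simp only [Over.mk_hom]; rw [← Category.assoc, Over.w h])

/-- `(X ×_S S') ×_{S'} T ≅ X ×_S T` -/
noncomputable abbrev ιT (T : Over S') : XT (pullback.snd f g) T ≅ XT f (D g T) :=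
  pullbackLeftPullbackSndIso f g T.hom

theorem XTmap_ι {T T' : Over S'} (h : T' ⟶ T) :
    XTmap (pullback.snd f g) h ≫ (ιT f g T).hom = (ιT f g T').hom ≫ XTmap f (Dmap g h) := by
  apply pullback.hom_ext
  · rw [Category.assoc, Category.assoc, XTmap_fst]
    erw [pullbackLeftPullbackSndIso_hom_fst, pullbackLeftPullbackSndIso_hom_fst]
    rw [XTmap_fst_assoc]
  · rw [Category.assoc, Category.assoc, XTmap_snd]
    erw [pullbackLeftPullbackSndIso_hom_snd, pullbackLeftPullbackSndIso_hom_snd_assoc]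
    rw [XTmap_snd]
    rfl

theorem ι_inv_XTmap {T T' : Over S'} (h : T' ⟶ T) :
    (ιT f g T').inv ≫ XTmap (pullback.snd f g) h = XTmap f (Dmap g h) ≫ (ιT f g T).inv := by
  rw [Iso.inv_comp_eq, ← Category.assoc, Iso.eq_comp_inv, XTmap_ι]

end Main


section Thm

variable {X S S' : Scheme.{u}} (f : X ⟶ S) (g : S' ⟶ S)

/-- the family of maps of the statement -/
noncomputable abbrev φ' (P : Over S) (φ : ∀ T : Over S, PicF.Cl (PicF.XT f T) → (T ⟶ P))
    (T : Over S') (c : PicF.Cl (PicF.XT (pullback.snd f g) T)) :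
    T ⟶ Over.mk (pullback.snd P.hom g) :=
  Over.homMk
    (pullback.lift (φ (Over.mk (T.hom ≫ g)) (PicF.pullCl (pullbackLeftPullbackSndIso f g T.hom).inv c)).left T.hom
      (Over.w (φ (Over.mk (T.hom ≫ g)) (PicF.pullCl (pullbackLeftPullbackSndIso f g T.hom).inv c))))
    (pullback.lift_snd _ _ _)

theorem φ'_left_fst (P : Over S) (φ : ∀ T : Over S, PicF.Cl (PicF.XT f T) → (T ⟶ P))
    (T : Over S') (c : PicF.Cl (PicF.XT (pullback.snd f g) T)) :
    (φ' f g P φ T c).left ≫ pullback.fst P.hom g = (φ (D g T) (pullCl (ιT f g T).inv c)).left := by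
  simp only [φ', Over.homMk_left]
  exact pullback.lift_fst _ _ _

theorem φ'_left_snd (P : Over S) (φ : ∀ T : Over S, PicF.Cl (PicF.XT f T) → (T ⟶ P))
    (T : Over S') (c : PicF.Cl (PicF.XT (pullback.snd f g) T)) :
    (φ' f g P φ T c).left ≫ pullback.snd P.hom g = T.hom := by
  simp only [φ', Over.homMk_left]
  exact pullback.lift_snd _ _ _

theorem natural' (P : Over S) (φ : ∀ T : Over S, PicF.Cl (PicF.XT f T) → (T ⟶ P))
    (hP : PicRel.IsRelPic f P φ) (T T' : Over S') (h : T' ⟶ T)
    (c : PicF.Cl (PicF.XT (pullback.snd f g) T)) (hc : PicF.IsInvertibleCl c) :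
    φ' f g P φ T' (PicF.pullCl (PicF.XTmap (pullback.snd f g) h) c) = h ≫ φ' f g P φ T c := by
  have h1 : pullCl (ιT f g T').inv (pullCl (XTmap (pullback.snd f g) h) c) =
      pullCl (XTmap f (Dmap g h)) (pullCl (ιT f g T).inv c) := by
    rw [← pullCl_comp, ← pullCl_comp, ι_inv_XTmap]
  have h2 := hP.natural (D g T) (D g T') (Dmap g h) (pullCl (ιT f g T).inv c)
    (isInvertibleCl_pullCl _ hc)
  apply Over.OverMorphism.ext
  apply pullback.hom_ext
  · rw [φ'_left_fst, Over.comp_left, Category.assoc, φ'_left_fst, h1, h2]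
    rfl
  · rw [φ'_left_snd, Over.comp_left, Category.assoc, φ'_left_snd]
    exact (Over.w h).symm

/-- the comparison iso between the two ways of regarding an étale `T`-scheme as an `S`-scheme -/
noncomputable abbrev ε (T : Over S') (U : T.left.Etale) : D g (ovr T U) ≅ ovr (D g T) U :=
  Over.isoMk (Iso.refl _) (by simp)

theorem Dmap_ovrHom (T : Over S') (U : T.left.Etale) :
    Dmap g (ovrHom T U) = (ε g T U).hom ≫ ovrHom (D g T) U := by
  apply Over.OverMorphism.ext
  simp

theorem locSurj' (P : Over S) (φ : ∀ T : Over S, PicF.Cl (PicF.XT f T) → (T ⟶ P))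
    (hP : PicRel.IsRelPic f P φ) (T : Over S') (γ : T ⟶ Over.mk (pullback.snd P.hom g)) :
    ∃ (ι : Type u) (U : ι → T.left.Etale), EtCoh.Covers U ∧
      ∀ i, ∃ c : PicF.Cl (PicF.XT (pullback.snd f g) (ovr T (U i))), PicF.IsInvertibleCl c ∧
        φ' f g P φ (ovr T (U i)) c = ovrHom T (U i) ≫ γ := by
  have hγ : γ.left ≫ pullback.snd P.hom g = T.hom := Over.w γ
  let γ₀ : D g T ⟶ P := Over.homMk (γ.left ≫ pullback.fst P.hom g) (by
    simp only [Over.mk_hom]
    rw [Category.assoc, pullback.condition, ← Category.assoc, hγ])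
  obtain ⟨ι, U, hU, hc⟩ := hP.locallySurjective (D g T) γ₀
  refine ⟨ι, U, hU, fun i => ?_⟩
  obtain ⟨c, hci, hcφ⟩ := hc i
  refine ⟨pullCl (ιT f g (ovr T (U i))).hom (pullCl (XTmap f (ε g T (U i)).hom) c),
    isInvertibleCl_pullCl _ (isInvertibleCl_pullCl _ hci), ?_⟩
  apply Over.OverMorphism.ext
  apply pullback.hom_ext
  · rw [φ'_left_fst, pullCl_inv_hom, hP.natural _ _ (ε g T (U i)).hom c hci, hcφ]
    simp [γ₀]
  · rw [φ'_left_snd, Over.comp_left, Category.assoc, hγ]
    rfl

theorem locInj' (P : Over S) (φ : ∀ T : Over S, PicF.Cl (PicF.XT f T) → (T ⟶ P))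
    (hP : PicRel.IsRelPic f P φ) (T : Over S')
    (c c' : PicF.Cl (PicF.XT (pullback.snd f g) T)) (hc : PicF.IsInvertibleCl c)
    (hc' : PicF.IsInvertibleCl c') (heq : φ' f g P φ T c = φ' f g P φ T c') :
    ∃ (ι : Type u) (U : ι → T.left.Etale), EtCoh.Covers U ∧
      ∀ i, PicF.pullCl (PicF.XTmap (pullback.snd f g) (ovrHom T (U i))) c =
        PicF.pullCl (PicF.XTmap (pullback.snd f g) (ovrHom T (U i))) c' := by
  have h0 : φ (D g T) (pullCl (ιT f g T).inv c) = φ (D g T) (pullCl (ιT f g T).inv c') := by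
    apply Over.OverMorphism.ext
    rw [← φ'_left_fst, ← φ'_left_fst, heq]
  obtain ⟨ι, U, hU, hcc⟩ := hP.locallyInjective (D g T) _ _ (isInvertibleCl_pullCl _ hc)
    (isInvertibleCl_pullCl _ hc') h0
  refine ⟨ι, U, hU, fun i => ?_⟩
  have key : ∀ c : PicF.Cl (PicF.XT (pullback.snd f g) T),
      pullCl (XTmap (pullback.snd f g) (ovrHom T (U i))) c =
        pullCl (ιT f g (ovr T (U i))).hom (pullCl (XTmap f (ε g T (U i)).hom)
          (pullCl (XTmap f (ovrHom (D g T) (U i))) (pullCl (ιT f g T).inv c))) := by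
    intro c
    have e1 : pullCl (XTmap f (ε g T (U i)).hom)
        (pullCl (XTmap f (ovrHom (D g T) (U i))) (pullCl (ιT f g T).inv c)) =
        pullCl (XTmap f (Dmap g (ovrHom T (U i)))) (pullCl (ιT f g T).inv c) := by
      rw [← pullCl_comp, ← XTmap_comp, ← Dmap_ovrHom]
    rw [e1, ← pullCl_comp, ← XTmap_ι, pullCl_comp, pullCl_hom_inv]
  rw [key c, key c', hcc i]

theorem main (P : Over S) (φ : ∀ T : Over S, PicF.Cl (PicF.XT f T) → (T ⟶ P))
    (hP : PicRel.IsRelPic f P φ) :
    PicRel.IsRelPic (pullback.snd f g) (Over.mk (pullback.snd P.hom g)) (φ' f g P φ) :=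
  ⟨natural' f g P φ hP, locSurj' f g P φ hP, locInj' f g P φ hP⟩

end Thm

end Groth.Agent.S17906Aux

namespace Groth.Agent.S17906

/-- Let f : X → S be a morphism of schemes, g : S' → S a morphism and X' = X ×_S S'. If the relative
Picard functor of X over S, sheafified and described through a representing S-scheme P with maps φ_T
from classes of modules on X ×_S T to S-morphisms T → P, is represented by P, then the relative
Picard functor of X' over S' is represented by P ×_S S': a class c on (X ×_S S') ×_{S'} T is sent,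
after transport along the canonical isomorphism of this scheme with X ×_S T, to the S'-morphism T →
P ×_S S' whose components are φ(c) and the structure morphism of T. (The published statement is for
the fppf sheafification, asserts the isomorphism of functors Pic_{X/S} ×_S S' ≅ Pic_{X'/S'} in
general, and adds the compatibility of universal bundles and rigidifications; stated here is the
representability consequence for the étale sheafification, to which the same argument applies.) -/
theorem result {X S S' : Scheme.{u}} (f : X ⟶ S) (g : S' ⟶ S)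
    (P : Over S) (φ : ∀ T : Over S, PicF.Cl (PicF.XT f T) → (T ⟶ P)) (hP : PicRel.IsRelPic f P φ) :
    PicRel.IsRelPic (pullback.snd f g) (Over.mk (pullback.snd P.hom g))
      (fun T c => Over.homMk
        (pullback.lift (φ (Over.mk (T.hom ≫ g)) (PicF.pullCl (pullbackLeftPullbackSndIso f g T.hom).inv c)).left T.hom
          (Over.w (φ (Over.mk (T.hom ≫ g)) (PicF.pullCl (pullbackLeftPullbackSndIso f g T.hom).inv c))))
        (pullback.lift_snd _ _ _)) := by
  exact Groth.Agent.S17906Aux.main f g P φ hP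

end Groth.Agent.S17906
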