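import Groth.Statements.S17909
import Groth.Agent.Lib.Helper32.NormModNormic
import Groth.Agent.Lib.Helper32.PolLawGammaUniq
import Groth.Agent.Lib.Helper32.PolLawGammaGen

set_option autoImplicit false
universe u
open scoped TensorProduct
open PolLaw

namespace Groth.Agent.S17909

open Groth.Agent.Lib.Helper32.NormModBack Groth.Agent.Lib.Helper32.NormModRes
  Groth.Agent.Lib.Helper32.NormModNormic Groth.Agent.Lib.Helper32.PolLawGammaUniq

theorem isBaseChange_of_lift_unique_group {R S M N : Type u} [CommRing R] [CommRing S]
    [Algebra R S] [AddCommGroup M] [Module R M] [AddCommGroup N] [Module R N] [Module S N]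
    [IsScalarTower R S N] (f : M →ₗ[R] N)
    (h : ∀ (E : Type u) [AddCommGroup E] [Module R E] [Module S E] [IsScalarTower R S E]
      (g : M →ₗ[R] E), ∃! g' : N →ₗ[S] E, (g'.restrictScalars R).comp f = g) :
    IsBaseChange S f := by
  apply IsBaseChange.of_lift_unique
  intro E iE iR iS iT g
  exact @h E (@Module.addCommMonoidToAddCommGroup S E _ iE iS) iR iS iT g

theorem isBaseChange_restrictScalars {R R' Q Q' : Type u} [CommRing R] [CommRing R'] [Algebra R R']
    [CommRing Q] [Algebra R Q] [CommRing Q'] [Algebra R Q'] [Algebra Q Q'] [Algebra R' Q']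
    [IsScalarTower R Q Q'] [IsScalarTower R R' Q'] [Algebra.IsPushout R Q R' Q']
    {M' : Type u} [AddCommGroup M'] [Module R M'] [Module R' M'] [IsScalarTower R R' M']
    {M'' : Type u} [AddCommGroup M''] [Module R M''] [Module R' M''] [Module Q M''] [Module Q' M'']
    [IsScalarTower R R' M''] [IsScalarTower R Q M''] [IsScalarTower R' Q' M'']
    [IsScalarTower Q Q' M'']
    (f : M' →ₗ[R'] M'') (hf : IsBaseChange Q' f) : IsBaseChange Q (f.restrictScalars R) := by
  apply IsBaseChange.of_equiv
    ((Algebra.IsPushout.cancelBaseChange R Q R' Q' M').symm ≪≫ₗ (hf.equiv.restrictScalars Q))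
  intro x
  rw [LinearEquiv.trans_apply, Algebra.IsPushout.cancelBaseChange_symm_tmul, map_one]
  show hf.equiv ((1 : Q') ⊗ₜ[R'] x) = f x
  rw [IsBaseChange.equiv_tmul, one_smul]

theorem isNormic_postcomp {R R' : Type u} [CommRing R] [CommRing R'] [Algebra R R']
    {M' : Type u} [AddCommGroup M'] [Module R M'] [Module R' M'] [IsScalarTower R R' M']
    {N E : Type u} [AddCommGroup N] [Module R N] [AddCommGroup E] [Module R E]
    (h : N →ₗ[R] E) (ν : M' →ₚₗ[R] N) (hν : PolLaw.IsNormic R' ν) :
    PolLaw.IsNormic R' (PolLaw.postcomp h ν) := by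
  intro P _ _ x m
  show h.lTensor P (ν.toFun' P _) = _ • h.lTensor P (ν.toFun' P m)
  rw [hν, Groth.Agent.Lib.Helper32.PolLawGammaGen.lTensor_smul']

/-- Affine-free form, stated through the universal property of the norm module. Let R → R' be a
commutative algebra, free of finite rank as an R-module; let Q be a commutative R-algebra and Q' a
commutative ring under both Q and R' which is their pushout over R; let M' be an R'-module and f :
M' → M'' an R'-linear map into a Q'-module that exhibits M'' as Q' ⊗_{R'} M'. Let (N, ν) be a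
universal normic pair for M' over R (ν a polynomial law M' → N over R with ν(x · m) = norm(x) · ν(m)
over every commutative test ring, through which every normic law factors by a unique linear map) and
(N'', ν'') a universal normic pair for M'' over Q. Then there is an R-linear map u : N → N'' which
is compatible with the two laws over every commutative Q-algebra P, in the sense ν''_P (p ⊗ f m) =
(p ⊗ u)(ν_P (p ⊗ m)), and whose Q-linear extension Q ⊗_R N → N'' is an isomorphism (N'' is the base
change of N along R → Q via u). (The published statements are for the norm modules constructed from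
divided powers, for a finite locally free extension of constant rank; here the extension is free
over an affine base and the norm modules enter through their universal property.) -/
theorem result {R R' Q Q' : Type u} [CommRing R] [CommRing R'] [Algebra R R']
    [CommRing Q] [Algebra R Q] [CommRing Q'] [Algebra R Q'] [Algebra Q Q'] [Algebra R' Q']
    [IsScalarTower R Q Q'] [IsScalarTower R R' Q'] [Algebra.IsPushout R R' Q Q']
    [Module.Free R R'] [Module.Finite R R']
    {M' : Type u} [AddCommGroup M'] [Module R M'] [Module R' M'] [IsScalarTower R R' M']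
    {M'' : Type u} [AddCommGroup M''] [Module R M''] [Module R' M''] [Module Q M''] [Module Q' M'']
    [IsScalarTower R R' M''] [IsScalarTower R Q M''] [IsScalarTower R' Q' M''] [IsScalarTower Q Q' M'']
    (f : M' →ₗ[R'] M'') (hf : IsBaseChange Q' f)
    {N : Type u} [AddCommGroup N] [Module R N] (ν : M' →ₚₗ[R] N) (hν : PolLaw.IsUnivNormic R' ν)
    {N'' : Type u} [AddCommGroup N''] [Module R N''] [Module Q N''] [IsScalarTower R Q N'']
    (ν'' : M'' →ₚₗ[Q] N'') (hν'' : PolLaw.IsUnivNormic Q' ν'') :
    ∃ u : N →ₗ[R] N'',
      (∀ (P : Type u) [CommRing P] [Algebra R P] [Algebra Q P] [IsScalarTower R Q P] (m : P ⊗[R] M'),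
          ν''.toFun' P (PolLaw.bcAlong (f.restrictScalars R) P m) = PolLaw.bcAlong u P (ν.toFun' P m)) ∧
      IsBaseChange Q u := by
  have : Algebra.IsPushout R Q R' Q' := Algebra.IsPushout.symm inferInstance
  have hg : IsBaseChange Q (f.restrictScalars R) := isBaseChange_restrictScalars f hf
  obtain ⟨u, hu, -⟩ := hν.2 N'' (resLaw Q (f.restrictScalars R) ν'') (isNormic_res f ν'' hν''.1)
  refine ⟨u, ?_, ?_⟩
  · intro P _ _ _ _ m
    have hum : u.lTensor P (ν.toFun' P m) = (resLaw Q (f.restrictScalars R) ν'').toFun' P m :=
      congrFun (congrArg (fun L => PolynomialLaw.toFun' L P) hu) m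
    rw [bcAlong_eq, bcAlong_eq, hum, resLaw_toFun', ← multQ_rTensor, ← multQ_rTensor_symm,
      PolynomialLaw.isCompat_apply']
  · apply isBaseChange_of_lift_unique_group
    intro E _ _ _ _ h
    obtain ⟨h'', hh'', hh''u⟩ := hν''.2 E (extLaw hg (PolLaw.postcomp h ν))
      (isNormic_ext f hg _ (isNormic_postcomp h ν hν.1))
    obtain ⟨φ, -, hφu⟩ := hν.2 E (PolLaw.postcomp h ν) (isNormic_postcomp h ν hν.1)
    refine ⟨h'', ?_, ?_⟩
    · show (h''.restrictScalars R) ∘ₗ u = h
      have e1 : PolLaw.postcomp (h''.restrictScalars R ∘ₗ u) ν = PolLaw.postcomp h ν := by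
        rw [postcomp_comp, hu, ← res_postcomp, hh'', res_ext]
      rw [hφu (h''.restrictScalars R ∘ₗ u) e1, hφu h rfl]
    · intro k hk
      apply hh''u
      show PolLaw.postcomp k ν'' = extLaw hg (PolLaw.postcomp h ν)
      rw [← ext_res hg (PolLaw.postcomp k ν''), res_postcomp, ← hu, ← postcomp_comp]
      congr 2

end Groth.Agent.S17909
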