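import Groth.Statements.S17910
import Groth.Agent.Lib.Helper27.SwapInv

set_option autoImplicit false
universe u
open scoped TensorProduct
open SymTen

namespace Groth.Agent.S17910

open Groth.Agent.Lib.Helper27.SwapInv

section Aux

variable {R : Type u} [CommRing R] {A : Type u} [CommRing A] [Algebra R A]
  {P : Type u} [AddCommGroup P] [Module R P] [Module A P] [IsScalarTower R A P] {d : ℕ}

theorem tpowAct_tprod (a : Fin d → A) (p : Fin d → P) :
    SymTen.tpowAct R A P d (PiTensorProduct.tprod R a) (PiTensorProduct.tprod R p) =
      PiTensorProduct.tprod R (fun k => a k • p k) := by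
  rw [SymTen.tpowAct, PiTensorProduct.lift.tprod, MultilinearMap.compLinearMap_apply,
    PiTensorProduct.mapMultilinear_apply, PiTensorProduct.map_tprod]
  rfl

theorem reindex_tpowAct (σ : Equiv.Perm (Fin d)) (a : ⨂[R] _ : Fin d, A) (x : ⨂[R] _ : Fin d, P) :
    PiTensorProduct.reindex R (fun _ : Fin d => P) σ (SymTen.tpowAct R A P d a x) =
      SymTen.tpowAct R A P d (PiTensorProduct.reindex R (fun _ : Fin d => A) σ a)
        (PiTensorProduct.reindex R (fun _ : Fin d => P) σ x) := by
  induction a using PiTensorProduct.induction_on with
  | smul_tprod r a =>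
    induction x using PiTensorProduct.induction_on with
    | smul_tprod r' p =>
      simp only [map_smul, LinearMap.smul_apply, PiTensorProduct.reindex_tprod, tpowAct_tprod]
    | add x y hx hy => simp only [map_add, hx, hy]
  | add a a' ha ha' => simp only [map_add, LinearMap.add_apply, ha, ha']

end Aux

/-- Let R be a commutative ring, A a commutative R-algebra, d ≥ 0, and P an A-module that is finitely
generated projective (finite locally free) as an R-module. Let the d-fold tensor power of A over R
act on the d-fold tensor power of P over R factor by factor, and let I_d be the R-span of the pure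
tensors p_1 ⊗ ⋯ ⊗ p_d with two equal factors p_i = p_j, i ≠ j (the submodule by which the tensor
power is divided to give the d-th exterior power). Then every symmetric tensor a ∈ TS^d_R(A) maps
I_d into itself, so that TS^d_R(A) acts on the d-th exterior power of P over R. -/
theorem result (R : Type u) [CommRing R] (A : Type u) [CommRing A] [Algebra R A]
    (P : Type u) [AddCommGroup P] [Module R P] [Module A P] [IsScalarTower R A P]
    [Module.Finite R P] [Module.Projective R P] (d : ℕ)
    (a : ⨂[R] _ : Fin d, A) (ha : a ∈ SymTen.TS R A d)
    (x : ⨂[R] _ : Fin d, P) (hx : x ∈ SymTen.altSpan R P d) :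
    SymTen.tpowAct R A P d a x ∈ SymTen.altSpan R P d := by
  have hle : SymTen.altSpan R P d ≤ (SymTen.altSpan R P d).comap (SymTen.tpowAct R A P d a) := by
    rw [SymTen.altSpan, Submodule.span_le]
    rintro _ ⟨p, i, j, hij, hp, rfl⟩
    rw [SetLike.mem_coe, Submodule.mem_comap]
    have hinv : PiTensorProduct.reindex R (fun _ : Fin d => P) (Equiv.swap i j)
        (SymTen.tpowAct R A P d a (PiTensorProduct.tprod R p)) =
        SymTen.tpowAct R A P d a (PiTensorProduct.tprod R p) := by
      rw [reindex_tpowAct, ha (Equiv.swap i j), PiTensorProduct.reindex_tprod]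
      congr 2
      ext k
      rw [Equiv.symm_swap, Equiv.swap_apply_def]
      split_ifs with h h'
      · rw [h, hp]
      · rw [h', hp]
      · rfl
    have hK := mem_Kij_of_invariant (R := R) hij _ hinv
    have hKle : Kij (R := R) P i j ≤ Submodule.span R {x | ∃ (p : Fin d → P) (i j : Fin d), i ≠ j ∧ p i = p j ∧
        x = PiTensorProduct.tprod R p} := by
      rw [Kij]
      refine Submodule.span_mono ?_
      rintro _ ⟨q, hq, rfl⟩
      exact ⟨q, i, j, hij, hq, rfl⟩
    exact hKle hK
  exact hle hx

end Groth.Agent.S17910
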