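import Groth.Statements.S17914
import Groth.Agent.Lib.Helper27.SymTenDet
import Groth.Agent.Lib.Helper27.BcAlong

set_option autoImplicit false
universe u
open scoped TensorProduct
open PolLaw

namespace Groth.Agent.S17914

open Groth.Agent.Lib.Helper27.SymTenDet Groth.Agent.Lib.Helper27.BcAlong

/-- Affine-free form, stated through universal properties. Let R → R' be a commutative algebra that is
free of rank d as an R-module, Q a commutative R-algebra, and Q' a commutative ring under Q and R'
which is their pushout over R and is free of rank d over Q. Let (C, γ) be the degree-d divided power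
algebra of R' over R with its universal multiplicative law (hypothesis: every multiplicative law of
degree d out of R' factors uniquely through γ) and π : C → R the R-algebra map with π ∘ γ = the norm
law of R' over R; let (C', γ', π') be the analogous data for Q' over Q. Let θ : C → C' be an
R-algebra homomorphism compatible with the two universal laws over every commutative Q-algebra P:
γ'_P applied to the image of z ∈ P ⊗_R R' in P ⊗_Q Q' equals (p ⊗ c ↦ p ⊗ θ c) applied to γ_P(z) (so
θ is the base-change homomorphism of divided power algebras). Then π' (θ c) is the image in Q of π c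
for every c ∈ C: the algebra map attached to the norm commutes with base change. (The published
lemma is for a finite locally free extension of constant rank and states the commutativity of each
of three squares; this row assumes R' free over R and states the commutativity of the composite.) -/
theorem result {R R' Q Q' : Type u} [CommRing R] [CommRing R'] [Algebra R R']
    [CommRing Q] [Algebra R Q] [CommRing Q'] [Algebra R Q'] [Algebra Q Q'] [Algebra R' Q']
    [IsScalarTower R Q Q'] [IsScalarTower R R' Q'] [Algebra.IsPushout R R' Q Q']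
    [Module.Free R R'] [Module.Finite R R'] [Module.Free Q Q'] [Module.Finite Q Q']
    (d : ℕ) (hd : Module.finrank R R' = d) (hd' : Module.finrank Q Q' = d)
    {C : Type u} [CommRing C] [Algebra R C] (γ : PolLaw.MulLaw R R' C d) (hγ : PolLaw.IsGammaD γ)
    (π : C →ₐ[R] R) (hπ : PolLaw.MulLaw.postcomp π γ = PolLaw.normLaw R R' d hd)
    {C' : Type u} [CommRing C'] [Algebra R C'] [Algebra Q C'] [IsScalarTower R Q C']
    (γ' : PolLaw.MulLaw Q Q' C' d) (hγ' : PolLaw.IsGammaD γ')
    (π' : C' →ₐ[Q] Q) (hπ' : PolLaw.MulLaw.postcomp π' γ' = PolLaw.normLaw Q Q' d hd')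
    (θ : C →ₐ[R] C')
    (hθ : ∀ (P : Type u) [CommRing P] [Algebra R P] [Algebra Q P] [IsScalarTower R Q P] (z : P ⊗[R] R'),
      γ'.law.toFun' P (PolLaw.bcAlong (IsScalarTower.toAlgHom R R' Q').toLinearMap P z) =
        PolLaw.bcAlong θ.toLinearMap P (γ.law.toFun' P z)) :
    ∀ c : C, π' (θ c) = algebraMap R Q (π c) := by
  classical
  rcases subsingleton_or_nontrivial R with hR | hR
  · intro c
    have h01 : (0 : Q) = 1 := by
      rw [← (algebraMap R Q).map_one, Subsingleton.elim (1 : R) 0, map_zero]
    have : Subsingleton Q := subsingleton_of_zero_eq_one h01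
    exact Subsingleton.elim _ _
  haveI : Algebra.IsPushout R Q R' Q' := Algebra.IsPushout.symm inferInstance
  let b : Module.Basis (Fin d) R R' := Module.finBasisOfFinrankEq R R' hd
  let f₁ : C →ₐ[R] Q := (π'.restrictScalars R).comp θ
  let f₂ : C →ₐ[R] Q := (Algebra.ofId R Q).comp π
  suffices h : f₁ = f₂ from fun c => DFunLike.congr_fun h c
  have key : PolLaw.postcomp f₁.toLinearMap γ.law = PolLaw.postcomp f₂.toLinearMap γ.law := by
    apply law_ext_generic b
    let P₀ := MvPolynomial (Fin d) R
    let P₂ := Q ⊗[R] MvPolynomial (Fin d) R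
    let j : P₀ →ₐ[R] P₂ := Algebra.TensorProduct.includeRight
    show f₁.toLinearMap.lTensor P₀ (γ.law.toFun' P₀ (zgen b)) =
      f₂.toLinearMap.lTensor P₀ (γ.law.toFun' P₀ (zgen b))
    apply (TensorProduct.comm R P₀ Q).injective
    have hκ : ∀ (f : C →ₗ[R] Q) (y : P₀ ⊗[R] C), TensorProduct.comm R P₀ Q (f.lTensor P₀ y) =
        TensorProduct.rid Q P₂ (PolLaw.bcAlong (Q := Q) f P₂ (j.toLinearMap.rTensor C y)) := by
      intro f y
      induction y using TensorProduct.induction_on with
      | zero => simp
      | tmul p c =>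
        simp only [LinearMap.lTensor_tmul, TensorProduct.comm_tmul, LinearMap.rTensor_tmul,
          AlgHom.toLinearMap_apply, bcAlong_tmul, TensorProduct.rid_tmul]
        show f c ⊗ₜ[R] p = f c • ((1 : Q) ⊗ₜ[R] p)
        rw [TensorProduct.smul_tmul', smul_eq_mul, mul_one]
      | add x y hx hy => simp only [map_add, hx, hy]
    rw [hκ, hκ, PolynomialLaw.isCompat_apply']
    congr 1
    set z₂ : P₂ ⊗[R] R' := j.toLinearMap.rTensor R' (zgen b) with hz₂
    have e1 : PolLaw.bcAlong (Q := Q) f₁.toLinearMap P₂ (γ.law.toFun' P₂ z₂) =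
        Algebra.norm P₂ (PolLaw.bcAlong (Q := Q) (IsScalarTower.toAlgHom R R' Q').toLinearMap P₂ z₂)
          ⊗ₜ[Q] (1 : Q) := by
      rw [show f₁.toLinearMap = (π'.toLinearMap.restrictScalars R) ∘ₗ θ.toLinearMap from rfl,
        ← lTensor_bcAlong, ← hθ]
      have := congrArg (fun F : PolLaw.MulLaw Q Q' Q d => F.law.toFun' P₂
        (PolLaw.bcAlong (Q := Q) (IsScalarTower.toAlgHom R R' Q').toLinearMap P₂ z₂)) hπ'
      exact this.trans (PolLaw.normLaw_apply Q Q' d hd' P₂ _)
    have e2 : PolLaw.bcAlong (Q := Q) f₂.toLinearMap P₂ (γ.law.toFun' P₂ z₂) =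
        Algebra.norm P₂ z₂ ⊗ₜ[Q] (1 : Q) := by
      rw [show f₂.toLinearMap = (Algebra.linearMap R Q) ∘ₗ π.toLinearMap from rfl,
        bcAlong_comp_lTensor]
      have := congrArg (fun F : PolLaw.MulLaw R R' R d => F.law.toFun' P₂ z₂) hπ
      have h3 : π.toLinearMap.lTensor P₂ (γ.law.toFun' P₂ z₂) = Algebra.norm P₂ z₂ ⊗ₜ[R] (1 : R) :=
        this.trans (PolLaw.normLaw_apply R R' d hd P₂ z₂)
      rw [h3, bcAlong_tmul]
      simp
    rw [e1, e2, norm_bcAlong]
  exact (hγ Q (PolLaw.MulLaw.postcomp f₁ γ)).unique rfl key.symm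

end Groth.Agent.S17914
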