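import Groth.Statements.S17933
import Groth.Agent.Lib.Helper74.MultCrvLib

set_option autoImplicit false
universe u
open MultCrv

namespace Groth.Agent.S17933

/-- Let R be a discrete valuation ring, n ≥ 1, A = R[X]/(X^n) with z the class of X, and M a finitely
generated A-module. Then M is torsion-free as an R-module if and only if the submodule M^(1) of
elements killed by z is a free R-module. (This is the statement at a closed point of the sheaf
statement: for a primitive multiple curve of multiplicity n the local ring at a closed point is of
the form R[X]/(X^n) with R the local ring of the reduced smooth curve, torsion-freeness is the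
absence of sections with finite support, and local freeness on the reduced curve is freeness of the
stalk; the row is stated for every discrete valuation ring R.) -/
theorem result (R : Type u) [CommRing R] [IsDomain R] [IsDiscreteValuationRing R] (n : ℕ) (hn : 1 ≤ n) (M : Type u) [AddCommGroup M] [Module (MultCrv.Rn R n) M] [Module R M] [IsScalarTower R (MultCrv.Rn R n) M] [Module.Finite (MultCrv.Rn R n) M] : Module.IsTorsionFree R M ↔ Module.Free R ↥(MultCrv.filt2 R n M 1) := by
  have hfin : Module.Finite R M := Groth.Agent.Lib.Helper74.MultCrvLib.finite_base R n M
  have hnoeth : IsNoetherian R M := isNoetherian_of_isNoetherianRing_of_finite R M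
  have hfinK : Module.Finite R ↥(MultCrv.filt2 R n M 1) :=
    Module.Finite.of_injective ((MultCrv.filt2 R n M 1).subtype.restrictScalars R)
      (Subtype.val_injective)
  constructor
  · intro htf
    have : Module.IsTorsionFree R ↥(MultCrv.filt2 R n M 1) :=
      Function.Injective.moduleIsTorsionFree (Subtype.val) Subtype.val_injective (fun _ _ => rfl)
    exact Module.free_of_finite_type_torsion_free'
  · intro hfree
    have htfK : Module.IsTorsionFree R ↥(MultCrv.filt2 R n M 1) :=
      Module.free_iff_isTorsionFree.mp hfree
    rw [Module.isTorsionFree_iff_smul_eq_zero]
    intro r m hrm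
    by_cases hr : r = 0
    · exact Or.inl hr
    right
    have key : ∀ k : ℕ, ∀ m : M, r • m = 0 → MultCrv.z R n ^ k • m = 0 → m = 0 := by
      intro k
      induction k with
      | zero => intro m _ h; simpa using h
      | succ k ih =>
        intro m hrm h
        apply ih m hrm
        have hmem : MultCrv.z R n ^ k • m ∈ MultCrv.filt2 R n M 1 := by
          change MultCrv.z R n ^ 1 • (MultCrv.z R n ^ k • m) = 0
          rw [smul_smul, ← pow_add, add_comm]; exact h
        have h0 : r • (⟨MultCrv.z R n ^ k • m, hmem⟩ : ↥(MultCrv.filt2 R n M 1)) = 0 := by
          apply Subtype.ext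
          change r • (MultCrv.z R n ^ k • m) = 0
          rw [Groth.Agent.Lib.Helper74.MultCrvLib.smul_comm', hrm, smul_zero]
        have := (Module.isTorsionFree_iff_smul_eq_zero.mp htfK) r _ h0
        rcases this with h1 | h1
        · exact absurd h1 hr
        · exact congrArg Subtype.val h1
    apply key n m hrm
    rw [Groth.Agent.Lib.Helper74.MultCrvLib.z_pow_n]; exact zero_smul (MultCrv.Rn R n) m

end Groth.Agent.S17933
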