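import Groth.Statements.S17941
import Groth.Agent.Lib.Helper60.MultCrv
-- import your own Groth.Agent.* helpers here

set_option autoImplicit false
universe u
open MultCrv

namespace Groth.Agent.S17941

/-- Let R be a discrete valuation ring, n ≥ 1, A = R[X]/(X^n), and 0 → M' → M → M'' → 0 a short exact
sequence of finitely generated A-modules with M and M'' torsion-free as R-modules (so M' is as
well). Then the A-dual sequence 0 → Hom_A(M'', A) → Hom_A(M, A) → Hom_A(M', A) → 0 is exact; the
content is that every A-linear form on M' extends to M, i.e. restriction of forms along M' → M is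
surjective. (Statement at a closed point of the sheaf statement on a primitive multiple curve of
multiplicity n, whose local rings are of the form R[X]/(X^n) with R the local ring of the reduced
smooth curve; stated for every discrete valuation ring R.) -/
theorem result (R : Type u) [CommRing R] [IsDomain R] [IsDiscreteValuationRing R] (n : ℕ) (hn : 1 ≤ n) (M' M M'' : Type u) [AddCommGroup M'] [Module (MultCrv.Rn R n) M'] [AddCommGroup M] [Module (MultCrv.Rn R n) M] [Module R M] [IsScalarTower R (MultCrv.Rn R n) M] [Module.Finite (MultCrv.Rn R n) M] [Module.IsTorsionFree R M] [AddCommGroup M''] [Module (MultCrv.Rn R n) M''] [Module R M''] [IsScalarTower R (MultCrv.Rn R n) M''] [Module.Finite (MultCrv.Rn R n) M''] [Module.IsTorsionFree R M''] (f : M' →ₗ[MultCrv.Rn R n] M) (g : M →ₗ[MultCrv.Rn R n] M'') (hf : Function.Injective f) (hg : Function.Surjective g) (hfg : LinearMap.range f = LinearMap.ker g) : Function.Surjective (f.dualMap : Module.Dual (MultCrv.Rn R n) M →ₗ[MultCrv.Rn R n] Module.Dual (MultCrv.Rn R n) M') := by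
  obtain ⟨k, rfl⟩ : ∃ k, n = k + 1 := ⟨n - 1, by omega⟩
  intro φ
  let e := LinearEquiv.ofInjective f hf
  let φ' : LinearMap.ker g →ₗ[MultCrv.Rn R (k + 1)] MultCrv.Rn R (k + 1) :=
    φ.comp (e.symm.toLinearMap.comp (LinearEquiv.ofEq _ _ hfg.symm).toLinearMap)
  obtain ⟨Φ, hΦ⟩ := Groth.Agent.Lib.Helper60.MC.exists_extend_form R k g hg φ'
  refine ⟨Φ, ?_⟩
  ext m'
  have hm : f m' ∈ LinearMap.ker g := hfg ▸ LinearMap.mem_range_self f m'
  have h1 := hΦ ⟨f m', hm⟩
  have h2 : e.symm ((LinearEquiv.ofEq _ _ hfg.symm) ⟨f m', hm⟩) = m' := by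
    apply e.injective
    rw [LinearEquiv.apply_symm_apply]
    apply Subtype.ext
    rfl
  simp only [φ', LinearMap.comp_apply, LinearEquiv.coe_coe, h2] at h1
  exact h1

end Groth.Agent.S17941
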