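import Groth.Statements.S17945
import Mathlib
-- import your own Groth.Agent.* helpers here

set_option autoImplicit false
universe u
open MultCrv

namespace Groth.Agent.S17945

/-- Let R be a discrete valuation ring, n ≥ 1, A = R[X]/(X^n) with z the class of X, and φ : M → N an
A-linear map of finitely generated A-modules. Then φ is surjective if and only if the induced map
M/zM → N/zN is surjective, i.e. every element of N differs from an element of the image of φ by an
element of zN. The induced maps z^i M/z^(i+1) M → z^i N/z^(i+1) N, 1 ≤ i < n, are then surjective as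
well; that immediate consequence, which the published statement includes, is not part of this row.
(Statement at a closed point of the sheaf statement on a primitive multiple curve of multiplicity n
with local rings R[X]/(X^n), where M/zM is the stalk of the restriction to the reduced curve; stated
for every discrete valuation ring R.) -/
theorem result (R : Type u) [CommRing R] [IsDomain R] [IsDiscreteValuationRing R] (n : ℕ) (hn : 1 ≤ n) (M N : Type u) [AddCommGroup M] [Module (MultCrv.Rn R n) M] [Module.Finite (MultCrv.Rn R n) M] [AddCommGroup N] [Module (MultCrv.Rn R n) N] [Module.Finite (MultCrv.Rn R n) N] (φ : M →ₗ[MultCrv.Rn R n] N) : Function.Surjective φ ↔ ∀ v : N, ∃ u : M, v - φ u ∈ MultCrv.filt R n N 1 := by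
  have hzn : MultCrv.z R n ^ n = 0 := by
    rw [← map_pow, Ideal.Quotient.eq_zero_iff_mem]
    exact Ideal.subset_span rfl
  have hmem : ∀ (i : ℕ) (x : N), x ∈ MultCrv.filt R n N i ↔ ∃ w : N, MultCrv.z R n ^ i • w = x := by
    intro i x
    simp [MultCrv.filt, LinearMap.mem_range]
  constructor
  · intro hs v
    obtain ⟨u, rfl⟩ := hs v
    exact ⟨u, by simp⟩
  · intro h v
    have key : ∀ k : ℕ, ∀ v : N, ∃ u : M, v - φ u ∈ MultCrv.filt R n N k := by
      intro k
      induction k with
      | zero =>
        intro v
        exact ⟨0, (hmem 0 _).mpr ⟨v, by simp⟩⟩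
      | succ k ih =>
        intro v
        obtain ⟨u, hu⟩ := ih v
        obtain ⟨w, hw⟩ := (hmem k _).mp hu
        obtain ⟨u', hu'⟩ := h w
        obtain ⟨w', hw'⟩ := (hmem 1 _).mp hu'
        refine ⟨u + MultCrv.z R n ^ k • u', (hmem (k + 1) _).mpr ⟨w', ?_⟩⟩
        rw [pow_one] at hw'
        rw [map_add, map_smul, pow_succ, mul_smul, hw', smul_sub, hw]
        abel
    obtain ⟨u, hu⟩ := key n v
    obtain ⟨w, hw⟩ := (hmem n _).mp hu
    rw [hzn] at hw
    have hw2 : v - φ u = 0 := by rw [← hw]; exact zero_smul (MultCrv.Rn R n) w
    exact ⟨u, (sub_eq_zero.mp hw2).symm⟩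

end Groth.Agent.S17945
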