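import Groth.Statements.S17959
-- import your own Groth.Agent.* helpers here
import Groth.Agent.S17968
import Groth.Agent.Lib.Helper58.SchemeIdem
import Groth.Agent.Lib.Helper58.GammaBC

set_option autoImplicit false
open CategoryTheory CategoryTheory.Limits AlgebraicGeometry
universe u
open Hensel

namespace Groth.Agent.S17959

open Groth.Agent.Lib.Helper58.SchemeIdem Groth.Agent.Lib.Helper58.GammaBC TopologicalSpace

/-- The henselian couple condition. -/
def Couple {X X₀ : Scheme.{u}} (i : X₀ ⟶ X) : Prop :=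
  ∀ (Y : Scheme.{u}) (g : Y ⟶ X), IsFinite g →
    ∀ V : Set ↥(pullback g (i)), IsClopen V →
      ∃! U : Set ↥Y, IsClopen U ∧ (pullback.fst g (i)).base ⁻¹' U = V

theorem le_jacobson {X X₀ : Scheme.{u}} (i : X₀ ⟶ X) (hX : Couple i) :
    RingHom.ker i.appTop.hom ≤ Ideal.jacobson ⊥ := by
  intro b hb
  rw [Ideal.mem_jacobson_bot]
  intro y
  have hc : i.appTop.hom (b * y + 1) = 1 := by
    rw [map_add, map_mul, (RingHom.mem_ker).mp hb, zero_mul, zero_add, map_one]
  apply isUnit_of_basicOpen_eq_top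
  by_contra hne
  let Z : Closeds X := ⟨(X.basicOpen (b * y + 1) : Set X)ᶜ,
    isClosed_compl_iff.mpr (X.basicOpen (b * y + 1)).2⟩
  let I := Scheme.IdealSheafData.vanishingIdeal Z
  let g := I.subschemeι
  have hrange : Set.range g = (Z : Set X) := by
    rw [I.range_subschemeι, Scheme.IdealSheafData.coe_support_vanishingIdeal]
  have hempty : IsEmpty ↥(pullback g i) := by
    constructor
    intro t
    have h1 : g (pullback.fst g i t) = i (pullback.snd g i t) := by
      rw [← Scheme.Hom.comp_apply, pullback.condition, Scheme.Hom.comp_apply]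
    have h2 : g (pullback.fst g i t) ∈ (Z : Set X) := by rw [← hrange]; exact ⟨_, rfl⟩
    have h3 : i (pullback.snd g i t) ∈ X.basicOpen (b * y + 1) := by
      have : (pullback.snd g i t) ∈ i ⁻¹ᵁ X.basicOpen (b * y + 1) := by
        rw [Scheme.preimage_basicOpen_top]
        have : i.appTop (b * y + 1) = 1 := hc
        rw [this, Scheme.basicOpen_one]; trivial
      exact this
    rw [h1] at h2
    exact h2 h3
  obtain ⟨U, -, huniq⟩ := hX I.subscheme g inferInstance ∅ isClopen_empty
  have e1 := huniq ∅ ⟨isClopen_empty, Set.eq_empty_of_isEmpty _⟩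
  have e2 := huniq Set.univ ⟨isClopen_univ, Set.eq_empty_of_isEmpty _⟩
  have h4 : (∅ : Set I.subscheme) = Set.univ := e1.trans e2.symm
  have h5 : (Z : Set X) = ∅ := by
    rw [← hrange, Set.range_eq_empty_iff]
    exact Set.univ_eq_empty_iff.mp h4.symm
  apply hne
  ext x
  simp only [Opens.coe_top, Set.mem_univ, iff_true]
  by_contra hx
  have : x ∈ (Z : Set X) := hx
  rw [h5] at this
  exact this


open Polynomial in
theorem surjOn_idem {X X₀ : Scheme.{u}} (i : X₀ ⟶ X) [IsClosedImmersion i] [CompactSpace ↥X]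
    [QuasiSeparatedSpace ↥X] (hX : Couple i) (p : Polynomial (Γ(X, ⊤) : Type u)) (hp : p.Monic) :
    Set.SurjOn (Ideal.Quotient.mk (Ideal.map (algebraMap (Γ(X, ⊤) : Type u) (AdjoinRoot p))
        (RingHom.ker i.appTop.hom)))
      {e : AdjoinRoot p | IsIdempotentElem e} {e | IsIdempotentElem e} := by
  intro ε hε
  let B : CommRingCat.{u} := Γ(X, ⊤)
  let C := AdjoinRoot p
  have hfree : Module.Free B C := hp.free_adjoinRoot
  have hfin : Module.Finite B C := hp.finite_adjoinRoot
  have hflat : Module.Flat B C := inferInstance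
  let f : Spec (CommRingCat.of C) ⟶ Spec B := Spec.map (CommRingCat.ofHom (algebraMap B C))
  have hffin : IsFinite f := by
    rw [IsFinite.SpecMap_iff]
    show (algebraMap B C).Finite
    rw [RingHom.finite_algebraMap]; exact hfin
  let g := pullback.fst X.toSpecΓ f
  let iY := pullback.snd X.toSpecΓ f
  have hgfin : IsFinite g := inferInstance
  have hiso : IsIso iY.appTop := isIso_appTop_snd (X := X) C
  -- the comparison `ψ : C → Γ(Y)`
  let ψ : CommRingCat.of C ⟶ Γ(pullback X.toSpecΓ f, ⊤) :=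
    (Scheme.ΓSpecIso (CommRingCat.of C)).inv ≫ iY.appTop
  have hψiso : IsIso ψ := inferInstance
  have hψbij : Function.Bijective ψ.hom := by
    constructor
    · intro x y hxy
      have := congrArg (inv ψ).hom hxy
      simpa using this
    · intro z
      exact ⟨(inv ψ).hom z, by simp⟩
  let pr := pullback.fst g i
  let q := pullback.snd g i
  let ψ₀ : CommRingCat.of C ⟶ Γ(pullback g i, ⊤) :=
    (Scheme.ΓSpecIso (CommRingCat.of C)).inv ≫ (pr ≫ iY).appTop
  have hψ₀ : ψ₀ = ψ ≫ pr.appTop := by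
    simp only [ψ₀, ψ, Scheme.Hom.comp_appTop, Category.assoc]
  -- the big pullback square
  have H₀ : IsPullback q (pr ≫ iY) (i ≫ X.toSpecΓ) f := by
    have s : IsPullback pr q g i := IsPullback.of_hasPullback g i
    have t : IsPullback iY g f X.toSpecΓ := (IsPullback.of_hasPullback X.toSpecΓ f).flip
    exact (s.paste_horiz t).flip
  have hX₀ : CompactSpace ↥X₀ := i.isClosedEmbedding.compactSpace
  have hker : ∀ c : C, ψ₀.hom c = 0 → c ∈ Ideal.map (algebraMap B C) (RingHom.ker i.appTop.hom) := by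
    intro c hc
    have := mem_map_ker_of_appTop_eq_zero (B := B) C (i ≫ X.toSpecΓ) q (pr ≫ iY) H₀ c hc
    have h1 : (Scheme.ΓSpecIso B).inv ≫ (i ≫ X.toSpecΓ).appTop = i.appTop := by
      rw [Scheme.Hom.comp_appTop, Scheme.toSpecΓ_appTop, Iso.inv_hom_id_assoc]
    rwa [h1] at this
  have hker' : ∀ c : C, c ∈ Ideal.map (algebraMap B C) (RingHom.ker i.appTop.hom) →
      ψ₀.hom c = 0 := by
    intro c hc
    have hle : Ideal.map (algebraMap B C) (RingHom.ker i.appTop.hom) ≤ RingHom.ker ψ₀.hom := by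
      rw [Ideal.map_le_iff_le_comap]
      intro b hb
      rw [Ideal.mem_comap, RingHom.mem_ker]
      have h2 : CommRingCat.ofHom (algebraMap B C) ≫ ψ₀ = i.appTop ≫ q.appTop := by
        simp only [ψ₀]
        rw [Scheme.ΓSpecIso_inv_naturality_assoc, ← Scheme.Hom.comp_appTop]
        have : (pr ≫ iY) ≫ Spec.map (CommRingCat.ofHom (algebraMap B C)) =
            q ≫ i ≫ X.toSpecΓ := H₀.w.symm
        rw [this, Scheme.Hom.comp_appTop, Scheme.Hom.comp_appTop, Scheme.toSpecΓ_appTop,
          Category.assoc]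
        exact Iso.inv_hom_id_assoc (Scheme.ΓSpecIso Γ(X, ⊤)) _
      have := congrArg (fun φ => φ.hom b) h2
      simp only [CommRingCat.hom_comp, RingHom.coe_comp, Function.comp_apply,
        CommRingCat.hom_ofHom] at this
      rw [this, (RingHom.mem_ker).mp hb, map_zero]
    exact hle hc
  -- lift `ε`
  obtain ⟨c, rfl⟩ := Ideal.Quotient.mk_surjective ε
  have hc2 : c * c - c ∈ Ideal.map (algebraMap B C) (RingHom.ker i.appTop.hom) := by
    rw [← Ideal.Quotient.eq, map_mul]; exact hε
  have hc₀ : IsIdempotentElem (ψ₀.hom c) := by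
    have := hker' _ hc2
    rw [map_sub, map_mul, sub_eq_zero] at this
    exact this
  obtain ⟨U, ⟨hU, hUV⟩, -⟩ := hX _ g hgfin _ (isClopen_basicOpen (ψ₀.hom c) hc₀)
  obtain ⟨e', he', he'U⟩ := exists_idem_basicOpen_eq U hU
  obtain ⟨e, rfl⟩ := hψbij.2 e'
  have he : IsIdempotentElem e := by
    apply hψbij.1
    rw [map_mul]; exact he'
  refine ⟨e, he, ?_⟩
  have h3 : ψ₀.hom e = ψ₀.hom c := by
    apply eq_of_basicOpen_eq (he.map ψ₀.hom) hc₀
    apply Opens.ext
    rw [← hUV, ← he'U]
    have : ψ₀.hom e = pr.appTop.hom (ψ.hom e) := by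
      rw [hψ₀]; rfl
    rw [this]
    exact congrArg (fun W : (pullback g i).Opens => (W : Set ↥(pullback g i)))
      (Scheme.preimage_basicOpen_top pr (ψ.hom e)).symm
  rw [Ideal.Quotient.eq]
  apply hker
  rw [map_sub, h3, sub_self]

/-- Let X be a quasi-compact quasi-separated scheme and i : X₀ ⟶ X a closed immersion such that (X, X₀)
is a henselian couple, i.e. for every finite morphism g : Y ⟶ X every open-closed subset of Y ×_X X₀
is the inverse image under the first projection of exactly one open-closed subset of Y. Let B = Γ(X,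
O_X) and let J be the kernel of the restriction map B → Γ(X₀, O_{X₀}). Then (B, J) is a henselian
pair. -/
theorem result {X X₀ : Scheme.{u}}
    (i : X₀ ⟶ X) [IsClosedImmersion i] [CompactSpace ↥X] [QuasiSeparatedSpace ↥X]
    (hX : ∀ (Y : Scheme.{u}) (g : Y ⟶ X), IsFinite g →
      ∀ V : Set ↥(pullback g (i)), IsClopen V →
        ∃! U : Set ↥Y, IsClopen U ∧ (pullback.fst g (i)).base ⁻¹' U = V) :
    HenselianRing (Γ(X, ⊤) : Type u) (RingHom.ker i.appTop.hom) := by
  exact Groth.Agent.S17968.result _ _ (le_jacobson i hX)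
    (fun _ p hp _ => surjOn_idem i hX p hp)

end Groth.Agent.S17959
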