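import Groth.Statements.S17964
import Mathlib

set_option autoImplicit false
open CategoryTheory CategoryTheory.Limits AlgebraicGeometry
universe u
open Hensel

namespace Groth.Agent.S17964

variable {ι : Type u} (X X₀ : ι → Scheme.{u}) (i : ∀ j, X₀ j ⟶ X j)

lemma exists_sigmaι (z : ↥(∐ X)) : ∃ j x, (Sigma.ι X j).base x = z := by
  obtain ⟨⟨j, x⟩, rfl⟩ := (sigmaMk X).surjective z
  exact ⟨j, x, (sigmaMk_mk X j x).symm⟩

lemma comm (j : ι) : Sigma.ι X₀ j ≫ Limits.Sigma.map i = i j ≫ Sigma.ι X j := by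
  simp

theorem isPullback_sigmaι_map (j : ι) :
    IsPullback (Sigma.ι X₀ j) (i j) (Limits.Sigma.map i) (Sigma.ι X j) := by
  let c : X₀ j ⟶ pullback (Limits.Sigma.map i) (Sigma.ι X j) :=
    pullback.lift (Sigma.ι X₀ j) (i j) (comm X X₀ i j)
  have hc : c ≫ pullback.fst _ _ = Sigma.ι X₀ j := pullback.lift_fst ..
  have hc2 : c ≫ pullback.snd _ _ = i j := pullback.lift_snd ..
  have h1 : IsOpenImmersion (c ≫ pullback.fst (Limits.Sigma.map i) (Sigma.ι X j)) := by
    rw [hc]; infer_instance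
  have h2 : IsOpenImmersion c := IsOpenImmersion.of_comp c (pullback.fst _ _)
  have h3 : Function.Surjective c.base := by
    intro q
    obtain ⟨j', z', hz'⟩ := exists_sigmaι X₀ ((pullback.fst (Limits.Sigma.map i) (Sigma.ι X j)).base q)
    have e1 : (Limits.Sigma.map i).base ((pullback.fst (Limits.Sigma.map i) (Sigma.ι X j)).base q) =
        (Sigma.ι X j).base ((pullback.snd (Limits.Sigma.map i) (Sigma.ι X j)).base q) := by
      rw [← Scheme.Hom.comp_apply, ← Scheme.Hom.comp_apply, pullback.condition]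
    have e2 : (Limits.Sigma.map i).base ((Sigma.ι X₀ j').base z') =
        (Sigma.ι X j').base ((i j').base z') := by
      rw [← Scheme.Hom.comp_apply, ← Scheme.Hom.comp_apply, comm]
    rw [← hz', e2] at e1
    have e3 := (sigmaι_eq_iff X j' j _ _).mp e1
    obtain rfl : j' = j := congrArg Sigma.fst e3
    refine ⟨z', ?_⟩
    apply (pullback.fst (Limits.Sigma.map i) (Sigma.ι X j')).isOpenEmbedding.injective
    rw [← Scheme.Hom.comp_apply, hc, hz']
  have h4 : IsIso c := by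
    exact (isIso_iff_isOpenImmersion_and_surjective c).mpr ⟨h2, ⟨h3⟩⟩
  exact IsPullback.of_iso_pullback ⟨comm X X₀ i j⟩ (asIso c) hc hc2

/-- transfer of the clopen-lifting property along an isomorphism over `Y`. -/
lemma transfer {P P' Y : Scheme.{u}} (e : P ≅ P') (p : P ⟶ Y) (p' : P' ⟶ Y)
    (he : e.hom ≫ p' = p)
    (H : ∀ V' : Set ↥P', IsClopen V' → ∃! U : Set ↥Y, IsClopen U ∧ p'.base ⁻¹' U = V') :
    ∀ V : Set ↥P, IsClopen V → ∃! U : Set ↥Y, IsClopen U ∧ p.base ⁻¹' U = V := by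
  intro V hV
  have hpre : ∀ U : Set ↥Y, p.base ⁻¹' U = e.hom.base ⁻¹' (p'.base ⁻¹' U) := by
    intro U; rw [← he]; rfl
  have hinv : ∀ A : Set ↥P, e.hom.base ⁻¹' (e.inv.base ⁻¹' A) = A := by
    intro A; ext x
    simp only [Set.mem_preimage, ← Scheme.Hom.comp_apply, Iso.hom_inv_id]
    rfl
  have hinv' : ∀ A : Set ↥P', e.inv.base ⁻¹' (e.hom.base ⁻¹' A) = A := by
    intro A; ext x
    simp only [Set.mem_preimage, ← Scheme.Hom.comp_apply, Iso.inv_hom_id]
    rfl
  obtain ⟨U, ⟨hU, hUV⟩, huniq⟩ := H (e.inv.base ⁻¹' V) (hV.preimage e.inv.continuous)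
  refine ⟨U, ⟨hU, ?_⟩, ?_⟩
  · rw [hpre, hUV, hinv]
  · rintro U₂ ⟨hU₂, hU₂V⟩
    apply huniq U₂ ⟨hU₂, ?_⟩
    rw [← hU₂V, hpre, hinv']

/-- topological gluing lemma -/
lemma top_glue {P Y : Type*} [TopologicalSpace P] [TopologicalSpace Y] (p : P → Y)
    {J : Type*} (Pj Yj : J → Type*) [∀ j, TopologicalSpace (Pj j)] [∀ j, TopologicalSpace (Yj j)]
    (pj : ∀ j, Pj j → Yj j) (a : ∀ j, Pj j → P) (b : ∀ j, Yj j → Y)
    (ha : ∀ j, Continuous (a j)) (hb : ∀ j, Topology.IsOpenEmbedding (b j))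
    (hcomm : ∀ j x, p (a j x) = b j (pj j x))
    (hdisj : ∀ j j' y y', b j y = b j' y' → j = j')
    (hcov : ∀ y, ∃ j y', b j y' = y)
    (hrange : ∀ j x y', p x = b j y' → ∃ x', a j x' = x)
    (H : ∀ j, ∀ V : Set (Pj j), IsClopen V → ∃! U : Set (Yj j), IsClopen U ∧ pj j ⁻¹' U = V) :
    ∀ V : Set P, IsClopen V → ∃! U : Set Y, IsClopen U ∧ p ⁻¹' U = V := by
  intro V hV
  choose U hU huniq using fun j => H j (a j ⁻¹' V) (hV.preimage (ha j))
  have key : ∀ (W : ∀ j, Set (Yj j)) j y', b j y' ∈ (⋃ j, b j '' W j) ↔ y' ∈ W j := by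
    intro W j y'
    constructor
    · intro h
      obtain ⟨j', y'', hy'', hEq⟩ := Set.mem_iUnion.mp h
      obtain rfl := hdisj _ _ _ _ hEq
      rwa [← (hb j').injective hEq]
    · intro h
      exact Set.mem_iUnion.mpr ⟨j, y', h, rfl⟩
  refine ⟨⋃ j, b j '' U j, ⟨⟨?_, ?_⟩, ?_⟩, ?_⟩
  · -- closed
    have : (⋃ j, b j '' U j)ᶜ = ⋃ j, b j '' (U j)ᶜ := by
      ext y
      obtain ⟨j, y', rfl⟩ := hcov y
      rw [Set.mem_compl_iff, key U, key (fun j => (U j)ᶜ)]
      rfl
    rw [← isOpen_compl_iff, this]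
    exact isOpen_iUnion fun j => (hb j).isOpenMap _ (hU j).1.compl.isOpen
  · exact isOpen_iUnion fun j => (hb j).isOpenMap _ (hU j).1.isOpen
  · ext x
    obtain ⟨j, y', hy'⟩ := hcov (p x)
    obtain ⟨x', rfl⟩ := hrange j x y' hy'.symm
    rw [Set.mem_preimage, hcomm, key U]
    have := (hU j).2
    constructor
    · intro h
      have : x' ∈ pj j ⁻¹' U j := h
      rw [(hU j).2] at this
      exact this
    · intro h
      have : x' ∈ a j ⁻¹' V := h
      rw [← (hU j).2] at this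
      exact this
  · rintro U' ⟨hU', hU'V⟩
    have hj : ∀ j, b j ⁻¹' U' = U j := by
      intro j
      apply huniq j
      refine ⟨hU'.preimage (hb j).continuous, ?_⟩
      ext x'
      rw [Set.mem_preimage, Set.mem_preimage, ← hcomm, Set.mem_preimage, ← hU'V]
      rfl
    ext y
    obtain ⟨j, y', rfl⟩ := hcov y
    rw [key U, ← hj j]
    rfl

lemma isClosed_range_sigmaι (j : ι) : IsClosed (Set.range (Sigma.ι X j).base) := by
  rw [← isOpen_compl_iff]
  have : (Set.range (Sigma.ι X j).base)ᶜ = ⋃ j' ∈ {j' | j' ≠ j}, Set.range (Sigma.ι X j').base := by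
    ext z
    obtain ⟨j', x, rfl⟩ := exists_sigmaι X z
    simp only [Set.mem_compl_iff, Set.mem_range, Set.mem_iUnion, Set.mem_ofPred_eq, exists_prop]
    constructor
    · intro h
      refine ⟨j', ?_, x, rfl⟩
      rintro rfl
      exact h ⟨x, rfl⟩
    · rintro ⟨j'', hne, x', hx'⟩ ⟨x'', hx''⟩
      have e1 := (sigmaι_eq_iff X _ _ _ _).mp (hx'.trans hx''.symm)
      exact hne (congrArg Sigma.fst e1)
  rw [this]
  exact isOpen_biUnion fun j' _ => (Sigma.ι X j').isOpenEmbedding.isOpen_range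

instance (j : ι) : IsClosedImmersion (Sigma.ι X j) :=
  IsClosedImmersion.of_isPreimmersion _ (isClosed_range_sigmaι X j)

/-- the big pullback square -/
lemma big (j : ι) {Y : Scheme.{u}} (g : Y ⟶ X j) :
    IsPullback (pullback.fst g (i j)) (pullback.snd g (i j) ≫ Sigma.ι X₀ j)
      (g ≫ Sigma.ι X j) (Limits.Sigma.map i) :=
  ((IsPullback.of_hasPullback g (i j)).flip.paste_horiz (isPullback_sigmaι_map X X₀ i j)).flip

theorem forward [∀ j, IsClosedImmersion (i j)]
    (H : ∀ (Y : Scheme.{u}) (g : Y ⟶ ∐ X), IsFinite g → ∀ V : Set ↥(pullback g (Limits.Sigma.map i)), IsClopen V → ∃! U : Set ↥Y, IsClopen U ∧ (pullback.fst g (Limits.Sigma.map i)).base ⁻¹' U = V) :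
    ∀ j : ι, ∀ (Y : Scheme.{u}) (g : Y ⟶ X j), IsFinite g → ∀ V : Set ↥(pullback g (i j)), IsClopen V → ∃! U : Set ↥Y, IsClopen U ∧ (pullback.fst g (i j)).base ⁻¹' U = V := by
  intro j Y g hg
  have hfin : IsFinite (g ≫ Sigma.ι X j) := inferInstance
  exact transfer (big X X₀ i j g).isoPullback (pullback.fst g (i j))
    (pullback.fst (g ≫ Sigma.ι X j) (Limits.Sigma.map i)) (big X X₀ i j g).isoPullback_hom_fst
    (H Y (g ≫ Sigma.ι X j) hfin)

section Back

variable {Y : Scheme.{u}} (g : Y ⟶ ∐ X)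

/-- the preimage of the `j`-th component -/
noncomputable def Yo (j : ι) : Y.Opens := g ⁻¹ᵁ (Sigma.ι X j).opensRange

lemma mem_Yo (j : ι) (y : Y) : y ∈ Yo X g j ↔ ∃ x, (Sigma.ι X j).base x = g.base y := Iff.rfl

lemma range_le (j : ι) :
    Set.range ((Yo X g j).ι ≫ g).base ⊆ Set.range (Sigma.ι X j).base := by
  rintro _ ⟨y, rfl⟩
  rw [Scheme.Hom.comp_apply]
  exact ((mem_Yo X g j _).mp y.2)

noncomputable def gj (j : ι) : (Yo X g j).toScheme ⟶ X j :=
  IsOpenImmersion.lift (Sigma.ι X j) ((Yo X g j).ι ≫ g) (range_le X g j)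

lemma gj_fac (j : ι) : gj X g j ≫ Sigma.ι X j = (Yo X g j).ι ≫ g :=
  IsOpenImmersion.lift_fac ..

lemma isClosed_Yo (j : ι) : IsClosed ((Yo X g j : Y.Opens) : Set Y) :=
  (isClosed_range_sigmaι X j).preimage g.continuous

instance (j : ι) : IsClosedImmersion (Yo X g j).ι :=
  IsClosedImmersion.of_isPreimmersion _ (by
    rw [Scheme.Opens.range_ι]; exact isClosed_Yo X g j)

lemma isFinite_gj [IsFinite g] (j : ι) : IsFinite (gj X g j) := by
  have : IsFinite (gj X g j ≫ Sigma.ι X j) := by rw [gj_fac]; infer_instance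
  exact IsFinite.of_comp (gj X g j) (Sigma.ι X j)

noncomputable def θ (j : ι) : pullback (gj X g j) (i j) ⟶ pullback g (Limits.Sigma.map i) :=
  pullback.lift (pullback.fst _ _ ≫ (Yo X g j).ι) (pullback.snd _ _ ≫ Sigma.ι X₀ j) (by
    rw [Category.assoc, ← gj_fac, ← Category.assoc, pullback.condition, Category.assoc,
      Category.assoc, comm])

lemma θ_fst (j : ι) : θ X X₀ i g j ≫ pullback.fst _ _ = pullback.fst _ _ ≫ (Yo X g j).ι :=
  pullback.lift_fst ..

lemma θ_snd (j : ι) : θ X X₀ i g j ≫ pullback.snd _ _ = pullback.snd _ _ ≫ Sigma.ι X₀ j :=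
  pullback.lift_snd ..

lemma sq (j : ι) : IsPullback (θ X X₀ i g j) (pullback.fst (gj X g j) (i j))
    (pullback.fst g (Limits.Sigma.map i)) (Yo X g j).ι := by
  have t : IsPullback (θ X X₀ i g j ≫ pullback.snd g (Limits.Sigma.map i))
      (pullback.fst (gj X g j) (i j)) (Limits.Sigma.map i) ((Yo X g j).ι ≫ g) := by
    rw [θ_snd, ← gj_fac]
    exact (big X X₀ i j (gj X g j)).flip
  exact IsPullback.of_right t (θ_fst X X₀ i g j) (IsPullback.of_hasPullback g (Limits.Sigma.map i)).flip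

theorem backward [∀ j, IsClosedImmersion (i j)]
    (H : ∀ j : ι, ∀ (Y : Scheme.{u}) (g : Y ⟶ X j), IsFinite g → ∀ V : Set ↥(pullback g (i j)), IsClopen V → ∃! U : Set ↥Y, IsClopen U ∧ (pullback.fst g (i j)).base ⁻¹' U = V)
    [IsFinite g] :
    ∀ V : Set ↥(pullback g (Limits.Sigma.map i)), IsClopen V → ∃! U : Set ↥Y, IsClopen U ∧ (pullback.fst g (Limits.Sigma.map i)).base ⁻¹' U = V := by
  refine top_glue (fun x => (pullback.fst g (Limits.Sigma.map i)).base x)
    (fun j => ↥(pullback (gj X g j) (i j))) (fun j => ↥(Yo X g j).toScheme)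
    (fun j x => (pullback.fst (gj X g j) (i j)).base x) (fun j x => (θ X X₀ i g j).base x)
    (fun j y => (Yo X g j).ι.base y) ?_ ?_ ?_ ?_ ?_ ?_ ?_
  · intro j; exact (θ X X₀ i g j).continuous
  · intro j; exact (Yo X g j).ι.isOpenEmbedding
  · intro j x
    change (pullback.fst g (Limits.Sigma.map i)).base ((θ X X₀ i g j).base x) =
      (Yo X g j).ι.base ((pullback.fst (gj X g j) (i j)).base x)
    rw [← Scheme.Hom.comp_apply, ← Scheme.Hom.comp_apply, θ_fst]
  · intro j j' y y' hyy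
    by_contra hne
    have h1 : g.base ((Yo X g j).ι.base y) ∈ (Sigma.ι X j).opensRange := y.2
    have h2 : g.base ((Yo X g j).ι.base y) ∈ (Sigma.ι X j').opensRange := by
      have h3 : g.base ((Yo X g j').ι.base y') ∈ (Sigma.ι X j').opensRange := y'.2
      have hyy' : (Yo X g j).ι.base y = (Yo X g j').ι.base y' := hyy
      rw [hyy']; exact h3
    exact (disjoint_opensRange_sigmaι X j j' hne).le_bot ⟨h1, h2⟩
  · intro y
    obtain ⟨j, x, hx⟩ := exists_sigmaι X (g.base y)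
    exact ⟨j, ⟨y, ⟨x, hx⟩⟩, rfl⟩
  · intro j x y' hxy
    obtain ⟨p, hp1, -⟩ := Scheme.exists_preimage_of_isPullback (sq X X₀ i g j) x y' hxy
    exact ⟨p, hp1⟩
  · intro j
    exact H j _ (gj X g j) (isFinite_gj X g j)

end Back


/-- Let (X_j) be a family of schemes indexed by a type ι, with closed immersions i_j : X_{j,0} ⟶ X_j,
and consider the induced morphism of disjoint unions ∐ X_{j,0} ⟶ ∐ X_j. Then the couple (∐ X_j, ∐
X_{j,0}) is henselian (for every finite morphism g : Y ⟶ ∐ X_j, every open-closed subset of the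
fibre product of Y with ∐ X_{j,0} is the inverse image under the first projection of exactly one
open-closed subset of Y) if and only if each couple (X_j, X_{j,0}) is henselian. -/
theorem result {ι : Type u} (X X₀ : ι → Scheme.{u})
    (i : ∀ j, X₀ j ⟶ X j) [∀ j, IsClosedImmersion (i j)] :
    (∀ (Y : Scheme.{u}) (g : Y ⟶ ∐ X), IsFinite g →
      ∀ V : Set ↥(pullback g (Limits.Sigma.map i)), IsClopen V →
        ∃! U : Set ↥Y, IsClopen U ∧ (pullback.fst g (Limits.Sigma.map i)).base ⁻¹' U = V) ↔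
    ∀ j : ι, ∀ (Y : Scheme.{u}) (g : Y ⟶ X j), IsFinite g →
      ∀ V : Set ↥(pullback g (i j)), IsClopen V →
        ∃! U : Set ↥Y, IsClopen U ∧ (pullback.fst g (i j)).base ⁻¹' U = V := by
  constructor
  · exact forward X X₀ i
  · intro H Y g hg
    exact backward X X₀ i g H

end Groth.Agent.S17964
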