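import Groth.Statements.S17969
import Mathlib.RingTheory.Polynomial.GaussLemma
import Mathlib.FieldTheory.Minpoly.Field
import Mathlib.LinearAlgebra.Matrix.Charpoly.Minpoly
import Mathlib.RingTheory.Adjoin.PowerBasis
import Mathlib.RingTheory.Localization.BaseChange
import Mathlib.LinearAlgebra.Charpoly.ToMatrix
import Mathlib.RingTheory.IntegralClosure.IsIntegralClosure.Basic

set_option autoImplicit false
universe u
open scoped TensorProduct
open CAlg

namespace Groth.Agent.S17969

open Polynomial

section

variable (A : Type u) [CommRing A] [IsDomain A]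
    (B : Type u) [CommRing B] [Algebra A B] [NoZeroSMulDivisors A B]

theorem includeRight_injective :
    Function.Injective (fun b : B => (1 : FractionRing A) ⊗ₜ[A] b) := by
  intro b b' h
  have h' : TensorProduct.mk A (FractionRing A) B 1 b = TensorProduct.mk A (FractionRing A) B 1 b' := h
  rw [IsLocalizedModule.eq_iff_exists (nonZeroDivisors A)] at h'
  obtain ⟨c, hc⟩ := h'
  have hc0 : (c : A) ≠ 0 := nonZeroDivisors.coe_ne_zero c
  exact smul_right_injective B hc0 hc

theorem adjoin_tmul_eq_top (x : B) (hx : Algebra.adjoin A {x} = ⊤) :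
    Algebra.adjoin (FractionRing A) {(1 : FractionRing A) ⊗ₜ[A] x} = ⊤ := by
  rw [eq_top_iff]
  rintro z -
  induction z using TensorProduct.induction_on with
  | zero => exact Subalgebra.zero_mem _
  | add z w hz hw => exact Subalgebra.add_mem _ hz hw
  | tmul k b =>
    have hb : b ∈ Algebra.adjoin A {x} := by rw [hx]; trivial
    rw [Algebra.adjoin_singleton_eq_range_aeval] at hb
    obtain ⟨p, rfl⟩ := hb
    change k ⊗ₜ[A] (aeval x p) ∈ _
    have h1 : k ⊗ₜ[A] (aeval x p) = k • ((1 : FractionRing A) ⊗ₜ[A] (aeval x p)) := by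
      rw [TensorProduct.smul_tmul', smul_eq_mul, mul_one]
    rw [h1]
    refine Subalgebra.smul_mem _ ?_ k
    have h2 : (1 : FractionRing A) ⊗ₜ[A] (aeval x p) =
        aeval ((1 : FractionRing A) ⊗ₜ[A] x) (p.map (algebraMap A (FractionRing A))) := by
      rw [aeval_map_algebraMap]
      exact (Polynomial.aeval_algHom_apply
        (Algebra.TensorProduct.includeRight : B →ₐ[A] (FractionRing A) ⊗[A] B) x p).symm
    rw [h2, Algebra.adjoin_singleton_eq_range_aeval]
    exact ⟨_, rfl⟩

end

/-- Let A be an integrally closed domain with fraction field K and B a commutative A-algebra which is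
finite and torsion-free as an A-module and generated as an A-algebra by a single element x. Let P be
the characteristic polynomial of multiplication by 1 ⊗ x on the finite free K-module K ⊗_A B. Then P
has coefficients in A, namely P is the image of a monic polynomial over A, and the kernel of the
A-algebra map A[T] → B sending T to x is generated by that polynomial, so that B is A[T]/(P). -/
theorem result
    (A : Type u) [CommRing A] [IsDomain A] [IsIntegrallyClosed A]
    (B : Type u) [CommRing B] [Algebra A B] [Module.Finite A B] [NoZeroSMulDivisors A B]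
    (x : B) (hx : Algebra.adjoin A {x} = ⊤) :
    ∃ P : Polynomial A, P.Monic ∧
      Polynomial.map (algebraMap A (FractionRing A)) P =
        (LinearMap.mulLeft (FractionRing A) ((1 : FractionRing A) ⊗ₜ[A] x)).charpoly ∧
      RingHom.ker (Polynomial.aeval x).toRingHom = Ideal.span {P} := by
  set K := FractionRing A with hK
  set y : K ⊗[A] B := (1 : K) ⊗ₜ[A] x with hy
  have hinj : Function.Injective (fun b : B => (1 : K) ⊗ₜ[A] b) := includeRight_injective A B
  have hadj : Algebra.adjoin K {y} = ⊤ := adjoin_tmul_eq_top A B x hx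
  have hyint : IsIntegral K y := Algebra.IsIntegral.isIntegral y
  have hKinj : Function.Injective (algebraMap A K) := IsFractionRing.injective A K
  -- charpoly = minpoly
  have hchar : (LinearMap.mulLeft K y).charpoly = minpoly K y := by
    let pb := PowerBasis.ofAdjoinEqTop hyint hadj
    have h1 := charpoly_leftMulMatrix pb
    rw [Algebra.leftMulMatrix_apply, LinearMap.charpoly_toMatrix] at h1
    have h2 : pb.gen = y := PowerBasis.ofAdjoinEqTop_gen hyint hadj
    rw [h2] at h1
    exact h1
  -- key: aeval y (map p) = 1 ⊗ aeval x p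
  have hkey : ∀ p : A[X], aeval y (p.map (algebraMap A K)) = (1 : K) ⊗ₜ[A] (aeval x p) := by
    intro p
    rw [aeval_map_algebraMap]
    exact Polynomial.aeval_algHom_apply
      (Algebra.TensorProduct.includeRight : B →ₐ[A] K ⊗[A] B) x p
  -- integrality of x
  have hxint : IsIntegral A x := Algebra.IsIntegral.isIntegral x
  obtain ⟨g, hgm, hgx⟩ := hxint
  have hgx' : aeval x g = 0 := hgx
  have hdvd : minpoly K y ∣ g.map (algebraMap A K) := by
    apply minpoly.dvd
    rw [hkey, hgx', TensorProduct.tmul_zero]
  obtain ⟨P, hP⟩ := IsIntegrallyClosed.eq_map_mul_C_of_dvd K hgm hdvd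
  rw [(minpoly.monic hyint).leadingCoeff, C_1, mul_one] at hP
  have hPm : P.Monic := Polynomial.monic_of_injective hKinj (hP ▸ minpoly.monic hyint)
  have hPx : aeval x P = 0 := by
    apply hinj
    change (1 : K) ⊗ₜ[A] (aeval x P) = (1 : K) ⊗ₜ[A] (0 : B)
    rw [← hkey, hP, minpoly.aeval, TensorProduct.tmul_zero]
  refine ⟨P, hPm, by rw [hP, hchar], ?_⟩
  ext h
  rw [RingHom.mem_ker, Ideal.mem_span_singleton]
  change aeval x h = 0 ↔ P ∣ h
  constructor
  · intro hh
    rw [← Polynomial.modByMonic_eq_zero_iff_dvd hPm]
    have hr : aeval x (h %ₘ P) = 0 := by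
      rw [Polynomial.modByMonic_eq_sub_mul_div h P, map_sub, map_mul, hh, hPx, zero_mul, sub_zero]
    have hdvd2 : minpoly K y ∣ (h %ₘ P).map (algebraMap A K) := by
      apply minpoly.dvd
      rw [hkey, hr, TensorProduct.tmul_zero]
    have hdeg : ((h %ₘ P).map (algebraMap A K)).degree < (minpoly K y).degree := by
      rw [← hP, Polynomial.degree_map_eq_of_injective hKinj, Polynomial.degree_map_eq_of_injective hKinj]
      exact Polynomial.degree_modByMonic_lt h hPm
    have h0 := Polynomial.eq_zero_of_dvd_of_degree_lt hdvd2 hdeg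
    exact (Polynomial.map_eq_zero_iff hKinj).mp h0
  · rintro ⟨q, rfl⟩
    rw [map_mul, hPx, zero_mul]

end Groth.Agent.S17969
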