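import Groth.Statements.S17970
import Groth.Agent.Lib.Helper7.ProdLocal

set_option autoImplicit false
universe u
open Hensel

namespace Groth.Agent.S17970

/-- Let A be a local ring with maximal ideal m and B a commutative A-algebra which is finitely generated
as an A-module. Then B is ring-isomorphic to a finite product of local rings if and only if every
idempotent of B/mB is the image of an idempotent of B. (Reduction modulo mB is always injective on
the idempotents of B, because mB lies in the Jacobson radical of B; so this surjectivity amounts to
the bijectivity on idempotents in the printed assertion.) -/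
theorem result
    (A : Type u) [CommRing A] [IsLocalRing A] (B : Type u) [CommRing B] [Algebra A B] [Module.Finite A B] :
    (∃ (ι : Type u) (_ : Fintype ι) (C : ι → Type u) (_ : ∀ j, CommRing (C j)),
        (∀ j, IsLocalRing (C j)) ∧ Nonempty (B ≃+* (∀ j, C j))) ↔
      Set.SurjOn (Ideal.Quotient.mk (Ideal.map (algebraMap A B) (IsLocalRing.maximalIdeal A)))
        {e : B | IsIdempotentElem e} {e | IsIdempotentElem e} := by
  constructor
  · rintro ⟨ι, _, C, _, hloc, ⟨φ⟩⟩
    intro ebar hebar
    obtain ⟨b, rfl⟩ := Ideal.Quotient.mk_surjective ebar
    obtain ⟨e', w, he', hw⟩ := Groth.Agent.Lib.Helper7.exists_idem_of_pi_local C (φ b)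
    refine ⟨φ.symm e', ?_, ?_⟩
    · change φ.symm e' * φ.symm e' = φ.symm e'
      rw [← map_mul, he'.eq]
    · rw [Ideal.Quotient.eq]
      have : φ.symm e' - b = (b * b - b) * φ.symm w := by
        apply φ.injective
        simp only [map_sub, map_mul, RingEquiv.apply_symm_apply, hw]
      rw [this]
      apply Ideal.mul_mem_right
      rw [← Ideal.Quotient.eq, map_mul]
      exact hebar
  · exact Groth.Agent.Lib.Helper7.exists_decomp_of_lift A B

end Groth.Agent.S17970
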