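import Groth.Statements.S17971
-- import your own Groth.Agent.* helpers here
import Groth.Agent.Lib.Helper58.ClopenLift
import Groth.Agent.Lib.Helper58.FEtHens
import Groth.Agent.Lib.Helper58.HensSplit

set_option autoImplicit false
open CategoryTheory CategoryTheory.Limits AlgebraicGeometry
universe u
open Hensel

namespace Groth.Agent.S17971

open Groth.Agent.Lib.Helper58.ClopenLift Groth.Agent.Lib.Helper58.HenselPair PrimeSpectrum

theorem mem_zeroLocus_map_iff {A : Type u} [CommRing A] (I : Ideal A) (B : Type u) [CommRing B]
    [Algebra A B] (x : PrimeSpectrum B) :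
    x ∈ zeroLocus (I.map (algebraMap A B) : Set B) ↔
      PrimeSpectrum.comap (algebraMap A B) x ∈ zeroLocus (I : Set A) := by
  rw [mem_zeroLocus, mem_zeroLocus, comap_asIdeal, SetLike.coe_subset_coe, SetLike.coe_subset_coe,
    Ideal.map_le_iff_le_comap]

/-- Translation of the scheme-theoretic clopen lifting condition for `Y ≅ Spec B`. -/
theorem clopen_lift_iff {A : Type u} [CommRing A] (I : Ideal A) (B : Type u) [CommRing B]
    [Algebra A B] {Y : Scheme.{u}} (g : Y ⟶ Spec (CommRingCat.of A))
    (e : Y ≅ Spec (CommRingCat.of B))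
    (he : g = e.hom ≫ Spec.map (CommRingCat.ofHom (algebraMap A B))) :
    (∀ V : Set ↥(pullback g (Spec.map (CommRingCat.ofHom (Ideal.Quotient.mk I)))), IsClopen V →
        ∃! U : Set ↥Y, IsClopen U ∧
          (pullback.fst g (Spec.map (CommRingCat.ofHom (Ideal.Quotient.mk I)))).base ⁻¹' U = V) ↔
      LiftClopen (PrimeSpectrum B) (zeroLocus (I.map (algebraMap A B) : Set B)) := by
  have hι : IsClosedImmersion (Spec.map (CommRingCat.ofHom (Ideal.Quotient.mk I))) :=
    IsClosedImmersion.spec_of_surjective _ Ideal.Quotient.mk_surjective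
  have hp : Topology.IsClosedEmbedding
      (pullback.fst g (Spec.map (CommRingCat.ofHom (Ideal.Quotient.mk I)))).base :=
    (pullback.fst g (Spec.map (CommRingCat.ofHom (Ideal.Quotient.mk I)))).isClosedEmbedding
  rw [liftClopen_range_iff hp]
  have hrange : Set.range (pullback.fst g (Spec.map (CommRingCat.ofHom (Ideal.Quotient.mk I)))).base
      = g ⁻¹' (zeroLocus (I : Set A)) := by
    rw [← Groth.Agent.Lib.Helper58.HensSplit.range_ι I]
    exact Scheme.Pullback.range_fst _ _
  rw [hrange]
  let h : Y ≃ₜ PrimeSpectrum B := Scheme.homeoOfIso e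
  have hh : ∀ y : Y, h y = e.hom y := fun y => rfl
  have himg : h '' (g ⁻¹' (zeroLocus (I : Set A))) =
      zeroLocus (I.map (algebraMap A B) : Set B) := by
    ext x
    obtain ⟨y, rfl⟩ := h.surjective x
    rw [h.injective.mem_set_image, mem_zeroLocus_map_iff, Set.mem_preimage, he]
    rfl
  constructor
  · intro H
    rw [← himg]
    exact H.of_homeomorph h
  · intro H
    rw [← himg] at H
    have := H.of_homeomorph h.symm
    rwa [← Set.image_comp, h.symm_comp_self, Set.image_id] at this

/-- For a commutative ring A and an ideal I, the pair (A, I) is henselian if and only if the couple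
(Spec A, Spec (A/I)) is henselian, i.e. if and only if for every finite morphism g : Y ⟶ Spec A
every open-closed subset of Y ×_{Spec A} Spec (A/I) is the inverse image under the first projection
of exactly one open-closed subset of Y. -/
theorem result (A : Type u) [CommRing A] (I : Ideal A) :
    HenselianRing A I ↔
    ∀ (Y : Scheme.{u}) (g : Y ⟶ Spec (CommRingCat.of A)), IsFinite g →
      ∀ V : Set ↥(pullback g (Spec.map (CommRingCat.ofHom (Ideal.Quotient.mk I)))), IsClopen V →
        ∃! U : Set ↥Y, IsClopen U ∧ (pullback.fst g (Spec.map (CommRingCat.ofHom (Ideal.Quotient.mk I)))).base ⁻¹' U = V := by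
  constructor
  · intro hH Y g hg
    have : IsAffine Y := isAffine_of_isAffineHom g
    obtain ⟨B, _, _, e, he⟩ := Groth.Agent.Lib.Helper58.FEtHens.exists_iso_Spec_of_isAffine g
    have he' : Spec.map (CommRingCat.ofHom (algebraMap A B)) = e.inv ≫ g := by
      rw [he, Iso.inv_hom_id_assoc]
    have h1 : IsFinite (Spec.map (CommRingCat.ofHom (algebraMap A B))) := by
      rw [he']; infer_instance
    have h1' : (algebraMap A B).Finite := (IsFinite.SpecMap_iff _).mp h1
    rw [RingHom.finite_algebraMap] at h1'
    have : Algebra.IsIntegral A B := Algebra.IsIntegral.of_finite A B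
    exact (clopen_lift_iff I B g e he).mpr (liftClopen_of_henselian I B)
  · intro H
    apply henselian_of_bijOn_finite
    intro B _ _ hfin
    apply bijOn_of_liftClopen I B
    refine (clopen_lift_iff I B (Spec.map (CommRingCat.ofHom (algebraMap A B))) (Iso.refl _)
      (by simp)).mp ?_
    apply H
    rw [IsFinite.SpecMap_iff]
    show (algebraMap A B).Finite
    rw [RingHom.finite_algebraMap]; exact hfin

end Groth.Agent.S17971
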