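import Groth.Statements.S17973
import Groth.Agent.Lib.Helper61.EssEtale

set_option autoImplicit false
universe u
open EGA4loc

namespace Groth.Agent.S17973

/-- Let A be a local ring, B a local ring which is a local-etale A-algebra (isomorphic over A to the
localization of an etale A-algebra at a prime ideal lying over the maximal ideal of A), and C a
local-etale B-algebra, regarded as an A-algebra through B. Then C is a local-etale A-algebra. -/
theorem result (A : Type u) [CommRing A] [IsLocalRing A]
    (B : Type u) [CommRing B] [IsLocalRing B] [Algebra A B]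
    (C : Type u) [CommRing C] [Algebra B C] [Algebra A C] [IsScalarTower A B C]
    (hB : EGA4loc.IsEssentiallyEtale A B) (hC : EGA4loc.IsEssentiallyEtale B C) :
    EGA4loc.IsEssentiallyEtale A C := by
  classical
  obtain ⟨C₁, _, _, q, _, hC₁, hq, ⟨e₁⟩⟩ := hB
  obtain ⟨C₂, _, _, q₂, _, hC₂, hq₂, ⟨e₂⟩⟩ := hC
  -- `B` as a localization of `C₁`
  let φ₁ : C₁ →ₐ[A] B := (e₁.symm : Localization.AtPrime q →ₐ[A] B).comp
    (IsScalarTower.toAlgHom A C₁ (Localization.AtPrime q))
  letI : Algebra C₁ B := φ₁.toRingHom.toAlgebra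
  haveI : IsScalarTower A C₁ B := IsScalarTower.of_algebraMap_eq fun a => (φ₁.commutes a).symm
  haveI hBloc : IsLocalization.AtPrime B q := by
    let e' : Localization.AtPrime q ≃ₐ[C₁] B :=
      AlgEquiv.ofRingEquiv (f := e₁.symm.toRingEquiv) (fun d => rfl)
    exact IsLocalization.isLocalization_of_algEquiv _ e'
  -- `C` as a localization of `C₂`
  let φ₂ : C₂ →ₐ[B] C := (e₂.symm : Localization.AtPrime q₂ →ₐ[B] C).comp
    (IsScalarTower.toAlgHom B C₂ (Localization.AtPrime q₂))
  letI : Algebra C₂ C := φ₂.toRingHom.toAlgebra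
  haveI : IsScalarTower B C₂ C := IsScalarTower.of_algebraMap_eq fun a => (φ₂.commutes a).symm
  haveI hCloc : IsLocalization.AtPrime C q₂ := by
    let e' : Localization.AtPrime q₂ ≃ₐ[C₂] C :=
      AlgEquiv.ofRingEquiv (f := e₂.symm.toRingEquiv) (fun d => rfl)
    exact IsLocalization.isLocalization_of_algEquiv _ e'
  -- auxiliary algebra structures
  letI : Algebra C₁ C₂ := ((algebraMap B C₂).comp (algebraMap C₁ B)).toAlgebra
  haveI : IsScalarTower C₁ B C₂ := IsScalarTower.of_algebraMap_eq fun a => rfl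
  letI : Algebra A C₂ := ((algebraMap B C₂).comp (algebraMap A B)).toAlgebra
  haveI : IsScalarTower A B C₂ := IsScalarTower.of_algebraMap_eq fun a => rfl
  haveI : IsScalarTower A C₁ C₂ := IsScalarTower.of_algebraMap_eq fun a => by
    rw [IsScalarTower.algebraMap_apply A B C₂, IsScalarTower.algebraMap_apply C₁ B C₂,
      ← IsScalarTower.algebraMap_apply A C₁ B]
  haveI : IsScalarTower A C₂ C := IsScalarTower.of_algebraMap_eq fun a => by
    rw [IsScalarTower.algebraMap_apply A B C, IsScalarTower.algebraMap_apply A B C₂,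
      ← IsScalarTower.algebraMap_apply B C₂ C]
  -- the model
  obtain ⟨D₀, _, _, _, _, hfp, hloc⟩ :=
    Groth.Agent.Lib.Helper61.EssEtale.exists_model C₁ q.primeCompl B C₂
  letI : Algebra A D₀ := ((algebraMap C₁ D₀).comp (algebraMap A C₁)).toAlgebra
  haveI : IsScalarTower A C₁ D₀ := IsScalarTower.of_algebraMap_eq fun a => rfl
  haveI : Algebra.FinitePresentation A C₁ := hC₁.finitePresentation
  haveI : Algebra.FinitePresentation A D₀ := Algebra.FinitePresentation.trans A C₁ D₀
  haveI : IsScalarTower A D₀ C₂ := IsScalarTower.of_algebraMap_eq fun a => by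
    rw [IsScalarTower.algebraMap_apply A C₁ D₀, ← IsScalarTower.algebraMap_apply C₁ D₀ C₂,
      ← IsScalarTower.algebraMap_apply A C₁ C₂]
  letI : Algebra D₀ C := ((algebraMap C₂ C).comp (algebraMap D₀ C₂)).toAlgebra
  haveI : IsScalarTower D₀ C₂ C := IsScalarTower.of_algebraMap_eq fun a => rfl
  haveI : IsScalarTower A D₀ C := IsScalarTower.of_algebraMap_eq fun a => by
    rw [IsScalarTower.algebraMap_apply D₀ C₂ C, ← IsScalarTower.algebraMap_apply A D₀ C₂,
      ← IsScalarTower.algebraMap_apply A C₂ C]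
  let P₀ : Ideal D₀ := q₂.comap (algebraMap D₀ C₂)
  haveI : P₀.IsPrime := Ideal.comap_isPrime _ _
  haveI : IsLocalization.AtPrime C P₀ :=
    IsLocalization.isLocalization_isLocalization_atPrime_isLocalization
      (Algebra.algebraMapSubmonoid D₀ q.primeCompl) C q₂
  -- formal étaleness
  haveI : Algebra.FormallyEtale C₁ B := Algebra.FormallyEtale.of_isLocalization q.primeCompl
  haveI : Algebra.FormallyEtale A B := Algebra.FormallyEtale.comp A C₁ B
  haveI : Algebra.FormallyEtale C₂ C := Algebra.FormallyEtale.of_isLocalization q₂.primeCompl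
  haveI : Algebra.FormallyEtale B C := Algebra.FormallyEtale.comp B C₂ C
  haveI : Algebra.FormallyEtale A C := Algebra.FormallyEtale.comp A B C
  obtain ⟨D, _, _, P, _, hD, hP, hiso⟩ :=
    Groth.Agent.Lib.Helper61.EssEtale.exists_etale_localization A D₀ C P₀
  refine ⟨D, inferInstance, inferInstance, P, inferInstance, hD, ?_, hiso⟩
  have h3 : Ideal.comap (algebraMap C₁ B) (IsLocalRing.maximalIdeal B) = q :=
    IsLocalization.AtPrime.under_maximalIdeal B q
  rw [hP, Ideal.comap_comap, ← IsScalarTower.algebraMap_eq, IsScalarTower.algebraMap_eq A B C₂,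
    ← Ideal.comap_comap, hq₂, IsScalarTower.algebraMap_eq A C₁ B, ← Ideal.comap_comap, h3, hq]

end Groth.Agent.S17973
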