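import Groth.Statements.S17974
import Mathlib.RingTheory.Unramified.Basic
import Mathlib.RingTheory.Kaehler.Basic

set_option autoImplicit false
universe u
open Unram

namespace Groth.Agent.S17974

open scoped TensorProduct

/-- Let A be a commutative ring, B an unramified A-algebra (formally unramified and of finite type), C
an A-algebra, p a prime ideal of C, and u, v : B → C two A-algebra homomorphisms which agree after
composition with C → C/p. Then there is an element f of C not in p such that u and v agree after
composition with the localization map C → C[1/f]. -/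
theorem result
    (A : Type u) [CommRing A] (B : Type u) [CommRing B] [Algebra A B]
    [Algebra.FormallyUnramified A B] [Algebra.FiniteType A B]
    (C : Type u) [CommRing C] [Algebra A C] (p : Ideal C) [p.IsPrime]
    (u v : B →ₐ[A] C)
    (huv : (Ideal.Quotient.mk p).comp u.toRingHom = (Ideal.Quotient.mk p).comp v.toRingHom) :
    ∃ f : C, f ∉ p ∧
      (algebraMap C (Localization.Away f)).comp u.toRingHom =
        (algebraMap C (Localization.Away f)).comp v.toRingHom := by
  obtain ⟨e, he, hsp⟩ : ∃ e, IsIdempotentElem e ∧
      KaehlerDifferential.ideal A B = Submodule.span (B ⊗[A] B) {e} :=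
    (Ideal.isIdempotentElem_iff_of_fg _ (KaehlerDifferential.ideal_fg A B)).mp <|
      (Ideal.cotangent_subsingleton_iff _).mp <| inferInstanceAs <| Subsingleton Ω[B⁄A]
  have huv' : ∀ b, Ideal.Quotient.mk p (u b) = Ideal.Quotient.mk p (v b) := fun b =>
    RingHom.congr_fun huv b
  let φ : B ⊗[A] B →ₐ[A] C := Algebra.TensorProduct.productMap u v
  have hφ : ∀ z : B ⊗[A] B, Ideal.Quotient.mk p (φ z) =
      Ideal.Quotient.mk p (u (Algebra.TensorProduct.lmul' A z)) := by
    intro z
    induction z using TensorProduct.induction_on with
    | zero => simp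
    | tmul x y =>
      simp only [φ, Algebra.TensorProduct.productMap_apply_tmul,
        Algebra.TensorProduct.lmul'_apply_tmul, map_mul, huv']
    | add x y hx hy => simp only [map_add, hx, hy]
  have heJ : e ∈ KaehlerDifferential.ideal A B := by
    rw [hsp]; exact Submodule.mem_span_singleton_self e
  have hep : φ e ∈ p := by
    rw [← Ideal.Quotient.eq_zero_iff_mem, hφ]
    have : Algebra.TensorProduct.lmul' A e = 0 := heJ
    rw [this, map_zero, map_zero]
  have he' : IsIdempotentElem (φ e) := he.map φ
  refine ⟨1 - φ e, ?_, ?_⟩
  · intro h
    have : (1 : C) ∈ p := by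
      have := p.add_mem h hep
      simpa using this
    exact (Ideal.IsPrime.ne_top ‹_›) ((Ideal.eq_top_iff_one p).mpr this)
  · have hloc : algebraMap C (Localization.Away (1 - φ e)) (φ e) = 0 := by
      have hu : IsUnit (algebraMap C (Localization.Away (1 - φ e)) (1 - φ e)) :=
        IsLocalization.Away.algebraMap_isUnit _
      have h0 : (1 - φ e) * φ e = 0 := by
        rw [sub_mul, one_mul, he'.eq, sub_self]
      have := congrArg (algebraMap C (Localization.Away (1 - φ e))) h0
      rw [map_mul, map_zero] at this
      exact (hu.mul_right_eq_zero).mp this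
    ext b
    have hb : (1 : B) ⊗ₜ[A] b - b ⊗ₜ[A] (1 : B) ∈ KaehlerDifferential.ideal A B :=
      KaehlerDifferential.one_smul_sub_smul_one_mem_ideal A b
    rw [hsp, Submodule.mem_span_singleton] at hb
    obtain ⟨t, ht⟩ := hb
    have h1 : v b - u b = φ t * φ e := by
      have := congrArg φ ht
      simp only [φ, smul_eq_mul, map_mul, map_sub, Algebra.TensorProduct.productMap_apply_tmul,
        map_one, one_mul, mul_one] at this
      exact this.symm
    have h2 := congrArg (algebraMap C (Localization.Away (1 - φ e))) h1
    rw [map_mul, hloc, mul_zero, map_sub, sub_eq_zero] at h2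
    exact h2.symm

end Groth.Agent.S17974
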