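import Groth.Statements.S17975
import Mathlib.RingTheory.Nakayama
import Mathlib.RingTheory.AdjoinRoot
import Mathlib.RingTheory.LocalRing.ResidueField.Basic

set_option autoImplicit false
universe u
open Hensel

namespace Groth.Agent.S17975

open Polynomial

section

variable (A : Type u) [CommRing A] [IsLocalRing A] (C : Type u) [CommRing C] [Algebra A C]
  [Module.Finite A C]
  (Q₀ : Polynomial (IsLocalRing.ResidueField A)) (hQ₀ : Q₀.Monic)
  (e : (C ⧸ Ideal.map (algebraMap A C) (IsLocalRing.maximalIdeal A)) ≃ₐ[A] AdjoinRoot Q₀)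
  (x : C)
  (hx : e (Ideal.Quotient.mk (Ideal.map (algebraMap A C) (IsLocalRing.maximalIdeal A)) x)
    = AdjoinRoot.root Q₀)

include hQ₀ hx in
theorem span_pow_eq_top :
    Submodule.span A (Set.range (fun i : Fin Q₀.natDegree => x ^ (i : ℕ))) = ⊤ := by
  refine eq_top_iff.mpr <| Submodule.le_of_le_smul_of_le_jacobson_bot
      (Module.finite_def.mp inferInstance) (IsLocalRing.maximalIdeal_le_jacobson ⊥)
      (?_ : ⊤ ≤ _ ⊔ IsLocalRing.maximalIdeal A • ⊤)
  intro c _
  let ψ : C →ₐ[A] AdjoinRoot Q₀ := e.toAlgHom.comp (Ideal.Quotient.mkₐ A _)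
  have hψx : ψ x = AdjoinRoot.root Q₀ := hx
  let pb := AdjoinRoot.powerBasis' hQ₀
  have hrepr := pb.basis.sum_repr (ψ c)
  choose a ha using fun i => IsLocalRing.residue_surjective (pb.basis.repr (ψ c) i)
  let c' : C := ∑ i : Fin Q₀.natDegree, a i • x ^ (i : ℕ)
  have hc' : ψ c' = ψ c := by
    rw [← hrepr]
    simp only [c', map_sum, map_smul, map_pow, hψx]
    refine Finset.sum_congr rfl fun i _ => ?_
    rw [← ha i, PowerBasis.coe_basis]
    change _ = (algebraMap A (IsLocalRing.ResidueField A) (a i)) • _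
    rw [algebraMap_smul]
    rfl
  rw [Ideal.smul_top_eq_map]
  refine Submodule.mem_sup.mpr ⟨c', ?_, c - c', ?_, by ring⟩
  · exact Submodule.sum_mem _ fun i _ => Submodule.smul_mem _ _ (Submodule.subset_span ⟨i, rfl⟩)
  · rw [Submodule.restrictScalars_mem, ← Ideal.Quotient.eq]
    apply e.injective
    exact hc'.symm

end

/-- Let A be a local ring with maximal ideal m and residue field k, C a commutative A-algebra which is
finitely generated as an A-module, Q₀ a monic polynomial of degree n over k, e an A-algebra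
isomorphism from C/mC to k[T]/(Q₀), and x an element of C whose class is sent by e to the class of
T. Then x generates C as an A-algebra, and x is a root of a monic polynomial Q over A of degree n
whose reduction modulo m equals Q₀. -/
theorem result
    (A : Type u) [CommRing A] [IsLocalRing A] (C : Type u) [CommRing C] [Algebra A C] [Module.Finite A C]
    (Q₀ : Polynomial (IsLocalRing.ResidueField A)) (hQ₀ : Q₀.Monic)
    (e : (C ⧸ Ideal.map (algebraMap A C) (IsLocalRing.maximalIdeal A)) ≃ₐ[A] AdjoinRoot Q₀)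
    (x : C) (hx : e (Ideal.Quotient.mk (Ideal.map (algebraMap A C) (IsLocalRing.maximalIdeal A)) x) = AdjoinRoot.root Q₀) :
    Algebra.adjoin A {x} = ⊤ ∧
      ∃ Q : Polynomial A, Q.Monic ∧ Q.natDegree = Q₀.natDegree ∧
        Polynomial.map (IsLocalRing.residue A) Q = Q₀ ∧ Polynomial.aeval x Q = 0 := by
  have hspan := span_pow_eq_top A C Q₀ hQ₀ e x hx
  constructor
  · rw [eq_top_iff]
    have : (⊤ : Submodule A C) ≤ Subalgebra.toSubmodule (Algebra.adjoin A {x}) := by
      rw [← hspan, Submodule.span_le]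
      rintro _ ⟨i, rfl⟩
      change x ^ (i : ℕ) ∈ Algebra.adjoin A {x}
      exact Subalgebra.pow_mem (Algebra.adjoin A {x}) (Algebra.subset_adjoin (Set.mem_singleton x)) _
    intro c _
    exact this (Submodule.mem_top : c ∈ (⊤ : Submodule A C))
  · have hmem : x ^ Q₀.natDegree ∈
        Submodule.span A (Set.range (fun i : Fin Q₀.natDegree => x ^ (i : ℕ))) := by
      rw [hspan]; trivial
    rw [Submodule.mem_span_range_iff_exists_fun] at hmem
    obtain ⟨a, ha⟩ := hmem
    let P : Polynomial A := ∑ i : Fin Q₀.natDegree, Polynomial.C (a i) * X ^ (i : ℕ)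
    have hPdeg : P.degree < Q₀.natDegree := by
      refine (Polynomial.degree_sum_le _ _).trans_lt ?_
      rw [Finset.sup_lt_iff (WithBot.bot_lt_coe _)]
      intro i _
      refine (Polynomial.degree_C_mul_X_pow_le _ _).trans_lt ?_
      exact_mod_cast i.2
    let Q : Polynomial A := X ^ Q₀.natDegree - P
    have hQmonic : Q.Monic := Polynomial.monic_X_pow_sub hPdeg
    have hQdeg : Q.natDegree = Q₀.natDegree := by
      apply Polynomial.natDegree_eq_of_degree_eq_some
      rw [Polynomial.degree_sub_eq_left_of_degree_lt, Polynomial.degree_X_pow]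
      rw [Polynomial.degree_X_pow]; exact hPdeg
    have hQx : Polynomial.aeval x Q = 0 := by
      simp only [Q, P, map_sub, map_pow, aeval_X, map_sum, map_mul, aeval_C]
      rw [← ha, sub_eq_zero]
      refine Finset.sum_congr rfl fun i _ => ?_
      rw [Algebra.smul_def]
    refine ⟨Q, hQmonic, hQdeg, ?_, hQx⟩
    let ψ : C →ₐ[A] AdjoinRoot Q₀ := e.toAlgHom.comp (Ideal.Quotient.mkₐ A _)
    have hψx : ψ x = AdjoinRoot.root Q₀ := hx
    have h1 : Polynomial.aeval (AdjoinRoot.root Q₀) Q = 0 := by
      rw [← hψx, Polynomial.aeval_algHom_apply, hQx, map_zero]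
    have h2 : AdjoinRoot.mk Q₀ (Polynomial.map (IsLocalRing.residue A) Q) = 0 := by
      rw [← AdjoinRoot.aeval_eq]
      change Polynomial.aeval (AdjoinRoot.root Q₀)
        (Polynomial.map (algebraMap A (IsLocalRing.ResidueField A)) Q) = 0
      rw [Polynomial.aeval_map_algebraMap]
      exact h1
    rw [AdjoinRoot.mk_eq_zero] at h2
    have hQ'monic : (Polynomial.map (IsLocalRing.residue A) Q).Monic := hQmonic.map _
    have hQ'deg : (Polynomial.map (IsLocalRing.residue A) Q).natDegree = Q₀.natDegree := by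
      rw [hQmonic.natDegree_map, hQdeg]
    exact Polynomial.eq_of_monic_of_dvd_of_natDegree_le hQ₀ hQ'monic h2 hQ'deg.le

end Groth.Agent.S17975
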