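import Groth.Statements.S17977
import Mathlib
-- import your own Groth.Agent.* helpers here

set_option autoImplicit false
universe u
open EGA4loc

namespace Groth.Agent.S17977

/-- Let A be a local ring, B a local ring which is a local-etale A-algebra, and C a local ring with a
local structure map A → C. Then every A-algebra homomorphism B → C is local. (The source states this
for local ind-etale B, i.e. filtered colimits of local-etale algebras along local maps, and reduces
at once to the local-etale case stated here.) -/
theorem result (A : Type u) [CommRing A] [IsLocalRing A]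
    (B : Type u) [CommRing B] [IsLocalRing B] [Algebra A B] (hB : EGA4loc.IsEssentiallyEtale A B)
    (C : Type u) [CommRing C] [IsLocalRing C] [Algebra A C] [IsLocalHom (algebraMap A C)]
    (φ : B →ₐ[A] C) : IsLocalHom φ.toRingHom := by
  obtain ⟨C₀, _, _, q, _, hét, hq, ⟨e⟩⟩ := hB
  let L := Localization.AtPrime q
  have hloc : IsLocalHom (algebraMap A L) := by
    constructor
    intro a ha
    rw [IsScalarTower.algebraMap_apply A C₀ L, IsLocalization.AtPrime.isUnit_to_map_iff L q] at ha
    have : a ∉ IsLocalRing.maximalIdeal A := by
      rw [← hq]
      exact ha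
    simpa using this
  have : Algebra.FormallyUnramified A C₀ := inferInstance
  have : Algebra.FormallyUnramified C₀ L := Algebra.FormallyUnramified.of_isLocalization q.primeCompl
  have : Algebra.FormallyUnramified A L := Algebra.FormallyUnramified.comp A C₀ L
  have : Algebra.EssFiniteType C₀ L := Algebra.EssFiniteType.of_isLocalization L q.primeCompl
  have : Algebra.EssFiniteType A L := Algebra.EssFiniteType.comp A C₀ L
  have hmax : (IsLocalRing.maximalIdeal A).map (algebraMap A L) = IsLocalRing.maximalIdeal L :=
    Algebra.FormallyUnramified.map_maximalIdeal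
  let φ' : L →ₐ[A] C := φ.comp e.symm.toAlgHom
  have hφ' : ∀ l ∈ IsLocalRing.maximalIdeal L, φ' l ∈ IsLocalRing.maximalIdeal C := by
    intro l hl
    rw [← hmax] at hl
    have : (IsLocalRing.maximalIdeal A).map (algebraMap A L) ≤
        (IsLocalRing.maximalIdeal C).comap φ'.toRingHom := by
      rw [Ideal.map_le_iff_le_comap]
      intro a ha
      simp only [Ideal.mem_comap, AlgHom.toRingHom_eq_coe, RingHom.coe_coe, AlgHom.commutes]
      exact ((IsLocalRing.local_hom_TFAE (algebraMap A C)).out 0 2 rfl rfl).mp inferInstance
        (Ideal.mem_map_of_mem _ ha)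
    exact this hl
  constructor
  intro b hb
  by_contra hnu
  have h1 : e b ∈ IsLocalRing.maximalIdeal L := by
    rw [IsLocalRing.mem_maximalIdeal, mem_nonunits_iff]
    intro hu
    apply hnu
    have := hu.map e.symm
    simpa using this
  have h2 := hφ' (e b) h1
  have h3 : φ' (e b) = φ b := by simp [φ']
  rw [h3, IsLocalRing.mem_maximalIdeal, mem_nonunits_iff] at h2
  exact h2 hb

end Groth.Agent.S17977
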