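import Groth.Statements.S17978
import Mathlib
-- import your own Groth.Agent.* helpers here

set_option autoImplicit false
universe u
open EGA4loc

namespace Groth.Agent.S17978

open TensorProduct in
theorem aux (A L C : Type u) [CommRing A] [CommRing L] [Algebra A L] [Algebra.EssFiniteType A L]
    [Algebra.FormallyUnramified A L] [CommRing C] [IsLocalRing C] [Algebra A C]
    (u v : L →ₐ[A] C) (h : ∀ s, v s - u s ∈ IsLocalRing.maximalIdeal C) : u = v := by
  obtain ⟨e, he, hsp⟩ : ∃ e, IsIdempotentElem e ∧
      KaehlerDifferential.ideal A L = Ideal.span {e} :=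
    (Ideal.isIdempotentElem_iff_of_fg _ (KaehlerDifferential.ideal_fg A L)).mp <|
      (Ideal.cotangent_subsingleton_iff _).mp <| inferInstanceAs <| Subsingleton Ω[L⁄A]
  let w : L ⊗[A] L →ₐ[A] C := Algebra.TensorProduct.productMap u v
  have hw1 : ∀ s : L, w ((1 : L) ⊗ₜ[A] s - s ⊗ₜ[A] (1 : L)) = v s - u s := by
    intro s
    simp [w]
  have hw : ∀ x ∈ KaehlerDifferential.ideal A L, w x ∈ IsLocalRing.maximalIdeal C := by
    rw [← KaehlerDifferential.span_range_eq_ideal]
    intro x hx
    have hle : Ideal.span (Set.range fun s : L => (1 : L) ⊗ₜ[A] s - s ⊗ₜ[A] (1 : L)) ≤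
        (IsLocalRing.maximalIdeal C).comap w.toRingHom := by
      rw [Ideal.span_le]
      rintro _ ⟨s, rfl⟩
      change w ((1 : L) ⊗ₜ[A] s - s ⊗ₜ[A] (1 : L)) ∈ IsLocalRing.maximalIdeal C
      rw [hw1]
      exact h s
    exact hle hx
  have hwe : w e = 0 := by
    have h1 : w e ∈ IsLocalRing.maximalIdeal C :=
      hw e (hsp ▸ Ideal.mem_span_singleton_self e)
    have h2 : IsUnit (1 - w e) := IsLocalRing.isUnit_one_sub_self_of_mem_nonunits _ h1
    have h3 : w e * (1 - w e) = 0 := by
      rw [mul_sub, mul_one, ← map_mul, he.eq, sub_self]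
    exact (h2.mul_left_eq_zero).mp h3
  ext s
  have hs : (1 : L) ⊗ₜ[A] s - s ⊗ₜ[A] (1 : L) ∈ KaehlerDifferential.ideal A L :=
    KaehlerDifferential.one_smul_sub_smul_one_mem_ideal A s
  rw [hsp, Ideal.mem_span_singleton'] at hs
  obtain ⟨t, ht⟩ := hs
  have h4 := congrArg w ht
  rw [map_mul, hwe, mul_zero, hw1] at h4
  exact (sub_eq_zero.mp h4.symm).symm


/-- Let A be a local ring, B a local ring which is a local-etale A-algebra, and C a local ring with a
local structure map A → C. Then two A-algebra homomorphisms B → C which agree after composition with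
the residue map of C are equal; in other words an A-algebra map B → C is determined by the map it
induces on residue fields. (The source states this for local ind-etale B and reduces to the
local-etale case stated here; C is an arbitrary local A-algebra with local structure map.) -/
theorem result (A : Type u) [CommRing A] [IsLocalRing A]
    (B : Type u) [CommRing B] [IsLocalRing B] [Algebra A B] (hB : EGA4loc.IsEssentiallyEtale A B)
    (C : Type u) [CommRing C] [IsLocalRing C] [Algebra A C] [IsLocalHom (algebraMap A C)]
    (u v : B →ₐ[A] C)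
    (h : (IsLocalRing.residue C).comp u.toRingHom = (IsLocalRing.residue C).comp v.toRingHom) :
    u = v := by
  obtain ⟨C1, _, _, q, _, hEt, hq, ⟨e⟩⟩ := hB
  have key : u.comp e.symm.toAlgHom = v.comp e.symm.toAlgHom := by
    apply aux
    intro s
    have := RingHom.congr_fun h (e.symm s)
    simp only [RingHom.comp_apply] at this
    rw [← Ideal.Quotient.eq_zero_iff_mem]
    change IsLocalRing.residue C _ = 0
    rw [map_sub, sub_eq_zero]
    exact this.symm
  ext b
  have := AlgHom.congr_fun key (e b)
  simpa using this

end Groth.Agent.S17978
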