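import Groth.Statements.S17979
import Mathlib.RingTheory.Polynomial.Resultant.Basic

set_option autoImplicit false
universe u
open Hensel

namespace Groth.Agent.S17979

/-- Let A be a local ring with residue field k and Q, R polynomials over A with Q monic. If the images
of Q and R in k[T] generate the unit ideal, then Q and R already generate the unit ideal of A[T]. -/
theorem result (A : Type u) [CommRing A] [IsLocalRing A]
    (Q R : Polynomial A) (hQ : Q.Monic)
    (h : IsCoprime (Polynomial.map (IsLocalRing.residue A) Q) (Polynomial.map (IsLocalRing.residue A) R)) :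
    IsCoprime Q R := by
  rw [← Polynomial.isUnit_resultant_iff_isCoprime hQ]
  have hQ' : (Polynomial.map (IsLocalRing.residue A) Q).Monic := hQ.map _
  rw [← Polynomial.isUnit_resultant_iff_isCoprime hQ'] at h
  apply isUnit_of_map_unit (IsLocalRing.residue A)
  rw [← Polynomial.resultant_map_map]
  have hdeg : (Polynomial.map (IsLocalRing.residue A) Q).natDegree = Q.natDegree :=
    hQ.natDegree_map _
  obtain ⟨k, hk⟩ := Nat.exists_eq_add_of_le (Polynomial.natDegree_map_le (f := IsLocalRing.residue A) (p := R))
  rw [hk, Polynomial.resultant_add_right_deg _ _ _ _ _ le_rfl, ← hdeg]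
  rw [Polynomial.coeff_natDegree, hQ'.leadingCoeff, one_pow, one_mul]
  exact h

end Groth.Agent.S17979
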