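import Groth.Statements.S17981
import Mathlib.RingTheory.Jacobson.Ideal
import Mathlib.RingTheory.Ideal.GoingUp
import Mathlib.RingTheory.IntegralClosure.IsIntegralClosure.Basic

set_option autoImplicit false
universe u
open Hensel

namespace Groth.Agent.S17981

theorem map_le_jacobson_bot (A : Type u) [CommRing A] (I : Ideal A)
    (hI : I ≤ Ideal.jacobson ⊥) (B : Type u) [CommRing B] [Algebra A B] [Module.Finite A B] :
    Ideal.map (algebraMap A B) I ≤ Ideal.jacobson ⊥ := by
  rw [Ideal.map_le_iff_le_comap]
  intro a ha
  rw [Ideal.mem_comap, Ideal.jacobson, Ideal.mem_sInf]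
  rintro n ⟨_, hn⟩
  have := hn
  have hmax : (n.comap (algebraMap A B)).IsMaximal :=
    Ideal.isMaximal_comap_of_isIntegral_of_isMaximal n
  have h1 := hI ha
  rw [Ideal.jacobson, Ideal.mem_sInf] at h1
  exact h1 ⟨bot_le, hmax⟩

/-- Let A be a commutative ring, I an ideal contained in the Jacobson radical of A, and B a commutative
A-algebra which is finitely generated as an A-module. Then two idempotents of B with the same image
in B/IB are equal. -/
theorem result (A : Type u) [CommRing A] (I : Ideal A)
    (hI : I ≤ Ideal.jacobson ⊥) (B : Type u) [CommRing B] [Algebra A B] [Module.Finite A B] :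
    Set.InjOn (Ideal.Quotient.mk (Ideal.map (algebraMap A B) I)) {e : B | IsIdempotentElem e} := by
  intro e he e' he' heq
  have hx : e - e' ∈ I.map (algebraMap A B) := Ideal.Quotient.eq.mp heq
  have hJ := map_le_jacobson_bot A I hI B
  have h1 : e * e = e := he
  have h2 : e' * e' = e' := he'
  have hx3 : (e - e') * ((e - e') * (-(e - e')) + 1) = 0 := by
    linear_combination (-(e + 1 - 3*e')) * h1 + (-(3*e - e' - 1)) * h2
  have hu : IsUnit ((e - e') * (-(e - e')) + 1) := Ideal.mem_jacobson_bot.mp (hJ hx) _
  have : e - e' = 0 := by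
    rcases hu.exists_right_inv with ⟨v, hv⟩
    calc e - e' = (e - e') * (((e - e') * (-(e - e')) + 1) * v) := by rw [hv, mul_one]
      _ = ((e - e') * ((e - e') * (-(e - e')) + 1)) * v := by ring
      _ = 0 := by rw [hx3, zero_mul]
  exact sub_eq_zero.mp this

end Groth.Agent.S17981
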