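import Mathlib
-- Template for statement S17988 (row 17987; see the milestone table for weights).
-- Copy to Groth/Agent/S17988.lean and replace the sorry. The statement below is byte-identical to the frozen
-- statement CAlg.GrothFrozen.S17988 (Groth/Statements/S17988.lean; the theorem CAlg.dualEval_injective_iff_free_of_finite_free_reduced_algebra);
-- the grader kernel-checks Groth.Agent.S17988.result against that frozen type. Keep the theorem IN THIS FILE
-- (a `result` declared elsewhere and merely imported here is not credited); helpers may live anywhere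
-- under Groth/Agent/.
import Groth.Statements.S17988
import Groth.Agent.Lib.Helper4.GorGlobal
import Groth.Agent.Lib.Helper67.Depth

set_option autoImplicit false
universe u
section Helpers
open CategoryTheory CategoryTheory.Abelian nonZeroDivisors
namespace Groth.Agent.S17988
open Groth.Agent.Lib.Helper67

section L1
variable {S : Type u} [CommRing S]

/-- extension of functionals along an injective map whose cokernel has vanishing `Ext¹(-, S)` -/
theorem exists_extension {X₁ X₂ X₃ : Type u} [AddCommGroup X₁] [Module S X₁] [AddCommGroup X₂]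
    [Module S X₂] [AddCommGroup X₃] [Module S X₃] (i : X₁ →ₗ[S] X₂) (p : X₂ →ₗ[S] X₃)
    (hi : Function.Injective i) (hp : Function.Surjective p) (hex : Function.Exact i p)
    (h : Subsingleton (Ext (ModuleCat.of S X₃) (ModuleCat.of S S) 1)) (g : X₁ →ₗ[S] S) :
    ∃ f : X₂ →ₗ[S] S, f ∘ₗ i = g := by
  have hS := shortExact_of_linearMaps X₁ X₂ X₃ i p hi hp hex
  have h' : Subsingleton (Ext (ShortComplex.mk (ModuleCat.ofHom i) (ModuleCat.ofHom p)
      (by ext x; simpa using hex.apply_apply_eq_zero x)).X₃ (ModuleCat.of S S) 1) := h
  obtain ⟨y, hy⟩ := Ext.contravariant_sequence_exact₁ hS (ModuleCat.of S S)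
    (Ext.mk₀ (ModuleCat.ofHom g)) (n₁ := 1) rfl (Subsingleton.elim _ _)
  obtain ⟨ψ, rfl⟩ := (Ext.mk₀_bijective _ _).2 y
  rw [Ext.mk₀_comp_mk₀] at hy
  have hy' := (Ext.mk₀_bijective _ _).1 hy
  refine ⟨ψ.hom, ?_⟩
  ext x
  have := congrArg (fun t => t.hom x) hy'
  exact this

end L1

section L2

variable {Λ S : Type u} [CommRing Λ] [IsDomain Λ] [IsPrincipalIdealRing Λ] [CommRing S]
  [Algebra Λ S] [Module.Finite Λ S]

theorem ext_one_subsingleton (hΛ : ¬ IsField Λ)
    (hinj : HasInjectiveDimensionLT (ModuleCat.of S S) 2)
    (X : Type u) [AddCommGroup X] [Module S X] [Module.Finite S X]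
    (hX : ∀ l : Λ, l ≠ 0 → IsSMulRegular X (algebraMap Λ S l)) :
    Subsingleton (Ext (ModuleCat.of S X) (ModuleCat.of S S) 1) := by
  have hnoeth : IsNoetherianRing S := Algebra.FiniteType.isNoetherianRing Λ S
  have hfin : Module.Finite S (ModuleCat.of S S) := inferInstanceAs (Module.Finite S S)
  have hfinE : Module.Finite S (Ext (ModuleCat.of S X) (ModuleCat.of S S) 1) :=
    ModuleCat.finite_ext S _ _ 1
  have hsurj : ∀ l : Λ, l ≠ 0 → ∀ α : Ext (ModuleCat.of S X) (ModuleCat.of S S) 1,
      ∃ β : Ext (ModuleCat.of S X) (ModuleCat.of S S) 1, algebraMap Λ S l • β = α := by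
    intro l hl α
    have hreg := hX l hl
    have hS := IsSMulRegular.smulShortComplex_shortExact (M := ModuleCat.of S X) hreg
    have hQ : Subsingleton (Ext ((ModuleCat.of S X).smulShortComplex (algebraMap Λ S l)).X₃
        (ModuleCat.of S S) 2) :=
      HasInjectiveDimensionLT.subsingleton (ModuleCat.of S S) 2 2 le_rfl _
    obtain ⟨β, hβ⟩ : ∃ β : Ext (ModuleCat.of S X) (ModuleCat.of S S) 1,
        (Ext.mk₀ (algebraMap Λ S l • 𝟙 (ModuleCat.of S X))).comp β (zero_add 1) = α :=
      Ext.contravariant_sequence_exact₁ hS (ModuleCat.of S S) α (n₁ := 2) rfl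
        (Subsingleton.elim _ _)
    refine ⟨β, ?_⟩
    rw [← hβ, Ext.mk₀_smul, Ext.smul_comp, Ext.mk₀_id_comp]
  obtain ⟨π, hπ0, hπu⟩ : ∃ π : Λ, π ≠ 0 ∧ ¬ IsUnit π := by
    by_contra h
    push Not at h
    exact hΛ ⟨exists_pair_ne Λ, mul_comm, fun {a} ha => (h a ha).exists_right_inv⟩
  letI : Module Λ (Ext (ModuleCat.of S X) (ModuleCat.of S S) 1) :=
    Module.compHom _ (algebraMap Λ S)
  haveI : IsScalarTower Λ S (Ext (ModuleCat.of S X) (ModuleCat.of S S) 1) :=
    IsScalarTower.of_algebraMap_smul fun _ _ => rfl
  haveI : Module.Finite Λ (Ext (ModuleCat.of S X) (ModuleCat.of S S) 1) :=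
    Module.Finite.trans S _
  have htop : (⊤ : Submodule Λ (Ext (ModuleCat.of S X) (ModuleCat.of S S) 1)) ≤
      Ideal.span {π} • ⊤ := by
    intro α _
    obtain ⟨β, rfl⟩ := hsurj π hπ0 α
    exact Submodule.smul_mem_smul (Ideal.mem_span_singleton_self π) trivial
  obtain ⟨r, hr1, hr0⟩ := Submodule.exists_sub_one_mem_and_smul_eq_zero_of_fg_of_le_smul
    (Ideal.span {π}) ⊤ Module.Finite.fg_top htop
  have hrne : r ≠ 0 := by
    rintro rfl
    apply hπu
    rw [zero_sub, neg_mem_iff, Ideal.mem_span_singleton'] at hr1
    obtain ⟨a, ha⟩ := hr1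
    exact IsUnit.of_mul_eq_one a (by rw [mul_comm]; exact ha)
  refine ⟨fun a b => ?_⟩
  obtain ⟨a', rfl⟩ := hsurj r hrne a
  obtain ⟨b', rfl⟩ := hsurj r hrne b
  have ha := hr0 a' trivial
  have hb := hr0 b' trivial
  change algebraMap Λ S r • a' = 0 at ha
  change algebraMap Λ S r • b' = 0 at hb
  rw [ha, hb]

end L2


section L3
variable {Λ S : Type u} [CommRing Λ] [IsDomain Λ] [CommRing S]
  [Algebra Λ S] [Module.Finite Λ S] [Module.IsTorsionFree Λ S] [IsReduced S]
  (M : Type u) [AddCommGroup M] [Module S M] [Module Λ M] [IsScalarTower Λ S M] [Module.Finite S M]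

theorem eval_injective_of_torsionFree [Module.IsTorsionFree Λ M] :
    Function.Injective (Module.Dual.eval S M) := by
  classical
  let T : Submonoid S := Algebra.algebraMapSubmonoid S Λ⁰
  -- `T` consists of non-zero-divisors
  have hT : T ≤ S⁰ := by
    rintro _ ⟨l, hl, rfl⟩
    rw [mem_nonZeroDivisors_iff_right]
    intro x hx
    have h1 : l • x = 0 := by rw [Algebra.smul_def, mul_comm]; exact hx
    exact (smul_eq_zero.mp h1).resolve_left (nonZeroDivisors.ne_zero hl)
  have hinjS : Function.Injective (algebraMap S (Localization T)) :=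
    IsLocalization.injective _ hT
  -- the localization is semisimple
  have hart : IsArtinianRing (Localization T) :=
    IsArtinianRing.of_finite (FractionRing Λ) (Localization T)
  have hss : IsSemisimpleRing (Localization T) := IsArtinianRing.isSemisimpleRing_of_isReduced _
  have hproj : Module.Projective (Localization T) (LocalizedModule T M) :=
    Module.projective_of_isSemisimpleRing _ _
  have hevalinj : Function.Injective (Module.Dual.eval (Localization T) (LocalizedModule T M)) :=
    (Module.IsReflexive.bijective_dual_eval' (R := Localization T)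
      (M := LocalizedModule T M)).1
  rw [injective_iff_map_eq_zero]
  intro m hm
  by_contra hm0
  -- image of `m` in the localization is nonzero
  have hm' : LocalizedModule.mkLinearMap T M m ≠ 0 := by
    intro h0
    rw [LocalizedModule.mkLinearMap_apply, ← LocalizedModule.zero_mk 1, LocalizedModule.mk_eq] at h0
    obtain ⟨⟨_, l, hl, rfl⟩, hu⟩ := h0
    simp only [one_smul, smul_zero] at hu
    have h1 : l • m = 0 := by
      rw [← algebraMap_smul S l m]
      exact hu
    exact hm0 ((smul_eq_zero.mp h1).resolve_left (nonZeroDivisors.ne_zero hl))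
  -- a functional on the localization not vanishing on it
  obtain ⟨ψ, hψ⟩ : ∃ ψ : Module.Dual (Localization T) (LocalizedModule T M),
      ψ (LocalizedModule.mkLinearMap T M m) ≠ 0 := by
    by_contra h
    push Not at h
    apply hm'
    apply hevalinj
    ext ψ
    simpa using h ψ
  let ψ₀ : M →ₗ[S] Localization T :=
    (ψ.restrictScalars S) ∘ₗ LocalizedModule.mkLinearMap T M
  -- clear denominators
  obtain ⟨s, hs⟩ := (Module.Finite.fg_top : (⊤ : Submodule S M).FG)
  obtain ⟨b, hb⟩ := IsLocalization.exist_integer_multiples T s ψ₀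
  have hrange : ∀ x : M, (b : S) • ψ₀ x ∈ LinearMap.range (Algebra.linearMap S (Localization T)) := by
    intro x
    have hx : x ∈ Submodule.span S (s : Set M) := by rw [hs]; trivial
    refine Submodule.span_induction ?_ ?_ ?_ ?_ hx
    · intro y hy
      obtain ⟨z, hz⟩ := hb y hy
      exact ⟨z, hz⟩
    · rw [map_zero, smul_zero]; exact zero_mem _
    · intro y z _ _ hy hz; rw [map_add, smul_add]; exact add_mem hy hz
    · intro c y _ hy
      rw [map_smul, smul_comm]
      exact Submodule.smul_mem _ c hy
  let e := LinearEquiv.ofInjective (Algebra.linearMap S (Localization T)) hinjS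
  let φ : M →ₗ[S] S := e.symm.toLinearMap ∘ₗ
    LinearMap.codRestrict (LinearMap.range (Algebra.linearMap S (Localization T)))
      ((b : S) • ψ₀) hrange
  have hφ : ∀ x, algebraMap S (Localization T) (φ x) = (b : S) • ψ₀ x := by
    intro x
    have h1 : (e (φ x) : Localization T) = (b : S) • ψ₀ x := by
      simp only [φ, LinearMap.comp_apply, LinearEquiv.coe_coe, LinearEquiv.apply_symm_apply]
      rfl
    exact h1
  have h2 : φ m = 0 := by
    have := congrArg (fun t => t φ) hm
    simpa using this
  have h3 : (b : S) • ψ₀ m = 0 := by rw [← hφ, h2, map_zero]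
  have hunit : IsUnit (algebraMap S (Localization T) (b : S)) := IsLocalization.map_units _ b
  rw [Algebra.smul_def] at h3
  exact hψ (hunit.mul_right_eq_zero.mp h3)

end L3


section Main

/-- surjectivity of the evaluation map, non-field Gorenstein case -/
theorem eval_surjective (Λ : Type u) [CommRing Λ] [IsDomain Λ] [IsPrincipalIdealRing Λ]
    (S : Type u) [CommRing S] [Algebra Λ S] [Module.Finite Λ S] [Module.Free Λ S]
    (M : Type u) [AddCommGroup M] [Module S M] [Module Λ M] [IsScalarTower Λ S M] [Module.Finite S M]
    [LocCoh.IsGorensteinRing S] [Module.Free Λ M] (hΛ : ¬ IsField Λ) :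
    Function.Surjective (Module.Dual.eval S M) := by
  have hnoeth : IsNoetherianRing S := Algebra.FiniteType.isNoetherianRing Λ S
  -- dimension
  have hdim : ringKrullDim S ≤ 1 := by
    have h1 : ringKrullDim S ≤ ringKrullDim Λ := by
      refine Order.krullDim_le_of_strictMono (PrimeSpectrum.comap (algebraMap Λ S)) ?_
      intro p q hpq
      rw [← PrimeSpectrum.asIdeal_lt_asIdeal] at hpq ⊢
      exact Ideal.IsIntegral.comap_lt_comap hpq
    have h2 : ringKrullDim Λ ≤ 1 := Ring.krullDimLE_iff.mp inferInstance
    exact h1.trans h2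
  have hinj : HasInjectiveDimensionLT (ModuleCat.of S S) 2 :=
    Groth.Agent.Lib.Helper4.GorGlobal.hasInjectiveDimensionLE_of_isGorensteinRing S 1
      (by exact_mod_cast hdim)
  -- presentation
  obtain ⟨n, p, hp⟩ := Module.Finite.exists_fin' S M
  let N := LinearMap.ker p
  let i : N →ₗ[S] (Fin n → S) := N.subtype
  have hi : Function.Injective i := Submodule.subtype_injective _
  have hex : Function.Exact i p := LinearMap.exact_subtype_ker_map p
  -- regularity
  have hregM : ∀ l : Λ, l ≠ 0 → IsSMulRegular M (algebraMap Λ S l) := by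
    intro l hl x y hxy
    have : l • x = l • y := by
      rw [← algebraMap_smul S l x, ← algebraMap_smul S l y]; exact hxy
    exact smul_right_injective M hl this
  have hregD : ∀ l : Λ, l ≠ 0 → IsSMulRegular (Module.Dual S N) (algebraMap Λ S l) := by
    intro l hl φ φ' h
    ext x
    have h1 := congrArg (fun t => t x) h
    simp only [LinearMap.smul_apply, smul_eq_mul] at h1
    have h2 : l • φ x = l • φ' x := by rw [Algebra.smul_def, Algebra.smul_def]; exact h1
    exact smul_right_injective S hl h2
  have hE1 := ext_one_subsingleton hΛ hinj M hregM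
  have hE2 := ext_one_subsingleton hΛ hinj (Module.Dual S N) hregD
  -- dual sequence
  have hsurj_i : Function.Surjective i.dualMap := by
    intro g
    obtain ⟨f, hf⟩ := exists_extension i p hi hp hex hE1 g
    exact ⟨f, hf⟩
  have hinj_p : Function.Injective p.dualMap := LinearMap.dualMap_injective_of_surjective hp
  have hex' : Function.Exact p.dualMap i.dualMap := by
    intro φ
    constructor
    · intro hφ
      -- φ ∘ i = 0, so φ factors through p
      have hker : LinearMap.ker p ≤ LinearMap.ker φ := by
        intro x hx
        have h0 : i.dualMap φ ⟨x, hx⟩ = 0 := by rw [hφ]; rfl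
        exact h0
      refine ⟨(LinearMap.ker p).liftQ φ hker ∘ₗ (p.quotKerEquivOfSurjective hp).symm.toLinearMap, ?_⟩
      refine LinearMap.ext fun x => ?_
      simp only [LinearMap.dualMap_apply, LinearMap.comp_apply, LinearEquiv.coe_coe]
      have : (p.quotKerEquivOfSurjective hp).symm (p x) = Submodule.Quotient.mk x := by
        rw [LinearEquiv.symm_apply_eq]; rfl
      rw [this]; rfl
    · rintro ⟨ψ, rfl⟩
      refine LinearMap.ext fun x => ?_
      simp only [LinearMap.dualMap_apply, LinearMap.zero_apply]
      have : p (i x) = 0 := x.2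
      rw [this, map_zero]
  intro ξ
  obtain ⟨ζ, hζ⟩ := exists_extension p.dualMap i.dualMap hinj_p hsurj_i hex' hE2 ξ
  obtain ⟨v, rfl⟩ := (Module.IsReflexive.bijective_dual_eval' (R := S) (M := Fin n → S)).2 ζ
  refine ⟨p v, ?_⟩
  rw [← hζ]
  ext φ
  simp

theorem main (Λ : Type u) [CommRing Λ] [IsDomain Λ] [IsPrincipalIdealRing Λ]
    (S : Type u) [CommRing S] [Algebra Λ S] [Module.Finite Λ S] [Module.Free Λ S] [IsReduced S]
    (M : Type u) [AddCommGroup M] [Module S M] [Module Λ M] [IsScalarTower Λ S M] [Module.Finite S M] :
    (Function.Injective (Module.Dual.eval S M) ↔ Module.Free Λ M) ∧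
      (LocCoh.IsGorensteinRing S → (Module.IsReflexive S M ↔ Module.Free Λ M)) := by
  have hfinM : Module.Finite Λ M := Module.Finite.trans S M
  have part1 : Function.Injective (Module.Dual.eval S M) ↔ Module.Free Λ M := by
    constructor
    · intro h
      have : Module.IsTorsionFree Λ M := by
        apply Module.IsTorsionFree.of_smul_eq_zero
        intro l m hlm
        by_cases hl : l = 0
        · exact Or.inl hl
        right
        apply h
        ext φ
        have h1 : l • φ m = 0 := by
          rw [← algebraMap_smul S l (φ m), ← map_smul, algebraMap_smul, hlm, map_zero]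
        simpa using (smul_eq_zero.mp h1).resolve_left hl
      infer_instance
    · intro h
      exact eval_injective_of_torsionFree (Λ := Λ) M
  refine ⟨part1, fun hG => ?_⟩
  constructor
  · intro hr
    exact part1.mp hr.bijective_dual_eval'.1
  · intro hfree
    by_cases hΛ : IsField Λ
    · letI := hΛ.toField
      have hart : IsArtinianRing S := IsArtinianRing.of_finite Λ S
      have hss : IsSemisimpleRing S := IsArtinianRing.isSemisimpleRing_of_isReduced _
      have hproj : Module.Projective S M := Module.projective_of_isSemisimpleRing _ _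
      infer_instance
    · exact ⟨⟨part1.mpr hfree, eval_surjective Λ S M hΛ⟩⟩

end Main


end Groth.Agent.S17988
end Helpers

open CAlg

namespace Groth.Agent.S17988

/-- Let Λ be a principal ideal domain and S a commutative Λ-algebra which is finitely generated and free
as a Λ-module and reduced as a ring; let M be a finitely generated S-module. Then M is torsionless
(the canonical map M → M** to the double S-dual is injective) if and only if M is free as a
Λ-module. If in addition S is a Gorenstein ring (it has Krull dimension at most 1, being finite over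
Λ), then M is reflexive (M → M** bijective) if and only if M is free as a Λ-module, so that for such
S torsionless and reflexive finitely generated modules coincide. The published statement is the case
Λ = ℤ, resp. Λ = ℤ_ℓ for a prime ℓ, with S the minimal central order R_w of a finite set of Weil
q-numbers, resp. its ℓ-adic completion R_w ⊗ ℤ_ℓ, under the assumption that R_w is Gorenstein; the
argument given there uses only that S is finite free over Λ, reduced, and (for reflexivity)
Gorenstein of dimension one. -/
theorem result (Λ : Type u) [CommRing Λ] [IsDomain Λ] [IsPrincipalIdealRing Λ]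
    (S : Type u) [CommRing S] [Algebra Λ S] [Module.Finite Λ S] [Module.Free Λ S] [IsReduced S]
    (M : Type u) [AddCommGroup M] [Module S M] [Module Λ M] [IsScalarTower Λ S M] [Module.Finite S M] :
    (Function.Injective (Module.Dual.eval S M) ↔ Module.Free Λ M) ∧
      (LocCoh.IsGorensteinRing S → (Module.IsReflexive S M ↔ Module.Free Λ M)) := by
  exact main Λ S M

end Groth.Agent.S17988
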