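import Groth.Statements.S17989
import Groth.Agent.Lib.Helper4.GorGlobal
import Mathlib.LinearAlgebra.Dual.Lemmas
import Mathlib.Tactic

set_option autoImplicit false
universe u
open CategoryTheory
open CAlg

namespace Groth.Agent.S17989

/-- Let S be a Gorenstein ring (a Noetherian ring all of whose localizations at prime ideals have finite
injective dimension as modules over themselves) of Krull dimension 1, and let M be a finitely
generated reflexive S-module (the canonical map M → M** is bijective). Then Ext¹_S(M, S) = 0. -/
theorem result (S : Type u) [CommRing S]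
    [LocCoh.IsGorensteinRing S] (hdim : ringKrullDim S = 1)
    (M : Type u) [AddCommGroup M] [Module S M] [Module.Finite S M] [Module.IsReflexive S M] :
    Subsingleton (Abelian.Ext (ModuleCat.of S M) (ModuleCat.of S S) 1) := by
  have hN : IsNoetherianRing S := inferInstance
  have hinj : HasInjectiveDimensionLT (ModuleCat.of S S) 2 :=
    Groth.Agent.Lib.Helper4.GorGlobal.hasInjectiveDimensionLE_of_isGorensteinRing S 1
      (by rw [hdim]; rfl)
  obtain ⟨r, π₀, hπ₀⟩ := Module.Finite.exists_fin' S M
  have hfinD : Module.Finite S (Module.Dual S M) :=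
    Module.Finite.of_injective π₀.dualMap (LinearMap.dualMap_injective_of_surjective hπ₀)
  obtain ⟨t, π, hπ⟩ := Module.Finite.exists_fin' S (Module.Dual S M)
  let ι : M →ₗ[S] Module.Dual S (Fin t → S) :=
    π.dualMap.comp (Module.evalEquiv S M).toLinearMap
  have hι : Function.Injective ι := by
    intro a b hab
    have := LinearMap.dualMap_injective_of_surjective hπ hab
    exact (Module.evalEquiv S M).injective this
  let T : ShortComplex (ModuleCat.{u} S) :=
    ModuleCat.shortComplexOfCompEqZero _ _ ι.exact_map_mkQ_range.linearMap_comp_eq_zero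
  have hT : T.ShortExact := ModuleCat.shortComplex_shortExact T
    ι.exact_map_mkQ_range hι (Submodule.mkQ_surjective _)
  have hproj : Projective T.X₂ :=
    inferInstanceAs (Projective (ModuleCat.of S (Module.Dual S (Fin t → S))))
  refine ⟨fun a b => ?_⟩
  suffices H : ∀ x : Abelian.Ext T.X₁ (ModuleCat.of S S) 1, x = 0 by
    exact (H a).trans (H b).symm
  intro x
  obtain ⟨x₂, hx₂⟩ := Abelian.Ext.contravariant_sequence_exact₁ hT (ModuleCat.of S S) x
    (n₁ := 2) rfl (Abelian.Ext.eq_zero_of_hasInjectiveDimensionLT _ 2 le_rfl)
  rw [← hx₂, Abelian.Ext.eq_zero_of_projective x₂, Abelian.Ext.comp_zero]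

end Groth.Agent.S17989
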