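import Groth.Statements.S18003
import Groth.Agent.Lib.Helper1.WeilOrder

set_option autoImplicit false
universe u
open MvPolynomial
open WeilNum

namespace Groth.Agent.S18003

/-- Let p be a prime, e ≥ 1 and q = p^e; let (π_i) be a finite family of pairwise nonconjugate Weil
q-numbers (π_i in a field K_i of characteristic zero, integral over ℤ with minimal polynomial P_i,
all complex roots of P_i of absolute value √q, P_i ≠ P_j for i ≠ j) of even total degree Σ_i deg
P_i, P_w = ∏_i P_i, and R_w ⊆ ∏_i K_i the minimal central order, the image of ℤ[F, V] → ∏_i K_i, F ↦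
(π_i), V ↦ (q/π_i). Let T be a finitely generated free ℤ-module and F_T an endomorphism of T. Then
there exists an R_w-module structure on the additive group T in which the class of F acts as F_T if
and only if P_w(F_T) = 0 (equivalently: F_T is semisimple after tensoring with ℚ, with eigenvalues
among the conjugates of the π_i) and there is an endomorphism V_T of T with F_T ∘ V_T = q. When it
exists the structure is determined by F_T (the class of V acts as V_T = q·F_T⁻¹), and reflexive
R_w-modules are exactly the ℤ-free finitely generated ones, so this identifies the objects of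
Refl(R_w) with such pairs (T, F_T); the uniqueness remark is not part of the formal statement. -/
theorem result (p e : ℕ) [Fact p.Prime] (he : 0 < e)
    (ι : Type) [Fintype ι] (K : ι → Type u) [∀ i, Field (K i)] [∀ i, CharZero (K i)] (π : ∀ i, K i)
    (hint : ∀ i, IsIntegral ℤ (π i))
    (hweil : ∀ i, ∀ z ∈ (minpoly ℤ (π i)).aroots ℂ, ‖z‖ = Real.sqrt ((p : ℝ) ^ e))
    (hinj : ∀ i j, minpoly ℤ (π i) = minpoly ℤ (π j) → i = j)
    (D : ℕ) (hD : ∑ i, (minpoly ℤ (π i)).natDegree = 2 * D)
    (T : Type) [AddCommGroup T] [Module.Finite ℤ T] [Module.Free ℤ T] (FT : T →ₗ[ℤ] T) :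
    (∃ _ : Module (MvPolynomial.aeval ![fun i => π i, fun i => ((p : K i) ^ e) / π i] :
        MvPolynomial (Fin 2) ℤ →ₐ[ℤ] ((i : ι) → K i)).range T,
        ∀ t : T, (⟨(MvPolynomial.aeval ![fun i => π i, fun i => ((p : K i) ^ e) / π i] :
        MvPolynomial (Fin 2) ℤ →ₐ[ℤ] ((i : ι) → K i)) (X 0), AlgHom.mem_range_self _ _⟩ : (MvPolynomial.aeval ![fun i => π i, fun i => ((p : K i) ^ e) / π i] :
        MvPolynomial (Fin 2) ℤ →ₐ[ℤ] ((i : ι) → K i)).range) • t = FT t) ↔
      (Polynomial.aeval FT (∏ i, minpoly ℤ (π i)) = 0 ∧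
        ∃ VT : T →ₗ[ℤ] T, FT ∘ₗ VT = ((p : ℤ) ^ e) • LinearMap.id) := by
  classical
  have hq : ((p:ℤ)^e) ≠ 0 := Groth.Agent.Lib.Helper1.WeilOrder.q_ne_zero p e
  obtain ⟨h, hh⟩ := Groth.Agent.Lib.Helper1.WeilOrder.exists_h p e K π hint hweil D hD
  obtain ⟨hker, -⟩ := Groth.Agent.S17984.result p e he ι K π hint hweil hinj D hD h hh
  set φ : MvPolynomial (Fin 2) ℤ →ₐ[ℤ] ((i : ι) → K i) :=
    MvPolynomial.aeval ![fun i => π i, fun i => ((p : K i) ^ e) / π i] with hφdef
  set Pw : Polynomial ℤ := ∏ i, minpoly ℤ (π i) with hPwdef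
  have hmemker : ∀ x, x ∈ RingHom.ker φ ↔ φ x = 0 := fun x => RingHom.mem_ker
  have hφg : φ (X 0 * X 1 - C ((p:ℤ)^e)) = 0 := by
    rw [← hmemker, hker]; exact Ideal.subset_span (by simp)
  have hφh : φ h = 0 := by
    rw [← hmemker, hker]; exact Ideal.subset_span (by simp)
  have hφP : φ (Polynomial.aeval (X 0 : MvPolynomial (Fin 2) ℤ) Pw) = 0 := by
    funext i
    rw [Groth.Agent.Lib.Helper1.WeilOrder.φ'_aeval, hPwdef, map_prod]
    exact Finset.prod_eq_zero (Finset.mem_univ i) (minpoly.aeval ℤ (π i))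
  have hc0 : Pw.coeff 0 ≠ 0 := by
    rcases Groth.Agent.Lib.Helper1.WeilOrder.Pw_coeff_zero p e K π hint hweil D hD with h0 | h0
    · rw [h0]; exact pow_ne_zero _ hq
    · rw [h0]; exact neg_ne_zero.mpr (pow_ne_zero _ hq)
  constructor
  · rintro ⟨mod, hF⟩
    let ρ : φ.range →+* Module.End ℤ T :=
      (addMonoidEndRingEquivInt T : AddMonoid.End T →+* Module.End ℤ T).comp
        (Module.toAddMonoidEnd φ.range T)
    have hρ : ∀ (r : φ.range) (t : T), ρ r t = r • t := fun r t => rfl
    let rr : MvPolynomial (Fin 2) ℤ →+* φ.range := (φ.rangeRestrict : _ →+* _)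
    have hrr0 : ∀ x, φ x = 0 → rr x = 0 := by
      intro x hx
      apply Subtype.ext
      exact hx
    have hFT : ρ (rr (X 0)) = FT := by
      apply LinearMap.ext
      intro t
      rw [hρ]
      exact hF t
    let σ : Polynomial ℤ →+* Module.End ℤ T :=
      ρ.comp (rr.comp (Polynomial.aeval (X 0 : MvPolynomial (Fin 2) ℤ) :
        Polynomial ℤ →ₐ[ℤ] MvPolynomial (Fin 2) ℤ).toRingHom)
    have hσ : σ = (Polynomial.aeval FT : Polynomial ℤ →ₐ[ℤ] Module.End ℤ T).toRingHom := by
      apply Polynomial.ringHom_ext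
      · intro a
        exact RingHom.congr_fun (RingHom.ext_int (σ.comp Polynomial.C)
          ((Polynomial.aeval FT : Polynomial ℤ →ₐ[ℤ] Module.End ℤ T).toRingHom.comp Polynomial.C)) a
      · show ρ (rr (Polynomial.aeval (X 0 : MvPolynomial (Fin 2) ℤ) Polynomial.X))
          = Polynomial.aeval FT Polynomial.X
        rw [Polynomial.aeval_X, Polynomial.aeval_X, hFT]
    refine ⟨?_, ρ (rr (X 1)), ?_⟩
    · have h1 : σ Pw = Polynomial.aeval FT Pw := by rw [hσ]; rfl
      rw [← h1]
      show ρ (rr (Polynomial.aeval (X 0 : MvPolynomial (Fin 2) ℤ) Pw)) = 0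
      rw [hrr0 _ hφP, map_zero]
    · rw [← hFT]
      show ρ (rr (X 0)) * ρ (rr (X 1)) = _
      rw [← map_mul, ← map_mul]
      have h2 : rr (X 0 * X 1) = rr (C ((p:ℤ)^e)) := by
        have := hrr0 _ hφg
        rwa [map_sub, sub_eq_zero] at this
      rw [h2]
      have h3 : (C ((p:ℤ)^e) : MvPolynomial (Fin 2) ℤ) = (((p:ℤ)^e : ℤ) : MvPolynomial (Fin 2) ℤ) := by
        simp
      rw [h3, map_intCast, map_intCast]
      apply LinearMap.ext
      intro t
      simp
  · rintro ⟨hPw, VT, hFV⟩
    -- FT injective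
    have hFTinj : Function.Injective FT := by
      rw [injective_iff_map_eq_zero]
      intro t ht
      have h1 : Polynomial.aeval FT Pw = Polynomial.aeval FT Pw.divX * FT + (Pw.coeff 0) • (1 : Module.End ℤ T) := by
        conv_lhs => rw [← Polynomial.divX_mul_X_add Pw]
        rw [map_add, map_mul, Polynomial.aeval_X, Polynomial.aeval_C]
        rw [Algebra.algebraMap_eq_smul_one]
      rw [hPw] at h1
      have h2 := congrArg (fun f : Module.End ℤ T => f t) h1
      simp only [LinearMap.zero_apply, LinearMap.add_apply, Module.End.mul_apply, ht, map_zero,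
        zero_add, LinearMap.smul_apply, Module.End.one_apply] at h2
      rcases smul_eq_zero.mp h2.symm with h3 | h3
      · exact absurd h3 hc0
      · exact h3
    have hFV' : FT * VT = ((p:ℤ)^e) • (1 : Module.End ℤ T) := hFV
    have hVF : VT * FT = ((p:ℤ)^e) • (1 : Module.End ℤ T) := by
      apply LinearMap.ext
      intro t
      apply hFTinj
      have h1 : FT ((VT * FT) t) = (FT * VT) (FT t) := rfl
      rw [h1, hFV', LinearMap.smul_apply, LinearMap.smul_apply, Module.End.one_apply,
        Module.End.one_apply, map_smul]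
    have hcomm : ∀ a ∈ ({FT, VT} : Set (Module.End ℤ T)), ∀ b ∈ ({FT, VT} : Set (Module.End ℤ T)),
        a * b = b * a := by
      intro a ha b hb
      rcases ha with rfl | rfl <;> rcases hb with rfl | rfl
      · rfl
      · rw [hFV', hVF]
      · rw [hFV', hVF]
      · rfl
    letI : CommRing (Algebra.adjoin ℤ ({FT, VT} : Set (Module.End ℤ T))) :=
      Algebra.adjoinCommRingOfComm ℤ hcomm
    let FT' : Algebra.adjoin ℤ ({FT, VT} : Set (Module.End ℤ T)) :=
      ⟨FT, Algebra.subset_adjoin (by simp)⟩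
    let VT' : Algebra.adjoin ℤ ({FT, VT} : Set (Module.End ℤ T)) :=
      ⟨VT, Algebra.subset_adjoin (by simp)⟩
    let ρ' : MvPolynomial (Fin 2) ℤ →ₐ[ℤ] Algebra.adjoin ℤ ({FT, VT} : Set (Module.End ℤ T)) :=
      MvPolynomial.aeval ![FT', VT']
    let ρA : MvPolynomial (Fin 2) ℤ →ₐ[ℤ] Module.End ℤ T :=
      (Subalgebra.val _).comp ρ'
    have hρ0 : ρA (X 0) = FT := by simp [ρA, ρ', FT']
    have hρ1 : ρA (X 1) = VT := by simp [ρA, ρ', VT']
    have hρg : ρA (X 0 * X 1 - C ((p:ℤ)^e)) = 0 := by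
      rw [map_sub, map_mul, hρ0, hρ1, hFV', MvPolynomial.algHom_C, Algebra.algebraMap_eq_smul_one,
        sub_self]
    have hρspan : ∀ x ∈ Ideal.span ({X 0 * X 1 - C ((p:ℤ)^e)} : Set (MvPolynomial (Fin 2) ℤ)),
        ρA x = 0 := by
      intro x hx
      obtain ⟨c, rfl⟩ := Ideal.mem_span_singleton'.mp hx
      rw [map_mul, hρg, mul_zero]
    have hρh : ρA h = 0 := by
      have h1 := hρspan _ hh
      rw [map_sub, map_mul, map_pow, hρ0, ← Polynomial.aeval_algHom_apply, hρ0, hPw, sub_zero] at h1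
      apply LinearMap.ext
      intro t
      have h2 := congrArg (fun f : Module.End ℤ T => f t) h1
      simp only [Module.End.mul_apply, LinearMap.zero_apply] at h2
      have h3 : Function.Injective (FT ^ D) := by
        rw [Module.End.coe_pow]
        exact hFTinj.iterate D
      exact h3 (by rw [h2, LinearMap.zero_apply, map_zero])
    have hle : RingHom.ker (φ.rangeRestrict : MvPolynomial (Fin 2) ℤ →+* φ.range)
        ≤ RingHom.ker (ρA : MvPolynomial (Fin 2) ℤ →+* Module.End ℤ T) := by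
      intro x hx
      rw [RingHom.mem_ker] at hx ⊢
      have h1 : φ x = 0 := by
        have := congrArg Subtype.val hx
        simpa using this
      rw [← hmemker, hker] at h1
      obtain ⟨a, b, rfl⟩ := Ideal.mem_span_pair.mp h1
      show ρA (a * (X 0 * X 1 - C ((p:ℤ)^e)) + b * h) = 0
      rw [map_add, map_mul, map_mul, hρg, hρh, mul_zero, mul_zero, add_zero]
    let ρ : φ.range →+* Module.End ℤ T :=
      RingHom.liftOfSurjective (φ.rangeRestrict : MvPolynomial (Fin 2) ℤ →+* φ.range)
        φ.rangeRestrict_surjective ⟨(ρA : MvPolynomial (Fin 2) ℤ →+* Module.End ℤ T), hle⟩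
    have hρ : ∀ x, ρ (φ.rangeRestrict x) = ρA x := fun x =>
      RingHom.liftOfSurjective_comp_apply (φ.rangeRestrict : MvPolynomial (Fin 2) ℤ →+* φ.range)
        φ.rangeRestrict_surjective ⟨(ρA : MvPolynomial (Fin 2) ℤ →+* Module.End ℤ T), hle⟩ x
    refine ⟨Module.compHom T ρ, ?_⟩
    intro t
    letI := Module.compHom T ρ
    show ρ (φ.rangeRestrict (X 0)) t = FT t
    rw [hρ, hρ0]

end Groth.Agent.S18003
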