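import Groth.Statements.S18019
import Mathlib
-- import your own Groth.Agent.* helpers here

set_option autoImplicit false
universe u
open ClassStk

namespace Groth.Agent.S18019

open Polynomial in
theorem u_comp (R : Type u) [CommRing R] [CharP R 2] (a : R) :
    (X * (X + C a) : Polynomial R).comp (X + C a) = X * (X + C a) := by
  have h2 : (C a + C a : Polynomial R) = 0 := by
    rw [← C_add, CharTwo.add_self_eq_zero, C_0]
  simp only [mul_comp, add_comp, X_comp, C_comp]
  have : (X + C a + C a : Polynomial R) = X := by rw [add_assoc, h2, add_zero]
  rw [this, mul_comm]

open Polynomial in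
theorem low_deg (R : Type u) [CommRing R] [IsDomain R] (a : R) (ha : a ≠ 0) (r : Polynomial R)
    (hdeg : r.natDegree < 2) (hinv : r.comp (X + C a) = r) : r = C (r.coeff 0) := by
  have h1 : r = C (r.coeff 1) * X + C (r.coeff 0) :=
    eq_X_add_C_of_natDegree_le_one (by omega)
  have h2 : r.comp (X + C a) = C (r.coeff 1) * (X + C a) + C (r.coeff 0) := by
    conv_lhs => rw [h1]
    simp
  rw [hinv] at h2
  have h3 : C (r.coeff 1 * a) = (0 : Polynomial R) := by
    have : C (r.coeff 1) * X + C (r.coeff 0) = C (r.coeff 1) * (X + C a) + C (r.coeff 0) := by
      rw [← h1]; exact h2
    rw [C_mul]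
    linear_combination -this
  have h4 : r.coeff 1 * a = 0 := by simpa using h3
  have h5 : r.coeff 1 = 0 := by
    rcases mul_eq_zero.mp h4 with h | h
    · exact h
    · exact absurd h ha
  rw [h5] at h1
  simpa using h1

open Polynomial in
/-- Let R be an integral domain of characteristic 2 and let a be a nonzero element of R, so that x ↦ x +
a defines an R-algebra involution of the polynomial ring R[x] (an action of the group of order two).
A polynomial f is invariant, f(x + a) = f(x), if and only if f belongs to the R-subalgebra generated
by u = x (x + a); in other words the ring of invariants is the polynomial ring R[u]. -/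
theorem result (R : Type u) [CommRing R] [IsDomain R]
    [CharP R 2] (a : R) (ha : a ≠ 0) (f : Polynomial R) :
    f.comp (X + C a) = f ↔ f ∈ Algebra.adjoin R ({X * (X + C a)} : Set (Polynomial R)) := by
  have hu : (X * (X + C a) : Polynomial R).Monic := (monic_X).mul (monic_X_add_C a)
  have hudeg : (X * (X + C a) : Polynomial R).natDegree = 2 := by
    rw [natDegree_mul X_ne_zero (monic_X_add_C a).ne_zero, natDegree_X, natDegree_X_add_C]
  constructor
  · intro hinv
    induction hn : f.natDegree using Nat.strong_induction_on generalizing f with
    | _ n ih =>
      by_cases hlow : f.natDegree < 2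
      · rw [low_deg R a ha f hlow hinv]
        exact Subalgebra.algebraMap_mem _ _
      · set u : Polynomial R := X * (X + C a) with hu_def
        have hdecomp : f %ₘ u + u * (f /ₘ u) = f := modByMonic_add_div f u
        have hrdeg : (f %ₘ u).natDegree < 2 := by
          have := natDegree_modByMonic_lt f hu (by
            intro h
            have := congrArg natDegree h
            rw [hudeg] at this
            simp at this)
          rwa [hudeg] at this
        have huniq := div_modByMonic_unique (f := f) ((f /ₘ u).comp (X + C a))
          ((f %ₘ u).comp (X + C a)) hu (by
            constructor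
            · have := congrArg (fun p => p.comp (X + C a)) hdecomp
              simp only [add_comp, mul_comp] at this
              rw [u_comp R a, hinv] at this
              exact this
            · calc ((f %ₘ u).comp (X + C a)).degree ≤ (((f %ₘ u).comp (X + C a)).natDegree : WithBot ℕ) :=
                    degree_le_natDegree
                _ ≤ ((f %ₘ u).natDegree : WithBot ℕ) := by
                    have := natDegree_comp_le (p := f %ₘ u) (q := X + C a)
                    rw [natDegree_X_add_C, mul_one] at this
                    exact_mod_cast this
                _ < 2 := by exact_mod_cast hrdeg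
                _ = u.degree := by
                    rw [degree_eq_natDegree hu.ne_zero, hudeg]; rfl)
        have hq : (f /ₘ u).natDegree < n := by
          rw [natDegree_divByMonic f hu, hudeg, ← hn]
          omega
        have hqmem := ih _ hq (f /ₘ u) huniq.1.symm rfl
        have hrmem : f %ₘ u ∈ Algebra.adjoin R ({u} : Set (Polynomial R)) := by
          rw [low_deg R a ha (f %ₘ u) hrdeg huniq.2.symm]
          exact Subalgebra.algebraMap_mem _ _
        rw [← hdecomp]
        exact Subalgebra.add_mem _ hrmem
          (Subalgebra.mul_mem _ (Algebra.subset_adjoin (Set.mem_singleton _)) hqmem)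
  · intro hmem
    induction hmem using Algebra.adjoin_induction with
    | mem x hx =>
      rw [Set.mem_singleton_iff] at hx
      rw [hx]
      exact u_comp R a
    | algebraMap r => simp
    | add x y _ _ hx hy => rw [add_comp, hx, hy]
    | mul x y _ _ hx hy => rw [mul_comp, hx, hy]

end Groth.Agent.S18019
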