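import Groth.Statements.S1802
import Groth.Agent.S0825
import Groth.Agent.Lib.Helper92.LocCohTorsion
import Mathlib.AlgebraicGeometry.Morphisms.Affine

set_option autoImplicit false
universe u
open AlgebraicGeometry CategoryTheory TopologicalSpace Opposite
open LocCoh

namespace Groth.Agent.S1802

open StructureSheaf

section Sections

variable {A : Type u} [CommRing A] (I : Ideal A) (c : ℕ) (φ : ↥(I ^ c) →ₗ[A] A)

/-- the element `g^c` of `I^c` -/
def powElt (g : A) (hg : g ∈ I) : ↥(I ^ c) := ⟨g ^ c, Ideal.pow_mem_pow hg c⟩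

theorem cross (g g' : A) (hg : g ∈ I) (hg' : g' ∈ I) :
    g' ^ c • φ (powElt I c g hg) = g ^ c • φ (powElt I c g' hg') := by
  rw [← map_smul, ← map_smul]
  congr 1
  apply Subtype.ext
  change g' ^ c * g ^ c = g ^ c * g' ^ c
  ring

/-- the fraction `φ(g^c)/g^c` in `A_p` -/
def frac (p : PrimeSpectrum A) (g : A) (hg : g ∈ I) (hgp : g ∉ p.asIdeal) :
    LocalizedModule p.asIdeal.primeCompl A :=
  LocalizedModule.mk (φ (powElt I c g hg)) ⟨g ^ c, p.asIdeal.primeCompl.pow_mem hgp c⟩

theorem frac_indep (p : PrimeSpectrum A) (g g' : A) (hg : g ∈ I) (hg' : g' ∈ I)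
    (hgp : g ∉ p.asIdeal) (hgp' : g' ∉ p.asIdeal) :
    frac I c φ p g hg hgp = frac I c φ p g' hg' hgp' := by
  unfold frac
  rw [LocalizedModule.mk_eq]
  refine ⟨1, ?_⟩
  rw [one_smul, one_smul]
  exact cross I c φ g g' hg hg'

variable (U : Opens (PrimeSpectrum.Top A)) (hU : ∀ x : PrimeSpectrum A, x ∈ U → ¬ I ≤ x.asIdeal)

theorem exists_g (x : PrimeSpectrum A) (hx : ¬ I ≤ x.asIdeal) : ∃ g, g ∈ I ∧ g ∉ x.asIdeal := by
  by_contra h
  push Not at h
  exact hx h

include hU in
theorem exists_g' (x : U) : ∃ g, g ∈ I ∧ g ∉ (x.1 : PrimeSpectrum A).asIdeal :=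
  exists_g I x.1 (hU x.1 x.2)

/-- the section of the structure sheaf over `U` attached to `φ : I^c → A` -/
noncomputable def sec : (structureSheafInType A A).obj.obj (op U) :=
  ⟨fun x => frac I c φ x.1 (exists_g' I U hU x).choose
      (exists_g' I U hU x).choose_spec.1 (exists_g' I U hU x).choose_spec.2, by
    intro x
    obtain ⟨hgI, hgx⟩ := (exists_g' I U hU x).choose_spec
    set g := (exists_g' I U hU x).choose with hg
    refine ⟨U ⊓ PrimeSpectrum.basicOpen g, ⟨x.2, hgx⟩, homOfLE inf_le_left,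
      φ (powElt I c g hgI), g ^ c, fun y => ?_⟩
    have hgy : g ∉ (y.1 : PrimeSpectrum A).asIdeal := y.2.2
    refine ⟨fun h => hgy ((y.1 : PrimeSpectrum A).isPrime.mem_of_pow_mem c h), ?_⟩
    exact frac_indep I c φ y.1 _ g _ hgI _ hgy⟩

theorem sec_apply (x : U) (g : A) (hg : g ∈ I) (hgx : g ∉ (x.1 : PrimeSpectrum A).asIdeal) :
    (sec I c φ U hU).1 x = frac I c φ x.1 g hg hgx :=
  frac_indep I c φ x.1 _ g (exists_g' I U hU x).choose_spec.1 hg
    (exists_g' I U hU x).choose_spec.2 hgx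

end Sections

end Groth.Agent.S1802

namespace Groth.Agent.S1802
open StructureSheaf

section Sum
variable {A : Type u} [CommRing A] (I : Ideal A) (c : ℕ)

theorem mk_sum' (S : Submonoid A) (d : S) {ι : Type} (s : Finset ι) (m : ι → A) :
    ∑ j ∈ s, (LocalizedModule.mk (m j) d : LocalizedModule S A) =
      LocalizedModule.mk (∑ j ∈ s, m j) d := by
  classical
  induction s using Finset.induction_on with
  | empty => simp
  | insert j s hj ih =>
    rw [Finset.sum_insert hj, Finset.sum_insert hj, ih, LocalizedModule.mk_add_mk,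
      LocalizedModule.mk_eq]
    refine ⟨1, ?_⟩
    simp only [one_smul, Submonoid.smul_def, Submonoid.coe_mul, smul_eq_mul]
    ring

theorem sum_frac {r : ℕ} (f : Fin r → A) (φ : Fin r → (↥(I ^ c) →ₗ[A] A))
    (hφ : ∀ x : ↥(I ^ c), (x : A) = ∑ j, f j * φ j x)
    (p : PrimeSpectrum A) (g : A) (hg : g ∈ I) (hgp : g ∉ p.asIdeal) :
    ∑ j, f j • frac I c (φ j) p g hg hgp = 1 := by
  unfold frac
  simp_rw [LocalizedModule.smul'_mk]
  rw [mk_sum']
  have h2 : ∑ j, f j • φ j (powElt I c g hg) = g ^ c := by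
    have := hφ (powElt I c g hg)
    exact this.symm
  rw [h2]
  have h3 : (1 : LocalizedModule p.asIdeal.primeCompl A) = LocalizedModule.mk 1 1 := by
    rw [OreLocalization.one_def]
  rw [h3, LocalizedModule.mk_eq]
  refine ⟨1, ?_⟩
  simp [Submonoid.smul_def]

variable (U : Opens (PrimeSpectrum.Top A)) (hU : ∀ x : PrimeSpectrum A, x ∈ U → ¬ I ≤ x.asIdeal)

/-- evaluation of sections at a point, as a linear map -/
noncomputable def evL (x : U) : (structureSheafInType A A).obj.obj (op U) →ₗ[A]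
    Localizations A x.1 :=
  (LinearMap.proj x).comp (sectionsSubmodule A U).subtype

theorem sum_sec {r : ℕ} (f : Fin r → A) (φ : Fin r → (↥(I ^ c) →ₗ[A] A))
    (hφ : ∀ x : ↥(I ^ c), (x : A) = ∑ j, f j * φ j x) :
    ∑ j, f j • sec I c (φ j) U hU = 1 := by
  apply Subtype.ext
  funext x
  obtain ⟨g, hgI, hgx⟩ := exists_g' I U hU x
  have h1 : (∑ j, f j • sec I c (φ j) U hU).1 x =
      ∑ j, f j • (sec I c (φ j) U hU).1 x := by
    have := map_sum (evL U x) (fun j => f j • sec I c (φ j) U hU) Finset.univ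
    exact this
  rw [h1]
  simp_rw [sec_apply I c _ U hU x g hgI hgx]
  rw [sum_frac I c f φ hφ x.1 g hgI hgx]
  rfl

end Sum
end Groth.Agent.S1802

namespace Groth.Agent.S1802
open StructureSheaf Groth.Agent.Lib.Helper92.LC


/-- For a Noetherian ring. Let I be an ideal of a Noetherian ring A with cd(A, I) = 1, i.e. H^i_I(M) = 0
for all modules M and all i ≥ 2 but H^1_I(M) ≠ 0 for some M. Then the open subscheme Spec A minus
V(I) is nonempty and affine. -/
theorem result (A : Type u) [CommRing A] [IsNoetherianRing A] (I : Ideal A) (h1 : LocCoh.CdLE A I 1) (h0 : ¬ LocCoh.CdLE A I 0) : Nonempty (↑(LocCoh.puncturedOpen A I) : Scheme.{u}) ∧ IsAffine (↑(LocCoh.puncturedOpen A I) : Scheme.{u}) := by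
  have hU : ∀ x : PrimeSpectrum A, x ∈ LocCoh.puncturedOpen A I → ¬ I ≤ x.asIdeal := by
    intro x hx
    change x ∈ (PrimeSpectrum.zeroLocus (I : Set A))ᶜ at hx
    rw [Set.mem_compl_iff, PrimeSpectrum.mem_zeroLocus] at hx
    exact hx
  have hU' : ∀ x : PrimeSpectrum A, ¬ I ≤ x.asIdeal → x ∈ LocCoh.puncturedOpen A I := by
    intro x hx
    change x ∈ (PrimeSpectrum.zeroLocus (I : Set A))ᶜ
    rw [Set.mem_compl_iff, PrimeSpectrum.mem_zeroLocus]
    exact hx
  constructor
  · by_contra hne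
    apply h0
    have hall : ∀ p : PrimeSpectrum A, I ≤ p.asIdeal := by
      intro p
      by_contra hp
      exact hne ⟨⟨p, hU' p hp⟩⟩
    have hnil : I ≤ (⊥ : Ideal A).radical := by
      rw [Ideal.radical_eq_sInf]
      exact le_sInf (fun J hJ => hall ⟨J, hJ.2⟩)
    obtain ⟨k, hk⟩ := Ideal.exists_pow_le_of_le_radical_of_fg hnil
      ((isNoetherianRing_iff_ideal_fg A).1 inferInstance I)
    intro M _ _ i hi
    obtain ⟨j, rfl⟩ : ∃ j, i = j + 1 := ⟨i - 1, by omega⟩
    refine subsingleton_of_isPowerTorsion I j M (fun m => ⟨k, fun a ha => ?_⟩)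
    have := hk ha
    rw [Ideal.mem_bot] at this
    rw [this, zero_smul]
  · obtain ⟨r, f, hf⟩ := Submodule.fg_iff_exists_fin_generating_family.1
      ((isNoetherianRing_iff_ideal_fg A).1 inferInstance I)
    subst hf
    obtain ⟨c, φ, hφ⟩ := Groth.Agent.S0825.result A r f h1 h0
    let X : Scheme.{u} := Spec (CommRingCat.of A)
    let U : X.Opens := LocCoh.puncturedOpen A (Ideal.span (Set.range f))
    let s : Fin r → Γ(X, U) := fun j =>
      X.presheaf.map (homOfLE (le_top : U ≤ ⊤)).op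
        ((Scheme.ΓSpecIso (CommRingCat.of A)).inv (f j))
    let b : Fin r → Γ(X, U) := fun j => sec (Ideal.span (Set.range f)) (c + 1) (φ j) U hU
    have hsum : ∑ j, s j * b j = 1 := by
      have := sum_sec (Ideal.span (Set.range f)) (c + 1) U hU f φ hφ
      refine Eq.trans ?_ this
      apply Finset.sum_congr rfl
      intro j _
      rw [Algebra.smul_def]
      rfl
    change IsAffineOpen U
    apply isAffineOpen_of_isAffineOpen_basicOpen U (Set.range s)
    · rw [Ideal.eq_top_iff_one, ← hsum]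
      exact Ideal.sum_mem _ (fun j _ => Ideal.mul_mem_right _ _ (Ideal.subset_span ⟨j, rfl⟩))
    · rintro _ ⟨j, rfl⟩
      have hfj : f j ∈ Ideal.span (Set.range f) := Ideal.subset_span ⟨j, rfl⟩
      have h2 : X.basicOpen (s j) = PrimeSpectrum.basicOpen (f j) := by
        change X.basicOpen (X.presheaf.map _ _) = _
        rw [Scheme.basicOpen_res, basicOpen_eq_of_affine]
        apply inf_eq_right.2
        intro x hx
        apply hU' x
        intro hle
        exact hx (hle hfj)
      have h3 : IsAffineOpen (X.basicOpen ((Scheme.ΓSpecIso (CommRingCat.of A)).inv (f j))) :=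
        (isAffineOpen_top X).basicOpen _
      rw [basicOpen_eq_of_affine] at h3
      rw [h2]
      exact h3

end Groth.Agent.S1802
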