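import Groth.Statements.S18026
import Groth.Agent.Lib.Helper41.HensQF

set_option autoImplicit false
universe u
open Hensel

namespace Groth.Agent.S18026

open AlgebraicGeometry CategoryTheory in
/-- Let `A` be a henselian discrete valuation ring and `f : T ⟶ Spec A` an étale surjective morphism of
schemes. Then some open subscheme `U` of `T` is finite over `Spec A` and still maps onto it; in
particular `U → Spec A` is a finite étale cover sitting inside `T` as an open subscheme (étaleness
of the restriction is automatic, and surjectivity records that `U` meets the closed fibre). (The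
published statement asks for an open component of `T` finite étale over `Spec A`; when `T` is not
separated — two copies of `Spec A` glued along the generic point — no open and closed subset of `T`
is finite over `Spec A`, while the published proof constructs an open subscheme, the spectrum of the
local ring of `T` at a point of the closed fibre; so this row asks only for an open subscheme.) -/
theorem result
    (A : Type u) [CommRing A] [IsDomain A] [IsDiscreteValuationRing A] [HenselianLocalRing A]
    (T : Scheme.{u}) (f : T ⟶ Spec (CommRingCat.of A)) [Etale f] [Surjective f] :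
    ∃ U : T.Opens, IsFinite (U.ι ≫ f) ∧ Surjective (U.ι ≫ f) := by
  obtain ⟨x, hx⟩ := f.surjective (IsLocalRing.closedPoint A)
  obtain ⟨V, hV, hxV, -⟩ := exists_isAffineOpen_mem_and_subset
    (show x ∈ (⊤ : T.Opens) from trivial)
  haveI : IsAffine (V : Scheme.{u}) := hV
  let g : (V : Scheme.{u}) ⟶ Spec (CommRingCat.of A) := V.ι ≫ f
  haveI : LocallyQuasiFinite g := Groth.Agent.Lib.Helper41.HensQF.locallyQuasiFinite_of_etale g
  let x₀ : (V : Scheme.{u}) := ⟨x, hxV⟩
  have hx₀ : g.base x₀ = IsLocalRing.closedPoint A := hx
  obtain ⟨W, hxW, -, -, hfinW, -, -⟩ :=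
    Groth.Agent.Lib.Helper41.HensQF.exists_clopen_finite_nhd A g x₀ hx₀ (g.quasiFiniteAt x₀)
  let U : T.Opens := V.ι ''ᵁ W
  have hiso : (V.ι.isoImage W).hom ≫ U.ι ≫ f = W.ι ≫ g := by
    rw [← Category.assoc, Scheme.Hom.isoImage_hom_ι, Category.assoc]
  have hfinU : IsFinite (U.ι ≫ f) := by
    rw [← MorphismProperty.cancel_left_of_respectsIso @IsFinite (V.ι.isoImage W).hom, hiso]
    exact hfinW
  refine ⟨U, hfinU, ⟨fun p => ?_⟩⟩
  have hgen : GeneralizingMap (U.ι ≫ f).base := Flat.generalizingMap (U.ι ≫ f)
  have hxU : x ∈ U := ⟨x₀, hxW, rfl⟩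
  have hsp : p ⤳ (U.ι ≫ f).base ⟨x, hxU⟩ := by
    have h1 : (U.ι ≫ f).base ⟨x, hxU⟩ = IsLocalRing.closedPoint A := hx
    rw [h1]
    exact IsLocalRing.specializes_closedPoint p
  obtain ⟨u, -, hu⟩ := hgen hsp
  exact ⟨u, hu⟩

end Groth.Agent.S18026
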