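import Groth.Statements.S18027
import Groth.Agent.Lib.Helper72.GrpdDim
import Groth.Agent.Lib.Helper72.GrpdOfGrp
import Groth.Agent.Lib.Helper72.GrpConn
import Groth.Agent.Lib.Helper73.DimFT.Scheme

set_option autoImplicit false
universe u
open CategoryTheory MonoidalCategory CartesianMonoidalCategory MonObj GrpObj AlgebraicGeometry CategoryTheory.Limits
open AlgGrp

namespace Groth.Agent.S18027

/-- Let `k` be a field and `u : G ⟶ H` a homomorphism of smooth `k`-group schemes which is a closed
immersion, where `G` and `H` have the same dimension. Then `u` carries the connected component of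
the identity of `G` onto the connected component of the identity of `H`; as `u` is a closed
immersion and `H` is reduced, `u` therefore restricts to an isomorphism between the identity
components. (The second printed assertion, on the groups of components, is not included.) -/
theorem result (k : Type u) [Field k]
    (G H : Over (Spec (CommRingCat.of k))) [GrpObj G] [GrpObj H]
    [Smooth G.hom] [Smooth H.hom] (u : G ⟶ H) [IsMonHom u] [IsClosedImmersion u.left]
    (hdim : topologicalKrullDim ↥G.left = topologicalKrullDim ↥H.left)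
    (t : ↥((𝟙_ (Over (Spec (CommRingCat.of k)))).left)) :
    ⇑u.left.base '' connectedComponent (η[G].left.base t) = connectedComponent (η[H].left.base t) := by
  have ht : t = IsLocalRing.closedPoint k :=
    Subsingleton.elim (α := ↥(Spec (CommRingCat.of k))) _ _
  subst ht
  change u.left '' connectedComponent (Groth.Agent.Lib.Helper72.GrpComp.ePt G) =
    connectedComponent (Groth.Agent.Lib.Helper72.GrpComp.ePt H)
  have hZG := irreducibleComponent_mem_irreducibleComponents (Groth.Agent.Lib.Helper72.GrpComp.ePt G)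
  have heG : Groth.Agent.Lib.Helper72.GrpComp.ePt G ∈
      irreducibleComponent (Groth.Agent.Lib.Helper72.GrpComp.ePt G) := mem_irreducibleComponent
  have hZH := irreducibleComponent_mem_irreducibleComponents (Groth.Agent.Lib.Helper72.GrpComp.ePt H)
  have heH : Groth.Agent.Lib.Helper72.GrpComp.ePt H ∈
      irreducibleComponent (Groth.Agent.Lib.Helper72.GrpComp.ePt H) := mem_irreducibleComponent
  rw [Groth.Agent.Lib.Helper72.GrpConn.connectedComponent_ePt G hZG heG,
    Groth.Agent.Lib.Helper72.GrpConn.connectedComponent_ePt H hZH heH]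
  -- `u` preserves the identity
  have hue : u.left (Groth.Agent.Lib.Helper72.GrpComp.ePt G) =
      Groth.Agent.Lib.Helper72.GrpComp.ePt H := by
    have h1 : η[G] ≫ u = η[H] := IsMonHom.one_hom u
    have h2 := congrArg CommaMorphism.left h1
    exact Groth.Agent.Lib.Helper72.GrpdDim.app_eq (h2 : η[G].left ≫ u.left = η[H].left) _
  set ZG := irreducibleComponent (Groth.Agent.Lib.Helper72.GrpComp.ePt G) with hZGdef
  set ZH := irreducibleComponent (Groth.Agent.Lib.Helper72.GrpComp.ePt H) with hZHdef
  have hirr : IsIrreducible (u.left '' ZG) := hZG.1.image _ u.left.continuous.continuousOn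
  have hZGcl : IsClosed ZG := isClosed_of_mem_irreducibleComponents _ hZG
  have hZHcl : IsClosed ZH := isClosed_of_mem_irreducibleComponents _ hZH
  have hcl : IsClosed (u.left '' ZG) := u.left.isClosedEmbedding.isClosedMap _ hZGcl
  have hsub : u.left '' ZG ⊆ ZH :=
    Groth.Agent.Lib.Helper72.GrpConn.subset_of_isIrreducible_of_ePt_mem H hZH heH hirr
      ⟨_, heG, hue⟩
  -- dimensions
  have hG1 : LocallyOfFiniteType (Groth.Agent.Lib.Helper72.GrpdPts.ofGrp G).s :=
    inferInstanceAs (LocallyOfFiniteType G.hom)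
  have hH1 : LocallyOfFiniteType (Groth.Agent.Lib.Helper72.GrpdPts.ofGrp H).s :=
    inferInstanceAs (LocallyOfFiniteType H.hom)
  have hG2 : LocallyOfFiniteType (Groth.Agent.Lib.Helper72.GrpdPts.ofGrp G).t :=
    inferInstanceAs (LocallyOfFiniteType G.hom)
  have hH2 : LocallyOfFiniteType (Groth.Agent.Lib.Helper72.GrpdPts.ofGrp H).t :=
    inferInstanceAs (LocallyOfFiniteType H.hom)
  have hdG : topologicalKrullDim ↥ZG = topologicalKrullDim ↥G.left :=
    Groth.Agent.Lib.Helper72.GrpdDim.dim_component_eq
      (Groth.Agent.Lib.Helper72.GrpdPts.ofGrp G) k (Iso.refl _) hZG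
  have hdH : topologicalKrullDim ↥ZH = topologicalKrullDim ↥H.left :=
    Groth.Agent.Lib.Helper72.GrpdDim.dim_component_eq
      (Groth.Agent.Lib.Helper72.GrpdPts.ofGrp H) k (Iso.refl _) hZH
  have hdimg : topologicalKrullDim ↥(u.left '' ZG) = topologicalKrullDim ↥ZG := by
    have hemb : Topology.IsEmbedding (fun z : ↥ZG => u.left z.1) :=
      u.left.isClosedEmbedding.isEmbedding.comp Topology.IsEmbedding.subtypeVal
    have h1 := IsHomeomorph.topologicalKrullDim_eq _ hemb.toHomeomorph.isHomeomorph
    have h2 : Set.range (fun z : ↥ZG => u.left z.1) = u.left '' ZG := by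
      ext y
      constructor
      · rintro ⟨z, rfl⟩
        exact ⟨z.1, z.2, rfl⟩
      · rintro ⟨z, hz, rfl⟩
        exact ⟨⟨z, hz⟩, rfl⟩
    rw [h1, h2]
  -- generic points
  have hδ := Groth.Agent.Lib.Helper73.isDimFun_trdegNat H.hom
  obtain ⟨η₁, hη₁⟩ := QuasiSober.sober hirr hcl
  obtain ⟨η₀, hη₀⟩ := QuasiSober.sober hZH.1 hZHcl
  have h1 : topologicalKrullDim ↥(u.left '' ZG) =
      ((Groth.Agent.Lib.Helper73.trdegNat H.hom η₁ : ℕ∞) : WithBot ℕ∞) := by
    rw [← hη₁.def]
    exact hδ.topologicalKrullDim_closure_singleton η₁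
  have h0 : topologicalKrullDim ↥ZH =
      ((Groth.Agent.Lib.Helper73.trdegNat H.hom η₀ : ℕ∞) : WithBot ℕ∞) := by
    rw [← hη₀.def]
    exact hδ.topologicalKrullDim_closure_singleton η₀
  have hsp : η₀ ⤳ η₁ := by
    rw [specializes_iff_mem_closure, hη₀.def]
    exact hsub (hη₁.def ▸ subset_closure rfl)
  have heq : Groth.Agent.Lib.Helper73.trdegNat H.hom η₁ =
      Groth.Agent.Lib.Helper73.trdegNat H.hom η₀ := by
    have : ((Groth.Agent.Lib.Helper73.trdegNat H.hom η₁ : ℕ∞) : WithBot ℕ∞) =
        ((Groth.Agent.Lib.Helper73.trdegNat H.hom η₀ : ℕ∞) : WithBot ℕ∞) := by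
      rw [← h1, ← h0, hdimg, hdG, hdH, hdim]
    exact_mod_cast this
  have hηeq : η₀ = η₁ := by
    by_contra hne
    have := hδ.lt_of_specializes hsp hne
    omega
  rw [← hη₁.def, ← hη₀.def, hηeq]

end Groth.Agent.S18027
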