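import Groth.Statements.S1803
-- import your own Groth.Agent.* helpers here
import Groth.Agent.Lib.Helper85.GorField
import Groth.Agent.Lib.Helper85.GorFiber

set_option autoImplicit false
universe u
open scoped TensorProduct
open Goren

namespace Groth.Agent.S1803

/-- Let k'/k be any field extension, C a k-algebra of finite type, q a prime of C ⊗_k k' and p its
contraction to C. Then C_p is Gorenstein if and only if (C ⊗_k k')_q is Gorenstein. -/
theorem result (k k' : Type u) [Field k] [Field k'] [Algebra k k'] (C : Type u) [CommRing C] [Algebra k C] [Algebra.FiniteType k C] (q : PrimeSpectrum (C ⊗[k] k')) : LocCoh.IsGorensteinLocalRing (Localization.AtPrime (q.asIdeal.comap (algebraMap C (C ⊗[k] k')))) ↔ LocCoh.IsGorensteinLocalRing (Localization.AtPrime q.asIdeal) := by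
  haveI : q.asIdeal.IsPrime := q.isPrime
  haveI : IsNoetherianRing C := Algebra.FiniteType.isNoetherianRing k C
  haveI : IsNoetherianRing (C ⊗[k] k') := by
    haveI : IsNoetherianRing (k' ⊗[k] C) := Algebra.FiniteType.isNoetherianRing k' (k' ⊗[k] C)
    exact isNoetherianRing_of_ringEquiv _ (Algebra.TensorProduct.comm k k' C).toRingEquiv
  haveI : LocCoh.IsGorensteinRing
      ((q.asIdeal.comap (algebraMap C (C ⊗[k] k'))).Fiber (C ⊗[k] k')) := by
    have hfg : ∃ s : Finset (q.asIdeal.comap (algebraMap C (C ⊗[k] k'))).ResidueField,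
        IntermediateField.adjoin k
          (s : Set (q.asIdeal.comap (algebraMap C (C ⊗[k] k'))).ResidueField) = ⊤ := by
      haveI : Algebra.EssFiniteType k (q.asIdeal.comap (algebraMap C (C ⊗[k] k'))).ResidueField :=
        Algebra.EssFiniteType.comp k C _
      exact IntermediateField.fg_top k _
    haveI : LocCoh.IsGorensteinRing k' := by
      haveI := Groth.Agent.Lib.Helper85.GorRing.gor_of_isField k' (Field.toIsField k')
      exact Groth.Agent.Lib.Helper85.GorRing.gorRing_of_gorLocal k'
    haveI := Groth.Agent.Lib.Helper85.GorField.gorBC_of_fg k _ hfg k' inferInstance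
    exact Groth.Agent.Lib.Helper85.GorRing.gorRing_of_ringEquiv
      (Algebra.TensorProduct.cancelBaseChange k C C
        (q.asIdeal.comap (algebraMap C (C ⊗[k] k'))).ResidueField k').symm.toRingEquiv
  exact (Groth.Agent.Lib.Helper85.GorFiber.gor_iff_of_fiber C (C ⊗[k] k')
    (q.asIdeal.comap (algebraMap C (C ⊗[k] k'))) q.asIdeal rfl).symm

end Groth.Agent.S1803
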