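import Groth.Statements.S1804
import Groth.Agent.Lib.Helper89.HDIRes2

set_option autoImplicit false
universe u
open CategoryTheory
attribute [local instance] HasDerivedCategory.standard
open LocCoh

namespace Groth.Agent.S1804

/-- For Noetherian rings and stated on cohomology. Suppose A → B is a ring map between Noetherian rings,
I is an ideal of A whose extension to B is J = IB, and K is an object of D(B). For every i, the
A-module H^i_I of the restriction of K to D(A) (the direct limit of Hom(A/I^n, K[i])) is isomorphic
to the restriction to A of the B-module H^i_J(K). -/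
theorem result (A B : Type u) [CommRing A] [CommRing B] [Algebra A B] [IsNoetherianRing A] [IsNoetherianRing B] (I : Ideal A) (K : Dual.D B) (i : ℤ) : Nonempty (Dual2.HDI A I ((DRing.restrictD (algebraMap A B)).obj K) i ≅ (ModuleCat.restrictScalars (algebraMap A B)).obj (Dual2.HDI B (I.map (algebraMap A B)) K i)) := by
  classical
  let φ := algebraMap A B
  haveI : DRing.HasRgammaI I := Groth.Agent.Lib.Helper39.GMD.LDUnb.hasRgammaI I
  haveI : DRing.HasRgammaI (I.map φ) := Groth.Agent.Lib.Helper39.GMD.LDUnb.hasRgammaI _
  obtain ⟨e0⟩ := Groth.Agent.Lib.Helper89.HDIRes.nonempty_iso_rg_restrict φ I K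
  obtain ⟨e1⟩ := Groth.Agent.S1812.result A I
    ((isNoetherianRing_iff_ideal_fg A).1 inferInstance I) ((DRing.restrictD φ).obj K) i
  obtain ⟨e2⟩ := Groth.Agent.S1812.result B (I.map φ)
    ((isNoetherianRing_iff_ideal_fg B).1 inferInstance _) K i
  let e3 : Dual.HD A ((DRing.RgammaI I).obj ((DRing.restrictD φ).obj K)) i ≃ₗ[A]
      (ModuleCat.restrictScalars.{u} φ).obj
        ((DerivedCategory.homologyFunctor (ModuleCat.{u} B) i).obj
          ((DRing.RgammaI (I.map φ)).obj K)) :=
    (((DerivedCategory.homologyFunctor (ModuleCat.{u} A) i).mapIso e0) ≪≫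
      Groth.Agent.Lib.Helper89.KosA.homologyRestrictIso φ _ i).toLinearEquiv
  let e4 : (ModuleCat.restrictScalars.{u} φ).obj
        ((DerivedCategory.homologyFunctor (ModuleCat.{u} B) i).obj
          ((DRing.RgammaI (I.map φ)).obj K)) ≃ₗ[A]
      (ModuleCat.restrictScalars.{u + 1} φ).obj (Dual2.HDI B (I.map φ) K i) :=
    { toFun := fun x => e2 x
      invFun := fun y => e2.symm y
      left_inv := fun x => e2.symm_apply_apply x
      right_inv := fun y => e2.apply_symm_apply y
      map_add' := fun x y => e2.map_add x y
      map_smul' := fun a x => e2.map_smul (φ a) x }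
  exact ⟨(e1.symm.trans (e3.trans e4)).toModuleIso⟩

end Groth.Agent.S1804
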