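import Groth.Statements.S18040
import Mathlib
-- import your own Groth.Agent.* helpers here

set_option autoImplicit false
universe u
open AdjLin

namespace Groth.Agent.S18040

open MvPolynomial Module

noncomputable def E {k : Type u} [Field k] (Z : Finset (Projectivization k (Fin 4 → k))) (j : ℕ) :
    ↥(homogeneousSubmodule (Fin 4) k j) →ₗ[k] (↥Z → k) :=
  (LinearMap.pi fun z : ↥Z => (MvPolynomial.aeval (R := k) z.1.rep).toLinearMap) ∘ₗ
    (MvPolynomial.homogeneousSubmodule (Fin 4) k j).subtype

theorem E_apply {k : Type u} [Field k] (Z : Finset (Projectivization k (Fin 4 → k))) (j : ℕ)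
    (q : ↥(homogeneousSubmodule (Fin 4) k j)) (z : ↥Z) :
    E Z j q z = MvPolynomial.eval z.1.rep q.1 := rfl

open Classical in
theorem single_not_mem {k : Type u} [Field k] (Z : Finset (Projectivization k (Fin 4 → k))) (n : ℕ)
    (hCB : (∀ z ∈ Z, ∀ p : MvPolynomial (Fin 4) k, p.IsHomogeneous n →
      (∀ z' ∈ Z, z' ≠ z → MvPolynomial.eval z'.rep p = 0) → MvPolynomial.eval z.rep p = 0))
    (z : ↥Z) : (Pi.single z 1 : ↥Z → k) ∉ LinearMap.range (E Z n) := by
  classical
  rintro ⟨q, hq⟩
  have h1 : MvPolynomial.eval z.1.rep q.1 = 0 := by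
    apply hCB z.1 z.2 q.1 ((mem_homogeneousSubmodule _ _).mp q.2)
    intro z' hz' hne
    have := congrFun hq ⟨z', hz'⟩
    rw [E_apply] at this
    rw [this, Pi.single_apply, if_neg]
    intro h
    apply hne
    exact congrArg Subtype.val h
  have h2 := congrFun hq z
  rw [E_apply, h1, Pi.single_eq_same] at h2
  exact zero_ne_one h2

open Classical in
theorem exists_functional {k : Type u} [Field k] [Infinite k]
    (Z : Finset (Projectivization k (Fin 4 → k))) (n : ℕ)
    (hCB : (∀ z ∈ Z, ∀ p : MvPolynomial (Fin 4) k, p.IsHomogeneous n →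
      (∀ z' ∈ Z, z' ≠ z → MvPolynomial.eval z'.rep p = 0) → MvPolynomial.eval z.rep p = 0)) :
    ∃ f : Module.Dual k (↥Z → k), (∀ v ∈ LinearMap.range (E Z n), f v = 0) ∧
      ∀ z : ↥Z, f (Pi.single z 1) ≠ 0 := by
  classical
  set A : Submodule k (Module.Dual k (↥Z → k)) := (LinearMap.range (E Z n)).dualAnnihilator with hA
  let P : ↥Z → Subspace k ↥A := fun z =>
    LinearMap.ker ((Module.Dual.eval k (↥Z → k) (Pi.single z 1)) ∘ₗ A.subtype)
  have hne : ⋃ z, ((P z : Submodule k ↥A) : Set ↥A) ≠ Set.univ := by
    intro hcov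
    obtain ⟨z, hz⟩ := Subspace.exists_eq_top_of_iUnion_eq_univ hcov
    obtain ⟨f, hf1, hf2⟩ := Submodule.exists_le_ker_of_notMem (single_not_mem Z n hCB z)
    have hfA : f ∈ A := by
      rw [hA, Submodule.mem_dualAnnihilator]
      intro v hv
      exact hf2 hv
    have : (⟨f, hfA⟩ : ↥A) ∈ P z := by rw [hz]; trivial
    rw [LinearMap.mem_ker] at this
    exact hf1 this
  rw [Ne, Set.eq_univ_iff_forall, not_forall] at hne
  obtain ⟨f, hf⟩ := hne
  refine ⟨f.1, ?_, ?_⟩
  · exact (Submodule.mem_dualAnnihilator _).mp f.2
  · intro z hz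
    apply hf
    rw [Set.mem_iUnion]
    exact ⟨z, by
      rw [SetLike.mem_coe, LinearMap.mem_ker]
      exact hz⟩

/-- Let k be an algebraically closed field of characteristic zero and Z a finite set of points of
projective 3-space over k, realised as points of the projectivization of k⁴, a homogeneous form in
four variables being evaluated at the chosen representative of a point (its vanishing does not
depend on the choice). Suppose Z has the Cayley–Bacharach property in degree n: every form of degree
n vanishing at all points of Z but one vanishes at that point as well. Then for every m ≤ n, either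
there is a nonzero form of degree n − m vanishing at every point of Z, or the rank of the evaluation
map from forms of degree m to functions on Z is at most the number of points of Z minus the
dimension of the space of forms of degree n − m. -/
theorem result (k : Type u) [Field k] [IsAlgClosed k] [CharZero k]
    (Z : Finset (Projectivization k (Fin 4 → k))) (n : ℕ)
    (hCB : (∀ z ∈ Z, ∀ p : MvPolynomial (Fin 4) k, p.IsHomogeneous n →
      (∀ z' ∈ Z, z' ≠ z → MvPolynomial.eval z'.rep p = 0) → MvPolynomial.eval z.rep p = 0))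
    (m : ℕ) (hm : m ≤ n) :
    (∃ s : MvPolynomial (Fin 4) k, s.IsHomogeneous (n - m) ∧ s ≠ 0 ∧ ∀ z ∈ Z, MvPolynomial.eval z.rep s = 0) ∨
      Module.finrank k (LinearMap.range
          ((LinearMap.pi fun z : ↥Z => (MvPolynomial.aeval (R := k) z.1.rep).toLinearMap) ∘ₗ
            (MvPolynomial.homogeneousSubmodule (Fin 4) k m).subtype)) +
        Module.finrank k ↥(MvPolynomial.homogeneousSubmodule (Fin 4) k (n - m)) ≤ Z.card := by
  classical
  have : Infinite k := IsAlgClosed.instInfinite
  by_cases hinj : Function.Injective (E Z (n - m))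
  · right
    obtain ⟨f, hf1, hf2⟩ := exists_functional Z n hCB
    let Φ : (↥Z → k) →ₗ[k] Module.Dual k (↥Z → k) := (LinearMap.mul k (↥Z → k)).compr₂ f
    have hΦ : ∀ a b, Φ a b = f (a * b) := fun a b => rfl
    have hΦinj : Function.Injective Φ := by
      rw [injective_iff_map_eq_zero]
      intro a ha
      funext z
      have h1 : Φ a (Pi.single z 1) = 0 := by rw [ha]; rfl
      rw [hΦ] at h1
      have h2 : a * Pi.single z 1 = a z • (Pi.single z 1 : ↥Z → k) := by
        funext w
        by_cases hw : w = z
        · subst hw; simp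
        · simp [hw]
      rw [h2, map_smul, smul_eq_mul] at h1
      rcases mul_eq_zero.mp h1 with h | h
      · exact h
      · exact absurd h (hf2 z)
    have hcomp_inj : Function.Injective (Φ ∘ₗ E Z (n - m)) := by
      rw [LinearMap.coe_comp]
      exact hΦinj.comp hinj
    have hrange : LinearMap.range (Φ ∘ₗ E Z (n - m)) ≤ (LinearMap.range (E Z m)).dualAnnihilator := by
      rintro _ ⟨s, rfl⟩
      rw [Submodule.mem_dualAnnihilator]
      rintro _ ⟨q, rfl⟩
      rw [LinearMap.comp_apply, hΦ]
      have hsq : s.1 * q.1 ∈ homogeneousSubmodule (Fin 4) k n := by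
        rw [mem_homogeneousSubmodule]
        have := (((mem_homogeneousSubmodule _ _).mp s.2)).mul ((mem_homogeneousSubmodule _ _).mp q.2)
        rwa [Nat.sub_add_cancel hm] at this
      apply hf1
      refine ⟨⟨s.1 * q.1, hsq⟩, ?_⟩
      funext z
      rw [E_apply, Pi.mul_apply, E_apply, E_apply, map_mul]
    have h1 := LinearMap.finrank_range_of_inj hcomp_inj
    have h2 := Submodule.finrank_mono hrange
    have h3 := Subspace.finrank_add_finrank_dualAnnihilator_eq (LinearMap.range (E Z m))
    have h4 : Module.finrank k (↥Z → k) = Z.card := by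
      rw [Module.finrank_fintype_fun_eq_card, Fintype.card_coe]
    change Module.finrank k (LinearMap.range (E Z m)) + _ ≤ _
    omega
  · left
    rw [← LinearMap.ker_eq_bot, Submodule.eq_bot_iff] at hinj
    push Not at hinj
    obtain ⟨s, hs1, hs2⟩ := hinj
    refine ⟨s.1, (mem_homogeneousSubmodule _ _).mp s.2, ?_, ?_⟩
    · intro h
      apply hs2
      exact Subtype.ext h
    · intro z hz
      rw [LinearMap.mem_ker] at hs1
      have := congrFun hs1 ⟨z, hz⟩
      rw [E_apply] at this
      exact this

end Groth.Agent.S18040
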