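import Groth.Statements.S18041
import Mathlib

set_option autoImplicit false
universe u
open AdjLin

set_option linter.unusedSectionVars false

namespace Groth.Agent.S18041Aux
open MvPolynomial

variable {k : Type u} [Field k] [Infinite k]

local notation "M4" => (Fin 4 → k)

/-- the linear form attached to a functional -/
noncomputable def linForm (φ : Module.Dual k (Fin 4 → k)) : MvPolynomial (Fin 4) k :=
  ∑ i, C (φ (fun j => if i = j then 1 else 0)) * X i

theorem linForm_hom (φ : Module.Dual k (Fin 4 → k)) : (linForm φ).IsHomogeneous 1 :=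
  IsHomogeneous.sum _ _ _ fun i _ => isHomogeneous_C_mul_X _ i

theorem eval_linForm (φ : Module.Dual k (Fin 4 → k)) (v : Fin 4 → k) :
    eval v (linForm φ) = φ v := by
  rw [LinearMap.pi_apply_eq_sum_univ φ v]
  simp only [linForm, map_sum, map_mul, eval_C, eval_X, smul_eq_mul]
  exact Finset.sum_congr rfl fun i _ => mul_comm _ _

/-- hyperplane through `W` avoiding finitely many points outside `W` -/
theorem exists_form (W : Submodule k (Fin 4 → k)) (T : Finset (Projectivization k (Fin 4 → k)))
    (hT : ∀ z ∈ T, z.rep ∉ W) :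
    ∃ φ : Module.Dual k (Fin 4 → k), (∀ w ∈ W, φ w = 0) ∧ ∀ z ∈ T, φ z.rep ≠ 0 := by
  obtain ⟨f, hf⟩ := Module.exists_dual_forall_apply_ne_zero (K := k) (M := (Fin 4 → k) ⧸ W)
    (ι := T) (fun z => W.mkQ z.1.rep) (by
      intro z
      simpa [Submodule.Quotient.mk_eq_zero] using hT z.1 z.2)
  refine ⟨f.comp W.mkQ, ?_, ?_⟩
  · intro w hw
    have : W.mkQ w = 0 := by simpa [Submodule.Quotient.mk_eq_zero] using hw
    rw [LinearMap.comp_apply, this, map_zero]
  · intro z hz
    exact hf ⟨z, hz⟩

theorem rep_notMem_of_ne {z z' : Projectivization k (Fin 4 → k)} (h : z ≠ z') :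
    z.rep ∉ z'.submodule := by
  intro hmem
  rw [Projectivization.submodule_eq, Submodule.mem_span_singleton] at hmem
  obtain ⟨c, hc⟩ := hmem
  apply h
  rw [← Projectivization.mk_rep z, ← Projectivization.mk_rep z',
    Projectivization.mk_eq_mk_iff']
  exact ⟨c, hc⟩

theorem le_iff_rep_mem (z : Projectivization k (Fin 4 → k)) (W : Submodule k (Fin 4 → k)) :
    z.submodule ≤ W ↔ z.rep ∈ W := by
  rw [Projectivization.submodule_eq, Submodule.span_singleton_le_iff_mem]

/-- separating form -/
theorem exists_sep (T : Finset (Projectivization k (Fin 4 → k)))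
    (z : Projectivization k (Fin 4 → k)) (hz : z ∉ T) (e : ℕ) (he : T.card ≤ e) :
    ∃ p : MvPolynomial (Fin 4) k, p.IsHomogeneous e ∧ (∀ z' ∈ T, eval z'.rep p = 0) ∧
      eval z.rep p ≠ 0 := by
  classical
  have h1 : ∀ z' ∈ T, ∃ φ : Module.Dual k (Fin 4 → k), φ z'.rep = 0 ∧ φ z.rep ≠ 0 := by
    intro z' hz'
    have hne : z ≠ z' := fun h => hz (h ▸ hz')
    obtain ⟨φ, hφ1, hφ2⟩ := exists_form z'.submodule {z} (by
      intro y hy
      rw [Finset.mem_singleton] at hy
      rw [hy]; exact rep_notMem_of_ne hne)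
    refine ⟨φ, hφ1 _ ((le_iff_rep_mem z' _).mp le_rfl), hφ2 z (Finset.mem_singleton_self z)⟩
  choose! φ hφ using h1
  obtain ⟨ψ, -, hψ⟩ := exists_form (⊥ : Submodule k (Fin 4 → k)) {z} (by
    intro y _
    rw [Submodule.mem_bot]; exact y.rep_nonzero)
  have hψz := hψ z (Finset.mem_singleton_self z)
  refine ⟨(∏ z' ∈ T, linForm (φ z')) * (linForm ψ) ^ (e - T.card), ?_, ?_, ?_⟩
  · have h1 := IsHomogeneous.prod T (fun z' => linForm (φ z')) (fun _ => 1)
      (fun z' _ => linForm_hom (φ z'))
    have h2 := (linForm_hom ψ).pow (e - T.card)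
    have h3 := h1.mul h2
    have hdeg : ∑ _z' ∈ T, 1 + 1 * (e - T.card) = e := by
      rw [Finset.sum_const, smul_eq_mul, mul_one, one_mul]; omega
    rwa [hdeg] at h3
  · intro z' hz'
    rw [map_mul, map_prod]
    rw [Finset.prod_eq_zero hz' (by rw [eval_linForm]; exact (hφ z' hz').1), zero_mul]
  · rw [map_mul, map_prod, map_pow]
    refine mul_ne_zero (Finset.prod_ne_zero_iff.mpr fun z' hz' => ?_) (pow_ne_zero _ ?_)
    · rw [eval_linForm]; exact (hφ z' hz').2
    · rw [eval_linForm]; exact hψz

/-- Cayley–Bacharach property in degree `n` -/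
def CB (Z : Finset (Projectivization k (Fin 4 → k))) (n : ℕ) : Prop :=
  ∀ z ∈ Z, ∀ p : MvPolynomial (Fin 4) k, p.IsHomogeneous n →
    (∀ z' ∈ Z, z' ≠ z → eval z'.rep p = 0) → eval z.rep p = 0

theorem card_ge (Z : Finset (Projectivization k (Fin 4 → k))) (hZ : Z.Nonempty) (n : ℕ)
    (hCB : CB Z n) : n + 2 ≤ Z.card := by
  classical
  by_contra hlt
  push Not at hlt
  obtain ⟨z, hz⟩ := hZ
  have hcard : (Z.erase z).card ≤ n := by
    rw [Finset.card_erase_of_mem hz]; omega
  obtain ⟨p, hp, hp0, hpz⟩ := exists_sep (Z.erase z) z (Finset.notMem_erase z Z) n hcard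
  exact hpz (hCB z hz p hp fun z' hz' hne => hp0 z' (Finset.mem_erase.mpr ⟨hne, hz'⟩))

/-- residual set w.r.t. a subspace satisfies CB in one degree less -/
theorem CB_residual (Z : Finset (Projectivization k (Fin 4 → k))) (n : ℕ) (hCB : CB Z (n + 1))
    (W : Submodule k (Fin 4 → k)) [DecidablePred fun z : Projectivization k (Fin 4 → k) => ¬ z.submodule ≤ W] :
    CB (Z.filter (fun z => ¬ z.submodule ≤ W)) n := by
  classical
  obtain ⟨φ, hφ1, hφ2⟩ := exists_form W (Z.filter (fun z => ¬ z.submodule ≤ W)) (by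
    intro z hz
    rw [← le_iff_rep_mem]
    exact (Finset.mem_filter.mp hz).2)
  intro z hz p hp hvan
  have hzZ := (Finset.mem_filter.mp hz).1
  have h := hCB z hzZ (p * linForm φ) (hp.mul (linForm_hom φ)) (by
    intro z' hz' hne
    rw [map_mul, eval_linForm]
    by_cases hW : z'.submodule ≤ W
    · rw [hφ1 _ ((le_iff_rep_mem z' W).mp hW), mul_zero]
    · rw [hvan z' (Finset.mem_filter.mpr ⟨hz', hW⟩) hne, zero_mul])
  rw [map_mul, eval_linForm] at h
  rcases mul_eq_zero.mp h with h | h
  · exact h
  · exact absurd h (hφ2 z hz)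

def Collinear (Z : Finset (Projectivization k (Fin 4 → k))) : Prop :=
  ∃ W : Submodule k (Fin 4 → k), Module.finrank k ↥W = 2 ∧ ∀ z ∈ Z, z.submodule ≤ W

theorem line_through (z1 z2 : Projectivization k (Fin 4 → k)) (hne : z1 ≠ z2) :
    ∃ W : Submodule k (Fin 4 → k), Module.finrank k ↥W = 2 ∧ z1.submodule ≤ W ∧
      z2.submodule ≤ W := by
  have hli : LinearIndependent k ![z1.rep, z2.rep] :=
    Projectivization.linearIndependent_pair_iff_ne.mpr hne
  refine ⟨Submodule.span k (Set.range ![z1.rep, z2.rep]), ?_, ?_, ?_⟩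
  · rw [finrank_span_eq_card hli]; simp
  · rw [le_iff_rep_mem]; exact Submodule.subset_span ⟨0, rfl⟩
  · rw [le_iff_rep_mem]; exact Submodule.subset_span ⟨1, rfl⟩

theorem collinear_of_CB : ∀ (n : ℕ) (Z : Finset (Projectivization k (Fin 4 → k))),
    Z.Nonempty → CB Z n → Z.card ≤ 2 * n + 1 → Collinear Z := by
  classical
  intro n
  induction n with
  | zero =>
    intro Z hZ hCB hcard
    have := card_ge Z hZ 0 hCB
    omega
  | succ n ih =>
    intro Z hZ hCB hcard
    have hge := card_ge Z hZ (n + 1) hCB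
    obtain ⟨z1, hz1, z2, hz2, hne⟩ := Finset.one_lt_card.mp (by omega : 1 < Z.card)
    obtain ⟨L, hL2, hL1a, hL1b⟩ := line_through z1 z2 hne
    by_cases hall : ∀ z ∈ Z, z.submodule ≤ L
    · exact ⟨L, hL2, hall⟩
    · push Not at hall
      obtain ⟨z0, hz0, hz0L⟩ := hall
      set Z' := Z.filter (fun z => ¬ z.submodule ≤ L) with hZ'
      have hZ'ne : Z'.Nonempty := ⟨z0, Finset.mem_filter.mpr ⟨hz0, hz0L⟩⟩
      have hCB' : CB Z' n := CB_residual Z n hCB L
      have hge' := card_ge Z' hZ'ne n hCB'
      have hsplit : (Z.filter (fun z => z.submodule ≤ L)).card + Z'.card = Z.card := by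
        rw [hZ']
        convert Finset.card_filter_add_card_filter_not (s := Z) (fun z => z.submodule ≤ L)
      have h2 : 2 ≤ (Z.filter (fun z => z.submodule ≤ L)).card := by
        have : ({z1, z2} : Finset _) ⊆ Z.filter (fun z => z.submodule ≤ L) := by
          intro y hy
          rw [Finset.mem_insert, Finset.mem_singleton] at hy
          rcases hy with rfl | rfl
          · exact Finset.mem_filter.mpr ⟨hz1, hL1a⟩
          · exact Finset.mem_filter.mpr ⟨hz2, hL1b⟩
        have hc := Finset.card_le_card this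
        rwa [Finset.card_pair hne] at hc
      have hle' : Z'.card ≤ 2 * n + 1 := by omega
      obtain ⟨L', hL'2, hL'⟩ := ih Z' hZ'ne hCB' hle'
      by_cases hall' : ∀ z ∈ Z, z.submodule ≤ L'
      · exact ⟨L', hL'2, hall'⟩
      · exfalso
        push Not at hall'
        obtain ⟨y0, hy0, hy0L⟩ := hall'
        set Z'' := Z.filter (fun z => ¬ z.submodule ≤ L') with hZ''
        have hZ''ne : Z''.Nonempty := ⟨y0, Finset.mem_filter.mpr ⟨hy0, hy0L⟩⟩
        have hCB'' : CB Z'' n := CB_residual Z n hCB L'
        have hge'' := card_ge Z'' hZ''ne n hCB''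
        have hsplit' : (Z.filter (fun z => z.submodule ≤ L')).card + Z''.card = Z.card := by
          rw [hZ'']
          convert Finset.card_filter_add_card_filter_not (s := Z) (fun z => z.submodule ≤ L')
        have hsub : Z' ⊆ Z.filter (fun z => z.submodule ≤ L') := by
          intro y hy
          exact Finset.mem_filter.mpr ⟨(Finset.mem_filter.mp hy).1, hL' y hy⟩
        have hc := Finset.card_le_card hsub
        omega

end Groth.Agent.S18041Aux

namespace Groth.Agent.S18041

/-- Let k be an algebraically closed field of characteristic zero, n ≥ 1, and Z a nonempty finite set of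
points of projective 3-space over k (points of the projectivization of k⁴, forms in four variables
being evaluated at the chosen representative). Suppose Z has the Cayley–Bacharach property in degree
n: every form of degree n vanishing at all points of Z but one vanishes at that point as well. Then
Z has at least n + 2 points; and if Z has at most 2n + 1 points, all points of Z lie on one line
(their lines in k⁴ lie in a common 2-dimensional subspace). (The source states this for an arbitrary
zero-dimensional subscheme with length in place of cardinality; only the reduced case is stated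
here. The lower bound needs Z nonempty: the empty set has the Cayley–Bacharach property vacuously.) -/
theorem result (k : Type u) [Field k] [IsAlgClosed k] [CharZero k]
    (Z : Finset (Projectivization k (Fin 4 → k))) (hZ : Z.Nonempty) (n : ℕ) (hn : 1 ≤ n)
    (hCB : (∀ z ∈ Z, ∀ p : MvPolynomial (Fin 4) k, p.IsHomogeneous n →
      (∀ z' ∈ Z, z' ≠ z → MvPolynomial.eval z'.rep p = 0) → MvPolynomial.eval z.rep p = 0)) :
    n + 2 ≤ Z.card ∧
      (Z.card ≤ 2 * n + 1 → ∃ W : Submodule k (Fin 4 → k), Module.finrank k ↥W = 2 ∧ ∀ z ∈ Z, z.submodule ≤ W) := by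
  exact ⟨Groth.Agent.S18041Aux.card_ge Z hZ n hCB,
    fun hcard => Groth.Agent.S18041Aux.collinear_of_CB n Z hZ hCB hcard⟩

end Groth.Agent.S18041
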