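import Groth.Statements.S18049
import Mathlib.Tactic
-- import your own Groth.Agent.* helpers here

set_option autoImplicit false
open STCI

namespace Groth.Agent.S18049

/-- For natural numbers 0 < k < N such that k does not divide N, ⌊N/k⌋ ≤ (N - k)/gcd(k, N); stated here
in the equivalent cleared form ⌊N/k⌋ · gcd(k, N) ≤ N - k. -/
theorem result (k N : ℕ) (hk : 0 < k) (hkN : k < N) (hndvd : ¬ k ∣ N) :
    N / k * Nat.gcd k N ≤ N - k := by
  obtain ⟨k', hk'⟩ := Nat.gcd_dvd_left k N
  obtain ⟨N', hN'⟩ := Nat.gcd_dvd_right k N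
  set g := Nat.gcd k N with hg
  have hgpos : 0 < g := Nat.gcd_pos_of_pos_left N hk
  have hk'pos : 0 < k' := by
    rcases Nat.eq_zero_or_pos k' with h | h
    · rw [h, Nat.mul_zero] at hk'; omega
    · exact h
  have hdiv : N / k = N' / k' := by
    rw [hN', hk', Nat.mul_div_mul_left _ _ hgpos]
  have hnd : ¬ k' ∣ N' := by
    intro h
    apply hndvd
    rw [hN', hk']
    exact Nat.mul_dvd_mul_left g h
  have hk'2 : 2 ≤ k' := by
    rcases Nat.lt_or_ge k' 2 with h | h
    · exfalso
      apply hnd
      have : k' = 1 := by omega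
      rw [this]; exact one_dvd _
    · exact h
  have hlt : k' < N' := by
    have : g * k' < g * N' := by rw [← hk', ← hN']; exact hkN
    exact Nat.lt_of_mul_lt_mul_left this
  have hmod : 0 < N' % k' := by
    rcases Nat.eq_zero_or_pos (N' % k') with h | h
    · exact absurd (Nat.dvd_of_mod_eq_zero h) hnd
    · exact h
  have hdm := Nat.div_add_mod N' k'
  set q := N' / k' with hq
  set r := N' % k' with hr
  have hq1 : 1 ≤ q := by
    rcases Nat.eq_zero_or_pos q with h | h
    · rw [h] at hdm
      have := Nat.mod_lt N' hk'pos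
      omega
    · exact h
  have key : q + k' ≤ N' := by
    rcases Nat.lt_or_ge q 2 with h | h
    · have : q = 1 := by omega
      rw [this] at hdm ⊢
      omega
    · have : 2 * q ≤ k' * q := Nat.mul_le_mul_right q hk'2
      nlinarith
  rw [hdiv]
  have : q * g + k ≤ N := by
    rw [hN', hk']
    calc q * g + g * k' = g * (q + k') := by ring
      _ ≤ g * N' := Nat.mul_le_mul_left g key
  omega

end Groth.Agent.S18049
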