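import Groth.Statements.S18051
import Mathlib
-- import your own Groth.Agent.* helpers here

set_option autoImplicit false
open STCI

namespace Groth.Agent.S18051

theorem three_step_real (A B X Y : ℕ) (hY : 0 < Y) (hX : 0 < X) :
    (((((Y : ℚ) + X) * (1 + B) + Y) - ((Y : ℚ) + X)) / (2 + A)
      + (((Y : ℚ) + X) - Y) / ((2 + A : ℚ) + (1 + B))
      + (Y : ℚ) / ((2 + A : ℚ) + (1 + B) + 1))
      ≤ ((((Y : ℚ) + X) * (1 + B) + Y)) ^ 2 /
        ((((Y : ℚ) + X) * (1 + B) + Y) * (2 + A) + ((Y : ℚ) + X)) := by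
  have hY' : (0 : ℚ) < Y := by exact_mod_cast hY
  have hX' : (0 : ℚ) < X := by exact_mod_cast hX
  have hA : (0 : ℚ) ≤ A := by positivity
  have hB : (0 : ℚ) ≤ B := by positivity
  have h1 : (0 : ℚ) < 2 + A := by positivity
  have h2 : (0 : ℚ) < (2 + A : ℚ) + (1 + B) := by positivity
  have h3 : (0 : ℚ) < (2 + A : ℚ) + (1 + B) + 1 := by positivity
  have h4 : (0 : ℚ) < (((Y : ℚ) + X) * (1 + B) + Y) * (2 + A) + ((Y : ℚ) + X) := by positivity
  rw [div_add_div _ _ h1.ne' h2.ne', div_add_div _ _ (mul_pos h1 h2).ne' h3.ne',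
    div_le_div_iff₀ (mul_pos (mul_pos h1 h2) h3) h4]
  rw [← sub_nonneg]
  ring_nf
  positivity


open W4c5stcicurvesp3 in
/-- Let k ≤ N/2 be positive integers and let r_i = rem_i(N, k), d_i = div_i(N, k) be the iterated
Euclidean remainders and quotients of (N, k) (r_0 = k, r_1 = N mod k, r_2 = r_0 mod r_1, d_1 =
⌊N/k⌋, d_2 = ⌊r_0/r_1⌋). If the least positive t with r_t = 0 satisfies t ≥ 3, i.e. r_1 ≠ 0 and r_2
≠ 0, then (r_0 - r_1)/d_1 + (r_1 - r_2)/(d_1 + d_2) + r_2/(d_1 + d_2 + 1) ≤ k²/N (in ℚ). -/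
theorem result (k N : ℕ) (hk : 0 < k) (hkN : 2 * k ≤ N)
    (h1 : irem N k 1 ≠ 0) (h2 : irem N k 2 ≠ 0) :
    ((irem N k 0 : ℚ) - irem N k 1) / (idiv N k 1)
      + ((irem N k 1 : ℚ) - irem N k 2) / ((idiv N k 1 : ℚ) + idiv N k 2)
      + (irem N k 2 : ℚ) / ((idiv N k 1 : ℚ) + idiv N k 2 + 1)
      ≤ (k : ℚ) ^ 2 / N := by
  have e0 : irem N k 0 = k := rfl
  have e1 : irem N k 1 = N % k := rfl
  have hx0 : N % k ≠ 0 := h1
  have e2 : irem N k 2 = k % (N % k) := by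
    show (if irem N k 1 = 0 then 0 else irem N k 0 % irem N k 1) = _
    rw [if_neg h1]
    rfl
  have d1 : idiv N k 1 = N / k := rfl
  have d2 : idiv N k 2 = k / (N % k) := by
    show (if irem N k 1 = 0 then 0 else irem N k 0 / irem N k 1) = _
    rw [if_neg h1]
    rfl
  rw [e2] at h2
  rw [e0, e1, e2, d1, d2]
  set a := N / k with ha
  set x := N % k with hx
  set b := k / x with hb
  set y := k % x with hy
  have hN : N = k * a + x := (Nat.div_add_mod N k).symm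
  have hkk : k = x * b + y := (Nat.div_add_mod k x).symm
  have ha2 : 2 ≤ a := (Nat.le_div_iff_mul_le hk).mpr hkN
  have hxk : x < k := Nat.mod_lt N hk
  have hx0' : 0 < x := Nat.pos_of_ne_zero hx0
  have hyx : y < x := Nat.mod_lt k hx0'
  have hb1 : 1 ≤ b := Nat.div_pos hxk.le hx0'
  have hy0 : 0 < y := Nat.pos_of_ne_zero h2
  obtain ⟨A, hA⟩ : ∃ A, a = 2 + A := ⟨a - 2, by omega⟩
  obtain ⟨B, hB⟩ : ∃ B, b = 1 + B := ⟨b - 1, by omega⟩
  obtain ⟨X, hX⟩ : ∃ X, x = y + X := ⟨x - y, by omega⟩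
  have hX0 : 0 < X := by omega
  have key := three_step_real A B X y hy0 hX0
  have ck : (k : ℚ) = ((y : ℚ) + X) * (1 + B) + y := by
    rw [hkk, hX, hB]; push_cast; ring
  have cN : (N : ℚ) = (((y : ℚ) + X) * (1 + B) + y) * (2 + A) + ((y : ℚ) + X) := by
    rw [hN, hA, ← ck, hX]; push_cast; ring
  have cx : (x : ℚ) = (y : ℚ) + X := by rw [hX]; push_cast; ring
  have ca : (a : ℚ) = 2 + A := by rw [hA]; push_cast; ring
  have cb : (b : ℚ) = 1 + B := by rw [hB]; push_cast; ring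
  rw [cN, ck, cx, ca, cb]
  exact key

end Groth.Agent.S18051
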