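import Groth.Statements.S18052
import Groth.Agent.S18051
import Groth.Agent.Lib.Helper91.Euclid
-- import your own Groth.Agent.* helpers here

set_option autoImplicit false
open STCI

namespace Groth.Agent.S18052

open W4c5stcicurvesp3 Lib.Helper91

theorem irem_succ_succ_le (a b n : ℕ) : irem a b (n + 2) ≤ irem a b (n + 1) := by
  rw [irem_succ_succ]
  split_ifs with h
  · exact Nat.zero_le _
  · exact (Nat.mod_lt _ (Nat.pos_of_ne_zero h)).le

theorem two_step_real (A B X : ℕ) (hX : 0 < X) :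
    ((((X : ℚ) * (1 + B)) - X) / (2 + A) + ((X : ℚ) - 0) / ((2 + A : ℚ) + (1 + B)))
      ≤ ((X : ℚ) * (1 + B)) ^ 2 / (((X : ℚ) * (1 + B)) * (2 + A) + X) := by
  have hX' : (0 : ℚ) < X := by exact_mod_cast hX
  have h1 : (0 : ℚ) < 2 + A := by positivity
  have h2 : (0 : ℚ) < (2 + A : ℚ) + (1 + B) := by positivity
  have h4 : (0 : ℚ) < ((X : ℚ) * (1 + B)) * (2 + A) + X := by positivity
  rw [div_add_div _ _ h1.ne' h2.ne', div_le_div_iff₀ (mul_pos h1 h2) h4]
  rw [← sub_nonneg]
  ring_nf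
  positivity


open W4c5stcicurvesp3 in
/-- Let k ≤ N/2 be positive integers, let r_i = rem_i(N, k) and d_i = div_i(N, k) be the iterated
Euclidean remainders and quotients of (N, k) (r_0 = k, r_1 = N mod k, …; d_1 = ⌊N/k⌋, d_i =
⌊r_{i-2}/r_{i-1}⌋), and let t be the least positive integer with r_t = 0. Then the sum over i = 0,
…, t - 1 of (r_i - r_{i+1})/(d_1 + ⋯ + d_{i+1}) is at most k²/N (in ℚ). -/
theorem result (k N t : ℕ) (hk : 0 < k) (hkN : 2 * k ≤ N) (ht : 0 < t)
    (hzero : irem N k t = 0) (hmin : ∀ i, 0 < i → i < t → irem N k i ≠ 0) :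
    ∑ i ∈ Finset.range t, ((irem N k i : ℚ) - irem N k (i + 1)) / (∑ j ∈ Finset.Icc 1 (i + 1), (idiv N k j : ℚ))
      ≤ (k : ℚ) ^ 2 / N := by
  have e0 : irem N k 0 = k := rfl
  have e1 : irem N k 1 = N % k := rfl
  have d1 : idiv N k 1 = N / k := rfl
  have hN : N = k * (N / k) + N % k := (Nat.div_add_mod N k).symm
  have ha2 : 2 ≤ N / k := (Nat.le_div_iff_mul_le hk).mpr hkN
  rcases Nat.lt_or_ge t 2 with ht1 | ht2
  · -- t = 1
    obtain rfl : t = 1 := by omega
    rw [e1] at hzero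
    rw [Finset.sum_range_one, e0, e1, hzero]
    simp only [zero_add, Finset.Icc_self, Finset.sum_singleton, d1]
    rw [hzero, add_zero] at hN
    have hkq : (0 : ℚ) < k := by exact_mod_cast hk
    have haq : (0 : ℚ) < ((N / k : ℕ) : ℚ) := by
      have : 0 < N / k := by omega
      exact_mod_cast this
    have cN : (N : ℚ) = (k : ℚ) * ((N / k : ℕ) : ℚ) := by exact_mod_cast hN
    rw [cN, Nat.cast_zero, sub_zero, div_le_div_iff₀ haq (mul_pos hkq haq)]
    nlinarith
  have h1 : irem N k 1 ≠ 0 := hmin 1 (by omega) (by omega)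
  have hx0 : N % k ≠ 0 := h1
  have hx0' : 0 < N % k := Nat.pos_of_ne_zero hx0
  have hxk : N % k < k := Nat.mod_lt N hk
  have e2 : irem N k 2 = k % (N % k) := by
    rw [irem_succ_succ, if_neg h1]; rfl
  have d2 : idiv N k 2 = k / (N % k) := by
    rw [idiv_succ_succ, if_neg h1]; rfl
  have hkk : k = (N % k) * (k / (N % k)) + k % (N % k) := (Nat.div_add_mod k (N % k)).symm
  have hb1 : 1 ≤ k / (N % k) := Nat.div_pos hxk.le hx0'
  have hD2 : ∑ j ∈ Finset.Icc 1 (1 + 1), (idiv N k j : ℚ) = (idiv N k 1 : ℚ) + idiv N k 2 := by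
    rw [show (1 + 1 : ℕ) = 2 from rfl]
    rw [show Finset.Icc 1 2 = {1, 2} from rfl]
    simp
  have hD1 : ∑ j ∈ Finset.Icc 1 (0 + 1), (idiv N k j : ℚ) = (idiv N k 1 : ℚ) := by
    simp
  rcases Nat.lt_or_ge t 3 with ht2' | ht3
  · -- t = 2
    obtain rfl : t = 2 := by omega
    rw [e2] at hzero
    rw [Finset.sum_range_succ, Finset.sum_range_one, hD1, hD2, e0, e1, e2, d1, d2, hzero]
    rw [hzero, add_zero] at hkk
    obtain ⟨A, hA⟩ : ∃ A, N / k = 2 + A := ⟨N / k - 2, by omega⟩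
    obtain ⟨B, hB⟩ : ∃ B, k / (N % k) = 1 + B := ⟨k / (N % k) - 1, by omega⟩
    have key := two_step_real A B (N % k) hx0'
    have ck : (k : ℚ) = ((N % k : ℕ) : ℚ) * (1 + B) := by
      have : ((k : ℕ) : ℚ) = (((N % k) * (k / (N % k)) : ℕ) : ℚ) := by rw [← hkk]
      rw [this, hB]; push_cast; ring
    have cN : (N : ℚ) = (((N % k : ℕ) : ℚ) * (1 + B)) * (2 + A) + ((N % k : ℕ) : ℚ) := by
      have : ((N : ℕ) : ℚ) = ((k * (N / k) + N % k : ℕ) : ℚ) := by rw [← hN]
      rw [this, hA]; push_cast; rw [← ck]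
    have ca : ((N / k : ℕ) : ℚ) = 2 + A := by rw [hA]; push_cast; ring
    have cb : ((k / (N % k) : ℕ) : ℚ) = 1 + B := by rw [hB]; push_cast; ring
    rw [ca, cb]
    conv_rhs => rw [cN, ck]
    conv_lhs => rw [ck]
    simpa using key
  · -- t ≥ 3
    have h2 : irem N k 2 ≠ 0 := hmin 2 (by omega) (by omega)
    obtain ⟨s', rfl⟩ : ∃ s', t = s' + 2 := ⟨t - 2, by omega⟩
    have h51 := Groth.Agent.S18051.result k N hk hkN h1 h2
    refine le_trans ?_ h51
    rw [Finset.sum_range_succ', Finset.sum_range_succ', hD1, hD2]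
    have hd3 : 1 ≤ idiv N k 3 := by
      rw [idiv_succ_succ, if_neg h2]
      apply Nat.div_pos _ (Nat.pos_of_ne_zero h2)
      exact irem_succ_succ_le N k 0
    have hDpos : (0 : ℚ) < (idiv N k 1 : ℚ) + idiv N k 2 + 1 := by positivity
    have hterm : ∀ i ∈ Finset.range s',
        ((irem N k (i + 1 + 1) : ℚ) - irem N k (i + 1 + 1 + 1)) /
          (∑ j ∈ Finset.Icc 1 (i + 1 + 1 + 1), (idiv N k j : ℚ)) ≤
        ((irem N k (i + 2) : ℚ) - irem N k (i + 2 + 1)) /
          ((idiv N k 1 : ℚ) + idiv N k 2 + 1) := by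
      intro i _
      have hnum : (0 : ℚ) ≤ (irem N k (i + 2) : ℚ) - irem N k (i + 2 + 1) := by
        have := irem_succ_succ_le N k (i + 1)
        rw [sub_nonneg]
        exact_mod_cast this
      have hden : (idiv N k 1 : ℚ) + idiv N k 2 + 1 ≤
          ∑ j ∈ Finset.Icc 1 (i + 1 + 1 + 1), (idiv N k j : ℚ) := by
        have hsub : ({1, 2, 3} : Finset ℕ) ⊆ Finset.Icc 1 (i + 1 + 1 + 1) := by
          intro j hj
          simp only [Finset.mem_insert, Finset.mem_singleton] at hj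
          rw [Finset.mem_Icc]
          omega
        have h3 := Finset.sum_le_sum_of_subset_of_nonneg (f := fun j => (idiv N k j : ℚ)) hsub
          (fun j _ _ => by positivity)
        have h4 : ∑ j ∈ ({1, 2, 3} : Finset ℕ), (idiv N k j : ℚ) =
            (idiv N k 1 : ℚ) + idiv N k 2 + idiv N k 3 := by
          rw [Finset.sum_insert (by decide), Finset.sum_insert (by decide), Finset.sum_singleton]
          ring
        have h5 : (1 : ℚ) ≤ idiv N k 3 := by exact_mod_cast hd3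
        linarith
      exact div_le_div_of_nonneg_left hnum hDpos hden
    have hsum := Finset.sum_le_sum hterm
    have htel : ∑ i ∈ Finset.range s', ((irem N k (i + 2) : ℚ) - irem N k (i + 2 + 1)) /
        ((idiv N k 1 : ℚ) + idiv N k 2 + 1) =
        (irem N k 2 : ℚ) / ((idiv N k 1 : ℚ) + idiv N k 2 + 1) := by
      rw [← Finset.sum_div]
      congr 1
      have := Finset.sum_range_sub' (fun i => (irem N k (i + 2) : ℚ)) s'
      simp only [zero_add] at this
      rw [show s' + 2 = s' + 2 from rfl] at this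
      rw [this, hzero]
      simp
    rw [htel] at hsum
    have : (0 : ℕ) + 1 = 1 := rfl
    simp only [zero_add] at hsum ⊢
    linarith

end Groth.Agent.S18052
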