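import Groth.Statements.S18053
import Mathlib
-- import your own Groth.Agent.* helpers here

set_option autoImplicit false
open STCI

namespace Groth.Agent.S18053

/-- Let (p_k)_{k ≥ 1} be a sequence of nonnegative integers and n a nonnegative integer such that (i)
p_1 ≤ 9 - (2/5)n, (ii) p_1 ≥ p_2 ≥ p_3 ≥ ⋯, (iii) Σ_k p_k ≤ 19 - n, and (iv) n/4 + Σ_{k ≥ 1}
p_k/(k(k+1)) ≥ 6. Then n = 0 and (p_k) is one of (9, 8, 2), (9, 9), (9, 9, 1) (followed by zeros).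
Here the sequence is indexed from 0 (so p 0 is p_1 and the weight of p k is 1/((k+1)(k+2))), (iii)
is stated for every partial sum, and the series in (iv) is the real sum Σ' over all k. -/
theorem result (p : ℕ → ℕ) (n : ℕ)
    (h1 : (p 0 : ℝ) ≤ 9 - (2 / 5 : ℝ) * n) (h2 : Antitone p)
    (h3 : ∀ m : ℕ, ((∑ k ∈ Finset.range m, p k : ℕ) : ℝ) ≤ 19 - (n : ℝ))
    (h4 : (6 : ℝ) ≤ (n : ℝ) / 4 + ∑' k : ℕ, (p k : ℝ) / (((k : ℝ) + 1) * ((k : ℝ) + 2))) :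
    n = 0 ∧ (p = (fun k => if k = 0 then 9 else if k = 1 then 8 else if k = 2 then 2 else 0)
      ∨ p = (fun k => if k = 0 then 9 else if k = 1 then 9 else 0)
      ∨ p = (fun k => if k = 0 then 9 else if k = 1 then 9 else if k = 2 then 1 else 0)) := by
  have h3' : ∀ m, (∑ k ∈ Finset.range m, p k) + n ≤ 19 := by
    intro m
    have := h3 m
    have h : ((∑ k ∈ Finset.range m, p k : ℕ) : ℝ) + (n : ℝ) ≤ 19 := by linarith
    exact_mod_cast h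
  have hp19 : p 19 = 0 := by
    have := h3' 20
    have hge : 20 * p 19 ≤ ∑ k ∈ Finset.range 20, p k := by
      calc 20 * p 19 = ∑ k ∈ Finset.range 20, p 19 := by simp
        _ ≤ ∑ k ∈ Finset.range 20, p k :=
          Finset.sum_le_sum (fun k hk => h2 (by simp at hk; omega))
    omega
  have hzero : ∀ k, 19 ≤ k → p k = 0 := fun k hk => by
    have := h2 hk; omega
  have htsum : ∑' k : ℕ, (p k : ℝ) / (((k : ℝ) + 1) * ((k : ℝ) + 2))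
      = ∑ k ∈ Finset.range 19, (p k : ℝ) / (((k : ℝ) + 1) * ((k : ℝ) + 2)) := by
    apply tsum_eq_sum
    intro k hk
    simp only [Finset.mem_range, not_lt] at hk
    rw [hzero k hk]; simp
  rw [htsum] at h4
  norm_num [Finset.sum_range_succ] at h4
  have hs := h3' 19
  simp only [Finset.sum_range_succ, Finset.sum_range_zero] at hs
  have hsR : ((0 + p 0 + p 1 + p 2 + p 3 + p 4 + p 5 + p 6 + p 7 + p 8 + p 9 + p 10 + p 11 + p 12 + p 13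
      + p 14 + p 15 + p 16 + p 17 + p 18 + n : ℕ) : ℝ) ≤ 19 := by exact_mod_cast hs
  push_cast at hsR
  have key1 : (53:ℝ) ≤ 2 * n + 5 * p 0 + p 1 := by
    linarith [(Nat.cast_nonneg (p 2) : (0:ℝ) ≤ p 2), (Nat.cast_nonneg (p 3) : (0:ℝ) ≤ p 3), (Nat.cast_nonneg (p 4) : (0:ℝ) ≤ p 4), (Nat.cast_nonneg (p 5) : (0:ℝ) ≤ p 5), (Nat.cast_nonneg (p 6) : (0:ℝ) ≤ p 6), (Nat.cast_nonneg (p 7) : (0:ℝ) ≤ p 7), (Nat.cast_nonneg (p 8) : (0:ℝ) ≤ p 8), (Nat.cast_nonneg (p 9) : (0:ℝ) ≤ p 9), (Nat.cast_nonneg (p 10) : (0:ℝ) ≤ p 10), (Nat.cast_nonneg (p 11) : (0:ℝ) ≤ p 11), (Nat.cast_nonneg (p 12) : (0:ℝ) ≤ p 12), (Nat.cast_nonneg (p 13) : (0:ℝ) ≤ p 13), (Nat.cast_nonneg (p 14) : (0:ℝ) ≤ p 14), (Nat.cast_nonneg (p 15) : (0:ℝ) ≤ p 15), (Nat.cast_nonneg (p 16) : (0:ℝ) ≤ p 16), (Nat.cast_nonneg (p 17) : (0:ℝ) ≤ p 17), (Nat.cast_nonneg (p 18) : (0:ℝ) ≤ p 18)]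
  have key2 : (303:ℝ) ≤ 12 * n + 27 * p 0 + 7 * p 1 + 2 * p 2 := by
    linarith [(Nat.cast_nonneg (p 2) : (0:ℝ) ≤ p 2), (Nat.cast_nonneg (p 3) : (0:ℝ) ≤ p 3), (Nat.cast_nonneg (p 4) : (0:ℝ) ≤ p 4), (Nat.cast_nonneg (p 5) : (0:ℝ) ≤ p 5), (Nat.cast_nonneg (p 6) : (0:ℝ) ≤ p 6), (Nat.cast_nonneg (p 7) : (0:ℝ) ≤ p 7), (Nat.cast_nonneg (p 8) : (0:ℝ) ≤ p 8), (Nat.cast_nonneg (p 9) : (0:ℝ) ≤ p 9), (Nat.cast_nonneg (p 10) : (0:ℝ) ≤ p 10), (Nat.cast_nonneg (p 11) : (0:ℝ) ≤ p 11), (Nat.cast_nonneg (p 12) : (0:ℝ) ≤ p 12), (Nat.cast_nonneg (p 13) : (0:ℝ) ≤ p 13), (Nat.cast_nonneg (p 14) : (0:ℝ) ≤ p 14), (Nat.cast_nonneg (p 15) : (0:ℝ) ≤ p 15), (Nat.cast_nonneg (p 16) : (0:ℝ) ≤ p 16), (Nat.cast_nonneg (p 17) : (0:ℝ) ≤ p 17), (Nat.cast_nonneg (p 18) : (0:ℝ) ≤ p 18)]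
  have key1N : 53 ≤ 2 * n + 5 * p 0 + p 1 := by exact_mod_cast key1
  have key2N : 303 ≤ 12 * n + 27 * p 0 + 7 * p 1 + 2 * p 2 := by exact_mod_cast key2
  have h1N : 5 * p 0 + 2 * n ≤ 45 := by
    have : (5 * p 0 + 2 * n : ℝ) ≤ 45 := by linarith
    exact_mod_cast this
  have a0 : p 1 ≤ p 0 := h2 (by norm_num)
  have a1 : p 2 ≤ p 1 := h2 (by norm_num)
  have a2 : p 3 ≤ p 2 := h2 (by norm_num)
  have hfin : n = 0 ∧ p 0 = 9 ∧ ((p 1 = 8 ∧ p 2 = 2 ∧ p 3 = 0) ∨ (p 1 = 9 ∧ p 2 = 0 ∧ p 3 = 0)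
      ∨ (p 1 = 9 ∧ p 2 = 1 ∧ p 3 = 0)) := by omega
  obtain ⟨hn0, hp0, hcases⟩ := hfin
  refine ⟨hn0, ?_⟩
  have htail : p 3 = 0 → ∀ k, p (k + 3) = 0 := by
    intro h k
    have := h2 (show 3 ≤ k + 3 by omega)
    omega
  rcases hcases with ⟨hp1, hp2, hp3⟩ | ⟨hp1, hp2, hp3⟩ | ⟨hp1, hp2, hp3⟩
  · left
    funext k
    match k with
    | 0 => simpa using hp0
    | 1 => simpa using hp1
    | 2 => simpa using hp2
    | k + 3 => simpa using htail hp3 k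
  · right; left
    funext k
    match k with
    | 0 => simpa using hp0
    | 1 => simpa using hp1
    | 2 => simpa using hp2
    | k + 3 => simpa using htail hp3 k
  · right; right
    funext k
    match k with
    | 0 => simpa using hp0
    | 1 => simpa using hp1
    | 2 => simpa using hp2
    | k + 3 => simpa using htail hp3 k

end Groth.Agent.S18053
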