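import Groth.Statements.S18054
import Mathlib.Tactic
-- import your own Groth.Agent.* helpers here

set_option autoImplicit false
open STCI

namespace Groth.Agent.S18054

/-- Let s, t, d, g be integers with t ≥ s ≥ 4, d ≥ 1, g ≥ 0 and d dividing st; put n = st/d and assume n
≥ 2; put r = d[n(s - 4) + t] + (2 - 2g)n and assume r ≤ (s/3)(2s² - 6s + 7) - 1. Then d ≤ g + 3.
(The bound is written cleared of the denominator 3; s(2s² - 6s + 7) is always divisible by 3, so
this is the same condition.) -/
theorem result (s t d g n : ℤ) (hs : 4 ≤ s) (hst : s ≤ t) (hd : 1 ≤ d) (hg : 0 ≤ g)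
    (hn : s * t = d * n) (hn2 : 2 ≤ n)
    (hr : 3 * (d * (n * (s - 4) + t) + (2 - 2 * g) * n) ≤ s * (2 * s ^ 2 - 6 * s + 7) - 3) :
    d ≤ g + 3 := by
  by_contra hcon
  push Not at hcon
  have hd4 : 4 ≤ d := by omega
  have hkey : 3 * (s * t * (s - 6) + (d * t + 10 * n)) ≤ s * (2 * s ^ 2 - 6 * s + 7) - 3 := by
    have h1 : (10 - 2 * d) * n ≤ (2 - 2 * g) * n := by
      apply mul_le_mul_of_nonneg_right _ (by omega)
      omega
    have h2 : d * (n * (s - 4) + t) = s * t * (s - 4) + d * t := by
      rw [hn]; ring
    have h3 : (10 - 2 * d) * n = 10 * n - 2 * (s * t) := by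
      rw [hn]; ring
    nlinarith
  set X := d * t + 10 * n with hX
  have hX0 : 0 < X := by nlinarith
  have hXsq : 40 * s * t * t ≤ X * X := by
    have : X * X - 40 * (d * n) * t = (d * t - 10 * n) ^ 2 := by rw [hX]; ring
    rw [← hn] at this
    nlinarith [sq_nonneg (d * t - 10 * n)]
  rcases le_or_gt 13 s with hs13 | hs13
  · have h1 : s * s * (s - 6) ≤ s * t * (s - 6) := by
      apply mul_le_mul_of_nonneg_right _ (by omega)
      nlinarith
    have h2 : 0 < s * (s * (s - 12) - 7) := by
      apply mul_pos (by omega)
      nlinarith
    nlinarith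
  · rcases le_or_gt 6 s with hs6 | hs6
    · have htt : s * s * s ≤ s * t * t := by
        have : s * s ≤ t * t := mul_self_le_mul_self (by omega) hst
        nlinarith
      have h1 : s * s * (s - 6) ≤ s * t * (s - 6) := by
        apply mul_le_mul_of_nonneg_right _ (by omega)
        nlinarith
      interval_cases s
      · have hXM : X ≤ 85 := by omega
        have := mul_self_le_mul_self hX0.le hXM
        nlinarith
      · have hXM : X ≤ 97 := by omega
        have := mul_self_le_mul_self hX0.le hXM
        nlinarith
      · have hXM : X ≤ 103 := by omega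
        have := mul_self_le_mul_self hX0.le hXM
        nlinarith
      · have hXM : X ≤ 101 := by omega
        have := mul_self_le_mul_self hX0.le hXM
        nlinarith
      · have hXM : X ≤ 89 := by omega
        have := mul_self_le_mul_self hX0.le hXM
        nlinarith
      · have hXM : X ≤ 65 := by omega
        have := mul_self_le_mul_self hX0.le hXM
        nlinarith
      · have hXM : X ≤ 27 := by omega
        have := mul_self_le_mul_self hX0.le hXM
        nlinarith
    · have hs45 : s = 4 ∨ s = 5 := by omega
      rcases hs45 with rfl | rfl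
      · have h1 : d * t - 8 * t + 10 * n ≤ 19 := by
          rw [hX] at hkey; omega
        have h2 : n * (d ^ 2 - 8 * d + 40) ≤ 76 := by
          have : 4 * (d * t - 8 * t + 10 * n) = n * (d ^ 2 - 8 * d + 40) := by
            have : d * (4 * t) - 8 * (4 * t) + 40 * n = n * (d ^ 2 - 8 * d + 40) := by
              rw [hn]; ring
            linarith
          omega
        have h3 : 16 ≤ d * n := by omega
        have h4 : 24 ≤ d ^ 2 - 8 * d + 40 := by nlinarith [sq_nonneg (d - 4)]
        have h5 : n ≤ 3 := by nlinarith
        interval_cases n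
        · have : 8 ≤ d := by omega
          nlinarith
        · have : 6 ≤ d := by omega
          nlinarith [sq_nonneg (d - 4)]
      · have h1 : d * t - 5 * t + 10 * n ≤ 44 := by
          rw [hX] at hkey; omega
        have h2 : n * (d ^ 2 - 5 * d + 50) ≤ 220 := by
          have : 5 * (d * t - 5 * t + 10 * n) = n * (d ^ 2 - 5 * d + 50) := by
            have : d * (5 * t) - 5 * (5 * t) + 50 * n = n * (d ^ 2 - 5 * d + 50) := by
              rw [hn]; ring
            linarith
          omega
        have h3 : 25 ≤ d * n := by omega
        have h4 : 46 ≤ d ^ 2 - 5 * d + 50 := by nlinarith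
        have h5 : n ≤ 4 := by nlinarith
        interval_cases n
        · have : 13 ≤ d := by omega
          nlinarith
        · have : 9 ≤ d := by omega
          nlinarith
        · have : 7 ≤ d := by omega
          nlinarith

end Groth.Agent.S18054
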