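import Groth.Statements.S18055
import Mathlib.Tactic
-- import your own Groth.Agent.* helpers here

set_option autoImplicit false
open STCI

namespace Groth.Agent.S18055

/-- Let d ≥ 1, g ≥ 0 and 1 ≤ s ≤ t be integers with d dividing st, put n = st/d and r = d[n(s - 4) + t]
+ (2 - 2g)n, and assume n ≥ 2, r > 0 and (n - 1) divides r. Then s < 2d² and t < 2d⁴. This is the
statement about the degree data (d, g the degree and genus of the curve, s ≤ t the degrees of the
two surfaces) to which the published proof reduces the degree bound: there the divisibility and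
positivity express that r/(n - 1), the common value of the type numbers of the pair, is a positive
integer; the geometric hypotheses themselves are not part of this row. -/
theorem result (d g s t n : ℤ) (hd : 1 ≤ d) (hg : 0 ≤ g) (hs : 1 ≤ s) (hst : s ≤ t)
    (hn : s * t = d * n) (hn2 : 2 ≤ n)
    (hpos : 0 < d * (n * (s - 4) + t) + (2 - 2 * g) * n)
    (hdvd : (n - 1) ∣ d * (n * (s - 4) + t) + (2 - 2 * g) * n) :
    s < 2 * d ^ 2 ∧ t < 2 * d ^ 4 := by
  have hr : d * (n * (s - 4) + t) + (2 - 2 * g) * n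
      = (n - 1) * (d * (s + t - 4) + 2 - 2 * g) + ((d * (s + t - 4) + 2 - 2 * g) - (n - 1) * (d * t)) := by
    ring
  have hdvd0 : (n - 1) ∣ (d * (s + t - 4) + 2 - 2 * g) - (n - 1) * (d * t) := by
    rw [hr] at hdvd
    exact (Int.dvd_add_right (Dvd.intro _ rfl)).mp hdvd
  have hdvd1 : (n - 1) ∣ d * (s + t - 4) + 2 - 2 * g := by
    have := Int.dvd_add hdvd0 (Dvd.intro (d * t) rfl : (n - 1) ∣ (n - 1) * (d * t))
    simpa using this
  obtain ⟨k, hk⟩ := hdvd1
  have hn1 : 0 < n - 1 := by omega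
  have hrk : d * (n * (s - 4) + t) + (2 - 2 * g) * n = (n - 1) * (n * k - d * t) := by
    rw [hr, hk]; ring
  rw [hrk] at hpos
  have hnk : 0 < n * k - d * t := by
    by_contra h
    push Not at h
    nlinarith
  have hdt : 0 < d * t := by nlinarith
  have hkpos : 0 < k := by
    by_contra h
    push Not at h
    nlinarith
  have hks : d ^ 2 + 1 ≤ k * s := by
    have h1 : n * (d ^ 2) < n * (k * s) := by
      have : d * t * s < n * k * s := by nlinarith
      nlinarith
    have h2 : d ^ 2 < k * s := lt_of_mul_lt_mul_left h1 (by omega)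
    omega
  have hbound : k * (n - 1) ≤ d * (s + t - 4) + 2 := by nlinarith
  have hbound1 : (n - 1) ≤ d * (s + t - 4) + 2 := by nlinarith
  have hprod : (s - d ^ 2) * (t - d ^ 2) ≤ d ^ 4 - 4 * d ^ 2 + 3 * d := by
    have : d * (n - 1) ≤ d * (d * (s + t - 4) + 2) := by nlinarith
    nlinarith
  have hd2 : 1 ≤ d ^ 2 := by nlinarith
  have hd3 : 1 ≤ d ^ 3 := by nlinarith
  have hd4 : 1 ≤ d ^ 4 := by nlinarith
  have hs2 : s < 2 * d ^ 2 := by
    by_contra h
    push Not at h
    have h1 : d ^ 2 ≤ s - d ^ 2 := by linarith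
    have h2 : d ^ 2 ≤ t - d ^ 2 := by linarith
    have h3 : d ^ 2 * d ^ 2 ≤ (s - d ^ 2) * (t - d ^ 2) := by
      apply mul_le_mul h1 h2 (by positivity) (by linarith)
    nlinarith
  refine ⟨hs2, ?_⟩
  by_contra ht
  push Not at ht
  rcases lt_or_ge (d ^ 2) s with hcase | hcase
  · have h1 : 1 ≤ s - d ^ 2 := by omega
    have h2 : 0 ≤ t - d ^ 2 := by nlinarith
    have h3 : t - d ^ 2 ≤ (s - d ^ 2) * (t - d ^ 2) := by nlinarith
    nlinarith
  · have h1 : (d ^ 2 + 1) * (s * t - d) ≤ (k * s) * (s * t - d) := by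
      apply mul_le_mul_of_nonneg_right hks
      have : s * t - d = d * (n - 1) := by rw [hn]; ring
      rw [this]; positivity
    have h2 : (k * s) * (s * t - d) = s * d * (k * (n - 1)) := by
      rw [hn]; ring
    have h3 : s * d * (k * (n - 1)) ≤ s * d * (d * (s + t - 4) + 2) := by
      apply mul_le_mul_of_nonneg_left hbound
      positivity
    have h4 : s * t ≤ d ^ 2 * s ^ 2 - 4 * d ^ 2 * s + 2 * s * d + d ^ 3 + d := by nlinarith
    have h5 : d ^ 3 + d ≤ s * (d ^ 3 + d) := by nlinarith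
    have h6 : s * t ≤ s * (d ^ 2 * s - 4 * d ^ 2 + 3 * d + d ^ 3) := by nlinarith
    have h7 : t ≤ d ^ 2 * s - 4 * d ^ 2 + 3 * d + d ^ 3 := le_of_mul_le_mul_left h6 (by omega)
    have h8 : d ^ 2 * s ≤ d ^ 2 * d ^ 2 := by nlinarith
    nlinarith

end Groth.Agent.S18055
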