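import Groth.Statements.S1806
import Groth.Agent.Lib.Helper39.LCCompare.Step
-- import your own Groth.Agent.* helpers here

set_option autoImplicit false
universe u
open CategoryTheory
open LocCoh

namespace Groth.Agent.S1806

/-- Let A be a Noetherian ring, I ⊆ I' ideals, M an A-module and i ≥ 0, and let Ψ : H^i_{I'}(M) →
H^i_I(M) be the comparison map. (1) If the local cohomology H^i of M_p with support in the maximal
ideal of A_p vanishes for every prime p ⊇ I with p ⊉ I', then Ψ is surjective. (2) If the
corresponding H^{i−1} vanish (encoded as vanishing of H^j for every j with j + 1 = i, a vacuous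
condition when i = 0), then Ψ is injective. Hence Ψ is bijective when both hold. -/
theorem result (A : Type u) [CommRing A] [IsNoetherianRing A] (I I' : Ideal A) (h : I ≤ I') (M : Type u) [AddCommGroup M] [Module A M] (i : ℕ) : ((∀ p : PrimeSpectrum A, I ≤ p.asIdeal → ¬ I' ≤ p.asIdeal → Subsingleton (LocCoh.H (IsLocalRing.maximalIdeal (Localization.AtPrime p.asIdeal)) i (LocalizedModule p.asIdeal.primeCompl M))) → Function.Surjective ((Dual2.HmapOfLE h i).app (ModuleCat.of A M)).hom) ∧ ((∀ p : PrimeSpectrum A, I ≤ p.asIdeal → ¬ I' ≤ p.asIdeal → ∀ j : ℕ, j + 1 = i → Subsingleton (LocCoh.H (IsLocalRing.maximalIdeal (Localization.AtPrime p.asIdeal)) j (LocalizedModule p.asIdeal.primeCompl M))) → Function.Injective ((Dual2.HmapOfLE h i).app (ModuleCat.of A M)).hom) := by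
  obtain ⟨l, hl⟩ := Helper98.CechRestrict.exists_list_span I'
  have hmem : ∀ g ∈ l, g ∈ I' := by
    intro g hg
    rw [← hl]
    exact Ideal.subset_span hg
  have e : I' = I ⊔ Ideal.span {x | x ∈ l} := by
    rw [hl]
    exact (sup_eq_right.2 h).symm
  constructor
  · intro hyp
    have key := Groth.Agent.Lib.Helper39.LCCompare.cmp_surjective_list M i I I' l hmem
      (fun p hp hIp hI'p => hyp ⟨p, hp⟩ hIp hI'p)
    subst e
    exact key h
  · intro hyp
    have key := Groth.Agent.Lib.Helper39.LCCompare.cmp_injective_list M i I I' l hmem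
      (fun p hp hIp hI'p j hj => hyp ⟨p, hp⟩ hIp hI'p j hj)
    subst e
    exact key h

end Groth.Agent.S1806
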