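import Groth.Statements.S18063
import Mathlib
import Groth.Agent.Lib.Helper7.GenFibreDense

set_option autoImplicit false
set_option linter.style.haveILetI false
universe u
open CategoryTheory MonoidalCategory CartesianMonoidalCategory MonObj GrpObj AlgebraicGeometry CategoryTheory.Limits
open AlgGrp

namespace Groth.Agent.S18063

open CategoryTheory MonoidalCategory CartesianMonoidalCategory MonObj GrpObj AlgebraicGeometry CategoryTheory.Limits
open AlgGrp
open Groth.Agent.Lib.Helper7.GenFibreDense

lemma flat_tensor {S : Scheme.{u}} (G : Over S) [Flat G.hom] : Flat (G ⊗ G).hom := by
  rw [Over.tensorObj_hom]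
  infer_instance

/-- A flat separated monoid scheme whose base change along a scheme-theoretically dominant
quasi-compact morphism is commutative is commutative. -/
lemma isCommMonObj_of_bc {S S' : Scheme.{u}} (g : S' ⟶ S) [IsSchemeTheoreticallyDominant g]
    [QuasiCompact g] (G : Over S) [MonObj G] [Flat G.hom] [IsSeparated G.hom]
    (h : letI : MonObj ((Over.pullback g).obj G) := Functor.monObjObj _
      IsCommMonObj ((Over.pullback g).obj G)) : IsCommMonObj G := by
  letI : MonObj ((Over.pullback g).obj G) := Functor.monObjObj _
  haveI := flat_tensor G
  have hc := (isCommMonObj_iff_isMulCommutative ((Over.pullback g).obj G)).mp h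
    ((Over.pullback g).obj (G ⊗ G))
  have key : (fst G G : G ⊗ G ⟶ G) * snd G G = snd G G * fst G G := by
    apply Over.pullback_map_injective_of_flat g
    rw [Functor.map_mul, Functor.map_mul]
    exact hc.is_comm.comm _ _
  constructor
  rw [mul_eq_mul, comp_mul, key]
  simp


/-- A is a discrete valuation ring, K denotes its field of fractions and k its residue field, and G is
an A-group scheme that is flat, separated and of finite presentation. If the generic fibre G_K is
commutative, then the special fibre G_k is commutative. (The published statement does not require G
separated over A, and its proof argues by density of the generic fibre; without separatedness the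
conclusion fails: gluing copies of Spec A indexed by a finite non-abelian group along their common
generic point gives a flat group scheme of finite presentation over A whose generic fibre is the
trivial group and whose special fibre is that non-abelian constant group. So G is taken separated
here.) -/
theorem result (A : Type u) [CommRing A] [IsDomain A] [IsDiscreteValuationRing A]
    (K : Type u) [Field K] [Algebra A K] [IsFractionRing A K]
    (G : Over (Spec (CommRingCat.of A))) [GrpObj G] [Flat G.hom] [LocallyOfFinitePresentation G.hom] [QuasiCompact G.hom]
    [IsSeparated G.hom] [IsCommMonObj (Red.bc (Spec.map (CommRingCat.ofHom (algebraMap A K))) G)] :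
    IsCommMonObj (Red.bc (Spec.map (CommRingCat.ofHom (algebraMap A (IsLocalRing.ResidueField A)))) G) := by
  haveI : IsSchemeTheoreticallyDominant (Spec.map (CommRingCat.ofHom (algebraMap A K))) :=
    schDominant_SpecMap_of_injective _ (IsFractionRing.injective A K)
  haveI : IsCommMonObj G :=
    isCommMonObj_of_bc (Spec.map (CommRingCat.ofHom (algebraMap A K))) G ‹_›
  exact Functor.isCommMonObj_obj (F := Over.pullback (Spec.map (CommRingCat.ofHom (algebraMap A (IsLocalRing.ResidueField A))))) (M := G)

end Groth.Agent.S18063
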