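import Groth.Statements.S18069
import Groth.Agent.Lib.Helper19.Grp.AntiAffine

set_option autoImplicit false
universe u
open CategoryTheory MonoidalCategory CartesianMonoidalCategory MonObj GrpObj AlgebraicGeometry CategoryTheory.Limits
open AlgGrp

namespace Groth.Agent.S18069

/-- Let k be a field and G₁, G₂ connected k-group schemes of finite type. Then G₁ × G₂ is anti-affine,
i.e. O(G₁ × G₂) = k, if and only if G₁ and G₂ are both anti-affine. -/
theorem result (k : Type u) [Field k]
    (G₁ G₂ : Over (Spec (CommRingCat.of k))) [GrpObj G₁] [LocallyOfFiniteType G₁.hom] [QuasiCompact G₁.hom] [ConnectedSpace ↥G₁.left]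
    [GrpObj G₂] [LocallyOfFiniteType G₂.hom] [QuasiCompact G₂.hom] [ConnectedSpace ↥G₂.left] :
    Function.Bijective ((Scheme.ΓSpecIso (CommRingCat.of k)).inv ≫ (G₁ ⊗ G₂).hom.appTop).hom ↔
      Function.Bijective ((Scheme.ΓSpecIso (CommRingCat.of k)).inv ≫ G₁.hom.appTop).hom ∧ Function.Bijective ((Scheme.ΓSpecIso (CommRingCat.of k)).inv ≫ G₂.hom.appTop).hom := by
  haveI hqs : ∀ (G : Over (Spec (CommRingCat.of k))) [LocallyOfFiniteType G.hom],
      QuasiSeparatedSpace G.left := by
    intro G _
    haveI : IsLocallyNoetherian G.left := LocallyOfFiniteType.isLocallyNoetherian G.hom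
    infer_instance
  haveI : CompactSpace G₁.left := QuasiCompact.compactSpace_of_compactSpace G₁.hom
  haveI : CompactSpace G₂.left := QuasiCompact.compactSpace_of_compactSpace G₂.hom
  haveI : QuasiSeparatedSpace G₁.left := hqs G₁
  haveI : QuasiSeparatedSpace G₂.left := hqs G₂
  rw [Groth.Agent.Lib.Helper19.AntiAffine.bijective_iff_isIso,
    Groth.Agent.Lib.Helper19.AntiAffine.bijective_iff_isIso,
    Groth.Agent.Lib.Helper19.AntiAffine.bijective_iff_isIso]
  constructor
  · intro h
    constructor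
    · refine Groth.Agent.Lib.Helper19.AntiAffine.isIso_appTop_of_injective (fst G₁ G₂) ?_ h
      refine Groth.Agent.Lib.Helper19.AntiAffine.appTop_injective_of_retraction _
        (lift (𝟙 G₁) (toUnit G₁ ≫ η[G₂])).left ?_
      rw [← Over.comp_left, lift_fst, Over.id_left]
    · refine Groth.Agent.Lib.Helper19.AntiAffine.isIso_appTop_of_injective (snd G₁ G₂) ?_ h
      refine Groth.Agent.Lib.Helper19.AntiAffine.appTop_injective_of_retraction _
        (lift (toUnit G₂ ≫ η[G₁]) (𝟙 G₂)).left ?_
      rw [← Over.comp_left, lift_snd, Over.id_left]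
  · rintro ⟨h₁, h₂⟩
    haveI := Groth.Agent.Lib.Helper19.AntiAffine.isIso_fst_appTop G₁ G₂ h₂
    have e : (G₁ ⊗ G₂).hom.appTop = G₁.hom.appTop ≫ (fst G₁ G₂).left.appTop := by
      rw [← Scheme.Hom.comp_appTop, Over.w (fst G₁ G₂)]
    rw [e]
    infer_instance

end Groth.Agent.S18069
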