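import Groth.Statements.S18070
import Groth.Agent.Lib.Helper19.Grp.AntiAffineExt

set_option autoImplicit false
universe u
open CategoryTheory MonoidalCategory CartesianMonoidalCategory MonObj GrpObj AlgebraicGeometry CategoryTheory.Limits
open AlgGrp

namespace Groth.Agent.S18070

/-- Let k be a field and 1 → G₁ → G → G₂ → 1 an exact sequence of k-group schemes of finite type with
G₁, G₂ connected (i : G₁ → G a homomorphism and closed immersion which is the kernel of the flat
surjective homomorphism q : G → G₂). Anti-affineness passes from G to the quotient G₂; in the other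
direction, G is anti-affine whenever G₁ and G₂ both are. -/
theorem result (k : Type u) [Field k]
    (G₁ G G₂ : Over (Spec (CommRingCat.of k))) [GrpObj G₁] [LocallyOfFiniteType G₁.hom] [QuasiCompact G₁.hom] [ConnectedSpace ↥G₁.left]
    [GrpObj G] [LocallyOfFiniteType G.hom] [QuasiCompact G.hom]
    [GrpObj G₂] [LocallyOfFiniteType G₂.hom] [QuasiCompact G₂.hom] [ConnectedSpace ↥G₂.left]
    (i : G₁ ⟶ G) [IsMonHom i] [IsClosedImmersion i.left] (q : G ⟶ G₂) [IsMonHom q] [Surjective q.left] [Flat q.left]
    (hex : AlgGrp.IsKernel i q) :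
    (Function.Bijective ((Scheme.ΓSpecIso (CommRingCat.of k)).inv ≫ G.hom.appTop).hom → Function.Bijective ((Scheme.ΓSpecIso (CommRingCat.of k)).inv ≫ G₂.hom.appTop).hom) ∧
    (Function.Bijective ((Scheme.ΓSpecIso (CommRingCat.of k)).inv ≫ G₁.hom.appTop).hom → Function.Bijective ((Scheme.ΓSpecIso (CommRingCat.of k)).inv ≫ G₂.hom.appTop).hom → Function.Bijective ((Scheme.ΓSpecIso (CommRingCat.of k)).inv ≫ G.hom.appTop).hom) := by
  haveI hqs : ∀ (X : Over (Spec (CommRingCat.of k))) [LocallyOfFiniteType X.hom],
      QuasiSeparatedSpace X.left := by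
    intro X _
    haveI : IsLocallyNoetherian X.left := LocallyOfFiniteType.isLocallyNoetherian X.hom
    infer_instance
  haveI : CompactSpace G₁.left := QuasiCompact.compactSpace_of_compactSpace G₁.hom
  haveI : CompactSpace G.left := QuasiCompact.compactSpace_of_compactSpace G.hom
  haveI : QuasiSeparatedSpace G₁.left := hqs G₁
  haveI : QuasiSeparatedSpace G.left := hqs G
  haveI : IsSeparated G₂.hom :=
    Groth.Agent.Lib.Helper19.CentralAbelian.isSeparated_of_field k G₂
  haveI : QuasiCompact q.left := by
    haveI : QuasiCompact (q.left ≫ G₂.hom) := by rw [Over.w q]; infer_instance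
    exact QuasiCompact.of_comp q.left G₂.hom
  haveI : EffectiveEpi q.left := inferInstance
  rw [Groth.Agent.Lib.Helper19.AntiAffine.bijective_iff_isIso,
    Groth.Agent.Lib.Helper19.AntiAffine.bijective_iff_isIso,
    Groth.Agent.Lib.Helper19.AntiAffine.bijective_iff_isIso]
  constructor
  · intro h
    exact Groth.Agent.Lib.Helper19.AntiAffine.isIso_appTop_of_injective q
      (Groth.Agent.Lib.Helper19.AntiAffine.appTop_injective_of_flat_of_surjective q.left) h
  · intro h₁ h₂
    exact Groth.Agent.Lib.Helper19.AntiAffine.isIso_appTop_of_extension G₁ G G₂ i q hex h₁ h₂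

end Groth.Agent.S18070
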