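import Groth.Statements.S18096
import Groth.Agent.Lib.Helper19.Grp.AntiAffineRep
import Groth.Agent.Lib.Helper19.Grp.GLnPoints

set_option autoImplicit false
universe u
open CategoryTheory MonoidalCategory CartesianMonoidalCategory MonObj GrpObj AlgebraicGeometry CategoryTheory.Limits
open AlgGrp

namespace Groth.Agent.S18096

/-- Let k be a field and G a k-group scheme of finite type. Then G is anti-affine, i.e. O(G) = k, if and
only if every finite-dimensional linear representation of G is trivial, i.e. for every n every
homomorphism G → GL_{n,k} is trivial. -/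
theorem result (k : Type u) [Field k]
    (G : Over (Spec (CommRingCat.of k))) [GrpObj G] [LocallyOfFiniteType G.hom] [QuasiCompact G.hom] :
    Function.Bijective ((Scheme.ΓSpecIso (CommRingCat.of k)).inv ≫ G.hom.appTop).hom ↔
      ∀ (n : ℕ) (ρ : G ⟶ FrB.GLn n (Spec (CommRingCat.of k))), IsMonHom ρ → ρ = 1 := by
  haveI : IsLocallyNoetherian G.left := LocallyOfFiniteType.isLocallyNoetherian G.hom
  haveI : QuasiSeparatedSpace G.left := inferInstance
  haveI : CompactSpace G.left := QuasiCompact.compactSpace_of_compactSpace G.hom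
  constructor
  · -- anti-affine ⇒ homomorphisms to `GL_n` are trivial
    intro hG n ρ hρ
    haveI : IsAffine (FrB.GLn n (Spec (CommRingCat.of k))).left := by
      change IsAffine (pullback (FrB.GLZ n).hom
        (IsTerminal.from specULiftZIsTerminal (Spec (CommRingCat.of k))))
      haveI : IsAffine (FrB.GLZ n).left :=
        inferInstanceAs (IsAffine (Spec (CommRingCat.of (CoordGrp.GLn n (ULift.{u} ℤ)))))
      infer_instance
    have hconst : ρ = toUnit G ≫ η[G] ≫ ρ := by
      apply Over.OverMorphism.ext
      apply ext_of_isAffine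
      rw [Over.comp_left, Over.comp_left, Scheme.Hom.comp_appTop, Scheme.Hom.comp_appTop]
      letI := Groth.Agent.Lib.Helper19.Kunneth.algΓ G
      have h1 : ∀ r : Γ(G.left, ⊤), (η[G].left.appTop ≫ (toUnit G).left.appTop).hom r = r := by
        intro r
        obtain ⟨c, rfl⟩ := hG.2 r
        have h2 := (Groth.Agent.Lib.Helper19.Kunneth.pb (toUnit G ≫ η[G])).commutes c
        rw [Groth.Agent.Lib.Helper19.Kunneth.pb_comp] at h2
        exact h2
      have h3 : η[G].left.appTop ≫ (toUnit G).left.appTop = 𝟙 _ := by
        ext r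
        exact h1 r
      rw [Category.assoc, h3, Category.comp_id]
    rw [hconst, IsMonHom.one_hom, ← Hom.one_def]
  · intro H
    haveI : Nonempty (⊤ : G.left.Opens) :=
      ⟨⟨η[G].left.base (IsLocalRing.closedPoint k), trivial⟩⟩
    haveI : Nontrivial Γ(G.left, ⊤) := Scheme.component_nontrivial G.left ⊤
    refine ⟨RingHom.injective _, ?_⟩
    apply Groth.Agent.Lib.Helper19.AntiAffineRep.surjective_of_forall_matrix G
    intro J hJ hJ' c hmul hone
    let n := Fintype.card J
    let e : J ≃ Fin n := Fintype.equivFin J
    let C : Matrix (Fin n) (Fin n) Γ(G.left, ⊤) := fun i j => c (e.symm i) (e.symm j)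
    obtain ⟨ρ, hρ, hρ1⟩ := Groth.Agent.Lib.Helper19.GLnPoints.exists_hom_of_matrix n G C
      (by
        intro T g h
        ext i j
        change Groth.Agent.Lib.Helper19.Kunneth.pb (g * h) (c (e.symm i) (e.symm j)) = _
        rw [hmul, Matrix.mul_apply, ← Equiv.sum_comp e.symm]
        rfl)
      (by
        intro T
        ext i j
        change Groth.Agent.Lib.Helper19.Kunneth.pb (toUnit T ≫ η[G]) (c (e.symm i) (e.symm j)) = _
        rw [hone, Matrix.one_apply]
        simp only [EmbeddingLike.apply_eq_iff_eq])
    have hC := hρ1 (H n ρ hρ)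
    intro i j
    have h1 := congrFun (congrFun hC (e i)) (e j)
    change c (e.symm (e i)) (e.symm (e j)) = _ at h1
    rw [Equiv.symm_apply_apply, Equiv.symm_apply_apply, Matrix.one_apply] at h1
    simp only [EmbeddingLike.apply_eq_iff_eq] at h1
    exact h1

end Groth.Agent.S18096
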