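import Groth.Statements.S18101
import Groth.Agent.Lib.Helper19.Grp.AntiAffineRep
import Groth.Agent.Lib.Helper19.Grp.ActionPts

set_option autoImplicit false
universe u
open CategoryTheory MonoidalCategory CartesianMonoidalCategory MonObj GrpObj AlgebraicGeometry CategoryTheory.Limits
open AlgGrp

namespace Groth.Agent.S18101

/-- Let k be a field and G a k-group scheme of finite type. Then G is anti-affine, i.e. O(G) = k, if and
only if every action of G on a variety having a fixed point is trivial; the fixed point is taken
k-rational here (the published condition allows any closed fixed point, which gives a formally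
stronger necessary condition; the equivalence with a rational fixed point is what the published
argument through linear representations yields). -/
theorem result (k : Type u) [Field k]
    (G : Over (Spec (CommRingCat.of k))) [GrpObj G] [LocallyOfFiniteType G.hom] [QuasiCompact G.hom] :
    Function.Bijective ((Scheme.ΓSpecIso (CommRingCat.of k)).inv ≫ G.hom.appTop).hom ↔
      ∀ (X : Over (Spec (CommRingCat.of k))) [LocallyOfFiniteType X.hom] [QuasiCompact X.hom] [IsSeparated X.hom] [GeometricallyIntegral X.hom]
        (a : AlgGrp.Action G X) (x : 𝟙_ (Over (Spec (CommRingCat.of k))) ⟶ X), a.IsFixedPt x → a.act = snd G X := by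
  haveI : IsLocallyNoetherian G.left := LocallyOfFiniteType.isLocallyNoetherian G.hom
  haveI : QuasiSeparatedSpace G.left := inferInstance
  haveI : CompactSpace G.left := QuasiCompact.compactSpace_of_compactSpace G.hom
  constructor
  · -- anti-affine ⇒ actions with a fixed point are trivial
    intro hG X _ _ _ _ a x hx
    have hGiso : IsIso G.hom.appTop :=
      (Groth.Agent.Lib.Helper19.AntiAffine.bijective_iff_isIso G).mp hG
    haveI : IsIntegral X.left := GeometricallyIntegral.isIntegral_of_subsingleton X.hom
    haveI : ConnectedSpace X.left := inferInstance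
    let sw : X ⊗ G ⟶ G ⊗ X := lift (snd X G) (fst X G)
    have hsw : ∀ {T : Over (Spec (CommRingCat.of k))} (y : T ⟶ X) (g : T ⟶ G),
        lift y g ≫ sw = lift g y := by
      intro T y g
      apply CartesianMonoidalCategory.hom_ext
      · rw [Category.assoc, lift_fst, lift_snd, lift_fst]
      · rw [Category.assoc, lift_snd, lift_fst, lift_snd]
    have key : ∀ {T : Over (Spec (CommRingCat.of k))} (y : T ⟶ X) (g : T ⟶ G),
        lift y g ≫ sw ≫ a.act = lift y (toUnit T ≫ η[G]) ≫ sw ≫ a.act := by
      intro T y g
      apply Groth.Agent.Lib.Helper19.Rigidity.lift_comp_eq G X X (sw ≫ a.act) η[G] hGiso x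
      rw [← Category.assoc, hsw, ← Category.assoc (lift x η[G]), hsw]
      have h1 := hx G (𝟙 G)
      have h2 := Groth.Agent.Lib.Helper19.ActionPts.one_act' a x
      rw [toUnit_unique (toUnit (𝟙_ (Over (Spec (CommRingCat.of k))))) (𝟙 _), Category.id_comp] at h2
      rw [h2]
      exact h1
    have h3 := key (snd G X) (fst G X)
    rw [← Category.assoc, hsw, lift_fst_snd, Category.id_comp, ← Category.assoc, hsw,
      Groth.Agent.Lib.Helper19.ActionPts.one_act'] at h3
    exact h3
  · -- conversely
    intro H
    haveI : Nonempty (⊤ : G.left.Opens) :=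
      ⟨⟨η[G].left.base (IsLocalRing.closedPoint k), trivial⟩⟩
    haveI : Nontrivial Γ(G.left, ⊤) := Scheme.component_nontrivial G.left ⊤
    refine ⟨RingHom.injective _, ?_⟩
    apply Groth.Agent.Lib.Helper19.AntiAffineRep.surjective_of_forall_matAct G
    intro J hJ hJ' c hmul hone
    let A := Groth.Agent.Lib.Helper19.MatrixAction.matAction G c hmul hone
    let x : 𝟙_ (Over (Spec (CommRingCat.of k))) ⟶
        Groth.Agent.Lib.Helper19.MatrixAction.AffJ k J :=
      Groth.Agent.Lib.Helper19.MatrixAction.pt fun _ => 0
    have hfix : A.IsFixedPt x := by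
      intro T g
      apply Groth.Agent.Lib.Helper19.MatrixAction.ext_crd
      intro i
      change Groth.Agent.Lib.Helper19.MatrixAction.crd
        (lift g (toUnit T ≫ x) ≫ Groth.Agent.Lib.Helper19.MatrixAction.matAct G c) i = _
      rw [Groth.Agent.Lib.Helper19.MatrixAction.crd_matAct]
      simp only [Groth.Agent.Lib.Helper19.MatrixAction.crd_comp, x,
        Groth.Agent.Lib.Helper19.MatrixAction.crd_pt, map_zero, mul_zero, Finset.sum_const_zero]
    haveI : Finite J := Finite.of_fintype J
    haveI : LocallyOfFiniteType (Groth.Agent.Lib.Helper19.MatrixAction.AffJ k J).hom :=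
      inferInstanceAs (LocallyOfFiniteType (𝔸(J; Spec (CommRingCat.of k)) ↘ Spec (CommRingCat.of k)))
    haveI : QuasiCompact (Groth.Agent.Lib.Helper19.MatrixAction.AffJ k J).hom :=
      inferInstanceAs (QuasiCompact (𝔸(J; Spec (CommRingCat.of k)) ↘ Spec (CommRingCat.of k)))
    haveI : IsSeparated (Groth.Agent.Lib.Helper19.MatrixAction.AffJ k J).hom :=
      inferInstanceAs (IsSeparated (𝔸(J; Spec (CommRingCat.of k)) ↘ Spec (CommRingCat.of k)))
    haveI : GeometricallyIntegral (Groth.Agent.Lib.Helper19.MatrixAction.AffJ k J).hom :=
      inferInstanceAs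
        (GeometricallyIntegral (𝔸(J; Spec (CommRingCat.of k)) ↘ Spec (CommRingCat.of k)))
    exact H (Groth.Agent.Lib.Helper19.MatrixAction.AffJ k J) A x hfix

end Groth.Agent.S18101
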