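import Groth.Statements.S18112
import Mathlib.Algebra.Group.ForwardDiff
import Mathlib.Algebra.Polynomial.Roots
import Mathlib.Algebra.Order.Floor.Ring

set_option autoImplicit false
universe u
open CategoryTheory CategoryTheory.Limits MonoidalCategory CartesianMonoidalCategory MonObj GrpObj AlgebraicGeometry
open AbVar

namespace Groth.Agent.S18112

open Polynomial in
/-- A rational polynomial of degree at most `g` with integer values at `g + 1` consecutive
integers has coefficients in `(1/g!) ℤ`. -/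
theorem claim (g : ℕ) : ∀ (f : Polynomial ℚ) (a₀ : ℤ), f.natDegree ≤ g →
    (∀ i : ℕ, i ≤ g → ∃ z : ℤ, f.eval (((a₀ + i : ℤ)) : ℚ) = z) →
    ∀ j, ∃ z : ℤ, (g.factorial : ℚ) * f.coeff j = z := by
  induction g with
  | zero =>
    intro f a₀ hdeg hval j
    have hf := Polynomial.eq_C_of_natDegree_le_zero hdeg
    obtain ⟨z, hz⟩ := hval 0 le_rfl
    rw [hf, Polynomial.eval_C] at hz
    rw [hf, Polynomial.coeff_C]
    by_cases hj : j = 0
    · exact ⟨z, by simp [hj, hz]⟩
    · exact ⟨0, by simp [hj]⟩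
  | succ g ih =>
    intro f a₀ hdeg hval j
    set c := f.coeff (g + 1) with hc
    -- (1) (g+1)! c is an integer
    have h1 : ∃ z : ℤ, ((g + 1).factorial : ℚ) * c = z := by
      have hfd : (fwdDiff (1 : ℚ))^[g + 1] f.eval (a₀ : ℚ) = ((g + 1).factorial : ℚ) * c := by
        rcases Nat.lt_or_ge f.natDegree (g + 1) with hlt | hge
        · rw [Polynomial.fwdDiff_iter_eq_zero_of_degree_lt hlt, hc,
            Polynomial.coeff_eq_zero_of_natDegree_lt hlt]
          simp
        · have he : f.natDegree = g + 1 := le_antisymm hdeg hge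
          have := congrFun (Polynomial.fwdDiff_iter_degree_eq_factorial f) (a₀ : ℚ)
          rw [he] at this
          rw [this, hc, Polynomial.leadingCoeff, he]
          simp [mul_comm]
      rw [← hfd, fwdDiff_iter_eq_sum_shift]
      have : ∀ k ∈ Finset.range (g + 1 + 1), ∃ z : ℤ,
          ((-1 : ℤ) ^ (g + 1 - k) * ((g + 1).choose k : ℤ)) • f.eval ((a₀ : ℚ) + k • (1 : ℚ)) = z := by
        intro k hk
        obtain ⟨z, hz⟩ := hval k (by simpa [Nat.lt_succ_iff] using hk)
        refine ⟨((-1 : ℤ) ^ (g + 1 - k) * ((g + 1).choose k : ℤ)) * z, ?_⟩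
        have : ((a₀ : ℚ) + k • (1 : ℚ)) = ((a₀ + k : ℤ) : ℚ) := by push_cast; simp
        rw [this, hz]
        simp
      choose! zf hzf using this
      refine ⟨∑ k ∈ Finset.range (g + 1 + 1), zf k, ?_⟩
      rw [Int.cast_sum]
      exact Finset.sum_congr rfl hzf
    -- (2) peel off the leading term
    let pZ : Polynomial ℤ := ∏ m ∈ Finset.range (g + 1), (X - C (a₀ + (m : ℤ)))
    let p : Polynomial ℚ := pZ.map (Int.castRingHom ℚ)
    have hpZmonic : pZ.Monic := Polynomial.monic_prod_of_monic _ _ fun m _ => Polynomial.monic_X_sub_C _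
    have hpZdeg : pZ.natDegree = g + 1 := by
      rw [Polynomial.natDegree_prod_of_monic _ _ fun m _ => Polynomial.monic_X_sub_C _]
      simp only [Polynomial.natDegree_X_sub_C]
      simp
    have hpmonic : p.Monic := hpZmonic.map _
    have hpdeg : p.natDegree = g + 1 := by
      rw [Polynomial.natDegree_map_eq_of_injective (RingHom.injective_int _), hpZdeg]
    have hpeval : ∀ i : ℕ, i ≤ g → p.eval (((a₀ + i : ℤ)) : ℚ) = 0 := by
      intro i hi
      have : pZ.eval (a₀ + i) = 0 := by
        rw [Polynomial.eval_prod]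
        apply Finset.prod_eq_zero (Finset.mem_range.mpr (Nat.lt_succ_of_le hi))
        simp
      have h2 := Polynomial.eval_intCast_map (Int.castRingHom ℚ) pZ (a₀ + i)
      rw [Int.cast_id, this] at h2
      simpa using h2
    set f' := f - C c * p with hf'
    have hdeg' : f'.natDegree ≤ g := by
      rw [Polynomial.natDegree_le_iff_coeff_eq_zero]
      intro N hN
      rw [hf', Polynomial.coeff_sub, Polynomial.coeff_C_mul]
      rcases Nat.lt_or_ge (g + 1) N with h | h
      · rw [Polynomial.coeff_eq_zero_of_natDegree_lt (lt_of_le_of_lt hdeg h),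
          Polynomial.coeff_eq_zero_of_natDegree_lt (by rw [hpdeg]; exact h)]
        simp
      · have hN' : N = g + 1 := le_antisymm h hN
        have : p.coeff N = 1 := by
          rw [hN', ← hpdeg]; exact hpmonic.coeff_natDegree
        rw [this, hN']
        simp [hc]
    have hval' : ∀ i : ℕ, i ≤ g → ∃ z : ℤ, f'.eval (((a₀ + i : ℤ)) : ℚ) = z := by
      intro i hi
      obtain ⟨z, hz⟩ := hval i (Nat.le_succ_of_le hi)
      refine ⟨z, ?_⟩
      rw [hf', Polynomial.eval_sub, Polynomial.eval_mul, hpeval i hi, hz]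
      simp
    obtain ⟨z', hz'⟩ := ih f' a₀ hdeg' hval' j
    obtain ⟨z₁, hz₁⟩ := h1
    refine ⟨(g + 1 : ℤ) * z' + z₁ * pZ.coeff j, ?_⟩
    have hcoeff : f.coeff j = f'.coeff j + c * p.coeff j := by
      rw [hf', Polynomial.coeff_sub, Polynomial.coeff_C_mul]
      ring
    have hpj : p.coeff j = (pZ.coeff j : ℚ) := by
      simp [p, Polynomial.coeff_map]
    rw [hcoeff, hpj, Nat.factorial_succ]
    push_cast
    rw [← hz', ← hz₁, Nat.factorial_succ]
    push_cast
    ring

open Polynomial in
theorem main (g : ℕ) (u v : ℚ) (huv : u < v) (Q : Polynomial ℚ) (hQ : Q.natDegree ≤ g)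
    (N : ℤ → ℕ → ℕ)
    (hpoly : ∀ (a : ℤ) (b : ℕ), 0 < b → u < (a : ℚ) / (b : ℚ) → (a : ℚ) / (b : ℚ) < v →
      (N a b : ℚ) / (b : ℚ) ^ (2 * g) = Q.eval ((a : ℚ) / (b : ℚ)))
    (j : ℕ) : ∃ z : ℤ, (Nat.factorial g : ℚ) * Q.coeff j = (z : ℚ) := by
  rcases Nat.lt_or_ge g j with hj | hj
  · exact ⟨0, by rw [Polynomial.coeff_eq_zero_of_natDegree_lt (lt_of_le_of_lt hQ hj)]; simp⟩
  have hvu : 0 < v - u := sub_pos.mpr huv
  have key : ∀ b : ℕ, 0 < b → ((g : ℚ) + 1) < b * (v - u) →
      ∃ z : ℤ, (Nat.factorial g : ℚ) * Q.coeff j * (b : ℚ) ^ (2 * g - j) = z := by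
    intro b hb hbig
    have hb0 : (b : ℚ) ≠ 0 := Nat.cast_ne_zero.mpr hb.ne'
    have hbpos : (0 : ℚ) < b := Nat.cast_pos.mpr hb
    set f : Polynomial ℚ := C ((b : ℚ) ^ (2 * g)) * Q.comp (C ((b : ℚ)⁻¹) * X) with hf
    set a₀ : ℤ := ⌊u * b⌋ + 1 with ha₀
    have hdeg : f.natDegree ≤ g := by
      refine (Polynomial.natDegree_C_mul_le _ _).trans ?_
      refine Polynomial.natDegree_comp_le.trans ?_
      have : (C ((b : ℚ)⁻¹) * X : Polynomial ℚ).natDegree ≤ 1 :=
        (Polynomial.natDegree_C_mul_le _ _).trans Polynomial.natDegree_X_le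
      calc Q.natDegree * (C ((b : ℚ)⁻¹) * X : Polynomial ℚ).natDegree ≤ Q.natDegree * 1 :=
            Nat.mul_le_mul_left _ this
        _ ≤ g := by simpa using hQ
    have hval : ∀ i : ℕ, i ≤ g → ∃ z : ℤ, f.eval (((a₀ + i : ℤ)) : ℚ) = z := by
      intro i hi
      have h1 : u * b < ((a₀ + i : ℤ) : ℚ) := by
        have := Int.lt_floor_add_one (u * b)
        have hi0 : (0 : ℚ) ≤ i := Nat.cast_nonneg i
        rw [ha₀]; push_cast; linarith
      have h2 : ((a₀ + i : ℤ) : ℚ) < v * b := by
        have := Int.floor_le (u * b)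
        have hi' : (i : ℚ) ≤ g := Nat.cast_le.mpr hi
        rw [ha₀]; push_cast; nlinarith
      have h3 := hpoly (a₀ + i) b hb (by rwa [lt_div_iff₀ hbpos]) (by rwa [div_lt_iff₀ hbpos])
      refine ⟨(N (a₀ + i) b : ℤ), ?_⟩
      rw [hf, Polynomial.eval_mul, Polynomial.eval_C, Polynomial.eval_comp, Polynomial.eval_mul,
        Polynomial.eval_C, Polynomial.eval_X, inv_mul_eq_div, ← h3]
      have : ((b : ℚ) ^ (2 * g)) ≠ 0 := pow_ne_zero _ hb0
      field_simp
      push_cast
      ring
    obtain ⟨z, hz⟩ := claim g f a₀ hdeg hval j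
    refine ⟨z, ?_⟩
    rw [← hz, hf, Polynomial.coeff_C_mul, Polynomial.comp_C_mul_X_coeff]
    have hj2 : j ≤ 2 * g := by omega
    have : (b : ℚ) ^ (2 * g) = (b : ℚ) ^ (2 * g - j) * (b : ℚ) ^ j := by
      rw [← pow_add, Nat.sub_add_cancel hj2]
    rw [this, inv_pow]
    field_simp
  obtain ⟨B, hB⟩ := exists_nat_gt (((g : ℚ) + 2) / (v - u))
  have hBbig : ((g : ℚ) + 2) < B * (v - u) := by rwa [div_lt_iff₀ hvu] at hB
  have hBpos : 0 < B := by
    rcases Nat.eq_zero_or_pos B with h | h
    · rw [h] at hBbig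
      have : (0 : ℚ) ≤ g := Nat.cast_nonneg g
      simp at hBbig
      linarith
    · exact h
  obtain ⟨z₁, hz₁⟩ := key B hBpos (by linarith)
  obtain ⟨z₂, hz₂⟩ := key (B + 1) (Nat.succ_pos B) (by push_cast; nlinarith)
  have hcop : IsCoprime ((B ^ (2 * g - j) : ℕ) : ℤ) (((B + 1) ^ (2 * g - j) : ℕ) : ℤ) := by
    rw [Nat.isCoprime_iff_coprime]
    exact Nat.Coprime.pow _ _ (by simp)
  obtain ⟨s, t, hst⟩ := hcop
  refine ⟨s * z₁ + t * z₂, ?_⟩
  have hst' : (s : ℚ) * (B : ℚ) ^ (2 * g - j) + (t : ℚ) * ((B : ℚ) + 1) ^ (2 * g - j) = 1 := by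
    have := congrArg (fun n : ℤ => (n : ℚ)) hst
    simpa using this
  push_cast at hz₂
  push_cast
  rw [← hz₁, ← hz₂]
  calc (Nat.factorial g : ℚ) * Q.coeff j
      = (Nat.factorial g : ℚ) * Q.coeff j * ((s : ℚ) * (B : ℚ) ^ (2 * g - j) +
          (t : ℚ) * ((B : ℚ) + 1) ^ (2 * g - j)) := by rw [hst', _root_.mul_one]
    _ = _ := by ring

/-- Let k be an algebraically closed field of characteristic zero, A an abelian variety over k (a proper
smooth k-group scheme with geometrically connected fibres) of dimension g, (A^t, φ) a given dual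
abelian variety of A for the fppf topology with A^t itself an abelian variety, and P an invertible
module on A ×_k A^t whose class is a Poincaré class; for a k-point α of A^t write P_α for the
restriction of P to A × {α}. Let L be an ample invertible O_A-module with an inverse L' (L ⊗ L' ≅
O_A), negative powers of L meaning powers of L'. For a coherent O_A-module G write h^i_gen(G) for
the generic value of h^i(A, G ⊗ P_α), rendered as the minimum over all k-points α of A^t (the
generic value by semicontinuity), and for b ≥ 1 let b_A : A → A be multiplication by b. Let F be a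
coherent O_A-module and i ≥ 0, and consider the i-th cohomological rank function of F with respect
to L, the function on the rationals x = a/b (b ≥ 1) with value b^{-2g} · h^i_gen(b_A^* F ⊗ L^{ab}).
Suppose that on an open interval (u, v), u < v rational, this function agrees with a polynomial Q
with rational coefficients of degree at most g. Then every coefficient of Q lies in (1/g!)ℤ, i.e. g!
· Q has integer coefficients. (Stated for a coherent module; the source allows any object of the
bounded derived category of coherent modules. The degree bound on Q, which the source takes from the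
local polynomiality of rank functions, is made a hypothesis here.) -/
theorem result (k : Type u) [Field k] [IsAlgClosed k] [CharZero k]
    (A At : Over (Spec (CommRingCat.of k))) [GrpObj A] [IsProper A.hom] [Smooth A.hom] [GeometricallyConnected A.hom]
    [GrpObj At] [IsProper At.hom] [Smooth At.hom] [GeometricallyConnected At.hom]
    (φ : ∀ T : Over (Spec (CommRingCat.of k)), PicF.Cl (PicF.XT A.hom T) → (T ⟶ At))
    (hφ : AbDual.IsDualAV Scheme.fppfPrecoverage A At φ)
    (P : (pullback A.hom At.hom).Modules) (hP : PicF.IsInvertible P)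
    (hPξ : AbDual.IsPoincareCl A At φ (PicF.cl P))
    (g : ℕ) (hg : topologicalKrullDim ↥A.left = g)
    (L L' : A.left.Modules) (hL : CohB1.IsAmple L) (hLL' : Nonempty (CohB1.tensorMod L L' ≅ Coh.structureModule A.left))
    (F : A.left.Modules) (hF : Coh.IsCoh F) (i : ℕ) (u v : ℚ) (huv : u < v)
    (Q : Polynomial ℚ) (hQ : Q.natDegree ≤ g)
    (hpoly : ∀ (a : ℤ) (b : ℕ), 0 < b → u < (a : ℚ) / (b : ℚ) → (a : ℚ) / (b : ℚ) < v →
      ((W4c5cohrankabvar.hgen k P (W4c5cohrankabvar.twist A F L L' b (a * b)) i : ℕ) : ℚ) / (b : ℚ) ^ (2 * g) =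
        Q.eval ((a : ℚ) / (b : ℚ)))
    (j : ℕ) : ∃ z : ℤ, (Nat.factorial g : ℚ) * Q.coeff j = (z : ℚ) := by
  exact main g u v huv Q hQ
    (fun a b => W4c5cohrankabvar.hgen k P (W4c5cohrankabvar.twist A F L L' b (a * b)) i) hpoly j

end Groth.Agent.S18112
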