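import Groth.Statements.S18121
import Mathlib
-- import your own Groth.Agent.* helpers here

set_option autoImplicit false
universe u
open Pinch

namespace Groth.Agent.S18121

open Polynomial in
theorem g_monic (B : Type u) [CommRing B] (b : B) : (X ^ 2 - C b : B[X]).Monic :=
  monic_X_pow_sub_C b (by norm_num)

open Polynomial in
theorem F1 (B : Type u) [CommRing B] (b : B) (w : AdjoinRoot (X ^ 2 - C b : B[X])) :
    ∃ a c : B, w = algebraMap B _ a + algebraMap B _ c * AdjoinRoot.root (X ^ 2 - C b : B[X]) := by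
  rcases subsingleton_or_nontrivial B with hB | hB
  · refine ⟨0, 0, ?_⟩
    have : Subsingleton (AdjoinRoot (X ^ 2 - C b : B[X])) := by
      have h := (AdjoinRoot.mk_surjective (g := (X ^ 2 - C b : B[X]))).subsingleton
      exact h
    exact Subsingleton.elim _ _
  obtain ⟨p, rfl⟩ := AdjoinRoot.mk_surjective w
  have hm := g_monic B b
  have hdeg : (X ^ 2 - C b : B[X]).natDegree = 2 := natDegree_X_pow_sub_C
  have h1 : AdjoinRoot.mk (X ^ 2 - C b : B[X]) p = AdjoinRoot.mk _ (p %ₘ (X ^ 2 - C b)) := by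
    rw [AdjoinRoot.mk_eq_mk, modByMonic_eq_sub_mul_div, sub_sub_cancel]
    exact dvd_mul_right _ _
  have h2 : (p %ₘ (X ^ 2 - C b)).natDegree < 2 := by
    have := natDegree_modByMonic_lt p hm (by
      intro h
      have := congrArg natDegree h
      rw [hdeg] at this
      simp at this)
    rwa [hdeg] at this
  have h3 : p %ₘ (X ^ 2 - C b) = C ((p %ₘ (X ^ 2 - C b)).coeff 1) * X + C ((p %ₘ (X ^ 2 - C b)).coeff 0) :=
    eq_X_add_C_of_natDegree_le_one (by omega)
  refine ⟨(p %ₘ (X ^ 2 - C b)).coeff 0, (p %ₘ (X ^ 2 - C b)).coeff 1, ?_⟩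
  rw [h1]
  conv_lhs => rw [h3]
  rw [map_add, map_mul, AdjoinRoot.mk_C, AdjoinRoot.mk_C, AdjoinRoot.mk_X, AdjoinRoot.algebraMap_eq]
  ring

open Polynomial in
theorem F2 (B : Type u) [CommRing B] (b : B) (a c : B)
    (h : algebraMap B (AdjoinRoot (X ^ 2 - C b : B[X])) a
      + algebraMap B _ c * AdjoinRoot.root (X ^ 2 - C b : B[X]) = 0) : a = 0 ∧ c = 0 := by
  rcases subsingleton_or_nontrivial B with hB | hB
  · exact ⟨Subsingleton.elim _ _, Subsingleton.elim _ _⟩
  have hm := g_monic B b
  have hdeg : (X ^ 2 - C b : B[X]).natDegree = 2 := natDegree_X_pow_sub_C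
  have h1 : AdjoinRoot.mk (X ^ 2 - C b : B[X]) (C a + C c * X) = 0 := by
    rw [map_add, map_mul, AdjoinRoot.mk_C, AdjoinRoot.mk_C, AdjoinRoot.mk_X]
    rw [AdjoinRoot.algebraMap_eq] at h
    exact h
  rw [AdjoinRoot.mk_eq_zero] at h1
  have h2 : (C a + C c * X : B[X]) = 0 := by
    by_contra hne
    refine hm.not_dvd_of_natDegree_lt hne ?_ h1
    rw [hdeg]
    have : (C a + C c * X : B[X]).natDegree ≤ 1 := by
      refine (natDegree_add_le _ _).trans ?_
      rw [max_le_iff]
      constructor
      · rw [natDegree_C]; omega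
      · exact (natDegree_C_mul_le c X).trans (by rw [natDegree_X])
    omega
  constructor
  · have := congrArg (fun q => coeff q 0) h2
    simpa using this
  · have := congrArg (fun q => coeff q 1) h2
    simpa using this

open Polynomial in
theorem root_sq (B : Type u) [CommRing B] (b : B) :
    AdjoinRoot.root (X ^ 2 - C b : B[X]) ^ 2 = algebraMap B _ b := by
  have := AdjoinRoot.mk_self (f := (X ^ 2 - C b : B[X]))
  rw [map_sub, map_pow, AdjoinRoot.mk_X, AdjoinRoot.mk_C, sub_eq_zero] at this
  rw [this, AdjoinRoot.algebraMap_eq]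

open Polynomial in
theorem theta_coeff (B : Type u) [CommRing B] (B' : Type u) [CommRing B'] [Algebra B B'] (P : B[X]) (n : ℕ) :
    (aeval (X : B'[X]) P).coeff n = algebraMap B B' (P.coeff n) := by
  have : aeval (X : B'[X]) P = P.map (algebraMap B B') := by
    rw [aeval_def]
    rfl
  rw [this, coeff_map]

theorem reduce (B : Type u) [CommRing B] (b : B) (F : MvPolynomial (Fin 2) B) :
    ∃ P0 P1 : Polynomial B,
      F - (Polynomial.aeval (MvPolynomial.X 1 : MvPolynomial (Fin 2) B) P0
        + MvPolynomial.X 0 * Polynomial.aeval (MvPolynomial.X 1 : MvPolynomial (Fin 2) B) P1)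
      ∈ Ideal.span {(MvPolynomial.X 0 ^ 2 - MvPolynomial.C b * MvPolynomial.X 1 ^ 2 :
          MvPolynomial (Fin 2) B)} := by
  induction F using MvPolynomial.induction_on with
  | C a =>
    refine ⟨Polynomial.C a, 0, ?_⟩
    simp
  | add p q hp hq =>
    obtain ⟨P0, P1, hP⟩ := hp
    obtain ⟨Q0, Q1, hQ⟩ := hq
    refine ⟨P0 + Q0, P1 + Q1, ?_⟩
    have := Ideal.add_mem _ hP hQ
    convert this using 1
    simp only [map_add]
    ring
  | mul_X p i hp =>
    obtain ⟨P0, P1, hP⟩ := hp
    fin_cases i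
    · refine ⟨Polynomial.C b * Polynomial.X ^ 2 * P1, P0, ?_⟩
      have h1 : (MvPolynomial.X 0 ^ 2 - MvPolynomial.C b * MvPolynomial.X 1 ^ 2 :
          MvPolynomial (Fin 2) B) ∈ Ideal.span {(MvPolynomial.X 0 ^ 2 - MvPolynomial.C b * MvPolynomial.X 1 ^ 2 :
          MvPolynomial (Fin 2) B)} := Ideal.subset_span rfl
      have := Ideal.add_mem _ (Ideal.mul_mem_right (MvPolynomial.X 0) _ hP)
        (Ideal.mul_mem_right (Polynomial.aeval (MvPolynomial.X 1 : MvPolynomial (Fin 2) B) P1) _ h1)
      convert this using 1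
      simp only [map_mul, map_pow, Polynomial.aeval_C, Polynomial.aeval_X, Fin.zero_eta,
        MvPolynomial.algebraMap_eq]
      ring
    · refine ⟨P0 * Polynomial.X, P1 * Polynomial.X, ?_⟩
      have := Ideal.mul_mem_right (MvPolynomial.X 1) _ hP
      convert this using 1
      simp only [map_mul, Polynomial.aeval_X, Fin.mk_one]
      ring

/-- Let B be a commutative ring, b an element of B, B' := B[z]/(z^2 - b) the rank-two B-algebra with z^2
= b, and Ψ : B[u, v] → B'[t] the B-algebra homomorphism with u ↦ z t and v ↦ t. Then the kernel of Ψ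
is the principal ideal generated by u^2 - b v^2, and a polynomial of B'[t] lies in the image of Ψ as
soon as its constant coefficient lies in B. Equivalently, B[u, v]/(u^2 - b v^2) is the fibre product
of B'[t] and B over B' (for t ↦ 0 and the inclusion of B): the pinching of Spec B' × 𝔸¹ along Spec
B' × {0} by the double cover Spec B' → Spec B is the hypersurface u^2 = b v^2 over B; for B = K[w]
and b = w this is the pinch point u^2 = v^2 w. -/
theorem result (B : Type u) [CommRing B] (b : B) :
    letI Ψ : MvPolynomial (Fin 2) B →ₐ[B] Polynomial (AdjoinRoot (Polynomial.X ^ 2 - Polynomial.C b)) :=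
      MvPolynomial.aeval
        ![Polynomial.C (AdjoinRoot.root (Polynomial.X ^ 2 - Polynomial.C b)) * Polynomial.X, Polynomial.X]
    RingHom.ker Ψ.toRingHom =
        Ideal.span {MvPolynomial.X 0 ^ 2 - MvPolynomial.C b * MvPolynomial.X 1 ^ 2} ∧
      ∀ G : Polynomial (AdjoinRoot (Polynomial.X ^ 2 - Polynomial.C b)),
        (∃ c : B, G.coeff 0 = algebraMap B (AdjoinRoot (Polynomial.X ^ 2 - Polynomial.C b)) c) →
          G ∈ Ψ.range := by
  set Ψ : MvPolynomial (Fin 2) B →ₐ[B] Polynomial (AdjoinRoot (Polynomial.X ^ 2 - Polynomial.C b)) :=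
      MvPolynomial.aeval (R := B)
        ![Polynomial.C (AdjoinRoot.root (Polynomial.X ^ 2 - Polynomial.C b)) * Polynomial.X, Polynomial.X]
    with hΨ
  have hΨ0 : Ψ (MvPolynomial.X 0) = Polynomial.C (AdjoinRoot.root (Polynomial.X ^ 2 - Polynomial.C b)) * Polynomial.X := by
    simp [Ψ]
  have hΨ1 : Ψ (MvPolynomial.X 1) = Polynomial.X := by
    simp [Ψ]
  have hker : Ψ (MvPolynomial.X 0 ^ 2 - MvPolynomial.C b * MvPolynomial.X 1 ^ 2) = 0 := by
    rw [map_sub, map_mul, map_pow, map_pow, hΨ0, hΨ1, mul_pow, ← Polynomial.C_pow, root_sq]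
    have : Ψ (MvPolynomial.C b) = Polynomial.C (algebraMap B _ b) := by
      simp [Ψ]
    rw [this, sub_self]
  have hle : Ideal.span {(MvPolynomial.X 0 ^ 2 - MvPolynomial.C b * MvPolynomial.X 1 ^ 2 :
      MvPolynomial (Fin 2) B)} ≤ RingHom.ker Ψ.toRingHom := by
    rw [Ideal.span_le]
    intro z hz
    rw [Set.mem_singleton_iff] at hz
    rw [hz]
    exact hker
  constructor
  · apply le_antisymm _ hle
    intro F hF
    obtain ⟨P0, P1, hP⟩ := reduce B b F
    have h1 := hle hP
    rw [RingHom.mem_ker] at h1 hF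
    change Ψ _ = 0 at h1
    change Ψ F = 0 at hF
    rw [map_sub, hF, zero_sub, neg_eq_zero, map_add, map_mul, hΨ0] at h1
    rw [← Polynomial.aeval_algHom_apply, ← Polynomial.aeval_algHom_apply, hΨ1] at h1
    have hcoef : ∀ n, P0.coeff n = 0 ∧ (n ≠ 0 → P1.coeff (n - 1) = 0) := by
      intro n
      have h2 := congrArg (fun q => Polynomial.coeff q n) h1
      simp only [Polynomial.coeff_add, Polynomial.coeff_zero] at h2
      rcases n with _ | m
      · rw [mul_assoc, Polynomial.coeff_C_mul, Polynomial.coeff_X_mul_zero, mul_zero, add_zero,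
          theta_coeff] at h2
        have := F2 B b (P0.coeff 0) 0 (by rw [h2]; simp)
        exact ⟨this.1, fun h => absurd rfl h⟩
      · rw [mul_assoc, Polynomial.coeff_C_mul, Polynomial.coeff_X_mul, theta_coeff, theta_coeff] at h2
        have := F2 B b (P0.coeff (m + 1)) (P1.coeff m) (by rw [← h2]; ring)
        exact ⟨this.1, fun _ => by simpa using this.2⟩
    have hP0 : P0 = 0 := by
      ext n
      simpa using (hcoef n).1
    have hP1 : P1 = 0 := by
      ext n
      have := (hcoef (n + 1)).2 (by omega)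
      simpa using this
    rw [hP0, hP1] at hP
    simpa using hP
  · rintro G ⟨c, hc⟩
    rw [G.as_sum_range]
    apply Subalgebra.sum_mem
    intro n _
    rcases n with _ | m
    · rw [hc]
      refine ⟨MvPolynomial.C c, ?_⟩
      simp [Ψ]
    · obtain ⟨a, c', hac⟩ := F1 B b (G.coeff (m + 1))
      refine ⟨MvPolynomial.C a * MvPolynomial.X 1 ^ (m + 1)
        + MvPolynomial.C c' * MvPolynomial.X 0 * MvPolynomial.X 1 ^ m, ?_⟩
      rw [hac]
      change Ψ _ = _
      rw [map_add, map_mul, map_mul, map_mul, map_pow, map_pow, hΨ0, hΨ1]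
      have h1 : ∀ r : B, Ψ (MvPolynomial.C r) = Polynomial.C (algebraMap B _ r) := by
        intro r; simp [Ψ]
      rw [h1, h1, ← Polynomial.C_mul_X_pow_eq_monomial, map_add, map_mul]
      ring

end Groth.Agent.S18121
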