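import Groth.Statements.S18122
import Mathlib
-- import your own Groth.Agent.* helpers here

set_option autoImplicit false
universe u
open Pinch

namespace Groth.Agent.S18122

/-- Let K be a field in which 2 ≠ 0, S = K[x, y], and R ⊆ S the K-subalgebra generated by x^2, x y and
y; R is the coordinate ring of the pinch point u^2 = v^2 w (u = x y, v = y, w = x^2) and S is its
normalization. Then restriction along R ⊆ S is a bijection from the K-derivations S → S onto the
K-derivations R → S: every K-derivation R → S extends uniquely to S. In sheaf terms, the natural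
injective map from the tangent sheaf of the normalization to the dual of the pulled-back sheaf of
differentials of the pinch point is an isomorphism. (The text works over an algebraically closed
field of characteristic different from 2 and for every semi-smooth variety; only this model case is
stated, and the computation uses only 2 ≠ 0.) -/
theorem result
    (K : Type u) [Field K] [NeZero (2 : K)] :
    letI R : Subalgebra K (MvPolynomial (Fin 2) K) :=
      Algebra.adjoin K {MvPolynomial.X 0 ^ 2, MvPolynomial.X 0 * MvPolynomial.X 1, MvPolynomial.X 1}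
    ∀ δ : Derivation K R (MvPolynomial (Fin 2) K),
      ∃! D : Derivation K (MvPolynomial (Fin 2) K) (MvPolynomial (Fin 2) K),
        ∀ r : R, D (r : MvPolynomial (Fin 2) K) = δ r := by
  classical
  set x : MvPolynomial (Fin 2) K := MvPolynomial.X 0 with hx_def
  set y : MvPolynomial (Fin 2) K := MvPolynomial.X 1 with hy_def
  set R : Subalgebra K (MvPolynomial (Fin 2) K) := Algebra.adjoin K {x ^ 2, x * y, y} with hR
  intro δ
  have mx2 : x ^ 2 ∈ R := Algebra.subset_adjoin (by simp)
  have mxy : x * y ∈ R := Algebra.subset_adjoin (by simp)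
  have my : y ∈ R := Algebra.subset_adjoin (by simp)
  set E := δ ⟨x ^ 2, mx2⟩ with hE
  set A := δ ⟨x * y, mxy⟩ with hA
  set B := δ ⟨y, my⟩ with hB
  have hx0 : x ≠ 0 := MvPolynomial.X_ne_zero 0
  have hy0 : y ≠ 0 := MvPolynomial.X_ne_zero 1
  have h2 : (MvPolynomial.C (2⁻¹ : K) * 2 : MvPolynomial (Fin 2) K) = 1 := by
    rw [show (2 : MvPolynomial (Fin 2) K) = MvPolynomial.C 2 from (map_ofNat MvPolynomial.C 2).symm,
      ← MvPolynomial.C_mul, inv_mul_cancel₀ (NeZero.ne 2), MvPolynomial.C_1]
  have h2ne : (2 : MvPolynomial (Fin 2) K) ≠ 0 := by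
    intro h
    rw [h, mul_zero] at h2
    exact zero_ne_one h2
  have hrel : (⟨x * y, mxy⟩ : R) * ⟨x * y, mxy⟩ = ⟨x ^ 2, mx2⟩ * (⟨y, my⟩ * ⟨y, my⟩) := by
    apply Subtype.ext
    simp only [MulMemClass.mk_mul_mk]
    ring
  have hδ := congrArg δ hrel
  rw [Derivation.leibniz, Derivation.leibniz, Derivation.leibniz] at hδ
  simp only [Subalgebra.smul_def, smul_eq_mul, smul_add] at hδ
  replace hδ : x * y * A + x * y * A = x ^ 2 * (y * B + y * B) + (y * y) * E := by
    rw [mul_add]; exact hδ
  have hdvd : x ∣ y * y * E := by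
    refine ⟨2 * y * (A - x * B), ?_⟩
    linear_combination -hδ
  have hxy : ¬ x ∣ y := by
    rw [MvPolynomial.X_dvd_X]
    decide
  have hxE : x ∣ E := by
    rcases MvPolynomial.X_dvd_mul_iff.mp hdvd with h | h
    · rcases MvPolynomial.X_dvd_mul_iff.mp h with h | h <;> exact absurd h hxy
    · exact h
  obtain ⟨q, hq⟩ := hxE
  have hAeq : A = x * B + MvPolynomial.C (2⁻¹ : K) * (y * q) := by
    have h1 : x * y * (y * q) = x * y * (2 * (A - x * B)) := by
      rw [hq] at hδ
      linear_combination -hδ
    have h3 := mul_left_cancel₀ (mul_ne_zero hx0 hy0) h1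
    linear_combination (-(A - x * B)) * h2 - MvPolynomial.C (2⁻¹ : K) * h3
  set a := MvPolynomial.C (2⁻¹ : K) * q with ha
  let D : Derivation K (MvPolynomial (Fin 2) K) (MvPolynomial (Fin 2) K) :=
    MvPolynomial.mkDerivation K ![a, B]
  have hDx : D x = a := by
    simp [D, hx_def, MvPolynomial.mkDerivation_X]
  have hDy : D y = B := by
    simp [D, hy_def, MvPolynomial.mkDerivation_X]
  have key : ∀ (D' : Derivation K (MvPolynomial (Fin 2) K) (MvPolynomial (Fin 2) K)),
      D' (x ^ 2) = E → D' (x * y) = A → D' y = B → ∀ r (hr : r ∈ R), D' r = δ ⟨r, hr⟩ := by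
    intro D' h1 h2' h3 r hr
    induction hr using Algebra.adjoin_induction with
    | mem z hz =>
      rcases hz with rfl | rfl | rfl
      · exact h1
      · exact h2'
      · exact h3
    | algebraMap c =>
      rw [Derivation.map_algebraMap]
      exact (Derivation.map_algebraMap δ c).symm
    | add z w hz hw ihz ihw =>
      rw [map_add, ihz, ihw, ← map_add]
      rfl
    | mul z w hz hw ihz ihw =>
      rw [Derivation.leibniz, ihz, ihw]
      have : (⟨z * w, Subalgebra.mul_mem _ hz hw⟩ : R) = ⟨z, hz⟩ * ⟨w, hw⟩ := rfl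
      rw [this, Derivation.leibniz]
      rfl
  refine ⟨D, ?_, ?_⟩
  · intro r
    apply key D _ _ hDy r.1 r.2
    · rw [pow_two, Derivation.leibniz, hDx, smul_eq_mul, hq, ha]
      linear_combination (x * q) * h2
    · rw [Derivation.leibniz, hDx, hDy, smul_eq_mul, smul_eq_mul, hAeq, ha]
      ring
  · intro D' hD'
    have h1 : D' (x ^ 2) = E := hD' ⟨x ^ 2, mx2⟩
    have h3 : D' y = B := hD' ⟨y, my⟩
    apply MvPolynomial.derivation_ext
    intro i
    fin_cases i
    · change D' x = D x
      rw [pow_two, Derivation.leibniz, smul_eq_mul] at h1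
      have h4 : x * (2 * D' x) = x * (2 * D x) := by
        rw [hDx, ha]
        have : x * q = E := hq.symm
        linear_combination h1 - this - (x * q) * h2
      have h5 := mul_left_cancel₀ hx0 h4
      exact mul_left_cancel₀ h2ne h5
    · change D' y = D y
      rw [h3, hDy]

end Groth.Agent.S18122
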