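import Groth.Statements.S18123
import Mathlib
-- import your own Groth.Agent.* helpers here

set_option autoImplicit false
universe u
open Pinch

namespace Groth.Agent.S18123

noncomputable def eps (K : Type u) [Field K] : MvPolynomial (Fin 2) K →ₐ[K] Polynomial K :=
  MvPolynomial.aeval ![Polynomial.X, 0]

noncomputable def eta (K : Type u) [Field K] : Polynomial K →ₐ[K] MvPolynomial (Fin 2) K :=
  Polynomial.aeval (MvPolynomial.X 0)

theorem eps_X0 (K : Type u) [Field K] : eps K (MvPolynomial.X 0) = Polynomial.X := by
  simp [eps]

theorem eps_X1 (K : Type u) [Field K] : eps K (MvPolynomial.X 1) = 0 := by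
  simp [eps]

theorem sub_eta_eps_mem (K : Type u) [Field K] (f : MvPolynomial (Fin 2) K) :
    f - eta K (eps K f) ∈ Ideal.span ({MvPolynomial.X 1} : Set (MvPolynomial (Fin 2) K)) := by
  induction f using MvPolynomial.induction_on with
  | C a => simp [eps, eta]
  | add p q hp hq =>
    have : p + q - eta K (eps K (p + q)) = (p - eta K (eps K p)) + (q - eta K (eps K q)) := by
      rw [map_add, map_add]; ring
    rw [this]
    exact Ideal.add_mem _ hp hq
  | mul_X p i hp =>
    have : p * MvPolynomial.X i - eta K (eps K (p * MvPolynomial.X i))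
        = (p - eta K (eps K p)) * MvPolynomial.X i
          + eta K (eps K p) * (MvPolynomial.X i - eta K (eps K (MvPolynomial.X i))) := by
      rw [map_mul, map_mul]; ring
    rw [this]
    refine Ideal.add_mem _ (Ideal.mul_mem_right _ _ hp) (Ideal.mul_mem_left _ _ ?_)
    fin_cases i
    · simp [eps, eta]
    · simp only [Fin.mk_one, eps_X1, map_zero, sub_zero]
      exact Ideal.subset_span rfl

theorem ev_zero (K : Type u) [Field K] (g : Polynomial K)
    (h1 : g ∈ (Polynomial.expand K 2).range) (h2 : Polynomial.X * g ∈ (Polynomial.expand K 2).range) :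
    g = 0 := by
  obtain ⟨h, hh⟩ := h1
  obtain ⟨h', hh'⟩ := h2
  ext n
  rw [Polynomial.coeff_zero]
  by_cases hn : 2 ∣ n
  · have : g.coeff n = (Polynomial.X * g).coeff (n + 1) := by
      rw [Polynomial.coeff_X_mul]
    rw [this, ← hh']
    change (Polynomial.expand K 2 h').coeff (n + 1) = 0
    rw [Polynomial.coeff_expand (by norm_num), if_neg (by omega)]
  · rw [← hh]
    change (Polynomial.expand K 2 h).coeff n = 0
    rw [Polynomial.coeff_expand (by norm_num), if_neg hn]

theorem odd_form (K : Type u) [Field K] (g : Polynomial K)
    (h2 : Polynomial.X * g ∈ (Polynomial.expand K 2).range) :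
    ∃ p : Polynomial K, g = Polynomial.X * Polynomial.expand K 2 p := by
  obtain ⟨h', hh'⟩ := h2
  replace hh' : Polynomial.expand K 2 h' = Polynomial.X * g := hh'
  have h0 : h'.coeff 0 = 0 := by
    have := congrArg (fun q => Polynomial.coeff q 0) hh'
    simp only [Polynomial.coeff_X_mul_zero] at this
    rw [Polynomial.coeff_expand (by norm_num)] at this
    simpa using this
  obtain ⟨h'', rfl⟩ := Polynomial.X_dvd_iff.mpr h0
  refine ⟨h'', ?_⟩
  rw [map_mul, Polynomial.expand_X] at hh'
  have hX : (Polynomial.X : Polynomial K) ≠ 0 := Polynomial.X_ne_zero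
  apply mul_left_cancel₀ hX
  rw [← hh']; ring

/-- Let K be a field in which 2 ≠ 0, S = K[x, y], and R ⊆ S the K-subalgebra generated by x^2, x y, y,
the coordinate ring of the pinch point with normalization S, obtained by gluing the plane along the
line y = 0 via x ↦ -x. A K-derivation D of S maps R into R if and only if D(y) is a multiple of y
and D(x) = y s + x p(x^2) for some s in S and some polynomial p in one variable. Every K-derivation
R → S extends uniquely to S, and under this identification the derivations mapping R into R form the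
image of the tangent sheaf of the pinch point in that of its normalization; so this image contains y
times all derivations of S, and modulo those it is spanned by the odd multiples x^(2k+1) ∂/∂x, the
part of the tangent sheaf of the line y = 0 invariant under x ↦ -x. (The text works over an
algebraically closed field of characteristic different from 2; the computation uses only 2 ≠ 0.) -/
theorem result
    (K : Type u) [Field K] [NeZero (2 : K)]
    (D : Derivation K (MvPolynomial (Fin 2) K) (MvPolynomial (Fin 2) K)) :
    letI x : MvPolynomial (Fin 2) K := MvPolynomial.X 0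
    letI y : MvPolynomial (Fin 2) K := MvPolynomial.X 1
    letI R : Subalgebra K (MvPolynomial (Fin 2) K) := Algebra.adjoin K {x ^ 2, x * y, y}
    (∀ r ∈ R, D r ∈ R) ↔
      (D y ∈ Ideal.span {y} ∧
        ∃ (s : MvPolynomial (Fin 2) K) (p : Polynomial K), D x = y * s + x * Polynomial.aeval (x ^ 2) p) := by
  classical
  set x : MvPolynomial (Fin 2) K := MvPolynomial.X 0 with hx_def
  set y : MvPolynomial (Fin 2) K := MvPolynomial.X 1 with hy_def
  set R : Subalgebra K (MvPolynomial (Fin 2) K) := Algebra.adjoin K {x ^ 2, x * y, y} with hR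
  have mx2 : x ^ 2 ∈ R := Algebra.subset_adjoin (by simp)
  have mxy : x * y ∈ R := Algebra.subset_adjoin (by simp)
  have my : y ∈ R := Algebra.subset_adjoin (by simp)
  have h2 : (MvPolynomial.C (2⁻¹ : K) * 2 : MvPolynomial (Fin 2) K) = 1 := by
    rw [show (2 : MvPolynomial (Fin 2) K) = MvPolynomial.C 2 from (map_ofNat MvPolynomial.C 2).symm,
      ← MvPolynomial.C_mul, inv_mul_cancel₀ (NeZero.ne 2), MvPolynomial.C_1]
  have h2' : (Polynomial.C (2⁻¹ : K) * 2 : Polynomial K) = 1 := by
    rw [show (2 : Polynomial K) = Polynomial.C 2 from (map_ofNat Polynomial.C 2).symm,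
      ← Polynomial.C_mul, inv_mul_cancel₀ (NeZero.ne 2), Polynomial.C_1]
  have yS : ∀ f : MvPolynomial (Fin 2) K, y * f ∈ R ∧ y * x * f ∈ R := by
    intro f
    induction f using MvPolynomial.induction_on with
    | C a =>
      refine ⟨Subalgebra.mul_mem _ my (Subalgebra.algebraMap_mem _ a), ?_⟩
      have : y * x = x * y := mul_comm _ _
      rw [this]
      exact Subalgebra.mul_mem _ mxy (Subalgebra.algebraMap_mem _ a)
    | add p q hp hq =>
      refine ⟨?_, ?_⟩
      · rw [mul_add]; exact Subalgebra.add_mem _ hp.1 hq.1
      · rw [mul_add]; exact Subalgebra.add_mem _ hp.2 hq.2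
    | mul_X p i hp =>
      fin_cases i
      · refine ⟨?_, ?_⟩
        · have : y * (p * MvPolynomial.X 0) = y * x * p := by rw [hx_def]; ring
          simp only [Fin.zero_eta]
          rw [this]; exact hp.2
        · have : y * x * (p * MvPolynomial.X 0) = (y * p) * x ^ 2 := by rw [hx_def]; ring
          simp only [Fin.zero_eta]
          rw [this]; exact Subalgebra.mul_mem _ hp.1 mx2
      · refine ⟨?_, ?_⟩
        · have : y * (p * MvPolynomial.X 1) = (y * p) * y := by rw [hy_def]; ring
          simp only [Fin.mk_one]
          rw [this]; exact Subalgebra.mul_mem _ hp.1 my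
        · have : y * x * (p * MvPolynomial.X 1) = (y * x * p) * y := by rw [hy_def]; ring
          simp only [Fin.mk_one]
          rw [this]; exact Subalgebra.mul_mem _ hp.2 my
  have hRev : ∀ f ∈ R, eps K f ∈ (Polynomial.expand K 2).range := by
    intro f hf
    have : R ≤ Subalgebra.comap (eps K) (Polynomial.expand K 2).range := by
      apply Algebra.adjoin_le
      intro z hz
      rcases hz with rfl | rfl | rfl
      · refine ⟨Polynomial.X, ?_⟩
        simp [hx_def, eps_X0]
      · refine ⟨0, ?_⟩
        simp [hy_def, eps_X1]
      · refine ⟨0, ?_⟩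
        simp [hy_def, eps_X1]
    exact this hf
  constructor
  · intro hD
    have hy1 : eps K (D y) ∈ (Polynomial.expand K 2).range := hRev _ (hD y my)
    have hxy1 : Polynomial.X * eps K (D y) ∈ (Polynomial.expand K 2).range := by
      have := hRev _ (hD _ mxy)
      rw [Derivation.leibniz, smul_eq_mul, smul_eq_mul, map_add, map_mul, map_mul] at this
      rw [hx_def, hy_def, eps_X0, eps_X1, zero_mul, add_zero] at this
      exact this
    have hy0 := ev_zero K _ hy1 hxy1
    have hx1 : Polynomial.X * eps K (D x) ∈ (Polynomial.expand K 2).range := by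
      have := hRev _ (hD _ mx2)
      rw [pow_two, Derivation.leibniz, smul_eq_mul, map_add, map_mul] at this
      rw [hx_def, eps_X0] at this
      have h3 : Polynomial.X * eps K (D (MvPolynomial.X 0))
          = Polynomial.C (2⁻¹ : K) * (Polynomial.X * (eps K) (D (MvPolynomial.X 0))
            + Polynomial.X * (eps K) (D (MvPolynomial.X 0))) := by
        linear_combination (-(Polynomial.X * eps K (D (MvPolynomial.X 0)))) * h2'
      rw [hx_def, h3]
      exact Subalgebra.mul_mem _ (Subalgebra.algebraMap_mem _ _) this
    obtain ⟨p, hp⟩ := odd_form K _ hx1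
    constructor
    · have := sub_eta_eps_mem K (D y)
      rwa [hy0, map_zero, sub_zero] at this
    · have := sub_eta_eps_mem K (D x)
      rw [Ideal.mem_span_singleton'] at this
      obtain ⟨s, hs⟩ := this
      refine ⟨s, p, ?_⟩
      have h4 : eta K (eps K (D x)) = x * Polynomial.aeval (x ^ 2) p := by
        rw [hp, map_mul]
        simp only [eta, Polynomial.aeval_X, Polynomial.expand_aeval]
        rfl
      rw [← h4]
      linear_combination -hs
  · rintro ⟨hy1, s, p, hx1⟩
    rw [Ideal.mem_span_singleton'] at hy1
    obtain ⟨b', hb'⟩ := hy1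
    have hP : Polynomial.aeval (x ^ 2) p ∈ R := by
      have h5 := Polynomial.aeval_mem_adjoin_singleton K (x ^ 2) (p := p)
      have h6 : Algebra.adjoin K ({x ^ 2} : Set (MvPolynomial (Fin 2) K)) ≤ R := by
        apply Algebra.adjoin_mono
        intro z hz
        rw [Set.mem_singleton_iff] at hz
        rw [hz]; simp
      exact h6 h5
    intro r hr
    induction hr using Algebra.adjoin_induction with
    | mem z hz =>
      rcases hz with rfl | rfl | rfl
      · rw [pow_two, Derivation.leibniz, smul_eq_mul, hx1]
        have : x * (y * s + x * Polynomial.aeval (x ^ 2) p) + x * (y * s + x * Polynomial.aeval (x ^ 2) p)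
            = y * (2 * x * s) + (MvPolynomial.C 2) * (x ^ 2 * Polynomial.aeval (x ^ 2) p) := by
          rw [show (MvPolynomial.C (2 : K) : MvPolynomial (Fin 2) K) = 2 from map_ofNat MvPolynomial.C 2]
          ring
        rw [this]
        exact Subalgebra.add_mem _ (yS _).1
          (Subalgebra.mul_mem _ (Subalgebra.algebraMap_mem _ _) (Subalgebra.mul_mem _ mx2 hP))
      · rw [Derivation.leibniz, smul_eq_mul, smul_eq_mul, hx1, ← hb']
        have : x * (b' * y) + y * (y * s + x * Polynomial.aeval (x ^ 2) p)
            = y * (x * b' + y * s) + (x * y) * Polynomial.aeval (x ^ 2) p := by ring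
        rw [this]
        exact Subalgebra.add_mem _ (yS _).1 (Subalgebra.mul_mem _ mxy hP)
      · rw [← hb', mul_comm]
        exact (yS _).1
    | algebraMap c =>
      rw [Derivation.map_algebraMap]
      exact Subalgebra.zero_mem _
    | add z w hz hw ihz ihw =>
      rw [map_add]
      exact Subalgebra.add_mem _ ihz ihw
    | mul z w hz hw ihz ihw =>
      rw [Derivation.leibniz, smul_eq_mul, smul_eq_mul]
      exact Subalgebra.add_mem _ (Subalgebra.mul_mem _ hz ihw) (Subalgebra.mul_mem _ hw ihz)

end Groth.Agent.S18123
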