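import Groth.Statements.S18125
import Mathlib
-- import your own Groth.Agent.* helpers here

set_option autoImplicit false
universe u
open Pinch

namespace Groth.Agent.S18125

open MvPolynomial

noncomputable def psi (K : Type u) [Field K] (n : ℕ) :
    MvPolynomial (Fin (n + 3)) K →ₐ[K] MvPolynomial (Fin (n + 3)) K :=
  aeval (fun i => if i = 0 ∨ i = 2 then 0 else X i)

noncomputable def phi (K : Type u) [Field K] (n : ℕ) :
    MvPolynomial (Fin (n + 3)) K →ₐ[K] MvPolynomial (Fin (n + 3)) K :=
  aeval (fun i => if i = 0 ∨ i = 1 ∨ i = 2 then 0 else X i)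

theorem ne01 (n : ℕ) : (0 : Fin (n + 3)) ≠ 1 := by
  intro h; have := congrArg Fin.val h; simp at this

theorem ne02 (n : ℕ) : (0 : Fin (n + 3)) ≠ 2 := by
  intro h; have := congrArg Fin.val h
  simp at this
  rw [Nat.mod_eq_of_lt (by omega)] at this
  omega

theorem ne12 (n : ℕ) : (1 : Fin (n + 3)) ≠ 2 := by
  intro h; have := congrArg Fin.val h
  simp at this
  rw [Nat.mod_eq_of_lt (by omega)] at this
  omega

theorem psi_X0 (K : Type u) [Field K] (n : ℕ) : psi K n (X 0) = 0 := by
  simp [psi]

theorem psi_X2 (K : Type u) [Field K] (n : ℕ) : psi K n (X 2) = 0 := by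
  simp [psi]

theorem psi_X1 (K : Type u) [Field K] (n : ℕ) : psi K n (X 1) = X 1 := by
  simp [psi, (ne01 n).symm, ne12 n]

theorem phi_X1 (K : Type u) [Field K] (n : ℕ) : phi K n (X 1) = 0 := by
  simp [phi]

theorem phi_psi (K : Type u) [Field K] (n : ℕ) (f : MvPolynomial (Fin (n + 3)) K) :
    phi K n (psi K n f) = phi K n f := by
  have : (phi K n).comp (psi K n) = phi K n := by
    apply MvPolynomial.algHom_ext
    intro i
    simp only [AlgHom.comp_apply, psi, phi, aeval_X]
    by_cases h : i = 0 ∨ i = 2
    · rw [if_pos h]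
      rcases h with h | h
      · simp [h]
      · simp [h]
    · rw [if_neg h]
      simp
  exact congrArg (fun g => g f) this

theorem sub_phi_mem (K : Type u) [Field K] (n : ℕ) (f : MvPolynomial (Fin (n + 3)) K) :
    f - phi K n f ∈ Ideal.span ({X 0, X 1, X 2} : Set (MvPolynomial (Fin (n + 3)) K)) := by
  induction f using MvPolynomial.induction_on with
  | C a => simp [phi]
  | add p q hp hq =>
    have : p + q - phi K n (p + q) = (p - phi K n p) + (q - phi K n q) := by
      rw [map_add]; ring
    rw [this]
    exact Ideal.add_mem _ hp hq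
  | mul_X p i hp =>
    have : p * X i - phi K n (p * X i) = (p - phi K n p) * X i + phi K n p * (X i - phi K n (X i)) := by
      rw [map_mul]; ring
    rw [this]
    refine Ideal.add_mem _ (Ideal.mul_mem_right _ _ hp) (Ideal.mul_mem_left _ _ ?_)
    simp only [phi, aeval_X]
    by_cases h : i = 0 ∨ i = 1 ∨ i = 2
    · rw [if_pos h, sub_zero]
      apply Ideal.subset_span
      rcases h with h | h | h <;> simp [h]
    · rw [if_neg h, sub_self]
      exact Ideal.zero_mem _

/-- Let K be a field in which 2 ≠ 0, n ≥ 0, S = K[u, v, w, t_1, …, t_n] (u, v, w the first three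
variables), h = u^2 - v^2 w the equation of the pinch-point model, and Jac the ideal generated by h
and its three partial derivatives 2u, -2vw, -v^2, which cuts out the scheme-theoretic singular locus
of {h = 0}. Then the ideal (u, v) of the double locus is Jac + (v), and the colon ideal of Jac by
(v) is (u, v, w). Consequently (u, v)/Jac, the ideal of the double locus restricted to the singular
locus, is an invertible sheaf on the pinch locus u = v = w = 0: it is free of rank one over K[t_1,
…, t_n] on the class of v. (The text states this for every semi-smooth variety and reduces to this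
model; K algebraically closed is not needed for the model computation.) -/
theorem result
    (K : Type u) [Field K] [NeZero (2 : K)] (n : ℕ) :
    letI u : MvPolynomial (Fin (n + 3)) K := MvPolynomial.X 0
    letI v : MvPolynomial (Fin (n + 3)) K := MvPolynomial.X 1
    letI w : MvPolynomial (Fin (n + 3)) K := MvPolynomial.X 2
    letI Jac : Ideal (MvPolynomial (Fin (n + 3)) K) :=
      Ideal.span {u ^ 2 - v ^ 2 * w, 2 * u, -(2 * v * w), -(v ^ 2)}
    Ideal.span {u, v} = Jac ⊔ Ideal.span {v} ∧ Jac.colon (Ideal.span {v}) = Ideal.span {u, v, w} := by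
  set u : MvPolynomial (Fin (n + 3)) K := MvPolynomial.X 0 with hu_def
  set v : MvPolynomial (Fin (n + 3)) K := MvPolynomial.X 1 with hv_def
  set w : MvPolynomial (Fin (n + 3)) K := MvPolynomial.X 2 with hw_def
  set Jac : Ideal (MvPolynomial (Fin (n + 3)) K) :=
      Ideal.span {u ^ 2 - v ^ 2 * w, 2 * u, -(2 * v * w), -(v ^ 2)} with hJac
  have h2 : (C (2⁻¹ : K) * 2 : MvPolynomial (Fin (n + 3)) K) = 1 := by
    rw [show (2 : MvPolynomial (Fin (n + 3)) K) = C 2 from (map_ofNat C 2).symm, ← C_mul,
      inv_mul_cancel₀ (NeZero.ne 2), C_1]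
  have hg1 : u ^ 2 - v ^ 2 * w ∈ Jac := Ideal.subset_span (by simp)
  have hg2 : 2 * u ∈ Jac := Ideal.subset_span (by simp)
  have hg3 : -(2 * v * w) ∈ Jac := Ideal.subset_span (by simp)
  have hg4 : -(v ^ 2) ∈ Jac := Ideal.subset_span (by simp)
  have hu : u ∈ Jac := by
    have : u = C (2⁻¹ : K) * (2 * u) := by linear_combination (-u) * h2
    rw [this]
    exact Ideal.mul_mem_left _ _ hg2
  constructor
  · apply le_antisymm
    · rw [Ideal.span_le]
      intro x hx
      rcases hx with rfl | rfl
      · exact Ideal.mem_sup_left hu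
      · exact Ideal.mem_sup_right (Ideal.subset_span rfl)
    · apply sup_le
      · rw [Ideal.span_le]
        intro x hx
        rcases hx with rfl | rfl | rfl | rfl
        · exact Ideal.mem_span_pair.mpr ⟨u, -(v * w), by ring⟩
        · exact Ideal.mem_span_pair.mpr ⟨2, 0, by ring⟩
        · exact Ideal.mem_span_pair.mpr ⟨0, -(2 * w), by ring⟩
        · exact Ideal.mem_span_pair.mpr ⟨0, -v, by ring⟩
      · apply Ideal.span_mono
        intro x hx
        rw [Set.mem_singleton_iff] at hx
        rw [hx]; simp
  · apply le_antisymm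
    · intro f hf
      rw [Ideal.mem_colon_span_singleton] at hf
      have hJ : ∀ g ∈ Jac, psi K n g ∈ Ideal.span ({v ^ 2} : Set (MvPolynomial (Fin (n + 3)) K)) := by
        intro g hg
        have : Jac ≤ Ideal.comap (psi K n) (Ideal.span {v ^ 2}) := by
          rw [Ideal.span_le]
          intro x hx
          rcases hx with rfl | rfl | rfl | rfl
          · simp [Ideal.mem_comap, psi_X0, psi_X1, psi_X2, u, v, w]
          · simp [Ideal.mem_comap, psi_X0, psi_X1, psi_X2, u, v, w]
          · simp [Ideal.mem_comap, psi_X0, psi_X1, psi_X2, u, v, w]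
          · simp only [SetLike.mem_coe, Ideal.mem_comap, map_neg, map_pow, psi_X1, v]
            exact neg_mem (Ideal.subset_span rfl)
        exact this hg
      have h1 := hJ _ hf
      rw [map_mul, psi_X1, Ideal.mem_span_singleton, pow_two] at h1
      have hv0 : (X 1 : MvPolynomial (Fin (n + 3)) K) ≠ 0 := X_ne_zero 1
      have h3 : (X 1 : MvPolynomial (Fin (n + 3)) K) ∣ psi K n f :=
        (mul_dvd_mul_iff_right hv0).mp h1
      obtain ⟨h, hh⟩ := h3
      have h4 : phi K n f = 0 := by
        rw [← phi_psi, hh, map_mul, phi_X1, zero_mul]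
      have := sub_phi_mem K n f
      rwa [h4, sub_zero] at this
    · rw [Ideal.span_le]
      intro x hx
      rw [SetLike.mem_coe, Ideal.mem_colon_span_singleton]
      rcases hx with rfl | rfl | rfl
      · exact Ideal.mul_mem_right _ _ hu
      · have : v * v = (-1) * (-(v ^ 2)) := by ring
        rw [this]
        exact Ideal.mul_mem_left _ _ hg4
      · have : w * v = (-C (2⁻¹ : K)) * (-(2 * v * w)) := by linear_combination (-(w * v)) * h2
        rw [this]
        exact Ideal.mul_mem_left _ _ hg3

end Groth.Agent.S18125
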