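import Groth.Statements.S18127
-- import your own Groth.Agent.* helpers here

set_option autoImplicit false
universe u
open LocAlg

namespace Groth.Agent.S18127

theorem map_transvection_aux {R S : Type*} [CommRing R] [CommRing S] {n : ℕ} (f : R →+* S)
    (i j : Fin n) (c : R) :
    (Matrix.transvection i j c).map f = Matrix.transvection i j (f c) := by
  ext a b
  simp only [Matrix.transvection, Matrix.map_apply, Matrix.add_apply, Matrix.one_apply,
    Matrix.single_apply]
  split_ifs <;> simp

theorem exists_lift_list {R : Type*} [CommRing R] [IsLocalRing R] {n : ℕ}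
    (L : List (Matrix.TransvectionStruct (Fin n) (IsLocalRing.ResidueField R))) :
    ∃ P : Matrix (Fin n) (Fin n) R, P.det = 1 ∧
      P.map (IsLocalRing.residue R) = (L.map Matrix.TransvectionStruct.toMatrix).prod := by
  induction L with
  | nil => exact ⟨1, by simp, by simp⟩
  | cons t L ih =>
    obtain ⟨P, hP1, hP2⟩ := ih
    obtain ⟨c, hc⟩ := IsLocalRing.residue_surjective t.c
    refine ⟨Matrix.transvection t.i t.j c * P, ?_, ?_⟩
    · rw [Matrix.det_mul, hP1, Matrix.det_transvection_of_ne _ _ t.hij, one_mul]
    · rw [List.map_cons, List.prod_cons, Matrix.map_mul, hP2, map_transvection_aux, hc]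
      rfl

theorem det_mem_pow_of_cols {R : Type*} [CommRing R] {n : ℕ} (I : Ideal R)
    (N : Matrix (Fin n) (Fin n) R) (S : Finset (Fin n))
    (hS : ∀ j ∈ S, ∀ i, N i j ∈ I) : N.det ∈ I ^ S.card := by
  rw [Matrix.det_apply]
  refine Ideal.sum_mem _ fun σ _ => ?_
  refine Submodule.smul_of_tower_mem _ _ ?_
  rw [← Finset.prod_mul_prod_compl S]
  refine Ideal.mul_mem_right _ _ ?_
  have : ∏ i ∈ S, N (σ i) i ∈ ∏ i ∈ S, I := Ideal.prod_mem_prod fun i hi => hS i hi _
  simpa using this

/-- Let R be a local ring with maximal ideal m and algebraically closed residue field, and M an n × n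
matrix over R whose reduction modulo m has rank at most r. Then the determinant of M lies in m^(n −
r). (The published setting is the local ring of germs of holomorphic functions at a point of a
complex manifold, where this says that the determinant vanishes to order at least n − r at a point
where the matrix has rank at most r.) -/
theorem result
    {R : Type u} [CommRing R] [IsLocalRing R] [IsAlgClosed (IsLocalRing.ResidueField R)]
    {n : ℕ} (M : Matrix (Fin n) (Fin n) R) (r : ℕ)
    (hr : (M.map (IsLocalRing.residue R)).rank ≤ r) :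
    M.det ∈ IsLocalRing.maximalIdeal R ^ (n - r) := by
  classical
  obtain ⟨L, L', D, hD⟩ :=
    Matrix.Pivot.exists_list_transvec_mul_mul_list_transvec_eq_diagonal
      (M.map (IsLocalRing.residue R))
  obtain ⟨P, hP1, hP2⟩ := exists_lift_list (R := R) L
  obtain ⟨Q, hQ1, hQ2⟩ := exists_lift_list (R := R) L'
  set N := P * M * Q with hN
  have hdet : N.det = M.det := by
    rw [hN, Matrix.det_mul, Matrix.det_mul, hP1, hQ1, one_mul, mul_one]
  have hNmap : N.map (IsLocalRing.residue R) = Matrix.diagonal D := by
    rw [hN, Matrix.map_mul, Matrix.map_mul, hP2, hQ2, hD]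
  have hrank : (Matrix.diagonal D).rank = (M.map (IsLocalRing.residue R)).rank := by
    rw [← hD]
    rw [Matrix.rank_mul_eq_left_of_isUnit_det, Matrix.rank_mul_eq_right_of_isUnit_det]
    · simp
    · simp
  rw [Matrix.rank_diagonal] at hrank
  set S : Finset (Fin n) := Finset.univ.filter fun i => D i = 0 with hSdef
  have hcard : n - r ≤ S.card := by
    have h1 : (Finset.univ.filter fun i => ¬ D i = 0).card ≤ r := by
      have h3 : Fintype.card { i // D i ≠ 0 } ≤ r := hrank ▸ hr
      rwa [Fintype.card_subtype] at h3
    have h2 : S.card + (Finset.univ.filter fun i => ¬ D i = 0).card = n := by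
      rw [hSdef, Finset.card_filter_add_card_filter_not]
      simp
    omega
  rw [← hdet]
  refine Ideal.pow_le_pow_right hcard ?_
  refine det_mem_pow_of_cols _ N S fun j hj i => ?_
  rw [← IsLocalRing.residue_eq_zero_iff]
  have := congrFun (congrFun hNmap i) j
  rw [Matrix.map_apply] at this
  rw [this]
  have hDj : D j = 0 := (Finset.mem_filter.mp hj).2
  by_cases hij : i = j
  · subst hij; simp [hDj]
  · simp [Matrix.diagonal_apply_ne _ hij]

end Groth.Agent.S18127
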