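import Groth.Statements.S18128
import Groth.Agent.Lib.Helper92.AcyclicityDesc

set_option autoImplicit false
universe u
open CAlg

namespace Groth.Agent.S18128

open Groth.Agent.Lib.Helper92.Acyc CategoryTheory in
/-- Local step of Buchsbaum–Eisenbud: let R be a Noetherian local ring with maximal ideal m, and 0 →
R^(n_e) → ⋯ → R^(n_1) → R^(n_0) a complex of finite free modules, the map R^(n_(i+1)) → R^(n_i)
being given by the matrix A i, with 1 ≤ e and e at most the depth of R (there is an R-regular
sequence of length e inside m). If for every prime ideal p ≠ m the complex of matrices over R_p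
obtained by localization is exact at R_p^(n_e), …, R_p^(n_1), then the complex is exact at R^(n_e),
…, R^(n_1). -/
theorem result
    {R : Type u} [CommRing R] [IsLocalRing R] [IsNoetherianRing R]
    (e : ℕ) (he : 1 ≤ e) (n : ℕ → ℕ) (A : (i : ℕ) → Matrix (Fin (n i)) (Fin (n (i + 1))) R)
    (hA : ∀ i, i + 2 ≤ e → A i * A (i + 1) = 0)
    (rs : List R) (hlen : rs.length = e) (hmem : ∀ x ∈ rs, x ∈ IsLocalRing.maximalIdeal R)
    (hreg : RingTheory.Sequence.IsRegular R rs)
    (hloc : ∀ (p : Ideal R) [p.IsPrime], p ≠ IsLocalRing.maximalIdeal R →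
      LinearMap.ker ((A (e - 1)).map (algebraMap R (Localization.AtPrime p))).mulVecLin = ⊥ ∧
        ∀ i, i + 2 ≤ e →
          LinearMap.ker ((A i).map (algebraMap R (Localization.AtPrime p))).mulVecLin =
            LinearMap.range ((A (i + 1)).map (algebraMap R (Localization.AtPrime p))).mulVecLin) :
    LinearMap.ker (A (e - 1)).mulVecLin = ⊥ ∧
      ∀ i, i + 2 ≤ e → LinearMap.ker (A i).mulVecLin = LinearMap.range (A (i + 1)).mulVecLin := by
  -- depth
  have hdepth : (e : ℕ∞) ≤ LocCoh.depth R R := by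
    rw [← hlen]
    exact Groth.Agent.Lib.Helper67.length_le_idealDepth _ R rs hreg.toIsWeaklyRegular hmem
  have hR : ∀ j, j < e → Subsingleton (LocCoh.H (IsLocalRing.maximalIdeal R) j R) :=
    (Groth.Agent.Lib.Helper85.FLCrit.le_depth_iff R R e).1 hdepth
  let M : ℕ → ModuleCat.{u} R := fun i => ModuleCat.of R (Fin (n i) → R)
  let φ : ∀ i, M (i + 1) ⟶ M i := fun i => ModuleCat.ofHom (A i).mulVecLin
  have hφ : ∀ i, i + 2 ≤ e → φ (i + 1) ≫ φ i = 0 := by
    intro i hi
    change ModuleCat.ofHom ((A i).mulVecLin ∘ₗ (A (i + 1)).mulVecLin) = 0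
    rw [← Matrix.mulVecLin_mul, hA i hi, Matrix.mulVecLin_zero]
    rfl
  have hM : ∀ i j, j < e →
      Subsingleton ((localCohomology (IsLocalRing.maximalIdeal R) j).obj (M i)) := fun i j hj =>
    Groth.Agent.Lib.Helper85.Canon.subsingleton_H_free (IsLocalRing.maximalIdeal R) j (hR j hj) (n i)
  have hfl_top : ∀ i, i + 1 = e → IsFiniteLength R (LinearMap.ker (φ i).hom) := by
    intro i hi
    apply isFiniteLength_of_forall_prime
    intro p _ hp x
    have h1 := (hloc p hp).1
    have hei : e - 1 = i := by omega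
    rw [hei] at h1
    obtain ⟨t, ht, h2⟩ := exists_smul_eq_zero_of_ker_eq_bot p (A i) h1 x.1 x.2
    exact ⟨t, ht, Subtype.ext h2⟩
  have hfl : ∀ i (h : i + 2 ≤ e),
      IsFiniteLength R (ShortComplex.mk (φ (i + 1)) (φ i) (hφ i h)).homology := by
    intro i hi
    refine (ShortComplex.moduleCatHomologyIso _).toLinearEquiv.symm.isFiniteLength ?_
    have hnoeth : IsNoetherian R (Fin (n (i + 1)) → R) := inferInstance
    have hfin1 : Module.Finite R (LinearMap.ker (A i).mulVecLin) := Module.IsNoetherian.finite R _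
    have hfin : Module.Finite R (LinearMap.ker (φ i).hom ⧸
        LinearMap.range (ShortComplex.mk (φ (i + 1)) (φ i) (hφ i hi)).moduleCatToCycles) :=
      Module.Finite.quotient R (M := LinearMap.ker (A i).mulVecLin) _
    refine @isFiniteLength_of_forall_prime R _ _ _ _ _ _ hfin ?_
    intro p _ hp z
    obtain ⟨x, rfl⟩ := Submodule.Quotient.mk_surjective _ z
    have h1 := (hloc p hp).2 i hi
    obtain ⟨t, ht, y, hy⟩ := exists_smul_mem_range p (A i) (A (i + 1)) h1 x.1 x.2
    refine ⟨t, ht, ?_⟩
    refine (Submodule.Quotient.mk_smul _ t x).symm.trans ?_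
    exact (Submodule.Quotient.mk_eq_zero _).2 ⟨y, Subtype.ext hy⟩
  refine ⟨?_, fun i hi => desc_exact e M φ hφ hM hfl_top hfl i hi⟩
  exact ker_top e M φ hM hfl_top (e - 1) (by omega)

end Groth.Agent.S18128
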