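import Groth.Statements.S18136
import Mathlib.Data.Fintype.Order
import Mathlib.LinearAlgebra.LinearIndependent.Lemmas
-- import your own Groth.Agent.* helpers here

set_option autoImplicit false
universe u v
open IsLocalRing
open CAlg

namespace Groth.Agent.S18136

theorem residue_smul_toCotangent {R : Type u} [CommRing R] [IsLocalRing R] (r : R)
    (x : maximalIdeal R) :
    residue R r • (maximalIdeal R).toCotangent x = (maximalIdeal R).toCotangent (r • x) := by
  rw [map_smul, ← IsLocalRing.ResidueField.algebraMap_eq, algebraMap_smul]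

theorem map_mem_iff {R S : Type u} [CommRing R] [IsLocalRing R] [CommRing S] [IsLocalRing S]
    (ψ : R →+* S) [IsLocalHom ψ] (x : R) : ψ x ∈ maximalIdeal S ↔ x ∈ maximalIdeal R := by
  rw [← Ideal.mem_comap, IsLocalRing.maximalIdeal_comap]

theorem linInd_of_map {R S : Type u} [CommRing R] [IsLocalRing R] [CommRing S] [IsLocalRing S]
    (ψ : R →+* S) [IsLocalHom ψ] {κ : Type} [Fintype κ]
    (v : κ → maximalIdeal R) (w : κ → maximalIdeal S) (hvw : ∀ i, ψ (v i) = w i)
    (hw : LinearIndependent (ResidueField S) (⇑(maximalIdeal S).toCotangent ∘ w)) :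
    LinearIndependent (ResidueField R) (⇑(maximalIdeal R).toCotangent ∘ v) := by
  rw [Fintype.linearIndependent_iff] at hw ⊢
  intro a ha i
  choose a' ha' using fun i => residue_surjective (a i)
  have h1 : ∑ i, a i • (⇑(maximalIdeal R).toCotangent ∘ v) i =
      (maximalIdeal R).toCotangent (∑ i, a' i • v i) := by
    rw [map_sum]
    refine Finset.sum_congr rfl fun i _ => ?_
    rw [Function.comp_apply, ← ha' i, residue_smul_toCotangent]
  rw [h1, Ideal.toCotangent_eq_zero] at ha
  have h2 : ψ ((∑ i, a' i • v i : maximalIdeal R) : R) ∈ maximalIdeal S ^ 2 := by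
    have h3 : (maximalIdeal R).map ψ ≤ maximalIdeal S := IsLocalRing.map_maximalIdeal_le ψ
    have h4 := Ideal.mem_map_of_mem ψ ha
    rw [Ideal.map_pow] at h4
    exact Ideal.pow_right_mono h3 2 h4
  have h5 : ψ ((∑ i, a' i • v i : maximalIdeal R) : R) =
      ((∑ i, ψ (a' i) • w i : maximalIdeal S) : S) := by
    rw [Submodule.coe_sum, Submodule.coe_sum, map_sum]
    refine Finset.sum_congr rfl fun i _ => ?_
    rw [Submodule.coe_smul, Submodule.coe_smul, smul_eq_mul, smul_eq_mul, map_mul, hvw]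
  rw [h5, ← Ideal.toCotangent_eq_zero, map_sum] at h2
  have h6 : ∑ i, residue S (ψ (a' i)) • (⇑(maximalIdeal S).toCotangent ∘ w) i = 0 := by
    rw [← h2]
    refine Finset.sum_congr rfl fun i _ => ?_
    rw [Function.comp_apply, residue_smul_toCotangent]
  have h7 := hw _ h6 i
  rw [residue_eq_zero_iff] at h7
  rw [← ha' i, residue_eq_zero_iff]
  exact (map_mem_iff ψ _).mp h7

section
variable {A : Type u} [CommRing A] [IsLocalRing A]
    {ι : Type v} [Preorder ι] [Nonempty ι] [IsDirected ι (· ≤ ·)]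
    (B : ι → Type u) [∀ j, CommRing (B j)] [∀ j, IsLocalRing (B j)]
    (φ : ∀ i j, i ≤ j → (B i →+* B j)) (hφloc : ∀ i j (h : i ≤ j), IsLocalHom (φ i j h))
    (hφ : ∀ i j l (hij : i ≤ j) (hjl : j ≤ l),
      (φ j l hjl).comp (φ i j hij) = φ i l (hij.trans hjl))
    (ψ : ∀ j, B j →+* A) (hψ : ∀ i j (h : i ≤ j), (ψ j).comp (φ i j h) = ψ i)
    (hsurj : ∀ a : A, ∃ j, ∃ x : B j, ψ j x = a)
    (hker : ∀ j (x : B j), ψ j x = 0 → ∃ l, ∃ h : j ≤ l, φ j l h x = 0)

include hφloc hφ hψ hsurj hker in
theorem psi_local (j : ι) : IsLocalHom (ψ j) := by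
  constructor
  intro x hx
  obtain ⟨a, ha⟩ := hx.exists_right_inv
  obtain ⟨l, y, rfl⟩ := hsurj a
  obtain ⟨n, hjn, hln⟩ := exists_ge_ge j l
  have h1 : ψ n (φ j n hjn x * φ l n hln y - 1) = 0 := by
    rw [map_sub, map_mul, map_one]
    have e1 : ψ n (φ j n hjn x) = ψ j x := by rw [← RingHom.comp_apply, hψ]
    have e2 : ψ n (φ l n hln y) = ψ l y := by rw [← RingHom.comp_apply, hψ]
    rw [e1, e2, ha, sub_self]
  obtain ⟨n', hnn', h2⟩ := hker n _ h1
  rw [map_sub, map_mul, map_one, sub_eq_zero] at h2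
  have e3 : φ n n' hnn' (φ j n hjn x) = φ j n' (hjn.trans hnn') x := by
    rw [← RingHom.comp_apply, hφ]
  rw [e3] at h2
  have h3 : IsUnit (φ j n' (hjn.trans hnn') x) := IsUnit.of_mul_eq_one _ h2
  exact (hφloc j n' _).map_nonunit x h3

include hψ hsurj in
theorem exists_lift {κ : Type} [Finite κ] (a : κ → A) :
    ∃ j, ∃ x : κ → B j, ∀ i, ψ j (x i) = a i := by
  choose jj x hx using hsurj
  obtain ⟨M, hM⟩ := Finite.exists_le (fun i => jj (a i))
  refine ⟨M, fun i => φ _ M (hM i) (x (a i)), fun i => ?_⟩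
  rw [← RingHom.comp_apply, hψ, hx]

end

/-- Let A be a regular local ring with maximal ideal m and residue field k, written as a directed
colimit of regular local rings A_j with local transition maps (compatible maps ψ_j : A_j → A that
are jointly surjective, an element dying in A dying at some later stage). Let f_1, …, f_c, g_1, …,
g_d ∈ m have linearly independent classes in m/m^2 over k, and put I = (f_1, …, f_c) ⊆ I' = (f_1, …,
f_c, g_1, …, g_d) (so I is generated by part of a regular system of parameters of A and I'/I by part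
of a regular system of parameters of A/I; for a regular local ring the condition on I ⊆ I' is stated
through such a joint family). Then there are an index j_0 and ideals I_j ⊆ I'_j ⊆ A_j for j ≥ j_0
such that: each I_j is generated by c elements and I'_j by these together with d further elements of
the maximal ideal m_j, the c + d classes in m_j/m_j^2 being linearly independent over the residue
field of A_j; the transition maps carry I_i, I'_i onto generators of I_j, I'_j for j_0 ≤ i ≤ j; and
I_j, I'_j generate I, I' in A. -/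
theorem result
    {A : Type u} [CommRing A] [IsRegularLocalRing A]
    {ι : Type v} [Preorder ι] [Nonempty ι] [IsDirected ι (· ≤ ·)]
    (B : ι → Type u) [∀ j, CommRing (B j)] [∀ j, IsRegularLocalRing (B j)]
    (φ : ∀ i j, i ≤ j → (B i →+* B j)) (hφloc : ∀ i j (h : i ≤ j), IsLocalHom (φ i j h))
    (hφ : ∀ i j l (hij : i ≤ j) (hjl : j ≤ l), (φ j l hjl).comp (φ i j hij) = φ i l (hij.trans hjl))
    (ψ : ∀ j, B j →+* A) (hψ : ∀ i j (h : i ≤ j), (ψ j).comp (φ i j h) = ψ i)
    (hsurj : ∀ a : A, ∃ j, ∃ x : B j, ψ j x = a)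
    (hker : ∀ j (x : B j), ψ j x = 0 → ∃ l, ∃ h : j ≤ l, φ j l h x = 0)
    (c d : ℕ) (f : Fin c → maximalIdeal A) (g : Fin d → maximalIdeal A)
    (hind : LinearIndependent (ResidueField A) (⇑(maximalIdeal A).toCotangent ∘ Sum.elim f g)) :
    ∃ j₀ : ι, ∃ (P : ∀ j, j₀ ≤ j → Ideal (B j)) (Q : ∀ j, j₀ ≤ j → Ideal (B j)),
      (∀ j (hj : j₀ ≤ j), ∃ (F : Fin c → maximalIdeal (B j)) (E : Fin d → maximalIdeal (B j)),
        LinearIndependent (ResidueField (B j)) (⇑(maximalIdeal (B j)).toCotangent ∘ Sum.elim F E) ∧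
        P j hj = Ideal.span (Set.range (fun s => (F s : B j))) ∧
        Q j hj = P j hj ⊔ Ideal.span (Set.range (fun t => (E t : B j)))) ∧
      (∀ i j (hi : j₀ ≤ i) (hij : i ≤ j),
        (P i hi).map (φ i j hij) = P j (le_trans hi hij) ∧ (Q i hi).map (φ i j hij) = Q j (le_trans hi hij)) ∧
      (∀ j (hj : j₀ ≤ j),
        (P j hj).map (ψ j) = Ideal.span (Set.range (fun s => (f s : A))) ∧
        (Q j hj).map (ψ j) = Ideal.span (Set.range (fun s => (f s : A))) ⊔ Ideal.span (Set.range (fun t => (g t : A)))) := by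
  obtain ⟨j₀, x₀, hx₀⟩ := exists_lift B φ ψ hψ hsurj
    (fun i : Fin c ⊕ Fin d => ((Sum.elim f g i : maximalIdeal A) : A))
  have hloc : ∀ j, IsLocalHom (ψ j) := psi_local B φ hφloc hφ ψ hψ hsurj hker
  have hx : ∀ j (hj : j₀ ≤ j) (i : Fin c ⊕ Fin d),
      ψ j (φ j₀ j hj (x₀ i)) = ((Sum.elim f g i : maximalIdeal A) : A) := by
    intro j hj i
    rw [← RingHom.comp_apply, hψ, hx₀]
  have hmem : ∀ j (hj : j₀ ≤ j) (i : Fin c ⊕ Fin d), φ j₀ j hj (x₀ i) ∈ maximalIdeal (B j) := by
    intro j hj i
    have := hloc j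
    rw [← map_mem_iff (ψ j), hx j hj i]
    exact (Sum.elim f g i).2
  refine ⟨j₀, fun j hj => Ideal.span (Set.range fun s : Fin c => φ j₀ j hj (x₀ (Sum.inl s))),
    fun j hj => Ideal.span (Set.range fun s : Fin c => φ j₀ j hj (x₀ (Sum.inl s))) ⊔
      Ideal.span (Set.range fun t : Fin d => φ j₀ j hj (x₀ (Sum.inr t))), ?_, ?_, ?_⟩
  · intro j hj
    refine ⟨fun s => ⟨_, hmem j hj (Sum.inl s)⟩, fun t => ⟨_, hmem j hj (Sum.inr t)⟩, ?_, rfl, rfl⟩
    have := hloc j
    refine linInd_of_map (ψ j) _ (Sum.elim f g) ?_ hind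
    intro i
    rcases i with s | t
    · exact hx j hj (Sum.inl s)
    · exact hx j hj (Sum.inr t)
  · intro i j hi hij
    have key : ∀ z : Fin c ⊕ Fin d, φ i j hij (φ j₀ i hi (x₀ z)) = φ j₀ j (le_trans hi hij) (x₀ z) := by
      intro z
      rw [← RingHom.comp_apply, hφ]
    constructor
    · rw [Ideal.map_span, ← Set.range_comp]
      congr 2
      funext s
      exact key _
    · rw [Ideal.map_sup, Ideal.map_span, Ideal.map_span, ← Set.range_comp, ← Set.range_comp]
      congr 3
      · funext s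
        exact key _
      · funext t
        exact key _
  · intro j hj
    constructor
    · rw [Ideal.map_span, ← Set.range_comp]
      congr 2
      funext s
      exact hx j hj (Sum.inl s)
    · rw [Ideal.map_sup, Ideal.map_span, Ideal.map_span, ← Set.range_comp, ← Set.range_comp]
      congr 3
      · funext s
        exact hx j hj (Sum.inl s)
      · funext t
        exact hx j hj (Sum.inr t)

end Groth.Agent.S18136
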