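import Groth.Statements.S18153
import Mathlib.LinearAlgebra.Multilinear.Basis
import Mathlib.RingTheory.MvPolynomial.Basic
import Mathlib.LinearAlgebra.Matrix.Determinant.Basic
-- import your own Groth.Agent.* helpers here

set_option autoImplicit false
universe u w
open FrobAlg

namespace Groth.Agent.S18153

open MvPolynomial

section
variable {R : Type u} [CommRing R] {m : ℕ} {σ : Type w}

theorem det_eq_zero_of_sum_rows (hm : 0 < m) (N : Matrix (Fin m) (Fin m) R)
    (h : ∀ j, ∑ i, N i j = 0) : N.det = 0 := by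
  have h1 := Matrix.det_updateRow_sum N ⟨0, hm⟩ (fun _ => 1)
  simp only [one_smul] at h1
  rw [← h1]
  refine Matrix.det_eq_zero_of_row_eq_zero ⟨0, hm⟩ fun j => ?_
  rw [Matrix.updateRow_self, Finset.sum_apply]
  exact h j

noncomputable def L : MvPolynomial (Fin m ⊕ σ) R →ₗ[R] (Fin m → MvPolynomial (Fin m ⊕ σ) R) :=
  LinearMap.pi fun j => (pderiv (R := R) (Sum.inl j : Fin m ⊕ σ)).toLinearMap

noncomputable def Φ (T : (Fin m ⊕ σ) →₀ ℕ) :
    MultilinearMap R (fun _ : Fin m => MvPolynomial (Fin m ⊕ σ) R) R :=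
  (lcoeff R T).compMultilinearMap
    (((Matrix.detRowAlternating (R := MvPolynomial (Fin m ⊕ σ) R)
      (n := Fin m)).toMultilinearMap.restrictScalars R).compLinearMap (fun _ => L))

theorem Φ_apply (T : (Fin m ⊕ σ) →₀ ℕ) (f : Fin m → MvPolynomial (Fin m ⊕ σ) R) :
    Φ T f = coeff T (Matrix.of fun i j : Fin m => pderiv (Sum.inl j) (f i)).det := rfl

theorem term_aux (T : (Fin m ⊕ σ) →₀ ℕ) (a : Fin m → (Fin m ⊕ σ) →₀ ℕ) (π : Equiv.Perm (Fin m)) :
    (∑ i, a i = T + ∑ i : Fin m, Finsupp.single (Sum.inl i) 1 →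
      coeff T (∏ i, (Matrix.of fun i j : Fin m =>
        pderiv (Sum.inl j) (monomial (a i) (1 : R))) (π i) i) =
        ∏ i, ((a (π i) (Sum.inl i) : ℕ) : R)) ∧
    (∑ i, a i ≠ T + ∑ i : Fin m, Finsupp.single (Sum.inl i) 1 →
      coeff T (∏ i, (Matrix.of fun i j : Fin m =>
        pderiv (Sum.inl j) (monomial (a i) (1 : R))) (π i) i) = 0) := by
  classical
  have h1 : ∀ i, (Matrix.of fun i j : Fin m =>
        pderiv (Sum.inl j) (monomial (a i) (1 : R))) (π i) i =
      monomial (a (π i) - Finsupp.single (Sum.inl i) 1) ((a (π i) (Sum.inl i) : ℕ) : R) := by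
    intro i
    rw [Matrix.of_apply, pderiv_monomial, one_mul]
  rw [Finset.prod_congr rfl (fun i _ => h1 i), ← monomial_sum_prod, coeff_monomial]
  by_cases hc : ∏ i, ((a (π i) (Sum.inl i) : ℕ) : R) = 0
  · rw [hc]
    simp
  · have h2 : ∀ i, a (π i) (Sum.inl i) ≠ 0 := by
      intro i h0
      apply hc
      refine Finset.prod_eq_zero (Finset.mem_univ i) ?_
      rw [h0, Nat.cast_zero]
    have h3 : ∀ i, a (π i) - Finsupp.single (Sum.inl i) 1 + Finsupp.single (Sum.inl i) 1 =
        a (π i) := by
      intro i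
      refine tsub_add_cancel_of_le ?_
      rw [Finsupp.single_le_iff]
      exact Nat.one_le_iff_ne_zero.mpr (h2 i)
    have h4 : ∑ i, (a (π i) - Finsupp.single (Sum.inl i) 1) +
        ∑ i : Fin m, Finsupp.single (Sum.inl i) 1 = ∑ i, a i := by
      rw [← Finset.sum_add_distrib, Finset.sum_congr rfl (fun i _ => h3 i)]
      exact Equiv.sum_comp π a
    have h5 : (∑ i, (a (π i) - Finsupp.single (Sum.inl i) 1) = T) ↔
        (∑ i, a i = T + ∑ i : Fin m, Finsupp.single (Sum.inl i) 1) := by
      rw [← h4]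
      exact (add_left_inj _).symm
    constructor
    · intro hP
      rw [if_pos (h5.mpr hP)]
    · intro hP
      rw [if_neg (fun h => hP (h5.mp h))]

theorem smul_sign_coeff (T : (Fin m ⊕ σ) →₀ ℕ) (ε : ℤˣ) (q : MvPolynomial (Fin m ⊕ σ) R) :
    coeff T (ε • q) = ε • coeff T q := by
  rcases Int.units_eq_one_or ε with h | h
  · rw [h]
    simp
  · rw [h]
    simp only [Units.neg_smul, one_smul]
    exact map_neg (lcoeff R T) q

theorem Φ_monomial (p : ℕ) [Fact p.Prime] [CharP R p] (hm : 0 < m)
    (a : Fin m → (Fin m ⊕ σ) →₀ ℕ) :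
    coeff (Finsupp.sumElim (Finsupp.equivFunOnFinite.symm fun _ : Fin m => p - 1) (0 : σ →₀ ℕ))
      (Matrix.of fun i j : Fin m => pderiv (Sum.inl j) (monomial (a i) (1 : R))).det = 0 := by
  classical
  set T : (Fin m ⊕ σ) →₀ ℕ :=
    Finsupp.sumElim (Finsupp.equivFunOnFinite.symm fun _ : Fin m => p - 1) (0 : σ →₀ ℕ) with hT
  rw [Matrix.det_apply, coeff_sum]
  by_cases hP : ∑ i, a i = T + ∑ i : Fin m, Finsupp.single (Sum.inl i) 1
  · have hterm : ∀ π : Equiv.Perm (Fin m),
        coeff T (Equiv.Perm.sign π • ∏ i, (Matrix.of fun i j : Fin m =>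
          pderiv (Sum.inl j) (monomial (a i) (1 : R))) (π i) i) =
        Equiv.Perm.sign π • ∏ i, ((a (π i) (Sum.inl i) : ℕ) : R) := by
      intro π
      rw [smul_sign_coeff, (term_aux T a π).1 hP]
    rw [Finset.sum_congr rfl (fun π _ => hterm π)]
    have hdet : ∑ π : Equiv.Perm (Fin m), Equiv.Perm.sign π • ∏ i, ((a (π i) (Sum.inl i) : ℕ) : R) =
        (Matrix.of fun i j : Fin m => ((a i (Sum.inl j) : ℕ) : R)).det := by
      rw [Matrix.det_apply]
      rfl
    rw [hdet]
    apply det_eq_zero_of_sum_rows hm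
    intro j
    simp only [Matrix.of_apply]
    rw [← Nat.cast_sum]
    have hp : ∑ i, a i (Sum.inl j) = p := by
      have h1 := congrArg (fun s => s (Sum.inl j)) hP
      simp only [Finsupp.coe_finsetSum, Finset.sum_apply, Finsupp.add_apply] at h1
      rw [h1, hT]
      have hp1 : 1 ≤ p := (Fact.out : p.Prime).one_lt.le
      simp [Finsupp.single_apply, Finsupp.sumElim_apply]
      omega
    rw [hp, CharP.cast_eq_zero]
  · refine Finset.sum_eq_zero fun π _ => ?_
    rw [smul_sign_coeff, (term_aux T a π).2 hP, smul_zero]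

end

/-- Let R be a commutative ring of prime characteristic p and f_1, …, f_m (m ≥ 1) polynomials over R in
the variables t_1, …, t_m and a further, possibly empty, family of variables s_a. Then in the m × m
Jacobian determinant det(∂f_i/∂t_j) with respect to the t-variables, the coefficient of the monomial
t_1^{p-1} ⋯ t_m^{p-1} (all s-exponents zero) vanishes. (In the source this is the claim, for formal
power series in n ≥ m variables over the base field, to which the proof of the proposition reduces;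
the coefficient in question only involves truncations of the f_i, so the polynomial form over any
ring of characteristic p is the same assertion.) -/
theorem result
    (p : ℕ) [Fact p.Prime] (R : Type u) [CommRing R] [CharP R p]
    {m : ℕ} (hm : 0 < m) (σ : Type w) (f : Fin m → MvPolynomial (Fin m ⊕ σ) R) :
    MvPolynomial.coeff
        (Finsupp.sumElim (Finsupp.equivFunOnFinite.symm fun _ : Fin m => p - 1) (0 : σ →₀ ℕ))
        (Matrix.of fun i j : Fin m => MvPolynomial.pderiv (Sum.inl j) (f i)).det = 0 := by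
  have h : Φ (R := R) (Finsupp.sumElim (Finsupp.equivFunOnFinite.symm fun _ : Fin m => p - 1)
      (0 : σ →₀ ℕ)) = 0 := by
    refine Module.Basis.ext_multilinear (fun _ => basisMonomials (Fin m ⊕ σ) R) fun v => ?_
    simp only [coe_basisMonomials]
    rw [Φ_apply, zero_apply]
    exact Φ_monomial p hm v
  have h2 := congrArg (fun Ψ => Ψ f) h
  simpa [Φ_apply] using h2

end Groth.Agent.S18153
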