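import Groth.Statements.S18155
import Groth.Agent.Lib.Helper71.W2

set_option autoImplicit false
universe u v
open FrobAlg

namespace Groth.Agent.S18155

def Twist (X : Type*) : Type _ := X

instance (X : Type*) [CommRing X] : CommRing (Twist X) := inferInstanceAs (CommRing X)

section main
variable (p : ℕ) [Fact p.Prime] (k : Type u) [Field k] [IsAlgClosed k] [CharP k p]
variable (A C : Type v) [CommRing A] [CommRing C] [Algebra k A] [Algebra k C]
  [Algebra A C] [IsScalarTower k A C]

open MvPolynomial in
theorem main {ι σ : Type} [Finite σ] [Finite ι] (P : Algebra.SubmersivePresentation A C ι σ)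
    (B : Type v) [CommRing B] (i : W2 p k →+* B) (π : B →+* A) (Φ : B →+* B)
    (h : IsFrobLift p k A B i π Φ) : IsFLiftable p k C := by
  classical
  cases nonempty_fintype σ
  have hL : IsLift p k A B i π := h.toIsLift
  have hπ : Function.Surjective π := h.surj
  have hmapπ : Function.Surjective (MvPolynomial.map (σ := ι) π) := MvPolynomial.map_surjective π hπ
  choose v hv using fun j => hmapπ (P.relation j)
  let I : Ideal (MvPolynomial ι B) := Ideal.span (Set.range v)
  let ψ : MvPolynomial ι B →+* C := (algebraMap P.Ring C).comp (MvPolynomial.map π)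
  have hψv : ∀ j, ψ (v j) = 0 := by
    intro j
    change algebraMap P.Ring C (MvPolynomial.map π (v j)) = 0
    rw [hv j]
    exact P.relation_mem_ker j
  have hψI : ∀ x ∈ I, ψ x = 0 := by
    intro x hx
    have hle : I ≤ RingHom.ker ψ := by
      refine Ideal.span_le.mpr ?_
      rintro _ ⟨j, rfl⟩
      exact hψv j
    exact hle hx
  let πC : (MvPolynomial ι B ⧸ I) →+* C := Ideal.Quotient.lift I ψ hψI
  have hπC_mk : ∀ f, πC (Ideal.Quotient.mk I f) = ψ f := fun f => Ideal.Quotient.lift_mk I ψ hψI
  have hψsurj : Function.Surjective ψ := P.algebraMap_surjective.comp hmapπ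
  have hπCsurj : Function.Surjective πC := by
    intro c
    obtain ⟨f, rfl⟩ := hψsurj c
    exact ⟨Ideal.Quotient.mk I f, hπC_mk f⟩
  have hpB : (p : B) * (p : B) = 0 := Groth.Agent.Lib.Helper71.W2.IsLift.p_mul_p p k hL
  have hpC : (p : C) = 0 := by
    have := CharP.cast_eq_zero k p
    have h2 := congrArg (algebraMap k C) this
    rwa [map_natCast, map_zero] at h2
  have hπCp : πC (p : MvPolynomial ι B ⧸ I) = 0 := by rw [map_natCast, hpC]
  have hkerC : ∀ x : MvPolynomial ι B ⧸ I, πC x = 0 →
      ∃ y, x = (p : MvPolynomial ι B ⧸ I) * y := by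
    intro x hx
    obtain ⟨f, rfl⟩ := Ideal.Quotient.mk_surjective x
    rw [hπC_mk] at hx
    have h1 : MvPolynomial.map π f ∈ P.ker := hx
    rw [← P.span_range_relation_eq_ker] at h1
    have h2 : Ideal.span (Set.range P.relation) = Ideal.map (MvPolynomial.map (σ := ι) π) I := by
      rw [Ideal.map_span, ← Set.range_comp]
      congr 2
      ext j : 1
      exact (hv j).symm
    rw [h2, Ideal.mem_map_iff_of_surjective _ hmapπ] at h1
    obtain ⟨g, hgI, hg⟩ := h1
    have h3 : f - g ∈ RingHom.ker (MvPolynomial.map (σ := ι) π) := by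
      rw [RingHom.mem_ker, map_sub, hg, sub_self]
    rw [MvPolynomial.ker_map, Groth.Agent.Lib.Helper71.W2.IsLift.ker_eq_span p k hL,
      Ideal.map_span, Set.image_singleton, map_natCast, Ideal.mem_span_singleton'] at h3
    obtain ⟨hh, hhh⟩ := h3
    refine ⟨Ideal.Quotient.mk I hh, ?_⟩
    rw [← map_natCast (Ideal.Quotient.mk I), ← map_mul, mul_comm, hhh, map_sub,
      Ideal.Quotient.eq_zero_iff_mem.mpr hgI, sub_zero]
  let Q : Algebra.PreSubmersivePresentation B (MvPolynomial ι B ⧸ I) ι σ :=
    Algebra.PreSubmersivePresentation.naive (v := v) P.map P.map_inj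
  have hjac : πC Q.jacobian = P.jacobian := by
    rw [Q.jacobian_eq_jacobiMatrix_det, P.jacobian_eq_jacobiMatrix_det]
    have hmk : ∀ x : MvPolynomial ι B, algebraMap Q.Ring (MvPolynomial ι B ⧸ I) x =
        Ideal.Quotient.mk I x := fun x => rfl
    rw [hmk, hπC_mk, RingHom.map_det, RingHom.map_det]
    congr 1
    ext a b
    simp only [RingHom.mapMatrix_apply, Matrix.map_apply]
    rw [P.jacobiMatrix_apply]
    have : Q.jacobiMatrix a b = MvPolynomial.pderiv (P.map a) (v b) :=
      Algebra.PreSubmersivePresentation.jacobiMatrix_naive _ _ _ _ a b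
    rw [this]
    change algebraMap P.Ring C (MvPolynomial.map π (MvPolynomial.pderiv (P.map a) (v b))) = _
    rw [← MvPolynomial.pderiv_map, hv b]
  have hpBC : (p : MvPolynomial ι B ⧸ I) * (p : MvPolynomial ι B ⧸ I) = 0 := by
    have := congrArg (algebraMap B (MvPolynomial ι B ⧸ I)) hpB
    rwa [map_mul, map_natCast, map_zero] at this
  have hunit_of : ∀ x : MvPolynomial ι B ⧸ I, IsUnit (πC x) → IsUnit x := by
    intro x hx
    obtain ⟨c, hc⟩ := hx.exists_right_inv
    obtain ⟨y, rfl⟩ := hπCsurj c
    have h0 : πC (1 - x * y) = 0 := by rw [map_sub, map_one, map_mul, hc, sub_self]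
    obtain ⟨z, hz⟩ := hkerC _ h0
    have hnil : IsNilpotent (1 - x * y) := by
      refine ⟨2, ?_⟩
      rw [hz, pow_two, mul_mul_mul_comm, hpBC, zero_mul]
    have hu : IsUnit (x * y) := by
      have := hnil.isUnit_one_sub
      rwa [sub_sub_cancel] at this
    exact isUnit_of_mul_isUnit_left hu
  have hQunit : IsUnit Q.jacobian := hunit_of _ (hjac ▸ P.jacobian_isUnit)
  let Q' : Algebra.SubmersivePresentation B (MvPolynomial ι B ⧸ I) ι σ := ⟨Q, hQunit⟩
  have : Algebra.IsStandardSmooth B (MvPolynomial ι B ⧸ I) := Q'.isStandardSmooth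
  have : Algebra.Smooth B (MvPolynomial ι B ⧸ I) := inferInstance
  have : Algebra.FormallySmooth B (MvPolynomial ι B ⧸ I) := inferInstance
  have hflatBC : Module.Flat B (MvPolynomial ι B ⧸ I) := Algebra.Smooth.flat B _
  have hπCalg : ∀ b : B, πC (algebraMap B (MvPolynomial ι B ⧸ I) b) = algebraMap A C (π b) := by
    intro b
    have h1 : algebraMap B (MvPolynomial ι B ⧸ I) b = Ideal.Quotient.mk I (MvPolynomial.C b) := rfl
    rw [h1, hπC_mk]
    change algebraMap P.Ring C (MvPolynomial.map π (MvPolynomial.C b)) = _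
    rw [MvPolynomial.map_C, P.algebraMap_apply, MvPolynomial.aeval_C]
  obtain ⟨frobC, hfrobC⟩ : ∃ F : C →+* C, ∀ c, F c = c ^ p := by
    rcases subsingleton_or_nontrivial C with hs | hn
    · exact ⟨RingHom.id C, fun c => Subsingleton.elim _ _⟩
    · have : CharP C p := charP_of_injective_algebraMap (algebraMap k C).injective p
      exact ⟨frobenius C p, fun c => rfl⟩
  let algT : Algebra B (Twist (MvPolynomial ι B ⧸ I)) :=
    RingHom.toAlgebra (((algebraMap B (MvPolynomial ι B ⧸ I)).comp Φ :
      B →+* (MvPolynomial ι B ⧸ I)) : B →+* Twist (MvPolynomial ι B ⧸ I))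
  let algTC : Algebra B (Twist C) :=
    RingHom.toAlgebra (((algebraMap A C).comp (π.comp Φ) : B →+* C) : B →+* Twist C)
  let f : (MvPolynomial ι B ⧸ I) →ₐ[B] Twist C :=
    { toRingHom := ((frobC.comp πC : (MvPolynomial ι B ⧸ I) →+* C) :
        (MvPolynomial ι B ⧸ I) →+* Twist C)
      commutes' := by
        intro b
        change frobC (πC (algebraMap B (MvPolynomial ι B ⧸ I) b)) = algebraMap A C (π (Φ b))
        rw [hπCalg, hfrobC, ← map_pow, h.red] }
  let g : Twist (MvPolynomial ι B ⧸ I) →ₐ[B] Twist C :=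
    { toRingHom := (πC : (MvPolynomial ι B ⧸ I) →+* C)
      commutes' := fun b => hπCalg (Φ b) }
  have hg : Function.Surjective g := hπCsurj
  have hg' : IsNilpotent (RingHom.ker (g : Twist (MvPolynomial ι B ⧸ I) →+* Twist C)) := by
    refine ⟨2, ?_⟩
    rw [pow_two, Ideal.zero_eq_bot, eq_bot_iff]
    have key : ∀ x y : MvPolynomial ι B ⧸ I, πC x = 0 → πC y = 0 → x * y = 0 := by
      intro x y hx hy
      obtain ⟨x', rfl⟩ := hkerC x hx
      obtain ⟨y', rfl⟩ := hkerC y hy
      rw [mul_mul_mul_comm, hpBC, zero_mul]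
    refine Ideal.mul_le.mpr (fun x hx y hy => ?_)
    rw [Ideal.mem_bot]
    exact key x y hx hy
  let lift : (MvPolynomial ι B ⧸ I) →ₐ[B] Twist (MvPolynomial ι B ⧸ I) :=
    Algebra.FormallySmooth.liftOfSurjective f g hg hg'
  have hlift : ∀ x, πC (lift x) = (πC x) ^ p := by
    intro x
    have := Algebra.FormallySmooth.liftOfSurjective_apply f g hg hg' x
    rw [← hfrobC]
    exact this
  have hliftalg : ∀ b : B, lift (algebraMap B (MvPolynomial ι B ⧸ I) b) =
      algebraMap B (MvPolynomial ι B ⧸ I) (Φ b) := fun b => lift.commutes b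
  let ΦC : (MvPolynomial ι B ⧸ I) →+* (MvPolynomial ι B ⧸ I) := lift.toRingHom
  refine ⟨MvPolynomial ι B ⧸ I, inferInstance, (algebraMap B (MvPolynomial ι B ⧸ I)).comp i, πC, ΦC,
    { flat := RingHom.Flat.comp hL.flat (RingHom.flat_algebraMap_iff.mpr hflatBC)
      surj := hπCsurj
      ker_eq := ?_
      comm := ?_
      semi := ?_
      red := hlift }⟩
  · rw [Groth.Agent.Lib.Helper71.W2.map_ker_res]
    ext x
    rw [RingHom.mem_ker, Ideal.mem_span_singleton']
    constructor
    · intro hx
      obtain ⟨y, rfl⟩ := hkerC x hx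
      exact ⟨y, mul_comm _ _⟩
    · rintro ⟨a, rfl⟩
      rw [map_mul, hπCp, mul_zero]
  · ext w
    have := congrArg (fun φ => φ w) hL.comm
    simp only [RingHom.comp_apply] at this ⊢
    rw [hπCalg, this, ← IsScalarTower.algebraMap_apply]
  · ext w
    have := congrArg (fun φ => φ w) h.semi
    simp only [RingHom.comp_apply] at this ⊢
    change lift (algebraMap B (MvPolynomial ι B ⧸ I) (i w)) = _
    rw [hliftalg, this]

end main

/-- Let k be an algebraically closed field of characteristic p, A a commutative k-algebra and C an étale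
A-algebra. If A admits a flat lifting over W_2(k) together with a lift of Frobenius, then so does C.
(The source states this for an étale cover Y → X of smooth varieties over k; its argument uses only
that Y is étale over X, and the affine case is stated here with no smoothness or finiteness
hypothesis on A over k.) -/
theorem result
    (p : ℕ) [Fact p.Prime] (k : Type u) [Field k] [IsAlgClosed k] [CharP k p]
    (A C : Type v) [CommRing A] [CommRing C] [Algebra k A] [Algebra k C]
    [Algebra A C] [IsScalarTower k A C] [Algebra.Etale A C]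
    (hA : FrobAlg.IsFLiftable p k A) : FrobAlg.IsFLiftable p k C := by
  obtain ⟨B, _, i, π, Φ, h⟩ := hA
  have hstd : Algebra.IsStandardSmoothOfRelativeDimension 0 A C :=
    Algebra.Etale.iff_isStandardSmoothOfRelativeDimension_zero.mp inferInstance
  have hstd' : Algebra.IsStandardSmooth A C := hstd.isStandardSmooth
  obtain ⟨ι, σ, _, _, ⟨P⟩⟩ := hstd'.out
  exact main p k A C P B i π Φ h

end Groth.Agent.S18155
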