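import Groth.Statements.S18156
-- import your own Groth.Agent.* helpers here

set_option autoImplicit false
universe u v
open CAlg

namespace Groth.Agent.S18156

open AdicCompletion in
section
variable {k : Type u} [CommRing k] {A : Type v} [CommRing A] [Algebra k A] (I : Ideal A)
  (D : Derivation k A A)

theorem D_mem_pow (n : ℕ) {x : A} (hx : x ∈ I ^ (n + 1)) : D x ∈ I ^ n := by
  induction n generalizing x with
  | zero => simp
  | succ n ih =>
    rw [pow_succ] at hx
    refine Submodule.mul_induction_on hx ?_ ?_
    · intro a ha b hb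
      rw [D.leibniz]
      refine Ideal.add_mem _ ?_ ?_
      · exact Ideal.mul_mem_right _ _ ha
      · rw [smul_eq_mul, mul_comm, pow_succ]
        exact Ideal.mul_mem_mul (ih ha) hb
    · intro a b ha hb
      rw [map_add]
      exact Ideal.add_mem _ ha hb

theorem smul_top_eq (n : ℕ) : (I ^ n • ⊤ : Submodule A A) = I ^ n := by
  rw [smul_eq_mul, Ideal.mul_top]

def Dseq (s : AdicCauchySequence I A) : AdicCauchySequence I A :=
  ⟨fun n => D (s (n + 1)), by
    intro m n hmn
    rw [SModEq.sub_mem, ← map_sub, smul_top_eq]
    apply D_mem_pow I D m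
    have := s.property (Nat.succ_le_succ hmn)
    rw [SModEq.sub_mem, smul_top_eq] at this
    exact this⟩

theorem Dseq_apply (s : AdicCauchySequence I A) (n : ℕ) : Dseq I D s n = D (s (n + 1)) := rfl

theorem mk_eq_iff (s t : AdicCauchySequence I A) :
    AdicCompletion.mk I A s = AdicCompletion.mk I A t ↔ ∀ n, s n - t n ∈ I ^ n := by
  constructor
  · intro h n
    have := congrArg (fun x => x.val n) h
    simp only [AdicCompletion.mk_apply_coe, Submodule.mkQ_apply] at this
    rw [Submodule.Quotient.eq, smul_top_eq] at this
    exact this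
  · intro h
    ext n
    simp only [AdicCompletion.mk_apply_coe, Submodule.mkQ_apply]
    rw [Submodule.Quotient.eq, smul_top_eq]
    exact h n

noncomputable def DhatFun (x : AdicCompletion I A) : AdicCompletion I A :=
  AdicCompletion.mk I A (Dseq I D (Classical.choose (AdicCompletion.mk_surjective I A x)))

theorem DhatFun_mk (s : AdicCauchySequence I A) :
    DhatFun I D (AdicCompletion.mk I A s) = AdicCompletion.mk I A (Dseq I D s) := by
  unfold DhatFun
  rw [mk_eq_iff]
  intro n
  have h := Classical.choose_spec (AdicCompletion.mk_surjective I A (AdicCompletion.mk I A s))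
  rw [mk_eq_iff] at h
  rw [Dseq_apply, Dseq_apply, ← map_sub]
  exact D_mem_pow I D n (h (n + 1))

theorem DhatFun_add (x y : AdicCompletion I A) :
    DhatFun I D (x + y) = DhatFun I D x + DhatFun I D y := by
  obtain ⟨s, rfl⟩ := AdicCompletion.mk_surjective I A x
  obtain ⟨t, rfl⟩ := AdicCompletion.mk_surjective I A y
  rw [← map_add, DhatFun_mk, DhatFun_mk, DhatFun_mk, ← map_add]
  congr 1
  ext n
  simp [Dseq_apply]

theorem DhatFun_mul (x y : AdicCompletion I A) :
    DhatFun I D (x * y) = x * DhatFun I D y + y * DhatFun I D x := by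
  obtain ⟨s, rfl⟩ := AdicCompletion.mk_surjective I A x
  obtain ⟨t, rfl⟩ := AdicCompletion.mk_surjective I A y
  have hmul : ∀ a b : AdicCauchySequence I A,
      AdicCompletion.mk I A a * AdicCompletion.mk I A b = AdicCompletion.mk I A (a * b) :=
    fun _ _ => rfl
  rw [hmul, DhatFun_mk, DhatFun_mk, DhatFun_mk, hmul, hmul, ← map_add, mk_eq_iff]
  intro n
  have hs : s (n + 1) - s n ∈ I ^ n := by
    have := s.property (Nat.le_succ n)
    rw [SModEq.sub_mem, smul_top_eq] at this
    have h2 := (I ^ n).neg_mem this
    rwa [neg_sub] at h2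
  have ht : t (n + 1) - t n ∈ I ^ n := by
    have := t.property (Nat.le_succ n)
    rw [SModEq.sub_mem, smul_top_eq] at this
    have h2 := (I ^ n).neg_mem this
    rwa [neg_sub] at h2
  have key : Dseq I D (s * t) n - (s * Dseq I D t + t * Dseq I D s) n =
      (s (n + 1) - s n) * D (t (n + 1)) + (t (n + 1) - t n) * D (s (n + 1)) := by
    simp only [Dseq_apply, AdicCauchySequence.add_apply, AdicCompletion.mul_apply,
      D.leibniz, smul_eq_mul]
    ring
  rw [key]
  exact Ideal.add_mem _ (Ideal.mul_mem_right _ _ hs) (Ideal.mul_mem_right _ _ ht)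

theorem DhatFun_of (a : A) :
    DhatFun I D (AdicCompletion.of I A a) = AdicCompletion.of I A (D a) := by
  have h1 : ∀ b : A, AdicCompletion.of I A b =
      AdicCompletion.mk I A ⟨fun _ => b, fun _ => rfl⟩ := fun b => rfl
  rw [h1, h1, DhatFun_mk]
  rfl

theorem DhatFun_smul (c : k) (x : AdicCompletion I A) :
    DhatFun I D (c • x) = c • DhatFun I D x := by
  rw [Algebra.smul_def, Algebra.smul_def, DhatFun_mul, AdicCompletion.algebraMap_apply,
    DhatFun_of, D.map_algebraMap, map_zero, mul_zero, add_zero]

noncomputable def Dhat : Derivation k (AdicCompletion I A) (AdicCompletion I A) :=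
  Derivation.mk'
    { toFun := DhatFun I D
      map_add' := DhatFun_add I D
      map_smul' := DhatFun_smul I D }
    (fun a b => by
      change DhatFun I D (a * b) = a • DhatFun I D b + b • DhatFun I D a
      rw [DhatFun_mul, smul_eq_mul, smul_eq_mul])

end

/-- Let k be a field and A a regular local ring that is a k-algebra, with maximal ideal m and m-adic
completion Â. Then every k-derivation D of A into itself extends to a k-derivation D̂ of Â into
itself along the canonical map ρ : A → Â, in the sense that D̂(ρ(a)) = ρ(D(a)) for every a ∈ A. (The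
source works throughout over an algebraically closed field of characteristic p; neither assumption
enters this statement.) -/
theorem result
    (k : Type u) [Field k] (A : Type v) [CommRing A] [Algebra k A] [IsRegularLocalRing A]
    (D : Derivation k A A) :
    ∃ Dhat : Derivation k (AdicCompletion (IsLocalRing.maximalIdeal A) A)
        (AdicCompletion (IsLocalRing.maximalIdeal A) A),
      ∀ a : A, Dhat (algebraMap A (AdicCompletion (IsLocalRing.maximalIdeal A) A) a) =
        algebraMap A (AdicCompletion (IsLocalRing.maximalIdeal A) A) (D a) := by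
  refine ⟨Dhat (IsLocalRing.maximalIdeal A) D, fun a => ?_⟩
  exact DhatFun_of (IsLocalRing.maximalIdeal A) D a

end Groth.Agent.S18156
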