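import Groth.Statements.S18158
import Groth.Agent.Lib.Helper57.EtLift
import Groth.Agent.Lib.Helper71.W2

set_option autoImplicit false
universe u
open CategoryTheory CategoryTheory.Limits AlgebraicGeometry
open Lift

namespace Groth.Agent.S18158

open Groth.Agent.Lib.Helper57 in
theorem isThickening_res (p : ℕ) [Fact p.Prime] (k : Type u) [Field k] [IsAlgClosed k] [CharP k p] :
    MoreMor.IsThickening (Spec.map (CommRingCat.ofHom (FrobAlg.res p k))) := by
  have : PerfectRing k p := inferInstance
  apply EtLift.isThickening_spec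
  · intro a
    refine ⟨WittVector.truncate 2 (WittVector.teichmuller p a), ?_⟩
    change FrobAlg.res p k (WittVector.truncate 2 (WittVector.teichmuller p a)) = a
    rw [FrobAlg.res_truncate, WittVector.teichmuller_coeff_zero]
  · intro x hx
    change x ∈ RingHom.ker (FrobAlg.res p k) at hx
    rw [Groth.Agent.Lib.Helper71.W2.ker_res, Ideal.mem_span_singleton'] at hx
    obtain ⟨y, rfl⟩ := hx
    rw [mem_nilradical]
    refine ⟨2, ?_⟩
    rw [pow_two, mul_mul_mul_comm, Groth.Agent.Lib.Helper71.W2.p_mul_p, mul_zero]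

/-- Let k be an algebraically closed field of characteristic p and q : Y → X an étale morphism to a
smooth k-scheme X. Suppose X has a W_2-lifting of its Frobenius: a scheme X~ flat over Spec W_2(k),
a morphism i : X → X~ making X the base change of X~ along Spec k → Spec W_2(k) (the residue map),
and an endomorphism F~ of X~ with i ∘ F_X = F~ ∘ i, F_X the absolute Frobenius. Then Y has one as
well: there are a scheme Y~ flat over Spec W_2(k), a morphism j : Y → Y~ making Y the base change of
Y~ along the same map, and an endomorphism G~ of Y~ with j ∘ F_Y = G~ ∘ j. (The source speaks of an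
étale cover Y → X of smooth varieties; its argument uses only that Y is étale over X and that X
lifts, so X is taken smooth over k and Y étale over X, with no integrality, separatedness or
quasi-compactness assumed.) -/
theorem result
    (p : ℕ) [Fact p.Prime] (k : Type u) [Field k] [IsAlgClosed k] [CharP k p]
    (X Y : Scheme.{u}) (f : X ⟶ Spec (CommRingCat.of k)) [Smooth f]
    (q : Y ⟶ X) [AlgebraicGeometry.Etale q]
    [FrobSch.IsCharP X p] [FrobSch.IsCharP Y p]
    (Xl : Scheme.{u}) (g : Xl ⟶ Spec (CommRingCat.of (FrobAlg.W2 p k))) [Flat g]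
    (i : X ⟶ Xl) (hsq : IsPullback i f g (Spec.map (CommRingCat.ofHom (FrobAlg.res p k))))
    (Fl : Xl ⟶ Xl) (hF : i ≫ Fl = FrobSch.frob X p ≫ i) :
    ∃ (Yl : Scheme.{u}) (gY : Yl ⟶ Spec (CommRingCat.of (FrobAlg.W2 p k))) (j : Y ⟶ Yl) (Gl : Yl ⟶ Yl),
      Flat gY ∧ IsPullback j (q ≫ f) gY (Spec.map (CommRingCat.ofHom (FrobAlg.res p k))) ∧
        j ≫ Gl = FrobSch.frob Y p ≫ j := by
  have hres := isThickening_res p k
  have hi : MoreMor.IsThickening i :=
    Groth.Agent.Lib.Helper57.FlatThick.thickening_baseChange hres hsq.flip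
  have hi1 : IsClosedImmersion i := hi.1
  have hi2 : Surjective i := hi.2
  obtain ⟨Yl, j, ql, hql, hj, hpb⟩ := Groth.Agent.Lib.Helper57.EtLift.exists_isPullback i q
  have h1 : Flat ql := inferInstance
  have h2 : FormallyUnramified ql := inferInstance
  have h3 : LocallyOfFiniteType ql := inferInstance
  have hcomm : j ≫ (ql ≫ Fl) = (FrobSch.frob Y p ≫ j) ≫ ql := by
    rw [← Category.assoc, hpb.w, Category.assoc, hF, ← Category.assoc, ← FrobSch.frob_comp,
      Category.assoc, Category.assoc, hpb.w]
  obtain ⟨Gl, ⟨hG1, -⟩, -⟩ := Groth.Agent.Lib.Helper57.FlatThick.existsUnique_lift ql j hj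
    (FrobSch.frob Y p ≫ j) (ql ≫ Fl) hcomm
  exact ⟨Yl, ql ≫ g, j, Gl, inferInstance, hpb.paste_vert hsq, hG1⟩

end Groth.Agent.S18158
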