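import Groth.Statements.S1818
import Groth.Agent.Lib.Helper39.GMD.Main
import Groth.Agent.Lib.Helper39.LD.Main
-- import your own Groth.Agent.* helpers here

set_option autoImplicit false
universe u
open CategoryTheory
attribute [local instance] HasDerivedCategory.standard
open Dual

namespace Groth.Agent.S1818

/-- Let A be a Noetherian local ring with maximal ideal m, ω a normalized dualizing complex and κ → E an
injective hull of the residue field. Let K be a complex of A-modules and G a complex representing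
RΓ_m(K); assume the derived functors RHom(K, −), RHom(G, −), RΓ_m and derived m-completion exist.
Then the derived m-completion of RHom_A(K, ω) is isomorphic in D(A) to RHom_A(G, E[0]) =
RHom_A(RΓ_m(K), E[0]). -/
theorem result (A : Type u) [CommRing A] [IsLocalRing A] [IsNoetherianRing A] (ω : Dual.D A) (hω : Dual.IsDualizing A ω) (hn : Dual.IsNormalized A ω) (E : Type u) [AddCommGroup E] [Module A E] (f : IsLocalRing.ResidueField A →ₗ[A] E) (hf : InjHull.IsInjectiveHull f) [DRing.HasRgammaI (IsLocalRing.maximalIdeal A)] [DRing.HasDerivedCompletion (IsLocalRing.maximalIdeal A)] (K : DRing.Cx A) [DRing.HasRHomCx K] (G : DRing.Cx A) [DRing.HasRHomCx G] (hG : Nonempty (DRing.toD G ≅ (DRing.RgammaI (IsLocalRing.maximalIdeal A)).obj (DRing.toD K))) : Nonempty (((DRing.derivedCompletion (IsLocalRing.maximalIdeal A)).obj ((DRing.RHomCx K).obj ω)).obj ≅ (DRing.RHomCx G).obj (Dual.inD A E)) := by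
  classical
  obtain ⟨eGK⟩ := hG
  obtain ⟨J, a, b, hJ, hb, ⟨eJ⟩⟩ :=
    Groth.Agent.Lib.Helper25.Bidual.exists_bounded_injective_model ω hω
  haveI : J.IsStrictlyGE a := by
    rw [CochainComplex.isStrictlyGE_iff]
    intro q hq
    exact hb q (Or.inl hq)
  haveI : J.IsKInjective := CochainComplex.isKInjective_of_injective J a
  let 𝔪 := IsLocalRing.maximalIdeal A
  obtain ⟨J₀, hJ₀, hinj, ⟨e₀⟩⟩ := Helper89.RGI.exists_kInj (DRing.toD K)
  haveI := hJ₀
  -- `RHom(K, ω) ≅ Hom•(J₀, J)`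
  let i1 : (DRing.RHomCx K).obj ω ≅ DerivedCategory.Q.obj (DRing.homCx K J) :=
    (DRing.RHomCx K).mapIso eJ.symm ≪≫ Groth.Agent.Lib.Helper25.RHomKInj.isoOfKInj K J
  obtain ⟨i2⟩ := Groth.Agent.Lib.Helper39.GMD.Main.homCx_iso_of_Q_iso J e₀.symm
  obtain ⟨i3⟩ := Groth.Agent.Lib.Helper39.GMD.Main.nonempty_completion_iso 𝔪 J₀ J hJ
  let i12 : ((DRing.derivedCompletion 𝔪).obj ((DRing.RHomCx K).obj ω)).obj ≅
      ((DRing.derivedCompletion 𝔪).obj (DerivedCategory.Q.obj (DRing.homCx J₀ J))).obj :=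
    (ObjectProperty.ι (DRing.IsDerivedComplete 𝔪)).mapIso
      ((DRing.derivedCompletion 𝔪).mapIso (i1 ≪≫ i2))
  -- the torsion complex `Γ = Γ_m J₀`
  let Γ : DRing.Cx A := Helper89.RGI.gammaCx 𝔪 (ComplexShape.up ℤ) J₀
  have hΓ : ∀ (p : ℤ) (x : Γ.X p), x ∈ DRing.torsionSub 𝔪 (Γ.X p) := by
    intro p x
    obtain ⟨k, hk⟩ := (show DRing.torsionSub 𝔪 (J₀.X p) from x).2
    exact ⟨k, fun r hr => Subtype.ext (hk r hr)⟩
  haveI := Groth.Agent.Lib.Helper39.GMD.Main.isIso_T_of_torsion 𝔪 Γ J hΓ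
  let GJ : DRing.Cx A := Groth.Agent.Lib.Helper25.LocColim.gam 𝔪 J
  let i4 : DerivedCategory.Q.obj (DRing.homCx Γ J) ≅ DerivedCategory.Q.obj (DRing.homCx Γ GJ) :=
    (DerivedCategory.Q.mapIso (asIso (Groth.Agent.Lib.Helper39.LD.T 𝔪 Γ J))).symm
  -- `Γ_m J ≃ E[0]`
  let EE : ModuleCat.{u} A := ModuleCat.of A E
  haveI : Injective EE := (Module.injective_iff_injective_object A E).1 hf.isInjective
  have hωJ : Dual.IsDualizing A (DerivedCategory.Q.obj J) :=
    Groth.Agent.Lib.Helper25.Bidual.isDualizing_of_iso eJ.symm hω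
  obtain ⟨⟨e0⟩, hvan⟩ := Groth.Agent.S1718.result A ω hω hn E f hf
  let eG : GJ.homology 0 ≅ EE :=
    ((Groth.Agent.Lib.Helper39.LD.hdiEquivHomology 𝔪 J ω eJ 0).symm.trans e0).toModuleIso
  have hGvan : ∀ j : ℤ, j ≠ 0 → Limits.IsZero (GJ.homology j) := fun j hj => by
    haveI := hvan j hj
    haveI : Subsingleton (GJ.homology j) :=
      (Groth.Agent.Lib.Helper39.LD.hdiEquivHomology 𝔪 J ω eJ j).symm.toEquiv.subsingleton
    exact ModuleCat.isZero_of_subsingleton _
  haveI : QuasiIso (Groth.Agent.Lib.Helper39.LD.toSgl GJ EE eG) :=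
    Groth.Agent.Lib.Helper39.LD.quasiIso_toSgl GJ EE eG hGvan
  -- K-injectivity of `Γ_m J` and of `E[0]`
  haveI : GJ.IsStrictlyGE a := by
    rw [CochainComplex.isStrictlyGE_iff]
    intro q hq
    exact Functor.map_isZero (DRing.gammaI 𝔪) (hb q (Or.inl hq))
  haveI : ∀ n, Injective (GJ.X n) := Helper89.RGI.injective_gammaCx_X 𝔪 J hJ
  haveI : GJ.IsKInjective := CochainComplex.isKInjective_of_injective GJ a
  let SgE : DRing.Cx A :=
    (HomologicalComplex.single (ModuleCat.{u} A) (ComplexShape.up ℤ) 0).obj EE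
  haveI : ∀ n, Injective (SgE.X n) := fun n => by
    by_cases h : n = 0
    · subst h
      exact Injective.of_iso
        (HomologicalComplex.singleObjXSelf (ComplexShape.up ℤ) (0 : ℤ) EE).symm inferInstance
    · exact (HomologicalComplex.isZero_single_obj_X _ _ _ _ h).injective
  haveI : SgE.IsStrictlyGE 0 := by
    rw [CochainComplex.isStrictlyGE_iff]
    intro q hq
    exact HomologicalComplex.isZero_single_obj_X _ _ _ _ (by omega)
  haveI : SgE.IsKInjective := CochainComplex.isKInjective_of_injective SgE 0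
  obtain ⟨i5⟩ := Groth.Agent.Lib.Helper39.GMD.Main.homCx_iso_of_quasiIso_right Γ
    (Groth.Agent.Lib.Helper39.LD.toSgl GJ EE eG)
  -- replace `Γ` by `G`
  let θ : DerivedCategory.Q.obj Γ ≅ DerivedCategory.Q.obj G :=
    asIso (Helper89.RGI.uJ 𝔪 J₀) ≪≫
      (DRing.RgammaI 𝔪).mapIso e₀ ≪≫ eGK.symm
  obtain ⟨i6⟩ := Groth.Agent.Lib.Helper39.GMD.Main.homCx_iso_of_Q_iso SgE θ
  let i7 : (DRing.RHomCx G).obj (Dual.inD A E) ≅ DerivedCategory.Q.obj (DRing.homCx G SgE) :=
    (DRing.RHomCx G).mapIso ((DerivedCategory.singleFunctorIsoCompQ (ModuleCat.{u} A) 0).app EE) ≪≫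
      Groth.Agent.Lib.Helper25.RHomKInj.isoOfKInj G SgE
  exact ⟨i12 ≪≫ i3 ≪≫ i4 ≪≫ i5 ≪≫ i6 ≪≫ i7.symm⟩

end Groth.Agent.S1818
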