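import Groth.Statements.S18188
import Mathlib.Tactic.LinearCombination
import Mathlib.Tactic.FieldSimp
import Mathlib.Tactic.Ring
import Mathlib.Algebra.Field.GeomSum
import Mathlib.Algebra.BigOperators.Field
-- import your own Groth.Agent.* helpers here

set_option autoImplicit false
universe u
open OrbRR

namespace Groth.Agent.S18188

section
variable {K : Type u} [Field K]

theorem range_sum_split (N : ℕ) (hN : 0 < N) (f : ℕ → K) :
    ∑ i ∈ Finset.range N, f i = f 0 + ∑ i ∈ Finset.Ioo 0 N, f i := by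
  have : Finset.range N = insert 0 (Finset.Ioo 0 N) := by
    ext i; simp; omega
  rw [this, Finset.sum_insert (by simp)]

theorem den_mul {z : K} (hz0 : z ≠ 0) : (2 - z - z⁻¹) * z = -(z - 1) ^ 2 := by
  field_simp
  ring

theorem den_ne_zero {z : K} (hz0 : z ≠ 0) (hz1 : z ≠ 1) : 2 - z - z⁻¹ ≠ 0 := by
  intro h
  have h2 : (2 - z - z⁻¹) * z = 0 := by rw [h, zero_mul]
  rw [den_mul hz0] at h2
  have h3 : (z - 1) ^ 2 = 0 := by simpa using h2
  exact hz1 (sub_eq_zero.mp (pow_eq_zero_iff two_ne_zero |>.mp h3))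

theorem second_diff_term {z : K} (hz0 : z ≠ 0) (hz1 : z ≠ 1) (j : ℕ) :
    z ^ (j + 2) / (2 - z - z⁻¹) - 2 * (z ^ (j + 1) / (2 - z - z⁻¹)) + z ^ j / (2 - z - z⁻¹)
      = - z ^ (j + 1) := by
  have hd := den_ne_zero hz0 hz1
  have key : z ^ (j + 2) - 2 * z ^ (j + 1) + z ^ j = (2 - z - z⁻¹) * (- z ^ (j + 1)) := by
    have : (2 - z - z⁻¹) * (- z ^ (j + 1)) = -((2 - z - z⁻¹) * z) * z ^ j := by ring
    rw [this, den_mul hz0]
    ring
  rw [mul_div_assoc', div_sub_div_same, ← add_div, key, mul_div_cancel_left₀ _ hd]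

def F (ζ : K) (N j : ℕ) : K := ∑ i ∈ Finset.Ioo 0 N, ζ ^ (i * j) / (2 - ζ ^ i - (ζ ^ i)⁻¹)

def G (N j : ℕ) : K := (j : K) * ((j : K) - (N : K)) / 2 + ((N : K) ^ 2 - 1) / 12

theorem G_second_diff (h2 : (2 : K) ≠ 0) (N j : ℕ) :
    G (K := K) N (j + 2) - 2 * G N (j + 1) + G N j = 1 := by
  unfold G
  push_cast
  field_simp
  ring

theorem sum_G (h6 : (6 : K) ≠ 0) (N n : ℕ) :
    ∑ j ∈ Finset.range n, G (K := K) N j =
      ((n : K) - 1) * n * (2 * n - 1) / 12 - (N : K) * n * (n - 1) / 4 + n * ((N : K) ^ 2 - 1) / 12 := by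
  have h12 : (12 : K) ≠ 0 := by
    have : (12 : K) = 6 * 2 := by norm_num
    rw [this]
    refine mul_ne_zero h6 ?_
    intro h
    apply h6
    have : (6 : K) = 2 * 3 := by norm_num
    rw [this, h, zero_mul]
  have h4 : (4 : K) ≠ 0 := by
    intro h
    apply h12
    have : (12 : K) = 4 * 3 := by norm_num
    rw [this, h, zero_mul]
  have h2 : (2 : K) ≠ 0 := by
    intro h
    apply h4
    have : (4 : K) = 2 * 2 := by norm_num
    rw [this, h, zero_mul]
  induction n with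
  | zero => simp
  | succ n ih =>
    rw [Finset.sum_range_succ, ih]
    unfold G
    push_cast
    field_simp
    ring

theorem zeta_pow_facts {ζ : K} {N : ℕ} (hζ : IsPrimitiveRoot ζ N) {i : ℕ}
    (hi : i ∈ Finset.Ioo 0 N) : ζ ^ i ≠ 0 ∧ ζ ^ i ≠ 1 := by
  rw [Finset.mem_Ioo] at hi
  exact ⟨pow_ne_zero _ (hζ.ne_zero (by omega)), hζ.pow_ne_one_of_pos_of_lt (by omega) hi.2⟩

theorem sum_pow_eq_zero {ζ : K} {N : ℕ} (hζ : IsPrimitiveRoot ζ N) (l : ℕ) (hl : ¬ N ∣ l) :
    ∑ i ∈ Finset.range N, (ζ ^ i) ^ l = 0 := by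
  have h1 : ζ ^ l ≠ 1 := fun h => hl ((hζ.pow_eq_one_iff_dvd l).mp h)
  have h2 : ∀ i, (ζ ^ i) ^ l = (ζ ^ l) ^ i := fun i => by rw [← pow_mul, ← pow_mul, mul_comm]
  simp_rw [h2]
  rw [geom_sum_eq h1, ← pow_mul, mul_comm, pow_mul, hζ.pow_eq_one, one_pow, sub_self, zero_div]

theorem F_second_diff {ζ : K} {N : ℕ} (hζ : IsPrimitiveRoot ζ N) (hN : 0 < N) (j : ℕ)
    (hj : ¬ N ∣ j + 1) : F ζ N (j + 2) - 2 * F ζ N (j + 1) + F ζ N j = 1 := by
  unfold F
  rw [Finset.mul_sum, ← Finset.sum_sub_distrib, ← Finset.sum_add_distrib]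
  have h1 : ∀ i ∈ Finset.Ioo 0 N,
      ζ ^ (i * (j + 2)) / (2 - ζ ^ i - (ζ ^ i)⁻¹) - 2 * (ζ ^ (i * (j + 1)) / (2 - ζ ^ i - (ζ ^ i)⁻¹))
        + ζ ^ (i * j) / (2 - ζ ^ i - (ζ ^ i)⁻¹) = - (ζ ^ i) ^ (j + 1) := by
    intro i hi
    obtain ⟨h0, h1⟩ := zeta_pow_facts hζ hi
    rw [pow_mul, pow_mul, pow_mul]
    exact second_diff_term h0 h1 j
  rw [Finset.sum_congr rfl h1, Finset.sum_neg_distrib]
  have h2 := range_sum_split N hN (fun i => (ζ ^ i) ^ (j + 1))
  rw [sum_pow_eq_zero hζ (j + 1) hj] at h2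
  simp only [pow_zero, one_pow] at h2
  linear_combination h2

theorem F_periodic {ζ : K} {N : ℕ} (hζ : IsPrimitiveRoot ζ N) : F ζ N N = F ζ N 0 := by
  unfold F
  refine Finset.sum_congr rfl fun i _ => ?_
  rw [mul_comm, pow_mul, hζ.pow_eq_one, one_pow, mul_zero, pow_zero]

theorem sum_F {ζ : K} {N : ℕ} (hζ : IsPrimitiveRoot ζ N) :
    ∑ j ∈ Finset.range N, F ζ N j = 0 := by
  unfold F
  rw [Finset.sum_comm]
  refine Finset.sum_eq_zero fun i hi => ?_
  rw [← Finset.sum_div]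
  have hi' := Finset.mem_Ioo.mp hi
  have h1 : ζ ^ i ≠ 1 := (zeta_pow_facts hζ hi).2
  have h2 : ∀ j, ζ ^ (i * j) = (ζ ^ i) ^ j := fun j => pow_mul ζ i j
  simp_rw [h2]
  rw [geom_sum_eq h1, ← pow_mul, mul_comm, pow_mul, hζ.pow_eq_one, one_pow, sub_self, zero_div,
    zero_div]

theorem linear_of_second_diff (H : ℕ → K) (N : ℕ)
    (h : ∀ j, j + 2 ≤ N → H (j + 2) - 2 * H (j + 1) + H j = 0) :
    ∀ j, j + 1 ≤ N → H j = H 0 + j * (H 1 - H 0) ∧ H (j + 1) = H 0 + (j + 1 : ℕ) * (H 1 - H 0) := by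
  intro j
  induction j with
  | zero => intro _; constructor <;> simp
  | succ j ih =>
    intro hj
    obtain ⟨h1, h2⟩ := ih (by omega)
    refine ⟨h2, ?_⟩
    have h3 := h j (by omega)
    push_cast at h2 ⊢
    linear_combination h3 + 2 * h2 - h1

theorem main (h6 : (6 : K) ≠ 0) (N j : ℕ) (hj : j < N) (ζ : K) (hζ : IsPrimitiveRoot ζ N) :
    F ζ N j = G N j := by
  have hN : 0 < N := by omega
  have : NeZero N := ⟨by omega⟩
  have hN0 : (N : K) ≠ 0 := (hζ.neZero').ne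
  have h2 : (2 : K) ≠ 0 := by
    intro h
    apply h6
    have : (6 : K) = 2 * 3 := by norm_num
    rw [this, h, zero_mul]
  set H : ℕ → K := fun j => F ζ N j - G N j with hH
  have hsd : ∀ j, j + 2 ≤ N → H (j + 2) - 2 * H (j + 1) + H j = 0 := by
    intro j hj2
    have hnd : ¬ N ∣ j + 1 := Nat.not_dvd_of_pos_of_lt (by omega) (by omega)
    have e1 := F_second_diff hζ hN j hnd
    have e2 := G_second_diff (K := K) h2 N j
    simp only [hH]
    linear_combination e1 - e2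
  have hlin := linear_of_second_diff H N hsd
  have hper : H N = H 0 := by
    simp only [hH]
    rw [F_periodic hζ]
    simp [G]
  have hd : H 1 - H 0 = 0 := by
    obtain ⟨_, e⟩ := hlin (N - 1) (by omega)
    have hN1 : N - 1 + 1 = N := by omega
    rw [hN1, hper] at e
    have : (N : K) * (H 1 - H 0) = 0 := by linear_combination -e
    exact (mul_eq_zero.mp this).resolve_left hN0
  have hconst : ∀ l, l < N → H l = H 0 := by
    intro l hl
    obtain ⟨e, _⟩ := hlin l (by omega)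
    rw [e, hd, mul_zero, add_zero]
  have hsum : ∑ l ∈ Finset.range N, H l = 0 := by
    simp only [hH]
    rw [Finset.sum_sub_distrib, sum_F hζ, sum_G h6 N N]
    have h12 : (12 : K) ≠ 0 := by
      have : (12 : K) = 6 * 2 := by norm_num
      rw [this]
      exact mul_ne_zero h6 h2
    have h4 : (4 : K) ≠ 0 := by
      have : (4 : K) = 2 * 2 := by norm_num
      rw [this]
      exact mul_ne_zero h2 h2
    field_simp
    ring
  have hsum2 : ∑ l ∈ Finset.range N, H l = N * H 0 := by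
    rw [Finset.sum_congr rfl (fun l hl => hconst l (Finset.mem_range.mp hl))]
    simp
  have h0 : H 0 = 0 := by
    rw [hsum2] at hsum
    exact (mul_eq_zero.mp hsum).resolve_left hN0
  have := hconst j hj
  rw [h0] at this
  simp only [hH] at this
  exact sub_eq_zero.mp this

end

/-- Let K be a field in which 6 ≠ 0, let j < N be natural numbers (so N ≥ 1), and let ζ ∈ K be a
primitive N-th root of unity. Then the sum over i = 1, …, N − 1 of ζ^{ij} / (2 − ζ^i − ζ^{−i})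
equals j(j − N)/2 + (N² − 1)/12. (The published setting is characteristic zero; the identity is
stated here over any field of characteristic different from 2 and 3, where the published proof
applies unchanged: a field containing a primitive N-th root of unity has characteristic prime to N,
and each denominator 2 − ζ^i − ζ^{−i} = −(1 − ζ^i)²/ζ^i with 0 < i < N is nonzero. In
characteristics 2 and 3 the right-hand side has no meaning.) -/
theorem result (K : Type u) [Field K] (h6 : (6 : K) ≠ 0)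
    (N j : ℕ) (hj : j < N) (ζ : K) (hζ : IsPrimitiveRoot ζ N) :
    ∑ i ∈ Finset.Ioo 0 N, ζ ^ (i * j) / (2 - ζ ^ i - (ζ ^ i)⁻¹) =
      (j : K) * ((j : K) - (N : K)) / 2 + ((N : K) ^ 2 - 1) / 12 := by
  exact main h6 N j hj ζ hζ

end Groth.Agent.S18188
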