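import Groth.Statements.S18189
import Groth.Agent.S18188
import Mathlib.Tactic.LinearCombination
import Mathlib.Tactic.FieldSimp
import Mathlib.Tactic.Ring
import Mathlib.Algebra.Field.GeomSum
import Mathlib.Algebra.BigOperators.Field
-- import your own Groth.Agent.* helpers here

set_option autoImplicit false
open OrbRR

namespace Groth.Agent.S18189

open ComplexConjugate in
theorem den_real {w : ℂ} (hw : ‖w‖ = 1) : ∃ r : ℝ, 0 ≤ r ∧ 2 - w - w⁻¹ = (r : ℂ) := by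
  refine ⟨2 - 2 * w.re, ?_, ?_⟩
  · have := Complex.re_le_norm w
    rw [hw] at this
    linarith
  · rw [Complex.inv_eq_conj hw]
    have := Complex.add_conj w
    push_cast at this ⊢
    linear_combination -this

theorem coef_real {ζ : ℂ} {N : ℕ} (hN : 0 < N) (hζ : IsPrimitiveRoot ζ N) (k : ℕ) :
    ∃ r : ℝ, 0 ≤ r ∧ (∑ i ∈ Finset.range N, ζ ^ (k * i)) / (N : ℂ) = (r : ℂ) := by
  have hN0 : (N : ℂ) ≠ 0 := by exact_mod_cast hN.ne'
  by_cases h : N ∣ k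
  · refine ⟨1, zero_le_one, ?_⟩
    have : ∀ i ∈ Finset.range N, ζ ^ (k * i) = 1 := fun i _ => by
      rw [pow_mul, (hζ.pow_eq_one_iff_dvd k).mpr h, one_pow]
    rw [Finset.sum_congr rfl this]
    simp [hN0]
  · refine ⟨0, le_rfl, ?_⟩
    have h1 : ζ ^ k ≠ 1 := fun e => h ((hζ.pow_eq_one_iff_dvd k).mp e)
    simp_rw [pow_mul]
    rw [geom_sum_eq h1, ← pow_mul, mul_comm, pow_mul, hζ.pow_eq_one, one_pow, sub_self, zero_div,
      zero_div]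
    simp

theorem key_real (N : ℕ) (hN : 0 < N) (ζ : ℂ) (hζ : IsPrimitiveRoot ζ N) (m : ℕ) :
    ∃ r : ℝ, 0 ≤ r ∧ (∑ i ∈ Finset.range N,
        ((i : ℂ) * ((i : ℂ) - (N : ℂ)) / 2 + ((N : ℂ) ^ 2 - 1) / 12) / (N : ℂ) * ζ ^ (m * i)) =
        (r : ℂ) := by
  have key : (∑ i ∈ Finset.range N,
        ((i : ℂ) * ((i : ℂ) - (N : ℂ)) / 2 + ((N : ℂ) ^ 2 - 1) / 12) / (N : ℂ) * ζ ^ (m * i)) =
      ∑ l ∈ Finset.Ioo 0 N, ((∑ i ∈ Finset.range N, ζ ^ ((l + m) * i)) / (N : ℂ)) /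
        (2 - ζ ^ l - (ζ ^ l)⁻¹) := by
    have h1 : ∀ i ∈ Finset.range N,
        ((i : ℂ) * ((i : ℂ) - (N : ℂ)) / 2 + ((N : ℂ) ^ 2 - 1) / 12) / (N : ℂ) * ζ ^ (m * i) =
        (∑ l ∈ Finset.Ioo 0 N, ζ ^ (l * i) / (2 - ζ ^ l - (ζ ^ l)⁻¹)) / (N : ℂ) * ζ ^ (m * i) := by
      intro i hi
      rw [Groth.Agent.S18188.result ℂ (by norm_num) N i (Finset.mem_range.mp hi) ζ hζ]
    rw [Finset.sum_congr rfl h1]
    simp_rw [Finset.sum_div, Finset.sum_mul]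
    rw [Finset.sum_comm]
    refine Finset.sum_congr rfl fun l _ => ?_
    refine Finset.sum_congr rfl fun i _ => ?_
    rw [add_mul, pow_add]
    ring
  rw [key]
  have hterm : ∀ l ∈ Finset.Ioo 0 N, ∃ r : ℝ, 0 ≤ r ∧
      ((∑ i ∈ Finset.range N, ζ ^ ((l + m) * i)) / (N : ℂ)) / (2 - ζ ^ l - (ζ ^ l)⁻¹) = (r : ℂ) := by
    intro l _
    obtain ⟨a, ha0, ha⟩ := coef_real hN hζ (l + m)
    have hnorm : ‖ζ ^ l‖ = 1 := by
      rw [norm_pow, Complex.norm_eq_one_of_pow_eq_one hζ.pow_eq_one hN.ne', one_pow]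
    obtain ⟨b, hb0, hb⟩ := den_real hnorm
    refine ⟨a / b, div_nonneg ha0 hb0, ?_⟩
    rw [ha, hb]
    push_cast
    rfl
  choose! r hr0 hr using hterm
  refine ⟨∑ l ∈ Finset.Ioo 0 N, r l, Finset.sum_nonneg hr0, ?_⟩
  rw [Finset.sum_congr rfl hr]
  push_cast
  rfl

/-- Let N ≥ 1 be a natural number, let ζ ∈ ℂ be a primitive N-th root of unity, and put f(i) = i(i −
N)/2 + (N² − 1)/12 for 0 ≤ i < N. For every natural number m the complex number ε_m = (1/N)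
∑_{i=0}^{N−1} f(i) ζ^{mi}, an eigenvalue of the symmetric circulant N × N matrix with (i, j) entry
f(j − i)/N, is real and nonnegative. -/
theorem result (N : ℕ) (hN : 0 < N) (ζ : ℂ)
    (hζ : IsPrimitiveRoot ζ N) (m : ℕ) :
    (∑ i ∈ Finset.range N,
        ((i : ℂ) * ((i : ℂ) - (N : ℂ)) / 2 + ((N : ℂ) ^ 2 - 1) / 12) / (N : ℂ) * ζ ^ (m * i)).im = 0 ∧
    0 ≤ (∑ i ∈ Finset.range N,
        ((i : ℂ) * ((i : ℂ) - (N : ℂ)) / 2 + ((N : ℂ) ^ 2 - 1) / 12) / (N : ℂ) * ζ ^ (m * i)).re := by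
  obtain ⟨r, hr0, hr⟩ := key_real N hN ζ hζ m
  rw [hr]
  exact ⟨Complex.ofReal_im r, by simpa using hr0⟩

end Groth.Agent.S18189
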