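import Groth.Statements.S1819
import Groth.Agent.Lib.Helper39.LD.BidualUnb
import Groth.Agent.Lib.Helper25.Bidual.Main
-- import your own Groth.Agent.* helpers here

set_option autoImplicit false
universe u
open CategoryTheory
attribute [local instance] HasDerivedCategory.standard
open Dual

namespace Groth.Agent.S1819

open CategoryTheory CategoryTheory.Limits DerivedCategory HomologicalComplex in
attribute [local instance] HasDerivedCategory.standard in
/-- `Hom•(-, J)` respects isomorphisms in the derived category for K-injective `J` -/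
theorem homCx_iso_of_Q_iso {A : Type u} [CommRing A] (J : DRing.Cx A) [J.IsKInjective]
    {E X : DRing.Cx A} (θ : Q.obj E ≅ Q.obj X) :
    Nonempty (Q.obj (DRing.homCx E J) ≅ Q.obj (DRing.homCx X J)) := by
  obtain ⟨X', s, hs, g, hfac⟩ := DerivedCategory.right_fac θ.hom
  haveI : QuasiIso s := (DerivedCategory.isIso_Q_map_iff_quasiIso (φ := s)).1 hs
  have hg : IsIso (Q.map g) := by
    have : Q.map g = Q.map s ≫ θ.hom := by rw [hfac, IsIso.hom_inv_id_assoc]
    rw [this]
    infer_instance
  haveI : QuasiIso g := (DerivedCategory.isIso_Q_map_iff_quasiIso (φ := g)).1 hg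
  haveI : QuasiIso (Groth.Agent.Lib.Helper25.HomCxPre.homCxPre s J) :=
    Groth.Agent.Lib.Helper25.RHomKInj.quasiIso_homCxPre s J
  haveI : QuasiIso (Groth.Agent.Lib.Helper25.HomCxPre.homCxPre g J) :=
    Groth.Agent.Lib.Helper25.RHomKInj.quasiIso_homCxPre g J
  have h1 : IsIso (Q.map (Groth.Agent.Lib.Helper25.HomCxPre.homCxPre s J)) :=
    (DerivedCategory.isIso_Q_map_iff_quasiIso _ _).2 inferInstance
  have h2 : IsIso (Q.map (Groth.Agent.Lib.Helper25.HomCxPre.homCxPre g J)) :=
    (DerivedCategory.isIso_Q_map_iff_quasiIso _ _).2 inferInstance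
  exact ⟨asIso (Q.map (Groth.Agent.Lib.Helper25.HomCxPre.homCxPre s J)) ≪≫
    (asIso (Q.map (Groth.Agent.Lib.Helper25.HomCxPre.homCxPre g J))).symm⟩

/-- Let A be a Noetherian ring with a dualizing complex ω and K a complex of A-modules all of whose
cohomology modules are finite; assume RHom(K, −) exists. Then every cohomology module of RHom_A(K,
ω) is finite, and for every complex E representing RHom_A(K, ω) (with RHom(E, −) existing) there is
an isomorphism RHom_A(E, ω) ≅ K in D(A). -/
theorem result (A : Type u) [CommRing A] [IsNoetherianRing A] (ω : Dual.D A) (hω : Dual.IsDualizing A ω) (K : DRing.Cx A) [DRing.HasRHomCx K] (hK : ∀ i : ℤ, Module.Finite A (Dual.HD A (DRing.toD K) i)) : (∀ i : ℤ, Module.Finite A (Dual.HD A ((DRing.RHomCx K).obj ω) i)) ∧ ∀ (E : DRing.Cx A) [DRing.HasRHomCx E], Nonempty (DRing.toD E ≅ (DRing.RHomCx K).obj ω) → Nonempty ((DRing.RHomCx E).obj ω ≅ DRing.toD K) := by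
  obtain ⟨J, a, b, hJ, hb, ⟨eJ⟩⟩ :=
    Groth.Agent.Lib.Helper25.Bidual.exists_bounded_injective_model ω hω
  haveI : J.IsStrictlyGE a := by
    rw [CochainComplex.isStrictlyGE_iff]
    intro q hq
    exact hb q (Or.inl hq)
  haveI : J.IsKInjective := CochainComplex.isKInjective_of_injective J a
  have hωJ : Dual.IsDualizing A (DerivedCategory.Q.obj J) :=
    Groth.Agent.Lib.Helper25.Bidual.isDualizing_of_iso eJ.symm hω
  have hInj : DRing.HasInjAmplitudeIn A a b (DerivedCategory.Q.obj J) :=
    ⟨J, hb, fun n => (Module.injective_iff_injective_object A (J.X n)).2 (hJ n), ⟨Iso.refl _⟩⟩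
  let X : DRing.Cx A := DRing.homCx K J
  let e1 : (DRing.RHomCx K).obj ω ≅ DerivedCategory.Q.obj X :=
    (DRing.RHomCx K).mapIso eJ.symm ≪≫ Groth.Agent.Lib.Helper25.RHomKInj.isoOfKInj K J
  refine ⟨fun i => ?_, fun E _ ⟨eE⟩ => ?_⟩
  · haveI := Groth.Agent.Lib.Helper84.HomFinite.finite_hom (DRing.toD K) (DerivedCategory.Q.obj J)
      hK hωJ.finite_cohomology ⟨a, b, hInj⟩ i
    haveI : Module.Finite A (X.homology i) :=
      Module.Finite.equiv (Groth.Agent.Lib.Helper39.LD.HomCxHom.homologyEquiv K J i).symm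
    let e' : X.homology i ≃ₗ[A] Dual.HD A ((DRing.RHomCx K).obj ω) i :=
      (((DerivedCategory.homologyFunctorFactors (ModuleCat.{u} A) i).app X).symm ≪≫
        (DerivedCategory.homologyFunctor (ModuleCat.{u} A) i).mapIso e1.symm).toLinearEquiv
    exact Module.Finite.equiv e'
  · obtain ⟨e2⟩ := homCx_iso_of_Q_iso J (eE ≪≫ e1)
    have hKfin : ∀ i : ℤ, Module.Finite A (K.homology i) := fun i => by
      haveI : Module.Finite A
          ((DerivedCategory.Q ⋙ DerivedCategory.homologyFunctor (ModuleCat.{u} A) i).obj K) := hK i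
      exact Module.Finite.equiv
        ((DerivedCategory.homologyFunctorFactors (ModuleCat.{u} A) i).app K).toLinearEquiv
    have hq : QuasiIso (Groth.Agent.Lib.Helper39.LD.EtaC.etaC J K) :=
      Groth.Agent.Lib.Helper39.LD.BidualUnb.quasiIso_etaC_of_finite J a b hJ hb hωJ K hKfin
    have h1 : IsIso (DerivedCategory.Q.map (Groth.Agent.Lib.Helper39.LD.EtaC.etaC J K)) :=
      (DerivedCategory.isIso_Q_map_iff_quasiIso _ _).2 hq
    exact ⟨(DRing.RHomCx E).mapIso eJ.symm ≪≫ Groth.Agent.Lib.Helper25.RHomKInj.isoOfKInj E J ≪≫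
      e2 ≪≫ (asIso (DerivedCategory.Q.map (Groth.Agent.Lib.Helper39.LD.EtaC.etaC J K))).symm⟩

end Groth.Agent.S1819
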