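import Groth.Statements.S18190
import Groth.Agent.S18188
import Groth.Agent.S18189
import Mathlib.RingTheory.RootsOfUnity.Complex
import Mathlib.Tactic.LinearCombination
import Mathlib.Tactic.FieldSimp
import Mathlib.Tactic.Ring
import Mathlib.Algebra.BigOperators.Field
import Mathlib.Algebra.Order.Star.Real
-- import your own Groth.Agent.* helpers here

set_option autoImplicit false
open OrbRR

namespace Groth.Agent.S18190

open ComplexConjugate in
theorem pow_val_sub {z : ℂ} {N : ℕ} [NeZero N] (hz : z ^ N = 1) (i j : ZMod N) :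
    z ^ (j - i).val = z ^ j.val * conj (z ^ i.val) := by
  have hN : N ≠ 0 := NeZero.ne N
  have hnorm : ‖z ^ i.val‖ = 1 := by
    rw [norm_pow, Complex.norm_eq_one_of_pow_eq_one hz hN, one_pow]
  rw [← Complex.inv_eq_conj hnorm]
  have hne : z ^ i.val ≠ 0 := by
    intro h
    rw [h, norm_zero] at hnorm
    exact zero_ne_one hnorm
  rw [eq_mul_inv_iff_mul_eq₀ hne, ← pow_add]
  have h1 : j.val = ((j - i).val + i.val) % N := by
    rw [← ZMod.val_add, sub_add_cancel]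
  rw [h1, ← pow_eq_pow_mod _ hz]

open ComplexConjugate in
theorem exists_coeffs (N : ℕ) [NeZero N] :
    ∃ (c : ℕ → ℝ) (u v : ℕ → ZMod N → ℝ), (∀ l, 0 ≤ c l) ∧ ∀ i j : ZMod N,
      ((((j - i).val : ℝ) * (((j - i).val : ℝ) - (N : ℝ))) / 2 + ((N : ℝ) ^ 2 - 1) / 12) =
        ∑ l ∈ Finset.Ioo 0 N, c l * (u l i * u l j + v l i * v l j) := by
  have hN : N ≠ 0 := NeZero.ne N
  set ζ : ℂ := Complex.exp (2 * Real.pi * Complex.I / N) with hζdef
  have hζ : IsPrimitiveRoot ζ N := Complex.isPrimitiveRoot_exp N hN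
  have hden : ∀ l : ℕ, ∃ r : ℝ, 0 ≤ r ∧ 2 - ζ ^ l - (ζ ^ l)⁻¹ = (r : ℂ) := by
    intro l
    apply Groth.Agent.S18189.den_real
    rw [norm_pow, Complex.norm_eq_one_of_pow_eq_one hζ.pow_eq_one hN, one_pow]
  choose r hr0 hr using hden
  refine ⟨fun l => (r l)⁻¹, fun l i => (ζ ^ (l * i.val)).re, fun l i => (ζ ^ (l * i.val)).im,
    fun l => inv_nonneg.mpr (hr0 l), ?_⟩
  intro i j
  have hx : (j - i).val < N := ZMod.val_lt _
  have h1 := Groth.Agent.S18188.result ℂ (by norm_num) N (j - i).val hx ζ hζ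
  have h2 := congrArg Complex.re h1
  have h3 : ((((j - i).val : ℂ) * (((j - i).val : ℂ) - (N : ℂ))) / 2 + ((N : ℂ) ^ 2 - 1) / 12).re =
      ((((j - i).val : ℝ) * (((j - i).val : ℝ) - (N : ℝ))) / 2 + ((N : ℝ) ^ 2 - 1) / 12) := by
    have : ((((j - i).val : ℂ) * (((j - i).val : ℂ) - (N : ℂ))) / 2 + ((N : ℂ) ^ 2 - 1) / 12) =
      (((((j - i).val : ℝ) * (((j - i).val : ℝ) - (N : ℝ))) / 2 + ((N : ℝ) ^ 2 - 1) / 12 : ℝ) : ℂ) := by
      push_cast
      rfl
    rw [this, Complex.ofReal_re]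
  rw [h3] at h2
  rw [← h2, Complex.re_sum]
  refine Finset.sum_congr rfl fun l _ => ?_
  rw [hr l]
  have h4 : ζ ^ (l * (j - i).val) / (r l : ℂ) = ζ ^ (l * (j - i).val) * (((r l)⁻¹ : ℝ) : ℂ) := by
    push_cast
    rfl
  rw [h4, Complex.re_mul_ofReal]
  have hz : (ζ ^ l) ^ N = 1 := by rw [← pow_mul, mul_comm, pow_mul, hζ.pow_eq_one, one_pow]
  rw [pow_mul, pow_val_sub hz i j, ← pow_mul, ← pow_mul]
  simp only [Complex.mul_re, Complex.conj_re, Complex.conj_im]
  ring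

/-- Let N ≥ 1 and let f : ℤ/Nℤ → ℚ be f(x) = x(x − N)/2 + (N² − 1)/12, where x is read as its
representative with 0 ≤ x < N. The real N × N matrix indexed by ℤ/Nℤ whose (i, j) entry is f(j −
i)/N, a symmetric circulant matrix, is positive semidefinite. -/
theorem result (N : ℕ) [NeZero N] :
    (Matrix.of fun i j : ZMod N =>
        ((((j - i).val : ℝ) * (((j - i).val : ℝ) - (N : ℝ))) / 2 + ((N : ℝ) ^ 2 - 1) / 12) / (N : ℝ)).PosSemidef := by
  obtain ⟨c, u, v, hc, h⟩ := exists_coeffs N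
  have hN0 : (0 : ℝ) ≤ ((N : ℝ))⁻¹ := by positivity
  have hmat : (Matrix.of fun i j : ZMod N =>
        ((((j - i).val : ℝ) * (((j - i).val : ℝ) - (N : ℝ))) / 2 + ((N : ℝ) ^ 2 - 1) / 12) / (N : ℝ)) =
      ((N : ℝ))⁻¹ • ∑ l ∈ Finset.Ioo 0 N, c l •
        (Matrix.vecMulVec (u l) (star (u l)) + Matrix.vecMulVec (v l) (star (v l))) := by
    ext i j
    rw [Matrix.of_apply, h i j, Matrix.smul_apply, Matrix.sum_apply, div_eq_inv_mul, smul_eq_mul]
    congr 1
  rw [hmat]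
  refine Matrix.PosSemidef.smul ?_ hN0
  refine Matrix.posSemidef_sum _ fun l _ => ?_
  refine Matrix.PosSemidef.smul ?_ (hc l)
  exact (Matrix.posSemidef_vecMulVec_self_star _).add (Matrix.posSemidef_vecMulVec_self_star _)

end Groth.Agent.S18190
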