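import Groth.Statements.S18193
import Groth.Agent.Lib.Helper41.LocImmFactor

set_option autoImplicit false
universe u
open LocImm
open Groth.Agent.Lib.Helper41 CategoryTheory.Limits

namespace Groth.Agent.S18193

open CategoryTheory AlgebraicGeometry in
/-- Let `X, Y₁, Y₂, S` be Noetherian schemes, `f_i : X ⟶ Y_i` separated localizing immersions
(localizing and injective on points) and `π_i : Y_i ⟶ S` separated morphisms of finite type with `f₁
≫ π₁ = f₂ ≫ π₂`. Then there are a scheme `W`, a localizing immersion `k : X ⟶ W` and open immersions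
`g_i : W ⟶ Y_i` compatible over `S` with `k ≫ g_i = f_i`; in particular `W` is of finite type over
`S`. -/
theorem result {X Y₁ Y₂ S : Scheme.{u}} [IsNoetherian X] [IsNoetherian Y₁] [IsNoetherian Y₂] [IsNoetherian S]
    (f₁ : X ⟶ Y₁) (f₂ : X ⟶ Y₂) (π₁ : Y₁ ⟶ S) (π₂ : Y₂ ⟶ S)
    (hf₁ : LocImm.IsLocImmersion f₁) (hf₂ : LocImm.IsLocImmersion f₂) [IsSeparated f₁] [IsSeparated f₂]
    [IsSeparated π₁] [IsSeparated π₂] [LocallyOfFiniteType π₁] [LocallyOfFiniteType π₂] (h : f₁ ≫ π₁ = f₂ ≫ π₂) :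
    ∃ (W : Scheme.{u}) (k : X ⟶ W) (g₁ : W ⟶ Y₁) (g₂ : W ⟶ Y₂), LocImm.IsLocImmersion k ∧ IsOpenImmersion g₁ ∧ IsOpenImmersion g₂ ∧ g₁ ≫ π₁ = g₂ ≫ π₂ ∧ k ≫ g₁ = f₁ ∧ k ≫ g₂ = f₂ := by
  set φ := pullback.lift f₁ f₂ h with hφ
  obtain ⟨W₀, hW₀, ho₁, ho₂⟩ := exists_opens_image f₁ f₂ π₁ π₂ hf₁ hf₂ h
  have hloc : IsLocImmersion φ.toImage := isLocImmersion_toImage f₁ f₂ π₁ π₂ hf₁ h
  have hrange : Set.range φ.toImage ⊆ Set.range W₀.ι := by
    rw [Scheme.Opens.range_ι]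
    exact hW₀
  refine ⟨W₀.toScheme, IsOpenImmersion.lift W₀.ι φ.toImage hrange,
    W₀.ι ≫ φ.imageι ≫ pullback.fst π₁ π₂, W₀.ι ≫ φ.imageι ≫ pullback.snd π₁ π₂, ?_, ho₁, ho₂, ?_, ?_, ?_⟩
  · apply isLocImmersion_of_comp_openImmersion _ W₀.ι
    rw [IsOpenImmersion.lift_fac]
    exact hloc
  · simp only [Category.assoc, pullback.condition]
  · rw [IsOpenImmersion.lift_fac_assoc, ← Category.assoc, φ.toImage_imageι, hφ, pullback.lift_fst]
  · rw [IsOpenImmersion.lift_fac_assoc, ← Category.assoc, φ.toImage_imageι, hφ, pullback.lift_snd]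

end Groth.Agent.S18193
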