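import Groth.Statements.S18199
import Groth.Agent.Lib.Helper41.LocImmEssFactor
import Groth.Agent.S18205
import Mathlib.AlgebraicGeometry.Morphisms.Proper

set_option autoImplicit false
universe u
open LocImm
open Groth.Agent.Lib.Helper41

namespace Groth.Agent.S18199

open CategoryTheory AlgebraicGeometry in
/-- A separated, universally closed morphism of Noetherian schemes that is essentially of finite type is
proper; thus no new class of proper-like morphisms arises among essentially finite-type ones. -/
theorem result {X S : Scheme.{u}} [IsNoetherian X] [IsNoetherian S] (f : X ⟶ S) [IsSeparated f] [EssFT.EssFiniteType f] [UniversallyClosed f] : IsProper f := by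
  obtain ⟨Y, k, p, hY, hk, hs, hl, hq, e⟩ := exists_factor_of_essFiniteType_scheme f
  have : UniversallyClosed (k ≫ p) := by rw [e]; infer_instance
  have : UniversallyClosed k := UniversallyClosed.of_comp_of_isSeparated k p
  have : IsOpenImmersion k := Groth.Agent.S18205.result k hk k.isClosedMap.isClosed_range
  have : LocallyOfFiniteType (k ≫ p) := inferInstance
  have : LocallyOfFiniteType f := by rw [← e]; infer_instance
  exact {}

end Groth.Agent.S18199
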