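import Groth.Statements.S18200
import Groth.Agent.Lib.Helper41.ZMTFinGlue
import Groth.Agent.Lib.Helper41.LocImmEssFactor
import Groth.Agent.Lib.Helper41.LocImmOpen

set_option autoImplicit false
universe u
open LocImm

namespace Groth.Agent.S18200

open CategoryTheory AlgebraicGeometry in
/-- Let `f : X ⟶ Y` be a separated morphism of Noetherian schemes that is essentially quasi-finite:
essentially of finite type with every fibre the spectrum of a finite algebra over the residue field
(equivalently, `f` locally quasi-finite in the fibrewise sense, which carries no finite-type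
condition). Then `f` factors as a localizing immersion `i : X ⟶ Z` (localizing and injective on
points, `Z` Noetherian) followed by a finite morphism `h : Z ⟶ Y`. -/
theorem result {X Y : Scheme.{u}} [IsNoetherian X] [IsNoetherian Y] (f : X ⟶ Y) [IsSeparated f] [EssFT.EssFiniteType f] [LocallyQuasiFinite f] :
    ∃ (Z : Scheme.{u}) (i : X ⟶ Z) (h : Z ⟶ Y), IsNoetherian Z ∧ LocImm.IsLocImmersion i ∧ IsFinite h ∧ i ≫ h = f := by
  obtain ⟨P, k, p, hP, hk, hpsep, hplft, hpqc, hfac⟩ :=
    Groth.Agent.Lib.Helper41.exists_factor_of_essFiniteType_scheme f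
  -- `k` lands in the quasi-finite locus of `p`
  have hmem : ∀ x : X, k x ∈ p.quasiFiniteLocus := by
    intro x
    rw [Scheme.Hom.mem_quasiFiniteLocus]
    have h1 : (k ≫ p).QuasiFiniteAt x := by rw [hfac]; exact f.quasiFiniteAt x
    haveI : IsIso (k.stalkMap x) :=
      Groth.Agent.Lib.Helper41.isIso_stalkMap_of_isLocalizing hk.1 x
    simp only [Scheme.Hom.QuasiFiniteAt, Scheme.Hom.stalkMap_comp] at h1 ⊢
    exact (RingHom.QuasiFinite.respectsIso.cancel_right_isIso _ (k.stalkMap x)).1 h1
  have hrange : Set.range k ⊆ Set.range p.quasiFiniteLocus.ι := by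
    rw [Scheme.Opens.range_ι]
    rintro _ ⟨x, rfl⟩
    exact hmem x
  let k' : X ⟶ ↑p.quasiFiniteLocus := IsOpenImmersion.lift p.quasiFiniteLocus.ι k hrange
  have hk' : k' ≫ p.quasiFiniteLocus.ι = k := IsOpenImmersion.lift_fac _ _ _
  have hk'loc : LocImm.IsLocImmersion k' :=
    Groth.Agent.Lib.Helper41.isLocImmersion_of_comp_openImmersion k' p.quasiFiniteLocus.ι
      (by rw [hk']; exact hk)
  haveI : CompactSpace Y := inferInstance
  haveI : QuasiSeparatedSpace Y := inferInstance
  obtain ⟨T, j, π, hj, hπ, hjπ⟩ :=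
    Groth.Agent.Lib.Helper41.ZMTFinGlue.zmtf_of_qcqs (p.quasiFiniteLocus.ι ≫ p)
  haveI : IsLocallyNoetherian T := LocallyOfFiniteType.isLocallyNoetherian π
  haveI : CompactSpace T := QuasiCompact.compactSpace_of_compactSpace π
  refine ⟨T, k' ≫ j, π, ⟨⟩,
    Groth.Agent.Lib.Helper41.isLocImmersion_comp_openImmersion k' j hk'loc, hπ, ?_⟩
  rw [Category.assoc, hjπ, ← Category.assoc, hk', hfac]

end Groth.Agent.S18200
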