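import Groth.Statements.S18201
import Groth.Agent.Lib.Helper41.LocImmStalk

set_option autoImplicit false
universe u
open LocImm
open Groth.Agent.Lib.Helper41

namespace Groth.Agent.S18201

open CategoryTheory AlgebraicGeometry in
/-- Let `P` be a property of morphisms of schemes such that (α) for every separated, essentially
finite-type `f : X ⟶ Y` of Noetherian schemes and every localizing immersion `i : W ⟶ X` (`W`
Noetherian; localizing and injective on points), `P f` implies `P (i ≫ f)`; and (β) for every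
separated finite-type `f : X ⟶ Y` of Noetherian schemes, (i) `P f` holds whenever `P` holds for each
composite `Spec O_{X,x} ⟶ X ⟶ Y`, and (ii) the set of `x` for which that composite satisfies `P` is
open. Then (i) and (ii) hold for every separated, essentially finite-type `f : X ⟶ Y` of Noetherian
schemes, and any such `f` with `P f` factors as a localizing immersion `X ⟶ Z` (`Z` Noetherian)
followed by a separated morphism of finite type `h : Z ⟶ Y` satisfying `P`. -/
theorem result (P : MorphismProperty Scheme.{u})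
    (hα : ∀ {W X Y : Scheme.{u}} [IsNoetherian W] [IsNoetherian X] [IsNoetherian Y] (i : W ⟶ X) (f : X ⟶ Y) [IsSeparated f] [EssFT.EssFiniteType f], LocImm.IsLocImmersion i → P f → P (i ≫ f))
    (hβ₁ : ∀ {X Y : Scheme.{u}} [IsNoetherian X] [IsNoetherian Y] (f : X ⟶ Y) [IsSeparated f] [LocallyOfFiniteType f], (∀ x : X, P (X.fromSpecStalk x ≫ f)) → P f)
    (hβ₂ : ∀ {X Y : Scheme.{u}} [IsNoetherian X] [IsNoetherian Y] (f : X ⟶ Y) [IsSeparated f] [LocallyOfFiniteType f], IsOpen {x : X | P (X.fromSpecStalk x ≫ f)})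
    {X Y : Scheme.{u}} [IsNoetherian X] [IsNoetherian Y] (f : X ⟶ Y) [IsSeparated f] [EssFT.EssFiniteType f] :
    ((∀ x : X, P (X.fromSpecStalk x ≫ f)) → P f) ∧ IsOpen {x : X | P (X.fromSpecStalk x ≫ f)} ∧
      (P f → ∃ (Z : Scheme.{u}) (i : X ⟶ Z) (h : Z ⟶ Y), IsNoetherian Z ∧ LocImm.IsLocImmersion i ∧ IsSeparated h ∧ LocallyOfFiniteType h ∧ QuasiCompact h ∧ P h ∧ i ≫ h = f) := by
  obtain ⟨Z₀, k, p, hZ₀, hk, hps, hpl, hpq, e⟩ := exists_factor_of_essFiniteType_scheme f
  subst e
  have hTopen : IsOpen {z : Z₀ | P (Z₀.fromSpecStalk z ≫ p)} := hβ₂ p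
  have hiso : ∀ x, IsIso (k.stalkMap x) := isIso_stalkMap_of_isLocalizing hk.1
  have : EssFT.LocallyEssFiniteType p := locallyEssFiniteType_of_locallyOfFiniteType p
  have hiff : ∀ x : X, P (X.fromSpecStalk x ≫ k ≫ p) ↔ P (Z₀.fromSpecStalk (k x) ≫ p) :=
    fun x => P_stalk_iff P hα k p x
  have main : (∀ x : X, P (X.fromSpecStalk x ≫ k ≫ p)) → ∃ (Z : Scheme.{u}) (i : X ⟶ Z)
      (h : Z ⟶ Y), IsNoetherian Z ∧ LocImm.IsLocImmersion i ∧ IsSeparated h ∧
      LocallyOfFiniteType h ∧ QuasiCompact h ∧ P h ∧ i ≫ h = k ≫ p := by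
    intro hall
    let To : Z₀.Opens := ⟨{z : Z₀ | P (Z₀.fromSpecStalk z ≫ p)}, hTopen⟩
    have hrange : Set.range k ⊆ Set.range To.ι := by
      rw [Scheme.Opens.range_ι]
      rintro _ ⟨x, rfl⟩
      exact (hiff x).1 (hall x)
    let k' := IsOpenImmersion.lift To.ι k hrange
    have hk' : k' ≫ To.ι = k := IsOpenImmersion.lift_fac _ _ _
    have : IsNoetherian (To : Scheme.{u}) := isNoetherian_of_locallyOfFiniteType To.ι
    have : EssFT.LocallyEssFiniteType (To.ι ≫ p) :=
      locallyEssFiniteType_of_locallyOfFiniteType _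
    have hPh : P (To.ι ≫ p) := by
      apply hβ₁
      intro z
      exact (P_stalk_iff P hα To.ι p z).2 z.2
    exact ⟨To, k', To.ι ≫ p, inferInstance, isLocImmersion_of_comp_openImmersion k' To.ι
      (by rw [hk']; exact hk), inferInstance, inferInstance, inferInstance, hPh,
      by rw [reassoc_of% hk']⟩
  refine ⟨fun hall => ?_, ?_, fun hPf => ?_⟩
  · obtain ⟨Z, i, h, hZ, hi, hs, hl, hq, hPh, e⟩ := main hall
    have : EssFT.EssFiniteType h :=
      { toLocallyEssFiniteType := locallyEssFiniteType_of_locallyOfFiniteType h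
        toQuasiCompact := hq }
    rw [← e]
    exact hα i h hi hPh
  · have : {x : X | P (X.fromSpecStalk x ≫ k ≫ p)} =
        k ⁻¹' {z : Z₀ | P (Z₀.fromSpecStalk z ≫ p)} := by
      ext x
      exact hiff x
    rw [this]
    exact hTopen.preimage k.continuous
  · apply main
    intro x
    exact hα (X.fromSpecStalk x) (k ≫ p) (isLocImmersion_fromSpecStalk X x) hPf

end Groth.Agent.S18201
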