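import Groth.Statements.S18203
import Groth.Agent.Lib.Helper41.LocImm

set_option autoImplicit false
universe u
open LocImm

namespace Groth.Agent.S18203

open CategoryTheory AlgebraicGeometry in
/-- Let `f : X ⟶ Y` be a localizing immersion (localizing and injective on points) of Noetherian
schemes. Then `f` is a topological embedding, its image is stable under generization, and every
stalk map `O_{Y, f x} → O_{X, x}` is an isomorphism; thus `f` identifies `X` with the subspace
`f(X)` equipped with the restriction of `O_Y`. -/
theorem result {X Y : Scheme.{u}} [IsNoetherian X] [IsNoetherian Y]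
    (f : X ⟶ Y) (hf : LocImm.IsLocImmersion f) :
    Topology.IsEmbedding (fun x => f x) ∧ StableUnderGeneralization (Set.range (fun x => f x)) ∧ ∀ x : X, IsIso (f.stalkMap x) := by
  refine ⟨Groth.Agent.Lib.Helper41.isEmbedding_of_isLocImmersion hf,
    Groth.Agent.Lib.Helper41.stableUnderGeneralization_range_of_isLocalizing hf.1,
    fun x => Groth.Agent.Lib.Helper41.isIso_stalkMap_of_isLocalizing hf.1 x⟩

end Groth.Agent.S18203
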