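import Groth.Statements.S18204
import Groth.Agent.Lib.Helper41.LocImm
import Mathlib.AlgebraicGeometry.Morphisms.UniversallyOpen
import Mathlib.AlgebraicGeometry.Noetherian

set_option autoImplicit false
universe u
open LocImm
open Groth.Agent.Lib.Helper41

namespace Groth.Agent.S18204

open CategoryTheory AlgebraicGeometry in
/-- A localizing immersion (localizing and injective on points) of Noetherian schemes which is locally
of finite type is an open immersion. -/
theorem result {X Y : Scheme.{u}} [IsNoetherian X] [IsNoetherian Y]
    (f : X ⟶ Y) (hf : LocImm.IsLocImmersion f) [LocallyOfFiniteType f] : IsOpenImmersion f := by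
  have hflat : Flat f := flat_of_isLocalizing hf.1
  have hfp : LocallyOfFinitePresentation f := inferInstance
  have huo : UniversallyOpen f := inferInstance
  have hopen : Topology.IsOpenEmbedding f :=
    .of_continuous_injective_isOpenMap f.continuous hf.2 f.isOpenMap
  have : ∀ x, IsIso (f.stalkMap x) := isIso_stalkMap_of_isLocalizing hf.1
  exact IsOpenImmersion.of_isIso_stalkMap f hopen

end Groth.Agent.S18204
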