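import Groth.Statements.S18206
import Mathlib
import Groth.Agent.Lib.Helper41.LocImm

set_option autoImplicit false
universe u
open LocImm

namespace Groth.Agent.S18206

section helpers
open CategoryTheory CategoryTheory.Limits AlgebraicGeometry


/-- The canonical map to the scheme-theoretic image is scheme-theoretically dominant. -/
lemma isSchemeTheoreticallyDominant_toImage {X Y : Scheme.{u}} (g : X ⟶ Y) :
    IsSchemeTheoreticallyDominant g.toImage := by
  constructor
  rw [← Scheme.isIso_subschemeι_iff_eq_bot]
  refine IsClosedImmersion.isIso_of_ker_eq (g.toImage.ker.subschemeι ≫ g.imageι) g.imageι _ rfl ?_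
  have h1 : (g.toImage.ker.subschemeι ≫ g.imageι).ker = g.toImage.ker.map g.imageι := rfl
  rw [h1, Scheme.IdealSheafData.map_ker, g.toImage_imageι]
  simp [Scheme.Hom.imageι]

/-- For a flat monomorphism `f`, every ideal sheaf on the source is pulled back from its pushforward. -/
lemma comap_map_of_flat_mono {X Y : Scheme.{u}} (f : X ⟶ Y) [Flat f] [Mono f] [QuasiCompact f]
    (I : X.IdealSheafData) : (I.map f).comap f = I := by
  set g := I.subschemeι ≫ f with hg
  haveI := isSchemeTheoreticallyDominant_toImage g
  let w := pullback.fst f g.imageι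
  let s := pullback.snd f g.imageι
  let h : I.subscheme ⟶ pullback f g.imageι :=
    pullback.lift I.subschemeι g.toImage (by rw [g.toImage_imageι])
  have hw : h ≫ w = I.subschemeι := pullback.lift_fst _ _ _
  have hs : h ≫ s = g.toImage := pullback.lift_snd _ _ _
  have hP : IsPullback (𝟙 I.subscheme) h g.toImage s := by
    refine ⟨⟨by rw [Category.id_comp, hs]⟩, ⟨PullbackCone.IsLimit.mk _ (fun c => c.fst)
      (fun c => Category.comp_id _) (fun c => ?_) (fun c m h1 _ => ?_)⟩⟩
    · apply pullback.hom_ext
      · rw [Category.assoc]
        erw [hw]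
        rw [← cancel_mono f, Category.assoc, Category.assoc, pullback.condition,
          ← Category.assoc c.snd, ← c.condition, Category.assoc, g.toImage_imageι]
      · rw [Category.assoc]
        erw [hs]
        exact c.condition
    · rw [← h1, Category.comp_id]
  haveI : IsSchemeTheoreticallyDominant h := .of_isPullback hP
  show w.ker = I
  have hI : (h ≫ w).ker = I := by rw [hw, Scheme.IdealSheafData.ker_subschemeι]
  calc w.ker = Scheme.IdealSheafData.map ⊥ w := (Scheme.IdealSheafData.map_bot w).symm
    _ = h.ker.map w := by rw [h.ker_eq_bot]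
    _ = (h ≫ w).ker := (Scheme.Hom.ker_comp h w).symm
    _ = I := hI

end helpers

open CategoryTheory AlgebraicGeometry in
/-- Let `f : X ⟶ Y` be a localizing immersion (localizing and injective on points) of Noetherian
schemes. Then every quasi-coherent ideal sheaf `I` on `X` is the inverse image ideal `J·O_X` of some
quasi-coherent ideal sheaf `J` on `Y` (all such ideals are coherent, the schemes being Noetherian). -/
theorem result {X Y : Scheme.{u}} [IsNoetherian X] [IsNoetherian Y]
    (f : X ⟶ Y) (hf : LocImm.IsLocImmersion f) (I : X.IdealSheafData) : ∃ J : Y.IdealSheafData, J.comap f = I := by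
  haveI : Flat f := Groth.Agent.Lib.Helper41.flat_of_isLocalizing hf.1
  haveI : Mono f := Groth.Agent.Lib.Helper41.mono_of_isLocImmersion hf
  exact ⟨I.map f, comap_map_of_flat_mono f I⟩

end Groth.Agent.S18206
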