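import Groth.Statements.S18208
import Groth.Agent.Lib.Helper41.LocImm

set_option autoImplicit false
universe u
open LocImm
open Groth.Agent.Lib.Helper41

namespace Groth.Agent.S18208

open CategoryTheory AlgebraicGeometry in
/-- A morphism `f : X ⟶ Y` of Noetherian schemes is a localizing immersion (localizing and injective on
points) if and only if every point of `f(X)` has an affine open neighbourhood `V` in `Y` whose
preimage `f⁻¹V` is affine with `Γ(Y, V) → Γ(X, f⁻¹V)` a localizing ring map (its target is the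
localization of its source at some submonoid). In particular such an `f` is quasi-affine. -/
theorem result {X Y : Scheme.{u}} [IsNoetherian X] [IsNoetherian Y] (f : X ⟶ Y) :
    LocImm.IsLocImmersion f ↔ ∀ x : X, ∃ V : Y.Opens, f x ∈ V ∧ IsAffineOpen V ∧ IsAffineOpen (f ⁻¹ᵁ V) ∧ LocImm.IsLocHom (f.app V).hom := by
  constructor
  · intro hf x
    obtain ⟨U, V₀, hxV, e, hloc⟩ := hf.1 x
    obtain ⟨S, hS⟩ := id hloc
    obtain ⟨W', hxW', hW'U, hW'V⟩ :=
      exists_open_nhd_preimage_le_of_chart f hf.2 U.2 V₀.2 e S hS x hxV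
    obtain ⟨a, haW, hxa⟩ := U.2.exists_basicOpen_le (V := W') ⟨f x, hxW'⟩ (e hxV)
    have heq : f ⁻¹ᵁ Y.basicOpen a = X.basicOpen (f.appLE U.1 V₀.1 e a) := by
      rw [basicOpen_appLE_eq]
      exact (inf_eq_right.2 (fun x' hx' => hW'V (haW hx'))).symm
    refine ⟨Y.basicOpen a, hxa, U.2.basicOpen a, ?_, ?_⟩
    · rw [heq]
      exact V₀.2.basicOpen _
    · rw [Scheme.Hom.app_eq_appLE]
      exact isLocHom_appLE_basicOpen_target f U.2 V₀.2 e hloc a _ heq le_rfl
  · intro H
    constructor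
    · intro x
      obtain ⟨V, hxV, hV, hV', hloc⟩ := H x
      refine ⟨⟨V, hV⟩, ⟨f ⁻¹ᵁ V, hV'⟩, hxV, le_rfl, ?_⟩
      rw [Scheme.Hom.app_eq_appLE] at hloc
      exact hloc
    · intro x₁ x₂ h
      obtain ⟨V, hxV, hV, hV', hloc⟩ := H x₁
      rw [Scheme.Hom.app_eq_appLE] at hloc
      have hx₂ : x₂ ∈ f ⁻¹ᵁ V := by
        change f x₂ ∈ V
        have h' : f x₁ = f x₂ := h
        rw [← h']
        exact hxV
      exact eq_of_apply_eq_of_chart f hV hV' le_rfl hloc hxV hx₂ h

end Groth.Agent.S18208
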