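import Groth.Statements.S18232
import Mathlib
import Groth.Agent.Lib.Helper18.FpqcOver

set_option autoImplicit false
universe u
open CategoryTheory MonoidalCategory CartesianMonoidalCategory AlgebraicGeometry Opposite
open Magnet

namespace Groth.Agent.S18232


open CategoryTheory.Limits Groth.Agent.Lib.Helper18.FpqcOver

theorem ker_sq_of_isPullback {A : Type u} [CommRing A] (I : Ideal A) (hI : I ^ 2 = ⊥)
    {W W' : Scheme.{u}} [IsAffine W'] {τ : W ⟶ W'} {r : W ⟶ Spec (CommRingCat.of (A ⧸ I))}
    {p : W' ⟶ Spec (CommRingCat.of A)}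
    (hpb : IsPullback τ r p (Spec.map (CommRingCat.ofHom (Ideal.Quotient.mk I)))) :
    τ.ker ^ 2 = ⊥ := by
  have hcl : IsClosedImmersion τ := by
    apply MorphismProperty.of_isPullback (P := @IsClosedImmersion) hpb.flip
    exact IsClosedImmersion.spec_of_surjective _ Ideal.Quotient.mk_surjective
  have hP := isPushout_appTop_of_isPullback hpb
  let φ : A →+* Γ(W', ⊤) := ((Scheme.ΓSpecIso (CommRingCat.of A)).inv ≫ p.appTop).hom
  let J : Ideal Γ(W', ⊤) := I.map φ
  have hJ : J ^ 2 = ⊥ := by
    rw [← Ideal.map_pow, hI, Ideal.map_bot]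
  have hlift : ∀ a ∈ I, ((Ideal.Quotient.mk J).comp φ) a = 0 := by
    intro a ha
    rw [RingHom.comp_apply, Ideal.Quotient.eq_zero_iff_mem]
    exact Ideal.mem_map_of_mem φ ha
  let inr : Γ(Spec (CommRingCat.of (A ⧸ I)), ⊤) ⟶ CommRingCat.of (Γ(W', ⊤) ⧸ J) :=
    (Scheme.ΓSpecIso (CommRingCat.of (A ⧸ I))).hom ≫
      CommRingCat.ofHom (Ideal.Quotient.lift I ((Ideal.Quotient.mk J).comp φ) hlift)
  have hcomm : p.appTop ≫ CommRingCat.ofHom (Ideal.Quotient.mk J) =
      (Spec.map (CommRingCat.ofHom (Ideal.Quotient.mk I))).appTop ≫ inr := by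
    rw [← Iso.cancel_iso_inv_left (Scheme.ΓSpecIso (CommRingCat.of A))]
    rw [← Scheme.ΓSpecIso_inv_naturality_assoc]
    simp only [inr, Iso.inv_hom_id_assoc]
    ext a
    simp [φ]
  have hdesc := hP.inl_desc (CommRingCat.ofHom (Ideal.Quotient.mk J)) inr hcomm
  have hker : ∀ s : Γ(W', ⊤), τ.appTop s = 0 → s ∈ J := by
    intro s hs
    have h1 := congrArg (fun ψ => ψ.hom s) hdesc
    simp only [CommRingCat.hom_comp, RingHom.comp_apply, CommRingCat.hom_ofHom] at h1
    rw [hs, map_zero] at h1
    exact Ideal.Quotient.eq_zero_iff_mem.mp h1.symm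
  apply Scheme.IdealSheafData.ext_of_isAffine
  rw [Scheme.IdealSheafData.ideal_pow, Pi.pow_apply]
  simp only [Scheme.IdealSheafData.ideal_bot, Pi.bot_apply]
  rw [eq_bot_iff, ← hJ]
  apply Ideal.pow_right_mono
  intro s hs
  rw [Scheme.Hom.ker_apply, RingHom.mem_ker] at hs
  exact hker s hs


/-- Let S be a scheme, M a finitely generated abelian group, N a submonoid of M, and let X, Y be
S-schemes with actions of the diagonalizable group scheme D(M)_S and f : X → Y an equivariant,
formally unramified S-morphism. Then the induced map f^N : X^N → Y^N, viewed as a transformation of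
functors on S-schemes, is again formally unramified: for every ring A, ideal I of A with I² = 0 and
structure morphism Spec A → S, writing T = Spec (A/I) ⊂ T' = Spec A, two elements of X^N(T') with
the same restriction to T and the same image in Y^N(T') are equal. (Stated for schemes; the
published statement is for algebraic spaces over S.) -/
theorem result (S : Scheme.{u}) (M : Type) [AddCommGroup M]
    [AddGroup.FG M] (N : AddSubmonoid M) {X Y : Over S} (aX : Magnet.MonAct (Magnet.AMonS S M) X)
    (aY : Magnet.MonAct (Magnet.AMonS S M) Y) (f : X ⟶ Y) (hf : Magnet.MonAct.IsEquivariant aX aY f)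
    [FormallyUnramified f.left] (A : Type u) [CommRing A] (I : Ideal A) (hI : I ^ 2 = ⊥)
    (str : Spec (CommRingCat.of A) ⟶ S) (l₁ l₂ : (Magnet.attr aX N).obj (op (Over.mk str)))
    (htop : (Magnet.attr aX N).map (Over.homMk (Spec.map (CommRingCat.ofHom (Ideal.Quotient.mk I))) rfl :
        Over.mk (Spec.map (CommRingCat.ofHom (Ideal.Quotient.mk I)) ≫ str) ⟶ Over.mk str).op l₁ =
      (Magnet.attr aX N).map (Over.homMk (Spec.map (CommRingCat.ofHom (Ideal.Quotient.mk I))) rfl :
        Over.mk (Spec.map (CommRingCat.ofHom (Ideal.Quotient.mk I)) ≫ str) ⟶ Over.mk str).op l₂)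
    (hbot : (Magnet.MonAct.eqvHom.postcomp (Magnet.subAct S M N) f hf).app _ l₁ =
      (Magnet.MonAct.eqvHom.postcomp (Magnet.subAct S M N) f hf).app _ l₂) :
    l₁ = l₂ := by
  let T' : Over S := Over.mk str
  let T : Over S := Over.mk (Spec.map (CommRingCat.ofHom (Ideal.Quotient.mk I)) ≫ str)
  let t : T ⟶ T' := Over.homMk (Spec.map (CommRingCat.ofHom (Ideal.Quotient.mk I))) rfl
  let B := AMonS S N
  have hpb : IsPullback (B ◁ t).left (snd B T).left (snd B T').left
      (Spec.map (CommRingCat.ofHom (Ideal.Quotient.mk I))) := isPullback_whiskerLeft B t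
  have haff : IsAffine (B ⊗ T').left := by
    have h1 : IsAffineHom (AMon (ULift.{u} ℤ) ↥N).hom := by
      change IsAffineHom (Spec.map _)
      infer_instance
    have h2 : IsAffineHom B.hom := by
      change IsAffineHom (pullback.snd (AMon (ULift.{u} ℤ) ↥N).hom _)
      exact MorphismProperty.pullback_snd (P := @IsAffineHom) _ _ h1
    have h3 : IsAffineHom (pullback.snd B.hom T'.hom) :=
      MorphismProperty.pullback_snd (P := @IsAffineHom) _ _ h2
    have h4 : IsAffine T'.left := by
      change IsAffine (Spec _)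
      infer_instance
    exact isAffine_of_isAffineHom (pullback.snd B.hom T'.hom)
  have hcl : IsClosedImmersion (B ◁ t).left := by
    apply prop_whiskerLeft @IsClosedImmersion B t
    change IsClosedImmersion (Spec.map _)
    exact IsClosedImmersion.spec_of_surjective _ Ideal.Quotient.mk_surjective
  have hnil : IsNilpotent (B ◁ t).left.ker := ⟨2, ker_sq_of_isPullback I hI hpb⟩
  have h1 : (B ◁ t) ≫ l₁.1 = (B ◁ t) ≫ l₂.1 := congrArg Subtype.val htop
  have h2 : l₁.1 ≫ f = l₂.1 ≫ f := congrArg Subtype.val hbot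
  apply Subtype.ext
  ext : 1
  refine FormallyUnramified.hom_ext (B ◁ t).left hnil f.left ?_ ?_
  · exact congrArg (fun k => k.left) h1
  · exact congrArg (fun k => k.left) h2

end Groth.Agent.S18232
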