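import Groth.Statements.S18235
import Groth.Agent.Lib.Helper18.AttrOpen

set_option autoImplicit false
universe u
open CategoryTheory MonoidalCategory CartesianMonoidalCategory AlgebraicGeometry Opposite
open Magnet

namespace Groth.Agent.S18235

/-- Let S be a scheme, M a finitely generated abelian group, N a submonoid of M, X and Y schemes locally
of finite presentation over S with actions of the diagonalizable group scheme D(M)_S, and f : X → Y
an equivariant S-morphism which is an open immersion. If the attractors X^N and Y^N are represented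
by S-schemes Z_X and Z_Y, and j : Z_X → Z_Y is the S-morphism that corresponds to f^N under the two
representing bijections, then j is an open immersion. (Stated for schemes; the published statement
is for algebraic spaces over S.) -/
theorem result (S : Scheme.{u}) (M : Type) [AddCommGroup M]
    [AddGroup.FG M] (N : AddSubmonoid M) {X Y : Over S} [LocallyOfFinitePresentation X.hom]
    [LocallyOfFinitePresentation Y.hom] (aX : Magnet.MonAct (Magnet.AMonS S M) X)
    (aY : Magnet.MonAct (Magnet.AMonS S M) Y) (f : X ⟶ Y) (hf : Magnet.MonAct.IsEquivariant aX aY f)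
    [IsOpenImmersion f.left] {ZX ZY : Over S} (eX : (Magnet.attr aX N).RepresentableBy ZX) (eY : (Magnet.attr aY N).RepresentableBy ZY)
    (j : ZX ⟶ ZY) (hj : ∀ (T : Over S) (z : T ⟶ ZX),
      eY.homEquiv (z ≫ j) = (Magnet.MonAct.eqvHom.postcomp (Magnet.subAct S M N) f hf).app (op T) (eX.homEquiv z)) :
    IsOpenImmersion j.left := by
  classical
  have hmono : Mono f := by
    have : Mono f.left := inferInstance
    exact Over.mono_of_mono_left _
  -- universal families
  let φY := eY.homEquiv (𝟙 ZY)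
  let φX := eX.homEquiv (𝟙 ZX)
  have hY : ∀ {T : Over S} (z : T ⟶ ZY),
      (eY.homEquiv z).1 = (Magnet.AMonS S ↥N ◁ z) ≫ φY.1 := by
    intro T z
    have h := eY.homEquiv_comp z (𝟙 ZY)
    rw [Category.comp_id] at h
    rw [h]
    rfl
  have hX : ∀ {T : Over S} (z : T ⟶ ZX),
      (eX.homEquiv z).1 = (Magnet.AMonS S ↥N ◁ z) ≫ φX.1 := by
    intro T z
    have h := eX.homEquiv_comp z (𝟙 ZX)
    rw [Category.comp_id] at h
    rw [h]
    rfl
  have hjc : ∀ {T : Over S} (z : T ⟶ ZX),
      (eY.homEquiv (z ≫ j)).1 = (eX.homEquiv z).1 ≫ f := by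
    intro T z
    rw [hj T z]
    rfl
  -- `j` is a monomorphism
  have hjmono : Mono j := by
    refine ⟨fun {T} z₁ z₂ h => ?_⟩
    apply eX.homEquiv.injective
    apply Subtype.ext
    rw [← cancel_mono f, ← hjc, ← hjc, h]
  -- the open subscheme
  let ε : ZY ⟶ Y := lift (Groth.Agent.Lib.Helper18.AttrOpen.epsPt N ZY) (𝟙 ZY) ≫ φY.1
  let W : ZY.left.Opens := ε.left ⁻¹ᵁ f.left.opensRange
  let W' : Over S := Over.mk (W.ι ≫ ZY.hom)
  let ιW : W' ⟶ ZY := Over.homMk W.ι rfl
  have hιmono : Mono ιW := by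
    have : Mono ιW.left := by
      change Mono W.ι
      infer_instance
    exact Over.mono_of_mono_left _
  -- `j` lands in `W`
  have hjε : j ≫ ε = (lift (Groth.Agent.Lib.Helper18.AttrOpen.epsPt N ZX) (𝟙 ZX) ≫ φX.1) ≫ f := by
    have h1 : (Magnet.AMonS S ↥N ◁ j) ≫ φY.1 = φX.1 ≫ f := by
      have h2 := hjc (𝟙 ZX)
      rw [Category.id_comp, hY j] at h2
      exact h2
    change j ≫ lift (Groth.Agent.Lib.Helper18.AttrOpen.epsPt N ZY) (𝟙 ZY) ≫ φY.1 = _
    rw [Category.assoc, ← h1, ← Category.assoc, comp_lift, Groth.Agent.Lib.Helper18.AttrOpen.epsPt_comp, Category.comp_id,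
      lift_whiskerLeft_assoc, Category.id_comp]
  have hjW : Set.range j.left ⊆ Set.range W.ι := by
    rw [Scheme.Opens.range_ι]
    rintro _ ⟨q, rfl⟩
    change ε.left (j.left q) ∈ Set.range f.left
    refine ⟨(lift (Groth.Agent.Lib.Helper18.AttrOpen.epsPt N ZX) (𝟙 ZX) ≫ φX.1).left q, ?_⟩
    rw [← Scheme.Hom.comp_apply, ← Scheme.Hom.comp_apply, ← Over.comp_left, ← Over.comp_left, hjε]
  let j'l : ZX.left ⟶ W.toScheme := IsOpenImmersion.lift W.ι j.left hjW
  have hj'l : j'l ≫ W.ι = j.left := IsOpenImmersion.lift_fac _ _ _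
  let j' : ZX ⟶ W' := Over.homMk j'l (by
    change j'l ≫ W.ι ≫ ZY.hom = ZX.hom
    rw [← Category.assoc, hj'l, Over.w j])
  have hj' : j' ≫ ιW = j := by
    ext1
    exact hj'l
  -- the inverse
  let φW : Magnet.AMonS S ↥N ⊗ W' ⟶ Y := (Magnet.AMonS S ↥N ◁ ιW) ≫ φY.1
  have hφW : Magnet.MonAct.IsEquivariant
      ((Magnet.subAct S M N).prod (Magnet.MonAct.trivial (Magnet.AMonS S M) W')) aY φW :=
    ((Magnet.attr aY N).map ιW.op φY).2
  have hεW : Set.range (lift (Groth.Agent.Lib.Helper18.AttrOpen.epsPt N W') (𝟙 W') ≫ φW).left ⊆ Set.range f.left := by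
    have h1 : lift (Groth.Agent.Lib.Helper18.AttrOpen.epsPt N W') (𝟙 W') ≫ φW = ιW ≫ ε := by
      change _ = ιW ≫ lift (Groth.Agent.Lib.Helper18.AttrOpen.epsPt N ZY) (𝟙 ZY) ≫ φY.1
      rw [lift_whiskerLeft_assoc, ← Category.assoc ιW, comp_lift, Groth.Agent.Lib.Helper18.AttrOpen.epsPt_comp, Category.comp_id,
        Category.id_comp]
    rw [h1]
    rintro _ ⟨z, rfl⟩
    have hz : W.ι z ∈ W := by
      have : W.ι z ∈ Set.range W.ι := ⟨z, rfl⟩
      rw [Scheme.Opens.range_ι] at this
      exact this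
    have h2 : ε.left (W.ι z) ∈ Set.range f.left := hz
    rw [Over.comp_left, Scheme.Hom.comp_apply]
    exact h2
  obtain ⟨ψ, hψe, hψf⟩ := Groth.Agent.Lib.Helper18.AttrOpen.exists_attr_of_open N aX aY f hf φW hφW hεW
  let k : W' ⟶ ZX := eX.homEquiv.symm ⟨ψ, hψe⟩
  have hk : k ≫ j = ιW := by
    apply eY.homEquiv.injective
    apply Subtype.ext
    rw [hjc, Equiv.apply_symm_apply, hY ιW]
    exact hψf
  -- `j'` is an isomorphism
  have h1 : j' ≫ k = 𝟙 ZX := by
    rw [← cancel_mono j, Category.assoc, hk, hj', Category.id_comp]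
  have h2 : k ≫ j' = 𝟙 W' := by
    rw [← cancel_mono ιW, Category.assoc, hj', hk, Category.id_comp]
  have hiso : IsIso j' := ⟨⟨k, h1, h2⟩⟩
  have hisol : IsIso j'l := by
    have : IsIso ((Over.forget S).map j') := inferInstance
    exact this
  rw [← hj'l]
  infer_instance

end Groth.Agent.S18235
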