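import Groth.Statements.S18238
import Groth.Agent.Lib.Helper32.SmoothMon.Main

set_option autoImplicit false
universe u
open DiagMon

namespace Groth.Agent.S18238

/-- Let R be a commutative ring and N a fine and sharp commutative monoid (finitely generated,
cancellative, and 0 its only invertible element). If the diagonalizable monoid scheme A(N)_R = Spec
R[N] is smooth over Spec R, then it is a vector bundle over Spec R: the monoid algebra R[N] is
isomorphic as an R-algebra to the symmetric algebra of a finitely generated projective R-module
(existence of such a module and isomorphism). (Affine base; the published statement is over an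
arbitrary base scheme S.) -/
theorem result (R : Type u) [CommRing R] (N : Type)
    [AddCommMonoid N] [AddMonoid.FG N] [IsCancelAdd N] (hsharp : ∀ n : N, IsAddUnit n → n = 0)
    [Algebra.Smooth R (AddMonoidAlgebra R N)] :
    ∃ (P : Type u) (_ : AddCommGroup P) (_ : Module R P), Module.Finite R P ∧ Module.Projective R P ∧
      Nonempty (AddMonoidAlgebra R N ≃ₐ[R] SymmetricAlgebra R P) := by
  classical
  by_cases hR : Subsingleton R
  · have h1 : Subsingleton (AddMonoidAlgebra R N) := Module.subsingleton R _
    have h2 : Subsingleton (SymmetricAlgebra R PUnit.{u + 1}) := Module.subsingleton R _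
    refine ⟨PUnit.{u + 1}, inferInstance, inferInstance, inferInstance, inferInstance, ⟨?_⟩⟩
    exact
      { toFun := fun _ => 0
        invFun := fun _ => 0
        left_inv := fun _ => Subsingleton.elim _ _
        right_inv := fun _ => Subsingleton.elim _ _
        map_mul' := fun _ _ => Subsingleton.elim _ _
        map_add' := fun _ _ => Subsingleton.elim _ _
        commutes' := fun _ => Subsingleton.elim _ _ }
  · have hnt : Nontrivial R := not_subsingleton_iff_nontrivial.mp hR
    obtain ⟨S, hS, hmin⟩ := Groth.Agent.Lib.Helper32.SmoothMon.exists_min_gen (N := N)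
    have hinj := Groth.Agent.Lib.Helper32.SmoothMon.phi_injective R S hS hmin hsharp
    have hsurj := Groth.Agent.Lib.Helper32.SmoothMon.phi_surjective S hS
    let e : ({x // x ∈ S} →₀ ℕ) ≃+ N :=
      AddEquiv.ofBijective (Groth.Agent.Lib.Helper32.SmoothMon.phi S) ⟨hinj, hsurj⟩
    let e1 : MvPolynomial {x // x ∈ S} R ≃ₐ[R] AddMonoidAlgebra R N :=
      AddMonoidAlgebra.domCongr R R e
    let b : Module.Basis {x // x ∈ S} R ({x // x ∈ S} →₀ R) := Finsupp.basisSingleOne
    let e2 := SymmetricAlgebra.equivMvPolynomial b
    exact ⟨{x // x ∈ S} →₀ R, inferInstance, inferInstance, inferInstance, inferInstance,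
      ⟨e1.symm.trans e2.symm⟩⟩

end Groth.Agent.S18238
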