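import Groth.Statements.S18242
import Groth.Agent.Lib.Helper18.AttrHomotopy
import Groth.Agent.Lib.Helper18.AttrConn

set_option autoImplicit false
universe u
open CategoryTheory MonoidalCategory CartesianMonoidalCategory AlgebraicGeometry Opposite
open Magnet

namespace Groth.Agent.S18242

/-- Let S be a scheme, M a finitely generated abelian group, N a finitely generated submonoid of M and Z
= N* its subgroup of invertible elements (a face of N); let X be a scheme locally of finite
presentation over S with an action of the diagonalizable group scheme D(M)_S, admitting an N*-FPR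
atlas: an equivariant, étale and surjective g : U → X where U is a disjoint union of D(M)_S-stable
open subschemes each affine over S, such that for the actions restricted along D(M/Z)_S → D(M)_S the
square of fixed-point subfunctors U^{D(M/Z)} → X^{D(M/Z)} over U → X is cartesian. If the attractors
X^N and X^{N*} are represented by S-schemes Z_N and Z_* and j : Z_N → Z_* is the S-morphism
corresponding to the canonical map X^N → X^{N*} under the two representing bijections, then for
every field K and every K-valued point of Z_* the fibre of j is connected (the fibres are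
geometrically connected), and j induces a bijection on the sets of connected components. (Stated for
schemes; the published statement is for algebraic spaces over S.) -/
theorem result (S : Scheme.{u}) (M : Type) [AddCommGroup M]
    [AddGroup.FG M] (N : AddSubmonoid M) (hN : N.FG) (Z : AddSubgroup M)
    (hZ : ∀ m : M, m ∈ Z ↔ m ∈ Magnet.unitFace N)
    {X : Over S} [LocallyOfFinitePresentation X.hom] (a : Magnet.MonAct (Magnet.AMonS S M) X)
    (U : Over S) (aU : Magnet.MonAct (Magnet.AMonS S M) U) (g : U ⟶ X)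
    (hg : Magnet.MonAct.IsEquivariant aU a g) [Etale g.left] [Surjective g.left]
    (ι : Type u) (V : ι → U.left.Opens) (hVd : ∀ i i', i ≠ i' → Disjoint (V i) (V i'))
    (hVc : ⨆ i, V i = ⊤) (hVa : ∀ i, IsAffineHom ((V i).ι ≫ U.hom))
    (hVs : ∀ i, (CartesianMonoidalCategory.snd (Magnet.AMonS S M) U).left ⁻¹ᵁ (V i) ≤ aU.act.left ⁻¹ᵁ (V i))
    (hgZ : Magnet.MonAct.IsEquivariant (aU.restrict (Magnet.AMonS.map S (QuotientAddGroup.mk' Z))) (a.restrict (Magnet.AMonS.map S (QuotientAddGroup.mk' Z))) g)
    (hfpr : IsPullback (Magnet.MonAct.fixedPsh.map g hgZ)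
      (Magnet.MonAct.fixedPshι (aU.restrict (Magnet.AMonS.map S (QuotientAddGroup.mk' Z))))
      (Magnet.MonAct.fixedPshι (a.restrict (Magnet.AMonS.map S (QuotientAddGroup.mk' Z)))) (yoneda.map g))
    {ZN Z0 : Over S} (eN : (Magnet.attr a N).RepresentableBy ZN)
    (e0 : (Magnet.attr a (Magnet.unitFace N)).RepresentableBy Z0) (j : ZN ⟶ Z0)
    (hj : ∀ (T : Over S) (z : T ⟶ ZN), e0.homEquiv (z ≫ j) = (Magnet.attrFace a (Magnet.isFace_unitFace N)).app (op T) (eN.homEquiv z)) :
    (∀ (K : Type u) [Field K] (k : Spec (CommRingCat.of K) ⟶ Z0.left),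
        ConnectedSpace ↥(Limits.pullback j.left k)) ∧
      Function.Bijective (Continuous.connectedComponentsMap (Scheme.Hom.continuous j.left)) := by
  classical
  have hF := Magnet.isFace_unitFace N
  obtain ⟨δ, d1, d2, d3, d4, d5⟩ :=
    Groth.Agent.Lib.Helper18.AttrHomotopy.exists_homotopy a hN (Magnet.isFace_unitFace N)
  have hcomp : ∀ {T T' : Over S} (t : T' ⟶ T) (z : T ⟶ ZN),
      eN.homEquiv (t ≫ z) = (Magnet.attr a N).map t.op (eN.homEquiv z) :=
    fun t z => eN.homEquiv_comp t z
  have hcomp0 : ∀ {T T' : Over S} (t : T' ⟶ T) (z : T ⟶ Z0),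
      e0.homEquiv (t ≫ z) = (Magnet.attr a (Magnet.unitFace N)).map t.op (e0.homEquiv z) :=
    fun t z => e0.homEquiv_comp t z
  -- the section
  let s : Z0 ⟶ ZN := eN.homEquiv.symm
    ((Magnet.attrMap a (Magnet.isFace_unitFace N).le).app (op Z0) (e0.homEquiv (𝟙 Z0)))
  have hs : s ≫ j = 𝟙 Z0 := by
    apply e0.homEquiv.injective
    rw [hj, Equiv.apply_symm_apply]
    exact congrArg (fun m => m.app (op Z0) (e0.homEquiv (𝟙 Z0)))
      (Magnet.attrMap_comp_attrFace a (Magnet.isFace_unitFace N))
  -- the homotopy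
  let H : ∀ (T : Over S), (T ⟶ ZN) → Γ(T.left, ⊤) → (T ⟶ ZN) :=
    fun T z c => eN.homEquiv.symm (δ T (eN.homEquiv z) c)
  have H1 : ∀ (T : Over S) (z : T ⟶ ZN), H T z 1 = z := by
    intro T z
    change eN.homEquiv.symm (δ T (eN.homEquiv z) 1) = z
    rw [d3, Equiv.symm_apply_apply]
  have H0 : ∀ (T : Over S) (z : T ⟶ ZN), H T z 0 = z ≫ j ≫ s := by
    intro T z
    apply eN.homEquiv.injective
    change eN.homEquiv (eN.homEquiv.symm (δ T (eN.homEquiv z) 0)) = _
    rw [Equiv.apply_symm_apply, d2, ← hj, ← Category.assoc, hcomp (z ≫ j) s,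
      Equiv.apply_symm_apply]
    have h1 := NatTrans.naturality_apply (Magnet.attrMap a (Magnet.isFace_unitFace N).le)
      (z ≫ j).op (e0.homEquiv (𝟙 Z0))
    rw [← h1, ← hcomp0, Category.comp_id]
  have Hj : ∀ (T : Over S) (z : T ⟶ ZN) (c : Γ(T.left, ⊤)), H T z c ≫ j = z ≫ j := by
    intro T z c
    apply e0.homEquiv.injective
    rw [hj, hj]
    change (Magnet.attrFace a (Magnet.isFace_unitFace N)).app (op T)
      (eN.homEquiv (eN.homEquiv.symm (δ T (eN.homEquiv z) c))) = _
    rw [Equiv.apply_symm_apply, d5]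
  have Hnat : ∀ (T T' : Over S) (t : T' ⟶ T) (z : T ⟶ ZN) (c : Γ(T.left, ⊤)),
      t ≫ H T z c = H T' (t ≫ z) (t.left.appTop c) := by
    intro T T' t z c
    apply eN.homEquiv.injective
    rw [hcomp]
    change (Magnet.attr a N).map t.op (eN.homEquiv (eN.homEquiv.symm (δ T (eN.homEquiv z) c))) =
      eN.homEquiv (eN.homEquiv.symm (δ T' (eN.homEquiv (t ≫ z)) (t.left.appTop c)))
    rw [Equiv.apply_symm_apply, Equiv.apply_symm_apply, hcomp, d1]
  exact ⟨fun K _ k => Groth.Agent.Lib.Helper18.AttrConn.connected_fibre j s hs H H1 H0 Hj Hnat K k,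
    Groth.Agent.Lib.Helper18.AttrConn.bijective_connectedComponentsMap j s hs H H1 H0 Hj Hnat⟩

end Groth.Agent.S18242
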