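import Groth.Statements.S18243
import Mathlib
import Groth.Agent.Lib.Helper18.EqvPushout
import Groth.Agent.Lib.Helper18.EqvPushoutSch
import Groth.Agent.Lib.Helper18.FacePushAttr

set_option autoImplicit false
universe u
open CategoryTheory MonoidalCategory CartesianMonoidalCategory AlgebraicGeometry Opposite
open Magnet

namespace Groth.Agent.S18243


open Groth.Agent.Lib.Helper18.EqvPushout Groth.Agent.Lib.Helper18.EqvPushoutSch
  Groth.Agent.Lib.Helper18.FacePush CategoryTheory.Limits

theorem flat_AMon_hom' (K : Type) [AddCommMonoid K] : Flat (AMon (ULift.{u} ℤ) K).hom := by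
  have h1 : (AMon (ULift.{u} ℤ) K).hom = Spec.map (CommRingCat.ofHom
      (algebraMap (ULift.{u} ℤ) (MonoidAlgebra (ULift.{u} ℤ) (Multiplicative K)))) := rfl
  have h2 : Flat (Spec.map (CommRingCat.ofHom
      (algebraMap (ULift.{u} ℤ) (MonoidAlgebra (ULift.{u} ℤ) (Multiplicative K))))) := by
    rw [Flat.SpecMap_iff]
    change (algebraMap (ULift.{u} ℤ) (MonoidAlgebra (ULift.{u} ℤ) (Multiplicative K))).Flat
    rw [RingHom.flat_algebraMap_iff]
    infer_instance
  rw [h1]
  exact h2

theorem flat_AMonS_hom (T : Scheme.{u}) (K : Type) [AddCommMonoid K] : Flat (AMonS T K).hom := by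
  have := flat_AMon_hom'.{u} K
  change Flat (pullback.snd (AMon (ULift.{u} ℤ) K).hom _)
  infer_instance

theorem flat_tensor_hom {T : Scheme.{u}} (A B : Over T) [Flat A.hom] [Flat B.hom] :
    Flat (A ⊗ B).hom := by
  have h : (A ⊗ B).hom = (fst A B).left ≫ A.hom := (Over.w (fst A B)).symm
  have h1 : Flat (fst A B).left := by
    change Flat (pullback.fst A.hom B.hom)
    infer_instance
  rw [h]
  infer_instance

theorem isEquivariant_fst {C : Type*} [Category C] [CartesianMonoidalCategory C] {A : C} [MonObj A]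
    {B : C} (ρ : MonAct A B) (T : C) :
    MonAct.IsEquivariant (ρ.prod (MonAct.trivial A T)) ρ (fst B T) := by
  rw [MonAct.isEquivariant_iff]
  intro T' g z
  have hz : z = lift (z ≫ fst _ _) (z ≫ snd _ _) := (lift_comp_fst_snd z).symm
  generalize z ≫ fst _ _ = b at hz
  generalize z ≫ snd _ _ = t at hz
  subst hz
  rw [MonAct.lift_prod_act_assoc, lift_fst]


/-- Let T be an affine scheme and T̄ → T a first-order thickening, M a finitely generated abelian group,
N a submonoid of M and F a face of N. Consider the span A(F)_T ← A(F)_T ×_T T̄ → A(N)_T ×_T T̄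
formed by the first projection and by the face closed immersion A(F) → A(N) times T̄, everything
with its action of the diagonalizable group scheme D(M)_T (acting trivially on T̄). Then there are a
T-scheme P, affine, with morphisms ν₁ : A(F)_T → P and ν₂ : A(N)_T ×_T T̄ → P forming a push-out
square in T-schemes, and an action of D(M)_T on P for which ν₁ and ν₂ are equivariant, such that P
is also a push-out for equivariant morphisms: for every T-scheme X with an action of D(M)_T and
equivariant f₁ : A(F)_T → X, f₂ : A(N)_T ×_T T̄ → X agreeing on A(F)_T ×_T T̄, the induced morphism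
P → X is equivariant. (Stated for schemes over T; the published statement is in algebraic spaces
over T.) -/
theorem result (T : Scheme.{u}) [IsAffine T] (M : Type) [AddCommGroup M]
    [AddGroup.FG M] {N F : AddSubmonoid M} (hF : Magnet.IsFace N F) (Tb : Over T)
    (hTb : MoreMor.IsFirstOrderThickening Tb.hom) :
    ∃ (P : Over T) (ν₁ : Magnet.AMonS T F ⟶ P) (ν₂ : Magnet.AMonS T N ⊗ Tb ⟶ P)
      (hP : IsPushout (CartesianMonoidalCategory.fst (Magnet.AMonS T F) Tb) (Magnet.AMonS.faceMap T hF ▷ Tb) ν₁ ν₂)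
      (aP : Magnet.MonAct (Magnet.AMonS T M) P),
      IsAffine P.left ∧ Magnet.MonAct.IsEquivariant (Magnet.subAct T M F) aP ν₁ ∧
      Magnet.MonAct.IsEquivariant ((Magnet.subAct T M N).prod (Magnet.MonAct.trivial (Magnet.AMonS T M) Tb)) aP ν₂ ∧
      ∀ (X : Over T) (aX : Magnet.MonAct (Magnet.AMonS T M) X) (f₁ : Magnet.AMonS T F ⟶ X)
        (f₂ : Magnet.AMonS T N ⊗ Tb ⟶ X)
        (w : CartesianMonoidalCategory.fst (Magnet.AMonS T F) Tb ≫ f₁ = (Magnet.AMonS.faceMap T hF ▷ Tb) ≫ f₂),
        Magnet.MonAct.IsEquivariant (Magnet.subAct T M F) aX f₁ →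
        Magnet.MonAct.IsEquivariant ((Magnet.subAct T M N).prod (Magnet.MonAct.trivial (Magnet.AMonS T M) Tb)) aX f₂ →
        Magnet.MonAct.IsEquivariant aP aX (hP.desc f₁ f₂ w) := by
  have hcl : IsClosedImmersion Tb.hom := hTb.1.1
  have hTbA : IsAffine Tb.left := isAffine_of_isAffineHom Tb.hom
  have hXA : IsAffine (AMonS T F).left := by
    change IsAffine (pullback (AMon (ULift.{u} ℤ) F).hom _)
    have : IsAffine (AMon (ULift.{u} ℤ) ↥F).left := by
      change IsAffine (Spec _)
      infer_instance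
    infer_instance
  have hNA : IsAffine (AMonS T N).left := by
    change IsAffine (pullback (AMon (ULift.{u} ℤ) N).hom _)
    have : IsAffine (AMon (ULift.{u} ℤ) ↥N).left := by
      change IsAffine (Spec _)
      infer_instance
    infer_instance
  have hYA : IsAffine (AMonS T N ⊗ Tb).left := by
    change IsAffine (pullback (AMonS T N).hom Tb.hom)
    infer_instance
  have hZA : IsAffine (AMonS T F ⊗ Tb).left := by
    change IsAffine (pullback (AMonS T F).hom Tb.hom)
    infer_instance
  have hicl : IsClosedImmersion (fst (AMonS T F) Tb).left := by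
    change IsClosedImmersion (pullback.fst (AMonS T F).hom Tb.hom)
    infer_instance
  obtain ⟨P₀, a₀, b₀, hPA, hP₀⟩ := exists_affine_pushout (fst (AMonS T F) Tb).left
    (AMonS.faceMap T hF ▷ Tb).left
  let P : Over T := Over.mk (hP₀.desc (AMonS T F).hom (AMonS T N ⊗ Tb).hom
    (by rw [Over.w, Over.w]))
  let ν₁ : AMonS T F ⟶ P := Over.homMk a₀ (hP₀.inl_desc _ _ _)
  let ν₂ : AMonS T N ⊗ Tb ⟶ P := Over.homMk b₀ (hP₀.inr_desc _ _ _)
  have comm : fst (AMonS T F) Tb ≫ ν₁ = (AMonS.faceMap T hF ▷ Tb) ≫ ν₂ := by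
    ext : 1
    exact hP₀.w
  have hP₀' : IsPushout (fst (AMonS T F) Tb).left (AMonS.faceMap T hF ▷ Tb).left ν₁.left ν₂.left :=
    hP₀
  have hP : IsPushout (fst (AMonS T F) Tb) (AMonS.faceMap T hF ▷ Tb) ν₁ ν₂ :=
    IsPushout.of_map (Over.forget T) comm hP₀'
  have hCond := cond_affine (fst (AMonS T F) Tb).left (AMonS.faceMap T hF ▷ Tb).left
  have hflatG : Flat (AMonS T M).hom := flat_AMonS_hom T M
  have hflatGG : Flat (AMonS T M ⊗ AMonS T M).hom := flat_tensor_hom _ _
  have hG := isPushout_whiskerLeft_of_flat (AMonS T M) hCond hP₀' comm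
  have hGG := isPushout_whiskerLeft_of_flat (AMonS T M ⊗ AMonS T M) hCond hP₀' comm
  have hi := isEquivariant_fst (subAct T M F) Tb
  have hj := isEquivariant_whiskerRight (AMonS.faceMap T hF) (isEquivariant_faceMapS T hF) Tb
  refine ⟨P, ν₁, ν₂, hP, monActP (subAct T M F)
    ((subAct T M N).prod (MonAct.trivial (AMonS T M) Tb))
    ((subAct T M F).prod (MonAct.trivial (AMonS T M) Tb)) hi hj hP hG hGG, hPA,
    isEquivariant_a _ _ _ hi hj hP hG hGG, isEquivariant_b _ _ _ hi hj hP hG hGG, ?_⟩
  intro X aX f₁ f₂ w h₁ h₂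
  exact isEquivariant_desc _ _ _ hi hj hP hG hGG aX f₁ f₂ w h₁ h₂

end Groth.Agent.S18243
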