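import Groth.Statements.S18247
-- import your own Groth.Agent.* helpers here

set_option autoImplicit false
universe u
open W4c5m1nsnscurves
open Curves

set_option linter.unusedSectionVars false

namespace Groth.Agent.S18247Aux

open W4c5m1nsnscurves MvPolynomial

/-- the polynomial standing for `c_{10}` -/
noncomputable def Y : MvPolynomial (Fin 6) ℤ := X 0 + X 1 + X 2 + X 3 + X 4 - X 5

/-- images of the generators -/
noncomputable def v : UGen 2 → MvPolynomial (Fin 6) ℤ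
  | .a => X 0
  | .c => Y * X 3 + X 5 * X 1 - X 1 * X 3
  | .cb => Y * X 2 + X 5 * X 4 - X 2 * X 4
  | .ci i => if i = 0 then X 1 else X 3
  | .cbi i => if i = 0 then X 2 else X 4
  | .cij i _ _ => if i = 0 then X 5 else Y

theorem v_rel : ∀ r ∈ URel ℤ 2, aeval v r = 0 := by
  intro r hr
  simp only [URel, Set.mem_union, Set.mem_range] at hr
  rcases hr with ((⟨⟨⟨i, j⟩, h⟩, rfl⟩ | ⟨⟨⟨i, j⟩, h⟩, rfl⟩) | ⟨⟨⟨i, j⟩, h⟩, rfl⟩) | ⟨⟨⟨i, j, l⟩, h⟩, rfl⟩
  · fin_cases i <;> fin_cases j <;> simp at h <;> simp [v, Y] <;> ring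
  · fin_cases i <;> fin_cases j <;> simp at h <;> simp [v, Y] <;> ring
  · fin_cases i <;> fin_cases j <;> simp at h <;> simp [v, Y] <;> ring
  · exfalso
    fin_cases i <;> fin_cases j <;> fin_cases l <;> simp at h


/-- the inverse map -/
noncomputable def psi : URing ℤ 2 →ₐ[ℤ] MvPolynomial (Fin 6) ℤ :=
  Ideal.Quotient.liftₐ _ (aeval v) (by
    intro p hp
    have : Ideal.span (URel ℤ 2) ≤ RingHom.ker (aeval v : MvPolynomial (UGen 2) ℤ →ₐ[ℤ] _) := by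
      rw [Ideal.span_le]
      intro r hr
      exact v_rel r hr
    exact this hp)

theorem psi_ugen (g : UGen 2) : psi (ugen ℤ 2 g) = v g := by
  show aeval v (X g) = v g
  rw [aeval_X]

/-- the forward map -/
noncomputable def phi : MvPolynomial (Fin 6) ℤ →ₐ[ℤ] URing ℤ 2 :=
  MvPolynomial.aeval (R := ℤ) (S₁ := URing ℤ 2)
      ![ugen ℤ 2 .a, ugen ℤ 2 (.ci 0), ugen ℤ 2 (.cbi 0), ugen ℤ 2 (.ci 1), ugen ℤ 2 (.cbi 1),
        ugen ℤ 2 (.cij 0 1 Fin.zero_ne_one)]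

theorem rel_mem (r : MvPolynomial (UGen 2) ℤ) (hr : r ∈ URel ℤ 2) :
    Ideal.Quotient.mk (Ideal.span (URel ℤ 2)) r = 0 :=
  Ideal.Quotient.eq_zero_iff_mem.mpr (Ideal.subset_span hr)

theorem relL : ugen ℤ 2 (.cij 0 1 Fin.zero_ne_one) + ugen ℤ 2 (.cij 1 0 (Ne.symm Fin.zero_ne_one)) =
    ugen ℤ 2 .a + ugen ℤ 2 (.ci 0) + ugen ℤ 2 (.cbi 0) + ugen ℤ 2 (.ci 1) + ugen ℤ 2 (.cbi 1) := by
  have := rel_mem _ (Or.inl (Or.inl (Or.inl ⟨⟨⟨0, 1⟩, Fin.zero_ne_one⟩, rfl⟩)))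
  simp only [map_sub, map_add] at this
  exact sub_eq_zero.mp this

theorem relC : ugen ℤ 2 (.cij 1 0 (Ne.symm Fin.zero_ne_one)) * ugen ℤ 2 (.ci 1) +
    ugen ℤ 2 (.cij 0 1 Fin.zero_ne_one) * ugen ℤ 2 (.ci 0) - ugen ℤ 2 (.ci 0) * ugen ℤ 2 (.ci 1) =
    ugen ℤ 2 .c := by
  have := rel_mem _ (Or.inl (Or.inl (Or.inr ⟨⟨⟨0, 1⟩, Fin.zero_ne_one⟩, rfl⟩)))
  simp only [map_sub, map_add, map_mul] at this
  exact sub_eq_zero.mp this

theorem relCb : ugen ℤ 2 (.cij 1 0 (Ne.symm Fin.zero_ne_one)) * ugen ℤ 2 (.cbi 0) +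
    ugen ℤ 2 (.cij 0 1 Fin.zero_ne_one) * ugen ℤ 2 (.cbi 1) - ugen ℤ 2 (.cbi 0) * ugen ℤ 2 (.cbi 1) =
    ugen ℤ 2 .cb := by
  have := rel_mem _ (Or.inl (Or.inr ⟨⟨⟨0, 1⟩, Fin.zero_ne_one⟩, rfl⟩))
  simp only [map_sub, map_add, map_mul] at this
  exact sub_eq_zero.mp this

theorem phi_Y : phi Y = ugen ℤ 2 (.cij 1 0 (Ne.symm Fin.zero_ne_one)) := by
  have : phi Y = ugen ℤ 2 .a + ugen ℤ 2 (.ci 0) + ugen ℤ 2 (.cbi 0) + ugen ℤ 2 (.ci 1) + ugen ℤ 2 (.cbi 1)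
      - ugen ℤ 2 (.cij 0 1 Fin.zero_ne_one) := by
    simp [phi, Y]
  rw [this, ← relL]; ring

theorem phi_v (g : UGen 2) : phi (v g) = ugen ℤ 2 g := by
  cases g with
  | a => simp [v, phi]
  | c =>
    rw [← relC]
    simp only [v, map_sub, map_add, map_mul, phi_Y]
    simp [phi]
  | cb =>
    rw [← relCb]
    simp only [v, map_sub, map_add, map_mul, phi_Y]
    simp [phi]
  | ci i => fin_cases i <;> simp [v, phi]
  | cbi i => fin_cases i <;> simp [v, phi]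
  | cij i j h =>
    fin_cases i <;> fin_cases j <;> simp at h
    · simp [v, phi]
    · simp only [v]
      simp only [Fin.mk_one, Fin.isValue, one_ne_zero, ↓reduceIte]
      exact phi_Y

end Groth.Agent.S18247Aux

namespace Groth.Agent.S18247

/-- Case n = 5: the coordinate ring of U_5 over ℤ (m = 2 indices, standing for the points 4 and 5;
generators a, c, c̄, c_4, c̄_4, c_5, c̄_5, c_{45}, c_{54} with the linear and the two quadratic
relations for the one pair of indices, and no triple) is the polynomial ring on a, c_4, c̄_4, c_5,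
c̄_5, c_{45}: the ℤ-algebra map from the polynomial ring in six variables sending the variables to
these six classes, in this order, is bijective. -/
theorem result :
    Function.Bijective (MvPolynomial.aeval (R := ℤ) (S₁ := URing ℤ 2)
      ![ugen ℤ 2 .a, ugen ℤ 2 (.ci 0), ugen ℤ 2 (.cbi 0), ugen ℤ 2 (.ci 1), ugen ℤ 2 (.cbi 1),
        ugen ℤ 2 (.cij 0 1 Fin.zero_ne_one)]) := by
  have h1 : S18247Aux.psi.comp S18247Aux.phi = AlgHom.id ℤ _ := by
    apply MvPolynomial.algHom_ext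
    intro i
    have hphi : S18247Aux.phi (MvPolynomial.X i) = (![ugen ℤ 2 .a, ugen ℤ 2 (.ci 0), ugen ℤ 2 (.cbi 0), ugen ℤ 2 (.ci 1), ugen ℤ 2 (.cbi 1),
        ugen ℤ 2 (.cij 0 1 Fin.zero_ne_one)] : Fin 6 → URing ℤ 2) i := MvPolynomial.aeval_X _ _
    rw [AlgHom.comp_apply, hphi]
    fin_cases i <;> simp [S18247Aux.psi_ugen, S18247Aux.v]
  have h2 : S18247Aux.phi.comp S18247Aux.psi = AlgHom.id ℤ _ := by
    apply Ideal.Quotient.algHom_ext
    apply MvPolynomial.algHom_ext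
    intro g
    show S18247Aux.phi (S18247Aux.psi (ugen ℤ 2 g)) = ugen ℤ 2 g
    rw [S18247Aux.psi_ugen, S18247Aux.phi_v]
  refine ⟨?_, ?_⟩
  · intro x y hxy
    have := congrArg S18247Aux.psi hxy
    have hx : S18247Aux.psi (S18247Aux.phi x) = x := AlgHom.congr_fun h1 x
    have hy : S18247Aux.psi (S18247Aux.phi y) = y := AlgHom.congr_fun h1 y
    exact hx.symm.trans (this.trans hy)
  · intro z
    exact ⟨S18247Aux.psi z, AlgHom.congr_fun h2 z⟩

end Groth.Agent.S18247
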