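import Groth.Statements.S18248
import Mathlib

set_option autoImplicit false
universe u
open W4c5m1nsnscurves
open Curves

namespace Groth.Agent.S18248

section
open MvPolynomial

variable (R : Type u) [CommRing R] (m : ℕ)

theorem urel1 (i j : Fin m) (h : i ≠ j) :
    ugen R m (.cij i j h) + ugen R m (.cij j i (Ne.symm h)) =
      ugen R m .a + ugen R m (.ci i) + ugen R m (.cbi i) + ugen R m (.ci j) + ugen R m (.cbi j) := by
  have := Ideal.Quotient.eq_zero_iff_mem.mpr (Ideal.subset_span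
    (show (X (.cij i j h) + X (.cij j i (Ne.symm h)) -
      (X .a + X (.ci i) + X (.cbi i) + X (.ci j) + X (.cbi j)) : MvPolynomial (UGen m) R) ∈ URel R m from
      Or.inl (Or.inl (Or.inl ⟨⟨(i, j), h⟩, rfl⟩))))
  simp only [map_sub, map_add, sub_eq_zero] at this
  exact this

theorem urel2 (i j : Fin m) (h : i ≠ j) :
    ugen R m (.cij j i (Ne.symm h)) * ugen R m (.ci j) + ugen R m (.cij i j h) * ugen R m (.ci i) -
      ugen R m (.ci i) * ugen R m (.ci j) - ugen R m .c = 0 := by
  have := Ideal.Quotient.eq_zero_iff_mem.mpr (Ideal.subset_span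
    (show (X (.cij j i (Ne.symm h)) * X (.ci j) + X (.cij i j h) * X (.ci i) -
      X (.ci i) * X (.ci j) - X .c : MvPolynomial (UGen m) R) ∈ URel R m from
      Or.inl (Or.inl (Or.inr ⟨⟨(i, j), h⟩, rfl⟩))))
  simp only [map_sub, map_add, map_mul] at this
  exact this

theorem urel3 (i j : Fin m) (h : i ≠ j) :
    ugen R m (.cij j i (Ne.symm h)) * ugen R m (.cbi i) + ugen R m (.cij i j h) * ugen R m (.cbi j) -
      ugen R m (.cbi i) * ugen R m (.cbi j) - ugen R m .cb = 0 := by
  have := Ideal.Quotient.eq_zero_iff_mem.mpr (Ideal.subset_span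
    (show (X (.cij j i (Ne.symm h)) * X (.cbi i) + X (.cij i j h) * X (.cbi j) -
      X (.cbi i) * X (.cbi j) - X .cb : MvPolynomial (UGen m) R) ∈ URel R m from
      Or.inl (Or.inr ⟨⟨(i, j), h⟩, rfl⟩)))
  simp only [map_sub, map_add, map_mul] at this
  exact this

abbrev TT (m : ℕ) : Type := Option (Fin m ⊕ (Fin m ⊕ {q : Fin m × Fin m // q.1 < q.2}))

def tgen : TT m → UGen m
  | none => .a
  | some (Sum.inl i) => .ci i
  | some (Sum.inr (Sum.inl i)) => .cbi i
  | some (Sum.inr (Sum.inr q)) => .cij q.1.1 q.1.2 (ne_of_lt q.2)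

theorem card_lt_pairs : Fintype.card {q : Fin m × Fin m // q.1 < q.2} * 2 = m * (m - 1) := by
  classical
  rw [Fintype.card_subtype, Finset.card_filter, ← Finset.univ_product_univ, Finset.sum_product,
    Finset.sum_comm]
  have : ∀ j : Fin m, (∑ i : Fin m, if i < j then 1 else 0) = (j : ℕ) := by
    intro j
    rw [← Finset.card_filter]
    have : (Finset.univ.filter (fun i : Fin m => i < j)) = Finset.Iio j := by
      ext i; simp
    rw [this, Fin.card_Iio]
  simp only [this]
  rw [Fin.sum_univ_eq_sum_range (fun k => k) m, Finset.sum_range_id_mul_two]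

theorem card_TT (hm : 1 ≤ m) : Fintype.card (TT m) = (m + 2) * (m + 1) / 2 := by
  have h := card_lt_pairs m
  rw [Fintype.card_option, Fintype.card_sum, Fintype.card_sum, Fintype.card_fin]
  set N := Fintype.card {q : Fin m × Fin m // q.1 < q.2}
  obtain ⟨k, rfl⟩ : ∃ k, m = k + 1 := ⟨m - 1, by omega⟩
  simp only [Nat.add_sub_cancel] at h
  have : (k + 1 + 2) * (k + 1 + 1) = (k + 1 + (k + 1 + N) + 1) * 2 := by nlinarith
  rw [this, Nat.mul_div_cancel _ (by norm_num)]

variable (K : Type u) [CommRing K]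

noncomputable def wv : UGen m → (TT m → K)
  | .a => Pi.single none 1
  | .c => 0
  | .cb => 0
  | .ci i => Pi.single (some (Sum.inl i)) 1
  | .cbi i => Pi.single (some (Sum.inr (Sum.inl i))) 1
  | .cij i j h =>
      if hlt : i < j then Pi.single (some (Sum.inr (Sum.inr ⟨(i, j), hlt⟩))) 1
      else Pi.single none 1 + Pi.single (some (Sum.inl i)) 1 + Pi.single (some (Sum.inr (Sum.inl i))) 1 +
        Pi.single (some (Sum.inl j)) 1 + Pi.single (some (Sum.inr (Sum.inl j))) 1 -
        Pi.single (some (Sum.inr (Sum.inr ⟨(j, i), lt_of_le_of_ne (not_lt.mp hlt) (Ne.symm h)⟩))) 1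

theorem wv_pair (i j : Fin m) (h : i ≠ j) :
    wv m K (.cij i j h) + wv m K (.cij j i (Ne.symm h)) =
      wv m K .a + wv m K (.ci i) + wv m K (.cbi i) + wv m K (.ci j) + wv m K (.cbi j) := by
  rcases lt_or_gt_of_ne h with hlt | hgt
  · have hn : ¬ j < i := not_lt_of_gt hlt
    simp only [wv, dif_pos hlt, dif_neg hn]
    abel
  · have hn : ¬ i < j := not_lt_of_gt hgt
    simp only [wv, dif_pos hgt, dif_neg hn]
    abel

theorem wv_tgen (t : TT m) : wv m K (tgen m t) = Pi.single t 1 := by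
  rcases t with _ | i | i | ⟨⟨i, j⟩, hlt⟩
  · rfl
  · rfl
  · rfl
  · simp only [tgen, wv]
    rw [dif_pos hlt]

noncomputable def theta0 : MvPolynomial (UGen m) K →ₐ[K] TrivSqZeroExt K (TT m → K) :=
  aeval (fun g => TrivSqZeroExt.inr (wv m K g))

theorem theta0_X (g : UGen m) : theta0 m K (X g) = TrivSqZeroExt.inr (wv m K g) := by
  simp [theta0]

theorem theta0_rel : ∀ p ∈ Ideal.span (URel K m), theta0 m K p = 0 := by
  intro p hp
  have hle : Ideal.span (URel K m) ≤ RingHom.ker (theta0 m K).toRingHom := by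
    rw [Ideal.span_le]
    intro p hp
    rw [SetLike.mem_coe, RingHom.mem_ker]
    show theta0 m K p = 0
    rcases hp with ((⟨⟨⟨i, j⟩, hij⟩, rfl⟩ | ⟨⟨⟨i, j⟩, hij⟩, rfl⟩) | ⟨⟨⟨i, j⟩, hij⟩, rfl⟩) |
      ⟨⟨⟨i, j, k⟩, hij, hjk, hik⟩, rfl⟩
    · simp only [map_sub, map_add, theta0_X, ← TrivSqZeroExt.inr_add, ← TrivSqZeroExt.inr_sub]
      have := wv_pair m K i j hij
      rw [this, sub_self, TrivSqZeroExt.inr_zero]
    · simp only [map_sub, map_add, map_mul, theta0_X, TrivSqZeroExt.inr_mul_inr]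
      simp [wv]
    · simp only [map_sub, map_add, map_mul, theta0_X, TrivSqZeroExt.inr_mul_inr]
      simp [wv]
    · simp only [map_sub, map_add, map_mul, theta0_X, TrivSqZeroExt.inr_mul_inr, add_mul]
      simp [wv]
  exact RingHom.mem_ker.mp (hle hp)

noncomputable def theta : URing K m →ₐ[K] TrivSqZeroExt K (TT m → K) :=
  Ideal.Quotient.liftₐ (Ideal.span (URel K m)) (theta0 m K) (theta0_rel m K)

theorem theta_ugen (g : UGen m) : theta m K (ugen K m g) = TrivSqZeroExt.inr (wv m K g) := by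
  show (Ideal.Quotient.liftₐ _ _ _) (Ideal.Quotient.mk _ (X g)) = _
  rw [Ideal.Quotient.liftₐ_apply]
  exact (theta0_X m K g)

theorem ugen_mem (g : UGen m) : ugen K m g ∈ uorigin K m :=
  Ideal.subset_span ⟨g, rfl⟩

theorem theta_fst_zero : ∀ x ∈ uorigin K m, (theta m K x).fst = 0 := by
  intro x hx
  have hle : uorigin K m ≤ RingHom.ker
      ((TrivSqZeroExt.fstHom K K (TT m → K)).comp (theta m K)).toRingHom := by
    unfold uorigin
    rw [Ideal.span_le]
    rintro _ ⟨g, rfl⟩
    rw [SetLike.mem_coe, RingHom.mem_ker]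
    show (theta m K (ugen K m g)).fst = 0
    rw [theta_ugen, TrivSqZeroExt.fst_inr]
  exact RingHom.mem_ker.mp (hle hx)

theorem theta_sq_zero : ∀ x ∈ (uorigin K m) ^ 2, theta m K x = 0 := by
  intro x hx
  have hle : (uorigin K m) ^ 2 ≤ RingHom.ker (theta m K).toRingHom := by
    rw [pow_two, Ideal.mul_le]
    intro a ha b hb
    rw [RingHom.mem_ker]
    show theta m K (a * b) = 0
    rw [map_mul]
    have h1 := theta_fst_zero m K a ha
    have h2 := theta_fst_zero m K b hb
    ext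
    · simp [h1]
    · simp [h1, h2]
  exact RingHom.mem_ker.mp (hle hx)

theorem exists_const (x : URing K m) : ∃ r : K, x - algebraMap K (URing K m) r ∈ uorigin K m := by
  obtain ⟨p, rfl⟩ := Ideal.Quotient.mk_surjective x
  induction p using MvPolynomial.induction_on with
  | C r => exact ⟨r, by
      have : (Ideal.Quotient.mk (Ideal.span (URel K m))) (C r) = algebraMap K (URing K m) r := rfl
      rw [this, sub_self]; exact zero_mem _⟩
  | add p q hp hq =>
    obtain ⟨r1, h1⟩ := hp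
    obtain ⟨r2, h2⟩ := hq
    refine ⟨r1 + r2, ?_⟩
    rw [map_add, map_add]
    have := add_mem h1 h2
    convert this using 1
    ring
  | mul_X p g _ =>
    refine ⟨0, ?_⟩
    rw [map_zero, sub_zero, map_mul]
    exact Ideal.mul_mem_left _ _ (ugen_mem m K g)

theorem cot_smul {R : Type u} [CommRing R] [Algebra K R] (I : Ideal R) (r : K) (x : I) :
    I.toCotangent (r • x) = r • I.toCotangent x :=
  LinearMap.map_smul_of_tower _ r x

theorem cot_alg_smul {R : Type u} [CommRing R] [Algebra K R] (I : Ideal R) (r : K) (z : I.Cotangent) :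
    (algebraMap K R r) • z = r • z :=
  algebraMap_smul R r z

theorem cot_split {R : Type u} [CommRing R] [Algebra K R] (I : Ideal R) (u : R) (r : K)
    (hr : u - algebraMap K R r ∈ I) (z : I.Cotangent) : u • z = r • z := by
  calc u • z = ((u - algebraMap K R r) + algebraMap K R r) • z := by rw [sub_add_cancel]
    _ = (u - algebraMap K R r) • z + (algebraMap K R r) • z := add_smul _ _ _
    _ = r • z := by rw [Ideal.Cotangent.smul_eq_zero_of_mem hr, zero_add, algebraMap_smul]

noncomputable def bb (t : TT m) : (uorigin K m).Cotangent :=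
  (uorigin K m).toCotangent ⟨ugen K m (tgen m t), ugen_mem m K _⟩

theorem bb_li : LinearIndependent K (bb m K) := by
  classical
  rw [Fintype.linearIndependent_iff]
  intro r hr
  let y : uorigin K m := ∑ t, r t • (⟨ugen K m (tgen m t), ugen_mem m K _⟩ : uorigin K m)
  have hy : (uorigin K m).toCotangent y = 0 := by
    rw [map_sum]
    rw [← hr]
    refine Finset.sum_congr rfl fun t _ => ?_
    rw [cot_smul]
    rfl
  rw [Ideal.toCotangent_eq_zero] at hy
  have h0 := theta_sq_zero m K _ hy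
  have hy' : (y : URing K m) = ∑ t, r t • ugen K m (tgen m t) := by
    simp only [y, Submodule.coe_sum, Submodule.coe_smul_of_tower]
  rw [hy', map_sum] at h0
  simp only [map_smul, theta_ugen, wv_tgen] at h0
  intro s
  have h1 := congrArg (fun z : TrivSqZeroExt K (TT m → K) => z.snd s) h0
  simp only [TrivSqZeroExt.snd_sum, TrivSqZeroExt.snd_smul, TrivSqZeroExt.snd_inr,
    TrivSqZeroExt.snd_zero, Finset.sum_apply, Pi.smul_apply, Pi.zero_apply] at h1
  simpa [Pi.single_apply] using h1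

theorem tc_congr {x y : URing K m} (hx : x ∈ uorigin K m) (hy : y ∈ uorigin K m) (h : x = y) :
    (uorigin K m).toCotangent ⟨x, hx⟩ = (uorigin K m).toCotangent ⟨y, hy⟩ := by
  subst h; rfl

theorem tc_gen_mem (hm : 2 ≤ m) (g : UGen m) :
    (uorigin K m).toCotangent ⟨ugen K m g, ugen_mem m K g⟩ ∈ Submodule.span K (Set.range (bb m K)) := by
  have hbb : ∀ t, (uorigin K m).toCotangent ⟨ugen K m (tgen m t), ugen_mem m K _⟩ ∈
      Submodule.span K (Set.range (bb m K)) := fun t => Submodule.subset_span ⟨t, rfl⟩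
  have h01 : (⟨0, by omega⟩ : Fin m) ≠ ⟨1, by omega⟩ := by
    intro e; simpa using congrArg Fin.val e
  cases g with
  | a => exact hbb none
  | ci i => exact hbb (some (Sum.inl i))
  | cbi i => exact hbb (some (Sum.inr (Sum.inl i)))
  | c =>
    have h2 := urel2 K m ⟨0, by omega⟩ ⟨1, by omega⟩ h01
    have hc : ugen K m .c ∈ (uorigin K m) ^ 2 := by
      have : ugen K m .c = ugen K m (.cij ⟨1, by omega⟩ ⟨0, by omega⟩ (Ne.symm h01)) *
          ugen K m (.ci ⟨1, by omega⟩) + ugen K m (.cij ⟨0, by omega⟩ ⟨1, by omega⟩ h01) *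
          ugen K m (.ci ⟨0, by omega⟩) - ugen K m (.ci ⟨0, by omega⟩) * ugen K m (.ci ⟨1, by omega⟩) := by
        linear_combination (-1 : URing K m) * h2
      rw [this, pow_two]
      exact sub_mem (add_mem (Ideal.mul_mem_mul (ugen_mem m K _) (ugen_mem m K _))
        (Ideal.mul_mem_mul (ugen_mem m K _) (ugen_mem m K _)))
        (Ideal.mul_mem_mul (ugen_mem m K _) (ugen_mem m K _))
    rw [(Ideal.toCotangent_eq_zero _ _).mpr hc]
    exact zero_mem _
  | cb =>
    have h3 := urel3 K m ⟨0, by omega⟩ ⟨1, by omega⟩ h01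
    have hc : ugen K m .cb ∈ (uorigin K m) ^ 2 := by
      have : ugen K m .cb = ugen K m (.cij ⟨1, by omega⟩ ⟨0, by omega⟩ (Ne.symm h01)) *
          ugen K m (.cbi ⟨0, by omega⟩) + ugen K m (.cij ⟨0, by omega⟩ ⟨1, by omega⟩ h01) *
          ugen K m (.cbi ⟨1, by omega⟩) - ugen K m (.cbi ⟨0, by omega⟩) * ugen K m (.cbi ⟨1, by omega⟩) := by
        linear_combination (-1 : URing K m) * h3
      rw [this, pow_two]
      exact sub_mem (add_mem (Ideal.mul_mem_mul (ugen_mem m K _) (ugen_mem m K _))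
        (Ideal.mul_mem_mul (ugen_mem m K _) (ugen_mem m K _)))
        (Ideal.mul_mem_mul (ugen_mem m K _) (ugen_mem m K _))
    rw [(Ideal.toCotangent_eq_zero _ _).mpr hc]
    exact zero_mem _
  | cij i j h =>
    rcases lt_or_gt_of_ne h with hlt | hgt
    · exact hbb (some (Sum.inr (Sum.inr ⟨(i, j), hlt⟩)))
    · have h1 := urel1 K m i j h
      have e : (⟨ugen K m (.cij i j h), ugen_mem m K _⟩ : uorigin K m) =
          ⟨ugen K m .a, ugen_mem m K _⟩ + ⟨ugen K m (.ci i), ugen_mem m K _⟩ +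
          ⟨ugen K m (.cbi i), ugen_mem m K _⟩ + ⟨ugen K m (.ci j), ugen_mem m K _⟩ +
          ⟨ugen K m (.cbi j), ugen_mem m K _⟩ - ⟨ugen K m (.cij j i (Ne.symm h)), ugen_mem m K _⟩ := by
        apply Subtype.ext
        simp only [Submodule.coe_add, Submodule.coe_sub]
        linear_combination h1
      rw [e, map_sub, map_add, map_add, map_add, map_add]
      exact sub_mem (add_mem (add_mem (add_mem (add_mem (hbb none) (hbb (some (Sum.inl i))))
        (hbb (some (Sum.inr (Sum.inl i))))) (hbb (some (Sum.inl j)))) (hbb (some (Sum.inr (Sum.inl j)))))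
        (hbb (some (Sum.inr (Sum.inr ⟨(j, i), hgt⟩))))

theorem tc_mem (hm : 2 ≤ m) : ∀ (x : URing K m) (hx : x ∈ uorigin K m),
    (uorigin K m).toCotangent ⟨x, hx⟩ ∈ Submodule.span K (Set.range (bb m K)) := by
  intro x hx
  have hx' : x ∈ Submodule.span (URing K m) (Set.range (ugen K m)) := hx
  induction hx' using Submodule.span_induction with
  | mem x h =>
    obtain ⟨g, rfl⟩ := h
    exact tc_gen_mem m K hm g
  | zero =>
    have : (⟨0, hx⟩ : uorigin K m) = 0 := rfl
    rw [this, map_zero]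
    exact zero_mem _
  | add x y hx1 hy1 ihx ihy =>
    have hxI : x ∈ uorigin K m := hx1
    have hyI : y ∈ uorigin K m := hy1
    have : (⟨x + y, hx⟩ : uorigin K m) = ⟨x, hxI⟩ + ⟨y, hyI⟩ := rfl
    rw [this, map_add]
    exact add_mem (ihx hxI) (ihy hyI)
  | smul u x hx1 ih =>
    have hxI : x ∈ uorigin K m := hx1
    obtain ⟨r, hr⟩ := exists_const m K u
    have e : (⟨u • x, hx⟩ : uorigin K m) = u • ⟨x, hxI⟩ := rfl
    rw [e, map_smul]
    rw [cot_split K (uorigin K m) u r hr]
    exact Submodule.smul_mem _ _ (ih hxI)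

theorem bb_span (hm : 2 ≤ m) : ⊤ ≤ Submodule.span K (Set.range (bb m K)) := by
  intro z _
  obtain ⟨⟨x, hx⟩, rfl⟩ := (uorigin K m).toCotangent_surjective z
  exact tc_mem m K hm x hx

theorem finrank_cot (F : Type u) [Field F] (hm : 2 ≤ m) :
    Module.finrank F (uorigin F m).Cotangent = (m + 2) * (m + 1) / 2 := by
  have b := Module.Basis.mk (bb_li m F) (bb_span m F hm)
  rw [Module.finrank_eq_card_basis b, card_TT m (by omega)]

theorem adjoin_top (hm : 2 ≤ m) :
    Algebra.adjoin ℤ ({ugen ℤ m .a} ∪ Set.range (fun i : Fin m => ugen ℤ m (.ci i)) ∪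
        Set.range (fun i : Fin m => ugen ℤ m (.cbi i)) ∪
        Set.range (fun q : {q : Fin m × Fin m // q.1 < q.2} =>
          ugen ℤ m (.cij q.1.1 q.1.2 (ne_of_lt q.2)))) = ⊤ := by
  set A := Algebra.adjoin ℤ ({ugen ℤ m .a} ∪ Set.range (fun i : Fin m => ugen ℤ m (.ci i)) ∪
        Set.range (fun i : Fin m => ugen ℤ m (.cbi i)) ∪
        Set.range (fun q : {q : Fin m × Fin m // q.1 < q.2} =>
          ugen ℤ m (.cij q.1.1 q.1.2 (ne_of_lt q.2)))) with hA
  have ha : ugen ℤ m .a ∈ A := Algebra.subset_adjoin (Or.inl (Or.inl (Or.inl rfl)))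
  have hci : ∀ i, ugen ℤ m (.ci i) ∈ A := fun i =>
    Algebra.subset_adjoin (Or.inl (Or.inl (Or.inr ⟨i, rfl⟩)))
  have hcbi : ∀ i, ugen ℤ m (.cbi i) ∈ A := fun i =>
    Algebra.subset_adjoin (Or.inl (Or.inr ⟨i, rfl⟩))
  have hlt : ∀ i j (h : i < j), ugen ℤ m (.cij i j (ne_of_lt h)) ∈ A := fun i j h =>
    Algebra.subset_adjoin (Or.inr ⟨⟨(i, j), h⟩, rfl⟩)
  have hcij : ∀ i j (h : i ≠ j), ugen ℤ m (.cij i j h) ∈ A := by
    intro i j h
    rcases lt_or_gt_of_ne h with h1 | h1
    · exact hlt i j h1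
    · have h1' := urel1 ℤ m i j h
      have : ugen ℤ m (.cij i j h) = ugen ℤ m .a + ugen ℤ m (.ci i) + ugen ℤ m (.cbi i) +
          ugen ℤ m (.ci j) + ugen ℤ m (.cbi j) - ugen ℤ m (.cij j i (Ne.symm h)) := by
        linear_combination h1'
      rw [this]
      exact sub_mem (add_mem (add_mem (add_mem (add_mem ha (hci i)) (hcbi i)) (hci j)) (hcbi j))
        (hlt j i h1)
  have h01 : (⟨0, by omega⟩ : Fin m) ≠ ⟨1, by omega⟩ := by
    intro e; simpa using congrArg Fin.val e
  have hc : ugen ℤ m .c ∈ A := by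
    have h2 := urel2 ℤ m ⟨0, by omega⟩ ⟨1, by omega⟩ h01
    have : ugen ℤ m .c = ugen ℤ m (.cij ⟨1, by omega⟩ ⟨0, by omega⟩ (Ne.symm h01)) *
        ugen ℤ m (.ci ⟨1, by omega⟩) + ugen ℤ m (.cij ⟨0, by omega⟩ ⟨1, by omega⟩ h01) *
        ugen ℤ m (.ci ⟨0, by omega⟩) - ugen ℤ m (.ci ⟨0, by omega⟩) * ugen ℤ m (.ci ⟨1, by omega⟩) := by
      linear_combination (-1 : URing ℤ m) * h2
    rw [this]
    exact sub_mem (add_mem (mul_mem (hcij _ _ _) (hci _)) (mul_mem (hcij _ _ _) (hci _)))
      (mul_mem (hci _) (hci _))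
  have hcb : ugen ℤ m .cb ∈ A := by
    have h3 := urel3 ℤ m ⟨0, by omega⟩ ⟨1, by omega⟩ h01
    have : ugen ℤ m .cb = ugen ℤ m (.cij ⟨1, by omega⟩ ⟨0, by omega⟩ (Ne.symm h01)) *
        ugen ℤ m (.cbi ⟨0, by omega⟩) + ugen ℤ m (.cij ⟨0, by omega⟩ ⟨1, by omega⟩ h01) *
        ugen ℤ m (.cbi ⟨1, by omega⟩) - ugen ℤ m (.cbi ⟨0, by omega⟩) * ugen ℤ m (.cbi ⟨1, by omega⟩) := by
      linear_combination (-1 : URing ℤ m) * h3
    rw [this]
    exact sub_mem (add_mem (mul_mem (hcij _ _ _) (hcbi _)) (mul_mem (hcij _ _ _) (hcbi _)))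
      (mul_mem (hcbi _) (hcbi _))
  have hall : ∀ g, ugen ℤ m g ∈ A := by
    intro g
    cases g with
    | a => exact ha
    | c => exact hc
    | cb => exact hcb
    | ci i => exact hci i
    | cbi i => exact hcbi i
    | cij i j h => exact hcij i j h
  rw [eq_top_iff]
  intro x _
  obtain ⟨p, rfl⟩ := Ideal.Quotient.mk_surjective x
  induction p using MvPolynomial.induction_on with
  | C r =>
    have : (Ideal.Quotient.mk (Ideal.span (URel ℤ m))) (C r) = algebraMap ℤ (URing ℤ m) r := rfl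
    rw [this]
    exact Subalgebra.algebraMap_mem _ _
  | add p q hp hq =>
    rw [map_add]
    exact add_mem (hp Algebra.mem_top) (hq Algebra.mem_top)
  | mul_X p g hp =>
    rw [map_mul]
    exact mul_mem (hp Algebra.mem_top) (hall g)

end

/-- Let m ≥ 2, so that n = m + 3 ≥ 5 points are marked. For every field k, the Zariski cotangent space
of U_n over k at the origin, that is I/I² for the ideal I of the coordinate ring of U_n over k
generated by the classes of all the generators a, c, c̄, c_i, c̄_i, c_{ij}, has dimension (n − 1)(n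
− 2)/2 = (m + 2)(m + 1)/2 over k; and the weight-one classes a, c_i, c̄_i (all indices i) and c_{ij}
(i < j) generate the coordinate ring of U_n over ℤ as a ℤ-algebra (so they form a minimal generating
set). -/
theorem result (m : ℕ) (hm : 2 ≤ m) :
    (∀ (k : Type u) [Field k], Module.finrank k (uorigin k m).Cotangent = (m + 2) * (m + 1) / 2) ∧
    Algebra.adjoin ℤ ({ugen ℤ m .a} ∪ Set.range (fun i : Fin m => ugen ℤ m (.ci i)) ∪
        Set.range (fun i : Fin m => ugen ℤ m (.cbi i)) ∪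
        Set.range (fun q : {q : Fin m × Fin m // q.1 < q.2} => ugen ℤ m (.cij q.1.1 q.1.2 (ne_of_lt q.2)))) = ⊤ := by
  refine ⟨fun k _ => finrank_cot m k hm, adjoin_top m hm⟩

end Groth.Agent.S18248
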