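import Groth.Statements.S18251
import Groth.Agent.Lib.Helper91.GroebnerStd
import Groth.Agent.Lib.Helper91.GroebnerFin9

set_option autoImplicit false
universe u
open W4c5m1nsnscurves
open Curves


namespace Groth.Agent.S18251Aux

open MvPolynomial Groth.Agent.Lib.Helper91.Groebner Groth.Agent.Lib.Helper91.GroebnerFin9

/-- lexicographic order with `X 1 > X 0` -/
noncomputable def ord : MonomialOrder (Fin 2) := comapOrder MonomialOrder.lex (Equiv.swap (0 : Fin 2) 1)

theorem ord_lt {ν μ : Fin 2 →₀ ℕ} (h : ν 1 < μ 1) : ord.toSyn ν < ord.toSyn μ := by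
  show MonomialOrder.lex.toSyn (Finsupp.domCongr (Equiv.swap (0 : Fin 2) 1) ν)
    < MonomialOrder.lex.toSyn (Finsupp.domCongr (Equiv.swap (0 : Fin 2) 1) μ)
  rw [MonomialOrder.lex_lt_iff, Finsupp.Lex.lt_iff]
  refine ⟨0, fun j hj => absurd hj (Fin.not_lt_zero j), ?_⟩
  simpa [Finsupp.domCongr_apply] using h

/-- index to exponent vector -/
noncomputable def fexp : Option (ℕ ⊕ (Fin 2 × ℕ)) → (Fin 2 →₀ ℕ)
  | none => 0
  | some (Sum.inl k) => Finsupp.single 0 (k + 1) + Finsupp.single 1 1
  | some (Sum.inr (y, k)) => Finsupp.single y (k + 1)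

theorem fexp_val (i : Option (ℕ ⊕ (Fin 2 × ℕ))) :
    (fexp i 0, fexp i 1) = match i with
      | none => (0, 0)
      | some (Sum.inl k) => (k + 1, 1)
      | some (Sum.inr (y, k)) => if y = 0 then (k + 1, 0) else (0, k + 1) := by
  rcases i with _ | (k | ⟨y, k⟩)
  · simp [fexp]
  · simp [fexp]
  · fin_cases y <;> simp [fexp]

theorem fexp_injective : Function.Injective fexp := by
  intro i j h
  have h0 : (fexp i 0, fexp i 1) = (fexp j 0, fexp j 1) := by rw [h]
  rw [fexp_val, fexp_val] at h0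
  rcases i with _ | (k | ⟨y, k⟩) <;> rcases j with _ | (l | ⟨z, l⟩)
  · rfl
  · simp at h0
  · fin_cases z <;> simp at h0
  · simp at h0
  · simp only [Prod.mk.injEq] at h0
    obtain ⟨h1, -⟩ := h0
    have : k = l := by omega
    rw [this]
  · fin_cases z <;> simp at h0
  · fin_cases y <;> simp at h0
  · fin_cases y <;> simp at h0
  · fin_cases y <;> fin_cases z <;> simp at h0 <;> simp [h0]

theorem mono2 {R : Type*} [CommRing R] (c : R) (i j : ℕ) :
    monomial (Finsupp.single (0 : Fin 2) i + Finsupp.single 1 j) c = C c * X 0 ^ i * X 1 ^ j := by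
  rw [X_pow_eq_monomial, X_pow_eq_monomial, C_apply, monomial_mul, monomial_mul]
  simp

theorem le_iff (ν : Fin 2 →₀ ℕ) :
    (Finsupp.single (0 : Fin 2) 1 + Finsupp.single 1 2 : Fin 2 →₀ ℕ) ≤ ν ↔ 1 ≤ ν 0 ∧ 2 ≤ ν 1 := by
  rw [Finsupp.le_def, Fin.forall_fin_two]
  simp

theorem range_fexp :
    Set.range fexp = {ν : Fin 2 →₀ ℕ | ¬ (1 ≤ ν 0 ∧ 2 ≤ ν 1)} := by
  ext ν
  constructor
  · rintro ⟨i, rfl⟩
    have h := fexp_val i
    rcases i with _ | (k | ⟨y, k⟩)
    · simp only [Prod.mk.injEq] at h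
      show ¬ _
      omega
    · simp only [Prod.mk.injEq] at h
      show ¬ _
      omega
    · show ¬ _
      have h' : (fexp (some (Sum.inr (y, k))) 0, fexp (some (Sum.inr (y, k))) 1) =
          if y = 0 then (k + 1, 0) else (0, k + 1) := h
      by_cases hy : y = 0
      · rw [if_pos hy, Prod.mk.injEq] at h'
        omega
      · rw [if_neg hy, Prod.mk.injEq] at h'
        omega
  · intro hν
    have hν' : ¬ (1 ≤ ν 0 ∧ 2 ≤ ν 1) := hν
    have ext2 : ∀ ν' : Fin 2 →₀ ℕ, ν' 0 = ν 0 → ν' 1 = ν 1 → ν' = ν := by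
      intro ν' h0 h1
      ext j
      fin_cases j
      · exact h0
      · exact h1
    by_cases h0 : ν 0 = 0
    · by_cases h1 : ν 1 = 0
      · exact ⟨none, ext2 _ (by simp [fexp, h0]) (by simp [fexp, h1])⟩
      · refine ⟨some (Sum.inr (1, ν 1 - 1)), ext2 _ ?_ ?_⟩
        · simp [fexp, h0]
        · simp only [fexp, Finsupp.single_eq_same]
          omega
    · by_cases h1 : ν 1 = 0
      · refine ⟨some (Sum.inr (0, ν 0 - 1)), ext2 _ ?_ ?_⟩
        · simp only [fexp, Finsupp.single_eq_same]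
          omega
        · simp [fexp, h1]
      · have h11 : ν 1 = 1 := by omega
        refine ⟨some (Sum.inl (ν 0 - 1)), ext2 _ ?_ ?_⟩
        · simp only [fexp, Finsupp.add_apply, Finsupp.single_eq_same]
          simp
          omega
        · simp [fexp, h11]

end Groth.Agent.S18251Aux

namespace Groth.Agent.S18251

/-- Case n = 3: let R be a commutative ring and a, b, c, d elements of R (a point of U_3, which is
affine 4-space, so no condition is imposed). Then in the R-algebra R[x_2, x_3]/(x_2 x_3² − x_2² x_3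
− a x_2 x_3 − b x_2 − c x_3 − d) the classes of the monomials 1, x_2^k x_3, x_2^k and x_3^k (k ≥ 1)
are linearly independent over R and span, i.e. form an R-basis. -/
theorem result (R : Type u) [CommRing R] (a b c d : R) :
    LinearIndependent R (cmon3 R a b c d) ∧
      Submodule.span R (Set.range (cmon3 R a b c d)) = ⊤ := by
  classical
  open MvPolynomial Groth.Agent.Lib.Helper91.Groebner Groth.Agent.S18251Aux in
  have hSB : SBdd ord (ord.toSyn (Finsupp.single (0 : Fin 2) 1 + Finsupp.single 1 2)) 0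
      (monomial (Finsupp.single (0 : Fin 2) 2 + Finsupp.single 1 1) (-1 : R) +
        monomial (Finsupp.single (0 : Fin 2) 1 + Finsupp.single 1 1) (-a) +
        monomial (Finsupp.single (0 : Fin 2) 1 + Finsupp.single 1 0) (-b) +
        monomial (Finsupp.single (0 : Fin 2) 0 + Finsupp.single 1 1) (-c) +
        monomial (Finsupp.single (0 : Fin 2) 0 + Finsupp.single 1 0) (-d)) := by
    refine SBdd.add (SBdd.add (SBdd.add (SBdd.add ?_ ?_) ?_) ?_) ?_ <;>
    · refine SBdd.monomial _ (ord_lt ?_)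
      simp
  have hG : X 0 * X 1 ^ 2 - X 0 ^ 2 * X 1 - (C a * X 0 * X 1 + C b * X 0 + C c * X 1 + C d) =
      monomial (Finsupp.single (0 : Fin 2) 1 + Finsupp.single 1 2) (1 : R) +
      (monomial (Finsupp.single (0 : Fin 2) 2 + Finsupp.single 1 1) (-1 : R) +
        monomial (Finsupp.single (0 : Fin 2) 1 + Finsupp.single 1 1) (-a) +
        monomial (Finsupp.single (0 : Fin 2) 1 + Finsupp.single 1 0) (-b) +
        monomial (Finsupp.single (0 : Fin 2) 0 + Finsupp.single 1 1) (-c) +
        monomial (Finsupp.single (0 : Fin 2) 0 + Finsupp.single 1 0) (-d)) := by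
    simp only [mono2, map_neg, map_one, pow_zero, pow_one]
    ring
  let D := ofSingle ord _ _ _ hG (fun ν hν => by simpa using hSB ν hν)
  have hI : Ideal.span {X 0 * X 1 ^ 2 - X 0 ^ 2 * X 1 -
      (C a * X 0 * X 1 + C b * X 0 + C c * X 1 + C d)} = D.ideal :=
    (ofSingle_ideal ord _ _ _ hG (fun ν hν => by simpa using hSB ν hν)).symm
  have hStd : Set.range fexp = D.Std := by
    rw [range_fexp]
    ext ν
    show ¬ _ ↔ ∀ k : Fin 1, ¬ (Finsupp.single (0 : Fin 2) 1 + Finsupp.single 1 2 : Fin 2 →₀ ℕ) ≤ ν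
    rw [le_iff]
    constructor
    · intro h _; exact h
    · intro h; exact h 0
  have hres := D.basis_of_param _ hI fexp fexp_injective hStd
  have hfam : cmon3 R a b c d = fun i => Ideal.Quotient.mk (Ideal.span {X 0 * X 1 ^ 2 - X 0 ^ 2 * X 1 -
      (C a * X 0 * X 1 + C b * X 0 + C c * X 1 + C d)}) (monomial (fexp i) (1 : R)) := by
    funext i
    rcases i with _ | (k | ⟨y, k⟩)
    · show (1 : CurveAlg3 R a b c d) = _
      simp [fexp]
    · show Ideal.Quotient.mk _ (X 0 ^ (k + 1) * X 1) = _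
      congr 1
      show _ = monomial (Finsupp.single (0 : Fin 2) (k + 1) + Finsupp.single 1 1) (1 : R)
      rw [mono2]; simp
    · show Ideal.Quotient.mk _ (X y ^ (k + 1)) = _
      congr 1
      show _ = monomial (Finsupp.single y (k + 1)) (1 : R)
      rw [X_pow_eq_monomial]
  rw [hfam]
  exact hres

end Groth.Agent.S18251
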