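import Groth.Statements.S18256
import Mathlib.RingTheory.LocalRing.Module
import Mathlib.RingTheory.Artinian.Ring
import Mathlib.RingTheory.HopkinsLevitzki
import Mathlib.LinearAlgebra.TensorProduct.RightExactness
import Mathlib.Tactic

set_option autoImplicit false
universe u
open ArtFun

namespace Groth.Agent.S18256

open TensorProduct Function CategoryTheory

theorem chase {R M : Type u} [CommRing R] [AddCommGroup M] [Module R M] (I I' : Ideal R)
    (hle : I ≤ I') (hI : Injective (LinearMap.lTensor M (I.subtype : I →ₗ[R] R)))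
    (K : Ideal (R ⧸ I)) (hK : K = I'.map (Ideal.Quotient.mk I))
    (hJ : Injective (LinearMap.lTensor M ((K.restrictScalars R).subtype))) :
    Injective (LinearMap.lTensor M (I'.subtype : I' →ₗ[R] R)) := by
  subst hK
  set J : Submodule R (R ⧸ I) := (I'.map (Ideal.Quotient.mk I)).restrictScalars R with hJdef
  let α : I →ₗ[R] I' := Submodule.inclusion hle
  let β : I' →ₗ[R] J := LinearMap.codRestrict J ((Submodule.mkQ I).comp I'.subtype)
    (fun y => Ideal.mem_map_of_mem _ y.2)
  have hβsurj : Surjective β := by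
    rintro ⟨z, hz⟩
    have hz' : z ∈ I'.map (Ideal.Quotient.mk I) := hz
    rw [Ideal.mem_map_iff_of_surjective _ Ideal.Quotient.mk_surjective] at hz'
    obtain ⟨y, hy, rfl⟩ := hz'
    exact ⟨⟨y, hy⟩, Subtype.ext rfl⟩
  have hex : Exact α β := by
    intro y
    constructor
    · intro hy
      have h1 : (Ideal.Quotient.mk I) (y : R) = 0 := congrArg Subtype.val hy
      rw [Ideal.Quotient.eq_zero_iff_mem] at h1
      exact ⟨⟨y, h1⟩, Subtype.ext rfl⟩
    · rintro ⟨w, rfl⟩
      apply Subtype.ext
      show (Ideal.Quotient.mk I) (w : R) = 0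
      exact Ideal.Quotient.eq_zero_iff_mem.mpr w.2
  have hexT : Exact (LinearMap.lTensor M α) (LinearMap.lTensor M β) := lTensor_exact M hex hβsurj
  rw [injective_iff_map_eq_zero]
  intro z hz
  have h1 : LinearMap.lTensor M J.subtype (LinearMap.lTensor M β z) = 0 := by
    have : J.subtype.comp β = (Submodule.mkQ I).comp I'.subtype := rfl
    rw [← LinearMap.comp_apply, ← LinearMap.lTensor_comp, this, LinearMap.lTensor_comp,
      LinearMap.comp_apply, hz, map_zero]
  have h2 : LinearMap.lTensor M β z = 0 := by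
    apply hJ
    rw [h1, map_zero]
  obtain ⟨z', rfl⟩ := (hexT z).mp h2
  have h3 : LinearMap.lTensor M I.subtype z' = 0 := by
    have : I.subtype = I'.subtype.comp α := rfl
    rw [this, LinearMap.lTensor_comp, LinearMap.comp_apply, hz]
  have : z' = 0 := by
    apply hI
    rw [h3, map_zero]
  rw [this, map_zero]

theorem ker_eq_max {R k : Type u} [CommRing R] [IsLocalRing R] [Field k] [Algebra R k]
    (hk : Function.Surjective (algebraMap R k)) :
    RingHom.ker (algebraMap R k) = IsLocalRing.maximalIdeal R :=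
  IsLocalRing.eq_maximalIdeal (RingHom.ker_isMaximal_of_surjective _ hk)

/-- the object R ⧸ I -/
noncomputable def quotObj {R k : Type u} [CommRing R] [IsArtinianRing R] [IsLocalRing R] [Field k] [Algebra R k]
    (hk : Function.Surjective (algebraMap R k)) (I : Ideal R) (hI : I ≤ IsLocalRing.maximalIdeal R) :
    ArtFun.Art R k :=
  have : Nontrivial (R ⧸ I) := Ideal.Quotient.nontrivial_iff.mpr
    (fun h => (IsLocalRing.maximalIdeal.isMaximal R).ne_top (top_le_iff.mp (h ▸ hI)))
  have : IsLocalRing (R ⧸ I) :=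
    IsLocalRing.of_surjective' (Ideal.Quotient.mk I) Ideal.Quotient.mk_surjective
  ArtFun.Art.of (R ⧸ I)
    (Ideal.Quotient.liftₐ I (Algebra.ofId R k) (fun a ha => by
      have : a ∈ RingHom.ker (algebraMap R k) := by rw [ker_eq_max hk]; exact hI ha
      exact this))
    (fun y => by
      obtain ⟨r, rfl⟩ := hk y
      exact ⟨Ideal.Quotient.mk I r, rfl⟩)

theorem smallExt {R k : Type u} [CommRing R] [IsArtinianRing R] [IsLocalRing R] [Field k] [Algebra R k]
    (hk : Function.Surjective (algebraMap R k)) (I : Ideal R) (x : R)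
    (hxm : x ∈ IsLocalRing.maximalIdeal R) (hxI : x ∉ I)
    (hmx : ∀ a ∈ IsLocalRing.maximalIdeal R, a * x ∈ I)
    (hIm : I ≤ IsLocalRing.maximalIdeal R) (hI'm : I ⊔ Ideal.span {x} ≤ IsLocalRing.maximalIdeal R) :
    ∃ p : quotObj hk I hIm ⟶ quotObj hk (I ⊔ Ideal.span {x}) hI'm,
      ArtFun.Art.IsSmallExt p ∧
        RingHom.ker p.toAlgHom = (I ⊔ Ideal.span {x}).map (Ideal.Quotient.mk I) := by
  have hle : I ≤ I ⊔ Ideal.span {x} := le_sup_left
  refine ⟨ArtFun.Art.homMk (Ideal.Quotient.factorₐ R hle) ?_, ?_, ?_⟩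
  · apply Ideal.Quotient.algHom_ext
    ext
  · have hker : RingHom.ker (Ideal.Quotient.factorₐ R hle) =
        (I ⊔ Ideal.span {x}).map (Ideal.Quotient.mk I) := Ideal.Quotient.factor_ker hle
    have hker' : (I ⊔ Ideal.span {x}).map (Ideal.Quotient.mk I) =
        Ideal.span {Ideal.Quotient.mk I x} := by
      rw [Ideal.map_sup, Ideal.map_quotient_self, bot_sup_eq, Ideal.map_span, Set.image_singleton]
    refine ⟨Ideal.Quotient.factor_surjective hle, ?_, ?_, ?_⟩
    · show RingHom.ker (Ideal.Quotient.factorₐ R hle) ≠ ⊥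
      rw [hker, hker', Ne, Ideal.span_singleton_eq_bot, Ideal.Quotient.eq_zero_iff_mem]
      exact hxI
    · show (RingHom.ker (Ideal.Quotient.factorₐ R hle)).IsPrincipal
      rw [hker, hker']
      exact ⟨⟨_, rfl⟩⟩
    · have : Nontrivial (R ⧸ I) := Ideal.Quotient.nontrivial_iff.mpr
        (fun h => (IsLocalRing.maximalIdeal.isMaximal R).ne_top (top_le_iff.mp (h ▸ hIm)))
      have : IsLocalRing (R ⧸ I) :=
        IsLocalRing.of_surjective' (Ideal.Quotient.mk I) Ideal.Quotient.mk_surjective
      show IsLocalRing.maximalIdeal (R ⧸ I) * RingHom.ker (Ideal.Quotient.factorₐ R hle) = ⊥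
      rw [hker, hker', eq_bot_iff]
      rw [← IsLocalRing.map_maximalIdeal_of_surjective (Ideal.Quotient.mk I)
        Ideal.Quotient.mk_surjective, ← Set.image_singleton, ← Ideal.map_span, ← Ideal.map_mul,
        Ideal.map_le_iff_le_comap, Ideal.mul_le]
      intro a ha b hb
      obtain ⟨c, rfl⟩ := Ideal.mem_span_singleton'.mp hb
      rw [Ideal.mem_comap, Ideal.mem_bot, Ideal.Quotient.eq_zero_iff_mem]
      have := I.mul_mem_left c (hmx a ha)
      convert this using 1
      ring
  · exact Ideal.Quotient.factor_ker hle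

theorem main {R k M : Type u} [CommRing R] [IsArtinianRing R] [IsLocalRing R] [Field k] [Algebra R k]
    (hk : Function.Surjective (algebraMap R k)) [AddCommGroup M] [Module R M]
    (h : ∀ (A' A : ArtFun.Art R k) (p : A' ⟶ A), ArtFun.Art.IsSmallExt p →
      Function.Injective
        (LinearMap.lTensor M (((RingHom.ker p.toAlgHom).restrictScalars R).subtype))) :
    Injective (LinearMap.lTensor M ((IsLocalRing.maximalIdeal R).subtype :
      IsLocalRing.maximalIdeal R →ₗ[R] R)) := by
  set m := IsLocalRing.maximalIdeal R with hm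
  let S : Set (Ideal R) :=
    {I | I ≤ m ∧ Injective (LinearMap.lTensor M (I.subtype : I →ₗ[R] R))}
  have hbot : (⊥ : Ideal R) ∈ S := by
    refine ⟨bot_le, fun a b _ => ?_⟩
    have : Subsingleton (M ⊗[R] (⊥ : Ideal R)) := inferInstance
    exact Subsingleton.elim _ _
  obtain ⟨I₀, hI₀, hmax⟩ := set_has_maximal_iff_noetherian.mpr
    (inferInstance : IsNoetherian R R) S ⟨⊥, hbot⟩
  by_cases hIm : I₀ = m
  · rw [← hIm]; exact hI₀.2
  exfalso
  have hlt : I₀ < m := lt_of_le_of_ne hI₀.1 hIm
  obtain ⟨N, hN⟩ : ∃ N, m ^ N = ⊥ := by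
    have := IsArtinianRing.isNilpotent_jacobson_bot (R := R)
    rwa [IsLocalRing.jacobson_eq_maximalIdeal ⊥ bot_ne_top] at this
  have hex : ∃ t, m ^ t ≤ I₀ := ⟨N, hN ▸ bot_le⟩
  classical
  have ht := Nat.find_spec hex
  have ht0 : Nat.find hex ≠ 0 := by
    intro h0
    rw [h0, pow_zero, Ideal.one_eq_top] at ht
    exact (IsLocalRing.maximalIdeal.isMaximal R).ne_top (top_le_iff.mp (ht.trans hI₀.1))
  obtain ⟨s, hs⟩ := Nat.exists_eq_succ_of_ne_zero ht0
  have hs0 : s ≠ 0 := by
    intro h0
    rw [hs, h0, Nat.succ_eq_add_one, zero_add, pow_one] at ht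
    exact hIm (le_antisymm hI₀.1 ht)
  have hns : ¬ m ^ s ≤ I₀ := Nat.find_min hex (by omega)
  obtain ⟨x, hxs, hxI⟩ := SetLike.not_le_iff_exists.mp hns
  have hxm : x ∈ m := Ideal.pow_le_self hs0 hxs
  have hmx : ∀ a ∈ m, a * x ∈ I₀ := by
    intro a ha
    apply ht
    rw [hs, Nat.succ_eq_add_one, pow_succ']
    exact Ideal.mul_mem_mul ha hxs
  have hI'm : I₀ ⊔ Ideal.span {x} ≤ m :=
    sup_le hI₀.1 ((Ideal.span_singleton_le_iff_mem _).mpr hxm)
  obtain ⟨p, hp, hker⟩ := smallExt hk I₀ x hxm hxI hmx hI₀.1 hI'm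
  have hinj := chase I₀ (I₀ ⊔ Ideal.span {x}) le_sup_left hI₀.2 _ hker (h _ _ p hp)
  have hmem : I₀ ⊔ Ideal.span {x} ∈ S := ⟨hI'm, hinj⟩
  apply hmax _ hmem
  refine lt_of_le_of_ne le_sup_left (fun heq => hxI ?_)
  rw [heq]
  exact Ideal.mem_sup_right (Ideal.mem_span_singleton_self x)

open CategoryTheory TensorProduct in
/-- Let R be an Artinian local ring with residue field k and M a finitely generated R-module. Suppose
that for every small extension p : A' → A of local Artinian R-algebras with residue field k (p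
surjective, its kernel I a nonzero principal ideal killed by the maximal ideal of A'), the map M ⊗_R
I → M ⊗_R A' induced by the inclusion I ⊆ A' is injective (equivalently, the sequence 0 → M ⊗_R I →
M ⊗_R A' → M ⊗_R A → 0 is exact). Then M is a free R-module. (The printed conclusion reads free over
the residue field; the proof establishes freeness over R, which is what is stated here.) -/
theorem result
    (R : Type u) [CommRing R] [IsArtinianRing R] [IsLocalRing R]
    (k : Type u) [Field k] [Algebra R k] (hk : Function.Surjective (algebraMap R k))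
    (M : Type u) [AddCommGroup M] [Module R M] [Module.Finite R M]
    (h : ∀ (A' A : ArtFun.Art R k) (p : A' ⟶ A), ArtFun.Art.IsSmallExt p →
      Function.Injective
        (LinearMap.lTensor M (((RingHom.ker p.toAlgHom).restrictScalars R).subtype))) :
    Module.Free R M := by
  have : Module.FinitePresentation R M := Module.finitePresentation_of_finite R M
  apply Module.free_of_maximalIdeal_rTensor_injective
  rw [← LinearMap.lTensor_inj_iff_rTensor_inj]
  exact main hk h

end Groth.Agent.S18256
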