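import Groth.Statements.S1826
import Groth.Agent.Lib.Helper89.Bass2
import Groth.Agent.Lib.Helper87.HensStrictProps

set_option autoImplicit false
universe u
open CategoryTheory
attribute [local instance] HasDerivedCategory.standard
open Dual

namespace Groth.Agent.S1826

/-- Let A be a Noetherian local ring, B a strict henselization of A and ω a dualizing complex for A;
assume the derived base change functor D(A) → D(B) exists. Then the base change ω ⊗^L_A B is a
dualizing complex for B. -/
theorem result (A B : Type u) [CommRing A] [IsLocalRing A] [IsNoetherianRing A] [CommRing B] [IsLocalRing B] [IsNoetherianRing B] [Algebra A B] [IsLocalHom (algebraMap A B)] [Hensel.IsStrictHenselization A B] [DRing.HasLBaseChange (algebraMap A B)] (ω : Dual.D A) (hω : Dual.IsDualizing A ω) : Dual.IsDualizing B ((DRing.LBaseChange (algebraMap A B)).obj ω) := by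
  haveI hflat : Module.Flat A B := Groth.Agent.Lib.Helper87.Hens.flat_of_isStrictHenselization A B
  have hm' : (IsLocalRing.maximalIdeal A).map (algebraMap A B) = IsLocalRing.maximalIdeal B :=
    Groth.Agent.Lib.Helper87.Hens.map_maximalIdeal_of_isStrictHenselization A B
  have hf : (algebraMap A B).Flat := RingHom.flat_algebraMap_iff.2 hflat
  haveI : Limits.PreservesFiniteLimits
      (Groth.Agent.Lib.Helper84.FlatBC.ext (algebraMap A B)) :=
    Groth.Agent.Lib.Helper84.FlatBC.preservesFiniteLimits_ext _ hf
  have e := (Groth.Agent.Lib.Helper15.LBCFlat.lbcFlatIso (algebraMap A B)).app ω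
  have hmax : ∀ n : Ideal B, n.IsMaximal → ∃ m : Ideal A, n = m.map (algebraMap A B) :=
    fun n hn => ⟨IsLocalRing.maximalIdeal A, by rw [hm', IsLocalRing.eq_maximalIdeal hn]⟩
  have h1 := Groth.Agent.Lib.Helper89.Bass.isDualizing_bc (algebraMap A B) hf hmax ω hω
  exact Groth.Agent.Lib.Helper25.Bidual.isDualizing_of_iso e.symm h1

end Groth.Agent.S1826
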