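import Groth.Statements.S18265
import Mathlib.RingTheory.IntegralClosure.IntegrallyClosed
import Mathlib.RingTheory.Polynomial.RationalRoot
import Mathlib.RingTheory.Polynomial.UniqueFactorization
import Mathlib.RingTheory.Localization.FractionRing
import Mathlib.Tactic

set_option autoImplicit false
universe u
open InvQ

namespace Groth.Agent.S18265

open Polynomial in
theorem isIntegrallyClosed_of_fixed {k S : Type u} [Field k] [CommRing S] [IsDomain S] [Algebra k S]
    [IsIntegrallyClosed S] (R : Subalgebra k S) (T : Set (S →ₐ[k] S))
    (hR : ∀ s, s ∈ R ↔ ∀ σ ∈ T, σ s = s) : IsIntegrallyClosed R := by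
  rw [isIntegrallyClosed_iff (FractionRing R)]
  intro x hx
  obtain ⟨a, b, hb, rfl⟩ := IsFractionRing.div_surjective (A := R) x
  have hb0 : (b : S) ≠ 0 := by
    intro h
    have : b = 0 := Subtype.ext h
    exact nonZeroDivisors.ne_zero hb this
  let g : R →+* FractionRing S := (algebraMap S (FractionRing S)).comp R.val.toRingHom
  have hg : Function.Injective g :=
    (IsFractionRing.injective S (FractionRing S)).comp Subtype.val_injective
  let φ : FractionRing R →+* FractionRing S := IsFractionRing.lift hg
  have hφ : ∀ y, φ (algebraMap R (FractionRing R) y) = g y := fun y => IsFractionRing.lift_algebraMap hg y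
  have hφ' : φ.comp (algebraMap R (FractionRing R)) = g := RingHom.ext hφ
  obtain ⟨p, hp, hpx⟩ := hx
  have hint : IsIntegral S (φ (algebraMap R (FractionRing R) a / algebraMap R (FractionRing R) b)) := by
    refine ⟨p.map R.val.toRingHom, hp.map _, ?_⟩
    rw [Polynomial.eval₂_map]
    have := congrArg φ hpx
    rw [Polynomial.hom_eval₂, map_zero, hφ'] at this
    exact this
  obtain ⟨s, hs⟩ := IsIntegrallyClosed.algebraMap_eq_of_integral hint
  have hb' : algebraMap S (FractionRing S) (b : S) ≠ 0 := by
    rw [Ne, map_eq_zero_iff _ (IsFractionRing.injective S (FractionRing S))]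
    exact hb0
  have hsb : s * (b : S) = (a : S) := by
    apply IsFractionRing.injective S (FractionRing S)
    rw [map_mul, hs, map_div₀, hφ a, hφ b]
    exact div_mul_cancel₀ _ hb'
  have hsR : s ∈ R := by
    rw [hR]
    intro σ hσ
    have ha := (hR a).mp a.2 σ hσ
    have hbb := (hR b).mp b.2 σ hσ
    have : σ s * (b : S) = s * (b : S) := by
      calc σ s * (b : S) = σ s * σ (b : S) := by rw [hbb]
        _ = σ (s * (b : S)) := (map_mul σ _ _).symm
        _ = σ (a : S) := by rw [hsb]
        _ = (a : S) := ha
        _ = s * (b : S) := hsb.symm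
    exact mul_right_cancel₀ hb0 this
  refine ⟨⟨s, hsR⟩, ?_⟩
  have hb'' : algebraMap R (FractionRing R) b ≠ 0 := by
    rw [Ne, map_eq_zero_iff _ (IsFractionRing.injective R (FractionRing R))]
    exact nonZeroDivisors.ne_zero hb
  rw [eq_div_iff hb'', ← map_mul]
  have : (⟨s, hsR⟩ : R) * b = a := Subtype.ext hsb
  rw [this]

/-- Let k be an algebraically closed field and n, m natural numbers, and let R be the ring of polynomial
functions of m vectors of k^(n+1) invariant under the special linear group SL(n+1, k) acting on all
the vectors at once and under the rescalings of the individual vectors by units with product 1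
(equivalently: invariant and homogeneous of one and the same degree in each vector) — the graded
ring of invariant sections whose Proj is the quotient variety of ordered m-point sets in projective
n-space. Then R is integrally closed in its field of fractions; hence that quotient variety is
normal. (Only the normality assertion of the source's statement is given here; its dimension,
rationality and singular-locus assertions are not.) -/
theorem result (k : Type u) [Field k] [IsAlgClosed k] (n m : ℕ) :
    IsIntegrallyClosed (W4c5pointsetsdelpezzo.invRing k n m) := by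
  have : IsIntegrallyClosed (W4c5pointsetsdelpezzo.TupleRing k n m) :=
    UniqueFactorizationMonoid.instIsIntegrallyClosed
  refine isIntegrallyClosed_of_fixed (W4c5pointsetsdelpezzo.invRing k n m)
    (Set.range (W4c5pointsetsdelpezzo.slSubst k n m) ∪
      (W4c5pointsetsdelpezzo.colScale k n m) '' {s | ∏ i, s i = 1}) ?_
  intro s
  unfold W4c5pointsetsdelpezzo.invRing
  simp only [Algebra.mem_inf, Algebra.mem_iInf, AlgHom.mem_equalizer, AlgHom.coe_id, id_eq,
    Subtype.forall, Set.mem_union, Set.mem_range, Set.mem_image, Set.mem_ofPred_eq]
  constructor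
  · rintro ⟨h1, h2⟩ σ (⟨g, rfl⟩ | ⟨t, ht, rfl⟩)
    · exact h1 g
    · exact h2 t ht
  · intro h
    exact ⟨fun g => h _ (Or.inl ⟨g, rfl⟩), fun t ht => h _ (Or.inr ⟨t, ht, rfl⟩)⟩

end Groth.Agent.S18265
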