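import Groth.Statements.S18266
import Mathlib
import Groth.Agent.Lib.Helper7.FlatClosure

set_option autoImplicit false
set_option linter.style.haveILetI false
universe u
open CategoryTheory AlgebraicGeometry
open FDesc

namespace Groth.Agent.S18266

open CategoryTheory.Limits TopologicalSpace Opposite
open FDesc
open Groth.Agent.Lib.Helper7.GenFibreDense Groth.Agent.Lib.Helper7.FlatClosure

/-- Localizations of a Dedekind domain at primes are valuation rings. -/
lemma valuationRing_of_atPrime (A : Type u) [CommRing A] [IsDedekindDomain A]
    (P : Ideal A) [P.IsPrime] (S : Type u) [CommRing S] [IsDomain S] [Algebra A S]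
    [IsLocalization.AtPrime S P] : ValuationRing S := by
  by_cases hP : P = ⊥
  · subst hP
    haveI : IsLocalRing S := IsLocalization.AtPrime.isLocalRing S (⊥ : Ideal A)
    have hf : IsField S := by
      rw [IsLocalRing.isField_iff_maximalIdeal_eq,
        ← IsLocalization.AtPrime.map_eq_maximalIdeal (⊥ : Ideal A) S, Ideal.map_bot]
    have : PreValuationRing S := by
      constructor
      intro a b
      by_cases ha : a = 0
      · exact ⟨0, Or.inr (by rw [ha, mul_zero])⟩
      · obtain ⟨a', ha'⟩ := hf.mul_inv_cancel ha
        exact ⟨a' * b, Or.inl (by rw [← mul_assoc, ha', one_mul])⟩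
    exact .mk
  · haveI := IsLocalization.AtPrime.isDiscreteValuationRing_of_dedekind_domain A hP S
    infer_instance

lemma valuationRing_stalk_Spec (A : Type u) [CommRing A] [IsDedekindDomain A]
    (y : Spec (CommRingCat.of A)) :
    ValuationRing ((Spec (CommRingCat.of A)).presheaf.stalk y) := by
  letI : Algebra A ((Spec (CommRingCat.of A)).presheaf.stalk y) :=
    StructureSheaf.stalkAlgebra (R := A) y
  haveI : y.asIdeal.IsPrime := y.isPrime
  haveI : IsLocalization.AtPrime ((Spec (CommRingCat.of A)).presheaf.stalk y) y.asIdeal :=
    StructureSheaf.IsLocalization.to_stalk (R := A) y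
  exact valuationRing_of_atPrime A y.asIdeal _


/-- Let A be a discrete valuation ring, η the generic point of Spec A, and f : X → Spec A a morphism
from an arbitrary scheme X. The scheme-theoretic closure of the generic fibre X_η in X (the flat
completion) is flat over Spec A, and it is the largest closed subscheme of X flat over Spec A: for
every closed immersion i : Z → X with Z flat over Spec A, the ideal sheaf of the flat completion is
contained in the ideal sheaf of i. -/
theorem result (A : Type u) [CommRing A] [IsDomain A]
    [IsDiscreteValuationRing A] {X : Scheme.{u}} (f : X ⟶ Spec (CommRingCat.of A))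
    (η : ↥(Spec (CommRingCat.of A))) (hη : η.asIdeal = ⊥) :
    Flat ((f.fiberι η).imageι ≫ f) ∧
      ∀ (Z : Scheme.{u}) (i : Z ⟶ X), IsClosedImmersion i → Flat (i ≫ f) → (f.fiberι η).ker ≤ i.ker := by
  have hcl : closure {η} = (Set.univ : Set (Spec (CommRingCat.of A))) := by
    refine (PrimeSpectrum.closure_singleton η).trans ?_
    rw [hη]
    simp
    rfl
  haveI := schDominant_fromSpecResidueField η hcl
  haveI : QuasiCompact (f.fiberι η) :=
    inferInstanceAs (QuasiCompact (pullback.fst f
      ((Spec (CommRingCat.of A)).fromSpecResidueField η)))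
  constructor
  · refine flat_of_factors_generic (valuationRing_stalk_Spec A) η hcl _ (f.fiberι η).toImage
      (f.fiberToSpecResidueField η) ?_
    rw [Scheme.Hom.toImage_imageι_assoc]
    exact f.fiber_fac η
  · intro Z i hi hflat
    let gη := (Spec (CommRingCat.of A)).fromSpecResidueField η
    let d : pullback (i ≫ f) gη ⟶ Z := pullback.fst (i ≫ f) gη
    haveI : IsSchemeTheoreticallyDominant d := inferInstance
    let k : pullback (i ≫ f) gη ⟶ f.fiber η :=
      pullback.lift (d ≫ i) (pullback.snd (i ≫ f) gη)
        (by rw [Category.assoc]; exact pullback.condition)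
    have hk : k ≫ f.fiberι η = d ≫ i := pullback.lift_fst _ _ _
    calc (f.fiberι η).ker ≤ (k ≫ f.fiberι η).ker := Scheme.Hom.le_ker_comp _ _
      _ = (d ≫ i).ker := by rw [hk]
      _ = d.ker.map i := Scheme.Hom.ker_comp _ _
      _ = i.ker := by rw [d.ker_eq_bot, Scheme.IdealSheafData.map_bot]

end Groth.Agent.S18266
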