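import Groth.Statements.S18267
import Mathlib
import Groth.Agent.Lib.Helper7.ProjSpaceProper
import Groth.Agent.Lib.Helper30.SmoothRegular
import Groth.Agent.Lib.Helper36.DimLemmas
-- import your own Groth.Agent.* helpers here

set_option autoImplicit false
open CategoryTheory CategoryTheory.Limits AlgebraicGeometry
open ZCorr

namespace Groth.Agent.S18267
universe u
open CategoryTheory CategoryTheory.Limits AlgebraicGeometry
open ZCorr

attribute [local instance] specializationOrder in
/-- In a scheme of dimension `≤ 1`, every point is closed-ish or generic-ish. -/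
theorem min_or_max {X : Scheme.{u}} (hdim : topologicalKrullDim X ≤ 1) (z : X) :
    (∀ y : X, z ⤳ y → y = z) ∨ (∀ y : X, y ⤳ z → y = z) := by
  rw [Groth.Agent.Lib.Helper36.DimLemmas.topologicalKrullDim_eq_krullDim,
    Order.krullDim_le_one_iff] at hdim
  rcases hdim z with h | h
  · left
    intro y hy
    have h1 : y ≤ z := hy
    exact le_antisymm h1 (h h1)
  · right
    intro y hy
    have h1 : z ≤ y := hy
    exact le_antisymm (h h1) h1

/-- Stalk maps of a surjective morphism from an integral scheme to a reduced scheme are injective. -/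
theorem stalkMap_injective {Z C : Scheme.{u}} (p : Z ⟶ C) [IsIntegral Z] [IsReduced C]
    (hsurj : Function.Surjective p) (z : Z) : Function.Injective (p.stalkMap z).hom := by
  rw [injective_iff_map_eq_zero]
  intro a ha
  obtain ⟨U, hU, s, rfl⟩ := C.presheaf.exists_germ_eq a
  have h1 : Z.presheaf.germ (p ⁻¹ᵁ U) z hU ((p.app U).hom s) = 0 := by
    rw [← ha]
    exact (Scheme.Hom.germ_stalkMap_apply p U z hU s).symm
  have h2 : (p.app U).hom s = 0 := by
    apply germ_injective_of_isIntegral Z z hU
    rw [h1, map_zero]
  have h3 : p ⁻¹ᵁ (C.basicOpen s) = ⊥ := by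
    rw [Scheme.preimage_basicOpen]
    have : (p.app U) s = 0 := h2
    rw [this, Scheme.basicOpen_zero]
  have h4 : C.basicOpen s = ⊥ := by
    ext c
    simp only [TopologicalSpace.Opens.coe_bot, Set.mem_empty_iff_false, iff_false]
    intro hc
    obtain ⟨z', rfl⟩ := hsurj c
    have : z' ∈ p ⁻¹ᵁ (C.basicOpen s) := hc
    rw [h3] at this
    exact this
  have h5 : s = 0 := (AlgebraicGeometry.basicOpen_eq_bot_iff s).mp h4
  rw [h5, map_zero]

/-- A regular local domain of dimension `≤ 1` is a principal ideal ring. -/
theorem isPrincipalIdealRing_of_regular (R : Type u) [CommRing R] [IsDomain R]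
    [IsRegularLocalRing R] (hdim : ringKrullDim R ≤ 1) : IsPrincipalIdealRing R := by
  haveI : Ring.KrullDimLE 1 R := by
    rw [Ring.krullDimLE_iff]; exact hdim
  have hm : (IsLocalRing.maximalIdeal R).IsPrincipal := by
    have h1 : ((IsLocalRing.maximalIdeal R).spanFinrank : WithBot ℕ∞) ≤ 1 := by
      rw [IsRegularLocalRing.spanFinrank_maximalIdeal]; exact hdim
    have h2 : (IsLocalRing.maximalIdeal R).spanFinrank ≤ 1 := by exact_mod_cast h1
    have hfg : (IsLocalRing.maximalIdeal R).FG := (isNoetherianRing_iff_ideal_fg R).mp inferInstance _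
    rcases Nat.le_one_iff_eq_zero_or_eq_one.mp h2 with h0 | h1'
    · rw [Submodule.spanFinrank_eq_zero_iff_eq_bot hfg] at h0
      rw [h0]; exact bot_isPrincipal
    · exact ((Submodule.spanFinrank_eq_one_iff _).mp h1').1
  refine IsPrincipalIdealRing.of_prime fun P hP => ?_
  by_cases hb : P = ⊥
  · rw [hb]; exact bot_isPrincipal
  · have : P.IsMaximal := Ideal.IsPrime.isMaximal_of_ne_bot hP hb
    rw [IsLocalRing.eq_maximalIdeal this]; exact hm

/-- An injective ring map from a PID domain to a domain is flat. -/
theorem flat_of_injective_of_pid {R S : Type u} [CommRing R] [CommRing S] [IsDomain R]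
    [IsPrincipalIdealRing R] [IsDomain S] (φ : R →+* S) (hφ : Function.Injective φ) : φ.Flat := by
  algebraize [φ]
  haveI : Module.IsTorsionFree R S := Module.isTorsionFree_iff_algebraMap_injective.mpr hφ
  change Module.Flat R S
  infer_instance

/-- A closed subset of a Noetherian sober space all of whose points are closed is finite. -/
theorem finite_of_closedPoints {T : Type*} [TopologicalSpace T] [TopologicalSpace.NoetherianSpace T]
    [QuasiSober T] (F : Set T) (hF : IsClosed F) (h : ∀ x ∈ F, IsClosed ({x} : Set T)) :
    F.Finite := by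
  obtain ⟨S, hSf, hSc, hSi, hS⟩ :=
    TopologicalSpace.NoetherianSpace.exists_finite_set_isClosed_irreducible hF
  rw [hS]
  refine Set.Finite.sUnion hSf fun t ht => ?_
  obtain ⟨η, hη⟩ := QuasiSober.sober (hSi t ht) (hSc t ht)
  have hηt : η ∈ t := by rw [← hη.def]; exact subset_closure rfl
  have hηF : η ∈ F := by rw [hS]; exact ⟨t, ht, hηt⟩
  have : t = {η} := by rw [← hη.def, (h η hηF).closure_eq]
  rw [this]; exact Set.finite_singleton η

/-- The general form of the result. -/
theorem main {k : Type u} [Field k] {C X Z : Scheme.{u}} (sC : C ⟶ Spec (CommRingCat.of k))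
    (sX : X ⟶ Spec (CommRingCat.of k)) [IsIntegral C] [Smooth sC] [QuasiCompact sC]
    (hdimC : topologicalKrullDim C = 1) [IsProper sX]
    (i : Z ⟶ pullback sC sX) [IsClosedImmersion i] [IsIntegral Z] (hdimZ : topologicalKrullDim Z = 1)
    (hsurj : Function.Surjective ⇑(i ≫ pullback.fst sC sX)) :
    IsFinite (i ≫ pullback.fst sC sX) ∧ Flat (i ≫ pullback.fst sC sX) := by
  set p := i ≫ pullback.fst sC sX with hp
  haveI : IsProper p := inferInstance
  haveI : CompactSpace C := QuasiCompact.compactSpace_of_compactSpace sC
  haveI : IsLocallyNoetherian C := LocallyOfFiniteType.isLocallyNoetherian sC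
  haveI : IsNoetherian C := {}
  haveI : IsLocallyNoetherian Z := LocallyOfFiniteType.isLocallyNoetherian p
  haveI : CompactSpace Z := QuasiCompact.compactSpace_of_compactSpace p
  haveI : IsNoetherian Z := {}
  have hflat : Flat p := by
    refine Flat.of_stalkMap p fun z => ?_
    haveI : IsRegularLocalRing (C.presheaf.stalk (p z)) :=
      Groth.Agent.Lib.Helper30.SmoothRegular.stalk_regular_of_smooth_field k sC (p z)
    haveI : IsDomain (C.presheaf.stalk (p z)) := inferInstance
    haveI := isPrincipalIdealRing_of_regular (C.presheaf.stalk (p z))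
      (by rw [← hdimC]
          exact Groth.Agent.Lib.Helper36.DimLemmas.ringKrullDim_stalk_le_topologicalKrullDim C (p z))
    exact flat_of_injective_of_pid _ (stalkMap_injective p hsurj z)
  have hqf : LocallyQuasiFinite p := by
    refine LocallyQuasiFinite.of_finite_preimage_singleton p fun c => ?_
    let η : Z := genericPoint Z
    have hη : ∀ z : Z, η ⤳ z := fun z => (genericPoint_spec Z).specializes (Set.mem_univ z)
    have hclosed_or : ∀ z : Z, IsClosed ({z} : Set Z) ∨ z = η := by
      intro z
      rcases min_or_max hdimZ.le z with h | h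
      · left
        have : closure ({z} : Set Z) = {z} := by
          ext y
          rw [← specializes_iff_mem_closure, Set.mem_singleton_iff]
          exact ⟨h y, fun e => e ▸ specializes_rfl⟩
        rw [← this]; exact isClosed_closure
      · right; exact (h η (hη z)).symm
    by_cases hc : IsClosed ({c} : Set C)
    · -- closed point
      have hF : IsClosed (p ⁻¹' {c}) := hc.preimage p.continuous
      have hηF : η ∉ p ⁻¹' {c} := by
        intro hηc
        have hηc' : p η = c := hηc
        have hsub : Subsingleton C := by
          refine ⟨fun a b => ?_⟩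
          have key : ∀ a : C, a = c := by
            intro a
            obtain ⟨z, rfl⟩ := hsurj a
            have h1 : p η ⤳ p z := (hη z).map p.continuous
            rw [hηc', specializes_iff_mem_closure, hc.closure_eq] at h1
            exact h1
          rw [key a, key b]
        have : topologicalKrullDim C ≤ 0 := by
          letI := specializationOrder C
          rw [Groth.Agent.Lib.Helper36.DimLemmas.topologicalKrullDim_eq_krullDim]
          exact Order.krullDim_nonpos_of_subsingleton
        rw [hdimC] at this
        exact absurd this (by decide)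
      refine finite_of_closedPoints _ hF fun z hz => ?_
      rcases hclosed_or z with h | h
      · exact h
      · exact absurd (h ▸ hz) hηF
    · -- non-closed point
      refine (Set.finite_singleton η).subset fun z hz => ?_
      rcases hclosed_or z with h | h
      · exfalso
        apply hc
        have hz' : p z = c := hz
        have := p.isClosedMap _ h
        rwa [Set.image_singleton, hz'] at this
      · exact h
  exact ⟨IsFinite.of_isProper_of_locallyQuasiFinite p, hflat⟩


/-- Over the complex numbers, suppose C is a quasi-projective curve that is smooth and irreducible and X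
is a projective variety that is smooth and irreducible; take Z to be an integral closed subscheme of
C × X of dimension one whose projection to C is surjective (a non-vertical irreducible component of
a correspondence from C to X). Then the projection Z → C is finite and flat. -/
theorem result
    (C X : Scheme.{0}) [C.Over (Spec (CommRingCat.of ℂ))] [X.Over (Spec (CommRingCat.of ℂ))]
    [AlgebraicGeometry.IsIntegral C] [Smooth (C ↘ Spec (CommRingCat.of ℂ))] (hC : RelProj.IsHQuasiProjective (C ↘ Spec (CommRingCat.of ℂ)))
    (hdimC : topologicalKrullDim C = 1)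
    [AlgebraicGeometry.IsIntegral X] [Smooth (X ↘ Spec (CommRingCat.of ℂ))] (hX : RelProj.IsHProjective (X ↘ Spec (CommRingCat.of ℂ)))
    {Z : Scheme.{0}} (i : Z ⟶ pullback (C ↘ Spec (CommRingCat.of ℂ)) (X ↘ Spec (CommRingCat.of ℂ))) [IsClosedImmersion i]
    [AlgebraicGeometry.IsIntegral Z] (hdimZ : topologicalKrullDim Z = 1)
    (hsurj : Function.Surjective ⇑(i ≫ pullback.fst (C ↘ Spec (CommRingCat.of ℂ)) (X ↘ Spec (CommRingCat.of ℂ)))) :
    IsFinite (i ≫ pullback.fst (C ↘ Spec (CommRingCat.of ℂ)) (X ↘ Spec (CommRingCat.of ℂ))) ∧
      Flat (i ≫ pullback.fst (C ↘ Spec (CommRingCat.of ℂ)) (X ↘ Spec (CommRingCat.of ℂ))) := by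
  obtain ⟨n, j, hj, hjX⟩ := hX
  haveI := hj
  haveI : IsProper (X ↘ Spec (CommRingCat.of ℂ)) := by rw [← hjX]; infer_instance
  obtain ⟨m, jc, hjc1, hjc2, hjcC⟩ := hC
  haveI := hjc1
  haveI := hjc2
  haveI : QuasiCompact (C ↘ Spec (CommRingCat.of ℂ)) := by rw [← hjcC]; infer_instance
  exact main (C ↘ Spec (CommRingCat.of ℂ)) (X ↘ Spec (CommRingCat.of ℂ)) hdimC i hdimZ hsurj


end Groth.Agent.S18267
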