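import Groth.Statements.S1828
import Groth.Agent.Lib.Helper89.KosD
import Groth.Agent.S1781

set_option autoImplicit false
universe u
open CategoryTheory
attribute [local instance] HasDerivedCategory.standard
open Dual2

namespace Groth.Agent.S1828

/-- Let R and A be Noetherian rings and R → A a homomorphism that is a local complete intersection,
presented by a surjection ψ : P = R[x_1, …, x_n] → A. For K in D(R) set φ^!(K) = RHom_P(A, K ⊗^L_R
P)[n], where the derived base change D(R) → D(P) is assumed to exist and RHom_P(A, −) : D(P) → D(A)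
means a right adjoint of restriction of scalars along ψ, and set ω_{A/R} = φ^!(R); also assume that
the derived base change functors D(A) → D(A_f) exist for every f ∈ A. Then ω_{A/R} is invertible:
for each prime q of A there exist f ∈ A not in q and an integer m with ω_{A/R} ⊗^L_A A_f ≅ A_f[m] in
D(A_f). (The published statement makes one more assertion, which is not included here.) -/
theorem result (R A : Type u) [CommRing R] [CommRing A] [IsNoetherianRing R] [IsNoetherianRing A] [Algebra R A] (hl : LCI.IsLCI R A) (n : ℕ) (ψ : MvPolynomial (Fin n) R →ₐ[R] A) (hψ : Function.Surjective ψ) [DRing.HasLBaseChange (algebraMap R (MvPolynomial (Fin n) R))] (Rψ : Dual.D (MvPolynomial (Fin n) R) ⥤ Dual.D A) (adj : DRing.restrictD ψ.toRingHom ⊣ Rψ) [hL : ∀ f : A, DRing.HasLBaseChange (algebraMap A (Localization.Away f))] (q : PrimeSpectrum A) : ∃ (f : A) (_ : f ∉ q.asIdeal) (m : ℤ), Nonempty ((DRing.LBaseChange (algebraMap A (Localization.Away f))).obj (Dual2.shriekVia n Rψ (Dual.inD R R)) ≅ (Dual.inD (Localization.Away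 f) (Localization.Away f))⟦m⟧) := by
  obtain ⟨-, n', f₀, hf₀, hI⟩ := hl
  obtain ⟨R₀, ⟨adj₀⟩⟩ := Groth.Agent.Lib.Helper89.Shriek2.exists_rightAdjoint f₀.toRingHom
  obtain ⟨f, hf, m, ⟨e⟩⟩ := Groth.Agent.Lib.Helper89.KosD.lci_local R A n' f₀ hf₀ hI adj₀ q
  obtain ⟨e0⟩ := Groth.Agent.S1781.result R A n ψ hψ Rψ adj n' f₀ hf₀ R₀ adj₀ (Dual.inD R R)
  exact ⟨f, hf, m, ⟨(DRing.LBaseChange (algebraMap A (Localization.Away f))).mapIso e0 ≪≫ e⟩⟩

end Groth.Agent.S1828
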