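import Groth.Statements.S18283
import Mathlib.LinearAlgebra.Matrix.Block
import Mathlib.LinearAlgebra.Matrix.Determinant.Basic
import Mathlib.LinearAlgebra.Finsupp.LinearCombination
-- import your own Groth.Agent.* helpers here

set_option autoImplicit false
universe u v
open CAlgX

namespace Groth.Agent.S18283

theorem alt_zero_of_span {R N P κ : Type*} [CommRing R] [AddCommGroup N] [Module R N]
    [AddCommGroup P] [Module R P] {n : ℕ} (φ : N [⋀^Fin n]→ₗ[R] P) (S : Finset κ) (g : κ → N)
    (hS : S.card < n) (v : Fin n → N) (hv : ∀ k, v k ∈ Submodule.span R (g '' (S : Set κ))) :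
    φ v = 0 := by
  classical
  have h1 : ∀ k, ∃ a : κ → R, v k = ∑ j ∈ S, a j • g j := by
    intro k
    obtain ⟨l, hl, hl2⟩ := (Finsupp.mem_span_image_iff_linearCombination R).mp (hv k)
    refine ⟨l, ?_⟩
    rw [← hl2, Finsupp.linearCombination_apply, Finsupp.sum_of_support_subset l hl _ (by simp)]
  choose a ha using h1
  have h2 : v = fun k => ∑ j ∈ S, a k j • g j := funext ha
  rw [h2]
  have h3 := MultilinearMap.map_sum_finset φ.toMultilinearMap (fun k j => a k j • g j)
    (fun _ : Fin n => S)
  rw [AlternatingMap.coe_multilinearMap] at h3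
  rw [h3]
  refine Finset.sum_eq_zero fun r hr => ?_
  have h4 := MultilinearMap.map_smul_univ φ.toMultilinearMap (fun k => a k (r k))
    (fun k => g (r k))
  rw [AlternatingMap.coe_multilinearMap] at h4
  rw [h4]
  have : ¬ Function.Injective (fun k => g (r k)) := by
    intro hinj
    have hr' : ∀ k, r k ∈ S := fun k => (Fintype.mem_piFinset.mp hr) k
    have hinj' : Function.Injective r := fun x y hxy => hinj (by simp [hxy])
    have := Finset.card_le_card_of_injOn r (s := Finset.univ) (t := S) (fun k _ => hr' k)
      hinj'.injOn
    simp at this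
    omega
  rw [φ.map_eq_zero_of_not_injective _ this, smul_zero]

section
variable {A : Type u} [CommRing A] {ι : Type v} [Fintype ι] [DecidableEq ι]

def F (H : Finset ι) (c : ι → ι → A) (j : ι) : ι → A :=
  Pi.single j (1 : A) - ∑ i ∈ Hᶜ, c j i • Pi.single i (1 : A)

theorem F_apply_of_mem (H : Finset ι) (c : ι → ι → A) (j : ι) {j' : ι} (hj' : j' ∈ H) :
    F H c j j' = if j = j' then 1 else 0 := by
  unfold F
  rw [Pi.sub_apply, Finset.sum_apply]
  have : ∑ i ∈ Hᶜ, (c j i • Pi.single i (1 : A)) j' = 0 := by
    refine Finset.sum_eq_zero fun i hi => ?_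
    have : j' ≠ i := by
      rintro rfl
      exact (Finset.mem_compl.mp hi) hj'
    simp [this]
  rw [this, sub_zero, Pi.single_apply]
  simp [eq_comm]

def detFun (n : ℕ) (s : Fin n → ι) : (ι → A) [⋀^Fin n]→ₗ[A] A :=
  (Matrix.detRowAlternating (R := A) (n := Fin n)).compLinearMap (LinearMap.funLeft A A s)

theorem mem_span_of_wedge (H : Finset ι) (c : ι → ι → A) (M : Submodule A (ι → A))
    (hf : ∀ j ∈ H, F H c j ∈ M)
    (hw : ∀ v : Fin (H.card + 1) → ι → A, (∀ k, v k ∈ M) →
          exteriorPower.ιMulti A (H.card + 1) v = 0)
    (m : ι → A) (hm : m ∈ M) : m ∈ Submodule.span A (F H c '' (H : Set ι)) := by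
  set m' : ι → A := m - ∑ j ∈ H, m j • F H c j with hm'
  have hm'M : m' ∈ M := M.sub_mem hm (M.sum_mem fun j hj => M.smul_mem _ (hf j hj))
  have hm'H : ∀ j' ∈ H, m' j' = 0 := by
    intro j' hj'
    simp only [hm', Pi.sub_apply, Finset.sum_apply, Pi.smul_apply, smul_eq_mul]
    rw [Finset.sum_eq_single j']
    · rw [F_apply_of_mem H c j' hj', if_pos rfl, mul_one, sub_self]
    · intro b _ hne
      rw [F_apply_of_mem H c b hj', if_neg hne, mul_zero]
    · intro h
      exact absurd hj' h
  have hm'C : ∀ i, i ∉ H → m' i = 0 := by
    intro i hi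
    let e : Fin H.card ≃ H := H.equivFin.symm
    let s : Fin (H.card + 1) → ι := Fin.cons i (fun k => (e k : ι))
    let v : Fin (H.card + 1) → ι → A := Fin.cons m' (fun k => F H c (e k))
    have hv : ∀ k, v k ∈ M := by
      intro k
      refine Fin.cases ?_ ?_ k
      · simpa [v] using hm'M
      · intro k
        simpa [v] using hf _ (e k).2
    have h0 := hw v hv
    have h1 : detFun (H.card + 1) s v = 0 := by
      rw [← exteriorPower.alternatingMapLinearEquiv_apply_ιMulti, h0, map_zero]
    have h2 : detFun (H.card + 1) s v = m' i := by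
      unfold detFun
      rw [AlternatingMap.compLinearMap_apply]
      change Matrix.det (Matrix.of fun k l => v k (s l)) = _
      rw [Matrix.det_of_isLowerTriangular]
      · rw [Fin.prod_univ_succ]
        have : ∀ k : Fin H.card, (Matrix.of fun k l => v k (s l)) k.succ k.succ = 1 := by
          intro k
          simp [v, s, F_apply_of_mem H c _ (e k).2]
        rw [Finset.prod_congr rfl (fun k _ => this k)]
        simp [v, s]
      · intro k l hkl
        change k < l at hkl
        change v k (s l) = 0
        induction l using Fin.cases with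
        | zero => exact absurd hkl (Fin.not_lt_zero _)
        | succ l =>
          induction k using Fin.cases with
          | zero => simpa [v, s] using hm'H _ (e l).2
          | succ k =>
            have hne : k ≠ l := fun h => by simp [h] at hkl
            have hne' : (e k : ι) ≠ (e l : ι) := fun h => hne (e.injective (Subtype.ext h))
            simp [v, s, F_apply_of_mem H c _ (e l).2, hne']
    rw [← h2, h1]
  have h0 : m' = 0 := funext fun i => by
    by_cases hi : i ∈ H
    · exact hm'H i hi
    · exact hm'C i hi
  have h1 : m = ∑ j ∈ H, m j • F H c j := sub_eq_zero.mp h0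
  rw [h1]
  exact Submodule.sum_mem _ fun j hj =>
    Submodule.smul_mem _ _ (Submodule.subset_span ⟨j, hj, rfl⟩)

end

/-- Let A be a commutative ring, ι a finite index type, H a finite set of indices (the head indices) and
c : ι → ι → A a table of coefficients; for j ∈ H put f_j = e_j − Σ_{i ∉ H} c_{ji} e_i in the free
module A^ι, so that each f_j has head e_j with coefficient 1 and tail supported outside H. If a
submodule M of A^ι contains every f_j with j ∈ H, then M is the A-span of these f_j if and only if
every wedge product of |H|+1 elements of M vanishes in the (|H|+1)-st exterior power of A^ι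
(equivalently, every (|H|+1)-minor of every matrix whose rows lie in M vanishes). The published
statement is the case where A is a Noetherian algebra over a field of characteristic zero, A^ι is
the degree-(m+1) part of the polynomial ring over A with its basis of terms, H is the set of
degree-(m+1) terms of a strongly stable monomial ideal generated in degree m, and M is the
degree-(m+1) part of an ideal generated by a marked set on that monomial ideal; this row allows any
commutative ring and any submodule containing the marked polynomials. -/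
theorem result
    {A : Type u} [CommRing A] {ι : Type v} [Fintype ι] [DecidableEq ι]
    (H : Finset ι) (c : ι → ι → A) (M : Submodule A (ι → A))
    (hf : ∀ j ∈ H, (Pi.single j (1 : A) - ∑ i ∈ Hᶜ, c j i • Pi.single i (1 : A)) ∈ M) :
    M = Submodule.span A ((fun j => Pi.single j (1 : A) - ∑ i ∈ Hᶜ, c j i • Pi.single i (1 : A)) '' ↑H)
      ↔ ∀ v : Fin (H.card + 1) → ι → A, (∀ k, v k ∈ M) →
          exteriorPower.ιMulti A (H.card + 1) v = 0 := by
  change M = Submodule.span A (F H c '' (H : Set ι)) ↔ _
  constructor
  · intro hM v hv
    refine alt_zero_of_span (exteriorPower.ιMulti A (H.card + 1)) H (F H c) (Nat.lt_succ_self _) v ?_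
    intro k
    rw [← hM]
    exact hv k
  · intro hw
    refine le_antisymm (fun m hm => mem_span_of_wedge H c M hf hw m hm) ?_
    rw [Submodule.span_le]
    rintro _ ⟨j, hj, rfl⟩
    exact hf j hj

end Groth.Agent.S18283
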