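import Groth.Statements.S18284
import Groth.Agent.Lib.Helper5.AMonAttr

set_option autoImplicit false
universe u
open CategoryTheory MonoidalCategory CartesianMonoidalCategory MonObj AlgebraicGeometry Opposite
open Magnet

namespace Groth.Agent.S18284

/-- Let X be an S-scheme separated over S with an action of the diagonalizable monoid scheme A(M)_S of a
commutative monoid M, and let N ≤ N' be submonoids (magnets) of M. Then the canonical map of
attractors X^N → X^{N'}, precomposition with A(N')_S → A(N)_S, is a monomorphism: for every S-scheme
T it is injective on T-points. (The published statement allows X to be an algebraic space over S;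
here X is a scheme.) -/
theorem result (S : Scheme.{u}) (M : Type) [AddCommMonoid M]
    (X : Over S) [IsSeparated X.hom] (a : Magnet.MonAct (Magnet.AMonS S M) X) {N N' : AddSubmonoid M}
    (h : N ≤ N') (T : Over S) :
    Function.Injective (fun φ => (Magnet.attrMap a h).app (op T) φ) := by
  intro φ ψ e
  apply Subtype.ext
  have e1 : (AMonS.map S (AddSubmonoid.inclusion h) ▷ T) ≫ φ.1 =
      (AMonS.map S (AddSubmonoid.inclusion h) ▷ T) ≫ ψ.1 := congrArg Subtype.val e
  have := (Groth.Agent.Lib.Helper5.AMonDom.dominant_map_whiskerRight (S := S) (AddSubmonoid.inclusion h)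
    (AddSubmonoid.inclusion_injective h) T).2
  apply Groth.Agent.Lib.Helper5.AMonDom.ext_of_dominant_of_separated
    (AMonS.map S (AddSubmonoid.inclusion h) ▷ T).left
  exact congrArg (fun k => k.left) e1

end Groth.Agent.S18284
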