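import Groth.Statements.S18286
import Groth.Agent.Lib.Helper5.AMonAttr

set_option autoImplicit false
universe u
open CategoryTheory MonoidalCategory CartesianMonoidalCategory MonObj AlgebraicGeometry Opposite
open Magnet

namespace Groth.Agent.S18286

/-- Let Y be an S-scheme affine over S with an action of the diagonalizable monoid scheme A(M)_S of a
commutative monoid M, let f : Z → Y be an equivariant closed immersion (for an action of A(M)_S on
Z), and let N ⊆ M be a submonoid (magnet). Then Z^N = Z ×_Y Y^N: the square of functors on S-schemes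
formed by f^N : Z^N → Y^N, the canonical maps Z^N → Z and Y^N → Y (evaluation at the unit section)
and f is cartesian. -/
theorem result (S : Scheme.{u}) (M : Type) [AddCommMonoid M]
    (N : AddSubmonoid M) (Y Z : Over S) [IsAffineHom Y.hom] (aY : Magnet.MonAct (Magnet.AMonS S M) Y)
    (aZ : Magnet.MonAct (Magnet.AMonS S M) Z) (f : Z ⟶ Y) [IsClosedImmersion f.left]
    (hf : Magnet.MonAct.IsEquivariant aZ aY f) :
    IsPullback (Magnet.MonAct.eqvHom.postcomp (Magnet.subAct S M N) f hf) (Magnet.attrToX aZ N)
      (Magnet.attrToX aY N) (yoneda.map f) := by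
  have hmono : Mono f := by
    have : Mono ((Over.forget S).map f) := by
      change Mono f.left
      infer_instance
    exact (Over.forget S).mono_of_mono_map this
  apply IsPullback.of_forall_isPullback_app
  intro T'
  let T : Over S := unop T'
  rw [Limits.Types.isPullback_iff]
  refine ⟨?_, ?_, ?_⟩
  · ext ψ
    change Groth.Agent.Lib.Helper5.AMonAttr.ev (ψ.1 ≫ f) = Groth.Agent.Lib.Helper5.AMonAttr.ev ψ.1 ≫ f
    simp [Groth.Agent.Lib.Helper5.AMonAttr.ev]
  · rintro ψ₁ ψ₂ ⟨h1, _⟩
    apply Subtype.ext
    have h2 : ψ₁.1 ≫ f = ψ₂.1 ≫ f := congrArg Subtype.val h1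
    exact (cancel_mono f).mp h2
  · intro φ z hz
    have hz' : Groth.Agent.Lib.Helper5.AMonAttr.ev φ.1 = z ≫ f := hz
    have hdom := Groth.Agent.Lib.Helper5.AMonAttr.dominant_subtype (S := S) N T
    obtain ⟨ψ, hψ⟩ := Groth.Agent.Lib.Helper5.AMonDom.exists_lift_of_dominant f
      (AMonS.map S N.subtype ▷ T).left φ.1 ((AMonS S M ◁ z) ≫ aZ.act).left (by
        have h1 := Groth.Agent.Lib.Helper5.AMonAttr.map_whisker_comp_eq aY N φ.1 φ.2
        rw [hz', MonoidalCategory.whiskerLeft_comp, Category.assoc, ← hf] at h1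
        have h2 := congrArg (fun k => k.left) h1
        simp only [Over.comp_left, Category.assoc] at h2 ⊢
        exact h2.symm)
    have hψe : MonAct.IsEquivariant ((subAct S M N).prod (MonAct.trivial (AMonS S M) T)) aZ ψ := by
      have hφ := φ.2
      unfold MonAct.IsEquivariant at hφ ⊢
      apply (cancel_mono f).mp
      rw [Category.assoc, hψ, hφ, Category.assoc, hf, ← hψ, MonoidalCategory.whiskerLeft_comp, Category.assoc]
    refine ⟨⟨ψ, hψe⟩, ?_, ?_⟩
    · apply Subtype.ext
      exact hψ
    · apply (cancel_mono f).mp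
      change Groth.Agent.Lib.Helper5.AMonAttr.ev ψ ≫ f = z ≫ f
      rw [← hz', ← hψ]
      exact Category.assoc _ _ _

end Groth.Agent.S18286
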