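import Groth.Statements.S18288
import Groth.Agent.Lib.Helper5.AMonAttr

set_option autoImplicit false
universe u
open CategoryTheory MonoidalCategory CartesianMonoidalCategory MonObj AlgebraicGeometry Opposite
open Magnet

namespace Groth.Agent.S18288

theorem AMon_map_id (R : Type u) [CommRing R] (M : Type) [AddCommMonoid M] :
    AMon.map R (AddMonoidHom.id M) = 𝟙 _ := by
  ext : 1
  rw [AMon.map_left]
  change Spec.map _ = 𝟙 _
  rw [← Spec.map_id]
  congr 1
  refine CommRingCat.hom_ext ?_
  apply MonoidAlgebra.ringHom_ext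
  · intro r; simp
  · intro m; simp

theorem AMonS_map_id (S : Scheme.{u}) (M : Type) [AddCommMonoid M] :
    AMonS.map S (AddMonoidHom.id M) = 𝟙 _ := by
  rw [AMonS.map, AMon_map_id]
  exact CategoryTheory.Functor.map_id _ _

/-- Let M be a commutative monoid with an injective homomorphism f : M → Z into a commutative group Z
(so M is cancellative; the published statement takes Z to be the group completion of M, and the same
argument applies to any such Z), let Y be a submonoid of Z contained in the image of M, and let X be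
an S-scheme separated over S with an action of the diagonalizable monoid scheme A(M)_S. Regard X as
a D(Z)_S-scheme through D(Z)_S → A(M)_S. Then the canonical map of attractors X^{f⁻¹Y ⊂ M} → X^{Y ⊂
Z} is an isomorphism: a D(Z)_S-equivariant family out of A(Y)_S is automatically A(M)_S-equivariant.
(The published statement allows X to be an algebraic space; here X is a scheme.) -/
theorem result (S : Scheme.{u}) (M Z : Type) [AddCommMonoid M]
    [AddCommGroup Z] (f : M →+ Z) (hf : Function.Injective f) (Y : AddSubmonoid Z)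
    (hY : Y ≤ AddMonoidHom.mrange f) (X : Over S) [IsSeparated X.hom]
    (a : Magnet.MonAct (Magnet.AMonS S M) X) :
    IsIso (Magnet.attrComap a f Y) := by
  -- the comparison of monoids is an isomorphism
  let N : AddSubmonoid M := Y.comap f
  let g : ↥N →+ ↥Y := (f.comp N.subtype).codRestrict Y (fun x => x.2)
  have hgbij : Function.Bijective g := by
    constructor
    · intro x y hxy
      have h1 : f x.1 = f y.1 := congrArg Subtype.val hxy
      exact Subtype.ext (hf h1)
    · intro y
      obtain ⟨m, hm⟩ := hY y.2
      exact ⟨⟨m, by change f m ∈ Y; rw [hm]; exact y.2⟩, Subtype.ext hm⟩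
  let e : ↥N ≃+ ↥Y := AddEquiv.ofBijective g hgbij
  let gi : AMonS S ↥N ⟶ AMonS S ↥Y := AMonS.map S e.symm.toAddMonoidHom
  have h1 : AMonS.map S g ≫ gi = 𝟙 _ := by
    rw [← AMonS.map_comp, ← AMonS_map_id]
    congr 1
    ext y
    exact congrArg Subtype.val (e.apply_symm_apply y)
  have h2 : gi ≫ AMonS.map S g = 𝟙 _ := by
    rw [← AMonS.map_comp, ← AMonS_map_id]
    congr 1
    ext x
    exact congrArg Subtype.val (e.symm_apply_apply x)
  have h3 : AMonS.map S f ≫ AMonS.map S N.subtype ≫ gi = AMonS.map S Y.subtype := by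
    rw [← AMonS.map_comp, ← AMonS.map_comp]
    congr 1
    ext y
    change f (e.symm y).1 = y.1
    exact congrArg Subtype.val (e.apply_symm_apply y)
  apply (config := { allowSynthFailures := true }) NatIso.isIso_of_isIso_app
  intro T'
  let T : Over S := unop T'
  rw [isIso_iff_bijective]
  constructor
  · intro φ ψ h
    apply Subtype.ext
    have h4 : (AMonS.map S g ▷ T) ≫ φ.1 = (AMonS.map S g ▷ T) ≫ ψ.1 := congrArg Subtype.val h
    have h5 := congrArg (fun k => (gi ▷ T) ≫ k) h4
    simp only [← Category.assoc, ← MonoidalCategory.comp_whiskerRight, h2,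
      MonoidalCategory.id_whiskerRight, Category.id_comp] at h5
    exact h5
  · intro ψ
    have hψ := ψ.2
    rw [MonAct.mem_eqvHom_iff] at hψ
    let φ : AMonS S ↥N ⊗ T ⟶ X := (gi ▷ T) ≫ ψ.1
    have hφ : MonAct.IsEquivariant ((subAct S M N).prod (MonAct.trivial (AMonS S M) T)) a φ := by
      unfold MonAct.IsEquivariant
      have hdom := (Groth.Agent.Lib.Helper5.AMonDom.dominant_map_whiskerRight (S := S) f hf
        (AMonS S ↥N ⊗ T)).2
      apply Groth.Agent.Lib.Helper5.AMonDom.ext_of_dominant_of_separated
        (AMonS.map S f ▷ (AMonS S ↥N ⊗ T)).left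
      have h4 : (AMonS.map S f ▷ (AMonS S ↥N ⊗ T)) ≫
            ((subAct S M N).prod (MonAct.trivial (AMonS S M) T)).act ≫ φ =
          (AMonS.map S f ▷ (AMonS S ↥N ⊗ T)) ≫ (AMonS S M ◁ φ) ≫ a.act := by
        apply Magnet.hom_ext_lift₂
        intro T'' z w
        rw [← lift_comp_fst_snd w]
        generalize w ≫ fst _ _ = b
        generalize w ≫ snd _ _ = t
        rw [lift_whiskerRight_assoc, lift_whiskerRight_assoc, MonAct.lift_prod_act_assoc,
          MonAct.lift_trivial_act, lift_whiskerLeft_assoc]
        change lift (lift (z ≫ AMonS.map S f) b ≫ (subAct S M N).act) t ≫ (gi ▷ T) ≫ ψ.1 =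
          lift (z ≫ AMonS.map S f) (lift b t ≫ (gi ▷ T) ≫ ψ.1) ≫ a.act
        rw [lift_whiskerRight_assoc, lift_whiskerRight_assoc]
        have h5 : (lift (z ≫ AMonS.map S f) b ≫ (subAct S M N).act) ≫ gi =
            lift z (b ≫ gi) ≫ (subAct S Z Y).act := by
          rw [subAct, subAct, MonAct.lift_restrict_act, MonAct.lift_regular_act,
            MonAct.lift_restrict_act, MonAct.lift_regular_act, MonObj.mul_comp, Category.assoc,
            Category.assoc, h3]
        rw [h5, hψ, MonAct.lift_restrict_act]
      exact congrArg (fun k => k.left) h4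
    refine ⟨⟨φ, hφ⟩, ?_⟩
    apply Subtype.ext
    change (AMonS.map S g ▷ T) ≫ (gi ▷ T) ≫ ψ.1 = ψ.1
    rw [← Category.assoc, ← MonoidalCategory.comp_whiskerRight, h1, MonoidalCategory.id_whiskerRight,
      Category.id_comp]

end Groth.Agent.S18288
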