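import Groth.Statements.S18294
import Mathlib

set_option autoImplicit false
universe u
open CategoryTheory MonoidalCategory CartesianMonoidalCategory MonObj AlgebraicGeometry Opposite
open Magnet

namespace Groth.Agent.S18294

/-- Let A be a monoid object in schemes over S acting on S-schemes B and X (in the source A is the
diagonalizable monoid scheme A(M)_S and B = A(N)_S for a magnet N, so that the functor below is the
attractor X^N). Then the functor on S-schemes T ↦ (morphisms B ×_S T → X over S equivariant for A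
acting on the first factor) is a sheaf for the fppf topology. -/
theorem result (S : Scheme.{u}) (A B X : Over S) [MonObj A] (ρ : Magnet.MonAct A B)
    (a : Magnet.MonAct A X) :
    Presheaf.IsSheaf (QuotSh.J Scheme.fppfPrecoverage S) (Magnet.MonAct.eqvHom ρ a) := by
  rw [isSheaf_iff_isSheaf_of_type]
  have hX : Presieve.IsSheaf (QuotSh.J Scheme.fppfPrecoverage S) (yoneda.obj X) :=
    GrothendieckTopology.Subcanonical.isSheaf_of_isRepresentable
      (J := QuotSh.J Scheme.fppfPrecoverage S) (yoneda.obj X)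
  intro T R hR x hx
  rw [Presieve.compatible_iff_sieveCompatible] at hx
  -- congruence for the family
  have xcongr : ∀ {Z : Over S} (g₁ g₂ : Z ⟶ T) (h₁ : R g₁) (h₂ : R g₂), g₁ = g₂ →
      (x g₁ h₁).1 = (x g₂ h₂).1 := by
    intro Z g₁ g₂ h₁ h₂ e
    subst e
    rfl
  have xcomp : ∀ {Z Z' : Over S} (g : Z ⟶ T) (hg : R g) (k : Z' ⟶ Z) (hkg : R (k ≫ g)),
      (x (k ≫ g) hkg).1 = (B ◁ k) ≫ (x g hg).1 := by
    intro Z Z' g hg k hkg
    have := hx g k hg
    exact congrArg Subtype.val this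
  -- the covering sieve on `B ⊗ T`
  let RB : Sieve (B ⊗ T) := Sieve.pullback (snd B T) R
  have hRB : RB ∈ QuotSh.J Scheme.fppfPrecoverage S (B ⊗ T) :=
    (QuotSh.J Scheme.fppfPrecoverage S).pullback_stable (snd B T) hR
  let y : Presieve.FamilyOfElements (yoneda.obj X) RB.arrows := fun Z h hh =>
    lift (h ≫ fst B T) (𝟙 Z) ≫ (x (h ≫ snd B T) hh).1
  have hy : y.Compatible := by
    rw [Presieve.compatible_iff_sieveCompatible]
    intro Z Z' h k hh
    change lift ((k ≫ h) ≫ fst B T) (𝟙 Z') ≫ (x ((k ≫ h) ≫ snd B T) _).1 =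
      k ≫ lift (h ≫ fst B T) (𝟙 Z) ≫ (x (h ≫ snd B T) hh).1
    rw [xcongr ((k ≫ h) ≫ snd B T) (k ≫ h ≫ snd B T) _ (R.downward_closed hh k)
      (Category.assoc _ _ _), xcomp (h ≫ snd B T) hh k, lift_whiskerLeft_assoc, comp_lift_assoc]
    simp
  obtain ⟨φ, hφ, hφu⟩ := hX RB hRB y hy
  have hφ' : ∀ {Z : Over S} (h : Z ⟶ B ⊗ T) (hh : R (h ≫ snd B T)),
      h ≫ φ = lift (h ≫ fst B T) (𝟙 Z) ≫ (x (h ≫ snd B T) hh).1 := fun h hh => hφ h hh
  -- amalgamation property
  have hamal : ∀ {Z : Over S} (g : Z ⟶ T) (hg : R g), (B ◁ g) ≫ φ = (x g hg).1 := by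
    intro Z g hg
    have h1 : R ((B ◁ g) ≫ snd B T) := by
      rw [whiskerLeft_snd]
      exact R.downward_closed hg _
    rw [hφ' (B ◁ g) h1, xcongr ((B ◁ g) ≫ snd B T) (snd B Z ≫ g) h1 (R.downward_closed hg _)
      (whiskerLeft_snd _ _), xcomp g hg (snd B Z), lift_whiskerLeft_assoc, whiskerLeft_fst]
    simp
  -- values of `φ` on points over `R`
  have hpt : ∀ {Z : Over S} (b : Z ⟶ B) (t : Z ⟶ T) (ht : R t),
      lift b t ≫ φ = lift b (𝟙 Z) ≫ (x t ht).1 := by
    intro Z b t ht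
    rw [← hamal t ht, lift_whiskerLeft_assoc, Category.id_comp]
  have hsep : ∀ {Z : Over S} (t : Z ⟶ T) (m₁ m₂ : Z ⟶ X),
      (∀ {Z' : Over S} (k : Z' ⟶ Z), R (k ≫ t) → k ≫ m₁ = k ≫ m₂) → m₁ = m₂ := by
    intro Z t m₁ m₂ h
    have hsepX := hX.isSeparated
    exact hsepX (R.pullback t) ((QuotSh.J Scheme.fppfPrecoverage S).pullback_stable t hR)
      (fun Z' k hk => k ≫ m₁) m₁ m₂ (fun Z' k hk => rfl) (fun Z' k hk => (h k hk).symm)
  -- equivariance
  have heq : MonAct.IsEquivariant (ρ.prod (MonAct.trivial A T)) a φ := by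
    rw [MonAct.mem_eqvHom_iff]
    intro T' g b t
    apply hsep t
    intro T'' k hk
    have hψ := (x (k ≫ t) hk).2
    rw [MonAct.mem_eqvHom_iff] at hψ
    have h2 := hψ T'' (k ≫ g) (k ≫ b) (𝟙 T'')
    simp only [comp_lift_assoc]
    rw [hpt _ (k ≫ t) hk, hpt _ (k ≫ t) hk]
    exact h2
  refine ⟨⟨φ, heq⟩, ?_, ?_⟩
  · intro Z g hg
    apply Subtype.ext
    exact hamal g hg
  · intro φ' hφ'2
    apply Subtype.ext
    apply hφu
    intro Z h hh
    have h3 : (B ◁ (h ≫ snd B T)) ≫ φ'.1 = (x (h ≫ snd B T) hh).1 :=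
      congrArg Subtype.val (hφ'2 (h ≫ snd B T) hh)
    change h ≫ φ'.1 = lift (h ≫ fst B T) (𝟙 Z) ≫ (x (h ≫ snd B T) hh).1
    rw [← h3, lift_whiskerLeft_assoc, Category.id_comp, lift_comp_fst_snd]

end Groth.Agent.S18294
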