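import Groth.Statements.S18300
import Mathlib

set_option autoImplicit false
universe u
open CategoryTheory MonoidalCategory CartesianMonoidalCategory MonObj AlgebraicGeometry Opposite
open Magnet

namespace Groth.Agent.S18300


open CategoryTheory.Limits ActBC

theorem bcComp_act {S S' S'' : Scheme.{u}} (f : S'' ⟶ S') (g : S' ⟶ S) {d : S'' ⟶ S}
    {A X : Over S} [MonObj A] (h : f ≫ g = d) (a : MonAct A X) :
    ((a.bc g).bc f).act ≫ (bcCompIso f g X h).hom =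
      ((Red.bc f (Red.bc g A)) ◁ (bcCompIso f g X h).hom) ≫
        ((bcCompIso f g A h).hom ▷ Red.bc d X) ≫ (a.bc d).act := by
  ext
  apply pullback.hom_ext
  · simp only [MonAct.bc_act, Over.comp_left, Category.assoc,
      bcCompIso_hom_left_fst, pullback_map_left_fst, pullback_map_left_fst_assoc]
    simp only [← Category.assoc]
    congr 1
    simp only [Category.assoc]
    apply pullback.hom_ext
    · simp only [Category.assoc]
      rw [μ_left_fst_fst, μ_left_fst_fst_assoc, μ_left_fst_fst, Over.whiskerRight_left_fst_assoc,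
        Over.whiskerLeft_left_fst_assoc, bcCompIso_hom_left_fst]
    · simp only [Category.assoc]
      rw [μ_left_fst_snd, μ_left_fst_snd_assoc, μ_left_fst_snd, Over.whiskerRight_left_snd_assoc,
        Over.whiskerLeft_left_snd_assoc, bcCompIso_hom_left_fst]
  · exact (Over.w _).trans (Over.w _).symm

section transfer

variable {C : Type*} [Category C] [CartesianMonoidalCategory C] {A₁ A₂ B₁ B₂ X₁ X₂ : C}
  [MonObj A₁] [MonObj A₂]

theorem intertwine_points (cA : A₁ ≅ A₂) (cB : B₁ ≅ B₂) (ρ₁ : MonAct A₁ B₁) (ρ₂ : MonAct A₂ B₂)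
    (hB : ρ₁.act ≫ cB.hom = (A₁ ◁ cB.hom) ≫ (cA.hom ▷ B₂) ≫ ρ₂.act) {T : C} (g : T ⟶ A₁)
    (x : T ⟶ B₁) : lift g x ≫ ρ₁.act ≫ cB.hom = lift (g ≫ cA.hom) (x ≫ cB.hom) ≫ ρ₂.act := by
  rw [hB, lift_whiskerLeft_assoc, lift_whiskerRight_assoc]

theorem transfer (cA : A₁ ≅ A₂) (cB : B₁ ≅ B₂) (cX : X₁ ≅ X₂) (ρ₁ : MonAct A₁ B₁)
    (ρ₂ : MonAct A₂ B₂) (a₁ : MonAct A₁ X₁) (a₂ : MonAct A₂ X₂)
    (hB : ρ₁.act ≫ cB.hom = (A₁ ◁ cB.hom) ≫ (cA.hom ▷ B₂) ≫ ρ₂.act)
    (hX : a₁.act ≫ cX.hom = (A₁ ◁ cX.hom) ≫ (cA.hom ▷ X₂) ≫ a₂.act) (ψ : B₁ ⟶ X₁)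
    (hψ : MonAct.IsEquivariant ρ₁ a₁ ψ) : MonAct.IsEquivariant ρ₂ a₂ (cB.inv ≫ ψ ≫ cX.hom) := by
  rw [MonAct.isEquivariant_iff] at hψ ⊢
  intro T g x
  have h1 := intertwine_points cA cB ρ₁ ρ₂ hB (g ≫ cA.inv) (x ≫ cB.inv)
  have h2 := intertwine_points cA cX a₁ a₂ hX (g ≫ cA.inv) ((x ≫ cB.inv) ≫ ψ)
  simp only [Category.assoc, Iso.inv_hom_id, Category.comp_id] at h1 h2
  rw [← reassoc_of% h1, ← h2, Iso.hom_inv_id_assoc, reassoc_of% (hψ T (g ≫ cA.inv) (x ≫ cB.inv))]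

theorem transfer' (cA : A₁ ≅ A₂) (cB : B₁ ≅ B₂) (cX : X₁ ≅ X₂) (ρ₁ : MonAct A₁ B₁)
    (ρ₂ : MonAct A₂ B₂) (a₁ : MonAct A₁ X₁) (a₂ : MonAct A₂ X₂)
    (hB : ρ₁.act ≫ cB.hom = (A₁ ◁ cB.hom) ≫ (cA.hom ▷ B₂) ≫ ρ₂.act)
    (hX : a₁.act ≫ cX.hom = (A₁ ◁ cX.hom) ≫ (cA.hom ▷ X₂) ≫ a₂.act) (φ : B₂ ⟶ X₂)
    (hφ : MonAct.IsEquivariant ρ₂ a₂ φ) : MonAct.IsEquivariant ρ₁ a₁ (cB.hom ≫ φ ≫ cX.inv) := by
  rw [MonAct.isEquivariant_iff] at hφ ⊢
  intro T g x
  have h1 := intertwine_points cA cB ρ₁ ρ₂ hB g x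
  have h2 := intertwine_points cA cX a₁ a₂ hX g (x ≫ cB.hom ≫ φ ≫ cX.inv)
  simp only [Category.assoc, Iso.inv_hom_id, Category.comp_id] at h1 h2
  rw [← cancel_mono cX.hom]
  simp only [Category.assoc, Iso.inv_hom_id, Category.comp_id]
  rw [h2, reassoc_of% h1, hφ]
  simp only [Category.assoc]

end transfer


/-- Let X be an S-scheme with an action of the diagonalizable monoid scheme A(M)_S of a commutative
monoid M, N a submonoid of M, and T an S-scheme; X_T = X ×_S T carries the base-changed action of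
A(M)_T. Then X^N ×_S T = (X_T)^N objectwise: for every scheme T'' over T, the value of the attractor
X^N at T'' (regarded over S) is in bijection with the value at T'' of the attractor of X_T, namely
the maps A(N)_T ×_T T'' → X_T equivariant for the base-changed actions; the bijection is pinned by
requiring that, under the identifications of both sides with equivariant morphisms between base
changes to T'', it is conjugation by the canonical isomorphisms (Y ×_S T) ×_T T'' ≅ Y ×_S T'' for Y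
= A(N)_S and Y = X. (Naturality in T'' is not part of this statement; X may be an algebraic space in
the source, here it is a scheme.) -/
theorem result (S : Scheme.{u}) (M : Type) [AddCommMonoid M] (N : AddSubmonoid M)
    (X : Over S) (a : Magnet.MonAct (Magnet.AMonS S M) X) (T : Over S) (T'' : Over T.left) :
    ∃ Φ : (Magnet.attr a N).obj (op ((Over.map T.hom).obj T'')) ≃
        (Magnet.MonAct.eqvHom ((Magnet.subAct S M N).bc T.hom) (a.bc T.hom)).obj (op T''),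
      ∀ φ, (Magnet.eqvHomEquivBc T'' ((Magnet.subAct S M N).bc T.hom) (a.bc T.hom) (Φ φ)).1 ≫
          (ActBC.bcCompIso T''.hom T.hom X rfl).hom =
        (ActBC.bcCompIso T''.hom T.hom (Magnet.AMonS S N) rfl).hom ≫
          (Magnet.eqvHomEquivBc ((Over.map T.hom).obj T'') (Magnet.subAct S M N) a φ).1 := by
  let cA := bcCompIso T''.hom T.hom (AMonS S M) rfl
  let cB := bcCompIso T''.hom T.hom (AMonS S N) rfl
  let cX := bcCompIso T''.hom T.hom X rfl
  have hB := bcComp_act T''.hom T.hom (d := T''.hom ≫ T.hom) rfl (subAct S M N)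
  have hX := bcComp_act T''.hom T.hom (d := T''.hom ≫ T.hom) rfl a
  let E := eqvHomEquivBc ((Over.map T.hom).obj T'') (subAct S M N) a
  let E'' := eqvHomEquivBc T'' ((subAct S M N).bc T.hom) (a.bc T.hom)
  let mid : {φ' : Red.bc (T''.hom ≫ T.hom) (AMonS S N) ⟶ Red.bc (T''.hom ≫ T.hom) X //
        MonAct.IsEquivariant ((subAct S M N).bc (T''.hom ≫ T.hom)) (a.bc (T''.hom ≫ T.hom)) φ'} ≃
      {ψ' : Red.bc T''.hom (Red.bc T.hom (AMonS S N)) ⟶ Red.bc T''.hom (Red.bc T.hom X) //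
        MonAct.IsEquivariant (((subAct S M N).bc T.hom).bc T''.hom)
          ((a.bc T.hom).bc T''.hom) ψ'} :=
    { toFun := fun φ' => ⟨cB.hom ≫ φ'.1 ≫ cX.inv, transfer' cA cB cX _ _ _ _ hB hX φ'.1 φ'.2⟩
      invFun := fun ψ' => ⟨cB.inv ≫ ψ'.1 ≫ cX.hom, transfer cA cB cX _ _ _ _ hB hX ψ'.1 ψ'.2⟩
      left_inv := fun φ' => Subtype.ext (by simp)
      right_inv := fun ψ' => Subtype.ext (by simp) }
  refine ⟨(E.trans mid).trans E''.symm, ?_⟩
  intro φ
  change (E'' (E''.symm (mid (E φ)))).1 ≫ cX.hom = cB.hom ≫ (E φ).1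
  rw [Equiv.apply_symm_apply]
  change (cB.hom ≫ (E φ).1 ≫ cX.inv) ≫ cX.hom = _
  simp

end Groth.Agent.S18300
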