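import Groth.Statements.S18317
import Groth.Agent.Lib.Helper72.FinConnTorsor
import Groth.Agent.Lib.Helper72.GrpExt

set_option autoImplicit false
universe u
open CategoryTheory AlgebraicGeometry
open NonAbH1

namespace Groth.Agent.S18317

/-- Let K be a field and G a finite connected K-group scheme (G → Spec K finite, G connected as a
topological space). Then every G-torsor X over Spec K for the étale topology (a K-scheme with an
action of G whose shear map G ×_K X → X ×_K X is an isomorphism and which acquires a section over
the members of some étale covering of Spec K) is trivial: X has a K-point. -/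
theorem result (K : Type u) [Field K]
    (G X : Over (Spec (CommRingCat.of K))) [GrpObj G] [IsFinite G.hom] [ConnectedSpace G.left]
    (a : AlgGrp.Action G X) (h : NonAbH1.IsTorsorFor Scheme.etalePrecoverage a) :
    NonAbH1.HasSectionOver X (𝟙 (Spec (CommRingCat.of K))) := by
  classical
  obtain ⟨hiso, R, hR, hsec⟩ := h
  obtain ⟨T, f, hRf, hfet, hne⟩ :=
    Groth.Agent.Lib.Helper72.FinConnTorsor.exists_nonempty_mem (K := K) @Etale hR
  obtain ⟨s, hs⟩ := hsec f hRf
  haveI : Etale f := hfet
  haveI : Nonempty T := hne
  haveI : Surjective f := Groth.Agent.Lib.Helper72.GrpExt.surjective_of_field f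
  haveI : Flat f := inferInstance
  haveI : LocallyOfFinitePresentation f := inferInstance
  haveI : EffectiveEpi f := inferInstance
  haveI : Etale (Limits.pullback.fst f f) := inferInstance
  have hE : Etale (Limits.pullback.fst f f ≫ f) :=
    MorphismProperty.comp_mem _ _ _ ‹Etale (Limits.pullback.fst f f)› ‹Etale f›
  have hred : IsReduced (Limits.pullback f f) :=
    Groth.Agent.Lib.Helper72.FinConnTorsor.isReduced_of_etale_field
      (Limits.pullback.fst f f ≫ f)
  exact Groth.Agent.Lib.Helper72.FinConnTorsor.exists_section_of_reduced_kernelPair G X a hiso f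
    hred s hs

end Groth.Agent.S18317
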