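import Groth.Statements.S18319
import Groth.Agent.Lib.Helper72.FinConnTorsor
import Groth.Agent.Lib.Helper72.GrpExt
import Mathlib.RingTheory.Jacobson.Ring
import Mathlib.RingTheory.Etale.Field
import Mathlib.FieldTheory.Perfect

set_option autoImplicit false
universe u
open CategoryTheory AlgebraicGeometry
open NonAbH1

namespace Groth.Agent.S18319

/-- Let K be a perfect field and G a finite connected K-group scheme (G → Spec K finite, G connected).
Then every G-torsor X over Spec K for the fppf topology (simply transitive action, a section over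
the members of some fppf covering of Spec K) is trivial: X has a K-point. -/
theorem result (K : Type u) [Field K]
    [PerfectField K] (G X : Over (Spec (CommRingCat.of K))) [GrpObj G] [IsFinite G.hom] [ConnectedSpace G.left]
    (a : AlgGrp.Action G X) (h : NonAbH1.IsTorsorFor Scheme.fppfPrecoverage a) :
    NonAbH1.HasSectionOver X (𝟙 (Spec (CommRingCat.of K))) := by
  classical
  obtain ⟨hiso, R, hR, hsec⟩ := h
  obtain ⟨T, f, hRf, hfp, ⟨t⟩⟩ :=
    Groth.Agent.Lib.Helper72.FinConnTorsor.exists_nonempty_mem (K := K)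
      (@Flat ⊓ @LocallyOfFinitePresentation) hR
  obtain ⟨s, hs⟩ := hsec f hRf
  haveI : LocallyOfFinitePresentation f := hfp.2
  -- an affine open neighbourhood of `t` and a closed point of it
  obtain ⟨_, ⟨U, hU : IsAffineOpen U, rfl⟩, htU, -⟩ :=
    T.isBasis_affineOpens.exists_subset_of_mem_open (Set.mem_univ t) isOpen_univ
  haveI : LocallyOfFiniteType (hU.fromSpec ≫ f) := inferInstance
  have hft : LocallyOfFiniteType (Spec.map (Spec.preimage (hU.fromSpec ≫ f))) := by
    rw [Spec.map_preimage]
    infer_instance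
  have hφ := (HasRingHomProperty.Spec_iff (P := @LocallyOfFiniteType)).mp hft
  algebraize [(Spec.preimage (hU.fromSpec ≫ f)).hom]
  haveI : Nonempty U := ⟨⟨t, htU⟩⟩
  haveI : Nontrivial Γ(T, U) := inferInstance
  obtain ⟨m, hm⟩ := Ideal.exists_maximal Γ(T, U)
  letI : Field (Γ(T, U) ⧸ m) := Ideal.Quotient.field m
  haveI : Algebra.FiniteType K (Γ(T, U) ⧸ m) :=
    Algebra.FiniteType.of_surjective (Ideal.Quotient.mkₐ K m) (Ideal.Quotient.mkₐ_surjective K m)
  haveI : Module.Finite K (Γ(T, U) ⧸ m) := finite_of_finite_type_of_isJacobsonRing K _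
  haveI : Algebra.IsSeparable K (Γ(T, U) ⧸ m) := inferInstance
  haveI : Algebra.FormallyEtale K (Γ(T, U) ⧸ m) := Algebra.FormallyEtale.of_isSeparable K _
  haveI : Algebra.FinitePresentation K (Γ(T, U) ⧸ m) :=
    Algebra.FinitePresentation.of_finiteType.mp inferInstance
  haveI : Algebra.Etale K (Γ(T, U) ⧸ m) := ⟨inferInstance, inferInstance⟩
  -- the finite étale covering `Spec L ⟶ Spec K` and the point of `X` over it
  let f'' : Spec (CommRingCat.of (Γ(T, U) ⧸ m)) ⟶ Spec (CommRingCat.of K) :=
    Spec.map (CommRingCat.ofHom (algebraMap K (Γ(T, U) ⧸ m)))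
  haveI hE : Etale f'' :=
    (HasRingHomProperty.Spec_iff (P := @Etale)).mpr (RingHom.etale_algebraMap.mpr inferInstance)
  haveI : Surjective f'' := Groth.Agent.Lib.Helper72.GrpExt.surjective_of_field f''
  haveI : Flat f'' := inferInstance
  haveI : LocallyOfFinitePresentation f'' := inferInstance
  haveI : EffectiveEpi f'' := inferInstance
  haveI : Etale (Limits.pullback.fst f'' f'') := inferInstance
  have hE2 : Etale (Limits.pullback.fst f'' f'' ≫ f'') :=
    MorphismProperty.comp_mem _ _ _ ‹Etale (Limits.pullback.fst f'' f'')› hE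
  have hred : IsReduced (Limits.pullback f'' f'') :=
    Groth.Agent.Lib.Helper72.FinConnTorsor.isReduced_of_etale_field
      (Limits.pullback.fst f'' f'' ≫ f'')
  let s' : Spec (CommRingCat.of (Γ(T, U) ⧸ m)) ⟶ X.left :=
    Spec.map (CommRingCat.ofHom (Ideal.Quotient.mk m)) ≫ hU.fromSpec ≫ s
  have hs' : s' ≫ X.hom = f'' := by
    show (Spec.map (CommRingCat.ofHom (Ideal.Quotient.mk m)) ≫ hU.fromSpec ≫ s) ≫ X.hom = f''
    rw [Category.assoc, Category.assoc, hs, ← Spec.map_preimage (hU.fromSpec ≫ f), ← Spec.map_comp]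
    rfl
  exact Groth.Agent.Lib.Helper72.FinConnTorsor.exists_section_of_reduced_kernelPair G X a hiso f''
    hred s' hs'

end Groth.Agent.S18319
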