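import Groth.Statements.S18318
import Groth.Agent.Lib.Helper72.FinConnFrob
import Groth.Agent.S18319

set_option autoImplicit false
universe u
open CategoryTheory AlgebraicGeometry
open NonAbH1

namespace Groth.Agent.S18318

/-- Let K be a field of exponential characteristic p and G a finite connected K-group scheme. Then there
is an integer n ≥ 0 such that every G-torsor X over Spec K for the fppf topology (simply transitive
action, a section over the members of some fppf covering) becomes trivial over the purely
inseparable extension K^{1/p^n} of K: equivalently, X admits a K-morphism from Spec K regarded as a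
K-scheme through the n-th iterate x ↦ x^(p^n) of the Frobenius endomorphism of K. The source
moreover bounds n by p^n ≤ (#G)!; only the existence of a uniform n is stated here. In particular (p
= 1, characteristic zero) every such torsor is trivial. -/
theorem result (K : Type u) [Field K]
    (p : ℕ) [ExpChar K p] (G : Over (Spec (CommRingCat.of K))) [GrpObj G] [IsFinite G.hom] [ConnectedSpace G.left] :
    ∃ n : ℕ, ∀ (X : Over (Spec (CommRingCat.of K))) (a : AlgGrp.Action G X), NonAbH1.IsTorsorFor Scheme.fppfPrecoverage a →
      NonAbH1.HasSectionOver X (Spec.map (CommRingCat.ofHom (iterateFrobenius K p n))) := by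
  classical
  rcases ‹ExpChar K p› with _ | hprime
  · -- characteristic zero: every torsor is trivial
    refine ⟨0, fun X a h => ?_⟩
    haveI : PerfectField K := PerfectField.ofCharZero
    rw [iterateFrobenius_zero]
    have hid : Spec.map (CommRingCat.ofHom (RingHom.id K)) = 𝟙 (Spec (CommRingCat.of K)) :=
      Spec.map_id _
    rw [hid]
    exact Groth.Agent.S18319.result K G X a h
  · -- characteristic `p`
    haveI : ExpChar K p := ExpChar.prime hprime
    obtain ⟨n, hn⟩ := Groth.Agent.Lib.Helper72.FinConnFrob.exists_section_frob p hprime.two_le G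
    refine ⟨n, fun X a h => ?_⟩
    obtain ⟨hiso, R, hR, hsec⟩ := h
    obtain ⟨T, f, hRf, hfp, ⟨t⟩⟩ :=
      Groth.Agent.Lib.Helper72.FinConnTorsor.exists_nonempty_mem (K := K)
        (@Flat ⊓ @LocallyOfFinitePresentation) hR
    obtain ⟨s, hs⟩ := hsec f hRf
    obtain ⟨_, ⟨U, hU : IsAffineOpen U, rfl⟩, htU, -⟩ :=
      T.isBasis_affineOpens.exists_subset_of_mem_open (Set.mem_univ t) isOpen_univ
    algebraize [(Spec.preimage (hU.fromSpec ≫ f)).hom]
    haveI : Nonempty U := ⟨⟨t, htU⟩⟩
    haveI : Nontrivial Γ(T, U) := inferInstance
    have hs' : (hU.fromSpec ≫ s) ≫ X.hom =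
        Spec.map (CommRingCat.ofHom (algebraMap K Γ(T, U))) := by
      rw [Category.assoc, hs, ← Spec.map_preimage (hU.fromSpec ≫ f)]
      rfl
    exact hn X a hiso Γ(T, U) (hU.fromSpec ≫ s) hs'

end Groth.Agent.S18318
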