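import Groth.Statements.S1832
import Groth.Agent.Lib.Helper29.Idx
import Groth.Agent.Lib.Helper29.LengthFormula
import Mathlib.RingTheory.KrullDimension.Module
import Mathlib.RingTheory.Support

set_option autoImplicit false
universe u v
open Pointwise
open CycAlg

namespace Groth.Agent.S1832

open Groth.Agent.Lib.Helper29.Idx

-- AUX BEGIN
open IsLocalRing in
/-- a finite module over a Noetherian local ring whose support has dimension `≤ 0` has finite
length (universe polymorphic version) -/
theorem length_ne_top_of_supportDim_le_zero' {R : Type u} [CommRing R] [IsNoetherianRing R]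
    [IsLocalRing R] (T : Type v) [AddCommGroup T] [Module R T] [Module.Finite R T]
    (h : Module.supportDim R T ≤ 0) : Module.length R T ≠ ⊤ := by
  rw [Module.length_ne_top_iff]
  have hprime : ∀ Q : Ideal R, Q.IsPrime → Module.annihilator R T ≤ Q → Q = maximalIdeal R := by
    intro Q hQ hann
    by_contra hne
    have hQs : (⟨Q, hQ⟩ : PrimeSpectrum R) ∈ Module.support R T :=
      Module.mem_support_iff_of_finite.mpr hann
    have hms : closedPoint R ∈ Module.support R T :=
      Module.mem_support_iff_of_finite.mpr (hann.trans (le_maximalIdeal hQ.ne_top))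
    have hlt : (⟨⟨Q, hQ⟩, hQs⟩ : Module.support R T) < ⟨closedPoint R, hms⟩ := by
      refine lt_of_le_of_ne (le_maximalIdeal hQ.ne_top) ?_
      intro e
      exact hne (congrArg (fun z : Module.support R T => z.1.asIdeal) e)
    have hpos : 0 < Module.supportDim R T := by
      unfold Module.supportDim
      rw [Order.krullDim_pos_iff]
      exact ⟨_, _, hlt⟩
    exact absurd h (not_le_of_gt hpos)
  obtain ⟨n, hn⟩ : ∃ n : ℕ, (maximalIdeal R) ^ n ≤ Module.annihilator R T := by
    apply Ideal.exists_pow_le_of_le_radical_of_fg _ (IsNoetherian.noetherian _)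
    rw [Ideal.radical_eq_sInf]
    refine le_sInf ?_
    rintro Q ⟨hIQ, hQ⟩
    rw [hprime Q hQ hIQ]
  refine Groth.Agent.Lib.Helper29.LengthFormula.isFiniteLength_of_pow_smul_eq_zero T n ?_
  intro r hr y
  exact Module.mem_annihilator.mp (hn hr) y

/-- a finite module killed by `x` with support inside that of `M` has finite length -/
theorem length_lt_top_of_killed {R : Type u} [CommRing R] [IsNoetherianRing R] [IsLocalRing R]
    {M : Type v} [AddCommGroup M] [Module R M] [Module.Finite R M] (x : R)
    (hx : Module.supportDim R (M ⧸ x • (⊤ : Submodule R M)) ≤ 0)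
    (T : Type v) [AddCommGroup T] [Module R T] [Module.Finite R T]
    (hT : ∀ t : T, x • t = 0) (hsupp : Module.support R T ⊆ Module.support R M) :
    Module.length R T < ⊤ := by
  rw [lt_top_iff_ne_top]
  apply length_ne_top_of_supportDim_le_zero'
  refine le_trans ?_ hx
  have hsub : Module.support R T ⊆ Module.support R (M ⧸ x • (⊤ : Submodule R M)) := by
    intro p hp
    have h1 := Module.support_quotSMulTop (M := M) x
    change Module.support R (M ⧸ x • (⊤ : Submodule R M)) = _ at h1
    rw [h1]
    refine ⟨hsupp hp, ?_⟩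
    rw [Module.mem_support_iff_of_finite] at hp
    rw [PrimeSpectrum.mem_zeroLocus]
    intro y hy
    rw [Set.mem_singleton_iff] at hy
    subst hy
    exact hp (Module.mem_annihilator.mpr hT)
  exact Order.krullDim_le_of_strictMono (fun a => ⟨a.1, hsub a.2⟩) (fun {_ _} lt => lt)

/-- the two length identities behind `herbrand_smul_left` -/
theorem main {R : Type u} [CommRing R] {M : Type v} [AddCommGroup M] [Module R M]
    (φ ψ : M →ₗ[R] M) (hper : IsPeriodic φ ψ) (x : R) :
    Module.length R (perH (x • φ) ψ) = Module.length R (perH φ ψ) +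
        Module.length R (perH (x • LinearMap.id : ↥(LinearMap.range φ) →ₗ[R] ↥(LinearMap.range φ))
          (0 : ↥(LinearMap.range φ) →ₗ[R] ↥(LinearMap.range φ))) ∧
      Module.length R (perH ψ (x • φ)) = Module.length R (perH ψ φ) +
        Module.length R (perH (0 : ↥(LinearMap.range φ) →ₗ[R] ↥(LinearMap.range φ))
          (x • LinearMap.id : ↥(LinearMap.range φ) →ₗ[R] ↥(LinearMap.range φ))) := by
  have h1 : ∀ m, φ (ψ m) = 0 := fun m => LinearMap.congr_fun hper.1 m
  have h2 : ∀ m, ψ (φ m) = 0 := fun m => LinearMap.congr_fun hper.2 m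
  constructor
  · change idx (LinearMap.ker (x • φ)) (LinearMap.range ψ) =
      idx (LinearMap.ker φ) (LinearMap.range ψ) +
      idx (LinearMap.ker (x • LinearMap.id : ↥(LinearMap.range φ) →ₗ[R] ↥(LinearMap.range φ)))
        (LinearMap.range (0 : ↥(LinearMap.range φ) →ₗ[R] ↥(LinearMap.range φ)))
    have hJK : LinearMap.range ψ ≤ LinearMap.ker φ := by
      rintro _ ⟨m, rfl⟩
      exact h1 m
    have hKK' : LinearMap.ker φ ≤ LinearMap.ker (x • φ) := by
      intro m hm
      rw [LinearMap.mem_ker] at hm ⊢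
      rw [LinearMap.smul_apply, hm, smul_zero]
    rw [idx_chain hJK hKK']
    congr 1
    refine idx_eq_of_map φ.rangeRestrict _ _ _ _ ?_ ?_ ?_
    · intro m hm
      rw [LinearMap.mem_ker] at hm ⊢
      apply Subtype.ext
      simpa using hm
    · intro y hy
      obtain ⟨m, hm⟩ := y.2
      refine ⟨m, ?_, ?_⟩
      · rw [LinearMap.mem_ker] at hy ⊢
        have := congrArg Subtype.val hy
        simpa [← hm] using this
      · have : y - φ.rangeRestrict m = 0 := by
          apply Subtype.ext
          simp [hm]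
        rw [this]
        exact Submodule.zero_mem _
    · intro m _
      rw [LinearMap.range_zero, Submodule.mem_bot, LinearMap.mem_ker]
      constructor
      · intro h
        simpa using congrArg Subtype.val h
      · intro h
        apply Subtype.ext
        simpa using h
  · change idx (LinearMap.ker ψ) (LinearMap.range (x • φ)) =
      idx (LinearMap.ker ψ) (LinearMap.range φ) +
      idx (LinearMap.ker (0 : ↥(LinearMap.range φ) →ₗ[R] ↥(LinearMap.range φ)))
        (LinearMap.range (x • LinearMap.id : ↥(LinearMap.range φ) →ₗ[R] ↥(LinearMap.range φ)))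
    have hxI : LinearMap.range (x • φ) ≤ LinearMap.range φ := by
      rintro _ ⟨m, rfl⟩
      exact ⟨x • m, by simp⟩
    have hIL : LinearMap.range φ ≤ LinearMap.ker ψ := by
      rintro _ ⟨m, rfl⟩
      exact h2 m
    rw [idx_chain hxI hIL, add_comm]
    congr 1
    symm
    refine idx_eq_of_map (LinearMap.range φ).subtype _ _ _ _ ?_ ?_ ?_
    · intro y _
      exact y.2
    · intro y hy
      refine ⟨⟨y, hy⟩, by simp, ?_⟩
      simp
    · intro z _
      constructor
      · rintro ⟨m, hm⟩
        refine ⟨⟨φ m, ⟨m, rfl⟩⟩, ?_⟩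
        apply Subtype.ext
        simpa using hm
      · rintro ⟨w, hw⟩
        obtain ⟨m, hm⟩ := w.2
        refine ⟨m, ?_⟩
        have := congrArg Subtype.val hw
        simpa [← hm] using this

/-- finiteness of the two correction terms -/
theorem fin_terms {R : Type u} [CommRing R] [IsNoetherianRing R] [IsLocalRing R]
    {M : Type v} [AddCommGroup M] [Module R M] [Module.Finite R M] (I : Submodule R M) (x : R)
    (hx : Module.supportDim R (M ⧸ x • (⊤ : Submodule R M)) ≤ 0) :
    Module.length R (perH (x • LinearMap.id : ↥I →ₗ[R] ↥I) (0 : ↥I →ₗ[R] ↥I)) < ⊤ ∧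
    Module.length R (perH (0 : ↥I →ₗ[R] ↥I) (x • LinearMap.id : ↥I →ₗ[R] ↥I)) < ⊤ := by
  have hsub : ∀ (S : Submodule R ↥I) (S' : Submodule R ↥S),
      Module.support R (↥S ⧸ S') ⊆ Module.support R M := by
    intro S S'
    refine (Module.support_subset_of_surjective S'.mkQ (Submodule.mkQ_surjective _)).trans ?_
    exact Module.support_subset_of_injective (I.subtype ∘ₗ S.subtype)
      (I.subtype_injective.comp S.subtype_injective)
  constructor
  · refine length_lt_top_of_killed x hx _ ?_ (hsub _ _)
    intro t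
    obtain ⟨y, rfl⟩ := Submodule.mkQ_surjective _ t
    rw [← map_smul]
    have : x • y = 0 := by
      apply Subtype.ext
      have := y.2
      rw [LinearMap.mem_ker] at this
      simpa using this
    rw [this, map_zero]
  · refine length_lt_top_of_killed x hx _ ?_ (hsub _ _)
    intro t
    obtain ⟨y, rfl⟩ := Submodule.mkQ_surjective _ t
    rw [← map_smul, Submodule.mkQ_apply, Submodule.Quotient.mk_eq_zero]
    exact ⟨y.1, by simp⟩

theorem half {R : Type u} [CommRing R] [IsNoetherianRing R] [IsLocalRing R]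
    {M : Type v} [AddCommGroup M] [Module R M] [Module.Finite R M] (φ ψ : M →ₗ[R] M)
    (hper : IsPeriodic φ ψ) (hfin : FinCoh R φ ψ) (x : R)
    (hx : Module.supportDim R (M ⧸ x • (⊤ : Submodule R M)) ≤ 0) :
    FinCoh R (x • φ) ψ ∧ herbrand R (x • φ) ψ = herbrand R φ ψ -
      herbrand R (0 : ↥(LinearMap.range φ) →ₗ[R] ↥(LinearMap.range φ)) (x • LinearMap.id) := by
  obtain ⟨e1, e2⟩ := main φ ψ hper x
  obtain ⟨f1, f2⟩ := fin_terms (LinearMap.range φ) x hx
  obtain ⟨g1, g2⟩ := hfin
  refine ⟨⟨?_, ?_⟩, ?_⟩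
  · rw [e1]; exact ENat.add_lt_top.mpr ⟨g1, f1⟩
  · rw [e2]; exact ENat.add_lt_top.mpr ⟨g2, f2⟩
  · unfold herbrand
    rw [e1, e2, ENat.toNat_add g1.ne f1.ne, ENat.toNat_add g2.ne f2.ne]
    push_cast
    ring
-- AUX END


/-- Over a Noetherian local ring, let (M, φ, ψ) be a (2,1)-periodic complex with M finite and cohomology
of finite length, and let x be a ring element with M/xM supported in dimension ≤ 0. Then (M, xφ, ψ)
and (M, φ, xψ) again have finite-length cohomology, and their Herbrand quotients differ from that of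
(M, φ, ψ) by the Herbrand quotient of (im φ, 0, x), respectively (im ψ, 0, x). -/
theorem result {R : Type u} [CommRing R] [IsNoetherianRing R] [IsLocalRing R] {M : Type v} [AddCommGroup M] [Module R M] [Module.Finite R M] (φ ψ : M →ₗ[R] M) (hper : CycAlg.IsPeriodic φ ψ) (hfin : CycAlg.FinCoh R φ ψ) (x : R) (hx : Module.supportDim R (M ⧸ x • (⊤ : Submodule R M)) ≤ 0) : (CycAlg.FinCoh R (x • φ) ψ ∧ CycAlg.herbrand R (x • φ) ψ = CycAlg.herbrand R φ ψ - CycAlg.herbrand R (0 : ↥(LinearMap.range φ) →ₗ[R] ↥(LinearMap.range φ)) (x • LinearMap.id)) ∧ (CycAlg.FinCoh R φ (x • ψ) ∧ CycAlg.herbrand R φ (x • ψ) = CycAlg.herbrand R φ ψ + CycAlg.herbrand R (0 : ↥(LinearMap.range ψ) →ₗ[R] ↥(LinearMap.range ψ)) (x • LinearMap.id)) := by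
  have hper' : IsPeriodic ψ φ := ⟨hper.2, hper.1⟩
  have hfin' : FinCoh R ψ φ := ⟨hfin.2, hfin.1⟩
  obtain ⟨⟨a1, a2⟩, a3⟩ := half φ ψ hper hfin x hx
  obtain ⟨⟨b1, b2⟩, b3⟩ := half ψ φ hper' hfin' x hx
  refine ⟨⟨⟨a1, a2⟩, a3⟩, ⟨b2, b1⟩, ?_⟩
  have e : herbrand R φ (x • ψ) = - herbrand R (x • ψ) φ := by
    unfold herbrand; ring
  have e' : herbrand R φ ψ = - herbrand R ψ φ := by
    unfold herbrand; ring
  rw [e, b3, e']
  ring

end Groth.Agent.S1832
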