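import Groth.Statements.S18329
import Mathlib
import Groth.Agent.Lib.Helper27.SepTensor

set_option autoImplicit false
universe u
open TensorProduct
open SGA3

namespace Groth.Agent.S18329

/-- Let k be an algebraically closed field of prime characteristic p and A a commutative Hopf algebra
over k, the coordinate ring of an affine k-group G, quotient groups of G being read as
sub-Hopf-algebras of A (subalgebras stable under comultiplication and antipode). Let B₀ be the
subalgebra of elements of A that are separable over k (its spectrum is the group of connected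
components π₀(G)) and let C be the largest cocommutative sub-Hopf-algebra of A (its spectrum is the
largest commutative quotient group G_ab). Then B₀ ⊓ C, whose spectrum is π₀(G_ab), is the largest
cocommutative sub-Hopf-algebra of A contained in B₀, whose spectrum is the largest commutative
quotient of π₀(G): the canonical homomorphism from π₀(G_ab) to (π₀(G))_ab is an isomorphism. (The
abelianization is rendered through its universal property among affine quotient groups, as the
largest cocommutative sub-Hopf-algebra, rather than as the quotient by the derived subgroup.) -/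
theorem result (k A : Type u) [Field k] [IsAlgClosed k]
    (p : ℕ) [Fact p.Prime] [CharP k p] [CommRing A] [HopfAlgebra k A]
    (B₀ : Subalgebra k A) (hB₀ : ∀ a : A, a ∈ B₀ ↔ IsSeparable k a)
    (C : Subalgebra k A) (hC : SGA3.IsHopfSubalgebra k A C)
    (hCc : ∀ c ∈ C, TensorProduct.comm k A A (Coalgebra.comul c) = Coalgebra.comul c)
    (hCmax : ∀ D : Subalgebra k A, SGA3.IsHopfSubalgebra k A D →
      (∀ d ∈ D, TensorProduct.comm k A A (Coalgebra.comul d) = Coalgebra.comul d) → D ≤ C) :
    IsGreatest {D : Subalgebra k A | SGA3.IsHopfSubalgebra k A D ∧
      (∀ d ∈ D, TensorProduct.comm k A A (Coalgebra.comul d) = Coalgebra.comul d) ∧ D ≤ B₀}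
      (B₀ ⊓ C) := by
  open Groth.Agent.Lib.Helper27.WeaklyEtaleField Groth.Agent.Lib.Helper27.SepBaseChange
    Groth.Agent.Lib.Helper27.SepTensor in
  constructor
  · refine ⟨⟨?_, ?_⟩, fun d hd => hCc d hd.2, inf_le_left⟩
    · intro b hb
      obtain ⟨y, hy⟩ := hC.1 b hb.2
      have hsepΔ : IsSeparable k (CoalgebraStruct.comul (R := k) (A := A) b) :=
        isSeparable_map_of_isSeparable (Bialgebra.comulAlgHom k A) ((hB₀ b).mp hb.1)
      have hinj : Function.Injective (Algebra.TensorProduct.map C.val C.val) :=
        algMap_injective C.val C.val Subtype.val_injective Subtype.val_injective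
      have hy2 : Algebra.TensorProduct.map C.val C.val y =
          CoalgebraStruct.comul (R := k) (A := A) b := hy
      have hysep : IsSeparable k y := by
        unfold IsSeparable at hsepΔ ⊢
        rw [← hy2, minpoly.algHom_eq _ hinj] at hsepΔ
        exact hsepΔ
      obtain ⟨y', hy'⟩ := mem_range_map_of_isSeparable y hysep
      let θ : sepSubalgebra k C →ₐ[k] (B₀ ⊓ C : Subalgebra k A) :=
        AlgHom.codRestrict (C.val.comp (sepSubalgebra k C).val) (B₀ ⊓ C) (by
          intro x
          refine ⟨(hB₀ _).mpr ?_, (x : C).2⟩
          exact (isSeparable_val_iff C (x : C)).mpr (mem_sepSubalgebra_iff.mp x.2))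
      refine ⟨TensorProduct.map θ.toLinearMap θ.toLinearMap y', ?_⟩
      rw [← hy, ← hy']
      have : ∀ w : (sepSubalgebra k C) ⊗[k] (sepSubalgebra k C),
          TensorProduct.map (B₀ ⊓ C : Subalgebra k A).val.toLinearMap
            (B₀ ⊓ C : Subalgebra k A).val.toLinearMap
            (TensorProduct.map θ.toLinearMap θ.toLinearMap w) =
          TensorProduct.map C.val.toLinearMap C.val.toLinearMap
            (Algebra.TensorProduct.map (sepSubalgebra k C).val (sepSubalgebra k C).val w) := by
        intro w
        induction w using TensorProduct.induction_on with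
        | zero => simp
        | tmul a r => rfl
        | add x y hx hy => simp only [map_add, hx, hy]
      exact this y'
    · intro b hb
      refine ⟨(hB₀ _).mpr ?_, hC.2 b hb.2⟩
      exact isSeparable_map_of_isSeparable (HopfAlgebra.antipodeAlgHom k A) ((hB₀ b).mp hb.1)
  · rintro D ⟨hD, hDc, hDB⟩
    exact le_inf hDB (hCmax D hD hDc)

end Groth.Agent.S18329
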