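import Groth.Statements.S18330
import Mathlib
import Groth.Agent.Lib.Helper18.LatticeH

set_option autoImplicit false
open CAlg

namespace Groth.Agent.S18330


open Groth.Agent.Lib.Helper18.LatticeH


/-- Let r ≥ 1, let δ ≥ 0 and g be integers with δ dividing 2(g - 1), and let d be a vector of ℤ^r whose
coordinates have non-negative gcd D (its divisibility). For a symmetric bilinear form b on ℤ^r the
map x ↦ b(d, x) + (1 - g) b(x, x) taken modulo δ is additive (because δ divides 2(g - 1)); let H be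
the subgroup of Hom(ℤ^r, ℤ/δℤ) generated by all such maps. Then the quotient of Hom(ℤ^r, ℤ/δℤ) by H
is isomorphic to ℤ/gcd(δ, D + 1 - g) × (ℤ/gcd(δ, g - 1, D))^(r-1) (existence of an isomorphism of
abelian groups; for δ = 0 read ℤ/0ℤ = ℤ). (The published corollary is a statement about the cokernel
of the weight homomorphism on the Picard group of the rigidified stack of T-bundles of degree d on a
family of curves of genus g with invariant δ; this row is the lattice computation that its printed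
proof carries out, the divisibility δ ∣ 2g - 2 being the standing property of that invariant.) -/
theorem result
    (r : ℕ) (hr : 0 < r) (δ : ℕ) (g : ℤ) (hδ : (δ : ℤ) ∣ 2 * (g - 1))
    (d : Fin r → ℤ) :
    Nonempty ((((Fin r → ℤ) →+ ZMod δ) ⧸ AddSubgroup.closure
      {φ : (Fin r → ℤ) →+ ZMod δ | ∃ b : LinearMap.BilinForm ℤ (Fin r → ℤ), b.IsSymm ∧
      ∀ x, φ x = ((b d x + (1 - g) * b x x : ℤ) : ZMod δ)}) ≃+
      (ZMod (Int.gcd δ (Finset.univ.gcd d + 1 - g)) ×
        (Fin (r - 1) → ZMod (Int.gcd δ (Int.gcd (g - 1) (Finset.univ.gcd d)))))) := by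
  obtain ⟨E, hE⟩ := exists_equiv r hr d
  generalize Finset.univ.gcd d = D at hE ⊢
  have hn₁ : Int.gcd δ (D + 1 - g) ∣ δ := Int.natCast_dvd_natCast.mp (Int.gcd_dvd_left _ _)
  have hn₂ : Int.gcd δ (Int.gcd (g - 1) D) ∣ δ := Int.natCast_dvd_natCast.mp (Int.gcd_dvd_left _ _)
  have hn₁a : (Int.gcd δ (D + 1 - g) : ℤ) ∣ D + 1 - g := Int.gcd_dvd_right _ _
  have hn₂a : (Int.gcd δ (Int.gcd (g - 1) D) : ℤ) ∣ D :=
    (Int.gcd_dvd_right _ _).trans (Int.gcd_dvd_right _ _)
  have hn₂b : (Int.gcd δ (Int.gcd (g - 1) D) : ℤ) ∣ 1 - g := by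
    have := (Int.gcd_dvd_right (δ : ℤ) (Int.gcd (g - 1) D)).trans (Int.gcd_dvd_left (g - 1) D)
    have h2 : (1 - g) = -(g - 1) := by ring
    rw [h2]
    exact (dvd_neg).mpr this
  generalize hn₁def : Int.gcd δ (D + 1 - g) = n₁ at *
  generalize hn₂def : Int.gcd δ (Int.gcd (g - 1) D) = n₂ at *
  let Φ : ((Fin r → ℤ) →+ ZMod δ) →+ ZMod n₁ × (Fin (r - 1) → ZMod n₂) :=
    { toFun := fun φ => (ZMod.castHom hn₁ (ZMod n₁) (φ (uE E)),
        fun i => ZMod.castHom hn₂ (ZMod n₂) (φ (wE E i)))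
      map_zero' := by
        apply Prod.ext
        · simp
        · funext i
          simp
      map_add' := by
        intro φ ψ
        apply Prod.ext
        · exact map_add (ZMod.castHom hn₁ (ZMod n₁)) _ _
        · funext i
          exact map_add (ZMod.castHom hn₂ (ZMod n₂)) _ _ }
  have hΦ : ∀ φ, Φ φ = (ZMod.castHom hn₁ (ZMod n₁) (φ (uE E)),
        fun i => ZMod.castHom hn₂ (ZMod n₂) (φ (wE E i))) := fun _ => rfl
  have hsurj : Function.Surjective Φ := by
    rintro ⟨a, c⟩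
    obtain ⟨ka, rfl⟩ := ZMod.intCast_surjective a
    choose kc hkc using fun i => ZMod.intCast_surjective (c i)
    refine ⟨mkHom E (ka : ZMod δ) (fun i => (kc i : ZMod δ)), ?_⟩
    rw [hΦ]
    apply Prod.ext
    · simp
    · funext i
      simp [hkc]
  have hker : Φ.ker = AddSubgroup.closure
      {φ : (Fin r → ℤ) →+ ZMod δ | ∃ b : LinearMap.BilinForm ℤ (Fin r → ℤ), b.IsSymm ∧
      ∀ x, φ x = ((b d x + (1 - g) * b x x : ℤ) : ZMod δ)} := by
    apply le_antisymm
    · intro φ hφ
      apply AddSubgroup.subset_closure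
      rw [AddMonoidHom.mem_ker, hΦ, Prod.mk_eq_zero] at hφ
      obtain ⟨h0, h1⟩ := hφ
      obtain ⟨k0, hk0⟩ := ZMod.intCast_surjective (φ (uE E))
      rw [← hk0, map_intCast, CharP.intCast_eq_zero_iff (ZMod n₁) n₁] at h0
      obtain ⟨m, hm⟩ := exists_mul_of_dvd δ (D + 1 - g) k0 (by rw [hn₁def]; exact h0)
      have h1' : ∀ i, ∃ c c' : ℤ, φ (wE E i) = ((D * c + (1 - g) * c' : ℤ) : ZMod δ) := by
        intro i
        have h1i : ZMod.castHom hn₂ (ZMod n₂) (φ (wE E i)) = 0 := congrFun h1 i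
        obtain ⟨k, hk⟩ := ZMod.intCast_surjective (φ (wE E i))
        rw [← hk, map_intCast, CharP.intCast_eq_zero_iff (ZMod n₂) n₂] at h1i
        rw [← hk]
        exact exists_two_of_dvd δ g D k (by rw [hn₂def]; exact h1i)
      choose c c' hc using h1'
      exact mem_of_values E δ g hδ d D hE φ m c c' (by rw [← hk0, hm]) hc
    · rw [AddSubgroup.closure_le]
      intro φ hφ
      obtain ⟨m, c, c', h0, h1⟩ := mem_values E δ g d D hE φ hφ
      rw [SetLike.mem_coe, AddMonoidHom.mem_ker, hΦ, Prod.mk_eq_zero]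
      constructor
      · rw [h0, map_intCast, CharP.intCast_eq_zero_iff (ZMod n₁) n₁]
        exact Dvd.dvd.mul_right hn₁a _
      · funext i
        show ZMod.castHom hn₂ (ZMod n₂) (φ (wE E i)) = 0
        rw [h1, map_intCast, CharP.intCast_eq_zero_iff (ZMod n₂) n₂]
        exact dvd_add (Dvd.dvd.mul_right hn₂a _) (Dvd.dvd.mul_right hn₂b _)
  exact ⟨(QuotientAddGroup.quotientAddEquivOfEq hker.symm).trans
    (QuotientAddGroup.quotientKerEquivOfSurjective Φ hsurj)⟩

end Groth.Agent.S18330
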