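import Groth.Statements.S18331
import Mathlib
import Groth.Agent.Lib.Helper18.LatticeH

set_option autoImplicit false
open CAlg

namespace Groth.Agent.S18331


open Groth.Agent.Lib.Helper18.LatticeH

noncomputable def iota (δ n : ℕ) (hn : n ∣ δ) : ZMod (δ / n) →+ ZMod δ :=
  ZMod.lift (δ / n) ⟨(Int.castAddHom (ZMod δ)).comp (AddMonoidHom.mulLeft (n : ℤ)), by
    show (((n : ℤ) * ((δ / n : ℕ) : ℤ) : ℤ) : ZMod δ) = 0
    rw [← Nat.cast_mul, Nat.mul_div_cancel' hn]
    simp⟩

theorem iota_intCast (δ n : ℕ) (hn : n ∣ δ) (k : ℤ) :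
    iota δ n hn (k : ZMod (δ / n)) = (((n : ℤ) * k : ℤ) : ZMod δ) := by
  rw [iota, ZMod.lift_coe]
  rfl

theorem iota_injective (δ n : ℕ) (hδ : 0 < δ) (hn : n ∣ δ) : Function.Injective (iota δ n hn) := by
  rw [iota, ZMod.lift_injective]
  intro m hm
  change (((n : ℤ) * m : ℤ) : ZMod δ) = 0 at hm
  rw [CharP.intCast_eq_zero_iff (ZMod δ) δ] at hm
  rw [CharP.intCast_eq_zero_iff (ZMod (δ / n)) (δ / n)]
  obtain ⟨e, rfl⟩ := hn
  have hn0 : 0 < n := Nat.pos_of_mul_pos_right hδ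
  rw [Nat.mul_div_cancel_left e hn0]
  rw [Nat.cast_mul] at hm
  exact (mul_dvd_mul_iff_left (by exact_mod_cast hn0.ne')).mp hm


/-- Let r ≥ 1, let δ ≥ 1 and g be integers with δ dividing 2(g - 1), and let d be a vector of ℤ^r whose
coordinates have non-negative gcd D. Let H be the subgroup of Hom(ℤ^r, ℤ/δℤ) generated by the
additive maps x ↦ b(d, x) + (1 - g) b(x, x) modulo δ, for b a symmetric bilinear form on ℤ^r. Then H
is isomorphic to ℤ/(δ/gcd(δ, D + 1 - g)) × (ℤ/(δ/gcd(δ, g - 1, D)))^(r-1) (existence of an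
isomorphism of abelian groups). (The published corollary states this as the structure of the
cokernel of the class map to the Neron-Severi lattice for the rigidified stack of T-bundles of
degree d on a family of curves of genus g with invariant δ > 0; this row is the lattice computation
that its printed proof carries out.) -/
theorem result
    (r : ℕ) (hr : 0 < r) (δ : ℕ) (hδ0 : 0 < δ) (g : ℤ) (hδ : (δ : ℤ) ∣ 2 * (g - 1))
    (d : Fin r → ℤ) :
    Nonempty (AddSubgroup.closure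
      {φ : (Fin r → ℤ) →+ ZMod δ | ∃ b : LinearMap.BilinForm ℤ (Fin r → ℤ), b.IsSymm ∧
      ∀ x, φ x = ((b d x + (1 - g) * b x x : ℤ) : ZMod δ)} ≃+
      (ZMod (δ / Int.gcd δ (Finset.univ.gcd d + 1 - g)) ×
        (Fin (r - 1) → ZMod (δ / Int.gcd δ (Int.gcd (g - 1) (Finset.univ.gcd d)))))) := by
  obtain ⟨E, hE⟩ := exists_equiv r hr d
  generalize Finset.univ.gcd d = D at hE ⊢
  have hn₁ : Int.gcd δ (D + 1 - g) ∣ δ := Int.natCast_dvd_natCast.mp (Int.gcd_dvd_left _ _)
  have hn₂ : Int.gcd δ (Int.gcd (g - 1) D) ∣ δ := Int.natCast_dvd_natCast.mp (Int.gcd_dvd_left _ _)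
  have hn₁a : (Int.gcd δ (D + 1 - g) : ℤ) ∣ D + 1 - g := Int.gcd_dvd_right _ _
  have hn₂a : (Int.gcd δ (Int.gcd (g - 1) D) : ℤ) ∣ D :=
    (Int.gcd_dvd_right _ _).trans (Int.gcd_dvd_right _ _)
  have hn₂b : (Int.gcd δ (Int.gcd (g - 1) D) : ℤ) ∣ 1 - g := by
    have := (Int.gcd_dvd_right (δ : ℤ) (Int.gcd (g - 1) D)).trans (Int.gcd_dvd_left (g - 1) D)
    have h2 : (1 - g) = -(g - 1) := by ring
    rw [h2]
    exact (dvd_neg).mpr this
  generalize hn₁def : Int.gcd δ (D + 1 - g) = n₁ at *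
  generalize hn₂def : Int.gcd δ (Int.gcd (g - 1) D) = n₂ at *
  let Ψ : ZMod (δ / n₁) × (Fin (r - 1) → ZMod (δ / n₂)) →+ ((Fin r → ℤ) →+ ZMod δ) :=
    { toFun := fun p => mkHom E (iota δ n₁ hn₁ p.1) (fun i => iota δ n₂ hn₂ (p.2 i))
      map_zero' := by
        apply hom_ext E
        · simp
        · intro i
          simp
      map_add' := by
        intro p q
        apply hom_ext E
        · simp
        · intro i
          simp }
  have hΨ : ∀ p, Ψ p = mkHom E (iota δ n₁ hn₁ p.1) (fun i => iota δ n₂ hn₂ (p.2 i)) := fun _ => rfl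
  have hinj : Function.Injective Ψ := by
    rw [injective_iff_map_eq_zero]
    rintro ⟨x, y⟩ h
    rw [hΨ] at h
    have h0 := congrArg (fun φ => φ (uE E)) h
    have h1 := fun i => congrArg (fun φ => φ (wE E i)) h
    simp only [mkHom_uE, mkHom_wE, AddMonoidHom.zero_apply] at h0 h1
    apply Prod.ext
    · exact iota_injective δ n₁ hδ0 hn₁ (h0.trans (map_zero _).symm)
    · funext i
      exact iota_injective δ n₂ hδ0 hn₂ ((h1 i).trans (map_zero _).symm)
  have hrange : Ψ.range = AddSubgroup.closure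
      {φ : (Fin r → ℤ) →+ ZMod δ | ∃ b : LinearMap.BilinForm ℤ (Fin r → ℤ), b.IsSymm ∧
      ∀ x, φ x = ((b d x + (1 - g) * b x x : ℤ) : ZMod δ)} := by
    apply le_antisymm
    · rintro _ ⟨⟨x, y⟩, rfl⟩
      apply AddSubgroup.subset_closure
      obtain ⟨k0, rfl⟩ := ZMod.intCast_surjective x
      obtain ⟨m, hm⟩ := exists_mul_of_dvd δ (D + 1 - g) ((n₁ : ℤ) * k0)
        (by rw [hn₁def]; exact Dvd.intro _ rfl)
      have h1' : ∀ i, ∃ c c' : ℤ, iota δ n₂ hn₂ (y i) = ((D * c + (1 - g) * c' : ℤ) : ZMod δ) := by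
        intro i
        obtain ⟨k, hk⟩ := ZMod.intCast_surjective (y i)
        rw [← hk, iota_intCast]
        exact exists_two_of_dvd δ g D _ (by rw [hn₂def]; exact Dvd.intro _ rfl)
      choose c c' hc using h1'
      refine mem_of_values E δ g hδ d D hE _ m c c' ?_ ?_
      · rw [hΨ, mkHom_uE, iota_intCast, hm]
      · intro i
        rw [hΨ, mkHom_wE, hc]
    · rw [AddSubgroup.closure_le]
      intro φ hφ
      obtain ⟨m, c, c', h0, h1⟩ := mem_values E δ g d D hE φ hφ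
      obtain ⟨a', ha'⟩ := hn₁a
      obtain ⟨D', hD'⟩ := hn₂a
      obtain ⟨G', hG'⟩ := hn₂b
      refine ⟨(((a' * m : ℤ) : ZMod (δ / n₁)), fun i => ((D' * c i + G' * c' i : ℤ) : ZMod (δ / n₂))), ?_⟩
      apply hom_ext E
      · rw [hΨ, mkHom_uE, iota_intCast, h0, ha']
        congr 1
        ring
      · intro i
        rw [hΨ, mkHom_wE, iota_intCast, h1]
        congr 1
        rw [hG']
        conv_rhs => rw [hD']
        ring
  exact ⟨(AddEquiv.addSubgroupCongr hrange.symm).trans (AddMonoidHom.ofInjective hinj).symm⟩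

end Groth.Agent.S18331
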