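import Groth.Statements.S1834
import Groth.Agent.Lib.Helper29.BlowupDimOne
import Groth.Agent.S14438

set_option autoImplicit false
universe u
open CycAlg

namespace Groth.Agent.S1834

open Groth.Agent.Lib.Helper29.BlowupDimOne
open Groth.Agent.Lib.Helper29.LengthFormula

/-- Let R be a Noetherian local ring of dimension 1 and a, b nonzerodivisors. There is a finite
extension ring R ⊆ R' with R'/R killed by a power of the maximal ideal, and nonzerodivisors t, a',
b' of R' with a = t a', b = t b' and (a', b') the unit ideal of R'. -/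
theorem result (R : Type u) [CommRing R] [IsNoetherianRing R] [IsLocalRing R] (hR : ringKrullDim R = 1) (a b : R) (ha : a ∈ nonZeroDivisors R) (hb : b ∈ nonZeroDivisors R) : ∃ (R' : Type u) (_ : CommRing R') (_ : Algebra R R'), CycAlg.IsFinExt R R' (IsLocalRing.maximalIdeal R) ∧ ∃ t a' b' : R', t ∈ nonZeroDivisors R' ∧ a' ∈ nonZeroDivisors R' ∧ b' ∈ nonZeroDivisors R' ∧ algebraMap R R' a = t * a' ∧ algebraMap R R' b = t * b' ∧ Ideal.span {a', b'} = ⊤ := by
  classical
  obtain ⟨N, r, ⟨j₀, hj₀, hunit⟩, hrel⟩ := exists_relation hR a b ha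
  have hN : N ≠ 0 := by
    rintro rfl
    obtain rfl : j₀ = 0 := Nat.le_zero.mp hj₀
    simp at hrel
    rw [hrel] at hunit
    exact not_isUnit_zero hunit
  set Q := FractionRing R with hQ
  set ι := algebraMap R Q with hι
  have hinj : Function.Injective ι := IsFractionRing.injective R Q
  have hua : IsUnit (ι a) := IsLocalization.map_units Q ⟨a, ha⟩
  have hub : IsUnit (ι b) := IsLocalization.map_units Q ⟨b, hb⟩
  obtain ⟨binv, hbinv⟩ := hub.exists_right_inv
  set s : Q := ι a * binv with hs
  have hsb : s * ι b = ι a := by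
    rw [hs, mul_assoc, mul_comm binv, hbinv, mul_one]
  set c : ℕ → Q := fun i => ι (r i) with hc
  have hrelQ : ∑ i ∈ Finset.range (N + 1), c i * s ^ i = 0 := by
    have h1 := congrArg ι hrel
    rw [map_sum, map_zero] at h1
    have h2 : ∑ i ∈ Finset.range (N + 1), c i * s ^ i * (ι b) ^ N = 0 := by
      rw [← h1]
      apply Finset.sum_congr rfl
      intro i hi
      have hiN : i ≤ N := Nat.lt_succ_iff.mp (Finset.mem_range.mp hi)
      have hpow : (ι b) ^ N = (ι b) ^ i * (ι b) ^ (N - i) := by
        rw [← pow_add]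
        congr 1
        omega
      simp only [map_mul, map_pow, hc]
      rw [← hsb, mul_pow, hpow]
      ring
    rw [← Finset.sum_mul] at h2
    exact (hub.pow N).mul_left_eq_zero.mp h2
  have hU0 : U c s N N = 0 := by
    rw [U_top]
    exact hrelQ
  have hint : ∀ k ≤ N, IsIntegral R (U c s N k) :=
    isIntegral_U s N c (fun i _ => isIntegral_algebraMap) hU0
  set G : Finset Q := (Finset.range (N + 1)).image (fun k => U c s N k) with hG
  set R' : Subalgebra R Q := Algebra.adjoin R (G : Set Q) with hR'
  have hGmem : ∀ k ≤ N, U c s N k ∈ R' := fun k hk =>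
    Algebra.subset_adjoin (Finset.mem_coe.mpr (Finset.mem_image.mpr
      ⟨k, Finset.mem_range.mpr (Nat.lt_succ_of_le hk), rfl⟩))
  have hfin : Module.Finite R R' :=
    Algebra.finite_adjoin_of_finite_of_isIntegral G.finite_toSet (by
      intro x hx
      obtain ⟨k, hk, rfl⟩ := Finset.mem_image.mp hx
      exact hint k (Nat.lt_succ_iff.mp (Finset.mem_range.mp hk)))
  have hGs : ∀ k < N, U c s N k * s ∈ R' := by
    intro k hk
    have h1 : U c s N k * s = U c s N (k + 1) - c (N - (k + 1)) := by
      rw [U_succ]
      ring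
    rw [h1]
    exact R'.sub_mem (hGmem (k + 1) hk) (R'.algebraMap_mem _)
  let u : Fin N → R' := fun k => ⟨U c s N k, hGmem k k.2.le⟩
  let v : Fin N → R' := fun k => ⟨U c s N k * s, hGs k k.2⟩
  have hspan : Ideal.span (Set.range u ∪ Set.range v) = ⊤ := by
    have key : ∀ k ≤ N, algebraMap R R' (r (N - k)) ∈ Ideal.span (Set.range u ∪ Set.range v) := by
      intro k hk
      rcases k with _ | k
      · have : algebraMap R R' (r (N - 0)) = u ⟨0, Nat.pos_of_ne_zero hN⟩ := by
          apply Subtype.ext
          rfl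
        rw [this]
        exact Ideal.subset_span (Or.inl ⟨_, rfl⟩)
      · have hkN : k < N := hk
        have hv : v ⟨k, hkN⟩ ∈ Ideal.span (Set.range u ∪ Set.range v) :=
          Ideal.subset_span (Or.inr ⟨_, rfl⟩)
        by_cases hk1 : k + 1 < N
        · have hu : u ⟨k + 1, hk1⟩ ∈ Ideal.span (Set.range u ∪ Set.range v) :=
            Ideal.subset_span (Or.inl ⟨_, rfl⟩)
          have : algebraMap R R' (r (N - (k + 1))) = u ⟨k + 1, hk1⟩ - v ⟨k, hkN⟩ := by
            apply Subtype.ext
            change c (N - (k + 1)) = U c s N (k + 1) - U c s N k * s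
            rw [U_succ]
            ring
          rw [this]
          exact Ideal.sub_mem _ hu hv
        · have hkN' : k + 1 = N := by omega
          have : algebraMap R R' (r (N - (k + 1))) = - v ⟨k, hkN⟩ := by
            apply Subtype.ext
            change c (N - (k + 1)) = - (U c s N k * s)
            have h0 : U c s N (k + 1) = 0 := by rw [hkN']; exact hU0
            rw [U_succ] at h0
            linear_combination h0
          rw [this]
          exact neg_mem hv
    have hmem := key (N - j₀) (Nat.sub_le _ _)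
    rw [Nat.sub_sub_self hj₀] at hmem
    exact Ideal.eq_top_of_isUnit_mem _ hmem (hunit.map (algebraMap R R'))
  haveI : Finite (MaximalSpectrum R') := Groth.Agent.S14438.finite_maximalSpectrum_of_finite R
  obtain ⟨p, hp, hptop⟩ := exists_pair_span_eq_top u v hspan
  have hgen : ∀ q ∈ Submodule.span R' (Set.range fun i => (u i, v i)),
      (q.2 : Q) = (q.1 : Q) * s := by
    intro q hq
    induction hq using Submodule.span_induction with
    | mem x hx =>
      obtain ⟨i, rfl⟩ := hx
      rfl
    | zero => simp
    | add x y _ _ hx hy =>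
      simp only [Prod.snd_add, Prod.fst_add, Subalgebra.coe_add, hx, hy, add_mul]
    | smul t x _ hx =>
      simp only [Prod.smul_snd, Prod.smul_fst, smul_eq_mul, Subalgebra.coe_mul, hx, mul_assoc]
  have hps : (p.2 : Q) = (p.1 : Q) * s := hgen p hp
  have h1mem : (1 : R') ∈ Ideal.span {p.1, p.2} := by
    rw [hptop]
    exact Submodule.mem_top
  obtain ⟨α, β, hαβ⟩ := Ideal.mem_span_pair.mp h1mem
  have hαβQ : (α : Q) * (p.1 : Q) + (β : Q) * ((p.1 : Q) * s) = 1 := by
    have := congrArg Subtype.val hαβ
    simpa [hps] using this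
  set t : R' := α * algebraMap R R' b + β * algebraMap R R' a with ht
  have htQ : (t : Q) = (α : Q) * ι b + (β : Q) * ι a := rfl
  have ht_w : t * p.1 = algebraMap R R' b := by
    apply Subtype.ext
    change (t : Q) * (p.1 : Q) = ι b
    rw [htQ, ← hsb]
    linear_combination (ι b) * hαβQ
  have ht_w' : t * p.2 = algebraMap R R' a := by
    apply Subtype.ext
    change (t : Q) * (p.2 : Q) = ι a
    rw [htQ, hps, ← hsb]
    linear_combination (s * ι b) * hαβQ
  have hnzd : ∀ x : R', IsUnit (x : Q) → x ∈ nonZeroDivisors R' := by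
    intro x hx
    rw [mem_nonZeroDivisors_iff_right]
    intro y hy
    apply Subtype.ext
    have := congrArg Subtype.val hy
    simp only [Subalgebra.coe_mul, ZeroMemClass.coe_zero] at this
    exact hx.mul_left_eq_zero.mp this
  have hua' : IsUnit ((t : Q) * (p.2 : Q)) := by
    have := congrArg Subtype.val ht_w'
    simp only [Subalgebra.coe_mul] at this
    rw [this]
    exact hua
  have hub' : IsUnit ((t : Q) * (p.1 : Q)) := by
    have := congrArg Subtype.val ht_w
    simp only [Subalgebra.coe_mul] at this
    rw [this]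
    exact hub
  refine ⟨R', inferInstance, inferInstance, ⟨?_, hfin, ?_⟩, t, p.2, p.1,
    hnzd t (isUnit_of_mul_isUnit_left hua'), hnzd p.2 (isUnit_of_mul_isUnit_right hua'),
    hnzd p.1 (isUnit_of_mul_isUnit_right hub'), ht_w'.symm, ht_w.symm, ?_⟩
  · intro x y hxy
    apply hinj
    exact congrArg Subtype.val hxy
  · -- conductor
    obtain ⟨Gm, hGm⟩ := Module.finite_def.mp hfin
    obtain ⟨d, hd⟩ := IsLocalization.exist_integer_multiples_of_finset (nonZeroDivisors R)
      (Gm.image (Subtype.val : R' → Q))
    have hdall : ∀ y : R', (d : R) • y ∈ (algebraMap R R').range := by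
      intro y
      have hy : y ∈ Submodule.span R (Gm : Set R') := hGm ▸ Submodule.mem_top
      induction hy using Submodule.span_induction with
      | mem y hy =>
        obtain ⟨z, hz⟩ := hd (y : Q) (Finset.mem_image.mpr ⟨y, hy, rfl⟩)
        exact ⟨z, Subtype.ext hz⟩
      | zero => exact ⟨0, by simp⟩
      | add y₁ y₂ _ _ h₁ h₂ =>
        rw [smul_add]
        exact (algebraMap R R').range.add_mem h₁ h₂
      | smul x y _ h =>
        obtain ⟨z, hz⟩ := h
        refine ⟨x * z, ?_⟩
        rw [map_mul, hz, smul_comm (d : R) x y, Algebra.smul_def x]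
    haveI := Groth.Agent.S6480.krullDimLE_one_of_eq hR
    have hlen : Module.length R (R ⧸ Ideal.span {(d : R)}) ≠ ⊤ :=
      Module.length_ne_top_iff.mpr (isFiniteLength_quotient_span_singleton R d.2)
    obtain ⟨n, hn⟩ := exists_pow_le_of_length_quotient_ne_top _ hlen
    refine ⟨n, fun x hx y => ?_⟩
    obtain ⟨x', rfl⟩ := Ideal.mem_span_singleton'.mp (hn hx)
    obtain ⟨z, hz⟩ := hdall y
    refine ⟨x' * z, ?_⟩
    rw [map_mul, hz, mul_smul, Algebra.smul_def x']
  · rw [Ideal.span_pair_comm]
    exact hptop

end Groth.Agent.S1834
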