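import Groth.Statements.S18340
import Mathlib
import Groth.Agent.S0543
import Groth.Agent.S0595
import Groth.Agent.S0598
import Groth.Agent.Lib.Helper49.GRingFT
import Groth.Agent.Lib.Helper56.CplLocalRegular
import Groth.Agent.Lib.Helper27.SmoothSection
import Groth.Agent.Lib.Helper69.FPFactor

set_option autoImplicit false
universe u
open ArtinApx

namespace Groth.Agent.S18340

open CategoryTheory in
/-- Let k be an algebraically closed field, A a finitely generated k-algebra with a maximal ideal m (a
k-point of Spec A), F a functor from commutative A-algebras to sets which preserves filtered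
colimits, and ξ an element of F(Â), Â the m-adic completion of A. Then for every natural number N
there are an étale A-algebra A′, a surjective A-algebra homomorphism ψ : A′ → A/m^(N+1) and an
element ξ′ of F(A′) whose image under F(ψ) is the image of ξ under F of the canonical map Â →
A/m^(N+1). (Affine form of the statement for limit-preserving functors on schemes over a finite-type
k-scheme S with a k-point s: Spec A′ is the étale neighbourhood of s, the kernel of ψ is the
(N+1)-st power of the maximal ideal of the point above s, and the equation says that ξ′ and ξ agree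
to order N.) -/
theorem result (k : Type u) [Field k] [IsAlgClosed k]
    (A : Type u) [CommRing A] [Algebra k A] [Algebra.FiniteType k A] (m : Ideal A) [m.IsMaximal]
    (F : CommAlgCat.{u} A ⥤ Type u) [Limits.PreservesFilteredColimits F]
    (ξ : F.obj (CommAlgCat.of A (AdicCompletion m A))) (N : ℕ) :
    ∃ (A' : Type u) (_ : CommRing A') (_ : Algebra A A') (_ : Algebra.Etale A A')
      (ψ : A' →ₐ[A] (A ⧸ m ^ (N + 1))) (_ : Function.Surjective ψ) (ξ' : F.obj (CommAlgCat.of A A')),
      F.map (CommAlgCat.ofHom ψ) ξ' =
        F.map (CommAlgCat.ofHom (AdicCompletion.evalₐ m (N + 1))) ξ := by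
  classical
  -- `A` is a G-ring (a field is a complete local ring; finite type over a G-ring)
  have hk : CAlg.IsGRing k := by
    haveI : IsAdicComplete (IsLocalRing.maximalIdeal k) k := by
      rw [IsLocalRing.maximalIdeal_eq_bot]
      infer_instance
    exact Groth.Agent.S0598.result k
  have hA : CAlg.IsGRing A := Groth.Agent.Lib.Helper49.GRingFT.isGRing_of_finiteType k hk A
  haveI : IsNoetherianRing A := hA.1
  -- hence `A → Â` is regular and Popescu applies
  have hreg : CAlg.IsRegularHom A (AdicCompletion m A) :=
    Groth.Agent.Lib.Helper56.isRegularHom_adicCompletion A m hA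
  haveI : IsNoetherianRing (AdicCompletion m A) := Groth.Agent.S0543.result A m
  -- `ξ` comes from a finitely presented `A`-algebra `B → Â`
  obtain ⟨B, _, _, hfp, ι, ξ₀, hξ⟩ :=
    Groth.Agent.Lib.Helper69.FPFactor.exists_fp_factor (AdicCompletion m A) F ξ
  -- Popescu: `B → Â` factors through a smooth `A`-algebra `C`
  obtain ⟨C, _, _, hsm, g, h, hgh⟩ :=
    Groth.Agent.S0595.result A (AdicCompletion m A) hreg B ι
  -- the section `C → Â → A/m^(N+1)` lifts to an étale neighbourhood
  obtain ⟨A', _, _, hEt, ψ, τ, -, hcomp⟩ :=
    Groth.Agent.Lib.Helper27.SmoothSection.exists_etale_section (m ^ (N + 1))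
      ((AdicCompletion.evalₐ m (N + 1)).comp h)
  have hsurj : Function.Surjective ψ := by
    intro y
    obtain ⟨a, rfl⟩ := Ideal.Quotient.mk_surjective y
    exact ⟨algebraMap A A' a, ψ.commutes a⟩
  have hcomp' : ψ.comp (τ.comp g) = (AdicCompletion.evalₐ m (N + 1)).comp ι := by
    rw [← AlgHom.comp_assoc, hcomp, AlgHom.comp_assoc, hgh]
  refine ⟨A', inferInstance, inferInstance, hEt, ψ, hsurj,
    F.map (CommAlgCat.ofHom (τ.comp g)) ξ₀, ?_⟩
  rw [← hξ, ← Functor.map_comp_apply, ← Functor.map_comp_apply,
    ← CommAlgCat.ofHom_comp, ← CommAlgCat.ofHom_comp, hcomp']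

end Groth.Agent.S18340
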