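import Groth.Statements.S18343
import Mathlib
import Groth.Agent.Lib.Helper6.ThickIsAffine
import Groth.Agent.Lib.Helper82.EffCartier

set_option autoImplicit false
universe u
open CategoryTheory CategoryTheory.Limits AlgebraicGeometry
open MultCurve

namespace Groth.Agent.S18343

section helpers
open CategoryTheory CategoryTheory.Limits AlgebraicGeometry


theorem surj_of_sq_zero {A B C : Type*} [CommRing A] [CommRing B] [CommRing C]
    (φ : A →+* B) (ψ : B →+* C) (hsurj : Function.Surjective (ψ.comp φ))
    (hsq : (RingHom.ker ψ) ^ 2 = ⊥)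
    (hgen : RingHom.ker ψ = (RingHom.ker (ψ.comp φ)).map φ) : Function.Surjective φ := by
  have hB : ∀ b : B, ∃ a : A, b - φ a ∈ RingHom.ker ψ := by
    intro b
    obtain ⟨a, ha⟩ := hsurj (ψ b)
    refine ⟨a, ?_⟩
    rw [RingHom.mem_ker, map_sub, ← ha]
    simp
  have hJJ : ∀ x ∈ RingHom.ker ψ, ∀ y ∈ RingHom.ker ψ, x * y = 0 := by
    intro x hx y hy
    have : x * y ∈ (RingHom.ker ψ) ^ 2 := by
      rw [pow_two]; exact Ideal.mul_mem_mul hx hy
    rwa [hsq] at this
  have hJ : ∀ j ∈ RingHom.ker ψ, ∃ a, φ a = j := by
    intro j hj
    rw [hgen, Ideal.map] at hj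
    induction hj using Submodule.span_induction with
    | mem x hx =>
      obtain ⟨a, -, rfl⟩ := hx
      exact ⟨a, rfl⟩
    | zero => exact ⟨0, map_zero _⟩
    | add x y _ _ hx hy =>
      obtain ⟨a, rfl⟩ := hx
      obtain ⟨b, rfl⟩ := hy
      exact ⟨a + b, map_add _ _ _⟩
    | smul b x hx ih =>
      obtain ⟨a', rfl⟩ := ih
      obtain ⟨a, ha⟩ := hB b
      refine ⟨a * a', ?_⟩
      have hx' : φ a' ∈ RingHom.ker ψ := by
        rw [hgen, Ideal.map]; exact hx
      have h0 := hJJ _ ha _ hx'
      rw [smul_eq_mul, map_mul]
      rw [sub_mul, sub_eq_zero] at h0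
      exact h0.symm
  intro b
  obtain ⟨a, ha⟩ := hB b
  obtain ⟨a', ha'⟩ := hJ _ ha
  refine ⟨a + a', ?_⟩
  rw [map_add, ha']
  ring

end helpers

/-- Suppose C is a ribbon on the reduced scheme D via the closed immersion i : D ⟶ C (meaning the ideal
of D squares to zero and is locally generated by a single section z whose annihilator lies in (z)),
and consider an arbitrary morphism of schemes f : C ⟶ X. The morphism f is a closed immersion
exactly when two things hold: the composite i ≫ f, i.e. f restricted to D, is a closed immersion,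
and pulling back along f the ideal of the scheme-theoretic image of D in X yields the entire ideal
of D in C. This second requirement amounts to surjectivity of the map α_f that sends the pullback of
the conormal sheaf of the image of D in X onto the conormal bundle of D in C. (The statement is
given for arbitrary schemes and any morphism f; the published version assumes all schemes are of
finite type over a field and D is connected, but the proof relies on neither assumption.) -/
theorem result (D C X : Scheme.{u}) (i : D ⟶ C)
    (hR : MultCurve.IsRibbon i) (f : C ⟶ X) :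
    IsClosedImmersion f ↔ (IsClosedImmersion (i ≫ f) ∧ (i ≫ f).ker.comap f = i.ker) := by
  obtain ⟨⟨hi, hsq, -⟩, -⟩ := hR
  haveI := hi
  constructor
  · intro hf
    haveI := hf
    refine ⟨inferInstance, ?_⟩
    rw [← Scheme.IdealSheafData.ker_fst_of_isClosedImmersion]
    let e : D ≅ pullback f (i ≫ f) :=
      { hom := pullback.lift i (𝟙 D) (by simp)
        inv := pullback.snd _ _
        hom_inv_id := pullback.lift_snd _ _ _
        inv_hom_id := by
          apply pullback.hom_ext
          · rw [Category.assoc, pullback.lift_fst, Category.id_comp, ← cancel_mono f,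
              Category.assoc, pullback.condition]
          · rw [Category.assoc, pullback.lift_snd, Category.comp_id, Category.id_comp] }
    have he : e.hom ≫ pullback.fst f (i ≫ f) = i := pullback.lift_fst _ _ _
    haveI : IsIso e.hom := Iso.isIso_hom e
    rw [← Scheme.Hom.ker_comp_of_isIso e.hom, he]
  · rintro ⟨h, hker⟩
    have hsupp : i.ker.support = ⊤ := by
      rw [← Scheme.IdealSheafData.support_pow i.ker 2 two_ne_zero, hsq,
        Scheme.IdealSheafData.support_bot]
    have hιsurj : Function.Surjective i := by
      rw [← Set.range_eq_univ]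
      have := Scheme.Hom.support_ker i
      rw [hsupp] at this
      rw [i.isClosedEmbedding.isClosed_range.closure_eq] at this
      exact this.symm
    haveI := h
    have hqc : QuasiCompact (i ≫ f) := inferInstance
    rw [isClosedImmersion_iff_isAffineHom] at h ⊢
    obtain ⟨haff, hsur⟩ := h
    have hU : ∀ V : X.Opens, IsAffineOpen V → IsAffineOpen (f ⁻¹ᵁ V) := fun V hV =>
      Groth.Agent.Lib.Helper6.ThickIsAffine.isAffineOpen_of_thickening i hιsurj
        (f ⁻¹ᵁ V) (hV.preimage (i ≫ f))
    refine ⟨⟨hU⟩, fun V hV => ?_⟩
    let U : C.affineOpens := ⟨f ⁻¹ᵁ V, hU V hV⟩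
    apply surj_of_sq_zero (f.app V).hom (i.app U).hom
    · have := hsur V hV
      rw [Scheme.Hom.comp_app] at this
      exact this
    · rw [← Scheme.Hom.ker_apply]
      have := congrArg (fun K : C.IdealSheafData => K.ideal U) hsq
      simpa using this
    · rw [← Scheme.Hom.ker_apply, ← hker,
        Groth.Agent.Lib.Helper82.ideal_comap_of_le f _ (f ⁻¹ᵁ V) (hU V hV) V hV le_rfl,
        Scheme.Hom.ker_apply (i ≫ f) ⟨V, hV⟩, Scheme.Hom.comp_app, ← Scheme.Hom.app_eq_appLE]
      rfl

end Groth.Agent.S18343
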