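import Groth.Statements.S18344
import Groth.Agent.Lib.Helper48.Ribbon1

set_option autoImplicit false
universe u
open CategoryTheory CategoryTheory.Limits AlgebraicGeometry
open MultCurve

namespace Groth.Agent.S18344

/-- Let C be a scheme and I ⊂ O_C a quasi-coherent ideal with I² = 0, and let D ⊂ C be the closed
subscheme it defines. Then the following are equivalent: (a) every point of C has an affine open
neighbourhood U on which I(U) is generated by one section z such that every a with a z = 0 lies in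
I(U); (b) the conormal sheaf of D in C (the ideal I regarded as an O_D-module, which makes sense
because I² = 0) is an invertible O_D-module. This identifies the line-bundle clause in the
definition of a ribbon with the section-level principal-of-order-two condition. -/
theorem result (C : Scheme.{u}) (I : C.IdealSheafData)
    (hI : I ^ 2 = ⊥) :
    MultCurve.IsPrincipalOfOrder I 2 ↔ PicF.IsInvertible (Omega.conormal I.subschemeι) := by
  classical
  have hsq : ∀ U : C.affineOpens, (RingHom.ker (I.subschemeι.app U.1).hom) ^ 2 = ⊥ := by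
    intro U
    rw [I.ker_subschemeι_app U]
    have h1 : (I ^ 2).ideal U = ⊥ := by rw [hI]; rfl
    rw [Scheme.IdealSheafData.ideal_pow] at h1
    exact h1
  have hone : ∀ X : Scheme.{u}, Nonempty (FlatMod.freeMod X 1 ≅ Coh.structureModule X) :=
    fun X => ⟨CategoryTheory.Limits.coproductUniqueIso (fun _ : Fin 1 => Coh.structureModule X)⟩
  constructor
  · intro h y
    obtain ⟨U, hxU, z, hz, hann⟩ := h (I.subschemeι y)
    have hW : IsAffineOpen (I.subschemeι ⁻¹ᵁ U.1) := U.2.preimage I.subschemeι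
    obtain ⟨e⟩ := Groth.Agent.Lib.Helper48.Ribbon.nonempty_free_of_gen I.subschemeι U.2 (hsq U) z
      (by rw [I.ker_subschemeι_app U]; exact hz)
      (fun a ha => by
        rw [I.ker_subschemeι_app U]
        exact hann a (by rw [show (2 : ℕ) - 1 = 1 from rfl, pow_one]; exact ha))
    obtain ⟨e'⟩ := (Groth.Agent.Lib.Helper2.FreeModAff.nonempty_iso_freeMod_iff
      (Omega.conormal I.subschemeι) hW 1).2 ⟨e⟩
    obtain ⟨e1⟩ := hone ↑(I.subschemeι ⁻¹ᵁ U.1)
    exact ⟨I.subschemeι ⁻¹ᵁ U.1, hxU, ⟨e' ≪≫ e1⟩⟩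
  · intro h x
    have hx : x ∈ Set.range I.subschemeι := by
      rw [I.range_subschemeι, ← Scheme.IdealSheafData.support_pow I 2 (by norm_num), hI]
      trivial
    obtain ⟨y, rfl⟩ := hx
    obtain ⟨O, hyO, ⟨e⟩⟩ := h y
    obtain ⟨U, hUgood, hyU, -, hUO⟩ :=
      Groth.Agent.Lib.Helper48.Conormal.exists_goodFor I.subschemeι y O hyO ⊤ trivial
    obtain ⟨e1⟩ := hone ↑O
    have H : Nonempty ((Omega.conormal I.subschemeι).restrict O.ι ≅ FlatMod.freeMod (↑O) 1) :=
      ⟨e ≪≫ e1.symm⟩
    have H2 := Groth.Agent.Lib.Helper2.FreeModAff.nonempty_iso_freeMod_of_le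
      (Omega.conormal I.subschemeι) hUO 1 H
    obtain ⟨e'⟩ := (Groth.Agent.Lib.Helper2.FreeModAff.nonempty_iso_freeMod_iff
      (Omega.conormal I.subschemeι) hUgood.2.1 1).1 H2
    obtain ⟨z, hz, hann⟩ := Groth.Agent.Lib.Helper48.Ribbon.exists_gen_of_free I.subschemeι
      hUgood.1 (hsq ⟨U, hUgood.1⟩) e'
    refine ⟨⟨U, hUgood.1⟩, hyU, z, ?_, ?_⟩
    · rw [← I.ker_subschemeι_app ⟨U, hUgood.1⟩]; exact hz
    · intro a ha
      rw [← I.ker_subschemeι_app ⟨U, hUgood.1⟩]
      exact hann a (by rw [show (2 : ℕ) - 1 = 1 from rfl, pow_one] at ha; exact ha)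

end Groth.Agent.S18344
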