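import Groth.Statements.S1835
import Mathlib.RingTheory.Ideal.Height
import Mathlib.RingTheory.Ideal.KrullsHeightTheorem
import Mathlib.RingTheory.Ideal.GoingUp
import Mathlib.RingTheory.Ideal.MinimalPrime.Localization

set_option autoImplicit false
universe u
open CycAlg

namespace Groth.Agent.S1835

open IsLocalRing

/-- Let R be a Noetherian local ring of dimension 1, a a nonzerodivisor in the maximal ideal and b a
nonzerodivisor. There is an integer n such that whenever b = a^m c in some finite extension ring R ⊆
R', one has m ≤ n. -/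
theorem result (R : Type u) [CommRing R] [IsNoetherianRing R] [IsLocalRing R] (hR : ringKrullDim R = 1) (a b : R) (ha : a ∈ nonZeroDivisors R) (ham : a ∈ IsLocalRing.maximalIdeal R) (hb : b ∈ nonZeroDivisors R) : ∃ n : ℕ, ∀ (R' : Type u) [CommRing R'] [Algebra R R'], Function.Injective (algebraMap R R') → Module.Finite R R' → ∀ (m : ℕ) (c : R'), algebraMap R R' b = algebraMap R R' a ^ m * c → m ≤ n := by
  -- `a` lies in the radical of `(b)`
  have hrad : a ∈ (Ideal.span ({b} : Set R)).radical := by
    rw [Ideal.radical_eq_sInf, Ideal.mem_sInf]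
    rintro p ⟨hbp, hp⟩
    have hple : p ≤ maximalIdeal R := le_maximalIdeal hp.ne_top
    rcases eq_or_lt_of_le hple with h | h
    · rw [h]; exact ham
    · exfalso
      have h1 : p.height < (maximalIdeal R).height :=
        Ideal.height_strict_mono_of_isPrime_of_isPrime h
      have h2 : ((maximalIdeal R).height : WithBot ℕ∞) ≤ 1 := by
        rw [← hR]
        exact Ideal.height_le_ringKrullDim_of_ne_top (maximalIdeal.isMaximal R).ne_top
      have h3 : (maximalIdeal R).height ≤ 1 := by exact_mod_cast h2
      have h4 : p.height = 0 := by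
        have := lt_of_lt_of_le h1 h3
        exact Order.lt_one_iff.1 this
      rw [Ideal.height_eq_zero_iff] at h4
      have hdis := Ideal.disjoint_nonZeroDivisors_of_mem_minimalPrimes h4
      exact Set.disjoint_left.1 hdis (hbp (Ideal.subset_span rfl)) hb
  obtain ⟨L, hL⟩ := hrad
  obtain ⟨r, hr⟩ := Ideal.mem_span_singleton'.1 hL
  -- hr : r * b = a ^ L
  refine ⟨L, ?_⟩
  intro R' _ _ hinj hfin m c hbc
  by_contra hlt
  push Not at hlt
  -- a ^ L * (1 - a^(m-L) * c * r) = 0 in R'
  have hnt : Nontrivial R' := hinj.nontrivial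
  set α := algebraMap R R' a with hα
  have e1 : α ^ L * (1 - α * (α ^ (m - L - 1) * c * algebraMap R R' r)) = 0 := by
    have h1 : α ^ L = algebraMap R R' r * (α ^ m * c) := by
      rw [← hbc, ← map_mul, hr, map_pow]
    have h2 : α ^ m = α ^ L * α * α ^ (m - L - 1) := by
      rw [← pow_succ, ← pow_add]
      congr 1
      omega
    rw [mul_sub, mul_one, sub_eq_zero]
    conv_lhs => rw [h1, h2]
    ring
  -- the second factor is a unit
  have hunit : IsUnit (1 - α * (α ^ (m - L - 1) * c * algebraMap R R' r)) := by
    by_contra hnu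
    obtain ⟨M, hM, hmem⟩ := exists_max_ideal_of_mem_nonunits (mem_nonunits_iff.2 hnu)
    have : Algebra.IsIntegral R R' := Algebra.IsIntegral.of_finite R R'
    have hMc : (M.comap (algebraMap R R')).IsMaximal :=
      Ideal.isMaximal_comap_of_isIntegral_of_isMaximal M
    have hMm : M.comap (algebraMap R R') = maximalIdeal R := eq_maximalIdeal hMc
    have haM : α ∈ M := by
      have : a ∈ M.comap (algebraMap R R') := hMm ▸ ham
      exact this
    have h1 : (1 : R') ∈ M := by
      have h2 := M.add_mem hmem (M.mul_mem_right (α ^ (m - L - 1) * c * algebraMap R R' r) haM)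
      simpa using h2
    exact hM.ne_top ((Ideal.eq_top_iff_one M).2 h1)
  have e2 : α ^ L = 0 := by
    have := hunit.mul_left_eq_zero.1 e1
    exact this
  have e3 : a ^ L = 0 := by
    apply hinj
    rw [map_pow, map_zero]
    exact e2
  have hnz : a ^ L ∈ nonZeroDivisors R := pow_mem ha L
  exact nonZeroDivisors.ne_zero hnz e3

end Groth.Agent.S1835
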