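import Groth.Statements.S18363
import Mathlib.RingTheory.KrullDimension.NonZeroDivisors
import Mathlib.RingTheory.Ideal.MinimalPrime.Noetherian
import Mathlib.RingTheory.Ideal.AssociatedPrime.Basic
import Mathlib.Algebra.Homology.DerivedCategory.Ext.ExactSequences
import Mathlib.Algebra.Homology.ShortComplex.ModuleCat
import Mathlib.LinearAlgebra.Basis.VectorSpace
import Mathlib.RingTheory.Nakayama
import Mathlib.Algebra.Module.Torsion.Basic

set_option autoImplicit false
universe u
open CategoryTheory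
open CAlg

namespace Groth.Agent.S18363

section Helpers

variable {R : Type u} [CommRing R] [IsNoetherianRing R] [IsLocalRing R]

theorem prime_dichotomy (Q : Ideal R) (hdim : ringKrullDim (R ⧸ Q) = 1) (q : Ideal R)
    [hq : q.IsPrime] (hQq : Q ≤ q) :
    q ∈ Q.minimalPrimes ∨ q = IsLocalRing.maximalIdeal R := by
  rw [ringKrullDim_quotient] at hdim
  let qq : PrimeSpectrum.zeroLocus (R := R) Q := ⟨⟨q, hq⟩, hQq⟩
  rcases Order.krullDim_le_one_iff.mp hdim.le qq with h | h
  · left
    refine ⟨⟨hq, hQq⟩, ?_⟩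
    rintro p ⟨hp, hQp⟩ hpq
    let pp : PrimeSpectrum.zeroLocus (R := R) Q := ⟨⟨p, hp⟩, hQp⟩
    exact h (b := pp) hpq
  · right
    have hm : Q ≤ IsLocalRing.maximalIdeal R := hQq.trans (IsLocalRing.le_maximalIdeal hq.ne_top)
    let mm : PrimeSpectrum.zeroLocus (R := R) Q :=
      ⟨⟨IsLocalRing.maximalIdeal R, inferInstance⟩, hm⟩
    have h1 : qq ≤ mm := IsLocalRing.le_maximalIdeal hq.ne_top
    exact le_antisymm (IsLocalRing.le_maximalIdeal hq.ne_top) (h h1)

theorem max_not_minimal (Q : Ideal R) (hdim : ringKrullDim (R ⧸ Q) = 1) :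
    IsLocalRing.maximalIdeal R ∉ Q.minimalPrimes := by
  rw [ringKrullDim_quotient] at hdim
  obtain ⟨a, b, hab⟩ := Order.one_le_krullDim_iff.mp hdim.ge
  intro hm
  have hb : b.1.asIdeal ≤ IsLocalRing.maximalIdeal R := IsLocalRing.le_maximalIdeal b.1.2.ne_top
  have ha : a.1.asIdeal < IsLocalRing.maximalIdeal R := lt_of_lt_of_le hab hb
  exact absurd (hm.2 ⟨a.1.2, a.2⟩ ha.le) (not_le_of_gt ha)

theorem exists_avoid (Q : Ideal R) (hdim : ringKrullDim (R ⧸ Q) = 1) :
    ∃ x ∈ IsLocalRing.maximalIdeal R, ∀ p ∈ Q.minimalPrimes, x ∉ p := by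
  by_contra hcon
  push Not at hcon
  have hfin := Ideal.finite_minimalPrimes_of_isNoetherianRing R Q
  have hsub : ((IsLocalRing.maximalIdeal R : Ideal R) : Set R) ⊆
      ⋃ p ∈ (↑hfin.toFinset : Set (Ideal R)), (p : Set R) := by
    intro x hx
    obtain ⟨p, hp, hxp⟩ := hcon x hx
    simp only [Set.Finite.coe_toFinset, Set.mem_iUnion]
    exact ⟨p, hp, hxp⟩
  have := (Ideal.subset_union_prime (R := R) (s := hfin.toFinset) (f := fun p => p)
    (IsLocalRing.maximalIdeal R) (IsLocalRing.maximalIdeal R)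
    (fun p hp _ _ => ((Set.Finite.mem_toFinset hfin).mp hp).1.1)).mp hsub
  obtain ⟨p, hp, hmp⟩ := this
  have hp' := (Set.Finite.mem_toFinset hfin).mp hp
  have : p = IsLocalRing.maximalIdeal R :=
    le_antisymm (IsLocalRing.le_maximalIdeal hp'.1.1.ne_top) hmp
  exact max_not_minimal Q hdim (this ▸ hp')

theorem mk_mem_nzd (Q : Ideal R) [IsReduced (R ⧸ Q)] (x : R)
    (hx : ∀ p ∈ Q.minimalPrimes, x ∉ p) : Ideal.Quotient.mk Q x ∈ nonZeroDivisors (R ⧸ Q) := by
  rw [mem_nonZeroDivisors_iff_right]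
  intro s hs
  obtain ⟨s, rfl⟩ := Ideal.Quotient.mk_surjective s
  rw [← map_mul, Ideal.Quotient.eq_zero_iff_mem] at hs
  rw [Ideal.Quotient.eq_zero_iff_mem]
  have hrad : Q.IsRadical := (Ideal.isRadical_iff_quotient_reduced Q).mpr inferInstance
  rw [← hrad.radical, ← Ideal.sInf_minimalPrimes, Ideal.mem_sInf]
  intro p hp
  have h1 : s * x ∈ p := hp.1.2 hs
  rcases hp.1.1.mem_or_mem h1 with h | h
  · exact h
  · exact absurd h (hx p hp)

theorem hom_zero {P Q : Ideal R} {n : ℕ} (hPQ : IsLocalRing.maximalIdeal R ^ n ≤ P ⊔ Q)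
    {I J : Type u} [AddCommGroup I] [Module R I] [AddCommGroup J] [Module R J]
    (hPI : ∀ p ∈ P, ∀ x : I, p • x = 0) (hQJ : ∀ q ∈ Q, ∀ y : J, q • y = 0)
    (x : R) (hxm : x ∈ IsLocalRing.maximalIdeal R) (hxJ : ∀ y : J, x • y = 0 → y = 0)
    (φ : I →ₗ[R] J) : φ = 0 := by
  apply LinearMap.ext
  intro i
  rw [LinearMap.zero_apply]
  have h1 : ∀ r ∈ P ⊔ Q, r • φ i = 0 := by
    intro r hr
    obtain ⟨p, hp, q, hq, rfl⟩ := Submodule.mem_sup.mp hr
    rw [add_smul, ← map_smul, hPI p hp, map_zero, hQJ q hq, add_zero]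
  have h2 : x ^ n • φ i = 0 := h1 _ (hPQ (Ideal.pow_mem_pow hxm n))
  have h3 : ∀ k : ℕ, ∀ y : J, x ^ k • y = 0 → y = 0 := by
    intro k
    induction k with
    | zero => intro y hy; simpa using hy
    | succ k ih =>
      intro y hy
      rw [pow_succ, mul_smul] at hy
      exact hxJ y (ih _ hy)
  exact h3 n _ h2

theorem exists_socle {Q : Ideal R} (hdim : ringKrullDim (R ⧸ Q) = 1) (x : R)
    (hx : ∀ p ∈ Q.minimalPrimes, x ∉ p)
    {J' : Type u} [AddCommGroup J'] [Module R J'] [Module.Finite R J'] [Nontrivial J']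
    (hQ : ∀ q ∈ Q, ∀ y : J', q • y = 0) (hxJ : ∀ y : J', x • y = 0) :
    ∃ z : J', z ≠ 0 ∧ ∀ r ∈ IsLocalRing.maximalIdeal R, r • z = 0 := by
  obtain ⟨q, hq⟩ := associatedPrimes.nonempty R J'
  rw [AssociatedPrimes.mem_iff, isAssociatedPrime_iff] at hq
  obtain ⟨hqp, z, hz⟩ := hq
  have hmem : ∀ r, r ∈ q ↔ r • z = 0 := by
    intro r
    rw [hz, Submodule.mem_colon_singleton, Submodule.mem_bot]
  have hQq : Q ≤ q := fun r hr => (hmem r).mpr (hQ r hr z)
  have hxq : x ∈ q := (hmem x).mpr (hxJ z)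
  have hqm : q = IsLocalRing.maximalIdeal R := by
    rcases prime_dichotomy Q hdim q hQq with h | h
    · exact absurd hxq (hx q h)
    · exact h
  refine ⟨z, ?_, fun r hr => (hmem r).mp (hqm ▸ hr)⟩
  rintro rfl
  have : (1 : R) ∈ q := (hmem 1).mpr (smul_zero _)
  exact hqp.ne_top ((Ideal.eq_top_iff_one q).mpr this)

theorem exists_to_residue (I : Type u) [AddCommGroup I] [Module R I] [Module.Finite R I]
    [Nontrivial I] :
    ∃ (ψ : I →ₗ[R] (R ⧸ IsLocalRing.maximalIdeal R)) (i0 : I), ψ i0 = 1 := by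
  have hne : (⊤ : Submodule R I) ≠ IsLocalRing.maximalIdeal R • ⊤ :=
    Submodule.top_ne_ideal_smul_of_le_jacobson_annihilator
      (IsLocalRing.maximalIdeal_le_jacobson _)
  have hnt : Nontrivial (I ⧸ (IsLocalRing.maximalIdeal R • ⊤ : Submodule R I)) :=
    Submodule.Quotient.nontrivial_iff.mpr (Ne.symm hne)
  obtain ⟨v, hv⟩ := exists_ne (0 : I ⧸ (IsLocalRing.maximalIdeal R • ⊤ : Submodule R I))
  let _ : Field (R ⧸ IsLocalRing.maximalIdeal R) := Ideal.Quotient.field _
  let f : (R ⧸ IsLocalRing.maximalIdeal R) →ₗ[R ⧸ IsLocalRing.maximalIdeal R]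
      (I ⧸ (IsLocalRing.maximalIdeal R • ⊤ : Submodule R I)) :=
    LinearMap.toSpanSingleton (R ⧸ IsLocalRing.maximalIdeal R) _ v
  have hf : LinearMap.ker f = ⊥ := by
    rw [LinearMap.ker_eq_bot']
    intro c hc
    rw [LinearMap.toSpanSingleton_apply] at hc
    rcases smul_eq_zero.mp hc with h | h
    · exact h
    · exact absurd h hv
  obtain ⟨g, hg⟩ := f.exists_leftInverse_of_injective hf
  obtain ⟨i0, hi0⟩ := Submodule.mkQ_surjective
    (IsLocalRing.maximalIdeal R • ⊤ : Submodule R I) v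
  refine ⟨(g.restrictScalars R).comp (Submodule.mkQ _), i0, ?_⟩
  rw [LinearMap.comp_apply, hi0, LinearMap.restrictScalars_apply]
  have : f 1 = v := by rw [LinearMap.toSpanSingleton_apply, one_smul]
  rw [← this]
  exact LinearMap.congr_fun hg 1

theorem exists_nonzero_map (I : Type u) [AddCommGroup I] [Module R I] [Module.Finite R I]
    [Nontrivial I] {J' : Type u} [AddCommGroup J'] [Module R J']
    (z : J') (hz : z ≠ 0) (hmz : ∀ r ∈ IsLocalRing.maximalIdeal R, r • z = 0) :
    ∃ g : I →ₗ[R] J', g ≠ 0 := by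
  obtain ⟨ψ, i0, hi0⟩ := exists_to_residue (R := R) I
  let θ : (R ⧸ IsLocalRing.maximalIdeal R) →ₗ[R] J' :=
    Submodule.liftQ (IsLocalRing.maximalIdeal R) (LinearMap.toSpanSingleton R J' z) (by
      intro r hr
      rw [LinearMap.mem_ker, LinearMap.toSpanSingleton_apply]
      exact hmz r hr)
  refine ⟨θ.comp ψ, fun h => hz ?_⟩
  have h1 := LinearMap.congr_fun h i0
  rw [LinearMap.comp_apply, hi0, LinearMap.zero_apply] at h1
  have h2 : θ 1 = z := by
    change θ (Submodule.Quotient.mk (1 : R)) = z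
    rw [Submodule.liftQ_apply, LinearMap.toSpanSingleton_apply, one_smul]
  rw [← h2, h1]

noncomputable def scJ (J : Type u) [AddCommGroup J] [Module R J] (x : R) :
    ShortComplex (ModuleCat.{u} R) :=
  ShortComplex.mk (X₁ := ModuleCat.of R J) (X₂ := ModuleCat.of R J)
    (X₃ := ModuleCat.of R (J ⧸ LinearMap.range (LinearMap.lsmul R J x)))
    (ModuleCat.ofHom (LinearMap.lsmul R J x))
    (ModuleCat.ofHom (Submodule.mkQ (LinearMap.range (LinearMap.lsmul R J x)))) (by
      rw [← ModuleCat.ofHom_comp, LinearMap.range_mkQ_comp]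
      rfl)

theorem scJ_shortExact (J : Type u) [AddCommGroup J] [Module R J] (x : R)
    (hxJ : ∀ y : J, x • y = 0 → y = 0) : (scJ J x).ShortExact := by
  refine ModuleCat.shortComplex_shortExact _ ?_ ?_ (Submodule.mkQ_surjective _)
  · exact LinearMap.exact_map_mkQ_range (LinearMap.lsmul R J x)
  · change Function.Injective (LinearMap.lsmul R J x)
    rw [injective_iff_map_eq_zero]
    intro y hy
    exact hxJ y hy

open Abelian in
theorem ext_nontrivial {I J : Type u} [AddCommGroup I] [Module R I] [AddCommGroup J] [Module R J]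
    (x : R) (hxJ : ∀ y : J, x • y = 0 → y = 0)
    (hhom : ∀ φ : I →ₗ[R] J, φ = 0)
    (g : I →ₗ[R] (J ⧸ LinearMap.range (LinearMap.lsmul R J x))) (hg : g ≠ 0) :
    Nontrivial (Abelian.Ext (ModuleCat.of R I) (ModuleCat.of R J) 1) := by
  by_contra hcon
  rw [not_nontrivial_iff_subsingleton] at hcon
  have hS := scJ_shortExact J x hxJ
  let gg : ModuleCat.of R I ⟶ (scJ J x).X₃ := ModuleCat.ofHom g
  have hsub : Subsingleton (Ext (ModuleCat.of R I) (scJ J x).X₁ 1) := hcon
  have h0 : (Ext.mk₀ gg).comp hS.extClass (zero_add 1) = 0 := Subsingleton.elim _ _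
  obtain ⟨x₂, hx₂⟩ := Ext.covariant_sequence_exact₃ (ModuleCat.of R I) hS (Ext.mk₀ gg)
    (zero_add 1) h0
  obtain ⟨φ, rfl⟩ := (Ext.mk₀_bijective _ _).2 x₂
  rw [Ext.mk₀_comp_mk₀] at hx₂
  have h1 := (Ext.mk₀_bijective _ _).1 hx₂
  have h2 : φ = 0 := by
    apply ModuleCat.hom_ext
    exact hhom φ.hom
  rw [h2, Limits.zero_comp] at h1
  apply hg
  have h3 := congrArg ModuleCat.Hom.hom h1
  exact h3.symm

end Helpers

/-- Let R be a Noetherian local ring with maximal ideal m, and P, Q ideals of R such that P + Q contains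
a power of m while R/P and R/Q are both reduced of Krull dimension one. Let I and J be nonzero
finitely generated R-modules with P·I = 0 and Q·J = 0, such that every element of R whose class in
R/P is a non-zero-divisor acts injectively on I, and every element whose class in R/Q is a
non-zero-divisor acts injectively on J. Then the group Ext¹_R(I, J) is nonzero. (This is the stalk
statement behind the existence of a non-split extension of a torsion-free rank-one sheaf on a
subcurve Y by one on a subcurve Z of a reduced projective curve, at a point where Y and Z meet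
without sharing a component; in that situation the modules moreover have rank one at the generic
points of their supports and P ∩ Q = 0, two assumptions the argument does not use.) -/
theorem result
    (R : Type u) [CommRing R] [IsNoetherianRing R] [IsLocalRing R]
    (P Q : Ideal R) (hPQ : ∃ n : ℕ, IsLocalRing.maximalIdeal R ^ n ≤ P ⊔ Q)
    [IsReduced (R ⧸ P)] [IsReduced (R ⧸ Q)]
    (hPdim : ringKrullDim (R ⧸ P) = 1) (hQdim : ringKrullDim (R ⧸ Q) = 1)
    (I J : Type u) [AddCommGroup I] [Module R I] [Module.Finite R I] [Nontrivial I]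
    [AddCommGroup J] [Module R J] [Module.Finite R J] [Nontrivial J]
    (hPI : ∀ p ∈ P, ∀ x : I, p • x = 0) (hQJ : ∀ q ∈ Q, ∀ y : J, q • y = 0)
    (hItf : ∀ r : R, Ideal.Quotient.mk P r ∈ nonZeroDivisors (R ⧸ P) → ∀ x : I, r • x = 0 → x = 0)
    (hJtf : ∀ r : R, Ideal.Quotient.mk Q r ∈ nonZeroDivisors (R ⧸ Q) → ∀ y : J, r • y = 0 → y = 0) :
    Nontrivial (Abelian.Ext (ModuleCat.of R I) (ModuleCat.of R J) 1) := by
  obtain ⟨n, hn⟩ := hPQ
  obtain ⟨x, hxm, hx⟩ := exists_avoid Q hQdim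
  have hxnzd := mk_mem_nzd Q x hx
  have hxJ : ∀ y : J, x • y = 0 → y = 0 := hJtf x hxnzd
  have hhom := hom_zero hn hPI hQJ x hxm hxJ
  have hNne : LinearMap.range (LinearMap.lsmul R J x) ≠ ⊤ := by
    intro h
    have hle : (⊤ : Submodule R J) ≤ IsLocalRing.maximalIdeal R • ⊤ := by
      intro y _
      have hy : y ∈ LinearMap.range (LinearMap.lsmul R J x) := by rw [h]; trivial
      obtain ⟨y', rfl⟩ := hy
      exact Submodule.smul_mem_smul hxm (Submodule.mem_top (x := y'))
    exact Submodule.top_ne_ideal_smul_of_le_jacobson_annihilator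
      (IsLocalRing.maximalIdeal_le_jacobson _) (le_antisymm hle le_top)
  have hnt : Nontrivial (J ⧸ LinearMap.range (LinearMap.lsmul R J x)) :=
    Submodule.Quotient.nontrivial_iff.mpr hNne
  obtain ⟨z, hz, hmz⟩ := exists_socle hQdim x hx
    (J' := J ⧸ LinearMap.range (LinearMap.lsmul R J x))
    (fun q hq y => by
      obtain ⟨y, rfl⟩ := Submodule.mkQ_surjective _ y
      rw [← map_smul, hQJ q hq y, map_zero])
    (fun y => by
      obtain ⟨y, rfl⟩ := Submodule.mkQ_surjective _ y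
      rw [← map_smul, Submodule.mkQ_apply, Submodule.Quotient.mk_eq_zero]
      exact ⟨y, rfl⟩)
  obtain ⟨g, hg⟩ := exists_nonzero_map I z hz hmz
  exact ext_nontrivial x hxJ hhom g hg

end Groth.Agent.S18363
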