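import Groth.Statements.S18364
import Mathlib

set_option autoImplicit false
universe u
open CAlg

namespace Groth.Agent.S18364
variable {A : Type u} [CommRing A]

/-- membership in `span{π} • ⊤` -/
theorem mem_pi_smul_top {P : Type*} [AddCommGroup P] [Module A P] (π : A) (x : P) :
    x ∈ Ideal.span {π} • (⊤ : Submodule A P) ↔ ∃ m : P, x = π • m := by
  rw [Submodule.ideal_span_singleton_smul, Submodule.mem_smul_pointwise_iff_exists]
  constructor
  · rintro ⟨m, -, rfl⟩; exact ⟨m, rfl⟩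
  · rintro ⟨m, rfl⟩; exact ⟨m, trivial, rfl⟩

theorem mem_K {ι : Type} (𝔓 : ι → Ideal A) [∀ i, (𝔓 i).IsPrime]
    {P : Type*} [AddCommGroup P] [Module A P] (T : Set ι) (x : P) :
    x ∈ (⨅ i ∈ T, LinearMap.ker (LocalizedModule.mkLinearMap (𝔓 i).primeCompl P)) ↔
      ∀ i ∈ T, x ∈ LinearMap.ker (LocalizedModule.mkLinearMap (𝔓 i).primeCompl P) := by
  simp only [Submodule.mem_iInf]

/-- the separating elements -/
theorem exists_sep [IsNoetherianRing A] (π : A)
    (ι : Type) [Fintype ι] [DecidableEq ι] (𝔓 : ι → Ideal A) [∀ i, (𝔓 i).IsPrime]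
    (h𝔓 : ∀ i, 𝔓 i ∈ (Ideal.span {π}).minimalPrimes) (h𝔓inj : Function.Injective 𝔓)
    (h𝔓surj : ∀ 𝔔 ∈ (Ideal.span {π}).minimalPrimes, ∃ i, 𝔓 i = 𝔔) (i j : ι) (hij : i ≠ j) :
    ∃ s t : A, s ∉ 𝔓 i ∧ t ∉ 𝔓 j ∧ t * s ∈ Ideal.span {π} := by
  classical
  have hsep : ∀ l i : ι, l ≠ i → ∃ a, a ∈ 𝔓 l ∧ a ∉ 𝔓 i := by
    intro l i hli
    have : ¬ 𝔓 l ≤ 𝔓 i := by
      intro hle
      have := (h𝔓 i).2 (h𝔓 l).1 hle
      exact hli (h𝔓inj (le_antisymm hle this))
    exact SetLike.not_le_iff_exists.mp this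
  choose a ha1 ha2 using hsep
  have hrad : (⨅ i, 𝔓 i) = (Ideal.span {π}).radical := by
    rw [← Ideal.sInf_minimalPrimes]
    apply le_antisymm
    · refine le_sInf fun 𝔔 h𝔔 => ?_
      obtain ⟨i, rfl⟩ := h𝔓surj 𝔔 h𝔔
      exact iInf_le _ i
    · exact le_iInf fun i => sInf_le (h𝔓 i)
  obtain ⟨k, hk⟩ := Ideal.exists_radical_pow_le_of_fg (Ideal.span {π})
    (IsNoetherian.noetherian _)
  set b : ι → A := fun l => if h : l = i then 1 else a l i h with hb
  refine ⟨(∏ l ∈ Finset.univ.erase i, b l) ^ k, (a i j hij) ^ k, ?_, ?_, ?_⟩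
  · intro hmem
    have h1 := Ideal.IsPrime.mem_of_pow_mem inferInstance _ hmem
    rw [Ideal.IsPrime.prod_mem_iff] at h1
    obtain ⟨l, hl, hbl⟩ := h1
    have hli : l ≠ i := Finset.ne_of_mem_erase hl
    simp only [hb, dif_neg hli] at hbl
    exact ha2 l i hli hbl
  · intro hmem
    exact ha2 i j hij (Ideal.IsPrime.mem_of_pow_mem inferInstance _ hmem)
  · rw [← mul_pow]
    apply hk
    apply Ideal.pow_mem_pow
    rw [← hrad, Ideal.mem_iInf]
    intro l₀
    by_cases hl₀ : l₀ = i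
    · subst hl₀
      exact Ideal.mul_mem_right _ _ (ha1 _ _ hij)
    · apply Ideal.mul_mem_left
      apply Ideal.prod_mem _ (Finset.mem_erase.mpr ⟨hl₀, Finset.mem_univ _⟩)
      simp only [hb, dif_neg hl₀]
      exact ha1 _ _ hl₀


theorem main [IsNoetherianRing A] (π : A)
    (ι : Type) [Finite ι] (𝔓 : ι → Ideal A) [∀ i, (𝔓 i).IsPrime]
    (h𝔓 : ∀ i, 𝔓 i ∈ (Ideal.span {π}).minimalPrimes) (h𝔓inj : Function.Injective 𝔓)
    (h𝔓surj : ∀ 𝔔 ∈ (Ideal.span {π}).minimalPrimes, ∃ i, 𝔓 i = 𝔔)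
    (M : Type u) [AddCommGroup M] [Module A M]
    (K : Set ι → Submodule A (M ⧸ Ideal.span {π} • (⊤ : Submodule A M)))
    (hK : ∀ T : Set ι, K T = ⨅ i ∈ T, LinearMap.ker
      (LocalizedModule.mkLinearMap (𝔓 i).primeCompl (M ⧸ Ideal.span {π} • (⊤ : Submodule A M))))
    (htf : K Set.univ = ⊥)
    (N : Set ι → Submodule A M)
    (hN : ∀ T : Set ι, N T = (K T).comap (Submodule.mkQ (Ideal.span {π} • (⊤ : Submodule A M))))
    (Y : Set ι) :
    N Y ⊓ N Yᶜ = Ideal.span {π} • (⊤ : Submodule A M) ∧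
    Submodule.map (N Y).subtype
      ((⨅ i ∈ Yᶜ, LinearMap.ker (LocalizedModule.mkLinearMap (𝔓 i).primeCompl
          (↥(N Y) ⧸ Ideal.span {π} • (⊤ : Submodule A ↥(N Y))))).comap
        (Submodule.mkQ (Ideal.span {π} • (⊤ : Submodule A ↥(N Y)))))
      = N Y ⊓ N Yᶜ := by
  classical
  have := Fintype.ofFinite ι
  obtain ⟨q, hq⟩ : ∃ q : M →ₗ[A] (M ⧸ Ideal.span {π} • (⊤ : Submodule A M)),
      q = Submodule.mkQ (Ideal.span {π} • (⊤ : Submodule A M)) := ⟨_, rfl⟩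
  obtain ⟨q', hq'⟩ : ∃ q' : ↥(N Y) →ₗ[A] (↥(N Y) ⧸ Ideal.span {π} • (⊤ : Submodule A ↥(N Y))),
      q' = Submodule.mkQ (Ideal.span {π} • (⊤ : Submodule A ↥(N Y))) := ⟨_, rfl⟩
  obtain ⟨W, hW⟩ : ∃ W : ι → Submodule A (M ⧸ Ideal.span {π} • (⊤ : Submodule A M)), W = fun i =>
    LinearMap.ker (LocalizedModule.mkLinearMap (𝔓 i).primeCompl _) := ⟨_, rfl⟩
  obtain ⟨W', hW'⟩ : ∃ W' : ι → Submodule A (↥(N Y) ⧸ Ideal.span {π} • (⊤ : Submodule A ↥(N Y))),
    W' = fun i => LinearMap.ker (LocalizedModule.mkLinearMap (𝔓 i).primeCompl _) := ⟨_, rfl⟩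
  have memK : ∀ T x, x ∈ K T ↔ ∀ i ∈ T, x ∈ W i := by
    intro T x; rw [hK T, hW]; exact mem_K 𝔓 T x
  have memW : ∀ i x, x ∈ W i ↔ ∃ s, s ∉ 𝔓 i ∧ s • x = 0 := by
    intro i x
    simp only [hW, LocalizedModule.mem_ker_mkLinearMap_iff]
    rfl
  have memW' : ∀ i x, x ∈ W' i ↔ ∃ s, s ∉ 𝔓 i ∧ s • x = 0 := by
    intro i x
    simp only [hW', LocalizedModule.mem_ker_mkLinearMap_iff]
    rfl
  have memN : ∀ T m, m ∈ N T ↔ q m ∈ K T := by
    intro T m; rw [hN T, hq]; rfl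
  have q_zero : ∀ m, q m = 0 ↔ ∃ m', m = π • m' := by
    intro m
    rw [hq, Submodule.mkQ_apply, Submodule.Quotient.mk_eq_zero, mem_pi_smul_top]
  have q'_zero : ∀ n : N Y, q' n = 0 ↔ ∃ n' : N Y, n = π • n' := by
    intro m
    rw [hq', Submodule.mkQ_apply, Submodule.Quotient.mk_eq_zero, mem_pi_smul_top]
  have hle : Ideal.span {π} • (⊤ : Submodule A ↥(N Y)) ≤
      (Ideal.span {π} • (⊤ : Submodule A M)).comap (N Y).subtype := by
    intro n hn
    rw [mem_pi_smul_top] at hn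
    obtain ⟨n', rfl⟩ := hn
    rw [Submodule.mem_comap, mem_pi_smul_top]
    exact ⟨n', rfl⟩
  obtain ⟨j, hj⟩ : ∃ j, j = Submodule.mapQ _ _ (N Y).subtype hle := ⟨_, rfl⟩
  have j_q' : ∀ n : N Y, j (q' n) = q n := fun n => by rw [hj, hq, hq']; rfl
  have jW : ∀ i x, x ∈ W' i → j x ∈ W i := by
    intro i x hx
    rw [memW'] at hx
    obtain ⟨s, hs, hsx⟩ := hx
    rw [memW]
    exact ⟨s, hs, by rw [← map_smul, hsx, map_zero]⟩
  -- part 1
  have part1 : N Y ⊓ N Yᶜ = Ideal.span {π} • (⊤ : Submodule A M) := by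
    ext m
    rw [Submodule.mem_inf, memN, memN, mem_pi_smul_top, ← q_zero]
    constructor
    · rintro ⟨h1, h2⟩
      have : q m ∈ K Set.univ := by
        rw [memK]
        intro i _
        by_cases hi : i ∈ Y
        · exact (memK Y _).mp h1 i hi
        · exact (memK Yᶜ _).mp h2 i hi
      rw [htf] at this
      exact (Submodule.mem_bot A).mp this
    · intro h0
      rw [h0]
      exact ⟨zero_mem _, zero_mem _⟩
  refine ⟨part1, ?_⟩
  have hgoal : (⨅ i ∈ Yᶜ, LinearMap.ker (LocalizedModule.mkLinearMap (𝔓 i).primeCompl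
      (↥(N Y) ⧸ Ideal.span {π} • (⊤ : Submodule A ↥(N Y))))) = ⨅ i ∈ Yᶜ, W' i := by rw [hW']
  rw [← hq', hgoal]
  apply le_antisymm
  · rintro x ⟨n, hn, rfl⟩
    rw [SetLike.mem_coe, Submodule.mem_comap] at hn
    simp only [Submodule.mem_iInf] at hn
    rw [Submodule.mem_inf]
    refine ⟨n.2, ?_⟩
    rw [Submodule.subtype_apply, memN, memK]
    intro i hi
    rw [← j_q']
    exact jW i _ (hn i hi)
  · intro x hx
    rw [part1, mem_pi_smul_top] at hx
    obtain ⟨m, rfl⟩ := hx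
    have hπm : π • m ∈ N Y := by
      rw [memN, (q_zero _).mpr ⟨m, rfl⟩]; exact zero_mem _
    refine ⟨⟨π • m, hπm⟩, ?_, rfl⟩
    rw [SetLike.mem_coe, Submodule.mem_comap]
    simp only [Submodule.mem_iInf]
    intro i hi
    rw [memW']
    -- need s ∉ 𝔓 i with s • m ∈ N Y
    have hs : ∃ s, s ∉ 𝔓 i ∧ s • m ∈ N Y := by
      -- choose for each j ∈ Y elements s_j, t_j
      have hsep : ∀ j : ι, j ∈ Y → ∃ s t : A, s ∉ 𝔓 i ∧ t ∉ 𝔓 j ∧ t * s ∈ Ideal.span {π} := by
        intro j hjY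
        have hij : i ≠ j := by rintro rfl; exact hi hjY
        exact exists_sep π ι 𝔓 h𝔓 h𝔓inj h𝔓surj i j hij
      -- product over all j of s_j (using 1 for j ∉ Y)
      have hsep' : ∀ j : ι, ∃ s t : A, s ∉ 𝔓 i ∧ (j ∈ Y → t ∉ 𝔓 j ∧ t * s ∈ Ideal.span {π}) := by
        intro j
        by_cases hjY : j ∈ Y
        · obtain ⟨s, t, h1, h2, h3⟩ := hsep j hjY
          exact ⟨s, t, h1, fun _ => ⟨h2, h3⟩⟩
        · exact ⟨1, 1, fun h => (Ideal.IsPrime.ne_top inferInstance) ((Ideal.eq_top_iff_one _).mpr h),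
            fun h => absurd h hjY⟩
      choose s t hs1 hs2 using hsep'
      refine ⟨∏ j, s j, ?_, ?_⟩
      · intro hmem
        rw [Ideal.IsPrime.prod_mem_iff] at hmem
        obtain ⟨j, -, hj⟩ := hmem
        exact hs1 j hj
      · rw [memN, memK]
        intro j hjY
        rw [memW]
        obtain ⟨h2, h3⟩ := hs2 j hjY
        refine ⟨t j, h2, ?_⟩
        rw [← map_smul, q_zero]
        have h4 : t j * ∏ j, s j ∈ Ideal.span {π} := by
          rw [← Finset.mul_prod_erase Finset.univ s (Finset.mem_univ j), ← mul_assoc]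
          exact Ideal.mul_mem_right _ _ h3
        obtain ⟨c, hc⟩ := Ideal.mem_span_singleton'.mp h4
        refine ⟨c • m, ?_⟩
        rw [smul_smul, smul_smul, ← hc, mul_comm π c]
    obtain ⟨s, hs1, hs2⟩ := hs
    refine ⟨s, hs1, ?_⟩
    rw [← map_smul, q'_zero]
    refine ⟨⟨s • m, hs2⟩, ?_⟩
    apply Subtype.ext
    simp only [Submodule.coe_smul]
    rw [smul_comm]

end Groth.Agent.S18364

namespace Groth.Agent.S18364

/-- Let A be a Noetherian ring, π an element of A, and (𝔓_i)_{i ∈ ι} an injective finite family listing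
exactly the minimal prime ideals over (π). Let M be a finitely generated A-module and M̄ = M/πM. For
a subset T of ι let K(T) ⊆ M̄ be the submodule of elements whose image in the localisation of M̄ at
𝔓_i is zero for every i ∈ T, and N(T) ⊆ M its preimage in M. Assume K(ι) = 0, i.e. no nonzero
element of M̄ vanishes at all the minimal primes (every associated prime of M̄ is one of the 𝔓_i).
Then for every subset Y of ι with complement Z one has N(Y) ∩ N(Z) = πM, and the same construction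
applied to the module N(Y) instead of M — the preimage in N(Y) of the elements of N(Y)/πN(Y)
vanishing at every 𝔓_i with i ∈ Z — is, as a submodule of M, equal to N(Y) ∩ N(Z). (Geometric
meaning: A is the local ring of a flat family of curves over a discrete valuation ring with
uniformizer π at a point of the reduced special fibre, M the stalk of a torsion-free rank-one sheaf
I, Y a set of components of the special fibre through the point, and N(Y) the stalk of the kernel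
I^Y of I → I(s)_Y; the statement is (I^Y)^Z = I^Y ∩ I^Z = πI. Reducedness of A/πA, flatness and rank
one are not used.) -/
theorem result
    (A : Type u) [CommRing A] [IsNoetherianRing A] (π : A)
    (ι : Type) [Finite ι] (𝔓 : ι → Ideal A) [∀ i, (𝔓 i).IsPrime]
    (h𝔓 : ∀ i, 𝔓 i ∈ (Ideal.span {π}).minimalPrimes) (h𝔓inj : Function.Injective 𝔓)
    (h𝔓surj : ∀ 𝔔 ∈ (Ideal.span {π}).minimalPrimes, ∃ i, 𝔓 i = 𝔔)
    (M : Type u) [AddCommGroup M] [Module A M] [Module.Finite A M]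
    (K : Set ι → Submodule A (M ⧸ Ideal.span {π} • (⊤ : Submodule A M)))
    (hK : ∀ T : Set ι, K T = ⨅ i ∈ T, LinearMap.ker
      (LocalizedModule.mkLinearMap (𝔓 i).primeCompl (M ⧸ Ideal.span {π} • (⊤ : Submodule A M))))
    (htf : K Set.univ = ⊥)
    (N : Set ι → Submodule A M)
    (hN : ∀ T : Set ι, N T = (K T).comap (Submodule.mkQ (Ideal.span {π} • (⊤ : Submodule A M))))
    (Y : Set ι) :
    N Y ⊓ N Yᶜ = Ideal.span {π} • (⊤ : Submodule A M) ∧
    Submodule.map (N Y).subtype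
      ((⨅ i ∈ Yᶜ, LinearMap.ker (LocalizedModule.mkLinearMap (𝔓 i).primeCompl
          (↥(N Y) ⧸ Ideal.span {π} • (⊤ : Submodule A ↥(N Y))))).comap
        (Submodule.mkQ (Ideal.span {π} • (⊤ : Submodule A ↥(N Y)))))
      = N Y ⊓ N Yᶜ := by
  exact main π ι 𝔓 h𝔓 h𝔓inj h𝔓surj M K hK htf N hN Y

end Groth.Agent.S18364
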