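import Groth.Statements.S18365
import Mathlib

set_option autoImplicit false
universe u
open CAlg

namespace Groth.Agent.S18365
variable {A : Type u} [CommRing A]

/-- membership in `span{π} • ⊤` -/
theorem mem_pi_smul_top {P : Type*} [AddCommGroup P] [Module A P] (π : A) (x : P) :
    x ∈ Ideal.span {π} • (⊤ : Submodule A P) ↔ ∃ m : P, x = π • m := by
  rw [Submodule.ideal_span_singleton_smul, Submodule.mem_smul_pointwise_iff_exists]
  constructor
  · rintro ⟨m, -, rfl⟩; exact ⟨m, rfl⟩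
  · rintro ⟨m, rfl⟩; exact ⟨m, trivial, rfl⟩

theorem mem_K {ι : Type} (𝔓 : ι → Ideal A) [∀ i, (𝔓 i).IsPrime]
    {P : Type*} [AddCommGroup P] [Module A P] (T : Set ι) (x : P) :
    x ∈ (⨅ i ∈ T, LinearMap.ker (LocalizedModule.mkLinearMap (𝔓 i).primeCompl P)) ↔
      ∀ i ∈ T, x ∈ LinearMap.ker (LocalizedModule.mkLinearMap (𝔓 i).primeCompl P) := by
  simp only [Submodule.mem_iInf]

theorem main
    (π : A)
    (ι : Type) (𝔓 : ι → Ideal A) [∀ i, (𝔓 i).IsPrime]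
    (M : Type u) [AddCommGroup M] [Module A M]
    (hπ : ∀ m : M, π • m = 0 → m = 0)
    (K : Set ι → Submodule A (M ⧸ Ideal.span {π} • (⊤ : Submodule A M)))
    (hK : ∀ T : Set ι, K T = ⨅ i ∈ T, LinearMap.ker
      (LocalizedModule.mkLinearMap (𝔓 i).primeCompl (M ⧸ Ideal.span {π} • (⊤ : Submodule A M))))
    (htf : K Set.univ = ⊥)
    (N : Set ι → Submodule A M)
    (hN : ∀ T : Set ι, N T = (K T).comap (Submodule.mkQ (Ideal.span {π} • (⊤ : Submodule A M))))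
    (Y Z : Set ι) (hY : K Y ⊔ K Yᶜ = ⊤)
    (K' : Set ι → Submodule A (↥(N Y) ⧸ Ideal.span {π} • (⊤ : Submodule A ↥(N Y))))
    (hK' : ∀ T : Set ι, K' T = ⨅ i ∈ T, LinearMap.ker
      (LocalizedModule.mkLinearMap (𝔓 i).primeCompl (↥(N Y) ⧸ Ideal.span {π} • (⊤ : Submodule A ↥(N Y)))))
    (hZ : K' Z ⊔ K' Zᶜ = ⊤) :
    K Z ⊔ K Zᶜ = ⊤ := by
  obtain ⟨q, hq⟩ : ∃ q : M →ₗ[A] (M ⧸ Ideal.span {π} • (⊤ : Submodule A M)),
      q = Submodule.mkQ (Ideal.span {π} • (⊤ : Submodule A M)) := ⟨_, rfl⟩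
  obtain ⟨q', hq'⟩ : ∃ q' : ↥(N Y) →ₗ[A] (↥(N Y) ⧸ Ideal.span {π} • (⊤ : Submodule A ↥(N Y))),
      q' = Submodule.mkQ (Ideal.span {π} • (⊤ : Submodule A ↥(N Y))) := ⟨_, rfl⟩
  -- vanishing submodules
  obtain ⟨W, hW⟩ : ∃ W : ι → Submodule A (M ⧸ Ideal.span {π} • (⊤ : Submodule A M)), W = fun i =>
    LinearMap.ker (LocalizedModule.mkLinearMap (𝔓 i).primeCompl _) := ⟨_, rfl⟩
  obtain ⟨W', hW'⟩ : ∃ W' : ι → Submodule A (↥(N Y) ⧸ Ideal.span {π} • (⊤ : Submodule A ↥(N Y))),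
    W' = fun i => LinearMap.ker (LocalizedModule.mkLinearMap (𝔓 i).primeCompl _) := ⟨_, rfl⟩
  have hqs : Function.Surjective q := hq ▸ Submodule.mkQ_surjective _
  have hqs' : Function.Surjective q' := hq' ▸ Submodule.mkQ_surjective _
  have memK : ∀ T x, x ∈ K T ↔ ∀ i ∈ T, x ∈ W i := by
    intro T x; rw [hK T, hW]; exact mem_K 𝔓 T x
  have memK' : ∀ T x, x ∈ K' T ↔ ∀ i ∈ T, x ∈ W' i := by
    intro T x; rw [hK' T, hW']; exact mem_K 𝔓 T x
  have memW : ∀ i x, x ∈ W i ↔ ∃ s, s ∉ 𝔓 i ∧ s • x = 0 := by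
    intro i x
    simp only [hW, LocalizedModule.mem_ker_mkLinearMap_iff]
    rfl
  have memW' : ∀ i x, x ∈ W' i ↔ ∃ s, s ∉ 𝔓 i ∧ s • x = 0 := by
    intro i x
    simp only [hW', LocalizedModule.mem_ker_mkLinearMap_iff]
    rfl
  have memN : ∀ T m, m ∈ N T ↔ q m ∈ K T := by
    intro T m; rw [hN T, hq]; rfl
  have q_zero : ∀ m, q m = 0 ↔ ∃ m', m = π • m' := by
    intro m
    rw [hq, Submodule.mkQ_apply, Submodule.Quotient.mk_eq_zero, mem_pi_smul_top]
  have q'_zero : ∀ n : N Y, q' n = 0 ↔ ∃ n' : N Y, n = π • n' := by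
    intro m
    rw [hq', Submodule.mkQ_apply, Submodule.Quotient.mk_eq_zero, mem_pi_smul_top]
  -- the map j : Q' → Q
  have hle : Ideal.span {π} • (⊤ : Submodule A ↥(N Y)) ≤
      (Ideal.span {π} • (⊤ : Submodule A M)).comap (N Y).subtype := by
    intro n hn
    rw [mem_pi_smul_top] at hn
    obtain ⟨n', rfl⟩ := hn
    rw [Submodule.mem_comap, mem_pi_smul_top]
    exact ⟨n', rfl⟩
  obtain ⟨j, hj⟩ : ∃ j, j = Submodule.mapQ _ _ (N Y).subtype hle := ⟨_, rfl⟩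
  have j_q' : ∀ n : N Y, j (q' n) = q n := fun n => by rw [hj, hq, hq']; rfl
  have jW : ∀ i x, x ∈ W' i → j x ∈ W i := by
    intro i x hx
    rw [memW'] at hx
    obtain ⟨s, hs, hsx⟩ := hx
    rw [memW]
    exact ⟨s, hs, by rw [← map_smul, hsx, map_zero]⟩
  have jK : ∀ T x, x ∈ K' T → j x ∈ K T := by
    intro T x hx
    rw [memK]
    intro i hi
    exact jW i x ((memK' T x).mp hx i hi)
  -- (a)
  have ha : K Y ≤ K Z ⊔ K Zᶜ := by
    intro y hy
    obtain ⟨n, rfl⟩ := hqs y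
    have hn : n ∈ N Y := (memN Y n).mpr hy
    have : q' ⟨n, hn⟩ ∈ K' Z ⊔ K' Zᶜ := by rw [hZ]; trivial
    obtain ⟨u, hu, v, hv, huv⟩ := Submodule.mem_sup.mp this
    have e : q n = j u + j v := by rw [← map_add, huv, j_q']
    show q n ∈ _
    rw [e]
    exact Submodule.add_mem_sup (jK Z u hu) (jK Zᶜ v hv)
  -- key: elements of Q' vanishing at i ∈ Y
  have key : ∀ (i : ι), i ∈ Y → ∀ (m₁ : M) (n₁ : N Y), (n₁ : M) = π • m₁ → q' n₁ ∈ W' i → q m₁ ∈ W i := by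
    intro i hi m₁ n₁ hn₁ hu
    rw [memW'] at hu
    obtain ⟨s, hs, hsu⟩ := hu
    rw [← map_smul, q'_zero] at hsu
    obtain ⟨n', hn'⟩ := hsu
    have h1 : π • (s • m₁) = π • (n' : M) := by
      have := congrArg (fun z : N Y => (z : M)) hn'
      simp only [Submodule.coe_smul] at this
      rw [smul_comm, ← hn₁, this]
    have h2 : s • m₁ = n' := by
      have := hπ (s • m₁ - n') (by rw [smul_sub, h1, sub_self])
      exact sub_eq_zero.mp this
    have h3 : q (s • m₁) ∈ K Y := by rw [h2, ← memN]; exact n'.2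
    have h4 := (memK Y _).mp h3 i hi
    rw [memW] at h4
    obtain ⟨t, ht, hts⟩ := h4
    rw [memW]
    refine ⟨t * s, (𝔓 i).primeCompl.mul_mem ht hs, ?_⟩
    rw [mul_smul, ← map_smul q s]
    exact hts
  -- K Z ⊓ K Zᶜ = ⊥
  have hdisj : ∀ x, x ∈ K Z → x ∈ K Zᶜ → x = 0 := by
    intro x h1 h2
    have : x ∈ K Set.univ := by
      rw [memK]
      intro i _
      by_cases hi : i ∈ Z
      · exact (memK Z x).mp h1 i hi
      · exact (memK Zᶜ x).mp h2 i hi
    rw [htf] at this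
    exact (Submodule.mem_bot A).mp this
  -- (b)
  have hb : K Yᶜ ≤ K Z ⊔ K Zᶜ := by
    intro y hy
    obtain ⟨m, rfl⟩ := hqs y
    have hπm : π • m ∈ N Y := by
      rw [memN, (q_zero _).mpr ⟨m, rfl⟩]; exact zero_mem _
    have : q' ⟨π • m, hπm⟩ ∈ K' Z ⊔ K' Zᶜ := by rw [hZ]; trivial
    obtain ⟨u, hu, v, hv, huv⟩ := Submodule.mem_sup.mp this
    obtain ⟨n₁, rfl⟩ := hqs' u
    obtain ⟨n₂, rfl⟩ := hqs' v
    have h0 : q' (⟨π • m, hπm⟩ - n₁ - n₂) = 0 := by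
      rw [map_sub, map_sub, ← huv]; abel
    obtain ⟨n₃, hn₃⟩ := (q'_zero _).mp h0
    have hM : π • m = (n₁ : M) + n₂ + π • (n₃ : M) := by
      have := congrArg (fun z : N Y => (z : M)) hn₃
      simp only [Submodule.coe_smul, Submodule.coe_sub] at this
      rw [← this]; abel
    have hq0 : q (n₁ : M) + q (n₂ : M) = 0 := by
      have := congrArg q hM
      rw [map_add, map_add, (q_zero (π • m)).mpr ⟨m, rfl⟩, (q_zero (π • (n₃ : M))).mpr ⟨_, rfl⟩,
        add_zero] at this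
      exact this.symm
    have hn₁Z : q (n₁ : M) ∈ K Z := j_q' n₁ ▸ jK Z _ hu
    have hn₂Z : q (n₂ : M) ∈ K Zᶜ := j_q' n₂ ▸ jK Zᶜ _ hv
    have hn₁0 : q (n₁ : M) = 0 := by
      apply hdisj _ hn₁Z
      rw [eq_neg_of_add_eq_zero_left hq0]
      exact (K Zᶜ).neg_mem hn₂Z
    have hn₂0 : q (n₂ : M) = 0 := by rw [hn₁0, zero_add] at hq0; exact hq0
    obtain ⟨m₁, hm₁⟩ := (q_zero _).mp hn₁0
    obtain ⟨m₂, hm₂⟩ := (q_zero _).mp hn₂0
    have hm : m = m₁ + m₂ + n₃ := by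
      have := hπ (m - (m₁ + m₂ + n₃)) (by
        rw [smul_sub, smul_add, smul_add, hM, hm₁, hm₂, sub_self])
      exact sub_eq_zero.mp this
    -- decompose q m₁ and q m₂
    have dec : ∀ (T : Set ι) (m₁ : M) (n₁ : N Y), (n₁ : M) = π • m₁ → q' n₁ ∈ K' T →
        q m₁ ∈ K Z ⊔ K Zᶜ → q m₁ ∈ K Z ⊔ K Zᶜ := fun _ _ _ _ _ h => h
    have part : ∀ (T : Set ι) (m₁ : M) (n₁ : N Y), (n₁ : M) = π • m₁ → q' n₁ ∈ K' T →
        q m₁ ∈ K Y ⊔ K T := by
      intro T m₁ n₁ hn₁ hu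
      have : q m₁ ∈ K Y ⊔ K Yᶜ := by rw [hY]; trivial
      obtain ⟨a, ha', b, hb', hab⟩ := Submodule.mem_sup.mp this
      rw [← hab]
      refine Submodule.add_mem_sup ha' ?_
      rw [memK]
      intro i hi
      by_cases hiY : i ∈ Y
      · have h1 : q m₁ ∈ W i := key i hiY m₁ n₁ hn₁ ((memK' T _).mp hu i hi)
        have h2 : a ∈ W i := (memK Y a).mp ha' i hiY
        have : b = q m₁ - a := by rw [← hab]; abel
        rw [this]
        exact (W i).sub_mem h1 h2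
      · exact (memK Yᶜ b).mp hb' i hiY
    have p1 := part Z m₁ n₁ hm₁ hu
    have p2 := part Zᶜ m₂ n₂ hm₂ hv
    have p3 : q (n₃ : M) ∈ K Y := (memN Y _).mp n₃.2
    show q m ∈ _
    rw [hm, map_add, map_add]
    refine Submodule.add_mem _ (Submodule.add_mem _ ?_ ?_) (ha p3)
    · exact (sup_le ha le_sup_left) p1
    · exact (sup_le ha le_sup_right) p2
  rw [eq_top_iff, ← hY]
  exact sup_le ha hb

end Groth.Agent.S18365

namespace Groth.Agent.S18365

/-- Let A be a Noetherian ring, π an element of A, (𝔓_i)_{i ∈ ι} an injective finite family listing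
exactly the minimal prime ideals over (π), and M a finitely generated A-module on which π acts
injectively; put M̄ = M/πM. For T ⊆ ι let K(T) ⊆ M̄ be the submodule of elements whose image in the
localisation of M̄ at 𝔓_i vanishes for every i ∈ T, and N(T) ⊆ M its preimage; assume K(ι) = 0.
Suppose that M̄ decomposes at Y, i.e. K(Y) + K(Yᶜ) = M̄, and that for a subset Z the module
N(Y)/πN(Y) decomposes at Z, i.e. its submodule of elements vanishing at every 𝔓_i (i ∈ Z) and its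
submodule of elements vanishing at every 𝔓_i (i ∉ Z) together span it. Then M̄ decomposes at Z: K(Z)
+ K(Zᶜ) = M̄. (Geometric meaning: for a flat family of curves over a discrete valuation ring with
uniformizer π, I a torsion-free rank-one sheaf flat over the base, Y a subcurve of the special fibre
X(s) at which I(s) decomposes and I^Y = ker(I → I(s)_Y): if I^Y(s) decomposes at a subcurve Z then
so does I(s); decomposition of a sheaf at Z is the surjectivity of I(s) → I(s)_Z ⊕ I(s)_{Z^c},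
checked on stalks. Reducedness of the special fibre and rank one are not used.) -/
theorem result
    (A : Type u) [CommRing A] [IsNoetherianRing A] (π : A)
    (ι : Type) [Finite ι] (𝔓 : ι → Ideal A) [∀ i, (𝔓 i).IsPrime]
    (h𝔓 : ∀ i, 𝔓 i ∈ (Ideal.span {π}).minimalPrimes) (h𝔓inj : Function.Injective 𝔓)
    (h𝔓surj : ∀ 𝔔 ∈ (Ideal.span {π}).minimalPrimes, ∃ i, 𝔓 i = 𝔔)
    (M : Type u) [AddCommGroup M] [Module A M] [Module.Finite A M]
    (hπ : ∀ m : M, π • m = 0 → m = 0)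
    (K : Set ι → Submodule A (M ⧸ Ideal.span {π} • (⊤ : Submodule A M)))
    (hK : ∀ T : Set ι, K T = ⨅ i ∈ T, LinearMap.ker
      (LocalizedModule.mkLinearMap (𝔓 i).primeCompl (M ⧸ Ideal.span {π} • (⊤ : Submodule A M))))
    (htf : K Set.univ = ⊥)
    (N : Set ι → Submodule A M)
    (hN : ∀ T : Set ι, N T = (K T).comap (Submodule.mkQ (Ideal.span {π} • (⊤ : Submodule A M))))
    (Y Z : Set ι) (hY : K Y ⊔ K Yᶜ = ⊤)
    (K' : Set ι → Submodule A (↥(N Y) ⧸ Ideal.span {π} • (⊤ : Submodule A ↥(N Y))))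
    (hK' : ∀ T : Set ι, K' T = ⨅ i ∈ T, LinearMap.ker
      (LocalizedModule.mkLinearMap (𝔓 i).primeCompl (↥(N Y) ⧸ Ideal.span {π} • (⊤ : Submodule A ↥(N Y)))))
    (hZ : K' Z ⊔ K' Zᶜ = ⊤) :
    K Z ⊔ K Zᶜ = ⊤ := by
  exact main π ι 𝔓 M hπ K hK htf N hN Y Z hY K' hK' hZ

end Groth.Agent.S18365
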