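import Groth.Statements.S18366
import Mathlib

set_option autoImplicit false
universe u
open CategoryTheory CategoryTheory.Limits AlgebraicGeometry
open Variety

set_option linter.unusedSectionVars false

namespace Groth.Agent.S18366Aux

open Polynomial TensorProduct



/-- clearing denominators in a Bezout identity. -/
lemma exists_bezout_clear {P F : Type*} [CommRing P] [IsDomain P] [Field F] [Algebra P F]
    [IsFractionRing P F] (p q : P[X])
    (h : IsCoprime (p.map (algebraMap P F)) (q.map (algebraMap P F))) :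
    ∃ u v : P[X], ∃ c : P, c ≠ 0 ∧ u * p + v * q = C c := by
  obtain ⟨a, b, hab⟩ := h
  obtain ⟨ca, hca, ha⟩ := IsLocalization.integerNormalization_spec (nonZeroDivisors P) a
  obtain ⟨cb, hcb, hb⟩ := IsLocalization.integerNormalization_spec (nonZeroDivisors P) b
  refine ⟨C cb * IsLocalization.integerNormalization (nonZeroDivisors P) a,
    C ca * IsLocalization.integerNormalization (nonZeroDivisors P) b, ca * cb,
    mul_ne_zero (nonZeroDivisors.ne_zero hca) (nonZeroDivisors.ne_zero hcb), ?_⟩
  apply Polynomial.map_injective (algebraMap P F) (IsFractionRing.injective P F)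
  simp only [Polynomial.map_add, Polynomial.map_mul, Polynomial.map_C, ha, hb]
  simp only [Algebra.smul_def, Polynomial.algebraMap_apply]
  have : C ((algebraMap P F) cb) * (C ((algebraMap P F) ca) * a) * map (algebraMap P F) p +
      C ((algebraMap P F) ca) * (C ((algebraMap P F) cb) * b) * map (algebraMap P F) q =
      C ((algebraMap P F) ca) * C ((algebraMap P F) cb) *
        (a * map (algebraMap P F) p + b * map (algebraMap P F) q) := by ring
  rw [this, hab, mul_one, ← C_mul, ← map_mul]

/-- a separable element over the fraction field satisfies a polynomial over `P` with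
"nonzero discriminant". -/
lemma exists_sep_witness {P F K : Type*} [CommRing P] [IsDomain P] [Field F] [Algebra P F]
    [IsFractionRing P F] [Field K] [Algebra F K] [Algebra P K] [IsScalarTower P F K]
    (y : K) (hy : IsSeparable F y) :
    ∃ m u v : P[X], ∃ c : P, c ≠ 0 ∧ aeval y m = 0 ∧ u * m + v * derivative m = C c := by
  obtain ⟨d, hd, hm⟩ :=
    IsLocalization.integerNormalization_spec (nonZeroDivisors P) (minpoly F y)
  set m := IsLocalization.integerNormalization (nonZeroDivisors P) (minpoly F y) with hmdef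
  have hd0 : algebraMap P F d ≠ 0 := by
    intro h0
    exact nonZeroDivisors.ne_zero hd ((IsFractionRing.injective P F) (by rw [h0, map_zero]))
  have hm' : m.map (algebraMap P F) = C (algebraMap P F d) * minpoly F y := by
    rw [hm]
    simp only [Algebra.smul_def, Polynomial.algebraMap_apply]
  have hunit : IsUnit (C (algebraMap P F d) : F[X]) :=
    Polynomial.isUnit_C.2 (isUnit_iff_ne_zero.2 hd0)
  have hcop : IsCoprime (m.map (algebraMap P F)) ((derivative m).map (algebraMap P F)) := by
    rw [← Polynomial.derivative_map, hm', Polynomial.derivative_C_mul]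
    rw [isCoprime_mul_unit_left_left hunit, isCoprime_mul_unit_left_right hunit]
    exact hy
  obtain ⟨u, v, c, hc, huv⟩ := exists_bezout_clear (F := F) m (derivative m) hcop
  refine ⟨m, u, v, c, hc, ?_, huv⟩
  rw [← Polynomial.aeval_map_algebraMap F, hm', map_mul, minpoly.aeval, mul_zero]



theorem exists_algHom_of_witnesses (k : Type u) [Field k] [IsSepClosed k]
    (P : Type u) [CommRing P] [IsDomain P] [Algebra k P]
    (K : Type u) [Field K] [Algebra k K] [Algebra P K] [IsScalarTower k P K]
    (hPK : Function.Injective (algebraMap P K))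
    (hD : ∀ c : P, c ≠ 0 → ∃ φ : P →ₐ[k] k, φ c ≠ 0)
    (B₀ : Type u) [CommRing B₀] [Algebra k B₀] (ι₀ : B₀ →ₐ[k] K)
    (T : Finset B₀) (hT : Algebra.adjoin k (T : Set B₀) = ⊤)
    (hW : ∀ t ∈ T, ∃ m u v : P[X], ∃ c : P, c ≠ 0 ∧ aeval (ι₀ t) m = 0 ∧
      u * m + v * derivative m = C c) :
    Nonempty (B₀ →ₐ[k] k) := by
  classical
  have hW' : ∀ t : T, ∃ m u v : P[X], ∃ c : P, c ≠ 0 ∧ aeval (ι₀ t.1) m = 0 ∧
      u * m + v * derivative m = C c := fun t => hW t.1 t.2
  choose m u v c hc hm huv using hW'
  have hm0 : ∀ t, m t ≠ 0 := by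
    intro t h0
    have := huv t
    rw [h0, derivative_zero, mul_zero, mul_zero, add_zero] at this
    exact hc t (C_eq_zero.1 this.symm)
  have hlc : ∀ t, (m t).leadingCoeff ≠ 0 := fun t => leadingCoeff_ne_zero.2 (hm0 t)
  -- the total denominator
  set ctot : P := ∏ t : T, c t * (m t).leadingCoeff with hctot
  have hctot0 : ctot ≠ 0 := Finset.prod_ne_zero_iff.2 fun t _ => mul_ne_zero (hc t) (hlc t)
  obtain ⟨φ, hφ⟩ := hD ctot hctot0
  have hφt : ∀ t, φ (c t) ≠ 0 ∧ φ (m t).leadingCoeff ≠ 0 := by
    intro t
    rw [hctot, map_prod] at hφ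
    have := Finset.prod_ne_zero_iff.1 hφ t (Finset.mem_univ t)
    rw [map_mul] at this
    exact ⟨left_ne_zero_of_mul this, right_ne_zero_of_mul this⟩
  -- the prime ideal
  let 𝔫 : Ideal P := RingHom.ker φ.toRingHom
  have h𝔫 : 𝔫.IsPrime := RingHom.ker_isPrime φ.toRingHom
  have hmem𝔫 : ∀ p : P, p ∈ 𝔫 ↔ φ p = 0 := fun p => RingHom.mem_ker
  let A := Localization.AtPrime 𝔫
  have hunits : ∀ y : 𝔫.primeCompl, IsUnit (algebraMap P K y) := by
    intro y
    rw [isUnit_iff_ne_zero]
    intro h0
    have : (y : P) = 0 := hPK (by rw [h0, map_zero])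
    exact y.2 (by rw [this]; exact 𝔫.zero_mem)
  let g : A →+* K := IsLocalization.lift (M := 𝔫.primeCompl) hunits
  have hg : ∀ p : P, g (algebraMap P A p) = algebraMap P K p := fun p =>
    IsLocalization.lift_eq hunits p
  obtain ⟨V, hV, hloc⟩ := IsLocalRing.exists_factor_valuationRing g
  have hPV : ∀ p : P, algebraMap P K p ∈ V := fun p => by rw [← hg]; exact hV _
  let jV : P →+* V := (algebraMap P K).codRestrict V hPV
  have hjV : ∀ p, (jV p : K) = algebraMap P K p := fun p => rfl
  -- units and nonunits
  have hnonunit : ∀ p : P, p ∈ 𝔫 → ¬ IsUnit (jV p) := by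
    intro p hp hu
    have h1 : IsUnit ((g.codRestrict V.toSubring hV) (algebraMap P A p)) := by
      obtain ⟨w, hw⟩ := hu
      refine ⟨⟨⟨(w.val : K), w.val.2⟩, ⟨(w.inv : K), w.inv.2⟩, ?_, ?_⟩, ?_⟩
      · exact Subtype.ext (congrArg Subtype.val w.val_inv)
      · exact Subtype.ext (congrArg Subtype.val w.inv_val)
      · apply Subtype.ext
        change (w.val : K) = g (algebraMap P A p)
        rw [hg, ← hjV, ← hw]
    have h2 : IsUnit (algebraMap P A p) := hloc.map_nonunit _ h1
    rw [IsLocalization.AtPrime.isUnit_to_map_iff A 𝔫] at h2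
    exact h2 hp
  have hunit : ∀ p : P, p ∉ 𝔫 → IsUnit (jV p) := by
    intro p hp
    have h2 : IsUnit (algebraMap P A p) :=
      (IsLocalization.AtPrime.isUnit_to_map_iff A 𝔫 p).2 hp
    obtain ⟨⟨a, b, hab, hba⟩, ha : a = algebraMap P A p⟩ := h2
    refine ⟨⟨⟨g a, hV a⟩, ⟨g b, hV b⟩, ?_, ?_⟩, ?_⟩
    · apply Subtype.ext
      change g a * g b = 1
      rw [← map_mul, hab, map_one]
    · apply Subtype.ext
      change g b * g a = 1
      rw [← map_mul, hba, map_one]
    · apply Subtype.ext
      change g a = algebraMap P K p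
      rw [ha, hg]
  -- residue field
  let res : V →+* IsLocalRing.ResidueField V := IsLocalRing.residue V
  let θ : k →+* IsLocalRing.ResidueField V := res.comp (jV.comp (algebraMap k P))
  have hres0 : ∀ p : P, p ∈ 𝔫 → res (jV p) = 0 := by
    intro p hp
    rw [IsLocalRing.residue_eq_zero_iff, IsLocalRing.mem_maximalIdeal]
    exact hnonunit p hp
  have hθφ : ∀ p : P, res (jV p) = θ (φ p) := by
    intro p
    have h1 : p - algebraMap k P (φ p) ∈ 𝔫 := by
      rw [hmem𝔫, map_sub, φ.commutes]
      simp
    have h2 := hres0 _ h1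
    rw [map_sub, map_sub, sub_eq_zero] at h2
    exact h2
  have hcomp : θ.comp φ.toRingHom = res.comp jV := RingHom.ext fun p => (hθφ p).symm
  -- generators are in V
  have hgenV : ∀ t : T, ι₀ t.1 ∈ V := by
    intro t
    have hℓ : (m t).leadingCoeff ∉ 𝔫 := fun h => (hφt t).2 ((hmem𝔫 _).1 h)
    have hu := hunit _ hℓ
    have hjinj : Function.Injective jV := fun a b hab => hPK (by rw [← hjV, ← hjV, hab])
    have hlcmap : ((m t).map jV).leadingCoeff = jV (m t).leadingCoeff :=
      Polynomial.leadingCoeff_map_of_injective hjinj _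
    have hu' : IsUnit ((m t).map jV).leadingCoeff := by rw [hlcmap]; exact hu
    have hmonic := Polynomial.monic_of_isUnit_leadingCoeff_inv_smul hu'
    have hint : IsIntegral V (ι₀ t.1) := by
      refine ⟨_, hmonic, ?_⟩
      rw [Units.smul_def, Polynomial.eval₂_smul, Polynomial.eval₂_map]
      have : (algebraMap V K).comp jV = algebraMap P K := RingHom.ext fun p => rfl
      rw [this]
      have h0 := hm t
      rw [Polynomial.aeval_def] at h0
      rw [h0, mul_zero]
    obtain ⟨y, hy⟩ := IsIntegrallyClosed.algebraMap_eq_of_integral hint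
    rw [← hy]; exact y.2
  have hallV : ∀ b : B₀, ι₀ b ∈ V := by
    intro b
    have hb : b ∈ Algebra.adjoin k (T : Set B₀) := by rw [hT]; exact Algebra.mem_top
    induction hb using Algebra.adjoin_induction with
    | mem x hx => exact hgenV ⟨x, hx⟩
    | algebraMap r =>
      rw [ι₀.commutes, IsScalarTower.algebraMap_apply k P K]
      exact hPV _
    | add x y _ _ hx hy => rw [map_add]; exact V.add_mem _ _ hx hy
    | mul x y _ _ hx hy => rw [map_mul]; exact V.mul_mem _ _ hx hy
  let ιV : B₀ →+* V := ι₀.toRingHom.codRestrict V hallV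
  have hιV : ∀ b, (ιV b : K) = ι₀ b := fun b => rfl
  let ψ₀ : B₀ →+* IsLocalRing.ResidueField V := res.comp ιV
  have hψ₀alg : ∀ r : k, ψ₀ (algebraMap k B₀ r) = θ r := by
    intro r
    change res (ιV (algebraMap k B₀ r)) = res (jV (algebraMap k P r))
    congr 1
    apply Subtype.ext
    rw [hιV, hjV, ι₀.commutes, IsScalarTower.algebraMap_apply k P K]
  have hrange : ∀ b : B₀, ψ₀ b ∈ θ.range := by
    intro b
    have hb : b ∈ Algebra.adjoin k (T : Set B₀) := by rw [hT]; exact Algebra.mem_top
    induction hb using Algebra.adjoin_induction with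
    | mem x hx =>
      let t : T := ⟨x, hx⟩
      set M : k[X] := (m t).map φ.toRingHom with hM
      have hbez : (u t).map φ.toRingHom * M + (v t).map φ.toRingHom * derivative M =
          C (φ (c t)) := by
        have := congrArg (Polynomial.map φ.toRingHom) (huv t)
        simpa [hM, Polynomial.derivative_map] using this
      have hM0 : M ≠ 0 := by
        intro h0
        rw [h0, derivative_zero, mul_zero, mul_zero, add_zero] at hbez
        exact (hφt t).1 (C_eq_zero.1 hbez.symm)
      have hsep : M.Separable := by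
        refine ⟨C (φ (c t))⁻¹ * (u t).map φ.toRingHom, C (φ (c t))⁻¹ * (v t).map φ.toRingHom, ?_⟩
        rw [mul_assoc, mul_assoc, ← mul_add, hbez, ← C_mul, inv_mul_cancel₀ (hφt t).1, C_1]
      have hsplit : M.Splits := IsSepClosed.splits_of_separable M hsep
      have hroot : (M.map θ).IsRoot (ψ₀ x) := by
        rw [Polynomial.IsRoot.def, Polynomial.eval_map, hM, Polynomial.eval₂_map, hcomp]
        change Polynomial.eval₂ (res.comp jV) (res (ιV x)) (m t) = 0
        rw [← Polynomial.hom_eval₂]
        have h0 : Polynomial.eval₂ jV (ιV x) (m t) = 0 := by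
          apply Subtype.val_injective
          have := Polynomial.hom_eval₂ (m t) jV (algebraMap V K) (ιV x)
          change ((Polynomial.eval₂ jV (ιV x) (m t) : V) : K) = _ at this
          rw [this]
          have e : (algebraMap V K).comp jV = algebraMap P K := RingHom.ext fun p => rfl
          rw [e]
          have h1 := hm t
          rw [Polynomial.aeval_def] at h1
          exact h1
        rw [h0, map_zero]
      exact hsplit.mem_range_of_isRoot hM0 hroot
    | algebraMap r => exact ⟨r, (hψ₀alg r).symm⟩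
    | add x y _ _ hx hy => rw [map_add]; exact θ.range.add_mem hx hy
    | mul x y _ _ hx hy => rw [map_mul]; exact θ.range.mul_mem hx hy
  -- build the algebra hom
  have hθinj : Function.Injective θ := θ.injective
  let e : k ≃+* θ.range := RingEquiv.ofBijective θ.rangeRestrict
    ⟨fun a b hab => hθinj (congrArg Subtype.val hab), θ.rangeRestrict_surjective⟩
  let ψr : B₀ →+* k := e.symm.toRingHom.comp (ψ₀.codRestrict θ.range hrange)
  refine ⟨{ ψr with commutes' := fun r => ?_ }⟩
  change e.symm ((ψ₀.codRestrict θ.range hrange) (algebraMap k B₀ r)) = r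
  rw [RingEquiv.symm_apply_eq]
  apply Subtype.ext
  change ψ₀ (algebraMap k B₀ r) = θ r
  exact hψ₀alg r



/-- p-th powers of linearly independent elements stay linearly independent in a geometrically
reduced field extension. -/
theorem linearIndepOn_pow_of_geomReduced (k K : Type u) [Field k] [Field K] [Algebra k K]
    [Algebra.IsGeometricallyReduced k K] (p : ℕ) (hp : p.Prime) [CharP k p] (s : Finset K)
    (hs : LinearIndepOn k _root_.id (s : Set K)) : LinearIndepOn k (· ^ p) (s : Set K) := by
  let Ω := AlgebraicClosure k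
  have hred : IsReduced (Ω ⊗[k] K) := (Algebra.isGeometricallyReduced_field_iff k K).mp inferInstance
  have : Fact p.Prime := ⟨hp⟩
  have : ExpChar k p := .prime hp
  have : ExpChar (Ω ⊗[k] K) p :=
    expChar_of_injective_algebraMap (algebraMap k (Ω ⊗[k] K)).injective p
  have hli : LinearIndependent Ω (fun i : (s : Set K) => (1 : Ω) ⊗ₜ[k] (i : K)) :=
    Module.Flat.linearIndependent_one_tmul hs
  rw [LinearIndepOn, Fintype.linearIndependent_iff]
  intro g hg
  -- p-th roots of the coefficients
  have hroot : ∀ i : (s : Set K), ∃ d : Ω, d ^ p = algebraMap k Ω (g i) := fun i =>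
    IsAlgClosed.exists_pow_nat_eq _ hp.pos
  choose d hd using hroot
  have hpow : (∑ i, d i ⊗ₜ[k] (i : K)) ^ p = 0 := by
    rw [sum_pow_char]
    have hterm : ∀ i : (s : Set K), (d i ⊗ₜ[k] (i : K)) ^ p =
        (1 : Ω) ⊗ₜ[k] (g i • (i : K) ^ p) := by
      intro i
      rw [Algebra.TensorProduct.tmul_pow, hd, Algebra.algebraMap_eq_smul_one,
        TensorProduct.smul_tmul]
    simp_rw [hterm]
    rw [← TensorProduct.tmul_sum, hg, TensorProduct.tmul_zero]
  have hzero : ∑ i, d i • ((1 : Ω) ⊗ₜ[k] (i : K)) = 0 := by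
    have h0 : ∑ i, d i ⊗ₜ[k] (i : K) = 0 := IsReduced.eq_zero _ ⟨p, hpow⟩
    rw [← h0]
    refine Finset.sum_congr rfl fun i _ => ?_
    rw [TensorProduct.smul_tmul', smul_eq_mul, mul_one]
  have hd0 := Fintype.linearIndependent_iff.mp hli d hzero
  intro i
  have h1 := hd i
  rw [hd0 i, zero_pow hp.ne_zero] at h1
  exact (map_eq_zero_iff _ (algebraMap k Ω).injective).mp h1.symm

theorem exists_sepTranscBasis (k K : Type u) [Field k] [Field K] [Algebra k K]
    [Algebra.EssFiniteType k K] [Algebra.IsGeometricallyReduced k K] :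
    ∃ s : Finset K, IsTranscendenceBasis k ((↑) : s → K) ∧
      Algebra.IsSeparable (IntermediateField.adjoin k (s : Set K)) K := by
  obtain _ | ⟨p, hp, hpk⟩ := CharP.exists' k
  · exact exists_isTranscendenceBasis_and_isSeparable_of_perfectField k K
  · exact exists_isTranscendenceBasis_and_isSeparable_of_linearIndepOn_pow_of_essFiniteType p
      hp.out (fun s hs => linearIndepOn_pow_of_geomReduced k K p hp.out s hs)

/-- a separably closed field is infinite -/
theorem infinite_of_isSepClosed (k : Type u) [Field k] [IsSepClosed k] : Infinite k := by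
  by_contra hfin
  rw [not_infinite_iff_finite] at hfin
  let _ := Fintype.ofFinite k
  let q := Fintype.card k
  let f : k[X] := X ^ q - X - 1
  have hderiv : derivative f = C ((q : k)) * X ^ (q - 1) - 1 := by
    simp [f, derivative_X_pow]
  have hq0 : (q : k) = 0 := by
    simp [q, FiniteField.cast_card_eq_zero]
  have hsep : f.Separable := by
    rw [separable_def, hderiv, hq0]
    simp only [map_zero, zero_mul, zero_sub]
    exact isCoprime_one_right.neg_right
  have hdeg : f.degree ≠ 0 := by
    intro h0
    have hC := eq_C_of_degree_eq_zero h0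
    have hd : derivative f = 0 := by rw [hC, derivative_C]
    rw [hderiv, hq0] at hd
    simp at hd
  obtain ⟨x, hx⟩ := IsSepClosed.exists_root f hdeg hsep
  rw [IsRoot.def] at hx
  simp only [f, eval_sub, eval_pow, eval_X, eval_one] at hx
  rw [FiniteField.pow_card, sub_self, zero_sub, neg_eq_zero] at hx
  exact one_ne_zero hx


open IntermediateField.algebraAdjoinAdjoin in
theorem exists_algHom_field (k : Type u) [Field k] [IsSepClosed k] (K : Type u) [Field K]
    [Algebra k K] [Algebra.EssFiniteType k K] [Algebra.IsGeometricallyReduced k K]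
    (B₀ : Type u) [CommRing B₀] [Algebra k B₀] [Algebra.FiniteType k B₀] (ι₀ : B₀ →ₐ[k] K) :
    Nonempty (B₀ →ₐ[k] k) := by
  obtain ⟨s, hs, hsep⟩ := exists_sepTranscBasis k K
  let x : s → K := Subtype.val
  have hrange : (s : Set K) = Set.range x := Subtype.range_coe.symm
  have key : ∀ X Y : Set K, X = Y → Algebra.IsSeparable (IntermediateField.adjoin k X) K →
      Algebra.IsSeparable (IntermediateField.adjoin k Y) K := by
    intro X Y h hX; subst h; exact hX
  have hsep' : Algebra.IsSeparable (IntermediateField.adjoin k (Set.range x)) K :=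
    key _ _ hrange hsep
  have hinf : Infinite k := infinite_of_isSepClosed k
  have hD : ∀ c : Algebra.adjoin k (Set.range x), c ≠ 0 →
      ∃ φ : Algebra.adjoin k (Set.range x) →ₐ[k] k, φ c ≠ 0 := by
    intro c hc
    let e := hs.1.aevalEquiv
    have hq : e.symm c ≠ 0 := fun h => hc (by simpa using congrArg e h)
    have : ∃ a : s → k, MvPolynomial.eval a (e.symm c) ≠ 0 := by
      by_contra hcon
      push Not at hcon
      exact hq (MvPolynomial.funext fun a => by rw [hcon a, map_zero])
    obtain ⟨a, ha⟩ := this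
    refine ⟨(MvPolynomial.aeval a).comp e.symm.toAlgHom, ?_⟩
    simpa [MvPolynomial.aeval_eq_eval] using ha
  obtain ⟨T, hT⟩ := (Algebra.FiniteType.out : (⊤ : Subalgebra k B₀).FG)
  refine exists_algHom_of_witnesses k (Algebra.adjoin k (Set.range x)) K Subtype.val_injective hD
    B₀ ι₀ T hT fun t _ => ?_
  exact exists_sep_witness (P := Algebra.adjoin k (Set.range x))
    (F := IntermediateField.adjoin k (Set.range x)) (ι₀ t)
    (Algebra.IsSeparable.isSeparable (IntermediateField.adjoin k (Set.range x)) (ι₀ t))



theorem exists_algHom_isField (k : Type u) [Field k] [IsSepClosed k] (K : Type u) [CommRing K]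
    (hK : IsField K)
    [Algebra k K] [Algebra.EssFiniteType k K] [Algebra.IsGeometricallyReduced k K]
    (B₀ : Type u) [CommRing B₀] [Algebra k B₀] [Algebra.FiniteType k B₀] (ι₀ : B₀ →ₐ[k] K) :
    Nonempty (B₀ →ₐ[k] k) := by
  letI := hK.toField
  exact exists_algHom_field k K B₀ ι₀

theorem isField_localization_minimalPrime (B : Type u) [CommRing B] [IsReduced B] (𝔭 : Ideal B)
    [h𝔭 : 𝔭.IsPrime] (hmin : 𝔭 ∈ minimalPrimes B) : IsField (Localization.AtPrime 𝔭) := by
  rw [IsLocalRing.isField_iff_maximalIdeal_eq,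
    ← IsLocalization.AtPrime.map_eq_maximalIdeal 𝔭 (Localization.AtPrime 𝔭),
    ← IsLocalization.AtPrime.radical_map_of_mem_minimalPrimes (Localization.AtPrime 𝔭) 𝔭 ⊥ hmin,
    Ideal.map_bot]
  exact nilradical_eq_zero _

theorem exists_algHom_ring (k : Type u) [Field k] [IsSepClosed k] (B : Type u) [CommRing B]
    [Nontrivial B] [Algebra k B] [Algebra.FiniteType k B]
    (hred : IsReduced (AlgebraicClosure k ⊗[k] B)) : Nonempty (B →ₐ[k] k) := by
  have hB : IsReduced B := isReduced_of_injective
    (Algebra.TensorProduct.includeRight : B →ₐ[k] (AlgebraicClosure k) ⊗[k] B)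
    (Algebra.TensorProduct.includeRight_injective (RingHom.injective _))
  obtain ⟨𝔭, h𝔭⟩ := Ideal.nonempty_minimalPrimes (bot_ne_top (α := Ideal B))
  have hprime : 𝔭.IsPrime := h𝔭.1.1
  have hK : IsField (Localization.AtPrime 𝔭) := isField_localization_minimalPrime B 𝔭 h𝔭
  have hess : Algebra.EssFiniteType k (Localization.AtPrime 𝔭) := by
    have : Algebra.EssFiniteType B (Localization.AtPrime 𝔭) :=
      Algebra.EssFiniteType.of_isLocalization _ 𝔭.primeCompl
    exact Algebra.EssFiniteType.comp k B _
  have hgr : Algebra.IsGeometricallyReduced k (Localization.AtPrime 𝔭) := by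
    rw [Algebra.isGeometricallyReduced_field_iff]
    let M' : Submonoid (AlgebraicClosure k ⊗[k] B) :=
      𝔭.primeCompl.map (Algebra.TensorProduct.includeRight (R := k) (A := AlgebraicClosure k))
    let e := IsLocalization.tensorProductEquivOfMapIncludeRight k (AlgebraicClosure k)
      𝔭.primeCompl (Localization.AtPrime 𝔭) (Localization M')
    exact isReduced_of_injective e e.injective
  exact exists_algHom_isField k (Localization.AtPrime 𝔭) hK B
    (IsScalarTower.toAlgHom k B (Localization.AtPrime 𝔭))



lemma fromSpec_comp_eq {K : CommRingCat.{u}} {X : Scheme.{u}} (p : X ⟶ Spec K) {V : X.Opens}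
    (hV : IsAffineOpen V) :
    hV.fromSpec ≫ p = Spec.map ((Scheme.ΓSpecIso K).inv ≫ p.appLE ⊤ V le_top) := by
  rw [← IsAffineOpen.SpecMap_appLE_fromSpec p (isAffineOpen_top _) hV le_top,
    IsAffineOpen.fromSpec_top, Scheme.isoSpec_Spec_inv, ← Spec.map_comp]

theorem main (k : Type u) [Field k] [IsSepClosed k]
    {X : Scheme.{u}} (f : X ⟶ Spec (CommRingCat.of k)) [LocallyOfFiniteType f]
    [GeometricallyReduced f] [Nonempty X] :
    ∃ s : Spec (CommRingCat.of k) ⟶ X, s ≫ f = 𝟙 (Spec (CommRingCat.of k)) := by
  obtain ⟨x⟩ := ‹Nonempty X›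
  obtain ⟨U, hU, hxU, -⟩ := exists_isAffineOpen_mem_and_subset (U := ⊤) (x := x) trivial
  have : Nonempty U := ⟨⟨x, hxU⟩⟩
  have hnt : Nontrivial Γ(X, U) := inferInstance
  let ψ : k →+* Γ(X, U) := ((Scheme.ΓSpecIso (CommRingCat.of k)).inv ≫ f.appLE ⊤ U le_top).hom
  let _ : Algebra k Γ(X, U) := ψ.toAlgebra
  have hbij : Function.Bijective (Scheme.ΓSpecIso (CommRingCat.of k)).inv :=
    ConcreteCategory.bijective_of_isIso (Scheme.ΓSpecIso (CommRingCat.of k)).inv
  have hft : ψ.FiniteType := by
    have h1 := f.finiteType_appLE (isAffineOpen_top _) hU le_top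
    have h2 : ((Scheme.ΓSpecIso (CommRingCat.of k)).inv).hom.FiniteType :=
      RingHom.FiniteType.of_surjective _ hbij.2
    exact h1.comp h2
  have : Algebra.FiniteType k Γ(X, U) := hft
  have hcomp : hU.fromSpec ≫ f = Spec.map (CommRingCat.ofHom (algebraMap k Γ(X, U))) := by
    rw [fromSpec_comp_eq f hU]
    rfl
  -- reducedness of the tensor product
  have hred : IsReduced (AlgebraicClosure k ⊗[k] Γ(X, U)) := by
    let Ω := AlgebraicClosure k
    have hgeo : geometrically IsReduced f := GeometricallyReduced.geometrically_isReduced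
    have h1 : IsReduced (pullback f (Spec.map (CommRingCat.ofHom (algebraMap k Ω)))) :=
      pullback_of_geometrically hgeo Ω _
    let j : pullback (Spec.map (CommRingCat.ofHom (algebraMap k Γ(X, U))))
        (Spec.map (CommRingCat.ofHom (algebraMap k Ω))) ⟶
        pullback f (Spec.map (CommRingCat.ofHom (algebraMap k Ω))) :=
      pullback.map _ _ _ _ hU.fromSpec (𝟙 _) (𝟙 _) (by rw [Category.comp_id, hcomp])
        (by rw [Category.comp_id, Category.id_comp])
    have h2 : IsReduced (pullback (Spec.map (CommRingCat.ofHom (algebraMap k Γ(X, U))))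
        (Spec.map (CommRingCat.ofHom (algebraMap k Ω)))) := isReduced_of_isOpenImmersion j
    have h3 : IsReduced (Spec (.of (Γ(X, U) ⊗[k] Ω))) :=
      isReduced_of_isOpenImmersion (pullbackSpecIso k Γ(X, U) Ω).inv
    have h4 : IsReduced (Γ(X, U) ⊗[k] Ω) := (affine_isReduced_iff _).1 h3
    exact isReduced_of_injective (Algebra.TensorProduct.comm k Ω Γ(X, U))
      (Algebra.TensorProduct.comm k Ω Γ(X, U)).injective
  obtain ⟨φ⟩ := exists_algHom_ring k Γ(X, U) hred
  refine ⟨Spec.map (CommRingCat.ofHom φ.toRingHom) ≫ hU.fromSpec, ?_⟩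
  rw [Category.assoc, hcomp, ← Spec.map_comp]
  have : CommRingCat.ofHom (algebraMap k Γ(X, U)) ≫ CommRingCat.ofHom φ.toRingHom = 𝟙 _ :=
    CommRingCat.hom_ext (RingHom.ext fun a => φ.commutes a)
  rw [this, Spec.map_id]

end Groth.Agent.S18366Aux

namespace Groth.Agent.S18366

/-- Let k be a separably closed field and X a non-empty k-scheme of finite type which is geometrically
reduced. Then X has a k-rational point, i.e. the structure morphism admits a section. (Non-emptiness
is part of the hypotheses: the empty scheme is geometrically reduced of finite type and has no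
point. The published statement does not assume X non-empty; this row does, since the empty scheme
has no rational point.) -/
theorem result (k : Type u) [Field k] [IsSepClosed k]
    {X : Scheme.{u}} (f : X ⟶ Spec (CommRingCat.of k)) [LocallyOfFiniteType f] [QuasiCompact f] [GeometricallyReduced f]
    [Nonempty X] :
    ∃ s : Spec (CommRingCat.of k) ⟶ X, s ≫ f = 𝟙 (Spec (CommRingCat.of k)) := by
  exact Groth.Agent.S18366Aux.main k f

end Groth.Agent.S18366
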