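import Groth.Statements.S18367
import Groth.Agent.Lib.Helper92.Acyclicity

set_option autoImplicit false
universe u
open CategoryTheory CategoryTheory.Limits
open LocAlg

namespace Groth.Agent.S18367

open Groth.Agent.Lib.Helper92.Acyc in
/-- Let R be a Cohen–Macaulay local ring of Krull dimension g and K = (K^0 → K^1 → ⋯) a bounded cochain
complex of finitely generated free R-modules (K^i = 0 for i > N) such that every cohomology module
H^i(K) has finite length. Then H^i(K) = 0 for all i < g. -/
theorem result (R : Type u) [CommRing R]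
    [LocCoh.IsCohenMacaulayLocalRing R] (g : ℕ) (hg : ringKrullDim R = g) (K : CochainComplex (ModuleCat.{u} R) ℕ)
    (N : ℕ) (hbd : ∀ i, N < i → IsZero (K.X i)) (hfree : ∀ i, Module.Free R (K.X i) ∧ Module.Finite R (K.X i))
    (hfl : ∀ i, IsFiniteLength R (K.homology i)) (i : ℕ) (hi : i < g) :
    IsZero (K.homology i) := by
  have hdepth : LocCoh.depth R R = g := by
    have h1 := LocCoh.IsCohenMacaulayLocalRing.supportDim_eq_depth (R := R)
    rw [Module.supportDim_self_eq_ringKrullDim, hg] at h1
    have h2 : ((g : ℕ∞) : WithBot ℕ∞) = ((LocCoh.depth R R : ℕ∞) : WithBot ℕ∞) := h1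
    exact (WithBot.coe_injective h2).symm
  have hR : ∀ j, j < g → Subsingleton (LocCoh.H (IsLocalRing.maximalIdeal R) j R) :=
    (Groth.Agent.Lib.Helper85.FLCrit.le_depth_iff R R g).1 (le_of_eq hdepth.symm)
  refine isZero_homology K g ?_ hfl i hi
  intro k j hj
  obtain ⟨hfr, hfin⟩ := hfree k
  let b := Module.Free.chooseBasis R (K.X k)
  have hfinb : Finite (Module.Free.ChooseBasisIndex R (K.X k)) := Module.Finite.finite_basis b
  let e1 : (K.X k) ≃ₗ[R] (Module.Free.ChooseBasisIndex R (K.X k) → R) :=
    b.equivFun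
  obtain ⟨n, ⟨en⟩⟩ := Finite.exists_equiv_fin (Module.Free.ChooseBasisIndex R (K.X k))
  let e2 : (Module.Free.ChooseBasisIndex R (K.X k) → R) ≃ₗ[R] (Fin n → R) :=
    LinearEquiv.funCongrLeft R R en.symm
  have h3 := Groth.Agent.Lib.Helper85.Canon.subsingleton_H_free (IsLocalRing.maximalIdeal R) j
    (hR j hj) n
  exact subsingleton_of_equiv _ j (e1.trans e2).symm h3

end Groth.Agent.S18367
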