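import Groth.Statements.S18368
import Mathlib
import Groth.Agent.Lib.Helper22.Rigidity

set_option autoImplicit false
set_option linter.style.haveILetI false
universe u
open CategoryTheory CategoryTheory.Limits MonoidalCategory CartesianMonoidalCategory AlgebraicGeometry
open AbVar

namespace Groth.Agent.S18368

set_option backward.isDefEq.respectTransparency false in
/-- Let k be a field, X and Y geometrically integral k-schemes of finite type with X proper, Z a
separated k-scheme and f : X ×_k Y → Z a k-morphism (products in the cartesian monoidal category of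
k-schemes). If for some algebraically closed field K over k there are points y₀ : Spec K → Y and z₀
: Spec K → Z over k such that f restricted to X ×_k Spec K along y₀ is the constant map z₀, then f
factors uniquely through the second projection: there is exactly one g : Y → Z over k with f = pr₂ ≫
g. (The target Z is not assumed to be of finite type over k.) -/
theorem result (k : Type u) [Field k]
    (X Y Z : Over (Spec (CommRingCat.of k)))
    [IsProper X.hom] [GeometricallyIntegral X.hom]
    [LocallyOfFiniteType Y.hom] [QuasiCompact Y.hom] [GeometricallyIntegral Y.hom]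
    [IsSeparated Z.hom] (f : X ⊗ Y ⟶ Z)
    (K : Type u) [Field K] [Algebra k K] [IsAlgClosed K]
    (y₀ : (Over.mk (Spec.map (CommRingCat.ofHom (algebraMap k K))) : Over (Spec (CommRingCat.of k))) ⟶ Y)
    (z₀ : (Over.mk (Spec.map (CommRingCat.ofHom (algebraMap k K))) : Over (Spec (CommRingCat.of k))) ⟶ Z)
    (h : (X ◁ y₀) ≫ f = snd X _ ≫ z₀) :
    ∃! g : Y ⟶ Z, f = snd X Y ≫ g := by
  let φ := Spec.map (CommRingCat.ofHom <| algebraMap k K)
  let F := Over.pullback φ
  let X' := F.obj X
  let Y' := F.obj Y
  let Z' := F.obj Z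
  have : IsProper X'.hom := by dsimp [X', F]; infer_instance
  have : GeometricallyIntegral X'.hom := by dsimp [X', F]; infer_instance
  have : LocallyOfFiniteType Y'.hom := by dsimp [Y', F]; infer_instance
  have : IsSeparated Z'.hom := by dsimp [Z', F]; infer_instance
  have : IsIntegral X'.left := by dsimp [X', F]; infer_instance
  have : IsIntegral Y'.left := by dsimp [Y', F]; infer_instance
  have : IsLocallyNoetherian Y'.left := LocallyOfFiniteType.isLocallyNoetherian Y'.hom
  have : IsIntegral (X' ⊗ Y').left := by dsimp; infer_instance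
  let f' : X' ⊗ Y' ⟶ Z' := Functor.LaxMonoidal.μ F X Y ≫ F.map f
  -- a rational point of X'
  haveI : LocallyOfFiniteType X'.hom := inferInstance
  haveI : JacobsonSpace X'.left := LocallyOfFiniteType.jacobsonSpace X'.hom
  obtain ⟨p, -, hpc⟩ := nonempty_inter_closedPoints (X := X'.left) (Z := Set.univ)
    Set.univ_nonempty isOpen_univ.isLocallyClosed
  have hpc' : IsClosed ({p} : Set X'.left) := hpc
  let x₀' : 𝟙_ (Over (Spec (CommRingCat.of K))) ⟶ X' :=
    Over.homMk (pointOfClosedPoint X'.hom p hpc') (by simp)
  let y₀' : 𝟙_ (Over (Spec (CommRingCat.of K))) ⟶ Y' :=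
    Over.homMk (pullback.lift y₀.left (𝟙 _) (by rw [Category.id_comp]; exact Over.w y₀)) (by simp [Y', F])
  let z₀' : 𝟙_ (Over (Spec (CommRingCat.of K))) ⟶ Z' :=
    Over.homMk (pullback.lift z₀.left (𝟙 _) (by rw [Category.id_comp]; exact Over.w z₀)) (by simp [Z', F])
  have hμfst : (Functor.LaxMonoidal.μ F X Y).left ≫ pullback.fst (X ⊗ Y).hom φ ≫ (fst X Y).left
      = (fst X' Y').left ≫ pullback.fst X.hom φ := by
    have := congrArg (fun t => t.left ≫ pullback.fst X.hom φ) (Functor.Monoidal.μ_fst F X Y)
    rw [Over.comp_left, Category.assoc] at this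
    have e : (F.map (fst X Y)).left ≫ pullback.fst X.hom φ
        = pullback.fst (X ⊗ Y).hom φ ≫ (fst X Y).left := by simp [F]
    rw [e] at this
    exact this
  have hμsnd : (Functor.LaxMonoidal.μ F X Y).left ≫ pullback.fst (X ⊗ Y).hom φ ≫ (snd X Y).left
      = (snd X' Y').left ≫ pullback.fst Y.hom φ := by
    have := congrArg (fun t => t.left ≫ pullback.fst Y.hom φ) (Functor.Monoidal.μ_snd F X Y)
    rw [Over.comp_left, Category.assoc] at this
    have e : (F.map (snd X Y)).left ≫ pullback.fst Y.hom φ
        = pullback.fst (X ⊗ Y).hom φ ≫ (snd X Y).left := by simp [F]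
    rw [e] at this
    exact this
  have h' : lift (𝟙 X') (toUnit X' ≫ y₀') ≫ f' = toUnit X' ≫ z₀' := by
    ext1
    apply pullback.hom_ext
    · have hq : (lift (𝟙 X') (toUnit X' ≫ y₀')).left ≫ (Functor.LaxMonoidal.μ F X Y).left ≫
          pullback.fst (X ⊗ Y).hom φ = (X ◁ y₀).left := by
        apply pullback.hom_ext
        · have e1 : (lift (𝟙 X') (toUnit X' ≫ y₀')).left ≫ (fst X' Y').left = 𝟙 _ := by
            rw [← Over.comp_left, lift_fst]; rfl
          have e2 : (X ◁ y₀).left ≫ pullback.fst X.hom Y.hom = pullback.fst X.hom φ := by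
            simp [φ]
          rw [e2]
          have := hμfst
          simp only [Category.assoc]
          erw [this]
          rw [reassoc_of% e1]
        · have e1 : (lift (𝟙 X') (toUnit X' ≫ y₀')).left ≫ (snd X' Y').left
              = X'.hom ≫ y₀'.left := by
            rw [← Over.comp_left, lift_snd]; rfl
          have e2 : (X ◁ y₀).left ≫ pullback.snd X.hom Y.hom
              = pullback.snd X.hom φ ≫ y₀.left := by
            simp [φ]
          rw [e2]
          have := hμsnd
          simp only [Category.assoc]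
          erw [this]
          rw [reassoc_of% e1]
          have e3 : y₀'.left ≫ pullback.fst Y.hom φ = y₀.left := by
            simp [y₀']
          rw [e3]
          rfl
      have e : (F.map f).left ≫ pullback.fst Z.hom φ = pullback.fst (X ⊗ Y).hom φ ≫ f.left := by
        simp [F]
      have hh := congrArg (fun t => t.left) h
      simp only [Over.comp_left] at hh
      have e4 : (snd X (Over.mk φ)).left = pullback.snd X.hom φ := rfl
      have e5 : z₀'.left ≫ pullback.fst Z.hom φ = z₀.left := by
        simp [z₀']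
      have e6 : (toUnit X').left = X'.hom := rfl
      simp only [Over.comp_left, Category.assoc, f']
      rw [e, reassoc_of% hq, hh, e5, e6]
      rfl
    · exact (Over.w (lift (𝟙 X') (toUnit X' ≫ y₀') ≫ f')).trans (Over.w (toUnit X' ≫ z₀')).symm
  have key := Groth.Agent.Lib.Helper22.Rigidity.rigidity_algClosed X' Y' Z' f' x₀' y₀' z₀' h'
  let g' : Y' ⟶ Z' := lift (toUnit Y' ≫ x₀') (𝟙 Y') ≫ f'
  have hFf : F.map f = F.map (snd X Y) ≫ g' := by
    rw [← cancel_epi (Functor.LaxMonoidal.μ F X Y)]
    rw [Functor.Monoidal.μ_snd_assoc]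
    exact key
  -- the projection is an fpqc cover
  let π : (X ⊗ Y).left ⟶ Y.left := (snd X Y).left
  haveI : Surjective X.hom := inferInstance
  haveI : Flat X.hom := inferInstance
  haveI : QuasiCompact X.hom := inferInstance
  haveI : Flat π := by dsimp [π]; infer_instance
  haveI : Surjective π := by dsimp [π]; infer_instance
  haveI : QuasiCompact π := by dsimp [π]; infer_instance
  haveI : EffectiveEpi π := inferInstance
  have hπw : π ≫ Y.hom = (X ⊗ Y).hom := Over.w (snd X Y)
  have hyp : ∀ {W : Scheme.{u}} (g₁ g₂ : W ⟶ (X ⊗ Y).left), g₁ ≫ π = g₂ ≫ π →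
      g₁ ≫ f.left = g₂ ≫ f.left := by
    intro W g₁ g₂ hg
    let W' : Over (Spec (CommRingCat.of k)) := Over.mk (g₁ ≫ (X ⊗ Y).hom)
    let a₁ : W' ⟶ X ⊗ Y := Over.homMk g₁ rfl
    let a₂ : W' ⟶ X ⊗ Y := Over.homMk g₂ (by
      change g₂ ≫ (X ⊗ Y).hom = g₁ ≫ (X ⊗ Y).hom
      rw [← hπw, reassoc_of% hg])
    have ha : a₁ ≫ snd X Y = a₂ ≫ snd X Y := by
      ext1
      exact hg
    have : a₁ ≫ f = a₂ ≫ f := by
      apply F.map_injective
      rw [F.map_comp, F.map_comp, hFf]
      rw [← Category.assoc (F.map a₁), ← Category.assoc (F.map a₂), ← F.map_comp, ← F.map_comp, ha]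
    exact congrArg (fun t => t.left) this
  let g₀ : Y.left ⟶ Z.left := EffectiveEpi.desc π f.left (fun g₁ g₂ hg => hyp g₁ g₂ hg)
  have hg₀ : π ≫ g₀ = f.left := EffectiveEpi.fac π f.left _
  haveI : Epi π := inferInstance
  have hw : g₀ ≫ Z.hom = Y.hom := by
    rw [← cancel_epi π, reassoc_of% hg₀, hπw]
    exact Over.w f
  refine ⟨Over.homMk g₀ hw, ?_, ?_⟩
  · ext1
    exact hg₀.symm
  · intro g₂ hg₂
    ext1
    have := congrArg (fun t => t.left) hg₂
    simp only [Over.comp_left] at this
    change g₂.left = g₀
    rw [← cancel_epi π, hg₀, this]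

end Groth.Agent.S18368
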