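import Groth.Statements.S18370
import Mathlib.Tactic

set_option autoImplicit false
universe u
open CategoryTheory CategoryTheory.Limits MonoidalCategory CartesianMonoidalCategory MonObj GrpObj AlgebraicGeometry
open GrpSch

namespace Groth.Agent.S18370

theorem pow_id_comp {S : Scheme.{u}} {G T : Over S} [GrpObj G] (x : T ⟶ G) (z : ℤ) :
    x ≫ (𝟙 G) ^ z = x ^ z := by
  rw [GrpObj.comp_zpow, Category.comp_id]

theorem npow_id_comp {S : Scheme.{u}} {G T : Over S} [GrpObj G] (x : T ⟶ G) (k : ℕ) :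
    x ≫ (𝟙 G) ^ k = x ^ k := by
  rw [MonObj.comp_pow, Category.comp_id]

/-- Let S be a scheme and G a commutative S-group scheme which is killed by a natural number n, i.e. the
n-th power map of G is the trivial homomorphism, and let n = a·b with a and b coprime. If i_a : G_a
→ G and i_b : G_b → G are scheme-theoretic kernels of the a-th and b-th power maps of G, then the
morphism G_a ×_S G_b → G sending (x, y) to i_a(x)·i_b(y) is an isomorphism of S-schemes. (The
published statement assumes n ≠ 0; the case n = 0, where {a, b} = {0, 1} and one kernel is all of G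
while the other is trivial, is included here.) -/
theorem result {S : Scheme.{u}} (G Ga Gb : Over S)
    [GrpObj G] [IsCommMonObj G] (n a b : ℕ) (hn : n = a * b) (hab : Nat.Coprime a b)
    (hG : (𝟙 G) ^ n = 1)
    (ia : Ga ⟶ G) (hia : AlgGrp.IsKernel ia ((𝟙 G) ^ a))
    (ib : Gb ⟶ G) (hib : AlgGrp.IsKernel ib ((𝟙 G) ^ b)) :
    IsIso ((fst Ga Gb ≫ ia) * (snd Ga Gb ≫ ib)) := by
  classical
  obtain ⟨u, v, huv⟩ : ∃ u v : ℤ, (a : ℤ) * u + (b : ℤ) * v = 1 := by
    refine ⟨Nat.gcdA a b, Nat.gcdB a b, ?_⟩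
    have := Nat.gcd_eq_gcd_ab a b
    rw [hab] at this
    simpa using this.symm
  have hGz : ∀ (T : Over S) (x : T ⟶ G), x ^ (n : ℤ) = 1 := by
    intro T x
    rw [zpow_natCast, ← npow_id_comp, hG, MonObj.comp_one]
  unfold AlgGrp.IsKernel at hia hib
  have hka : ∀ (T : Over S) (x : T ⟶ Ga), (x ≫ ia) ^ (a : ℤ) = 1 := by
    intro T x
    rw [zpow_natCast, ← npow_id_comp, Category.assoc, hia.w, ← Category.assoc,
      toUnit_unique (x ≫ toUnit Ga) (toUnit T), ← Hom.one_def]
  have hkb : ∀ (T : Over S) (x : T ⟶ Gb), (x ≫ ib) ^ (b : ℤ) = 1 := by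
    intro T x
    rw [zpow_natCast, ← npow_id_comp, Category.assoc, hib.w, ← Category.assoc,
      toUnit_unique (x ≫ toUnit Gb) (toUnit T), ← Hom.one_def]
  have hn : (n : ℤ) = a * b := by exact_mod_cast hn
  have hca : ((𝟙 G) ^ ((b : ℤ) * v)) ≫ ((𝟙 G) ^ a) = toUnit G ≫ η[G] := by
    rw [npow_id_comp, ← zpow_natCast, ← zpow_mul, ← Hom.one_def]
    have : (b : ℤ) * v * a = n * v := by rw [hn]; ring
    rw [this, zpow_mul, hGz, one_zpow]
  have hcb : ((𝟙 G) ^ ((a : ℤ) * u)) ≫ ((𝟙 G) ^ b) = toUnit G ≫ η[G] := by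
    rw [npow_id_comp, ← zpow_natCast, ← zpow_mul, ← Hom.one_def]
    have : (a : ℤ) * u * b = n * u := by rw [hn]; ring
    rw [this, zpow_mul, hGz, one_zpow]
  let ψa : G ⟶ Ga := hia.lift _ _ hca
  let ψb : G ⟶ Gb := hib.lift _ _ hcb
  have hψa : ψa ≫ ia = (𝟙 G) ^ ((b : ℤ) * v) := hia.lift_fst _ _ _
  have hψb : ψb ≫ ib = (𝟙 G) ^ ((a : ℤ) * u) := hib.lift_fst _ _ _
  set F : Ga ⊗ Gb ⟶ G := (fst Ga Gb ≫ ia) * (snd Ga Gb ≫ ib) with hF
  refine ⟨lift ψa ψb, ?_, ?_⟩
  · apply CartesianMonoidalCategory.hom_ext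
    · rw [Category.assoc, lift_fst, Category.id_comp]
      apply hia.hom_ext
      · rw [Category.assoc, hψa, pow_id_comp, hF, mul_zpow, zpow_mul (snd Ga Gb ≫ ib), hkb,
          one_zpow, _root_.mul_one]
        have : (b : ℤ) * v = 1 - a * u := by linarith
        rw [this, zpow_sub, zpow_one, zpow_mul, hka, one_zpow, inv_one, _root_.mul_one]
      · exact toUnit_unique _ _
    · rw [Category.assoc, lift_snd, Category.id_comp]
      apply hib.hom_ext
      · rw [Category.assoc, hψb, pow_id_comp, hF, mul_zpow, zpow_mul (fst Ga Gb ≫ ia), hka,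
          one_zpow, _root_.one_mul]
        have : (a : ℤ) * u = 1 - b * v := by linarith
        rw [this, zpow_sub, zpow_one, zpow_mul, hkb, one_zpow, inv_one, _root_.mul_one]
      · exact toUnit_unique _ _
  · rw [hF, MonObj.comp_mul, ← Category.assoc, lift_fst, ← Category.assoc, lift_snd, hψa, hψb,
      ← zpow_add]
    have : (b : ℤ) * v + a * u = 1 := by linarith
    rw [this, zpow_one]

end Groth.Agent.S18370
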