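import Groth.Statements.S18377
import Groth.Agent.Lib.Helper99.VerlindeG

set_option autoImplicit false
open Complex
open VerlindeComb

namespace Groth.Agent.S18377

open Groth.Agent.Lib.Helper99.Verlinde

/-- Let r, k ≥ 1 be integers and v_1 > v_2 > ⋯ > v_r ≥ 0 integers below r + k; put z_j = exp(2πi v_j /
(r + k)) and, for μ = (μ_1, …, μ_r), let S_μ(z) = det(z_j^{μ_i + r - i}) / det(z_j^{r - i}) be the
value of the Schur polynomial (the z_j are distinct, so the Vandermonde denominator is nonzero).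
Then, summing over all μ with k > μ_1 ≥ ⋯ ≥ μ_r ≥ 0 and writing μ* = (k - μ_r, …, k - μ_1), one has
Σ_μ S_μ(z) S_{μ*}(z) = exp(2πi k (v_1 + ⋯ + v_r) / (r + k)) · k (r + k)^{r-1} / ∏_{i<j} (2 sin(π
(v_i - v_j) / (r + k)))². Indices are 0-based below: μ i stands for μ_{i+1}. -/
theorem result (r k : ℕ) (hr : 1 ≤ r) (hk : 1 ≤ k)
    (v : Fin r → ℕ) (hv : StrictAnti v) (hvlt : ∀ i, v i < r + k)
    (z : Fin r → ℂ) (hz : ∀ j, z j = Complex.exp (2 * Real.pi * Complex.I * (v j : ℂ) / ((r : ℂ) + k)))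
    (S : (Fin r → ℕ) → ℂ)
    (hS : ∀ μ : Fin r → ℕ, S μ =
      (Matrix.of fun i j : Fin r => z j ^ (μ i + (r - 1 - (i : ℕ)))).det /
        (Matrix.of fun i j : Fin r => z j ^ (r - 1 - (i : ℕ))).det) :
    (∑ μ ∈ (Finset.univ : Finset (Fin r → Fin k)).filter (fun μ : Fin r → Fin k => Antitone μ),
        S (fun i => (μ i : ℕ)) * S (fun i => k - (μ (Fin.rev i) : ℕ))) =
      Complex.exp (2 * Real.pi * Complex.I * (k : ℂ) * ((∑ j, v j : ℕ) : ℂ) / ((r : ℂ) + k)) *
        ((k : ℂ) * ((r : ℂ) + k) ^ (r - 1)) /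
        (∏ p ∈ (Finset.univ : Finset (Fin r × Fin r)).filter (fun p => p.1 < p.2),
          (((2 : ℝ) * Real.sin (Real.pi * ((v p.1 : ℝ) - (v p.2 : ℝ)) / ((r : ℝ) + k))) ^ 2 : ℝ) : ℂ) := by
  classical
  have hr0 : 0 < r := hr
  have hn0 : 0 < r + k := by omega
  have hnne : r + k ≠ 0 := by omega
  have : NeZero (r + k) := ⟨hnne⟩
  set V : Fin r → ℤ := fun j => (v j : ℤ) with hV_def
  have hVanti : StrictAnti V := fun i j hij => by
    simp only [hV_def]; exact_mod_cast hv hij
  have hspanV : ∀ i j, V i - V j < ((r + k : ℕ) : ℤ) := by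
    intro i j
    have h1 := hvlt i
    simp only [hV_def]
    have : (v i : ℤ) < ((r + k : ℕ) : ℤ) := by exact_mod_cast h1
    have : (0 : ℤ) ≤ (v j : ℤ) := by positivity
    linarith
  have hzE : ∀ j, z j = E (r + k) (V j) := by
    intro j
    rw [hz, E]
    simp only [hV_def]
    push_cast
    rfl
  have hVinj : ∀ i j, ((r + k : ℕ) : ℤ) ∣ V j - V i → i = j := by
    intro i j h
    have h1 := hvlt i
    have h2 := hvlt j
    have : V j - V i = 0 := by
      apply Int.eq_zero_of_abs_lt_dvd h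
      simp only [hV_def]
      rw [abs_lt]; constructor <;> push_cast <;> omega
    have h3 : v j = v i := by simp only [hV_def] at this; omega
    exact (hv.injective h3).symm
  have hΔ : A (r + k) (rho r) V ≠ 0 := A_rho_ne_zero hnne V hVinj
  -- the constant
  set C : ℂ := sgnRev r * E (r + k) ((((r + k : ℕ) : ℤ) - 1) * ∑ j, V j) /
      (A (r + k) (rho r) V * A (r + k) (rho r) V) with hC_def
  set g : (Fin r → ℕ) → ℂ := fun x =>
      C * (A (r + k) V (fun j => ((x j : ℕ) : ℤ)) * A (r + k) (fun i => - V i) (fun j => ((x j : ℕ) : ℤ)))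
    with hg_def
  have hreindex := sum_antitone_eq_sum_strictAnti (r := r) (K := k) (n := r + k) (by omega) g
  have step1 : (∑ μ ∈ (Finset.univ : Finset (Fin r → Fin k)).filter (fun μ : Fin r → Fin k => Antitone μ),
        S (fun i => (μ i : ℕ)) * S (fun i => k - (μ (Fin.rev i) : ℕ))) =
      ∑ μ ∈ (Finset.univ : Finset (Fin r → Fin k)).filter (fun μ : Fin r → Fin k => Antitone μ),
        g (fun i => (μ i : ℕ) + (r - 1 - (i : ℕ))) := by
    refine Finset.sum_congr rfl fun μ _ => ?_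
    simp only [hg_def]
    set X : Fin r → ℤ := fun j => (((μ j : ℕ) + (r - 1 - (j : ℕ)) : ℕ) : ℤ) with hX_def
    have hS1 : S (fun i => (μ i : ℕ)) = A (r + k) X V / A (r + k) (rho r) V := by
      rw [hS, det_pow_eq_A (r + k) _ V hzE, det_pow_eq_A (r + k) _ V hzE]
      rfl
    have hY : (fun i : Fin r => (((k - (μ (Fin.rev i) : ℕ)) + (r - 1 - (i : ℕ)) : ℕ) : ℤ)) =
        fun i => - X (Fin.rev i) + (((r + k : ℕ) : ℤ) - 1) := by
      funext i
      simp only [hX_def, Fin.val_rev]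
      have h1 := (μ (Fin.rev i)).2
      have h2 := i.2
      have h3 : r - 1 - (r - ((i : ℕ) + 1)) = (i : ℕ) := by omega
      rw [h3]
      rw [Nat.cast_add, Nat.cast_sub (by omega : (μ (Fin.rev i) : ℕ) ≤ k),
        Nat.cast_sub (by omega : (i : ℕ) ≤ r - 1), Nat.cast_sub (by omega : 1 ≤ r)]
      push_cast
      ring
    have hS2 : S (fun i => k - (μ (Fin.rev i) : ℕ)) =
        E (r + k) ((((r + k : ℕ) : ℤ) - 1) * ∑ j, V j) * sgnRev r *
          A (r + k) (fun i => - X i) V / A (r + k) (rho r) V := by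
      rw [hS, det_pow_eq_A (r + k) _ V hzE, det_pow_eq_A (r + k) _ V hzE]
      rw [hY, A_add_const_left, A_comp_rev (r + k) (fun i => - X i) V]
      have hrho : (fun i : Fin r => ((r - 1 - (i : ℕ) : ℕ) : ℤ)) = rho r := rfl
      rw [hrho]
      ring
    rw [hS1, hS2]
    have hT1 : A (r + k) X V = A (r + k) V X := A_transpose _ _ _
    have hT2 : A (r + k) (fun i => - X i) V = A (r + k) (fun i => - V i) X := by
      rw [A_neg_left, A_transpose]
    rw [hT1, hT2]
    simp only [hC_def, div_eq_mul_inv, mul_inv]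
    ring
  rw [step1, hreindex]
  simp only [hg_def]
  rw [← Finset.mul_sum]
  -- the sum over strictly decreasing tuples avoiding n - 1
  have hsum : ∑ a ∈ (Finset.univ : Finset (Fin r → Fin (r + k))).filter
        (fun a : Fin r → Fin (r + k) => StrictAnti a ∧ ∀ i, (a i : ℕ) + 1 < k + r),
        (A (r + k) V (fun j => ((a j : ℕ) : ℤ)) * A (r + k) (fun i => - V i) (fun j => ((a j : ℕ) : ℤ))) =
      (k : ℂ) * ((r + k : ℕ) : ℂ) ^ (r - 1) := by
    have h1 := sum_H₀_diag_strictAnti hnne V hVanti hspanV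
    have h2 := sum_H₀_diag_strictAnti_mem V hVanti hspanV (⟨r + k - 1, by omega⟩ : Fin (r + k))
    have h3 := Finset.sum_filter_add_sum_filter_not
      ((Finset.univ : Finset (Fin r → Fin (r + k))).filter (fun a => StrictAnti a))
      (fun a => ∃ j, a j = (⟨r + k - 1, by omega⟩ : Fin (r + k))) (H₀ (r + k) V V)
    rw [Finset.filter_filter, Finset.filter_filter, h1] at h3
    have h4 : (Finset.univ : Finset (Fin r → Fin (r + k))).filter
        (fun a : Fin r → Fin (r + k) => StrictAnti a ∧ ∀ i, (a i : ℕ) + 1 < k + r) =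
        (Finset.univ : Finset (Fin r → Fin (r + k))).filter
        (fun a => StrictAnti a ∧ ¬ ∃ j, a j = (⟨r + k - 1, by omega⟩ : Fin (r + k))) := by
      apply Finset.filter_congr
      intro a _
      apply and_congr_right
      intro _
      constructor
      · rintro h ⟨j, hj⟩
        have := h j
        rw [hj] at this
        simp only at this
        omega
      · intro h i
        by_contra hcon
        apply h
        refine ⟨i, Fin.ext ?_⟩
        have := (a i).2
        simp only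
        omega
    rw [h4]
    have h5 : ∑ a ∈ (Finset.univ : Finset (Fin r → Fin (r + k))).filter
        (fun a => StrictAnti a ∧ ¬ ∃ j, a j = (⟨r + k - 1, by omega⟩ : Fin (r + k))),
        (A (r + k) V (fun j => ((a j : ℕ) : ℤ)) * A (r + k) (fun i => - V i) (fun j => ((a j : ℕ) : ℤ))) =
        ∑ a ∈ (Finset.univ : Finset (Fin r → Fin (r + k))).filter
        (fun a => StrictAnti a ∧ ¬ ∃ j, a j = (⟨r + k - 1, by omega⟩ : Fin (r + k))),
        H₀ (r + k) V V a := rfl
    rw [h5]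
    have hnC : ((r + k : ℕ) : ℂ) ≠ 0 := by exact_mod_cast hnne
    apply mul_left_cancel₀ hnC
    obtain ⟨r', rfl⟩ : ∃ r', r = r' + 1 := ⟨r - 1, by omega⟩
    simp only [Nat.add_sub_cancel] at *
    have h6 : ((r' + 1 + k : ℕ) : ℂ) ^ (r' + 1) = ((r' + 1 + k : ℕ) : ℂ) * ((r' + 1 + k : ℕ) : ℂ) ^ r' := by
      rw [pow_succ]; ring
    rw [h6] at h2 h3
    push_cast at h2 h3 ⊢
    linear_combination ((r' : ℂ) + 1 + k) * h3 - h2
  rw [hsum]
  -- the right-hand side
  have hPeq : (∏ p ∈ (Finset.univ : Finset (Fin r × Fin r)).filter (fun p => p.1 < p.2),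
      (((2 : ℝ) * Real.sin (Real.pi * ((v p.1 : ℝ) - (v p.2 : ℝ)) / ((r : ℝ) + k))) ^ 2 : ℝ) : ℂ) =
      A (r + k) (rho r) V * A (r + k) (fun i => - rho r i) V := by
    rw [← prod_two_sin_sq_eq, Complex.ofReal_prod]
    simp only [hV_def]
    push_cast
    rfl
  have hexp : Complex.exp (2 * Real.pi * Complex.I * (k : ℂ) * ((∑ j, v j : ℕ) : ℂ) / ((r : ℂ) + k)) =
      E (r + k) ((k : ℤ) * ∑ j, V j) := by
    rw [E]
    simp only [hV_def]
    congr 1
    push_cast
    ring
  rw [hPeq, hexp, A_neg_rho]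
  have hE : E (r + k) ((((r + k : ℕ) : ℤ) - 1) * ∑ j, V j) * E (r + k) (-((r : ℤ) - 1) * ∑ j, V j) =
      E (r + k) ((k : ℤ) * ∑ j, V j) := by
    rw [← E_add]; congr 1; push_cast; ring
  have hs := sgnRev_mul_self r
  have hD : A (r + k) (rho r) V *
      (sgnRev r * E (r + k) (-((r : ℤ) - 1) * ∑ j, V j) * A (r + k) (rho r) V) ≠ 0 :=
    mul_ne_zero hΔ (mul_ne_zero (mul_ne_zero (sgnRev_ne_zero r) (E_ne_zero _ _)) hΔ)
  have hC' : C = E (r + k) ((k : ℤ) * ∑ j, V j) / (A (r + k) (rho r) V *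
      (sgnRev r * E (r + k) (-((r : ℤ) - 1) * ∑ j, V j) * A (r + k) (rho r) V)) := by
    rw [hC_def, div_eq_div_iff (mul_ne_zero hΔ hΔ) hD]
    linear_combination (A (r + k) (rho r) V * A (r + k) (rho r) V * sgnRev r * sgnRev r) * hE +
      (E (r + k) ((k : ℤ) * ∑ j, V j) * A (r + k) (rho r) V * A (r + k) (rho r) V) * hs
  rw [hC']
  push_cast
  ring

end Groth.Agent.S18377
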