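import Groth.Statements.S18378
import Groth.Agent.Lib.Helper99.VerlindeG

set_option autoImplicit false
open Complex
open VerlindeComb

namespace Groth.Agent.S18378

open Groth.Agent.Lib.Helper99.Verlinde

/-- Let r, k ≥ 1 be integers and v, v' two integer vectors with r + k > v_1 > ⋯ > v_r ≥ 0 and r + k >
v'_1 > ⋯ > v'_r ≥ 0 whose difference v - v' is not a constant vector (a, …, a). Put z_j = exp(2πi
v_j / (r + k)), z'_j = exp(2πi v'_j / (r + k)), let S_μ(w) = det(w_j^{μ_i + r - i}) / det(w_j^{r -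
i}) be the Schur value at w = z or z', and write |x| for the sum of the coordinates of a vector and
μ* = (k - μ_r, …, k - μ_1). Then the sum over all μ with k ≥ μ_1 ≥ ⋯ ≥ μ_{r-1} ≥ μ_r = 0 of exp(-2πi
|μ| |v| / (r (r + k))) · exp(-2πi |μ*| |v'| / (r (r + k))) · S_μ(z) · S_{μ*}(z') is zero. The
vanishing is the orthogonality of distinct characters and holds exactly for non-equivalent v, v';
for v - v' constant the sum is nonzero. Indices are 0-based below: μ i stands for μ_{i+1}. -/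
theorem result (r k : ℕ) (hr : 1 ≤ r)
    (hk : 1 ≤ k) (v v' : Fin r → ℕ) (hv : StrictAnti v) (hvlt : ∀ i, v i < r + k) (hv' : StrictAnti v')
    (hv'lt : ∀ i, v' i < r + k) (hne : ¬ ∃ a : ℤ, ∀ i, (v i : ℤ) - (v' i : ℤ) = a)
    (z z' : Fin r → ℂ) (hz : ∀ j, z j = Complex.exp (2 * Real.pi * Complex.I * (v j : ℂ) / ((r : ℂ) + k)))
    (hz' : ∀ j, z' j = Complex.exp (2 * Real.pi * Complex.I * (v' j : ℂ) / ((r : ℂ) + k)))
    (S S' : (Fin r → ℕ) → ℂ)
    (hS : ∀ μ : Fin r → ℕ, S μ =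
      (Matrix.of fun i j : Fin r => z j ^ (μ i + (r - 1 - (i : ℕ)))).det /
        (Matrix.of fun i j : Fin r => z j ^ (r - 1 - (i : ℕ))).det)
    (hS' : ∀ μ : Fin r → ℕ, S' μ =
      (Matrix.of fun i j : Fin r => z' j ^ (μ i + (r - 1 - (i : ℕ)))).det /
        (Matrix.of fun i j : Fin r => z' j ^ (r - 1 - (i : ℕ))).det) :
    (∑ μ ∈ (Finset.univ : Finset (Fin r → Fin (k + 1))).filter
        (fun μ : Fin r → Fin (k + 1) => Antitone μ ∧ ∀ i : Fin r, (i : ℕ) = r - 1 → (μ i : ℕ) = 0),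
      Complex.exp (-(2 * Real.pi * Complex.I * ((∑ i, (μ i : ℕ) : ℕ) : ℂ) * ((∑ j, v j : ℕ) : ℂ) /
          ((r : ℂ) * ((r : ℂ) + k)))) *
      Complex.exp (-(2 * Real.pi * Complex.I * ((∑ i, (k - (μ (Fin.rev i) : ℕ)) : ℕ) : ℂ) *
          ((∑ j, v' j : ℕ) : ℂ) / ((r : ℂ) * ((r : ℂ) + k)))) *
      S (fun i => (μ i : ℕ)) * S' (fun i => k - (μ (Fin.rev i) : ℕ))) = 0 := by
  classical
  have hr0 : 0 < r := hr
  have hn0 : 0 < r + k := by omega
  have hnne : r + k ≠ 0 := by omega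
  set V : Fin r → ℤ := fun j => (v j : ℤ) with hV_def
  set V' : Fin r → ℤ := fun j => (v' j : ℤ) with hV'_def
  have hVanti : StrictAnti V := fun i j hij => by
    simp only [hV_def]; exact_mod_cast hv hij
  have hV'anti : StrictAnti V' := fun i j hij => by
    simp only [hV'_def]; exact_mod_cast hv' hij
  have hspanV : ∀ i j, V i - V j < ((r + k : ℕ) : ℤ) := by
    intro i j
    have h1 := hvlt i
    simp only [hV_def]
    have : (v i : ℤ) < ((r + k : ℕ) : ℤ) := by exact_mod_cast h1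
    have : (0 : ℤ) ≤ (v j : ℤ) := by positivity
    linarith
  have hspanV' : ∀ i j, V' i - V' j < ((r + k : ℕ) : ℤ) := by
    intro i j
    have h1 := hv'lt i
    simp only [hV'_def]
    have : (v' i : ℤ) < ((r + k : ℕ) : ℤ) := by exact_mod_cast h1
    have : (0 : ℤ) ≤ (v' j : ℤ) := by positivity
    linarith
  have key := SU_gen (n := r + k) V V' hVanti hV'anti hspanV hspanV' hne
  have hzE : ∀ j, z j = E (r + k) (V j) := by
    intro j
    rw [hz, E]
    simp only [hV_def]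
    push_cast
    rfl
  have hz'E : ∀ j, z' j = E (r + k) (V' j) := by
    intro j
    rw [hz', E]
    simp only [hV'_def]
    push_cast
    rfl
  -- the constant
  set C : ℂ := sgnRev r * E (r + k) ((((r + k : ℕ) : ℤ) - 1) * ∑ j, V' j) *
      E (r * (r + k)) ((∑ i, rho r i) * (∑ j, V j - ∑ j, V' j) - (r : ℤ) * k * ∑ j, V' j) /
      (A (r + k) (rho r) V * A (r + k) (rho r) V') with hC_def
  -- the function of `x = μ + ρ`
  set g : (Fin r → ℕ) → ℂ := fun x =>
    if (∀ i : Fin r, (i : ℕ) = r - 1 → x i = 0) then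
      C * (E (r * (r + k)) (-(∑ i, V i - ∑ i, V' i) * ∑ j, ((x j : ℕ) : ℤ)) *
        (A (r + k) V (fun j => ((x j : ℕ) : ℤ)) * A (r + k) (fun i => - V' i) (fun j => ((x j : ℕ) : ℤ))))
    else 0 with hg_def
  have hreindex := sum_antitone_eq_sum_strictAnti (r := r) (K := k + 1) (n := r + k) (by omega) g
  -- Step 1: rewrite the LHS as a sum of g (μ + ρ) over antitone μ
  have step1 : (∑ μ ∈ (Finset.univ : Finset (Fin r → Fin (k + 1))).filter
        (fun μ : Fin r → Fin (k + 1) => Antitone μ ∧ ∀ i : Fin r, (i : ℕ) = r - 1 → (μ i : ℕ) = 0),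
      Complex.exp (-(2 * Real.pi * Complex.I * ((∑ i, (μ i : ℕ) : ℕ) : ℂ) * ((∑ j, v j : ℕ) : ℂ) /
          ((r : ℂ) * ((r : ℂ) + k)))) *
      Complex.exp (-(2 * Real.pi * Complex.I * ((∑ i, (k - (μ (Fin.rev i) : ℕ)) : ℕ) : ℂ) *
          ((∑ j, v' j : ℕ) : ℂ) / ((r : ℂ) * ((r : ℂ) + k)))) *
      S (fun i => (μ i : ℕ)) * S' (fun i => k - (μ (Fin.rev i) : ℕ))) =
      ∑ μ ∈ (Finset.univ : Finset (Fin r → Fin (k + 1))).filter
        (fun μ : Fin r → Fin (k + 1) => Antitone μ),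
        g (fun i => (μ i : ℕ) + (r - 1 - (i : ℕ))) := by
    rw [Finset.sum_filter, Finset.sum_filter]
    refine Finset.sum_congr rfl fun μ _ => ?_
    by_cases hanti : Antitone μ
    swap
    · rw [if_neg (fun h => hanti h.1), if_neg hanti]
    by_cases hlast : ∀ i : Fin r, (i : ℕ) = r - 1 → (μ i : ℕ) = 0
    swap
    · rw [if_neg (fun h => hlast h.2), if_pos hanti]
      simp only [hg_def]
      rw [if_neg]
      intro h
      apply hlast
      intro i hi
      have := h i hi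
      omega
    rw [if_pos ⟨hanti, hlast⟩, if_pos hanti]
    simp only [hg_def]
    rw [if_pos (by intro i hi; have := hlast i hi; omega)]
    -- now the computation
    set X : Fin r → ℤ := fun j => (((μ j : ℕ) + (r - 1 - (j : ℕ)) : ℕ) : ℤ) with hX_def
    have hXsum : ∑ j, X j = ((∑ i, (μ i : ℕ) : ℕ) : ℤ) + ∑ i, rho r i := by
      simp only [hX_def, rho]
      push_cast
      rw [Finset.sum_add_distrib]
    have hmustar : ((∑ i, (k - (μ (Fin.rev i) : ℕ)) : ℕ) : ℤ) =
        (r : ℤ) * k - ((∑ i, (μ i : ℕ) : ℕ) : ℤ) := by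
      have h1 : ∀ i : Fin r, ((k - (μ (Fin.rev i) : ℕ) : ℕ) : ℤ) = (k : ℤ) - ((μ (Fin.rev i) : ℕ) : ℤ) := by
        intro i
        have := (μ (Fin.rev i)).2
        rw [Nat.cast_sub (by omega)]
      push_cast
      simp only [h1, Finset.sum_sub_distrib, Finset.sum_const, Finset.card_univ, Fintype.card_fin,
        nsmul_eq_mul]
      congr 1
      exact Equiv.sum_comp Fin.revPerm (fun i => ((μ i : ℕ) : ℤ))
    have hS1 : S (fun i => (μ i : ℕ)) = A (r + k) X V / A (r + k) (rho r) V := by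
      rw [hS, det_pow_eq_A (r + k) _ V hzE, det_pow_eq_A (r + k) _ V hzE]
      rfl
    have hY : (fun i : Fin r => (((k - (μ (Fin.rev i) : ℕ)) + (r - 1 - (i : ℕ)) : ℕ) : ℤ)) =
        fun i => - X (Fin.rev i) + (((r + k : ℕ) : ℤ) - 1) := by
      funext i
      simp only [hX_def, Fin.val_rev]
      have h1 := (μ (Fin.rev i)).2
      have h2 := i.2
      have h3 : r - 1 - (r - ((i : ℕ) + 1)) = (i : ℕ) := by omega
      rw [h3]
      rw [Nat.cast_add, Nat.cast_sub (by omega : (μ (Fin.rev i) : ℕ) ≤ k),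
        Nat.cast_sub (by omega : (i : ℕ) ≤ r - 1), Nat.cast_sub (by omega : 1 ≤ r)]
      push_cast
      ring
    have hS2 : S' (fun i => k - (μ (Fin.rev i) : ℕ)) =
        E (r + k) ((((r + k : ℕ) : ℤ) - 1) * ∑ j, V' j) * sgnRev r *
          A (r + k) (fun i => - X i) V' / A (r + k) (rho r) V' := by
      rw [hS', det_pow_eq_A (r + k) _ V' hz'E, det_pow_eq_A (r + k) _ V' hz'E]
      rw [hY, A_add_const_left, A_comp_rev (r + k) (fun i => - X i) V']
      have hrho : (fun i : Fin r => ((r - 1 - (i : ℕ) : ℕ) : ℤ)) = rho r := rfl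
      rw [hrho]
      ring
    have hexp1 : Complex.exp (-(2 * Real.pi * Complex.I * ((∑ i, (μ i : ℕ) : ℕ) : ℂ) *
          ((∑ j, v j : ℕ) : ℂ) / ((r : ℂ) * ((r : ℂ) + k)))) =
        E (r * (r + k)) (-((∑ i, (μ i : ℕ) : ℕ) : ℤ) * ∑ j, V j) := by
      rw [E]
      simp only [hV_def]
      congr 1
      push_cast
      ring
    have hexp2 : Complex.exp (-(2 * Real.pi * Complex.I * ((∑ i, (k - (μ (Fin.rev i) : ℕ)) : ℕ) : ℂ) *
          ((∑ j, v' j : ℕ) : ℂ) / ((r : ℂ) * ((r : ℂ) + k)))) =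
        E (r * (r + k)) (-((∑ i, (k - (μ (Fin.rev i) : ℕ)) : ℕ) : ℤ) * ∑ j, V' j) := by
      rw [E]
      simp only [hV'_def]
      congr 1
      push_cast
      ring
    rw [hexp1, hexp2, hS1, hS2, hmustar]
    have hT1 : A (r + k) X V = A (r + k) V X := A_transpose _ _ _
    have hT2 : A (r + k) (fun i => - X i) V' = A (r + k) (fun i => - V' i) X := by
      rw [A_neg_left, A_transpose]
    rw [hT1, hT2]
    have hEcomb : E (r * (r + k)) (-((∑ i, (μ i : ℕ) : ℕ) : ℤ) * ∑ j, V j) *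
        E (r * (r + k)) (-((r : ℤ) * k - ((∑ i, (μ i : ℕ) : ℕ) : ℤ)) * ∑ j, V' j) =
        E (r * (r + k)) ((∑ i, rho r i) * (∑ j, V j - ∑ j, V' j) - (r : ℤ) * k * ∑ j, V' j) *
        E (r * (r + k)) (-(∑ i, V i - ∑ i, V' i) * ∑ j, X j) := by
      rw [← E_add, ← E_add, hXsum]
      congr 1
      ring
    simp only [hC_def]
    simp only [div_eq_mul_inv, mul_inv]
    linear_combination (A (r + k) V X * (sgnRev r * E (r + k) ((((r + k : ℕ) : ℤ) - 1) * ∑ j, V' j) *
      A (r + k) (fun i => - V' i) X) * (A (r + k) (rho r) V)⁻¹ * (A (r + k) (rho r) V')⁻¹) * hEcomb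
  rw [step1, hreindex]
  -- Step 2: identify with the SU sum
  have step2 : ∑ a ∈ (Finset.univ : Finset (Fin r → Fin (r + k))).filter
        (fun a : Fin r → Fin (r + k) => StrictAnti a ∧ ∀ i, (a i : ℕ) + 1 < k + 1 + r),
        g (fun i => (a i : ℕ)) =
      ∑ a ∈ (Finset.univ : Finset (Fin r → Fin (r + k))).filter
        (fun a : Fin r → Fin (r + k) => StrictAnti a ∧ ∃ j, a j = (⟨0, hn0⟩ : Fin (r + k))),
        C * H (r + k) V V' a := by
    rw [Finset.sum_filter, Finset.sum_filter]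
    refine Finset.sum_congr rfl fun a _ => ?_
    by_cases hanti : StrictAnti a
    swap
    · rw [if_neg (fun h => hanti h.1), if_neg (fun h => hanti h.1)]
    have hb : ∀ i, (a i : ℕ) + 1 < k + 1 + r := fun i => by have := (a i).2; omega
    have hiff := exists_zero_iff_last hn0 a hanti hr0
    by_cases hlast : ∀ i : Fin r, (i : ℕ) = r - 1 → (a i : ℕ) = 0
    · rw [if_pos ⟨hanti, hb⟩, if_pos ⟨hanti, hiff.1 hlast⟩]
      simp only [hg_def]
      rw [if_pos hlast]
      rfl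
    · rw [if_pos ⟨hanti, hb⟩, if_neg (fun h => hlast (hiff.2 h.2))]
      simp only [hg_def]
      rw [if_neg hlast]
  rw [step2, ← Finset.mul_sum]
  have hkey' : ∑ a ∈ (Finset.univ : Finset (Fin r → Fin (r + k))).filter
        (fun a : Fin r → Fin (r + k) => StrictAnti a ∧ ∃ j, a j = (⟨0, hn0⟩ : Fin (r + k))),
        H (r + k) V V' a = 0 := key
  rw [hkey', mul_zero]

end Groth.Agent.S18378
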