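import Groth.Statements.S18379
import Groth.Agent.Lib.Helper99.VerlindeF

set_option autoImplicit false
open VerlindeComb

namespace Groth.Agent.S18379

/-- Let r, k ≥ 1 be integers. Summing over all integer vectors v with r + k > v_1 > v_2 > ⋯ > v_{r-1} >
v_r = 0, one has Σ_v ∏_{i<j} (2 sin(π (v_i - v_j) / (r + k)))² = r (r + k)^{r-1}; that is, the
genus-zero Verlinde number of rank r and level k with no parabolic points, defined as (r (r +
k)^{r-1})⁻¹ times this sum, equals 1. Indices are 0-based below: v i stands for v_{i+1}. -/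
theorem result (r k : ℕ) (hr : 1 ≤ r) (hk : 1 ≤ k) :
    (∑ v ∈ (Finset.univ : Finset (Fin r → Fin (r + k))).filter
        (fun v : Fin r → Fin (r + k) => StrictAnti v ∧ ∀ i : Fin r, (i : ℕ) = r - 1 → (v i : ℕ) = 0),
      ∏ p ∈ (Finset.univ : Finset (Fin r × Fin r)).filter (fun p => p.1 < p.2),
        ((2 : ℝ) * Real.sin (Real.pi * ((v p.1 : ℕ) - (v p.2 : ℕ) : ℝ) / ((r : ℝ) + k))) ^ 2) =
      (r : ℝ) * ((r : ℝ) + k) ^ (r - 1) := by
  classical
  have hr0 : 0 < r := hr
  have hn0 : 0 < r + k := by omega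
  have : NeZero (r + k) := ⟨by omega⟩
  have hρ : StrictAnti (Groth.Agent.Lib.Helper99.Verlinde.rho r) := by
    intro i j hij
    have h2 : (i : ℕ) < (j : ℕ) := hij
    have h3 := j.2
    simp only [Groth.Agent.Lib.Helper99.Verlinde.rho]
    exact_mod_cast (by omega : r - 1 - (j : ℕ) < r - 1 - (i : ℕ))
  have hspan : ∀ i j, Groth.Agent.Lib.Helper99.Verlinde.rho r i -
      Groth.Agent.Lib.Helper99.Verlinde.rho r j < ((r + k : ℕ) : ℤ) := by
    intro i j
    have h1 : Groth.Agent.Lib.Helper99.Verlinde.rho r i ≤ ((r - 1 : ℕ) : ℤ) := by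
      simp only [Groth.Agent.Lib.Helper99.Verlinde.rho]
      exact_mod_cast (by omega : r - 1 - (i : ℕ) ≤ r - 1)
    have h2 : (0 : ℤ) ≤ Groth.Agent.Lib.Helper99.Verlinde.rho r j := by
      simp only [Groth.Agent.Lib.Helper99.Verlinde.rho]; positivity
    have h4 : ((r - 1 : ℕ) : ℤ) < ((r + k : ℕ) : ℤ) := by exact_mod_cast (by omega)
    linarith
  have key := Groth.Agent.Lib.Helper99.Verlinde.sum_H₀_diag_strictAnti_mem (n := r + k)
    (Groth.Agent.Lib.Helper99.Verlinde.rho r) hρ hspan 0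
  apply Complex.ofReal_injective
  rw [Complex.ofReal_sum]
  have e : ∀ v : Fin r → Fin (r + k),
      ((∏ p ∈ (Finset.univ : Finset (Fin r × Fin r)).filter (fun p => p.1 < p.2),
        ((2 : ℝ) * Real.sin (Real.pi * ((v p.1 : ℕ) - (v p.2 : ℕ) : ℝ) / ((r : ℝ) + k))) ^ 2 : ℝ) : ℂ) =
      Groth.Agent.Lib.Helper99.Verlinde.H₀ (r + k) (Groth.Agent.Lib.Helper99.Verlinde.rho r)
        (Groth.Agent.Lib.Helper99.Verlinde.rho r) v := by
    intro v
    rw [Groth.Agent.Lib.Helper99.Verlinde.H₀, ← Groth.Agent.Lib.Helper99.Verlinde.prod_two_sin_sq_eq]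
    push_cast
    rfl
  simp only [e]
  have hfilter : (Finset.univ : Finset (Fin r → Fin (r + k))).filter
        (fun v : Fin r → Fin (r + k) => StrictAnti v ∧ ∀ i : Fin r, (i : ℕ) = r - 1 → (v i : ℕ) = 0) =
      (Finset.univ : Finset (Fin r → Fin (r + k))).filter
        (fun v => StrictAnti v ∧ ∃ j, v j = (0 : Fin (r + k))) := by
    apply Finset.filter_congr
    intro v _
    exact and_congr_right
      (fun hv => Groth.Agent.Lib.Helper99.Verlinde.exists_zero_iff_last hn0 v hv hr0)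
  rw [hfilter]
  have hnC : ((r + k : ℕ) : ℂ) ≠ 0 := by exact_mod_cast (by omega : r + k ≠ 0)
  apply mul_left_cancel₀ hnC
  rw [key]
  obtain ⟨r', rfl⟩ : ∃ r', r = r' + 1 := ⟨r - 1, by omega⟩
  push_cast
  ring

end Groth.Agent.S18379
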