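import Groth.Statements.S1838
import Groth.Agent.Lib.Helper29.CycDetG

set_option autoImplicit false
universe u v
open CycDet

namespace Groth.Agent.S1838

open Groth.Agent.Lib.Helper29.CycDetLib


/-- For a finite length module M over a local ring with residue field κ, the κ-vector space det_κ(M) of
symbols modulo admissible relations has dimension at most 1. -/
theorem result (R : Type u) [CommRing R] [IsLocalRing R] (M : Type v) [AddCommGroup M] [Module R M] (hM : IsFiniteLength R M) : Module.rank (IsLocalRing.ResidueField R) (CycDet.Det R M) ≤ 1 := by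
  have hlen : Module.length R M = ((Module.length R M).toNat : ℕ∞) :=
    (ENat.coe_toNat (Module.length_ne_top_iff.mpr hM)).symm
  obtain ⟨Δ, hΔ, hne, huniv⟩ := exists_universal.{u, v, max u v} R (Module.length R M).toNat M hlen
  obtain ⟨w, hw⟩ := huniv (DetOfLen R M (Module.length R M).toNat) (symFun R M _)
    (symFun_isDetFun R M _)
  rw [rank_le_one_iff]
  refine ⟨w, fun x => ?_⟩
  induction x using detOfLen_induction with
  | h0 => exact ⟨0, zero_smul _ _⟩
  | hadd x y hx hy =>
    obtain ⟨r, rfl⟩ := hx
    obtain ⟨s, rfl⟩ := hy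
    exact ⟨r + s, add_smul _ _ _⟩
  | hsmul t e =>
    rw [← symFun_of_adm, hw e.1 e.2, smul_smul]
    exact ⟨_, rfl⟩

end Groth.Agent.S1838
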