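import Groth.Statements.S18383
-- import your own Groth.Agent.* helpers here
-- import your own Groth.Agent.* helpers here

set_option autoImplicit false
universe u
open CategoryTheory CategoryTheory.Limits MonoidalCategory CartesianMonoidalCategory MonObj GrpObj AlgebraicGeometry
open GrpSch

namespace Groth.Agent.S18383

section shear

variable {C : Type*} [Category C] [CartesianMonoidalCategory C] (H : C) [GrpObj H]

/-- the shear map `(a, h) ↦ (a * h, h)` -/
noncomputable def shear : H ⊗ H ⟶ H ⊗ H := lift (fst H H * snd H H) (snd H H)

/-- the inverse shear map `(a, h) ↦ (a * h⁻¹, h)` -/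
noncomputable def shearInv : H ⊗ H ⟶ H ⊗ H := lift (fst H H * (snd H H)⁻¹) (snd H H)

theorem shear_shearInv : shear H ≫ shearInv H = 𝟙 _ := by
  apply CartesianMonoidalCategory.hom_ext
  · simp [shear, shearInv, MonObj.comp_mul, GrpObj.comp_inv]
  · simp [shear, shearInv]

theorem shearInv_shear : shearInv H ≫ shear H = 𝟙 _ := by
  apply CartesianMonoidalCategory.hom_ext
  · simp [shear, shearInv, MonObj.comp_mul, GrpObj.comp_inv]
  · simp [shear, shearInv]

theorem isIso_shear : IsIso (shear H) := ⟨shearInv H, shear_shearInv H, shearInv_shear H⟩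

theorem lift_eq {G : C} (i : G ⟶ H) :
    lift ((i ▷ H) ≫ μ[H]) (snd G H) = (i ▷ H) ≫ shear H := by
  apply CartesianMonoidalCategory.hom_ext
  · simp [shear, MonObj.mul_eq_mul]
  · simp [shear]

end shear

/-- Let S be a scheme, H an S-group scheme and i : G → H a homomorphism of S-group schemes which is a
closed immersion (G a closed subgroup scheme of H). Then the left-translation action of G on H is
strictly free: the S-morphism G ×_S H → H ×_S H, (g, h) ↦ (i(g)·h, h), is a closed immersion. -/
theorem result {S : Scheme.{u}} (G H : Over S)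
    [GrpObj G] [GrpObj H] (i : G ⟶ H) [IsMonHom i] [IsClosedImmersion i.left] :
    IsClosedImmersion (CartesianMonoidalCategory.lift ((i ▷ H) ≫ μ[H]) (snd G H)).left := by
  rw [lift_eq H i, Over.comp_left]
  have h1 : IsClosedImmersion (i ▷ H).left := by
    rw [Over.whiskerRight_left]
    exact MorphismProperty.pullbackMap (P := @IsClosedImmersion) ‹_›
      (inferInstance : IsClosedImmersion (𝟙 H.left)) (by simp) (by simp)
  have h2 : IsIso (shear H) := isIso_shear H
  have h3 : IsIso (shear H).left := inferInstanceAs (IsIso ((Over.forget S).map (shear H)))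
  infer_instance

end Groth.Agent.S18383
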