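import Groth.Statements.S18386
-- import your own Groth.Agent.* helpers here
import Mathlib.RingTheory.Nakayama
-- import your own Groth.Agent.* helpers here

set_option autoImplicit false
universe u
open LVCorr

namespace Groth.Agent.S18386

open AlgebraicGeometry CategoryTheory in
theorem support_eq (X : Scheme.{u}) [AlgebraicGeometry.IsNoetherian X]
    (I : X.IdealSheafData) (k : ℕ) (hk : 0 < k)
    (h : I ^ k = I ^ (k + 1)) :
    {x : X | ∃ U : X.affineOpens, x ∈ U.1 ∧ (I ^ k).ideal U = ⊥} = (I.support : Set X) := by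
  ext x
  constructor
  · rintro ⟨U, hxU, hU⟩
    rw [← Scheme.IdealSheafData.support_pow I k hk.ne', SetLike.mem_coe,
      Scheme.IdealSheafData.mem_support_iff_of_mem hxU, hU, Scheme.mem_zeroLocus_iff]
    intro f hf
    have hf0 : f = 0 := hf
    rw [hf0, Scheme.basicOpen_zero]
    exact fun hx => hx
  · intro hx
    obtain ⟨_, ⟨U, hU, rfl⟩, hxU, -⟩ :=
      X.isBasis_affineOpens.exists_subset_of_mem_open (Set.mem_univ x) isOpen_univ
    have hnoeth : IsNoetherianRing Γ(X, U) :=
      IsLocallyNoetherian.component_noetherian ⟨U, hU⟩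
    have hJ : (I.ideal ⟨U, hU⟩) ^ k ≤ (I.ideal ⟨U, hU⟩) • (I.ideal ⟨U, hU⟩) ^ k := by
      have h1 := congrArg (fun J : X.IdealSheafData => J.ideal ⟨U, hU⟩) h
      simp only [Scheme.IdealSheafData.ideal_pow, Pi.pow_apply] at h1
      rw [smul_eq_mul, ← pow_succ', ← h1]
    obtain ⟨r, hr1, hr0⟩ := Submodule.exists_sub_one_mem_and_smul_eq_zero_of_fg_of_le_smul
      (I.ideal ⟨U, hU⟩) ((I.ideal ⟨U, hU⟩) ^ k) (IsNoetherian.noetherian _) hJ
    by_cases hxr : x ∈ X.basicOpen r
    · refine ⟨X.affineBasicOpen r, hxr, ?_⟩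
      have e := (I ^ k).map_ideal_basicOpen ⟨U, hU⟩ r
      have e' : Ideal.map (X.presheaf.map (homOfLE (X.basicOpen_le r)).op).hom
          ((I ^ k).ideal ⟨U, hU⟩) = ⊥ := by
        rw [Ideal.map_eq_bot_iff_le_ker]
        intro j hj
        have hj' : j ∈ (I.ideal ⟨U, hU⟩) ^ k := hj
        have h0 : r * j = 0 := hr0 j hj'
        have hunit := X.toRingedSpace.isUnit_res_basicOpen r
        rw [RingHom.mem_ker]
        have h1 := congrArg (X.presheaf.map (homOfLE (X.basicOpen_le r)).op).hom h0
        rw [map_mul, map_zero] at h1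
        exact (hunit.mul_right_eq_zero).1 h1
      exact e.symm.trans e'
    · exfalso
      have hx1 : x ∈ X.basicOpen (r - 1) := by
        rw [Scheme.mem_basicOpen _ _ x hxU] at hxr ⊢
        rw [map_sub, map_one]
        have hsum : X.presheaf.germ U x hxU r + (1 - X.presheaf.germ U x hxU r) = 1 := by ring
        rcases IsLocalRing.isUnit_or_isUnit_of_add_one hsum with h' | h'
        · exact absurd h' hxr
        · have := h'.neg
          rwa [neg_sub] at this
      rw [SetLike.mem_coe, Scheme.IdealSheafData.mem_support_iff_of_mem (U := ⟨U, hU⟩) hxU,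
        Scheme.mem_zeroLocus_iff] at hx
      exact hx (r - 1) hr1 hx1

open AlgebraicGeometry in
/-- Let X be a connected Noetherian scheme and I a quasi-coherent sheaf of ideals on X, different from
the structure sheaf, such that I^k = I^(k+1) for some natural number k. Then I^k = 0. -/
theorem result (X : Scheme.{u}) [AlgebraicGeometry.IsNoetherian X]
    [ConnectedSpace X] (I : X.IdealSheafData) (hI : I ≠ ⊤) (k : ℕ)
    (h : I ^ k = I ^ (k + 1)) : I ^ k = ⊥ := by
  rcases Nat.eq_zero_or_pos k with rfl | hk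
  · exfalso
    apply hI
    rw [pow_zero, zero_add, pow_one] at h
    exact h.symm
  have hsupp := support_eq X I k hk h
  have hclopen : IsClopen {x : X | ∃ U : X.affineOpens, x ∈ U.1 ∧ (I ^ k).ideal U = ⊥} := by
    constructor
    · rw [hsupp]
      exact I.support.isClosed
    · rw [isOpen_iff_forall_mem_open]
      rintro x ⟨U, hxU, hU⟩
      exact ⟨U.1, fun y hy => ⟨U, hy, hU⟩, U.1.isOpen, hxU⟩
  rcases isClopen_iff.1 hclopen with h0 | h1
  · exfalso
    apply hI
    rw [← Scheme.IdealSheafData.support_eq_bot_iff]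
    apply SetLike.coe_injective
    rw [← hsupp, h0]
    rfl
  · have hall : ∀ x : X, ∃ U : X.affineOpens, x ∈ U.1 ∧ (I ^ k).ideal U = ⊥ := by
      intro x
      have : x ∈ {x : X | ∃ U : X.affineOpens, x ∈ U.1 ∧ (I ^ k).ideal U = ⊥} := by
        rw [h1]; trivial
      exact this
    choose U hxU hU using hall
    refine Scheme.IdealSheafData.ext_of_iSup_eq_top U ?_ ?_
    · rw [eq_top_iff]
      intro x _
      exact TopologicalSpace.Opens.mem_iSup.2 ⟨x, hxU x⟩
    · intro x
      rw [hU x]
      rfl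

end Groth.Agent.S18386
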