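import Groth.Statements.S18387
-- import your own Groth.Agent.* helpers here
import Mathlib.RingTheory.Nakayama
import Mathlib.RingTheory.Artinian.Ring
import Mathlib.LinearAlgebra.FiniteDimensional.Lemmas
-- import your own Groth.Agent.* helpers here

set_option autoImplicit false
universe u
open LVCorr

namespace Groth.Agent.S18387

/-- In the affine form which its proof establishes. Let A be a commutative algebra over a field F which
is finite-dimensional of dimension d over F. Then the d-th power of the nilradical of A vanishes.
(Applied to the fibre algebra A = B/mB of a quasi-finite morphism over a closed point with maximal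
ideal m, this says that the d-th power of the radical of mB lies in mB, i.e. the ramification of the
morphism at that point is at most the degree d of the fibre.) -/
theorem result (F A : Type u) [Field F] [CommRing A] [Algebra F A]
    [FiniteDimensional F A] : nilradical A ^ Module.finrank F A = ⊥ := by
  have hart : IsArtinianRing A := IsArtinianRing.of_finite F A
  have hnoeth : IsNoetherianRing A := isNoetherian_of_tower F (isNoetherian_of_isNoetherianRing_of_finite F A)
  set N := nilradical A with hN
  have hNjac : N ≤ Ideal.jacobson ⊥ := by
    rw [hN, nilradical]
    exact Ideal.radical_le_jacobson
  have hstrict : ∀ i : ℕ, N ^ (i + 1) = N ^ i → N ^ i = ⊥ := by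
    intro i hi
    refine Submodule.eq_bot_of_le_smul_of_le_jacobson_bot N (N ^ i)
      (IsNoetherian.noetherian _) ?_ hNjac
    rw [smul_eq_mul, ← pow_succ', hi]
  have key : ∀ i : ℕ, N ^ i = ⊥ ∨
      Module.finrank F (Submodule.restrictScalars F (N ^ i)) + i ≤ Module.finrank F A := by
    intro i
    induction i with
    | zero =>
      right
      rw [pow_zero, Ideal.one_eq_top, Submodule.restrictScalars_top, finrank_top, add_zero]
    | succ i ih =>
      rcases ih with h0 | hle
      · left
        rw [pow_succ, h0, Ideal.bot_mul]
      · by_cases hbot : N ^ (i + 1) = ⊥
        · exact Or.inl hbot
        · right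
          have hne : N ^ (i + 1) ≠ N ^ i := by
            intro h
            apply hbot
            rw [h]
            exact hstrict i h
          have hlt : N ^ (i + 1) < N ^ i :=
            lt_of_le_of_ne (Ideal.pow_le_pow_right (Nat.le_succ i)) hne
          have hlt' : Submodule.restrictScalars F (N ^ (i + 1)) <
              Submodule.restrictScalars F (N ^ i) := by
            exact (Submodule.restrictScalars_lt F).2 hlt
          have := Submodule.finrank_lt_finrank_of_lt hlt'
          omega
  rcases key (Module.finrank F A) with h | h
  · exact h
  · have h0 : Module.finrank F (Submodule.restrictScalars F (N ^ Module.finrank F A)) = 0 := by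
      omega
    rw [Submodule.finrank_eq_zero] at h0
    exact (Submodule.restrictScalars_eq_bot_iff F A A).1 h0

end Groth.Agent.S18387
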