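import Groth.Statements.S18389
-- import your own Groth.Agent.* helpers here
-- import your own Groth.Agent.* helpers here

set_option autoImplicit false
universe u
open LVCorr

namespace Groth.Agent.S18389

open AlgebraicGeometry CategoryTheory in
/-- Let j : C → C̄ be an open immersion with dense image and jX : X → X̄ an open immersion, and let c₁ :
C → X and c̄₁ : C̄ → X̄ satisfy j followed by c̄₁ equals c₁ followed by jX, with c̄₁ separated. Let
U be an open subset of X such that c₁⁻¹(U) is dense in C and the restriction c₁⁻¹(U) → U of c₁ is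
proper. Then c̄₁⁻¹(jX(U)) = j(c₁⁻¹(U)) as open subsets of C̄. (In the source all schemes are
separated of finite type over a field, C̄ and X̄ are compactifications of a correspondence and of X,
so that c̄₁ is automatically separated.) -/
theorem result {C Cb X Xb : Scheme.{u}}
    (j : C ⟶ Cb) [IsOpenImmersion j] (hj : DenseRange j.base)
    (jX : X ⟶ Xb) [IsOpenImmersion jX] (c₁ : C ⟶ X) (cb₁ : Cb ⟶ Xb) [IsSeparated cb₁]
    (h : j ≫ cb₁ = c₁ ≫ jX) (U : X.Opens) (hU : Dense ((c₁ ⁻¹ᵁ U : C.Opens) : Set C))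
    [IsProper (c₁ ∣_ U)] :
    cb₁ ⁻¹ᵁ (jX ''ᵁ U) = j ''ᵁ (c₁ ⁻¹ᵁ U) := by
  set V : C.Opens := c₁ ⁻¹ᵁ U with hV
  set W : Cb.Opens := cb₁ ⁻¹ᵁ (jX ''ᵁ U) with hW
  have hVW : ∀ v : C, v ∈ V → j v ∈ W := by
    intro v hv
    show cb₁ (j v) ∈ jX ''ᵁ U
    have : cb₁ (j v) = jX (c₁ v) := by
      rw [← Scheme.Hom.comp_apply, ← Scheme.Hom.comp_apply, h]
    rw [this]
    exact ⟨c₁ v, hv, rfl⟩
  have hrange : Set.range (V.ι ≫ j) ⊆ Set.range W.ι := by
    rintro _ ⟨v, rfl⟩
    rw [Scheme.Opens.range_ι]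
    exact hVW _ v.2
  let jV : V.toScheme ⟶ W.toScheme := IsOpenImmersion.lift W.ι (V.ι ≫ j) hrange
  have hjV : jV ≫ W.ι = V.ι ≫ j := IsOpenImmersion.lift_fac _ _ _
  have hcomp : jV ≫ (cb₁ ∣_ (jX ''ᵁ U)) = (c₁ ∣_ U) ≫ (jX.isoImage U).hom := by
    rw [← cancel_mono (jX ''ᵁ U).ι, Category.assoc, morphismRestrict_ι, ← Category.assoc, hjV,
      Category.assoc, h, Category.assoc, Scheme.Hom.isoImage_hom_ι, morphismRestrict_ι_assoc]
  have hprop : IsProper (jV ≫ (cb₁ ∣_ (jX ''ᵁ U))) := by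
    rw [hcomp]
    infer_instance
  have hjVprop : IsProper jV := IsProper.of_comp jV (cb₁ ∣_ (jX ''ᵁ U))
  have hclosed : IsClosed (Set.range jV) := jV.isClosedMap.isClosed_range
  have hdenseCb : Dense (j '' (V : Set C)) := hj.dense_image j.continuous hU
  have hpre : W.ι ⁻¹' (j '' (V : Set C)) = Set.range jV := by
    ext w
    constructor
    · rintro ⟨v, hv, hvw⟩
      refine ⟨⟨v, hv⟩, ?_⟩
      apply W.ι.isOpenEmbedding.injective
      rw [← Scheme.Hom.comp_apply, hjV, Scheme.Hom.comp_apply]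
      exact hvw
    · rintro ⟨v, rfl⟩
      refine ⟨V.ι v, v.2, ?_⟩
      rw [← Scheme.Hom.comp_apply, ← Scheme.Hom.comp_apply, hjV]
  have hdense : Dense (Set.range jV) := by
    rw [← hpre]
    exact hdenseCb.preimage W.ι.isOpenEmbedding.isOpenMap
  have huniv : Set.range jV = Set.univ := by
    rw [← hclosed.closure_eq]
    exact hdense.closure_eq
  apply le_antisymm
  · intro w hw
    have : (⟨w, hw⟩ : W) ∈ Set.range jV := by rw [huniv]; trivial
    obtain ⟨v, hv⟩ := this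
    refine ⟨V.ι v, v.2, ?_⟩
    have := congrArg W.ι hv
    rw [← Scheme.Hom.comp_apply, hjV, Scheme.Hom.comp_apply] at this
    exact this
  · rintro _ ⟨v, hv, rfl⟩
    exact hVW v hv

end Groth.Agent.S18389
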