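import Groth.Statements.S18390
-- import your own Groth.Agent.* helpers here
import Mathlib.RingTheory.Finiteness.Ideal
import Mathlib.RingTheory.Ideal.Maps
import Mathlib.Tactic
-- import your own Groth.Agent.* helpers here

set_option autoImplicit false
universe u
open LVCorr

namespace Groth.Agent.S18390

theorem refined_sup_pow {R : Type*} [CommRing R] (L₁ L₂ : Ideal R) :
    ∀ a b : ℕ, (L₁ ⊔ L₂) ^ (a + b) ≤ L₁ ^ a * (L₁ ⊔ L₂) ^ b ⊔ L₂ ^ b * (L₁ ⊔ L₂) ^ a := by
  intro a
  induction a with
  | zero =>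
    intro b
    rw [pow_zero, Ideal.one_eq_top, Ideal.top_mul, zero_add]
    exact le_sup_left
  | succ a iha =>
    intro b
    induction b with
    | zero =>
      rw [pow_zero L₂, Ideal.one_eq_top, Ideal.top_mul, add_zero]
      exact le_sup_right
    | succ b ihb =>
      have h1 : a + 1 + (b + 1) = (a + (b + 1)) + 1 := by ring
      have h2 : a + 1 + b = a + (b + 1) := by ring
      have hL1 : L₁ ≤ L₁ ⊔ L₂ := le_sup_left
      have hL2 : L₂ ≤ L₁ ⊔ L₂ := le_sup_right
      rw [h1, pow_succ']
      nth_rewrite 1 [Ideal.sup_mul]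
      apply sup_le
      · refine (Ideal.mul_mono_right (iha (b + 1))).trans ?_
        rw [Ideal.mul_sup]
        apply sup_le
        · refine le_sup_of_le_left ?_
          rw [← mul_assoc, ← pow_succ']
        · refine le_sup_of_le_right ?_
          calc L₁ * (L₂ ^ (b + 1) * (L₁ ⊔ L₂) ^ a)
              = L₂ ^ (b + 1) * (L₁ * (L₁ ⊔ L₂) ^ a) := by ring
            _ ≤ L₂ ^ (b + 1) * ((L₁ ⊔ L₂) * (L₁ ⊔ L₂) ^ a) :=
                Ideal.mul_mono_right (Ideal.mul_mono_left hL1)
            _ = L₂ ^ (b + 1) * (L₁ ⊔ L₂) ^ (a + 1) := by rw [← pow_succ']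
      · rw [← h2]
        refine (Ideal.mul_mono_right ihb).trans ?_
        rw [Ideal.mul_sup]
        apply sup_le
        · refine le_sup_of_le_left ?_
          calc L₂ * (L₁ ^ (a + 1) * (L₁ ⊔ L₂) ^ b)
              = L₁ ^ (a + 1) * (L₂ * (L₁ ⊔ L₂) ^ b) := by ring
            _ ≤ L₁ ^ (a + 1) * ((L₁ ⊔ L₂) * (L₁ ⊔ L₂) ^ b) :=
                Ideal.mul_mono_right (Ideal.mul_mono_left hL2)
            _ = L₁ ^ (a + 1) * (L₁ ⊔ L₂) ^ (b + 1) := by rw [← pow_succ']
        · refine le_sup_of_le_right ?_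
          rw [← mul_assoc, ← pow_succ']

/-- In the affine, ring-theoretic form which its proof establishes. Let φ : A' → A be a ring
homomorphism, I' a finitely generated ideal of A' and I an ideal of A containing the image of I'.
Then some power I'^k is mapped into I^(k+1) if and only if for every n ≥ 1 and every a ∈ I'^n there
is a k with φ(a)^k ∈ I^(nk+1). (Geometrically, for a morphism f : (X, Z) → (X', Z') of pairs with Z
a closed subscheme of the preimage of Z', the normal cone of Z in X is the spectrum of the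
associated graded algebra of I, and the second condition says that the induced map of normal cones
sends the normal cone of Z set-theoretically into the zero section Z'; the source states the
equivalence in that language.) -/
theorem result (A' A : Type u) [CommRing A'] [CommRing A]
    (φ : A' →+* A) (I' : Ideal A') (hI' : I'.FG) (I : Ideal A) (hle : I'.map φ ≤ I) :
    (∃ k : ℕ, (I' ^ k).map φ ≤ I ^ (k + 1)) ↔
      ∀ n : ℕ, 1 ≤ n → ∀ a ∈ I' ^ n, ∃ k : ℕ, 1 ≤ k ∧ φ a ^ k ∈ I ^ (n * k + 1) := by
  constructor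
  · rintro ⟨k, hk⟩ n hn a ha
    have hK : (I' ^ (k + 1)).map φ ≤ I ^ (k + 1 + 1) := by
      rw [pow_succ' I', Ideal.map_mul, pow_succ' I (k + 1)]
      exact Ideal.mul_mono hle hk
    refine ⟨k + 1, Nat.succ_pos k, ?_⟩
    have h1 : a ^ (k + 1) ∈ (I' ^ (k + 1)) ^ n := by
      rw [← pow_mul, mul_comm, pow_mul]
      exact Ideal.pow_mem_pow ha (k + 1)
    have h2 : φ (a ^ (k + 1)) ∈ ((I' ^ (k + 1)) ^ n).map φ := Ideal.mem_map_of_mem φ h1
    rw [Ideal.map_pow] at h2
    have h3 : ((I' ^ (k + 1)).map φ) ^ n ≤ I ^ (n * (k + 1) + 1) := by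
      refine (Ideal.pow_right_mono hK n).trans ?_
      rw [← pow_mul]
      apply Ideal.pow_le_pow_right
      nlinarith
    rw [map_pow] at h2
    exact h3 h2
  · intro H
    have key : ∀ L : Ideal A', L.FG → L ≤ I' → ∃ K : ℕ, 1 ≤ K ∧ (L ^ K).map φ ≤ I ^ (K + 1) := by
      intro L hL
      refine Submodule.fg_induction (R := A') (M := A')
        (motive := fun L _ => L ≤ I' → ∃ K : ℕ, 1 ≤ K ∧ Ideal.map φ ((L : Ideal A') ^ K) ≤ I ^ (K + 1))
        ?_ ?_ L hL
      · intro x hx
        have hxI : x ∈ I' ^ 1 := by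
          rw [pow_one]
          exact hx (Submodule.mem_span_singleton_self x)
        obtain ⟨k, hk1, hk⟩ := H 1 le_rfl x hxI
        refine ⟨k, hk1, ?_⟩
        rw [one_mul] at hk
        change ((Ideal.span {x}) ^ k).map φ ≤ I ^ (k + 1)
        rw [Ideal.span_singleton_pow, Ideal.map_span, Set.image_singleton, Ideal.span_le,
          Set.singleton_subset_iff, map_pow]
        exact hk
      · intro L₁ L₂ _ _ h₁ h₂ hsup
        obtain ⟨K₁, hK₁, hL₁⟩ := h₁ (le_sup_left.trans hsup)
        obtain ⟨K₂, hK₂, hL₂⟩ := h₂ (le_sup_right.trans hsup)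
        refine ⟨K₁ + K₂, by omega, ?_⟩
        have hS : ∀ m : ℕ, (((L₁ ⊔ L₂ : Ideal A')) ^ m).map φ ≤ I ^ m := by
          intro m
          rw [Ideal.map_pow]
          exact Ideal.pow_right_mono ((Ideal.map_mono hsup).trans hle) m
        refine (Ideal.map_mono (refined_sup_pow L₁ L₂ K₁ K₂)).trans ?_
        rw [Ideal.map_sup, Ideal.map_mul, Ideal.map_mul]
        apply sup_le
        · refine (Ideal.mul_mono hL₁ (hS K₂)).trans ?_
          rw [← pow_add]
          apply Ideal.pow_le_pow_right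
          omega
        · refine (Ideal.mul_mono hL₂ (hS K₁)).trans ?_
          rw [← pow_add]
          apply Ideal.pow_le_pow_right
          omega
    obtain ⟨K, -, hK⟩ := key I' hI' le_rfl
    exact ⟨K, hK⟩

end Groth.Agent.S18390
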