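import Groth.Statements.S18391
-- import your own Groth.Agent.* helpers here
import Mathlib.RingTheory.Ideal.MinimalPrime.Colon
import Mathlib.RingTheory.Finiteness.Ideal
import Mathlib.RingTheory.Localization.Ideal
import Mathlib.RingTheory.Localization.FractionRing
import Mathlib.RingTheory.IntegralClosure.Algebra.Basic
import Mathlib.Tactic
-- import your own Groth.Agent.* helpers here

set_option autoImplicit false
universe u
open LVCorr

namespace Groth.Agent.S18391

/-- Key lemma: in a normal Noetherian domain, a prime of the form `(b : a)` with `b ≠ 0` becomes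
principal after inverting some element outside of it. -/
theorem exists_principal_away
    (A : Type u) [CommRing A] [IsDomain A] [IsNoetherianRing A] [IsIntegrallyClosed A]
    (b : A) (hb : b ≠ 0) (a : A) (p : Ideal A) (hprime : p.IsPrime)
    (hmem : ∀ y, y ∈ p ↔ ∃ z, y * a = z * b) :
    ∃ y ∈ p, ∃ z, z ∉ p ∧ ∀ y' ∈ p, z * y' ∈ Ideal.span {y} := by
  have hbp : b ∈ p := (hmem b).2 ⟨a, mul_comm b a⟩
  have hpbot : p ≠ ⊥ := by
    intro h
    rw [h, Ideal.mem_bot] at hbp
    exact hb hbp
  have h1p : (1 : A) ∉ p := fun h => hprime.ne_top ((Ideal.eq_top_iff_one p).2 h)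
  by_cases hcase : ∀ y ∈ p, ∀ z, y * a = z * b → z ∈ p
  · exfalso
    let K := FractionRing A
    have hbK : algebraMap A K b ≠ 0 := by
      simpa using (IsFractionRing.injective A K).ne hb
    let t : K := algebraMap A K a / algebraMap A K b
    let N : Submodule A K := Submodule.map (Algebra.linearMap A K) p
    have hN : N ≠ ⊥ := by
      intro h
      apply hpbot
      rw [eq_bot_iff]
      intro y hy
      have hyN : algebraMap A K y ∈ N := ⟨y, hy, rfl⟩
      rw [h, Submodule.mem_bot] at hyN
      rw [Ideal.mem_bot]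
      exact IsFractionRing.injective A K (by rw [hyN, map_zero])
    have hNfg : N.FG := Submodule.FG.map _ (IsNoetherian.noetherian p)
    have hint : IsIntegral A t := by
      refine isIntegral_of_smul_mem_submodule N hN hNfg t ?_
      rintro _ ⟨y, hy, rfl⟩
      obtain ⟨z, hz⟩ := (hmem y).1 hy
      refine ⟨z, hcase y hy z hz, ?_⟩
      simp only [Algebra.linearMap_apply, smul_eq_mul, t]
      rw [div_mul_eq_mul_div, eq_div_iff hbK, ← map_mul, ← map_mul, mul_comm a y, hz]
    obtain ⟨w, hw⟩ := IsIntegrallyClosed.isIntegral_iff.1 hint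
    have : a = w * b := by
      apply IsFractionRing.injective A K
      rw [map_mul, hw]
      simp only [t]
      rw [div_mul_cancel₀ _ hbK]
    exact h1p ((hmem 1).2 ⟨w, by rw [one_mul]; exact this⟩)
  · push Not at hcase
    obtain ⟨y, hy, z, hyz, hz⟩ := hcase
    refine ⟨y, hy, z, hz, ?_⟩
    intro y' hy'
    obtain ⟨z', hz'⟩ := (hmem y').1 hy'
    rw [Ideal.mem_span_singleton']
    refine ⟨z', ?_⟩
    apply mul_right_cancel₀ hb
    calc z' * y * b = y * (z' * b) := by ring
      _ = y * (y' * a) := by rw [hz']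
      _ = y' * (y * a) := by ring
      _ = y' * (z * b) := by rw [hyz]
      _ = z * y' * b := by ring

/-- Let A be a normal (integrally closed) Noetherian domain and z an element of A such that the radical
of the principal ideal (z) is prime. Then there exist elements w, t of A and a natural number r,
with w not in the radical of (z), such that in the localization A[1/w] the ideal generated by z
equals the ideal generated by t^r and the ideal generated by t is prime. (The condition on w is the
one the printed proof produces and the later use of the lemma needs.) -/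
theorem result (A : Type u) [CommRing A] [IsDomain A]
    [IsNoetherianRing A] [IsIntegrallyClosed A] (z : A) (hz : (Ideal.span {z}).radical.IsPrime) :
    ∃ (w t : A) (r : ℕ), w ∉ (Ideal.span {z}).radical ∧
      Ideal.span {algebraMap A (Localization.Away w) z} =
        Ideal.span {algebraMap A (Localization.Away w) t ^ r} ∧
      (Ideal.span {algebraMap A (Localization.Away w) t}).IsPrime := by
  classical
  set p := (Ideal.span {z}).radical with hp
  have h1p : (1 : A) ∉ p := fun h => hz.ne_top ((Ideal.eq_top_iff_one p).2 h)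
  by_cases hz0 : z = 0
  · refine ⟨1, 0, 1, h1p, ?_, ?_⟩
    · rw [hz0, map_zero, pow_one]
    · rw [map_zero, Ideal.span_singleton_eq_bot.2 rfl]
      have : IsDomain (Localization.Away (1 : A)) :=
        IsLocalization.isDomain_localization (M := Submonoid.powers (1 : A))
          (by
            rintro _ ⟨n, rfl⟩
            show (1 : A) ^ n ∈ nonZeroDivisors A
            rw [one_pow]
            exact one_mem _)
      exact Ideal.isPrime_bot
  -- z ≠ 0
  have hzp : z ∈ p := Ideal.le_radical (Ideal.mem_span_singleton_self z)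
  have hmin : p ∈ (Ideal.span {z}).minimalPrimes := by
    rw [← Ideal.radical_minimalPrimes, ← hp, Ideal.minimalPrimes_eq_subsingleton_self]
    rfl
  have hcolon : (Ideal.span {z} : Submodule A A).colon {(1 : A)} = Ideal.span {z} := by
    ext y
    rw [Submodule.mem_colon_singleton, smul_eq_mul, mul_one]
  obtain ⟨a, ha⟩ := Submodule.exists_eq_colon_of_mem_minimalPrimes
    (N := (Ideal.span {z} : Submodule A A)) (x := (1 : A)) (I := p) (by rw [hcolon]; exact hmin)
  have hmem : ∀ y, y ∈ p ↔ ∃ c, y * a = c * z := by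
    intro y
    rw [ha, Submodule.mem_colon_singleton, smul_eq_mul]
    show y * a ∈ Ideal.span {z} ↔ _
    rw [Ideal.mem_span_singleton']
    constructor
    · rintro ⟨c, hc⟩; exact ⟨c, hc.symm⟩
    · rintro ⟨c, hc⟩; exact ⟨c, hc.symm⟩
  obtain ⟨t, htp, s₃, hs₃, hs₃p⟩ := exists_principal_away A z hz0 a p hz hmem
  have hs₃0 : s₃ ≠ 0 := fun h => hs₃ (h ▸ p.zero_mem)
  have ht0 : t ≠ 0 := by
    intro h
    have := hs₃p z hzp
    rw [h, Ideal.span_singleton_eq_bot.2 rfl, Ideal.mem_bot] at this
    rcases mul_eq_zero.1 this with h' | h'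
    · exact hs₃0 h'
    · exact hz0 h'
  obtain ⟨n, hn⟩ := Ideal.exists_radical_pow_le_of_fg (Ideal.span {z})
    (IsNoetherian.noetherian _)
  -- the divisibility predicate
  let Q : ℕ → Prop := fun r => ∃ s, s ∉ p ∧ ∃ c, s * z = c * t ^ r
  have hQ0 : Q 0 := ⟨1, h1p, z, by ring⟩
  have hQle : ∀ r, Q r → r ≤ n := by
    rintro r ⟨s, hs, c, hsc⟩
    by_contra hlt
    push Not at hlt
    have htn : t ^ n ∈ Ideal.span {z} := hn (Ideal.pow_mem_pow htp n)
    rw [Ideal.mem_span_singleton'] at htn
    obtain ⟨d, hd⟩ := htn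
    -- s * t^n = c * d * t^r
    have h1 : s * t ^ n = c * d * t ^ (r - n) * t ^ n := by
      have hr : r = (r - n) + n := by omega
      calc s * t ^ n = s * (d * z) := by rw [hd]
        _ = d * (s * z) := by ring
        _ = d * (c * t ^ r) := by rw [hsc]
        _ = d * (c * t ^ ((r - n) + n)) := by rw [← hr]
        _ = c * d * t ^ (r - n) * t ^ n := by rw [pow_add]; ring
    have h2 : s = c * d * t ^ (r - n) := mul_right_cancel₀ (pow_ne_zero n ht0) h1
    apply hs
    rw [h2]
    apply p.mul_mem_left
    have : r - n ≠ 0 := by omega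
    exact Ideal.pow_mem_of_mem p htp _ (Nat.pos_of_ne_zero this)
  set r := Nat.findGreatest Q n with hr
  have hQr : Q r := Nat.findGreatest_spec (Nat.zero_le n) hQ0
  obtain ⟨s, hs, c, hsc⟩ := hQr
  have hc : c ∉ p := by
    intro hcp
    have h1 := hs₃p c hcp
    rw [Ideal.mem_span_singleton'] at h1
    obtain ⟨e, he⟩ := h1
    have hQ' : Q (r + 1) := by
      refine ⟨s₃ * s, fun h => (hz.mem_or_mem h).elim hs₃ hs, e, ?_⟩
      calc s₃ * s * z = s₃ * (s * z) := by ring
        _ = s₃ * (c * t ^ r) := by rw [hsc]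
        _ = (s₃ * c) * t ^ r := by ring
        _ = (e * t) * t ^ r := by rw [he]
        _ = e * t ^ (r + 1) := by rw [pow_succ]; ring
    exact Nat.findGreatest_is_greatest (Nat.lt_succ_self r) (hQle _ hQ') hQ'
  -- the element w
  obtain ⟨w, hw⟩ : ∃ w, w = s * c * s₃ := ⟨_, rfl⟩
  have hwp : w ∉ p := by
    intro h
    rw [hw] at h
    rcases hz.mem_or_mem h with h' | h'
    · rcases hz.mem_or_mem h' with h'' | h''
      · exact hs h''
      · exact hc h''
    · exact hs₃ h'
  refine ⟨w, t, r, hwp, ?_, ?_⟩
  · -- span {z} = span {t^r}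
    set φ := algebraMap A (Localization.Away w) with hφ
    have hwu : IsUnit (φ w) := IsLocalization.Away.algebraMap_isUnit w
    have hwe : φ w = φ s * φ c * φ s₃ := (congrArg φ hw).trans (by rw [map_mul, map_mul])
    rw [hwe] at hwu
    have hsu : IsUnit (φ s) := isUnit_of_mul_isUnit_left (isUnit_of_mul_isUnit_left hwu)
    have hcu : IsUnit (φ c) := isUnit_of_mul_isUnit_right (isUnit_of_mul_isUnit_left hwu)
    have heq : φ s * φ z = φ c * φ t ^ r := by
      rw [← map_pow, ← map_mul, ← map_mul, hsc]
    obtain ⟨us, hus⟩ := hsu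
    obtain ⟨uc, huc⟩ := hcu
    apply le_antisymm
    · rw [Ideal.span_singleton_le_span_singleton]
      refine ⟨↑us⁻¹ * φ c, ?_⟩
      calc φ z = ↑us⁻¹ * (φ s * φ z) := by rw [← hus, ← mul_assoc, Units.inv_mul, one_mul]
        _ = ↑us⁻¹ * (φ c * φ t ^ r) := by rw [heq]
        _ = φ t ^ r * (↑us⁻¹ * φ c) := by ring
    · rw [Ideal.span_singleton_le_span_singleton]
      refine ⟨↑uc⁻¹ * φ s, ?_⟩
      calc φ t ^ r = ↑uc⁻¹ * (φ c * φ t ^ r) := by
            rw [← huc, ← mul_assoc, Units.inv_mul, one_mul]
        _ = ↑uc⁻¹ * (φ s * φ z) := by rw [heq]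
        _ = φ z * (↑uc⁻¹ * φ s) := by ring
  · set φ := algebraMap A (Localization.Away w) with hφ
    have hwu : IsUnit (φ w) := IsLocalization.Away.algebraMap_isUnit w
    have hwe : φ w = φ s * φ c * φ s₃ := (congrArg φ hw).trans (by rw [map_mul, map_mul])
    rw [hwe] at hwu
    have hs₃u : IsUnit (φ s₃) := isUnit_of_mul_isUnit_right hwu
    have hmap : Ideal.span {φ t} = p.map φ := by
      apply le_antisymm
      · rw [Ideal.span_le, Set.singleton_subset_iff]
        exact Ideal.mem_map_of_mem φ htp
      · rw [Ideal.map_le_iff_le_comap]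
        intro y' hy'
        rw [Ideal.mem_comap]
        have h1 := hs₃p y' hy'
        rw [Ideal.mem_span_singleton'] at h1
        obtain ⟨e, he⟩ := h1
        have h2 : φ s₃ * φ y' = φ e * φ t := by rw [← map_mul, ← map_mul, he]
        obtain ⟨u, hu⟩ := hs₃u
        have h3 : φ y' = (↑u⁻¹ * φ e) * φ t := by
          rw [mul_assoc, ← h2, ← hu, ← mul_assoc, Units.inv_mul, one_mul]
        rw [h3]
        exact Ideal.mul_mem_left _ _ (Ideal.mem_span_singleton_self _)
    rw [hmap]
    refine IsLocalization.isPrime_of_isPrime_disjoint (Submonoid.powers w) _ p hz ?_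
    rw [Set.disjoint_left]
    rintro _ ⟨k, rfl⟩ hk
    exact hwp (hz.mem_of_pow_mem k hk)

end Groth.Agent.S18391
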