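import Groth.Statements.S18392
import Mathlib.RingTheory.Ideal.KrullsHeightTheorem
import Mathlib.RingTheory.Ideal.MinimalPrime.Noetherian
-- import your own Groth.Agent.* helpers here

set_option autoImplicit false
universe u
open LVCorr

namespace Groth.Agent.S18392

/-- Let A be a normal (integrally closed) Noetherian domain and z an element of A such that the radical
of (z) is prime. Then for every non-empty open subset V of Spec A contained in the basic open set
D(z) (that is, every non-empty open subset of Spec A[1/z]) there is an element x of A, not in the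
radical of (z), such that the basic open set D(xz) = Spec A[1/xz] is contained in V. -/
theorem result (A : Type u) [CommRing A]
    [IsDomain A] [IsNoetherianRing A] [IsIntegrallyClosed A] (z : A)
    (hz : (Ideal.span {z}).radical.IsPrime) (V : Set (PrimeSpectrum A)) (hV : IsOpen V)
    (hVz : V ⊆ (PrimeSpectrum.basicOpen z : Set (PrimeSpectrum A))) (hne : V.Nonempty) :
    ∃ x : A, x ∉ (Ideal.span {z}).radical ∧
      ((PrimeSpectrum.basicOpen (x * z) : TopologicalSpace.Opens (PrimeSpectrum A)) :
        Set (PrimeSpectrum A)) ⊆ V := by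
  classical
  obtain ⟨q, hqV⟩ := hne
  obtain ⟨_, ⟨g, rfl⟩, hqg, hgV⟩ :=
    PrimeSpectrum.isTopologicalBasis_basic_opens.exists_subset_of_mem_open hqV hV
  have hg0 : g ≠ 0 := by
    rintro rfl
    have : q ∈ PrimeSpectrum.basicOpen (0 : A) := hqg
    rw [PrimeSpectrum.mem_basicOpen] at this
    exact this (Ideal.zero_mem _)
  set P := (Ideal.span {z}).radical with hP
  have hgP : g ∈ P := by
    rw [hP, ← PrimeSpectrum.basicOpen_le_basicOpen_iff]
    exact fun y hy => hVz (hgV hy)
  have hPmin : P ∈ (Ideal.span {z}).minimalPrimes := by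
    refine ⟨⟨hz, Ideal.le_radical⟩, ?_⟩
    rintro Q ⟨hQ, hzQ⟩ -
    exact hQ.radical_le_iff.mpr hzQ
  have hht : P.height ≤ 1 :=
    Ideal.height_le_one_of_isPrincipal_of_mem_minimalPrimes (Ideal.span {z}) P hPmin
  have hfin : (Ideal.span {g}).minimalPrimes.Finite :=
    Ideal.finite_minimalPrimes_of_isNoetherianRing A _
  have key : ∀ Q ∈ (Ideal.span {g}).minimalPrimes, Q ≠ P → ∃ x ∈ Q, x ∉ P := by
    intro Q hQ hQP
    by_contra hcon
    push Not at hcon
    have hQle : Q ≤ P := hcon
    have hQlt : Q < P := lt_of_le_of_ne hQle hQP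
    have := hQ.1.1
    have hlt : Q.height < P.height := Ideal.height_strict_mono_of_isPrime_of_isPrime hQlt
    have h0 : Q.height = 0 := by
      have : Q.height < 1 := lt_of_lt_of_le hlt hht
      exact Order.lt_one_iff.mp this
    rw [Ideal.height_eq_zero_iff, IsDomain.minimalPrimes_eq_singleton_bot] at h0
    have hQbot : Q = ⊥ := h0
    have : g ∈ Q := hQ.1.2 (Ideal.mem_span_singleton_self g)
    rw [hQbot] at this
    exact hg0 this
  choose! xf hxfQ hxfP using key
  refine ⟨∏ Q ∈ hfin.toFinset.filter (· ≠ P), xf Q, ?_, ?_⟩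
  · intro hmem
    obtain ⟨Q, hQ, hx⟩ := (Ideal.IsPrime.prod_mem_iff (hp := hz)).mp hmem
    rw [Finset.mem_filter, Set.Finite.mem_toFinset] at hQ
    exact hxfP Q hQ.1 hQ.2 hx
  · refine subset_trans ?_ hgV
    show (PrimeSpectrum.basicOpen _ : TopologicalSpace.Opens _) ≤ PrimeSpectrum.basicOpen g
    rw [PrimeSpectrum.basicOpen_le_basicOpen_iff, ← Ideal.sInf_minimalPrimes, Ideal.mem_sInf]
    intro Q hQ
    by_cases hQP : Q = P
    · rw [hQP]
      exact Ideal.mul_mem_left _ _ (Ideal.le_radical (Ideal.mem_span_singleton_self z))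
    · apply Ideal.mul_mem_right
      have hmem : Q ∈ hfin.toFinset.filter (· ≠ P) := by
        rw [Finset.mem_filter, Set.Finite.mem_toFinset]; exact ⟨hQ, hQP⟩
      rw [← Finset.mul_prod_erase _ _ hmem]
      exact Ideal.mul_mem_right _ _ (hxfQ Q hQ hQP)

end Groth.Agent.S18392
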