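import Groth.Statements.S18393
-- import your own Groth.Agent.* helpers here

set_option autoImplicit false
universe u v
open LVCorr

namespace Groth.Agent.S18393

/-- Stated for the underlying continuous maps. Let c₁, c₂ : C → X be continuous maps with C a Noetherian
topological space, let Z be a closed subset of X and B the closure in C of c₂⁻¹(Z) ∖ c₁⁻¹(Z). Call Z
locally invariant when every point x of Z has an open neighbourhood U such that every y in C with
c₂(y) ∈ Z ∩ U and c₁(y) ∈ U satisfies c₁(y) ∈ Z. Then Z is locally invariant if and only if for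
every irreducible subset T of B the closures of c₁(T) and of c₂(T) in X are disjoint. (The source
states this for a correspondence c = (c₁, c₂) : C → X × X of separated schemes of finite type over
an algebraically closed field and for the irreducible components of B; the condition for all
irreducible subsets of B is the same condition.) -/
theorem result {C : Type u} {X : Type v}
    [TopologicalSpace C] [TopologicalSpace X] [TopologicalSpace.NoetherianSpace C]
    (c₁ c₂ : C → X) (hc₁ : Continuous c₁) (hc₂ : Continuous c₂) (Z : Set X) (hZ : IsClosed Z) :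
    (∀ x ∈ Z, ∃ U : Set X, IsOpen U ∧ x ∈ U ∧
        ∀ y : C, c₂ y ∈ Z → c₂ y ∈ U → c₁ y ∈ U → c₁ y ∈ Z) ↔
      ∀ T : Set C, T ⊆ closure (c₂ ⁻¹' Z \ c₁ ⁻¹' Z) → IsIrreducible T →
        closure (c₁ '' T) ∩ closure (c₂ '' T) = ∅ := by
  classical
  constructor
  · intro h T hT hTirr
    by_contra hne
    obtain ⟨x, hx1, hx2⟩ := Set.nonempty_iff_ne_empty.mpr hne
    have hTZ : T ⊆ c₂ ⁻¹' Z := by
      refine hT.trans ?_
      refine closure_minimal ?_ (hZ.preimage hc₂)
      exact fun y hy => hy.1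
    have hxZ : x ∈ Z := by
      have : closure (c₂ '' T) ⊆ Z :=
        closure_minimal (by rintro _ ⟨y, hy, rfl⟩; exact hTZ hy) hZ
      exact this hx2
    obtain ⟨U, hUo, hxU, hU⟩ := h x hxZ
    obtain ⟨_, hu1, ⟨y1, hy1T, rfl⟩⟩ := mem_closure_iff.mp hx1 U hUo hxU
    obtain ⟨_, hu2, ⟨y2, hy2T, rfl⟩⟩ := mem_closure_iff.mp hx2 U hUo hxU
    obtain ⟨y, hyT, hy1, hy2⟩ := hTirr.2 (c₁ ⁻¹' U) (c₂ ⁻¹' U) (hUo.preimage hc₁)
      (hUo.preimage hc₂) ⟨y1, hy1T, hu1⟩ ⟨y2, hy2T, hu2⟩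
    obtain ⟨y', ⟨hy'1, hy'2⟩, hy'S⟩ := mem_closure_iff.mp (hT hyT) (c₁ ⁻¹' U ∩ c₂ ⁻¹' U)
      ((hUo.preimage hc₁).inter (hUo.preimage hc₂)) ⟨hy1, hy2⟩
    exact hy'S.2 (hU y' hy'S.1 hy'2 hy'1)
  · intro h x hxZ
    obtain ⟨F, hFfin, hFcl, hFirr, hFU⟩ :=
      TopologicalSpace.NoetherianSpace.exists_finite_set_isClosed_irreducible
        (isClosed_closure : IsClosed (closure (c₂ ⁻¹' Z \ c₁ ⁻¹' Z)))
    let G : Set (Set X) :=
      (fun T => closure (c₁ '' T)) '' {T ∈ F | x ∉ closure (c₁ '' T)} ∪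
        (fun T => closure (c₂ '' T)) '' {T ∈ F | x ∉ closure (c₂ '' T)}
    have hGfin : G.Finite :=
      ((hFfin.subset (Set.sep_subset _ _)).image _).union
        ((hFfin.subset (Set.sep_subset _ _)).image _)
    have hGcl : ∀ t ∈ G, IsClosed t := by
      rintro t (⟨T, -, rfl⟩ | ⟨T, -, rfl⟩) <;> exact isClosed_closure
    refine ⟨(⋃₀ G)ᶜ, (hGfin.isClosed_biUnion hGcl |> fun hc => by
      rw [Set.sUnion_eq_biUnion]; exact hc.isOpen_compl), ?_, ?_⟩
    · rintro ⟨t, (⟨T, hT, rfl⟩ | ⟨T, hT, rfl⟩), hxt⟩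
      · exact hT.2 hxt
      · exact hT.2 hxt
    · intro y hy2Z hy2U hy1U
      by_contra hy1Z
      have hyS : y ∈ closure (c₂ ⁻¹' Z \ c₁ ⁻¹' Z) := subset_closure ⟨hy2Z, hy1Z⟩
      rw [hFU] at hyS
      obtain ⟨T, hTF, hyT⟩ := hyS
      have hTsub : T ⊆ closure (c₂ ⁻¹' Z \ c₁ ⁻¹' Z) := by
        rw [hFU]; exact Set.subset_sUnion_of_mem hTF
      have hdisj := h T hTsub (hFirr T hTF)
      by_cases hx1 : x ∈ closure (c₁ '' T)
      · have hx2 : x ∉ closure (c₂ '' T) := by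
          intro hx2
          have : x ∈ closure (c₁ '' T) ∩ closure (c₂ '' T) := ⟨hx1, hx2⟩
          rw [hdisj] at this
          exact this
        apply hy2U
        exact ⟨closure (c₂ '' T), Or.inr ⟨T, ⟨hTF, hx2⟩, rfl⟩, subset_closure ⟨y, hyT, rfl⟩⟩
      · apply hy1U
        exact ⟨closure (c₁ '' T), Or.inl ⟨T, ⟨hTF, hx1⟩, rfl⟩, subset_closure ⟨y, hyT, rfl⟩⟩

end Groth.Agent.S18393
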