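import Groth.Statements.S18399
import Mathlib.RingTheory.Nakayama
import Mathlib.LinearAlgebra.LinearIndependent.Lemmas
import Mathlib.RingTheory.Noetherian.Basic
import Mathlib.LinearAlgebra.Dimension.Finite
import Mathlib.RingTheory.LocalRing.ResidueField.Basic
-- import your own Groth.Agent.* helpers here

set_option autoImplicit false
universe u
open CAlg

namespace Groth.Agent.S18399

open IsLocalRing in
lemma general {A : Type u} [CommRing A] [IsLocalRing A] [IsNoetherianRing A] (I : Ideal A)
    (hIm : I ≤ maximalIdeal A) (hI2 : I ⊓ (maximalIdeal A)^2 ≤ maximalIdeal A • I) :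
    ∃ (m : ℕ) (f : Fin m → ↥(maximalIdeal A)), Ideal.span (Set.range fun i => (f i : A)) = I ∧
      LinearIndependent (ResidueField A) (fun i => (maximalIdeal A).toCotangent (f i)) := by
  classical
  let s : Set (CotangentSpace A) := (maximalIdeal A).toCotangent '' {x | (x : A) ∈ I}
  obtain ⟨b, hbs, hspan, hli⟩ := exists_linearIndependent (ResidueField A) s
  have hfin : b.Finite := hli.set_finite_of_isNoetherian
  have := hfin.to_subtype
  obtain ⟨m, ⟨eqv⟩⟩ := Finite.exists_equiv_fin b
  have hch : ∀ i : Fin m, ∃ x : maximalIdeal A, (x : A) ∈ I ∧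
      (maximalIdeal A).toCotangent x = (eqv.symm i : CotangentSpace A) := by
    intro i
    obtain ⟨x, hx, hxe⟩ := hbs (eqv.symm i).2
    exact ⟨x, hx, hxe⟩
  choose f hfI hfe using hch
  refine ⟨m, f, ?_, ?_⟩
  · apply le_antisymm
    · rw [Ideal.span_le]; rintro _ ⟨i, rfl⟩; exact hfI i
    · apply Submodule.le_of_le_smul_of_le_jacobson_bot (IsNoetherian.noetherian _)
        (IsLocalRing.jacobson_eq_maximalIdeal _ bot_ne_top).ge
      intro x hx
      have hxs : (maximalIdeal A).toCotangent ⟨x, hIm hx⟩ ∈ Submodule.span (ResidueField A) b := by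
        rw [hspan]; exact Submodule.subset_span ⟨⟨x, hIm hx⟩, hx, rfl⟩
      have hb : b = Set.range (fun i => (maximalIdeal A).toCotangent (f i)) := by
        ext v; constructor
        · intro hv
          refine ⟨eqv ⟨v, hv⟩, ?_⟩
          show (maximalIdeal A).toCotangent (f (eqv ⟨v, hv⟩)) = v
          rw [hfe]; simp
        · rintro ⟨i, rfl⟩
          show (maximalIdeal A).toCotangent (f i) ∈ b
          rw [hfe]; exact (eqv.symm i).2
      rw [hb] at hxs
      obtain ⟨c, hc⟩ := (Submodule.mem_span_range_iff_exists_fun _).mp hxs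
      choose r hr using fun i => IsLocalRing.residue_surjective (c i)
      let y' : maximalIdeal A := ⟨x, hIm hx⟩ - ∑ i, r i • f i
      have hy'coe : (y' : A) = x - ∑ i, r i * (f i : A) := by
        simp [y', smul_eq_mul]
      have hy'0 : (maximalIdeal A).toCotangent y' = 0 := by
        simp only [y', map_sub, map_sum, map_smul]
        rw [← hc, sub_eq_zero]
        refine Finset.sum_congr rfl fun i _ => ?_
        rw [← hr i]
        exact (algebraMap_smul (ResidueField A) (r i) _)
      have hy : x - ∑ i, r i * (f i : A) ∈ I ⊓ (maximalIdeal A)^2 := by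
        refine ⟨I.sub_mem hx (I.sum_mem fun i _ => I.mul_mem_left _ (hfI i)), ?_⟩
        rw [← hy'coe]
        exact (Ideal.toCotangent_eq_zero _ _).mp hy'0
      have hmem := hI2 hy
      have hx' : x = ∑ i, r i * (f i : A) + (x - ∑ i, r i * (f i : A)) := by ring
      rw [hx']
      exact Submodule.add_mem_sup (Ideal.sum_mem _ fun i _ => Ideal.mul_mem_left _ _
        (Ideal.subset_span ⟨i, rfl⟩)) hmem
  · have : (fun i => (maximalIdeal A).toCotangent (f i)) =
        (fun i => ((eqv.symm i : b) : CotangentSpace A)) := funext hfe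
    rw [this]
    exact hli.comp eqv.symm eqv.symm.injective

/-- Let k be a field and A a regular local k-algebra with residue field k (the structure map from k onto
the residue field of A is surjective), let σ be a k-algebra endomorphism of A of finite order n with
n invertible in k, and let I_σ be the ideal of A generated by the elements f - σ f. Then I_σ is
generated by finitely many elements of the maximal ideal whose classes in the cotangent space m/m^2
are linearly independent over the residue field. (Such elements are part of a regular system of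
parameters of A, hence part of a regular sequence, which is the printed conclusion; the generators
with independent classes are what the argument produces.) -/
theorem result {k : Type u} [Field k] {A : Type u} [CommRing A] [Algebra k A] [IsRegularLocalRing A] (hres : Function.Surjective ⇑(algebraMap k (IsLocalRing.ResidueField A))) (σ : A →ₐ[k] A) (n : ℕ) (hσ : ∀ a : A, (⇑σ)^[n] a = a) (hn : (n : k) ≠ 0) : ∃ (m : ℕ) (f : Fin m → ↥(IsLocalRing.maximalIdeal A)), Ideal.span (Set.range fun i : Fin m => (f i : A)) = Ideal.span (Set.range fun a : A => a - σ a) ∧ LinearIndependent (IsLocalRing.ResidueField A) (fun i : Fin m => (IsLocalRing.maximalIdeal A).toCotangent (f i)) := by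
  open IsLocalRing in
  set m := maximalIdeal A with hm
  set I := Ideal.span (Set.range fun a : A => a - σ a) with hI
  have hn0 : n ≠ 0 := by rintro rfl; simp at hn
  have hσm : ∀ a ∈ m, σ a ∈ m := by
    intro a ha
    rw [hm, mem_maximalIdeal, mem_nonunits_iff] at ha ⊢
    intro hu
    apply ha
    have h1 : a = (⇑σ)^[n-1] (σ a) := by
      rw [← Function.iterate_succ_apply, Nat.succ_eq_add_one, Nat.sub_add_cancel (by omega), hσ]
    rw [h1]
    have : ∀ j (u : A), IsUnit u → IsUnit ((⇑σ)^[j] u) := by
      intro j; induction j with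
      | zero => intro u hu; simpa using hu
      | succ j ih => intro u hu; rw [Function.iterate_succ_apply']; exact (ih u hu).map σ
    exact this _ _ hu
  have hconst : ∀ a : A, ∃ c : k, a - algebraMap k A c ∈ m := by
    intro a
    obtain ⟨c, hc⟩ := hres (residue A a)
    refine ⟨c, ?_⟩
    rw [hm, ← residue_eq_zero_iff, map_sub, ← hc, IsScalarTower.algebraMap_apply k A (ResidueField A)]
    exact sub_self _
  have hgen : ∀ a : A, ∃ a' ∈ m, a - σ a = a' - σ a' := by
    intro a; obtain ⟨c, hc⟩ := hconst a
    exact ⟨_, hc, by simp [map_sub, AlgHom.commutes]⟩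
  have hIm : I ≤ m := by
    rw [hI, Ideal.span_le]; rintro _ ⟨a, rfl⟩
    obtain ⟨a', ha', h⟩ := hgen a
    show a - σ a ∈ m
    rw [h]; exact m.sub_mem ha' (hσm a' ha')
  have hσm2 : ∀ a ∈ m^2, σ a ∈ m^2 := by
    intro a ha
    have : Ideal.map σ.toRingHom (m^2) ≤ m^2 := by
      rw [Ideal.map_pow]
      refine Ideal.pow_right_mono (Ideal.map_le_iff_le_comap.mpr fun x hx => ?_) 2
      exact hσm x hx
    exact this (Ideal.mem_map_of_mem _ ha)
  have hF6 : ∀ d ∈ m^2, d - σ d ∈ m • I := by
    intro d hd
    rw [pow_two] at hd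
    rw [smul_eq_mul]
    refine Submodule.mul_induction_on hd ?_ ?_
    · intro p hp q hq
      have : p * q - σ (p * q) = q * (p - σ p) + σ p * (q - σ q) := by rw [map_mul]; ring
      rw [this]
      exact Ideal.add_mem _ (Ideal.mul_mem_mul hq (Ideal.subset_span ⟨p, rfl⟩))
        (Ideal.mul_mem_mul (hσm p hp) (Ideal.subset_span ⟨q, rfl⟩))
    · intro x y hx hy
      have : x + y - σ (x + y) = (x - σ x) + (y - σ y) := by rw [map_add]; ring
      rw [this]; exact Ideal.add_mem _ hx hy
  have hiter : ∀ b ∈ m, b - σ b ∈ m^2 → ∀ i, b - (⇑σ)^[i] b ∈ m^2 := by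
    intro b hb hb2 i
    induction i with
    | zero => simp
    | succ i ih =>
      rw [Function.iterate_succ_apply']
      have : b - σ ((⇑σ)^[i] b) = (b - σ b) + σ (b - (⇑σ)^[i] b) := by rw [map_sub]; ring
      rw [this]; exact Ideal.add_mem _ hb2 (hσm2 _ ih)
  let e : A → A := fun b => (n : k)⁻¹ • ∑ i ∈ Finset.range n, (⇑σ)^[i] b
  have he_fix : ∀ b, σ (e b) = e b := by
    intro b
    simp only [e, map_smul, map_sum]
    congr 1
    have h1 : ∑ i ∈ Finset.range n, σ ((⇑σ)^[i] b) = ∑ i ∈ Finset.range n, (⇑σ)^[i+1] b := by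
      refine Finset.sum_congr rfl fun i _ => ?_
      rw [Function.iterate_succ_apply']
    rw [h1]
    have h2 := Finset.sum_range_succ' (fun i => (⇑σ)^[i] b) n
    have h3 := Finset.sum_range_succ (fun i => (⇑σ)^[i] b) n
    rw [h2] at h3
    simp only [Function.iterate_zero, id_eq, hσ] at h3
    exact add_right_cancel h3
  have he_close : ∀ b ∈ m, b - σ b ∈ m^2 → b - e b ∈ m^2 := by
    intro b hb hb2
    have : b - e b = (n : k)⁻¹ • ∑ i ∈ Finset.range n, (b - (⇑σ)^[i] b) := by
      simp only [e, Finset.sum_sub_distrib, Finset.sum_const, Finset.card_range, smul_sub]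
      rw [← Nat.cast_smul_eq_nsmul k n b, smul_smul, inv_mul_cancel₀ hn, one_smul]
    rw [this, Algebra.smul_def]
    exact Ideal.mul_mem_left _ _ (Ideal.sum_mem _ fun i _ => hiter b hb hb2 i)
  have hA1 : ∀ a ∈ m, a - σ a ∈ m^2 → a - σ a ∈ m • I := by
    intro a ha h2
    have hd := he_close a ha h2
    have : a - σ a = (a - e a) - σ (a - e a) := by rw [map_sub, he_fix]; ring
    rw [this]; exact hF6 _ hd
  have hA2 : ∀ x ∈ I, ∃ a ∈ m, x - (a - σ a) ∈ m • I := by
    intro x hx
    refine Submodule.span_induction ?_ ?_ ?_ ?_ hx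
    · rintro _ ⟨a, rfl⟩
      obtain ⟨a', ha', h⟩ := hgen a
      refine ⟨a', ha', ?_⟩
      show a - σ a - (a' - σ a') ∈ m • I
      rw [h, sub_self]; exact zero_mem _
    · exact ⟨0, zero_mem _, by simp⟩
    · rintro x y _ _ ⟨a, ha, hxa⟩ ⟨b, hb, hyb⟩
      refine ⟨a + b, m.add_mem ha hb, ?_⟩
      have : x + y - (a + b - σ (a + b)) = (x - (a - σ a)) + (y - (b - σ b)) := by
        rw [map_add]; ring
      rw [this]; exact add_mem hxa hyb
    · rintro r x _ ⟨a, ha, hxa⟩
      refine ⟨r * a, m.mul_mem_left _ ha, ?_⟩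
      have : r • x - (r * a - σ (r * a)) = r * (x - (a - σ a)) - σ a * (r - σ r) := by
        rw [map_mul, smul_eq_mul]; ring
      rw [this]
      refine sub_mem (Ideal.mul_mem_left _ _ hxa) ?_
      rw [smul_eq_mul]
      exact Ideal.mul_mem_mul (hσm a ha) (Ideal.subset_span ⟨r, rfl⟩)
  have hI2 : I ⊓ m^2 ≤ m • I := by
    rintro x ⟨hxI, hx2⟩
    obtain ⟨a, ha, hxa⟩ := hA2 x hxI
    have hmI2 : m • I ≤ m^2 := by rw [pow_two, smul_eq_mul]; exact Ideal.mul_mono_right hIm
    have h2 : a - σ a ∈ m^2 := by
      have := Ideal.sub_mem _ hx2 (hmI2 hxa)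
      simpa using this
    have h3 := hA1 a ha h2
    have hx : x = (x - (a - σ a)) + (a - σ a) := by ring
    rw [hx]; exact add_mem hxa h3
  exact general I hIm hI2

end Groth.Agent.S18399
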