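import Groth.Statements.S1840
import Groth.Agent.Lib.Helper29.CycDetG

set_option autoImplicit false
universe u v
open CycDet

namespace Groth.Agent.S1840

open Groth.Agent.Lib.Helper29.CycDetLib

-- AUX BEGIN
section aux

open IsLocalRing

variable {R : Type u} [CommRing R] [IsLocalRing R] {M : Type v} [AddCommGroup M] [Module R M]
  [Module (ResidueField R) M] [IsScalarTower R (ResidueField R) M]

theorem smul_eq_residue_smul (r : R) (x : M) : r • x = residue R r • x := by
  rw [← ResidueField.algebraMap_eq, algebraMap_smul]

theorem isAdmissible_all {l : ℕ} (e : Fin l → M) : IsAdmissible R M e := by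
  intro i r hr
  rw [smul_eq_residue_smul, (residue_eq_zero_iff r).mpr hr, zero_smul]
  exact Submodule.zero_mem _

theorem not_linearIndependent_of_mem {l : ℕ} (e : Fin l → M) (a : Fin l)
    (ha : e a ∈ spanBefore R M e a) : ¬ LinearIndependent (ResidueField R) e := by
  intro hli
  have h1 : e a ∈ Submodule.span (ResidueField R) (e '' {j : Fin l | (j : ℕ) < a}) :=
    Submodule.span_le_restrictScalars R (ResidueField R) _ ha
  exact hli.notMem_span_image (s := {j : Fin l | (j : ℕ) < a}) (by simp) h1

theorem wedge_isDetFun (l : ℕ) :
    IsDetFun R (fun e : Fin l → M => exteriorPower.ιMulti (ResidueField R) l e) where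
  relA := by
    intro e _ a ha
    exact AlternatingMap.map_linearDependent _ e (not_linearIndependent_of_mem e a ha)
  relB := by
    intro e e' _ _ a c hdiff hmem
    set x := e a - (c : R) • e' a with hx
    have h1 : e = Function.update e' a ((residue R (c : R)) • e' a + x) := by
      funext j
      by_cases hj : j = a
      · rw [hj, Function.update_self, hx, ← smul_eq_residue_smul]; abel
      · rw [Function.update_of_ne hj, hdiff j hj]
    have h2 : exteriorPower.ιMulti (ResidueField R) l (Function.update e' a x) = 0 := by
      apply AlternatingMap.map_linearDependent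
      apply not_linearIndependent_of_mem (R := R) _ a
      rw [Function.update_self]
      have : spanBefore R M (Function.update e' a x) a = spanBefore R M e a := by
        apply spanBefore_congr
        intro j hj
        have hja : j ≠ a := fun h => by rw [h] at hj; exact lt_irrefl _ hj
        rw [Function.update_of_ne hja, hdiff j hja]
      rw [this]
      exact hmem
    show exteriorPower.ιMulti (ResidueField R) l e = _
    rw [h1, AlternatingMap.map_update_add, AlternatingMap.map_update_smul, h2, add_zero,
      Function.update_eq_self]
  relC := by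
    intro e a b _ _ hab _
    have hne : a ≠ b := fun h => by rw [h] at hab; omega
    show exteriorPower.ιMulti (ResidueField R) l e + exteriorPower.ιMulti (ResidueField R) l (e ∘ _) = 0
    rw [AlternatingMap.map_swap _ _ hne, add_neg_cancel]

end aux
-- AUX END


/-- Let M be a finite-dimensional vector space over the residue field κ of a local ring R, viewed as an
R-module. There is a κ-linear isomorphism from det_κ(M) to the top exterior power of M sending the
symbol of an admissible tuple (e₁, …, e_l) to e₁ ∧ … ∧ e_l. -/
theorem result (R : Type u) [CommRing R] [IsLocalRing R] (M : Type v) [AddCommGroup M] [Module R M] [Module (IsLocalRing.ResidueField R) M] [IsScalarTower R (IsLocalRing.ResidueField R) M] [Module.Finite (IsLocalRing.ResidueField R) M] : ∃ Φ : CycDet.Det R M ≃ₗ[IsLocalRing.ResidueField R] (⋀[IsLocalRing.ResidueField R]^((Module.length R M).toNat) M), ∀ e : CycDet.Adm R M (Module.length R M).toNat, Φ (CycDet.symbol R M e) = exteriorPower.ιMulti (IsLocalRing.ResidueField R) ((Module.length R M).toNat) e.1 := by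
  have hlenκ : Module.length R M = (Module.finrank (IsLocalRing.ResidueField R) M : ℕ∞) := by
    rw [Module.length_eq_of_surjective (R := IsLocalRing.ResidueField R) (S := R)
      (by rw [IsLocalRing.ResidueField.algebraMap_eq]; exact IsLocalRing.residue_surjective),
      Module.length_eq_finrank]
  have hl : (Module.length R M).toNat = Module.finrank (IsLocalRing.ResidueField R) M := by
    rw [hlenκ, ENat.toNat_coe]
  have hlen : Module.length R M = ((Module.length R M).toNat : ℕ∞) := by
    rw [hl]; exact hlenκ
  obtain ⟨Δ, hΔ, hne, huniv⟩ := exists_universal.{u, v, max u v} R (Module.length R M).toNat M hlen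
  obtain ⟨w, hw⟩ := huniv (DetOfLen R M (Module.length R M).toNat) (symFun R M _)
    (symFun_isDetFun R M _)
  obtain ⟨L, hL⟩ := (wedge_isDetFun (R := R) (M := M) (Module.length R M).toNat).lift
  have hsurj : Function.Surjective L := by
    rw [← LinearMap.range_eq_top, eq_top_iff, ← exteriorPower.ιMulti_span, Submodule.span_le]
    rintro _ ⟨e, rfl⟩
    exact ⟨_, hL ⟨e, isAdmissible_all e⟩⟩
  have hnt : Nontrivial (⋀[IsLocalRing.ResidueField R]^((Module.length R M).toNat) M) := by
    apply Module.nontrivial_of_finrank_pos (R := IsLocalRing.ResidueField R)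
    rw [exteriorPower.finrank_eq, hl, Nat.choose_self]
    exact Nat.one_pos
  have hall : ∀ x : DetOfLen R M (Module.length R M).toNat,
      ∃ t : IsLocalRing.ResidueField R, t • w = x := by
    intro x
    induction x using detOfLen_induction with
    | h0 => exact ⟨0, zero_smul _ _⟩
    | hadd x y hx hy =>
      obtain ⟨r, rfl⟩ := hx
      obtain ⟨s, rfl⟩ := hy
      exact ⟨r + s, add_smul _ _ _⟩
    | hsmul t e =>
      rw [← symFun_of_adm, hw e.1 e.2, smul_smul]
      exact ⟨_, rfl⟩
  have hLw : L w ≠ 0 := by
    intro h0
    obtain ⟨y, hy⟩ := exists_ne (0 : ⋀[IsLocalRing.ResidueField R]^((Module.length R M).toNat) M)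
    obtain ⟨x, rfl⟩ := hsurj y
    obtain ⟨t, rfl⟩ := hall x
    rw [map_smul, h0, smul_zero] at hy
    exact hy rfl
  have hinj : Function.Injective L := by
    rw [← LinearMap.ker_eq_bot, eq_bot_iff]
    intro x hx
    obtain ⟨t, rfl⟩ := hall x
    rw [LinearMap.mem_ker, map_smul, smul_eq_zero] at hx
    rcases hx with h | h
    · rw [h, zero_smul]; exact Submodule.zero_mem _
    · exact absurd h hLw
  exact ⟨LinearEquiv.ofBijective L ⟨hinj, hsurj⟩, fun e => hL e⟩

end Groth.Agent.S1840
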