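import Groth.Statements.S18402
import Groth.Agent.Lib.Helper69.FEtNormal

set_option autoImplicit false
set_option linter.style.haveILetI false
universe u
open Pi1

namespace Groth.Agent.S18402

open AlgebraicGeometry CategoryTheory CategoryTheory.Limits

/-- clopen subsets of the source of a surjective generalizing map with connected fibres come from
subsets of the target that are stable under generization and specialization -/
theorem connected_of_fibres {P Z X : Scheme.{u}} (π' : P ⟶ Z) (p : Z ⟶ X) [Flat π']
    [GeometricallyIrreducible π'] [Flat p] [IsFinite p] [IrreducibleSpace X] [ConnectedSpace Z] :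
    ConnectedSpace P := by
  have hsurj : Function.Surjective π' := π'.surjective
  have hfib : ∀ z : Z, _root_.IsPreconnected (π' ⁻¹' {z}) := by
    intro z
    have : IsIrreducible (π' ⁻¹' {z}) := by
      rw [← π'.range_fiberι, ← Set.image_univ]
      exact (IrreducibleSpace.isIrreducible_univ _).image _ (π'.fiberι _).continuous.continuousOn
    exact this.isConnected.isPreconnected
  haveI : Nonempty P := by
    obtain ⟨z⟩ : Nonempty Z := inferInstance
    obtain ⟨x, -⟩ := hsurj z
    exact ⟨x⟩
  have hgen : GeneralizingMap π' := Flat.generalizingMap π'
  -- saturation of clopen sets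
  have hsat : ∀ A : Set P, IsClopen A → ∀ x y : P, π' x = π' y → x ∈ A → y ∈ A := by
    intro A hA x y hxy hx
    have hsub := (hfib (π' y)).subset_isClopen hA ⟨x, hxy, hx⟩
    exact hsub rfl
  have himgclosed : ∀ A : Set P, IsClopen A → IsClosed (π' '' A) := by
    intro A hA
    have hAgen : StableUnderGeneralization (π' '' A) :=
      hgen.stableUnderGeneralization_image hA.isOpen.stableUnderGeneralization
    have hAcgen : StableUnderGeneralization (π' '' Aᶜ) :=
      hgen.stableUnderGeneralization_image hA.compl.isOpen.stableUnderGeneralization
    have hcompl : (π' '' A)ᶜ = π' '' Aᶜ := by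
      ext z
      constructor
      · intro hz
        obtain ⟨x, rfl⟩ := hsurj z
        exact ⟨x, fun hx => hz ⟨x, hx, rfl⟩, rfl⟩
      · rintro ⟨x, hx, rfl⟩ ⟨y, hy, hxy⟩
        exact hx (hsat A hA y x hxy hy)
    have hfin : (p ⁻¹' {genericPoint X}).Finite := p.finite_preimage_singleton _
    have heq : π' '' A = ⋃ ξ ∈ (p ⁻¹' {genericPoint X}) ∩ (π' '' A), closure ({ξ} : Set Z) := by
      ext z
      simp only [Set.mem_iUnion, exists_prop]
      constructor
      · intro hz
        obtain ⟨ξ, h1, h2⟩ := Groth.Agent.Lib.Helper69.FEtNormal.exists_gen p z
        exact ⟨ξ, ⟨h1, hAgen h2 hz⟩, h2.mem_closure⟩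
      · rintro ⟨ξ, ⟨-, h2⟩, h3⟩
        by_contra hz
        have hz' : z ∈ π' '' Aᶜ := by rw [← hcompl]; exact hz
        have := hAcgen (specializes_iff_mem_closure.mpr h3) hz'
        rw [← hcompl] at this
        exact this h2
    rw [heq]
    exact (hfin.subset Set.inter_subset_left).isClosed_biUnion fun _ _ => isClosed_closure
  haveI : PreconnectedSpace P := by
    rw [preconnectedSpace_iff_clopen]
    intro A hA
    have h1 : IsClopen (π' '' A) := by
      refine ⟨himgclosed A hA, ?_⟩
      have hcompl : (π' '' A)ᶜ = π' '' Aᶜ := by
        ext z
        constructor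
        · intro hz
          obtain ⟨x, rfl⟩ := hsurj z
          exact ⟨x, fun hx => hz ⟨x, hx, rfl⟩, rfl⟩
        · rintro ⟨x, hx, rfl⟩ ⟨y, hy, hxy⟩
          exact hx (hsat A hA y x hxy hy)
      rw [← isClosed_compl_iff, hcompl]
      exact himgclosed Aᶜ hA.compl
    rcases isClopen_iff.mp h1 with h | h
    · left
      rw [Set.image_eq_empty] at h
      exact h
    · right
      rw [Set.eq_univ_iff_forall]
      intro x
      have : π' x ∈ π' '' A := by rw [h]; trivial
      obtain ⟨y, hy, hxy⟩ := this
      exact hsat A hA y x hxy hy
  exact { toNonempty := inferInstance }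


open AlgebraicGeometry CategoryTheory CategoryTheory.Limits in
/-- Let X be an irreducible scheme and π : W ⟶ X a flat morphism whose fibre over every field-valued
point of X is irreducible (so every fibre is geometrically irreducible and π is surjective). Then
for every finite étale cover Z of X with Z connected, the base change of Z along π is connected.
Ranging over all finite étale covers of X, this says that the monodromy group of each cover (the
image of the fundamental group in the permutations of a geometric fibre) is unchanged by pullback
along π. The published statement asserts that equality of monodromy groups, for generically finite,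
generically étale covers between irreducible algebraic stacks. -/
theorem result {X W : Scheme.{u}}
    [IrreducibleSpace X] (π : W ⟶ X) [Flat π] [GeometricallyIrreducible π]
    (Z : FEt.Cat X) [ConnectedSpace Z.left] :
    ConnectedSpace ↥(pullback Z.hom π) := by
  let p : Z.left ⟶ X := Z.hom
  haveI : IsFinite p := Z.prop.1
  haveI : Etale p := Z.prop.2
  exact connected_of_fibres (pullback.fst p π) p

end Groth.Agent.S18402
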