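import Groth.Statements.S18404
import Mathlib.Tactic
import Mathlib.Data.Complex.Basic
import Mathlib.LinearAlgebra.LinearIndependent.Lemmas

set_option autoImplicit false
universe u
open Cubic

namespace Groth.Agent.S18404

open MvPolynomial in
theorem eval_form (k : ℂ) (p : Fin 3 → ℂ) :
    eval p (HesseCubic.form k) = p 0 ^ 3 + p 1 ^ 3 + p 2 ^ 3 - 3 * k * (p 0 * p 1 * p 2) := by
  simp [HesseCubic.form]

theorem key_elim (k x y z a b c : ℂ) (hk : k ^ 3 ≠ 1)
    (E1 : x ^ 3 + y ^ 3 + z ^ 3 - 3 * k * (x * y * z) = 0)
    (E2 : (x ^ 2 * a + y ^ 2 * b + z ^ 2 * c) - k * (y * z * a + x * z * b + x * y * c) = 0)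
    (E3 : (x * a ^ 2 + y * b ^ 2 + z * c ^ 2) - k * (x * b * c + y * a * c + z * a * b) = 0)
    (hu : y * c - z * b ≠ 0 ∨ z * a - x * c ≠ 0 ∨ x * b - y * a ≠ 0) :
    x * y * z = 0 := by
  have hk' : (1 - k ^ 3) ≠ 0 := fun h => hk (by linear_combination -h)
  have h0 : 8 * (1 - k ^ 3) * (x * y * z) * (y * c - z * b) ^ 2 = 0 := by
    linear_combination
      (2 * (2 * ((x * a ^ 2 + y * b ^ 2 + z * c ^ 2) - k * (x * b * c + y * a * c + z * a * b)) * (2 * x)
          - (2 * x * a - k * z * b - k * y * c) ^ 2) + 2 * k ^ 2 * (y * c - z * b) ^ 2) * E1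
      + (-(2 * (2 * ((x ^ 2 * a + y ^ 2 * b + z ^ 2 * c) - k * (y * z * a + x * z * b + x * y * c))) * (2 * x)
          - 2 * (2 * x * a - k * z * b - k * y * c) * (2 * x ^ 2 - 2 * k * y * z))
          + 2 * (2 * x ^ 2 - 2 * k * y * z) * (2 * x * a - k * z * b - k * y * c)) * E2
      + (-2 * (2 * x ^ 2 - 2 * k * y * z) ^ 2) * E3
  have h1 : 8 * (1 - k ^ 3) * (x * y * z) * (z * a - x * c) ^ 2 = 0 := by
    linear_combination
      (2 * (2 * ((x * a ^ 2 + y * b ^ 2 + z * c ^ 2) - k * (x * b * c + y * a * c + z * a * b)) * (2 * y)
          - (2 * y * b - k * z * a - k * x * c) ^ 2) + 2 * k ^ 2 * (z * a - x * c) ^ 2) * E1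
      + (-(2 * (2 * ((x ^ 2 * a + y ^ 2 * b + z ^ 2 * c) - k * (y * z * a + x * z * b + x * y * c))) * (2 * y)
          - 2 * (2 * y * b - k * z * a - k * x * c) * (2 * y ^ 2 - 2 * k * x * z))
          + 2 * (2 * y ^ 2 - 2 * k * x * z) * (2 * y * b - k * z * a - k * x * c)) * E2
      + (-2 * (2 * y ^ 2 - 2 * k * x * z) ^ 2) * E3
  have h2 : 8 * (1 - k ^ 3) * (x * y * z) * (x * b - y * a) ^ 2 = 0 := by
    linear_combination
      (2 * (2 * ((x * a ^ 2 + y * b ^ 2 + z * c ^ 2) - k * (x * b * c + y * a * c + z * a * b)) * (2 * z)
          - (2 * z * c - k * y * a - k * x * b) ^ 2) + 2 * k ^ 2 * (x * b - y * a) ^ 2) * E1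
      + (-(2 * (2 * ((x ^ 2 * a + y ^ 2 * b + z ^ 2 * c) - k * (y * z * a + x * z * b + x * y * c))) * (2 * z)
          - 2 * (2 * z * c - k * y * a - k * x * b) * (2 * z ^ 2 - 2 * k * x * y))
          + 2 * (2 * z ^ 2 - 2 * k * x * y) * (2 * z * c - k * y * a - k * x * b)) * E2
      + (-2 * (2 * z ^ 2 - 2 * k * x * y) ^ 2) * E3
  have h8 : (8 : ℂ) * (1 - k ^ 3) ≠ 0 := mul_ne_zero (by norm_num) hk'
  rcases hu with hu | hu | hu
  · have := mul_eq_zero.mp h0
    rcases this with h | h
    · exact (mul_eq_zero.mp h).resolve_left h8
    · exact absurd ((pow_eq_zero_iff (two_ne_zero)).mp h) hu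
  · have := mul_eq_zero.mp h1
    rcases this with h | h
    · exact (mul_eq_zero.mp h).resolve_left h8
    · exact absurd ((pow_eq_zero_iff (two_ne_zero)).mp h) hu
  · have := mul_eq_zero.mp h2
    rcases this with h | h
    · exact (mul_eq_zero.mp h).resolve_left h8
    · exact absurd ((pow_eq_zero_iff (two_ne_zero)).mp h) hu

open MvPolynomial in
/-- Let k ∈ ℂ with k³ ≠ 1 and let h = X₀³ + X₁³ + X₂³ − 3k·X₀X₁X₂ be the Hesse cubic. For a nonzero
vector v with h(v) = 0, the corresponding point is a flex of the plane curve of h — some line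
through it meets the curve there with multiplicity three, i.e. there is a vector w linearly
independent from v with h(v + t·w) = t³·h(w) for every t — exactly when v is a scalar multiple of
one of the nine vectors (0, 1, −γ), (−γ, 0, 1), (1, −γ, 0) with γ³ = 1. -/
theorem result (k : ℂ) (hk : k ^ 3 ≠ 1) (v : Fin 3 → ℂ) (hv : v ≠ 0)
    (hCv : eval v (HesseCubic.form k) = 0) :
    (∃ w : Fin 3 → ℂ, LinearIndependent ℂ ![v, w] ∧
        ∀ t : ℂ, eval (v + t • w) (HesseCubic.form k) = t ^ 3 * eval w (HesseCubic.form k)) ↔
      ∃ γ c : ℂ, γ ^ 3 = 1 ∧ (v = c • ![0, 1, -γ] ∨ v = c • ![-γ, 0, 1] ∨ v = c • ![1, -γ, 0]) := by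
  classical
  constructor
  · rintro ⟨w, hlin, hw⟩
    rw [LinearIndependent.pair_iff] at hlin
    rw [eval_form] at hCv
    have h1 := hw 1
    have h2 := hw (-1)
    rw [eval_form, eval_form] at h1 h2
    simp only [Pi.add_apply, Pi.smul_apply, smul_eq_mul] at h1 h2
    set x := v 0 with hx
    set y := v 1 with hy
    set z := v 2 with hz
    set a := w 0 with ha
    set b := w 1 with hb
    set c := w 2 with hc
    have E2 : (x ^ 2 * a + y ^ 2 * b + z ^ 2 * c) - k * (y * z * a + x * z * b + x * y * c) = 0 := by
      linear_combination (1 / 6 : ℂ) * h1 - (1 / 6 : ℂ) * h2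
    have E3 : (x * a ^ 2 + y * b ^ 2 + z * c ^ 2) - k * (x * b * c + y * a * c + z * a * b) = 0 := by
      linear_combination (1 / 6 : ℂ) * h1 + (1 / 6 : ℂ) * h2 - (1 / 3 : ℂ) * hCv
    have hu : y * c - z * b ≠ 0 ∨ z * a - x * c ≠ 0 ∨ x * b - y * a ≠ 0 := by
      by_contra hcon
      push Not at hcon
      obtain ⟨u0, u1, u2⟩ := hcon
      have hvne : x ≠ 0 ∨ y ≠ 0 ∨ z ≠ 0 := by
        by_contra h0
        push Not at h0
        apply hv
        funext i
        fin_cases i
        · exact h0.1
        · exact h0.2.1
        · exact h0.2.2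
      rcases hvne with hne | hne | hne
      · have := hlin a (-x) (by
          funext i
          fin_cases i
          · simp only [Pi.add_apply, Pi.smul_apply, smul_eq_mul, Pi.zero_apply]
            change a * x + -x * a = 0
            ring
          · simp only [Pi.add_apply, Pi.smul_apply, smul_eq_mul, Pi.zero_apply]
            change a * y + -x * b = 0
            linear_combination -u2
          · simp only [Pi.add_apply, Pi.smul_apply, smul_eq_mul, Pi.zero_apply]
            change a * z + -x * c = 0
            linear_combination u1)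
        exact hne (neg_eq_zero.mp this.2)
      · have := hlin b (-y) (by
          funext i
          fin_cases i
          · simp only [Pi.add_apply, Pi.smul_apply, smul_eq_mul, Pi.zero_apply]
            change b * x + -y * a = 0
            linear_combination u2
          · simp only [Pi.add_apply, Pi.smul_apply, smul_eq_mul, Pi.zero_apply]
            change b * y + -y * b = 0
            ring
          · simp only [Pi.add_apply, Pi.smul_apply, smul_eq_mul, Pi.zero_apply]
            change b * z + -y * c = 0
            linear_combination -u0)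
        exact hne (neg_eq_zero.mp this.2)
      · have := hlin c (-z) (by
          funext i
          fin_cases i
          · simp only [Pi.add_apply, Pi.smul_apply, smul_eq_mul, Pi.zero_apply]
            change c * x + -z * a = 0
            linear_combination -u1
          · simp only [Pi.add_apply, Pi.smul_apply, smul_eq_mul, Pi.zero_apply]
            change c * y + -z * b = 0
            linear_combination u0
          · simp only [Pi.add_apply, Pi.smul_apply, smul_eq_mul, Pi.zero_apply]
            change c * z + -z * c = 0
            ring)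
        exact hne (neg_eq_zero.mp this.2)
    have hxyz := key_elim k x y z a b c hk hCv E2 E3 hu
    have hsum : x ^ 3 + y ^ 3 + z ^ 3 = 0 := by linear_combination hCv + 3 * k * hxyz
    have hvext : ∀ p : Fin 3 → ℂ, p 0 = x → p 1 = y → p 2 = z → v = p := by
      intro p p0 p1 p2
      funext i
      fin_cases i
      · exact p0.symm
      · exact p1.symm
      · exact p2.symm
    rcases mul_eq_zero.mp hxyz with hxy | hz0
    · rcases mul_eq_zero.mp hxy with hx0 | hy0
      · have hyne : y ≠ 0 := by
          intro hy0
          have : z ^ 3 = 0 := by rw [hx0, hy0] at hsum; simpa using hsum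
          have hz0 : z = 0 := pow_eq_zero_iff (by norm_num) |>.mp this
          apply hv
          rw [hvext 0 hx0.symm hy0.symm hz0.symm]
        refine ⟨-z / y, y, ?_, Or.inl ?_⟩
        · field_simp
          rw [hx0] at hsum
          linear_combination -hsum
        · apply hvext
          · simp [hx0]
          · simp
          · simp only [Pi.smul_apply, smul_eq_mul]
            change y * -(-z / y) = z
            field_simp
      · have hzne : z ≠ 0 := by
          intro hz0
          have : x ^ 3 = 0 := by rw [hy0, hz0] at hsum; simpa using hsum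
          have hx0 : x = 0 := pow_eq_zero_iff (by norm_num) |>.mp this
          apply hv
          rw [hvext 0 hx0.symm hy0.symm hz0.symm]
        refine ⟨-x / z, z, ?_, Or.inr (Or.inl ?_)⟩
        · field_simp
          rw [hy0] at hsum
          linear_combination -hsum
        · apply hvext
          · simp only [Pi.smul_apply, smul_eq_mul]
            change z * -(-x / z) = x
            field_simp
          · simp [hy0]
          · simp
    · have hxne : x ≠ 0 := by
        intro hx0
        have : y ^ 3 = 0 := by rw [hx0, hz0] at hsum; simpa using hsum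
        have hy0 : y = 0 := pow_eq_zero_iff (by norm_num) |>.mp this
        apply hv
        rw [hvext 0 hx0.symm hy0.symm hz0.symm]
      refine ⟨-y / x, x, ?_, Or.inr (Or.inr ?_)⟩
      · field_simp
        rw [hz0] at hsum
        linear_combination -hsum
      · apply hvext
        · simp
        · simp only [Pi.smul_apply, smul_eq_mul]
          change x * -(-y / x) = y
          field_simp
        · simp [hz0]
  · rintro ⟨γ, c, hγ, hcase⟩
    have hc : c ≠ 0 := by
      intro hc0
      apply hv
      rcases hcase with h | h | h <;> rw [h, hc0, zero_smul]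
    rcases hcase with h | h | h
    · refine ⟨![1, -(k * γ), 0], ?_, ?_⟩
      · rw [LinearIndependent.pair_iff]
        intro s t hst
        have e0 := congrFun hst 0
        have e1 := congrFun hst 1
        rw [h] at e0 e1
        simp at e0 e1
        subst e0
        simp at e1
        exact ⟨e1.resolve_right hc, rfl⟩
      · intro t
        rw [eval_form, eval_form, h]
        simp
        linear_combination (-(c ^ 3)) * hγ
    · refine ⟨![0, 1, -(k * γ)], ?_, ?_⟩
      · rw [LinearIndependent.pair_iff]
        intro s t hst
        have e1 := congrFun hst 1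
        have e2 := congrFun hst 2
        rw [h] at e1 e2
        simp at e1 e2
        subst e1
        simp at e2
        exact ⟨e2.resolve_right hc, rfl⟩
      · intro t
        rw [eval_form, eval_form, h]
        simp
        linear_combination (-(c ^ 3)) * hγ
    · refine ⟨![-(k * γ), 0, 1], ?_, ?_⟩
      · rw [LinearIndependent.pair_iff]
        intro s t hst
        have e0 := congrFun hst 0
        have e2 := congrFun hst 2
        rw [h] at e0 e2
        simp at e0 e2
        subst e2
        simp at e0
        exact ⟨e0.resolve_right hc, rfl⟩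
      · intro t
        rw [eval_form, eval_form, h]
        simp
        linear_combination (-(c ^ 3)) * hγ

end Groth.Agent.S18404
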