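import Groth.Statements.S18405
import Groth.Agent.Lib.Helper18.CubicHesse
import Groth.Agent.S18404

set_option autoImplicit false
universe u
open Cubic

namespace Groth.Agent.S18405

section helpers
open MvPolynomial Groth.Agent.Lib.Helper18.Cubic

theorem exists_omega : ∃ ω : ℂ, ω ^ 2 + ω + 1 = 0 := by
  obtain ⟨ω, hω⟩ := IsAlgClosed.exists_root (Polynomial.X ^ 2 + Polynomial.X + 1 : Polynomial ℂ)
    (by
      have : (Polynomial.X ^ 2 + Polynomial.X + 1 : Polynomial ℂ).degree = 2 := by compute_degree!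
      rw [this]; norm_num)
  refine ⟨ω, ?_⟩
  simpa using hω

theorem quad_zero (p q r ω : ℂ) (hω : ω ^ 2 + ω + 1 = 0) (h1 : p + q + r = 0)
    (h2 : p + q * ω + r * ω ^ 2 = 0) (h3 : p + q * ω ^ 2 + r * (ω ^ 2) ^ 2 = 0) :
    p = 0 ∧ q = 0 ∧ r = 0 := by
  have h3' : (3 : ℂ) ≠ 0 := by norm_num
  have hω3 : ω ^ 3 = 1 := by linear_combination (ω - 1) * hω
  have hp : p = 0 := by
    have : 3 * p = 0 := by
      linear_combination h1 + h2 + h3 - q * hω - r * hω - r * ω * hω3
    simpa [h3'] using this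
  have hq : q = 0 := by
    have : 3 * q = 0 := by
      linear_combination h1 + ω ^ 2 * h2 + ω * h3 - p * hω - 2 * q * hω3 - r * hω - r * (ω + ω ^ 2) * hω3
    simpa [h3'] using this
  have hr : r = 0 := by
    subst hp hq
    simpa using h1
  exact ⟨hp, hq, hr⟩

theorem scalar_of_fix (A : Matrix (Fin 3) (Fin 3) ℂ)
    (h : ∀ γ : ℂ, γ ^ 3 = 1 → (∃ d : ℂ, A.mulVec ![0, 1, -γ] = d • ![0, 1, -γ]) ∧
      (∃ d : ℂ, A.mulVec ![-γ, 0, 1] = d • ![-γ, 0, 1])) :
    ∃ c : ℂ, A = c • (1 : Matrix (Fin 3) (Fin 3) ℂ) := by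
  obtain ⟨ω, hω⟩ := exists_omega
  have hω3 : ω ^ 3 = 1 := by linear_combination (ω - 1) * hω
  have hω6 : (ω ^ 2) ^ 3 = 1 := by linear_combination (ω ^ 3 + 1) * hω3
  have key1 : ∀ γ : ℂ, γ ^ 3 = 1 → A 0 1 - γ * A 0 2 = 0 ∧
      A 2 1 + (A 1 1 - A 2 2) * γ + (- A 1 2) * γ ^ 2 = 0 := by
    intro γ hγ
    obtain ⟨⟨d, hd⟩, -⟩ := h γ hγ
    have e0 := congrFun hd 0
    have e1 := congrFun hd 1
    have e2 := congrFun hd 2
    simp [Matrix.mulVec, dotProduct, Fin.sum_univ_three] at e0 e1 e2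
    refine ⟨by linear_combination e0, ?_⟩
    linear_combination e2 + γ * e1
  have key2 : ∀ γ : ℂ, γ ^ 3 = 1 → - γ * A 1 0 + A 1 2 = 0 ∧
      A 0 2 + (A 2 2 - A 0 0) * γ + (- A 2 0) * γ ^ 2 = 0 := by
    intro γ hγ
    obtain ⟨-, ⟨d, hd⟩⟩ := h γ hγ
    have e0 := congrFun hd 0
    have e1 := congrFun hd 1
    have e2 := congrFun hd 2
    simp [Matrix.mulVec, dotProduct, Fin.sum_univ_three] at e0 e1 e2
    refine ⟨by linear_combination e1, ?_⟩
    linear_combination e0 + γ * e2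
  have a1 := key1 1 (by norm_num)
  have a2 := key1 ω hω3
  have a3 := key1 (ω ^ 2) hω6
  have b1 := key2 1 (by norm_num)
  have b2 := key2 ω hω3
  have b3 := key2 (ω ^ 2) hω6
  obtain ⟨p1, p2, p3⟩ := quad_zero _ _ _ ω hω (by simpa using a1.2) a2.2 a3.2
  obtain ⟨q1, q2, q3⟩ := quad_zero _ _ _ ω hω (by simpa using b1.2) b2.2 b3.2
  obtain ⟨r1, r2, r3⟩ := quad_zero (A 0 1) (- A 0 2) 0 ω hω (by linear_combination a1.1)
    (by linear_combination a2.1) (by linear_combination a3.1)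
  obtain ⟨s1, s2, s3⟩ := quad_zero (A 1 2) (- A 1 0) 0 ω hω (by linear_combination b1.1)
    (by linear_combination b2.1) (by linear_combination b3.1)
  refine ⟨A 0 0, ?_⟩
  ext i j
  fin_cases i <;> fin_cases j <;> simp
  · exact r1
  · linear_combination q1
  · linear_combination -s2
  · linear_combination p2 + q2
  · linear_combination -p3
  · linear_combination -q3
  · exact p1
  · linear_combination q2

theorem main (f : MvPolynomial (Fin 3) ℂ) (hf : f.IsHomogeneous 3)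
    (hsm : ∀ v : Fin 3 → ℂ, v ≠ 0 → eval v f = 0 → ∃ i : Fin 3, eval v (pderiv i f) ≠ 0)
    (A : Matrix (Fin 3) (Fin 3) ℂ) (hfix : ∀ v : Fin 3 → ℂ, v ≠ 0 → eval v f = 0 →
      (∃ w : Fin 3 → ℂ, LinearIndependent ℂ ![v, w] ∧ ∀ t : ℂ, eval (v + t • w) f = t ^ 3 * eval w f) →
      ∃ d : ℂ, A.mulVec v = d • v) :
    ∃ c : ℂ, A = c • (1 : Matrix (Fin 3) (Fin 3) ℂ) := by
  obtain ⟨B, k, c₀, hB, hk, hc₀, hH⟩ := exists_hesse hf hsm
  have hH' : ∀ x : Fin 3 → ℂ, eval (B.mulVec x) f = c₀ * eval x (HesseCubic.form k) := by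
    intro x
    rw [hH, Groth.Agent.S18404.eval_form]
  have hBinj := mulVec_injective_of_isUnit_det B hB
  have step : ∀ u : Fin 3 → ℂ, u ≠ 0 → eval u (HesseCubic.form k) = 0 →
      (∃ γ c : ℂ, γ ^ 3 = 1 ∧ (u = c • ![0, 1, -γ] ∨ u = c • ![-γ, 0, 1] ∨ u = c • ![1, -γ, 0])) →
      ∃ d : ℂ, (B⁻¹ * A * B).mulVec u = d • u := by
    intro u hu hCu hex
    obtain ⟨w, hli, hw⟩ := (Groth.Agent.S18404.result k hk u hu hCu).2 hex
    have hv : B.mulVec u ≠ 0 := by
      intro h0
      apply hu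
      apply hBinj
      rw [h0, Matrix.mulVec_zero]
    have hfv : eval (B.mulVec u) f = 0 := by rw [hH', hCu, mul_zero]
    have hli' : LinearIndependent ℂ ![B.mulVec u, B.mulVec w] := by
      have := hli.map' (Matrix.mulVecLin B) (by
        rw [LinearMap.ker_eq_bot]
        exact hBinj)
      have e : ![B.mulVec u, B.mulVec w] = ⇑(Matrix.mulVecLin B) ∘ ![u, w] := by
        ext i j
        fin_cases i <;> simp
      rw [e]
      exact this
    have hw' : ∀ t : ℂ, eval (B.mulVec u + t • B.mulVec w) f = t ^ 3 * eval (B.mulVec w) f := by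
      intro t
      rw [← Matrix.mulVec_smul, ← Matrix.mulVec_add, hH', hH', hw]
      ring
    obtain ⟨d, hd⟩ := hfix (B.mulVec u) hv hfv ⟨B.mulVec w, hli', hw'⟩
    refine ⟨d, ?_⟩
    rw [← Matrix.mulVec_mulVec, ← Matrix.mulVec_mulVec, hd, Matrix.mulVec_smul,
      Matrix.mulVec_mulVec, Matrix.nonsing_inv_mul B hB, Matrix.one_mulVec]
  obtain ⟨c, hc⟩ := scalar_of_fix (B⁻¹ * A * B) (by
    intro γ hγ
    have h1 : eval ![0, 1, -γ] (HesseCubic.form k) = 0 := by
      rw [Groth.Agent.S18404.eval_form]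
      simp
      linear_combination -hγ
    have h2 : eval ![-γ, 0, 1] (HesseCubic.form k) = 0 := by
      rw [Groth.Agent.S18404.eval_form]
      simp
      linear_combination -hγ
    refine ⟨step _ ?_ h1 ⟨γ, 1, hγ, Or.inl (by simp)⟩, step _ ?_ h2 ⟨γ, 1, hγ, Or.inr (Or.inl (by simp))⟩⟩
    · intro h0
      have := congrFun h0 1
      simp at this
    · intro h0
      have := congrFun h0 2
      simp at this)
  refine ⟨c, ?_⟩
  have : A = B * (B⁻¹ * A * B) * B⁻¹ := by
    rw [Matrix.mul_assoc, Matrix.mul_assoc, Matrix.mul_nonsing_inv B hB, Matrix.mul_one,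
      ← Matrix.mul_assoc, Matrix.mul_nonsing_inv B hB, Matrix.one_mul]
  rw [this, hc]
  simp [Matrix.mul_nonsing_inv B hB]

end helpers

open MvPolynomial in
/-- Let f be a nonzero homogeneous cubic in three variables over ℂ whose plane curve is smooth (at every
nonzero zero of f some partial derivative is nonzero), and let A be an invertible matrix whose
linear substitution X_i ↦ Σ_j A_ij X_j multiplies f by a constant, so that v ↦ A·v is a projective
automorphism of the curve. If A·v is proportional to v for every flex v of the curve (every nonzero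
zero v of f through which some line meets the curve with multiplicity three: there is w linearly
independent from v with f(v + t·w) = t³·f(w) for all t), then A is a scalar matrix: the projective
automorphisms of a smooth plane cubic act faithfully on its flexes. -/
theorem result (f : MvPolynomial (Fin 3) ℂ) (hf : f.IsHomogeneous 3)
    (hf0 : f ≠ 0) (hsm : ∀ v : Fin 3 → ℂ, v ≠ 0 → eval v f = 0 → ∃ i : Fin 3, eval v (pderiv i f) ≠ 0)
    (A : Matrix (Fin 3) (Fin 3) ℂ) (hA : IsUnit A.det)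
    (hAf : ∃ c : ℂ, aeval (fun i : Fin 3 => ∑ j : Fin 3, C (A i j) * X j) f = C c * f)
    (hfix : ∀ v : Fin 3 → ℂ, v ≠ 0 → eval v f = 0 →
      (∃ w : Fin 3 → ℂ, LinearIndependent ℂ ![v, w] ∧ ∀ t : ℂ, eval (v + t • w) f = t ^ 3 * eval w f) →
      ∃ d : ℂ, A.mulVec v = d • v) :
    ∃ c : ℂ, A = c • (1 : Matrix (Fin 3) (Fin 3) ℂ) := by
  exact main f hf hsm A hfix

end Groth.Agent.S18405
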