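import Groth.Statements.S18407
import Groth.Agent.Lib.Helper32.CubicEckardt

set_option autoImplicit false
universe u
open Cubic

namespace Groth.Agent.S18407

open MvPolynomial in
/-- Let f be a nonzero homogeneous cubic in four variables over ℂ whose surface S = V_+(f) ⊂ P³ is
smooth (at every nonzero zero of f some partial derivative is nonzero); a line on S is a
2-dimensional subspace of ℂ⁴ on which f vanishes, and an Eckardt point of S is a nonzero vector
lying on three distinct lines on S. If e is an Eckardt point of S, there is exactly one involutory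
matrix A (A² = 1) whose +1-eigenspace is a hyperplane and with A·e = −e, such that the substitution
X_i ↦ Σ_j A_ij X_j multiplies f by a constant — that is, a projective involution preserving S whose
fixed locus is the disjoint union of a plane and the point of e. (Normalising A² = 1 and A·e = −e
singles out one matrix in the class of the involution.) -/
theorem result (f : MvPolynomial (Fin 4) ℂ) (hf : f.IsHomogeneous 3)
    (hf0 : f ≠ 0) (hsm : ∀ v : Fin 4 → ℂ, v ≠ 0 → eval v f = 0 → ∃ i : Fin 4, eval v (pderiv i f) ≠ 0)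
    (e : Fin 4 → ℂ) (he : e ≠ 0)
    (hE : (∃ U : Fin 3 → Submodule ℂ (Fin 4 → ℂ), Function.Injective U ∧
        ∀ i : Fin 3, Module.finrank ℂ ↥(U i) = 2 ∧ e ∈ U i ∧ ∀ u ∈ U i, eval u f = 0)) :
    ∃! A : Matrix (Fin 4) (Fin 4) ℂ, A * A = 1 ∧ Module.finrank ℂ ↥(LinearMap.ker (Matrix.toLin' A - LinearMap.id)) = 3 ∧
        A.mulVec e = -e ∧ ∃ c : ℂ, aeval (fun i : Fin 4 => ∑ j : Fin 4, C (A i j) * X j) f = C c * f := by
  have hE' : Groth.Agent.Lib.Helper32.Cubic.IsEckardt f e := hE
  have hFe := hE'.eval_eq_zero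
  have hL := Groth.Agent.Lib.Helper32.Cubic.Lp_ne_zero hf hsm e he hFe
  have hQK := Groth.Agent.Lib.Helper32.Cubic.eckardt_Q_zero hf (by simp) e he hE' hL
  obtain ⟨M, hM⟩ := Groth.Agent.Lib.Helper32.Cubic.exists_M f e hQK hL
  have hMe := Groth.Agent.Lib.Helper32.Cubic.M_apply_self hf e hFe hL M hM
  have hφe : ((1 / 2 : ℂ) • M) e = 1 := by
    rw [LinearMap.smul_apply, hMe, smul_eq_mul]
    norm_num
  have hQφ : ∀ x, Groth.Agent.Lib.Helper32.Cubic.Qp f e x
      = 2 * ((1 / 2 : ℂ) • M) x * Groth.Agent.Lib.Helper32.Cubic.Lp f e x := by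
    intro x
    rw [hM x, LinearMap.smul_apply, smul_eq_mul]
    ring
  refine ⟨Groth.Agent.Lib.Helper32.Cubic.reflMat e ((1 / 2 : ℂ) • M),
    ⟨Groth.Agent.Lib.Helper32.Cubic.reflMat_mul_self e _ hφe, ?_, ?_, 1, ?_⟩, ?_⟩
  · have := Groth.Agent.Lib.Helper32.Cubic.reflMat_finrank e he _ hφe
    rw [Fintype.card_fin] at this
    omega
  · rw [Groth.Agent.Lib.Helper32.Cubic.reflMat_mulVec, hφe]
    ext i
    simp only [Pi.sub_apply, Pi.smul_apply, Pi.neg_apply, smul_eq_mul]
    ring
  · rw [Groth.Agent.Lib.Helper32.Cubic.aeval_matrix_eq_iff]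
    intro x
    rw [Groth.Agent.Lib.Helper32.Cubic.reflMat_mulVec,
      Groth.Agent.Lib.Helper32.Cubic.eval_refl_eq hf e hFe _ hQφ, one_mul]
  · rintro A' ⟨-, hfin, hAe, c, hc⟩
    obtain ⟨φ', hφ'e, hA'x⟩ := Groth.Agent.Lib.Helper32.Cubic.exists_phi_of_matrix A' e he
      (by rw [hfin, Fintype.card_fin]) hAe
    have hfun := (Groth.Agent.Lib.Helper32.Cubic.aeval_matrix_eq_iff A' f c).mp hc
    have hkey := Groth.Agent.Lib.Helper32.Cubic.key hf hf0 hsm e hFe φ' hφ'e
      (by rw [Fintype.card_fin]; norm_num) c (fun x => by rw [← hA'x]; exact hfun x)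
    have hφ := Groth.Agent.Lib.Helper32.Cubic.phi_unique f e hL φ' _ hkey.2 hQφ
    apply Groth.Agent.Lib.Helper32.Cubic.matrix_eq_of_mulVec_eq
    intro x
    rw [hA'x, Groth.Agent.Lib.Helper32.Cubic.reflMat_mulVec, hφ]

end Groth.Agent.S18407
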