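import Groth.Statements.S18408
import Groth.Agent.Lib.Helper32.CubicBinary

set_option autoImplicit false
universe u
open Cubic

namespace Groth.Agent.S18408

open Groth.Agent.Lib.Helper32.Cubic

theorem injective_three {α : Type*} (a b c : α) (hab : a ≠ b) (hac : a ≠ c) (hbc : b ≠ c) :
    Function.Injective ![a, b, c] := by
  intro i j hij
  fin_cases i <;> fin_cases j <;> simp_all

theorem finrank_span_pair (e c : Fin 4 → ℂ) (he0 : e ≠ 0) (hce : c ∉ Submodule.span ℂ {e}) :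
    Module.finrank ℂ ↥(Submodule.span ℂ {e, c}) = 2 := by
  have hli : LinearIndependent ℂ ![e, c] := by
    rw [LinearIndependent.pair_iff' he0]
    intro a ha
    apply hce
    rw [Submodule.mem_span_singleton]
    exact ⟨a, ha⟩
  have hfr := finrank_span_eq_card hli
  rw [Fintype.card_fin] at hfr
  have hrange : Set.range ![e, c] = {e, c} := by
    ext z
    simp only [Set.mem_range, Set.mem_insert_iff, Set.mem_singleton_iff]
    constructor
    · rintro ⟨i, rfl⟩
      fin_cases i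
      · left; rfl
      · right; rfl
    · rintro (rfl | rfl)
      · exact ⟨0, rfl⟩
      · exact ⟨1, rfl⟩
  rw [hrange] at hfr
  exact hfr

open MvPolynomial in
theorem finrank_W (f : MvPolynomial (Fin 4) ℂ) (hf : f.IsHomogeneous 3) (p : Fin 4 → ℂ)
    (hFp : eval p f = 0) (φ : (Fin 4 → ℂ) →ₗ[ℂ] ℂ) (hφp : φ p = 1) (hL : ∃ w, Lp f p w ≠ 0) :
    Module.finrank ℂ ↥(LinearMap.ker (Lp f p) ⊓ LinearMap.ker φ) = 2 := by
  obtain ⟨w, hw⟩ := hL
  have hLp : Lp f p p = 0 := by rw [Lp_self hf, hFp, mul_zero]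
  rw [← LinearMap.ker_prod]
  have h1 := LinearMap.finrank_range_add_finrank_ker ((Lp f p).prod φ)
  have hsurj : Function.Surjective ((Lp f p).prod φ) := by
    rintro ⟨a, b⟩
    refine ⟨(a / Lp f p w) • w + (b - (a / Lp f p w) * φ w) • p, ?_⟩
    rw [LinearMap.prod_apply]
    apply Prod.ext
    · show Lp f p ((a / Lp f p w) • w + (b - (a / Lp f p w) * φ w) • p) = a
      rw [map_add, map_smul, map_smul, hLp, smul_eq_mul, smul_eq_mul]
      field_simp
      ring
    · show φ ((a / Lp f p w) • w + (b - (a / Lp f p w) * φ w) • p) = b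
      rw [map_add, map_smul, map_smul, hφp, smul_eq_mul, smul_eq_mul]
      ring
  rw [LinearMap.range_eq_top.mpr hsurj, finrank_top] at h1
  simp only [Module.finrank_prod, Module.finrank_self, Module.finrank_fintype_fun_eq_card,
    Fintype.card_fin] at h1
  omega

open MvPolynomial in
theorem nondeg (f : MvPolynomial (Fin 4) ℂ) (hf : f.IsHomogeneous 3)
    (hsm : ∀ v : Fin 4 → ℂ, v ≠ 0 → eval v f = 0 → ∃ i : Fin 4, eval v (pderiv i f) ≠ 0)
    (p : Fin 4 → ℂ) (hFp : eval p f = 0) (φ : (Fin 4 → ℂ) →ₗ[ℂ] ℂ) (hφp : φ p = 1)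
    (hQφ : ∀ x, Qp f p x = 2 * φ x * Lp f p x) (hL : ∃ w, Lp f p w ≠ 0)
    (u : Fin 4 → ℂ) (huW : u ∈ LinearMap.ker (Lp f p) ⊓ LinearMap.ker φ) (hu0 : u ≠ 0)
    (hFu : eval u f = 0) :
    ∃ w ∈ LinearMap.ker (Lp f p) ⊓ LinearMap.ker φ, Lp f u w ≠ 0 := by
  by_contra hcon
  push Not at hcon
  have hLu : Lp f p u = 0 := huW.1
  have hφu : φ u = 0 := huW.2
  have hLpp : Lp f p p = 0 := by rw [Lp_self hf, hFp, mul_zero]
  obtain ⟨w0, hw0⟩ := hL
  obtain ⟨w1, hLw1⟩ : ∃ w1, Lp f p w1 = 1 := by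
    refine ⟨(1 / Lp f p w0) • w0, ?_⟩
    rw [map_smul, smul_eq_mul]
    field_simp
  have hup : Lp f u p = 0 := by
    rw [← Qp_eq_grad, hQφ, hφu]
    ring
  have hall : ∀ y, Lp f u y = Lp f u w1 * Lp f p y := by
    intro y
    obtain ⟨y', hy'⟩ : ∃ y' : Fin 4 → ℂ, y' = y - (Lp f p y) • w1 := ⟨_, rfl⟩
    obtain ⟨y'', hy''⟩ : ∃ y'' : Fin 4 → ℂ, y'' = y' - (φ y') • p := ⟨_, rfl⟩
    have hy''W : y'' ∈ LinearMap.ker (Lp f p) ⊓ LinearMap.ker φ := by
      refine Submodule.mem_inf.mpr ⟨?_, ?_⟩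
      · rw [LinearMap.mem_ker, hy'', hy', map_sub, map_sub, map_smul, map_smul, hLw1, hLpp]
        simp
      · rw [LinearMap.mem_ker, hy'', map_sub, map_smul, hφp]
        simp
    have h0 := hcon y'' hy''W
    have hy : y = y'' + (φ y') • p + (Lp f p y) • w1 := by
      rw [hy'', hy']
      abel
    conv_lhs => rw [hy]
    rw [map_add, map_add, map_smul, map_smul, h0, hup]
    simp only [smul_eq_mul]
    ring
  obtain ⟨t, ht⟩ := IsAlgClosed.exists_eq_mul_self (-(Lp f u w1))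
  have hv0 : (1 : ℂ) • u + t • p ≠ 0 := by
    intro h0
    have h1 := congrArg φ h0
    rw [map_add, map_smul, map_smul, hφu, hφp, map_zero] at h1
    have ht0 : t = 0 := by
      simp only [smul_eq_mul] at h1
      linear_combination h1
    rw [ht0, zero_smul, add_zero, one_smul] at h0
    exact hu0 h0
  have hFv : eval ((1 : ℂ) • u + t • p) f = 0 := by
    rw [one_smul, taylor hf, hFu, hFp, hQφ, hφu, hLu]
    ring
  obtain ⟨y, hy⟩ := Lp_ne_zero hf hsm _ hv0 hFv
  apply hy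
  rw [Lp_add_smul, PhiF_swap12, polar_eq f p φ hQφ, hφu, hLu, hall y]
  linear_combination (-(Lp f p y)) * ht

open MvPolynomial in
/-- Let f be a nonzero homogeneous cubic in four variables over ℂ whose surface S = V_+(f) ⊂ P³ is
smooth (at every nonzero zero of f some partial derivative is nonzero); a line on S is a
2-dimensional subspace of ℂ⁴ on which f vanishes, and an Eckardt point of S is a nonzero vector
lying on three distinct lines on S. Let A be an involutory matrix (A² = 1) whose +1-eigenspace is a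
hyperplane and with A·p = −p, such that the substitution X_i ↦ Σ_j A_ij X_j multiplies f by a
constant — that is, a projective involution preserving S whose fixed locus is the disjoint union of
a plane and the point of p, where p is a nonzero vector on S. Then p is an Eckardt point of S. -/
theorem result (f : MvPolynomial (Fin 4) ℂ) (hf : f.IsHomogeneous 3)
    (hf0 : f ≠ 0) (hsm : ∀ v : Fin 4 → ℂ, v ≠ 0 → eval v f = 0 → ∃ i : Fin 4, eval v (pderiv i f) ≠ 0)
    (A : Matrix (Fin 4) (Fin 4) ℂ) (p : Fin 4 → ℂ) (hp : p ≠ 0) (hfp : eval p f = 0)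
    (hA : A * A = 1 ∧ Module.finrank ℂ ↥(LinearMap.ker (Matrix.toLin' A - LinearMap.id)) = 3 ∧
        A.mulVec p = -p ∧ ∃ c : ℂ, aeval (fun i : Fin 4 => ∑ j : Fin 4, C (A i j) * X j) f = C c * f) :
    (∃ U : Fin 3 → Submodule ℂ (Fin 4 → ℂ), Function.Injective U ∧
        ∀ i : Fin 3, Module.finrank ℂ ↥(U i) = 2 ∧ p ∈ U i ∧ ∀ u ∈ U i, eval u f = 0) := by
  obtain ⟨φ, hφp, hAx, hFA, hQφ⟩ := matrix_data hf hf0 hsm (by simp) p hp hfp A hA
  have hL := Lp_ne_zero hf hsm p hp hfp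
  have hW := finrank_W f hf p hfp φ hφp hL
  obtain ⟨u₁, u₂, u₃, hu₁W, hu₂W, hu₃W, hu₁0, hu₂0, hu₃0, hF₁, hF₂, hF₃, h21, h31, h32⟩ :=
    three_zeros hf _ hW (nondeg f hf hsm p hfp φ hφp hQφ hL)
  have hnotmem : ∀ u : Fin 4 → ℂ, u ∈ LinearMap.ker (Lp f p) ⊓ LinearMap.ker φ → u ≠ 0 →
      u ∉ Submodule.span ℂ {p} := by
    intro u huW hu0 h
    obtain ⟨c, rfl⟩ := Submodule.mem_span_singleton.mp h
    have h1 : φ (c • p) = 0 := huW.2
    rw [map_smul, hφp, smul_eq_mul, mul_one] at h1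
    apply hu0
    rw [h1, zero_smul]
  have hline : ∀ u : Fin 4 → ℂ, u ∈ LinearMap.ker (Lp f p) ⊓ LinearMap.ker φ → eval u f = 0 →
      ∀ v ∈ Submodule.span ℂ {p, u}, eval v f = 0 := by
    intro u huW hFu v hv
    obtain ⟨s, t, rfl⟩ := Submodule.mem_span_pair.mp hv
    have hLu : Lp f p u = 0 := huW.1
    have hφu : φ u = 0 := huW.2
    rw [eval_pair' hf, hfp, hFu, hLu, ← Qp_eq_grad, hQφ, hφu]
    ring
  have hne : ∀ u u' : Fin 4 → ℂ, u ∈ LinearMap.ker (Lp f p) ⊓ LinearMap.ker φ →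
      u' ∈ LinearMap.ker (Lp f p) ⊓ LinearMap.ker φ → u' ∉ Submodule.span ℂ {u} →
      Submodule.span ℂ {p, u} ≠ Submodule.span ℂ {p, u'} := by
    intro u u' huW hu'W hnot heq
    apply hnot
    have hmem : u' ∈ Submodule.span ℂ {p, u} := by
      rw [heq]
      exact Submodule.subset_span (by simp)
    obtain ⟨s, t, hst⟩ := Submodule.mem_span_pair.mp hmem
    have h1 := congrArg φ hst
    have hφu : φ u = 0 := huW.2
    have hφu' : φ u' = 0 := hu'W.2
    rw [map_add, map_smul, map_smul, hφp, hφu, hφu'] at h1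
    have hs0 : s = 0 := by
      simp only [smul_eq_mul] at h1
      linear_combination h1
    rw [hs0, zero_smul, zero_add] at hst
    rw [Submodule.mem_span_singleton]
    exact ⟨t, hst⟩
  refine ⟨![Submodule.span ℂ {p, u₁}, Submodule.span ℂ {p, u₂}, Submodule.span ℂ {p, u₃}],
    injective_three _ _ _ (hne u₁ u₂ hu₁W hu₂W h21) (hne u₁ u₃ hu₁W hu₃W h31)
      (hne u₂ u₃ hu₂W hu₃W h32), ?_⟩
  intro i
  fin_cases i
  · exact ⟨finrank_span_pair p u₁ hp (hnotmem u₁ hu₁W hu₁0), Submodule.subset_span (by simp),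
      hline u₁ hu₁W hF₁⟩
  · exact ⟨finrank_span_pair p u₂ hp (hnotmem u₂ hu₂W hu₂0), Submodule.subset_span (by simp),
      hline u₂ hu₂W hF₂⟩
  · exact ⟨finrank_span_pair p u₃ hp (hnotmem u₃ hu₃W hu₃0), Submodule.subset_span (by simp),
      hline u₃ hu₃W hF₃⟩

end Groth.Agent.S18408
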