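import Groth.Statements.S18409
import Groth.Agent.Lib.Helper32.CubicLines

set_option autoImplicit false
universe u
open Cubic

namespace Groth.Agent.S18409

open MvPolynomial in
/-- Let f be a nonzero homogeneous cubic in four variables over ℂ whose surface S = V_+(f) ⊂ P³ is
smooth (at every nonzero zero of f some partial derivative is nonzero); a line on S is a
2-dimensional subspace of ℂ⁴ on which f vanishes, and an Eckardt point of S is a nonzero vector
lying on three distinct lines on S. Let e and e′ be Eckardt points of S that are not proportional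
and let L be their span, a plane in ℂ⁴, i.e. the line of P³ through the two points. Then exactly one
of the two cases occurs: either f vanishes identically on L (the line lies on S), or L contains a
third Eckardt point e″, proportional to neither e nor e′, and every zero of f in L is proportional
to e, e′ or e″ (the line meets S in exactly three points, all Eckardt points). -/
theorem result (f : MvPolynomial (Fin 4) ℂ) (hf : f.IsHomogeneous 3)
    (hf0 : f ≠ 0) (hsm : ∀ v : Fin 4 → ℂ, v ≠ 0 → eval v f = 0 → ∃ i : Fin 4, eval v (pderiv i f) ≠ 0)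
    (e e' : Fin 4 → ℂ) (he : e ≠ 0) (he' : e' ∉ Submodule.span ℂ {e})
    (hE : (∃ U : Fin 3 → Submodule ℂ (Fin 4 → ℂ), Function.Injective U ∧
        ∀ i : Fin 3, Module.finrank ℂ ↥(U i) = 2 ∧ e ∈ U i ∧ ∀ u ∈ U i, eval u f = 0))
    (hE' : (∃ U : Fin 3 → Submodule ℂ (Fin 4 → ℂ), Function.Injective U ∧
        ∀ i : Fin 3, Module.finrank ℂ ↥(U i) = 2 ∧ e' ∈ U i ∧ ∀ u ∈ U i, eval u f = 0)) :
    Xor (∀ u ∈ Submodule.span ℂ {e, e'}, eval u f = 0)
      (∃ e'' : Fin 4 → ℂ, e'' ∈ Submodule.span ℂ {e, e'} ∧ e'' ∉ Submodule.span ℂ {e} ∧ e'' ∉ Submodule.span ℂ {e'} ∧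
        (∃ U : Fin 3 → Submodule ℂ (Fin 4 → ℂ), Function.Injective U ∧
        ∀ i : Fin 3, Module.finrank ℂ ↥(U i) = 2 ∧ e'' ∈ U i ∧ ∀ u ∈ U i, eval u f = 0) ∧
        ∀ u ∈ Submodule.span ℂ {e, e'}, eval u f = 0 →
          u ∈ Submodule.span ℂ {e} ∨ u ∈ Submodule.span ℂ {e'} ∨ u ∈ Submodule.span ℂ {e''}) := by
  have hE1 : Groth.Agent.Lib.Helper32.Cubic.IsEckardt f e := hE
  have hE2 : Groth.Agent.Lib.Helper32.Cubic.IsEckardt f e' := hE'
  have hFe := hE1.eval_eq_zero
  have hFe' := hE2.eval_eq_zero
  obtain ⟨φ, hφe, hQφ⟩ := Groth.Agent.Lib.Helper32.Cubic.eckardt_phi hf hsm (by simp) e he hE1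
  have hind := Groth.Agent.Lib.Helper32.Cubic.linearIndependent_pair_of_not_mem he he'
  have hpair := Groth.Agent.Lib.Helper32.Cubic.eval_pair hf e e' hFe hFe'
  have hba : Groth.Agent.Lib.Helper32.Cubic.Lp f e' e
      = 2 * φ e' * Groth.Agent.Lib.Helper32.Cubic.Lp f e e' := by
    have := hQφ e'
    rwa [Groth.Agent.Lib.Helper32.Cubic.Qp_eq_grad] at this
  by_cases ha0 : Groth.Agent.Lib.Helper32.Cubic.Lp f e e' = 0
  · have hb0 : Groth.Agent.Lib.Helper32.Cubic.Lp f e' e = 0 := by rw [hba, ha0, mul_zero]
    left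
    have hzero : ∀ u ∈ Submodule.span ℂ {e, e'}, eval u f = 0 := by
      intro u hu
      obtain ⟨s, t, rfl⟩ := Submodule.mem_span_pair.mp hu
      rw [hpair, ha0, hb0]
      ring
    refine ⟨hzero, ?_⟩
    rintro ⟨e'', -, -, -, -, hz⟩
    have hk : ∀ k : ℂ, k ≠ 0 → ∃ c : ℂ, c • e'' = e + k • e' := by
      intro k hk
      have hmem : e + k • e' ∈ Submodule.span ℂ {e, e'} :=
        Submodule.mem_span_pair.mpr ⟨1, k, by simp⟩
      rcases hz _ hmem (hzero _ hmem) with h | h | h
      · exfalso
        obtain ⟨c, hc⟩ := Submodule.mem_span_singleton.mp h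
        have h0 : (1 - c) • e + k • e' = 0 := by
          rw [sub_smul, one_smul, hc]
          abel
        exact hk (hind _ _ h0).2
      · exfalso
        obtain ⟨c, hc⟩ := Submodule.mem_span_singleton.mp h
        have h0 : (1 : ℂ) • e + (k - c) • e' = 0 := by
          rw [sub_smul, one_smul, hc]
          abel
        exact one_ne_zero (hind _ _ h0).1
      · exact Submodule.mem_span_singleton.mp h
    obtain ⟨c1, hc1⟩ := hk 1 one_ne_zero
    obtain ⟨c2, hc2⟩ := hk 2 two_ne_zero
    have h0 : (c2 - c1) • e + (c2 - 2 * c1) • e' = 0 := by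
      have h3 : c2 • (c1 • e'') = c1 • (c2 • e'') := smul_comm c2 c1 e''
      rw [hc1, hc2] at h3
      have h4 : (c2 - c1) • e + (c2 - 2 * c1) • e' = c2 • (e + (1 : ℂ) • e') - c1 • (e + (2 : ℂ) • e') := by
        simp only [sub_smul, smul_add, smul_smul, mul_one, mul_comm c1 2, one_smul]
        abel
      rw [h4, h3, sub_self]
    have h5 := hind _ _ h0
    have hc10 : c1 = 0 := by linear_combination h5.1 - h5.2
    rw [hc10, zero_smul] at hc1
    have h6 : (1 : ℂ) • e + (1 : ℂ) • e' = 0 := by
      rw [one_smul]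
      exact hc1.symm
    exact one_ne_zero (hind _ _ h6).1
  · have hb0 : Groth.Agent.Lib.Helper32.Cubic.Lp f e' e ≠ 0 := by
      obtain ⟨φ', _, hQφ'⟩ := Groth.Agent.Lib.Helper32.Cubic.eckardt_phi hf hsm (by simp) e'
        (by rintro rfl; exact he' (Submodule.zero_mem _)) hE2
      intro hb0
      apply ha0
      have := hQφ' e
      rw [Groth.Agent.Lib.Helper32.Cubic.Qp_eq_grad, hb0, mul_zero] at this
      exact this
    have hφe' : φ e' ≠ 0 := by
      intro h
      apply hb0
      rw [hba, h]
      ring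
    right
    refine ⟨⟨Groth.Agent.Lib.Helper32.Cubic.refl e φ e', ?_, ?_, ?_, ?_, ?_⟩, ?_⟩
    · rw [Groth.Agent.Lib.Helper32.Cubic.refl_apply]
      refine Submodule.mem_span_pair.mpr ⟨-(2 * φ e'), 1, ?_⟩
      rw [one_smul, neg_smul]
      abel
    · intro h
      obtain ⟨c, hc⟩ := Submodule.mem_span_singleton.mp h
      rw [Groth.Agent.Lib.Helper32.Cubic.refl_apply] at hc
      have h0 : (c + 2 * φ e') • e + (-1 : ℂ) • e' = 0 := by
        rw [add_smul, hc]
        simp
      have := (hind _ _ h0).2
      norm_num at this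
    · intro h
      obtain ⟨c, hc⟩ := Submodule.mem_span_singleton.mp h
      rw [Groth.Agent.Lib.Helper32.Cubic.refl_apply] at hc
      have h0 : (2 * φ e') • e + (c - 1) • e' = 0 := by
        rw [sub_smul, hc]
        simp
      have := (hind _ _ h0).1
      apply hφe'
      linear_combination (1 / 2) * this
    · exact hE2.map _ (Groth.Agent.Lib.Helper32.Cubic.refl_involutive e φ hφe)
        (Groth.Agent.Lib.Helper32.Cubic.eval_refl_apply hf e hFe φ hQφ)
    · intro u hu hFu
      obtain ⟨s, t, rfl⟩ := Submodule.mem_span_pair.mp hu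
      rw [hpair, hba] at hFu
      have hfact : s * t * (s + 2 * t * φ e') * Groth.Agent.Lib.Helper32.Cubic.Lp f e e' = 0 := by
        linear_combination hFu
      rcases mul_eq_zero.mp hfact with h1 | h1
      · rcases mul_eq_zero.mp h1 with h2 | h2
        · rcases mul_eq_zero.mp h2 with h3 | h3
          · right; left
            rw [h3, zero_smul, zero_add]
            exact Submodule.smul_mem _ _ (Submodule.mem_span_singleton_self e')
          · left
            rw [h3, zero_smul, add_zero]
            exact Submodule.smul_mem _ _ (Submodule.mem_span_singleton_self e)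
        · right; right
          rw [Submodule.mem_span_singleton]
          refine ⟨t, ?_⟩
          rw [Groth.Agent.Lib.Helper32.Cubic.refl_apply]
          have hs : s = -(2 * t * φ e') := by linear_combination h2
          rw [hs, smul_sub, smul_smul, neg_smul]
          have : t * (2 * φ e') = 2 * t * φ e' := by ring
          rw [this]
          abel
      · exact absurd h1 ha0
    · intro hall
      have h1 := hall (1 • e + 1 • e') (Submodule.mem_span_pair.mpr ⟨1, 1, rfl⟩)
      have h2 := hall ((1 : ℂ) • e + (-1 : ℂ) • e') (Submodule.mem_span_pair.mpr ⟨1, -1, rfl⟩)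
      rw [hpair] at h1 h2
      apply ha0
      linear_combination (1 / 2) * h1 - (1 / 2) * h2

end Groth.Agent.S18409
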