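import Groth.Statements.S18410
import Groth.Agent.Lib.Helper32.CubicConj

set_option autoImplicit false
universe u
open Cubic

namespace Groth.Agent.S18410

open Groth.Agent.Lib.Helper32.Cubic MvPolynomial in
theorem polar_eq (f : MvPolynomial (Fin 4) ℂ) (e : Fin 4 → ℂ) (φ : (Fin 4 → ℂ) →ₗ[ℂ] ℂ)
    (hQ : ∀ x, Qp f e x = 2 * φ x * Lp f e x) (x y : Fin 4 → ℂ) :
    PhiF f e x y = 2 * φ x * Lp f e y + 2 * φ y * Lp f e x := by
  have h := Qp_add f e x y
  rw [hQ, hQ, hQ, map_add, map_add] at h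
  linear_combination -h

open MvPolynomial in
/-- Let f be a nonzero homogeneous cubic in four variables over ℂ whose surface S = V_+(f) ⊂ P³ is
smooth (at every nonzero zero of f some partial derivative is nonzero); a line on S is a
2-dimensional subspace of ℂ⁴ on which f vanishes, and an Eckardt point of S is a nonzero vector
lying on three distinct lines on S. Let e, e′ be non-proportional Eckardt points of S such that f
vanishes on their span (the line joining them lies on S), and let A, A′ be their Eckardt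
involutions: an involutory matrix A (A² = 1) whose +1-eigenspace is a hyperplane and with A·e = −e,
such that the substitution X_i ↦ Σ_j A_ij X_j multiplies f by a constant — that is, a projective
involution preserving S whose fixed locus is the disjoint union of a plane and the point of e, and
likewise A′ for e′. Then the two involutions commute as projective transformations (A·A′ is a scalar
multiple of A′·A) and each fixes the other point (A·e′ is proportional to e′ and A′·e to e). -/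
theorem result (f : MvPolynomial (Fin 4) ℂ) (hf : f.IsHomogeneous 3)
    (hf0 : f ≠ 0) (hsm : ∀ v : Fin 4 → ℂ, v ≠ 0 → eval v f = 0 → ∃ i : Fin 4, eval v (pderiv i f) ≠ 0)
    (e e' : Fin 4 → ℂ) (he : e ≠ 0) (he' : e' ∉ Submodule.span ℂ {e})
    (hE : (∃ U : Fin 3 → Submodule ℂ (Fin 4 → ℂ), Function.Injective U ∧
        ∀ i : Fin 3, Module.finrank ℂ ↥(U i) = 2 ∧ e ∈ U i ∧ ∀ u ∈ U i, eval u f = 0))
    (hE' : (∃ U : Fin 3 → Submodule ℂ (Fin 4 → ℂ), Function.Injective U ∧
        ∀ i : Fin 3, Module.finrank ℂ ↥(U i) = 2 ∧ e' ∈ U i ∧ ∀ u ∈ U i, eval u f = 0))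
    (hL : ∀ u ∈ Submodule.span ℂ {e, e'}, eval u f = 0)
    (A A' : Matrix (Fin 4) (Fin 4) ℂ)
    (hA : A * A = 1 ∧ Module.finrank ℂ ↥(LinearMap.ker (Matrix.toLin' A - LinearMap.id)) = 3 ∧
        A.mulVec e = -e ∧ ∃ c : ℂ, aeval (fun i : Fin 4 => ∑ j : Fin 4, C (A i j) * X j) f = C c * f)
    (hA' : A' * A' = 1 ∧ Module.finrank ℂ ↥(LinearMap.ker (Matrix.toLin' A' - LinearMap.id)) = 3 ∧
        A'.mulVec e' = -e' ∧ ∃ c : ℂ, aeval (fun i : Fin 4 => ∑ j : Fin 4, C (A' i j) * X j) f = C c * f) :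
    (∃ c : ℂ, A * A' = c • (A' * A)) ∧ (∃ d : ℂ, A.mulVec e' = d • e') ∧ (∃ d : ℂ, A'.mulVec e = d • e) := by
  have hE1 : Groth.Agent.Lib.Helper32.Cubic.IsEckardt f e := hE
  have hE2 : Groth.Agent.Lib.Helper32.Cubic.IsEckardt f e' := hE'
  have hFe := hE1.eval_eq_zero
  have hFe' := hE2.eval_eq_zero
  have he'0 : e' ≠ 0 := by
    rintro rfl
    exact he' (Submodule.zero_mem _)
  obtain ⟨φ, hφe, hAx, hFA, hQφ⟩ :=
    Groth.Agent.Lib.Helper32.Cubic.matrix_data hf hf0 hsm (by simp) e he hFe A hA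
  obtain ⟨φ', hφ'e', hA'x, hFA', hQφ'⟩ :=
    Groth.Agent.Lib.Helper32.Cubic.matrix_data hf hf0 hsm (by simp) e' he'0 hFe' A' hA'
  have hind := Groth.Agent.Lib.Helper32.Cubic.linearIndependent_pair_of_not_mem he he'
  have hpair := Groth.Agent.Lib.Helper32.Cubic.eval_pair hf e e' hFe hFe'
  have h1 := hL ((1 : ℂ) • e + (1 : ℂ) • e') (Submodule.mem_span_pair.mpr ⟨1, 1, rfl⟩)
  have h2 := hL ((1 : ℂ) • e + (-1 : ℂ) • e') (Submodule.mem_span_pair.mpr ⟨1, -1, rfl⟩)
  rw [hpair] at h1 h2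
  have ha0 : Groth.Agent.Lib.Helper32.Cubic.Lp f e e' = 0 := by
    linear_combination (1 / 2) * h1 - (1 / 2) * h2
  have hb0 : Groth.Agent.Lib.Helper32.Cubic.Lp f e' e = 0 := by
    linear_combination (1 / 2) * h1 + (1 / 2) * h2
  have hLe := Groth.Agent.Lib.Helper32.Cubic.Lp_ne_zero hf hsm e he hFe
  have hLe' := Groth.Agent.Lib.Helper32.Cubic.Lp_ne_zero hf hsm e' he'0 hFe'
  have hP1 : ∀ y, Groth.Agent.Lib.Helper32.Cubic.PhiF f e e' y
      = 2 * φ e' * Groth.Agent.Lib.Helper32.Cubic.Lp f e y := by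
    intro y
    rw [polar_eq f e φ hQφ, ha0]
    ring
  have hP2 : ∀ y, Groth.Agent.Lib.Helper32.Cubic.PhiF f e e' y
      = 2 * φ' e * Groth.Agent.Lib.Helper32.Cubic.Lp f e' y := by
    intro y
    rw [Groth.Agent.Lib.Helper32.Cubic.PhiF_swap12, polar_eq f e' φ' hQφ', hb0]
    ring
  have hstar : ∀ y, φ e' * Groth.Agent.Lib.Helper32.Cubic.Lp f e y
      = φ' e * Groth.Agent.Lib.Helper32.Cubic.Lp f e' y := by
    intro y
    linear_combination (1 / 2) * (hP2 y) - (1 / 2) * (hP1 y)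
  have hφe' : φ e' = 0 := by
    by_contra hμ
    have hν : φ' e ≠ 0 := by
      intro hν
      obtain ⟨w, hw⟩ := hLe
      have := hstar w
      rw [hν, zero_mul] at this
      rcases mul_eq_zero.mp this with h | h
      · exact hμ h
      · exact hw h
    obtain ⟨s, hs⟩ := Groth.Agent.Lib.Helper32.Cubic.exists_quadratic_root 1 (2 * φ e')
      (φ e' / φ' e) one_ne_zero
    have hv0 : s • e + (1 : ℂ) • e' ≠ 0 := by
      intro h0
      exact one_ne_zero (hind _ _ h0).2
    have hFv : eval (s • e + (1 : ℂ) • e') f = 0 :=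
      hL _ (Submodule.mem_span_pair.mpr ⟨s, 1, rfl⟩)
    obtain ⟨w, hw⟩ := Groth.Agent.Lib.Helper32.Cubic.Lp_ne_zero hf hsm _ hv0 hFv
    apply hw
    rw [Groth.Agent.Lib.Helper32.Cubic.Lp_add_smul, hP1 w]
    have h3 : Groth.Agent.Lib.Helper32.Cubic.Lp f e' w
        = (φ e' / φ' e) * Groth.Agent.Lib.Helper32.Cubic.Lp f e w := by
      have := hstar w
      rw [div_mul_eq_mul_div, eq_div_iff hν]
      linear_combination -this
    rw [h3]
    linear_combination (Groth.Agent.Lib.Helper32.Cubic.Lp f e w) * hs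
  have hφ'e : φ' e = 0 := by
    obtain ⟨w, hw⟩ := hLe'
    have := hstar w
    rw [hφe', zero_mul] at this
    rcases mul_eq_zero.mp this.symm with h | h
    · exact h
    · exact absurd h hw
  have hAe' : A.mulVec e' = e' := by
    rw [hAx, hφe']
    simp
  have hA'e : A'.mulVec e = e := by
    rw [hA'x, hφ'e]
    simp
  refine ⟨⟨1, ?_⟩, ⟨1, by rw [one_smul]; exact hAe'⟩, ⟨1, by rw [one_smul]; exact hA'e⟩⟩
  rw [one_smul]
  apply Groth.Agent.Lib.Helper32.Cubic.matrix_eq_of_mulVec_eq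
  intro x
  rw [← Matrix.mulVec_mulVec, ← Matrix.mulVec_mulVec, hA'x x, hAx x, Matrix.mulVec_sub,
    Matrix.mulVec_sub, Matrix.mulVec_smul, Matrix.mulVec_smul, hAe', hA'e, hAx x, hA'x x]
  abel

end Groth.Agent.S18410
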