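import Groth.Statements.S18411
import Groth.Agent.Lib.Helper32.CubicConj

set_option autoImplicit false
universe u
open Cubic

namespace Groth.Agent.S18411

open MvPolynomial in
/-- Let f be a nonzero homogeneous cubic in four variables over ℂ whose surface S = V_+(f) ⊂ P³ is
smooth (at every nonzero zero of f some partial derivative is nonzero); a line on S is a
2-dimensional subspace of ℂ⁴ on which f vanishes, and an Eckardt point of S is a nonzero vector
lying on three distinct lines on S. Let e, e′, e″ be pairwise non-proportional Eckardt points of S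
spanning a single plane L = span(e, e′) of ℂ⁴ on which f does not vanish identically (three
collinear Eckardt points whose line is not on S), and let A, A′, A″ be their Eckardt involutions: an
involutory matrix A (A² = 1) whose +1-eigenspace is a hyperplane and with A·e = −e, such that the
substitution X_i ↦ Σ_j A_ij X_j multiplies f by a constant — that is, a projective involution
preserving S whose fixed locus is the disjoint union of a plane and the point of e, and likewise for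
e′ and e″. Then the three involutions generate, as projective transformations, a group isomorphic to
the symmetric group on three letters: the product A·A′ is not a scalar matrix, its cube is, and A″
is a scalar multiple of A·A′·A. -/
theorem result (f : MvPolynomial (Fin 4) ℂ) (hf : f.IsHomogeneous 3)
    (hf0 : f ≠ 0) (hsm : ∀ v : Fin 4 → ℂ, v ≠ 0 → eval v f = 0 → ∃ i : Fin 4, eval v (pderiv i f) ≠ 0)
    (e e' e'' : Fin 4 → ℂ) (he : e ≠ 0) (he' : e' ∉ Submodule.span ℂ {e})
    (he''1 : e'' ∉ Submodule.span ℂ {e}) (he''2 : e'' ∉ Submodule.span ℂ {e'}) (he''L : e'' ∈ Submodule.span ℂ {e, e'})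
    (hE : (∃ U : Fin 3 → Submodule ℂ (Fin 4 → ℂ), Function.Injective U ∧
        ∀ i : Fin 3, Module.finrank ℂ ↥(U i) = 2 ∧ e ∈ U i ∧ ∀ u ∈ U i, eval u f = 0))
    (hE' : (∃ U : Fin 3 → Submodule ℂ (Fin 4 → ℂ), Function.Injective U ∧
        ∀ i : Fin 3, Module.finrank ℂ ↥(U i) = 2 ∧ e' ∈ U i ∧ ∀ u ∈ U i, eval u f = 0))
    (hE'' : (∃ U : Fin 3 → Submodule ℂ (Fin 4 → ℂ), Function.Injective U ∧
        ∀ i : Fin 3, Module.finrank ℂ ↥(U i) = 2 ∧ e'' ∈ U i ∧ ∀ u ∈ U i, eval u f = 0))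
    (hL : ¬ ∀ u ∈ Submodule.span ℂ {e, e'}, eval u f = 0)
    (A A' A'' : Matrix (Fin 4) (Fin 4) ℂ)
    (hA : A * A = 1 ∧ Module.finrank ℂ ↥(LinearMap.ker (Matrix.toLin' A - LinearMap.id)) = 3 ∧
        A.mulVec e = -e ∧ ∃ c : ℂ, aeval (fun i : Fin 4 => ∑ j : Fin 4, C (A i j) * X j) f = C c * f)
    (hA' : A' * A' = 1 ∧ Module.finrank ℂ ↥(LinearMap.ker (Matrix.toLin' A' - LinearMap.id)) = 3 ∧
        A'.mulVec e' = -e' ∧ ∃ c : ℂ, aeval (fun i : Fin 4 => ∑ j : Fin 4, C (A' i j) * X j) f = C c * f)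
    (hA'' : A'' * A'' = 1 ∧ Module.finrank ℂ ↥(LinearMap.ker (Matrix.toLin' A'' - LinearMap.id)) = 3 ∧
        A''.mulVec e'' = -e'' ∧ ∃ c : ℂ, aeval (fun i : Fin 4 => ∑ j : Fin 4, C (A'' i j) * X j) f = C c * f) :
    (¬ ∃ c : ℂ, A * A' = c • (1 : Matrix (Fin 4) (Fin 4) ℂ)) ∧ (∃ c : ℂ, (A * A') ^ 3 = c • (1 : Matrix (Fin 4) (Fin 4) ℂ)) ∧
      ∃ c : ℂ, A'' = c • (A * A' * A) := by
  have hE1 : Groth.Agent.Lib.Helper32.Cubic.IsEckardt f e := hE
  have hE2 : Groth.Agent.Lib.Helper32.Cubic.IsEckardt f e' := hE'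
  have hE3 : Groth.Agent.Lib.Helper32.Cubic.IsEckardt f e'' := hE''
  have hFe := hE1.eval_eq_zero
  have hFe' := hE2.eval_eq_zero
  have hFe'' := hE3.eval_eq_zero
  have he'0 : e' ≠ 0 := by
    rintro rfl
    exact he' (Submodule.zero_mem _)
  have he''0 : e'' ≠ 0 := by
    rintro rfl
    exact he''1 (Submodule.zero_mem _)
  obtain ⟨φ, hφe, hAx, hFA, hQφ⟩ :=
    Groth.Agent.Lib.Helper32.Cubic.matrix_data hf hf0 hsm (by simp) e he hFe A hA
  obtain ⟨φ', hφ'e', hA'x, hFA', hQφ'⟩ :=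
    Groth.Agent.Lib.Helper32.Cubic.matrix_data hf hf0 hsm (by simp) e' he'0 hFe' A' hA'
  obtain ⟨φ'', hφ''e'', hA''x, hFA'', hQφ''⟩ :=
    Groth.Agent.Lib.Helper32.Cubic.matrix_data hf hf0 hsm (by simp) e'' he''0 hFe'' A'' hA''
  have hind := Groth.Agent.Lib.Helper32.Cubic.linearIndependent_pair_of_not_mem he he'
  have hpair := Groth.Agent.Lib.Helper32.Cubic.eval_pair hf e e' hFe hFe'
  have hba : Groth.Agent.Lib.Helper32.Cubic.Lp f e' e
      = 2 * φ e' * Groth.Agent.Lib.Helper32.Cubic.Lp f e e' := by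
    have := hQφ e'
    rwa [Groth.Agent.Lib.Helper32.Cubic.Qp_eq_grad] at this
  have hab : Groth.Agent.Lib.Helper32.Cubic.Lp f e e'
      = 2 * φ' e * Groth.Agent.Lib.Helper32.Cubic.Lp f e' e := by
    have := hQφ' e
    rwa [Groth.Agent.Lib.Helper32.Cubic.Qp_eq_grad] at this
  have ha0 : Groth.Agent.Lib.Helper32.Cubic.Lp f e e' ≠ 0 := by
    intro ha0
    have hb0 : Groth.Agent.Lib.Helper32.Cubic.Lp f e' e = 0 := by rw [hba, ha0, mul_zero]
    apply hL
    intro u hu
    obtain ⟨s, t, rfl⟩ := Submodule.mem_span_pair.mp hu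
    rw [hpair, ha0, hb0]
    ring
  have hb0 : Groth.Agent.Lib.Helper32.Cubic.Lp f e' e ≠ 0 := by
    intro hb0
    apply ha0
    rw [hab, hb0, mul_zero]
  obtain ⟨s₀, t₀, hst⟩ := Submodule.mem_span_pair.mp he''L
  have hs₀ : s₀ ≠ 0 := by
    rintro rfl
    apply he''2
    rw [← hst, zero_smul, zero_add]
    exact Submodule.smul_mem _ _ (Submodule.mem_span_singleton_self e')
  have ht₀ : t₀ ≠ 0 := by
    rintro rfl
    apply he''1
    rw [← hst, zero_smul, add_zero]
    exact Submodule.smul_mem _ _ (Submodule.mem_span_singleton_self e)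
  have hF'' : eval (s₀ • e + t₀ • e') f = 0 := by
    rw [hst]
    exact hFe''
  rw [hpair] at hF''
  have hrel : s₀ * Groth.Agent.Lib.Helper32.Cubic.Lp f e e'
      + t₀ * Groth.Agent.Lib.Helper32.Cubic.Lp f e' e = 0 := by
    have h0 : s₀ * t₀ * (s₀ * Groth.Agent.Lib.Helper32.Cubic.Lp f e e'
      + t₀ * Groth.Agent.Lib.Helper32.Cubic.Lp f e' e) = 0 := by linear_combination hF''
    rcases mul_eq_zero.mp h0 with h | h
    · exfalso
      rcases mul_eq_zero.mp h with h | h
      · exact hs₀ h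
      · exact ht₀ h
    · exact h
  have hs₀' : s₀ = -(2 * t₀ * φ e') := by
    have h0 : (s₀ + 2 * t₀ * φ e') * Groth.Agent.Lib.Helper32.Cubic.Lp f e e' = 0 := by
      rw [hba] at hrel
      linear_combination hrel
    rcases mul_eq_zero.mp h0 with h | h
    · linear_combination h
    · exact absurd h ha0
  have ht₀' : t₀ = -(2 * s₀ * φ' e) := by
    have h0 : (t₀ + 2 * s₀ * φ' e) * Groth.Agent.Lib.Helper32.Cubic.Lp f e' e = 0 := by
      rw [hab] at hrel
      linear_combination hrel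
    rcases mul_eq_zero.mp h0 with h | h
    · linear_combination h
    · exact absurd h hb0
  have he''A : e'' = t₀ • A.mulVec e' := by
    rw [hAx, ← hst]
    conv_lhs => rw [hs₀']
    ext i
    simp only [Pi.add_apply, Pi.sub_apply, Pi.smul_apply, smul_eq_mul]
    ring
  have he''A' : e'' = s₀ • A'.mulVec e := by
    rw [hA'x, ← hst]
    conv_lhs => rw [ht₀']
    ext i
    simp only [Pi.add_apply, Pi.sub_apply, Pi.smul_apply, smul_eq_mul]
    ring
  have h1 : A'' = A * A' * A :=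
    Groth.Agent.Lib.Helper32.Cubic.conj_eq hf hsm A A' A'' e e' e'' φ φ' φ'' hA.1 hAx hFA hφ'e'
      hA'x hFA' hA''x hQφ'' he''0 hFe'' t₀ ht₀ he''A
  have h2 : A'' = A' * A * A' :=
    Groth.Agent.Lib.Helper32.Cubic.conj_eq hf hsm A' A A'' e' e e'' φ' φ φ'' hA'.1 hA'x hFA' hφe
      hAx hFA hA''x hQφ'' he''0 hFe'' s₀ hs₀ he''A'
  refine ⟨?_, ⟨1, ?_⟩, ⟨1, by rw [one_smul]; exact h1⟩⟩
  · rintro ⟨c, hc⟩
    have hA'c : A' = c • A := by
      have h3 := congrArg (fun M => A * M) hc
      simp only [← Matrix.mul_assoc, hA.1, Matrix.one_mul, Matrix.mul_smul, Matrix.mul_one] at h3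
      exact h3
    have h3 := hA'.2.2.1
    rw [hA'c, Matrix.smul_mulVec, hAx] at h3
    have h0 : (-(2 * c * φ e')) • e + (c + 1) • e' = 0 := by
      have h4 : (-(2 * c * φ e')) • e + (c + 1) • e' = c • (e' - (2 * φ e') • e) + e' := by
        ext i
        simp only [Pi.add_apply, Pi.sub_apply, Pi.smul_apply, smul_eq_mul]
        ring
      rw [h4, h3]
      simp
    obtain ⟨h4, h5⟩ := hind _ _ h0
    apply hb0
    have hc1 : c = -1 := by linear_combination h5
    have hφ0 : φ e' = 0 := by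
      rw [hc1] at h4
      linear_combination (1 / 2) * h4
    rw [hba, hφ0]
    ring
  · rw [one_smul]
    have h3 : (A * A') ^ 3 = (A * A' * A) * (A' * A * A') := by
      rw [pow_succ, pow_two]
      simp only [Matrix.mul_assoc]
    rw [h3, ← h1, ← h2, hA''.1]

end Groth.Agent.S18411
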