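import Groth.Statements.S18412
import Groth.Agent.Lib.Helper18.CubicAut
import Groth.Agent.Lib.Helper18.CubicWeier
import Groth.Agent.Lib.Helper32.CubicRefl
import Groth.Agent.S18404

set_option autoImplicit false
universe u
open Cubic

namespace Groth.Agent.S18412

section helpers
open MvPolynomial Groth.Agent.Lib.Helper18.CubicAut Groth.Agent.Lib.Helper18.Cubic

theorem hk_eq (k : ℂ) (x : Fin 3 → ℂ) : eval x (HesseCubic.form k) = hk k x := by
  rw [Groth.Agent.S18404.eval_form, hk]

theorem inG_iff (k : ℂ) (A : Matrix (Fin 3) (Fin 3) ℂ) :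
    (A.det = 1 ∧ ∃ c : ℂ, aeval (fun i : Fin 3 => ∑ j : Fin 3, C (A i j) * X j) (HesseCubic.form k) =
      C c * HesseCubic.form k) ↔ InG k A := by
  unfold InG
  refine and_congr Iff.rfl (exists_congr fun c => ?_)
  rw [Groth.Agent.Lib.Helper32.Cubic.aeval_matrix_eq_iff]
  simp only [hk_eq]

theorem flex_O0 (k : ℂ) (hk1 : k ^ 3 ≠ 1) (A : Matrix (Fin 3) (Fin 3) ℂ) (hA : InG k A) :
    ∃ γ c : ℂ, γ ^ 3 = 1 ∧ (A.mulVec O0 = c • ![0, 1, -γ] ∨
      A.mulVec O0 = c • ![-γ, 0, 1] ∨ A.mulVec O0 = c • ![1, -γ, 0]) := by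
  obtain ⟨hdet, c, hc⟩ := hA
  have hAu : IsUnit A.det := by rw [hdet]; exact isUnit_one
  have hAinj := mulVec_injective_of_isUnit_det A hAu
  have hO0 : O0 ≠ 0 := by
    intro h
    have := congrFun h 1
    simp [O0] at this
  have hC0 : eval O0 (HesseCubic.form k) = 0 := by
    rw [hk_eq]
    simp [hk, O0]
    norm_num
  obtain ⟨w, hli, hw⟩ := (Groth.Agent.S18404.result k hk1 O0 hO0 hC0).2
    ⟨1, 1, one_pow _, Or.inl (by simp [O0])⟩
  have hv : A.mulVec O0 ≠ 0 := by
    intro h0
    apply hO0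
    apply hAinj
    rw [h0, Matrix.mulVec_zero]
  have hfv : eval (A.mulVec O0) (HesseCubic.form k) = 0 := by
    rw [hk_eq, hc, ← hk_eq, hC0, mul_zero]
  have hli' : LinearIndependent ℂ ![A.mulVec O0, A.mulVec w] := by
    have := hli.map' (Matrix.mulVecLin A) (by
      rw [LinearMap.ker_eq_bot]
      exact hAinj)
    have e : ![A.mulVec O0, A.mulVec w] = ⇑(Matrix.mulVecLin A) ∘ ![O0, w] := by
      ext i j
      fin_cases i <;> simp
    rw [e]
    exact this
  have hw' : ∀ t : ℂ, eval (A.mulVec O0 + t • A.mulVec w) (HesseCubic.form k) =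
      t ^ 3 * eval (A.mulVec w) (HesseCubic.form k) := by
    intro t
    rw [← Matrix.mulVec_smul, ← Matrix.mulVec_add, hk_eq, hk_eq, hc, hc, ← hk_eq, ← hk_eq, hw]
    ring
  exact (Groth.Agent.S18404.result k hk1 _ hv hfv).1 ⟨_, hli', hw'⟩

noncomputable def badPoly : Polynomial ℂ :=
  (Polynomial.X ^ 3 - 1) * (Polynomial.X * (Polynomial.X ^ 3 + 8)) *
    (Polynomial.X ^ 6 - 20 * Polynomial.X ^ 3 - 8)

theorem badPoly_ne : badPoly ≠ 0 := by
  intro h
  have := congrArg (Polynomial.eval 2) h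
  simp [badPoly] at this
  norm_num at this

theorem main : ∃ T : Finset ℂ, ∀ k : ℂ, k ∉ T →
      Nat.card {A : Matrix (Fin 3) (Fin 3) ℂ // A.det = 1 ∧
        ∃ c : ℂ, aeval (fun i : Fin 3 => ∑ j : Fin 3, C (A i j) * X j) (HesseCubic.form k) =
          C c * HesseCubic.form k} = 54 := by
  refine ⟨badPoly.roots.toFinset, fun k hkT => ?_⟩
  have hev : Polynomial.eval k badPoly ≠ 0 := by
    intro h
    apply hkT
    rw [Multiset.mem_toFinset, Polynomial.mem_roots badPoly_ne]
    exact h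
  have hev' : (k ^ 3 - 1) * (k * (k ^ 3 + 8)) * (k ^ 6 - 20 * k ^ 3 - 8) ≠ 0 := by
    simpa [badPoly] using hev
  have hk1 : k ^ 3 ≠ 1 := by
    intro h
    apply hev'
    rw [h]
    ring
  have hδ : dl k ≠ 0 := by
    intro h
    apply hev'
    unfold dl at h
    linear_combination (-(1 : ℂ) / 3) * (k ^ 3 - 1) * (k ^ 6 - 20 * k ^ 3 - 8) * h
  have hε : ep k ≠ 0 := by
    intro h
    apply hev'
    unfold ep at h
    linear_combination (-(1 : ℂ) / 2) * (k ^ 3 - 1) * (k * (k ^ 3 + 8)) * h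
  obtain ⟨ω, hω⟩ : ∃ ω : ℂ, ω ^ 2 + ω + 1 = 0 := by
    obtain ⟨ω, hω⟩ := IsAlgClosed.exists_root (Polynomial.X ^ 2 + Polynomial.X + 1 : Polynomial ℂ)
      (by
        have : (Polynomial.X ^ 2 + Polynomial.X + 1 : Polynomial ℂ).degree = 2 := by compute_degree!
        rw [this]; norm_num)
    exact ⟨ω, by simpa using hω⟩
  have hiff : ∀ A : Matrix (Fin 3) (Fin 3) ℂ, (A.det = 1 ∧
        ∃ c : ℂ, aeval (fun i : Fin 3 => ∑ j : Fin 3, C (A i j) * X j) (HesseCubic.form k) =
          C c * HesseCubic.form k) ↔ A ∈ Set.range (Phi ω) := by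
    intro A
    rw [inG_iff]
    constructor
    · intro hA
      obtain ⟨a, ha⟩ := mem_range k ω hω hk1 hδ hε A hA (flex_O0 k hk1 A hA)
      exact ⟨a, ha.symm⟩
    · rintro ⟨a, rfl⟩
      exact Phi_mem k ω hω a
  rw [Nat.card_congr (Equiv.subtypeEquivRight hiff)]
  rw [Nat.card_range_of_injective (Phi_injective ω hω)]
  simp

end helpers

open MvPolynomial in
/-- For all k ∈ ℂ outside a finite set, the Hesse cubic h_k = X₀³ + X₁³ + X₂³ − 3k·X₀X₁X₂ has exactly 18
projective automorphisms; spelled without quotients as: the matrices A of determinant 1 whose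
substitution X_i ↦ Σ_j A_ij X_j carries h_k to a constant multiple of h_k are exactly 54 in number
(every projective class has three lifts of determinant one, so 54 = 3 · 18). As every smooth plane
cubic over ℂ is projectively equivalent to some h_k, this is the statement that the general smooth
plane cubic has a projective automorphism group of order 18. -/
theorem result :
    ∃ T : Finset ℂ, ∀ k : ℂ, k ∉ T →
      Nat.card {A : Matrix (Fin 3) (Fin 3) ℂ // A.det = 1 ∧
        ∃ c : ℂ, aeval (fun i : Fin 3 => ∑ j : Fin 3, C (A i j) * X j) (HesseCubic.form k) =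
          C c * HesseCubic.form k} = 54 := by
  exact main

end Groth.Agent.S18412
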