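import Groth.Statements.S18415
import Groth.Agent.Lib.Helper4.StdEtaleCover
import Groth.Agent.S0102
import Mathlib.CategoryTheory.Sites.EpiMono

set_option autoImplicit false
universe u
open CategoryTheory AlgebraicGeometry
open EtCoh

namespace Groth.Agent.S18415
open Groth.Agent.Lib.Helper4 Polynomial CategoryTheory.Limits Opposite

noncomputable def asPair {A : Type u} [CommRing A] [Nontrivial A] (p : ℕ) (hp : p.Prime)
    (h0 : (p : A) = 0) (a : A) : StandardEtalePair A where
  f := X ^ p - X - C a
  monic_f := by
    have h1 : (X ^ p - X - C a : A[X]) = X ^ p - (X + C a) := by ring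
    rw [h1]
    apply monic_X_pow_sub
    have h2 : (X + C a : A[X]).degree ≤ 1 := by
      refine (degree_add_le _ _).trans ?_
      rw [max_le_iff]
      exact ⟨degree_X_le, degree_C_le.trans zero_le_one⟩
    refine lt_of_le_of_lt h2 ?_
    exact_mod_cast hp.one_lt
  g := 1
  cond := ⟨-1, 0, 0, by
    simp only [derivative_sub, derivative_X_pow, derivative_C, sub_zero, pow_zero, derivative_X,
      mul_zero, add_zero]
    rw [h0, C_0, zero_mul]
    ring⟩


/-- Let p be a prime and X a scheme with p = 0 in Γ(X, O_X). Then the Artin–Schreier endomorphism x ↦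
x^p − x of the additive group sheaf G_a on the small étale site of X is an epimorphism of abelian
étale sheaves (the right-hand exactness of 0 → Z/p → G_a → G_a → 0 on X_et). (The published example
takes X a variety over a field of characteristic p; this row assumes only that p = 0 in Γ(X, O_X).) -/
theorem result
    (p : ℕ) (hp : p.Prime) {X : Scheme.{u}} (h0 : (p : Γ(X, ⊤)) = 0) :
    Epi (W4c5etcohweilstudent.artinSchreierEndo X p hp h0) := by
  rw [← Sheaf.isLocallySurjective_iff_epi' _ (W4c5etcohweilstudent.artinSchreierEndo X p hp h0)]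
  constructor
  intro U a
  apply Groth.Agent.S0102.mem_of_forall_exists
  intro x
  let A := Γ(U.left, ⊤)
  have h0U : (p : A) = 0 := W4c5etcohweilstudent.natCast_eq_zero_etale p h0 U
  have hnt : Nontrivial A := by
    by_contra hnt
    rw [not_nontrivial_iff_subsingleton] at hnt
    have h1 : IsUnit ((U.left.presheaf.germ ⊤ x trivial).hom (0 : A)) :=
      (isUnit_of_subsingleton (0 : A)).map _
    rw [map_zero] at h1
    exact not_isUnit_zero h1
  let a₀ : A := ULift.down a
  let P₀ : StandardEtalePair A := asPair p hp h0U a₀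
  have hdeg : P₀.f.natDegree ≠ 0 := by
    have h1 : (Polynomial.X ^ p - Polynomial.X - C a₀ : A[X]) = Polynomial.X ^ p - (Polynomial.X + C a₀) := by ring
    change (Polynomial.X ^ p - Polynomial.X - C a₀ : A[X]).natDegree ≠ 0
    have h2 : (Polynomial.X + C a₀ : A[X]).natDegree < (Polynomial.X ^ p : A[X]).natDegree := by
      rw [natDegree_X_pow]
      have h3 : (Polynomial.X + C a₀ : A[X]).natDegree ≤ 1 := by
        refine (natDegree_add_le _ _).trans ?_
        rw [max_le_iff]
        exact ⟨natDegree_X_le, (natDegree_C a₀).le.trans zero_le_one⟩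
      exact lt_of_le_of_lt h3 hp.one_lt
    rw [h1, natDegree_sub_eq_left_of_natDegree_lt h2, natDegree_X_pow]
    exact hp.ne_zero
  obtain ⟨T, g, t, r, hgt, hr⟩ := StdEtaleCover.exists_etale_nbhd_root U x P₀ rfl hdeg
  have hr' : r ^ p - r = g.left.appTop.hom a₀ := by
    change eval₂ g.left.appTop.hom r (Polynomial.X ^ p - Polynomial.X - C a₀ : A[X]) = 0 at hr
    rw [eval₂_sub, eval₂_sub, eval₂_X_pow, eval₂_X, eval₂_C, sub_eq_zero] at hr
    exact hr
  refine ⟨T, g, t, ⟨ULift.up r, ?_⟩, hgt⟩
  apply ULift.ext
  exact hr'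


end Groth.Agent.S18415
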