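import Groth.Statements.S18416
import Mathlib
import Groth.Agent.Lib.Helper51.EtaleSlice

set_option autoImplicit false
universe u v w
open CAlg

namespace Groth.Agent.S18416

/-- Let R → C and C → B be smooth ring homomorphisms, J an ideal of B and K the preimage of J in C, and
suppose that C surjects onto A = B/J (so that C/K = B/J = A). Then for every prime x of A there
exist f ∈ B whose image in A does not lie in x and an ideal J₀ of B_f contained in J B_f such that
the composite C → B_f → B_f/J₀ is étale. -/
theorem result (R : Type u) (C : Type v) (B : Type w)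
    [CommRing R] [CommRing C] [CommRing B] [Algebra R C] [Algebra C B] [Algebra R B] [IsScalarTower R C B]
    [Algebra.Smooth R C] [Algebra.Smooth C B] (J : Ideal B)
    (hsurj : Function.Surjective ((Ideal.Quotient.mk J).comp (algebraMap C B)))
    (x : PrimeSpectrum (B ⧸ J)) :
    ∃ f : B, Ideal.Quotient.mk J f ∉ x.asIdeal ∧
      ∃ J₀ : Ideal (Localization.Away f), J₀ ≤ J.map (algebraMap B (Localization.Away f)) ∧
        ((Ideal.Quotient.mk J₀).comp ((algebraMap B (Localization.Away f)).comp (algebraMap C B))).Etale := by
  classical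
  let q : Ideal B := x.asIdeal.comap (Ideal.Quotient.mk J)
  haveI : q.IsPrime := Ideal.comap_isPrime _ _
  have hJq : J ≤ q := by
    intro b hb
    change Ideal.Quotient.mk J b ∈ x.asIdeal
    rw [Ideal.Quotient.eq_zero_iff_mem.mpr hb]
    exact Ideal.zero_mem _
  let P := Localization.AtPrime q
  have hsurj' : Function.Surjective (algebraMap C (B ⧸ J)) := by
    intro y
    obtain ⟨c, hc⟩ := hsurj y
    refine ⟨c, ?_⟩
    rw [IsScalarTower.algebraMap_apply C B (B ⧸ J)]
    exact hc
  haveI : Algebra.FormallyUnramified C (B ⧸ J) := Algebra.FormallyUnramified.of_surjective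
    (Algebra.ofId C (B ⧸ J)) hsurj'
  haveI : Algebra.FormallyUnramified (B ⧸ J) (P ⧸ J.map (algebraMap B P)) :=
    Algebra.FormallyUnramified.of_isLocalization (Algebra.algebraMapSubmonoid (B ⧸ J) q.primeCompl)
  haveI : Algebra.FormallyUnramified C (P ⧸ J.map (algebraMap B P)) :=
    Algebra.FormallyUnramified.comp C (B ⧸ J) _
  haveI : Subsingleton Ω[(P ⧸ J.map (algebraMap B P))⁄C] := inferInstance
  obtain ⟨I₀, hI₀J, -, f, hf, hEt⟩ :=
    Groth.Agent.Lib.Helper51.EtaleSlice.exists_etale_away_quotient (R := C) q J hJq
  refine ⟨f, hf, I₀.map (algebraMap B (Localization.Away f)), Ideal.map_mono hI₀J, ?_⟩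
  have : ((Ideal.Quotient.mk (I₀.map (algebraMap B (Localization.Away f)))).comp
      ((algebraMap B (Localization.Away f)).comp (algebraMap C B))) =
      algebraMap C (Localization.Away f ⧸ I₀.map (algebraMap B (Localization.Away f))) := by
    ext c
    rfl
  rw [this, RingHom.etale_algebraMap]
  exact hEt

end Groth.Agent.S18416
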