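import Groth.Statements.S18418
import Mathlib

set_option autoImplicit false
universe u v
open FonLaf

namespace Groth.Agent.S18418

theorem count {W : Type u} [CommRing W] (σ : W →+* W) (hσ : Function.Surjective σ)
    {A M : Type v} [AddCommGroup A] [Module W A] [AddCommGroup M] [Module W M]
    (hA : IsFiniteLength W A) (hM : IsFiniteLength W M)
    (ι : A →ₗ[W] M × A) (Φ : (M × A) →ₛₗ[σ] M) (hΦ : Function.Surjective Φ)
    (hex : LinearMap.range ι = LinearMap.ker Φ) : Function.Injective ι := by
  haveI : RingHomSurjective σ := ⟨hσ⟩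
  have hB : Module.length W (M × A) = Module.length W M + Module.length W A :=
    Module.length_prod W M A
  have h1 : Module.length W (M × A) = Module.length W (LinearMap.ker Φ) +
      Module.length W ((M × A) ⧸ LinearMap.ker Φ) :=
    Module.length_eq_add_of_exact (LinearMap.ker Φ).subtype (LinearMap.ker Φ).mkQ
      (Submodule.subtype_injective _) (Submodule.mkQ_surjective _)
      (LinearMap.exact_subtype_mkQ _)
  have h2 : Module.length W ((M × A) ⧸ LinearMap.ker Φ) = Module.length W M := by
    have hf : Function.Bijective ((LinearMap.ker Φ).liftQ Φ le_rfl) := by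
      constructor
      · rw [← LinearMap.ker_eq_bot]
        exact Submodule.ker_liftQ_eq_bot _ _ _ le_rfl
      · rw [← LinearMap.range_eq_top, Submodule.range_liftQ]
        exact LinearMap.range_eq_top.mpr hΦ
    apply WithBot.coe_injective
    rw [Module.coe_length, Module.coe_length,
      Order.krullDim_eq_of_orderIso (Submodule.orderIsoMapComapOfBijective _ hf)]
  have h3 : Module.length W A = Module.length W (LinearMap.ker ι) +
      Module.length W (LinearMap.range ι) :=
    Module.length_eq_add_of_exact (LinearMap.ker ι).subtype ι.rangeRestrict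
      (Submodule.subtype_injective _) (LinearMap.surjective_rangeRestrict ι)
      (by
        intro x
        constructor
        · intro hx
          refine ⟨⟨x, ?_⟩, rfl⟩
          rw [LinearMap.mem_ker]
          exact congrArg Subtype.val hx
        · rintro ⟨y, rfl⟩
          exact Subtype.ext y.2)
  have hAfin : Module.length W A ≠ ⊤ := Module.length_ne_top_iff.mpr hA
  have hMfin : Module.length W M ≠ ⊤ := Module.length_ne_top_iff.mpr hM
  rw [hex] at h3
  rw [h2] at h1
  have hKfin : Module.length W (LinearMap.ker Φ) ≠ ⊤ := by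
    intro h
    rw [h, add_top] at h3
    exact hAfin h3
  have hker0 : Module.length W (LinearMap.ker ι) = 0 := by
    rw [h1, h3] at hB
    -- hB : len K + len M = len M + (len kerι + len K)
    generalize Module.length W (LinearMap.ker ι) = a at *
    generalize Module.length W (LinearMap.ker Φ) = b at *
    generalize Module.length W M = c at *
    lift b to ℕ using hKfin
    lift c to ℕ using hMfin
    cases a with
    | top => simp at hB
    | coe a =>
      norm_cast at hB ⊢
      omega
  rw [Module.length_eq_zero_iff] at hker0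
  rw [← LinearMap.ker_eq_bot]
  exact Submodule.eq_bot_of_subsingleton


section General

variable {W : Type u} [CommRing W] (σ : W →+* W) (p : W)
  (r : ℕ) (N : ℕ → Type v) [∀ i, AddCommGroup (N i)] [∀ i, Module W (N i)]
  (α : ∀ i, N (i + 1) →ₗ[W] N i)
  (φ : ∀ i, N i →ₛₗ[σ] N 0)

/-- extension by zero -/
noncomputable def extLin : ((i : Fin r) → N (i + 1)) →ₗ[W] ((i : ℕ) → N (i + 1)) :=
  LinearMap.pi (fun i => if h : i < r then LinearMap.proj (⟨i, h⟩ : Fin r) else 0)

theorem extLin_apply_lt (x : (i : Fin r) → N (i + 1)) (i : ℕ) (h : i < r) :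
    extLin (W := W) r N x i = x ⟨i, h⟩ := by
  simp [extLin, h]

theorem extLin_apply_ge (x : (i : Fin r) → N (i + 1)) (i : ℕ) (h : r ≤ i) :
    extLin (W := W) r N x i = 0 := by
  simp [extLin, not_lt.mpr h]

theorem extLin_restrict (z : (i : ℕ) → N (i + 1)) (hz : ∀ i, r ≤ i → z i = 0) :
    extLin (W := W) r N (fun i : Fin r => z i) = z := by
  funext i
  by_cases h : i < r
  · rw [extLin_apply_lt r N _ i h]
  · rw [extLin_apply_ge r N _ i (not_lt.mp h), hz i (not_lt.mp h)]

noncomputable def iotaLin : ((i : Fin r) → N (i + 1)) →ₗ[W] (N 0 × ((i : Fin r) → N (i + 1))) :=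
  LinearMap.prod ((α 0).comp ((LinearMap.proj (R := W) (φ := fun i : ℕ => N (i + 1)) 0).comp (extLin (W := W) r N)))
    (LinearMap.pi fun i : Fin r =>
      (α (i + 1)).comp ((LinearMap.proj (R := W) (φ := fun i : ℕ => N (i + 1)) ((i : ℕ) + 1)).comp (extLin (W := W) r N))
        - p • LinearMap.proj i)

theorem iotaLin_fst (x : (i : Fin r) → N (i + 1)) :
    (iotaLin p r N α x).1 = α 0 (extLin (W := W) r N x 0) := rfl

theorem iotaLin_snd (x : (i : Fin r) → N (i + 1)) (i : Fin r) :
    (iotaLin p r N α x).2 i = α (i + 1) (extLin (W := W) r N x (i + 1)) - p • x i := rfl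

noncomputable def PhiS : (N 0 × ((i : Fin r) → N (i + 1))) →ₛₗ[σ] N 0 where
  toFun y := φ 0 y.1 + ∑ i : Fin r, φ (i + 1) (y.2 i)
  map_add' y y' := by
    simp only [Prod.fst_add, Prod.snd_add, Pi.add_apply, map_add, Finset.sum_add_distrib]
    abel
  map_smul' w y := by
    simp only [Prod.smul_fst, Prod.smul_snd, Pi.smul_apply, LinearMap.map_smulₛₗ, Finset.smul_sum,
      smul_add]

theorem PhiS_apply (y : N 0 × ((i : Fin r) → N (i + 1))) :
    PhiS σ r N φ y = φ 0 y.1 + ∑ i : Fin r, φ (i + 1) (y.2 i) := rfl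


variable {σ p r N α φ}

theorem iota_injective (hσ : Function.Surjective σ) (hpσ : σ p = p)
    (hfl : ∀ i, IsFiniteLength W (N i))
    (hφ : ∀ i, i < r → ∀ y : N (i + 1), φ i (α i y) = p • φ (i + 1) y)
    (hsurj : ∀ m : N 0, ∃ y : (i : ℕ) → N i, (∀ i, r < i → y i = 0) ∧
      (Finset.range (r + 1)).sum (fun i => φ i (y i)) = m)
    (hker : ∀ y : (i : ℕ) → N i, (∀ i, r < i → y i = 0) →
      (Finset.range (r + 1)).sum (fun i => φ i (y i)) = 0 →
        ∃ z : (i : ℕ) → N (i + 1), (∀ i, r ≤ i → z i = 0) ∧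
          y 0 = α 0 (z 0) ∧ ∀ i, y (i + 1) = α (i + 1) (z (i + 1)) - p • z i) :
    Function.Injective (iotaLin p r N α) := by
  haveI : ∀ i, IsNoetherian W (N i) := fun i =>
    (isFiniteLength_iff_isNoetherian_isArtinian.mp (hfl i)).1
  haveI : ∀ i, IsArtinian W (N i) := fun i =>
    (isFiniteLength_iff_isNoetherian_isArtinian.mp (hfl i)).2
  have hA : IsFiniteLength W ((i : Fin r) → N (i + 1)) :=
    isFiniteLength_iff_isNoetherian_isArtinian.mpr ⟨inferInstance, inferInstance⟩
  refine count σ hσ hA (hfl 0) (iotaLin p r N α) (PhiS σ r N φ) ?_ ?_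
  · -- surjectivity
    intro m
    obtain ⟨y, -, hy⟩ := hsurj m
    refine ⟨(y 0, fun i : Fin r => y (i + 1)), ?_⟩
    rw [PhiS_apply, ← hy, Finset.sum_range_succ', add_comm]
    congr 1
    exact Fin.sum_univ_eq_sum_range (fun i => φ (i + 1) (y (i + 1))) r
  · -- exactness
    apply le_antisymm
    · rintro _ ⟨x, rfl⟩
      rw [LinearMap.mem_ker, PhiS_apply]
      have hTU : ∀ i, φ i (α i (extLin (W := W) r N x i)) =
          p • φ (i + 1) (extLin (W := W) r N x i) := by
        intro i
        by_cases h : i < r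
        · exact hφ i h _
        · rw [extLin_apply_ge r N x i (not_lt.mp h)]
          simp
      have h1 : ∀ i : Fin r, φ (i + 1) ((iotaLin p r N α x).2 i) =
          φ (i + 1) (α (i + 1) (extLin (W := W) r N x (i + 1))) -
            φ i (α i (extLin (W := W) r N x i)) := by
        intro i
        rw [iotaLin_snd, map_sub, LinearMap.map_smulₛₗ, hpσ, hTU i,
          extLin_apply_lt r N x i i.2]
      rw [iotaLin_fst, Finset.sum_congr rfl (fun i _ => h1 i),
        Fin.sum_univ_eq_sum_range (fun i => φ (i + 1) (α (i + 1) (extLin (W := W) r N x (i + 1))) -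
            φ i (α i (extLin (W := W) r N x i))) r,
        Finset.sum_range_sub (fun i => φ i (α i (extLin (W := W) r N x i))) r,
        extLin_apply_ge r N x r le_rfl]
      simp
    · rintro ⟨y0, y'⟩ hy
      rw [LinearMap.mem_ker, PhiS_apply] at hy
      obtain ⟨z, hz0, hz1, hz2⟩ := hker
        (fun i => match i with
          | 0 => y0
          | (j + 1) => extLin (W := W) r N y' j)
        (by
          intro i hi
          match i, hi with
          | 0, hi => exact absurd hi (Nat.not_lt_zero _)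
          | (j + 1), hi => exact extLin_apply_ge r N y' j (Nat.lt_succ_iff.mp hi))
        (by
          rw [Finset.sum_range_succ', add_comm, ← hy]
          congr 1
          rw [← Fin.sum_univ_eq_sum_range (fun i => φ (i + 1) (extLin (W := W) r N y' i)) r]
          refine Finset.sum_congr rfl (fun i _ => ?_)
          rw [extLin_apply_lt r N y' i i.2])
      refine ⟨fun i : Fin r => z i, ?_⟩
      refine Prod.ext ?_ ?_
      · rw [iotaLin_fst, extLin_restrict r N z hz0]
        exact hz1.symm
      · funext i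
        rw [iotaLin_snd, extLin_restrict r N z hz0]
        refine (hz2 i).symm.trans ?_
        exact extLin_apply_lt r N y' i i.2

theorem key (hσ : Function.Surjective σ) (hpσ : σ p = p)
    (hfl : ∀ i, IsFiniteLength W (N i))
    (hnil : ∀ i (x : N i), ∃ n : ℕ, p ^ n • x = 0)
    (hφ : ∀ i, i < r → ∀ y : N (i + 1), φ i (α i y) = p • φ (i + 1) y)
    (hsurj : ∀ m : N 0, ∃ y : (i : ℕ) → N i, (∀ i, r < i → y i = 0) ∧
      (Finset.range (r + 1)).sum (fun i => φ i (y i)) = m)
    (hker : ∀ y : (i : ℕ) → N i, (∀ i, r < i → y i = 0) →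
      (Finset.range (r + 1)).sum (fun i => φ i (y i)) = 0 →
        ∃ z : (i : ℕ) → N (i + 1), (∀ i, r ≤ i → z i = 0) ∧
          y 0 = α 0 (z 0) ∧ ∀ i, y (i + 1) = α (i + 1) (z (i + 1)) - p • z i)
    (i : ℕ) (hi : i < r) : Function.Injective (α i) := by
  have hι := iota_injective hσ hpσ hfl hφ hsurj hker
  have h1 : ∀ y : N (i + 1), p • y = 0 → α i y = 0 → y = 0 := by
    intro y hy1 hy2
    obtain ⟨x, hx⟩ : ∃ x : (j : Fin r) → N (j + 1), x = Pi.single (⟨i, hi⟩ : Fin r) y := ⟨_, rfl⟩
    have hx_i : x ⟨i, hi⟩ = y := by rw [hx]; exact Pi.single_eq_same _ _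
    have hx_ne : ∀ j : Fin r, (j : ℕ) ≠ i → x j = 0 := by
      intro j hj
      rw [hx]
      exact Pi.single_eq_of_ne (fun h => hj (congrArg Fin.val h)) _
    have hX_i : extLin (W := W) r N x i = y := by
      rw [extLin_apply_lt r N x i hi, hx_i]
    have hX_ne : ∀ j, j ≠ i → extLin (W := W) r N x j = 0 := by
      intro j hj
      by_cases h : j < r
      · rw [extLin_apply_lt r N x j h]
        exact hx_ne ⟨j, h⟩ hj
      · exact extLin_apply_ge r N x j (not_lt.mp h)
    have h0 : iotaLin p r N α x = 0 := by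
      refine Prod.ext ?_ ?_
      · rw [iotaLin_fst]
        by_cases h0 : 0 = i
        · subst h0
          rw [hX_i, hy2]; rfl
        · rw [hX_ne 0 h0, map_zero]; rfl
      · funext j
        rw [iotaLin_snd]
        by_cases hj1 : (j : ℕ) + 1 = i
        · subst hj1
          rw [hX_i, hy2, hx_ne j (by omega), smul_zero, sub_zero]; rfl
        · rw [hX_ne _ hj1, map_zero]
          by_cases hj : (j : ℕ) = i
          · subst hj
            rw [hx_i, hy1, sub_zero]; rfl
          · rw [hx_ne j hj, smul_zero, sub_zero]; rfl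
    have h2 : x = 0 := hι (h0.trans (map_zero _).symm)
    rw [← hx_i, h2]; rfl
  rw [injective_iff_map_eq_zero]
  intro x hx
  by_contra hx0
  classical
  have hex := hnil (i + 1) x
  have hmin : ∀ m, m < Nat.find hex → ¬ (p ^ m • x = 0) := fun m hm => Nat.find_min hex hm
  have hspec := Nat.find_spec hex
  obtain ⟨m, hm⟩ : ∃ m, Nat.find hex = m + 1 := by
    refine Nat.exists_eq_succ_of_ne_zero (fun h => ?_)
    rw [h, pow_zero, one_smul] at hspec
    exact hx0 hspec
  refine hmin m (by omega) ?_
  refine h1 (p ^ m • x) ?_ ?_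
  · rw [smul_smul, ← pow_succ', ← hm]; exact hspec
  · rw [map_smul, hx, smul_zero]

end General

section Quot

variable {W : Type u} [CommRing W] (σ : W →+* W) (p : W)
  (r : ℕ) (N : ℕ → Type v) [∀ i, AddCommGroup (N i)] [∀ i, Module W (N i)]
  (α : ∀ i, N (i + 1) →ₗ[W] N i)
  (φ : ∀ i, N i →ₛₗ[σ] N 0)

/-- `a N_i` -/
def sN (a : W) (i : ℕ) : Submodule W (N i) := LinearMap.range (LinearMap.lsmul W (N i) a)

theorem mem_sN (a : W) (i : ℕ) (x : N i) : x ∈ sN N a i ↔ ∃ y, a • y = x := by
  simp [sN, LinearMap.mem_range]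

noncomputable def αq (a : W) (i : ℕ) : (N (i + 1) ⧸ sN N a (i + 1)) →ₗ[W] (N i ⧸ sN N a i) :=
  Submodule.mapQ _ _ (α i) (by
    intro x hx
    rw [mem_sN] at hx
    obtain ⟨y, rfl⟩ := hx
    rw [Submodule.mem_comap, mem_sN]
    exact ⟨α i y, by simp⟩)

noncomputable def φq (a : W) (ha : σ a = a) (i : ℕ) :
    (N i ⧸ sN N a i) →ₛₗ[σ] (N 0 ⧸ sN N a 0) :=
  Submodule.mapQ _ _ (φ i) (by
    intro x hx
    rw [mem_sN] at hx
    obtain ⟨y, rfl⟩ := hx
    rw [Submodule.mem_comap, mem_sN]
    exact ⟨φ i y, by simp [ha]⟩)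

variable {σ p r N α φ}

theorem pure_of_key (hσ : Function.Surjective σ) (hpσ : σ p = p)
    (hfl : ∀ i, IsFiniteLength W (N i))
    (hφ : ∀ i, i < r → ∀ y : N (i + 1), φ i (α i y) = p • φ (i + 1) y)
    (hsurj : ∀ m : N 0, ∃ y : (i : ℕ) → N i, (∀ i, r < i → y i = 0) ∧
      (Finset.range (r + 1)).sum (fun i => φ i (y i)) = m)
    (hker : ∀ y : (i : ℕ) → N i, (∀ i, r < i → y i = 0) →
      (Finset.range (r + 1)).sum (fun i => φ i (y i)) = 0 →
        ∃ z : (i : ℕ) → N (i + 1), (∀ i, r ≤ i → z i = 0) ∧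
          y 0 = α 0 (z 0) ∧ ∀ i, y (i + 1) = α (i + 1) (z (i + 1)) - p • z i)
    (e : ℕ) (i : ℕ) (hi : i < r) (x : N (i + 1)) (hx : α i x ∈ sN N (p ^ e) i) :
    x ∈ sN N (p ^ e) (i + 1) := by
  have ha : σ (p ^ e) = p ^ e := by rw [map_pow, hpσ]
  have hinj : Function.Injective (αq N α (p ^ e) i) := by
    refine key (σ := σ) (p := p) (r := r) (N := fun i => N i ⧸ sN N (p ^ e) i)
      (α := αq N α (p ^ e)) (φ := φq σ N φ (p ^ e) ha) hσ hpσ ?_ ?_ ?_ ?_ ?_ i hi
    · intro i
      exact (hfl i).of_surjective (Submodule.mkQ_surjective _)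
    · intro i x
      obtain ⟨x, rfl⟩ := Submodule.Quotient.mk_surjective _ x
      refine ⟨e, ?_⟩
      rw [← Submodule.Quotient.mk_smul, Submodule.Quotient.mk_eq_zero, mem_sN]
      exact ⟨x, rfl⟩
    · intro i hi y
      obtain ⟨y, rfl⟩ := Submodule.Quotient.mk_surjective _ y
      simp only [αq, φq, Submodule.mapQ_apply]
      rw [hφ i hi y, Submodule.Quotient.mk_smul]
    · intro m
      obtain ⟨m, rfl⟩ := Submodule.Quotient.mk_surjective _ m
      obtain ⟨y, hy0, hy⟩ := hsurj m
      refine ⟨fun i => Submodule.Quotient.mk (y i), ?_, ?_⟩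
      · intro i hi
        show Submodule.Quotient.mk (y i) = 0
        rw [hy0 i hi, Submodule.Quotient.mk_zero]
      · simp only [φq, Submodule.mapQ_apply]
        rw [← hy]
        exact (map_sum (Submodule.mkQ _) _ _).symm
    · intro yb hyb0 hyb
      classical
      obtain ⟨y, hydef⟩ : ∃ y : (i : ℕ) → N i, y = fun i =>
          if r < i then 0 else Function.surjInv (Submodule.mkQ_surjective (sN N (p ^ e) i)) (yb i) :=
        ⟨_, rfl⟩
      have hy0 : ∀ i, r < i → y i = 0 := by
        intro i hi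
        rw [hydef]
        simp [hi]
      have hy : ∀ i, Submodule.Quotient.mk (y i) = yb i := by
        intro i
        by_cases hi : r < i
        · rw [hy0 i hi, hyb0 i hi, Submodule.Quotient.mk_zero]
        · rw [hydef]
          simp only [hi, if_false]
          exact Function.surjInv_eq (Submodule.mkQ_surjective (sN N (p ^ e) i)) (yb i)
      have hsum : ∑ i ∈ Finset.range (r + 1), φ i (y i) ∈ sN N (p ^ e) 0 := by
        rw [← Submodule.Quotient.mk_eq_zero, ← hyb]
        refine (map_sum (Submodule.mkQ _) _ _).trans ?_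
        refine Finset.sum_congr rfl (fun i _ => ?_)
        rw [← hy i]
        simp only [φq, Submodule.mapQ_apply, Submodule.mkQ_apply]
      rw [mem_sN] at hsum
      obtain ⟨m, hm⟩ := hsum
      obtain ⟨y', hy'0, hy'⟩ := hsurj m
      obtain ⟨z, hz0, hz1, hz2⟩ := hker (fun i => y i - p ^ e • y' i)
        (by
          intro i hi
          show y i - p ^ e • y' i = 0
          rw [hy0 i hi, hy'0 i hi, smul_zero, sub_zero])
        (by
          show ∑ i ∈ Finset.range (r + 1), φ i (y i - p ^ e • y' i) = 0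
          simp only [map_sub, LinearMap.map_smulₛₗ, ha, Finset.sum_sub_distrib, ← Finset.smul_sum]
          rw [hy', hm, sub_self])
      have hmk : ∀ i, yb i = Submodule.Quotient.mk (y i - p ^ e • y' i) := by
        intro i
        rw [← hy i, Submodule.Quotient.eq, mem_sN]
        exact ⟨y' i, by abel⟩
      refine ⟨fun i => Submodule.Quotient.mk (z i), ?_, ?_, ?_⟩
      · intro i hi
        show Submodule.Quotient.mk (z i) = 0
        rw [hz0 i hi, Submodule.Quotient.mk_zero]
      · rw [hmk 0]
        simp only [αq, Submodule.mapQ_apply]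
        exact congrArg _ hz1
      · intro i
        rw [hmk (i + 1)]
        simp only [αq, Submodule.mapQ_apply]
        rw [← Submodule.Quotient.mk_smul, ← Submodule.Quotient.mk_sub]
        exact congrArg _ (hz2 i)
  rw [← Submodule.Quotient.mk_eq_zero]
  apply hinj
  rw [map_zero]
  simp only [αq, Submodule.mapQ_apply]
  rwa [Submodule.Quotient.mk_eq_zero]

end Quot

open scoped DirectSum

theorem exists_isCompl_of_pure {R : Type u} [CommRing R] [IsDomain R] [IsPrincipalIdealRing R]
    {M : Type v} [AddCommGroup M] [Module R M] [Module.Finite R M] (hM : Module.IsTorsion R M)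
    (P : Submodule R M) (hpure : ∀ (a : R) (x : M), a • x ∈ P → ∃ y ∈ P, a • y = a • x) :
    ∃ Q : Submodule R M, IsCompl P Q := by
  have htors : Module.IsTorsion R (M ⧸ P) := by
    intro x
    obtain ⟨x, rfl⟩ := Submodule.Quotient.mk_surjective _ x
    obtain ⟨a, ha⟩ := @hM x
    exact ⟨a, by rw [← Submodule.Quotient.mk_smul, ha, Submodule.Quotient.mk_zero]⟩
  obtain ⟨ι, _, q, -, e, ⟨E⟩⟩ := Module.equiv_directSum_of_isTorsion htors
  classical
  -- lifts of generators
  have hg : ∀ i : ι, ∃ g : M, q i ^ e i • g = 0 ∧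
      Submodule.Quotient.mk g = E.symm (DirectSum.lof R ι (fun i => R ⧸ R ∙ q i ^ e i) i
        (Submodule.Quotient.mk 1)) := by
    intro i
    obtain ⟨g, hg⟩ := Submodule.Quotient.mk_surjective P (E.symm (DirectSum.lof R ι
      (fun i => R ⧸ R ∙ q i ^ e i) i (Submodule.Quotient.mk 1)))
    have h0 : q i ^ e i • g ∈ P := by
      rw [← Submodule.Quotient.mk_eq_zero, Submodule.Quotient.mk_smul, hg, ← map_smul, ← map_smul,
        ← Submodule.Quotient.mk_smul, smul_eq_mul, mul_one]
      rw [(Submodule.Quotient.mk_eq_zero _).mpr (Submodule.mem_span_singleton_self _), map_zero,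
        map_zero]
    obtain ⟨y, hyP, hy⟩ := hpure _ _ h0
    refine ⟨g - y, by rw [smul_sub, hy, sub_self], ?_⟩
    rw [Submodule.Quotient.mk_sub, (Submodule.Quotient.mk_eq_zero _).mpr hyP, sub_zero, hg]
  choose g hg0 hg1 using hg
  let s' : (⨁ i : ι, R ⧸ R ∙ q i ^ e i) →ₗ[R] M :=
    DirectSum.toModule R ι M (fun i => (R ∙ q i ^ e i).liftQ (LinearMap.toSpanSingleton R M (g i))
      (by
        rw [Submodule.span_le, Set.singleton_subset_iff, SetLike.mem_coe, LinearMap.mem_ker,
          LinearMap.toSpanSingleton_apply]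
        exact hg0 i))
  have hs' : P.mkQ.comp s' = E.symm.toLinearMap := by
    apply DirectSum.linearMap_ext
    intro i
    apply Submodule.linearMap_qext
    apply LinearMap.ext_ring
    simp only [LinearMap.comp_apply, Submodule.mkQ_apply, s', DirectSum.toModule_lof,
      Submodule.liftQ_apply, LinearMap.toSpanSingleton_apply, one_smul, LinearEquiv.coe_coe]
    exact hg1 i
  let f : M →ₗ[R] P := LinearMap.codRestrict P (LinearMap.id - (s'.comp E.toLinearMap).comp P.mkQ)
    (by
      intro x
      rw [← Submodule.Quotient.mk_eq_zero]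
      simp only [LinearMap.sub_apply, LinearMap.id_apply, LinearMap.comp_apply,
        Submodule.Quotient.mk_sub]
      have := LinearMap.congr_fun hs' (E (P.mkQ x))
      simp only [LinearMap.comp_apply, Submodule.mkQ_apply, LinearEquiv.coe_coe,
        LinearEquiv.symm_apply_apply] at this
      rw [LinearEquiv.coe_coe, Submodule.mkQ_apply, this, sub_self])
  refine ⟨LinearMap.ker f, LinearMap.isCompl_of_proj (f := f) ?_⟩
  intro x
  apply Subtype.ext
  simp only [f, LinearMap.codRestrict_apply, LinearMap.sub_apply, LinearMap.id_apply,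
    LinearMap.comp_apply, Submodule.mkQ_apply]
  rw [(Submodule.Quotient.mk_eq_zero _).mpr x.2, LinearEquiv.coe_coe, map_zero, map_zero, sub_zero]


theorem witt_nil (p : ℕ) [Fact p.Prime]
    (k : Type u) [Field k] [CharP k p] [PerfectRing k p]
    (M : Type v) [AddCommGroup M] [Module (WittVector p k) M]
    (hfl : IsFiniteLength (WittVector p k) M) (x : M) :
    ∃ n : ℕ, (p : WittVector p k) ^ n • x = 0 := by
  haveI : IsArtinian (WittVector p k) M := (isFiniteLength_iff_isNoetherian_isArtinian.mp hfl).2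
  have hex : ∃ a : WittVector p k, a ≠ 0 ∧ a • x = 0 := by
    by_contra hcon
    push Not at hcon
    have hinj : Function.Injective (LinearMap.toSpanSingleton (WittVector p k) M x) := by
      rw [injective_iff_map_eq_zero]
      intro a ha
      by_contra ha0
      exact hcon a ha0 ha
    haveI : IsArtinianRing (WittVector p k) := isArtinian_of_injective _ hinj
    have hfield := IsArtinianRing.isField_of_isDomain (WittVector p k)
    obtain ⟨b, hb⟩ := hfield.mul_inv_cancel (WittVector.p_nonzero p k)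
    exact (WittVector.irreducible p (k := k)).not_isUnit (IsUnit.of_mul_eq_one _ hb)
  obtain ⟨a, ha0, hax⟩ := hex
  obtain ⟨m, b, hb⟩ := WittVector.exists_eq_pow_p_mul' a ha0
  refine ⟨m, ?_⟩
  have : (b : WittVector p k) • ((p : WittVector p k) ^ m • x) = 0 := by
    rw [smul_smul, mul_comm, ← hb, hax]
  have h2 := congrArg (fun y => ((b⁻¹ : (WittVector p k)ˣ) : WittVector p k) • y) this
  simpa [smul_smul] using h2



theorem main (p : ℕ) [Fact p.Prime]
    (k : Type u) [Field k] [CharP k p] [PerfectRing k p] (r : ℕ)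
    (N : ℕ → Type v) [∀ i, AddCommGroup (N i)] [∀ i, Module (WittVector p k) (N i)]
    (hfl : ∀ i, IsFiniteLength (WittVector p k) (N i))
    (α : ∀ i, N (i + 1) →ₗ[WittVector p k] N i)
    (φ : ∀ i, N i →ₛₗ[(WittVector.frobenius : WittVector p k →+* WittVector p k)] N 0)
    (hφ : ∀ i, i < r → ∀ y : N (i + 1), φ i (α i y) = (p : WittVector p k) • φ (i + 1) y)
    (hsurj : ∀ m : N 0, ∃ y : (i : ℕ) → N i, (∀ i, r < i → y i = 0) ∧
      (Finset.range (r + 1)).sum (fun i => φ i (y i)) = m)
    (hker : ∀ y : (i : ℕ) → N i, (∀ i, r < i → y i = 0) →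
      (Finset.range (r + 1)).sum (fun i => φ i (y i)) = 0 →
        ∃ z : (i : ℕ) → N (i + 1), (∀ i, r ≤ i → z i = 0) ∧
          y 0 = α 0 (z 0) ∧ ∀ i, y (i + 1) = α (i + 1) (z (i + 1)) - (p : WittVector p k) • z i)
    (i : ℕ) (hi : i < r) :
    Function.Injective (α i) ∧
      ∃ Q : Submodule (WittVector p k) (N i), IsCompl (LinearMap.range (α i)) Q := by
  have hσ : Function.Surjective (WittVector.frobenius : WittVector p k →+* WittVector p k) :=
    (WittVector.frobenius_bijective p k).surjective
  have hpσ : (WittVector.frobenius : WittVector p k →+* WittVector p k) (p : WittVector p k) =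
      (p : WittVector p k) := map_natCast _ p
  have hnil : ∀ i (x : N i), ∃ n : ℕ, (p : WittVector p k) ^ n • x = 0 :=
    fun i x => witt_nil p k (N i) (hfl i) x
  refine ⟨key hσ hpσ hfl hnil hφ hsurj hker i hi, ?_⟩
  haveI : IsNoetherian (WittVector p k) (N i) :=
    (isFiniteLength_iff_isNoetherian_isArtinian.mp (hfl i)).1
  have htors : Module.IsTorsion (WittVector p k) (N i) := by
    intro x
    obtain ⟨n, hn⟩ := hnil i x
    exact ⟨⟨(p : WittVector p k) ^ n,
      mem_nonZeroDivisors_of_ne_zero (pow_ne_zero _ (WittVector.p_nonzero p k))⟩, hn⟩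
  refine exists_isCompl_of_pure htors _ ?_
  intro a x hax
  by_cases ha0 : a = 0
  · exact ⟨0, Submodule.zero_mem _, by rw [ha0, zero_smul, zero_smul]⟩
  obtain ⟨m, b, hb⟩ := WittVector.exists_eq_pow_p_mul' a ha0
  obtain ⟨w, hw⟩ := hax
  have hmem : α i w ∈ sN N ((p : WittVector p k) ^ m) i := by
    rw [mem_sN]
    exact ⟨(b : WittVector p k) • x, by rw [smul_smul, ← hb, hw]⟩
  have hw' := pure_of_key hσ hpσ hfl hφ hsurj hker m i hi w hmem
  rw [mem_sN] at hw'
  obtain ⟨w', hw'⟩ := hw'
  refine ⟨α i (((b⁻¹ : (WittVector p k)ˣ) : WittVector p k) • w'), ⟨_, rfl⟩, ?_⟩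
  rw [← hw, ← hw', map_smul, map_smul, smul_smul, hb, mul_assoc, Units.mul_inv, mul_one]

end Groth.Agent.S18418

namespace Groth.Agent.S18418

/-- Let k be a perfect field of characteristic p and W = W(k) its ring of Witt vectors with Frobenius σ.
Fix r and W-modules of finite length N_0 = M, N_1, N_2, … with W-linear maps α_i : N_{i+1} → N_i and
σ-semilinear maps φ_i : N_i → M such that φ_i ∘ α_i = p φ_{i+1} for all i < r. Let ι be the map
sending (x_1, …, x_r) ∈ N_1 ⊕ ⋯ ⊕ N_r to (α_0 x_1, α_1 x_2 − p x_1, …, α_{r−1} x_r − p x_{r−1}, −p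
x_r) ∈ N_0 ⊕ ⋯ ⊕ N_r, and Φ the map N_0 ⊕ ⋯ ⊕ N_r → M, (y_i) ↦ Σ_i φ_i(y_i). Suppose that Φ is
surjective and that its kernel is contained in the image of ι (with the displayed relation this says
that Φ induces a σ-semilinear bijection from the cokernel of ι onto M). Then for every i < r the map
α_i is injective and its image is a direct summand of N_i (so the N_i form a filtration of M by
direct summands, the data of a Fontaine–Laffaille module). Families are indexed by all natural
numbers; only the indices ≤ r enter. -/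
theorem result (p : ℕ) [Fact p.Prime]
    (k : Type u) [Field k] [CharP k p] [PerfectRing k p] (r : ℕ)
    (N : ℕ → Type v) [∀ i, AddCommGroup (N i)] [∀ i, Module (WittVector p k) (N i)]
    (hfl : ∀ i, IsFiniteLength (WittVector p k) (N i))
    (α : ∀ i, N (i + 1) →ₗ[WittVector p k] N i)
    (φ : ∀ i, N i →ₛₗ[(WittVector.frobenius : WittVector p k →+* WittVector p k)] N 0)
    (hφ : ∀ i, i < r → ∀ y : N (i + 1), φ i (α i y) = (p : WittVector p k) • φ (i + 1) y)
    (hsurj : ∀ m : N 0, ∃ y : (i : ℕ) → N i, (∀ i, r < i → y i = 0) ∧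
      (Finset.range (r + 1)).sum (fun i => φ i (y i)) = m)
    (hker : ∀ y : (i : ℕ) → N i, (∀ i, r < i → y i = 0) →
      (Finset.range (r + 1)).sum (fun i => φ i (y i)) = 0 →
        ∃ z : (i : ℕ) → N (i + 1), (∀ i, r ≤ i → z i = 0) ∧
          y 0 = α 0 (z 0) ∧ ∀ i, y (i + 1) = α (i + 1) (z (i + 1)) - (p : WittVector p k) • z i)
    (i : ℕ) (hi : i < r) :
    Function.Injective (α i) ∧
      ∃ Q : Submodule (WittVector p k) (N i), IsCompl (LinearMap.range (α i)) Q := by
  exact main p k r N hfl α φ hφ hsurj hker i hi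

end Groth.Agent.S18418
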