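import Groth.Statements.S18423
import Mathlib
import Groth.Agent.Lib.Helper27.DiscLocal

set_option autoImplicit false
universe u v
open Pi1

namespace Groth.Agent.S18423

/-- Let A be a Noetherian local ring of Krull dimension at least 2 and B a finite flat commutative
A-algebra. If B is etale over A at every prime of B lying over a non-maximal prime of A (that is,
Spec B is etale over the punctured spectrum of A), then B is etale over A. -/
theorem result (A : Type u) (B : Type v) [CommRing A] [CommRing B]
    [Algebra A B] [IsNoetherianRing A] [IsLocalRing A] (hdim : (2 : WithBot ℕ∞) ≤ ringKrullDim A)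
    [Module.Finite A B] [Module.Flat A B]
    (h : ∀ q : PrimeSpectrum B, q.asIdeal.comap (algebraMap A B) ≠ IsLocalRing.maximalIdeal A →
      Algebra.IsEtaleAt A q.asIdeal) :
    Algebra.Etale A B := by
  classical
  have hfree : Module.Free A B := Module.free_of_flat_of_isLocalRing
  let b := Module.Free.chooseBasis A B
  rw [Groth.Agent.Lib.Helper27.DiscEtale.etale_iff_isUnit_discr b]
  by_contra hd
  have hdm : Algebra.discr A b ∈ IsLocalRing.maximalIdeal A := by
    rwa [IsLocalRing.mem_maximalIdeal, mem_nonunits_iff]
  have hle : Ideal.span {Algebra.discr A b} ≤ IsLocalRing.maximalIdeal A := by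
    rwa [Ideal.span_le, Set.singleton_subset_iff]
  obtain ⟨p, hp, hpm⟩ := Ideal.exists_minimalPrimes_le hle
  have hpp : p.IsPrime := hp.1.1
  have hht : p.height ≤ 1 := Ideal.height_le_one_of_isPrincipal_of_mem_minimalPrimes _ p hp
  have hne : p ≠ IsLocalRing.maximalIdeal A := by
    intro heq
    rw [heq] at hht
    have h1 := IsLocalRing.maximalIdeal_height_eq_ringKrullDim (R := A)
    rw [← h1] at hdim
    have h2 : ((2 : ℕ∞) : WithBot ℕ∞) ≤ ((IsLocalRing.maximalIdeal A).height : WithBot ℕ∞) := hdim
    have h3 : (2 : ℕ∞) ≤ (IsLocalRing.maximalIdeal A).height := WithBot.coe_le_coe.mp h2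
    have h4 : (2 : ℕ∞) ≤ 1 := h3.trans hht
    exact absurd h4 (by decide)
  have hmem : Algebra.discr A b ∈ p := hp.1.2 (Ideal.subset_span rfl)
  refine Groth.Agent.Lib.Helper27.DiscLocal.discr_notMem_of_isUnramifiedAt b p ?_ hmem
  intro q hq hqc
  have := h ⟨q, hq⟩ (by rw [hqc]; exact hne)
  have h5 : Algebra.FormallyEtale A (Localization.AtPrime q) := this
  exact inferInstanceAs (Algebra.FormallyUnramified A (Localization.AtPrime q))

end Groth.Agent.S18423
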