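import Groth.Statements.S18426
import Groth.Agent.Lib.Helper69.NormField

set_option autoImplicit false
universe u
open Pi1

namespace Groth.Agent.S18426

open AlgebraicGeometry CategoryTheory CategoryTheory.Limits in
/-- Suppose X is an integral scheme that is Noetherian and normal, write K for its function field, and
take L to be a finite separable extension of K. Then the normalization of X in L, namely the
relative normalization of the morphism Spec L → Spec K → X, is finite over X. (That this
normalization is a normal integral scheme with function field L is not restated.) -/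
theorem result {X : Scheme.{u}} [IsIntegral X] [IsNoetherian X]
    (hX : Pi1.IsNormalScheme X) (L : Type u) [Field L] [Algebra X.functionField L] [FiniteDimensional X.functionField L]
    [Algebra.IsSeparable X.functionField L]
    [QuasiCompact (Spec.map (CommRingCat.ofHom (algebraMap X.functionField L)) ≫ X.fromSpecStalk (genericPoint X))]
    [QuasiSeparated (Spec.map (CommRingCat.ofHom (algebraMap X.functionField L)) ≫ X.fromSpecStalk (genericPoint X))] :
    IsFinite (Spec.map (CommRingCat.ofHom (algebraMap X.functionField L)) ≫ X.fromSpecStalk (genericPoint X)).fromNormalization := by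
  open Groth.Agent.Lib.Helper69.NormField in
  rw [isFinite_iff]
  refine ⟨inferInstance, fun U hU => ?_⟩
  set φ := algebraMap X.functionField L with hφ
  rw [Scheme.Hom.fromNormalization_app _ hU]
  letI : Algebra Γ(X, U) Γ(Spec (CommRingCat.of L), gen φ ⁻¹ᵁ U) := ((gen φ).app U).hom.toAlgebra
  have hmain : Module.Finite Γ(X, U)
      (integralClosure Γ(X, U) Γ(Spec (CommRingCat.of L), gen φ ⁻¹ᵁ U)) := by
    by_cases hne : Nonempty ↥U
    · have hη := genericPoint_mem U hne
      haveI : IsDomain Γ(X, U) := @IsIntegral.component_integral X _ U hne
      haveI : IsIntegrallyClosed Γ(X, U) := isIntegrallyClosed_sections hX hU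
      haveI : IsNoetherianRing Γ(X, U) := IsLocallyNoetherian.component_noetherian ⟨U, hU⟩
      letI : Algebra Γ(X, U) X.functionField := (X.presheaf.germ U (genericPoint X) hη).hom.toAlgebra
      haveI hfr : IsFractionRing Γ(X, U) X.functionField :=
        @functionField_isFractionRing_of_isAffineOpen X _ U hU hne
      letI : Algebra Γ(X, U) L := (φ.comp (X.presheaf.germ U (genericPoint X) hη).hom).toAlgebra
      haveI : IsScalarTower Γ(X, U) X.functionField L := IsScalarTower.of_algebraMap_eq fun _ => rfl
      have hfin : Module.Finite Γ(X, U) (integralClosure Γ(X, U) L) :=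
        IsIntegralClosure.finite Γ(X, U) X.functionField L _
      have hs := app_secIso φ U hη
      let e : Γ(Spec (CommRingCat.of L), gen φ ⁻¹ᵁ U) ≃ₐ[Γ(X, U)] L :=
        { (secIso (gen φ) U (by rw [gen_closedPoint]; exact hη)).commRingCatIsoToRingEquiv with
          commutes' := fun a => by
            have := congr($(hs).hom a)
            exact this }
      exact Module.Finite.equiv e.symm.mapIntegralClosure.toLinearEquiv
    · have hbot : U = ⊥ := by
        ext x
        simp only [TopologicalSpace.Opens.coe_bot, Set.mem_empty_iff_false, iff_false]
        exact fun hx => hne ⟨⟨x, hx⟩⟩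
      subst hbot
      have : Subsingleton (integralClosure Γ(X, (⊥ : X.Opens))
          Γ(Spec (CommRingCat.of L), gen φ ⁻¹ᵁ (⊥ : X.Opens))) :=
        Module.subsingleton Γ(X, (⊥ : X.Opens)) _
      infer_instance
  rw [CommRingCat.hom_comp]
  refine RingHom.Finite.comp (RingHom.Finite.of_surjective _ ?_) ?_
  · exact (ConcreteCategory.bijective_of_isIso _).surjective
  · rw [CommRingCat.hom_ofHom, RingHom.finite_algebraMap]
    exact hmain


end Groth.Agent.S18426
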