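import Groth.Statements.S18429
-- import your own Groth.Agent.* helpers here

set_option autoImplicit false
universe u
open SpinCurv

namespace Groth.Agent.S18429

/-- Let n ≥ 1 and r ≥ 2 be integers and let e_0, …, e_{nr} be integers with e_0 = e_{nr} = 0 (the
coefficients of a chain of nr - 1 exceptional curves joining two non-exceptional components with
coefficient zero) such that at every interior index 1 ≤ j ≤ nr - 1 the second difference e_{j-1} - 2
e_j + e_{j+1} (the degree of the divisor Σ e_i E_i on the j-th curve of the chain) is divisible by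
r. Then there are integers e'_0, …, e'_{nr}, with e'_j ≡ e_j modulo r for every interior j, with
e'_0 = e'_{nr} = 0 and every e'_j ≤ 0, whose second differences at the interior indices are each 0
or r, and are nonzero at no two distinct interior indices. -/
theorem result (n r : ℕ) (hn : 1 ≤ n) (hr : 2 ≤ r)
    (e : ℕ → ℤ) (he0 : e 0 = 0) (henr : e (n * r) = 0)
    (hdiv : ∀ j : ℕ, 1 ≤ j → j < n * r → (r : ℤ) ∣ e (j - 1) - 2 * e j + e (j + 1)) :
    ∃ e' : ℕ → ℤ, e' 0 = 0 ∧ e' (n * r) = 0 ∧
      (∀ j : ℕ, 1 ≤ j → j < n * r → (r : ℤ) ∣ e' j - e j) ∧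
      (∀ j : ℕ, j ≤ n * r → e' j ≤ 0) ∧
      (∀ j : ℕ, 1 ≤ j → j < n * r →
        (e' (j - 1) - 2 * e' j + e' (j + 1) = 0 ∨ e' (j - 1) - 2 * e' j + e' (j + 1) = r)) ∧
      (∀ j j' : ℕ, 1 ≤ j → j < n * r → 1 ≤ j' → j' < n * r →
        e' (j - 1) - 2 * e' j + e' (j + 1) ≠ 0 → e' (j' - 1) - 2 * e' j' + e' (j' + 1) ≠ 0 → j = j') := by
  have hr0 : (0:ℤ) < r := by exact_mod_cast (by omega : 0 < r)
  have hcong : ∀ j, j ≤ n * r → (r:ℤ) ∣ e j - j * e 1 := by
    intro j
    induction j using Nat.strong_induction_on with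
    | _ j ih =>
      intro hj
      match j, ih, hj with
      | 0, _, _ => simp [he0]
      | 1, _, _ => simp
      | (j+2), ih, hj =>
        have h1 := ih j (by omega) (by omega)
        have h2 := ih (j+1) (by omega) (by omega)
        have h3 := hdiv (j+1) (by omega) (by omega)
        simp only [Nat.add_sub_cancel] at h3
        have : e (j+2) - ((j+2 : ℕ):ℤ) * e 1 = (e j - 2 * e (j+1) + e (j+1+1))
            + 2 * (e (j+1) - ((j+1:ℕ):ℤ) * e 1) - (e j - (j:ℤ) * e 1) := by push_cast; ring
        rw [this]
        exact dvd_sub (dvd_add h3 (dvd_mul_of_dvd_right h2 2)) h1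
  obtain ⟨a, ha0, har, hae⟩ : ∃ a : ℤ, 0 ≤ a ∧ a < r ∧ (r:ℤ) ∣ a + e 1 := by
    refine ⟨(- e 1) % r, Int.emod_nonneg _ hr0.ne', Int.emod_lt_of_pos _ hr0, ?_⟩
    have := Int.emod_add_mul_ediv (- e 1) r
    exact ⟨-((- e 1) / r), by linarith⟩
  by_cases ha' : a = 0
  · have he1 : (r:ℤ) ∣ e 1 := by simpa [ha'] using hae
    refine ⟨fun _ => 0, rfl, rfl, ?_, ?_, ?_, ?_⟩
    · intro j hj1 hj2
      have h := hcong j hj2.le
      have : (0:ℤ) - e j = -((e j - j * e 1) + j * e 1) := by ring
      rw [this]
      exact (dvd_add h (dvd_mul_of_dvd_right he1 _)).neg_right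
    · intros; simp
    · intros; left; simp
    · intro j j' _ _ _ _ h; simp at h
  · have hapos : 0 < a := lt_of_le_of_ne ha0 (Ne.symm ha')
    obtain ⟨bN, hbN⟩ : ∃ bN : ℕ, (bN : ℤ) = r - a :=
      ⟨(r - a).toNat, Int.toNat_of_nonneg (by linarith)⟩
    have hbNpos : 0 < bN := by
      have : (0:ℤ) < bN := by rw [hbN]; linarith
      exact_mod_cast this
    have hbNr : bN < r := by
      have : (bN:ℤ) < r := by rw [hbN]; linarith
      exact_mod_cast this
    have hKM : n * bN < n * r := Nat.mul_lt_mul_of_pos_left hbNr (by omega)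
    have hKpos : 0 < n * bN := Nat.mul_pos (by omega) hbNpos
    have hrel : a * ((n * bN : ℕ):ℤ) = (r - a) * (((n * r : ℕ):ℤ) - ((n * bN : ℕ):ℤ)) := by
      push_cast; rw [hbN]; ring
    generalize hK : n * bN = K at hKM hKpos hrel
    generalize hM : n * r = M at *
    have hdvd_aux : ∀ j : ℕ, j ≤ M → (r:ℤ) ∣ -a * j - e j := by
      intro j hj
      have h := hcong j hj
      have : -a * j - e j = -((e j - j * e 1) + j * (a + e 1)) := by ring
      rw [this]
      exact (dvd_add h (dvd_mul_of_dvd_right hae _)).neg_right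
    have hMr : (r:ℤ) ∣ (M:ℤ) := by rw [← hM]; push_cast; exact dvd_mul_left _ _
    refine ⟨fun j => if j ≤ K then -a * j else -(r - a) * ((M:ℤ) - j), ?_, ?_, ?_, ?_, ?_, ?_⟩
    · simp
    · have : ¬ M ≤ K := by omega
      simp [this]
    · intro j hj1 hj2
      by_cases hjK : j ≤ K
      · simp only [hjK, if_true]
        exact hdvd_aux j hj2.le
      · simp only [hjK, if_false]
        have : -(r - a) * ((M:ℤ) - j) - e j = (-a * j - e j) + r * j - (r - a) * M := by ring
        rw [this]
        exact dvd_sub (dvd_add (hdvd_aux j hj2.le) (dvd_mul_right _ _))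
          (dvd_mul_of_dvd_right hMr _)
    · intro j hj
      by_cases hjK : j ≤ K
      · simp only [hjK, if_true]
        have : (0:ℤ) ≤ j := by positivity
        nlinarith
      · simp only [hjK, if_false]
        have : (0:ℤ) ≤ (M:ℤ) - j := by
          have : (j:ℤ) ≤ M := by exact_mod_cast hj
          linarith
        nlinarith
    · intro j hj1 hj2
      obtain ⟨i, rfl⟩ : ∃ i, j = i + 1 := ⟨j - 1, by omega⟩
      simp only [Nat.add_sub_cancel]
      by_cases h1 : i + 1 + 1 ≤ K
      · left
        have h2 : i + 1 ≤ K := by omega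
        have h3 : i ≤ K := by omega
        simp only [h1, h2, h3, if_true]
        push_cast; ring
      · by_cases h2 : i + 1 ≤ K
        · right
          have h3 : i ≤ K := by omega
          have hKi : K = i + 1 := by omega
          subst hKi
          simp only [h1, h2, h3, if_true, if_false]
          push_cast at hrel ⊢
          linear_combination hrel
        · left
          by_cases h3 : i ≤ K
          · have hKi : K = i := by omega
            subst hKi
            simp only [h1, h2, h3, if_true, if_false]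
            push_cast at hrel ⊢
            linear_combination (-1 : ℤ) * hrel
          · simp only [h1, h2, h3, if_false]
            push_cast; ring
    · have key : ∀ j : ℕ, 1 ≤ j → j < M →
          (if j - 1 ≤ K then -a * ((j - 1 : ℕ):ℤ) else -(r - a) * ((M:ℤ) - ((j - 1 : ℕ):ℤ)))
            - 2 * (if j ≤ K then -a * (j:ℤ) else -(r - a) * ((M:ℤ) - j))
            + (if j + 1 ≤ K then -a * ((j + 1 : ℕ):ℤ) else -(r - a) * ((M:ℤ) - ((j + 1 : ℕ):ℤ))) ≠ 0 →
          j = K := by
        intro j hj1 hj2 hne
        obtain ⟨i, rfl⟩ : ∃ i, j = i + 1 := ⟨j - 1, by omega⟩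
        simp only [Nat.add_sub_cancel] at hne
        by_contra hjK
        apply hne
        by_cases h1 : i + 1 + 1 ≤ K
        · have h2 : i + 1 ≤ K := by omega
          have h3 : i ≤ K := by omega
          simp only [h1, h2, h3, if_true]
          push_cast; ring
        · have h2 : ¬ i + 1 ≤ K := by omega
          by_cases h3 : i ≤ K
          · have hKi : K = i := by omega
            subst hKi
            simp only [h1, h2, h3, if_true, if_false]
            push_cast at hrel ⊢
            linear_combination (-1 : ℤ) * hrel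
          · simp only [h1, h2, h3, if_false]
            push_cast; ring
      intro j j' hj1 hj2 hj'1 hj'2 hne hne'
      rw [key j hj1 hj2 hne, key j' hj'1 hj'2 hne']

end Groth.Agent.S18429
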