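import Groth.Statements.S18432
import Mathlib
import Groth.Agent.Lib.Helper91.NodeNF2

set_option autoImplicit false
universe u
open SpinCurv

set_option linter.unusedSectionVars false

namespace Groth.Agent.S18432Aux

open IsLocalRing Groth.Agent.Lib.Helper91.NodeNF

variable {R : Type u} [CommRing R] [IsLocalRing R] [IsAdicComplete (maximalIdeal R) R]

theorem alpha_zero (p q : R) (v : Fin 2 → NodeRing R (p * q)) :
    Matrix.mulVec (nodeAlpha R p q) v 0 =
      NodeRing.x R (p * q) * v 0 + algebraMap R (NodeRing R (p * q)) p * v 1 := by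
  simp [nodeAlpha, Matrix.mulVec, dotProduct, Fin.sum_univ_two]

theorem alpha_one (p q : R) (v : Fin 2 → NodeRing R (p * q)) :
    Matrix.mulVec (nodeAlpha R p q) v 1 =
      algebraMap R (NodeRing R (p * q)) q * v 0 + NodeRing.y R (p * q) * v 1 := by
  simp [nodeAlpha, Matrix.mulVec, dotProduct, Fin.sum_univ_two]

theorem hxy (p q : R) : NodeRing.x R (p * q) * NodeRing.y R (p * q) =
    algebraMap R (NodeRing R (p * q)) p * algebraMap R (NodeRing R (p * q)) q := by
  rw [xy_eq (p * q), RingHom.map_mul (algebraMap R (NodeRing R (p * q)))]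

theorem ker_key (p q : R) (hp : p ∈ maximalIdeal R)
    (ax ay by' bx : PowerSeries R)
    (h0 : NodeRing.x R (p * q) * (oX (p * q) ax + NodeRing.y R (p * q) * oY (p * q) ay) +
      algebraMap R (NodeRing R (p * q)) p * (oY (p * q) by' + NodeRing.x R (p * q) * oX (p * q) bx) = 0)
    (h1 : algebraMap R (NodeRing R (p * q)) q * (oX (p * q) ax + NodeRing.y R (p * q) * oY (p * q) ay) +
      NodeRing.y R (p * q) * (oY (p * q) by' + NodeRing.x R (p * q) * oX (p * q) bx) = 0) :
    ax + PowerSeries.C p * bx = 0 ∧ PowerSeries.C q * ay + by' = 0 := by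
  have hπ : p * q ∈ maximalIdeal R := Ideal.mul_mem_right _ _ hp
  have hxy' := hxy p q
  constructor
  · set G := PowerSeries.C q * ay + by' with hG
    have hGo : oY (p * q) G = algebraMap R (NodeRing R (p * q)) (PowerSeries.constantCoeff G) +
        NodeRing.y R (p * q) * oY (p * q) (shift G) := by
      conv_lhs => rw [shift_spec G]
      simp only [map_add, RingHom.map_mul (oY (p * q)), oY_X, oY_C]
    have hGo' : oY (p * q) G = algebraMap R (NodeRing R (p * q)) q * oY (p * q) ay + oY (p * q) by' := by
      rw [hG]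
      simp only [map_add, RingHom.map_mul (oY (p * q)), oY_C]
    have e : oX (p * q) (PowerSeries.X * (ax + PowerSeries.C p * bx) +
          PowerSeries.C (p * PowerSeries.constantCoeff G)) +
        NodeRing.y R (p * q) * oY (p * q) (PowerSeries.C p * shift G) = 0 := by
      simp only [map_add, RingHom.map_mul (oX (p * q)), RingHom.map_mul (oY (p * q)), oX_X, oX_C,
        oY_C, RingHom.map_mul (algebraMap R (NodeRing R (p * q)))]
      linear_combination h0 + (-(oY (p * q) ay)) * hxy' +
        (-(algebraMap R (NodeRing R (p * q)) p)) * hGo + (algebraMap R (NodeRing R (p * q)) p) * hGo'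
    have := (node_unique (p * q) hπ _ _ e).1
    ext n
    have h2 := congrArg (PowerSeries.coeff (n + 1)) this
    rw [map_add, PowerSeries.coeff_succ_X_mul, PowerSeries.coeff_C, if_neg (Nat.succ_ne_zero n),
      add_zero, map_zero] at h2
    rw [h2, map_zero]
  · have e : oX (p * q) (PowerSeries.C q * ax + PowerSeries.C (p * q) * bx) +
        NodeRing.y R (p * q) * oY (p * q) (PowerSeries.C q * ay + by') = 0 := by
      simp only [map_add, RingHom.map_mul (oX (p * q)), RingHom.map_mul (oY (p * q)), oX_C,
        oY_C, RingHom.map_mul (algebraMap R (NodeRing R (p * q)))]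
      linear_combination h1 + (-(oX (p * q) bx)) * hxy'
    exact (node_unique (p * q) hπ _ _ e).2

end Groth.Agent.S18432Aux

namespace Groth.Agent.S18432

/-- Let R be a complete Noetherian local ring, p, q elements of its maximal ideal, A = R[[x, y]]/(xy -
pq), and α(p, q) the A-linear endomorphism of A² with matrix (x p; q y), sending a column (a, b) to
(x a + p b, q a + y b). Then the kernel of α(p, q) is the submodule of A² generated by the columns
(p, -x) and (y, -q); equivalently the image of α(p, q) (the standard rank-one torsion-free module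
E(p, q)) is presented by two generators ξ, v with the relations p ξ = x v and y ξ = q v. -/
theorem result (R : Type u) [CommRing R] [IsNoetherianRing R] [IsLocalRing R]
    [IsAdicComplete (IsLocalRing.maximalIdeal R) R]
    (p q : R) (hp : p ∈ IsLocalRing.maximalIdeal R) (hq : q ∈ IsLocalRing.maximalIdeal R) :
    LinearMap.ker (Matrix.mulVecLin (SpinCurv.nodeAlpha R p q)) =
      Submodule.span (SpinCurv.NodeRing R (p * q))
        {![algebraMap R (SpinCurv.NodeRing R (p * q)) p, -SpinCurv.NodeRing.x R (p * q)],
         ![SpinCurv.NodeRing.y R (p * q), -algebraMap R (SpinCurv.NodeRing R (p * q)) q]} := by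
  have hπ : p * q ∈ IsLocalRing.maximalIdeal R := Ideal.mul_mem_right _ _ hp
  have hxy := Groth.Agent.S18432Aux.hxy p q
  apply le_antisymm
  · intro v hv
    rw [LinearMap.mem_ker, Matrix.mulVecLin_apply] at hv
    have h0 := congrFun hv 0
    have h1 := congrFun hv 1
    rw [Groth.Agent.S18432Aux.alpha_zero] at h0
    rw [Groth.Agent.S18432Aux.alpha_one] at h1
    obtain ⟨ax, ay, ha⟩ := Groth.Agent.Lib.Helper91.NodeNF.node_exists (p * q) hπ (v 0)
    obtain ⟨by', bx, hb⟩ := Groth.Agent.Lib.Helper91.NodeNF.node_exists' (p * q) hπ (v 1)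
    rw [ha, hb] at h0 h1
    simp only [Pi.zero_apply] at h0 h1
    obtain ⟨k1, k2⟩ := Groth.Agent.S18432Aux.ker_key p q hp ax ay by' bx h0 h1
    have k1' : Groth.Agent.Lib.Helper91.NodeNF.oX (p * q) ax =
        -(algebraMap R (SpinCurv.NodeRing R (p * q)) p *
          Groth.Agent.Lib.Helper91.NodeNF.oX (p * q) bx) := by
      have := congrArg (Groth.Agent.Lib.Helper91.NodeNF.oX (p * q)) k1
      simp only [map_add, RingHom.map_mul (Groth.Agent.Lib.Helper91.NodeNF.oX (p * q)),
        Groth.Agent.Lib.Helper91.NodeNF.oX_C, map_zero] at this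
      linear_combination this
    have k2' : Groth.Agent.Lib.Helper91.NodeNF.oY (p * q) by' =
        -(algebraMap R (SpinCurv.NodeRing R (p * q)) q *
          Groth.Agent.Lib.Helper91.NodeNF.oY (p * q) ay) := by
      have := congrArg (Groth.Agent.Lib.Helper91.NodeNF.oY (p * q)) k2
      simp only [map_add, RingHom.map_mul (Groth.Agent.Lib.Helper91.NodeNF.oY (p * q)),
        Groth.Agent.Lib.Helper91.NodeNF.oY_C, map_zero] at this
      linear_combination this
    rw [Submodule.mem_span_pair]
    refine ⟨-(Groth.Agent.Lib.Helper91.NodeNF.oX (p * q) bx),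
      Groth.Agent.Lib.Helper91.NodeNF.oY (p * q) ay, ?_⟩
    funext i
    fin_cases i
    · show (-(Groth.Agent.Lib.Helper91.NodeNF.oX (p * q) bx)) *
          algebraMap R (SpinCurv.NodeRing R (p * q)) p +
        Groth.Agent.Lib.Helper91.NodeNF.oY (p * q) ay * SpinCurv.NodeRing.y R (p * q) = v 0
      rw [ha, k1']
      ring
    · show (-(Groth.Agent.Lib.Helper91.NodeNF.oX (p * q) bx)) * (-SpinCurv.NodeRing.x R (p * q)) +
        Groth.Agent.Lib.Helper91.NodeNF.oY (p * q) ay *
          (-algebraMap R (SpinCurv.NodeRing R (p * q)) q) = v 1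
      rw [hb, k2']
      ring
  · rw [Submodule.span_le]
    intro v hv
    rcases hv with rfl | rfl
    · show _ ∈ LinearMap.ker _
      rw [LinearMap.mem_ker, Matrix.mulVecLin_apply]
      funext i
      fin_cases i
      · show Matrix.mulVec (SpinCurv.nodeAlpha R p q) _ 0 = 0
        rw [Groth.Agent.S18432Aux.alpha_zero]
        simp only [Matrix.cons_val_zero, Matrix.cons_val_one]
        ring
      · show Matrix.mulVec (SpinCurv.nodeAlpha R p q) _ 1 = 0
        rw [Groth.Agent.S18432Aux.alpha_one]
        simp only [Matrix.cons_val_zero, Matrix.cons_val_one]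
        linear_combination (-1 : SpinCurv.NodeRing R (p * q)) * hxy
    · show _ ∈ LinearMap.ker _
      rw [LinearMap.mem_ker, Matrix.mulVecLin_apply]
      funext i
      fin_cases i
      · show Matrix.mulVec (SpinCurv.nodeAlpha R p q) _ 0 = 0
        rw [Groth.Agent.S18432Aux.alpha_zero]
        simp only [Matrix.cons_val_zero, Matrix.cons_val_one]
        linear_combination hxy
      · show Matrix.mulVec (SpinCurv.nodeAlpha R p q) _ 1 = 0
        rw [Groth.Agent.S18432Aux.alpha_one]
        simp only [Matrix.cons_val_zero, Matrix.cons_val_one]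
        ring

end Groth.Agent.S18432
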