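import Groth.Statements.S18433
import Mathlib
import Groth.Agent.Lib.Helper91.NodeNF2

set_option autoImplicit false
universe u
open SpinCurv

set_option linter.unusedSectionVars false

namespace Groth.Agent.S18433Aux

open IsLocalRing Groth.Agent.Lib.Helper91.NodeNF

variable {R : Type u} [CommRing R] [IsLocalRing R] [IsAdicComplete (maximalIdeal R) R]

theorem alpha_zero (p q : R) (v : Fin 2 → NodeRing R (p * q)) :
    Matrix.mulVec (nodeAlpha R p q) v 0 =
      NodeRing.x R (p * q) * v 0 + algebraMap R (NodeRing R (p * q)) p * v 1 := by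
  simp [nodeAlpha, Matrix.mulVec, dotProduct, Fin.sum_univ_two]

theorem alpha_one (p q : R) (v : Fin 2 → NodeRing R (p * q)) :
    Matrix.mulVec (nodeAlpha R p q) v 1 =
      algebraMap R (NodeRing R (p * q)) q * v 0 + NodeRing.y R (p * q) * v 1 := by
  simp [nodeAlpha, Matrix.mulVec, dotProduct, Fin.sum_univ_two]

theorem phi_zero (p q : R) (hp : p ∈ maximalIdeal R)
    (f g : PowerSeries R)
    (h0 : NodeRing.x R (p * q) * oX (p * q) f + algebraMap R (NodeRing R (p * q)) p * oY (p * q) g = 0)
    (h1 : algebraMap R (NodeRing R (p * q)) q * oX (p * q) f + NodeRing.y R (p * q) * oY (p * q) g = 0) :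
    f = 0 ∧ g = 0 := by
  have hπ : p * q ∈ maximalIdeal R := Ideal.mul_mem_right _ _ hp
  constructor
  · -- from h0
    have e : oX (p * q) (PowerSeries.X * f + PowerSeries.C (p * PowerSeries.constantCoeff g)) +
        NodeRing.y R (p * q) * oY (p * q) (PowerSeries.C p * shift g) = 0 := by
      simp only [map_add, RingHom.map_mul (oX (p * q)), RingHom.map_mul (oY (p * q)), oX_X, oX_C,
        oY_C, RingHom.map_mul (algebraMap R (NodeRing R (p * q)))]
      have hg := shift_spec g
      have : oY (p * q) g = algebraMap R (NodeRing R (p * q)) (PowerSeries.constantCoeff g) +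
          NodeRing.y R (p * q) * oY (p * q) (shift g) := by
        conv_lhs => rw [hg]
        simp only [map_add, RingHom.map_mul (oY (p * q)), oY_X, oY_C]
      rw [this] at h0
      linear_combination h0
    have := (node_unique (p * q) hπ _ _ e).1
    ext n
    have h2 := congrArg (PowerSeries.coeff (n + 1)) this
    rw [map_add, PowerSeries.coeff_succ_X_mul, PowerSeries.coeff_C, if_neg (Nat.succ_ne_zero n),
      add_zero, map_zero] at h2
    rw [h2, map_zero]
  · have e : oX (p * q) (PowerSeries.C q * f) + NodeRing.y R (p * q) * oY (p * q) g = 0 := by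
      rw [RingHom.map_mul (oX (p * q)), oX_C]
      exact h1
    exact (node_unique (p * q) hπ _ _ e).2

end Groth.Agent.S18433Aux

namespace Groth.Agent.S18433

/-- Let R be a complete Noetherian local ring, p, q elements of its maximal ideal, A = R[[x, y]]/(xy -
pq), and α(p, q) the endomorphism (a, b) ↦ (x a + p b, q a + y b) of A². Restrict α(p, q) to pairs
(f, g) with f a power series in x alone and g a power series in y alone: the resulting map R[[x]] ×
R[[y]] → A², (f, g) ↦ (x f + p g, q f + y g), is injective and has the same image as α(p, q). Thus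
the image E(p, q) of α(p, q) is identified, R-linearly, with R[[x]] ⊕ R[[y]]. -/
theorem result (R : Type u) [CommRing R] [IsNoetherianRing R] [IsLocalRing R]
    [IsAdicComplete (IsLocalRing.maximalIdeal R) R]
    (p q : R) (hp : p ∈ IsLocalRing.maximalIdeal R) (hq : q ∈ IsLocalRing.maximalIdeal R) :
    Function.Injective (fun fg : PowerSeries R × PowerSeries R =>
        Matrix.mulVec (SpinCurv.nodeAlpha R p q)
          ![SpinCurv.NodeRing.ofX R (p * q) fg.1, SpinCurv.NodeRing.ofY R (p * q) fg.2]) ∧
    Set.range (fun fg : PowerSeries R × PowerSeries R =>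
        Matrix.mulVec (SpinCurv.nodeAlpha R p q)
          ![SpinCurv.NodeRing.ofX R (p * q) fg.1, SpinCurv.NodeRing.ofY R (p * q) fg.2]) =
      Set.range (Matrix.mulVec (SpinCurv.nodeAlpha R p q)) := by
  have hπ : p * q ∈ IsLocalRing.maximalIdeal R := Ideal.mul_mem_right _ _ hp
  constructor
  · rintro ⟨f, g⟩ ⟨f', g'⟩ h
    simp only at h
    have h0 := congrFun h 0
    have h1 := congrFun h 1
    rw [Groth.Agent.S18433Aux.alpha_zero, Groth.Agent.S18433Aux.alpha_zero] at h0
    rw [Groth.Agent.S18433Aux.alpha_one, Groth.Agent.S18433Aux.alpha_one] at h1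
    simp only [Matrix.cons_val_zero, Matrix.cons_val_one] at h0 h1
    rw [← Groth.Agent.Lib.Helper91.NodeNF.oX_eq, ← Groth.Agent.Lib.Helper91.NodeNF.oY_eq,
      ← Groth.Agent.Lib.Helper91.NodeNF.oX_eq, ← Groth.Agent.Lib.Helper91.NodeNF.oY_eq] at h0 h1
    have key := Groth.Agent.S18433Aux.phi_zero p q hp (f - f') (g - g')
      (by simp only [map_sub]; linear_combination h0)
      (by simp only [map_sub]; linear_combination h1)
    rw [sub_eq_zero.mp key.1, sub_eq_zero.mp key.2]
  · apply Set.Subset.antisymm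
    · rintro _ ⟨fg, rfl⟩
      exact ⟨_, rfl⟩
    · rintro _ ⟨v, rfl⟩
      obtain ⟨ax, ay, ha⟩ := Groth.Agent.Lib.Helper91.NodeNF.node_exists (p * q) hπ (v 0)
      obtain ⟨by', bx, hb⟩ := Groth.Agent.Lib.Helper91.NodeNF.node_exists' (p * q) hπ (v 1)
      refine ⟨(ax + PowerSeries.C p * bx, PowerSeries.C q * ay + by'), ?_⟩
      have hxy : SpinCurv.NodeRing.x R (p * q) * SpinCurv.NodeRing.y R (p * q) =
          algebraMap R (SpinCurv.NodeRing R (p * q)) p * algebraMap R (SpinCurv.NodeRing R (p * q)) q := by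
        rw [Groth.Agent.Lib.Helper91.NodeNF.xy_eq (p * q),
          RingHom.map_mul (algebraMap R (SpinCurv.NodeRing R (p * q)))]
      funext i
      fin_cases i
      · show Matrix.mulVec (SpinCurv.nodeAlpha R p q) _ 0 = Matrix.mulVec (SpinCurv.nodeAlpha R p q) v 0
        rw [Groth.Agent.S18433Aux.alpha_zero, Groth.Agent.S18433Aux.alpha_zero, ha, hb]
        simp only [Matrix.cons_val_zero, Matrix.cons_val_one]
        rw [← Groth.Agent.Lib.Helper91.NodeNF.oX_eq, ← Groth.Agent.Lib.Helper91.NodeNF.oY_eq]
        simp only [map_add, RingHom.map_mul (Groth.Agent.Lib.Helper91.NodeNF.oX (p * q)),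
          RingHom.map_mul (Groth.Agent.Lib.Helper91.NodeNF.oY (p * q)),
          Groth.Agent.Lib.Helper91.NodeNF.oX_C, Groth.Agent.Lib.Helper91.NodeNF.oY_C]
        linear_combination (-(Groth.Agent.Lib.Helper91.NodeNF.oY (p * q) ay)) * hxy
      · show Matrix.mulVec (SpinCurv.nodeAlpha R p q) _ 1 = Matrix.mulVec (SpinCurv.nodeAlpha R p q) v 1
        rw [Groth.Agent.S18433Aux.alpha_one, Groth.Agent.S18433Aux.alpha_one, ha, hb]
        simp only [Matrix.cons_val_zero, Matrix.cons_val_one]
        rw [← Groth.Agent.Lib.Helper91.NodeNF.oX_eq, ← Groth.Agent.Lib.Helper91.NodeNF.oY_eq]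
        simp only [map_add, RingHom.map_mul (Groth.Agent.Lib.Helper91.NodeNF.oX (p * q)),
          RingHom.map_mul (Groth.Agent.Lib.Helper91.NodeNF.oY (p * q)),
          Groth.Agent.Lib.Helper91.NodeNF.oX_C, Groth.Agent.Lib.Helper91.NodeNF.oY_C]
        linear_combination (-(Groth.Agent.Lib.Helper91.NodeNF.oX (p * q) bx)) * hxy

end Groth.Agent.S18433
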