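import Groth.Statements.S18434
import Mathlib

set_option autoImplicit false
universe u
open SpinCurv

namespace Groth.Agent.S18434
open SpinCurv MvPowerSeries

variable (k : Type u) [Field k]

theorem s00 (a b : ℕ) : (Finsupp.single (0 : Fin 2) a = Finsupp.single (0 : Fin 2) b) ↔ a = b :=
  (Finsupp.single_injective (0 : Fin 2)).eq_iff

theorem s11 (a b : ℕ) : (Finsupp.single (1 : Fin 2) a = Finsupp.single (1 : Fin 2) b) ↔ a = b :=
  (Finsupp.single_injective (1 : Fin 2)).eq_iff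

theorem s01 (a b : ℕ) : (Finsupp.single (0 : Fin 2) a = Finsupp.single (1 : Fin 2) (b + 1)) ↔ False := by
  rw [Finsupp.single_eq_single_iff]
  simp

theorem s10 (a b : ℕ) : (Finsupp.single (1 : Fin 2) (b + 1) = Finsupp.single (0 : Fin 2) a) ↔ False := by
  rw [Finsupp.single_eq_single_iff]
  simp

/-- the coefficient map -/
noncomputable def Phi (u v : ℕ) : MvPowerSeries (Fin 2) k →ₗ[k] (Fin u → k) × (Fin (v - 1) → k) :=
  LinearMap.prod
    (LinearMap.pi fun i : Fin u => MvPowerSeries.coeff (R := k) (Finsupp.single (0 : Fin 2) (i : ℕ)))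
    (LinearMap.pi fun j : Fin (v - 1) => MvPowerSeries.coeff (R := k) (Finsupp.single (1 : Fin 2) ((j : ℕ) + 1)))

theorem Phi_fst (u v : ℕ) (f : MvPowerSeries (Fin 2) k) (i : Fin u) :
    (Phi k u v f).1 i = MvPowerSeries.coeff (Finsupp.single (0 : Fin 2) (i : ℕ)) f := rfl

theorem Phi_snd (u v : ℕ) (f : MvPowerSeries (Fin 2) k) (j : Fin (v - 1)) :
    (Phi k u v f).2 j = MvPowerSeries.coeff (Finsupp.single (1 : Fin 2) ((j : ℕ) + 1)) f := rfl

theorem Phi_surj (u v : ℕ) : Function.Surjective (Phi k u v) := by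
  classical
  rintro ⟨c, d⟩
  refine ⟨∑ i : Fin u, MvPowerSeries.monomial (Finsupp.single (0 : Fin 2) (i : ℕ)) (c i) +
    ∑ j : Fin (v - 1), MvPowerSeries.monomial (Finsupp.single (1 : Fin 2) ((j : ℕ) + 1)) (d j), ?_⟩
  ext i
  · rw [Phi_fst]
    simp only [map_add, map_sum,
      MvPowerSeries.coeff_monomial, s00, s01, if_false, Finset.sum_const_zero, add_zero, Fin.val_inj,
      Finset.sum_ite_eq, Finset.mem_univ, if_true]
  · rw [Phi_snd]
    simp only [map_add, map_sum,
      MvPowerSeries.coeff_monomial, s11, s10, if_false, Finset.sum_const_zero, zero_add, Fin.val_inj,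
      Finset.sum_ite_eq, Finset.mem_univ, if_true, add_left_inj]

/-- the total ideal -/
noncomputable def Itot (u v : ℕ) : Ideal (MvPowerSeries (Fin 2) k) :=
  Ideal.span {(X 0 * X 1 : MvPowerSeries (Fin 2) k), X 0 ^ u, X 1 ^ v}

theorem X01 : (X 0 * X 1 : MvPowerSeries (Fin 2) k) =
    monomial (Finsupp.single (0 : Fin 2) 1 + Finsupp.single (1 : Fin 2) 1) 1 := by
  rw [X_def, X_def, monomial_mul_monomial, mul_one]

theorem le_iff2 (m n : Fin 2 →₀ ℕ) : m ≤ n ↔ m 0 ≤ n 0 ∧ m 1 ≤ n 1 := by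
  rw [Finsupp.le_def, Fin.forall_fin_two]

theorem cz (m n : Fin 2 →₀ ℕ) (g : MvPowerSeries (Fin 2) k) (h : ¬ n ≤ m) :
    coeff m (g * monomial n 1) = 0 := by
  classical
  rw [coeff_mul_monomial, if_neg h]

theorem Itot_le (u v : ℕ) (hu : 1 ≤ u) (hv : 1 ≤ v) (f : MvPowerSeries (Fin 2) k)
    (hf : f ∈ Itot k u v) : Phi k u v f = 0 := by
  classical
  rw [Itot, Ideal.mem_span_insert] at hf
  obtain ⟨a, z, hz, rfl⟩ := hf
  rw [Ideal.mem_span_insert] at hz
  obtain ⟨b, z', hz', rfl⟩ := hz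
  rw [Ideal.mem_span_singleton'] at hz'
  obtain ⟨c, rfl⟩ := hz'
  ext i
  · rw [Phi_fst, X01, X_pow_eq, X_pow_eq]
    have := i.2
    rw [map_add, map_add, cz, cz, cz, add_zero, add_zero]
    · rfl
    · intro h; have := h 1; simp at this; omega
    · intro h; have := h 0; simp at this; omega
    · intro h; have := h 1; simp at this
  · rw [Phi_snd, X01, X_pow_eq, X_pow_eq]
    have := i.2
    rw [map_add, map_add, cz, cz, cz, add_zero, add_zero]
    · rfl
    · intro h; have := h 1; simp at this; omega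
    · intro h; have := h 0; simp at this; omega
    · intro h; have := h 0; simp at this

/-- shift -/
noncomputable def sh (n : Fin 2 →₀ ℕ) (f : MvPowerSeries (Fin 2) k) : MvPowerSeries (Fin 2) k :=
  fun m => coeff (m + n) f

theorem coeff_sh_mul (n m : Fin 2 →₀ ℕ) (f : MvPowerSeries (Fin 2) k) :
    coeff m (sh k n f * monomial n 1) = if n ≤ m then coeff m f else 0 := by
  classical
  rw [coeff_mul_monomial, mul_one]
  split_ifs with h
  · show coeff (m - n + n) f = _
    rw [tsub_add_cancel_of_le h]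
  · rfl

/-- restriction to pure powers of x -/
noncomputable def res1 (f : MvPowerSeries (Fin 2) k) : MvPowerSeries (Fin 2) k :=
  fun m => if m 1 = 0 then coeff m f else 0

/-- restriction to pure powers of y -/
noncomputable def res0 (f : MvPowerSeries (Fin 2) k) : MvPowerSeries (Fin 2) k :=
  fun m => if m 0 = 0 then coeff m f else 0

theorem eq_single2 (m : Fin 2 →₀ ℕ) : m = Finsupp.single 0 (m 0) + Finsupp.single 1 (m 1) := by
  ext j
  fin_cases j <;> simp

theorem decomp (u v : ℕ) (hu : 1 ≤ u) (hv : 1 ≤ v) (f : MvPowerSeries (Fin 2) k)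
    (h0 : ∀ i : ℕ, i < u → coeff (Finsupp.single (0 : Fin 2) i) f = 0)
    (h1 : ∀ j : ℕ, j + 1 < v → coeff (Finsupp.single (1 : Fin 2) (j + 1)) f = 0) :
    f = sh k (Finsupp.single (0 : Fin 2) 1 + Finsupp.single (1 : Fin 2) 1) f *
          monomial (Finsupp.single (0 : Fin 2) 1 + Finsupp.single (1 : Fin 2) 1) 1 +
        sh k (Finsupp.single (0 : Fin 2) u) (res1 k f) * monomial (Finsupp.single (0 : Fin 2) u) 1 +
        sh k (Finsupp.single (1 : Fin 2) v) (res0 k f) * monomial (Finsupp.single (1 : Fin 2) v) 1 := by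
  classical
  ext m
  rw [map_add, map_add, coeff_sh_mul, coeff_sh_mul, coeff_sh_mul]
  have e1 : coeff m (res1 k f) = if m 1 = 0 then coeff m f else 0 := rfl
  have e0 : coeff m (res0 k f) = if m 0 = 0 then coeff m f else 0 := rfl
  rw [e1, e0]
  simp only [le_iff2, Finsupp.add_apply, Finsupp.single_eq_same]
  have hA : m 1 = 0 → m 0 < u → coeff m f = 0 := by
    intro hb ha
    have := h0 (m 0) ha
    rw [eq_single2 m, hb]
    simpa using this
  have hB : m 0 = 0 → 1 ≤ m 1 → m 1 < v → coeff m f = 0 := by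
    intro ha hb hb'
    obtain ⟨j, hj⟩ : ∃ j, m 1 = j + 1 := ⟨m 1 - 1, by omega⟩
    have := h1 j (by omega)
    rw [eq_single2 m, ha, hj]
    simpa using this
  generalize coeff m f = F at *
  generalize m 0 = a at *
  generalize m 1 = b at *
  have z1 : (Finsupp.single (1 : Fin 2) 1 : Fin 2 →₀ ℕ) 0 = 0 := by simp
  have z2 : (Finsupp.single (0 : Fin 2) 1 : Fin 2 →₀ ℕ) 1 = 0 := by simp
  have z3 : (Finsupp.single (0 : Fin 2) u : Fin 2 →₀ ℕ) 1 = 0 := by simp
  have z4 : (Finsupp.single (1 : Fin 2) v : Fin 2 →₀ ℕ) 0 = 0 := by simp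
  rw [z1, z2, z3, z4]
  have hF : ¬(1 + 0 ≤ a ∧ 0 + 1 ≤ b) → ¬(u ≤ a ∧ 0 ≤ b) → ¬(0 ≤ a ∧ v ≤ b) → F = 0 := by
    intro c1 c2 c3
    rcases Nat.eq_zero_or_pos b with hb | hb
    · exact hA hb (by omega)
    · exact hB (by omega) hb (by omega)
  split_ifs <;> first | omega | (simp; done) | (rw [hF (by assumption) (by assumption) (by assumption)]; simp; done)


theorem mem_Itot_iff (u v : ℕ) (hu : 1 ≤ u) (hv : 1 ≤ v) (f : MvPowerSeries (Fin 2) k) :
    f ∈ Itot k u v ↔ Phi k u v f = 0 := by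
  refine ⟨Itot_le k u v hu hv f, fun h => ?_⟩
  have h0 : ∀ i : ℕ, i < u → coeff (Finsupp.single (0 : Fin 2) i) f = 0 := by
    intro i hi
    have := congrFun (congrArg Prod.fst h) ⟨i, hi⟩
    rwa [Phi_fst] at this
  have h1 : ∀ j : ℕ, j + 1 < v → coeff (Finsupp.single (1 : Fin 2) (j + 1)) f = 0 := by
    intro j hj
    have := congrFun (congrArg Prod.snd h) ⟨j, by omega⟩
    rwa [Phi_snd] at this
  rw [decomp k u v hu hv f h0 h1, Itot, ← X01, ← X_pow_eq, ← X_pow_eq]
  refine Ideal.add_mem _ (Ideal.add_mem _ ?_ ?_) ?_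
  · exact Ideal.mul_mem_left _ _ (Ideal.subset_span (by simp))
  · exact Ideal.mul_mem_left _ _ (Ideal.subset_span (by simp))
  · exact Ideal.mul_mem_left _ _ (Ideal.subset_span (by simp))

theorem sup_eq_Itot (u v : ℕ) (w : k) (hw : w ≠ 0) :
    Ideal.span {(X 0 ^ u : MvPowerSeries (Fin 2) k), C w * X 1 ^ v} ⊔
      Ideal.span {(X 0 * X 1 - C 0 : MvPowerSeries (Fin 2) k)} = Itot k u v := by
  have hC : (C (0 : k) : MvPowerSeries (Fin 2) k) = 0 := map_zero _
  rw [hC, sub_zero, Itot]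
  apply le_antisymm
  · rw [sup_le_iff, Ideal.span_le, Ideal.span_le]
    constructor
    · rintro x (rfl | rfl)
      · exact Ideal.subset_span (by simp)
      · exact Ideal.mul_mem_left _ _ (Ideal.subset_span (by simp))
    · rintro x rfl
      exact Ideal.subset_span (by simp)
  · rw [Ideal.span_le]
    rintro x (rfl | rfl | rfl)
    · exact Ideal.mem_sup_right (Ideal.subset_span rfl)
    · exact Ideal.mem_sup_left (Ideal.subset_span (by simp))
    · have hmem : (C w * X 1 ^ v : MvPowerSeries (Fin 2) k) ∈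
          Ideal.span {(X 0 ^ u : MvPowerSeries (Fin 2) k), C w * X 1 ^ v} :=
        Ideal.subset_span (by simp)
      have := Ideal.mul_mem_left _ (C w⁻¹) hmem
      rw [← mul_assoc, ← map_mul, inv_mul_cancel₀ hw, map_one, one_mul] at this
      exact Ideal.mem_sup_left this

/-- the quotient map as a `k`-linear map -/
noncomputable def q (u v : ℕ) (w : k) : MvPowerSeries (Fin 2) k →ₗ[k]
    (SpinCurv.NodeRing k 0 ⧸
      Ideal.span {SpinCurv.NodeRing.x k 0 ^ u, algebraMap k (SpinCurv.NodeRing k 0) w * SpinCurv.NodeRing.y k 0 ^ v}) :=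
  ((Ideal.Quotient.mkₐ k _).comp (Ideal.Quotient.mkₐ k _)).toLinearMap

theorem q_surj (u v : ℕ) (w : k) : Function.Surjective (q k u v w) := by
  intro z
  obtain ⟨z1, rfl⟩ := Ideal.Quotient.mk_surjective z
  obtain ⟨z2, rfl⟩ := Ideal.Quotient.mk_surjective z1
  exact ⟨z2, rfl⟩

theorem q_eq_zero_iff (u v : ℕ) (w : k) (hw : w ≠ 0) (f : MvPowerSeries (Fin 2) k) :
    q k u v w f = 0 ↔ f ∈ Itot k u v := by
  have h1 : q k u v w f = Ideal.Quotient.mk _ (Ideal.Quotient.mk _ f) := rfl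
  rw [h1, Ideal.Quotient.eq_zero_iff_mem, ← sup_eq_Itot k u v w hw]
  have h2 : (Ideal.span {SpinCurv.NodeRing.x k 0 ^ u,
      algebraMap k (SpinCurv.NodeRing k 0) w * SpinCurv.NodeRing.y k 0 ^ v} : Ideal (SpinCurv.NodeRing k 0)) =
      Ideal.map (Ideal.Quotient.mk (Ideal.span {(X 0 * X 1 - C 0 : MvPowerSeries (Fin 2) k)}))
        (Ideal.span {(X 0 ^ u : MvPowerSeries (Fin 2) k), C w * X 1 ^ v}) := by
    rw [Ideal.map_span, Set.image_pair]
    rfl
  rw [h2, ← Ideal.mem_comap, Ideal.comap_map_of_surjective _ Ideal.Quotient.mk_surjective,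
    ← RingHom.ker_eq_comap_bot, Ideal.mk_ker]

theorem main (u v : ℕ) (hu : 1 ≤ u) (hv : 1 ≤ v) (w : k) (hw : w ≠ 0) :
    Module.finrank k (SpinCurv.NodeRing k 0 ⧸
      Ideal.span {SpinCurv.NodeRing.x k 0 ^ u, algebraMap k (SpinCurv.NodeRing k 0) w * SpinCurv.NodeRing.y k 0 ^ v}) =
      u + v - 1 := by
  have hker : LinearMap.ker (q k u v w) = LinearMap.ker (Phi k u v) := by
    ext f
    rw [LinearMap.mem_ker, LinearMap.mem_ker, q_eq_zero_iff k u v w hw, mem_Itot_iff k u v hu hv]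
  have e1 := LinearMap.quotKerEquivOfSurjective (q k u v w) (q_surj k u v w)
  have e2 := LinearMap.quotKerEquivOfSurjective (Phi k u v) (Phi_surj k u v)
  have e3 := Submodule.quotEquivOfEq _ _ hker
  rw [← e1.finrank_eq, e3.finrank_eq, e2.finrank_eq, Module.finrank_prod, Module.finrank_fin_fun,
    Module.finrank_fin_fun]
  omega

end Groth.Agent.S18434

namespace Groth.Agent.S18434

/-- Let k be a field, u, v ≥ 1 integers and w ∈ k nonzero. In the ring A = k[[x, y]]/(xy), the quotient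
A/(x^u, w y^v) has dimension u + v - 1 over k (a basis is 1, x, …, x^{u-1}, y, …, y^{v-1}); this is
the length of the cokernel at the node of a map whose image is generated by x^u and w y^v. -/
theorem result (k : Type u) [Field k] (u v : ℕ) (hu : 1 ≤ u) (hv : 1 ≤ v)
    (w : k) (hw : w ≠ 0) :
    Module.finrank k (SpinCurv.NodeRing k 0 ⧸
      Ideal.span {SpinCurv.NodeRing.x k 0 ^ u, algebraMap k (SpinCurv.NodeRing k 0) w * SpinCurv.NodeRing.y k 0 ^ v}) =
      u + v - 1 := by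
  exact main k u v hu hv w hw

end Groth.Agent.S18434
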