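import Groth.Statements.S18435
-- import your own Groth.Agent.* helpers here

set_option autoImplicit false
universe u
open SpinCurv

set_option linter.unusedSectionVars false

namespace Groth.Agent.S18435Aux

open MvPolynomial

variable (k : Type u) [Field k]

/-- the node relation ideal -/
noncomputable abbrev nodeIdeal : Ideal (MvPolynomial (Fin 2) k) :=
  Ideal.span {(MvPolynomial.X 0 * MvPolynomial.X 1 - MvPolynomial.C 0 : MvPolynomial (Fin 2) k)}

/-- `A → k[X]`, `x ↦ a`, `y ↦ b` when `a * b = 0` -/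
noncomputable def nodeLift {B : Type u} [CommRing B] [Algebra k B] (a b : B) (hab : a * b = 0) :
    SpinCurv.PolyNodeRing k 0 →ₐ[k] B :=
  Ideal.Quotient.liftₐ _ (aeval ![a, b]) (by
    intro p hp
    have : nodeIdeal k ≤ RingHom.ker (aeval ![a, b] : MvPolynomial (Fin 2) k →ₐ[k] B) := by
      rw [Ideal.span_le]
      intro q hq
      rw [Set.mem_singleton_iff] at hq
      subst hq
      simp [hab]
    exact this hp)

theorem nodeLift_mk {B : Type u} [CommRing B] [Algebra k B] (a b : B) (hab : a * b = 0)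
    (P : MvPolynomial (Fin 2) k) :
    nodeLift k a b hab (Ideal.Quotient.mk _ P) = aeval ![a, b] P := rfl

theorem nodeLift_x {B : Type u} [CommRing B] [Algebra k B] (a b : B) (hab : a * b = 0) :
    nodeLift k a b hab (SpinCurv.PolyNodeRing.x k 0) = a := by
  show aeval ![a, b] (X 0) = a
  simp

theorem nodeLift_y {B : Type u} [CommRing B] [Algebra k B] (a b : B) (hab : a * b = 0) :
    nodeLift k a b hab (SpinCurv.PolyNodeRing.y k 0) = b := by
  show aeval ![a, b] (X 1) = b
  simp

theorem node_algHom_ext {B : Type u} [CommRing B] [Algebra k B]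
    (φ ψ : SpinCurv.PolyNodeRing k 0 →ₐ[k] B)
    (hx : φ (SpinCurv.PolyNodeRing.x k 0) = ψ (SpinCurv.PolyNodeRing.x k 0))
    (hy : φ (SpinCurv.PolyNodeRing.y k 0) = ψ (SpinCurv.PolyNodeRing.y k 0)) : φ = ψ := by
  apply Ideal.Quotient.algHom_ext
  apply MvPolynomial.algHom_ext
  intro i
  fin_cases i
  · exact hx
  · exact hy

/-- `x ↦ X, y ↦ 0` -/
noncomputable def phiX : SpinCurv.PolyNodeRing k 0 →ₐ[k] Polynomial k :=
  nodeLift k Polynomial.X 0 (mul_zero _)

/-- `x ↦ 0, y ↦ X` -/
noncomputable def phiY : SpinCurv.PolyNodeRing k 0 →ₐ[k] Polynomial k :=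
  nodeLift k 0 Polynomial.X (zero_mul _)

/-- If `P(X0, 0) = 0` then `X1 ∣ P`. -/
theorem X1_dvd (P : MvPolynomial (Fin 2) k) (h : aeval ![(Polynomial.X : Polynomial k), 0] P = 0) :
    (X 1 : MvPolynomial (Fin 2) k) ∣ P := by
  let π := Ideal.Quotient.mkₐ k (Ideal.span {(X 1 : MvPolynomial (Fin 2) k)})
  let ι : Polynomial k →ₐ[k] MvPolynomial (Fin 2) k := Polynomial.aeval (X 0)
  have h1 : (π.comp ι).comp (aeval ![(Polynomial.X : Polynomial k), 0]) = π := by
    apply MvPolynomial.algHom_ext
    intro i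
    fin_cases i
    · simp [ι]
    · simp only [AlgHom.comp_apply, aeval_X]
      simp only [Fin.mk_one, Matrix.cons_val_one, Matrix.cons_val_zero, map_zero]
      symm
      show Ideal.Quotient.mk _ (X 1) = 0
      rw [Ideal.Quotient.eq_zero_iff_mem]
      exact Ideal.subset_span rfl
  have h2 : π P = 0 := by
    rw [← h1, AlgHom.comp_apply, h, map_zero]
  have h3 : P ∈ Ideal.span {(X 1 : MvPolynomial (Fin 2) k)} := Ideal.Quotient.eq_zero_iff_mem.mp h2
  exact Ideal.mem_span_singleton.mp h3

/-- If `P(0, X1) = 0` then `X0 ∣ P`. -/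
theorem X0_dvd (P : MvPolynomial (Fin 2) k) (h : aeval ![0, (Polynomial.X : Polynomial k)] P = 0) :
    (X 0 : MvPolynomial (Fin 2) k) ∣ P := by
  let π := Ideal.Quotient.mkₐ k (Ideal.span {(X 0 : MvPolynomial (Fin 2) k)})
  let ι : Polynomial k →ₐ[k] MvPolynomial (Fin 2) k := Polynomial.aeval (X 1)
  have h1 : (π.comp ι).comp (aeval ![0, (Polynomial.X : Polynomial k)]) = π := by
    apply MvPolynomial.algHom_ext
    intro i
    fin_cases i
    · simp only [AlgHom.comp_apply, aeval_X]
      simp only [Fin.zero_eta, Matrix.cons_val_zero, map_zero]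
      symm
      show Ideal.Quotient.mk _ (X 0) = 0
      rw [Ideal.Quotient.eq_zero_iff_mem]
      exact Ideal.subset_span rfl
    · simp [ι]
  have h2 : π P = 0 := by
    rw [← h1, AlgHom.comp_apply, h, map_zero]
  have h3 : P ∈ Ideal.span {(X 0 : MvPolynomial (Fin 2) k)} := Ideal.Quotient.eq_zero_iff_mem.mp h2
  exact Ideal.mem_span_singleton.mp h3

theorem joint_inj (h : SpinCurv.PolyNodeRing k 0) (hx : phiX k h = 0) (hy : phiY k h = 0) : h = 0 := by
  obtain ⟨P, rfl⟩ := Ideal.Quotient.mk_surjective h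
  have hx' : aeval ![(Polynomial.X : Polynomial k), 0] P = 0 := hx
  have hy' : aeval ![0, (Polynomial.X : Polynomial k)] P = 0 := hy
  obtain ⟨Q, rfl⟩ := X1_dvd k P hx'
  rw [map_mul, aeval_X] at hy'
  simp only [Matrix.cons_val_one, Matrix.cons_val_zero] at hy'
  have hQ : aeval ![0, (Polynomial.X : Polynomial k)] Q = 0 := by
    rcases mul_eq_zero.mp hy' with h | h
    · exact absurd h Polynomial.X_ne_zero
    · exact h
  obtain ⟨Q', rfl⟩ := X0_dvd k Q hQ
  rw [Ideal.Quotient.eq_zero_iff_mem, Ideal.mem_span_singleton]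
  refine ⟨Q', ?_⟩
  simp only [map_zero, sub_zero]
  ring


open Polynomial LaurentPolynomial in
/-- the Laurent polynomial degree argument -/
theorem laurent_key (G F : Polynomial k) (hG0 : G.coeff 0 = 0) (hF0 : F.coeff 0 = 0)
    (h : toLaurent G = T 1 * invert (toLaurent F)) : G = 0 ∧ F = 0 := by
  obtain ⟨G₁, rfl⟩ := Polynomial.X_dvd_iff.mpr hG0
  obtain ⟨F₁, rfl⟩ := Polynomial.X_dvd_iff.mpr hF0
  rw [map_mul, map_mul, map_mul, Polynomial.toLaurent_X, invert_T] at h
  have h2 : toLaurent ((Polynomial.X : Polynomial k) ^ (F₁.natDegree + 1) * G₁) = toLaurent F₁.reverse := by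
    rw [toLaurent_reverse, map_mul, Polynomial.toLaurent_X_pow]
    have h3 : T 1 * toLaurent G₁ = invert (toLaurent F₁) := by
      rw [h, ← mul_assoc, ← T_add]; simp
    rw [← h3]
    push_cast
    rw [T_add]
    ring
  have h4 := Polynomial.toLaurent_injective h2
  have hG₁ : G₁ = 0 := by
    by_contra hne
    have hdeg := congrArg Polynomial.natDegree h4
    rw [Polynomial.natDegree_mul (pow_ne_zero _ Polynomial.X_ne_zero) hne,
      Polynomial.natDegree_X_pow] at hdeg
    have := Polynomial.reverse_natDegree_le F₁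
    omega
  subst hG₁
  rw [mul_zero] at h4
  have hF₁ : F₁ = 0 := Polynomial.reverse_eq_zero.mp h4.symm
  subst hF₁
  simp

end Groth.Agent.S18435Aux

namespace Groth.Agent.S18435

/-- Let k be a field and A = k[x, y]/(xy) the node, with the two affine charts U = Spec k[s, y]/(sy) and
V = Spec k[t, x]/(tx) of the curve obtained by the (p, q)-construction with p = q = 0, glued along
k[s, s⁻¹] by t = s⁻¹ (y ↦ 0 from U, x ↦ 0 from V), and with A → O(U) given by x ↦ 0, y ↦ y and A →
O(V) by x ↦ x, y ↦ 0. A global section of O(1) is a pair (g, f) with g = s f on U ∩ V. If such a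
pair is annihilated by both x and y (acting through the two restriction maps), then g = 0 and f = 0;
so the module of global sections of O(1) has no nonzero element killed by the maximal ideal (x, y),
i.e. its direct image on the node is torsion-free there. All three coordinate rings are written as
the quotient of the polynomial ring in two variables by the product of the variables, and the four
restriction homomorphisms are k-algebra maps pinned by their values on generators. (The published
proof reduces the torsion-freeness of the direct image of O(1), for general R, p, q, to exactly this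
case of a field with p = q = 0.) -/
theorem result (k : Type u) [Field k]
    (rU : SpinCurv.PolyNodeRing k 0 →ₐ[k] SpinCurv.PolyNodeRing k 0)
    (hrUx : rU (SpinCurv.PolyNodeRing.x k 0) = 0)
    (hrUy : rU (SpinCurv.PolyNodeRing.y k 0) = SpinCurv.PolyNodeRing.y k 0)
    (rV : SpinCurv.PolyNodeRing k 0 →ₐ[k] SpinCurv.PolyNodeRing k 0)
    (hrVx : rV (SpinCurv.PolyNodeRing.x k 0) = SpinCurv.PolyNodeRing.y k 0)
    (hrVy : rV (SpinCurv.PolyNodeRing.y k 0) = 0)
    (gU : SpinCurv.PolyNodeRing k 0 →ₐ[k] LaurentPolynomial k)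
    (hgUs : gU (SpinCurv.PolyNodeRing.x k 0) = LaurentPolynomial.T 1)
    (hgUy : gU (SpinCurv.PolyNodeRing.y k 0) = 0)
    (gV : SpinCurv.PolyNodeRing k 0 →ₐ[k] LaurentPolynomial k)
    (hgVt : gV (SpinCurv.PolyNodeRing.x k 0) = LaurentPolynomial.T (-1))
    (hgVx : gV (SpinCurv.PolyNodeRing.y k 0) = 0)
    (g f : SpinCurv.PolyNodeRing k 0) (hsec : gU g = LaurentPolynomial.T 1 * gV f)
    (hx : rU (SpinCurv.PolyNodeRing.x k 0) * g = 0 ∧ rV (SpinCurv.PolyNodeRing.x k 0) * f = 0)
    (hy : rU (SpinCurv.PolyNodeRing.y k 0) * g = 0 ∧ rV (SpinCurv.PolyNodeRing.y k 0) * f = 0) :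
    g = 0 ∧ f = 0 := by
  have hyg : SpinCurv.PolyNodeRing.y k 0 * g = 0 := by rw [← hrUy]; exact hy.1
  have hyf : SpinCurv.PolyNodeRing.y k 0 * f = 0 := by rw [← hrVx]; exact hx.2
  -- φy kills g and f
  have hφy : ∀ h : SpinCurv.PolyNodeRing k 0, SpinCurv.PolyNodeRing.y k 0 * h = 0 →
      S18435Aux.phiY k h = 0 := by
    intro h hh
    have h0 : S18435Aux.phiY k (SpinCurv.PolyNodeRing.y k 0 * h) = 0 := by
      rw [hh]; exact map_zero _
    have hYy : S18435Aux.phiY k (SpinCurv.PolyNodeRing.y k 0) = Polynomial.X :=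
      S18435Aux.nodeLift_y k _ _ _
    have := h0
    rw [map_mul, hYy] at this
    rcases mul_eq_zero.mp this with h1 | h1
    · exact absurd h1 Polynomial.X_ne_zero
    · exact h1
  have hgY := hφy g hyg
  have hfY := hφy f hyf
  -- constant terms agree
  have hconst : ∀ h : SpinCurv.PolyNodeRing k 0,
      (S18435Aux.phiX k h).coeff 0 = (S18435Aux.phiY k h).coeff 0 := by
    intro h
    have : (Polynomial.aeval (0 : k)).comp (S18435Aux.phiX k) =
        (Polynomial.aeval (0 : k)).comp (S18435Aux.phiY k) := by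
      apply S18435Aux.node_algHom_ext
      · simp [S18435Aux.phiX, S18435Aux.phiY, S18435Aux.nodeLift_x]
      · simp [S18435Aux.phiX, S18435Aux.phiY, S18435Aux.nodeLift_y]
    have := congrArg (fun ψ => ψ h) this
    simp only [AlgHom.comp_apply, Polynomial.coe_aeval_eq_eval] at this
    rwa [← Polynomial.coeff_zero_eq_eval_zero, ← Polynomial.coeff_zero_eq_eval_zero] at this
  -- gU, gV through φx
  have hgU : gU = (Polynomial.toLaurentAlg).comp (S18435Aux.phiX k) := by
    apply S18435Aux.node_algHom_ext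
    · rw [hgUs, AlgHom.comp_apply, S18435Aux.phiX, S18435Aux.nodeLift_x,
        Polynomial.toLaurentAlg_apply, Polynomial.toLaurent_X]
    · rw [hgUy, AlgHom.comp_apply, S18435Aux.phiX, S18435Aux.nodeLift_y, map_zero]
  have hgV : gV = ((LaurentPolynomial.invert : LaurentPolynomial k ≃ₐ[k] LaurentPolynomial k) : 
      LaurentPolynomial k →ₐ[k] LaurentPolynomial k).comp
      ((Polynomial.toLaurentAlg).comp (S18435Aux.phiX k)) := by
    apply S18435Aux.node_algHom_ext
    · rw [hgVt, AlgHom.comp_apply, AlgHom.comp_apply, S18435Aux.phiX, S18435Aux.nodeLift_x,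
        Polynomial.toLaurentAlg_apply, Polynomial.toLaurent_X]
      simp
    · rw [hgVx, AlgHom.comp_apply, AlgHom.comp_apply, S18435Aux.phiX, S18435Aux.nodeLift_y, map_zero,
        map_zero]
  have hsec' : Polynomial.toLaurent (S18435Aux.phiX k g) =
      LaurentPolynomial.T 1 * LaurentPolynomial.invert (Polynomial.toLaurent (S18435Aux.phiX k f)) := by
    have := hsec
    rw [hgU, hgV] at this
    exact this
  have hG0 : (S18435Aux.phiX k g).coeff 0 = 0 := by rw [hconst, hgY]; simp
  have hF0 : (S18435Aux.phiX k f).coeff 0 = 0 := by rw [hconst, hfY]; simp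
  obtain ⟨hG, hF⟩ := S18435Aux.laurent_key k _ _ hG0 hF0 hsec'
  exact ⟨S18435Aux.joint_inj k g hG hgY, S18435Aux.joint_inj k f hF hfY⟩

end Groth.Agent.S18435
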