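import Groth.Statements.S18436
import Mathlib
import Groth.Agent.Lib.Helper18.PolyNode

set_option autoImplicit false
universe u
open SpinCurv

namespace Groth.Agent.S18436


open LaurentPolynomial Groth.Agent.Lib.Helper18.PolyNode


variable {R : Type u} [CommRing R]

noncomputable def wt (c : ℤ → R) (σ : ℤ → ℤ) : (ℤ →₀ R) →ₗ[R] (ℤ →₀ R) :=
  Finsupp.lsum R (fun j => c j • Finsupp.lsingle (σ j))

theorem wt_apply (c : ℤ → R) (σ τ : ℤ → ℤ) (hστ : ∀ j k, σ j = k ↔ j = τ k) (z : ℤ →₀ R) (k : ℤ) :
    wt c σ z k = c (τ k) * z (τ k) := by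
  classical
  unfold wt
  rw [Finsupp.lsum_apply, Finsupp.sum, Finsupp.finset_sum_apply]
  have hterm : ∀ j ∈ z.support, ((c j • Finsupp.lsingle (σ j) : R →ₗ[R] ℤ →₀ R) (z j)) k =
      if j = τ k then c j * z j else 0 := by
    intro j _
    simp only [LinearMap.smul_apply, Finsupp.lsingle_apply, Finsupp.smul_apply, smul_eq_mul,
      Finsupp.single_apply, hστ j k]
    split_ifs <;> simp
  rw [Finset.sum_congr rfl hterm, Finset.sum_ite_eq']
  split_ifs with h
  · rfl
  · rw [Finsupp.notMem_support_iff.mp h, mul_zero]

theorem coeff_gU (q : R) (gU : SpinCurv.PolyNodeRing R q →ₐ[R] LaurentPolynomial R)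
    (hgUs : gU (SpinCurv.PolyNodeRing.x R q) = LaurentPolynomial.T 1)
    (hgUy : gU (SpinCurv.PolyNodeRing.y R q) = LaurentPolynomial.C q * LaurentPolynomial.T (-1))
    (u : ℤ →₀ R) (k : ℤ) : (gU (Phi R q u)).coeff k = u k * q ^ (-k).toNat := by
  have := coeff_rho_Phi R q gU 1 q 1 (by norm_num) (by rw [hgUs, map_one, one_mul]) hgUy u k
  rw [this, one_mul, one_pow, one_mul]

theorem coeff_gV (p : R) (gV : SpinCurv.PolyNodeRing R p →ₐ[R] LaurentPolynomial R)
    (hgVt : gV (SpinCurv.PolyNodeRing.x R p) = LaurentPolynomial.T (-1))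
    (hgVx : gV (SpinCurv.PolyNodeRing.y R p) = LaurentPolynomial.C p * LaurentPolynomial.T 1)
    (w : ℤ →₀ R) (n k : ℤ) :
    (LaurentPolynomial.T n * gV (Phi R p w)).coeff k = w (n - k) * p ^ (k - n).toNat := by
  have := coeff_rho_Phi R p gV 1 p (-1) (by norm_num) (by rw [hgVt, map_one, one_mul])
    (by rw [hgVx]; norm_num) w (-n + k)
  have hT : (LaurentPolynomial.T n : LaurentPolynomial R) = AddMonoidAlgebra.single n 1 := rfl
  rw [hT, AddMonoidAlgebra.coeff_single_mul_apply, one_mul, this, one_pow, one_mul]
  have e1 : (-1 : ℤ) * (-n + k) = n - k := by ring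
  have e2 : -(n - k) = k - n := by ring
  rw [e1, e2]


/-- Let R be a commutative ring and p, q ∈ R, and consider the two affine charts U = Spec R[s, y]/(sy -
q) and V = Spec R[t, x]/(xt - p) of the curve obtained from the node xy = pq by the (p,
q)-construction, glued along R[s, s⁻¹] by t = s⁻¹ (so y = q s⁻¹ on U and x = p s on V). For an
integer n ≥ -1 the global sections of the twisting sheaf O(n) (equal to vⁿ O on U and to ξⁿ O on V,
ξ = s v) are the pairs (g, f) of functions on U and V with g = sⁿ f on U ∩ V. This R-module, written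
as the kernel of the R-linear map (g, f) ↦ g|_{U ∩ V} - sⁿ · f|_{U ∩ V} into R[s, s⁻¹], is free over
R (hence the direct image of O(n) on the node is flat over R). Both chart rings are written as the
quotient of the polynomial ring in two variables by (first variable)·(second variable) - constant,
and the two restriction homomorphisms to R[s, s⁻¹] are R-algebra maps pinned by their values on
generators. (The published setting has R complete local and p, q in the maximal ideal; the printed
computation uses neither.) -/
theorem result (R : Type u) [CommRing R] (p q : R)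
    (gU : SpinCurv.PolyNodeRing R q →ₐ[R] LaurentPolynomial R)
    (hgUs : gU (SpinCurv.PolyNodeRing.x R q) = LaurentPolynomial.T 1)
    (hgUy : gU (SpinCurv.PolyNodeRing.y R q) = LaurentPolynomial.C q * LaurentPolynomial.T (-1))
    (gV : SpinCurv.PolyNodeRing R p →ₐ[R] LaurentPolynomial R)
    (hgVt : gV (SpinCurv.PolyNodeRing.x R p) = LaurentPolynomial.T (-1))
    (hgVx : gV (SpinCurv.PolyNodeRing.y R p) = LaurentPolynomial.C p * LaurentPolynomial.T 1)
    (n : ℤ) (hn : -1 ≤ n) :
    Module.Free R (LinearMap.ker
      (gU.toLinearMap.comp (LinearMap.fst R (SpinCurv.PolyNodeRing R q) (SpinCurv.PolyNodeRing R p)) -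
        (LinearMap.mulLeft R (LaurentPolynomial.T n)).comp
          (gV.toLinearMap.comp (LinearMap.snd R (SpinCurv.PolyNodeRing R q) (SpinCurv.PolyNodeRing R p))))) := by
  classical
  set K := LinearMap.ker
      (gU.toLinearMap.comp (LinearMap.fst R (SpinCurv.PolyNodeRing R q) (SpinCurv.PolyNodeRing R p)) -
        (LinearMap.mulLeft R (LaurentPolynomial.T n)).comp
          (gV.toLinearMap.comp (LinearMap.snd R (SpinCurv.PolyNodeRing R q) (SpinCurv.PolyNodeRing R p))))
    with hK
  have hmemK : ∀ (u w : ℤ →₀ R), (Phi R q u, Phi R p w) ∈ K ↔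
      ∀ k : ℤ, u k * q ^ (-k).toNat = w (n - k) * p ^ (k - n).toNat := by
    intro u w
    rw [hK, LinearMap.mem_ker, LinearMap.sub_apply, sub_eq_zero]
    simp only [LinearMap.comp_apply, LinearMap.fst_apply, LinearMap.snd_apply,
      AlgHom.toLinearMap_apply, LinearMap.mulLeft_apply]
    constructor
    · intro h k
      have := congrArg (fun P : LaurentPolynomial R => P.coeff k) h
      rw [coeff_gU q gU hgUs hgUy, coeff_gV p gV hgVt hgVx] at this
      exact this
    · intro h
      apply LaurentPolynomial.ext
      intro k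
      rw [coeff_gU q gU hgUs hgUy, coeff_gV p gV hgVt hgVx]
      exact h k
  set cU : ℤ → R := fun j => p ^ (-j).toNat with hcU
  set cW : ℤ → R := fun k => q ^ (k - n).toNat with hcW
  have hrefl : ∀ j k : ℤ, n - j = k ↔ j = n - k := by
    intro j k
    constructor <;> intro h <;> omega
  have hid : ∀ j k : ℤ, id j = k ↔ j = id k := fun j k => Iff.rfl
  have hU : ∀ (z : ℤ →₀ R) (k : ℤ), wt cU (fun j => n - j) z k = p ^ (k - n).toNat * z (n - k) := by
    intro z k
    rw [wt_apply cU (fun j => n - j) (fun k => n - k) hrefl z k, hcU]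
    have : -(n - k) = k - n := by ring
    simp only [this]
  have hW : ∀ (z : ℤ →₀ R) (k : ℤ), wt cW id z k = q ^ (k - n).toNat * z k := by
    intro z k
    rw [wt_apply cW id id hid z k]
    rfl
  let Θ : (ℤ →₀ R) →ₗ[R] SpinCurv.PolyNodeRing R q × SpinCurv.PolyNodeRing R p :=
    LinearMap.prod ((Phi R q) ∘ₗ wt cU (fun j => n - j)) ((Phi R p) ∘ₗ wt cW id)
  have hΘ : ∀ z, Θ z = (Phi R q (wt cU (fun j => n - j) z), Phi R p (wt cW id z)) := fun z => rfl
  have hΘK : ∀ z, Θ z ∈ K := by
    intro z
    rw [hΘ, hmemK]
    intro k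
    rw [hU, hW]
    have : n - k - n = -k := by ring
    rw [this]
    ring
  have hinj : Function.Injective Θ := by
    rw [← LinearMap.ker_eq_bot, LinearMap.ker_eq_bot']
    intro z hz
    rw [hΘ, Prod.mk_eq_zero] at hz
    have h1 : wt cU (fun j => n - j) z = 0 := Phi_injective R q (by rw [hz.1, map_zero])
    have h2 : wt cW id z = 0 := Phi_injective R p (by rw [hz.2, map_zero])
    ext k
    rw [Finsupp.zero_apply]
    rcases le_or_gt k n with hk | hk
    · have := congrArg (fun f : ℤ →₀ R => f k) h2
      simp only [Finsupp.zero_apply] at this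
      rw [hW] at this
      have e : (k - n).toNat = 0 := by omega
      rw [e, pow_zero, one_mul] at this
      exact this
    · have := congrArg (fun f : ℤ →₀ R => f (n - k)) h1
      simp only [Finsupp.zero_apply] at this
      rw [hU] at this
      have e : (n - k - n).toNat = 0 := by omega
      have e2 : n - (n - k) = k := by ring
      rw [e, pow_zero, one_mul, e2] at this
      exact this
  have hsurj : ∀ x ∈ K, ∃ z, Θ z = x := by
    rintro ⟨g, f⟩ hx
    obtain ⟨u, rfl⟩ := Phi_surjective R q g
    obtain ⟨w, rfl⟩ := Phi_surjective R p f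
    rw [hmemK] at hx
    set ur : ℤ →₀ R := wt (fun _ => (1 : R)) (fun j => n - j) u with hur
    have hur_apply : ∀ k, ur k = u (n - k) := by
      intro k
      rw [hur, wt_apply (fun _ => (1 : R)) (fun j => n - j) (fun k => n - k) hrefl u k, one_mul]
    set z : ℤ →₀ R := Finsupp.filter (fun k => k ≤ n) w + Finsupp.filter (fun k => n < k) ur with hz
    have hz_apply : ∀ k, z k = if k ≤ n then w k else u (n - k) := by
      intro k
      rw [hz, Finsupp.add_apply, Finsupp.filter_apply, Finsupp.filter_apply, hur_apply]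
      split_ifs with h1 h2
      · omega
      · simp
      · simp
      · omega
    refine ⟨z, ?_⟩
    rw [hΘ]
    congr 1
    · congr 1
      ext k
      rw [hU, hz_apply]
      split_ifs with h
      · have := hx k
        have e : (-k).toNat = 0 := by omega
        rw [e, pow_zero, mul_one] at this
        rw [this]
        ring
      · have e : (k - n).toNat = 0 := by omega
        have e2 : n - (n - k) = k := by ring
        rw [e, pow_zero, one_mul, e2]
    · congr 1
      ext k
      rw [hW, hz_apply]
      split_ifs with h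
      · have e : (k - n).toNat = 0 := by omega
        rw [e, pow_zero, one_mul]
      · have := hx (n - k)
        have e1 : n - (n - k) = k := by ring
        have e2 : n - k - n = -k := by ring
        have e3 : (-k).toNat = 0 := by omega
        have e4 : -(n - k) = k - n := by ring
        rw [e1, e2, e3, pow_zero, mul_one, e4] at this
        rw [← this]
        ring
  let e : (ℤ →₀ R) ≃ₗ[R] K := LinearEquiv.ofBijective (Θ.codRestrict K hΘK) ⟨by
    intro a b hab
    apply hinj
    have := congrArg Subtype.val hab
    simpa using this, by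
    rintro ⟨x, hx⟩
    obtain ⟨z, hz⟩ := hsurj x hx
    exact ⟨z, Subtype.ext hz⟩⟩
  exact Module.Free.of_equiv e

end Groth.Agent.S18436
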