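import Groth.Statements.S18437
import Mathlib
import Groth.Agent.Lib.Helper18.PolyNode
import Groth.Agent.S18436

set_option autoImplicit false
universe u
open SpinCurv

namespace Groth.Agent.S18437


open LaurentPolynomial Groth.Agent.Lib.Helper18.PolyNode Groth.Agent.S18436


variable {R : Type u} [CommRing R]

theorem wt_single (c : ℤ → R) (σ : ℤ → ℤ) (j : ℤ) (r : R) :
    wt c σ (Finsupp.single j r) = Finsupp.single (σ j) (c j * r) := by
  unfold wt
  rw [Finsupp.lsum_single]
  simp

noncomputable def Theta (p q : R) (n : ℤ) :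
    (ℤ →₀ R) →ₗ[R] SpinCurv.PolyNodeRing R q × SpinCurv.PolyNodeRing R p :=
  LinearMap.prod ((Phi R q) ∘ₗ wt (fun j => p ^ (-j).toNat) (fun j => n - j))
    ((Phi R p) ∘ₗ wt (fun k => q ^ (k - n).toNat) id)

theorem Theta_single (p q : R) (n : ℤ) (j : ℤ) (r : R) :
    Theta p q n (Finsupp.single j r) =
      ((p ^ (-j).toNat * r) • e R q (n - j), (q ^ (j - n).toNat * r) • e R p j) := by
  change (Phi R q (wt (fun j => p ^ (-j).toNat) (fun j => n - j) (Finsupp.single j r)),
    Phi R p (wt (fun k => q ^ (k - n).toNat) id (Finsupp.single j r))) = _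
  rw [wt_single, wt_single]
  unfold Phi
  rw [Finsupp.linearCombination_single, Finsupp.linearCombination_single]
  rfl

section

variable (p q : R)
    (gU : SpinCurv.PolyNodeRing R q →ₐ[R] LaurentPolynomial R)
    (hgUs : gU (SpinCurv.PolyNodeRing.x R q) = LaurentPolynomial.T 1)
    (hgUy : gU (SpinCurv.PolyNodeRing.y R q) = LaurentPolynomial.C q * LaurentPolynomial.T (-1))
    (gV : SpinCurv.PolyNodeRing R p →ₐ[R] LaurentPolynomial R)
    (hgVt : gV (SpinCurv.PolyNodeRing.x R p) = LaurentPolynomial.T (-1))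
    (hgVx : gV (SpinCurv.PolyNodeRing.y R p) = LaurentPolynomial.C p * LaurentPolynomial.T 1)

include hgUs hgUy hgVt hgVx in
theorem memK_iff (n : ℤ) (u w : ℤ →₀ R) :
    gU (Phi R q u) = LaurentPolynomial.T n * gV (Phi R p w) ↔
      ∀ k : ℤ, u k * q ^ (-k).toNat = w (n - k) * p ^ (k - n).toNat := by
  constructor
  · intro h k
    have := congrArg (fun P : LaurentPolynomial R => P.coeff k) h
    rw [coeff_gU q gU hgUs hgUy, coeff_gV p gV hgVt hgVx] at this
    exact this
  · intro h
    apply LaurentPolynomial.ext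
    intro k
    rw [coeff_gU q gU hgUs hgUy, coeff_gV p gV hgVt hgVx]
    exact h k

theorem hrefl (n : ℤ) : ∀ j k : ℤ, n - j = k ↔ j = n - k := by
  intro j k
  constructor <;> intro h <;> omega

theorem U_apply (n : ℤ) (z : ℤ →₀ R) (k : ℤ) :
    wt (fun j => p ^ (-j).toNat) (fun j => n - j) z k = p ^ (k - n).toNat * z (n - k) := by
  rw [wt_apply _ (fun j => n - j) (fun k => n - k) (hrefl n) z k]
  have : -(n - k) = k - n := by ring
  simp only [this]

theorem W_apply (n : ℤ) (z : ℤ →₀ R) (k : ℤ) :
    wt (fun k => q ^ (k - n).toNat) id z k = q ^ (k - n).toNat * z k := by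
  rw [wt_apply _ id id (fun j k => Iff.rfl) z k]
  rfl

theorem Theta_apply (n : ℤ) (z : ℤ →₀ R) : Theta p q n z =
    (Phi R q (wt (fun j => p ^ (-j).toNat) (fun j => n - j) z),
      Phi R p (wt (fun k => q ^ (k - n).toNat) id z)) := rfl

include hgUs hgUy hgVt hgVx in
theorem Theta_mem (n : ℤ) (z : ℤ →₀ R) :
    gU (Theta p q n z).1 = LaurentPolynomial.T n * gV (Theta p q n z).2 := by
  rw [Theta_apply]
  rw [memK_iff p q gU hgUs hgUy gV hgVt hgVx]
  intro k
  rw [U_apply, W_apply]
  have : n - k - n = -k := by ring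
  rw [this]
  ring

theorem Theta_injective (n : ℤ) (hn : -1 ≤ n) : Function.Injective (Theta p q n) := by
  rw [← LinearMap.ker_eq_bot, LinearMap.ker_eq_bot']
  intro z hz
  rw [Theta_apply, Prod.mk_eq_zero] at hz
  have h1 : wt (fun j => p ^ (-j).toNat) (fun j => n - j) z = 0 :=
    Phi_injective R q (by rw [hz.1, map_zero])
  have h2 : wt (fun k => q ^ (k - n).toNat) id z = 0 := Phi_injective R p (by rw [hz.2, map_zero])
  ext k
  rw [Finsupp.zero_apply]
  rcases le_or_gt k n with hk | hk
  · have := congrArg (fun f : ℤ →₀ R => f k) h2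
    simp only [Finsupp.zero_apply] at this
    rw [W_apply] at this
    have e : (k - n).toNat = 0 := by omega
    rw [e, pow_zero, one_mul] at this
    exact this
  · have := congrArg (fun f : ℤ →₀ R => f (n - k)) h1
    simp only [Finsupp.zero_apply] at this
    rw [U_apply] at this
    have e : (n - k - n).toNat = 0 := by omega
    have e2 : n - (n - k) = k := by ring
    rw [e, pow_zero, one_mul, e2] at this
    exact this

include hgUs hgUy hgVt hgVx in
theorem Theta_surj (n : ℤ) (hn : -1 ≤ n) (g : SpinCurv.PolyNodeRing R q)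
    (f : SpinCurv.PolyNodeRing R p) (hx : gU g = LaurentPolynomial.T n * gV f) :
    ∃ z, Theta p q n z = (g, f) := by
  classical
  obtain ⟨u, rfl⟩ := Phi_surjective R q g
  obtain ⟨w, rfl⟩ := Phi_surjective R p f
  rw [memK_iff p q gU hgUs hgUy gV hgVt hgVx] at hx
  set ur : ℤ →₀ R := wt (fun _ => (1 : R)) (fun j => n - j) u with hur
  have hur_apply : ∀ k, ur k = u (n - k) := by
    intro k
    rw [hur, wt_apply (fun _ => (1 : R)) (fun j => n - j) (fun k => n - k) (hrefl n) u k, one_mul]
  set z : ℤ →₀ R := Finsupp.filter (fun k => k ≤ n) w + Finsupp.filter (fun k => n < k) ur with hz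
  have hz_apply : ∀ k, z k = if k ≤ n then w k else u (n - k) := by
    intro k
    rw [hz, Finsupp.add_apply, Finsupp.filter_apply, Finsupp.filter_apply, hur_apply]
    split_ifs with h1 h2
    · omega
    · simp
    · simp
    · omega
  refine ⟨z, ?_⟩
  rw [Theta_apply]
  congr 1
  · congr 1
    ext k
    rw [U_apply, hz_apply]
    split_ifs with h
    · have := hx k
      have e : (-k).toNat = 0 := by omega
      rw [e, pow_zero, mul_one] at this
      rw [this]
      ring
    · have e : (k - n).toNat = 0 := by omega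
      have e2 : n - (n - k) = k := by ring
      rw [e, pow_zero, one_mul, e2]
  · congr 1
    ext k
    rw [W_apply, hz_apply]
    split_ifs with h
    · have e : (k - n).toNat = 0 := by omega
      rw [e, pow_zero, one_mul]
    · have := hx (n - k)
      have e1 : n - (n - k) = k := by ring
      have e2 : n - k - n = -k := by ring
      have e3 : (-k).toNat = 0 := by omega
      have e4 : -(n - k) = k - n := by ring
      rw [e1, e2, e3, pow_zero, mul_one, e4] at this
      rw [← this]
      ring

end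

theorem e_nonneg (π : R) (k : ℤ) (hk : 0 ≤ k) :
    e R π k = SpinCurv.PolyNodeRing.x R π ^ k.toNat := by
  unfold e
  have : (-k).toNat = 0 := by omega
  rw [this, pow_zero, mul_one]

theorem e_nonpos (π : R) (k : ℤ) (hk : k ≤ 0) :
    e R π k = SpinCurv.PolyNodeRing.y R π ^ (-k).toNat := by
  unfold e
  have : k.toNat = 0 := by omega
  rw [this, pow_zero, one_mul]

section Main

variable (p q : R)
    (rU : SpinCurv.PolyNodeRing R (p * q) →ₐ[R] SpinCurv.PolyNodeRing R q)
    (hrUx : rU (SpinCurv.PolyNodeRing.x R (p * q)) = algebraMap R _ p * SpinCurv.PolyNodeRing.x R q)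
    (hrUy : rU (SpinCurv.PolyNodeRing.y R (p * q)) = SpinCurv.PolyNodeRing.y R q)
    (rV : SpinCurv.PolyNodeRing R (p * q) →ₐ[R] SpinCurv.PolyNodeRing R p)
    (hrVx : rV (SpinCurv.PolyNodeRing.x R (p * q)) = SpinCurv.PolyNodeRing.y R p)
    (hrVy : rV (SpinCurv.PolyNodeRing.y R (p * q)) = algebraMap R _ q * SpinCurv.PolyNodeRing.x R p)
    (gU : SpinCurv.PolyNodeRing R q →ₐ[R] LaurentPolynomial R)
    (hgUs : gU (SpinCurv.PolyNodeRing.x R q) = LaurentPolynomial.T 1)
    (hgUy : gU (SpinCurv.PolyNodeRing.y R q) = LaurentPolynomial.C q * LaurentPolynomial.T (-1))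
    (gV : SpinCurv.PolyNodeRing R p →ₐ[R] LaurentPolynomial R)
    (hgVt : gV (SpinCurv.PolyNodeRing.x R p) = LaurentPolynomial.T (-1))
    (hgVx : gV (SpinCurv.PolyNodeRing.y R p) = LaurentPolynomial.C p * LaurentPolynomial.T 1)

include hrUx hrUy hrVx hrVy hgUs hgUy hgVt hgVx in
theorem comp_eq (a : SpinCurv.PolyNodeRing R (p * q)) : gU (rU a) = gV (rV a) := by
  have h : gU.comp rU = gV.comp rV := by
    apply Ideal.Quotient.algHom_ext
    apply MvPolynomial.algHom_ext
    intro i
    fin_cases i
    · change gU (rU (SpinCurv.PolyNodeRing.x R (p * q))) = gV (rV (SpinCurv.PolyNodeRing.x R (p * q)))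
      rw [hrUx, hrVx, map_mul, AlgHom.commutes, hgUs, hgVx, ← C_eq_algebraMap]
    · change gU (rU (SpinCurv.PolyNodeRing.y R (p * q))) = gV (rV (SpinCurv.PolyNodeRing.y R (p * q)))
      rw [hrUy, hrVy, map_mul, AlgHom.commutes, hgUy, hgVt, ← C_eq_algebraMap]
  exact congrArg (fun f => f a) h

include hrUx hrUy in
theorem rU_e (k : ℤ) : rU (e R (p * q) k) =
    algebraMap R (SpinCurv.PolyNodeRing R q) (p ^ k.toNat) * e R q k := by
  unfold e
  rw [map_mul, map_pow, map_pow, hrUx, hrUy, mul_pow, map_pow (algebraMap R _)]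
  ring

include hrVx hrVy in
theorem rV_e (k : ℤ) : rV (e R (p * q) k) =
    algebraMap R (SpinCurv.PolyNodeRing R p) (q ^ (-k).toNat) * e R p (-k) := by
  unfold e
  rw [map_mul, map_pow, map_pow, hrVx, hrVy, mul_pow, map_pow (algebraMap R _), neg_neg]
  ring

theorem smul_eq (π : R) (r : R) (a : SpinCurv.PolyNodeRing R π) :
    r • a = algebraMap R (SpinCurv.PolyNodeRing R π) r * a := Algebra.smul_def r a

noncomputable def Psi (n : ℕ) : (Fin (n + 1) → SpinCurv.PolyNodeRing R (p * q)) →ₗ[R]
    SpinCurv.PolyNodeRing R q × SpinCurv.PolyNodeRing R p :=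
  LinearMap.prod
    (∑ i : Fin (n + 1), (LinearMap.mulRight R (SpinCurv.PolyNodeRing.x R q ^ (n - (i : ℕ)))) ∘ₗ
      rU.toLinearMap ∘ₗ LinearMap.proj i)
    (∑ i : Fin (n + 1), (LinearMap.mulRight R (SpinCurv.PolyNodeRing.x R p ^ (i : ℕ))) ∘ₗ
      rV.toLinearMap ∘ₗ LinearMap.proj i)

theorem Psi_apply (n : ℕ) (F : Fin (n + 1) → SpinCurv.PolyNodeRing R (p * q)) :
    Psi p q rU rV n F =
      (∑ i : Fin (n + 1), rU (F i) * SpinCurv.PolyNodeRing.x R q ^ (n - (i : ℕ)),
       ∑ i : Fin (n + 1), rV (F i) * SpinCurv.PolyNodeRing.x R p ^ (i : ℕ)) := by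
  simp [Psi]

theorem Psi_single (n : ℕ) (a : Fin (n + 1)) (c : SpinCurv.PolyNodeRing R (p * q)) :
    Psi p q rU rV n (Pi.single a c) =
      (rU c * SpinCurv.PolyNodeRing.x R q ^ (n - (a : ℕ)),
        rV c * SpinCurv.PolyNodeRing.x R p ^ (a : ℕ)) := by
  classical
  rw [Psi_apply]
  congr 1
  · rw [Finset.sum_eq_single a]
    · rw [Pi.single_eq_same]
    · intro b _ hb
      rw [Pi.single_eq_of_ne hb, map_zero, zero_mul]
    · intro h
      exact absurd (Finset.mem_univ a) h
  · rw [Finset.sum_eq_single a]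
    · rw [Pi.single_eq_same]
    · intro b _ hb
      rw [Pi.single_eq_of_ne hb, map_zero, zero_mul]
    · intro h
      exact absurd (Finset.mem_univ a) h

theorem Psi_smul (n : ℕ) (a : SpinCurv.PolyNodeRing R (p * q))
    (F : Fin (n + 1) → SpinCurv.PolyNodeRing R (p * q)) :
    Psi p q rU rV n (a • F) =
      (rU a * (Psi p q rU rV n F).1, rV a * (Psi p q rU rV n F).2) := by
  rw [Psi_apply, Psi_apply]
  simp only [Pi.smul_apply, smul_eq_mul, map_mul, Finset.mul_sum, mul_assoc]

def cl (n : ℕ) (j : ℤ) : Fin (n + 1) := ⟨(max 0 (min (n : ℤ) j)).toNat, by omega⟩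

noncomputable def bb (n : ℕ) (j : ℤ) : Fin (n + 1) → SpinCurv.PolyNodeRing R (p * q) :=
  Pi.single (cl n j) (e R (p * q) (((cl n j : ℕ) : ℤ) - j))

include hrUx hrUy hrVx hrVy in
theorem Psi_bb (n : ℕ) (j : ℤ) :
    Psi p q rU rV n (bb p q n j) =
      (algebraMap R (SpinCurv.PolyNodeRing R q) (p ^ (-j).toNat) * e R q ((n : ℤ) - j),
        algebraMap R (SpinCurv.PolyNodeRing R p) (q ^ (j - n).toNat) * e R p j) := by
  unfold bb
  rw [Psi_single, rU_e p q rU hrUx hrUy, rV_e p q rV hrVx hrVy]
  obtain ⟨c, hc⟩ : ∃ c : ℕ, c = ((cl n j : Fin (n + 1)) : ℕ) := ⟨_, rfl⟩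
  rw [← hc]
  have hcval : (c : ℤ) = max 0 (min (n : ℤ) j) := by
    rw [hc]
    unfold cl
    simp only
    omega
  rcases lt_or_ge j 0 with hj | hj
  · have hc0 : c = 0 := by omega
    subst hc0
    have e1 : (j - (n : ℤ)).toNat = 0 := by omega
    have e2 : (-(((0 : ℕ) : ℤ) - j)).toNat = 0 := by omega
    have e3 : (((0 : ℕ) : ℤ) - j).toNat = (-j).toNat := by omega
    have e4 : -(((0 : ℕ) : ℤ) - j) = j := by omega
    rw [e1, e2, e3, e4]
    simp only [pow_zero, map_one, one_mul, mul_one, Nat.sub_zero]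
    congr 1
    rw [e_nonneg q (((0 : ℕ) : ℤ) - j) (by omega), e_nonneg q ((n : ℤ) - j) (by omega), e3,
      mul_assoc, ← pow_add]
    congr 2
    omega
  rcases le_or_gt j n with hjn | hjn
  · have hcj : (c : ℤ) = j := by omega
    have e0 : (c : ℤ) - j = 0 := by omega
    have e1 : (j - (n : ℤ)).toNat = 0 := by omega
    have e2 : (-j).toNat = 0 := by omega
    rw [e0, e1, e2]
    simp only [neg_zero, Int.toNat_zero, pow_zero, map_one, one_mul]
    have e3 : e R q 0 = 1 := by
      rw [e_nonneg q 0 le_rfl]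
      simp
    have e4 : e R p 0 = 1 := by
      rw [e_nonneg p 0 le_rfl]
      simp
    rw [e3, e4, one_mul, one_mul, e_nonneg q ((n : ℤ) - j) (by omega), e_nonneg p j hj]
    congr 2
    · omega
    · omega
  · have hcn : c = n := by omega
    subst hcn
    have e1 : ((c : ℤ) - j).toNat = 0 := by omega
    have e2 : (-j).toNat = 0 := by omega
    have e3 : -((c : ℤ) - j) = j - c := by ring
    rw [e1, e2, e3]
    simp only [pow_zero, map_one, one_mul, mul_one, Nat.sub_self]
    congr 1
    rw [e_nonneg p (j - c) (by omega), e_nonneg p j (by omega), mul_assoc, ← pow_add]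
    congr 2
    omega

noncomputable def beta (n : ℕ) : (ℤ →₀ R) →ₗ[R] (Fin (n + 1) → SpinCurv.PolyNodeRing R (p * q)) :=
  Finsupp.linearCombination R (bb p q n)

include hrUx hrUy hrVx hrVy in
theorem Psi_beta (n : ℕ) (z : ℤ →₀ R) :
    Psi p q rU rV n (beta p q n z) = Theta p q n z := by
  have h : (Psi p q rU rV n) ∘ₗ (beta p q n) = Theta p q n := by
    apply Finsupp.lhom_ext
    intro j r
    rw [LinearMap.comp_apply, Theta_single]
    unfold beta
    rw [Finsupp.linearCombination_single, map_smul, Psi_bb p q rU hrUx hrUy rV hrVx hrVy,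
      Prod.smul_mk, smul_eq, smul_eq, smul_eq, smul_eq, map_mul, map_mul]
    congr 1 <;> ring
  exact congrArg (fun f => f z) h

end Main

section Span

variable (p q : R)

theorem cl_val (n : ℕ) (j : ℤ) : (((cl n j : Fin (n + 1)) : ℕ) : ℤ) = max 0 (min (n : ℤ) j) := by
  unfold cl
  simp only
  omega

theorem bb_neg (n m : ℕ) :
    bb p q n (-(m : ℤ)) = Pi.single (⟨0, Nat.succ_pos n⟩ : Fin (n + 1))
      (SpinCurv.PolyNodeRing.x R (p * q) ^ m) := by
  unfold bb
  have hc : cl n (-(m : ℤ)) = ⟨0, Nat.succ_pos n⟩ := by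
    apply Fin.ext
    have := cl_val n (-(m : ℤ))
    simp only
    omega
  rw [hc]
  simp only [Nat.cast_zero, zero_sub, neg_neg]
  rw [e_nonneg (p * q) (m : ℤ) (by omega), Int.toNat_natCast]

theorem bb_mid (n i : ℕ) (hi : i < n + 1) :
    bb p q n (i : ℤ) = Pi.single (⟨i, hi⟩ : Fin (n + 1)) 1 := by
  unfold bb
  have hc : cl n (i : ℤ) = ⟨i, hi⟩ := by
    apply Fin.ext
    have := cl_val n (i : ℤ)
    simp only
    omega
  rw [hc]
  simp only [sub_self]
  rw [e_nonneg (p * q) 0 le_rfl]
  simp

theorem bb_big (n m : ℕ) :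
    bb p q n ((n : ℤ) + m) = Pi.single (⟨n, Nat.lt_succ_self n⟩ : Fin (n + 1))
      (SpinCurv.PolyNodeRing.y R (p * q) ^ m) := by
  unfold bb
  have hc : cl n ((n : ℤ) + m) = ⟨n, Nat.lt_succ_self n⟩ := by
    apply Fin.ext
    have := cl_val n ((n : ℤ) + m)
    simp only
    omega
  rw [hc]
  simp only
  have : (n : ℤ) - ((n : ℤ) + m) = -(m : ℤ) := by ring
  rw [this, e_nonpos (p * q) (-(m : ℤ)) (by omega), neg_neg, Int.toNat_natCast]

noncomputable def relN (n : ℕ) : Submodule (SpinCurv.PolyNodeRing R (p * q))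
    (Fin (n + 1) → SpinCurv.PolyNodeRing R (p * q)) :=
  Submodule.span (SpinCurv.PolyNodeRing R (p * q))
    (Set.range (fun i : Fin n =>
        (Pi.single (Fin.castSucc i) (algebraMap R (SpinCurv.PolyNodeRing R (p * q)) p) -
          Pi.single (Fin.succ i) (SpinCurv.PolyNodeRing.x R (p * q)) :
            Fin (n + 1) → SpinCurv.PolyNodeRing R (p * q))) ∪
     Set.range (fun i : Fin n =>
        (Pi.single (Fin.castSucc i) (SpinCurv.PolyNodeRing.y R (p * q)) -
          Pi.single (Fin.succ i) (algebraMap R (SpinCurv.PolyNodeRing R (p * q)) q) :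
            Fin (n + 1) → SpinCurv.PolyNodeRing R (p * q))))

noncomputable def SS (n : ℕ) : Submodule R (Fin (n + 1) → SpinCurv.PolyNodeRing R (p * q)) :=
  (relN p q n).restrictScalars R ⊔ LinearMap.range (beta p q n)

theorem bb_mem_SS (n : ℕ) (j : ℤ) : bb p q n j ∈ SS p q n := by
  apply Submodule.mem_sup_right
  refine ⟨Finsupp.single j 1, ?_⟩
  unfold beta
  rw [Finsupp.linearCombination_single, one_smul]

theorem single_smul_A (n : ℕ) (a c : SpinCurv.PolyNodeRing R (p * q)) (i : Fin (n + 1)) :
    a • (Pi.single i c : Fin (n + 1) → SpinCurv.PolyNodeRing R (p * q)) = Pi.single i (a * c) := by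
  classical
  funext k
  rw [Pi.smul_apply, smul_eq_mul]
  by_cases h : k = i
  · subst h
    rw [Pi.single_eq_same, Pi.single_eq_same]
  · rw [Pi.single_eq_of_ne h, Pi.single_eq_of_ne h, mul_zero]

theorem single_smul_R (n : ℕ) (r : R) (c : SpinCurv.PolyNodeRing R (p * q)) (i : Fin (n + 1)) :
    r • (Pi.single i c : Fin (n + 1) → SpinCurv.PolyNodeRing R (p * q)) =
      Pi.single i (algebraMap R (SpinCurv.PolyNodeRing R (p * q)) r * c) := by
  classical
  funext k
  rw [Pi.smul_apply, smul_eq]
  by_cases h : k = i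
  · subst h
    rw [Pi.single_eq_same, Pi.single_eq_same]
  · rw [Pi.single_eq_of_ne h, Pi.single_eq_of_ne h, mul_zero]

theorem claimX (n : ℕ) : ∀ (i : ℕ) (hi : i < n + 1) (m : ℕ),
    (Pi.single (⟨i, hi⟩ : Fin (n + 1)) (SpinCurv.PolyNodeRing.x R (p * q) ^ m) :
      Fin (n + 1) → SpinCurv.PolyNodeRing R (p * q)) ∈ SS p q n := by
  classical
  intro i
  induction i with
  | zero =>
    intro hi m
    rw [← bb_neg p q n m]
    exact bb_mem_SS p q n _
  | succ i ih =>
    intro hi m
    cases m with
    | zero =>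
      rw [pow_zero]
      have := bb_mid p q n (i + 1) hi
      rw [← this]
      exact bb_mem_SS p q n _
    | succ m =>
      have hin : i < n := by omega
      have hrel : (Pi.single (Fin.castSucc (⟨i, hin⟩ : Fin n))
            (algebraMap R (SpinCurv.PolyNodeRing R (p * q)) p) -
          Pi.single (Fin.succ (⟨i, hin⟩ : Fin n)) (SpinCurv.PolyNodeRing.x R (p * q)) :
            Fin (n + 1) → SpinCurv.PolyNodeRing R (p * q)) ∈ relN p q n :=
        Submodule.subset_span (Or.inl ⟨⟨i, hin⟩, rfl⟩)
      have hdecomp : (Pi.single (⟨i + 1, hi⟩ : Fin (n + 1))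
          (SpinCurv.PolyNodeRing.x R (p * q) ^ (m + 1)) :
            Fin (n + 1) → SpinCurv.PolyNodeRing R (p * q)) =
          p • (Pi.single (⟨i, by omega⟩ : Fin (n + 1)) (SpinCurv.PolyNodeRing.x R (p * q) ^ m) :
            Fin (n + 1) → SpinCurv.PolyNodeRing R (p * q)) -
          (SpinCurv.PolyNodeRing.x R (p * q) ^ m) •
            ((Pi.single (Fin.castSucc (⟨i, hin⟩ : Fin n))
              (algebraMap R (SpinCurv.PolyNodeRing R (p * q)) p) :
                Fin (n + 1) → SpinCurv.PolyNodeRing R (p * q)) -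
            (Pi.single (Fin.succ (⟨i, hin⟩ : Fin n)) (SpinCurv.PolyNodeRing.x R (p * q)) :
              Fin (n + 1) → SpinCurv.PolyNodeRing R (p * q))) := by
        rw [smul_sub, single_smul_A, single_smul_A, single_smul_R, Fin.castSucc_mk, Fin.succ_mk,
          mul_comm (SpinCurv.PolyNodeRing.x R (p * q) ^ m)
            (algebraMap R (SpinCurv.PolyNodeRing R (p * q)) p), sub_sub_cancel, pow_succ]
      rw [hdecomp]
      apply Submodule.sub_mem
      · exact Submodule.smul_mem _ _ (ih (by omega) m)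
      · apply Submodule.mem_sup_left
        exact (relN p q n).smul_mem _ hrel

theorem claimY (n : ℕ) : ∀ (d i : ℕ) (hi : i < n + 1), i + d = n → ∀ (m : ℕ),
    (Pi.single (⟨i, hi⟩ : Fin (n + 1)) (SpinCurv.PolyNodeRing.y R (p * q) ^ m) :
      Fin (n + 1) → SpinCurv.PolyNodeRing R (p * q)) ∈ SS p q n := by
  classical
  intro d
  induction d with
  | zero =>
    intro i hi hid m
    have hin : i = n := by omega
    subst hin
    rw [← bb_big p q i m]
    exact bb_mem_SS p q i _
  | succ d ih =>
    intro i hi hid m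
    cases m with
    | zero =>
      rw [pow_zero]
      have := bb_mid p q n i hi
      rw [← this]
      exact bb_mem_SS p q n _
    | succ m =>
      have hin : i < n := by omega
      have hrel : (Pi.single (Fin.castSucc (⟨i, hin⟩ : Fin n))
            (SpinCurv.PolyNodeRing.y R (p * q)) -
          Pi.single (Fin.succ (⟨i, hin⟩ : Fin n))
            (algebraMap R (SpinCurv.PolyNodeRing R (p * q)) q) :
            Fin (n + 1) → SpinCurv.PolyNodeRing R (p * q)) ∈ relN p q n :=
        Submodule.subset_span (Or.inr ⟨⟨i, hin⟩, rfl⟩)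
      have hdecomp : (Pi.single (⟨i, hi⟩ : Fin (n + 1))
          (SpinCurv.PolyNodeRing.y R (p * q) ^ (m + 1)) :
            Fin (n + 1) → SpinCurv.PolyNodeRing R (p * q)) =
          (SpinCurv.PolyNodeRing.y R (p * q) ^ m) •
            ((Pi.single (Fin.castSucc (⟨i, hin⟩ : Fin n)) (SpinCurv.PolyNodeRing.y R (p * q)) :
              Fin (n + 1) → SpinCurv.PolyNodeRing R (p * q)) -
            (Pi.single (Fin.succ (⟨i, hin⟩ : Fin n))
              (algebraMap R (SpinCurv.PolyNodeRing R (p * q)) q) :
                Fin (n + 1) → SpinCurv.PolyNodeRing R (p * q))) +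
          q • (Pi.single (⟨i + 1, by omega⟩ : Fin (n + 1))
            (SpinCurv.PolyNodeRing.y R (p * q) ^ m) :
              Fin (n + 1) → SpinCurv.PolyNodeRing R (p * q)) := by
        rw [smul_sub, single_smul_A, single_smul_A, single_smul_R, Fin.castSucc_mk, Fin.succ_mk,
          mul_comm (SpinCurv.PolyNodeRing.y R (p * q) ^ m)
            (algebraMap R (SpinCurv.PolyNodeRing R (p * q)) q), sub_add_cancel, pow_succ]
      rw [hdecomp]
      apply Submodule.add_mem
      · apply Submodule.mem_sup_left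
        exact (relN p q n).smul_mem _ hrel
      · exact Submodule.smul_mem _ _ (ih (i + 1) (by omega) (by omega) m)

theorem SS_eq_top (n : ℕ) : SS p q n = ⊤ := by
  classical
  rw [eq_top_iff]
  intro F _
  have hF : F = ∑ i, Pi.single i (F i) := (Finset.univ_sum_single F).symm
  rw [hF]
  apply Submodule.sum_mem
  intro i _
  obtain ⟨u, hu⟩ := Phi_surjective R (p * q) (F i)
  rw [← hu]
  unfold Phi
  rw [Finsupp.linearCombination_apply, Finsupp.sum]
  have : (Pi.single i (∑ k ∈ u.support, u k • e R (p * q) k) :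
      Fin (n + 1) → SpinCurv.PolyNodeRing R (p * q)) =
      ∑ k ∈ u.support, u k • (Pi.single i (e R (p * q) k) :
        Fin (n + 1) → SpinCurv.PolyNodeRing R (p * q)) := by
    have h1 := map_sum (LinearMap.single R (fun _ : Fin (n + 1) => SpinCurv.PolyNodeRing R (p * q)) i)
      (fun k => u k • e R (p * q) k) u.support
    simp only [LinearMap.coe_single, map_smul] at h1
    exact h1
  rw [this]
  apply Submodule.sum_mem
  intro k _
  apply Submodule.smul_mem
  obtain ⟨i, hi⟩ := i
  rcases le_or_gt 0 k with hk | hk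
  · rw [e_nonneg (p * q) k hk]
    exact claimX p q n i hi _
  · rw [e_nonpos (p * q) k hk.le]
    exact claimY p q n (n - i) i hi (by omega) _

end Span


/-- Let R be a commutative ring and p, q ∈ R; put A = R[x, y]/(xy - pq) and consider the two affine
charts U = Spec R[s, y]/(sy - q) and V = Spec R[t, x]/(xt - p) of the curve obtained from Spec A by
blowing up as in the (p, q)-construction, glued along R[s, s⁻¹] by t = s⁻¹ (so y = q s⁻¹ on U and x
= p s on V), with the projection to Spec A given by x ↦ p s, y ↦ y on U and x ↦ x, y ↦ q t on V. For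
n ≥ 0 the twisting sheaf O(n) is vⁿ O on U and ξⁿ O on V with ξ = s v, so its global sections are
the pairs (g, f) of functions on U and V with g = sⁿ f on U ∩ V. Then the map A^{n+1} → O(U) × O(V)
sending (F_0, …, F_n), i.e. the section Σ F_i ξ^{n-i} v^i, to (Σ F_i|_U s^{n-i}, Σ F_i|_V t^i) has
image exactly the set of such pairs, and F is sent to zero exactly when it lies in the A-submodule
of A^{n+1} generated by the vectors p e_i - x e_{i+1} and y e_i - q e_{i+1} for 0 ≤ i < n (e_0, …,
e_n the standard basis). So the global sections of O(n) form the degree-n piece of A[ξ, v]/(p ξ - x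
v, q v - y ξ). For n = 0 this says that a ↦ (a|_U, a|_V) is injective on A with image the pairs of
functions that agree on U ∩ V, so that the functions on the blown-up curve are exactly the functions
on Spec A (the direct image of its structure sheaf is the structure sheaf of Spec A); for n = 1 it
presents the global sections of O(1) as A ξ ⊕ A v modulo the relations p ξ = x v and y ξ = q v. Here
R[s, y]/(sy - q) and R[t, x]/(xt - p) are both written as the quotient of the polynomial ring in two
variables by (first variable)·(second variable) - constant, the homomorphisms rU, rV are the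
restriction maps from A to the two charts and gU, gV the restriction maps from the charts to their
intersection R[s, s⁻¹] (Laurent polynomials), each pinned by its values on the two generators. (The
published setting has R complete local and p, q in the maximal ideal, and reduces to this polynomial
computation, which uses neither.) -/
theorem result (R : Type u) [CommRing R] (p q : R)
    (rU : SpinCurv.PolyNodeRing R (p * q) →ₐ[R] SpinCurv.PolyNodeRing R q)
    (hrUx : rU (SpinCurv.PolyNodeRing.x R (p * q)) = algebraMap R _ p * SpinCurv.PolyNodeRing.x R q)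
    (hrUy : rU (SpinCurv.PolyNodeRing.y R (p * q)) = SpinCurv.PolyNodeRing.y R q)
    (rV : SpinCurv.PolyNodeRing R (p * q) →ₐ[R] SpinCurv.PolyNodeRing R p)
    (hrVx : rV (SpinCurv.PolyNodeRing.x R (p * q)) = SpinCurv.PolyNodeRing.y R p)
    (hrVy : rV (SpinCurv.PolyNodeRing.y R (p * q)) = algebraMap R _ q * SpinCurv.PolyNodeRing.x R p)
    (gU : SpinCurv.PolyNodeRing R q →ₐ[R] LaurentPolynomial R)
    (hgUs : gU (SpinCurv.PolyNodeRing.x R q) = LaurentPolynomial.T 1)
    (hgUy : gU (SpinCurv.PolyNodeRing.y R q) = LaurentPolynomial.C q * LaurentPolynomial.T (-1))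
    (gV : SpinCurv.PolyNodeRing R p →ₐ[R] LaurentPolynomial R)
    (hgVt : gV (SpinCurv.PolyNodeRing.x R p) = LaurentPolynomial.T (-1))
    (hgVx : gV (SpinCurv.PolyNodeRing.y R p) = LaurentPolynomial.C p * LaurentPolynomial.T 1) (n : ℕ) :
    Set.range (fun F : Fin (n + 1) → SpinCurv.PolyNodeRing R (p * q) =>
        (∑ i : Fin (n + 1), rU (F i) * SpinCurv.PolyNodeRing.x R q ^ (n - (i : ℕ)),
         ∑ i : Fin (n + 1), rV (F i) * SpinCurv.PolyNodeRing.x R p ^ (i : ℕ))) =
      {gf : SpinCurv.PolyNodeRing R q × SpinCurv.PolyNodeRing R p |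
        gU gf.1 = LaurentPolynomial.T (n : ℤ) * gV gf.2} ∧
    {F : Fin (n + 1) → SpinCurv.PolyNodeRing R (p * q) |
        (∑ i : Fin (n + 1), rU (F i) * SpinCurv.PolyNodeRing.x R q ^ (n - (i : ℕ)),
         ∑ i : Fin (n + 1), rV (F i) * SpinCurv.PolyNodeRing.x R p ^ (i : ℕ)) = 0} =
      (Submodule.span (SpinCurv.PolyNodeRing R (p * q))
        (Set.range (fun i : Fin n =>
            (Pi.single (Fin.castSucc i) (algebraMap R (SpinCurv.PolyNodeRing R (p * q)) p) -
              Pi.single (Fin.succ i) (SpinCurv.PolyNodeRing.x R (p * q)) : Fin (n + 1) → SpinCurv.PolyNodeRing R (p * q))) ∪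
         Set.range (fun i : Fin n =>
            (Pi.single (Fin.castSucc i) (SpinCurv.PolyNodeRing.y R (p * q)) -
              Pi.single (Fin.succ i) (algebraMap R (SpinCurv.PolyNodeRing R (p * q)) q) : Fin (n + 1) → SpinCurv.PolyNodeRing R (p * q)))) :
        Set (Fin (n + 1) → SpinCurv.PolyNodeRing R (p * q))) := by
  classical
  have hPsi : ∀ F : Fin (n + 1) → SpinCurv.PolyNodeRing R (p * q),
      (∑ i : Fin (n + 1), rU (F i) * SpinCurv.PolyNodeRing.x R q ^ (n - (i : ℕ)),
         ∑ i : Fin (n + 1), rV (F i) * SpinCurv.PolyNodeRing.x R p ^ (i : ℕ)) =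
      Psi p q rU rV n F := fun F => (Psi_apply p q rU rV n F).symm
  simp only [hPsi]
  have hrel0 : ∀ F ∈ relN p q n, Psi p q rU rV n F = 0 := by
    intro F hF
    unfold relN at hF
    induction hF using Submodule.span_induction with
    | mem F hF =>
      rcases hF with ⟨i, rfl⟩ | ⟨i, rfl⟩
      · rw [map_sub, Psi_single, Psi_single, Prod.mk_sub_mk, Prod.mk_eq_zero]
        have hi : (i : ℕ) < n := i.2
        constructor
        · rw [AlgHom.commutes, hrUx, Fin.val_castSucc, Fin.val_succ]
          have : n - (i : ℕ) = (n - ((i : ℕ) + 1)) + 1 := by omega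
          rw [this, pow_succ]
          ring
        · rw [AlgHom.commutes, hrVx, Fin.val_castSucc, Fin.val_succ, pow_succ]
          have := xy_eq R p
          linear_combination (-(SpinCurv.PolyNodeRing.x R p ^ (i : ℕ))) * this
      · rw [map_sub, Psi_single, Psi_single, Prod.mk_sub_mk, Prod.mk_eq_zero]
        have hi : (i : ℕ) < n := i.2
        constructor
        · rw [AlgHom.commutes, hrUy, Fin.val_castSucc, Fin.val_succ]
          have : n - (i : ℕ) = (n - ((i : ℕ) + 1)) + 1 := by omega
          rw [this, pow_succ]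
          have := xy_eq R q
          linear_combination (SpinCurv.PolyNodeRing.x R q ^ (n - ((i : ℕ) + 1))) * this
        · rw [AlgHom.commutes, hrVy, Fin.val_castSucc, Fin.val_succ, pow_succ]
          ring
    | zero => exact map_zero _
    | add x y _ _ hx hy => rw [map_add, hx, hy, add_zero]
    | smul a x _ hx =>
      rw [Psi_smul, hx]
      simp
  constructor
  · ext ⟨g, f⟩
    simp only [Set.mem_range, Set.mem_setOf_eq]
    constructor
    · rintro ⟨F, hF⟩
      rw [Psi_apply, Prod.mk.injEq] at hF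
      obtain ⟨rfl, rfl⟩ := hF
      simp only [map_sum, map_mul, map_pow, hgUs, hgVt, T_pow, Finset.mul_sum]
      apply Finset.sum_congr rfl
      intro i _
      rw [comp_eq p q rU hrUx hrUy rV hrVx hrVy gU hgUs hgUy gV hgVt hgVx (F i)]
      have hi : (i : ℕ) ≤ n := by omega
      have : ((n - (i : ℕ) : ℕ) : ℤ) * 1 = (n : ℤ) + ((i : ℕ) : ℤ) * (-1) := by
        rw [Nat.cast_sub hi]
        ring
      rw [this, T_add]
      ring
    · intro h
      obtain ⟨z, hz⟩ := Theta_surj p q gU hgUs hgUy gV hgVt hgVx (n : ℤ) (by omega) g f h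
      refine ⟨beta p q n z, ?_⟩
      rw [Psi_beta p q rU hrUx hrUy rV hrVx hrVy, hz]
  · ext F
    simp only [Set.mem_setOf_eq, SetLike.mem_coe]
    change _ ↔ F ∈ relN p q n
    constructor
    · intro hF
      have hFS : F ∈ SS p q n := by
        rw [SS_eq_top]
        trivial
      unfold SS at hFS
      obtain ⟨ν, hν, w, ⟨z, rfl⟩, rfl⟩ := Submodule.mem_sup.mp hFS
      have hν' : ν ∈ relN p q n := hν
      rw [map_add, hrel0 ν hν', zero_add, Psi_beta p q rU hrUx hrUy rV hrVx hrVy] at hF
      have hz0 : z = 0 := by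
        apply Theta_injective p q (n : ℤ) (by omega)
        rw [hF, map_zero]
      rw [hz0, map_zero, add_zero]
      exact hν'
    · intro hF
      exact hrel0 F hF

end Groth.Agent.S18437
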