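import Groth.Statements.S18457
import Mathlib
-- import your own Groth.Agent.* helpers here

set_option autoImplicit false
open Finset
open Surf

namespace Groth.Agent.S18457

/-- In the Picard lattice of the plane blown up at n ≤ 8 points, with basis h, e_1, …, e_n, form h² = 1,
e_i² = −1, all other products 0, and anticanonical class D = 3h − Σ e_i, let d·h − Σ a_i e_i be a
class with all a_i ≥ 0 (the class of the strict transform of a degree-d plane curve having
multiplicity a_i at the i-th point) which is a (−2)-class orthogonal to D, that is d² − Σ a_i² = −2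
and 3d = Σ a_i. Then one of the following holds: d = 1 and every a_i is 0 or 1 with exactly three
equal to 1; d = 2 and every a_i is 0 or 1 with exactly six equal to 1; d = 3, n = 8, and one a_i
equals 2 while the remaining seven equal 1. The published statement is geometric: under the
general-position hypotheses on the points, no smooth rational curve on the blown-up plane is
orthogonal to D; this row is the lattice enumeration its proof carries out (a line through three of
the points, a conic through six, a cubic through all eight and singular at one). -/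
theorem result (n : ℕ) (hn : n ≤ 8)
    (d : ℤ) (a : Fin n → ℤ) (ha : ∀ i, 0 ≤ a i)
    (hsq : d ^ 2 - ∑ i, (a i) ^ 2 = -2) (hK : 3 * d = ∑ i, a i) :
    (d = 1 ∧ (∀ i, a i = 0 ∨ a i = 1) ∧ (Finset.univ.filter (fun i => a i = 1)).card = 3) ∨
      (d = 2 ∧ (∀ i, a i = 0 ∨ a i = 1) ∧ (Finset.univ.filter (fun i => a i = 1)).card = 6) ∨
      (d = 3 ∧ n = 8 ∧ ∃ j, a j = 2 ∧ ∀ i, i ≠ j → a i = 1) := by
  have hsum_nonneg : 0 ≤ ∑ i, a i := Finset.sum_nonneg fun i _ => ha i
  have hd0 : 0 ≤ d := by linarith
  have hCS : (∑ i, a i) ^ 2 ≤ (Finset.univ : Finset (Fin n)).card * ∑ i, (a i) ^ 2 :=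
    sq_sum_le_card_mul_sum_sq
  have hcard : ((Finset.univ : Finset (Fin n)).card : ℤ) = n := by simp
  have hn' : (n : ℤ) ≤ 8 := by exact_mod_cast hn
  have hsq' : ∑ i, (a i) ^ 2 = d ^ 2 + 2 := by linarith
  have hsqnn : 0 ≤ ∑ i, (a i) ^ 2 := Finset.sum_nonneg fun i _ => sq_nonneg _
  have hd4 : d ≤ 4 := by
    rw [hcard, ← hK, hsq'] at hCS
    nlinarith
  have hb : ∀ i, 0 ≤ a i * (a i - 1) := by
    intro i
    rcases (ha i).eq_or_lt with h | h
    · rw [← h]; norm_num
    · exact mul_nonneg (ha i) (by omega)
  have hbsum : ∑ i, a i * (a i - 1) = d ^ 2 + 2 - 3 * d := by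
    have : ∑ i, a i * (a i - 1) = ∑ i, (a i) ^ 2 - ∑ i, a i := by
      rw [← Finset.sum_sub_distrib]
      apply Finset.sum_congr rfl
      intro i _
      ring
    rw [this, hsq', hK]
  have h01 : (∑ i, a i * (a i - 1) = 0) → ∀ i, a i = 0 ∨ a i = 1 := by
    intro h0 i
    have := (Finset.sum_eq_zero_iff_of_nonneg (fun i _ => hb i)).mp h0 i (Finset.mem_univ i)
    rcases mul_eq_zero.mp this with h | h
    · exact Or.inl h
    · exact Or.inr (by omega)
  have hcount : (∀ i, a i = 0 ∨ a i = 1) →
      ((Finset.univ.filter (fun i => a i = 1)).card : ℤ) = ∑ i, a i := by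
    intro h
    rw [Finset.card_filter]
    push_cast
    apply Finset.sum_congr rfl
    intro i _
    rcases h i with h | h <;> simp [h]
  interval_cases d
  · exfalso
    have hz : ∀ i, a i = 0 := by
      intro i
      have h0 : ∑ i, a i = 0 := by linarith
      exact (Finset.sum_eq_zero_iff_of_nonneg (fun i _ => ha i)).mp h0 i (Finset.mem_univ i)
    simp [hz] at hsq
  · left
    have h := h01 (by rw [hbsum]; norm_num)
    refine ⟨rfl, h, ?_⟩
    have := hcount h
    rw [← hK] at this
    exact_mod_cast this
  · right; left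
    have h := h01 (by rw [hbsum]; norm_num)
    refine ⟨rfl, h, ?_⟩
    have := hcount h
    rw [← hK] at this
    exact_mod_cast this
  · right; right
    have hb2 : ∑ i, a i * (a i - 1) = 2 := by rw [hbsum]; norm_num
    have hex : ∃ j, a j * (a j - 1) ≠ 0 := by
      by_contra hne
      push Not at hne
      rw [Finset.sum_congr rfl (fun i _ => hne i)] at hb2
      simp at hb2
    obtain ⟨j, hj⟩ := hex
    have hj2 : 2 ≤ a j := by
      by_contra hlt
      have : a j = 0 ∨ a j = 1 := by have := ha j; omega
      rcases this with h | h <;> simp [h] at hj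
    have hsplit : ∑ i, a i * (a i - 1) =
        a j * (a j - 1) + ∑ i ∈ Finset.univ.erase j, a i * (a i - 1) :=
      (Finset.add_sum_erase Finset.univ (fun i => a i * (a i - 1)) (Finset.mem_univ j)).symm
    have hrest_nonneg : 0 ≤ ∑ i ∈ Finset.univ.erase j, a i * (a i - 1) :=
      Finset.sum_nonneg fun i _ => hb i
    have hbj : a j * (a j - 1) ≥ 2 := by nlinarith
    have hrest0 : ∑ i ∈ Finset.univ.erase j, a i * (a i - 1) = 0 := by linarith
    have haj : a j = 2 := by
      have : a j * (a j - 1) = 2 := by linarith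
      nlinarith
    have hothers : ∀ i ∈ Finset.univ.erase j, a i = 0 ∨ a i = 1 := by
      intro i hi
      have := (Finset.sum_eq_zero_iff_of_nonneg (fun i _ => hb i)).mp hrest0 i hi
      rcases mul_eq_zero.mp this with h | h
      · exact Or.inl h
      · exact Or.inr (by omega)
    have hsum_split : ∑ i, a i = a j + ∑ i ∈ Finset.univ.erase j, a i :=
      (Finset.add_sum_erase Finset.univ a (Finset.mem_univ j)).symm
    have hrest7 : ∑ i ∈ Finset.univ.erase j, a i = 7 := by linarith
    have hle : ∀ i ∈ Finset.univ.erase j, a i ≤ 1 := by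
      intro i hi
      rcases hothers i hi with h | h <;> omega
    have hcard_erase : ((Finset.univ.erase j).card : ℤ) = n - 1 := by
      rw [Finset.card_erase_of_mem (Finset.mem_univ j)]
      simp
      have : 1 ≤ n := Nat.succ_le_of_lt (Fin.pos j)
      omega
    have hbound : ∑ i ∈ Finset.univ.erase j, a i ≤ ∑ i ∈ Finset.univ.erase j, (1 : ℤ) :=
      Finset.sum_le_sum hle
    simp only [Finset.sum_const, nsmul_eq_mul, mul_one] at hbound
    have hn8 : n = 8 := by omega
    refine ⟨rfl, hn8, j, haj, ?_⟩
    intro i hij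
    have hi : i ∈ Finset.univ.erase j := Finset.mem_erase.mpr ⟨hij, Finset.mem_univ i⟩
    by_contra hne
    have hi0 : a i = 0 := by
      rcases hothers i hi with h | h
      · exact h
      · exact absurd h hne
    have hsplit2 : ∑ k ∈ Finset.univ.erase j, a k =
        a i + ∑ k ∈ (Finset.univ.erase j).erase i, a k :=
      (Finset.add_sum_erase (Finset.univ.erase j) a hi).symm
    have hle2 : ∑ k ∈ (Finset.univ.erase j).erase i, a k ≤
        ∑ k ∈ (Finset.univ.erase j).erase i, (1 : ℤ) :=
      Finset.sum_le_sum fun k hk => hle k (Finset.mem_of_mem_erase hk)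
    simp only [Finset.sum_const, nsmul_eq_mul, mul_one] at hle2
    have hc2 : (((Finset.univ.erase j).erase i).card : ℤ) = n - 2 := by
      rw [Finset.card_erase_of_mem hi, Finset.card_erase_of_mem (Finset.mem_univ j)]
      simp
      omega
    omega
  · exfalso
    have hodd : ∑ i, (2 * a i - 3) ^ 2 = 9 * (n : ℤ) - 72 := by
      have : ∑ i, (2 * a i - 3) ^ 2 = 4 * ∑ i, (a i) ^ 2 - 12 * ∑ i, a i + ∑ i : Fin n, (9 : ℤ) := by
        rw [Finset.mul_sum, Finset.mul_sum, ← Finset.sum_sub_distrib, ← Finset.sum_add_distrib]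
        apply Finset.sum_congr rfl
        intro i _
        ring
      rw [this, hsq', ← hK]
      simp
      ring
    have hpos : ∀ i, 1 ≤ (2 * a i - 3) ^ 2 := by
      intro i
      have : 2 * a i - 3 ≠ 0 := by omega
      have := sq_pos_of_ne_zero this  
      omega
    have hge : ∑ i : Fin n, (1 : ℤ) ≤ ∑ i, (2 * a i - 3) ^ 2 := Finset.sum_le_sum fun i _ => hpos i
    simp only [Finset.sum_const, Finset.card_univ, Fintype.card_fin, nsmul_eq_mul, mul_one] at hge
    rw [hodd] at hge
    have hn0 : n ≠ 0 := by
      rintro rfl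
      simp at hK
    omega

end Groth.Agent.S18457
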