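import Groth.Statements.S18464
import Mathlib

set_option autoImplicit false
universe u
open CategoryTheory CategoryTheory.Limits AlgebraicGeometry
open LefPen

set_option linter.unusedSectionVars false

namespace Groth.Agent.S18464Aux

open MvPolynomial

theorem finrank_homogeneousSubmodule (k : Type u) [Field k] (σ : Type*) [Fintype σ]
    [DecidableEq σ] (m : ℕ) :
    Module.finrank k (homogeneousSubmodule σ k m) = (Fintype.card σ + m - 1).choose m := by
  classical
  rw [homogeneousSubmodule_eq_finsupp_supported]
  have hset : {d : σ →₀ ℕ | d.degree = m} = ↑((Finset.univ : Finset σ).finsuppAntidiag m) := by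
    ext d
    simp [Finset.mem_finsuppAntidiag, Finsupp.degree_eq_sum]
  rw [hset]
  rw [LinearEquiv.finrank_eq (AddMonoidAlgebra.supportedEquivFinsupp
    (R := k) (S := k) (↑((Finset.univ : Finset σ).finsuppAntidiag m) : Set (σ →₀ ℕ)))]
  rw [Module.finrank_finsupp_self]
  rw [← Set.toFinset_card, Finset.toFinset_coe, Finset.card_finsuppAntidiag_nat_eq_choose, Finset.card_univ]

variable (k : Type u) [Field k] (r m : ℕ)

/-- the ambient vector space of `m`-tuples of coordinate vectors -/
abbrev V := Fin m → (Fin (r + 1) → k)

theorem polyfun_aeval (p : MvPolynomial (Fin (r + 1)) k) (i : Fin m) :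
    LefPen.IsPolyFun k (fun w : V k r m => aeval (w i) p) := by
  unfold LefPen.IsPolyFun
  induction p using MvPolynomial.induction_on with
  | C c =>
    have : (fun w : V k r m => aeval (w i) (C c : MvPolynomial (Fin (r + 1)) k)) =
        algebraMap k (V k r m → k) c := by
      funext w; simp
    rw [this]
    exact Subalgebra.algebraMap_mem _ c
  | add p q hp hq =>
    have : (fun w : V k r m => aeval (w i) (p + q)) =
        (fun w : V k r m => aeval (w i) p) + (fun w : V k r m => aeval (w i) q) := by
      funext w; simp
    rw [this]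
    exact Subalgebra.add_mem _ hp hq
  | mul_X p j hp =>
    have : (fun w : V k r m => aeval (w i) (p * X j)) =
        (fun w : V k r m => aeval (w i) p) *
          (((LinearMap.proj j : (Fin (r + 1) → k) →ₗ[k] k) ∘ₗ
            (LinearMap.proj i : V k r m →ₗ[k] (Fin (r + 1) → k)) : Module.Dual k (V k r m)) :
              V k r m → k) := by
      funext w; simp
    rw [this]
    exact Subalgebra.mul_mem _ hp (Algebra.subset_adjoin ⟨_, rfl⟩)

variable (d : ℕ)

/-- evaluation map at a tuple of points -/
noncomputable def E (w : V k r m) : LefPen.Form r k d →ₗ[k] (Fin m → k) :=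
  LinearMap.pi (fun i => (aeval (w i) : MvPolynomial (Fin (r + 1)) k →ₐ[k] k).toLinearMap ∘ₗ
    (CohB1.polyGrading r k d).subtype)

theorem E_apply (w : V k r m) (G : LefPen.Form r k d) (i : Fin m) :
    E k r m d w G i = aeval (w i) G.1 := rfl

instance : Module.Finite k (LefPen.Form r k d) :=
  Module.Finite.iff_fg.mpr (homogeneousSubmodule_fg (Fin (r + 1)) k d)

theorem mem_S_iff (w : V k r m) :
    (∀ G : LefPen.Form r k d, (∀ i : Fin m, aeval (w i) G.1 = 0) → G = 0) ↔
      LinearMap.ker (E k r m d w) = ⊥ := by
  rw [LinearMap.ker_eq_bot']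
  constructor
  · intro h G hG
    exact h G (fun i => by have := congrFun hG i; simpa [E_apply] using this)
  · intro h G hG
    exact h G (funext fun i => by simp [E_apply, hG i])

theorem polyfun_det (L : (Fin m → k) →ₗ[k] LefPen.Form r k d) :
    LefPen.IsPolyFun k (fun w : V k r m => LinearMap.det (L ∘ₗ E k r m d w)) := by
  classical
  set b := Module.finBasis k (LefPen.Form r k d) with hb
  have hdet : ∀ w : V k r m, LinearMap.det (L ∘ₗ E k r m d w) =
      (LinearMap.toMatrix b b (L ∘ₗ E k r m d w)).det := fun w => (LinearMap.det_toMatrix b _).symm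
  have hentry : ∀ a j, LefPen.IsPolyFun k
      (fun w : V k r m => LinearMap.toMatrix b b (L ∘ₗ E k r m d w) a j) := by
    intro a j
    have : (fun w : V k r m => LinearMap.toMatrix b b (L ∘ₗ E k r m d w) a j) =
        ∑ i : Fin m, (fun w : V k r m => aeval (w i) (b j).1) *
          algebraMap k (V k r m → k) (b.repr (L (Pi.single i 1)) a) := by
      funext w
      rw [LinearMap.toMatrix_apply, LinearMap.comp_apply]
      have h1 : E k r m d w (b j) = ∑ i : Fin m, (aeval (w i) (b j).1) • (Pi.single i (1 : k) : Fin m → k) := by
        funext i'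
        rw [E_apply, Finset.sum_apply]
        simp [Pi.single_apply]
      rw [h1, map_sum, map_sum, Finsupp.coe_finsetSum, Finset.sum_apply, Finset.sum_apply]
      apply Finset.sum_congr rfl
      intro i _
      rw [map_smul, map_smul]
      simp
    rw [this]
    unfold LefPen.IsPolyFun
    apply Subalgebra.sum_mem
    intro i _
    exact Subalgebra.mul_mem _ (polyfun_aeval k r m _ i) (Subalgebra.algebraMap_mem _ _)
  have : (fun w : V k r m => LinearMap.det (L ∘ₗ E k r m d w)) =
      ∑ σ : Equiv.Perm (Fin (Module.finrank k (LefPen.Form r k d))),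
        (Equiv.Perm.sign σ : ℤ) • ∏ a, (fun w : V k r m =>
          LinearMap.toMatrix b b (L ∘ₗ E k r m d w) (σ a) a) := by
    funext w
    rw [hdet, Matrix.det_apply, Finset.sum_apply]
    apply Finset.sum_congr rfl
    intro σ _
    rw [Pi.smul_apply, Finset.prod_apply]
    rfl
  rw [this]
  unfold LefPen.IsPolyFun
  apply Subalgebra.sum_mem
  intro σ _
  apply Subalgebra.zsmul_mem
  apply Subalgebra.prod_mem
  intro a _
  exact hentry (σ a) a

theorem isZOpen : LefPen.IsZOpen k {x : V k r m |
      ∀ G : LefPen.Form r k d, (∀ i : Fin m, aeval (x i) G.1 = 0) → G = 0} := by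
  intro x hx
  rw [Set.mem_ofPred_eq, mem_S_iff] at hx
  obtain ⟨L, hL⟩ := LinearMap.exists_leftInverse_of_injective (E k r m d x) hx
  refine ⟨fun w => LinearMap.det (L ∘ₗ E k r m d w), polyfun_det k r m d L, ?_, ?_⟩
  · simp only
    rw [hL]
    simp
  · intro w hw
    rw [Set.mem_ofPred_eq, mem_S_iff, LinearMap.ker_eq_bot]
    have e := LinearMap.equivOfDetNeZero _ hw
    have hinj : Function.Injective (L ∘ₗ E k r m d w) := by
      have : ((LinearMap.equivOfDetNeZero _ hw : _ ≃ₗ[k] _) : _ → _) = (L ∘ₗ E k r m d w) := by
        funext v; simp [LinearMap.equivOfDetNeZero]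
      rw [← this]
      exact LinearEquiv.injective _
    intro a b hab
    apply hinj
    simp [hab]

theorem exists_point [Infinite k] (hm : Module.finrank k (LefPen.Form r k d) ≤ m) :
    ∃ x : V k r m, ∀ G : LefPen.Form r k d, (∀ i : Fin m, aeval (x i) G.1 = 0) → G = 0 := by
  classical
  let ev : (Fin (r + 1) → k) → Module.Dual k (LefPen.Form r k d) := fun v =>
    (aeval v : MvPolynomial (Fin (r + 1)) k →ₐ[k] k).toLinearMap ∘ₗ (CohB1.polyGrading r k d).subtype
  have hev : ∀ v G, ev v G = aeval v G.1 := fun v G => rfl
  have hspan : Submodule.span k (Set.range ev) = ⊤ := by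
    set W := Submodule.span k (Set.range ev) with hW
    have hco : W.dualCoannihilator = ⊥ := by
      rw [eq_bot_iff]
      intro G hG
      rw [Submodule.mem_dualCoannihilator] at hG
      rw [Submodule.mem_bot]
      apply Subtype.ext
      apply MvPolynomial.funext
      intro v
      have := hG (ev v) (Submodule.subset_span ⟨v, rfl⟩)
      rw [hev, aeval_eq_eval] at this
      simpa using this
    have := Subspace.dualCoannihilator_dualAnnihilator_eq (W := W)
    rw [hco, Submodule.dualAnnihilator_bot] at this
    exact this.symm
  obtain ⟨b, hbs, hbspan, hbli⟩ := exists_linearIndependent k (Set.range ev)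
  rw [hspan] at hbspan
  have hfin : b.Finite := hbli.setFinite
  haveI := hfin.fintype
  let B : Module.Basis b k (Module.Dual k (LefPen.Form r k d)) :=
    Module.Basis.mk hbli (by rw [Subtype.range_coe]; exact hbspan.ge)
  have hcard : Fintype.card b = Module.finrank k (LefPen.Form r k d) := by
    rw [← Module.finrank_eq_card_basis B, Subspace.dual_finrank_eq]
  let e : Fin (Fintype.card b) ≃ b := (Fintype.equivFin b).symm
  choose pt hpt using fun φ : b => hbs φ.2
  refine ⟨fun i => if h : (i : ℕ) < Fintype.card b then pt (e ⟨i, h⟩) else 0, ?_⟩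
  intro G hG
  rw [← Module.forall_dual_apply_eq_zero_iff k G]
  intro φ
  have hle : Submodule.span k b ≤ LinearMap.ker (Module.Dual.eval k (LefPen.Form r k d) G) := by
    rw [Submodule.span_le]
    intro φ' hφ'
    rw [SetLike.mem_coe, LinearMap.mem_ker, Module.Dual.eval_apply]
    set i := e.symm ⟨φ', hφ'⟩ with hi
    have him : (i : ℕ) < m := lt_of_lt_of_le i.2 (hcard ▸ hm)
    have h1 := hG ⟨i, him⟩
    simp only [Fin.eta, i.2, dite_true] at h1
    rw [hi, Equiv.apply_symm_apply, ← hev, hpt] at h1
    exact h1
  have hφ : φ ∈ Submodule.span k b := by rw [hbspan]; trivial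
  have := hle hφ
  rwa [LinearMap.mem_ker, Module.Dual.eval_apply] at this

theorem finrank_form : Module.finrank k (LefPen.Form r k d) = Nat.choose (r + d) d := by
  classical
  have := finrank_homogeneousSubmodule k (Fin (r + 1)) d
  rw [Fintype.card_fin] at this
  have h2 : r + 1 + d - 1 = r + d := by omega
  rw [h2] at this
  exact this

end Groth.Agent.S18464Aux

namespace Groth.Agent.S18464

/-- Let k be an infinite field, r a natural number, d ≥ 1 an integer, and m ≥ C(r+d, d), the number of
monomials of degree d in r+1 variables. In the space of m-tuples of vectors of k^(r+1) (homogeneous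
coordinate vectors of m points of projective r-space; a zero vector is allowed and imposes no
condition), the tuples such that the only form of degree d vanishing at all of them is the zero form
make up a Zariski-open subset which contains the non-vanishing locus of a not identically zero
polynomial function, so a dense open subset. (The published statement is the openness and density of
the corresponding locus in the m-fold product of projective r-space over the ground field; here the
ground field is any infinite field and the statement is made on coordinate vectors.) -/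
theorem result (k : Type u) [Field k] [Infinite k]
    (r d m : ℕ) (hd : 1 ≤ d) (hm : Nat.choose (r + d) d ≤ m) :
    LefPen.IsZOpen k {x : Fin m → (Fin (r + 1) → k) |
      ∀ G : LefPen.Form r k d, (∀ i : Fin m, MvPolynomial.aeval (x i) G.1 = 0) → G = 0} ∧
    LefPen.IsGeneric k {x : Fin m → (Fin (r + 1) → k) |
      ∀ G : LefPen.Form r k d, (∀ i : Fin m, MvPolynomial.aeval (x i) G.1 = 0) → G = 0} := by
  have hopen := Groth.Agent.S18464Aux.isZOpen k r m d
  refine ⟨hopen, ?_⟩
  obtain ⟨x0, hx0⟩ := Groth.Agent.S18464Aux.exists_point k r m d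
    (by rw [Groth.Agent.S18464Aux.finrank_form]; exact hm)
  obtain ⟨f, hf, hfx, hfS⟩ := hopen x0 hx0
  exact ⟨f, hf, ⟨x0, hfx⟩, hfS⟩

end Groth.Agent.S18464
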