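import Groth.Statements.S18465
import Mathlib
-- import your own Groth.Agent.* helpers here

set_option autoImplicit false
universe u v w x
open WildLef

namespace Groth.Agent.S18465

/-- Let f : G₁ → G₂ be a homomorphism of groups, ρ : G₂ → Γ a homomorphism with finite image G, and A a
nontrivial commutative ring. Let G₂ act on the group algebra A[G] through ρ followed by the left
regular representation, and G₁ through f. If the elements of A[G] fixed by G₁ coincide with those
fixed by G₂, then ρ ∘ f and ρ have the same image. (The published statement has Γ a general linear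
group GL_r(A); over the zero ring that group is trivial, so requiring A nontrivial and allowing any
target group loses nothing.) -/
theorem result
    {G₁ : Type u} {G₂ : Type v} {Γ : Type w} [Group G₁] [Group G₂] [Group Γ]
    (f : G₁ →* G₂) (ρ : G₂ →* Γ) [Finite ρ.range] (A : Type x) [CommRing A] [Nontrivial A]
    (h : {x : MonoidAlgebra A ρ.range | ∀ g : G₁, MonoidAlgebra.of A ρ.range (ρ.rangeRestrict (f g)) * x = x} =
      {x : MonoidAlgebra A ρ.range | ∀ g : G₂, MonoidAlgebra.of A ρ.range (ρ.rangeRestrict g) * x = x}) :
    (ρ.comp f).range = ρ.range := by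
  classical
  let G := ρ.range
  let H : Subgroup G := (ρ.rangeRestrict.comp f).range
  let x : MonoidAlgebra A G :=
    MonoidAlgebra.ofCoeff (Finsupp.equivFunOnFinite.symm (fun y : G => if y ∈ H then (1 : A) else 0))
  have hx : ∀ y : G, x.coeff y = if y ∈ H then (1 : A) else 0 := fun y => by
    simp [x]
  have hx1 : x ∈ {x : MonoidAlgebra A ρ.range |
      ∀ g : G₁, MonoidAlgebra.of A ρ.range (ρ.rangeRestrict (f g)) * x = x} := by
    intro g
    ext y
    have hk : ρ.rangeRestrict (f g) ∈ H := ⟨g, rfl⟩
    rw [MonoidAlgebra.of_apply, MonoidAlgebra.coeff_single_mul_apply, hx, hx, one_mul]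
    have : (ρ.rangeRestrict (f g))⁻¹ * y ∈ H ↔ y ∈ H := by
      constructor
      · intro h'
        have := H.mul_mem hk h'
        simpa using this
      · intro h'
        exact H.mul_mem (H.inv_mem hk) h'
    simp only [this]
  rw [h] at hx1
  apply le_antisymm
  · rintro _ ⟨g, rfl⟩
    exact ⟨f g, rfl⟩
  · rintro _ ⟨g, rfl⟩
    have h2 := hx1 g
    have h3 := congrArg (fun z => z.coeff (ρ.rangeRestrict g)) h2
    simp only [MonoidAlgebra.of_apply, MonoidAlgebra.coeff_single_mul_apply, inv_mul_cancel,
      one_mul] at h3
    rw [hx, hx] at h3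
    have h1H : (1 : G) ∈ H := H.one_mem
    rw [if_pos h1H] at h3
    have hmem : ρ.rangeRestrict g ∈ H := by
      by_contra hn
      rw [if_neg hn] at h3
      exact one_ne_zero h3
    obtain ⟨g₁, hg₁⟩ := hmem
    refine ⟨g₁, ?_⟩
    have := congrArg Subtype.val hg₁
    simpa using this

end Groth.Agent.S18465
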