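import Groth.Statements.S18466
-- import your own Groth.Agent.* helpers here
import Mathlib.RingTheory.RootsOfUnity.EnoughRootsOfUnity
import Mathlib.RingTheory.Coalgebra.GroupLike
import Mathlib.RingTheory.Bialgebra.GroupLike
import Mathlib.LinearAlgebra.Dimension.Constructions
import Mathlib.LinearAlgebra.FiniteDimensional.Lemmas

set_option autoImplicit false
universe u
open Hopf

namespace Groth.Agent.S18466

open ConstGrp Coalgebra

section GL

variable {R : Type u} [CommRing R] {G : Type} [Group G] [Fintype G] [DecidableEq G]

theorem isGroupLike_iff (χ : F R G) :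
    IsGroupLikeElem R χ ↔ (χ 1 = 1 ∧ ∀ a b, χ (a * b) = χ a * χ b) := by
  constructor
  · intro h
    refine ⟨by simpa using h.counit_eq_one, fun a b => ?_⟩
    have := congrArg (fun t => pair R G t (a, b)) h.comul_eq_tmul_self
    simpa [pair_comul, pair_tmul] using this
  · rintro ⟨h1, hm⟩
    refine ⟨by simpa using h1, ?_⟩
    rw [comul_eq_sum]
    conv_rhs => rw [eq_sum_smul_e χ]
    rw [TensorProduct.sum_tmul]
    refine Finset.sum_congr rfl (fun a _ => ?_)
    rw [TensorProduct.tmul_sum]
    refine Finset.sum_congr rfl (fun b _ => ?_)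
    rw [hm, TensorProduct.smul_tmul_smul]

end GL

section Fourier

variable (k : Type u) [Field k] (n : ℕ) [NeZero n] (ζ : k) (hζ : IsPrimitiveRoot ζ n)

include hζ

theorem pow_val_add (x y : ZMod n) : ζ ^ (x + y).val = ζ ^ x.val * ζ ^ y.val := by
  rw [ZMod.val_add, ← pow_add, ← pow_eq_pow_mod _ hζ.pow_eq_one]

omit hζ in
def chi (g : Multiplicative (ZMod n)) : F k (Multiplicative (ZMod n)) :=
  fun h => ζ ^ (Multiplicative.toAdd g * Multiplicative.toAdd h).val

theorem chi_groupLike (g : Multiplicative (ZMod n)) : IsGroupLikeElem k (chi k n ζ g) := by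
  rw [isGroupLike_iff]
  refine ⟨?_, fun a b => ?_⟩
  · simp [chi]
  · simp only [chi, toAdd_mul, mul_add]
    exact pow_val_add k n ζ hζ _ _

noncomputable def phi : Multiplicative (ZMod n) →* GroupLike k (F k (Multiplicative (ZMod n))) where
  toFun g := ⟨chi k n ζ g, chi_groupLike k n ζ hζ g⟩
  map_one' := by
    apply GroupLike.val_injective
    funext h
    simp [chi]
  map_mul' g g' := by
    apply GroupLike.val_injective
    funext h
    simp only [chi, toAdd_mul, add_mul, GroupLike.val_mul]
    exact pow_val_add k n ζ hζ _ _

theorem phi_injective : Function.Injective (phi k n ζ hζ) := by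
  intro g g' h
  have h1 := congrArg (fun x : GroupLike k (F k (Multiplicative (ZMod n))) =>
    (x.val : F k (Multiplicative (ZMod n))) (Multiplicative.ofAdd 1)) h
  simp only [phi, chi, MonoidHom.coe_mk, OneHom.coe_mk, toAdd_ofAdd, mul_one] at h1
  have h2 := hζ.pow_inj (ZMod.val_lt _) (ZMod.val_lt _) h1
  exact Multiplicative.toAdd.injective (ZMod.val_injective n h2)

noncomputable def Psi :
    MonoidAlgebra k (Multiplicative (ZMod n)) →ₐc[k] F k (Multiplicative (ZMod n)) :=
  (MonoidAlgebra.liftGroupLikeBialgHom).comp (MonoidAlgebra.mapDomainBialgHom k (phi k n ζ hζ))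

theorem Psi_single (g : Multiplicative (ZMod n)) :
    Psi k n ζ hζ (MonoidAlgebra.single g 1) = chi k n ζ g := by
  simp [Psi, phi]

theorem Psi_bijective : Function.Bijective (Psi k n ζ hζ) := by
  let L : MonoidAlgebra k (Multiplicative (ZMod n)) →ₗ[k] F k (Multiplicative (ZMod n)) :=
    ((Psi k n ζ hζ : MonoidAlgebra k (Multiplicative (ZMod n)) →ₐ[k] _)).toLinearMap
  have hL : ∀ x, L x = Psi k n ζ hζ x := fun _ => rfl
  have hinj : Function.Injective L := by
    have hli : LinearIndependent k
        (fun g : Multiplicative (ZMod n) => ((phi k n ζ hζ g).val : F k (Multiplicative (ZMod n)))) :=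
      (linearIndep_groupLikeVal (R := k)
        (A := F k (Multiplicative (ZMod n)))).comp _ (phi_injective k n ζ hζ)
    have hspan : Submodule.span k (Set.range
        (fun g : Multiplicative (ZMod n) =>
          (MonoidAlgebra.single g 1 : MonoidAlgebra k (Multiplicative (ZMod n))))) = ⊤ := by
      have := (MonoidAlgebra.basis (Multiplicative (ZMod n)) k).span_eq
      rwa [show (⇑(MonoidAlgebra.basis (Multiplicative (ZMod n)) k)) =
        (fun g : Multiplicative (ZMod n) =>
          (MonoidAlgebra.single g 1 : MonoidAlgebra k (Multiplicative (ZMod n)))) from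
        funext (MonoidAlgebra.basis_apply k)] at this
    refine LinearMap.injective_of_linearIndependent hspan ?_
    have hcomp : (⇑L ∘ fun g : Multiplicative (ZMod n) =>
        (MonoidAlgebra.single g 1 : MonoidAlgebra k (Multiplicative (ZMod n)))) =
        fun g => ((phi k n ζ hζ g).val : F k (Multiplicative (ZMod n))) := by
      funext g
      exact Psi_single k n ζ hζ g
    rw [hcomp]
    exact hli
  have hfr : Module.finrank k (MonoidAlgebra k (Multiplicative (ZMod n))) =
      Module.finrank k (F k (Multiplicative (ZMod n))) := by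
    rw [Module.finrank_eq_card_basis (MonoidAlgebra.basis (Multiplicative (ZMod n)) k),
      Module.finrank_eq_card_basis (ConstGrp.basis k (Multiplicative (ZMod n)))]
  haveI : Module.Finite k (MonoidAlgebra k (Multiplicative (ZMod n))) :=
    Module.Finite.of_basis (MonoidAlgebra.basis (Multiplicative (ZMod n)) k)
  have hsurj : Function.Surjective L :=
    (LinearMap.injective_iff_surjective_of_finrank_eq_finrank hfr).mp hinj
  exact ⟨fun a b h => hinj (by rw [hL, hL]; exact h),
    fun y => by obtain ⟨x, hx⟩ := hsurj y; exact ⟨x, by rw [← hL]; exact hx⟩⟩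

end Fourier

section Converse

variable (k : Type u) [Field k] (n : ℕ) [NeZero n]

theorem exists_prim_of_equiv
    (e : F k (Multiplicative (ZMod n)) ≃ₐc[k] MonoidAlgebra k (Multiplicative (ZMod n))) :
    ∃ ζ : k, IsPrimitiveRoot ζ n := by
  classical
  rw [← card_rootsOfUnity_eq_iff_exists_isPrimitiveRoot]
  apply le_antisymm (card_rootsOfUnity k n)
  set t : Multiplicative (ZMod n) := Multiplicative.ofAdd 1 with ht
  have hgl : ∀ g : Multiplicative (ZMod n),
      IsGroupLikeElem k (e.symm (MonoidAlgebra.of k _ g)) :=
    fun g => (MonoidAlgebra.isGroupLikeElem_of g).map e.symm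
  have hchar := fun g => (isGroupLike_iff _).mp (hgl g)
  have hpow : ∀ (g : Multiplicative (ZMod n)) (m : ℕ),
      (e.symm (MonoidAlgebra.of k _ g)) (t ^ m) = ((e.symm (MonoidAlgebra.of k _ g)) t) ^ m := by
    intro g m
    induction m with
    | zero => rw [pow_zero, pow_zero, (hchar g).1]
    | succ m ih => rw [pow_succ, pow_succ, (hchar g).2, ih]
  have htn : t ^ n = 1 := by
    rw [ht, ← ofAdd_nsmul, nsmul_one, ZMod.natCast_self]
    rfl
  have hroot : ∀ g : Multiplicative (ZMod n),
      ((e.symm (MonoidAlgebra.of k _ g)) t) ^ n = 1 := by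
    intro g
    rw [← hpow, htn, (hchar g).1]
  let ι : Multiplicative (ZMod n) → rootsOfUnity n k :=
    fun g => rootsOfUnity.mkOfPowEq _ (hroot g)
  have hι : Function.Injective ι := by
    intro g g' h
    have h1 : (e.symm (MonoidAlgebra.of k _ g)) t = (e.symm (MonoidAlgebra.of k _ g')) t := by
      have := congrArg (fun x : rootsOfUnity n k => ((x : kˣ) : k)) h
      simpa [ι, rootsOfUnity.coe_mkOfPowEq] using this
    have h2 : e.symm (MonoidAlgebra.of k _ g) = e.symm (MonoidAlgebra.of k _ g') := by
      ext h'
      have hh : h' = t ^ (Multiplicative.toAdd h').val := by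
        rw [ht, ← ofAdd_nsmul, nsmul_one, ZMod.natCast_zmod_val]
        rfl
      rw [hh, hpow, hpow, h1]
    have h3 := e.symm.injective h2
    exact MonoidAlgebra.of_injective h3
  calc n = Nat.card (Multiplicative (ZMod n)) := by
        rw [Nat.card_eq_fintype_card, Fintype.card_multiplicative, ZMod.card]
    _ ≤ Nat.card (rootsOfUnity n k) := Nat.card_le_card_of_injective ι hι

end Converse

/-- Let k be a field and n ≥ 1. The constant group scheme ℤ/n over k is self-dual, that is, isomorphic
to its Cartier dual μ_n — equivalently the Hopf algebra of k-valued functions on the cyclic group of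
order n and the group algebra of that group over k (group elements group-like) are isomorphic as
bialgebras — precisely when the field k has a primitive n-th root of unity, i.e. k contains n
distinct n-th roots of unity in k. (The published statement assumes that the characteristic of k
does not divide n; both directions hold without that assumption by the same argument, since a
primitive n-th root of unity forces n to be nonzero in k, so it is omitted here.) -/
theorem result
    (k : Type u) [Field k] (n : ℕ) [NeZero n] :
    Nonempty (ConstGrp.F k (Multiplicative (ZMod n)) ≃ₐc[k] MonoidAlgebra k (Multiplicative (ZMod n))) ↔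
      ∃ ζ : k, IsPrimitiveRoot ζ n := by
  constructor
  · rintro ⟨e⟩
    exact exists_prim_of_equiv k n e
  · rintro ⟨ζ, hζ⟩
    exact ⟨(BialgEquiv.ofBijective (Psi k n ζ hζ) (Psi_bijective k n ζ hζ)).symm⟩

end Groth.Agent.S18466
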