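import Groth.Statements.S18467
import Mathlib
-- import your own Groth.Agent.* helpers here

set_option autoImplicit false
universe u
open Hopf

namespace Groth.Agent.S18467

theorem coeff_E {R G : Type*} [CommRing R] [Group G] [Fintype G] [DecidableEq G] (c : G → R)
    (k : G) : (∑ m, c m • MonoidAlgebra.of R G m).coeff k = c k := by
  rw [MonoidAlgebra.coeff_sum]
  simp [MonoidAlgebra.of_apply, Finsupp.single_apply]

theorem coeff_mul_fintype {R G : Type*} [CommRing R] [Group G] [Fintype G]
    (x y : MonoidAlgebra R G) (k : G) :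
    (x * y).coeff k = ∑ h, x.coeff h * y.coeff (h⁻¹ * k) := by
  rw [MonoidAlgebra.coeff_mul_apply_left, Finsupp.sum_fintype]
  simp

theorem sum_eq_zero_of_char {R G : Type*} [CommRing R] [CommGroup G] [Fintype G]
    (ψ : G →* R) (g : G) (hg : IsUnit (ψ g - 1)) : ∑ h, ψ h = 0 := by
  have h1 : ψ g * ∑ h, ψ h = ∑ h, ψ h := by
    rw [Finset.mul_sum]
    simp_rw [← map_mul]
    exact Fintype.sum_equiv (Equiv.mulLeft g) _ _ (fun h => rfl)
  have h2 : (ψ g - 1) * ∑ h, ψ h = 0 := by rw [sub_mul, h1, one_mul, sub_self]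
  exact hg.mul_right_eq_zero.mp h2


/-- Let p be a prime and R a commutative ring containing an element u with u(p − 1) = 1, and let χ be a
homomorphism from the group of units of ℤ/p to the group of units of R such that χ(m) − 1 is a unit
of R for every m ≠ 1. For 0 ≤ i < p − 1 put e_i = u · Σ_m χ(m)^{−i} [m] in the group algebra
R[(ℤ/p)ˣ]. Then the e_i are idempotents, e_i e_j = 0 for i ≠ j, and Σ_i e_i = 1. (The published
statement is for algebras over the subring of the p-adic integers generated over ℤ by the values of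
the Teichmüller character χ and by 1/(p(p − 1)); the hypotheses on R and χ here are the properties
of that situation which the computation uses, so the row is stated for every such pair.) -/
theorem result
    (p : ℕ) [Fact p.Prime] (R : Type u) [CommRing R] (u : R) (hu : u * ((p - 1 : ℕ) : R) = 1)
    (χ : (ZMod p)ˣ →* Rˣ) (hχ : ∀ m : (ZMod p)ˣ, m ≠ 1 → IsUnit ((χ m : R) - 1)) :
    CompleteOrthogonalIdempotents (fun i : Fin (p - 1) =>
      u • ∑ m : (ZMod p)ˣ, ((χ m⁻¹ : Rˣ) : R) ^ (i : ℕ) • MonoidAlgebra.of R (ZMod p)ˣ m) := by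
  classical
  set G := (ZMod p)ˣ with hG
  have hcardG : Fintype.card G = p - 1 := ZMod.card_units p
  -- characters
  let ψ : ℕ → (G →* R) := fun i =>
    ((Units.coeHom R).comp χ).comp ((powMonoidHom i).comp (MulEquiv.inv G).toMonoidHom)
  have hψ : ∀ i m, ψ i m = ((χ m⁻¹ : Rˣ) : R) ^ i := by
    intro i m
    simp [ψ]
  let e : Fin (p - 1) → MonoidAlgebra R G := fun i =>
    u • ∑ m : G, ((χ m⁻¹ : Rˣ) : R) ^ (i : ℕ) • MonoidAlgebra.of R G m
  have hecoeff : ∀ i k, (e i).coeff k = u * ψ i k := by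
    intro i k
    simp only [e]
    rw [MonoidAlgebra.coeff_smul_apply, coeff_E (fun m => ((χ m⁻¹ : Rˣ) : R) ^ (i : ℕ)) k, hψ]
    rfl
  have hmulcoeff : ∀ i j k, (e i * e j).coeff k =
      u * u * ψ j k * ∑ h, ψ i h * ψ j h⁻¹ := by
    intro i j k
    rw [coeff_mul_fintype, Finset.mul_sum]
    apply Finset.sum_congr rfl
    intro h _
    rw [hecoeff, hecoeff, map_mul]
    ring
  have huN : u * (Fintype.card G : R) = 1 := by rw [hcardG]; exact hu
  obtain ⟨g, hg⟩ := IsCyclic.exists_generator (α := G)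
  have hord : orderOf g = p - 1 := by
    rw [orderOf_eq_card_of_forall_mem_zpowers hg, Nat.card_eq_fintype_card, hcardG]
  have hT : ∀ i j : Fin (p - 1), i ≠ j → ∑ h, ψ i h * ψ j h⁻¹ = 0 := by
    intro i j hij
    let φ : G →* R := (ψ i) * ((ψ j).comp (MulEquiv.inv G).toMonoidHom)
    have hφ : ∀ h, φ h = ψ i h * ψ j h⁻¹ := fun h => rfl
    simp_rw [← hφ]
    apply sum_eq_zero_of_char φ g
    have hval : φ g = ((χ (g ^ (j : ℕ) * (g⁻¹) ^ (i : ℕ)) : Rˣ) : R) := by
      rw [hφ, hψ, hψ]
      simp only [inv_inv, map_mul, map_pow, Units.val_mul, Units.val_pow_eq_pow_val]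
      ring
    rw [hval]
    apply hχ
    intro h1
    have h2 : g ^ (j : ℕ) = g ^ (i : ℕ) := by
      have := congrArg (fun z => z * g ^ (i : ℕ)) h1
      simpa [mul_assoc] using this
    have h3 := pow_injOn_Iio_orderOf (x := g) (by simp [hord]) (by simp [hord]) h2
    exact hij (Fin.ext h3.symm)
  refine ⟨⟨?_, ?_⟩, ?_⟩
  · intro i
    change e i * e i = e i
    ext k
    rw [hmulcoeff, hecoeff]
    have : ∑ h, ψ i h * ψ i h⁻¹ = (Fintype.card G : R) := by
      have : ∀ h, ψ i h * ψ i h⁻¹ = 1 := fun h => by rw [← map_mul, mul_inv_cancel, map_one]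
      simp [this]
    rw [this]
    calc u * u * ψ i k * (Fintype.card G : R) = u * ψ i k * (u * (Fintype.card G : R)) := by ring
      _ = u * ψ i k := by rw [huN, mul_one]
  · intro i j hij
    change e i * e j = 0
    ext k
    rw [hmulcoeff, hT i j hij]
    simp
  · change ∑ i, e i = 1
    ext k
    rw [MonoidAlgebra.coeff_sum]
    simp only [Finset.sum_apply', hecoeff, hψ]
    rw [← Finset.mul_sum, Fin.sum_univ_eq_sum_range (fun i => ((χ k⁻¹ : Rˣ) : R) ^ i) (p - 1)]
    by_cases hk : k = 1
    · subst hk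
      simp only [inv_one, map_one, Units.val_one, one_pow, Finset.sum_const, Finset.card_range,
        nsmul_eq_mul, mul_one]
      rw [hu]
      simp [MonoidAlgebra.one_def]
    · have hk' : k⁻¹ ≠ 1 := by simpa using hk
      have hgeom := geom_sum_mul ((χ k⁻¹ : Rˣ) : R) (p - 1)
      have hpow : ((χ k⁻¹ : Rˣ) : R) ^ (p - 1) = 1 := by
        rw [← Units.val_pow_eq_pow_val, ← map_pow, ← hcardG, pow_card_eq_one, map_one,
          Units.val_one]
      rw [hpow, sub_self] at hgeom
      have := (hχ k⁻¹ hk').mul_left_eq_zero.mp hgeom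
      rw [this, mul_zero]
      simp [MonoidAlgebra.one_def, Finsupp.single_apply, Ne.symm hk]

end Groth.Agent.S18467
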