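import Groth.Statements.S18470

set_option autoImplicit false
universe u v
open OortTate

namespace Groth.Agent.S18470

/-- Let R be a commutative ring and A a commutative Hopf algebra over R which is finitely generated and
projective as an R-module (a finite locally free group scheme G = Spec A, not assumed commutative),
and let A^D = Hom_R(A, R) be the dual algebra with its Hopf structure (the Cartier dual when A is
cocommutative), whose counit is evaluation at 1. Then restriction of linear forms to the
augmentation ideal I = ker ε_A of A is a bijection from the augmentation ideal of A^D onto the dual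
module Hom_R(I, R): the dual of the augmentation ideal of G is the augmentation ideal of the dual.
The published statement is for a group scheme of order p over a Λ_p-algebra; the argument uses only
the splitting A = R·1 ⊕ ker ε. -/
theorem result
    (R : Type u) [CommRing R] (A : Type v) [CommRing A] [HopfAlgebra R A]
    [Module.Finite R A] [Module.Projective R A] :
    Function.Bijective (fun f : LinearMap.ker (Bialgebra.counitAlgHom R (CartDual.D R A)).toLinearMap =>
      ((CartDual.toDual R A) (f : CartDual.D R A)).comp
        (LinearMap.ker (Bialgebra.counitAlgHom R A).toLinearMap).subtype) := by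
  set ε : A →ₗ[R] R := (Bialgebra.counitAlgHom R A).toLinearMap with hε
  have hε1 : ε 1 = 1 := by simp [hε]
  have hπmem : ∀ a : A,
      ((LinearMap.id : A →ₗ[R] A) - (LinearMap.toSpanSingleton R A 1).comp ε) a ∈
      LinearMap.ker ε := by
    intro a
    simp [LinearMap.mem_ker, hε1]
  let π : A →ₗ[R] LinearMap.ker ε :=
    LinearMap.codRestrict (LinearMap.ker ε)
      ((LinearMap.id : A →ₗ[R] A) - (LinearMap.toSpanSingleton R A 1).comp ε) hπmem
  have hπ : ∀ a : A, ((π a : LinearMap.ker ε) : A) = a - ε a • (1 : A) := by
    intro a
    simp [π]
  have hcounit : ∀ f : LinearMap.ker (Bialgebra.counitAlgHom R (CartDual.D R A)).toLinearMap,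
      (CartDual.toDual R A (f : CartDual.D R A)) 1 = 0 := by
    intro f
    have h := LinearMap.mem_ker.mp f.2
    change Coalgebra.counit (R := R) (f : CartDual.D R A) = 0 at h
    rw [CartDual.coalgebra_counit_apply] at h
    exact h
  constructor
  · intro f g hfg
    apply Subtype.ext
    apply (CartDual.toDual R A).injective
    apply LinearMap.ext
    intro a
    have h1 : a = ε a • (1 : A) + ((π a : LinearMap.ker ε) : A) := by
      rw [hπ]; abel
    have h2 := LinearMap.congr_fun hfg (π a)
    simp only [LinearMap.comp_apply, Submodule.subtype_apply] at h2
    rw [h1, map_add, map_add, map_smul, map_smul, hcounit f, hcounit g, h2]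
  · intro g
    let f0 : CartDual.D R A := (CartDual.toDual R A).symm (g.comp π)
    have hf0 : CartDual.toDual R A f0 = g.comp π := (CartDual.toDual R A).apply_symm_apply _
    have hf0mem : f0 ∈ LinearMap.ker (Bialgebra.counitAlgHom R (CartDual.D R A)).toLinearMap := by
      rw [LinearMap.mem_ker]
      have h1 : (CartDual.toDual R A f0) 1 = 0 := by
        rw [hf0, LinearMap.comp_apply]
        have : π 1 = 0 := by
          apply Subtype.ext
          rw [hπ, hε1, one_smul, sub_self]
          rfl
        rw [this, map_zero]
      change Coalgebra.counit (R := R) f0 = 0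
      rw [CartDual.coalgebra_counit_apply]
      exact h1
    refine ⟨⟨f0, hf0mem⟩, ?_⟩
    apply LinearMap.ext
    intro x
    simp only [LinearMap.comp_apply, Submodule.subtype_apply]
    rw [hf0, LinearMap.comp_apply]
    congr 1
    apply Subtype.ext
    rw [hπ]
    have hx : ε (x : A) = 0 := LinearMap.mem_ker.mp x.2
    rw [hx, zero_smul, sub_zero]

end Groth.Agent.S18470
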