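import Groth.Statements.S18476
import Groth.Agent.Lib.Helper95.WeierBasis
-- import your own Groth.Agent.* helpers here

set_option autoImplicit false
universe u
open FmlGrp

namespace Groth.Agent.S18476

open PowerSeries Groth.Agent.Lib.Helper95.WeierBasis

theorem general (O : Type u) [CommRing O] [IsDomain O] [IsDiscreteValuationRing O]
    [IsAdicComplete (IsLocalRing.maximalIdeal O) O] (f : PowerSeries O) (hs : PowerSeries.HasSubst f) :
    (∃ n : ℕ, PowerSeries.coeff n f ∉ IsLocalRing.maximalIdeal O) ↔
      ∃ (n : ℕ) (b : Fin n → PowerSeries O), ∀ g : PowerSeries O, ∃! c : Fin n → PowerSeries O,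
        g = ∑ i, PowerSeries.subst f (c i) * b i := by
  have hf0 : constantCoeff f = 0 := IsNilpotent.eq_zero hs
  constructor
  · rintro ⟨n, hn⟩
    have hfm : f.map (IsLocalRing.residue O) ≠ 0 := by
      intro h
      apply hn
      have := congrArg (coeff n) h
      rw [coeff_map, map_zero] at this
      exact (IsLocalRing.residue_eq_zero_iff _).mp this
    refine ⟨hh f, fun i => X ^ (i : ℕ), fun g => ⟨fun i => cc f g i, exists_rep f hf0 hfm g, ?_⟩⟩
    intro c' hc'
    have h1 : ∑ i : Fin (hh f), PowerSeries.subst f (c' i - cc f g i) * X ^ (i : ℕ) = 0 := by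
      have h2 := exists_rep f hf0 hfm g
      unfold Phi at h2
      have h3 : ∑ i : Fin (hh f), PowerSeries.subst f (c' i) * X ^ (i : ℕ) -
          ∑ i : Fin (hh f), PowerSeries.subst f (cc f g i) * X ^ (i : ℕ) = 0 := by
        rw [← hc', ← h2, sub_self]
      rw [← h3, ← Finset.sum_sub_distrib]
      refine Finset.sum_congr rfl fun i _ => ?_
      rw [subst_sub hs, sub_mul]
    funext i
    ext j
    have := unique_rep f hf0 hfm j _ h1 i
    rw [map_sub, sub_eq_zero] at this
    exact this
  · rintro ⟨n, b, H⟩
    by_contra hcon
    push Not at hcon
    have hfm : f.map (IsLocalRing.residue O) = 0 := by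
      ext k
      rw [coeff_map, map_zero]
      exact (IsLocalRing.residue_eq_zero_iff _).mpr (hcon k)
    let κ := IsLocalRing.ResidueField O
    let ρ := IsLocalRing.residue O
    let L : (Fin n → κ) →ₗ[κ] (Fin (n + 1) → κ) :=
      { toFun := fun α j => ∑ i, α i * coeff (j : ℕ) ((b i).map ρ)
        map_add' := by
          intro α β
          funext j
          simp only [Pi.add_apply, add_mul, Finset.sum_add_distrib]
        map_smul' := by
          intro r α
          funext j
          simp only [Pi.smul_apply, smul_eq_mul, RingHom.id_apply, mul_assoc]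
          rw [Finset.mul_sum] }
    have hL : Function.Surjective L := by
      intro v
      have hw : ∀ j : Fin (n + 1), ∃ w : O, ρ w = v j := fun j => IsLocalRing.residue_surjective _
      choose w hw using hw
      let g : PowerSeries O := PowerSeries.mk (fun j => if hj : j < n + 1 then w ⟨j, hj⟩ else 0)
      obtain ⟨c, hc, -⟩ := H g
      refine ⟨fun i => ρ (constantCoeff (c i)), ?_⟩
      funext j
      have h1 := congrArg (fun x => coeff (j : ℕ) (x.map ρ)) hc
      beta_reduce at h1
      rw [coeff_map, coeff_mk, dif_pos j.2, Fin.eta, hw, map_sum, map_sum] at h1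
      rw [h1]
      show ∑ i, ρ (constantCoeff (c i)) * coeff (j : ℕ) ((b i).map ρ) = _
      refine Finset.sum_congr rfl fun i _ => ?_
      rw [map_mul]
      have h2 : PowerSeries.map ρ (PowerSeries.subst f (c i)) = C (ρ (constantCoeff (c i))) := by
        have h3 : PowerSeries.map ρ (PowerSeries.subst f (c i)) =
            PowerSeries.subst (PowerSeries.map ρ f) (PowerSeries.map ρ (c i)) :=
          PowerSeries.map_subst hs (c i)
        rw [h3, hfm, subst_zero_eq_C_constantCoeff]
        simp
        rfl
      rw [h2, coeff_C_mul]
    have := LinearMap.finrank_le_finrank_of_surjective hL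
    rw [Module.finrank_fin_fun, Module.finrank_fin_fun] at this
    omega

/-- Let O be a complete discrete valuation ring whose maximal ideal m contains the prime number p, and
let F be a one-dimensional formal group law over O, with multiplication-by-p series f = [p]_F(X) = X
+_F ⋯ +_F X ∈ O[[X]]. Then f has a coefficient outside m (f is not ≡ 0 mod m) if and only if F is
p-divisible in the sense that O[[X]] is free of finite rank over itself through the substitution
endomorphism X ↦ f: there are finitely many power series b_1, …, b_n such that every power series g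
can be written uniquely as Σ_i c_i(f(X))·b_i. (The published statement asserts instead that F is
p-divisible iff F does not reduce to X + Y modulo m; that is false — over the p-adic integers the
law φ⁻¹(φ(X) + φ(Y)) with φ = X + X^{p+1} is not congruent to X + Y modulo p, yet its
multiplication-by-p series φ⁻¹(pφ(X)) vanishes modulo p — and the printed proof establishes exactly
the criterion on f stated here.) The published setting is the valuation ring of a finite extension
of ℚ_p; the argument uses only that O is a complete discrete valuation ring with p in its maximal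
ideal. -/
theorem result
    (O : Type u) [CommRing O] [IsDomain O] [IsDiscreteValuationRing O]
    [IsAdicComplete (IsLocalRing.maximalIdeal O) O]
    (p : ℕ) [Fact p.Prime] (hp : (p : O) ∈ IsLocalRing.maximalIdeal O)
    (F : FormalGroup O) :
    (∃ n : ℕ, PowerSeries.coeff n
        ((p • (show F.Point Unit from ⟨PowerSeries.X, PowerSeries.HasSubst.X'⟩)).val) ∉
          IsLocalRing.maximalIdeal O) ↔
      ∃ (n : ℕ) (b : Fin n → PowerSeries O), ∀ g : PowerSeries O, ∃! c : Fin n → PowerSeries O,
        g = ∑ i, PowerSeries.subst
          ((p • (show F.Point Unit from ⟨PowerSeries.X, PowerSeries.HasSubst.X'⟩)).val) (c i) * b i := by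
  exact general O _ (p • (show F.Point Unit from ⟨PowerSeries.X, PowerSeries.HasSubst.X'⟩)).prop

end Groth.Agent.S18476
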