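import Groth.Statements.S18479
import Mathlib

set_option autoImplicit false
universe u v
open scoped TensorProduct
open OortTate

namespace Groth.Agent.S18479

section Aux

variable {R : Type u} [CommRing R] {A : Type v} [CommRing A] [HopfAlgebra R A]
  (x : A) (hx : Bialgebra.counitAlgHom R A x = 0)
  (hgen : ∀ f : A, Bialgebra.counitAlgHom R A f = 0 → ∃ r : R, f = r • x)
  (hfree : ∀ r : R, r • x = 0 → r = 0)

/-- the map `(r, s) ↦ r + s x` -/
noncomputable def φ : R × R →ₗ[R] A :=
  (Algebra.linearMap R A).coprod (LinearMap.toSpanSingleton R A x)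

theorem φ_apply (r s : R) : φ x (r, s) = algebraMap R A r + s • x := by
  simp [φ]

include hx in
theorem counit_φ (r s : R) : Bialgebra.counitAlgHom R A (φ x (r, s)) = r := by
  rw [φ_apply, map_add, map_smul, hx, smul_zero, add_zero, AlgHom.commutes]
  rfl

include hx hgen hfree in
theorem φ_bij : Function.Bijective (φ (R := R) x) := by
  constructor
  · rw [injective_iff_map_eq_zero]
    rintro ⟨r, s⟩ h
    have h1 := counit_φ x hx r s
    rw [h, map_zero] at h1
    subst h1
    rw [φ_apply, map_zero, zero_add] at h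
    rw [hfree s h]
    rfl
  · intro a
    obtain ⟨s, hs⟩ := hgen (a - algebraMap R A (Bialgebra.counitAlgHom R A a)) (by
      rw [map_sub, AlgHom.commutes]; simp)
    refine ⟨(Bialgebra.counitAlgHom R A a, s), ?_⟩
    rw [φ_apply, ← hs]; ring


/-- the equivalence `R × R ≃ A` -/
noncomputable def e : (R × R) ≃ₗ[R] A := LinearEquiv.ofBijective (φ x) (φ_bij x hx hgen hfree)

/-- the `x`-coefficient -/
noncomputable def ρ : A →ₗ[R] R := LinearMap.snd R R R ∘ₗ (e x hx hgen hfree).symm.toLinearMap

/-- the counit as a linear map -/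
noncomputable abbrev ε : A →ₗ[R] R := (Bialgebra.counitAlgHom R A).toLinearMap

theorem e_apply (r s : R) : e x hx hgen hfree (r, s) = algebraMap R A r + s • x := φ_apply x r s

theorem ρ_e (r s : R) : ρ x hx hgen hfree (algebraMap R A r + s • x) = s := by
  rw [← e_apply x hx hgen hfree]
  simp [ρ]

theorem ρ_one : ρ x hx hgen hfree 1 = 0 := by
  have := ρ_e x hx hgen hfree 1 0
  simpa using this

theorem ρ_x : ρ x hx hgen hfree x = 1 := by
  have := ρ_e x hx hgen hfree 0 1
  simpa using this

theorem decomp (a : A) : a = ε (R := R) a • (1 : A) + ρ x hx hgen hfree a • x := by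
  obtain ⟨⟨r, s⟩, rfl⟩ := (e x hx hgen hfree).surjective a
  rw [e_apply, ρ_e]
  have : ε (R := R) (algebraMap R A r + s • x) = r := by
    change Bialgebra.counitAlgHom R A _ = r
    rw [map_add, map_smul, hx, smul_zero, add_zero, AlgHom.commutes]; rfl
  rw [this, Algebra.algebraMap_eq_smul_one]

/-- pairing of two functionals on the tensor square -/
noncomputable def TT (ψ₁ ψ₂ : A →ₗ[R] R) : A ⊗[R] A →ₗ[R] R :=
  LinearMap.mul' R R ∘ₗ TensorProduct.map ψ₁ ψ₂

@[simp] theorem TT_tmul (ψ₁ ψ₂ : A →ₗ[R] R) (a b : A) : TT ψ₁ ψ₂ (a ⊗ₜ b) = ψ₁ a * ψ₂ b := by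
  simp [TT]

theorem decomp2 (z : A ⊗[R] A) :
    z = TT (ε (R := R)) (ε (R := R)) z • ((1 : A) ⊗ₜ[R] (1 : A)) +
      TT (ρ x hx hgen hfree) (ε (R := R)) z • (x ⊗ₜ[R] (1 : A)) +
      TT (ε (R := R)) (ρ x hx hgen hfree) z • ((1 : A) ⊗ₜ[R] x) +
      TT (ρ x hx hgen hfree) (ρ x hx hgen hfree) z • (x ⊗ₜ[R] x) := by
  induction z using TensorProduct.induction_on with
  | zero => simp
  | add z₁ z₂ h₁ h₂ =>
    conv_lhs => rw [h₁, h₂]
    simp only [map_add, add_smul]
    abel
  | tmul a b =>
    conv_lhs => rw [decomp x hx hgen hfree a, decomp x hx hgen hfree b]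
    simp only [TT_tmul, TensorProduct.add_tmul, TensorProduct.tmul_add, ← TensorProduct.smul_tmul',
      TensorProduct.tmul_smul]
    module


theorem TT_eq_left (ψ₁ ψ₂ : A →ₗ[R] R) (z : A ⊗[R] A) :
    TT ψ₁ ψ₂ z = LinearMap.mul' R R (TensorProduct.map LinearMap.id ψ₂ (ψ₁.rTensor A z)) := by
  induction z using TensorProduct.induction_on with
  | zero => simp
  | add z₁ z₂ h₁ h₂ => simp only [map_add, h₁, h₂]
  | tmul a b => simp

theorem TT_eq_right (ψ₁ ψ₂ : A →ₗ[R] R) (z : A ⊗[R] A) :
    TT ψ₁ ψ₂ z = LinearMap.mul' R R (TensorProduct.map ψ₁ LinearMap.id (ψ₂.lTensor A z)) := by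
  induction z using TensorProduct.induction_on with
  | zero => simp
  | add z₁ z₂ h₁ h₂ => simp only [map_add, h₁, h₂]
  | tmul a b => simp

theorem TT_counit_left (ψ : A →ₗ[R] R) (a : A) :
    TT (ε (R := R)) ψ (Coalgebra.comul (R := R) a) = ψ a := by
  rw [TT_eq_left]
  have : (ε (R := R)).rTensor A (Coalgebra.comul (R := R) a) = 1 ⊗ₜ a :=
    Coalgebra.rTensor_counit_comul a
  rw [this]
  simp

theorem TT_counit_right (ψ : A →ₗ[R] R) (a : A) :
    TT ψ (ε (R := R)) (Coalgebra.comul (R := R) a) = ψ a := by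
  rw [TT_eq_right]
  have : (ε (R := R)).lTensor A (Coalgebra.comul (R := R) a) = a ⊗ₜ 1 :=
    Coalgebra.lTensor_counit_comul a
  rw [this]
  simp


include hx hgen hfree in
theorem main : ∃ a b : R, x * x = a • x ∧
      Bialgebra.comulAlgHom R A x = x ⊗ₜ[R] 1 + 1 ⊗ₜ[R] x + b • (x ⊗ₜ[R] x) ∧ a * b = -2 := by
  obtain ⟨a, ha⟩ := hgen (x * x) (by rw [map_mul, hx, zero_mul])
  have hρ1 := ρ_one x hx hgen hfree
  have hρx := ρ_x x hx hgen hfree
  set r := ρ x hx hgen hfree with hr
  set b := TT r r (Coalgebra.comul (R := R) x) with hb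
  have hΔ : Coalgebra.comul (R := R) x = x ⊗ₜ 1 + 1 ⊗ₜ x + b • (x ⊗ₜ x) := by
    have h := decomp2 x hx hgen hfree (Coalgebra.comul (R := R) x)
    rw [TT_counit_left, TT_counit_right, TT_counit_left, ← hr, hρx] at h
    have h0 : ε (R := R) x = 0 := hx
    rw [h0, zero_smul, zero_add, one_smul, one_smul] at h
    exact h
  obtain ⟨c, hc⟩ := hgen (HopfAlgebra.antipode R x) (by
    change Coalgebra.counit (R := R) (HopfAlgebra.antipode R x) = 0
    rw [HopfAlgebra.counit_antipode]; exact hx)
  have h2 : c + 1 + a * b * c = 0 := by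
    apply hfree
    have := HopfAlgebra.mul_antipode_rTensor_comul_apply (R := R) x
    rw [hΔ] at this
    simp only [map_add, map_smul, LinearMap.rTensor_tmul, LinearMap.mul'_apply, hc,
      HopfAlgebra.antipode_one] at this
    have h0 : Coalgebra.counit (R := R) x = 0 := hx
    rw [h0, map_zero] at this
    rw [← this]
    simp only [mul_one, one_mul, smul_mul_assoc, ha, smul_smul]
    module
  have h1 : a * b = 2 + 4 * (a * b) + (a * b) ^ 2 := by
    have hm : Coalgebra.comul (R := R) (x * x) =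
        Coalgebra.comul (R := R) x * Coalgebra.comul (R := R) x := Bialgebra.comul_mul x x
    rw [ha, map_smul, hΔ] at hm
    have := congrArg (TT r r) hm
    simp only [mul_add, add_mul, Algebra.TensorProduct.tmul_mul_tmul, ha, map_smul, map_add,
      smul_mul_assoc, mul_smul_comm, TT_tmul, hρ1, hρx, mul_one, one_mul, smul_eq_mul,
      TensorProduct.smul_tmul', TensorProduct.tmul_smul] at this
    linear_combination this
  refine ⟨a, b, ha, hΔ, ?_⟩
  linear_combination (a * b + 2) * h2 + c * h1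


end Aux

/-- Let R be a commutative ring and A a commutative Hopf algebra over R whose augmentation ideal ker ε
is a free R-module of rank one with generator x (this is the situation of a group scheme of order 2
over a local ring: A free of rank 2, so ker ε is free of rank 1). Then there are a, b ∈ R with x² =
a·x, Δ(x) = x ⊗ 1 + 1 ⊗ x + b·(x ⊗ x), and ab = −2; thus A is the Hopf algebra R[T]/(T² − aT) with
comultiplication T ↦ T ⊗ 1 + 1 ⊗ T + b T ⊗ T. (The copy works over a Noetherian local ring to get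
freeness; the computation uses only that ker ε is free on x.) -/
theorem result
    (R : Type u) [CommRing R] (A : Type v) [CommRing A] [HopfAlgebra R A]
    (x : A) (hx : Bialgebra.counitAlgHom R A x = 0)
    (hgen : ∀ f : A, Bialgebra.counitAlgHom R A f = 0 → ∃ r : R, f = r • x)
    (hfree : ∀ r : R, r • x = 0 → r = 0) :
    ∃ a b : R, x * x = a • x ∧
      Bialgebra.comulAlgHom R A x = x ⊗ₜ[R] 1 + 1 ⊗ₜ[R] x + b • (x ⊗ₜ[R] x) ∧ a * b = -2 := by
  exact main x hx hgen hfree

end Groth.Agent.S18479
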