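import Groth.Statements.S18480
import Mathlib

set_option autoImplicit false
universe u v
open scoped TensorProduct
open OortTate

namespace Groth.Agent.S18480

section helpers
variable {R : Type u} [CommRing R] {A : Type v} [CommRing A] [HopfAlgebra R A]

lemma decomp (x : A)
    (hgen : ∀ f : A, Bialgebra.counitAlgHom R A f = 0 → ∃ r : R, f = r • x) (f : A) :
    ∃ r : R, f = algebraMap R A (Bialgebra.counitAlgHom R A f) + r • x := by
  obtain ⟨r, hr⟩ := hgen (f - algebraMap R A (Bialgebra.counitAlgHom R A f)) (by simp)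
  exact ⟨r, by rw [← hr]; ring⟩

/-- the linear equivalence `R × R ≃ A`, `(c, r) ↦ c + r x`. -/
noncomputable def basisEquiv (x : A) (hx : Bialgebra.counitAlgHom R A x = 0)
    (hgen : ∀ f : A, Bialgebra.counitAlgHom R A f = 0 → ∃ r : R, f = r • x)
    (hfree : ∀ r : R, r • x = 0 → r = 0) : (R × R) ≃ₗ[R] A :=
  LinearEquiv.ofBijective
    ((Algebra.linearMap R A).coprod (LinearMap.toSpanSingleton R A x))
    ⟨by
      rw [← LinearMap.ker_eq_bot, LinearMap.ker_eq_bot']
      rintro ⟨c, r⟩ h
      simp only [LinearMap.coprod_apply, Algebra.linearMap_apply,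
        LinearMap.toSpanSingleton_apply] at h
      have hc : c = 0 := by
        have hx0 : Coalgebra.counit (R := R) x = 0 := hx
        have := congrArg (Bialgebra.counitAlgHom R A) h
        simpa [hx0] using this
      subst hc
      simp only [map_zero, zero_add] at h
      rw [hfree r h]
      rfl,
    by
      intro f
      obtain ⟨r, hr⟩ := decomp x hgen f
      exact ⟨(Bialgebra.counitAlgHom R A f, r), by
        simp only [LinearMap.coprod_apply, Algebra.linearMap_apply,
          LinearMap.toSpanSingleton_apply]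
        exact hr.symm⟩⟩

lemma basisEquiv_apply (x : A) (hx : Bialgebra.counitAlgHom R A x = 0)
    (hgen : ∀ f : A, Bialgebra.counitAlgHom R A f = 0 → ∃ r : R, f = r • x)
    (hfree : ∀ r : R, r • x = 0 → r = 0) (c r : R) :
    basisEquiv x hx hgen hfree (c, r) = algebraMap R A c + r • x := by
  simp [basisEquiv]

/-- coefficient of `x`. -/
noncomputable def coefx (x : A) (hx : Bialgebra.counitAlgHom R A x = 0)
    (hgen : ∀ f : A, Bialgebra.counitAlgHom R A f = 0 → ∃ r : R, f = r • x)
    (hfree : ∀ r : R, r • x = 0 → r = 0) : A →ₗ[R] R :=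
  (LinearMap.snd R R R) ∘ₗ (basisEquiv x hx hgen hfree).symm.toLinearMap

lemma coefx_x (x : A) (hx : Bialgebra.counitAlgHom R A x = 0)
    (hgen : ∀ f : A, Bialgebra.counitAlgHom R A f = 0 → ∃ r : R, f = r • x)
    (hfree : ∀ r : R, r • x = 0 → r = 0) : coefx x hx hgen hfree x = 1 := by
  have : basisEquiv x hx hgen hfree (0, 1) = x := by
    rw [basisEquiv_apply]; simp
  have h2 : (basisEquiv x hx hgen hfree).symm x = (0, 1) :=
    (LinearEquiv.symm_apply_eq _).mpr this.symm
  simp [coefx, h2]

lemma coefx_one (x : A) (hx : Bialgebra.counitAlgHom R A x = 0)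
    (hgen : ∀ f : A, Bialgebra.counitAlgHom R A f = 0 → ∃ r : R, f = r • x)
    (hfree : ∀ r : R, r • x = 0 → r = 0) : coefx x hx hgen hfree 1 = 0 := by
  have : basisEquiv x hx hgen hfree (1, 0) = 1 := by
    rw [basisEquiv_apply]; simp
  have h2 : (basisEquiv x hx hgen hfree).symm 1 = (1, 0) :=
    (LinearEquiv.symm_apply_eq _).mpr this.symm
  simp [coefx, h2]

lemma ext2 {M : Type*} [AddCommGroup M] [Module R M] (x : A)
    (hgen : ∀ f : A, Bialgebra.counitAlgHom R A f = 0 → ∃ r : R, f = r • x)
    (f g : A →ₗ[R] M) (h1 : f 1 = g 1) (hx : f x = g x) : f = g := by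
  refine LinearMap.ext fun y => ?_
  obtain ⟨r, hr⟩ := decomp x hgen y
  rw [hr, Algebra.algebraMap_eq_smul_one]
  simp only [map_add, map_smul, h1, hx]

end helpers

/-- Let R be a commutative ring and let A and A' be commutative Hopf algebras over R whose augmentation
ideals are free of rank one with generators x and x', with constants a, b and a', b' ∈ R such that
x² = a x, Δ(x) = x ⊗ 1 + 1 ⊗ x + b x ⊗ x and x'² = a' x', Δ(x') = x' ⊗ 1 + 1 ⊗ x' + b' x' ⊗ x' (the
group schemes of order two G_{a,b} and G_{a',b'}). Then A and A' are isomorphic as bialgebras over R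
(G_{a,b} ≅ G_{a',b'} as group schemes) if and only if there is a unit s of R with a = a'·s and b' =
b·s. -/
theorem result
    (R : Type u) [CommRing R] (A : Type v) [CommRing A] [HopfAlgebra R A]
    (x : A) (hx : Bialgebra.counitAlgHom R A x = 0)
    (hgen : ∀ f : A, Bialgebra.counitAlgHom R A f = 0 → ∃ r : R, f = r • x)
    (hfree : ∀ r : R, r • x = 0 → r = 0)
    (a b : R) (hxa : x * x = a • x)
    (hxb : Bialgebra.comulAlgHom R A x = x ⊗ₜ[R] 1 + 1 ⊗ₜ[R] x + b • (x ⊗ₜ[R] x))
    (A' : Type v) [CommRing A'] [HopfAlgebra R A']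
    (x' : A') (hx' : Bialgebra.counitAlgHom R A' x' = 0)
    (hgen' : ∀ f : A', Bialgebra.counitAlgHom R A' f = 0 → ∃ r : R, f = r • x')
    (hfree' : ∀ r : R, r • x' = 0 → r = 0)
    (a' b' : R) (hxa' : x' * x' = a' • x')
    (hxb' : Bialgebra.comulAlgHom R A' x' = x' ⊗ₜ[R] 1 + 1 ⊗ₜ[R] x' + b' • (x' ⊗ₜ[R] x')) :
    Nonempty (A ≃ₐc[R] A') ↔ ∃ s : Rˣ, a = a' * (s : R) ∧ b' = b * (s : R) := by
  constructor
  · rintro ⟨φ⟩
    have h1 : Bialgebra.counitAlgHom R A' (φ x) = 0 := by
      have := CoalgHomClass.counit_comp_apply (R := R) φ x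
      rw [Bialgebra.counitAlgHom_apply] at hx ⊢
      rw [this, hx]
    obtain ⟨s, hs⟩ := hgen' _ h1
    have h2 : Bialgebra.counitAlgHom R A (φ.symm x') = 0 := by
      have := CoalgHomClass.counit_comp_apply (R := R) φ.symm x'
      rw [Bialgebra.counitAlgHom_apply] at hx' ⊢
      rw [this, hx']
    obtain ⟨t, ht⟩ := hgen _ h2
    have hst : s * t = 1 := by
      have : x' = (s * t) • x' := by
        calc x' = φ (φ.symm x') := (φ.apply_symm_apply x').symm
          _ = φ (t • x) := by rw [ht]
          _ = t • φ x := map_smul _ _ _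
          _ = t • s • x' := by rw [hs]
          _ = (s * t) • x' := by rw [smul_smul, mul_comm]
      have h3 : (s * t - 1) • x' = 0 := by rw [sub_smul, one_smul, ← this, sub_self]
      exact sub_eq_zero.mp (hfree' _ h3)
    refine ⟨⟨s, t, hst, by rw [mul_comm]; exact hst⟩, ?_, ?_⟩
    · have : φ (x * x) = φ (a • x) := by rw [hxa]
      rw [map_mul, map_smul, hs, smul_mul_smul_comm, hxa', smul_smul, smul_smul] at this
      have h4 := hfree' (s * s * a' - a * s) (by rw [sub_smul, this, sub_self])
      have h5 : s * s * a' = a * s := sub_eq_zero.mp h4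
      show a = a' * s
      calc a = a * (s * t) := by rw [hst, mul_one]
        _ = (a * s) * t := by ring
        _ = (s * s * a') * t := by rw [h5]
        _ = a' * s * (s * t) := by ring
        _ = a' * s := by rw [hst, mul_one]
    · have hc := CoalgHomClass.map_comp_comul_apply (R := R) φ x
      have hxb0 : Coalgebra.comul (R := R) x = x ⊗ₜ[R] 1 + 1 ⊗ₜ[R] x + b • (x ⊗ₜ[R] x) := hxb
      have hxb0' : Coalgebra.comul (R := R) x' = x' ⊗ₜ[R] 1 + 1 ⊗ₜ[R] x' + b' • (x' ⊗ₜ[R] x') :=
        hxb'
      rw [hxb0, hs, map_smul, hxb0'] at hc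
      simp only [map_add, map_smul, TensorProduct.map_tmul, LinearMap.coe_coe, hs, map_one] at hc
      -- apply the functional coef ⊗ coef
      let c := coefx x' hx' hgen' hfree'
      have hcx : c x' = 1 := coefx_x x' hx' hgen' hfree'
      let F : A' ⊗[R] A' →ₗ[R] R := LinearMap.mul' R R ∘ₗ TensorProduct.map c c
      have hF := congrArg F hc
      have hc1 : c 1 = 0 := coefx_one x' hx' hgen' hfree'
      simp only [F, map_add, map_smul, LinearMap.comp_apply, TensorProduct.map_tmul,
        LinearMap.mul'_apply, hcx, hc1, smul_eq_mul, mul_one, mul_zero, zero_mul,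
        add_zero, zero_add] at hF
      show b' = b * s
      calc b' = (s * b') * t := by rw [mul_comm s b', mul_assoc, hst, mul_one]
        _ = (b * (s * s)) * t := by rw [hF]
        _ = b * s * (s * t) := by ring
        _ = b * s := by rw [hst, mul_one]
  · rintro ⟨s, hsa, hsb⟩
    let e := basisEquiv x hx hgen hfree
    let e' := basisEquiv x' hx' hgen' hfree'
    let m : (R × R) ≃ₗ[R] (R × R) :=
      LinearEquiv.prodCongr (LinearEquiv.refl R R) (LinearEquiv.smulOfUnit s)
    let φL : A ≃ₗ[R] A' := e.symm.trans (m.trans e')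
    have he1 : e.symm 1 = (1, 0) := by
      refine (LinearEquiv.symm_apply_eq _).mpr ?_
      show (1 : A) = basisEquiv x hx hgen hfree (1, 0)
      rw [basisEquiv_apply]; simp
    have hex : e.symm x = (0, 1) := by
      refine (LinearEquiv.symm_apply_eq _).mpr ?_
      show x = basisEquiv x hx hgen hfree (0, 1)
      rw [basisEquiv_apply]; simp
    have hφ1 : φL 1 = 1 := by
      show e' (m (e.symm 1)) = 1
      rw [he1]
      show basisEquiv x' hx' hgen' hfree' ((1 : R), (s : Rˣ) • (0 : R)) = 1
      rw [basisEquiv_apply]; simp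
    have hφx : φL x = (s : R) • x' := by
      show e' (m (e.symm x)) = _
      rw [hex]
      show basisEquiv x' hx' hgen' hfree' ((0 : R), (s : Rˣ) • (1 : R)) = _
      rw [basisEquiv_apply]; simp [Units.smul_def]
    have hmul : ∀ f g : A, φL (f * g) = φL f * φL g := by
      have key : (LinearMap.mul R A).compr₂ φL.toLinearMap =
          (LinearMap.mul R A').compl₁₂ φL.toLinearMap φL.toLinearMap := by
        refine ext2 x hgen _ _ ?_ ?_
        · refine ext2 x hgen _ _ ?_ ?_
          · simp [hφ1]
          · simp [hφ1]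
        · refine ext2 x hgen _ _ ?_ ?_
          · simp [hφ1]
          · show φL (x * x) = φL x * φL x
            rw [hxa, map_smul, hφx, smul_mul_smul_comm, hxa', smul_smul, smul_smul, hsa]
            congr 1
            ring
      intro f g
      exact LinearMap.congr_fun (LinearMap.congr_fun key f) g
    let φA : A ≃ₐ[R] A' := AlgEquiv.ofLinearEquiv φL hφ1 hmul
    have hφA : ∀ y, φA y = φL y := fun _ => rfl
    have hφAx : (φA : A →ₐ[R] A') x = (s : R) • x' := hφx
    refine ⟨BialgEquiv.ofAlgEquiv φA ?_ ?_⟩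
    · apply AlgHom.toLinearMap_injective
      refine ext2 x hgen _ _ ?_ ?_
      · simp only [AlgHom.toLinearMap_apply, map_one]
      · simp only [AlgHom.toLinearMap_apply, AlgHom.coe_comp, Function.comp_apply,
          hφAx, map_smul, hx, hx', smul_zero]
    · apply AlgHom.toLinearMap_injective
      refine ext2 x hgen _ _ ?_ ?_
      · simp only [AlgHom.toLinearMap_apply, map_one]
      · simp only [AlgHom.toLinearMap_apply, AlgHom.coe_comp, Function.comp_apply,
          hφAx, map_smul, hxb, hxb', map_add,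
          Algebra.TensorProduct.map_tmul, map_one]
        simp only [← TensorProduct.smul_tmul', TensorProduct.tmul_smul, smul_add, smul_smul]
        rw [hsb]
        module

end Groth.Agent.S18480
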