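import Groth.Statements.S18484
import Groth.Agent.Lib.Helper16.GenFibre2

set_option autoImplicit false
universe u
open CategoryTheory CategoryTheory.Limits AlgebraicGeometry MonObj
open Neron

namespace Groth.Agent.S18484

/-- Let R be a Dedekind domain with fraction field K, X a Spec R-scheme which is a Néron model of its
generic fibre X_K, and i : G → X a closed immersion with G smooth over Spec R. Then G is a Néron
model of its generic fibre G_K: smooth, separated, of finite type, and for every smooth Spec
R-scheme Y restriction to generic fibres is a bijection from R-morphisms Y → G onto K-morphisms Y_K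
→ G_K. (The source states this for a closed subgroup scheme of a Néron model; the group laws play no
part and are not assumed. The converse direction of the source, that a Néron model is a closed
subgroup of a Néron model, is immediate and not stated.) -/
theorem result (R : Type u) [CommRing R] [IsDedekindDomain R]
    (X G : Over (Spec (CommRingCat.of R))) (hX : Neron.IsNeronModelOf R X ((Neron.genericFibre R).obj X) (Iso.refl _))
    (i : G ⟶ X) [IsClosedImmersion i.left] [Smooth G.hom] :
    Neron.IsNeronModelOf R G ((Neron.genericFibre R).obj G) (Iso.refl _) := by
  obtain ⟨hXsm, hXsep, hXlft, hXqc, hXnmp⟩ := hX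
  have hw : i.left ≫ X.hom = G.hom := Over.w i
  have hsep : IsSeparated G.hom := by rw [← hw]; infer_instance
  have hlft : LocallyOfFiniteType G.hom := by rw [← hw]; infer_instance
  have hqc : QuasiCompact G.hom := by rw [← hw]; infer_instance
  refine ⟨inferInstance, hsep, hlft, hqc, ?_⟩
  intro Y hY
  have hYflat : Flat Y.hom := inferInstance
  constructor
  · intro g₁ g₂ h
    simp only [Iso.refl_hom, Category.comp_id] at h
    exact Groth.Agent.Lib.Helper16.eq_of_genericFibre_map_eq R Y G g₁ g₂ h
  · intro v
    obtain ⟨u, hu⟩ := (hXnmp Y hY).2 (v ≫ (Neron.genericFibre R).map i)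
    simp only [Iso.refl_hom, Category.comp_id] at hu
    obtain ⟨w, hw⟩ := Groth.Agent.Lib.Helper16.exists_lift_of_genericFibre R Y X G i u v hu
    refine ⟨w, ?_⟩
    simp only [Iso.refl_hom, Category.comp_id]
    have hmono : Mono i := by
      have : Mono i.left := inferInstance
      exact (Over.forget _).mono_of_mono_map this
    have : Mono ((Neron.genericFibre R).map i) := inferInstance
    rw [← cancel_mono ((Neron.genericFibre R).map i), ← Functor.map_comp, hw, hu]

end Groth.Agent.S18484
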