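import Groth.Statements.S18486
import Groth.Agent.Lib.Lead.NeronTorsor
import Groth.Agent.Lib.Helper9.TorsorSch
import Groth.Agent.Lib.Helper5.DescProps

set_option autoImplicit false
universe u
open CategoryTheory CategoryTheory.Limits AlgebraicGeometry MonObj
open Neron

namespace Groth.Agent.S18486

/-- Let R be a Dedekind domain with fraction field K, X a group scheme over Spec R which is a Néron
model of its generic fibre, and P a Spec R-scheme with an action of X making it an X-torsor for the
fppf topology (a pseudo-torsor which acquires sections on the members of some fppf covering family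
of Spec R). Then P is smooth, separated and of finite type over Spec R and has the Néron mapping
property: for every smooth Spec R-scheme Y restriction to generic fibres is a bijection from
R-morphisms Y → P onto K-morphisms Y_K → P_K; that is, P is a Néron model of P_K. (The source treats
Néron lft models, torsors that are algebraic spaces and the mapping property towards smooth
algebraic spaces; the case of a Néron model of finite type and a torsor which is a scheme is
stated.) -/
theorem result (R : Type u) [CommRing R] [IsDedekindDomain R]
    (X : Over (Spec (CommRingCat.of R))) [GrpObj X] (hX : Neron.IsNeronModelOf R X ((Neron.genericFibre R).obj X) (Iso.refl _))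
    (P : NonAbH1.TorsorSch X Scheme.fppfPrecoverage) :
    Neron.IsNeronModelOf R P.X ((Neron.genericFibre R).obj P.X) (Iso.refl _) := by
  classical
  open Groth.Agent.Lib.Lead.NeronTorsor Groth.Agent.Lib.Helper9.TorsorSch in
  obtain ⟨hsm, hsep, hlft, hqc, hnmp⟩ := hX
  have htor : NonAbH1.IsTorsorFor Scheme.fpqcPrecoverage P.act := by
    obtain ⟨hps, Rr, hR, hsec⟩ := P.isTorsor
    exact ⟨hps, Rr, Scheme.fppfPrecoverage_le_fpqcPrecoverage _ hR, hsec⟩
  have hsurjX : Surjective X.hom := by
    refine ⟨fun x => ⟨(η[X].left) x, ?_⟩⟩
    rw [← Scheme.Hom.comp_apply, Over.w η[X]]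
    rfl
  have h1 : Smooth P.X.hom :=
    prop_of_isTorsorFor_fpqc @Smooth inferInstance P.act htor hsm
  have h2 : IsSeparated P.X.hom :=
    prop_of_isTorsorFor_fpqc @IsSeparated
      Groth.Agent.Lib.Helper5.DescProps.isSeparated_descendsAlong P.act htor hsep
  have h3 : LocallyOfFiniteType P.X.hom :=
    prop_of_isTorsorFor_fpqc @LocallyOfFiniteType inferInstance P.act htor hlft
  have h4 : QuasiCompact P.X.hom :=
    prop_of_isTorsorFor_fpqc @QuasiCompact
      Groth.Agent.Lib.Helper5.DescProps.quasiCompact_descendsAlong P.act htor hqc
  have h5 : Surjective P.X.hom :=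
    prop_of_isTorsorFor_fpqc @Surjective inferInstance P.act htor hsurjX
  refine ⟨h1, h2, h3, h4, ?_⟩
  haveI := h1
  haveI := h5
  have hG : ∀ Z : Over (Spec (CommRingCat.of R)), Smooth Z.hom →
      Function.Bijective (fun g : Z ⟶ X => res (Neron.genPt R) Z ≫ g) := by
    intro Z hZ
    rw [← bijective_iff]
    have := hnmp Z hZ
    simpa using this
  have hN := (extension_iff (Neron.genPt R) P.act htor.1).1 hG
  intro Y hY
  have := (bijective_iff (Neron.genPt R) Y P.X).2 (hN Y hY)
  simpa using this

end Groth.Agent.S18486
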