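import Groth.Statements.S18487
-- import your own Groth.Agent.* helpers here
import Groth.Agent.Lib.Helper58.RatMap
import Groth.Agent.Lib.Helper9.TorsorSch
import Groth.Agent.Lib.Helper23.FppfDescent

set_option autoImplicit false
universe u
open CategoryTheory CategoryTheory.Limits AlgebraicGeometry MonObj
open NonAbH1

namespace Groth.Agent.S18487

open NonAbH1

instance descendsAlong_isSeparated_fpqc :
    MorphismProperty.DescendsAlong @IsSeparated.{u} (@Surjective ⊓ @Flat ⊓ @QuasiCompact) := by
  rw [AlgebraicGeometry.IsSeparated.isSeparated_eq_diagonal_isClosedImmersion]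
  infer_instance

/-- Let R be a Dedekind domain with fraction field K, G a proper flat group scheme over Spec R, and P a
Spec R-scheme with an action of G making it a G-torsor for the fppf topology (a pseudo-torsor
acquiring sections on the members of an fppf covering family). If P acquires a section over the
generic point Spec K → Spec R, then P has a section over Spec R: a generically trivial torsor is
trivial. (The source allows any connected Dedekind scheme as base and torsors that are fppf sheaves,
shown there to be schemes; the affine base and scheme torsors are stated.) -/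
theorem result (R : Type u) [CommRing R] [IsDedekindDomain R]
    (G : Over (Spec (CommRingCat.of R))) [GrpObj G] [IsProper G.hom] [Flat G.hom]
    (P : NonAbH1.TorsorSch G Scheme.fppfPrecoverage) (h : NonAbH1.HasSectionOver P.X (Neron.genPt R)) :
    NonAbH1.HasSectionOver P.X (𝟙 (Spec (CommRingCat.of R))) := by
  have hT : IsTorsorFor Scheme.fpqcPrecoverage P.act := by
    obtain ⟨hps, R', hR', hsec⟩ := P.isTorsor
    exact ⟨hps, R', Scheme.fppfPrecoverage_le_fpqcPrecoverage _ hR', hsec⟩
  have h1 : UniversallyClosed P.X.hom :=
    Groth.Agent.Lib.Helper9.TorsorSch.prop_of_isTorsorFor_fpqc @UniversallyClosed inferInstance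
      P.act hT inferInstance
  have h2 : LocallyOfFiniteType P.X.hom :=
    Groth.Agent.Lib.Helper9.TorsorSch.prop_of_isTorsorFor_fpqc @LocallyOfFiniteType inferInstance
      P.act hT inferInstance
  have h3 : IsSeparated P.X.hom :=
    Groth.Agent.Lib.Helper9.TorsorSch.prop_of_isTorsorFor_fpqc @IsSeparated inferInstance
      P.act hT inferInstance
  obtain ⟨s, hs⟩ := h
  have hex : ValuativeCriterion.Existence P.X.hom := by
    have h' := h1
    rw [UniversallyClosed.eq_valuativeCriterion] at h'
    exact h'.1
  set S : Scheme.{u} := Spec (CommRingCat.of R) with hS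
  let gpt : S := (⟨⊥, Ideal.isPrime_bot⟩ : PrimeSpectrum R)
  -- stalks of `Spec R` are valuation rings
  have hstalk : ∀ x : S, ∃ (_ : IsDomain (S.presheaf.stalk x)), ValuationRing (S.presheaf.stalk x) := by
    intro x
    haveI : IsLocalization.AtPrime ((Spec.structureSheaf R).presheaf.stalk x) x.asIdeal :=
      inferInstance
    have hle : x.asIdeal.primeCompl ≤ nonZeroDivisors R := x.asIdeal.primeCompl_le_nonZeroDivisors
    haveI hdom : IsDomain ((Spec.structureSheaf R).presheaf.stalk x) :=
      IsLocalization.isDomain_of_le_nonZeroDivisors (R := R) (M := x.asIdeal.primeCompl)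
        ((Spec.structureSheaf R).presheaf.stalk x) hle
    haveI hded : IsDedekindDomain ((Spec.structureSheaf R).presheaf.stalk x) :=
      IsLocalization.isDedekindDomain R hle _
    haveI : IsLocalRing ((Spec.structureSheaf R).presheaf.stalk x) :=
      inferInstanceAs (IsLocalRing (S.presheaf.stalk x))
    refine ⟨hdom, ?_⟩
    exact ((tfae_of_isNoetherianRing_of_isLocalRing_of_isDomain
      ((Spec.structureSheaf R).presheaf.stalk x)).out 2 1).mp hded
  -- the generic section as a morphism from the spectrum of the stalk at the generic point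
  haveI : IsLocalization.AtPrime ((Spec.structureSheaf R).presheaf.stalk gpt)
      (⊥ : Ideal R) :=
    AlgebraicGeometry.StructureSheaf.IsLocalization.to_stalk R (⟨⊥, Ideal.isPrime_bot⟩ : PrimeSpectrum R)
  have hunit : ∀ y : nonZeroDivisors R,
      IsUnit (algebraMap R ((Spec.structureSheaf R).presheaf.stalk gpt) y) := by
    intro y
    have hy : (y : R) ∈ (⊥ : Ideal R).primeCompl := by
      show (y : R) ∉ (⊥ : Ideal R)
      simp
    exact IsLocalization.map_units _ (⟨y, hy⟩ : (⊥ : Ideal R).primeCompl)
  let χ : FractionRing R →+* (Spec.structureSheaf R).presheaf.stalk gpt := IsLocalization.lift hunit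
  have hχ : χ.comp (algebraMap R (FractionRing R)) = algebraMap R _ := IsLocalization.lift_comp hunit
  let φ : Spec (S.presheaf.stalk gpt) ⟶ P.X.left := Spec.map (CommRingCat.ofHom χ) ≫ s
  have hφ : φ ≫ P.X.hom = S.fromSpecStalk gpt ≫ 𝟙 S := by
    rw [Category.comp_id, Category.assoc, hs, Spec.fromSpecStalk_eq']
    show Spec.map (CommRingCat.ofHom χ) ≫ Spec.map (CommRingCat.ofHom (algebraMap R (FractionRing R)))
      = _
    rw [← Spec.map_comp]
    congr 1
    ext r
    exact congrArg (fun g => g r) hχ
  haveI : IsLocallyNoetherian S := inferInstance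
  obtain ⟨U, hgptU, f, hφf, hf⟩ := spread_out_of_isGermInjective' (𝟙 S) P.X.hom φ hφ
  have hUd : Dense (U : Set S) := U.isOpen.dense ⟨gpt, hgptU⟩
  haveI : IsReduced S := inferInstance
  obtain ⟨V, hUV, g, hg1, hg2, hg3⟩ :=
    Groth.Agent.Lib.Helper58.RatMap.exists_extension (𝟙 S) P.X.hom hex U hUd f hf
  have hr : Set.range (𝟙 S : S ⟶ S) ⊆ Set.range V.ι := by
    rintro x -
    rw [Scheme.Opens.range_ι]
    obtain ⟨hd, hv⟩ := hstalk x
    exact hg3 x hv
  refine ⟨IsOpenImmersion.lift V.ι (𝟙 S) hr ≫ g, ?_⟩
  rw [Category.assoc, hg1, Category.comp_id, IsOpenImmersion.lift_fac]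

end Groth.Agent.S18487
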