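import Groth.Statements.S1849
import Groth.Agent.Lib.Helper29.TameT

set_option autoImplicit false
universe u
open CycAlg

namespace Groth.Agent.S1849

open CycAlg


/-- Let A be a Noetherian local ring of dimension 1 and A ⊆ B a finite extension with B/A killed by a
power of the maximal ideal 𝔪 and 𝔪 not an associated prime of the A-module B. For nonzerodivisors a,
b of A, ∂_A(a, b) is the product over the maximal ideals 𝔪_j of B of the norms from κ(𝔪_j) to κ of
∂_{B_{𝔪_j}}(a, b). -/
theorem result (A : Type u) [CommRing A] [IsNoetherianRing A] [IsLocalRing A] (hA : ringKrullDim A = 1) (B : Type u) [CommRing B] [Algebra A B] (hB : CycAlg.IsFinExt A B (IsLocalRing.maximalIdeal A)) (hass : IsLocalRing.maximalIdeal A ∉ associatedPrimes A B) [hloc : ∀ q : MaximalSpectrum B, IsLocalHom (algebraMap A (Localization.AtPrime q.asIdeal))] (a b : A) (ha : a ∈ nonZeroDivisors A) (hb : b ∈ nonZeroDivisors A) : CycAlg.tameSymbol A a b = ∏ᶠ q : MaximalSpectrum B, Algebra.norm (IsLocalRing.ResidueField A) (CycAlg.tameSymbol (Localization.AtPrime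 q.asIdeal) (algebraMap A (Localization.AtPrime q.asIdeal) a) (algebraMap A (Localization.AtPrime q.asIdeal) b)) := by
  open Groth.Agent.Lib.Helper29.Tame IsLocalRing in
  by_cases hu : IsUnit a ∧ IsUnit b
  · rw [tameSymbol_eq_one_of_isUnit hu.1 hu.2]
    symm
    apply finprod_eq_one_of_forall_eq_one
    intro q
    rw [tameSymbol_eq_one_of_isUnit (hu.1.map _) (hu.2.map _), map_one]
  · obtain ⟨B', _, _, hB', π, hπ, hM⟩ := exists_common hA a b b ha hb hb
      (fun h => hu ⟨h.1, h.2.1⟩)
    haveI : Module.Finite A B' := hB'.2.1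
    haveI hloc' : ∀ q : MaximalSpectrum B',
      IsLocalHom (algebraMap A (Localization.AtPrime q.asIdeal)) := fun q => isLocalHom_of_finite q
    have Ma := fun q => (hM q).1.some
    have Mb := fun q => (hM q).2.1.some
    by_cases hua : IsUnit a
    · have hub : ¬ IsUnit b := fun h => hu ⟨hua, h⟩
      exact tameSymbol_eq_finprod_norm_of_nonunit hA B hB hass a b ha hb b hub hb B' hB'
        (fun q => Mono.toLocFac (hπ q) (Ma q) (Mb q))
        (fun q => (Mono.toLocFac (hπ q) (Ma q) (Mb q)).c₂_mem)
    · exact tameSymbol_eq_finprod_norm_of_nonunit hA B hB hass a b ha hb a hua ha B' hB'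
        (fun q => Mono.toLocFac (hπ q) (Ma q) (Mb q))
        (fun q => (Mono.toLocFac (hπ q) (Ma q) (Mb q)).c₁_mem)

end Groth.Agent.S1849
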