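import Groth.Statements.S18490
import Mathlib
-- import your own Groth.Agent.* helpers here

set_option autoImplicit false
universe u
open CategoryTheory CategoryTheory.Limits AlgebraicGeometry
open FlatMor

namespace Groth.Agent.S18490

theorem flat_of_retract_ringHom {R M N : Type u} [CommRing R] [CommRing M] [CommRing N]
    (φ : R →+* M) (ι : M →+* N) (ρ : N →+* M) (h : ρ.comp ι = RingHom.id M)
    (hflat : (ι.comp φ).Flat) : φ.Flat := by
  letI := φ.toAlgebra
  letI := (ι.comp φ).toAlgebra
  have hN : Module.Flat R N := hflat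
  have hι : ∀ (r : R) (m : M), ι (r • m) = r • ι m := by
    intro r m
    simp [Algebra.smul_def, RingHom.algebraMap_toAlgebra]
  have hρ : ∀ (r : R) (n : N), ρ (r • n) = r • ρ n := by
    intro r n
    have h1 : ρ (ι (φ r)) = φ r := RingHom.congr_fun h (φ r)
    simp [Algebra.smul_def, RingHom.algebraMap_toAlgebra, h1]
  let ιl : M →ₗ[R] N := { toFun := ι, map_add' := map_add ι, map_smul' := hι }
  let ρl : N →ₗ[R] M := { toFun := ρ, map_add' := map_add ρ, map_smul' := hρ }
  have : Module.Flat R M := by
    apply Module.Flat.of_retract ιl ρl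
    ext m
    exact RingHom.congr_fun h m
  exact this

theorem quasiCompact_of_comp_surjective {X Y Z : Scheme.{u}} (p : X ⟶ Y) (f : Y ⟶ Z)
    (hp : Function.Surjective p) [QuasiCompact (p ≫ f)] : QuasiCompact f := by
  constructor
  intro U hU hU'
  have h1 : IsCompact ((p ≫ f) ⁻¹' U) := QuasiCompact.isCompact_preimage _ hU hU'
  have h2 : f ⁻¹' U = p '' ((p ≫ f) ⁻¹' U) := by
    ext y
    constructor
    · intro hy
      obtain ⟨x, rfl⟩ := hp y
      exact ⟨x, by simpa using hy, rfl⟩
    · rintro ⟨x, hx, rfl⟩
      simpa using hx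
  rw [h2]
  exact h1.image p.continuous


/-- Let f : X → S and g : Y → S be morphisms of schemes and suppose that g has a section y : S → Y. If
the structure morphism X ×_S Y → S (first projection followed by f) is quasi-compact, then so is f;
likewise for locally of finite type, for separated, and for flat. (Finite type, also listed in the
source, is the conjunction of the first two.) -/
theorem result {X Y S : Scheme.{u}} (f : X ⟶ S) (g : Y ⟶ S)
    (y : S ⟶ Y) (hy : y ≫ g = 𝟙 S) :
    (QuasiCompact (pullback.fst f g ≫ f) → QuasiCompact f) ∧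
    (LocallyOfFiniteType (pullback.fst f g ≫ f) → LocallyOfFiniteType f) ∧
    (IsSeparated (pullback.fst f g ≫ f) → IsSeparated f) ∧
    (Flat (pullback.fst f g ≫ f) → Flat f) := by
  let s : X ⟶ pullback f g := pullback.lift (𝟙 X) (f ≫ y) (by simp [hy])
  have hs : s ≫ pullback.fst f g = 𝟙 X := pullback.lift_fst _ _ _
  have hsf : s ≫ (pullback.fst f g ≫ f) = f := by rw [← Category.assoc, hs, Category.id_comp]
  refine ⟨fun _ => ?_, fun _ => ?_, fun _ => ?_, fun _ => ?_⟩
  · apply quasiCompact_of_comp_surjective (pullback.fst f g) f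
    intro x
    refine ⟨s x, ?_⟩
    rw [← Scheme.Hom.comp_apply, hs]
    rfl
  · have : LocallyOfFiniteType (s ≫ pullback.fst f g) := by rw [hs]; infer_instance
    have : LocallyOfFiniteType s := locallyOfFiniteType_of_comp s (pullback.fst f g)
    rw [← hsf]
    infer_instance
  · have : IsSeparated (s ≫ pullback.fst f g) := by rw [hs]; infer_instance
    have : IsSeparated s := IsSeparated.of_comp s (pullback.fst f g)
    rw [← hsf]
    infer_instance
  · rw [Flat.iff_flat_stalkMap]
    intro x
    have hxx' : x = (pullback.fst f g) (s x) := by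
      rw [← Scheme.Hom.comp_apply, hs]
      rfl
    let ι : X.presheaf.stalk x ⟶ (pullback f g).presheaf.stalk (s x) :=
      (X.presheaf.stalkCongr (.of_eq hxx')).hom ≫ (pullback.fst f g).stalkMap (s x)
    have hιρ : ι ≫ s.stalkMap x = 𝟙 _ := by
      simp only [ι, Category.assoc, ← Scheme.Hom.stalkMap_comp]
      rw [Scheme.Hom.stalkMap_congr_hom _ _ hs x]
      simp
    have hflat : (f.stalkMap x ≫ ι).hom.Flat := by
      simp only [ι]
      rw [Scheme.Hom.stalkMap_congr_point_assoc f x _ hxx', ← Scheme.Hom.stalkMap_comp]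
      rw [CommRingCat.hom_comp]
      refine RingHom.Flat.comp ?_ (Flat.stalkMap _ _)
      exact RingHom.Flat.of_bijective (ConcreteCategory.bijective_of_isIso _)
    refine flat_of_retract_ringHom (f.stalkMap x).hom ι.hom (s.stalkMap x).hom ?_ ?_
    · rw [← CommRingCat.hom_comp, hιρ]
      rfl
    · rw [← CommRingCat.hom_comp]
      exact hflat

end Groth.Agent.S18490
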