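import Groth.Statements.S18503
import Mathlib
import Groth.Agent.Lib.Helper54.SectionIso
import Groth.Agent.Lib.Helper81.GeomQuotOpen

set_option autoImplicit false
universe u
open CategoryTheory MonoidalCategory CartesianMonoidalCategory MonObj GrpObj AlgebraicGeometry Topology
open EqInt

namespace Groth.Agent.S18503

open CategoryTheory.Limits Groth.Agent.Lib.Helper81.GeomQuotOpen

theorem lfp_of_lft_of_isLocallyNoetherian {X S : Scheme.{u}} (g : X ⟶ S) [LocallyOfFiniteType g]
    [IsLocallyNoetherian S] : LocallyOfFinitePresentation g := by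
  rw [HasRingHomProperty.iff_appLE (P := @LocallyOfFinitePresentation)]
  intro U V e
  have hft : (g.appLE U V e).hom.FiniteType :=
    (HasRingHomProperty.iff_appLE (P := @LocallyOfFiniteType)).1 ‹_› U V e
  have : IsNoetherianRing Γ(S, U.1) := IsLocallyNoetherian.component_noetherian U
  algebraize [(g.appLE U V e).hom]
  exact Algebra.FinitePresentation.of_finiteType.1 hft

section
variable {S : Scheme.{u}} {G X : Over S} [GrpObj G] (a : AlgGrp.Action G X)

theorem psi_id : GIT.psi a (𝟙 X) = lift a.act (snd G X) := by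
  unfold GIT.psi
  rw [MonoidalCategory.whiskerLeft_id, Category.id_comp]

theorem unit_psi : lift (1 : X ⟶ G) (𝟙 X) ≫ GIT.psi a (𝟙 X) = lift (𝟙 X) (𝟙 X) := by
  rw [psi_id, comp_lift, one_act', lift_snd]

theorem mono_psi_of_isIso (hπ : IsIso (pullback.snd (GIT.psi a (𝟙 X)).left (lift (𝟙 X) (𝟙 X)).left)) :
    Mono (GIT.psi a (𝟙 X)) := by
  -- unit section
  have he : (lift (1 : X ⟶ G) (𝟙 X)).left ≫ (GIT.psi a (𝟙 X)).left = 𝟙 X.left ≫ (lift (𝟙 X) (𝟙 X)).left := by
    rw [← Over.comp_left, unit_psi, Category.id_comp]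
  have heπ : pullback.lift _ _ he ≫ pullback.snd (GIT.psi a (𝟙 X)).left (lift (𝟙 X) (𝟙 X)).left = 𝟙 _ :=
    pullback.lift_snd _ _ _
  have hπe : pullback.snd (GIT.psi a (𝟙 X)).left (lift (𝟙 X) (𝟙 X)).left ≫ pullback.lift _ _ he = 𝟙 _ := by
    rw [← cancel_mono (pullback.snd (GIT.psi a (𝟙 X)).left (lift (𝟙 X) (𝟙 X)).left), Category.assoc, heπ,
      Category.comp_id, Category.id_comp]
  constructor
  intro T u v huv
  have hx : u ≫ snd G X = v ≫ snd G X := by
    have := congrArg (fun m => m ≫ snd X X) huv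
    simpa only [Category.assoc, psi_id, lift_snd] using this
  have hact : u ≫ a.act = v ≫ a.act := by
    have := congrArg (fun m => m ≫ fst X X) huv
    simpa only [Category.assoc, psi_id, lift_fst] using this
  have hu : u = lift (u ≫ fst G X) (u ≫ snd G X) := by
    apply CartesianMonoidalCategory.hom_ext <;> simp
  have hv : v = lift (v ≫ fst G X) (u ≫ snd G X) := by
    rw [hx]
    apply CartesianMonoidalCategory.hom_ext <;> simp
  -- h = g'⁻¹ * g
  have hstab : lift ((v ≫ fst G X)⁻¹ * (u ≫ fst G X)) (u ≫ snd G X) ≫ a.act = u ≫ snd G X := by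
    have hv' : v ≫ a.act = lift (v ≫ fst G X) (u ≫ snd G X) ≫ a.act :=
      congrArg (fun m => m ≫ a.act) hv
    rw [← act_act, ← hu, hact, hv', act_act, inv_mul_cancel, one_act']
  have hw : (lift ((v ≫ fst G X)⁻¹ * (u ≫ fst G X)) (u ≫ snd G X)).left ≫ (GIT.psi a (𝟙 X)).left =
      (u ≫ snd G X).left ≫ (lift (𝟙 X) (𝟙 X)).left := by
    rw [← Over.comp_left, ← Over.comp_left, psi_id, comp_lift, hstab, lift_snd, comp_lift,
      Category.comp_id]
  have ht : pullback.lift _ _ hw = (u ≫ snd G X).left ≫ pullback.lift _ _ he := by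
    have h1 : pullback.lift _ _ hw ≫ pullback.snd (GIT.psi a (𝟙 X)).left (lift (𝟙 X) (𝟙 X)).left ≫
        pullback.lift _ _ he = (u ≫ snd G X).left ≫ pullback.lift _ _ he := by
      rw [← Category.assoc, pullback.lift_snd]
    rw [hπe, Category.comp_id] at h1
    exact h1
  have ht2 := congrArg (fun m => m ≫ pullback.fst (GIT.psi a (𝟙 X)).left (lift (𝟙 X) (𝟙 X)).left) ht
  simp only [Category.assoc, pullback.lift_fst] at ht2
  have ht3 : lift ((v ≫ fst G X)⁻¹ * (u ≫ fst G X)) (u ≫ snd G X) =
      (u ≫ snd G X) ≫ lift (1 : X ⟶ G) (𝟙 X) := by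
    apply Over.OverMorphism.ext
    rw [Over.comp_left]
    exact ht2
  have ht4 := congrArg (fun m => m ≫ fst G X) ht3
  simp only [Category.assoc, lift_fst] at ht4
  rw [MonObj.comp_one, MonObj.comp_one] at ht4
  have hg : u ≫ fst G X = v ≫ fst G X := by
    have := inv_mul_eq_one.mp ht4
    exact this.symm
  rw [hu, hv, hg]

end


/-- Over a field k, let an affine group scheme G of finite type act on a quasi-separated scheme X of
finite type over k. If the action is proper (the morphism (σ, p₂) : G × X → X × X is proper) and the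
stabilizer of every point is trivial (for each point x of X the fibre over x of the stabilizer group
scheme (G × X) ×_{X × X} X → X, the pullback of (σ, p₂) along the diagonal, is Spec κ(x) through its
structure map), then the action is free: (σ, p₂) is a closed immersion. (Stated for X a scheme; the
source allows an algebraic space.) -/
theorem result (k : Type u) [Field k]
    (G X : Over (Spec (CommRingCat.of k))) [GrpObj G] [IsAffine G.left] [LocallyOfFiniteType G.hom]
    [LocallyOfFiniteType X.hom] [QuasiCompact X.hom] [QuasiSeparated X.hom]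
    (a : AlgGrp.Action G X) (hp : IsProper (GIT.psi a (𝟙 X)).left)
    (htriv : ∀ x : ↥X.left, IsIso ((Limits.pullback.snd (GIT.psi a (𝟙 X)).left
      (CartesianMonoidalCategory.lift (𝟙 X) (𝟙 X)).left).fiberToSpecResidueField x)) :
    IsClosedImmersion (GIT.psi a (𝟙 X)).left := by
  have hXn : IsLocallyNoetherian X.left := LocallyOfFiniteType.isLocallyNoetherian X.hom
  have hπp : IsProper (pullback.snd (GIT.psi a (𝟙 X)).left (lift (𝟙 X) (𝟙 X)).left) := inferInstance
  have hπfp : LocallyOfFinitePresentation (pullback.snd (GIT.psi a (𝟙 X)).left (lift (𝟙 X) (𝟙 X)).left) :=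
    lfp_of_lft_of_isLocallyNoetherian _
  have he : (lift (1 : X ⟶ G) (𝟙 X)).left ≫ (GIT.psi a (𝟙 X)).left = 𝟙 X.left ≫ (lift (𝟙 X) (𝟙 X)).left := by
    rw [← Over.comp_left, unit_psi, Category.id_comp]
  have heπ : pullback.lift _ _ he ≫ pullback.snd (GIT.psi a (𝟙 X)).left (lift (𝟙 X) (𝟙 X)).left = 𝟙 _ :=
    pullback.lift_snd _ _ _
  have hπ : IsIso (pullback.snd (GIT.psi a (𝟙 X)).left (lift (𝟙 X) (𝟙 X)).left) := by
    apply IsZariskiLocalAtTarget.of_forall_exists_morphismRestrict
      (P := MorphismProperty.isomorphisms Scheme)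
    intro x
    exact Groth.Agent.Lib.Helper54.SectionIso.exists_isIso_morphismRestrict _ _ _ _ heπ
      (pullback.snd (GIT.psi a (𝟙 X)).left (lift (𝟙 X) (𝟙 X)).left).isClosedMap x
      ⟨⊤, trivial, inferInstance⟩ (htriv x)
  have hmono : Mono (GIT.psi a (𝟙 X)) := mono_psi_of_isIso a hπ
  have hmono' : Mono (GIT.psi a (𝟙 X)).left :=
    inferInstanceAs (Mono ((Over.forget _).map (GIT.psi a (𝟙 X))))
  exact (IsClosedImmersion.iff_isProper_and_mono _).mpr ⟨hp, hmono'⟩

end Groth.Agent.S18503
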