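import Groth.Statements.S18505
-- import your own Groth.Agent.* helpers here
import Groth.Agent.Lib.Helper20.NormNormal

set_option autoImplicit false
universe u
open CategoryTheory MonoidalCategory CartesianMonoidalCategory MonObj GrpObj AlgebraicGeometry Topology
open EqInt

namespace Groth.Agent.S18505

open scoped nonZeroDivisors

/-- pullback of a nonzero section of an integral scheme along a flat morphism is a nonzerodivisor on sections. -/
theorem eq_zero_of_mul_appLE_eq_zero {P X : Scheme.{u}} (p : P ⟶ X) [Flat p] [IsIntegral X]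
    (V : X.Opens) (W : P.Opens) (e : W ≤ p ⁻¹ᵁ V) (c : Γ(X, V)) (hc : c ≠ 0)
    (s : Γ(P, W)) (hs : s * p.appLE V W e c = 0) : s = 0 := by
  apply TopCat.Presheaf.section_ext P.sheaf W s 0
  intro w hw
  rw [map_zero]
  have hpw : p w ∈ V := e hw
  have h1 : P.presheaf.germ W w hw (p.appLE V W e c) =
      p.stalkMap w (X.presheaf.germ V (p w) hpw c) := by
    rw [Scheme.Hom.germ_stalkMap_apply]
    rw [Scheme.Hom.appLE, CommRingCat.comp_apply, TopCat.Presheaf.germ_res_apply]
  have h2 : X.presheaf.germ V (p w) hpw c ≠ 0 := by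
    intro h0
    apply hc
    apply germ_injective_of_isIntegral X (p w) hpw
    rw [h0, map_zero]
  have hflat := Flat.stalkMap p w
  letI := (p.stalkMap w).hom.toAlgebra
  haveI : Module.Flat (X.presheaf.stalk (p w)) (P.presheaf.stalk w) := hflat
  have hreg := Module.Flat.isSMulRegular_of_nonZeroDivisors (M := P.presheaf.stalk w)
    (mem_nonZeroDivisors_of_ne_zero h2)
  have h3 : P.presheaf.germ W w hw s * P.presheaf.germ W w hw (p.appLE V W e c) = 0 := by
    rw [← map_mul, hs, map_zero]
  rw [h1] at h3
  have h4 : (X.presheaf.germ V (p w) hpw c) • (P.presheaf.germ W w hw s) =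
      (X.presheaf.germ V (p w) hpw c) • (0 : P.presheaf.stalk w) := by
    rw [smul_zero, Algebra.smul_def, RingHom.algebraMap_toAlgebra, mul_comm]
    exact h3
  exact hreg h4

theorem isIntegrallyClosed_of_saturated {B A : Type*} [CommRing B] [CommRing A] [IsDomain B]
    [IsDomain A] [IsIntegrallyClosed A] (j : B →+* A) (hj : Function.Injective j)
    (hsat : ∀ (f : A) (b1 b2 : B), b2 ≠ 0 → f * j b2 = j b1 → ∃ b, j b = f) :
    IsIntegrallyClosed B := by
  rw [isIntegrallyClosed_iff (FractionRing B)]
  intro x hx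
  have hg : Function.Injective ((algebraMap A (FractionRing A)).comp j) :=
    (IsFractionRing.injective A (FractionRing A)).comp hj
  let ψ : FractionRing B →+* FractionRing A := IsFractionRing.lift hg
  have hψ : ∀ b : B, ψ (algebraMap B (FractionRing B) b) = algebraMap A (FractionRing A) (j b) :=
    fun b => IsFractionRing.lift_algebraMap hg b
  have hint : IsIntegral A (ψ x) := by
    obtain ⟨p, hp, hpx⟩ := hx
    refine ⟨p.map j, hp.map j, ?_⟩
    rw [Polynomial.eval₂_map]
    have := congrArg ψ hpx
    rw [Polynomial.hom_eval₂, map_zero] at this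
    have hcomp : ψ.comp (algebraMap B (FractionRing B)) = (algebraMap A (FractionRing A)).comp j :=
      RingHom.ext hψ
    rw [hcomp] at this
    exact this
  obtain ⟨f, hf⟩ := IsIntegrallyClosed.algebraMap_eq_of_integral hint
  obtain ⟨b1, b2, hb2, rfl⟩ := IsFractionRing.div_surjective (A := B) x
  have hb2' : b2 ≠ 0 := nonZeroDivisors.ne_zero hb2
  have hne : algebraMap A (FractionRing A) (j b2) ≠ 0 := by
    intro h0
    apply hb2'
    apply hg
    rw [RingHom.comp_apply, h0, map_zero]
  have hfb : f * j b2 = j b1 := by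
    apply IsFractionRing.injective A (FractionRing A)
    rw [map_mul, hf, map_div₀, hψ, hψ, div_mul_cancel₀ _ hne]
  obtain ⟨b, hb⟩ := hsat f b1 b2 hb2' hfb
  refine ⟨b, ?_⟩
  have hne' : algebraMap B (FractionRing B) b2 ≠ 0 := by
    intro h0
    apply hb2'
    apply IsFractionRing.injective B (FractionRing B)
    rw [h0, map_zero]
  rw [eq_div_iff hne', ← map_mul]
  congr 1
  apply hj
  rw [map_mul, hb, hfb]


/-- Over an algebraically closed field k of characteristic zero, let an affine group scheme G of finite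
type act on a normal variety X (integral, separated, of finite type over k, with integrally closed
local rings) and let (Y, φ) be a geometric quotient of X by G with Y separated of finite type over
k. Then Y is normal. (The other two conditions of the published criterion are immediate from the
definition of a geometric quotient, and its converse rests on a result quoted there without proof;
only this implication is stated. A geometric quotient is taken here with φ universally submersive.) -/
theorem result (k : Type u) [Field k] [IsAlgClosed k] [CharZero k]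
    (G X Y : Over (Spec (CommRingCat.of k))) [GrpObj G] [IsAffine G.left] [LocallyOfFiniteType G.hom]
    [LocallyOfFiniteType X.hom] [QuasiCompact X.hom] [IsSeparated X.hom] [IsIntegral X.left]
    (hX : Pi1.IsNormalScheme X.left)
    [LocallyOfFiniteType Y.hom] [QuasiCompact Y.hom] [IsSeparated Y.hom]
    (a : AlgGrp.Action G X) (φ : X ⟶ Y) (h : GIT.IsGeomQuot a φ) :
    Pi1.IsNormalScheme Y.left := by
  have hdom : ∀ U : Y.left.Opens, Nonempty U → IsDomain Γ(Y.left, U) := by
    intro U hU
    obtain ⟨⟨y, hy⟩⟩ := hU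
    obtain ⟨x, rfl⟩ := h.surj y
    haveI : IsDomain Γ(X.left, φ.left ⁻¹ᵁ U) :=
      @IsIntegral.component_integral X.left _ (φ.left ⁻¹ᵁ U) ⟨⟨x, hy⟩⟩
    exact Function.Injective.isDomain (φ.left.app U).hom (h.sections U).1
  haveI : Nonempty Y.left := ⟨φ.left (Nonempty.some inferInstance)⟩
  haveI : IsIntegral Y.left := { nonempty := inferInstance, component_integral := fun U hU => hdom U hU }
  haveI : Flat G.hom := inferInstance
  haveI : Flat (snd G X).left := by
    rw [Over.snd_left]; infer_instance
  intro y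
  refine ⟨inferInstance, ?_⟩
  obtain ⟨_, ⟨U, hU, rfl⟩, hyU, -⟩ := Y.left.isBasis_affineOpens.exists_subset_of_mem_open
    (Set.mem_univ y) isOpen_univ
  have hneU : Nonempty U := ⟨⟨y, hyU⟩⟩
  obtain ⟨x, hx⟩ := h.surj y
  have hxV : x ∈ φ.left ⁻¹ᵁ U := by
    show φ.left.base x ∈ U
    rw [hx]; exact hyU
  haveI : IsDomain Γ(Y.left, U) := hdom U hneU
  haveI : IsDomain Γ(X.left, φ.left ⁻¹ᵁ U) :=
    @IsIntegral.component_integral X.left _ (φ.left ⁻¹ᵁ U) ⟨⟨x, hxV⟩⟩
  haveI : IsIntegrallyClosed Γ(X.left, φ.left ⁻¹ᵁ U) :=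
    @Groth.Agent.Lib.Helper20.NormNormal.isIntegrallyClosed_sections X.left _ (fun x => (hX x).2)
      (φ.left ⁻¹ᵁ U) ⟨⟨x, hxV⟩⟩
  haveI : IsIntegrallyClosed Γ(Y.left, U) := by
    apply isIntegrallyClosed_of_saturated (φ.left.app U).hom (h.sections U).1
    intro f b1 b2 hb2 hf
    have hmem : f ∈ Set.range (φ.left.app U) := by
      rw [(h.sections U).2]
      show GIT.IsInvSection a φ U f
      unfold GIT.IsInvSection
      have hb : ∀ b : Γ(Y.left, U),
          a.act.left.appLE (φ.left ⁻¹ᵁ U) (a.act.left ⁻¹ᵁ (φ.left ⁻¹ᵁ U) ⊓ (snd G X).left ⁻¹ᵁ (φ.left ⁻¹ᵁ U))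
            inf_le_left (φ.left.app U b) =
          (snd G X).left.appLE (φ.left ⁻¹ᵁ U) (a.act.left ⁻¹ᵁ (φ.left ⁻¹ᵁ U) ⊓ (snd G X).left ⁻¹ᵁ (φ.left ⁻¹ᵁ U))
            inf_le_right (φ.left.app U b) := by
        intro b
        have : φ.left.app U b ∈ {f | GIT.IsInvSection a φ U f} := by
          rw [← (h.sections U).2]; exact ⟨b, rfl⟩
        exact this
      have hc : (φ.left.app U b2 : Γ(X.left, φ.left ⁻¹ᵁ U)) ≠ 0 := by
        intro h0
        apply hb2
        apply (h.sections U).1
        rw [h0, map_zero]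
      rw [← sub_eq_zero]
      apply eq_zero_of_mul_appLE_eq_zero (snd G X).left (φ.left ⁻¹ᵁ U) _ inf_le_right
        (φ.left.app U b2) hc
      rw [sub_mul, sub_eq_zero]
      conv_lhs => rw [← hb b2]
      rw [← map_mul, ← map_mul]
      have hf' : f * (φ.left.app U b2) = φ.left.app U b1 := hf
      rw [hf', hb b1]
    exact hmem
  letI := TopCat.Presheaf.algebra_section_stalk Y.left.presheaf (⟨y, hyU⟩ : ↥U)
  haveI := hU.isLocalization_stalk ⟨y, hyU⟩
  exact isIntegrallyClosed_of_isLocalization (Y.left.presheaf.stalk y)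
    (hU.primeIdealOf ⟨y, hyU⟩).asIdeal.primeCompl (Ideal.primeCompl_le_nonZeroDivisors _)

end Groth.Agent.S18505
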