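import Groth.Statements.S18506
import Groth.Agent.Lib.Helper5.PrincAssoc
import Groth.Agent.Lib.Helper5.PrincQuot
import Groth.Agent.Lib.Helper5.DescLocSec

set_option autoImplicit false
universe u
open CategoryTheory MonoidalCategory CartesianMonoidalCategory MonObj GrpObj AlgebraicGeometry Topology
open EqInt

namespace Groth.Agent.S18506

/-- Over a field k, let an affine group scheme G of finite type act on X and on U (quasi-separated
schemes of finite type over k), and let π : U → B be a principal bundle quotient (π is G-invariant,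
flat and surjective and (σ, p₂) : G × U → U ×_B U is an isomorphism) which is locally trivial in the
Zariski topology: every point of B has an open neighbourhood over which π has a section. Then the
diagonal action of G on X × U has a principal bundle quotient X × U → Q in the category of schemes.
(The published hypothesis is that G is special, i.e. every principal G-bundle is Zariski-locally
trivial; only the local triviality of U → B is used, and it is what is assumed here.) -/
theorem result (k : Type u) [Field k]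
    (G X U B : Over (Spec (CommRingCat.of k))) [GrpObj G] [IsAffine G.left] [LocallyOfFiniteType G.hom]
    [LocallyOfFiniteType X.hom] [QuasiCompact X.hom] [QuasiSeparated X.hom]
    [LocallyOfFiniteType U.hom] [QuasiCompact U.hom] [QuasiSeparated U.hom]
    [LocallyOfFiniteType B.hom] [QuasiCompact B.hom] [QuasiSeparated B.hom]
    (a : AlgGrp.Action G X) (b : AlgGrp.Action G U) (π : U ⟶ B) (hinv : GIT.IsInvariant b π)
    [Flat π.left] [Surjective π.left] (hcart : IsIso (GIT.PsiY b π hinv))
    (hzar : ∀ y : ↥B.left, ∃ (W : B.left.Opens) (s : (↑W : Scheme.{u}) ⟶ U.left), y ∈ W ∧ s ≫ π.left = W.ι) :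
    ∃ (Q : Over (Spec (CommRingCat.of k))) (ρ : X ⊗ U ⟶ Q) (hρ : GIT.IsInvariant (a.prod b) ρ),
      Flat ρ.left ∧ Surjective ρ.left ∧ IsIso (GIT.PsiY (a.prod b) ρ hρ) := by
  -- the principal bundle square of π
  have hsq : IsPullback b.act.left (snd G U).left π.left π.left := by
    haveI := hcart
    exact IsPullback.of_iso_pullback ⟨hinv.left⟩ (asIso (GIT.PsiY b π hinv))
      (Limits.pullback.lift_fst _ _ _) (Limits.pullback.lift_snd _ _ _)
  -- π is a descent cover
  haveI : QuasiCompact π.left := by
    have hc : QuasiCompact (π.left ≫ B.hom) := by rw [Over.w π]; infer_instance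
    exact QuasiCompact.of_comp π.left B.hom
  haveI : Groth.Agent.Lib.Helper5.DescFunctor.IsDescCover π.left := inferInstance
  -- effectiveness of the descent datum of the associated bundle
  obtain ⟨W₀, ⟨θ⟩⟩ := Groth.Agent.Lib.Helper5.DescLocSec.effective_of_local_sections
    (Groth.Agent.Lib.Helper5.PrincDesc.assocDD b π hsq a) hzar
  obtain ⟨φ, hinvφ, hpb⟩ := Groth.Agent.Lib.Helper5.PrincAssoc.exists_assoc_of_iso b π hsq a W₀ θ
  -- swap the factors
  let sw : X ⊗ U ⟶ U ⊗ X := lift (snd X U) (fst X U)
  let sw' : U ⊗ X ⟶ X ⊗ U := lift (snd U X) (fst U X)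
  have hsw : sw ≫ sw' = 𝟙 _ := by
    apply CartesianMonoidalCategory.hom_ext <;> simp [sw, sw']
  have hsw' : sw' ≫ sw = 𝟙 _ := by
    apply CartesianMonoidalCategory.hom_ext <;> simp [sw, sw']
  let Q : Over (Spec (CommRingCat.of k)) := Over.mk (W₀.hom ≫ B.hom)
  let ψ : Q ⟶ B := Over.homMk W₀.hom rfl
  let ρ : X ⊗ U ⟶ Q := sw ≫ φ
  have hρ : GIT.IsInvariant (a.prod b) ρ := by
    change (a.prod b).act ≫ sw ≫ φ = snd G (X ⊗ U) ≫ sw ≫ φ
    have e1 : (a.prod b).act ≫ sw =
        (G ◁ sw) ≫ lift ((G ◁ fst U X) ≫ b.act) ((G ◁ snd U X) ≫ a.act) := by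
      rw [AlgGrp.Action.prod_act]
      apply CartesianMonoidalCategory.hom_ext
      · simp [sw, ← MonoidalCategory.whiskerLeft_comp_assoc]
      · simp [sw, ← MonoidalCategory.whiskerLeft_comp_assoc]
    have e2 : (G ◁ sw) ≫ snd G (U ⊗ X) = snd G (X ⊗ U) ≫ sw := by simp
    rw [← Category.assoc, e1, Category.assoc, hinvφ, ← Category.assoc, e2, Category.assoc]
  -- the cartesian square with the swapped product
  have hswl : sw'.left ≫ sw.left = 𝟙 _ := by
    rw [← Over.comp_left, hsw']; rfl
  have hswl' : sw.left ≫ sw'.left = 𝟙 _ := by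
    rw [← Over.comp_left, hsw]; rfl
  let e : (U ⊗ X).left ≅ (X ⊗ U).left := ⟨sw'.left, sw.left, hswl, hswl'⟩
  have hpb' : IsPullback (snd X U).left ρ.left π.left ψ.left := by
    refine hpb.of_iso e (Iso.refl _) (Iso.refl _) (Iso.refl _) ?_ ?_ ?_ ?_
    · change (fst U X).left ≫ 𝟙 _ = sw'.left ≫ (snd X U).left
      rw [Category.comp_id, ← Over.comp_left]
      simp [sw']
    · change φ.left ≫ 𝟙 _ = sw'.left ≫ (sw ≫ φ).left
      rw [Category.comp_id, Over.comp_left, ← Category.assoc, hswl, Category.id_comp]
    · simp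
    · simp [ψ]
  have hr : (a.prod b).act ≫ snd X U = (G ◁ snd X U) ≫ b.act := by
    rw [AlgGrp.Action.prod_act, lift_snd]
  have hact := Groth.Agent.Lib.Helper5.PrincQuot.isPullback_act_left b π hsq (a.prod b)
    (snd X U) hr ρ hρ ψ hpb'
  refine ⟨Q, ρ, hρ, ?_, ?_, ?_⟩
  · exact MorphismProperty.of_isPullback (P := @Flat) hpb' ‹Flat π.left›
  · exact MorphismProperty.of_isPullback (P := @Surjective) hpb' ‹Surjective π.left›
  · have : GIT.PsiY (a.prod b) ρ hρ = hact.isoPullback.hom := by
      apply Limits.pullback.hom_ext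
      · rw [IsPullback.isoPullback_hom_fst]; exact Limits.pullback.lift_fst _ _ _
      · rw [IsPullback.isoPullback_hom_snd]; exact Limits.pullback.lift_snd _ _ _
    rw [this]
    infer_instance

end Groth.Agent.S18506
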