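import Groth.Statements.S18508
import Mathlib
import Groth.Agent.Lib.Helper54.StabGrp
import Groth.Agent.Lib.Helper54.SectionIso
import Groth.Agent.Lib.Helper19.Cartier.Main
import Groth.Agent.Lib.Helper94.SmoothRed

set_option autoImplicit false
universe u
open CategoryTheory MonoidalCategory CartesianMonoidalCategory MonObj GrpObj AlgebraicGeometry Topology
open EqInt

namespace Groth.Agent.S18508

open CategoryTheory.Limits Groth.Agent.Lib.Helper54.StabGrp Groth.Agent.Lib.Helper81.GeomQuotOpen

/-- trivial fibres + section ⇒ universally injective -/
theorem universallyInjective_of_fibres {Y X : Scheme.{u}} (π : Y ⟶ X) (ε : X ⟶ Y) (hε : ε ≫ π = 𝟙 X)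
    (h : ∀ x, IsIso (π.fiberToSpecResidueField x)) : UniversallyInjective π := by
  refine ((tfae_universallyInjective π).out 0 1).mpr ?_
  intro K _ g₁ g₂ hg
  have hg' : g₁ ≫ π = g₂ ≫ π := hg
  have h1 : g₁ ≫ π = Spec.map (X.SpecToEquivOfField K (g₁ ≫ π)).2 ≫
      X.fromSpecResidueField (X.SpecToEquivOfField K (g₁ ≫ π)).1 :=
    ((X.SpecToEquivOfField K).symm_apply_apply (g₁ ≫ π)).symm
  have e1 := Groth.Agent.Lib.Helper54.SectionIso.eq_comp_section π ε hε _ (h _) g₁ _ h1
  have e2 := Groth.Agent.Lib.Helper54.SectionIso.eq_comp_section π ε hε _ (h _) g₂ _ (hg'.symm.trans h1)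
  rw [e1, e2]

/-- a morphism to `Spec κ` with a section, injective on points, with reduced source, separated, is an
isomorphism -/
theorem isIso_of_section_of_subsingleton {Z B : Scheme.{u}} (f : Z ⟶ B) (e : B ⟶ Z)
    (he : e ≫ f = 𝟙 B) [IsSeparated f] [IsReduced Z] (hinj : Function.Injective f.base) : IsIso f := by
  have h1 : IsClosedImmersion (e ≫ f) := by rw [he]; infer_instance
  have h2 : IsClosedImmersion e := IsClosedImmersion.of_comp e f
  have h3 : Surjective e := by
    refine ⟨fun z => ⟨f.base z, ?_⟩⟩
    apply hinj
    have := congrArg (fun m : B ⟶ B => m.base (f.base z)) he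
    simpa using this
  have h4 : IsIso e := isIso_of_isClosedImmersion_of_surjective e
  have h5 : f = inv e := by
    rw [← cancel_epi e, he, IsIso.hom_inv_id]
  rw [h5]
  infer_instance

/-- formally unramified and locally of finite type over a field ⇒ reduced -/
theorem isReduced_of_formallyUnramified {K : Type u} [Field K] {Z : Scheme.{u}}
    (s : Z ⟶ Spec (CommRingCat.of K)) [FormallyUnramified s] [LocallyOfFiniteType s] : IsReduced Z := by
  have : ∀ i, IsReduced (Z.affineCover.X i) := by
    intro i
    have hs : FormallyUnramified (Z.affineCover.f i ≫ s) :=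
      MorphismProperty.comp_mem _ _ _ inferInstance inferInstance
    have hs' : LocallyOfFiniteType (Z.affineCover.f i ≫ s) := inferInstance
    rw [HasRingHomProperty.iff_of_isAffine (P := @FormallyUnramified)] at hs
    rw [HasRingHomProperty.iff_of_isAffine (P := @LocallyOfFiniteType)] at hs'
    have e : CommRingCat.of K ≅ Γ(Spec (CommRingCat.of K), ⊤) := Scheme.ΓSpecIso _ |>.symm
    have h1 : (e.hom ≫ (Z.affineCover.f i ≫ s).appTop).hom.FormallyUnramified := by
      rw [CommRingCat.hom_comp]
      exact (RingHom.FormallyUnramified.respectsIso.cancel_left_isIso e.hom _).mpr hs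
    have h2 : (e.hom ≫ (Z.affineCover.f i ≫ s).appTop).hom.FiniteType := by
      rw [CommRingCat.hom_comp]
      exact (RingHom.finiteType_respectsIso.cancel_left_isIso e.hom _).mpr hs'
    algebraize [(e.hom ≫ (Z.affineCover.f i ≫ s).appTop).hom]
    have : _root_.IsReduced Γ(Z.affineCover.X i, ⊤) :=
      Algebra.FormallyUnramified.isReduced_of_field K _
    exact isReduced_of_isAffine_isReduced _
  exact IsReduced.of_openCover Z Z.affineCover

section
variable {S : Scheme.{u}} {G X : Over S} [GrpObj G] (a : AlgGrp.Action G X)

theorem unit_psi : lift (1 : X ⟶ G) (𝟙 X) ≫ GIT.psi a (𝟙 X) = lift (𝟙 X) (𝟙 X) := by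
  rw [psi_id, comp_lift, one_act', lift_snd]

theorem unit_psi_left : (lift (1 : X ⟶ G) (𝟙 X)).left ≫ (GIT.psi a (𝟙 X)).left =
    𝟙 X.left ≫ (lift (𝟙 X) (𝟙 X)).left := by
  rw [← Over.comp_left, unit_psi, Category.id_comp]

theorem stabπ_eq : stabπ a = pullback.fst (GIT.psi a (𝟙 X)).left (lift (𝟙 X) (𝟙 X)).left ≫
    (snd G X).left := by
  rw [← psi_left_snd, ← Category.assoc, pullback.condition, Category.assoc, diag_left_snd,
    Category.comp_id]

end


/-- Over a field k, let an affine group scheme G of finite type act on a separated scheme X of finite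
type over k, with stabilizer group scheme S = (G × X) ×_{X × X} X → X (the pullback of (σ, p₂) along
the diagonal). Assume that k has characteristic zero or that G is finite étale over k. Then the
action is set-theoretically free (S → X is universally injective: the stabilizer of every geometric
point inside the group of geometric points is trivial) if and only if it is geometrically free (for
every point x of X the fibre of S over x is Spec κ(x) through its structure map). (The source takes
X integral and tests geometric points with values in an algebraic closure of k; the statement here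
is over all points, which is what the argument gives pointwise.) -/
theorem result (k : Type u) [Field k]
    (G X : Over (Spec (CommRingCat.of k))) [GrpObj G] [IsAffine G.left] [LocallyOfFiniteType G.hom]
    [LocallyOfFiniteType X.hom] [QuasiCompact X.hom] [IsSeparated X.hom]
    (hG : CharZero k ∨ (IsFinite G.hom ∧ Etale G.hom)) (a : AlgGrp.Action G X) :
    UniversallyInjective (Limits.pullback.snd (GIT.psi a (𝟙 X)).left (CartesianMonoidalCategory.lift (𝟙 X) (𝟙 X)).left) ↔
      ∀ x : ↥X.left, IsIso ((Limits.pullback.snd (GIT.psi a (𝟙 X)).left (CartesianMonoidalCategory.lift (𝟙 X) (𝟙 X)).left).fiberToSpecResidueField x) := by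
  have hε : pullback.lift _ _ (unit_psi_left a) ≫ stabπ a = 𝟙 _ := pullback.lift_snd _ _ _
  -- properties of `snd G X`, `psi`, `π`
  have hGaff : IsAffineHom G.hom := inferInstance
  have hsnd_aff : IsAffineHom (snd G X).left := by
    rw [Over.snd_left]
    exact MorphismProperty.pullback_snd (P := @IsAffineHom) _ _ hGaff
  have hsnd_ft : LocallyOfFiniteType (snd G X).left := by
    rw [Over.snd_left]; infer_instance
  have hpsi_sep : IsSeparated (GIT.psi a (𝟙 X)).left := by
    have : IsSeparated ((GIT.psi a (𝟙 X)).left ≫ (snd X X).left) := by
      rw [psi_left_snd]; infer_instance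
    exact IsSeparated.of_comp _ (snd X X).left
  have hpsi_ft : LocallyOfFiniteType (GIT.psi a (𝟙 X)).left := by
    have : LocallyOfFiniteType ((GIT.psi a (𝟙 X)).left ≫ (snd X X).left) := by
      rw [psi_left_snd]; infer_instance
    exact locallyOfFiniteType_of_comp _ (snd X X).left
  have hπ_sep : IsSeparated (stabπ a) := inferInstance
  have hπ_ft : LocallyOfFiniteType (stabπ a) := inferInstance
  constructor
  · intro hinj x
    have hinj' : UniversallyInjective (stabπ a) := hinj
    have hf_inj : Function.Injective ((stabπ a).fiberToSpecResidueField x).base := by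
      have : UniversallyInjective ((stabπ a).fiberToSpecResidueField x) :=
        MorphismProperty.pullback_snd (P := @UniversallyInjective) _ _ hinj'
      exact ((stabπ a).fiberToSpecResidueField x).injective
    have hf_sep : IsSeparated ((stabπ a).fiberToSpecResidueField x) :=
      inferInstanceAs (IsSeparated (pullback.snd (stabπ a) (X.left.fromSpecResidueField x)))
    have hf_ft : LocallyOfFiniteType ((stabπ a).fiberToSpecResidueField x) :=
      inferInstanceAs (LocallyOfFiniteType (pullback.snd (stabπ a) (X.left.fromSpecResidueField x)))
    have hew : (X.left.fromSpecResidueField x ≫ pullback.lift _ _ (unit_psi_left a)) ≫ stabπ a =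
        𝟙 _ ≫ X.left.fromSpecResidueField x := by
      rw [Category.assoc, hε, Category.comp_id, Category.id_comp]
    have he : (pullback.lift _ _ hew : Spec (X.left.residueField x) ⟶ (stabπ a).fiber x) ≫
        (stabπ a).fiberToSpecResidueField x = 𝟙 _ := pullback.lift_snd _ _ _
    have hred : IsReduced ((stabπ a).fiber x) := by
      rcases hG with h0 | ⟨hfin, het⟩
      · let _ := stabGrpObj a
        let K := IsLocalRing.ResidueField (X.left.presheaf.stalk x)
        let f' : (stabπ a).fiber x ⟶ Spec (.of K) := (stabπ a).fiberToSpecResidueField x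
        let _ : GrpObj (Over.mk f') :=
          Over.grpObjMkPullbackSnd (f := stabπ a) (g := X.left.fromSpecResidueField x)
        have : LocallyOfFiniteType (Over.mk f').hom := hf_ft
        have hchar : CharZero K := by
          let q : CommRingCat.of k ⟶ X.left.residueField x :=
            Spec.preimage (X.left.fromSpecResidueField x ≫ X.hom)
          exact charZero_of_injective_ringHom (f := q.hom) (RingHom.injective _)
        have hsm : Smooth f' := Groth.Agent.Lib.Helper19.Cartier.smooth_of_charZero (Over.mk f')
        exact Groth.Agent.Lib.Helper94.isReduced_of_smooth_of_field f'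
      · have hsnd_et : Etale (snd G X).left := by
          rw [Over.snd_left]; infer_instance
        have hdiag_mono : Mono (lift (𝟙 X) (𝟙 X)).left :=
          mono_of_mono_fac (diag_left_fst (X := X))
        have h1 : FormallyUnramified (pullback.fst (GIT.psi a (𝟙 X)).left (lift (𝟙 X) (𝟙 X)).left) :=
          inferInstance
        have h2 : FormallyUnramified (stabπ a) := by
          rw [stabπ_eq]
          exact MorphismProperty.comp_mem _ _ _ h1 inferInstance
        let K := IsLocalRing.ResidueField (X.left.presheaf.stalk x)
        let f' : (stabπ a).fiber x ⟶ Spec (.of K) := (stabπ a).fiberToSpecResidueField x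
        have h3 : FormallyUnramified f' :=
          MorphismProperty.pullback_snd (P := @FormallyUnramified) _ _ h2
        have h4 : LocallyOfFiniteType f' := hf_ft
        exact isReduced_of_formallyUnramified f'
    exact isIso_of_section_of_subsingleton _ _ he hf_inj
  · intro h
    exact universallyInjective_of_fibres (stabπ a) _ hε h

end Groth.Agent.S18508
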