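import Groth.Statements.S18515
import Mathlib.AlgebraicGeometry.ValuativeCriterion
-- import your own Groth.Agent.* helpers here

set_option autoImplicit false
open CategoryTheory CategoryTheory.Limits MonoidalCategory CartesianMonoidalCategory MonObj GrpObj AlgebraicGeometry
universe u
open NonAbH1

namespace Groth.Agent.S18515

theorem isTorsorFor_restrict {S : Scheme.{u}} {G H X : Over S} [GrpObj G] [GrpObj H] (φ : H ⟶ G)
    [IsMonHom φ] [IsIso φ] (K : Precoverage Scheme.{u}) (a : AlgGrp.Action G X)
    (h : IsTorsorFor K a) : IsTorsorFor K (a.restrict φ) := by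
  refine ⟨?_, h.2⟩
  have h1 : lift (a.restrict φ).act (snd H X) = (φ ▷ X) ≫ lift a.act (snd G X) := by
    rw [comp_lift, AlgGrp.Action.restrict_act]
    congr 1
    simp
  unfold IsPseudoTorsorSch
  rw [h1]
  haveI : IsIso (lift a.act (snd G X)) := h.1
  infer_instance

theorem coh {S S1 S2 : Scheme.{u}} (j : S2 ⟶ S1) (r : S1 ⟶ S) {T : Scheme.{u}} (x : S ⟶ T)
    {s : S1 ⟶ T} {e : S2 ⟶ S} {d : S2 ⟶ T} (G : Over T)
    (hl2 : r ≫ x = s) (hc : j ≫ s = d) (hl1 : j ≫ r = e) (he : e ≫ x = d) :
    (Over.pullback j).map (ActBC.bcCompIso r x G hl2).hom ≫ (ActBC.bcCompIso j s G hc).hom =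
      (ActBC.bcCompIso j r (Red.bc x G) hl1).hom ≫ (ActBC.bcCompIso e x G he).hom := by
  ext
  apply pullback.hom_ext
  · simp only [Over.comp_left, Category.assoc, ActBC.bcCompIso_hom_left_fst,
      ActBC.pullback_map_left_fst_assoc, ActBC.bcCompIso_hom_left_fst_assoc]
  · exact (Over.w _).trans (Over.w _).symm

theorem coh' {S S1 S2 : Scheme.{u}} (j : S2 ⟶ S1) (r : S1 ⟶ S) {T : Scheme.{u}} (x : S ⟶ T)
    {s : S1 ⟶ T} {e : S2 ⟶ S} {d : S2 ⟶ T} (G : Over T)
    (hl2 : r ≫ x = s) (hc : j ≫ s = d) (hl1 : j ≫ r = e) (he : e ≫ x = d) :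
    (ActBC.bcCompIso j s G hc).inv ≫ (Over.pullback j).map (ActBC.bcCompIso r x G hl2).inv ≫
      (ActBC.bcCompIso j r (Red.bc x G) hl1).hom = (ActBC.bcCompIso e x G he).inv := by
  have h := coh j r x G hl2 hc hl1 he
  rw [Iso.inv_comp_eq, Iso.eq_comp_inv, Category.assoc, ← h, ← Functor.map_comp_assoc,
    Iso.inv_hom_id, CategoryTheory.Functor.map_id, Category.id_comp]

/-- A class represented by a torsor over a complete variety is unramified at every discrete valuation
ring of the function field. The published lemma assumes G finite, k algebraically closed of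
characteristic zero and K finitely generated over k; this row allows any field k, any field K and
any affine k-group scheme of finite type: let k be a field, X a proper k-scheme, G an affine k-group
scheme of finite type and P a torsor over X, locally trivial for the etale topology, under the base
change of G. For every field K with a k-morphism e : Spec K ⟶ X (for instance the generic point of
an integral X) and every discrete valuation ring R with fraction field K containing k compatibly,
there is a torsor Q over Spec R under the base change of G whose restriction to Spec K is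
equivariantly isomorphic to the pullback of P along e, both regarded as actions of the base change
of G to Spec K through the canonical identifications of iterated base changes. -/
theorem result
    (k K R : Type u) [Field k] [Field K] [Algebra k K]
    [CommRing R] [IsDomain R] [IsDiscreteValuationRing R] [Algebra k R] [Algebra R K] [IsFractionRing R K]
    (hc : Spec.map (CommRingCat.ofHom (algebraMap R K)) ≫ Spec.map (CommRingCat.ofHom (algebraMap k R)) =
      Spec.map (CommRingCat.ofHom (algebraMap k K)))
    (X : Scheme.{u}) (x : X ⟶ Spec (CommRingCat.of k)) [IsProper x]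
    (G : Over (Spec (CommRingCat.of k))) [GrpObj G] [IsAffine G.left] [LocallyOfFiniteType G.hom]
    (P : NonAbH1.TorsorSch (Red.bc x G) Scheme.etalePrecoverage)
    (e : Spec (CommRingCat.of K) ⟶ X) (he : e ≫ x = Spec.map (CommRingCat.ofHom (algebraMap k K))) :
    ∃ Q : NonAbH1.TorsorSch (Red.bc (Spec.map (CommRingCat.ofHom (algebraMap k R))) G) Scheme.etalePrecoverage,
      Nonempty (NonAbH1.EquivIso
        ((Q.act.bc (Spec.map (CommRingCat.ofHom (algebraMap R K)))).restrict
          (ActBC.bcCompIso (Spec.map (CommRingCat.ofHom (algebraMap R K)))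
            (Spec.map (CommRingCat.ofHom (algebraMap k R))) G hc).inv)
        ((P.act.bc e).restrict (ActBC.bcCompIso e x G he).inv)) := by
  have hex : ValuativeCriterion.Existence x := by
    have h1 : UniversallyClosed x := inferInstance
    rw [UniversallyClosed.eq_valuativeCriterion] at h1
    exact h1.1
  let Sq : ValuativeCommSq x :=
    { R := R, K := K, i₁ := e, i₂ := Spec.map (CommRingCat.ofHom (algebraMap k R)),
      commSq := ⟨by rw [he, hc]⟩ }
  obtain ⟨⟨l⟩⟩ := hex Sq
  have hl1 : Spec.map (CommRingCat.ofHom (algebraMap R K)) ≫ l.l = e := l.fac_left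
  have hl2 : l.l ≫ x = Spec.map (CommRingCat.ofHom (algebraMap k R)) := l.fac_right
  refine ⟨⟨Red.bc l.l P.X, (P.act.bc l.l).restrict (ActBC.bcCompIso l.l x G hl2).inv,
    isTorsorFor_restrict _ _ _ (isTorsorFor_bc l.l _ P.isTorsor)⟩, ⟨?_⟩⟩
  have E := ActBC.equivIsoBcComp (Spec.map (CommRingCat.ofHom (algebraMap R K))) l.l hl1 P.act
  refine ⟨E.iso, ?_⟩
  have hE := E.comm
  simp only [AlgGrp.Action.restrict_act] at hE ⊢
  rw [AlgGrp.Action.bc_restrict, AlgGrp.Action.restrict_act]
  simp only [Category.assoc]
  rw [hE, ← whisker_exchange_assoc, ← whisker_exchange_assoc, ← comp_whiskerRight_assoc,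
    ← comp_whiskerRight_assoc, Category.assoc, coh' _ _ _ _ hl2 hc hl1 he]

end Groth.Agent.S18515
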