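import Mathlib
import Groth.Statements.S18535
import Groth.Agent.S1964
import Groth.Agent.Lib.Helper9.HenselSplit

set_option autoImplicit false
universe u
open EtAlg

namespace Groth.Agent.S18535

set_option linter.style.haveILetI false
set_option linter.unusedSectionVars false

open Polynomial
open scoped Pointwise

local notation "𝔪" => IsLocalRing.maximalIdeal

theorem henselianLocalRing_of_isAdicComplete (R : Type u) [CommRing R] [IsLocalRing R]
    [IsAdicComplete (IsLocalRing.maximalIdeal R) R] : HenselianLocalRing R := by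
  have h : HenselianRing R (IsLocalRing.maximalIdeal R) := inferInstance
  refine { is_henselian := ?_ }
  intro f hf a₀ h₁ h₂
  exact h.is_henselian f hf a₀ h₁ (h₂.map _)

theorem eq_of_isRoot_of_sub_mem {S : Type*} [CommRing S] [IsLocalRing S] (P : S[X]) {a b : S}
    (ha : P.IsRoot a) (hb : P.IsRoot b) (hab : b - a ∈ IsLocalRing.maximalIdeal S)
    (hu : IsUnit (P.derivative.eval a)) : a = b := by
  obtain ⟨k, hk⟩ := Polynomial.binomExpansion P a (b - a)
  rw [add_sub_cancel, hb.eq_zero, ha.eq_zero, zero_add] at hk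
  have h1 : (b - a) * (P.derivative.eval a + k * (b - a)) = 0 := by
    rw [hk]; ring
  have h2 : IsUnit (P.derivative.eval a + k * (b - a)) := by
    by_contra hnu
    have h3 : P.derivative.eval a + k * (b - a) ∈ IsLocalRing.maximalIdeal S :=
      (IsLocalRing.mem_maximalIdeal _).2 hnu
    have h4 : P.derivative.eval a ∈ IsLocalRing.maximalIdeal S := by
      have := Ideal.sub_mem _ h3 (Ideal.mul_mem_left _ k hab)
      rwa [add_sub_cancel_right] at this
    exact (IsLocalRing.mem_maximalIdeal _).1 h4 hu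
  have h5 : b - a = 0 := by
    have := congrArg (· * (h2.unit⁻¹ : Sˣ).val) h1
    simpa [mul_assoc] using this
  exact (sub_eq_zero.1 h5).symm

theorem smul_aeval {R S G : Type*} [CommRing R] [CommRing S] [Algebra R S] [Group G]
    [MulSemiringAction G S] [SMulCommClass G R S] (g : G) (q : R[X]) (θ : S) :
    g • (aeval θ q) = aeval (g • θ) q := by
  have h1 : (MulSemiringAction.toRingHom G S g).comp (algebraMap R S) = algebraMap R S := by
    ext r
    simp [smul_algebraMap]
  show MulSemiringAction.toRingHom G S g (aeval θ q) = _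
  rw [aeval_def, Polynomial.hom_eval₂, h1]
  rfl

theorem finite_of_isGaloisGroup (R S G : Type u) [CommRing R] [CommRing S] [IsDomain R] [IsDomain S]
    [IsNoetherianRing R] [IsIntegrallyClosed R]
    [Algebra R S] [FaithfulSMul R S] [IsIntegrallyClosed S]
    [Group G] [Finite G] [MulSemiringAction G S] [SMulCommClass G R S] [IsGaloisGroup G R S] :
    Module.Finite R S := by
  haveI : Algebra.IsIntegral R S := Algebra.IsInvariant.isIntegral R S G
  letI := FractionRing.liftAlgebra R (FractionRing S)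
  letI := IsFractionRing.mulSemiringAction G S (FractionRing S)
  haveI : IsGaloisGroup G (FractionRing R) (FractionRing S) := inferInstance
  haveI : IsGalois (FractionRing R) (FractionRing S) := IsGaloisGroup.isGalois G _ _
  haveI : FiniteDimensional (FractionRing R) (FractionRing S) := IsGaloisGroup.finiteDimensional G _ _
  haveI : IsIntegralClosure S R (FractionRing S) := IsIntegralClosure.of_isIntegrallyClosed S R _
  exact IsIntegralClosure.finite R (FractionRing R) (FractionRing S) S

theorem inertia_eq_bot_of_unramified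
    (R S G : Type u) [CommRing R] [CommRing S] [IsDomain R] [IsDomain S]
    [IsNoetherianRing R] [IsLocalRing R] [IsIntegrallyClosed R]
    [IsAdicComplete (IsLocalRing.maximalIdeal R) R]
    [Algebra R S] [FaithfulSMul R S] [IsIntegrallyClosed S]
    [Group G] [Finite G] [MulSemiringAction G S] [SMulCommClass G R S] [IsGaloisGroup G R S]
    (n : Ideal S) [n.IsMaximal] [n.LiesOver (IsLocalRing.maximalIdeal R)]
    (h1 : (IsLocalRing.maximalIdeal R).map (algebraMap R S) = n)
    (h2 : Module.Finite (R ⧸ IsLocalRing.maximalIdeal R) (S ⧸ n))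
    (h3 : Algebra.IsSeparable (R ⧸ IsLocalRing.maximalIdeal R) (S ⧸ n)) :
    n.toAddSubgroup.inertia G = ⊥ := by
  classical
  haveI hR := henselianLocalRing_of_isAdicComplete R
  haveI hint : Algebra.IsIntegral R S := Algebra.IsInvariant.isIntegral R S G
  haveI hS : HenselianLocalRing S := Groth.Agent.S1964.henselian R S
  have hn : n = IsLocalRing.maximalIdeal S := IsLocalRing.eq_maximalIdeal inferInstance
  haveI hfin : Module.Finite R S := finite_of_isGaloisGroup R S G
  letI fk : Field (R ⧸ IsLocalRing.maximalIdeal R) := Ideal.Quotient.field _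
  letI fκ : Field (S ⧸ n) := Ideal.Quotient.field _
  obtain ⟨tb, htb⟩ := Field.exists_primitive_element (R ⧸ IsLocalRing.maximalIdeal R) (S ⧸ n)
  have hadj : Algebra.adjoin (R ⧸ 𝔪 R) {tb} = ⊤ := by
    have h := IntermediateField.adjoin_simple_toSubalgebra_of_isAlgebraic (F := R ⧸ 𝔪 R) (α := tb)
      (Algebra.IsAlgebraic.isAlgebraic tb)
    rw [htb] at h
    rw [← h, IntermediateField.top_toSubalgebra]
  have hPlift : minpoly (R ⧸ 𝔪 R) tb ∈ lifts (Ideal.Quotient.mk (𝔪 R)) :=
    (Polynomial.mem_lifts _).2 (map_surjective _ Ideal.Quotient.mk_surjective _)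
  obtain ⟨P, hPmap, -, hPmonic⟩ := lifts_and_degree_eq_and_monic hPlift
    (minpoly.monic (Algebra.IsIntegral.isIntegral tb))
  have hcomp : (Ideal.Quotient.mk n).comp (algebraMap R S) =
      (algebraMap (R ⧸ 𝔪 R) (S ⧸ n)).comp (Ideal.Quotient.mk (𝔪 R)) := rfl
  have hmk : ∀ (Q : R[X]) (x : S), Ideal.Quotient.mk n x = tb →
      Ideal.Quotient.mk n ((Q.map (algebraMap R S)).eval x) = aeval tb (Q.map (Ideal.Quotient.mk (𝔪 R))) := by
    intro Q x hx
    rw [eval_map, Polynomial.hom_eval₂, hcomp, hx, aeval_def, eval₂_map]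
  have hsepP : (minpoly (R ⧸ 𝔪 R) tb).Separable := Algebra.IsSeparable.isSeparable (R ⧸ 𝔪 R) tb
  have hder : ∀ x : S, Ideal.Quotient.mk n x = tb →
      IsUnit ((P.map (algebraMap R S)).derivative.eval x) := by
    intro x hx
    by_contra hnu
    have h4 : (P.map (algebraMap R S)).derivative.eval x ∈ n := by
      rw [hn]; exact (IsLocalRing.mem_maximalIdeal _).2 hnu
    rw [← Ideal.Quotient.eq_zero_iff_mem, derivative_map, hmk _ x hx, ← derivative_map, hPmap] at h4
    exact hsepP.aeval_derivative_ne_zero (minpoly.aeval _ _) h4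
  obtain ⟨θ₀, hθ₀⟩ := Ideal.Quotient.mk_surjective tb
  have hroot₀ : (P.map (algebraMap R S)).eval θ₀ ∈ IsLocalRing.maximalIdeal S := by
    rw [← hn, ← Ideal.Quotient.eq_zero_iff_mem, hmk P θ₀ hθ₀, hPmap, minpoly.aeval]
  obtain ⟨θ, hθroot, hθsub⟩ := HenselianLocalRing.is_henselian (P.map (algebraMap R S))
    (hPmonic.map _) θ₀ hroot₀ (hder θ₀ hθ₀)
  have hθ : Ideal.Quotient.mk n θ = tb := by
    rw [← hθ₀, ← sub_eq_zero, ← map_sub, Ideal.Quotient.eq_zero_iff_mem, hn]
    exact hθsub
  have htop : Algebra.adjoin R {θ} = ⊤ := by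
    rw [eq_top_iff]
    have hle : (⊤ : Submodule R S) ≤ Subalgebra.toSubmodule (Algebra.adjoin R {θ}) := by
      refine Submodule.le_of_le_smul_of_le_jacobson_bot (I := 𝔪 R) Module.Finite.fg_top
        (IsLocalRing.maximalIdeal_le_jacobson ⊥) ?_
      intro s _
      have hs : Ideal.Quotient.mk n s ∈ Algebra.adjoin (R ⧸ 𝔪 R) {tb} := by rw [hadj]; trivial
      rw [Algebra.adjoin_singleton_eq_range_aeval] at hs
      obtain ⟨qb, hqb⟩ := hs
      obtain ⟨q, rfl⟩ := map_surjective _ Ideal.Quotient.mk_surjective qb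
      rw [Submodule.mem_sup]
      refine ⟨aeval θ q, ?_, s - aeval θ q, ?_, by ring⟩
      · rw [Subalgebra.mem_toSubmodule, Algebra.adjoin_singleton_eq_range_aeval]
        exact ⟨q, rfl⟩
      · rw [Ideal.smul_top_eq_map, Submodule.restrictScalars_mem, h1,
          ← Ideal.Quotient.eq_zero_iff_mem, map_sub, sub_eq_zero]
        have := hmk q θ hθ
        rw [eval_map, ← aeval_def] at this
        rw [this]
        exact hqb.symm
    intro s _
    exact hle (Submodule.mem_top)
  ext g
  rw [Subgroup.mem_bot]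
  constructor
  · intro hg
    have hgθ : θ = g • θ := by
      refine eq_of_isRoot_of_sub_mem (P.map (algebraMap R S)) hθroot ?_ ?_ (hder θ hθ)
      · show (P.map (algebraMap R S)).eval (g • θ) = 0
        rw [eval_map, ← aeval_def, ← smul_aeval, aeval_def, ← eval_map, hθroot.eq_zero, smul_zero]
      · rw [← hn]; exact hg θ
    have hfix : ∀ s : S, g • s = s := by
      intro s
      have hs : s ∈ Algebra.adjoin R {θ} := by rw [htop]; trivial
      rw [Algebra.adjoin_singleton_eq_range_aeval] at hs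
      obtain ⟨q, rfl⟩ := hs
      show g • (aeval θ q) = aeval θ q
      rw [smul_aeval, ← hgθ]
    haveI : FaithfulSMul G S := IsGaloisGroup.faithful R
    exact FaithfulSMul.eq_of_smul_eq_smul (fun s => by rw [hfix s, one_smul])
  · rintro rfl
    exact Subgroup.one_mem _

section Lagrange

variable {S G : Type*} [CommRing S] [Group G] [Fintype G] [DecidableEq G] [MulSemiringAction G S]

noncomputable def lag (θ : S) (σ : G) : S[X] :=
  ∏ τ ∈ Finset.univ.erase σ, (C (Ring.inverse (σ • θ - τ • θ)) * (X - C (τ • θ)))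

theorem eval_lag (θ : S) (hθ : ∀ σ τ : G, σ ≠ τ → IsUnit (σ • θ - τ • θ)) (σ ρ : G) :
    (lag θ σ).eval (ρ • θ) = if ρ = σ then 1 else 0 := by
  unfold lag
  rw [eval_prod]
  split_ifs with h
  · subst h
    refine Finset.prod_eq_one fun τ hτ => ?_
    have hne : ρ ≠ τ := fun h => (Finset.ne_of_mem_erase hτ) h.symm
    simp only [eval_mul, eval_C, eval_sub, eval_X]
    exact Ring.inverse_mul_cancel _ (hθ ρ τ hne)
  · refine Finset.prod_eq_zero (i := ρ) (Finset.mem_erase.2 ⟨h, Finset.mem_univ _⟩) ?_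
    simp

theorem smul_inverse (ρ : G) (x : S) : ρ • Ring.inverse x = Ring.inverse (ρ • x) := by
  by_cases hx : IsUnit x
  · have h1 : (ρ • x) * (ρ • Ring.inverse x) = 1 := by
      rw [← smul_mul', Ring.mul_inverse_cancel _ hx, smul_one]
    have hu : IsUnit (ρ • x) := IsUnit.of_mul_eq_one _ h1
    calc ρ • Ring.inverse x = Ring.inverse (ρ • x) * ((ρ • x) * (ρ • Ring.inverse x)) := by
          rw [← mul_assoc, Ring.inverse_mul_cancel _ hu, one_mul]
      _ = Ring.inverse (ρ • x) := by rw [h1, mul_one]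
  · have hu : ¬ IsUnit (ρ • x) := by
      intro h
      apply hx
      have : x = ρ⁻¹ • (ρ • x) := by rw [inv_smul_smul]
      rw [this]
      exact (MulSemiringAction.toRingEquiv G S ρ⁻¹).toRingHom.isUnit_map h
    rw [Ring.inverse_non_unit _ hx, Ring.inverse_non_unit _ hu, smul_zero]

theorem map_lag (θ : S) (σ ρ : G) :
    (lag θ σ).map (MulSemiringAction.toRingHom G S ρ) = lag θ (ρ * σ) := by
  unfold lag
  rw [Polynomial.map_prod]
  refine Finset.prod_bij (fun τ _ => ρ * τ) ?_ ?_ ?_ ?_
  · intro τ hτ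
    rw [Finset.mem_erase] at hτ ⊢
    exact ⟨fun h => hτ.1 (mul_left_cancel h), Finset.mem_univ _⟩
  · intro a _ b _ h
    exact mul_left_cancel h
  · intro τ hτ
    refine ⟨ρ⁻¹ * τ, ?_, by simp⟩
    rw [Finset.mem_erase] at hτ ⊢
    refine ⟨fun h => hτ.1 ?_, Finset.mem_univ _⟩
    rw [← h]; simp
  · intro τ _
    simp only [Polynomial.map_mul, map_C, Polynomial.map_sub, map_X,
      MulSemiringAction.toRingHom_apply, smul_inverse, smul_sub, mul_smul]

noncomputable def lagQ (θ s : S) : S[X] := ∑ σ : G, C (σ • s) * lag θ σ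

theorem eval_lagQ (θ : S) (hθ : ∀ σ τ : G, σ ≠ τ → IsUnit (σ • θ - τ • θ)) (s : S) :
    (lagQ (G := G) θ s).eval θ = s := by
  unfold lagQ
  rw [eval_finsetSum]
  have h1 : ∀ σ : G, (C (σ • s) * lag θ σ).eval θ = if σ = 1 then s else 0 := by
    intro σ
    have := eval_lag θ hθ σ 1
    rw [one_smul] at this
    rw [eval_mul, eval_C, this]
    by_cases h : σ = 1
    · subst h; simp
    · rw [if_neg h, if_neg (Ne.symm h), mul_zero]
  simp_rw [h1]
  simp

theorem map_lagQ (θ s : S) (ρ : G) :
    (lagQ (G := G) θ s).map (MulSemiringAction.toRingHom G S ρ) = lagQ (G := G) θ s := by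
  unfold lagQ
  rw [Polynomial.map_sum]
  simp only [Polynomial.map_mul, map_C, map_lag, MulSemiringAction.toRingHom_apply, ← mul_smul]
  exact Fintype.sum_equiv (Equiv.mulLeft ρ) _ _ (fun σ => rfl)

theorem coeff_lagQ_mem (θ s : S) (J : Ideal S) (hJ : ∀ σ : G, σ • s ∈ J) (k : ℕ) :
    (lagQ (G := G) θ s).coeff k ∈ J := by
  unfold lagQ
  rw [finsetSum_coeff]
  refine Ideal.sum_mem _ fun σ _ => ?_
  rw [coeff_C_mul]
  exact Ideal.mul_mem_right _ _ (hJ σ)

end Lagrange

theorem smul_mem_of_isLocalRing {S G : Type*} [CommRing S] [IsLocalRing S] [Group G]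
    [MulSemiringAction G S] (g : G) {x : S} (hx : x ∈ IsLocalRing.maximalIdeal S) :
    g • x ∈ IsLocalRing.maximalIdeal S := by
  rw [IsLocalRing.mem_maximalIdeal, mem_nonunits_iff] at hx ⊢
  intro h
  apply hx
  have : x = g⁻¹ • (g • x) := by rw [inv_smul_smul]
  rw [this]
  exact (MulSemiringAction.toRingEquiv G S g⁻¹).toRingHom.isUnit_map h

theorem exists_theta (R S G : Type u) [CommRing R] [CommRing S] [IsLocalRing R] [IsLocalRing S]
    [Algebra R S] [Group G] [Finite G] [MulSemiringAction G S] [SMulCommClass G R S]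
    (n : Ideal S) [n.IsMaximal] [n.LiesOver (IsLocalRing.maximalIdeal R)]
    (hn : n = IsLocalRing.maximalIdeal S)
    (hI : n.toAddSubgroup.inertia G = ⊥) :
    ∃ θ : S, ∀ σ : G, σ ≠ 1 → σ • θ - θ ∉ n := by
  classical
  have hmem : ∀ (g : G) (x : S), x ∈ n → g • x ∈ n := by
    intro g x hx
    rw [hn] at hx ⊢
    exact smul_mem_of_isLocalRing g hx
  have hstab : ∀ g : G, g ∈ MulAction.stabilizer G n := by
    intro g
    rw [MulAction.mem_stabilizer_iff]
    ext x
    rw [Ideal.mem_pointwise_smul_iff_inv_smul_mem]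
    constructor
    · intro h
      have := hmem g _ h
      rwa [smul_inv_smul] at this
    · exact hmem g⁻¹ x
  let toStab : G →* MulAction.stabilizer G n := (MonoidHom.id G).codRestrict _ hstab
  let φ : G →* ((S ⧸ n) ≃ₐ[R ⧸ IsLocalRing.maximalIdeal R] (S ⧸ n)) :=
    (Ideal.Quotient.stabilizerHom n (IsLocalRing.maximalIdeal R) G).comp toStab
  letI fκ : Field (S ⧸ n) := Ideal.Quotient.field _
  letI act : MulSemiringAction G (S ⧸ n) := MulSemiringAction.compHom (S ⧸ n) φ
  have hact : ∀ (g : G) (x : S), g • (Ideal.Quotient.mk n x) = Ideal.Quotient.mk n (g • x) :=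
    fun g x => rfl
  haveI hfaith : FaithfulSMul G (S ⧸ n) := by
    refine ⟨fun {g₁ g₂} h => ?_⟩
    have h1 : g₂⁻¹ * g₁ ∈ n.toAddSubgroup.inertia G := by
      intro x
      have h2 := h (Ideal.Quotient.mk n x)
      rw [hact, hact, ← sub_eq_zero, ← map_sub, Ideal.Quotient.eq_zero_iff_mem] at h2
      have h3 := hmem g₂⁻¹ _ h2
      rw [smul_sub, inv_smul_smul, ← mul_smul] at h3
      exact h3
    rw [hI, Subgroup.mem_bot] at h1
    exact (inv_mul_eq_one.1 h1).symm
  haveI : Fintype G := Fintype.ofFinite G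
  obtain ⟨tb, htb⟩ := Field.exists_primitive_element (FixedPoints.subfield G (S ⧸ n)) (S ⧸ n)
  have hadj : Algebra.adjoin (FixedPoints.subfield G (S ⧸ n)) {tb} = ⊤ :=
    Algebra.adjoin_eq_top_of_primitive_element (Algebra.IsAlgebraic.isAlgebraic tb) htb
  obtain ⟨θ, rfl⟩ := Ideal.Quotient.mk_surjective tb
  refine ⟨θ, fun σ hσ hmemn => hσ ?_⟩
  have hσθ : σ • (Ideal.Quotient.mk n θ) = Ideal.Quotient.mk n θ := by
    rw [hact, ← sub_eq_zero, ← map_sub, Ideal.Quotient.eq_zero_iff_mem]
    exact hmemn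
  have halg : MulSemiringAction.toAlgHom (FixedPoints.subfield G (S ⧸ n)) (S ⧸ n) σ =
      AlgHom.id _ _ := by
    refine AlgHom.ext_of_adjoin_eq_top hadj ?_
    rintro x (rfl : x = _)
    exact hσθ
  refine FaithfulSMul.eq_of_smul_eq_smul (α := S ⧸ n) fun x => ?_
  rw [one_smul]
  exact congrArg (fun f => f x) halg


theorem unramified_of_inertia_eq_bot
    (R S G : Type u) [CommRing R] [CommRing S] [IsDomain R] [IsDomain S]
    [IsNoetherianRing R] [IsLocalRing R] [IsIntegrallyClosed R]
    [IsAdicComplete (IsLocalRing.maximalIdeal R) R]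
    [Algebra R S] [FaithfulSMul R S] [IsIntegrallyClosed S]
    [Group G] [Finite G] [MulSemiringAction G S] [SMulCommClass G R S] [IsGaloisGroup G R S]
    (n : Ideal S) [n.IsMaximal] [n.LiesOver (IsLocalRing.maximalIdeal R)]
    (hI : n.toAddSubgroup.inertia G = ⊥) :
    (IsLocalRing.maximalIdeal R).map (algebraMap R S) = n ∧
      Module.Finite (R ⧸ IsLocalRing.maximalIdeal R) (S ⧸ n) ∧
      Algebra.IsSeparable (R ⧸ IsLocalRing.maximalIdeal R) (S ⧸ n) := by
  classical
  haveI hR := henselianLocalRing_of_isAdicComplete R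
  haveI hint : Algebra.IsIntegral R S := Algebra.IsInvariant.isIntegral R S G
  haveI hSloc : IsLocalRing S := Groth.Agent.S1964.isLocalRing R S
  have hn : n = IsLocalRing.maximalIdeal S := IsLocalRing.eq_maximalIdeal inferInstance
  haveI : Fintype G := Fintype.ofFinite G
  obtain ⟨θ, hθ⟩ := exists_theta R S G n hn hI
  have hmem : ∀ (g : G) (x : S), x ∈ n → g • x ∈ n := by
    intro g x hx
    rw [hn] at hx ⊢
    exact smul_mem_of_isLocalRing g hx
  have hnotmem : ∀ σ τ : G, σ ≠ τ → σ • θ - τ • θ ∉ n := by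
    intro σ τ hne h3
    have h1 : τ⁻¹ * σ ≠ 1 := fun h => hne (by rw [inv_mul_eq_one] at h; exact h.symm)
    have h4 := hmem τ⁻¹ _ h3
    rw [smul_sub, inv_smul_smul, ← mul_smul] at h4
    exact hθ _ h1 h4
  have hunit : ∀ σ τ : G, σ ≠ τ → IsUnit (σ • θ - τ • θ) := by
    intro σ τ hne
    by_contra hnu
    exact hnotmem σ τ hne (hn ▸ (IsLocalRing.mem_maximalIdeal _).2 hnu)
  haveI hinv : Algebra.IsInvariant R S G := IsGaloisGroup.isInvariant
  have hlift : ∀ s : S, ∃ Q₀ : R[X], Q₀.map (algebraMap R S) = lagQ (G := G) θ s := by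
    intro s
    have : lagQ (G := G) θ s ∈ lifts (algebraMap R S) := by
      rw [lifts_iff_coeff_lifts]
      intro k
      apply Algebra.IsInvariant.isInvariant (A := R) (G := G)
      intro g
      have := congrArg (fun p => p.coeff k) (map_lagQ θ s g)
      simpa [coeff_map] using this
    exact (mem_lifts _).1 this
  have hcomp : (Ideal.Quotient.mk n).comp (algebraMap R S) =
      (algebraMap (R ⧸ 𝔪 R) (S ⧸ n)).comp (Ideal.Quotient.mk (𝔪 R)) := rfl
  have hmk : ∀ (Q : R[X]) (x : S),
      Ideal.Quotient.mk n ((Q.map (algebraMap R S)).eval x) =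
        aeval (Ideal.Quotient.mk n x) (Q.map (Ideal.Quotient.mk (𝔪 R))) := by
    intro Q x
    rw [eval_map, Polynomial.hom_eval₂, hcomp, aeval_def, eval₂_map]
  refine ⟨le_antisymm ?_ ?_, ?_⟩
  · rw [Ideal.map_le_iff_le_comap]
    exact le_of_eq (Ideal.LiesOver.over (p := 𝔪 R) (P := n))
  · intro x hx
    obtain ⟨Q₀, hQ₀⟩ := hlift x
    have hcoeff : ∀ k, Q₀.coeff k ∈ 𝔪 R := by
      intro k
      have h1 := coeff_lagQ_mem (G := G) θ x n (fun σ => hmem σ x hx) k
      rw [← hQ₀, coeff_map] at h1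
      rw [Ideal.LiesOver.over (p := 𝔪 R) (P := n), Ideal.under_def, Ideal.mem_comap]
      exact h1
    have hx' : x = (Q₀.map (algebraMap R S)).eval θ := by rw [hQ₀, eval_lagQ θ hunit]
    rw [hx', eval_map, eval₂_eq_sum_range]
    exact Ideal.sum_mem _ fun k _ => Ideal.mul_mem_right _ _ (Ideal.mem_map_of_mem _ (hcoeff k))
  · letI fk : Field (R ⧸ 𝔪 R) := Ideal.Quotient.field _
    letI fκ : Field (S ⧸ n) := Ideal.Quotient.field _
    have hadjk : Algebra.adjoin (R ⧸ 𝔪 R) {Ideal.Quotient.mk n θ} = ⊤ := by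
      rw [eq_top_iff]
      intro y _
      obtain ⟨s, rfl⟩ := Ideal.Quotient.mk_surjective y
      obtain ⟨Q₀, hQ₀⟩ := hlift s
      have hs : s = (Q₀.map (algebraMap R S)).eval θ := by rw [hQ₀, eval_lagQ θ hunit]
      rw [hs, hmk, Algebra.adjoin_singleton_eq_range_aeval]
      exact ⟨_, rfl⟩
    obtain ⟨P₀, hP₀⟩ := (mem_lifts _).1 (Algebra.IsInvariant.charpoly_mem_lifts R S G θ)
    have hPmap : (P₀.map (Ideal.Quotient.mk (𝔪 R))).map (algebraMap (R ⧸ 𝔪 R) (S ⧸ n)) =
        ∏ σ : G, (X - C (Ideal.Quotient.mk n (σ • θ))) := by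
      rw [Polynomial.map_map, ← hcomp, ← Polynomial.map_map, hP₀,
        MulSemiringAction.charpoly_eq, Polynomial.map_prod]
      simp
    have hsepκ : (∏ σ : G, (X - C (Ideal.Quotient.mk n (σ • θ)))).Separable := by
      rw [separable_prod_X_sub_C_iff]
      intro σ τ h
      by_contra hne
      apply hnotmem σ τ hne
      rwa [← Ideal.Quotient.eq_zero_iff_mem, map_sub, sub_eq_zero]
    have hsepk : (P₀.map (Ideal.Quotient.mk (𝔪 R))).Separable := by
      rw [← separable_map (algebraMap (R ⧸ 𝔪 R) (S ⧸ n)), hPmap]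
      exact hsepκ
    have hroot : aeval (Ideal.Quotient.mk n θ) (P₀.map (Ideal.Quotient.mk (𝔪 R))) = 0 := by
      rw [aeval_def, ← eval_map, hPmap, eval_prod]
      refine Finset.prod_eq_zero (Finset.mem_univ (1 : G)) ?_
      simp
    have hsepθ : IsSeparable (R ⧸ 𝔪 R) (Ideal.Quotient.mk n θ) :=
      hsepk.of_dvd (minpoly.dvd _ _ hroot)
    constructor
    · have hfg := hsepθ.isIntegral.fg_adjoin_singleton
      rw [hadjk, Algebra.top_toSubmodule] at hfg
      exact ⟨hfg⟩
    · rw [← separableClosure.eq_top_iff]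
      apply IntermediateField.toSubalgebra_injective
      rw [IntermediateField.top_toSubalgebra, eq_top_iff, ← hadjk]
      refine Algebra.adjoin_le ?_
      rintro x (rfl : x = _)
      exact mem_separableClosure_iff.2 hsepθ

/-- Let R be a complete Noetherian local normal domain with maximal ideal m, let S be a normal domain
containing R on which a finite group G acts by R-algebra automorphisms, faithfully and with ring of
invariants exactly R (so that S is the integral closure of R in some finite Galois extension, with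
group G, of Frac R), and let n be a maximal ideal of S over m. Then the inertia subgroup of n in G
(the elements g with g s - s ∈ n for all s ∈ S) is trivial if and only if mS = n and the residue
field S/n is finite and separable over R/m. -/
theorem result
    (R S G : Type u) [CommRing R] [CommRing S] [IsDomain R] [IsDomain S]
    [IsNoetherianRing R] [IsLocalRing R] [IsIntegrallyClosed R]
    [IsAdicComplete (IsLocalRing.maximalIdeal R) R]
    [Algebra R S] [FaithfulSMul R S] [IsIntegrallyClosed S]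
    [Group G] [Finite G] [MulSemiringAction G S] [SMulCommClass G R S] [IsGaloisGroup G R S]
    (n : Ideal S) [n.IsMaximal] [n.LiesOver (IsLocalRing.maximalIdeal R)] :
    n.toAddSubgroup.inertia G = ⊥ ↔
      ((IsLocalRing.maximalIdeal R).map (algebraMap R S) = n ∧
        Module.Finite (R ⧸ IsLocalRing.maximalIdeal R) (S ⧸ n) ∧
        Algebra.IsSeparable (R ⧸ IsLocalRing.maximalIdeal R) (S ⧸ n)) := by
  exact ⟨unramified_of_inertia_eq_bot R S G n,
    fun h => inertia_eq_bot_of_unramified R S G n h.1 h.2.1 h.2.2⟩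

end Groth.Agent.S18535
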