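import Groth.Statements.S18538
import Mathlib
-- import your own Groth.Agent.* helpers here

set_option autoImplicit false
universe u
open EtAlg

namespace Groth.Agent.S18538

/-- Let A ⊆ B be an injective finite extension of integrally closed domains, with fraction fields K ⊆ L
and L separable over K. Then A → B → B ⊗_A B is exact, the second map being b ↦ b ⊗ 1 - 1 ⊗ b: every
element of B whose two images in B ⊗_A B agree comes from A. -/
theorem result
    (A B K L : Type u) [CommRing A] [CommRing B] [IsDomain A] [IsDomain B]
    [IsIntegrallyClosed A] [IsIntegrallyClosed B] [Algebra A B] [FaithfulSMul A B] [Module.Finite A B]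
    [Field K] [Field L] [Algebra A K] [IsFractionRing A K] [Algebra B L] [IsFractionRing B L]
    [Algebra K L] [Algebra A L] [IsScalarTower A K L] [IsScalarTower A B L]
    [Algebra.IsSeparable K L] :
    Algebra.IsEffective A B := by
  intro b
  refine ⟨fun hb => ?_, Algebra.TensorProduct.includeLeftSubRight_zero_of_mem_range⟩
  let f₁ : B →ₐ[A] TensorProduct K L L :=
    (Algebra.TensorProduct.includeLeft (R := K) (S := A) (A := L) (B := L)).comp
      (IsScalarTower.toAlgHom A B L)
  let f₂ : B →ₐ[A] TensorProduct K L L :=
    (AlgHom.restrictScalars A (Algebra.TensorProduct.includeRight (R := K) (A := L) (B := L))).comp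
      (IsScalarTower.toAlgHom A B L)
  let F : TensorProduct A B B →ₐ[A] TensorProduct K L L :=
    Algebra.TensorProduct.productMap f₁ f₂
  have hF : F (Algebra.TensorProduct.includeLeftSubRight A B b) = 0 := by rw [hb, map_zero]
  have hl : Algebra.TensorProduct.includeLeftSubRight K L (algebraMap B L b) = 0 := by
    rw [← hF]
    simp [F, f₁, f₂, Algebra.TensorProduct.includeLeftSubRight_apply]
  have heff : Algebra.IsEffective K L := Algebra.IsEffective.of_faithfullyFlat K L
  obtain ⟨k, hk⟩ := (heff (algebraMap B L b)).mp hl
  have hbint : IsIntegral A b := Algebra.IsIntegral.isIntegral b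
  have hlint : IsIntegral A (algebraMap B L b) := by
    have := hbint.map (IsScalarTower.toAlgHom A B L)
    simpa using this
  have hkint : IsIntegral A k := by
    have h1 : IsIntegral A (IsScalarTower.toAlgHom A K L k) := by
      simpa [← hk] using hlint
    exact (isIntegral_algHom_iff (IsScalarTower.toAlgHom A K L)
      (algebraMap K L).injective).mp h1
  obtain ⟨a, ha⟩ := IsIntegrallyClosed.isIntegral_iff.mp hkint
  refine ⟨a, ?_⟩
  apply IsFractionRing.injective B L
  simp only [Algebra.linearMap_apply] at hk ⊢
  rw [← hk, ← ha, ← IsScalarTower.algebraMap_apply, ← IsScalarTower.algebraMap_apply]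

end Groth.Agent.S18538
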