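import Groth.Statements.S18539
import Mathlib
-- import your own Groth.Agent.* helpers here

set_option autoImplicit false
universe u v w
open CAlg

namespace Groth.Agent.S18539

open Pointwise in
theorem aux
    (R : Type u) [CommRing R] (M : Type v) (N : Type w)
    [AddCommGroup M] [Module R M] [AddCommGroup N] [Module R N]
    (r₁ r₂ : R) (h : RingTheory.Sequence.IsWeaklyRegular N [r₁, r₂]) :
    RingTheory.Sequence.IsWeaklyRegular (M →ₗ[R] N) [r₁, r₂] := by
  simp only [RingTheory.Sequence.isWeaklyRegular_cons_iff, RingTheory.Sequence.IsWeaklyRegular.nil,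
    and_true] at h ⊢
  obtain ⟨h1, h2⟩ := h
  have h1' : IsSMulRegular (M →ₗ[R] N) r₁ := by
    intro φ ψ hφψ
    ext m
    apply h1
    exact LinearMap.congr_fun hφψ m
  refine ⟨h1', ?_⟩
  rw [isSMulRegular_quotient_iff_mem_of_smul_mem] at h2 ⊢
  intro φ hφ
  rw [Submodule.mem_smul_pointwise_iff_exists] at hφ ⊢
  obtain ⟨ψ, -, hψ⟩ := hφ
  have hex : ∀ m, ∃ n, r₁ • n = φ m := by
    intro m
    have hm : r₂ • φ m ∈ r₁ • (⊤ : Submodule R N) := by
      rw [Submodule.mem_smul_pointwise_iff_exists]
      refine ⟨ψ m, trivial, ?_⟩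
      have := LinearMap.congr_fun hψ m
      simpa using this
    have := h2 (φ m) hm
    rw [Submodule.mem_smul_pointwise_iff_exists] at this
    obtain ⟨n, -, hn⟩ := this
    exact ⟨n, hn⟩
  choose χ hχ using hex
  refine ⟨⟨⟨χ, ?_⟩, ?_⟩, trivial, ?_⟩
  · intro a b
    apply h1
    simp only [smul_add, hχ, map_add]
  · intro c a
    apply h1
    simp only [RingHom.id_apply, hχ, map_smul, smul_comm r₁ c]
  · ext m
    simp [hχ]


/-- For a commutative ring R, R-modules M and N and elements r₁, r₂ of R such that r₁ is a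
non-zero-divisor on N and r₂ is a non-zero-divisor on N/r₁N, the element r₁ is a non-zero-divisor on
the module Hom_R(M, N) and r₂ is a non-zero-divisor on Hom_R(M, N)/r₁Hom_R(M, N). (Weak regularity
on both sides: no condition that the quotient by (r₁, r₂) is nonzero, which would fail for M = 0.) -/
theorem result
    (R : Type u) [CommRing R] (M : Type v) (N : Type w)
    [AddCommGroup M] [Module R M] [AddCommGroup N] [Module R N]
    (r₁ r₂ : R) (h : RingTheory.Sequence.IsWeaklyRegular N [r₁, r₂]) :
    RingTheory.Sequence.IsWeaklyRegular (M →ₗ[R] N) [r₁, r₂] := by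
  exact aux R M N r₁ r₂ h

end Groth.Agent.S18539
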