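import Groth.Statements.S1854
import Groth.Agent.Lib.Helper29.CycDetJ

set_option autoImplicit false
universe u
open TensorProduct
open CycDet

namespace Groth.Agent.S1854

open Groth.Agent.Lib.Helper29.CycDetLib

-- AUX BEGIN
section aux

open IsLocalRing

variable (R : Type u) [CommRing R] [IsLocalRing R]

theorem main_exact_cast (k m l : ℕ) (hlen : k + m = l) (K L M : Type u) [AddCommGroup K] [Module R K]
    [AddCommGroup L] [Module R L] [AddCommGroup M] [Module R M]
    (f : K →ₗ[R] L) (g : L →ₗ[R] M) (hf : Function.Injective f) (hg : Function.Surjective g)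
    (hfg : LinearMap.range f = LinearMap.ker g)
    (hK : Module.length R K = k) (hM : Module.length R M = m) :
    ∃ γ : (DetOfLen R K k ⊗[ResidueField R] DetOfLen R M m) ≃ₗ[ResidueField R] DetOfLen R L l,
      ∀ (eK : Adm R K k) (eM : Adm R M m) (eL : Adm R L l),
        (Submodule.Quotient.mk (sym R K eK) : DetOfLen R K k) ≠ 0 →
        (∀ i : Fin k, eL.1 (Fin.cast hlen (Fin.castAdd m i)) = f (eK.1 i)) →
        (∀ j : Fin m, g (eL.1 (Fin.cast hlen (Fin.natAdd k j))) = eM.1 j) →
        γ ((Submodule.Quotient.mk (sym R K eK) : DetOfLen R K k) ⊗ₜ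
          (Submodule.Quotient.mk (sym R M eM) : DetOfLen R M m)) =
          Submodule.Quotient.mk (sym R L eL) := by
  subst hlen
  exact main_exact R k m K L M f g hf hg hfg hK hM

end aux
-- AUX END


/-- Existence and the defining rule; the compatibilities (1)–(3) of the source are not restated: let 0 →
K → L → M → 0 be a short exact sequence of finite length modules over a local ring with residue
field κ. There is a κ-linear isomorphism γ : det_κ(K) ⊗ det_κ(M) → det_κ(L) such that whenever (e_i)
is an admissible tuple of K with nonzero symbol, (f̄_j) an admissible tuple of M, and (g) the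
admissible tuple of L consisting of the images of the e_i followed by lifts of the f̄_j, one has
γ([e] ⊗ [f̄]) = [g]. -/
theorem result (R : Type u) [CommRing R] [IsLocalRing R] (K L M : Type u) [AddCommGroup K] [Module R K] [AddCommGroup L] [Module R L] [AddCommGroup M] [Module R M] (hK : IsFiniteLength R K) (hM : IsFiniteLength R M) (f : K →ₗ[R] L) (g : L →ₗ[R] M) (hf : Function.Injective f) (hg : Function.Surjective g) (hfg : LinearMap.range f = LinearMap.ker g) (hlen : (Module.length R K).toNat + (Module.length R M).toNat = (Module.length R L).toNat) : ∃ γ : (CycDet.Det R K ⊗[IsLocalRing.ResidueField R] CycDet.Det R M) ≃ₗ[IsLocalRing.ResidueField R] CycDet.Det R L, ∀ (eK : CycDet.Adm R K (Module.length R K).toNat) (eM : CycDet.Adm R M (Module.length R M).toNat) (eL : CycDet.Adm R L (Module.length R L).toNat), CycDet.symbol R K eK ≠ 0 → (∀ i : Fin (Module.length R K).toNat, eL.1 (Fin.cast hlen (Fin.castAdd (Module.length R M).toNat i)) = f (eK.1 i)) → (∀ j : Fin (Module.length R M).toNat, g (eL.1 (Fin.cast hlen (Fin.natAdd (Module.length R K).toNat j))) = eM.1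 j) → γ (CycDet.symbol R K eK ⊗ₜ CycDet.symbol R M eM) = CycDet.symbol R L eL := by
  have hK' : Module.length R K = ((Module.length R K).toNat : ℕ∞) :=
    (ENat.coe_toNat (Module.length_ne_top_iff.mpr hK)).symm
  have hM' : Module.length R M = ((Module.length R M).toNat : ℕ∞) :=
    (ENat.coe_toNat (Module.length_ne_top_iff.mpr hM)).symm
  exact main_exact_cast R _ _ _ hlen K L M f g hf hg hfg hK' hM'

end Groth.Agent.S1854
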