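import Groth.Statements.S18544
import Mathlib.Algebra.MvPolynomial.Funext
import Mathlib.Data.Matrix.PEquiv
import Mathlib.LinearAlgebra.Matrix.Transvection

set_option autoImplicit false
universe u
open CAlg

namespace Groth.Agent.S18544

open Matrix

variable {F : Type u} [Field F] {n : ℕ}

noncomputable def ev (N : MvPolynomial (Fin n × Fin n) F) (x : Matrix (Fin n) (Fin n) F) : F :=
  MvPolynomial.eval (fun ij : Fin n × Fin n => x ij.1 ij.2) N

theorem eval_aeval_poly (N : MvPolynomial (Fin n × Fin n) F) (g : Fin n × Fin n → Polynomial F)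
    (t : F) :
    Polynomial.eval t (MvPolynomial.aeval g N) =
      MvPolynomial.eval (fun jk => Polynomial.eval t (g jk)) N := by
  induction N using MvPolynomial.induction_on with
  | C a => simp
  | add p q hp hq => simp [hp, hq]
  | mul_X p i hp => simp [hp]

theorem poly_mult_eq_pow [Infinite F] (p : Polynomial F)
    (h1 : p.eval 1 = 1) (hm : ∀ t s, p.eval (t * s) = p.eval t * p.eval s) :
    ∃ m : ℕ, ∀ t, p.eval t = t ^ m := by
  have hp0 : p ≠ 0 := by
    rintro rfl
    simp at h1
  refine ⟨p.natDegree, fun s => ?_⟩
  have hpoly : p.comp (Polynomial.C s * Polynomial.X) = Polynomial.C (p.eval s) * p := by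
    apply Polynomial.funext
    intro t
    simp only [Polynomial.eval_comp, Polynomial.eval_mul, Polynomial.eval_C, Polynomial.eval_X]
    rw [hm, mul_comm]
  have hc := congrArg (fun q => q.coeff p.natDegree) hpoly
  simp only [Polynomial.comp_C_mul_X_coeff, Polynomial.coeff_C_mul] at hc
  have hl : p.coeff p.natDegree ≠ 0 := by
    simpa using hp0
  have : p.coeff p.natDegree * s ^ p.natDegree = p.coeff p.natDegree * p.eval s := by
    rw [hc, mul_comm]
  exact (mul_left_cancel₀ hl this).symm


theorem poly_add_eq_one [Infinite F] (q : Polynomial F) (h0 : q.eval 0 = 1)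
    (ha : ∀ c d, q.eval (c + d) = q.eval c * q.eval d) : ∀ c, q.eval c = 1 := by
  have hunit : q * q.comp (-Polynomial.X) = 1 := by
    apply Polynomial.funext
    intro t
    simp only [Polynomial.eval_mul, Polynomial.eval_comp, Polynomial.eval_neg, Polynomial.eval_X,
      Polynomial.eval_one]
    rw [← ha, add_neg_cancel, h0]
  have hu : IsUnit q := IsUnit.of_mul_eq_one _ hunit
  obtain ⟨a, ha', rfl⟩ := Polynomial.isUnit_iff.mp hu
  intro c
  simpa using h0

/-- Let F be an algebraically closed field of characteristic zero, n a natural number, and N a nonzero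
polynomial over F in the n² matrix entries whose evaluation on n × n matrices is multiplicative,
N(xy) = N(x)·N(y) for all x, y (a norm form on the matrix algebra M_n(F) over F). Then N is a
natural power of the determinant: for some m, N(x) = det(x)^m for every matrix x. The published
statement concerns norm forms of any central simple algebra over a subfield; this row is the case of
the full matrix algebra over an algebraically closed field, which is the case its proof treats. -/
theorem result (F : Type u) [Field F] [IsAlgClosed F]
    [CharZero F] (n : ℕ) (N : MvPolynomial (Fin n × Fin n) F) (hN : N ≠ 0)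
    (hmul : ∀ x y : Matrix (Fin n) (Fin n) F,
      MvPolynomial.eval (fun ij : Fin n × Fin n => (x * y) ij.1 ij.2) N =
        MvPolynomial.eval (fun ij : Fin n × Fin n => x ij.1 ij.2) N * MvPolynomial.eval (fun ij : Fin n × Fin n => y ij.1 ij.2) N) :
    ∃ m : ℕ, ∀ x : Matrix (Fin n) (Fin n) F,
      MvPolynomial.eval (fun ij : Fin n × Fin n => x ij.1 ij.2) N = x.det ^ m := by
  classical
  haveI : Infinite F := inferInstance
  have hmul' : ∀ x y, ev N (x * y) = ev N x * ev N y := hmul
  have h1 : ev N 1 = 1 := by
    have hsq : ev N 1 = ev N 1 * ev N 1 := by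
      have := hmul' 1 1
      rwa [mul_one] at this
    by_contra hne
    have h0 : ev N 1 = 0 := by
      have : ev N 1 * (ev N 1 - 1) = 0 := by rw [mul_sub, mul_one, ← hsq, sub_self]
      rcases mul_eq_zero.mp this with h | h
      · exact h
      · exact absurd (sub_eq_zero.mp h) hne
    apply hN
    apply MvPolynomial.funext
    intro v
    have : ev N (Matrix.of fun i j => v (i, j)) = 0 := by
      have := hmul' (Matrix.of fun i j => v (i, j)) 1
      rw [mul_one, h0, mul_zero] at this
      exact this
    simpa [ev] using this
  have htr : ∀ t : TransvectionStruct (Fin n) F, ev N t.toMatrix = 1 := by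
    rintro ⟨i, j, hij, c⟩
    let g : Fin n × Fin n → Polynomial F := fun jk =>
      Polynomial.C ((1 : Matrix (Fin n) (Fin n) F) jk.1 jk.2) +
        Polynomial.X * Polynomial.C ((Matrix.single i j (1 : F)) jk.1 jk.2)
    have hg : ∀ c : F, Polynomial.eval c (MvPolynomial.aeval g N) = ev N (transvection i j c) := by
      intro c
      rw [eval_aeval_poly]
      unfold ev
      congr 2
      funext jk
      simp only [g, transvection, Matrix.single_apply, Polynomial.eval_add, Polynomial.eval_C,
        Polynomial.eval_mul, Polynomial.eval_X, Matrix.add_apply]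
      split_ifs <;> simp
    have := poly_add_eq_one (MvPolynomial.aeval g N)
      (by rw [hg]; simp [transvection_zero, h1])
      (by intro c d; rw [hg, hg, hg, ← hmul', transvection_mul_transvection_same _ _ hij])
    change ev N (transvection i j c) = 1
    rw [← hg]
    exact this c
  have hpow : ∀ i : Fin n, ∃ m : ℕ, ∀ t : F, ev N (diagonal (Pi.mulSingle i t)) = t ^ m := by
    intro i
    let g : Fin n × Fin n → Polynomial F := fun jk =>
      if jk.1 = jk.2 then (if jk.1 = i then Polynomial.X else 1) else 0
    have hg : ∀ t : F, Polynomial.eval t (MvPolynomial.aeval g N) =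
        ev N (diagonal (Pi.mulSingle i t)) := by
      intro t
      rw [eval_aeval_poly]
      unfold ev
      congr 2
      funext jk
      obtain ⟨a, b⟩ := jk
      by_cases h : a = b
      · subst h
        by_cases h' : a = i
        · subst h'
          simp [g]
        · simp [g, h', Pi.mulSingle_apply]
      · simp [g, h]
    obtain ⟨m, hm⟩ := poly_mult_eq_pow (MvPolynomial.aeval g N)
      (by rw [hg]; simp [h1])
      (by
        intro t s
        rw [hg, hg, hg, ← hmul', diagonal_mul_diagonal]
        congr 2
        funext k
        by_cases hk : k = i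
        · subst hk; simp
        · simp [Pi.mulSingle_apply, hk])
    exact ⟨m, fun t => by rw [← hg, hm]⟩
  have hperm : ∀ (σ : Equiv.Perm (Fin n)) (D : Fin n → F),
      ev N (diagonal (D ∘ σ)) = ev N (diagonal D) := by
    intro σ D
    have h1' : (σ.toPEquiv.toMatrix : Matrix (Fin n) (Fin n) F) * σ.symm.toPEquiv.toMatrix = 1 := by
      rw [← PEquiv.toMatrix_trans, ← Equiv.toPEquiv_trans, Equiv.self_trans_symm,
        Equiv.toPEquiv_refl, PEquiv.toMatrix_refl]
    have h2 : diagonal (D ∘ σ) =
        σ.toPEquiv.toMatrix * diagonal D * σ.symm.toPEquiv.toMatrix := by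
      rw [PEquiv.toMatrix_toPEquiv_mul, PEquiv.mul_toMatrix_toPEquiv]
      ext a b
      simp [diagonal_apply, Matrix.submatrix_apply]
    rw [h2, hmul', hmul', mul_right_comm, ← hmul', h1', h1, one_mul]
  have hswap : ∀ (i j : Fin n) (t : F),
      ev N (diagonal (Pi.mulSingle j t)) = ev N (diagonal (Pi.mulSingle i t)) := by
    intro i j t
    rw [← hperm (Equiv.swap i j) (Pi.mulSingle i t)]
    congr 2
    funext k
    simp only [Function.comp_apply, Pi.mulSingle_apply, Equiv.swap_apply_def]
    by_cases h1 : k = i
    · subst h1
      by_cases h2 : k = j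
      · subst h2
        simp
      · simp [h2, Ne.symm h2]
    · by_cases h2 : k = j
      · subst h2
        simp [h1]
      · simp [h1, h2]
  obtain ⟨m, hm⟩ : ∃ m : ℕ, ∀ (i : Fin n) (t : F), ev N (diagonal (Pi.mulSingle i t)) = t ^ m := by
    rcases isEmpty_or_nonempty (Fin n) with hn | ⟨⟨i0⟩⟩
    · exact ⟨0, fun i => (hn.false i).elim⟩
    · obtain ⟨m, hm⟩ := hpow i0
      exact ⟨m, fun i t => by rw [← hm t, hswap i0 i t]⟩
  let φ : (Fin n → F) →* F :=
    { toFun := fun D => ev N (diagonal D)
      map_one' := by
        have : diagonal (1 : Fin n → F) = 1 := diagonal_one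
        rw [this, h1]
      map_mul' := by
        intro a b
        rw [← hmul', diagonal_mul_diagonal]
        rfl }
  have hdiag : ∀ D : Fin n → F, ev N (diagonal D) = (diagonal D).det ^ m := by
    intro D
    have hD : D = ∏ i, Pi.mulSingle i (D i) := (Finset.univ_prod_mulSingle D).symm
    have : φ D = ∏ i, φ (Pi.mulSingle i (D i)) := by
      conv_lhs => rw [hD]
      exact map_prod φ _ _
    change φ D = _
    rw [this, det_diagonal, ← Finset.prod_pow]
    exact Finset.prod_congr rfl fun i _ => hm i (D i)
  refine ⟨m, fun x => ?_⟩
  change ev N x = x.det ^ m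
  refine diagonal_transvection_induction (fun x => ev N x = x.det ^ m) x ?_ ?_ ?_
  · intro D _
    exact hdiag D
  · intro t
    change ev N t.toMatrix = t.toMatrix.det ^ m
    rw [htr, TransvectionStruct.det, one_pow]
  · intro A B hA hB
    change ev N (A * B) = (A * B).det ^ m
    rw [hmul', hA, hB, det_mul, mul_pow]

end Groth.Agent.S18544
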