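import Groth.Statements.S18546
import Mathlib

set_option autoImplicit false
open scoped TensorProduct
universe u v
open GalCoh

namespace Groth.Agent.S18546


variable {V : Type v} [AddCommGroup V] [Module (ZMod 2) V]

theorem add_self' {M : Type*} [AddCommGroup M] [Module (ZMod 2) M] (z : M) : z + z = 0 := by
  have : (2 : ZMod 2) • z = 0 := by rw [show (2 : ZMod 2) = 0 from rfl, zero_smul]
  rwa [two_smul] at this

noncomputable def f (x y : V) : V ⊗[ZMod 2] V := x ⊗ₜ[ZMod 2] x + y ⊗ₜ[ZMod 2] y + x ⊗ₜ[ZMod 2] y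

noncomputable def t (x y : V) : V ⊗[ZMod 2] V := x ⊗ₜ[ZMod 2] y + y ⊗ₜ[ZMod 2] x

theorem eq_of_one_smul {M : Type*} [AddCommGroup M] [Module (ZMod 2) M] (A B : M)
    (h : (1 : ZMod 2) • A = (1 : ZMod 2) • B) : A = B := by
  simpa using h

theorem zmod2_cases (c : ZMod 2) : c = 0 ∨ c = 1 := by
  revert c
  decide

theorem enum (hV : Module.finrank (ZMod 2) V = 2) (x y : V) (hx : x ≠ 0) (hy : y ≠ 0)
    (hxy : x ≠ y) (v : V) : v = 0 ∨ v = x ∨ v = y ∨ v = x + y := by
  have hli : LinearIndependent (ZMod 2) ![x, y] := by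
    rw [LinearIndependent.pair_iff]
    intro s t hst
    rcases zmod2_cases s with rfl | rfl <;> rcases zmod2_cases t with rfl | rfl
    · exact ⟨rfl, rfl⟩
    · exfalso
      apply hy
      simpa using hst
    · exfalso
      apply hx
      simpa using hst
    · exfalso
      apply hxy
      rw [one_smul, one_smul] at hst
      exact add_right_cancel (hst.trans (add_self' y).symm)
  have : Module.Finite (ZMod 2) V := Module.finite_of_finrank_pos (by omega)
  let b := basisOfLinearIndependentOfCardEqFinrank (K := ZMod 2) hli (by simp [hV])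
  have hb0 : b 0 = x := by simp [b]
  have hb1 : b 1 = y := by simp [b]
  have hv := b.sum_repr v
  rw [Fin.sum_univ_two, hb0, hb1] at hv
  rcases zmod2_cases (b.repr v 0) with h0 | h0 <;> rcases zmod2_cases (b.repr v 1) with h1 | h1 <;>
    rw [h0, h1] at hv <;> simp at hv
  · exact Or.inl hv.symm
  · exact Or.inr (Or.inr (Or.inl hv.symm))
  · exact Or.inr (Or.inl hv.symm)
  · exact Or.inr (Or.inr (Or.inr hv.symm))

theorem f_cases (hV : Module.finrank (ZMod 2) V = 2) (a b : V) (ha : a ≠ 0) (hb : b ≠ 0)
    (hab : a ≠ b) (x y : V) (hx : x ≠ 0) (hy : y ≠ 0) (hxy : x ≠ y) :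
    f x y = f a b ∨ f x y = f a b + t a b := by
  rcases enum hV a b ha hb hab x with h1 | h1 | h1 | h1 <;>
    rcases enum hV a b ha hb hab y with h2 | h2 | h2 | h2
  all_goals first
    | exact absurd h1 hx
    | exact absurd h2 hy
    | exact absurd (h1.trans h2.symm) hxy
    | (left; rw [h1, h2]; done)
    | (left; rw [h1, h2]; simp only [f, t, TensorProduct.add_tmul, TensorProduct.tmul_add]
       apply eq_of_one_smul
       match_scalars <;> decide)
    | (right; rw [h1, h2]; simp only [f, t, TensorProduct.add_tmul, TensorProduct.tmul_add]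
       apply eq_of_one_smul
       match_scalars <;> decide)


theorem t_eq (x y : V) : t x y = f x y + f y x := by
  simp only [f, t]
  apply eq_of_one_smul
  match_scalars <;> decide

theorem t_mem_sq (x y : V) : t x y ∈
    Submodule.span (ZMod 2) (Set.range fun v : V => v ⊗ₜ[ZMod 2] v) := by
  have h : t x y = (x + y) ⊗ₜ[ZMod 2] (x + y) + x ⊗ₜ[ZMod 2] x + y ⊗ₜ[ZMod 2] y := by
    simp only [t, TensorProduct.add_tmul, TensorProduct.tmul_add]
    apply eq_of_one_smul
    match_scalars <;> decide
  rw [h]
  exact Submodule.add_mem _ (Submodule.add_mem _ (Submodule.subset_span ⟨_, rfl⟩)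
    (Submodule.subset_span ⟨_, rfl⟩)) (Submodule.subset_span ⟨_, rfl⟩)


/-- Let G be a group acting linearly on a vector space V of dimension 2 over the field 𝔽₂ with two
elements. Then the short exact sequence of G-modules 0 → V → S²V → Λ²V → 0 (v ↦ v·v, x·y ↦ x ∧ y)
splits G-equivariantly. Here, for a vector space V over the field with two elements carrying a
linear action ρ of a group G, write N_a ⊆ V ⊗ V for the span of the tensors v ⊗ v and N_s ⊆ N_a for
the span of the tensors x ⊗ y + y ⊗ x, so that S²V = (V ⊗ V)/N_s, Λ²V = (V ⊗ V)/N_a and the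
surjection S²V → Λ²V, x·y ↦ x ∧ y, is G-equivariant for the diagonal action; a G-equivariant linear
section of this surjection is the same thing as a G-stable subspace W of V ⊗ V with W ∩ N_a = N_s
and W + N_a = V ⊗ V, which is how the splitting is stated. (The source has the absolute Galois group
of a field acting continuously; any group is allowed here.) -/
theorem result (G : Type u) [Group G] (V : Type v)
    [AddCommGroup V] [Module (ZMod 2) V] (hV : Module.finrank (ZMod 2) V = 2)
    (ρ : Representation (ZMod 2) G V) :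
    ∃ W : Submodule (ZMod 2) (V ⊗[ZMod 2] V),
      (∀ g : G, ∀ w ∈ W, ρ.tprod ρ g w ∈ W) ∧
      W ⊓ Submodule.span (ZMod 2) (Set.range fun v : V => v ⊗ₜ[ZMod 2] v) =
        Submodule.span (ZMod 2) (Set.range fun p : V × V => p.1 ⊗ₜ[ZMod 2] p.2 + p.2 ⊗ₜ[ZMod 2] p.1) ∧
      W ⊔ Submodule.span (ZMod 2) (Set.range fun v : V => v ⊗ₜ[ZMod 2] v) = ⊤ := by
  have : Module.Finite (ZMod 2) V := Module.finite_of_finrank_pos (by omega)
  let e := Module.finBasisOfFinrankEq (ZMod 2) V hV
  have ha : e 0 ≠ 0 := e.ne_zero 0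
  have hb : e 1 ≠ 0 := e.ne_zero 1
  have hab : e 0 ≠ e 1 := fun h => by simpa using e.injective h
  let S : Set (V ⊗[ZMod 2] V) := {w | ∃ x y : V, x ≠ 0 ∧ y ≠ 0 ∧ x ≠ y ∧ w = f x y}
  have htW : ∀ x y : V, t x y ∈ Submodule.span (ZMod 2) S := by
    intro x y
    by_cases hx : x = 0
    · subst hx
      simp [t]
    by_cases hy : y = 0
    · subst hy
      simp [t]
    by_cases hxy : x = y
    · subst hxy
      simp only [t]
      rw [add_self']
      exact Submodule.zero_mem _
    rw [t_eq]
    exact Submodule.add_mem _ (Submodule.subset_span ⟨x, y, hx, hy, hxy, rfl⟩)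
      (Submodule.subset_span ⟨y, x, hy, hx, fun h => hxy h.symm, rfl⟩)
  refine ⟨Submodule.span (ZMod 2) S, ?_, ?_, ?_⟩
  · intro g w hw
    have hinj : Function.Injective (ρ g) := by
      intro x y hxy
      have := congrArg (ρ g⁻¹) hxy
      simpa [← Module.End.mul_apply, ← map_mul] using this
    rw [Representation.tprod_apply]
    have hle : Submodule.map (TensorProduct.map (ρ g) (ρ g)) (Submodule.span (ZMod 2) S)
        ≤ Submodule.span (ZMod 2) S := by
      rw [Submodule.map_span, Submodule.span_le]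
      rintro _ ⟨_, ⟨x, y, hx, hy, hxy, rfl⟩, rfl⟩
      apply Submodule.subset_span
      refine ⟨ρ g x, ρ g y, ?_, ?_, hinj.ne hxy, ?_⟩
      · exact (map_ne_zero_iff _ hinj).mpr hx
      · exact (map_ne_zero_iff _ hinj).mpr hy
      · simp [f, TensorProduct.map_tmul]
    exact hle (Submodule.mem_map_of_mem hw)
  · apply le_antisymm
    · rintro w ⟨hwW, hwN⟩
      have hS : Submodule.span (ZMod 2) S ≤ Submodule.span (ZMod 2) {f (e 0) (e 1), t (e 0) (e 1)} := by
        rw [Submodule.span_le]
        rintro _ ⟨x, y, hx, hy, hxy, rfl⟩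
        rcases f_cases hV (e 0) (e 1) ha hb hab x y hx hy hxy with h | h
        · rw [h]
          exact Submodule.subset_span (by simp)
        · rw [h]
          exact Submodule.add_mem _ (Submodule.subset_span (by simp)) (Submodule.subset_span (by simp))
      obtain ⟨α, β, rfl⟩ := Submodule.mem_span_pair.mp (hS hwW)
      let B : V →ₗ[ZMod 2] V →ₗ[ZMod 2] ZMod 2 :=
        (LinearMap.mul (ZMod 2) (ZMod 2)).compl₁₂ (e.coord 0) (e.coord 1)
          + (LinearMap.mul (ZMod 2) (ZMod 2)).compl₁₂ (e.coord 1) (e.coord 0)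
      let lam := TensorProduct.lift B
      have hN : Submodule.span (ZMod 2) (Set.range fun v : V => v ⊗ₜ[ZMod 2] v)
          ≤ LinearMap.ker lam := by
        rw [Submodule.span_le]
        rintro _ ⟨v, rfl⟩
        simp only [SetLike.mem_coe, LinearMap.mem_ker, lam, B, TensorProduct.lift.tmul,
          LinearMap.add_apply, LinearMap.compl₁₂_apply, LinearMap.mul_apply']
        rw [mul_comm (e.coord 1 v)]
        exact add_self' _
      have h0 : lam (α • f (e 0) (e 1) + β • t (e 0) (e 1)) = 0 := hN hwN
      have hα : α = 0 := by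
        have h1 : α + (β + β) = 0 := by
          simpa [lam, B, f, t, Finsupp.single_apply] using h0
        rwa [add_self' β, add_zero] at h1
      subst hα
      rw [zero_smul, zero_add]
      exact Submodule.smul_mem _ _ (Submodule.subset_span ⟨(e 0, e 1), rfl⟩)
    · rw [Submodule.span_le]
      rintro _ ⟨⟨x, y⟩, rfl⟩
      exact ⟨htW x y, t_mem_sq x y⟩
  · rw [eq_top_iff, ← TensorProduct.span_tmul_eq_top, Submodule.span_le]
    rintro _ ⟨x, y, rfl⟩
    by_cases hx : x = 0
    · subst hx
      simp
    by_cases hy : y = 0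
    · subst hy
      simp
    by_cases hxy : x = y
    · subst hxy
      exact Submodule.mem_sup_right (Submodule.subset_span ⟨x, rfl⟩)
    have h : x ⊗ₜ[ZMod 2] y = f x y + (x ⊗ₜ[ZMod 2] x + y ⊗ₜ[ZMod 2] y) := by
      simp only [f]
      apply eq_of_one_smul
      match_scalars <;> decide
    rw [h]
    exact Submodule.add_mem _ (Submodule.mem_sup_left (Submodule.subset_span ⟨x, y, hx, hy, hxy, rfl⟩))
      (Submodule.mem_sup_right (Submodule.add_mem _ (Submodule.subset_span ⟨x, rfl⟩)
        (Submodule.subset_span ⟨y, rfl⟩)))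

end Groth.Agent.S18546
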