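import Groth.Statements.S18548
import Mathlib
-- import your own Groth.Agent.* helpers here

set_option autoImplicit false
open scoped TensorProduct
universe u v w
open GalCoh

namespace Groth.Agent.S18548

/-- Let G be a group acting linearly on a vector space V over the field 𝔽₂ with two elements, and
suppose V is a permutation module: G permutes the vectors of some basis of V. Then the short exact
sequence of G-modules 0 → V → S²V → Λ²V → 0 (v ↦ v·v, x·y ↦ x ∧ y) splits G-equivariantly. Here, for
a vector space V over the field with two elements carrying a linear action ρ of a group G, write N_a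
⊆ V ⊗ V for the span of the tensors v ⊗ v and N_s ⊆ N_a for the span of the tensors x ⊗ y + y ⊗ x,
so that S²V = (V ⊗ V)/N_s, Λ²V = (V ⊗ V)/N_a and the surjection S²V → Λ²V, x·y ↦ x ∧ y, is
G-equivariant for the diagonal action; a G-equivariant linear section of this surjection is the same
thing as a G-stable subspace W of V ⊗ V with W ∩ N_a = N_s and W + N_a = V ⊗ V, which is how the
splitting is stated. (The source has the absolute Galois group of a field acting continuously; any
group and any basis index set are allowed here.) -/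
theorem result (G : Type u) [Group G] (V : Type v)
    [AddCommGroup V] [Module (ZMod 2) V] (ρ : Representation (ZMod 2) G V)
    (ι : Type w) (b : Module.Basis ι (ZMod 2) V) (hb : ∀ g : G, ∀ i : ι, ∃ j : ι, ρ g (b i) = b j) :
    ∃ W : Submodule (ZMod 2) (V ⊗[ZMod 2] V),
      (∀ g : G, ∀ w ∈ W, ρ.tprod ρ g w ∈ W) ∧
      W ⊓ Submodule.span (ZMod 2) (Set.range fun v : V => v ⊗ₜ[ZMod 2] v) =
        Submodule.span (ZMod 2) (Set.range fun p : V × V => p.1 ⊗ₜ[ZMod 2] p.2 + p.2 ⊗ₜ[ZMod 2] p.1) ∧
      W ⊔ Submodule.span (ZMod 2) (Set.range fun v : V => v ⊗ₜ[ZMod 2] v) = ⊤ := by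
  classical
  let k := ZMod 2
  let T := V ⊗[ZMod 2] V
  let B : Module.Basis (ι × ι) (ZMod 2) (V ⊗[ZMod 2] V) := b.tensorProduct b
  have hB : ∀ i j, B (i, j) = b i ⊗ₜ[ZMod 2] b j := fun i j => Module.Basis.tensorProduct_apply b b i j
  let sOff : Set (ι × ι) := {p | p.1 ≠ p.2}
  let sDiag : Set (ι × ι) := {p | p.1 = p.2}
  let W : Submodule (ZMod 2) (V ⊗[ZMod 2] V) := Submodule.span (ZMod 2) (B '' sOff)
  let D : Submodule (ZMod 2) (V ⊗[ZMod 2] V) := Submodule.span (ZMod 2) (B '' sDiag)
  let Na : Submodule (ZMod 2) (V ⊗[ZMod 2] V) :=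
    Submodule.span (ZMod 2) (Set.range fun v : V => v ⊗ₜ[ZMod 2] v)
  let Ns : Submodule (ZMod 2) (V ⊗[ZMod 2] V) :=
    Submodule.span (ZMod 2) (Set.range fun p : V × V => p.1 ⊗ₜ[ZMod 2] p.2 + p.2 ⊗ₜ[ZMod 2] p.1)
  have h2 : ∀ t : V ⊗[ZMod 2] V, t + t = 0 := by
    intro t
    rw [← two_smul (ZMod 2) t]
    have : (2 : ZMod 2) = 0 := by decide
    rw [this, zero_smul]
  let S : (V ⊗[ZMod 2] V) →ₗ[ZMod 2] (V ⊗[ZMod 2] V) :=
    LinearMap.id + (TensorProduct.comm (ZMod 2) V V).toLinearMap
  have hS : ∀ x y : V, S (x ⊗ₜ[ZMod 2] y) = x ⊗ₜ[ZMod 2] y + y ⊗ₜ[ZMod 2] x := by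
    intro x y
    simp [S]
  have hBW : ∀ i j, i ≠ j → B (i, j) ∈ W := fun i j hij =>
    Submodule.subset_span ⟨(i, j), hij, rfl⟩
  have hSW : ∀ t, S t ∈ W := by
    intro t
    have ht : t ∈ Submodule.span (ZMod 2) (Set.range B) := by rw [B.span_eq]; trivial
    induction ht using Submodule.span_induction with
    | mem x hx =>
      obtain ⟨⟨i, j⟩, rfl⟩ := hx
      rw [hB, hS]
      by_cases hij : i = j
      · subst hij
        rw [h2]; exact W.zero_mem
      · rw [← hB, ← hB]
        exact W.add_mem (hBW i j hij) (hBW j i (Ne.symm hij))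
    | zero => simp
    | add x y _ _ hx hy => rw [map_add]; exact W.add_mem hx hy
    | smul c x _ hx => rw [map_smul]; exact W.smul_mem c hx
  have hNsW : Ns ≤ W := by
    apply Submodule.span_le.mpr
    rintro _ ⟨p, rfl⟩
    simp only
    rw [← hS]
    exact hSW _
  have hNsNa : Ns ≤ Na := by
    apply Submodule.span_le.mpr
    rintro _ ⟨p, rfl⟩
    have : p.1 ⊗ₜ[ZMod 2] p.2 + p.2 ⊗ₜ[ZMod 2] p.1 =
        (p.1 + p.2) ⊗ₜ[ZMod 2] (p.1 + p.2) - p.1 ⊗ₜ[ZMod 2] p.1 - p.2 ⊗ₜ[ZMod 2] p.2 := by
      simp only [TensorProduct.add_tmul, TensorProduct.tmul_add]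
      abel
    simp only
    rw [this]
    refine Na.sub_mem (Na.sub_mem ?_ ?_) ?_ <;> exact Submodule.subset_span ⟨_, rfl⟩
  have hNaLe : Na ≤ Ns ⊔ D := by
    apply Submodule.span_le.mpr
    rintro _ ⟨v, rfl⟩
    simp only
    have hv : v ∈ Submodule.span (ZMod 2) (Set.range b) := by rw [b.span_eq]; trivial
    induction hv using Submodule.span_induction with
    | mem x hx =>
      obtain ⟨i, rfl⟩ := hx
      apply Submodule.mem_sup_right
      exact Submodule.subset_span ⟨(i, i), rfl, hB i i⟩
    | zero => simp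
    | add x y _ _ hx hy =>
      have : (x + y) ⊗ₜ[ZMod 2] (x + y) =
          x ⊗ₜ[ZMod 2] x + y ⊗ₜ[ZMod 2] y + (x ⊗ₜ[ZMod 2] y + y ⊗ₜ[ZMod 2] x) := by
        simp only [TensorProduct.add_tmul, TensorProduct.tmul_add]
        abel
      rw [this]
      refine Submodule.add_mem _ (Submodule.add_mem _ hx hy) ?_
      apply Submodule.mem_sup_left
      exact Submodule.subset_span ⟨(x, y), rfl⟩
    | smul c x _ hx =>
      rw [TensorProduct.smul_tmul_smul]
      exact Submodule.smul_mem _ _ hx
  have hdisj : Disjoint W D := by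
    apply B.linearIndependent.disjoint_span_image
    rw [Set.disjoint_left]
    intro p hp hp'
    exact hp hp'
  refine ⟨W, ?_, ?_, ?_⟩
  · intro g w hw
    have hle : W.map (ρ.tprod ρ g) ≤ W := by
      rw [Submodule.map_span]
      apply Submodule.span_le.mpr
      rintro _ ⟨_, ⟨⟨i, j⟩, hij, rfl⟩, rfl⟩
      obtain ⟨i', hi'⟩ := hb g i
      obtain ⟨j', hj'⟩ := hb g j
      rw [hB, Representation.tprod_apply, TensorProduct.map_tmul, hi', hj', ← hB]
      apply hBW
      intro h
      apply hij
      change i = j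
      have hinj : Function.Injective (ρ g) := by
        intro x y hxy
        have := congrArg (ρ g⁻¹) hxy
        simpa [← Module.End.mul_apply, ← map_mul] using this
      have : b i = b j := hinj (by rw [hi', hj', h])
      exact b.injective this
    exact hle ⟨w, hw, rfl⟩
  · apply le_antisymm
    · rintro w ⟨hwW, hwNa⟩
      have := hNaLe hwNa
      obtain ⟨n, hn, δ, hδ, rfl⟩ := Submodule.mem_sup.mp this
      have hδW : δ ∈ W := by
        have : δ = (n + δ) - n := by abel
        rw [this]
        exact W.sub_mem hwW (hNsW hn)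
      have : δ = 0 := by
        have := Submodule.disjoint_def.mp hdisj δ hδW hδ
        exact this
      rw [this, add_zero]
      exact hn
    · exact le_inf hNsW hNsNa
  · rw [eq_top_iff, ← B.span_eq]
    apply Submodule.span_le.mpr
    rintro _ ⟨⟨i, j⟩, rfl⟩
    by_cases hij : i = j
    · subst hij
      apply Submodule.mem_sup_right
      rw [hB]
      exact Submodule.subset_span ⟨b i, rfl⟩
    · exact Submodule.mem_sup_left (hBW i j hij)

end Groth.Agent.S18548
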