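import Groth.Statements.S18549
import Mathlib.Algebra.Field.ZMod
import Mathlib.LinearAlgebra.TensorProduct.Basis
import Mathlib.LinearAlgebra.LinearIndependent.Lemmas
import Mathlib.LinearAlgebra.Dimension.Free
import Mathlib.LinearAlgebra.FiniteDimensional.Basic

set_option autoImplicit false
open scoped TensorProduct
universe u v
open GalCoh

namespace Groth.Agent.S18549

open Module

theorem two_smul_zero {V : Type*} [AddCommGroup V] [Module (ZMod 2) V] (x : V) : x + x = 0 := by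
  have : (2 : ZMod 2) • x = 0 := by
    have h2 : (2 : ZMod 2) = 0 := by decide
    rw [h2, zero_smul]
  rwa [two_smul] at this

theorem part2 {G : Type*} [Group G]
    {V : Type*} [AddCommGroup V] [Module (ZMod 2) V]
    (ρ : Representation (ZMod 2) G V) {ι : Type*} (b : Basis ι (ZMod 2) V)
    (hperm : ∀ g i, ρ g (b i) ∈ Set.range b) :
    ∃ W : Submodule (ZMod 2) (V ⊗[ZMod 2] V),
      (∀ g : G, ∀ w ∈ W, ρ.tprod ρ g w ∈ W) ∧
      W ⊓ Submodule.span (ZMod 2) (Set.range fun v : V => v ⊗ₜ[ZMod 2] v) =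
        Submodule.span (ZMod 2) (Set.range fun p : V × V => p.1 ⊗ₜ[ZMod 2] p.2 + p.2 ⊗ₜ[ZMod 2] p.1) ∧
      W ⊔ Submodule.span (ZMod 2) (Set.range fun v : V => v ⊗ₜ[ZMod 2] v) = ⊤ := by
  classical
  set bb := b.tensorProduct b with hbb
  set W := Submodule.span (ZMod 2) (bb '' {p : ι × ι | p.1 ≠ p.2}) with hW
  set D := Submodule.span (ZMod 2) (bb '' {p : ι × ι | p.1 = p.2}) with hD
  set Na := Submodule.span (ZMod 2) (Set.range fun v : V => v ⊗ₜ[ZMod 2] v) with hNa
  set Ns := Submodule.span (ZMod 2)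
    (Set.range fun p : V × V => p.1 ⊗ₜ[ZMod 2] p.2 + p.2 ⊗ₜ[ZMod 2] p.1) with hNs
  have hWmem : ∀ i j, i ≠ j → b i ⊗ₜ[ZMod 2] b j ∈ W := fun i j hij =>
    Submodule.subset_span ⟨(i, j), hij, Basis.tensorProduct_apply b b i j⟩
  have hDmem : ∀ i, b i ⊗ₜ[ZMod 2] b i ∈ D := fun i =>
    Submodule.subset_span ⟨(i, i), rfl, Basis.tensorProduct_apply b b i i⟩
  have hstab : ∀ g : G, ∀ w ∈ W, ρ.tprod ρ g w ∈ W := by
    intro g w hw
    have hinj : Function.Injective (ρ g) := by
      intro x y hxy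
      have := congrArg (ρ g⁻¹) hxy
      simpa [← Module.End.mul_apply, ← map_mul] using this
    induction hw using Submodule.span_induction with
    | mem x hx =>
      obtain ⟨⟨i, j⟩, hij, rfl⟩ := hx
      rw [Basis.tensorProduct_apply, Representation.tprod_apply, TensorProduct.map_tmul]
      obtain ⟨i', hi'⟩ := hperm g i
      obtain ⟨j', hj'⟩ := hperm g j
      rw [← hi', ← hj']
      apply hWmem
      intro h
      apply hij
      apply b.injective
      apply hinj
      rw [← hi', ← hj', h]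
    | zero => rw [map_zero]; exact W.zero_mem
    | add x y _ _ hx hy => rw [map_add]; exact W.add_mem hx hy
    | smul c x _ hx => rw [map_smul]; exact W.smul_mem c hx
  have hWD : W ⊓ D = ⊥ := by
    have hdisj : Disjoint {p : ι × ι | p.1 ≠ p.2} {p : ι × ι | p.1 = p.2} := by
      rw [Set.disjoint_left]
      intro p hp hp'
      exact hp hp'
    exact (bb.linearIndependent.disjoint_span_image hdisj).eq_bot
  have hWDtop : W ⊔ D = ⊤ := by
    rw [hW, hD, ← Submodule.span_union, ← Set.image_union]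
    have : {p : ι × ι | p.1 ≠ p.2} ∪ {p : ι × ι | p.1 = p.2} = Set.univ := by
      ext p
      simp only [Set.mem_union, Set.mem_ofPred_eq, Set.mem_univ, iff_true]
      exact (em (p.1 = p.2)).symm
    rw [this, Set.image_univ, bb.span_eq]
  have hNsNa : Ns ≤ Na := by
    rw [hNs, Submodule.span_le]
    rintro _ ⟨⟨x, y⟩, rfl⟩
    have h1 : x ⊗ₜ[ZMod 2] y + y ⊗ₜ[ZMod 2] x =
        (x + y) ⊗ₜ[ZMod 2] (x + y) - x ⊗ₜ[ZMod 2] x - y ⊗ₜ[ZMod 2] y := by
      rw [TensorProduct.add_tmul, TensorProduct.tmul_add, TensorProduct.tmul_add]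
      abel
    change x ⊗ₜ[ZMod 2] y + y ⊗ₜ[ZMod 2] x ∈ Na
    rw [h1]
    refine Na.sub_mem (Na.sub_mem ?_ ?_) ?_ <;> exact Submodule.subset_span ⟨_, rfl⟩
  have hDNa : D ≤ Na := by
    rw [hD, Submodule.span_le]
    rintro _ ⟨⟨i, j⟩, hij, rfl⟩
    have hij' : i = j := hij
    subst hij'
    rw [Basis.tensorProduct_apply]
    exact Submodule.subset_span ⟨b i, rfl⟩
  have hNsmem : ∀ x y : V, x ⊗ₜ[ZMod 2] y + y ⊗ₜ[ZMod 2] x ∈ Ns := fun x y =>
    Submodule.subset_span ⟨(x, y), rfl⟩
  have hNaNsD : Na ≤ Ns ⊔ D := by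
    let P : Submodule (ZMod 2) V :=
      { carrier := {v | v ⊗ₜ[ZMod 2] v ∈ Ns ⊔ D}
        zero_mem' := by
          change (0 : V) ⊗ₜ[ZMod 2] (0 : V) ∈ Ns ⊔ D
          rw [TensorProduct.zero_tmul]
          exact Submodule.zero_mem _
        add_mem' := by
          intro x y hx hy
          change (x + y) ⊗ₜ[ZMod 2] (x + y) ∈ Ns ⊔ D
          have h1 : (x + y) ⊗ₜ[ZMod 2] (x + y) =
              x ⊗ₜ[ZMod 2] x + y ⊗ₜ[ZMod 2] y + (x ⊗ₜ[ZMod 2] y + y ⊗ₜ[ZMod 2] x) := by
            rw [TensorProduct.add_tmul, TensorProduct.tmul_add, TensorProduct.tmul_add]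
            abel
          rw [h1]
          exact Submodule.add_mem _ (Submodule.add_mem _ hx hy)
            (Submodule.mem_sup_left (hNsmem x y))
        smul_mem' := by
          intro c x hx
          change (c • x) ⊗ₜ[ZMod 2] (c • x) ∈ Ns ⊔ D
          rw [TensorProduct.smul_tmul_smul]
          exact Submodule.smul_mem _ _ hx }
    have hP : P = ⊤ := by
      rw [eq_top_iff, ← b.span_eq, Submodule.span_le]
      rintro _ ⟨i, rfl⟩
      exact Submodule.mem_sup_right (hDmem i)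
    rw [hNa, Submodule.span_le]
    rintro _ ⟨v, rfl⟩
    have : v ∈ P := by rw [hP]; trivial
    exact this
  have hNsW : Ns ≤ W := by
    let L : V ⊗[ZMod 2] V →ₗ[ZMod 2] V ⊗[ZMod 2] V :=
      LinearMap.id + (TensorProduct.comm (ZMod 2) V V).toLinearMap
    have hL : ∀ x y : V, L (x ⊗ₜ[ZMod 2] y) = x ⊗ₜ[ZMod 2] y + y ⊗ₜ[ZMod 2] x := by
      intro x y
      simp [L]
    have hLW : ∀ w, L w ∈ W := by
      intro w
      have hw : w ∈ Submodule.span (ZMod 2) (Set.range bb) := by rw [bb.span_eq]; trivial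
      induction hw using Submodule.span_induction with
      | mem x hx =>
        obtain ⟨⟨i, j⟩, rfl⟩ := hx
        rw [Basis.tensorProduct_apply, hL]
        by_cases hij : i = j
        · subst hij
          rw [two_smul_zero]
          exact W.zero_mem
        · exact W.add_mem (hWmem i j hij) (hWmem j i (Ne.symm hij))
      | zero => rw [map_zero]; exact W.zero_mem
      | add x y _ _ hx hy => rw [map_add]; exact W.add_mem hx hy
      | smul c x _ hx => rw [map_smul]; exact W.smul_mem c hx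
    rw [hNs, Submodule.span_le]
    rintro _ ⟨⟨x, y⟩, rfl⟩
    change x ⊗ₜ[ZMod 2] y + y ⊗ₜ[ZMod 2] x ∈ W
    rw [← hL]
    exact hLW _
  have hNaeq : Na = Ns ⊔ D := le_antisymm hNaNsD (sup_le hNsNa hDNa)
  refine ⟨W, hstab, ?_, ?_⟩
  · rw [hNaeq, inf_comm, sup_inf_assoc_of_le D hNsW, inf_comm, hWD, sup_bot_eq]
  · rw [eq_top_iff, ← hWDtop]
    exact sup_le_sup_left hDNa W

theorem neg_eq_self' {V : Type*} [AddCommGroup V] [Module (ZMod 2) V] (x : V) : -x = x := by
  rw [neg_eq_iff_add_eq_zero]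
  exact two_smul_zero x

theorem part1 {G : Type u} [Group G] (hG : Nat.card G = 2)
    {V : Type v} [AddCommGroup V] [Module (ZMod 2) V]
    (ρ : Representation (ZMod 2) G V) :
    ∃ (ι : Type v) (b : Basis ι (ZMod 2) V), ∀ g i, ρ g (b i) ∈ Set.range b := by
  classical
  obtain ⟨σ, hσ1, hσu⟩ := (Nat.card_eq_two_iff' (1 : G)).mp hG
  have hG2 : ∀ g : G, g = 1 ∨ g = σ := by
    intro g
    by_cases hg : g = 1
    · exact Or.inl hg
    · exact Or.inr (hσu g hg)
  have hσσ : σ * σ = 1 := by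
    rcases hG2 (σ * σ) with h | h
    · exact h
    · exfalso
      apply hσ1
      exact mul_eq_left.mp h
  set s : V →ₗ[ZMod 2] V := ρ σ with hs
  have hss : ∀ x, s (s x) = x := by
    intro x
    have : (ρ σ * ρ σ) x = x := by rw [← map_mul, hσσ, map_one]; rfl
    exact this
  set N : V →ₗ[ZMod 2] V := s + LinearMap.id with hN
  have hNx : ∀ x, N x = s x + x := fun x => rfl
  have hNs : ∀ x, N (s x) = N x := by
    intro x
    rw [hNx, hNx, hss, add_comm]
  have hNN : ∀ x, N (N x) = 0 := by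
    intro x
    rw [hNx x, map_add, hNs, ← two_smul_zero (N x)]
  have hKfix : ∀ x, N x = 0 → s x = x := by
    intro x hx
    rw [hNx] at hx
    have h1 : s x = -x := eq_neg_of_add_eq_zero_left hx
    rw [h1, neg_eq_self']
  set K := LinearMap.ker N with hK
  set R := LinearMap.range N with hR
  have hRK : R ≤ K := by
    rintro _ ⟨x, rfl⟩
    exact hNN x
  obtain ⟨U, hKU⟩ := @Submodule.exists_isCompl (ZMod 2) V _ _ _ K
  obtain ⟨Q, hRQ⟩ := @Submodule.exists_isCompl (ZMod 2) V _ _ _ R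
  set R' := Q ⊓ K with hR'
  have hR'K : R' ≤ K := inf_le_right
  have hRR' : R ⊓ R' = ⊥ := by
    rw [eq_bot_iff, ← hRQ.inf_eq_bot]
    exact inf_le_inf_left R inf_le_left
  have hRR'sup : R ⊔ R' = K := by
    rw [hR', ← sup_inf_assoc_of_le Q hRK, hRQ.sup_eq_top, top_inf_eq]
  let Φ : (U × (U × R')) →ₗ[ZMod 2] V :=
    LinearMap.coprod U.subtype (LinearMap.coprod (s ∘ₗ U.subtype) R'.subtype)
  have hΦ : ∀ (x y : U) (z : R'), Φ (x, (y, z)) = (x : V) + (s (y : V) + (z : V)) := by
    intro x y z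
    simp [Φ]
  have hU0 : ∀ x : V, x ∈ U → N x = 0 → x = 0 := by
    intro x hxU hx
    have : x ∈ K ⊓ U := ⟨hx, hxU⟩
    rw [hKU.inf_eq_bot] at this
    exact (Submodule.mem_bot _).mp this
  have hinj : Function.Injective Φ := by
    rw [injective_iff_map_eq_zero]
    rintro ⟨x, y, z⟩ h0
    rw [hΦ] at h0
    have hz : N (z : V) = 0 := hR'K z.2
    have h1 : N ((x : V) + (y : V)) = 0 := by
      have := congrArg N h0
      rw [map_add, map_add, hNs, hz, add_zero, map_zero] at this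
      rw [map_add]
      exact this
    have h2 : (x : V) + (y : V) = 0 := hU0 _ (U.add_mem x.2 y.2) h1
    have h3 : (y : V) = (x : V) := by
      rw [← neg_eq_self' (x : V)]
      exact eq_neg_of_add_eq_zero_right h2
    rw [h3] at h0
    have h4 : N (x : V) = -(z : V) := by
      rw [hNx, add_comm]
      rw [← add_assoc] at h0
      exact eq_neg_of_add_eq_zero_left h0
    have h5 : N (x : V) ∈ R ⊓ R' := ⟨⟨_, rfl⟩, by rw [h4]; exact R'.neg_mem z.2⟩
    rw [hRR', Submodule.mem_bot] at h5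
    have hx0 : (x : V) = 0 := hU0 _ x.2 h5
    have hy0 : (y : V) = 0 := by rw [h3, hx0]
    have hz0 : (z : V) = 0 := by
      rw [h5] at h4
      rw [← neg_eq_zero]
      exact h4.symm
    ext
    · exact hx0
    · exact hy0
    · exact hz0
  have hsurj : Function.Surjective Φ := by
    intro v
    have hv : v ∈ K ⊔ U := by rw [hKU.sup_eq_top]; trivial
    obtain ⟨k, hk, x, hx, rfl⟩ := Submodule.mem_sup.mp hv
    rw [← hRR'sup] at hk
    obtain ⟨r, hr, z, hz, rfl⟩ := Submodule.mem_sup.mp hk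
    obtain ⟨v', rfl⟩ := hr
    have hv' : v' ∈ K ⊔ U := by rw [hKU.sup_eq_top]; trivial
    obtain ⟨k', hk', y, hy, rfl⟩ := Submodule.mem_sup.mp hv'
    refine ⟨(⟨x + y, U.add_mem hx hy⟩, (⟨y, hy⟩, ⟨z, hz⟩)), ?_⟩
    rw [hΦ]
    have hk'0 : N k' = 0 := hk'
    rw [map_add, hk'0, zero_add, hNx]
    simp only
    abel
  let Φe := LinearEquiv.ofBijective Φ ⟨hinj, hsurj⟩
  let bU := Basis.ofVectorSpace (ZMod 2) U
  let bR' := Basis.ofVectorSpace (ZMod 2) R'
  let b := (bU.prod (bU.prod bR')).map Φe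
  refine ⟨_, b, ?_⟩
  have hb1 : ∀ i, b (Sum.inl i) = (bU i : V) := by
    intro i
    have h1 : b (Sum.inl i) = Φ (bU i, ((0 : U), (0 : R'))) := by
      first
        | (simp [b, Φe]; done)
        | (simp [b, Φe]; rfl)
    rw [h1, hΦ]
    simp
  have hb2 : ∀ i, b (Sum.inr (Sum.inl i)) = s (bU i : V) := by
    intro i
    have h1 : b (Sum.inr (Sum.inl i)) = Φ ((0 : U), (bU i, (0 : R'))) := by
      first
        | (simp [b, Φe]; done)
        | (simp [b, Φe]; rfl)
    rw [h1, hΦ]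
    simp
  have hb3 : ∀ j, b (Sum.inr (Sum.inr j)) = (bR' j : V) := by
    intro j
    have h1 : b (Sum.inr (Sum.inr j)) = Φ ((0 : U), ((0 : U), bR' j)) := by
      first
        | (simp [b, Φe]; done)
        | (simp [b, Φe]; rfl)
    rw [h1, hΦ]
    simp
  intro g i
  rcases hG2 g with rfl | rfl
  · rw [map_one]
    exact ⟨i, rfl⟩
  · rcases i with i | i | j
    · exact ⟨Sum.inr (Sum.inl i), by rw [hb2, hb1]⟩
    · exact ⟨Sum.inl i, by rw [hb2, hb1]; exact (hss _).symm⟩
    · refine ⟨Sum.inr (Sum.inr j), ?_⟩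
      rw [hb3]
      exact (hKfix _ (hR'K (bR' j).2)).symm


/-- Over the real numbers, that is for the group G = Gal(ℂ/ℝ) of order 2 acting linearly on a
finite-dimensional vector space V over the field 𝔽₂ with two elements, the short exact sequence of
G-modules 0 → V → S²V → Λ²V → 0 (v ↦ v·v, x·y ↦ x ∧ y) splits G-equivariantly. Here, for a vector
space V over the field with two elements carrying a linear action ρ of a group G, write N_a ⊆ V ⊗ V
for the span of the tensors v ⊗ v and N_s ⊆ N_a for the span of the tensors x ⊗ y + y ⊗ x, so that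
S²V = (V ⊗ V)/N_s, Λ²V = (V ⊗ V)/N_a and the surjection S²V → Λ²V, x·y ↦ x ∧ y, is G-equivariant for
the diagonal action; a G-equivariant linear section of this surjection is the same thing as a
G-stable subspace W of V ⊗ V with W ∩ N_a = N_s and W + N_a = V ⊗ V, which is how the splitting is
stated. (G is any group of order 2 here; V is taken finite-dimensional, the case covered by the
structure theory of finitely generated modules over 𝔽₂[G] that the argument uses.) -/
theorem result (G : Type u) [Group G] (hG : Nat.card G = 2)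
    (V : Type v) [AddCommGroup V] [Module (ZMod 2) V] [Module.Finite (ZMod 2) V]
    (ρ : Representation (ZMod 2) G V) :
    ∃ W : Submodule (ZMod 2) (V ⊗[ZMod 2] V),
      (∀ g : G, ∀ w ∈ W, ρ.tprod ρ g w ∈ W) ∧
      W ⊓ Submodule.span (ZMod 2) (Set.range fun v : V => v ⊗ₜ[ZMod 2] v) =
        Submodule.span (ZMod 2) (Set.range fun p : V × V => p.1 ⊗ₜ[ZMod 2] p.2 + p.2 ⊗ₜ[ZMod 2] p.1) ∧
      W ⊔ Submodule.span (ZMod 2) (Set.range fun v : V => v ⊗ₜ[ZMod 2] v) = ⊤ := by
  obtain ⟨ι, b, hb⟩ := part1 hG ρ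
  exact part2 ρ b hb

end Groth.Agent.S18549
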