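import Groth.Statements.S18550
import Mathlib.Algebra.Homology.DerivedCategory.TStructure
import Mathlib.Algebra.Homology.DerivedCategory.FullyFaithful
import Mathlib.CategoryTheory.Triangulated.TStructure.TruncLTGE
import Mathlib.CategoryTheory.Triangulated.Yoneda
import Mathlib.Tactic
-- import your own Groth.Agent.* helpers here

set_option autoImplicit false
open CategoryTheory Limits
universe w v u
open CohDer

namespace Groth.Agent.S18550


open DerivedCategory DerivedCategory.TStructure Pretriangulated

section
variable {A : Type u} [Category.{v} A] [Abelian A] [HasDerivedCategory.{w} A]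

lemma eq_zero_of_single (X : DerivedCategory A) (a : ℤ) [X.IsGE a] [X.IsLE a]
    (f : X ⟶ X) (hf : (DerivedCategory.homologyFunctor A a).map f = 0) : f = 0 := by
  obtain ⟨Y, ⟨e⟩⟩ := exists_iso_singleFunctor_obj_of_isGE_of_isLE X a
  obtain ⟨g', hg'⟩ := (singleFunctor A a).map_surjective (e.inv ≫ f ≫ e.hom)
  have h1 : (DerivedCategory.homologyFunctor A a).map ((singleFunctor A a).map g') = 0 := by
    rw [hg', Functor.map_comp, Functor.map_comp, hf]
    simp
  have h2 := NatIso.naturality_1 (singleFunctorCompHomologyFunctorIso A a) g'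
  dsimp at h2
  rw [h1] at h2
  have h3 : g' = 0 := by rw [← h2]; simp
  rw [h3, Functor.map_zero] at hg'
  have : f = e.hom ≫ (e.inv ≫ f ≫ e.hom) ≫ e.inv := by simp
  rw [this, ← hg']
  simp

lemma homology_truncGE_map_eq_zero (X : DerivedCategory A) (b : ℤ) [X.IsLE b]
    (f : X ⟶ X) (hf : ∀ i : ℤ, (DerivedCategory.homologyFunctor A i).map f = 0) (i : ℤ) :
    (DerivedCategory.homologyFunctor A i).map ((t.truncGE b).map f) = 0 := by
  by_cases hi : i < b
  · have hz : IsZero ((DerivedCategory.homologyFunctor A i).obj ((t.truncGE b).obj X)) :=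
      isZero_of_isGE _ b i hi
    exact hz.eq_of_src _ _
  · have hT := t.triangleLTGE_distinguished b X
    have hδ : HomologySequence.δ ((t.triangleLTGE b).obj X) i (i + 1) rfl = 0 := by
      have hz : IsZero ((DerivedCategory.homologyFunctor A (i + 1)).obj
          ((t.triangleLTGE b).obj X).obj₁) :=
        isZero_of_isLE _ (b - 1) (i + 1) (by omega)
      exact hz.eq_of_tgt _ _
    have hepi : Epi ((DerivedCategory.homologyFunctor A i).map ((t.truncGEπ b).app X)) :=
      (HomologySequence.epi_homologyMap_mor₂_iff _ hT i (i + 1) rfl).2 hδ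
    rw [← cancel_epi ((DerivedCategory.homologyFunctor A i).map ((t.truncGEπ b).app X)),
      ← Functor.map_comp, comp_zero]
    have := (t.truncGEπ b).naturality f
    dsimp at this
    rw [← this, Functor.map_comp, hf, zero_comp]

lemma homology_truncLT_map_eq_zero (X : DerivedCategory A) (b : ℤ)
    (f : X ⟶ X) (hf : ∀ i : ℤ, (DerivedCategory.homologyFunctor A i).map f = 0) (i : ℤ) :
    (DerivedCategory.homologyFunctor A i).map ((t.truncLT b).map f) = 0 := by
  by_cases hi : b - 1 < i
  · have hz : IsZero ((DerivedCategory.homologyFunctor A i).obj ((t.truncLT b).obj X)) :=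
      isZero_of_isLE _ (b - 1) i hi
    exact hz.eq_of_src _ _
  · have hT := t.triangleLTGE_distinguished b X
    have hδ : HomologySequence.δ ((t.triangleLTGE b).obj X) (i - 1) i (by omega) = 0 := by
      have hz : IsZero ((DerivedCategory.homologyFunctor A (i - 1)).obj
          ((t.triangleLTGE b).obj X).obj₃) :=
        isZero_of_isGE _ b (i - 1) (by omega)
      exact hz.eq_of_src _ _
    have hmono : Mono ((DerivedCategory.homologyFunctor A i).map ((t.truncLTι b).app X)) :=
      (HomologySequence.mono_homologyMap_mor₁_iff _ hT (i - 1) i (by omega)).2 hδ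
    rw [← cancel_mono ((DerivedCategory.homologyFunctor A i).map ((t.truncLTι b).app X)),
      ← Functor.map_comp, zero_comp]
    have := (t.truncLTι b).naturality f
    dsimp at this
    rw [this, Functor.map_comp, hf, comp_zero]

lemma main (n : ℕ) : ∀ (X : DerivedCategory A) (a : ℤ) [X.IsGE a] [X.IsLE (a + n)]
    (f : CategoryTheory.End X) (_ : ∀ i : ℤ, (DerivedCategory.homologyFunctor A i).map f = 0),
    f ^ (n + 1) = 0 := by
  induction n with
  | zero =>
    intro X a _ _ f hf
    have : X.IsLE a := by simpa using (inferInstance : X.IsLE (a + (0 : ℕ)))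
    simpa using eq_zero_of_single X a f (hf a)
  | succ n ih =>
    intro X a _ _ f hf
    set b : ℤ := a + (n + 1 : ℕ) with hb
    have hGE0 : (t.truncGE b).map f = 0 :=
      eq_zero_of_single ((t.truncGE b).obj X) b _ (homology_truncGE_map_eq_zero X b f hf b)
    have hπ : f ≫ (t.truncGEπ b).app X = 0 := by
      have := (t.truncGEπ b).naturality f
      dsimp at this
      rw [this, hGE0, comp_zero]
    obtain ⟨g, hg⟩ : ∃ g : X ⟶ (t.truncLT b).obj X, (f : X ⟶ X) = g ≫ (t.truncLTι b).app X :=
      Triangle.coyoneda_exact₂ _ (t.triangleLTGE_distinguished b X) f hπ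
    have : ((t.truncLT b).obj X).IsLE (a + n) := t.isLE_truncLT_obj X b (a + n) (by omega)
    have hLT : ((t.truncLT b).mapEnd X f) ^ (n + 1) = 0 :=
      ih ((t.truncLT b).obj X) a ((t.truncLT b).mapEnd X f)
        (homology_truncLT_map_eq_zero X b f hf)
    have hmap : (t.truncLT b).map (f ^ (n + 1)) = ((t.truncLT b).mapEnd X f) ^ (n + 1) :=
      map_pow ((t.truncLT b).mapEnd X) f (n + 1)
    have hnat : (t.truncLTι b).app X ≫ (f ^ (n + 1) : End X) = 0 := by
      have h5 := (t.truncLTι b).naturality (f ^ (n + 1))
      rw [hmap, hLT] at h5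
      change (0 : (t.truncLT b).obj X ⟶ (t.truncLT b).obj X) ≫ (t.truncLTι b).app X =
        (t.truncLTι b).app X ≫ (f ^ (n + 1) : End X) at h5
      rw [← h5, zero_comp]
    rw [pow_succ, End.mul_def]
    calc (f : X ⟶ X) ≫ (f ^ (n + 1) : End X)
        = (g ≫ (t.truncLTι b).app X) ≫ (f ^ (n + 1) : End X) := by rw [← hg]
      _ = g ≫ ((t.truncLTι b).app X ≫ (f ^ (n + 1) : End X)) := Category.assoc _ _ _
      _ = 0 := by rw [hnat, comp_zero]

end

/-- Let A be an abelian category, X an object of its derived category whose cohomology objects H^i(X)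
are zero for all integers i outside the interval [a, a + n], and f : X → X an endomorphism in the
derived category such that H^i(f) = 0 for every i. Then f^(n+1) = 0. (The source works in the
bounded derived category; the statement in D(A) for an object with cohomology bounded in this way is
the same assertion, the bounded derived category being a full subcategory.) -/
theorem result (A : Type u) [Category.{v} A] [Abelian A]
    [HasDerivedCategory.{w} A] (X : DerivedCategory A) (a : ℤ) (n : ℕ)
    (hX : ∀ i : ℤ, i < a ∨ a + n < i → IsZero ((DerivedCategory.homologyFunctor A i).obj X))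
    (f : CategoryTheory.End X) (hf : ∀ i : ℤ, (DerivedCategory.homologyFunctor A i).map f = 0) :
    f ^ (n + 1) = 0 := by
  have h1 : X.IsGE a := (DerivedCategory.isGE_iff X a).2 (fun i hi => hX i (Or.inl hi))
  have h2 : X.IsLE (a + n) := (DerivedCategory.isLE_iff X (a + n)).2 (fun i hi => hX i (Or.inr hi))
  exact main n X a f hf

end Groth.Agent.S18550
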