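import Groth.Statements.S1856
import Groth.Agent.Lib.Helper90.RelOrd5
import Groth.Agent.Lib.Helper73.DimFormula.FiberDimAdd

set_option autoImplicit false
universe u
open CategoryTheory AlgebraicGeometry
open Cyc

namespace Groth.Agent.S1856

/-- Let f : X → Y be flat, locally of finite type, of relative dimension r, and α, β rationally
equivalent k-cycles on Y. Then the flat pullbacks f^*α, f^*β (any cycles on X whose coefficients are
given by the flat-pullback formula) are rationally equivalent (k + r)-cycles on X. Here a pair (X,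
δ) with Cyc.IsSetup plays the role of a scheme locally of finite type over a fixed base with a
dimension function (X locally Noetherian with universally catenary local rings, δ a dimension
function), and Cyc.DeltaCompat records that the dimension function upstairs is the induced one. -/
theorem result (X Y : Scheme.{u}) (δX : X → ℤ) (δY : Y → ℤ) (hX : Cyc.IsSetup X δX) (hY : Cyc.IsSetup Y δY) (f : X ⟶ Y) [Flat f] [LocallyOfFiniteType f] (r : ℕ) (hr : Cyc.HasRelDim f r) (hδ : Cyc.DeltaCompat f δX δY) (k : ℤ) (α β : AlgebraicCycle Y ℤ) (hα : α ∈ Cyc.Zk Y δY k) (hβ : β ∈ Cyc.Zk Y δY k) (h : Cyc.RatEquiv δY k α β) (α' β' : AlgebraicCycle X ℤ) (hα' : ⇑α' = Cyc.pullFun f δX δY r ⇑α) (hβ' : ⇑β' = Cyc.pullFun f δX δY r ⇑β) : Cyc.RatEquiv δX (k + r) α' β' := by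
  have hresf : ∀ y : X, δX y = δY (f y) + Groth.Agent.Lib.Helper73.resTrdegNat f y := by
    intro x
    obtain ⟨n, hn, hx⟩ := hδ x
    have h1 : Groth.Agent.Lib.Helper73.resTrdeg f x = (n : Cardinal.{u}) := hn
    rw [Groth.Agent.Lib.Helper73.resTrdeg_eq_resTrdegNat] at h1
    have : Groth.Agent.Lib.Helper73.resTrdegNat f x = n := by exact_mod_cast h1
    rw [hx, this]
  rw [Groth.Agent.Lib.Helper73.hasRelDim_iff_forall_maximal] at hr
  have hcf : ∀ y : X, (∀ z, f z = f y → z ⤳ y → z = y) → δX y = δY (f y) + (r : ℤ) := by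
    intro y hy
    rw [hresf y, hr y (fun t ht hgt => hy t hgt ht)]
  have hsub : ⇑(α' - β') = Cyc.pullFun f δX δY (r : ℤ) ⇑(α - β) := by
    funext x
    have e1 : (α' - β') x = α' x - β' x := rfl
    have e2 : (α - β) (f x) = α (f x) - β (f x) := rfl
    rw [e1, hα', hβ']
    unfold Cyc.pullFun
    rw [e2]
    split_ifs
    · ring
    · ring
  exact Groth.Agent.Lib.Helper90.RelOrd.main1940 Y X δY δX hY hX f (r : ℤ) hcf k (α - β) h
    (α' - β') hsub

end Groth.Agent.S1856
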