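import Groth.Statements.S18560
import Mathlib.LinearAlgebra.FiniteDimensional.Lemmas
import Mathlib.LinearAlgebra.Dimension.Constructions
import Mathlib.Tactic.Linarith

set_option autoImplicit false
universe u v
open PtQuiv

namespace Groth.Agent.S18560

theorem finrank_le_two (K : Type u) [Field K] (L : Submodule K (Fin 2 → K)) :
    Module.finrank K L ≤ 2 := by
  have h := Submodule.finrank_le L
  simpa using h

/-- Let K be a field and s i ∈ K² (i in a finite index type) nonzero vectors, regarded as a
representation of the quiver with a central vertex carrying the plane and one vertex per i carrying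
a line that maps to the plane by 1 ↦ s i. For a weight θ in the hypersimplex (0 ≤ θ i ≤ 1, Σ θ i =
2, central weight -1) the representation is θ-semistable if and only if, for every vector v, the
indices i with s i on the line K ∙ v have total weight at most 1. (The published statement is over
an algebraically closed field, assumes semistability for some interior weight instead of s i ≠ 0,
and phrases the bound through the classes of pairwise proportional s i; any field is allowed here.
Its further assertion that the bounding walls, where the total weight of one proportionality class
equals 1, do not meet in the interior of the hypersimplex is not part of this row.) -/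
theorem result (K : Type u) [Field K] (ι : Type v) [Fintype ι]
    (s : ι → (Fin 2 → K)) (hs : ∀ i, s i ≠ 0) (θ : ι → ℚ) (h0 : ∀ i, 0 ≤ θ i)
    (h1 : ∀ i, θ i ≤ 1) (h2 : ∑ i, θ i = 2) :
    PtQuiv.QSemistable (-1) θ s ↔
      ∀ (J : Finset ι) (v : Fin 2 → K), (∀ i ∈ J, s i ∈ K ∙ v) → ∑ i ∈ J, θ i ≤ 1 := by
  constructor
  · rintro ⟨-, hss⟩ J v hJ
    by_cases hJe : J = ∅
    · subst hJe
      simp
    · obtain ⟨i0, hi0⟩ := Finset.nonempty_iff_ne_empty.mpr hJe
      have hv : v ≠ 0 := by
        rintro rfl
        have := hJ i0 hi0
        rw [Submodule.span_zero_singleton, Submodule.mem_bot] at this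
        exact hs i0 this
      have hfr : Module.finrank K (K ∙ v) = 1 := finrank_span_singleton hv
      have := hss (K ∙ v) J hJ
      unfold PtQuiv.QWt at this
      rw [hfr] at this
      push_cast at this
      linarith
  · intro h
    refine ⟨by rw [h2]; norm_num, ?_⟩
    intro L I hLI
    unfold PtQuiv.QWt
    have hle2 := finrank_le_two K L
    have hsum_le : ∑ i ∈ I, θ i ≤ 2 := by
      rw [← h2]
      exact Finset.sum_le_univ_sum_of_nonneg h0
    interval_cases hfr : Module.finrank K L
    · have hbot : L = ⊥ := Submodule.finrank_eq_zero.mp hfr
      have hI : I = ∅ := by
        rw [Finset.eq_empty_iff_forall_notMem]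
        intro i hi
        have := hLI i hi
        rw [hbot, Submodule.mem_bot] at this
        exact hs i this
      subst hI
      simp
    · obtain ⟨v, hv⟩ := (finrank_eq_one_iff' (K := K) (V := L)).mp hfr
      have hspan : L = K ∙ (v : Fin 2 → K) := by
        apply le_antisymm
        · intro w hw
          obtain ⟨c, hc⟩ := hv.2 ⟨w, hw⟩
          rw [Submodule.mem_span_singleton]
          refine ⟨c, ?_⟩
          have := congrArg Subtype.val hc
          simpa using this
        · rw [Submodule.span_singleton_le_iff_mem]
          exact v.2
      have := h I (v : Fin 2 → K) (fun i hi => hspan ▸ hLI i hi)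
      push_cast
      linarith
    · push_cast
      linarith

end Groth.Agent.S18560
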