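import Groth.Statements.S18561
import Groth.Agent.S18560
import Mathlib.Tactic.Linarith
import Mathlib.Tactic.FieldSimp

set_option autoImplicit false
universe u v
open PtQuiv

namespace Groth.Agent.S18561

theorem prop_of_mem_line {K : Type u} [Field K] {v a b : Fin 2 → K} (hb0 : b ≠ 0)
    (ha : a ∈ K ∙ v) (hb : b ∈ K ∙ v) : a ∈ K ∙ b := by
  obtain ⟨c, rfl⟩ := Submodule.mem_span_singleton.mp ha
  obtain ⟨d, rfl⟩ := Submodule.mem_span_singleton.mp hb
  have hd : d ≠ 0 := by
    rintro rfl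
    exact hb0 (zero_smul _ _)
  rw [Submodule.mem_span_singleton]
  refine ⟨c * d⁻¹, ?_⟩
  rw [smul_smul, mul_assoc, inv_mul_cancel₀ hd, mul_one]

theorem forward (K : Type u) [Field K] (ι : Type v)
    [Fintype ι] (s : ι → (Fin 2 → K)) (hs : ∀ i, s i ≠ 0)
    (θ : ι → ℚ) (h0 : ∀ i, 0 ≤ θ i) (h1 : ∀ i, θ i ≤ 1) (h2 : ∑ i, θ i = 2)
    (hst : PtQuiv.QStable (-1) θ s) :
    ∃ i j k : ι, s i ∉ K ∙ s j ∧ s j ∉ K ∙ s k ∧ s i ∉ K ∙ s k := by
  classical
  by_contra hcon
  push_neg at hcon
  obtain ⟨hss, hstab⟩ := hst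
  have hbound := (Groth.Agent.S18560.result K ι s hs θ h0 h1 h2).mp hss
  have hne : Nonempty ι := by
    by_contra hemp
    rw [not_nonempty_iff] at hemp
    rw [Finset.univ_eq_empty, Finset.sum_empty] at h2
    norm_num at h2
  obtain ⟨i0⟩ := hne
  set C1 : Finset ι := Finset.univ.filter (fun i => s i ∈ K ∙ s i0) with hC1
  set C2 : Finset ι := Finset.univ.filter (fun i => ¬ s i ∈ K ∙ s i0) with hC2
  have hw1 : ∑ i ∈ C1, θ i ≤ 1 :=
    hbound C1 (s i0) (fun i hi => (Finset.mem_filter.mp hi).2)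
  have hC2line : ∃ v : Fin 2 → K, ∀ i ∈ C2, s i ∈ K ∙ v := by
    by_cases hC2e : C2 = ∅
    · exact ⟨0, fun i hi => by rw [hC2e] at hi; exact absurd hi (Finset.notMem_empty _)⟩
    · obtain ⟨j0, hj0⟩ := Finset.nonempty_iff_ne_empty.mpr hC2e
      refine ⟨s j0, fun k hk => ?_⟩
      have hj0' := (Finset.mem_filter.mp hj0).2
      have hk' := (Finset.mem_filter.mp hk).2
      by_contra hknot
      exact hk' (hcon k j0 i0 hknot hj0')
  obtain ⟨v, hv⟩ := hC2line
  have hw2 : ∑ i ∈ C2, θ i ≤ 1 := hbound C2 v hv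
  have hsum : ∑ i ∈ C1, θ i + ∑ i ∈ C2, θ i = 2 := by
    rw [hC1, hC2, Finset.sum_filter_add_sum_filter_not, h2]
  have hw1eq : ∑ i ∈ C1, θ i = 1 := by linarith
  have hfr : Module.finrank K (K ∙ s i0) = 1 := finrank_span_singleton (hs i0)
  have hwt : PtQuiv.QWt K (-1) θ (K ∙ s i0) C1 = 0 := by
    unfold PtQuiv.QWt
    rw [hfr, hw1eq]
    norm_num
  have hsub : PtQuiv.QSubrep s (K ∙ s i0) C1 := fun i hi => (Finset.mem_filter.mp hi).2
  rcases hstab (K ∙ s i0) C1 hsub hwt with ⟨hbot, -⟩ | ⟨htop, -⟩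
  · have : s i0 ∈ (K ∙ s i0) := Submodule.mem_span_singleton_self _
    rw [hbot, Submodule.mem_bot] at this
    exact hs i0 this
  · rw [htop, finrank_top, Module.finrank_fin_fun] at hfr
    norm_num at hfr

theorem backward (K : Type u) [Field K] (ι : Type v)
    [Fintype ι] (s : ι → (Fin 2 → K)) (hs : ∀ i, s i ≠ 0)
    (i0 j0 k0 : ι) (hij : s i0 ∉ K ∙ s j0) (hjk : s j0 ∉ K ∙ s k0) (hik : s i0 ∉ K ∙ s k0) :
    ∃ θ : ι → ℚ, (∀ i, 0 ≤ θ i) ∧ (∀ i, θ i ≤ 1) ∧ ∑ i, θ i = 2 ∧ PtQuiv.QStable (-1) θ s := by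
  classical
  have hne_ij : i0 ≠ j0 := by
    rintro rfl; exact hij (Submodule.mem_span_singleton_self _)
  have hne_jk : j0 ≠ k0 := by
    rintro rfl; exact hjk (Submodule.mem_span_singleton_self _)
  have hne_ik : i0 ≠ k0 := by
    rintro rfl; exact hik (Submodule.mem_span_singleton_self _)
  set T : Finset ι := {i0, j0, k0} with hT
  have hTcard : T.card = 3 := by
    rw [hT, Finset.card_insert_of_notMem, Finset.card_insert_of_notMem, Finset.card_singleton]
    · simpa using hne_jk
    · simp [hne_ij, hne_ik]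
  set n : ℕ := Fintype.card ι with hn
  have hn3 : 3 ≤ n := by
    rw [← hTcard]
    exact Finset.card_le_univ T
  have hnpos : (0 : ℚ) < n := by
    have : (3 : ℚ) ≤ n := by exact_mod_cast hn3
    linarith
  set ε : ℚ := 1 / (2 * n) with hε
  have hεpos : 0 < ε := by
    rw [hε]
    exact div_pos one_pos (by linarith)
  have hεle : ε ≤ 1 / 6 := by
    rw [hε]
    have : (3 : ℚ) ≤ n := by exact_mod_cast hn3
    rw [div_le_div_iff₀ (by linarith) (by norm_num)]
    linarith
  have hnε : (n : ℚ) * ε = 1 / 2 := by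
    rw [hε]; field_simp
  let θ : ι → ℚ := fun i => ε + if i ∈ T then 1 / 2 else 0
  have hθT : ∀ i ∈ T, θ i = ε + 1 / 2 := fun i hi => by simp [θ, hi]
  have h0 : ∀ i, 0 ≤ θ i := by
    intro i
    simp only [θ]
    split_ifs <;> linarith
  have hpos : ∀ i, 0 < θ i := by
    intro i
    simp only [θ]
    split_ifs <;> linarith
  have h1 : ∀ i, θ i ≤ 1 := by
    intro i
    simp only [θ]
    split_ifs <;> linarith
  have h2 : ∑ i, θ i = 2 := by
    simp only [θ]
    rw [Finset.sum_add_distrib, Finset.sum_const, Finset.card_univ, ← hn, nsmul_eq_mul, hnε,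
      Finset.sum_ite_mem, Finset.univ_inter, Finset.sum_const, hTcard]
    norm_num
  have hi0T : i0 ∈ T := by simp [hT]
  have hj0T : j0 ∈ T := by simp [hT]
  have hk0T : k0 ∈ T := by simp [hT]
  -- strict bound on lines
  have hstrict : ∀ (J : Finset ι) (v : Fin 2 → K), (∀ i ∈ J, s i ∈ K ∙ v) → ∑ i ∈ J, θ i < 1 := by
    intro J v hJ
    have key : ∀ t1 t2 : ι, t1 ∈ T → t2 ∈ T → t1 ≠ t2 → t1 ∉ J → t2 ∉ J → ∑ i ∈ J, θ i < 1 := by
      intro t1 t2 ht1 ht2 hne ht1J ht2J
      have hsub : ∑ i ∈ insert t1 (insert t2 J), θ i ≤ ∑ i, θ i :=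
        Finset.sum_le_univ_sum_of_nonneg h0
      rw [Finset.sum_insert, Finset.sum_insert ht2J, h2, hθT t1 ht1, hθT t2 ht2] at hsub
      · linarith
      · simp [hne, ht1J]
    by_cases hi : i0 ∈ J
    · by_cases hj : j0 ∈ J
      · exact absurd (prop_of_mem_line (hs j0) (hJ i0 hi) (hJ j0 hj)) hij
      · by_cases hk : k0 ∈ J
        · exact absurd (prop_of_mem_line (hs k0) (hJ i0 hi) (hJ k0 hk)) hik
        · exact key j0 k0 hj0T hk0T hne_jk hj hk
    · by_cases hj : j0 ∈ J
      · by_cases hk : k0 ∈ J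
        · exact absurd (prop_of_mem_line (hs k0) (hJ j0 hj) (hJ k0 hk)) hjk
        · exact key i0 k0 hi0T hk0T hne_ik hi hk
      · exact key i0 j0 hi0T hj0T hne_ij hi hj
  have hss : PtQuiv.QSemistable (-1) θ s :=
    (Groth.Agent.S18560.result K ι s hs θ h0 h1 h2).mpr
      (fun J v hJ => le_of_lt (hstrict J v hJ))
  refine ⟨θ, h0, h1, h2, hss, ?_⟩
  intro L I hLI hwt
  unfold PtQuiv.QWt at hwt
  have hle2 := Groth.Agent.S18560.finrank_le_two K L
  interval_cases hfr : Module.finrank K L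
  · left
    have hbot : L = ⊥ := Submodule.finrank_eq_zero.mp hfr
    refine ⟨hbot, ?_⟩
    rw [Finset.eq_empty_iff_forall_notMem]
    intro i hi
    have := hLI i hi
    rw [hbot, Submodule.mem_bot] at this
    exact hs i this
  · exfalso
    obtain ⟨v, hv⟩ := (finrank_eq_one_iff' (K := K) (V := L)).mp hfr
    have hspan : L = K ∙ (v : Fin 2 → K) := by
      apply le_antisymm
      · intro w hw
        obtain ⟨c, hc⟩ := hv.2 ⟨w, hw⟩
        rw [Submodule.mem_span_singleton]
        refine ⟨c, ?_⟩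
        have := congrArg Subtype.val hc
        simpa using this
      · rw [Submodule.span_singleton_le_iff_mem]
        exact v.2
    have := hstrict I (v : Fin 2 → K) (fun i hi => hspan ▸ hLI i hi)
    push_cast at hwt
    linarith
  · right
    have htop : L = ⊤ := by
      apply Submodule.eq_top_of_finrank_eq
      rw [hfr, Module.finrank_fin_fun]
    refine ⟨htop, ?_⟩
    rw [Finset.eq_univ_iff_forall]
    intro i
    by_contra hi
    have hsub : ∑ j ∈ insert i I, θ j ≤ ∑ j, θ j := Finset.sum_le_univ_sum_of_nonneg h0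
    rw [Finset.sum_insert hi, h2] at hsub
    have := hpos i
    push_cast at hwt
    linarith

/-- Let K be a field and s i ∈ K² (i in a finite index type) nonzero vectors, regarded as a
representation of the quiver with a central vertex carrying the plane and one vertex per i carrying
a line mapping to the plane by 1 ↦ s i. Then the representation is stable for some weight of the
hypersimplex (0 ≤ θ i ≤ 1, Σ θ i = 2, central weight -1) if and only if the s i fall into at least
three proportionality classes, i.e. three of them are pairwise non-proportional. (The published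
statement is over an algebraically closed field and assumes semistability for some interior weight
instead of s i ≠ 0; any field is allowed here. Its further assertions, that the set of semistability
weights is full-dimensional exactly in this case and is a wall otherwise, are not part of this row.) -/
theorem result (K : Type u) [Field K] (ι : Type v)
    [Fintype ι] (s : ι → (Fin 2 → K)) (hs : ∀ i, s i ≠ 0) :
    (∃ θ : ι → ℚ, (∀ i, 0 ≤ θ i) ∧ (∀ i, θ i ≤ 1) ∧ ∑ i, θ i = 2 ∧ PtQuiv.QStable (-1) θ s) ↔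
      ∃ i j k : ι, s i ∉ K ∙ s j ∧ s j ∉ K ∙ s k ∧ s i ∉ K ∙ s k := by
  constructor
  · rintro ⟨θ, h0, h1, h2, hst⟩
    exact forward K ι s hs θ h0 h1 h2 hst
  · rintro ⟨i, j, k, hij, hjk, hik⟩
    exact backward K ι s hs i j k hij hjk hik

end Groth.Agent.S18561
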