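import Groth.Statements.S18562
-- import your own Groth.Agent.* helpers here
import Groth.Agent.S18560
import Mathlib.Tactic.Ring
import Mathlib.Tactic.Linarith
import Mathlib.Tactic.FieldSimp
import Mathlib.Tactic.FinCases
import Mathlib.LinearAlgebra.Dimension.OrzechProperty

set_option autoImplicit false
universe u v
open PtQuiv

namespace Groth.Agent.S18562

section
variable {K : Type u} [Field K] {κ : Type v} [Fintype κ] [DecidableEq κ]

theorem line_dep (L : Submodule K (Fin 2 → K)) (hL : Module.finrank K L = 1)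
    {x y : Fin 2 → K} (hx : x ∈ L) (hy : y ∈ L) :
    ∃ α β : K, (α ≠ 0 ∨ β ≠ 0) ∧ α • x + β • y = 0 := by
  obtain ⟨v, hv0, hv⟩ := finrank_eq_one_iff'.mp hL
  obtain ⟨cx, hcx⟩ := hv ⟨x, hx⟩
  obtain ⟨cy, hcy⟩ := hv ⟨y, hy⟩
  have hx' : x = cx • (v : Fin 2 → K) := by
    have := congrArg Subtype.val hcx
    simpa using this.symm
  have hy' : y = cy • (v : Fin 2 → K) := by
    have := congrArg Subtype.val hcy
    simpa using this.symm
  by_cases h : cx = 0 ∧ cy = 0
  · refine ⟨1, 0, Or.inl one_ne_zero, ?_⟩
    rw [hx', h.1]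
    simp
  · refine ⟨cy, -cx, ?_, ?_⟩
    · by_contra hcon
      push_neg at hcon
      exact h ⟨neg_eq_zero.mp hcon.2, hcon.1⟩
    · rw [hx', hy', smul_smul, smul_smul, ← add_smul]
      convert zero_smul K (v : Fin 2 → K) using 2
      ring

theorem sum_split (a b : κ) (hab : a ≠ b) (f : κ → ℚ) :
    ∑ i, f i = f a + f b + ∑ i : {i : κ // i ≠ a ∧ i ≠ b}, f i.1 := by
  rw [← Finset.add_sum_erase Finset.univ f (Finset.mem_univ a),
    ← Finset.add_sum_erase (Finset.univ.erase a) f (by simp [hab.symm] : b ∈ _), ← add_assoc]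
  congr 1
  exact Finset.sum_subtype _ (by intro x; simp [and_comm]) f

theorem sum_I (a b : κ) (hab : a ≠ b) (θ : κ → ℚ) (I : Finset κ) :
    ∑ i ∈ I, θ i = (if a ∈ I then θ a else 0) + (if b ∈ I then θ b else 0) +
      ∑ i ∈ I.subtype (fun i => i ≠ a ∧ i ≠ b), θ i.1 := by
  have h := sum_split a b hab (fun i => if i ∈ I then θ i else 0)
  rw [Finset.sum_ite_mem, Finset.univ_inter] at h
  rw [h]
  congr 1
  rw [← Finset.sum_filter]
  congr 1
  ext i
  simp [Finset.mem_subtype]

theorem finrank_top_self : (Module.finrank K (⊤ : Submodule K K) : ℚ) = 1 := by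
  rw [finrank_top, Module.finrank_self]; norm_num

theorem finrank_bot_self : (Module.finrank K (⊥ : Submodule K K) : ℚ) = 0 := by
  rw [finrank_bot]; norm_num

theorem pwt_eq (a b : κ) (θ : κ → ℚ) (c : ℚ) (U : Fin 2 → Submodule K K)
    (I : Finset {i : κ // i ≠ a ∧ i ≠ b}) :
    PWt K ![c * (θ a - 1), c * (θ b - 1)] (fun i : {i : κ // i ≠ a ∧ i ≠ b} => c * θ i.1) U I =
      c * (θ a - 1) * (Module.finrank K (U 0) : ℚ) + c * (θ b - 1) * (Module.finrank K (U 1) : ℚ)
        + c * ∑ i ∈ I, θ i.1 := by
  unfold PWt
  rw [Fin.sum_univ_two, Finset.mul_sum]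
  rfl

theorem transferA (a b : κ) (hab : a ≠ b) (s : κ → (Fin 2 → K)) (θ : κ → ℚ) (c : ℚ)
    (hLI : LinearIndependent K ![s a, s b])
    (t : {i : κ // i ≠ a ∧ i ≠ b} → (Fin 2 → K))
    (ht : ∀ i, s i.1 = t i 0 • s a + t i 1 • s b)
    (U : Fin 2 → Submodule K K) (I : Finset {i : κ // i ≠ a ∧ i ≠ b})
    (hsub : PSubrep t U I) :
    ∃ (L : Submodule K (Fin 2 → K)) (I' : Finset κ), QSubrep s L I' ∧
      PWt K ![c * (θ a - 1), c * (θ b - 1)] (fun i : {i : κ // i ≠ a ∧ i ≠ b} => c * θ i.1) U I
        = c * QWt K (-1) θ L I' ∧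
      ((L = ⊥ ∧ I' = ∅) → (U = ⊥ ∧ I = ∅)) ∧
      ((L = ⊤ ∧ I' = Finset.univ) → (U = ⊤ ∧ I = Finset.univ)) := by
  classical
  have hsa : s a ≠ 0 := by simpa using hLI.ne_zero 0
  have hsb : s b ≠ 0 := by simpa using hLI.ne_zero 1
  set emb : {i : κ // i ≠ a ∧ i ≠ b} ↪ κ := Function.Embedding.subtype _ with hemb
  have hmem : ∀ i : κ, i ∈ I.map emb ↔ ∃ j ∈ I, j.1 = i := by
    intro i
    simp [emb]
  have ha_notin : a ∉ I.map emb := by
    rw [hmem]
    rintro ⟨j, _, hj⟩
    exact j.2.1 hj
  have hb_notin : b ∉ I.map emb := by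
    rw [hmem]
    rintro ⟨j, _, hj⟩
    exact j.2.2 hj
  have hsumI : ∑ i ∈ I.map emb, θ i = ∑ i ∈ I, θ i.1 := by
    rw [Finset.sum_map]
    rfl
  have h2top : Module.finrank K (⊤ : Submodule K (Fin 2 → K)) = 2 := by
    rw [finrank_top, Module.finrank_fin_fun]
  rw [pwt_eq]
  rcases Ideal.eq_bot_or_top (U 0) with h0 | h0 <;> rcases Ideal.eq_bot_or_top (U 1) with h1 | h1
  · refine ⟨⊥, I.map emb, ?_, ?_, ?_, ?_⟩
    · intro i hi
      obtain ⟨j, hj, rfl⟩ := (hmem i).mp hi
      have e0 : t j 0 = 0 := by
        have := hsub j hj 0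
        rw [h0] at this
        simpa using this
      have e1 : t j 1 = 0 := by
        have := hsub j hj 1
        rw [h1] at this
        simpa using this
      rw [ht j, e0, e1]
      simp
    · unfold QWt
      rw [h0, h1, finrank_bot_self, finrank_bot, hsumI]
      push_cast
      ring
    · rintro ⟨-, hI⟩
      refine ⟨?_, Finset.map_eq_empty.mp hI⟩
      funext j
      fin_cases j
      · exact h0
      · exact h1
    · rintro ⟨hL, -⟩
      exact absurd hL bot_ne_top
  · refine ⟨K ∙ s b, insert b (I.map emb), ?_, ?_, ?_, ?_⟩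
    · intro i hi
      rcases Finset.mem_insert.mp hi with rfl | hi
      · exact Submodule.mem_span_singleton_self _
      · obtain ⟨j, hj, rfl⟩ := (hmem i).mp hi
        have e0 : t j 0 = 0 := by
          have := hsub j hj 0
          rw [h0] at this
          simpa using this
        rw [ht j, e0, zero_smul, zero_add]
        exact Submodule.smul_mem _ _ (Submodule.mem_span_singleton_self _)
    · unfold QWt
      rw [h0, h1, finrank_bot_self, finrank_top_self, finrank_span_singleton hsb,
        Finset.sum_insert hb_notin, hsumI]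
      push_cast
      ring
    · rintro ⟨-, hI⟩
      exact absurd hI (Finset.insert_ne_empty _ _)
    · rintro ⟨hL, -⟩
      have := finrank_span_singleton (K := K) hsb
      rw [hL, h2top] at this
      omega
  · refine ⟨K ∙ s a, insert a (I.map emb), ?_, ?_, ?_, ?_⟩
    · intro i hi
      rcases Finset.mem_insert.mp hi with rfl | hi
      · exact Submodule.mem_span_singleton_self _
      · obtain ⟨j, hj, rfl⟩ := (hmem i).mp hi
        have e1 : t j 1 = 0 := by
          have := hsub j hj 1
          rw [h1] at this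
          simpa using this
        rw [ht j, e1, zero_smul, add_zero]
        exact Submodule.smul_mem _ _ (Submodule.mem_span_singleton_self _)
    · unfold QWt
      rw [h0, h1, finrank_bot_self, finrank_top_self, finrank_span_singleton hsa,
        Finset.sum_insert ha_notin, hsumI]
      push_cast
      ring
    · rintro ⟨-, hI⟩
      exact absurd hI (Finset.insert_ne_empty _ _)
    · rintro ⟨hL, -⟩
      have := finrank_span_singleton (K := K) hsa
      rw [hL, h2top] at this
      omega
  · refine ⟨⊤, insert a (insert b (I.map emb)), ?_, ?_, ?_, ?_⟩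
    · intro i _
      exact Submodule.mem_top
    · unfold QWt
      have hab' : a ∉ insert b (I.map emb) := by
        rw [Finset.mem_insert]
        rintro (h | h)
        · exact hab h
        · exact ha_notin h
      rw [h0, h1, finrank_top_self, h2top, Finset.sum_insert hab', Finset.sum_insert hb_notin,
        hsumI]
      push_cast
      ring
    · rintro ⟨hL, -⟩
      exact absurd hL top_ne_bot
    · rintro ⟨-, hI⟩
      refine ⟨?_, ?_⟩
      · funext j
        fin_cases j
        · exact h0
        · exact h1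
      · rw [Finset.eq_univ_iff_forall]
        intro i
        have hi : i.1 ∈ insert a (insert b (I.map emb)) := by
          rw [hI]
          exact Finset.mem_univ _
        rcases Finset.mem_insert.mp hi with h | hi
        · exact absurd h i.2.1
        · rcases Finset.mem_insert.mp hi with h | hi
          · exact absurd h i.2.2
          · obtain ⟨j, hj, hji⟩ := (hmem _).mp hi
            have : j = i := Subtype.ext hji
            rwa [← this]

theorem transferB (a b : κ) (hab : a ≠ b) (s : κ → (Fin 2 → K)) (θ : κ → ℚ) (c : ℚ) (hc : 0 < c)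
    (h0 : ∀ i, 0 ≤ θ i) (h1 : ∀ i, θ i ≤ 1) (hθ : 1 < θ a + θ b)
    (hLI : LinearIndependent K ![s a, s b])
    (t : {i : κ // i ≠ a ∧ i ≠ b} → (Fin 2 → K))
    (ht : ∀ i, s i.1 = t i 0 • s a + t i 1 • s b)
    (L : Submodule K (Fin 2 → K)) (I : Finset κ) (hsub : QSubrep s L I) :
    ∃ (U : Fin 2 → Submodule K K) (I'' : Finset {i : κ // i ≠ a ∧ i ≠ b}), PSubrep t U I'' ∧
      c * QWt K (-1) θ L I ≤
        PWt K ![c * (θ a - 1), c * (θ b - 1)] (fun i : {i : κ // i ≠ a ∧ i ≠ b} => c * θ i.1) U I''
      ∧ (c * QWt K (-1) θ L I =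
        PWt K ![c * (θ a - 1), c * (θ b - 1)] (fun i : {i : κ // i ≠ a ∧ i ≠ b} => c * θ i.1) U I''
        → ((U = ⊥ ∧ I'' = ∅) → (L = ⊥ ∧ I = ∅)) ∧
          ((U = ⊤ ∧ I'' = Finset.univ) → (L = ⊤ ∧ I = Finset.univ))) := by
  classical
  have hsa : s a ≠ 0 := by simpa using hLI.ne_zero 0
  have hsb : s b ≠ 0 := by simpa using hLI.ne_zero 1
  have hpair := LinearIndependent.pair_iff.mp hLI
  have hθa : 0 < θ a := by linarith [h1 b]
  have hθb : 0 < θ b := by linarith [h1 a]
  have hca : 0 < c * θ a := mul_pos hc hθa
  have hcb : 0 < c * θ b := mul_pos hc hθb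
  have h2top : Module.finrank K (⊤ : Submodule K (Fin 2 → K)) = 2 := by
    rw [finrank_top, Module.finrank_fin_fun]
  set I'' : Finset {i : κ // i ≠ a ∧ i ≠ b} := I.subtype (fun i => i ≠ a ∧ i ≠ b) with hI''
  have hmemI'' : ∀ i : {i : κ // i ≠ a ∧ i ≠ b}, i ∈ I'' ↔ i.1 ∈ I := fun i => Finset.mem_subtype
  have hQ : QWt K (-1) θ L I = -1 * (Module.finrank K L : ℚ) + ((if a ∈ I then θ a else 0) +
      (if b ∈ I then θ b else 0) + ∑ i ∈ I'', θ i.1) := by
    unfold QWt
    rw [sum_I a b hab θ I]
  have hd := Groth.Agent.S18560.finrank_le_two K L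
  have hUbot : ∀ U : Fin 2 → Submodule K K, (U 0 = ⊤ ∨ U 1 = ⊤) → U ≠ ⊥ := by
    intro U hU hbot
    rcases hU with h | h
    · have h' := congrFun hbot 0
      rw [h] at h'
      exact top_ne_bot h'
    · have h' := congrFun hbot 1
      rw [h] at h'
      exact top_ne_bot h'
  have hUtop : ∀ U : Fin 2 → Submodule K K, (U 0 = ⊥ ∨ U 1 = ⊥) → U ≠ ⊤ := by
    intro U hU htop
    rcases hU with h | h
    · have h' := congrFun htop 0
      rw [h] at h'
      exact bot_ne_top h'
    · have h' := congrFun htop 1
      rw [h] at h'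
      exact bot_ne_top h'
  have hIempty : a ∉ I → b ∉ I → I'' = ∅ → I = ∅ := by
    intro ha hb hI
    rw [Finset.eq_empty_iff_forall_notMem]
    intro i hi
    have hia : i ≠ a := fun h => ha (h ▸ hi)
    have hib : i ≠ b := fun h => hb (h ▸ hi)
    have : (⟨i, hia, hib⟩ : {i : κ // i ≠ a ∧ i ≠ b}) ∈ I'' := (hmemI'' _).mpr hi
    rw [hI] at this
    exact absurd this (Finset.notMem_empty _)
  have hIuniv : a ∈ I → b ∈ I → I'' = Finset.univ → I = Finset.univ := by
    intro ha hb hI
    rw [Finset.eq_univ_iff_forall]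
    intro i
    by_cases hia : i = a
    · exact hia ▸ ha
    by_cases hib : i = b
    · exact hib ▸ hb
    have : (⟨i, hia, hib⟩ : {i : κ // i ≠ a ∧ i ≠ b}) ∈ I'' := by
      rw [hI]
      exact Finset.mem_univ _
    exact (hmemI'' _).mp this
  rw [hQ]
  simp only [pwt_eq]
  have hcases : Module.finrank K L = 0 ∨ Module.finrank K L = 1 ∨ Module.finrank K L = 2 := by
    omega
  rcases hcases with hd0 | hd1 | hd2
  · have hLbot : L = ⊥ := Submodule.finrank_eq_zero.mp hd0
    have haI : a ∉ I := by
      intro ha
      have := hsub a ha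
      rw [hLbot, Submodule.mem_bot] at this
      exact hsa this
    have hbI : b ∉ I := by
      intro hb
      have := hsub b hb
      rw [hLbot, Submodule.mem_bot] at this
      exact hsb this
    refine ⟨fun _ => ⊥, I'', ?_, ?_, ?_⟩
    · intro i hi j
      have hsi := hsub i.1 ((hmemI'' i).mp hi)
      rw [hLbot, Submodule.mem_bot, ht i] at hsi
      have := hpair _ _ hsi
      fin_cases j
      · simp [this.1]
      · simp [this.2]
    · rw [hd0, if_neg haI, if_neg hbI, finrank_bot_self]
      push_cast
      apply le_of_eq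
      ring
    · intro _
      refine ⟨fun h => ⟨hLbot, hIempty haI hbI h.2⟩, fun h => ?_⟩
      exact absurd h.1 (hUtop _ (Or.inl rfl))
  · by_cases haI : a ∈ I <;> by_cases hbI : b ∈ I
    · exfalso
      obtain ⟨α, β, hne, hαβ⟩ := line_dep L hd1 (hsub a haI) (hsub b hbI)
      have := hpair _ _ hαβ
      rcases hne with h | h
      · exact h this.1
      · exact h this.2
    · refine ⟨![⊤, ⊥], I'', ?_, ?_, ?_⟩
      · intro i hi j
        fin_cases j
        · exact Submodule.mem_top
        · show t i 1 ∈ (⊥ : Submodule K K)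
          rw [Submodule.mem_bot]
          obtain ⟨α, β, hne, hαβ⟩ := line_dep L hd1 (hsub a haI) (hsub i.1 ((hmemI'' i).mp hi))
          rw [ht i] at hαβ
          have e : (α + β * t i 0) • s a + (β * t i 1) • s b = 0 := by
            rw [← hαβ, add_smul, smul_add, smul_smul, smul_smul]
            abel
          have := hpair _ _ e
          have hβ : β ≠ 0 := by
            intro hβ
            rw [hβ, zero_mul, add_zero] at this
            rcases hne with h | h
            · exact h this.1
            · exact h hβ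
          rcases mul_eq_zero.mp this.2 with h | h
          · exact absurd h hβ
          · exact h
      · rw [hd1, if_pos haI, if_neg hbI]
        show _ ≤ c * (θ a - 1) * (Module.finrank K (⊤ : Submodule K K) : ℚ) +
          c * (θ b - 1) * (Module.finrank K (⊥ : Submodule K K) : ℚ) + _
        rw [finrank_bot_self, finrank_top_self]
        push_cast
        apply le_of_eq
        ring
      · intro _
        refine ⟨fun h => ?_, fun h => ?_⟩
        · exact absurd h.1 (hUbot _ (Or.inl rfl))
        · exact absurd h.1 (hUtop _ (Or.inr rfl))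
    · refine ⟨![⊥, ⊤], I'', ?_, ?_, ?_⟩
      · intro i hi j
        fin_cases j
        · show t i 0 ∈ (⊥ : Submodule K K)
          rw [Submodule.mem_bot]
          obtain ⟨α, β, hne, hαβ⟩ := line_dep L hd1 (hsub b hbI) (hsub i.1 ((hmemI'' i).mp hi))
          rw [ht i] at hαβ
          have e : (β * t i 0) • s a + (α + β * t i 1) • s b = 0 := by
            rw [← hαβ, add_smul, smul_add, smul_smul, smul_smul]
            abel
          have := hpair _ _ e
          have hβ : β ≠ 0 := by
            intro hβ
            have hα : α = 0 := by simpa [hβ] using this.2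
            rcases hne with h | h
            · exact h hα
            · exact h hβ
          rcases mul_eq_zero.mp this.1 with h | h
          · exact absurd h hβ
          · exact h
        · exact Submodule.mem_top
      · rw [hd1, if_neg haI, if_pos hbI]
        show _ ≤ c * (θ a - 1) * (Module.finrank K (⊥ : Submodule K K) : ℚ) +
          c * (θ b - 1) * (Module.finrank K (⊤ : Submodule K K) : ℚ) + _
        rw [finrank_bot_self, finrank_top_self]
        push_cast
        apply le_of_eq
        ring
      · intro _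
        refine ⟨fun h => ?_, fun h => ?_⟩
        · exact absurd h.1 (hUbot _ (Or.inr rfl))
        · exact absurd h.1 (hUtop _ (Or.inl rfl))
    · refine ⟨fun _ => ⊤, I'', ?_, ?_, ?_⟩
      · intro i _ j
        exact Submodule.mem_top
      · rw [hd1, if_neg haI, if_neg hbI, finrank_top_self]
        push_cast
        nlinarith
      · intro heq
        exfalso
        rw [hd1, if_neg haI, if_neg hbI, finrank_top_self] at heq
        push_cast at heq
        nlinarith
  · have hLtop : L = ⊤ := by
      apply Submodule.eq_top_of_finrank_eq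
      rw [hd2, Module.finrank_fin_fun]
    refine ⟨fun _ => ⊤, I'', ?_, ?_, ?_⟩
    · intro i _ j
      exact Submodule.mem_top
    · rw [hd2, finrank_top_self]
      push_cast
      split_ifs <;> nlinarith
    · intro heq
      rw [hd2, finrank_top_self] at heq
      push_cast at heq
      have haI : a ∈ I := by
        by_contra haI
        rw [if_neg haI] at heq
        split_ifs at heq <;> nlinarith
      have hbI : b ∈ I := by
        by_contra hbI
        rw [if_neg hbI] at heq
        split_ifs at heq <;> nlinarith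
      refine ⟨fun h => ?_, fun h => ⟨hLtop, hIuniv haI hbI h.2⟩⟩
      exact absurd h.1 (hUbot _ (Or.inl rfl))

end

/-- Let K be a field, κ a finite index type with a ≠ b, and s i ∈ K² a representation of the quiver with
a central vertex carrying the plane and one vertex per i : κ carrying a line mapping to the plane by
1 ↦ s i. Let θ be a weight of the hypersimplex (0 ≤ θ i ≤ 1, Σ θ i = 2, central weight -1) with 1 <
θ a + θ b < 2, and put c = 1 / (2 - θ a - θ b). Then s is θ-semistable if and only if s a, s b are
linearly independent and, writing every other s i = t i 0 • s a + t i 1 • s b, the representation t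
of the quiver with two one-dimensional sinks p₀, p₁ and one one-dimensional source per i ≠ a, b
(arrow to p_j given by t i j) is semistable for the weight c (θ a - 1) at p₀, c (θ b - 1) at p₁ and
c θ i at the sources. (The published statement is about representations over a base scheme, with
(semi)stability tested on geometric fibres, that is over algebraically closed fields; this row
states the fibrewise content over an arbitrary field.) -/
theorem result (K : Type u) [Field K]
    (κ : Type v) [Fintype κ] [DecidableEq κ] (a b : κ) (hab : a ≠ b) (s : κ → (Fin 2 → K))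
    (θ : κ → ℚ) (h0 : ∀ i, 0 ≤ θ i) (h1 : ∀ i, θ i ≤ 1) (h2 : ∑ i, θ i = 2)
    (hθ : 1 < θ a + θ b) (hθ' : θ a + θ b < 2) :
    PtQuiv.QSemistable (-1) θ s ↔
      (LinearIndependent K ![s a, s b] ∧
        ∀ t : {i : κ // i ≠ a ∧ i ≠ b} → (Fin 2 → K),
          (∀ i, s i.1 = t i 0 • s a + t i 1 • s b) →
            PtQuiv.PSemistable ![(2 - θ a - θ b)⁻¹ * (θ a - 1), (2 - θ a - θ b)⁻¹ * (θ b - 1)]
              (fun i : {i : κ // i ≠ a ∧ i ≠ b} => (2 - θ a - θ b)⁻¹ * θ i.1) t) := by
  classical
  have hcpos : 0 < (2 - θ a - θ b)⁻¹ := inv_pos.mpr (by linarith)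
  have hcne : (2 - θ a - θ b) ≠ 0 := by
    intro h
    linarith
  have hsumκ' : ∑ i : {i : κ // i ≠ a ∧ i ≠ b}, θ i.1 = 2 - θ a - θ b := by
    have := sum_split a b hab θ
    linarith
  have hPsum : (∑ j, ![(2 - θ a - θ b)⁻¹ * (θ a - 1), (2 - θ a - θ b)⁻¹ * (θ b - 1)] j) +
      ∑ i : {i : κ // i ≠ a ∧ i ≠ b}, (2 - θ a - θ b)⁻¹ * θ i.1 = 0 := by
    rw [Fin.sum_univ_two, ← Finset.mul_sum, hsumκ']
    simp only [Matrix.cons_val_zero, Matrix.cons_val_one]
    field_simp
    ring
  constructor
  · intro hQ
    have hLI : LinearIndependent K ![s a, s b] := by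
      by_contra hnot
      have hle : (Set.range ![s a, s b]).finrank K ≤ 2 := by
        have := finrank_range_le_card (R := K) ![s a, s b]
        simpa using this
      have hne : (Set.range ![s a, s b]).finrank K ≠ 2 := by
        intro h
        apply hnot
        rw [linearIndependent_iff_card_eq_finrank_span, h]
        simp
      have hL1 : Module.finrank K (Submodule.span K (Set.range ![s a, s b])) ≤ 1 := by
        have : Module.finrank K (Submodule.span K (Set.range ![s a, s b])) =
          (Set.range ![s a, s b]).finrank K := rfl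
        omega
      have hq : QSubrep s (Submodule.span K (Set.range ![s a, s b])) {a, b} := by
        intro i hi
        rcases Finset.mem_insert.mp hi with rfl | hi
        · exact Submodule.subset_span ⟨0, rfl⟩
        · rw [Finset.mem_singleton] at hi
          subst hi
          exact Submodule.subset_span ⟨1, rfl⟩
      have hw := hQ.2 _ _ hq
      unfold QWt at hw
      rw [Finset.sum_pair hab] at hw
      have : (Module.finrank K (Submodule.span K (Set.range ![s a, s b])) : ℚ) ≤ 1 := by
        exact_mod_cast hL1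
      linarith
    refine ⟨hLI, fun t ht => ⟨hPsum, fun U I hsub => ?_⟩⟩
    obtain ⟨L, I', hq, hw, -, -⟩ := transferA a b hab s θ (2 - θ a - θ b)⁻¹ hLI t ht U I hsub
    rw [hw]
    exact mul_nonpos_of_nonneg_of_nonpos hcpos.le (hQ.2 L I' hq)
  · rintro ⟨hLI, hP⟩
    have hspan : Submodule.span K (Set.range ![s a, s b]) = ⊤ := by
      apply hLI.span_eq_top_of_card_eq_finrank'
      simp
    have hex : ∀ i : {i : κ // i ≠ a ∧ i ≠ b}, ∃ c : Fin 2 → K,
        s i.1 = c 0 • s a + c 1 • s b := by
      intro i
      have hmem : s i.1 ∈ Submodule.span K (Set.range ![s a, s b]) := by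
        rw [hspan]
        trivial
      obtain ⟨c, hc⟩ := (Submodule.mem_span_range_iff_exists_fun K).mp hmem
      refine ⟨c, ?_⟩
      rw [← hc, Fin.sum_univ_two]
      rfl
    choose t ht using hex
    have hPt := hP t ht
    refine ⟨by rw [h2]; norm_num, fun L I hsub => ?_⟩
    obtain ⟨U, I'', hp, hle, -⟩ :=
      transferB a b hab s θ (2 - θ a - θ b)⁻¹ hcpos h0 h1 hθ hLI t ht L I hsub
    have hle2 := hPt.2 U I'' hp
    by_contra hpos
    push_neg at hpos
    have := mul_pos hcpos hpos
    linarith

end Groth.Agent.S18562
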