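import Groth.Statements.S18563
-- import your own Groth.Agent.* helpers here
import Groth.Agent.S18562

set_option autoImplicit false
universe u v
open PtQuiv

namespace Groth.Agent.S18563

/-- Let K be a field, κ a finite index type with a ≠ b, and s i ∈ K² a representation of the quiver with
a central vertex carrying the plane and one vertex per i : κ carrying a line mapping to the plane by
1 ↦ s i. Let θ be a weight of the hypersimplex (0 ≤ θ i ≤ 1, Σ θ i = 2, central weight -1) with 1 <
θ a + θ b < 2, and put c = 1 / (2 - θ a - θ b). Then s is θ-stable if and only if s a, s b are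
linearly independent and, writing every other s i = t i 0 • s a + t i 1 • s b, the representation t
of the quiver with two one-dimensional sinks p₀, p₁ and one one-dimensional source per i ≠ a, b
(arrow to p_j given by t i j) is stable for the weight c (θ a - 1) at p₀, c (θ b - 1) at p₁ and c θ
i at the sources. (The published statement is about representations over a base scheme, with
(semi)stability tested on geometric fibres, that is over algebraically closed fields; this row
states the fibrewise content over an arbitrary field.) -/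
theorem result (K : Type u) [Field K]
    (κ : Type v) [Fintype κ] [DecidableEq κ] (a b : κ) (hab : a ≠ b) (s : κ → (Fin 2 → K))
    (θ : κ → ℚ) (h0 : ∀ i, 0 ≤ θ i) (h1 : ∀ i, θ i ≤ 1) (h2 : ∑ i, θ i = 2)
    (hθ : 1 < θ a + θ b) (hθ' : θ a + θ b < 2) :
    PtQuiv.QStable (-1) θ s ↔
      (LinearIndependent K ![s a, s b] ∧
        ∀ t : {i : κ // i ≠ a ∧ i ≠ b} → (Fin 2 → K),
          (∀ i, s i.1 = t i 0 • s a + t i 1 • s b) →
            PtQuiv.PStable ![(2 - θ a - θ b)⁻¹ * (θ a - 1), (2 - θ a - θ b)⁻¹ * (θ b - 1)]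
              (fun i : {i : κ // i ≠ a ∧ i ≠ b} => (2 - θ a - θ b)⁻¹ * θ i.1) t) := by
  classical
  have hcpos : 0 < (2 - θ a - θ b)⁻¹ := inv_pos.mpr (by linarith)
  have hss := Groth.Agent.S18562.result K κ a b hab s θ h0 h1 h2 hθ hθ'
  constructor
  · intro hQ
    obtain ⟨hLI, hPss⟩ := hss.mp hQ.1
    refine ⟨hLI, fun t ht => ⟨hPss t ht, fun U I hsub hw0 => ?_⟩⟩
    obtain ⟨L, I', hq, hw, hbot, htop⟩ :=
      Groth.Agent.S18562.transferA a b hab s θ (2 - θ a - θ b)⁻¹ hLI t ht U I hsub
    rw [hw0] at hw
    have hQ0 : QWt K (-1) θ L I' = 0 := by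
      rcases mul_eq_zero.mp hw.symm with h | h
      · exact absurd h hcpos.ne'
      · exact h
    rcases hQ.2 L I' hq hQ0 with h | h
    · exact Or.inl (hbot h)
    · exact Or.inr (htop h)
  · rintro ⟨hLI, hP⟩
    have hQss : QSemistable (-1) θ s := hss.mpr ⟨hLI, fun t ht => (hP t ht).1⟩
    refine ⟨hQss, fun L I hsub hw0 => ?_⟩
    have hspan : Submodule.span K (Set.range ![s a, s b]) = ⊤ := by
      apply hLI.span_eq_top_of_card_eq_finrank'
      simp
    have hex : ∀ i : {i : κ // i ≠ a ∧ i ≠ b}, ∃ c : Fin 2 → K,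
        s i.1 = c 0 • s a + c 1 • s b := by
      intro i
      have hmem : s i.1 ∈ Submodule.span K (Set.range ![s a, s b]) := by
        rw [hspan]
        trivial
      obtain ⟨c, hc⟩ := (Submodule.mem_span_range_iff_exists_fun K).mp hmem
      refine ⟨c, ?_⟩
      rw [← hc, Fin.sum_univ_two]
      rfl
    choose t ht using hex
    have hPt := hP t ht
    obtain ⟨U, I'', hp, hle, heq⟩ :=
      Groth.Agent.S18562.transferB a b hab s θ (2 - θ a - θ b)⁻¹ hcpos h0 h1 hθ hLI t ht L I hsub
    have hle2 := hPt.1.2 U I'' hp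
    rw [hw0, mul_zero] at hle heq
    have hP0 : PWt K ![(2 - θ a - θ b)⁻¹ * (θ a - 1), (2 - θ a - θ b)⁻¹ * (θ b - 1)]
        (fun i : {i : κ // i ≠ a ∧ i ≠ b} => (2 - θ a - θ b)⁻¹ * θ i.1) U I'' = 0 :=
      le_antisymm hle2 hle
    obtain ⟨hbot, htop⟩ := heq hP0.symm
    rcases hPt.2 U I'' hp hP0 with h | h
    · exact Or.inl (hbot h)
    · exact Or.inr (htop h)

end Groth.Agent.S18563
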