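import Groth.Statements.S1857
import Mathlib
import Groth.Agent.Lib.Helper90.CycPull2
import Groth.Agent.Lib.Helper73.DimFormula.FiberDimAdd

set_option autoImplicit false
universe u
open CategoryTheory AlgebraicGeometry
open Cyc

namespace Groth.Agent.S1857

/-- For flat morphisms f : X → Y and g : Y → Z locally of finite type of relative dimensions r and s,
the composite has relative dimension r + s and (g ∘ f)^* = f^* ∘ g^* on k-cycles (equality of
coefficient functions). Here a pair (X, δ) with Cyc.IsSetup plays the role of a scheme locally of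
finite type over a fixed base with a dimension function (X locally Noetherian with universally
catenary local rings, δ a dimension function), and Cyc.DeltaCompat records that the dimension
function upstairs is the induced one. -/
theorem result (X Y Z : Scheme.{u}) (δX : X → ℤ) (δY : Y → ℤ) (δZ : Z → ℤ) (hX : Cyc.IsSetup X δX) (hY : Cyc.IsSetup Y δY) (hZ : Cyc.IsSetup Z δZ) (f : X ⟶ Y) (g : Y ⟶ Z) [Flat f] [LocallyOfFiniteType f] [Flat g] [LocallyOfFiniteType g] (r s : ℕ) (hr : Cyc.HasRelDim f r) (hs : Cyc.HasRelDim g s) (hf : Cyc.DeltaCompat f δX δY) (hg : Cyc.DeltaCompat g δY δZ) (k : ℤ) : Cyc.HasRelDim (f ≫ g) (r + s) ∧ ∀ α : AlgebraicCycle Z ℤ, α ∈ Cyc.Zk Z δZ k → Cyc.pullFun f δX δY r (Cyc.pullFun g δY δZ s ⇑α) = Cyc.pullFun (f ≫ g) δX δZ ((r : ℤ) + s) ⇑α := by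
  haveI : IsLocallyNoetherian X := hX.1
  refine ⟨Groth.Agent.Lib.Helper73.hasRelDim_comp f g r s hr hs, ?_⟩
  intro α _
  have hresf : ∀ x : X, δX x = δY (f x) + Groth.Agent.Lib.Helper73.resTrdegNat f x := by
    intro x
    obtain ⟨n, hn, hx⟩ := hf x
    have h1 : Groth.Agent.Lib.Helper73.resTrdeg f x = (n : Cardinal.{u}) := hn
    rw [Groth.Agent.Lib.Helper73.resTrdeg_eq_resTrdegNat] at h1
    have : Groth.Agent.Lib.Helper73.resTrdegNat f x = n := by exact_mod_cast h1
    rw [hx, this]
  have hresg : ∀ y : Y, δY y = δZ (g y) + Groth.Agent.Lib.Helper73.resTrdegNat g y := by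
    intro y
    obtain ⟨n, hn, hy⟩ := hg y
    have h1 : Groth.Agent.Lib.Helper73.resTrdeg g y = (n : Cardinal.{u}) := hn
    rw [Groth.Agent.Lib.Helper73.resTrdeg_eq_resTrdegNat] at h1
    have : Groth.Agent.Lib.Helper73.resTrdegNat g y = n := by exact_mod_cast h1
    rw [hy, this]
  rw [Groth.Agent.Lib.Helper73.hasRelDim_iff_forall_maximal] at hr hs
  have hc : ∀ y : Y, Groth.Agent.Lib.Helper90.CycPull.IsFibMax g y → δY y = δZ (g y) + (s : ℤ) := by
    intro y hy
    rw [hresg y, hs y (fun t ht hgt => hy t hgt ht)]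
  have hc' : ∀ x : X, Groth.Agent.Lib.Helper90.CycPull.IsFibMax f x → δX x = δY (f x) + (r : ℤ) := by
    intro x hx
    rw [hresf x, hr x (fun t ht hft => hx t hft ht)]
  have key := Groth.Agent.Lib.Helper90.CycPull.pullFun_comp g f δZ δY δX (s : ℤ) (r : ℤ) hc hc' ⇑α
  rw [← key, add_comm]

end Groth.Agent.S1857
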