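import Groth.Statements.S18573
import Groth.Agent.Lib.Helper93.ProjOverIso
import Groth.Agent.Lib.Helper93.ProjConst2
-- import your own Groth.Agent.* helpers here

set_option autoImplicit false
universe u
open CategoryTheory AlgebraicGeometry
open REq

namespace Groth.Agent.S18573

open Groth.Agent.Lib.Helper93.ProjOverIso Groth.Agent.Lib.Helper93.ProjConst in
theorem isIntegral_P1K (K : Type u) [Field K] : IsIntegral (REq.P1K K) := by
  have h1 : IsIntegral (CohB1.ProjSpace 1 K) := isIntegral_projSpace 1 K
  have h2 : Nonempty (REq.P1K K) := by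
    obtain ⟨x⟩ := h1.nonempty
    exact ⟨(overIso 1 K).inv x⟩
  exact isIntegral_of_isOpenImmersion (overIso 1 K).hom

theorem link_inV {k : Type u} [Field k] {Y : Scheme.{u}}
    (g : Y ⟶ Spec (CommRingCat.of k)) (K : Type u) [Field K] [Algebra k K]
    (V W : Set Y) (hV : IsClosed V) (hW : IsClosed W) (hVW : V ∪ W = Set.univ)
    (hT : ∀ z : REq.Pts g K, ¬ (Set.range z.1.base ⊆ V ∩ W))
    (A B : REq.Pts g K) (hAB : REq.ElemLink g K A B) :
    Set.range A.1.base ⊆ V ↔ Set.range B.1.base ⊆ V := by
  obtain ⟨U, h, a, b, -, -, -, ha, hb⟩ := hAB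
  have : IsIntegral (REq.P1K K) := isIntegral_P1K K
  have hne : Nonempty (U : Scheme.{u}) := by
    obtain ⟨pt⟩ : Nonempty (Spec (CommRingCat.of K)) :=
      inferInstanceAs (Nonempty (PrimeSpectrum K))
    exact ⟨a pt⟩
  have hint : IsIntegral (U : Scheme.{u}) := isIntegral_of_isOpenImmersion U.ι
  have hirr : IsPreirreducible (Set.univ : Set (U : Scheme.{u})) :=
    (IrreducibleSpace.isIrreducible_univ _).isPreirreducible
  have hcV : IsClosed (h ⁻¹' V) := hV.preimage h.continuous
  have hcW : IsClosed (h ⁻¹' W) := hW.preimage h.continuous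
  have hcov : (Set.univ : Set (U : Scheme.{u})) ⊆ h ⁻¹' V ∪ h ⁻¹' W := by
    intro x _
    have : h x ∈ V ∪ W := by rw [hVW]; trivial
    exact this
  have hA : ∀ pt, A.1 pt = h (a pt) := fun pt => by rw [← ha]; rfl
  have hB : ∀ pt, B.1 pt = h (b pt) := fun pt => by rw [← hb]; rfl
  rcases (isPreirreducible_iff_isClosed_union_isClosed.mp hirr) _ _ hcV hcW hcov with h1 | h1
  · constructor
    · rintro - _ ⟨pt, rfl⟩
      rw [hB]
      exact h1 (Set.mem_univ _)
    · rintro - _ ⟨pt, rfl⟩
      rw [hA]
      exact h1 (Set.mem_univ _)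
  · have hAW : Set.range A.1.base ⊆ W := by
      rintro _ ⟨pt, rfl⟩
      rw [hA]
      exact h1 (Set.mem_univ _)
    have hBW : Set.range B.1.base ⊆ W := by
      rintro _ ⟨pt, rfl⟩
      rw [hB]
      exact h1 (Set.mem_univ _)
    constructor
    · intro hAV
      exact absurd (Set.subset_inter hAV hAW) (hT A)
    · intro hBV
      exact absurd (Set.subset_inter hBV hBW) (hT B)


/-- Let Y be a scheme over a field k and K a field containing k. Let V and W be closed subsets of Y with
V ∪ W = Y such that no K-point of Y has its image in V ∩ W. If p is a K-point of Y lying in V and q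
a K-point of Y lying in W, then p and q are not R-equivalent on Y. (The published step concerns
k-points of the special fibre of a proper flat scheme over a discrete valuation ring, that is K = k;
this row is stated for any scheme Y over k and K-points for any field K containing k.) -/
theorem result (k : Type u) [Field k] (Y : Scheme.{u})
    (g : Y ⟶ Spec (CommRingCat.of k)) (K : Type u) [Field K] [Algebra k K]
    (V W : Set Y) (hV : IsClosed V) (hW : IsClosed W) (hVW : V ∪ W = Set.univ)
    (hT : ∀ z : REq.Pts g K, ¬ (Set.range z.1.base ⊆ V ∩ W))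
    (p q : REq.Pts g K) (hp : Set.range p.1.base ⊆ V) (hq : Set.range q.1.base ⊆ W) :
    ¬ REq.REquiv g K p q := by
  intro hpq
  have key : ∀ A B : REq.Pts g K, REq.REquiv g K A B →
      (Set.range A.1.base ⊆ V ↔ Set.range B.1.base ⊆ V) := by
    intro A B hAB
    induction hAB with
    | rel x y hxy => exact link_inV g K V W hV hW hVW hT x y hxy
    | refl x => exact Iff.rfl
    | symm x y _ ih => exact ih.symm
    | trans x y z _ _ ih1 ih2 => exact ih1.trans ih2
  have hqV := (key p q hpq).mp hp
  exact hT q (Set.subset_inter hqV hq)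

end Groth.Agent.S18573
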