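import Groth.Statements.S18579
import Mathlib.RingTheory.Prime
import Mathlib.Algebra.BigOperators.Associated
import Mathlib.Tactic

set_option autoImplicit false
universe u
open LogDiff

namespace Groth.Agent.S18579

theorem nat_key {R : Type u} [CommRing R] [IsDomain R] {r : ℕ} (f : Fin r → R)
    (hf : ∀ i, Prime (f i)) (hfa : ∀ i j, Associated (f i) (f j) → i = j)
    (u : Rˣ) (p q : Fin r → ℕ) (hpq : ∀ i, p i = 0 ∨ q i = 0)
    (h : (u : R) * ∏ i, f i ^ p i = ∏ i, f i ^ q i) : (∀ i, p i = 0) ∧ ∀ i, q i = 0 := by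
  have aux : ∀ (i0 : Fin r) (e : Fin r → ℕ), f i0 ∣ ∏ i, f i ^ e i → e i0 ≠ 0 := by
    intro i0 e hdvd
    obtain ⟨j, _, hj⟩ := (hf i0).exists_mem_finset_dvd hdvd
    have hj' : f i0 ∣ f j := (hf i0).dvd_of_dvd_pow hj
    have hij : i0 = j := hfa i0 j ((hf i0).associated_of_dvd (hf j) hj')
    subst hij
    intro h0
    rw [h0, pow_zero] at hj
    exact (hf i0).not_isUnit (isUnit_of_dvd_one hj)
  constructor
  · intro i0
    by_contra hp0
    have h1 : f i0 ∣ ∏ i, f i ^ q i := by
      rw [← h]
      apply Dvd.dvd.mul_left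
      exact Dvd.dvd.trans (dvd_pow_self _ hp0) (Finset.dvd_prod_of_mem _ (Finset.mem_univ i0))
    have h2 := aux i0 q h1
    rcases hpq i0 with h3 | h3
    · exact hp0 h3
    · exact h2 h3
  · intro i0
    by_contra hq0
    have h1 : f i0 ∣ (u : R) * ∏ i, f i ^ p i := by
      rw [h]
      exact Dvd.dvd.trans (dvd_pow_self _ hq0) (Finset.dvd_prod_of_mem _ (Finset.mem_univ i0))
    have h1' : f i0 ∣ ∏ i, f i ^ p i := by
      rcases (hf i0).dvd_or_dvd h1 with h4 | h4
      · exact absurd (isUnit_of_dvd_unit h4 u.isUnit) (hf i0).not_isUnit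
      · exact h4
    have h2 := aux i0 p h1'
    rcases hpq i0 with h3 | h3
    · exact h2 h3
    · exact hq0 h3

theorem int_key {R K : Type u} [CommRing R] [IsDomain R] [Field K] [Algebra R K]
    [IsFractionRing R K] {r : ℕ} (f : Fin r → R)
    (hf : ∀ i, Prime (f i)) (hfa : ∀ i j, Associated (f i) (f j) → i = j)
    (u : Rˣ) (c : Fin r → ℤ)
    (h : algebraMap R K (u : R) * ∏ i, (algebraMap R K (f i)) ^ (c i) = 1) : ∀ i, c i = 0 := by
  have hinj : Function.Injective (algebraMap R K) := IsFractionRing.injective R K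
  have hne : ∀ i, algebraMap R K (f i) ≠ 0 := fun i =>
    (map_ne_zero_iff _ hinj).mpr (hf i).ne_zero
  let p : Fin r → ℕ := fun i => (c i).toNat
  let q : Fin r → ℕ := fun i => (-c i).toNat
  have hpq : ∀ i, p i = 0 ∨ q i = 0 := by
    intro i
    simp only [p, q]
    omega
  have hc : ∀ i, c i + (q i : ℤ) = (p i : ℤ) := by
    intro i
    simp only [p, q]
    omega
  have h1 : ∀ i, (algebraMap R K (f i)) ^ (c i) * (algebraMap R K (f i)) ^ (q i) =
      (algebraMap R K (f i)) ^ (p i) := by
    intro i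
    rw [← zpow_natCast, ← zpow_add₀ (hne i), hc i, zpow_natCast]
  have h2 : algebraMap R K ((u : R) * ∏ i, f i ^ p i) = algebraMap R K (∏ i, f i ^ q i) := by
    simp only [map_mul, map_prod, map_pow]
    have h3 : (∏ i, (algebraMap R K (f i)) ^ (c i)) * ∏ i, (algebraMap R K (f i)) ^ (q i) =
        ∏ i, (algebraMap R K (f i)) ^ (p i) := by
      rw [← Finset.prod_mul_distrib]
      exact Finset.prod_congr rfl (fun i _ => h1 i)
    calc algebraMap R K (u : R) * ∏ i, (algebraMap R K (f i)) ^ (p i)
        = (algebraMap R K (u : R) * ∏ i, (algebraMap R K (f i)) ^ (c i)) *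
            ∏ i, (algebraMap R K (f i)) ^ (q i) := by rw [← h3]; ring
      _ = ∏ i, (algebraMap R K (f i)) ^ (q i) := by rw [h, one_mul]
  obtain ⟨hp0, hq0⟩ := nat_key f hf hfa u p q hpq (hinj h2)
  intro i
  have := hc i
  rw [hp0 i, hq0 i] at this
  simpa using this

/-- The exact sequence for units (first Milnor K-groups) when every component of the divisor is removed.
Let k be a field, B a smooth k-algebra, R the localization of B at a prime ideal, K the fraction
field of R and f_1, …, f_r pairwise non-associate prime elements of R. If w is a unit of K such that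
w and w⁻¹ both lie in R[1/(f_1⋯f_r)], i.e. each becomes an element of R after multiplication by a
power of f_1⋯f_r, then there is exactly one pair (v, b) consisting of a unit v of R and integers
b_1, …, b_r with w = v · ∏ f_i^{b_i} in K. (This is the exactness of 0 → Γ(Spec R, O^×) → Γ(Spec R ∖
V(f_1⋯f_r), O^×) → ℤ^r → 0, the last map being the orders along the f_i. The published statement
takes the f_i to be local equations of the components of a normal crossings divisor, over a field of
characteristic zero; this row allows arbitrary pairwise non-associate prime elements and any field.) -/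
theorem result
    {k B R K : Type u} [Field k] [CommRing B] [Algebra k B] [Algebra.Smooth k B]
    (p : Ideal B) [p.IsPrime] [CommRing R] [Algebra B R] [IsLocalization.AtPrime R p]
    [Field K] [Algebra R K] [IsFractionRing R K]
    {r : ℕ} (f : Fin r → R) (hf : ∀ i, Prime (f i)) (hfa : ∀ i j, Associated (f i) (f j) → i = j)
    (w : Kˣ)
    (hw : ∃ (a : R) (n : ℕ), (w : K) * algebraMap R K ((∏ i, f i) ^ n) = algebraMap R K a)
    (hw' : ∃ (a : R) (n : ℕ), (w⁻¹ : Kˣ) * algebraMap R K ((∏ i, f i) ^ n) = algebraMap R K a) :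
    ∃! vb : Rˣ × (Fin r → ℤ),
      (w : K) = algebraMap R K (vb.1 : R) * ∏ i, (algebraMap R K (f i)) ^ (vb.2 i) := by
  classical
  have hinj : Function.Injective (algebraMap R K) := IsFractionRing.injective R K
  have hdom : IsDomain R := hinj.isDomain (algebraMap R K)
  have hne : ∀ i, algebraMap R K (f i) ≠ 0 := fun i =>
    (map_ne_zero_iff _ hinj).mpr (hf i).ne_zero
  -- uniqueness helper
  have huniq : ∀ (v v' : Rˣ) (b b' : Fin r → ℤ),
      algebraMap R K (v : R) * ∏ i, (algebraMap R K (f i)) ^ (b i) =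
        algebraMap R K (v' : R) * ∏ i, (algebraMap R K (f i)) ^ (b' i) → v = v' ∧ b = b' := by
    intro v v' b b' h
    have hprodne : ∀ e : Fin r → ℤ, ∏ i, (algebraMap R K (f i)) ^ (e i) ≠ 0 := fun e =>
      Finset.prod_ne_zero_iff.mpr (fun i _ => zpow_ne_zero _ (hne i))
    have hv' : algebraMap R K (v' : R) ≠ 0 := (map_ne_zero_iff _ hinj).mpr v'.ne_zero
    have h1 : algebraMap R K ((v'⁻¹ * v : Rˣ) : R) *
        ∏ i, (algebraMap R K (f i)) ^ (b i - b' i) = 1 := by
      have h2 : ∏ i, (algebraMap R K (f i)) ^ (b i - b' i) =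
          (∏ i, (algebraMap R K (f i)) ^ (b i)) * (∏ i, (algebraMap R K (f i)) ^ (b' i))⁻¹ := by
        rw [← Finset.prod_inv_distrib, ← Finset.prod_mul_distrib]
        exact Finset.prod_congr rfl (fun i _ => by rw [zpow_sub₀ (hne i), div_eq_mul_inv])
      have h3 : algebraMap R K ((v'⁻¹ * v : Rˣ) : R) =
          (algebraMap R K (v' : R))⁻¹ * algebraMap R K (v : R) := by
        rw [Units.val_mul, map_mul]
        congr 1
        apply eq_inv_of_mul_eq_one_left
        rw [← map_mul, ← Units.val_mul, inv_mul_cancel, Units.val_one, map_one]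
      rw [h2, h3]
      calc (algebraMap R K (v' : R))⁻¹ * algebraMap R K (v : R) *
            ((∏ i, (algebraMap R K (f i)) ^ (b i)) * (∏ i, (algebraMap R K (f i)) ^ (b' i))⁻¹)
          = (algebraMap R K (v' : R))⁻¹ *
            (algebraMap R K (v : R) * ∏ i, (algebraMap R K (f i)) ^ (b i)) *
            (∏ i, (algebraMap R K (f i)) ^ (b' i))⁻¹ := by ring
        _ = 1 := by
          rw [h]
          have := hprodne b'
          field_simp
    have hb := int_key f hf hfa (v'⁻¹ * v) (fun i => b i - b' i) h1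
    have hbb : b = b' := funext fun i => sub_eq_zero.mp (hb i)
    subst hbb
    have h4 := mul_right_cancel₀ (hprodne b) h
    exact ⟨Units.ext (hinj h4), rfl⟩
  -- existence
  obtain ⟨a, n, ha⟩ := hw
  obtain ⟨a', n', ha'⟩ := hw'
  have haa' : a * a' = (∏ i, f i) ^ (n + n') := by
    apply hinj
    rw [map_mul, ← ha, ← ha', pow_add, map_mul]
    have : (w : K) * ((w⁻¹ : Kˣ) : K) = 1 := by simp
    calc (w : K) * algebraMap R K ((∏ i, f i) ^ n) *
          (((w⁻¹ : Kˣ) : K) * algebraMap R K ((∏ i, f i) ^ n'))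
        = ((w : K) * ((w⁻¹ : Kˣ) : K)) * (algebraMap R K ((∏ i, f i) ^ n) *
            algebraMap R K ((∏ i, f i) ^ n')) := by ring
      _ = algebraMap R K ((∏ i, f i) ^ n) * algebraMap R K ((∏ i, f i) ^ n') := by
          rw [this, one_mul]
  have hprod : (∏ i, f i) ^ (n + n') =
      1 * ∏ x ∈ (Finset.univ : Finset (Fin r × Fin (n + n'))), f x.1 := by
    rw [one_mul, ← Finset.prod_pow, Finset.univ_product_univ.symm, Finset.prod_product]
    apply Finset.prod_congr rfl
    intro i _
    simp
  rw [hprod] at haa'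
  obtain ⟨t, u, b, c, -, -, hbc, hat, -⟩ := mul_eq_mul_prime_prod (fun x _ => hf x.1) haa'
  let ub : Rˣ := Units.mkOfMulEqOne b c hbc.symm
  let e : Fin r → ℕ := fun i => (t.filter (fun x => x.1 = i)).card
  have hte : ∏ x ∈ t, f x.1 = ∏ i, f i ^ e i := by
    rw [← Finset.prod_fiberwise t (fun x => x.1) (fun x => f x.1)]
    apply Finset.prod_congr rfl
    intro i _
    rw [Finset.prod_congr rfl (fun x hx => by rw [(Finset.mem_filter.mp hx).2]), Finset.prod_const]
  have hFne : algebraMap R K ((∏ i, f i) ^ n) ≠ 0 := by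
    rw [map_pow, map_prod]
    exact pow_ne_zero _ (Finset.prod_ne_zero_iff.mpr (fun i _ => hne i))
  have hexist : (w : K) = algebraMap R K (ub : R) *
      ∏ i, (algebraMap R K (f i)) ^ ((e i : ℤ) - n) := by
    have h5 : ∏ i, (algebraMap R K (f i)) ^ ((e i : ℤ) - n) =
        (∏ i, (algebraMap R K (f i)) ^ (e i)) * (algebraMap R K ((∏ i, f i) ^ n))⁻¹ := by
      rw [map_pow, map_prod, ← Finset.prod_pow, ← Finset.prod_inv_distrib,
        ← Finset.prod_mul_distrib]
      exact Finset.prod_congr rfl (fun i _ => by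
        rw [zpow_sub₀ (hne i), div_eq_mul_inv, zpow_natCast, zpow_natCast])
    rw [h5, ← mul_assoc]
    rw [eq_mul_inv_iff_mul_eq₀ hFne, ha, hat, hte]
    simp [ub, map_mul, map_prod, map_pow]
  refine ⟨(ub, fun i => (e i : ℤ) - n), hexist, ?_⟩
  rintro ⟨v', b'⟩ hv'
  have := huniq v' ub b' (fun i => (e i : ℤ) - n) (hv'.symm.trans hexist)
  exact Prod.ext this.1 this.2

end Groth.Agent.S18579
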