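import Groth.Statements.S18580
import Mathlib.Topology.Connected.Clopen

set_option autoImplicit false
universe u
open EtBase

namespace Groth.Agent.S18580

section helpers
open AlgebraicGeometry CategoryTheory Limits

theorem isOpenImmersion_of_section {X Y : Scheme.{u}} (f : X ⟶ Y)
    [FormallyUnramified f] [LocallyOfFiniteType f] (s : Y ⟶ X) (hs : s ≫ f = 𝟙 Y) :
    IsOpenImmersion s := by
  set gr : Y ⟶ pullback (s ≫ f) f := pullback.lift (𝟙 Y) s (by simp) with hgr
  have h0 : s = gr ≫ pullback.snd _ _ := (pullback.lift_snd _ _ _).symm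
  have h1 : IsOpenImmersion gr :=
    MorphismProperty.of_isPullback (P := @IsOpenImmersion)
      (pullback_lift_diagonal_isPullback s f) (inferInstanceAs (IsOpenImmersion (pullback.diagonal f)))
  have h2 : IsOpenImmersion (pullback.snd (s ≫ f) f) := by
    have : IsIso (s ≫ f) := by rw [hs]; infer_instance
    infer_instance
  rw [h0]
  infer_instance

theorem isClosedImmersion_of_section {X Y : Scheme.{u}} (f : X ⟶ Y)
    [IsSeparated f] (s : Y ⟶ X) (hs : s ≫ f = 𝟙 Y) :
    IsClosedImmersion s := by
  have : IsClosedImmersion (s ≫ f) := by rw [hs]; infer_instance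
  exact IsClosedImmersion.of_comp s f

end helpers

open AlgebraicGeometry CategoryTheory in
/-- Let Y be a connected scheme and f : X ⟶ Y a separated morphism that is unramified (locally of finite
type and formally unramified). Then the sections of f correspond bijectively to the connected
components of X mapping isomorphically onto Y: there is a bijection from the set of sections s of f
to the set of open subschemes U of X whose underlying set is a connected component of X and for
which U ⟶ X ⟶ Y is an isomorphism, sending s to its image. In particular every section is an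
isomorphism onto a connected component of X and is determined by its image. (A connected component
mapping isomorphically onto Y is the image of a section, hence open, so restricting to open
components loses nothing. The published statement also assumes Y Noetherian; that hypothesis plays
no role and is omitted.) -/
theorem result {X Y : Scheme.{u}} (f : X ⟶ Y)
    [FormallyUnramified f] [LocallyOfFiniteType f] [IsSeparated f] [ConnectedSpace Y] :
    ∃ e : {s : Y ⟶ X // s ≫ f = 𝟙 Y} ≃
        {U : X.Opens // (∃ x : X, (U : Set X) = connectedComponent x) ∧ IsIso (U.ι ≫ f)},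
      ∀ s : {s : Y ⟶ X // s ≫ f = 𝟙 Y}, ((e s).1 : Set X) = Set.range s.1 := by
  have hopen : ∀ s : {s : Y ⟶ X // s ≫ f = 𝟙 Y}, IsOpenImmersion s.1 :=
    fun s => isOpenImmersion_of_section f s.1 s.2
  have hclosed : ∀ s : {s : Y ⟶ X // s ≫ f = 𝟙 Y}, IsClosedImmersion s.1 :=
    fun s => isClosedImmersion_of_section f s.1 s.2
  have hcc : ∀ s : {s : Y ⟶ X // s ≫ f = 𝟙 Y}, ∃ x : X, Set.range s.1 = connectedComponent x := by
    intro s
    have := hopen s
    have := hclosed s
    obtain ⟨y⟩ : Nonempty Y := inferInstance
    refine ⟨s.1 y, ?_⟩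
    apply Set.Subset.antisymm
    · exact (isPreconnected_range s.1.continuous).subset_connectedComponent ⟨y, rfl⟩
    · have hclopen : IsClopen (Set.range s.1) :=
        ⟨s.1.isClosedEmbedding.isClosed_range, s.1.isOpenEmbedding.isOpen_range⟩
      exact hclopen.connectedComponent_subset ⟨y, rfl⟩
  have hiso : ∀ s : {s : Y ⟶ X // s ≫ f = 𝟙 Y},
      ∀ _ : IsOpenImmersion s.1, s.1.isoOpensRange.hom ≫ (s.1.opensRange.ι ≫ f) = 𝟙 Y := by
    intro s _
    rw [← Category.assoc, Scheme.Hom.isoOpensRange_hom_ι, s.2]
  let toFun : {s : Y ⟶ X // s ≫ f = 𝟙 Y} →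
      {U : X.Opens // (∃ x : X, (U : Set X) = connectedComponent x) ∧ IsIso (U.ι ≫ f)} :=
    fun s => haveI := hopen s
      ⟨s.1.opensRange, by
        obtain ⟨x, hx⟩ := hcc s
        exact ⟨x, hx⟩, by
        have h1 := hiso s inferInstance
        have h2 : s.1.opensRange.ι ≫ f = s.1.isoOpensRange.inv := by
          rw [← cancel_epi s.1.isoOpensRange.hom, h1, Iso.hom_inv_id]
        rw [h2]
        infer_instance⟩
  let invFun : {U : X.Opens // (∃ x : X, (U : Set X) = connectedComponent x) ∧ IsIso (U.ι ≫ f)} →
      {s : Y ⟶ X // s ≫ f = 𝟙 Y} :=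
    fun U => haveI := U.2.2
      ⟨inv (U.1.ι ≫ f) ≫ U.1.ι, by rw [Category.assoc, IsIso.inv_hom_id]⟩
  refine ⟨⟨toFun, invFun, ?_, ?_⟩, ?_⟩
  · intro s
    have := hopen s
    apply Subtype.ext
    have h1 := hiso s inferInstance
    have : IsIso (s.1.opensRange.ι ≫ f) := (toFun s).2.2
    change inv (s.1.opensRange.ι ≫ f) ≫ s.1.opensRange.ι = s.1
    rw [← IsIso.eq_inv_of_inv_hom_id h1, Scheme.Hom.isoOpensRange_hom_ι]
  · intro U
    have := U.2.2
    apply Subtype.ext
    change (inv (U.1.ι ≫ f) ≫ U.1.ι).opensRange = U.1
    rw [Scheme.Hom.opensRange_comp_of_isIso, Scheme.Opens.opensRange_ι]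
  · intro s
    rfl

end Groth.Agent.S18580
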