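import Groth.Statements.S18590
import Groth.Agent.Lib.Helper14.WittHomog

set_option autoImplicit false
universe u
open CAlg

namespace Groth.Agent.S18590

section aux

variable {A K : Type u} [CommRing A] [CommRing K] [Algebra A K] (M : ℕ → Submodule A K)

def Q (y : K) (d : ℕ) : Prop :=
  (d = 0 ∧ y ∈ Set.range (algebraMap A K)) ∨ (d ≠ 0 ∧ y ∈ M d)

theorem Q_one : Q M (1 : K) 0 := Or.inl ⟨rfl, 1, map_one _⟩

theorem Q_mul (hmul : ∀ (i j : ℕ) (a b : K), a ∈ M i → b ∈ M j → a * b ∈ M (i + j))
    {y y' : K} {d d' : ℕ} (h : Q M y d) (h' : Q M y' d') : Q M (y * y') (d + d') := by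
  rcases h with ⟨rfl, a, rfl⟩ | ⟨hd, hy⟩
  · rcases h' with ⟨rfl, a', rfl⟩ | ⟨hd', hy'⟩
    · exact Or.inl ⟨rfl, a * a', map_mul _ _ _⟩
    · refine Or.inr ⟨by omega, ?_⟩
      rw [zero_add, ← Algebra.smul_def]
      exact (M d').smul_mem a hy'
  · rcases h' with ⟨rfl, a', rfl⟩ | ⟨hd', hy'⟩
    · refine Or.inr ⟨by omega, ?_⟩
      rw [add_zero, mul_comm, ← Algebra.smul_def]
      exact (M d).smul_mem a' hy
    · exact Or.inr ⟨by omega, hmul d d' y y' hy hy'⟩

theorem Q_pow (hmul : ∀ (i j : ℕ) (a b : K), a ∈ M i → b ∈ M j → a * b ∈ M (i + j))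
    {y : K} {d : ℕ} (h : Q M y d) (k : ℕ) : Q M (y ^ k) (k * d) := by
  induction k with
  | zero => simpa using Q_one M
  | succ k ih =>
    rw [pow_succ, Nat.succ_mul]
    exact Q_mul M hmul ih h

theorem Q_prod (hmul : ∀ (i j : ℕ) (a b : K), a ∈ M i → b ∈ M j → a * b ∈ M (i + j))
    {σ : Type*} (T : Finset σ) (y : σ → K) (d : σ → ℕ) (h : ∀ s ∈ T, Q M (y s) (d s)) :
    Q M (∏ s ∈ T, y s) (∑ s ∈ T, d s) := by
  classical
  induction T using Finset.induction_on with
  | empty => simpa using Q_one M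
  | insert s T hs ih =>
    rw [Finset.prod_insert hs, Finset.sum_insert hs]
    exact Q_mul M hmul (h s (Finset.mem_insert_self _ _))
      (ih (fun t ht => h t (Finset.mem_insert_of_mem ht)))

theorem aeval_mem (hmul : ∀ (i j : ℕ) (a b : K), a ∈ M i → b ∈ M j → a * b ∈ M (i + j))
    {σ : Type*} (w : σ → ℕ) (v : σ → K) (hv : ∀ s, Q M (v s) (w s))
    (P : MvPolynomial σ ℤ) (D : ℕ) (hD : D ≠ 0)
    (hP : MvPolynomial.IsWeightedHomogeneous w P D) : MvPolynomial.aeval v P ∈ M D := by
  rw [MvPolynomial.aeval_def, MvPolynomial.eval₂_eq]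
  apply Submodule.sum_mem
  intro m hm
  have hm' : MvPolynomial.coeff m P ≠ 0 := by simpa [MvPolynomial.mem_support_iff] using hm
  have hwt : Finsupp.weight w m = D := hP hm'
  have hQ := Q_prod M hmul m.support (fun s => v s ^ m s) (fun s => m s * w s)
    (fun s _ => Q_pow M hmul (hv s) (m s))
  have hsum : ∑ s ∈ m.support, m s * w s = D := by
    rw [← hwt, Finsupp.weight_apply, Finsupp.sum]
    simp [smul_eq_mul]
  rw [hsum] at hQ
  rcases hQ with ⟨h0, _⟩ | ⟨_, hmem⟩
  · exact absurd h0 hD
  · rw [eq_intCast, ← zsmul_eq_mul]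
    exact (M D).toAddSubgroup.zsmul_mem hmem _

end aux

/-- Let p be a prime, A a commutative ring, K a commutative A-algebra of characteristic p and M_0, M_1,
M_2, … A-submodules of K with M_i · M_j ⊆ M_(i+j) for all i, j. Then the subset of the ring W(K) of
p-typical Witt vectors consisting of the vectors whose n-th coordinate lies in M_(p^n) for every n
is closed under addition and under multiplication by the image of W(A) under W of the structure map;
in other words it is a W(A)-submodule of W(K). (The published statement is the case of an integral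
normal noetherian scheme X of characteristic p with function field K, an affine open subset U with
coordinate ring A, and M_k the module of sections over U of the divisorial sheaf of k·D for a real
Weil divisor D on X; these form such a multiplicative family, and the subset is then the module of
sections over U of the Witt divisorial sheaf of D inside W(K). Only the two stated properties of
that family enter.) -/
theorem result
    (p : ℕ) [Fact p.Prime] (A K : Type u) [CommRing A] [CommRing K] [Algebra A K] [CharP K p]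
    (M : ℕ → Submodule A K)
    (hmul : ∀ (i j : ℕ) (a b : K), a ∈ M i → b ∈ M j → a * b ∈ M (i + j)) :
    (∀ φ ψ : WittVector p K, (∀ n : ℕ, φ.coeff n ∈ M (p ^ n)) → (∀ n : ℕ, ψ.coeff n ∈ M (p ^ n)) →
        ∀ n : ℕ, (φ + ψ).coeff n ∈ M (p ^ n)) ∧
      (∀ (x : WittVector p A) (φ : WittVector p K), (∀ n : ℕ, φ.coeff n ∈ M (p ^ n)) →
        ∀ n : ℕ, (WittVector.map (algebraMap A K) x * φ).coeff n ∈ M (p ^ n)) := by
  have hp0 : ∀ n : ℕ, p ^ n ≠ 0 := fun n => pow_ne_zero n (Fact.out : p.Prime).ne_zero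
  constructor
  · intro φ ψ hφ hψ n
    rw [WittVector.add_coeff, WittVector.peval]
    have hΦ : MvPolynomial.IsWeightedHomogeneous (fun _ : Fin 2 => 1)
        (MvPolynomial.X 0 + MvPolynomial.X 1 : MvPolynomial (Fin 2) ℤ) 1 :=
      (MvPolynomial.isWeightedHomogeneous_X ℤ _ 0).add (MvPolynomial.isWeightedHomogeneous_X ℤ _ 1)
    have h := Groth.Agent.Lib.Helper14.wittStructureInt_isWeightedHomogeneous p
      (fun _ : Fin 2 => 1) (MvPolynomial.X 0 + MvPolynomial.X 1) 1 hΦ n
    rw [one_mul] at h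
    refine aeval_mem M hmul _ _ ?_ (WittVector.wittAdd p n) (p ^ n) (hp0 n) h
    rintro ⟨i, k⟩
    refine Or.inr ⟨by simpa using hp0 k, ?_⟩
    fin_cases i
    · simpa [Function.uncurry] using hφ k
    · simpa [Function.uncurry] using hψ k
  · intro x φ hφ n
    rw [WittVector.mul_coeff, WittVector.peval]
    have hΦ : MvPolynomial.IsWeightedHomogeneous (![0, 1] : Fin 2 → ℕ)
        (MvPolynomial.X 0 * MvPolynomial.X 1 : MvPolynomial (Fin 2) ℤ) 1 := by
      have h0 := MvPolynomial.isWeightedHomogeneous_X ℤ (![0, 1] : Fin 2 → ℕ) 0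
      have h1 := MvPolynomial.isWeightedHomogeneous_X ℤ (![0, 1] : Fin 2 → ℕ) 1
      simpa using h0.mul h1
    have h := Groth.Agent.Lib.Helper14.wittStructureInt_isWeightedHomogeneous p
      (![0, 1] : Fin 2 → ℕ) (MvPolynomial.X 0 * MvPolynomial.X 1) 1 hΦ n
    rw [one_mul] at h
    refine aeval_mem M hmul _ _ ?_ (WittVector.wittMul p n) (p ^ n) (hp0 n) h
    rintro ⟨i, k⟩
    fin_cases i
    · refine Or.inl ⟨by simp, x.coeff k, ?_⟩
      simp [Function.uncurry, WittVector.map_coeff]
    · refine Or.inr ⟨by simpa using hp0 k, ?_⟩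
      simpa [Function.uncurry] using hφ k

end Groth.Agent.S18590
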