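import Groth.Statements.S18593
-- import your own Groth.Agent.* helpers here
import Groth.Agent.S18592

set_option autoImplicit false
universe v u
open W4c5suslinpi1ab

namespace Groth.Agent.S18593

open CategoryTheory MonoidalCategory Functor.LaxMonoidal Functor.OplaxMonoidal

section
variable {C : Type u} [Category.{v} C] [MonoidalCategory C]
variable {D : Type u} [Category.{v} D] [MonoidalCategory D]

theorem projR_natural {L : C ⥤ D} {R : D ⥤ C} (adj : L ⊣ R) [R.LaxMonoidal] (A : D) {W B : C}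
    (h : W ⟶ B) :
    (R.obj A ◁ h) ≫ W4c5suslinpi1ab.projR adj A B =
      W4c5suslinpi1ab.projR adj A W ≫ R.map (A ◁ L.map h) := by
  unfold W4c5suslinpi1ab.projR
  rw [Category.assoc, ← μ_natural_right, ← MonoidalCategory.whiskerLeft_comp_assoc,
    ← MonoidalCategory.whiskerLeft_comp_assoc]
  congr 2
  exact (adj.unit_naturality h).symm

theorem cupShriek_natural {L : C ⥤ D} {R : D ⥤ C} {S : C ⥤ D} (adj : L ⊣ R) (adj' : R ⊣ S)
    [R.LaxMonoidal] [∀ (A : D) (B : C), IsIso (W4c5suslinpi1ab.projR adj A B)] (A : C) {W B : C}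
    (h : W ⟶ B) :
    W4c5suslinpi1ab.cupShriek adj adj' A W ≫ S.map (A ◁ h) =
      (S.obj A ◁ L.map h) ≫ W4c5suslinpi1ab.cupShriek adj adj' A B := by
  unfold W4c5suslinpi1ab.cupShriek
  rw [← Adjunction.homEquiv_naturality_right, ← Adjunction.homEquiv_naturality_left]
  congr 1
  have h1 := projR_natural adj (S.obj A) h
  have h2 : inv (W4c5suslinpi1ab.projR adj (S.obj A) W) ≫ (R.obj (S.obj A) ◁ h) =
      R.map (S.obj A ◁ L.map h) ≫ inv (W4c5suslinpi1ab.projR adj (S.obj A) B) := by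
    rw [IsIso.inv_comp_eq, ← Category.assoc, IsIso.eq_comp_inv, h1]
  have h3 := whisker_exchange (adj'.counit.app A) h
  dsimp only [Functor.comp_obj, Functor.id_obj] at h3 ⊢
  rw [Category.assoc, ← h3, ← Category.assoc, h2, Category.assoc]

end

open CategoryTheory MonoidalCategory Functor.LaxMonoidal Functor.OplaxMonoidal in
/-- In a square of adjunctions between monoidal categories — fL ⊣ fR from the base S₀ to Y₁, pL ⊣ pR
from Y₁ to X (both left adjoints oplax monoidal, right adjoints with the induced lax structure), qL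
⊣ qR from Y₂ to X, a functor gR : Y₂ ⥤ S₀ and a natural transformation ν : qR ⋙ gR ⟶ pR ⋙ fR from
which the base change fL gR ⟶ pR qL is built, with right adjoints fS of fR, gS of gR, pS of pR and
the right projection morphisms of adjf, the left projection morphisms of adjp and the base change
all isomorphisms, the square relating the two shriek products commutes: exterior product, then fR pR
of the shriek product of the square, then fR of the counit of pR ⊣ pS, equals the counit of gR ⊣ gS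
on the second factor, then the right projection morphism of adjf, then fR of the shriek cup product
fS A ⊗ fL B ⟶ fS (A ⊗ B). -/
theorem result {S₀ : Type u} [Category.{v} S₀] [MonoidalCategory S₀]
    {Y₁ : Type u} [Category.{v} Y₁] [MonoidalCategory Y₁]
    {Y₂ : Type u} [Category.{v} Y₂] [MonoidalCategory Y₂]
    {X : Type u} [Category.{v} X] [MonoidalCategory X]
    {fL : S₀ ⥤ Y₁} {fR : Y₁ ⥤ S₀} (adjf : fL ⊣ fR) [fL.OplaxMonoidal] [fR.LaxMonoidal]
    [adjf.IsMonoidal] {gR : Y₂ ⥤ S₀}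
    {pL : Y₁ ⥤ X} {pR : X ⥤ Y₁} (adjp : pL ⊣ pR) [pL.OplaxMonoidal] [pR.LaxMonoidal]
    [adjp.IsMonoidal] {qL : Y₂ ⥤ X} {qR : X ⥤ Y₂} (adjq : qL ⊣ qR)
    (ν : qR ⋙ gR ⟶ pR ⋙ fR)
    {fS : S₀ ⥤ Y₁} (adjf' : fR ⊣ fS) {gS : S₀ ⥤ Y₂} (adjg' : gR ⊣ gS)
    {pS : Y₁ ⥤ X} (adjp' : pR ⊣ pS)
    [∀ (A : Y₁) (B : S₀), IsIso (W4c5suslinpi1ab.projR adjf A B)]
    [∀ (A : Y₁) (B : X), IsIso (W4c5suslinpi1ab.projL adjp A B)]
    [∀ B : Y₂, IsIso ((W4c5suslinpi1ab.bcMor adjf adjq ν).app B)] (A B : S₀) :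
    W4c5suslinpi1ab.extProd adjf adjp adjq ν (fS.obj A) (gS.obj B) ≫
      fR.map (pR.map (W4c5suslinpi1ab.prodShriek adjf adjf' adjg' adjp adjp' adjq ν A B)) ≫
        fR.map (adjp'.counit.app (fS.obj (A ⊗ B))) =
      (fR.obj (fS.obj A) ◁ adjg'.counit.app B) ≫ W4c5suslinpi1ab.projR adjf (fS.obj A) B ≫
        fR.map (W4c5suslinpi1ab.cupShriek adjf adjf' A B) := by
  rw [← fR.map_comp]
  unfold W4c5suslinpi1ab.prodShriek
  rw [Groth.Agent.S18592.map_homEquiv_counit]
  unfold W4c5suslinpi1ab.extProd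
  have h1 : fR.map (W4c5suslinpi1ab.projL adjp (fS.obj A) (qL.obj (gS.obj B))) ≫
      fR.map (inv (W4c5suslinpi1ab.projL adjp (fS.obj A) (qL.obj (gS.obj B)))) = 𝟙 _ := by
    rw [← fR.map_comp, IsIso.hom_inv_id, fR.map_id]
  have h2 : fR.map (fS.obj A ◁ (W4c5suslinpi1ab.bcMor adjf adjq ν).app (gS.obj B)) ≫
      fR.map (fS.obj A ◁ inv ((W4c5suslinpi1ab.bcMor adjf adjq ν).app (gS.obj B))) = 𝟙 _ := by
    rw [← fR.map_comp, ← MonoidalCategory.whiskerLeft_comp, IsIso.hom_inv_id,
      MonoidalCategory.whiskerLeft_id, fR.map_id]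
  simp only [Functor.map_comp, Category.assoc, reassoc_of% h1, reassoc_of% h2]
  rw [← fR.map_comp, cupShriek_natural, fR.map_comp, ← Category.assoc, ← projR_natural,
    Category.assoc]

end Groth.Agent.S18593
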