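import Mathlib
import Groth.Agent.Lib.Helper9.FiniteUnram

set_option autoImplicit false
universe u
open EtRam

namespace Groth.Agent.S18596

open AlgebraicGeometry CategoryTheory in
/-- Let k be a perfect field, X a k-scheme proper over k and f : Y ⟶ X finite étale. Curve-tameness of f
asks that the pullback of f to any regular k-curve mapping to X be tamely ramified at every place of
the curve's function field at infinity; proper targets make every finite étale cover curve-tame.
Stated here unfolded at a single place, in the form the argument yields: for every point y of Y with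
image x, and every discrete valuation ring A of the residue field κ(x) through which Spec κ(x) ⟶
Spec k factors, the finite separable extension κ(y) of κ(x) is tamely ramified with respect to A. -/
theorem result
    (k : Type u) [Field k] [PerfectField k] {X Y : Scheme.{u}} (s : X ⟶ Spec (CommRingCat.of k))
    [IsProper s] (f : Y ⟶ X) [IsFinite f] [Etale f] (y : Y)
    (A : ValuationSubring (X.residueField (f.base y))) [IsDiscreteValuationRing A]
    (a : Spec (CommRingCat.of A) ⟶ Spec (CommRingCat.of k))
    (ha : Spec.map (CommRingCat.ofHom A.subtype) ≫ a = X.fromSpecResidueField (f.base y) ≫ s) :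
    EtRam.IsTamelyRamified A ((f.residueFieldMap y).hom.comp A.subtype) := by
  classical
  -- Step 1: valuative criterion
  have hUC : UniversallyClosed s := inferInstance
  rw [UniversallyClosed.eq_valuativeCriterion] at hUC
  have hEx : ValuativeCriterion.Existence s := hUC.1
  let S : ValuativeCommSq s :=
    { R := A
      K := X.residueField (f.base y)
      i₁ := X.fromSpecResidueField (f.base y)
      i₂ := a
      commSq := ⟨ha.symm⟩ }
  obtain ⟨⟨l, hl₁, hl₂⟩⟩ := (hEx S).exists_lift
  have hl₁' : Spec.map (CommRingCat.ofHom A.subtype) ≫ l = X.fromSpecResidueField (f.base y) := hl₁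
  -- Step 2: the pullback
  let g : Limits.pullback f l ⟶ Spec (CommRingCat.of A) := Limits.pullback.snd f l
  haveI : IsFinite g := inferInstance
  haveI : Etale g := inferInstance
  haveI : IsAffine (Limits.pullback f l) := isAffine_of_isAffineHom g
  -- Step 3: the point
  have hcompat : Y.fromSpecResidueField y ≫ f =
      (Spec.map (f.residueFieldMap y) ≫ Spec.map (CommRingCat.ofHom A.subtype)) ≫ l := by
    rw [Category.assoc]
    exact (Scheme.Hom.SpecMap_residueFieldMap_fromSpecResidueField f y).symm.trans
      (congrArg (Spec.map (f.residueFieldMap y) ≫ ·) hl₁'.symm)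
  let m₀ : Spec (Y.residueField y) ⟶ Limits.pullback f l :=
    Limits.pullback.lift (Y.fromSpecResidueField y)
      (Spec.map (f.residueFieldMap y) ≫ Spec.map (CommRingCat.ofHom A.subtype)) hcompat
  -- Step 4: rings
  let ψ : CommRingCat.of A ⟶ Γ(Limits.pullback f l, ⊤) :=
    Spec.preimage ((Limits.pullback f l).isoSpec.inv ≫ g)
  have hψ : Spec.map ψ = (Limits.pullback f l).isoSpec.inv ≫ g := Spec.map_preimage _
  let β' : Γ(Limits.pullback f l, ⊤) ⟶ Y.residueField y :=
    Spec.preimage (m₀ ≫ (Limits.pullback f l).isoSpec.hom)
  have hβ' : Spec.map β' = m₀ ≫ (Limits.pullback f l).isoSpec.hom := Spec.map_preimage _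
  have hfin : ψ.hom.Finite := by
    rw [← IsFinite.SpecMap_iff, hψ]; infer_instance
  have het : ψ.hom.Etale := by
    rw [← HasRingHomProperty.Spec_iff (P := @Etale), hψ]; infer_instance
  have hψβ : ψ ≫ β' = CommRingCat.ofHom A.subtype ≫ f.residueFieldMap y := by
    apply Spec.map_injective
    rw [Spec.map_comp, Spec.map_comp, hψ, hβ', Category.assoc, Iso.hom_inv_id_assoc]
    exact Limits.pullback.lift_snd _ _ _
  -- algebra structures
  letI algAB : Algebra A Γ(Limits.pullback f l, ⊤) := ψ.hom.toAlgebra
  haveI : Module.Finite A Γ(Limits.pullback f l, ⊤) := hfin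
  haveI : Algebra.Etale A Γ(Limits.pullback f l, ⊤) := het
  letI algKL : Algebra (X.residueField (f.base y)) (Y.residueField y) :=
    (f.residueFieldMap y).hom.toAlgebra
  have hβA : ∀ a : A, β'.hom (algebraMap A Γ(Limits.pullback f l, ⊤) a) =
      algebraMap (X.residueField (f.base y)) (Y.residueField y)
        (algebraMap A (X.residueField (f.base y)) a) := fun a => by
    have h1 := congrArg (fun h => h.hom a) hψβ
    exact h1
  -- Step 5: generation
  have hgen : IntermediateField.adjoin (X.residueField (f.base y)) (Set.range β'.hom) = ⊤ := by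
    set E := IntermediateField.adjoin (X.residueField (f.base y)) (Set.range β'.hom) with hE
    let βE : Γ(Limits.pullback f l, ⊤) →+* E :=
      β'.hom.codRestrict E (fun b => IntermediateField.subset_adjoin _ _ ⟨b, rfl⟩)
    let ι : E →+* Y.residueField y := algebraMap E (Y.residueField y)
    have hβEι : CommRingCat.ofHom βE ≫ CommRingCat.ofHom ι = β' := by
      ext b; rfl
    let nE : Spec (CommRingCat.of E) ⟶ Y :=
      Spec.map (CommRingCat.ofHom βE) ≫ (Limits.pullback f l).isoSpec.inv ≫
        Limits.pullback.fst f l
    have hnE : Spec.map (CommRingCat.ofHom ι) ≫ nE = Y.fromSpecResidueField y := by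
      show Spec.map (CommRingCat.ofHom ι) ≫ Spec.map (CommRingCat.ofHom βE) ≫
        (Limits.pullback f l).isoSpec.inv ≫ Limits.pullback.fst f l = _
      rw [← Spec.map_comp_assoc, hβEι, hβ', Category.assoc, Iso.hom_inv_id_assoc]
      exact Limits.pullback.lift_fst _ _ _
    obtain ⟨y', hy', σ', hσ'⟩ : ∃ y' : Y, y' = y ∧ ∃ σ' : Y.residueField y' ⟶ CommRingCat.of E,
        Spec.map σ' ≫ Y.fromSpecResidueField y' = nE := by
      refine ⟨nE (IsLocalRing.closedPoint E), ?_,
        Y.descResidueField (Scheme.stalkClosedPointTo nE),
        Scheme.descResidueField_stalkClosedPointTo_fromSpecResidueField E Y nE⟩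
      have h1 : (Spec.map (CommRingCat.ofHom ι)) (IsLocalRing.closedPoint (Y.residueField y)) =
          IsLocalRing.closedPoint E := Subsingleton.elim _ _
      rw [← h1, ← Scheme.Hom.comp_apply, hnE, Scheme.fromSpecResidueField_apply]
    subst hy'
    have h2 : Spec.map (CommRingCat.ofHom ι) ≫ Spec.map σ' = 𝟙 _ := by
      rw [← cancel_mono (Y.fromSpecResidueField y'), Category.assoc, hσ', hnE, Category.id_comp]
    rw [← Spec.map_comp, ← Spec.map_id] at h2
    have h3 : σ' ≫ CommRingCat.ofHom ι = 𝟙 _ := Spec.map_injective h2
    rw [eq_top_iff]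
    intro z _
    have h4 : ι (σ'.hom z) = z := congrArg (fun h => h.hom z) h3
    rw [← h4]
    exact (σ'.hom z).2
  have key := Groth.Agent.Lib.Helper9.FiniteUnram.isTamelyRamified (A := A)
    (K := X.residueField (f.base y)) (L := Y.residueField y)
    (B := Γ(Limits.pullback f l, ⊤)) β'.hom hβA hgen
  exact key

end Groth.Agent.S18596
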