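import Mathlib
import Groth.Agent.Lib.Helper9.GaloisTame
import Groth.Agent.Lib.Helper9.GaloisCoverRes
import Groth.Agent.Lib.Helper9.ResidueFinite

set_option autoImplicit false
universe u
open EtRam

namespace Groth.Agent.S18597

open AlgebraicGeometry CategoryTheory in
/-- Let k be a perfect field and X a k-scheme. A finite étale cover of X by a torsor under a finite
group of order prime to the characteristic of k is curve-tame, i.e. tamely ramified at every place
at infinity of every regular k-curve mapping to X. Stated here unfolded at a single place and for a
connected Galois cover Z ⟶ X (the X-automorphisms of Z act transitively on geometric fibres) whose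
automorphism group has order invertible in k: for every point z of Z with image x and every discrete
valuation ring A of the residue field κ(x) through which Spec κ(x) ⟶ Spec k factors (so A contains k
and has the residue characteristic of k), the finite separable extension κ(z) of κ(x) is tamely
ramified with respect to A. Without the factorisation through Spec A the claim fails already for X =
Spec ℚ, Z = Spec ℚ(√2) and A = ℤ localised at 2. (The published statement is for torsors under a
finite abelian group of order prime to the characteristic; a connected component of such a torsor is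
a Galois cover of this kind.) -/
theorem result
    (k : Type u) [Field k] [PerfectField k] {X : Scheme.{u}} (s : X ⟶ Spec (CommRingCat.of k))
    (Z : FEt.Cat X) (hZ : PiSp.IsGaloisCover Z) (hn : (Nat.card (Aut Z) : k) ≠ 0) (z : Z.left)
    (A : ValuationSubring (X.residueField (Z.hom.base z))) [IsDiscreteValuationRing A]
    (a : Spec (CommRingCat.of A) ⟶ Spec (CommRingCat.of k))
    (ha : Spec.map (CommRingCat.ofHom A.subtype) ≫ a = X.fromSpecResidueField (Z.hom.base z) ≫ s) :
    EtRam.IsTamelyRamified A ((Z.hom.residueFieldMap z).hom.comp A.subtype) := by
  classical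
  haveI hfin : IsFinite Z.hom := Z.prop.1
  haveI het : Etale Z.hom := Z.prop.2
  letI algKL : Algebra (X.residueField (Z.hom.base z)) (Z.left.residueField z) :=
    (Z.hom.residueFieldMap z).hom.toAlgebra
  haveI hfd : FiniteDimensional (X.residueField (Z.hom.base z)) (Z.left.residueField z) :=
    Groth.Agent.Lib.Helper9.ResidueFinite.finite_residueFieldMap Z.hom z
  haveI hsep : Algebra.IsSeparable (X.residueField (Z.hom.base z)) (Z.left.residueField z) :=
    Groth.Agent.Lib.Helper9.ResidueFinite.isSeparable_residueFieldMap Z.hom z
  have hn0 : Nat.card (Aut Z) ≠ 0 := by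
    intro h0
    rw [h0, Nat.cast_zero] at hn
    exact hn rfl
  haveI : Finite (Aut Z) := Nat.finite_of_card_ne_zero hn0
  obtain ⟨hgal, hdvd⟩ := Groth.Agent.Lib.Helper9.GaloisCoverRes.isGalois_and_dvd Z z hZ rfl
  haveI := hgal
  -- the ring map `k → A`
  let ρ : k →+* A := (Spec.preimage a).hom
  have key := Groth.Agent.Lib.Helper9.GaloisTame.isTamelyRamified_of_isGalois (A := A)
    (K := X.residueField (Z.hom.base z)) (L := Z.left.residueField z) (fun p hp hchar hpd => by
      have h1 : p ∣ Nat.card (Aut Z) := hdvd p hp hpd
      apply hn
      let ρ' : k →+* (A ⧸ IsLocalRing.maximalIdeal A) :=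
        (Ideal.Quotient.mk (IsLocalRing.maximalIdeal A)).comp ρ
      letI : Field (A ⧸ IsLocalRing.maximalIdeal A) := Ideal.Quotient.field _
      have h2 : ρ' (Nat.card (Aut Z) : k) = 0 := by
        rw [map_natCast]
        exact (CharP.cast_eq_zero_iff (A ⧸ IsLocalRing.maximalIdeal A) p _).2 h1
      exact (map_eq_zero ρ').1 h2)
  exact key

end Groth.Agent.S18597
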