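import Groth.Statements.S18598
import Mathlib.RingTheory.Polynomial.Cyclotomic.Eval
import Mathlib.RingTheory.Coprime.Lemmas

set_option autoImplicit false
universe u
open SSRed

namespace Groth.Agent.S18598


theorem dvd_eval_cyclotomic {O : Type u} [CommRing O] [IsDomain O] (α : O) (m : ℕ) (hm : 0 < m)
    (hprim : IsPrimitiveRoot α m) :
    (α - 1) ^ (Nat.totient m) ∣ Polynomial.eval 1 (Polynomial.cyclotomic m O) := by
  have : NeZero m := ⟨hm.ne'⟩
  rw [Polynomial.cyclotomic_eq_prod_X_sub_primitiveRoots hprim, Polynomial.eval_prod,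
    ← hprim.card_primitiveRoots, ← Finset.prod_const]
  apply Finset.prod_dvd_prod_of_dvd
  intro μ hμ
  rw [mem_primitiveRoots hm] at hμ
  obtain ⟨j, -, rfl⟩ := hprim.eq_pow_of_pow_eq_one hμ.pow_eq_one
  simp only [Polynomial.eval_sub, Polynomial.eval_X, Polynomial.eval_C]
  rw [← dvd_neg, neg_sub]
  simpa using sub_dvd_pow_sub_pow α 1 j

theorem arith {q k b : ℕ} (hq : q.Prime) (hb : 1 ≤ b) (h : b * (q ^ k * (q - 1)) ≤ 2) :
    (q ^ b = 3 ∧ q ^ (k + 1) = 3) ∨ (q ^ b = 2 ∧ q ^ (k + 1) = 2) ∨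
      (q ^ b = 2 ∧ q ^ (k + 1) = 4) ∨ (q ^ b = 4 ∧ q ^ (k + 1) = 2) := by
  have hq2 : 2 ≤ q := hq.two_le
  have hqk : 1 ≤ q ^ k := Nat.one_le_pow _ _ (by omega)
  have hq1 : 1 ≤ q - 1 := by omega
  have h1 : q - 1 ≤ 2 := by
    calc q - 1 = 1 * (1 * (q - 1)) := by ring
      _ ≤ b * (q ^ k * (q - 1)) := by gcongr
      _ ≤ 2 := h
  have h2 : q ^ k ≤ 2 := by
    calc q ^ k = 1 * (q ^ k * 1) := by ring
      _ ≤ b * (q ^ k * (q - 1)) := by gcongr
      _ ≤ 2 := h
  have h3 : b ≤ 2 := by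
    calc b = b * (1 * 1) := by ring
      _ ≤ b * (q ^ k * (q - 1)) := by gcongr
      _ ≤ 2 := h
  have hk : k ≤ 1 := by
    by_contra hk
    rw [not_le] at hk
    have : q ^ 2 ≤ q ^ k := Nat.pow_le_pow_right (by omega) hk
    nlinarith
  have hq3 : q ≤ 3 := by omega
  interval_cases q <;> interval_cases k <;> interval_cases b <;> simp_all

theorem main (O : Type u) [CommRing O] [IsDomain O] [CharZero O]
    (n : ℕ) (hn : 2 ≤ n) (hO : ∀ p : ℕ, p.Prime → p ∣ n → ¬ IsUnit (p : O))
    (α : O) (hα : IsOfFinOrder α) (h : (n : O) ∣ (α - 1) ^ 2) :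
    orderOf α = 1 ∨ (n = 3 ∧ orderOf α = 3) ∨ (n = 2 ∧ orderOf α = 2) ∨
      (n = 2 ∧ orderOf α = 4) ∨ (n = 4 ∧ orderOf α = 2) := by
  classical
  have hm : 0 < orderOf α := hα.orderOf_pos
  have hprim : IsPrimitiveRoot α (orderOf α) := IsPrimitiveRoot.orderOf α
  set m := orderOf α with hmdef
  have hφ : 0 < Nat.totient m := Nat.totient_pos.mpr hm
  have hdiv : ∀ N : O, (α - 1) ^ (Nat.totient m) ∣ N → (n : O) ^ (Nat.totient m) ∣ N ^ 2 := by
    intro N hN
    calc (n : O) ^ (Nat.totient m) ∣ ((α - 1) ^ 2) ^ (Nat.totient m) := pow_dvd_pow_of_dvd h _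
      _ = ((α - 1) ^ (Nat.totient m)) ^ 2 := by rw [← pow_mul, ← pow_mul, mul_comm]
      _ ∣ N ^ 2 := pow_dvd_pow_of_dvd hN 2
  have hkey := dvd_eval_cyclotomic α m hm hprim
  by_cases hm1 : m = 1
  · exact Or.inl hm1
  right
  obtain ⟨p, hp, hpn⟩ := Nat.exists_prime_and_dvd (show n ≠ 1 by omega)
  have hpn' : ∀ p : ℕ, p ∣ n → (p : O) ∣ (n : O) ^ (Nat.totient m) := by
    intro p hpn
    exact dvd_trans (Nat.cast_dvd_cast hpn) (dvd_pow_self _ hφ.ne')
  by_cases hpp : ∃ q k : ℕ, q.Prime ∧ q ^ (k + 1) = m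
  · obtain ⟨q, k, hq, hqm⟩ := hpp
    have : Fact q.Prime := ⟨hq⟩
    rw [← hqm, Polynomial.eval_one_cyclotomic_prime_pow, hqm] at hkey
    have h2 := hdiv _ hkey
    have huniq : ∀ {d : ℕ}, d.Prime → d ∣ n → d = q := by
      intro d hd hdn
      by_contra hne
      have hcop : Nat.Coprime d (q ^ 2) :=
        Nat.Coprime.pow_right 2 ((Nat.coprime_primes hd hq).mpr hne)
      have hcop' : IsCoprime (d : O) ((q ^ 2 : ℕ) : O) := hcop.cast
      have hdvd : (d : O) ∣ ((q ^ 2 : ℕ) : O) := by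
        rw [Nat.cast_pow]
        exact dvd_trans (hpn' d hdn) h2
      exact hO d hd hdn (hcop'.isUnit_of_dvd hdvd)
    have hnq := Nat.eq_prime_pow_of_unique_prime_dvd (by omega : n ≠ 0) huniq
    set b := n.primeFactorsList.length with hb
    have hb1 : 1 ≤ b := by
      by_contra hb0
      have : b = 0 := by omega
      rw [this, pow_zero] at hnq
      omega
    have hqn : q ∣ n := by
      rw [hnq]
      exact dvd_pow_self _ (by omega)
    have hq0 : (q : O) ≠ 0 := Nat.cast_ne_zero.mpr hq.ne_zero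
    have hle : b * Nat.totient m ≤ 2 := by
      have h3 : (q : O) ^ (b * Nat.totient m) ∣ (q : O) ^ 2 := by
        rw [pow_mul, ← Nat.cast_pow, ← hnq]
        exact h2
      exact (pow_dvd_pow_iff hq0 (hO q hq hqn)).mp h3
    rw [← hqm, Nat.totient_prime_pow_succ hq] at hle
    have := arith hq hb1 hle
    rw [← hnq, hqm] at this
    exact this
  · exfalso
    simp only [not_exists, not_and] at hpp
    have hnpp : ∀ {q : ℕ}, q.Prime → ∀ k : ℕ, q ^ k ≠ m := by
      intro q hq k
      cases k with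
      | zero => rw [pow_zero]; exact fun h => hm1 h.symm
      | succ k => exact hpp q k hq
    rw [Polynomial.eval_one_cyclotomic_not_prime_pow hnpp] at hkey
    have h2 := hdiv _ hkey
    rw [one_pow] at h2
    exact hO p hp hpn (isUnit_of_dvd_one (dvd_trans (hpn' p hpn) h2))

/-- Let O be a commutative integral domain of characteristic zero, n a positive integer such that no
prime number dividing n is a unit in O, and α an element of O of finite multiplicative order such
that (α − 1)² is divisible by n in O. Then α = 1 if n ≥ 5, α² = 1 if n = 4, α³ = 1 if n = 3, and α⁴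
= 1 if n = 2. -/
theorem result (O : Type u) [CommRing O] [IsDomain O] [CharZero O]
    (n : ℕ) (hn : 0 < n) (hO : ∀ p : ℕ, p.Prime → p ∣ n → ¬ IsUnit (p : O))
    (α : O) (hα : IsOfFinOrder α) (h : (n : O) ∣ (α - 1) ^ 2) :
    (5 ≤ n → α = 1) ∧ (n = 4 → α ^ 2 = 1) ∧ (n = 3 → α ^ 3 = 1) ∧ (n = 2 → α ^ 4 = 1) := by
  refine ⟨fun h5 => ?_, fun h4 => ?_, fun h3 => ?_, fun h2 => ?_⟩
  · have := main O n (by omega) hO α hα h
    have h1 : orderOf α = 1 := by omega
    exact orderOf_eq_one_iff.mp h1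
  · have := main O n (by omega) hO α hα h
    have h1 : orderOf α ∣ 2 := by
      rcases this with h | h | h | h | h
      · rw [h]; exact one_dvd _
      · omega
      · omega
      · omega
      · rw [h.2]
    exact orderOf_dvd_iff_pow_eq_one.mp h1
  · have := main O n (by omega) hO α hα h
    have h1 : orderOf α ∣ 3 := by
      rcases this with h | h | h | h | h
      · rw [h]; exact one_dvd _
      · rw [h.2]
      · omega
      · omega
      · omega
    exact orderOf_dvd_iff_pow_eq_one.mp h1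
  · have := main O n (by omega) hO α hα h
    have h1 : orderOf α ∣ 4 := by
      rcases this with h | h | h | h | h
      · rw [h]; exact one_dvd _
      · omega
      · rw [h.2]; norm_num
      · rw [h.2]
      · omega
    exact orderOf_dvd_iff_pow_eq_one.mp h1

end Groth.Agent.S18598
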