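import Groth.Statements.S18599
import Mathlib

set_option autoImplicit false
universe u
open SSRed

namespace Groth.Agent.S18599

section

theorem card_quot_p (ℓ : ℕ) [Fact ℓ.Prime] :
    Nat.card (ℤ_[ℓ] ⧸ Ideal.span {(ℓ : ℤ_[ℓ])}) = ℓ := by
  rw [← PadicInt.maximalIdeal_eq_span_p]
  have e : (ℤ_[ℓ] ⧸ IsLocalRing.maximalIdeal ℤ_[ℓ]) ≃ ZMod ℓ := PadicInt.residueField.toEquiv
  rw [Nat.card_congr e, Nat.card_zmod]

open TensorProduct in
theorem card_quot_smul (ℓ : ℕ) [Fact ℓ.Prime] (K : Type u) [AddCommGroup K] [Module ℤ_[ℓ] K]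
    [Module.Free ℤ_[ℓ] K] [Module.Finite ℤ_[ℓ] K] :
    Nat.card (K ⧸ (Ideal.span {(ℓ : ℤ_[ℓ])} • ⊤ : Submodule ℤ_[ℓ] K)) =
      ℓ ^ Module.finrank ℤ_[ℓ] K := by
  classical
  let I : Ideal ℤ_[ℓ] := Ideal.span {(ℓ : ℤ_[ℓ])}
  let e := (quotTensorEquivQuotSMul K I).symm
  rw [Nat.card_congr e.toEquiv]
  let b := Module.finBasis ℤ_[ℓ] K
  let b' := Algebra.TensorProduct.basis (ℤ_[ℓ] ⧸ I) b
  rw [Nat.card_congr b'.equivFun.toEquiv, Nat.card_fun, card_quot_p, Nat.card_eq_fintype_card,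
    Fintype.card_fin]

theorem index_chain (ℓ : ℕ) [Fact ℓ.Prime] (K : Type u) [AddCommGroup K] [Module ℤ_[ℓ] K]
    [Module.Free ℤ_[ℓ] K] [Module.Finite ℤ_[ℓ] K] (φ ψ : Module.End ℤ_[ℓ] K) (e : ℕ)
    (hφ : Function.Injective φ) (hψ : Function.Surjective ψ)
    (h : φ ^ e = (ℓ : ℤ_[ℓ]) • ψ) :
    Nat.card (K ⧸ LinearMap.range φ) ^ e = ℓ ^ Module.finrank ℤ_[ℓ] K := by
  have hidx : ∀ S : Submodule ℤ_[ℓ] K, Nat.card (K ⧸ S) = S.toAddSubgroup.index := fun S => rfl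
  have hchain : ∀ i : ℕ, (LinearMap.range (φ ^ i)).toAddSubgroup.index =
      (LinearMap.range φ).toAddSubgroup.index ^ i := by
    intro i
    induction i with
    | zero =>
      have : LinearMap.range (φ ^ 0) = ⊤ := by
        rw [pow_zero]; exact LinearMap.range_id
      rw [this, pow_zero]
      exact AddSubgroup.index_top
    | succ i ih =>
      have h1 : LinearMap.range (φ ^ (i+1)) = Submodule.map φ (LinearMap.range (φ ^ i)) := by
        rw [pow_succ', Module.End.mul_eq_comp, LinearMap.range_comp]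
      rw [h1, Submodule.map_toAddSubgroup]
      have h2 := AddSubgroup.index_map_of_injective (H := (LinearMap.range (φ ^ i)).toAddSubgroup)
        (f := ((φ : K →ₗ[ℤ_[ℓ]] K) : K →+ K)) hφ
      rw [h2, ih, pow_succ]
      congr 1
  have h3 : LinearMap.range (φ ^ e) = (Ideal.span {(ℓ : ℤ_[ℓ])} • ⊤ : Submodule ℤ_[ℓ] K) := by
    rw [h, Submodule.ideal_span_singleton_smul]
    ext x
    rw [Submodule.mem_smul_pointwise_iff_exists]
    constructor
    · rintro ⟨y, rfl⟩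
      exact ⟨ψ y, trivial, rfl⟩
    · rintro ⟨y, -, rfl⟩
      obtain ⟨z, rfl⟩ := hψ y
      exact ⟨z, rfl⟩
  rw [hidx, ← hchain e, h3, ← hidx, card_quot_smul]

theorem mainH (ℓ : ℕ) [Fact ℓ.Prime] (M : Type u) [AddCommGroup M] [Module ℤ_[ℓ] M]
    [Module.Free ℤ_[ℓ] M] [Module.Finite ℤ_[ℓ] M]
    (f P U V : Module.End ℤ_[ℓ] M) (e : ℕ) (he : 1 ≤ e)
    (hPP : P * P = P) (hfP : f * P = 0) (hPf : P * f = 0)
    (hUP : U * P = P * U) (hUV : U * V = 1) (hVU : V * U = 1)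
    (hfe : f ^ e * (1 - P) = (ℓ : ℤ_[ℓ]) • (U * (1 - P))) :
    (∀ x ∈ Submodule.torsion ℤ_[ℓ] (M ⧸ LinearMap.range f), (ℓ : ℤ_[ℓ]) • x = 0) ∧
      Nat.card (Submodule.torsion ℤ_[ℓ] (M ⧸ LinearMap.range f)) ^ e =
        ℓ ^ (Module.finrank ℤ_[ℓ] M - Module.finrank ℤ_[ℓ] (LinearMap.ker f)) := by
  classical
  have hℓ : (ℓ : ℤ_[ℓ]) ≠ 0 := by
    exact_mod_cast (Fact.out : ℓ.Prime).ne_zero
  have hPP' : ∀ x, P (P x) = P x := fun x => LinearMap.congr_fun hPP x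
  have F1 : ∀ x, P (f x) = 0 := fun x => LinearMap.congr_fun hPf x
  have F2 : ∀ x, f (P x) = 0 := fun x => LinearMap.congr_fun hfP x
  have hUP' : ∀ x, U (P x) = P (U x) := fun x => LinearMap.congr_fun hUP x
  have hUV' : ∀ x, U (V x) = x := fun x => LinearMap.congr_fun hUV x
  have hVU' : ∀ x, V (U x) = x := fun x => LinearMap.congr_fun hVU x
  have hVP' : ∀ x, V (P x) = P (V x) := by
    intro x
    have h1 : V (P x) = V (P (U (V x))) := by rw [hUV']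
    rw [h1, ← hUP', hVU']
  have F3 : ∀ x, P x = 0 → (f ^ e) x = (ℓ : ℤ_[ℓ]) • U x := by
    intro x hx
    have h1 := LinearMap.congr_fun hfe x
    simp only [Module.End.mul_apply, LinearMap.sub_apply, Module.End.one_apply, hx, sub_zero,
      LinearMap.smul_apply] at h1
    exact h1
  have hfe_range : ∀ x, (f ^ e) x ∈ LinearMap.range f := by
    intro x
    obtain ⟨e', rfl⟩ : ∃ e', e = e' + 1 := ⟨e - 1, by omega⟩
    rw [pow_succ']
    exact ⟨(f ^ e') x, rfl⟩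
  have hfe_zero : ∀ x, f x = 0 → (f ^ e) x = 0 := by
    intro x hx
    obtain ⟨e', rfl⟩ : ∃ e', e = e' + 1 := ⟨e - 1, by omega⟩
    rw [pow_succ, Module.End.mul_apply, hx, map_zero]
  have F6 : ∀ x, P x = 0 → f x = 0 → x = 0 := by
    intro x hx hfx
    have h1 := F3 x hx
    rw [hfe_zero x hfx] at h1
    have h2 : U x = 0 := (smul_eq_zero_iff_right hℓ).mp h1.symm
    rw [← hVU' x, h2, map_zero]
  have F7 : LinearMap.ker f = LinearMap.range P := by
    ext x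
    constructor
    · intro hx
      rw [LinearMap.mem_ker] at hx
      have h1 : x - P x = 0 := by
        apply F6
        · rw [map_sub, hPP', sub_self]
        · rw [map_sub, F2, hx, sub_zero]
      exact ⟨x, (sub_eq_zero.mp h1).symm⟩
    · rintro ⟨y, rfl⟩
      exact F2 y
  let K : Submodule ℤ_[ℓ] M := LinearMap.ker P
  have hfK : ∀ x ∈ K, f x ∈ K := fun x _ => F1 x
  have hUK : ∀ x ∈ K, U x ∈ K := by
    intro x hx
    rw [LinearMap.mem_ker] at hx ⊢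
    rw [← hUP', hx, map_zero]
  have hVK : ∀ x ∈ K, V x ∈ K := by
    intro x hx
    rw [LinearMap.mem_ker] at hx ⊢
    rw [← hVP', hx, map_zero]
  let φ : Module.End ℤ_[ℓ] K := f.restrict hfK
  let ψ : Module.End ℤ_[ℓ] K := U.restrict hUK
  have hφinj : Function.Injective φ := by
    rw [← LinearMap.ker_eq_bot, LinearMap.ker_eq_bot']
    intro x hx
    have h1 : f x = 0 := by
      have := congrArg Subtype.val hx
      simpa [φ] using this
    exact Subtype.ext (F6 x x.2 h1)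
  have hψsurj : Function.Surjective ψ := by
    intro y
    refine ⟨⟨V y, hVK y y.2⟩, ?_⟩
    apply Subtype.ext
    simp [ψ, hUV']
  have hφψ : φ ^ e = (ℓ : ℤ_[ℓ]) • ψ := by
    rw [Module.End.pow_restrict e hfK]
    ext x
    simp only [LinearMap.restrict_apply, LinearMap.smul_apply, ψ, Submodule.coe_smul]
    exact F3 x x.2
  have hcard := index_chain ℓ K φ ψ e hφinj hψsurj hφψ
  let ι : K →ₗ[ℤ_[ℓ]] (M ⧸ LinearMap.range f) := (LinearMap.range f).mkQ ∘ₗ K.subtype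
  have hker : LinearMap.ker ι = LinearMap.range φ := by
    ext x
    simp only [LinearMap.mem_ker, ι, LinearMap.comp_apply, Submodule.subtype_apply,
      Submodule.mkQ_apply, Submodule.Quotient.mk_eq_zero, LinearMap.mem_range]
    constructor
    · rintro ⟨y, hy⟩
      refine ⟨⟨y - P y, ?_⟩, ?_⟩
      · show P (y - P y) = 0
        rw [map_sub, hPP', sub_self]
      · apply Subtype.ext
        simp only [φ, LinearMap.restrict_apply]
        rw [map_sub, F2, sub_zero, hy]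
    · rintro ⟨y, hy⟩
      refine ⟨y, ?_⟩
      rw [← hy]
      simp [φ]
  have hℓK : ∀ x ∈ K, (ℓ : ℤ_[ℓ]) • x ∈ LinearMap.range f := by
    intro x hx
    have h1 := F3 (V x) (hVK x hx)
    rw [hUV'] at h1
    rw [← h1]
    exact hfe_range _
  have hrange : LinearMap.range ι = Submodule.torsion ℤ_[ℓ] (M ⧸ LinearMap.range f) := by
    ext z
    constructor
    · rintro ⟨x, rfl⟩
      rw [Submodule.mem_torsion_iff]
      refine ⟨⟨(ℓ : ℤ_[ℓ]), mem_nonZeroDivisors_of_ne_zero hℓ⟩, ?_⟩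
      simp only [ι, LinearMap.comp_apply, Submodule.subtype_apply, Submodule.mkQ_apply]
      show (ℓ : ℤ_[ℓ]) • Submodule.Quotient.mk (p := LinearMap.range f) (x : M) = 0
      rw [← Submodule.Quotient.mk_smul, Submodule.Quotient.mk_eq_zero]
      exact hℓK x x.2
    · intro hz
      rw [Submodule.mem_torsion_iff] at hz
      obtain ⟨a, ha⟩ := hz
      obtain ⟨m, rfl⟩ := Submodule.Quotient.mk_surjective _ z
      have ha' : (a : ℤ_[ℓ]) • Submodule.Quotient.mk (p := LinearMap.range f) m = 0 := ha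
      rw [← Submodule.Quotient.mk_smul, Submodule.Quotient.mk_eq_zero] at ha'
      obtain ⟨y, hy⟩ := ha'
      have h1 : P ((a : ℤ_[ℓ]) • m) = 0 := by rw [← hy, F1]
      rw [map_smul] at h1
      have h2 : P m = 0 := (smul_eq_zero_iff_right (nonZeroDivisors.ne_zero a.2)).mp h1
      exact ⟨⟨m, h2⟩, rfl⟩
  constructor
  · intro x hx
    rw [← hrange] at hx
    obtain ⟨y, rfl⟩ := hx
    simp only [ι, LinearMap.comp_apply, Submodule.subtype_apply, Submodule.mkQ_apply]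
    rw [← Submodule.Quotient.mk_smul, Submodule.Quotient.mk_eq_zero]
    exact hℓK y y.2
  · have h1 : Nat.card (Submodule.torsion ℤ_[ℓ] (M ⧸ LinearMap.range f)) =
        Nat.card (K ⧸ LinearMap.range φ) := by
      rw [← hrange, ← hker]
      exact Nat.card_congr (LinearMap.quotKerEquivRange ι).symm.toEquiv
    have h2 : Module.finrank ℤ_[ℓ] K =
        Module.finrank ℤ_[ℓ] M - Module.finrank ℤ_[ℓ] (LinearMap.ker f) := by
      have h3 := Submodule.finrank_quotient_add_finrank K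
      have h4 : Module.finrank ℤ_[ℓ] (M ⧸ K) = Module.finrank ℤ_[ℓ] (LinearMap.range P) :=
        LinearEquiv.finrank_eq (LinearMap.quotKerEquivRange P)
      rw [F7]
      omega
    rw [h1, hcard, h2]

end

section
variable {ℓ : ℕ} [Fact ℓ.Prime] {M : Type u} [AddCommGroup M] [Module ℤ_[ℓ] M]
    [Module.Free ℤ_[ℓ] M] [Module.Finite ℤ_[ℓ] M]

omit [Module.Finite ℤ_[ℓ] M] in
theorem end_cancel (a : ℤ_[ℓ]) (ha : a ≠ 0) (X Y : Module.End ℤ_[ℓ] M) (h : a • X = a • Y) :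
    X = Y := by
  ext x
  have h1 := LinearMap.congr_fun h x
  simp only [LinearMap.smul_apply] at h1
  have h2 : a • (X x - Y x) = 0 := by rw [smul_sub, h1, sub_self]
  exact sub_eq_zero.mp ((smul_eq_zero_iff_right ha).mp h2)

theorem pow_root (p : ℕ) (hp : p.Prime) (n e c : ℕ) (he : 1 ≤ e) (h : n ^ e = p ^ c) :
    ∃ r, r * e = c ∧ n = p ^ r := by
  have h1 : n ∣ p ^ c := by
    rw [← h]
    exact dvd_pow_self n (by omega)
  obtain ⟨r, -, rfl⟩ := (Nat.dvd_prime_pow hp).mp h1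
  refine ⟨r, ?_, rfl⟩
  rw [← pow_mul] at h
  exact Nat.pow_right_injective hp.two_le h

end

section
variable {ℓ : ℕ} [Fact ℓ.Prime] {M : Type u} [AddCommGroup M] [Module ℤ_[ℓ] M]
    [Module.Free ℤ_[ℓ] M] [Module.Finite ℤ_[ℓ] M]

theorem case2 (hℓ : ℓ = 2) (a f B : Module.End ℤ_[ℓ] M) (ha : a * a = 1) (hf : f = a - 1)
    (hB : f = (2 : ℤ_[ℓ]) • B) :
    (∀ x ∈ Submodule.torsion ℤ_[ℓ] (M ⧸ LinearMap.range f), (ℓ : ℤ_[ℓ]) • x = 0) ∧
      Nat.card (Submodule.torsion ℤ_[ℓ] (M ⧸ LinearMap.range f)) ^ 1 =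
        ℓ ^ (Module.finrank ℤ_[ℓ] M - Module.finrank ℤ_[ℓ] (LinearMap.ker f)) := by
  have h2 : (ℓ : ℤ_[ℓ]) = 2 := by subst hℓ; norm_num
  have hℓ0 : (ℓ : ℤ_[ℓ]) ≠ 0 := by exact_mod_cast (Fact.out : ℓ.Prime).ne_zero
  have two_ne : (2 : ℤ_[ℓ]) ≠ 0 := by rw [← h2]; exact hℓ0
  have four_ne : (2 : ℤ_[ℓ]) * 2 ≠ 0 := mul_ne_zero two_ne two_ne
  have ha' : a = f + 1 := by rw [hf]; abel
  have h0 : f * f + (2 : ℤ_[ℓ]) • f = 0 := by
    have h1 : (f + 1) * (f + 1) = 1 := by rw [← ha']; exact ha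
    rw [add_mul, mul_add, mul_add, mul_one, one_mul, one_mul] at h1
    rw [two_smul]
    have h3 : f * f + f + (f + 1) - 1 = 0 := by rw [h1, sub_self]
    rw [← h3]; abel
  have hBB : B * B = -B := by
    rw [hB, smul_mul_smul_comm, smul_smul] at h0
    have h1 : ((2 : ℤ_[ℓ]) * 2) • (B * B + B) = ((2 : ℤ_[ℓ]) * 2) • 0 := by
      rw [smul_add, h0, smul_zero]
    have h3 := end_cancel _ four_ne _ _ h1
    exact eq_neg_of_add_eq_zero_left h3
  have hBP : B * (1 + B) = 0 := by rw [mul_add, mul_one, hBB, add_neg_cancel]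
  have hPB : (1 + B) * B = 0 := by rw [add_mul, one_mul, hBB, add_neg_cancel]
  refine mainH ℓ M f (1 + B) (-1) (-1) 1 le_rfl ?_ ?_ ?_ ?_ ?_ ?_ ?_
  · rw [mul_add, mul_one, hPB, add_zero]
  · rw [hB, smul_mul_assoc, hBP, smul_zero]
  · rw [hB, mul_smul_comm, hPB, smul_zero]
  · rw [neg_one_mul, mul_neg_one]
  · rw [neg_mul_neg, one_mul]
  · rw [neg_mul_neg, one_mul]
  · rw [pow_one, h2, hB]
    have h1 : (1 : Module.End ℤ_[ℓ] M) - (1 + B) = -B := by abel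
    rw [h1, neg_one_mul, neg_neg, smul_mul_assoc, mul_neg, hBB, neg_neg]

end

section
variable {ℓ : ℕ} [Fact ℓ.Prime] {M : Type u} [AddCommGroup M] [Module ℤ_[ℓ] M]
    [Module.Free ℤ_[ℓ] M] [Module.Finite ℤ_[ℓ] M]

theorem case3 (hℓ : ℓ = 3) (a f B : Module.End ℤ_[ℓ] M) (ha : a * (a * a) = 1) (hf : f = a - 1)
    (hB : f * f = (3 : ℤ_[ℓ]) • B) :
    (∀ x ∈ Submodule.torsion ℤ_[ℓ] (M ⧸ LinearMap.range f), (ℓ : ℤ_[ℓ]) • x = 0) ∧
      Nat.card (Submodule.torsion ℤ_[ℓ] (M ⧸ LinearMap.range f)) ^ 2 =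
        ℓ ^ (Module.finrank ℤ_[ℓ] M - Module.finrank ℤ_[ℓ] (LinearMap.ker f)) := by
  have h3 : (ℓ : ℤ_[ℓ]) = 3 := by subst hℓ; norm_num
  have hℓ0 : (ℓ : ℤ_[ℓ]) ≠ 0 := by exact_mod_cast (Fact.out : ℓ.Prime).ne_zero
  have t_ne : (3 : ℤ_[ℓ]) ≠ 0 := by rw [← h3]; exact hℓ0
  have ha' : a = f + 1 := by rw [hf]; abel
  have three_smul' : ∀ X : Module.End ℤ_[ℓ] M, (3 : ℤ_[ℓ]) • X = X + X + X := by
    intro X
    have : (3 : ℤ_[ℓ]) = 1 + 1 + 1 := by norm_num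
    rw [this, add_smul, add_smul, one_smul]
  have hcomm : f * B = B * f := by
    have h1 : f * (f * f) = (f * f) * f := (mul_assoc f f f).symm
    rw [hB, mul_smul_comm, smul_mul_assoc] at h1
    exact end_cancel _ t_ne _ _ h1
  have hstar : f * B = -((3 : ℤ_[ℓ]) • B) - f := by
    have h1 : (f + 1) * ((f + 1) * (f + 1)) = 1 := by rw [← ha']; exact ha
    have h2 : (f + 1) * (f + 1) = (3 : ℤ_[ℓ]) • B + f + f + 1 := by
      rw [add_mul, mul_add, mul_add, mul_one, one_mul, one_mul, hB]; abel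
    rw [h2, add_mul, one_mul, mul_add, mul_add, mul_add, mul_one, hB, mul_smul_comm] at h1
    have h4 : (3 : ℤ_[ℓ]) • (f * B + (3 : ℤ_[ℓ]) • B + f) = (3 : ℤ_[ℓ]) • 0 := by
      rw [smul_zero, smul_add, smul_add, three_smul' ((3 : ℤ_[ℓ]) • B), three_smul' f]
      have h5 : (3 : ℤ_[ℓ]) • (f * B) + (3 : ℤ_[ℓ]) • B + (3 : ℤ_[ℓ]) • B + f +
          ((3 : ℤ_[ℓ]) • B + f + f + 1) - 1 = 0 := by rw [h1, sub_self]
      rw [← h5]; abel
    have h6 := end_cancel _ t_ne _ _ h4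
    have h7 : f * B = 0 - (3 : ℤ_[ℓ]) • B - f := by rw [← h6]; abel
    rw [h7]; abel
  have hBB : B * B = (3 : ℤ_[ℓ]) • B + f - B := by
    have h1 : (3 : ℤ_[ℓ]) • (B * B) = (3 : ℤ_[ℓ]) • ((3 : ℤ_[ℓ]) • B + f - B) := by
      rw [← smul_mul_assoc, ← hB, mul_assoc, hstar, mul_sub, mul_neg, mul_smul_comm, hstar, hB]
      simp only [smul_sub, smul_add, smul_neg]
      abel
    exact end_cancel _ t_ne _ _ h1
  have hfP : f * (B + f + 1) = 0 := by
    rw [mul_add, mul_add, mul_one, hstar, hB]; abel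
  have hPf : (B + f + 1) * f = 0 := by
    rw [add_mul, add_mul, one_mul, ← hcomm, hstar, hB]; abel
  have hPB : (B + f + 1) * B = 0 := by
    rw [add_mul, add_mul, one_mul, hBB, hstar]; abel
  refine mainH ℓ M f (B + f + 1) (-(f + 1)) (-((f + 1) * (f + 1))) 2 (by norm_num)
    ?_ hfP hPf ?_ ?_ ?_ ?_
  · have h1 : (B + f + 1) * (B + f + 1) = (B + f + 1) * B + (B + f + 1) * f + (B + f + 1) := by
      rw [mul_add, mul_add, mul_one]
    rw [h1, hPB, hPf]; abel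
  · rw [neg_mul, mul_neg, add_mul, one_mul, hfP, mul_add, mul_one, hPf]
  · rw [neg_mul_neg, ← ha']; exact ha
  · rw [neg_mul_neg, ← ha', mul_assoc]; exact ha
  · rw [pow_two, hB, h3]
    have h1 : (1 : Module.End ℤ_[ℓ] M) - (B + f + 1) = -(B + f) := by abel
    rw [h1, smul_mul_assoc, neg_mul_neg, mul_neg, mul_add, hBB, ← hcomm, hstar,
      add_mul, one_mul, mul_add, hstar, hB]
    congr 1
    abel

end

/-- Let ℓ be a prime number, M a free ℤ_ℓ-module of finite rank, A an automorphism of M with A^ℓ = 1,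
and c the rank of M minus the rank of the submodule of A-invariants. Assume that ℓ = 2 and A − 1 ∈
2·End(M), or that ℓ = 2 and (A − 1)² ∈ 4·End(M), or that ℓ = 3 and (A − 1)² ∈ 3·End(M). Then the
torsion submodule of M/(A − 1)M is a vector space over ℤ/ℓℤ of dimension c/(ℓ − 1): it is killed by
ℓ and has ℓ^r elements for some r with r(ℓ − 1) = c. -/
theorem result (ℓ : ℕ) [Fact ℓ.Prime]
    (M : Type u) [AddCommGroup M] [Module ℤ_[ℓ] M] [Module.Free ℤ_[ℓ] M] [Module.Finite ℤ_[ℓ] M]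
    (A : M ≃ₗ[ℤ_[ℓ]] M) (hA : A ^ ℓ = 1) (f : Module.End ℤ_[ℓ] M) (hf : f = (A : M →ₗ[ℤ_[ℓ]] M) - 1)
    (hcase : (ℓ = 2 ∧ ∃ B : Module.End ℤ_[ℓ] M, f = (2 : ℤ_[ℓ]) • B) ∨
      (ℓ = 2 ∧ ∃ B : Module.End ℤ_[ℓ] M, f ^ 2 = (4 : ℤ_[ℓ]) • B) ∨
      (ℓ = 3 ∧ ∃ B : Module.End ℤ_[ℓ] M, f ^ 2 = (3 : ℤ_[ℓ]) • B))
    (c : ℕ) (hc : c = Module.finrank ℤ_[ℓ] M - Module.finrank ℤ_[ℓ] (LinearMap.ker f)) :
    (∀ x ∈ Submodule.torsion ℤ_[ℓ] (M ⧸ LinearMap.range f), (ℓ : ℤ_[ℓ]) • x = 0) ∧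
      ∃ r : ℕ, r * (ℓ - 1) = c ∧
        Nat.card (Submodule.torsion ℤ_[ℓ] (M ⧸ LinearMap.range f)) = ℓ ^ r := by
  classical
  obtain ⟨a, haA⟩ : ∃ a : Module.End ℤ_[ℓ] M, a = (A : M →ₗ[ℤ_[ℓ]] M) := ⟨_, rfl⟩
  have hapow : a ^ ℓ = 1 := by
    have h1 := congrArg (LinearEquiv.automorphismGroup.toLinearMapMonoidHom) hA
    rw [map_pow, map_one] at h1
    rw [haA]
    exact h1
  have hfa : f = a - 1 := by rw [haA]; exact hf
  have hp : ℓ.Prime := Fact.out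
  have hℓ0 : (ℓ : ℤ_[ℓ]) ≠ 0 := by exact_mod_cast hp.ne_zero
  rcases hcase with ⟨h2, B, hB⟩ | ⟨h2, B, hB⟩ | ⟨h3, B, hB⟩
  · have haa : a * a = 1 := by
      rw [← pow_two]
      convert hapow using 2
      exact h2.symm
    obtain ⟨h1, h2'⟩ := case2 h2 a f B haa hfa hB
    refine ⟨h1, c, ?_, ?_⟩
    · rw [h2]
      simp
    · rw [pow_one] at h2'
      rw [h2', hc]
  · have haa : a * a = 1 := by
      rw [← pow_two]
      convert hapow using 2
      exact h2.symm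
    have hℓ2 : (ℓ : ℤ_[ℓ]) = 2 := by subst h2; norm_num
    have two_ne : (2 : ℤ_[ℓ]) ≠ 0 := by rw [← hℓ2]; exact hℓ0
    have ha' : a = f + 1 := by rw [hfa]; abel
    have h0 : f * f + (2 : ℤ_[ℓ]) • f = 0 := by
      have h1 : (f + 1) * (f + 1) = 1 := by rw [← ha']; exact haa
      rw [add_mul, mul_add, mul_add, mul_one, one_mul, one_mul] at h1
      rw [two_smul]
      have h3 : f * f + f + (f + 1) - 1 = 0 := by rw [h1, sub_self]
      rw [← h3]; abel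
    have hB' : f = (2 : ℤ_[ℓ]) • (-B) := by
      apply end_cancel _ two_ne
      have h4 : (4 : ℤ_[ℓ]) = 2 * 2 := by norm_num
      rw [pow_two, h4, mul_smul] at hB
      rw [hB] at h0
      rw [smul_neg, smul_neg]
      exact (eq_neg_of_add_eq_zero_right h0)
    obtain ⟨h1, h2'⟩ := case2 h2 a f (-B) haa hfa hB'
    refine ⟨h1, c, ?_, ?_⟩
    · rw [h2]
      simp
    · rw [pow_one] at h2'
      rw [h2', hc]
  · have haaa : a * (a * a) = 1 := by
      rw [← pow_two, ← pow_succ']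
      convert hapow using 2
      exact h3.symm
    rw [pow_two] at hB
    obtain ⟨h1, h2'⟩ := case3 h3 a f B haaa hfa hB
    refine ⟨h1, ?_⟩
    obtain ⟨r, hr, hcard⟩ := pow_root ℓ hp _ 2 _ (by norm_num) h2'
    refine ⟨r, ?_, hcard⟩
    rw [hc, ← hr, h3]

end Groth.Agent.S18599
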