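import Groth.Statements.S18600
import Mathlib.LinearAlgebra.Matrix.Charpoly.Minpoly
import Mathlib.LinearAlgebra.Matrix.Charpoly.Coeff
import Mathlib.RingTheory.AdjoinRoot
import Mathlib.NumberTheory.Padics.PadicIntegers
import Mathlib.Data.Nat.Factorization.Basic
import Mathlib.Algebra.Polynomial.Expand

set_option autoImplicit false
universe v
open SSRed

namespace Groth.Agent.S18600

open Polynomial

theorem KF {Ω : Type*} [CommRing Ω] {ι : Type*} [Fintype ι] [DecidableEq ι]
    (N : Matrix ι ι Ω) (u : Ω) :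
    ((N - 1) ^ 2).charpoly.eval (u ^ 2) =
      (-1) ^ (Fintype.card ι) * N.charpoly.eval (1 + u) * N.charpoly.eval (1 - u) := by
  rw [Matrix.eval_charpoly, Matrix.eval_charpoly, Matrix.eval_charpoly]
  have h1 : algebraMap Ω (Matrix ι ι Ω) (u ^ 2) - (N - 1) ^ 2 =
      -((algebraMap Ω (Matrix ι ι Ω) (1 + u) - N) * (algebraMap Ω (Matrix ι ι Ω) (1 - u) - N)) := by
    rw [map_pow, map_add, map_sub, map_one]
    set U := algebraMap Ω (Matrix ι ι Ω) u
    have hc : Commute U (N - 1) := Algebra.commutes u (N - 1)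
    have e1 : (1 + U - N) = U - (N - 1) := by abel
    have e2 : (1 - U - N) = -(U + (N - 1)) := by abel
    rw [e1, e2, mul_neg, neg_neg, pow_two, pow_two, hc.mul_self_sub_mul_self_eq']
  have hs : ∀ a : Ω, Matrix.scalar ι a = algebraMap Ω (Matrix ι ι Ω) a := fun a => rfl
  rw [hs, hs, hs, h1, Matrix.det_neg, Matrix.det_mul]
  ring

theorem L1 {S : Type*} [CommRing S] {ι : Type*} [Fintype ι] [DecidableEq ι]
    (A : Matrix ι ι S) :
    expand S 2 ((A - 1) ^ 2).charpoly =
      (-1) ^ (Fintype.card ι) * A.charpoly.comp (1 + X) * A.charpoly.comp (1 - X) := by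
  have h0 := KF (A.map (C : S →+* S[X])) (X : S[X])
  have h1 : (A.map (C : S →+* S[X]) - 1) ^ 2 = ((A - 1) ^ 2).map (C : S →+* S[X]) := by
    have := map_pow ((C : S →+* S[X]).mapMatrix (m := ι)) (A - 1) 2
    rw [map_sub, map_one] at this
    exact this.symm
  rw [h1, Matrix.charpoly_map, Matrix.charpoly_map, Polynomial.eval_map, Polynomial.eval_map,
    Polynomial.eval_map] at h0
  exact h0

theorem L1c {S : Type*} [CommRing S] {ι κ : Type*} [Fintype ι] [DecidableEq ι]
    [Fintype κ] [DecidableEq κ]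
    (A : Matrix ι ι S) (B : Matrix κ κ S) (h : A.charpoly = B.charpoly)
    (hc : Fintype.card ι = Fintype.card κ) :
    ((A - 1) ^ 2).charpoly = ((B - 1) ^ 2).charpoly := by
  apply Polynomial.expand_injective (n := 2) (by norm_num)
  rw [L1, L1, h, hc]

theorem companion (f : ℤ[X]) (hf : f.Monic) :
    ∃ (m : ℕ) (Cm : Matrix (Fin m) (Fin m) ℤ), m = f.natDegree ∧ Cm.charpoly = f := by
  refine ⟨(AdjoinRoot.powerBasis' hf).dim, Algebra.leftMulMatrix (AdjoinRoot.powerBasis' hf).basis
    (AdjoinRoot.powerBasis' hf).gen, rfl, ?_⟩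
  rw [charpoly_leftMulMatrix]
  symm
  apply minpoly.unique' ℤ _ hf
  · rw [AdjoinRoot.powerBasis'_gen, AdjoinRoot.aeval_eq, AdjoinRoot.mk_self]
  · intro q hq
    by_cases hq0 : q = 0
    · exact Or.inl hq0
    · right
      rw [AdjoinRoot.powerBasis'_gen, AdjoinRoot.aeval_eq]
      intro h0
      rw [AdjoinRoot.mk_eq_zero] at h0
      exact hq0 (Polynomial.eq_zero_of_dvd_of_degree_lt h0 hq)

theorem L3 (a : ℤ) (j : ℕ) (n : ℕ) (hn : 0 < n)
    (H : ∀ (ℓ : ℕ) [Fact ℓ.Prime], ℓ ∣ n → ((n : ℤ_[ℓ])) ^ j ∣ ((a : ℤ) : ℤ_[ℓ])) :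
    (n : ℤ) ^ j ∣ a := by
  by_cases ha : a = 0
  · rw [ha]; exact dvd_zero _
  have ha' : a.natAbs ≠ 0 := Int.natAbs_ne_zero.mpr ha
  rw [← Nat.cast_pow, Int.natCast_dvd]
  rw [← Nat.factorization_prime_le_iff_dvd (pow_ne_zero _ hn.ne') ha']
  intro p hp
  rw [Nat.factorization_pow, Finsupp.smul_apply, smul_eq_mul]
  by_cases hpn : p ∣ n
  · have : Fact p.Prime := ⟨hp⟩
    have h1 : (p : ℤ_[p]) ^ (j * n.factorization p) ∣ ((a : ℤ) : ℤ_[p]) := by
      refine dvd_trans ?_ (H p hpn)
      rw [mul_comm, pow_mul]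
      apply pow_dvd_pow_of_dvd
      have := Nat.ordProj_dvd n p
      have h2 := Nat.cast_dvd_cast (α := ℤ_[p]) this
      rwa [Nat.cast_pow] at h2
    rw [PadicInt.pow_p_dvd_int_iff] at h1
    rw [← hp.pow_dvd_iff_le_factorization ha']
    rw [← Nat.cast_pow] at h1
    exact Int.natCast_dvd.mp h1
  · rw [Nat.factorization_eq_zero_of_not_dvd hpn, mul_zero]
    exact Nat.zero_le _

theorem L5 {S : Type*} [CommRing S] {ι : Type*} [Fintype ι] [DecidableEq ι] (c : S)
    (B : Matrix ι ι S) :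
    (c • B).charpoly.comp (C c * X) = C c ^ (Fintype.card ι) * B.charpoly := by
  have h1 : (Polynomial.compRingHom (C c * X)).mapMatrix (Matrix.charmatrix (c • B)) =
      (C c) • Matrix.charmatrix B := by
    ext i j
    rw [RingHom.mapMatrix_apply, Matrix.map_apply, Matrix.smul_apply, coe_compRingHom_apply]
    by_cases hij : i = j
    · subst hij
      rw [Matrix.charmatrix_apply_eq, Matrix.charmatrix_apply_eq, Matrix.smul_apply, sub_comp,
        X_comp, C_comp, smul_eq_mul, smul_eq_mul, C_mul]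
      ring_nf
    · rw [Matrix.charmatrix_apply_ne _ _ _ hij, Matrix.charmatrix_apply_ne _ _ _ hij,
        Matrix.smul_apply, neg_comp, C_comp, smul_eq_mul, smul_eq_mul, C_mul]
      ring_nf
  unfold Matrix.charpoly
  rw [← coe_compRingHom_apply, RingHom.map_det, h1, Matrix.det_smul]

theorem L5' {S : Type*} [CommRing S] [IsDomain S] {ι : Type*} [Fintype ι] [DecidableEq ι]
    (c : S) (hc : c ≠ 0) (B : Matrix ι ι S) (k : ℕ) (hk : k ≤ Fintype.card ι) :
    c ^ (Fintype.card ι - k) ∣ (c • B).charpoly.coeff k := by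
  have h1 := congrArg (fun p => Polynomial.coeff p k) (L5 c B)
  simp only [comp_C_mul_X_coeff, ← C_pow, coeff_C_mul] at h1
  refine ⟨B.charpoly.coeff k, ?_⟩
  apply mul_right_cancel₀ (pow_ne_zero k hc)
  rw [h1, mul_right_comm, pow_sub_mul_pow c hk]


/-- Let n be a positive integer, g a natural number and f ∈ ℤ[x] a monic polynomial such that for every
prime ℓ dividing n there is a g × g matrix A_ℓ over ℤ_ℓ whose characteristic polynomial is f and
such that (A_ℓ − 1)² lies in n·M_g(ℤ_ℓ). Then for every root α of f in a field of characteristic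
zero and every square root s of n in that field, (α − 1)/s is integral over ℤ. (The published
statement is for matrices of size 2d and speaks of the eigenvalues of the A_ℓ, which are the roots
of their common characteristic polynomial f; the parity of the size plays no role.) -/
theorem result (n : ℕ) (hn : 0 < n) (g : ℕ) (f : Polynomial ℤ)
    (hf : f.Monic)
    (hA : ∀ (ℓ : ℕ) [Fact ℓ.Prime], ℓ ∣ n → ∃ A : Matrix (Fin g) (Fin g) ℤ_[ℓ],
      A.charpoly = f.map (Int.castRingHom ℤ_[ℓ]) ∧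
        ∃ B : Matrix (Fin g) (Fin g) ℤ_[ℓ], (A - 1) ^ 2 = (n : ℤ_[ℓ]) • B)
    (K : Type v) [Field K] [CharZero K] (α s : K) (hα : Polynomial.aeval α f = 0) (hs : s ^ 2 = (n : K)) :
    IsIntegral ℤ ((α - 1) / s) := by
  classical
  obtain ⟨m, Cm, hm, hC⟩ := companion f hf
  subst hm
  set h := ((Cm - 1) ^ 2).charpoly with hh
  have hmonic : h.Monic := Matrix.charpoly_monic _
  have hdeg : h.natDegree = f.natDegree := by
    rw [hh, Matrix.charpoly_natDegree_eq_dim, Fintype.card_fin]
  have hroot : Polynomial.aeval ((α - 1) ^ 2) h = 0 := by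
    have h0 := KF (Cm.map (Int.castRingHom K)) (α - 1)
    have h1 : (Cm.map (Int.castRingHom K) - 1) ^ 2 = ((Cm - 1) ^ 2).map (Int.castRingHom K) := by
      have := map_pow ((Int.castRingHom K).mapMatrix (m := Fin f.natDegree)) (Cm - 1) 2
      rw [map_sub, map_one] at this
      exact this.symm
    rw [h1, Matrix.charpoly_map, Matrix.charpoly_map, hC, Polynomial.eval_map, Polynomial.eval_map,
      Polynomial.eval_map] at h0
    have h2 : Polynomial.eval₂ (Int.castRingHom K) (1 + (α - 1)) f = 0 := by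
      rw [add_sub_cancel]
      exact hα
    rw [h2, mul_zero, zero_mul] at h0
    exact h0
  have hdvd : ∀ k, k ≤ f.natDegree → (n : ℤ) ^ (f.natDegree - k) ∣ h.coeff k := by
    intro k hk
    apply L3 _ _ n hn
    intro ℓ _ hℓ
    obtain ⟨A, hAf, B, hAB⟩ := hA ℓ hℓ
    have hgd : g = f.natDegree := by
      have := congrArg Polynomial.natDegree hAf
      rw [Matrix.charpoly_natDegree_eq_dim, Fintype.card_fin, hf.natDegree_map] at this
      exact this
    subst hgd
    have h1 : h.map (Int.castRingHom ℤ_[ℓ]) = ((n : ℤ_[ℓ]) • B).charpoly := by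
      rw [← hAB, hh, ← Matrix.charpoly_map]
      have h2 : ((Cm - 1) ^ 2).map (Int.castRingHom ℤ_[ℓ]) =
          (Cm.map (Int.castRingHom ℤ_[ℓ]) - 1) ^ 2 := by
        have := map_pow ((Int.castRingHom ℤ_[ℓ]).mapMatrix (m := Fin f.natDegree)) (Cm - 1) 2
        rw [map_sub, map_one] at this
        exact this
      rw [h2]
      apply L1c
      · rw [Matrix.charpoly_map, hC, hAf]
      · rfl
    have h3 := L5' (n : ℤ_[ℓ]) (Nat.cast_ne_zero.mpr hn.ne') B k (by rwa [Fintype.card_fin])
    rw [← h1, Polynomial.coeff_map, Fintype.card_fin] at h3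
    simpa using h3
  choose! c hc using hdvd
  set d := f.natDegree with hd
  have hn0 : (n : K) ≠ 0 := Nat.cast_ne_zero.mpr hn.ne'
  set γ := (α - 1) ^ 2 / (n : K) with hγ
  have hT : (α - 1) ^ 2 = n * γ := by
    rw [hγ]
    field_simp
  have hγint : IsIntegral ℤ γ := by
    refine ⟨X ^ d + ∑ i : Fin d, C (c i) * X ^ (i : ℕ),
      Polynomial.monic_X_pow_add (Polynomial.degree_sum_fin_lt _), ?_⟩
    have h1 := congrArg (Polynomial.aeval ((α - 1) ^ 2)) hmonic.as_sum
    rw [hroot, hdeg, hT] at h1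
    rw [Fin.sum_univ_eq_sum_range (fun i => C (c i) * X ^ i) d]
    simp only [map_add, map_sum, map_mul, map_pow, aeval_X, aeval_C, eval₂_add, eval₂_finsetSum,
      eval₂_mul, eval₂_pow, eval₂_X, eval₂_C] at h1 ⊢
    have h2 : (n : K) ^ d * (γ ^ d + ∑ i ∈ Finset.range d, (algebraMap ℤ K) (c i) * γ ^ i) = 0 := by
      rw [h1, mul_add, Finset.mul_sum, mul_pow]
      congr 1
      apply Finset.sum_congr rfl
      intro i hi
      have hi' : i ≤ d := (Finset.mem_range.mp hi).le
      rw [hc i hi', mul_pow, map_mul, map_pow, ← pow_sub_mul_pow (n : K) hi']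
      simp only [eq_intCast, Int.cast_natCast]
      ring
    exact (mul_eq_zero.mp h2).resolve_left (pow_ne_zero _ hn0)
  apply IsIntegral.of_pow (n := 2) (by norm_num)
  rw [div_pow, hs]
  exact hγint

end Groth.Agent.S18600
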