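import Groth.Statements.S1861
import Mathlib
import Groth.Agent.Lib.Helper73.DimFormula.Fiber

set_option autoImplicit false
universe u
open CategoryTheory AlgebraicGeometry
open Cyc

namespace Groth.Agent.S1861

/-- Let f : X → Y be flat, locally of finite type, of relative dimension r, y a point of Y and x a point
of X that is generic in an irreducible component of f⁻¹ of the closure of y (that is, x lies in that
closed set and has no proper generalization in it). Then f(x) = y and δX(x) = δY(y) + r. Here a pair
(X, δ) with Cyc.IsSetup plays the role of a scheme locally of finite type over a fixed base with a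
dimension function (X locally Noetherian with universally catenary local rings, δ a dimension
function), and Cyc.DeltaCompat records that the dimension function upstairs is the induced one. -/
theorem result (X Y : Scheme.{u}) (δX : X → ℤ) (δY : Y → ℤ) (hX : Cyc.IsSetup X δX) (hY : Cyc.IsSetup Y δY) (f : X ⟶ Y) [Flat f] [LocallyOfFiniteType f] (r : ℕ) (hr : Cyc.HasRelDim f r) (hδ : Cyc.DeltaCompat f δX δY) (y : Y) (x : X) (hx : f x ∈ closure ({y} : Set Y)) (hmax : ∀ x' : X, f x' ∈ closure ({y} : Set Y) → x' ⤳ x → x' = x) : f x = y ∧ δX x = δY y + r := by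
  classical
  -- step 1: `f x = y` by going down
  have hspec : y ⤳ f x := specializes_iff_mem_closure.mpr hx
  have hgen : GeneralizingMap f := Flat.generalizingMap f
  obtain ⟨x', hx'x, hfx'⟩ := hgen hspec
  have hx'eq : x' = x := hmax x' (by rw [hfx']; exact subset_closure rfl) hx'x
  have hfx : f x = y := by rw [← hx'eq]; exact hfx'
  subst hfx
  refine ⟨rfl, ?_⟩
  -- step 2: the transcendence degree is the dimension of the component of the fibre
  obtain ⟨n, hn, hδx⟩ := hδ x
  have hdim := Groth.Agent.Lib.Helper73.isDimFun_trdegNat (k := Y.residueField (f x))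
    (f.fiberToSpecResidueField (f x))
  have h1 := hdim.topologicalKrullDim_closure_singleton (f.asFiber x)
  -- maximality of the point of the fibre
  have hzmax : ∀ z' : f.fiber (f x), z' ⤳ f.asFiber x → z' = f.asFiber x := by
    intro z' hz'
    have h2 : f.fiberι (f x) z' ⤳ f.fiberι (f x) (f.asFiber x) :=
      hz'.map (f.fiberι (f x)).continuous
    rw [f.fiberι_asFiber] at h2
    have h3 : f.fiberι (f x) z' ∈ f ⁻¹' {f x} := by
      rw [← f.range_fiberι]; exact ⟨z', rfl⟩
    have h4 : f (f.fiberι (f x) z') = f x := h3
    have h5 := hmax _ (by rw [h4]; exact subset_closure rfl) h2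
    apply (f.fiberι (f x)).isEmbedding.injective
    rw [h5, f.fiberι_asFiber]
  have hcomp : closure ({f.asFiber x} : Set (f.fiber (f x))) ∈
      irreducibleComponents (f.fiber (f x)) := by
    rw [irreducibleComponents_eq_maximals_closed]
    refine ⟨⟨isClosed_closure, isIrreducible_singleton.closure⟩, ?_⟩
    intro T hT hle
    obtain ⟨t, ht⟩ := QuasiSober.sober hT.2 hT.1
    have hzt : f.asFiber x ∈ T := hle (subset_closure rfl)
    have htz : t ⤳ f.asFiber x := by
      rw [specializes_iff_mem_closure, ht.def]; exact hzt
    have := hzmax t htz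
    rw [← ht.def, this]
  have h2 := hr (f x) _ hcomp
  rw [h1] at h2
  have h3 : Groth.Agent.Lib.Helper73.trdegNat (k := Y.residueField (f x))
      (f.fiberToSpecResidueField (f x)) (f.asFiber x) = r := by exact_mod_cast h2
  have h4 := Groth.Agent.Lib.Helper73.trdegNat_fiber_eq_resTrdeg f (f x) (f.asFiber x)
  rw [f.fiberι_asFiber, h3] at h4
  have h5 : (r : Cardinal.{u}) = n := h4.trans hn
  have h6 : r = n := by exact_mod_cast h5
  rw [hδx, h6]

end Groth.Agent.S1861
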