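import Groth.Statements.S18614
import Mathlib.LinearAlgebra.Basis.VectorSpace

set_option autoImplicit false
universe u v
open LinTop

namespace Groth.Agent.S18614

theorem continuous_of_open_le_ker (k : Type u) (M : Type v) [Field k]
    [TopologicalSpace k] [DiscreteTopology k] [AddCommGroup M] [Module k M] [TopologicalSpace M]
    [IsTopologicalAddGroup M] (φ : M →ₗ[k] k) (U : Submodule k M) (hU : IsOpen (U : Set M))
    (hle : U ≤ LinearMap.ker φ) : Continuous φ := by
  rw [continuous_def]
  intro s _
  rw [isOpen_iff_mem_nhds]
  intro y hy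
  have h1 : (fun z => y + z) '' (U : Set M) ∈ nhds y := by
    have h2 : (U : Set M) ∈ nhds (0 : M) := hU.mem_nhds U.zero_mem
    have h3 := (Homeomorph.addLeft y).isOpenMap.image_mem_nhds h2
    simpa using h3
  refine Filter.mem_of_superset h1 ?_
  rintro _ ⟨u, hu, rfl⟩
  change φ (y + u) ∈ s
  have : φ u = 0 := hle hu
  rw [map_add, this, add_zero]
  exact hy

/-- Let k be a field carrying the discrete topology and M a separated topological k-module with a
k-linear topology (the open k-submodules form a basis of neighbourhoods of zero and M is a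
topological additive group). For a closed submodule M₁, the perpendicular of the perpendicular of
M₁, both taken with respect to the pairing of M with its continuous dual (the continuous k-linear
maps M → k), is M₁ itself: an element killed by every continuous functional vanishing on M₁ belongs
to M₁. -/
theorem result (k : Type u) (M : Type v) [Field k]
    [TopologicalSpace k] [DiscreteTopology k] [AddCommGroup M] [Module k M] [TopologicalSpace M]
    [IsTopologicalAddGroup M] [IsLinearTopology k M] [T2Space M]
    (M₁ : Submodule k M) (hM₁ : IsClosed (M₁ : Set M)) (x : M)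
    (hx : ∀ φ : M →L[k] k, (∀ m ∈ M₁, φ m = 0) → φ x = 0) : x ∈ M₁ := by
  by_contra hxM
  have h1 : (M₁ : Set M)ᶜ ∈ nhds x := hM₁.isOpen_compl.mem_nhds hxM
  have h2 : {u : M | x + u ∈ (M₁ : Set M)ᶜ} ∈ nhds (0 : M) := by
    have hc : ContinuousAt (fun u : M => x + u) 0 := (continuous_const.add continuous_id).continuousAt
    apply hc
    simpa using h1
  obtain ⟨U, hUo, hU⟩ := (IsLinearTopology.hasBasis_open_submodule k).mem_iff.mp h2
  have hxW : x ∉ M₁ ⊔ U := by
    intro h
    obtain ⟨m, hm, u, hu, hmu⟩ := Submodule.mem_sup.mp h
    have h3 := hU (U.neg_mem hu)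
    apply h3
    change x + -u ∈ M₁
    rw [← hmu]
    simpa using hm
  obtain ⟨φ, hφx, hφW⟩ := Submodule.exists_le_ker_of_notMem hxW
  have hcont : Continuous φ := continuous_of_open_le_ker k M φ U hUo (le_trans le_sup_right hφW)
  exact hφx (hx ⟨φ, hcont⟩ (fun m hm => hφW (Submodule.mem_sup_left hm)))

end Groth.Agent.S18614
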