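import Groth.Statements.S18615
import Groth.Agent.S18614
import Mathlib.LinearAlgebra.Dual.Lemmas

set_option autoImplicit false
universe u v
open LinTop

namespace Groth.Agent.S18615

/-- Let k be a field carrying the discrete topology and M a separated topological k-module with a
k-linear topology (open k-submodules form a basis of neighbourhoods of zero, M a topological
additive group). For closed submodules M₁ ⊆ M₂ there is a short exact sequence 0 → M₂^⊥ → M₁^⊥ →
(M₂/M₁)^* → 0 of plain k-modules, where ⊥ denotes the annihilator in the continuous dual of M and *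
the continuous dual. Stated here as its one non-formal part, surjectivity on the right: every
continuous functional on M₂ (subspace topology) that vanishes on M₁ is the restriction of a
continuous functional on M vanishing on M₁ (continuous functionals on M₂/M₁ being the continuous
functionals on M₂ that kill M₁). -/
theorem result (k : Type u) (M : Type v) [Field k]
    [TopologicalSpace k] [DiscreteTopology k] [AddCommGroup M] [Module k M] [TopologicalSpace M]
    [IsTopologicalAddGroup M] [IsLinearTopology k M] [T2Space M]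
    (M₁ M₂ : Submodule k M) (h₁₂ : M₁ ≤ M₂) (hM₁ : IsClosed (M₁ : Set M))
    (hM₂ : IsClosed (M₂ : Set M)) (ψ : M₂ →L[k] k)
    (hψ : ∀ m : M₂, (m : M) ∈ M₁ → ψ m = 0) :
    ∃ φ : M →L[k] k, (∀ m ∈ M₁, φ m = 0) ∧ ∀ m : M₂, φ (m : M) = ψ m := by
  have hker : IsOpen (ψ ⁻¹' {0}) := (isOpen_discrete {0}).preimage ψ.continuous
  have h0 : ψ ⁻¹' {0} ∈ nhds (0 : M₂) := hker.mem_nhds (by simp)
  rw [nhds_subtype_eq_comap] at h0
  obtain ⟨V, hV, hVsub⟩ := Filter.mem_comap.mp h0
  obtain ⟨U, hUo, hUV⟩ := (IsLinearTopology.hasBasis_open_submodule k).mem_iff.mp hV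
  have hψU : ∀ m : M₂, (m : M) ∈ U → ψ m = 0 := fun m hm => hVsub (hUV hm)
  let j : M₂ →ₗ[k] M ⧸ U := U.mkQ ∘ₗ M₂.subtype
  have hmem : (ψ : M₂ →ₗ[k] k) ∈ (LinearMap.ker j).dualAnnihilator := by
    rw [Submodule.mem_dualAnnihilator]
    intro m hm
    apply hψU
    have : U.mkQ (m : M) = 0 := hm
    rwa [Submodule.mkQ_apply, Submodule.Quotient.mk_eq_zero] at this
  rw [← LinearMap.range_dualMap_eq_dualAnnihilator_ker] at hmem
  obtain ⟨φbar, hφbar⟩ := hmem
  let φ : M →ₗ[k] k := φbar ∘ₗ U.mkQ
  have hcont : Continuous φ := by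
    refine Groth.Agent.S18614.continuous_of_open_le_ker k M φ U hUo ?_
    intro u hu
    rw [LinearMap.mem_ker]
    change φbar (U.mkQ u) = 0
    rw [Submodule.mkQ_apply, (Submodule.Quotient.mk_eq_zero U).mpr hu, map_zero]
  have hφψ : ∀ m : M₂, φ (m : M) = ψ m := fun m => LinearMap.congr_fun hφbar m
  refine ⟨⟨φ, hcont⟩, ?_, hφψ⟩
  intro m hm
  have h1 := hφψ ⟨m, h₁₂ hm⟩
  have h2 := hψ ⟨m, h₁₂ hm⟩ hm
  change φ m = 0
  rw [← h2, ← h1]

end Groth.Agent.S18615
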