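import Groth.Statements.S18616
-- import your own Groth.Agent.* helpers here
import Mathlib.LinearAlgebra.ExteriorPower.Basis
import Mathlib.LinearAlgebra.Alternating.Uncurry.Fin
import Mathlib.Tactic.Ring
import Mathlib.Tactic.Linarith
import Mathlib.Tactic.FieldSimp

set_option autoImplicit false
universe u
open DeRham

namespace Groth.Agent.S18616

open exteriorPower

section Euler

variable {k : Type u} [Field k] {σ : Type u}

theorem coeff_X_mul_pderiv (i : σ) (f : MvPowerSeries σ k) (α : σ →₀ ℕ) :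
    MvPowerSeries.coeff α (MvPowerSeries.X i * MvPowerSeries.pderiv k i f) =
      (α i : k) * MvPowerSeries.coeff α f := by
  classical
  rw [MvPowerSeries.X_def, MvPowerSeries.coeff_monomial_mul]
  split_ifs with h
  · have h1 : 1 ≤ α i := by
      have := h i
      simpa using this
    rw [MvPowerSeries.coeff_pderiv, tsub_add_cancel_of_le h, one_mul]
    have : ((((α - Finsupp.single i 1 : σ →₀ ℕ) i : ℕ) : k)) + 1 = (α i : k) := by
      rw [Finsupp.tsub_apply, Finsupp.single_eq_same]
      have h2 : α i - 1 + 1 = α i := Nat.sub_add_cancel h1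
      have h3 := congrArg (Nat.cast (R := k)) h2
      rw [Nat.cast_add, Nat.cast_one] at h3
      exact h3
    rw [this, mul_comm]
  · have : α i = 0 := by
      by_contra hne
      apply h
      intro j
      by_cases hj : j = i
      · subst hj
        simp only [Finsupp.single_eq_same]
        omega
      · rw [Finsupp.single_eq_of_ne hj]
        exact Nat.zero_le _
    simp [this]

end Euler

section Forms

variable (k : Type u) [Field k] (σ : Type u) [Fintype σ]

noncomputable def Eul (f : MvPowerSeries σ k) : MvPowerSeries σ k :=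
  ∑ i, MvPowerSeries.X i * MvPowerSeries.pderiv k i f

noncomputable def eps :
    (σ → MvPowerSeries σ k) →ₗ[MvPowerSeries σ k] MvPowerSeries σ k :=
  ∑ i, (MvPowerSeries.X i : MvPowerSeries σ k) •
    (LinearMap.proj i : (σ → MvPowerSeries σ k) →ₗ[MvPowerSeries σ k] MvPowerSeries σ k)

theorem eps_apply (m : σ → MvPowerSeries σ k) :
    eps k σ m = ∑ i, MvPowerSeries.X i * m i := by
  simp [eps]

noncomputable def iota (q : ℕ) :
    ↥(⋀[MvPowerSeries σ k]^(q + 1) (σ → MvPowerSeries σ k)) →ₗ[MvPowerSeries σ k]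
      ↥(⋀[MvPowerSeries σ k]^q (σ → MvPowerSeries σ k)) :=
  alternatingMapLinearEquiv (AlternatingMap.alternatizeUncurryFin
    ((eps k σ).smulRight (ιMulti (MvPowerSeries σ k) q)))

theorem iota_ιMulti (q : ℕ) (v : Fin (q + 1) → σ → MvPowerSeries σ k) :
    iota k σ q (ιMulti _ (q + 1) v) =
      ∑ j : Fin (q + 1), (-1 : ℤ) ^ (j : ℕ) •
        (eps k σ (v j) • ιMulti (MvPowerSeries σ k) q (j.removeNth v)) := by
  rw [iota, alternatingMapLinearEquiv_apply_ιMulti, AlternatingMap.alternatizeUncurryFin_apply]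
  rfl

end Forms

section Cartan

variable {k : Type u} [Field k] {σ : Type u} [Fintype σ]

theorem removeNth_succ_cons {α : Type*} {n : ℕ} (j : Fin (n + 1)) (x : α) (v : Fin (n + 1) → α) :
    (Fin.removeNth j.succ (Fin.cons x v : Fin (n + 2) → α)) = Fin.cons x (Fin.removeNth j v) := by
  funext i
  refine Fin.cases ?_ (fun i' => ?_) i
  · simp [Fin.removeNth]
  · simp [Fin.removeNth]

theorem removeNth_zero_cons {α : Type*} {n : ℕ} (x : α) (v : Fin (n + 1) → α) :
    (Fin.removeNth 0 (Fin.cons x v : Fin (n + 2) → α)) = v := by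
  funext i
  simp [Fin.removeNth]

theorem sum_cons_removeNth (p : ℕ) (v : Fin (p + 1) → σ → MvPowerSeries σ k) :
    ∑ j : Fin (p + 1), (-1 : ℤ) ^ (j : ℕ) •
      ιMulti (MvPowerSeries σ k) (p + 1) (Fin.cons (v j) (j.removeNth v)) =
      (p + 1) • ιMulti (MvPowerSeries σ k) (p + 1) v := by
  have h := congrArg (fun g => g v)
    (AlternatingMap.alternatizeUncurryFin_curryLeft (ιMulti (MvPowerSeries σ k) (p + 1)))
  simp only [AlternatingMap.alternatizeUncurryFin_apply, AlternatingMap.curryLeft_apply_apply] at h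
  exact h

theorem cartan (δ : Derivation k (MvPowerSeries σ k) (σ → MvPowerSeries σ k))
    (hδ : ∀ (f : MvPowerSeries σ k) (i : σ), δ f i = MvPowerSeries.pderiv k i f)
    (d : ∀ p : ℕ, ↥(⋀[MvPowerSeries σ k]^p (σ → MvPowerSeries σ k)) →ₗ[k]
      ↥(⋀[MvPowerSeries σ k]^(p + 1) (σ → MvPowerSeries σ k)))
    (hd : DeRham.IsDiff δ d) (p : ℕ) (f : MvPowerSeries σ k) (b : Fin (p + 1) → MvPowerSeries σ k)
    (hb : ∀ j, Eul k σ (b j) = b j) :
    d p (iota k σ p (DeRham.gen δ (p + 1) f b)) +
      iota k σ (p + 1) (d (p + 1) (DeRham.gen δ (p + 1) f b)) =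
      (Eul k σ f + (p + 1) • f) • ιMulti (MvPowerSeries σ k) (p + 1) (fun j => δ (b j)) := by
  have hE : ∀ g, eps k σ (δ g) = Eul k σ g := by
    intro g
    rw [eps_apply, Eul]
    simp only [hδ]
  set v : Fin (p + 1) → σ → MvPowerSeries σ k := fun j => δ (b j) with hv
  have h1 : iota k σ p (DeRham.gen δ (p + 1) f b) =
      ∑ j : Fin (p + 1), (-1 : ℤ) ^ (j : ℕ) • DeRham.gen δ p (f * b j) (j.removeNth b) := by
    unfold DeRham.gen
    rw [map_smul, iota_ιMulti, Finset.smul_sum]
    refine Finset.sum_congr rfl (fun j _ => ?_)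
    rw [hE, hb, smul_comm f, smul_smul]
    rfl
  have h2 : d p (iota k σ p (DeRham.gen δ (p + 1) f b)) =
      ∑ j : Fin (p + 1), (-1 : ℤ) ^ (j : ℕ) •
        (f • ιMulti (MvPowerSeries σ k) (p + 1) (Fin.cons (v j) (j.removeNth v)) +
          b j • ιMulti (MvPowerSeries σ k) (p + 1) (Fin.cons (δ f) (j.removeNth v))) := by
    rw [h1, map_sum]
    refine Finset.sum_congr rfl (fun j _ => ?_)
    rw [map_zsmul, hd.1 p, Derivation.leibniz]
    congr 1
    have e1 := (ιMulti (MvPowerSeries σ k) (p + 1)).toMultilinearMap.cons_add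
      (j.removeNth v) (f • δ (b j)) (b j • δ f)
    have e2 := (ιMulti (MvPowerSeries σ k) (p + 1)).toMultilinearMap.cons_smul
      (j.removeNth v) f (δ (b j))
    have e3 := (ιMulti (MvPowerSeries σ k) (p + 1)).toMultilinearMap.cons_smul
      (j.removeNth v) (b j) (δ f)
    simp only [AlternatingMap.coe_multilinearMap] at e1 e2 e3
    rw [← e2, ← e3, ← e1]
    rfl
  have h3 : d (p + 1) (DeRham.gen δ (p + 1) f b) =
      ιMulti (MvPowerSeries σ k) (p + 2) (Fin.cons (δ f) v) := hd.1 (p + 1) f b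
  have h4 : iota k σ (p + 1) (ιMulti (MvPowerSeries σ k) (p + 2) (Fin.cons (δ f) v)) =
      Eul k σ f • ιMulti (MvPowerSeries σ k) (p + 1) v +
        ∑ j : Fin (p + 1), (-1 : ℤ) ^ ((j : ℕ) + 1) •
          (b j • ιMulti (MvPowerSeries σ k) (p + 1) (Fin.cons (δ f) (j.removeNth v))) := by
    rw [iota_ιMulti, Fin.sum_univ_succ]
    congr 1
    · simp only [Fin.val_zero, pow_zero, one_smul, Fin.cons_zero, hE, removeNth_zero_cons]
    · refine Finset.sum_congr rfl (fun j _ => ?_)
      simp only [Fin.val_succ, Fin.cons_succ, removeNth_succ_cons, hv, hE, hb]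
  have h5 : ∑ j : Fin (p + 1), (-1 : ℤ) ^ (j : ℕ) •
      (f • ιMulti (MvPowerSeries σ k) (p + 1) (Fin.cons (v j) (j.removeNth v))) =
      ((p + 1) • f) • ιMulti (MvPowerSeries σ k) (p + 1) v := by
    have := sum_cons_removeNth p v
    rw [smul_assoc, smul_comm (p + 1) f, ← this, Finset.smul_sum]
    refine Finset.sum_congr rfl (fun j _ => ?_)
    rw [smul_comm]
  have h6 : ∑ j : Fin (p + 1), (-1 : ℤ) ^ (j : ℕ) •
      (b j • ιMulti (MvPowerSeries σ k) (p + 1) (Fin.cons (δ f) (j.removeNth v))) +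
      ∑ j : Fin (p + 1), (-1 : ℤ) ^ ((j : ℕ) + 1) •
          (b j • ιMulti (MvPowerSeries σ k) (p + 1) (Fin.cons (δ f) (j.removeNth v))) = 0 := by
    rw [← Finset.sum_add_distrib]
    refine Finset.sum_eq_zero (fun j _ => ?_)
    rw [pow_succ, mul_neg_one, neg_smul, add_neg_cancel]
  rw [h2, h3, h4]
  simp only [smul_add, Finset.sum_add_distrib]
  rw [h5, add_smul (Eul k σ f)]
  have h7 : ∀ (x y z w : ↥(⋀[MvPowerSeries σ k]^(p + 1) (σ → MvPowerSeries σ k))),
      y + w = 0 → (x + y) + (z + w) = z + x := by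
    intro x y z w h
    calc (x + y) + (z + w) = (z + x) + (y + w) := by abel
      _ = _ := by rw [h, add_zero]
  exact h7 _ _ _ _ h6

end Cartan

section EulerOp

variable {k : Type u} [Field k] {σ : Type u} [Fintype σ]

theorem coeff_Eul (f : MvPowerSeries σ k) (α : σ →₀ ℕ) :
    MvPowerSeries.coeff α (Eul k σ f) = ((∑ i, α i : ℕ) : k) * MvPowerSeries.coeff α f := by
  rw [Eul, map_sum]
  simp only [coeff_X_mul_pderiv]
  rw [← Finset.sum_mul]
  push_cast
  rfl

theorem coeff_L (c : ℕ) (f : MvPowerSeries σ k) (α : σ →₀ ℕ) :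
    MvPowerSeries.coeff α (Eul k σ f + c • f) =
      (((∑ i, α i : ℕ) : k) + c) * MvPowerSeries.coeff α f := by
  rw [map_add, coeff_Eul, map_nsmul, nsmul_eq_mul]
  ring

noncomputable def Tc (c : ℕ) (f : MvPowerSeries σ k) : MvPowerSeries σ k :=
  fun α => MvPowerSeries.coeff α f / (((∑ i, α i : ℕ) : k) + c)

theorem coeff_Tc (c : ℕ) (f : MvPowerSeries σ k) (α : σ →₀ ℕ) :
    MvPowerSeries.coeff α (Tc c f) = MvPowerSeries.coeff α f / (((∑ i, α i : ℕ) : k) + c) := rfl

theorem cast_ne_zero [CharZero k] (c : ℕ) (hc : 0 < c) (α : σ →₀ ℕ) :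
    (((∑ i, α i : ℕ) : k) + c) ≠ 0 := by
  have h : ((∑ i, α i) + c : ℕ) ≠ 0 := by omega
  have h2 : (((∑ i, α i) + c : ℕ) : k) ≠ 0 := Nat.cast_ne_zero.mpr h
  rwa [Nat.cast_add] at h2

theorem L_Tc [CharZero k] (c : ℕ) (hc : 0 < c) (f : MvPowerSeries σ k) :
    Eul k σ (Tc c f) + c • Tc c f = f := by
  ext α
  rw [coeff_L, coeff_Tc]
  have := cast_ne_zero (k := k) c hc α
  field_simp

theorem L_inj [CharZero k] (c : ℕ) (hc : 0 < c) (g : MvPowerSeries σ k)
    (h : Eul k σ g + c • g = 0) : g = 0 := by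
  ext α
  have h1 := congrArg (MvPowerSeries.coeff α) h
  rw [coeff_L, map_zero] at h1
  rcases mul_eq_zero.mp h1 with h2 | h2
  · exact absurd h2 (cast_ne_zero (k := k) c hc α)
  · rw [h2, map_zero]

theorem Eul_X [DecidableEq σ] (i : σ) : Eul k σ (MvPowerSeries.X i) = MvPowerSeries.X i := by
  rw [Eul]
  simp only [MvPowerSeries.pderiv_X, Pi.single_apply]
  simp

end EulerOp

section Main

variable {k : Type u} [Field k] [CharZero k] {σ : Type u} [Fintype σ] [LinearOrder σ]

noncomputable def Bq (k : Type u) [Field k] (σ : Type u) [Fintype σ] [LinearOrder σ] (q : ℕ) :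
    Module.Basis (Set.powersetCard σ q) (MvPowerSeries σ k)
      ↥(⋀[MvPowerSeries σ k]^q (σ → MvPowerSeries σ k)) :=
  (Pi.basisFun (MvPowerSeries σ k) σ).exteriorPower q

omit [CharZero k] in
theorem smul_Bq (δ : Derivation k (MvPowerSeries σ k) (σ → MvPowerSeries σ k))
    (hδ : ∀ (f : MvPowerSeries σ k) (i : σ), δ f i = MvPowerSeries.pderiv k i f)
    (q : ℕ) (s : Set.powersetCard σ q) (f : MvPowerSeries σ k) :
    f • Bq k σ q s =
      DeRham.gen δ q f (fun j => MvPowerSeries.X (Set.powersetCard.ofFinEmbEquiv.symm s j)) := by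
  unfold DeRham.gen
  congr 1
  rw [Bq, basis_apply, ιMulti_family]
  congr 1
  funext j
  funext i'
  rw [hδ, MvPowerSeries.pderiv_X]
  simp only [Function.comp_apply, Pi.basisFun_apply, Pi.single_apply]
  simp only [eq_comm]

omit [CharZero k] in
theorem L_basis (δ : Derivation k (MvPowerSeries σ k) (σ → MvPowerSeries σ k))
    (hδ : ∀ (f : MvPowerSeries σ k) (i : σ), δ f i = MvPowerSeries.pderiv k i f)
    (d : ∀ p : ℕ, ↥(⋀[MvPowerSeries σ k]^p (σ → MvPowerSeries σ k)) →ₗ[k]
      ↥(⋀[MvPowerSeries σ k]^(p + 1) (σ → MvPowerSeries σ k)))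
    (hd : DeRham.IsDiff δ d) (p : ℕ) (s : Set.powersetCard σ (p + 1)) (f : MvPowerSeries σ k) :
    d p (iota k σ p (f • Bq k σ (p + 1) s)) +
      iota k σ (p + 1) (d (p + 1) (f • Bq k σ (p + 1) s)) =
      (Eul k σ f + (p + 1) • f) • Bq k σ (p + 1) s := by
  rw [smul_Bq δ hδ (p + 1) s f, cartan δ hδ d hd p f _ (fun j => Eul_X _)]
  rw [smul_Bq δ hδ (p + 1) s]
  rfl

theorem main (δ : Derivation k (MvPowerSeries σ k) (σ → MvPowerSeries σ k))
    (hδ : ∀ (f : MvPowerSeries σ k) (i : σ), δ f i = MvPowerSeries.pderiv k i f)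
    (d : ∀ p : ℕ, ↥(⋀[MvPowerSeries σ k]^p (σ → MvPowerSeries σ k)) →ₗ[k]
      ↥(⋀[MvPowerSeries σ k]^(p + 1) (σ → MvPowerSeries σ k)))
    (hd : DeRham.IsDiff δ d) (p : ℕ) :
    DeRham.cocycles d (p + 1) ≤ DeRham.coboundaries d (p + 1) := by
  intro ω hω
  have hω' : d (p + 1) ω = 0 := hω
  show ω ∈ LinearMap.range (d p)
  set η : ↥(⋀[MvPowerSeries σ k]^(p + 1) (σ → MvPowerSeries σ k)) :=
    ∑ s, Tc (p + 1) ((Bq k σ (p + 1)).repr ω s) • Bq k σ (p + 1) s with hη
  have hLη : d p (iota k σ p η) + iota k σ (p + 1) (d (p + 1) η) = ω := by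
    rw [hη]
    simp only [map_sum]
    rw [← Finset.sum_add_distrib]
    conv_rhs => rw [← (Bq k σ (p + 1)).sum_repr ω]
    refine Finset.sum_congr rfl (fun s _ => ?_)
    rw [L_basis δ hδ d hd, L_Tc (p + 1) (by omega)]
  have hdη : d (p + 1) η = 0 := by
    set ζ := d (p + 1) η with hζ
    have hLζ : d (p + 1) (iota k σ (p + 1) ζ) + iota k σ (p + 2) (d (p + 2) ζ) = 0 := by
      have h1 : d (p + 2) ζ = 0 := LinearMap.congr_fun (hd.2 (p + 1)) η
      rw [h1, map_zero, add_zero]
      have h2 : iota k σ (p + 1) ζ = ω - d p (iota k σ p η) := by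
        rw [← hLη]
        abel
      have h3 : d (p + 1) (d p (iota k σ p η)) = 0 := LinearMap.congr_fun (hd.2 p) _
      rw [h2, map_sub, hω', h3, sub_zero]
    have hexp : ∑ t, (Eul k σ ((Bq k σ (p + 2)).repr ζ t) + (p + 2) • (Bq k σ (p + 2)).repr ζ t) •
        Bq k σ (p + 2) t = 0 := by
      rw [← hLζ]
      conv_rhs => rw [← (Bq k σ (p + 2)).sum_repr ζ]
      simp only [map_sum]
      rw [← Finset.sum_add_distrib]
      refine Finset.sum_congr rfl (fun t _ => ?_)
      rw [L_basis δ hδ d hd (p + 1)]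
    have hcoef : ∀ t, Eul k σ ((Bq k σ (p + 2)).repr ζ t) +
        (p + 2) • (Bq k σ (p + 2)).repr ζ t = 0 :=
      fun t => Fintype.linearIndependent_iff.mp (Bq k σ (p + 2)).linearIndependent _ hexp t
    have hz : ∀ t, (Bq k σ (p + 2)).repr ζ t = 0 :=
      fun t => L_inj (p + 2) (by omega) _ (hcoef t)
    rw [← (Bq k σ (p + 2)).sum_repr ζ]
    simp [hz]
  rw [hdη, map_zero, add_zero] at hLη
  exact ⟨iota k σ p η, hLη⟩

end Main


open exteriorPower in
/-- The formal Poincaré lemma. The published statement is that for a complete separated linearly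
topologized commutative algebra K over a field k of characteristic zero the inclusion of the
separated de Rham complex of K into that of K[[t_1, ..., t_n]] is a quasi-isomorphism; this row is
the case K = k in positive degrees. Concretely: k is a field of characteristic 0, σ is finite, A =
k[[σ]]; the separated differentials are modelled by the free A-module of functions σ → A (the
coordinate dt_i being the i-th basis vector) with the derivation δ whose components are the formal
partial derivatives, so that δ(A) generates it; d is any family of k-linear maps between consecutive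
exterior powers of this module over A satisfying the de Rham rule with d ∘ d = 0. Then for every p ≥
1 the closed p-forms are exact. (Degree zero, that a power series with all partial derivatives zero
is constant, is omitted.) -/
theorem result (k : Type u) [Field k] [CharZero k]
    (σ : Type u) [Finite σ]
    (δ : Derivation k (MvPowerSeries σ k) (σ → MvPowerSeries σ k))
    (hδ : ∀ (f : MvPowerSeries σ k) (i : σ), δ f i = MvPowerSeries.pderiv k i f)
    (hgen : Submodule.span (MvPowerSeries σ k) (Set.range δ) = ⊤)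
    (d : ∀ p : ℕ, ↥(⋀[MvPowerSeries σ k]^p (σ → MvPowerSeries σ k)) →ₗ[k]
      ↥(⋀[MvPowerSeries σ k]^(p + 1) (σ → MvPowerSeries σ k)))
    (hd : DeRham.IsDiff δ d) (p : ℕ) :
    DeRham.cocycles d (p + 1) ≤ DeRham.coboundaries d (p + 1) := by
  classical
  letI : Fintype σ := Fintype.ofFinite σ
  letI : LinearOrder σ := linearOrderOfSTO WellOrderingRel
  exact main δ hδ d hd p

end Groth.Agent.S18616
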