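import Groth.Statements.S18617
-- import your own Groth.Agent.* helpers here
import Mathlib.Tactic.Ring
import Mathlib.Tactic.Linarith
import Mathlib.Tactic.FieldSimp

set_option autoImplicit false
universe u
open LocRes

namespace Groth.Agent.S18617

noncomputable def prim (k : Type u) [Field k] (g : LaurentSeries k) : LaurentSeries k :=
  HahnSeries.mk (fun n : ℤ => g.coeff (n - 1) / (n : k)) (by
    refine (g.isPWO_support.image_of_monotone (f := fun n : ℤ => n + 1)
      (fun a b h => by simpa using h)).mono ?_
    intro n hn
    simp only [Function.mem_support, ne_eq] at hn
    refine ⟨n - 1, ?_, by simp⟩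
    simp only [HahnSeries.mem_support, ne_eq]
    intro h0
    exact hn (by rw [h0, zero_div]))

theorem prim_coeff (k : Type u) [Field k] (g : LaurentSeries k) (n : ℤ) :
    (prim k g).coeff n = g.coeff (n - 1) / (n : k) := rfl

/-- The published statement is that, for a complete separated linearly topologized commutative algebra K
over a field of characteristic zero, the separated de Rham complex of K tensored with the exterior
algebra on symbols α_1, ..., α_n maps quasi-isomorphically to the separated de Rham complex of the
iterated Laurent series ring K((t_1, ..., t_n)), α_i going to dlog t_i; this row is the case K = k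
and n = 1, unpacked: over a field k of characteristic 0, a formal Laurent series f in k((t)) has
term-by-term derivative zero if and only if it is the constant series on its coefficient of degree
0, and a Laurent series g is the derivative of some Laurent series if and only if its residue (the
coefficient of t⁻¹) vanishes; so H⁰ of the complex k((t)) → k((t)) dt is k and H¹ is the line
spanned by the class of dt/t, on which the residue is 1. -/
theorem result (k : Type u) [Field k] [CharZero k] :
    (∀ f : LaurentSeries k, LocRes.D k f = 0 ↔ f = HahnSeries.C (f.coeff 0)) ∧
      ∀ g : LaurentSeries k, (∃ f : LaurentSeries k, LocRes.D k f = g) ↔ LocRes.res k g = 0 := by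
  refine ⟨fun f => ⟨fun h => ?_, fun h => ?_⟩, fun g => ⟨?_, fun h => ?_⟩⟩
  · ext n
    by_cases hn : n = 0
    · subst hn
      simp
    · have h1 := congrArg (fun x => HahnSeries.coeff x (n - 1)) h
      simp only [LocRes.D_coeff, HahnSeries.coeff_zero, sub_add_cancel] at h1
      rw [zsmul_eq_mul] at h1
      have h2 : ((n : ℤ) : k) ≠ 0 := by exact_mod_cast hn
      have h3 : f.coeff n = 0 := by
        rcases mul_eq_zero.mp h1 with h4 | h4
        · exact absurd h4 h2
        · exact h4
      rw [h3, HahnSeries.C_apply, HahnSeries.coeff_single_of_ne hn]
  · rw [h, LocRes.D_apply, LocRes.derivative_C]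
  · rintro ⟨f, rfl⟩
    rw [LocRes.res_apply, LocRes.D_coeff]
    simp
  · refine ⟨prim k g, ?_⟩
    ext n
    rw [LocRes.D_coeff, prim_coeff, zsmul_eq_mul]
    simp only [add_sub_cancel_right]
    by_cases hn : n + 1 = 0
    · have hn' : n = -1 := by omega
      subst hn'
      rw [LocRes.res_apply] at h
      simp [h]
    · have h2 : ((n + 1 : ℤ) : k) ≠ 0 := by exact_mod_cast hn
      field_simp

end Groth.Agent.S18617
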