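import Groth.Statements.S1862
-- import your own Groth.Agent.* helpers here
import Mathlib.FieldTheory.IntermediateField.Adjoin.Algebra
import Mathlib.AlgebraicGeometry.FunctionField
import Mathlib.RingTheory.Unramified.LocalRing

set_option autoImplicit false
universe u
open CategoryTheory AlgebraicGeometry
open Cyc

namespace Groth.Agent.S1862

theorem essFiniteType_residueField {X Y : Scheme.{u}} (f : X ⟶ Y) [LocallyOfFiniteType f] (x : X) :
    letI : Algebra (Y.residueField (f x)) (X.residueField x) :=
      (f.residueFieldMap x).hom.toAlgebra
    Algebra.EssFiniteType (Y.residueField (f x)) (X.residueField x) := by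
  algebraize [(f.stalkMap x).hom]
  have : IsLocalHom (algebraMap (Y.presheaf.stalk (f x)) (X.presheaf.stalk x)) :=
    inferInstanceAs <| IsLocalHom (f.stalkMap x).hom
  have halg : (f.residueFieldMap x).hom.toAlgebra =
      (inferInstance : Algebra (IsLocalRing.ResidueField <| Y.presheaf.stalk (f x))
        (IsLocalRing.ResidueField <| X.presheaf.stalk x)) := by
    refine Algebra.algebra_ext _ _ fun x ↦ ?_
    obtain ⟨x, rfl⟩ := IsLocalRing.residue_surjective x
    rfl
  suffices h : Algebra.EssFiniteType
      (IsLocalRing.ResidueField <| Y.presheaf.stalk (f x))
      (IsLocalRing.ResidueField <| X.presheaf.stalk x) by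
    show @Algebra.EssFiniteType _ _ _ _ (f.residueFieldMap x).hom.toAlgebra
    rw [halg]
    exact h
  have : Algebra.EssFiniteType (Y.presheaf.stalk (f x)) (X.presheaf.stalk x) := by
    rw [← RingHom.essFiniteType_algebraMap, RingHom.algebraMap_toAlgebra]
    exact LocallyOfFiniteType.stalkMap f x
  have : Algebra.EssFiniteType (Y.presheaf.stalk (f x))
      (IsLocalRing.ResidueField <| X.presheaf.stalk x) := .comp _ (X.presheaf.stalk x) _
  exact .of_comp (Y.presheaf.stalk (f x)) _ _

/-- Let f : X → Y be a morphism locally of finite type of integral schemes with δX(η_X) = δY(η_Y). Then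
either the image of f is not dense, or f maps the generic point to the generic point and the induced
extension of residue fields there (the function fields) is finite. Here a pair (X, δ) with
Cyc.IsSetup plays the role of a scheme locally of finite type over a fixed base with a dimension
function (X locally Noetherian with universally catenary local rings, δ a dimension function), and
Cyc.DeltaCompat records that the dimension function upstairs is the induced one. -/
theorem result (X Y : Scheme.{u}) [IsIntegral X] [IsIntegral Y] (δX : X → ℤ) (δY : Y → ℤ) (hX : Cyc.IsSetup X δX) (hY : Cyc.IsSetup Y δY) (f : X ⟶ Y) [LocallyOfFiniteType f] (hδ : Cyc.DeltaCompat f δX δY) (heq : δX (genericPoint X) = δY (genericPoint Y)) : ¬ Dense (Set.range f) ∨ (f (genericPoint X) = genericPoint Y ∧ (f.residueFieldMap (genericPoint X)).hom.Finite) := by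
  by_cases hd : Dense (Set.range f)
  · right
    have hgen : f (genericPoint X) = genericPoint Y := by
      have h1 : IsGenericPoint (f (genericPoint X)) (closure (f '' Set.univ)) :=
        (genericPoint_spec X).image f.continuous
      rw [Set.image_univ, hd.closure_eq] at h1
      exact h1.eq (genericPoint_spec Y)
    refine ⟨hgen, ?_⟩
    obtain ⟨n, hn, hδn⟩ := hδ (genericPoint X)
    rw [hgen, heq] at hδn
    have hn0 : n = 0 := by omega
    subst hn0
    let _ : Algebra (Y.residueField (f (genericPoint X))) (X.residueField (genericPoint X)) :=
      (f.residueFieldMap (genericPoint X)).hom.toAlgebra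
    have halg : Algebra.IsAlgebraic (Y.residueField (f (genericPoint X)))
        (X.residueField (genericPoint X)) := by
      rw [← trdeg_eq_zero_iff]
      simpa using hn
    have hess : Algebra.EssFiniteType (Y.residueField (f (genericPoint X)))
        (X.residueField (genericPoint X)) := essFiniteType_residueField f (genericPoint X)
    exact Algebra.finite_of_essFiniteType_of_isAlgebraic (F := Y.residueField (f (genericPoint X)))
      (E := X.residueField (genericPoint X))
  · exact Or.inl hd

end Groth.Agent.S1862
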