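import Mathlib
-- Template for statement S18638 (row 18637; see the milestone table for weights).
-- Copy to Groth/Agent/S18638.lean and replace the sorry. The statement below is byte-identical to the frozen
-- statement GrLC.GrothFrozen.S18638 (Groth/Statements/S18638.lean; the theorem GrLC.isGorensteinRing_iff_exists_shift_equiv_starCanonical_over_field);
-- the grader kernel-checks Groth.Agent.S18638.result against that frozen type. Keep the theorem IN THIS FILE
-- (a `result` declared elsewhere and merely imported here is not credited); helpers may live anywhere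
-- under Groth/Agent/.
import Groth.Statements.S18638
import Groth.Agent.Lib.Helper24.GorGrB
import Groth.Agent.Lib.Helper24.GorGrD
import Groth.Agent.Lib.Helper24.GorGrE
import Groth.Agent.Lib.Helper8.GrLCCompareRows
import Groth.Agent.Lib.Helper8.GrLCPieces
import Groth.Agent.Lib.Helper8.GrHeight
import Groth.Agent.S18637

set_option autoImplicit false
universe u
open GrLC

namespace Groth.Agent.S18638

/-- Let R be a graded ring defined over a field which is Cohen–Macaulay, and K_R its canonical module.
Then R is Gorenstein exactly when K_R is isomorphic to a degree shift R(a) of R for some integer a,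
that is, there is a bijective R-linear map R → K_R homogeneous of some fixed degree. Here 'graded
ring defined over a field' means R = ⊕_{n ≥ 0} R_n is Noetherian with R_0 a field (so R is finitely
generated over R_0), m = R_+ is its unique graded maximal ideal and n = dim R; the canonical module
K_R (the graded dual of H^n_m(R)) is represented by a finitely generated graded module C together
with a homogeneous isomorphism from Hom_R(C, E) onto H^n_m(R), where E is a *injective envelope of
R/m and H^n_m(R) is computed from a *injective resolution of R in the graded category; by graded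
Matlis duality this says exactly that C ≅ K_R as graded modules. -/
theorem result (R : Type u) [CommRing R] [LocCoh.IsCohenMacaulayRing R] (𝒜 : ℤ → AddSubgroup R) [GradedRing 𝒜] (hpos : ∀ n : ℤ, n < 0 → 𝒜 n = ⊥) (h0 : IsField (GrLC.deg0 𝒜)) (m : HomogeneousIdeal 𝒜) (hm : GrLC.IsStarLocal 𝒜 m) (hmsp : m.toIdeal = Ideal.span (⋃ n ∈ Set.Ioi (0 : ℤ), (𝒜 n : Set R))) (n : ℕ) (hn : ringKrullDim R = n) (I : GrLC.StarInjRes 𝒜 𝒜) (E' : Type u) [AddCommGroup E'] [Module R E'] (𝓔 : ℤ → AddSubgroup E') [DirectSum.Decomposition 𝓔] [SetLike.GradedSMul 𝒜 𝓔] (e : (R ⧸ m.toIdeal) →ₗ[R] E') (he : GrLC.IsStarInjHull 𝒜 (GrLC.quotGr 𝒜 m) 𝓔 e) (C : Type u) [AddCommGroup C] [Module R C] (𝒞 : ℤ → AddSubgroup C) [DirectSum.Decomposition 𝒞] [SetLike.GradedSMul 𝒜 𝒞] (hC : GrLC.IsStarCanonical 𝒜 𝒞 𝓔 m n I) : LocCoh.IsGorensteinRing R ↔ ∃ (a : ℤ) (f : R →ₗ[R] C), Function.Bijective f ∧ GrLC.IsGrHomDeg 𝒜 𝒞 f a := by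
  classical
  haveI : IsNoetherianRing R := inferInstance
  haveI hmax : m.toIdeal.IsMaximal :=
    Groth.Agent.Lib.Helper8.GrLCPieces.isMaximal_of_isStarLocal hpos m hm
  have hnA : ringKrullDim (Localization.AtPrime m.toIdeal) = n := by
    rw [IsLocalization.AtPrime.ringKrullDim_eq_height m.toIdeal (Localization.AtPrime m.toIdeal),
      ← Groth.Agent.Lib.Helper8.GrHeight.ringKrullDim_eq_height 𝒜 m hm, hn]
  have heU : InjHull.IsInjectiveHull e := Groth.Agent.S18637.result R 𝒜 m E' 𝓔 e he
  obtain ⟨c⟩ := Groth.Agent.Lib.Helper8.GrLCCompareRows.compare m I n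
  obtain ⟨hfin, φ, -⟩ := hC
  haveI := hfin
  constructor
  · intro hG
    haveI : LocCoh.IsGorensteinLocalRing (Localization.AtPrime m.toIdeal) :=
      LocCoh.IsGorensteinRing.isGorensteinLocalRing_localization m.toIdeal
    have hinjH := Groth.Agent.Lib.Helper24.GorGrD.H_injective_of_gor m.toIdeal n hnA
    obtain ⟨h₀, hh₀, hh₀m, hcyc⟩ :=
      Groth.Agent.Lib.Helper24.GorGrD.exists_socle_generator_of_gor m.toIdeal n hnA
    let κ : (C →ₗ[R] E') ≃ₗ[R] LocCoh.H m.toIdeal n R := φ ≪≫ₗ c
    haveI : Module.Injective R (C →ₗ[R] E') :=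
      (Module.Baer.of_equiv κ.symm (Module.Baer.of_injective hinjH)).injective
    refine Groth.Agent.Lib.Helper24.GorGrE.exists_bijective_of_socle 𝒜 m hm e heU 𝒞
      (κ.symm h₀) ?_ ?_ ?_
    · intro h
      apply hh₀
      have := congrArg κ h
      rwa [LinearEquiv.apply_symm_apply, map_zero] at this
    · intro r hr
      rw [← map_smul, hh₀m r hr, map_zero]
    · intro g hg
      obtain ⟨r, hr⟩ := hcyc (κ g) (fun r hr => by rw [← map_smul, hg r hr, map_zero])
      refine ⟨r, ?_⟩
      apply κ.injective
      rw [map_smul, LinearEquiv.apply_symm_apply, hr]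
  · rintro ⟨a, f, hf, -⟩
    let fe : R ≃ₗ[R] C := LinearEquiv.ofBijective f hf
    let κ : (C →ₗ[R] E') ≃ₗ[R] E' :=
      (LinearEquiv.congrLeft E' R fe.symm) ≪≫ₗ LinearMap.ringLmapEquivSelf R R E'
    let θ : E' ≃ₗ[R] LocCoh.H m.toIdeal n R := κ.symm ≪≫ₗ φ ≪≫ₗ c
    have hinjH : Module.Injective R (LocCoh.H m.toIdeal n R) :=
      (Module.Baer.of_equiv θ (Module.Baer.of_injective heU.isInjective)).injective
    haveI : LocCoh.IsCohenMacaulayLocalRing (Localization.AtPrime m.toIdeal) :=
      LocCoh.IsCohenMacaulayRing.isCohenMacaulayLocalRing_localization m.toIdeal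
    haveI : LocCoh.IsGorensteinLocalRing (Localization.AtPrime m.toIdeal) :=
      Groth.Agent.Lib.Helper24.GorGrD.gor_of_H_injective m.toIdeal n hnA hinjH
    exact Groth.Agent.Lib.Helper24.GorGrB.gorRing_of_starLocal 𝒜 m hm

end Groth.Agent.S18638
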