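import Mathlib
import Groth.Statements.S18639
import Groth.Agent.Lib.Helper24.CanonInjDim
import Groth.Agent.Lib.Helper84.S18639L4
import Groth.Agent.Lib.Helper24.GrInjLocF
import Groth.Agent.Lib.Helper85.CanonInj
import Groth.Agent.Lib.Helper85.HullExist
import Groth.Agent.Lib.Helper85.DepthLC
import Groth.Agent.Lib.Helper8.GrLCCompareRows
import Groth.Agent.Lib.Helper8.GrHeight

set_option autoImplicit false
universe u
open GrLC

namespace Groth.Agent.S18639

/-- Let R be a graded ring defined over a field which is Cohen–Macaulay, with graded maximal ideal m and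
canonical module K_R. Then (i) K_R is a Cohen–Macaulay R-module — stated here at m: the localisation
of K_R at m is a Cohen–Macaulay module over R_m, which is what the published proof computes (the Ext
groups of the residue field into K_R vanish outside degree n = dim R) — and (ii) K_R has finite
injective dimension as an R-module. Here 'graded ring defined over a field' means R = ⊕_{n ≥ 0} R_n
is Noetherian with R_0 a field (so R is finitely generated over R_0), m = R_+ is its unique graded
maximal ideal and n = dim R; the canonical module K_R (the graded dual of H^n_m(R)) is represented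
by a finitely generated graded module C together with a homogeneous isomorphism from Hom_R(C, E)
onto H^n_m(R), where E is a *injective envelope of R/m and H^n_m(R) is computed from a *injective
resolution of R in the graded category; by graded Matlis duality this says exactly that C ≅ K_R as
graded modules. -/
theorem result (R : Type u) [CommRing R] [LocCoh.IsCohenMacaulayRing R] (𝒜 : ℤ → AddSubgroup R) [GradedRing 𝒜] (hpos : ∀ n : ℤ, n < 0 → 𝒜 n = ⊥) (h0 : IsField (GrLC.deg0 𝒜)) (m : HomogeneousIdeal 𝒜) (hm : GrLC.IsStarLocal 𝒜 m) (hmsp : m.toIdeal = Ideal.span (⋃ n ∈ Set.Ioi (0 : ℤ), (𝒜 n : Set R))) [m.toIdeal.IsMaximal] (n : ℕ) (hn : ringKrullDim R = n) (I : GrLC.StarInjRes 𝒜 𝒜) (E' : Type u) [AddCommGroup E'] [Module R E'] (𝓔 : ℤ → AddSubgroup E') [DirectSum.Decomposition 𝓔] [SetLike.GradedSMul 𝒜 𝓔] (e : (R ⧸ m.toIdeal) →ₗ[R] E') (he : GrLC.IsStarInjHull 𝒜 (GrLC.quotGr 𝒜 m) 𝓔 e) (C : Type u) [AddCommGroup C] [Module R C] (𝒞 : ℤ → AddSubgroup C) [DirectSum.Decomposition 𝒞] [SetLike.GradedSMul 𝒜 𝒞] (hC : GrLC.IsStarCanonical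 𝒜 𝒞 𝓔 m n I) : LocCoh.IsCohenMacaulayModule (Localization.AtPrime m.toIdeal) (LocalizedModule m.toIdeal.primeCompl C) ∧ ∃ N : ℕ, CategoryTheory.HasInjectiveDimensionLT (ModuleCat.of R C) N := by
  classical
  haveI : IsNoetherianRing R := inferInstance
  haveI hp : m.toIdeal.IsPrime := Ideal.IsMaximal.isPrime inferInstance
  have hnA : ringKrullDim (Localization.AtPrime m.toIdeal) = n := by
    rw [IsLocalization.AtPrime.ringKrullDim_eq_height m.toIdeal (Localization.AtPrime m.toIdeal),
      ← Groth.Agent.Lib.Helper8.GrHeight.ringKrullDim_eq_height 𝒜 m hm, hn]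
  obtain ⟨hfin, φ, -⟩ := hC
  haveI := hfin
  haveI : LocCoh.IsCohenMacaulayLocalRing (Localization.AtPrime m.toIdeal) :=
    LocCoh.IsCohenMacaulayRing.isCohenMacaulayLocalRing_localization m.toIdeal
  have hdepth : LocCoh.depth (Localization.AtPrime m.toIdeal) (Localization.AtPrime m.toIdeal) =
      n := by
    have h := LocCoh.IsCohenMacaulayLocalRing.supportDim_eq_depth
      (R := Localization.AtPrime m.toIdeal)
    rw [Module.supportDim_self_eq_ringKrullDim, hnA] at h
    have h' : ((n : ℕ∞) : WithBot ℕ∞) =
        ((LocCoh.depth (Localization.AtPrime m.toIdeal) (Localization.AtPrime m.toIdeal) : ℕ∞) :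
          WithBot ℕ∞) := by
      exact_mod_cast h
    exact (WithBot.coe_injective h').symm
  have hvan : ∀ i < n, Subsingleton (LocCoh.H
      (IsLocalRing.maximalIdeal (Localization.AtPrime m.toIdeal)) i
      (Localization.AtPrime m.toIdeal)) := fun i hi =>
    (Groth.Agent.Lib.Helper85.FLCrit.le_depth_iff (Localization.AtPrime m.toIdeal)
      (Localization.AtPrime m.toIdeal) n).mp (le_of_eq hdepth.symm) i hi
  obtain ⟨E₀, _, _, f, hf⟩ := Groth.Agent.Lib.Helper85.Hull.exists_injectiveHull
    (R := Localization.AtPrime m.toIdeal)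
    (IsLocalRing.ResidueField (Localization.AtPrime m.toIdeal))
  obtain ⟨eK⟩ := Groth.Agent.Lib.Helper24.GrInjLocF.canonical_localization 𝒜 m 𝓔 e he n I φ hf
  have hcd : LocCoh.CdLE (Localization.AtPrime m.toIdeal)
      (IsLocalRing.maximalIdeal (Localization.AtPrime m.toIdeal)) n :=
    Groth.Agent.Lib.Helper92.LC.cdLE_of_ringKrullDim_le
      (IsLocalRing.maximalIdeal (Localization.AtPrime m.toIdeal)) n (le_of_eq hnA)
  haveI : Module.Finite (Localization.AtPrime m.toIdeal)
      (LocalizedModule m.toIdeal.primeCompl C) :=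
    Module.Finite.of_isLocalizedModule m.toIdeal.primeCompl
      (LocalizedModule.mkLinearMap m.toIdeal.primeCompl C)
  have hinj : CategoryTheory.HasInjectiveDimensionLT
      (ModuleCat.of (Localization.AtPrime m.toIdeal) (LocalizedModule m.toIdeal.primeCompl C))
      (n + 1) :=
    Groth.Agent.Lib.Helper85.Canon.hasInjectiveDimensionLT_canon
      (LocalizedModule m.toIdeal.primeCompl C) hf n hcd hvan eK
  exact ⟨Groth.Agent.Lib.Helper84.S18639L4.isCohenMacaulayModule_canon hf
      (LocalizedModule m.toIdeal.primeCompl C) n hnA hvan eK,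
    n + 2, Groth.Agent.Lib.Helper24.CanonInjDim.main 𝒜 m hm 𝒞 n hinj⟩

end Groth.Agent.S18639
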