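import Groth.Statements.S1864
import Groth.Agent.Lib.Helper72.GrpAffineNbhd
import Mathlib.AlgebraicGeometry.AlgClosed.Basic

set_option autoImplicit false
universe u v
open CategoryTheory MonoidalCategory CartesianMonoidalCategory MonObj GrpObj AlgebraicGeometry
open GrpSch

namespace Groth.Agent.S1864

/-- Let G be a group scheme locally of finite type over an algebraically closed field and g₁, …, g_n
finitely many closed points of G. Then some affine open of G contains all the g_i. -/
theorem result (K : Type u) [Field K] [IsAlgClosed K] (G : Over (Spec (CommRingCat.of K))) [GrpObj G] [LocallyOfFiniteType G.hom] (n : ℕ) (g : Fin n → G.left) (hg : ∀ i, IsClosed ({g i} : Set G.left)) : ∃ U : G.left.Opens, IsAffineOpen U ∧ ∀ i, g i ∈ U := by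
  open Groth.Agent.Lib.Helper72.GrpConn in
  have hJ : JacobsonSpace G.left := LocallyOfFiniteType.jacobsonSpace G.hom
  have hrat : ∀ x : G.left, IsClosed ({x} : Set G.left) →
      ∃ z : 𝟙_ (Over (Spec (CommRingCat.of K))) ⟶ G, ptVal G z = x := by
    intro x hx
    refine ⟨ptMk G (pointOfClosedPoint G.hom x hx) (pointOfClosedPoint_comp G.hom x hx), ?_⟩
    rw [ptVal_ptMk]
    exact pointOfClosedPoint_apply G.hom x hx _
  obtain ⟨U, hU, hFU⟩ := exists_affine_of_finite G hrat (Set.range g) (Set.finite_range g)
    (by rintro _ ⟨i, rfl⟩; exact hg i)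
  exact ⟨U, hU, fun i => hFU ⟨i, rfl⟩⟩

end Groth.Agent.S1864
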