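import Mathlib
-- Template for statement S18641 (row 18640; see the milestone table for weights).
-- Copy to Groth/Agent/S18641.lean and replace the sorry. The statement below is byte-identical to the frozen
-- statement GrLC.GrothFrozen.S18641 (Groth/Statements/S18641.lean; the theorem GrLC.isGorensteinRing_veronese_of_dvd_aInvariant);
-- the grader kernel-checks Groth.Agent.S18641.result against that frozen type. Keep the theorem IN THIS FILE
-- (a `result` declared elsewhere and merely imported here is not credited); helpers may live anywhere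
-- under Groth/Agent/.
import Groth.Statements.S18641
import Groth.Agent.Lib.Helper24.GorGrB
import Groth.Agent.Lib.Helper24.GorGrD
import Groth.Agent.Lib.Helper24.GorGrF
import Groth.Agent.Lib.Helper24.GorGrG
import Groth.Agent.Lib.Helper24.GrUnmixed
import Groth.Agent.Lib.Helper8.GrLCCompareRows
import Groth.Agent.Lib.Helper8.GrLCPieces
import Groth.Agent.Lib.Helper8.GrHeight
import Groth.Agent.Lib.Helper8.GrIrrelLocal
import Groth.Agent.Lib.Helper8.GrLCCM
import Groth.Agent.Lib.Helper8.GrLCTopQuot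
import Groth.Agent.Lib.Helper8.GrCanVer
import Groth.Agent.Lib.Helper8.GrVerIso
import Groth.Agent.Lib.Helper67.Depth
import Groth.Agent.Lib.Helper85.DepthLC
import Groth.Agent.S10843
import Groth.Agent.S13225

set_option autoImplicit false
universe u
open GrLC

namespace Groth.Agent.S18641

/-- Let R be a graded ring defined over a field which is Gorenstein, and let q ≥ 1 be an integer
dividing the a-invariant a(R). Then the Veronese subring R^(q) is a Gorenstein ring. Here 'graded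
ring defined over a field' means R = ⊕_{n ≥ 0} R_n is Noetherian with R_0 a field, and m = R_+ is
its unique graded maximal ideal. The a-invariant a(R) is the largest degree in which the graded
local cohomology H^n_m(R) (n = dim R, m = R_+), computed from a *injective resolution of R in the
graded category, is nonzero. The Veronese subring R^(q) = ⊕_j R_{jq}, regraded by (R^(q))_j =
R_{jq}, is presented abstractly as a ℤ-graded ring R' with an injective ring homomorphism φ : R' → R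
carrying R'_j onto R_{jq} for every j. -/
theorem result (R : Type u) [CommRing R] [LocCoh.IsGorensteinRing R] (𝒜 : ℤ → AddSubgroup R) [GradedRing 𝒜] (hpos : ∀ n : ℤ, n < 0 → 𝒜 n = ⊥) (h0 : IsField (GrLC.deg0 𝒜)) (m : HomogeneousIdeal 𝒜) (hm : GrLC.IsStarLocal 𝒜 m) (hmsp : m.toIdeal = Ideal.span (⋃ n ∈ Set.Ioi (0 : ℤ), (𝒜 n : Set R))) (n : ℕ) (hn : ringKrullDim R = n) (I : GrLC.StarInjRes 𝒜 𝒜) (a : ℤ) (ha : GrLC.endDeg (I.Hgr m n) = ((a : WithTop ℤ) : WithBot (WithTop ℤ))) (q : ℕ) (hq : 0 < q) (R' : Type u) [CommRing R'] (𝒜' : ℤ → AddSubgroup R') [GradedRing 𝒜'] (φ : R' →+* R) (hφ : Function.Injective φ) (hdeg : ∀ j : ℤ, (𝒜' j).map (φ : R' →+ R) = 𝒜 (j * q)) (hdvd : (q : ℤ) ∣ a) : LocCoh.IsGorensteinRing R' := by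
  classical
  haveI : IsNoetherianRing R := inferInstance
  haveI hCMR : LocCoh.IsCohenMacaulayRing R :=
    Groth.Agent.Lib.Helper24.GrUnmixed.isCohenMacaulayRing_of_isGorensteinRing R
  haveI hmax : m.toIdeal.IsMaximal :=
    Groth.Agent.Lib.Helper8.GrLCPieces.isMaximal_of_isStarLocal hpos m hm
  have hnA : ringKrullDim (Localization.AtPrime m.toIdeal) = n := by
    rw [IsLocalization.AtPrime.ringKrullDim_eq_height m.toIdeal (Localization.AtPrime m.toIdeal),
      ← Groth.Agent.Lib.Helper8.GrHeight.ringKrullDim_eq_height 𝒜 m hm, hn]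
  -- the Veronese subring
  have hq' : (q : ℤ) ≠ 0 := by exact_mod_cast hq.ne'
  have hqpos : (0 : ℤ) < (q : ℤ) := by exact_mod_cast hq
  have hE : Function.Injective (AddMonoidHom.mulRight (q : ℤ)) := by
    intro a b hab
    have hab' : a * (q : ℤ) = b * (q : ℤ) := hab
    exact mul_right_cancel₀ hq' hab'
  have hdeg' : ∀ j : ℤ, (𝒜' j).map (φ : R' →+ R) = 𝒜 (AddMonoidHom.mulRight (q : ℤ) j) := hdeg
  haveI : IsNoetherianRing R' :=
    Groth.Agent.Lib.Helper8.GrVer.isNoetherianRing_ver (AddMonoidHom.mulRight (q : ℤ)) 𝒜 𝒜' φ hdeg' hφ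
  have hpos' := Groth.Agent.Lib.Helper8.GrCanVer.hpos' φ hφ (q : ℤ) hqpos hdeg hpos
  have h0' := Groth.Agent.Lib.Helper8.GrCanVer.h0' φ hφ (q : ℤ) hdeg h0
  have hmem' : ∀ x : R', x ∈ (⋃ j ∈ Set.Ioi (0 : ℤ), (𝒜' j : Set R')) →
      ∃ j : ℤ, 0 < j ∧ x ∈ 𝒜' j := by
    intro x hx
    simp only [Set.mem_iUnion, Set.mem_Ioi] at hx
    obtain ⟨j, hj, hxj⟩ := hx
    exact ⟨j, hj, hxj⟩
  let m' : HomogeneousIdeal 𝒜' :=
    ⟨Ideal.span (⋃ j ∈ Set.Ioi (0 : ℤ), (𝒜' j : Set R')), by
      apply Ideal.homogeneous_span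
      intro x hx
      obtain ⟨j, _, hxj⟩ := hmem' x hx
      exact ⟨j, hxj⟩⟩
  have hm'sp : m'.toIdeal = Ideal.span (⋃ j ∈ Set.Ioi (0 : ℤ), (𝒜' j : Set R')) := rfl
  have hm' : GrLC.IsStarLocal 𝒜' m' :=
    Groth.Agent.Lib.Helper8.GrIrrelLocal.isStarLocal hpos' h0' m' hm'sp
  haveI hmax' : m'.toIdeal.IsMaximal :=
    Groth.Agent.Lib.Helper8.GrLCPieces.isMaximal_of_isStarLocal hpos' m' hm'
  have hmem : ∀ x : R, x ∈ (⋃ n ∈ Set.Ioi (0 : ℤ), (𝒜 n : Set R)) →
      ∃ n : ℤ, 0 < n ∧ x ∈ 𝒜 n := by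
    intro x hx
    simp only [Set.mem_iUnion, Set.mem_Ioi] at hx
    obtain ⟨j, hj, hxj⟩ := hx
    exact ⟨j, hj, hxj⟩
  have hsub' : ∀ (j : ℤ) (x : R'), 0 < j → x ∈ 𝒜' j → x ∈ m'.toIdeal := by
    intro j x hj hx
    rw [hm'sp]
    apply Ideal.subset_span
    simp only [Set.mem_iUnion, Set.mem_Ioi]
    exact ⟨j, hj, hx⟩
  have hsub : ∀ (n : ℤ) (x : R), 0 < n → x ∈ 𝒜 n → x ∈ m.toIdeal := by
    intro j x hj hx
    rw [hmsp]
    apply Ideal.subset_span
    simp only [Set.mem_iUnion, Set.mem_Ioi]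
    exact ⟨j, hj, hx⟩
  have hφmem : ∀ (j : ℤ) (x : R'), x ∈ 𝒜' j → φ x ∈ 𝒜 (j * q) := by
    intro j x hx
    rw [← hdeg j]
    exact ⟨x, hx, rfl⟩
  have h1 : m'.toIdeal.map φ ≤ m.toIdeal := by
    conv_lhs => rw [hm'sp]
    rw [Ideal.map_span, Ideal.span_le]
    rintro _ ⟨x, hx, rfl⟩
    obtain ⟨j, hj, hxj⟩ := hmem' x hx
    exact hsub (j * q) (φ x) (mul_pos hj hqpos) (hφmem j x hxj)
  have hhom : (m'.toIdeal.map φ).IsHomogeneous 𝒜 := by
    rw [hm'sp, Ideal.map_span]
    apply Ideal.homogeneous_span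
    rintro _ ⟨x, hx, rfl⟩
    obtain ⟨j, hj, hxj⟩ := hmem' x hx
    exact ⟨j * q, hφmem j x hxj⟩
  have hrad : m.toIdeal ≤ (m'.toIdeal.map φ).radical := by
    conv_lhs => rw [hmsp]
    rw [Ideal.span_le]
    intro x hx
    obtain ⟨n, hn, hxn⟩ := hmem x hx
    refine ⟨q, ?_⟩
    have hxq : x ^ q ∈ 𝒜 (q • n) := SetLike.pow_mem_graded q hxn
    have hxq' : x ^ q ∈ 𝒜 (n * q) := by
      rwa [nsmul_eq_mul, mul_comm] at hxq
    rw [← hdeg n] at hxq'
    obtain ⟨y, hy, hyx⟩ := hxq'
    have hyx' : φ y = x ^ q := hyx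
    rw [← hyx']
    exact Ideal.mem_map_of_mem _ (hsub' n y hn hy)
  obtain ⟨N, h2⟩ := Ideal.exists_pow_le_of_le_radical_of_fg hrad (IsNoetherian.noetherian _)
  let gφ : R' →ₛₗ[φ] R :=
    { toFun := φ
      map_add' := map_add φ
      map_smul' := fun r x => map_mul φ r x }
  have hgφ : Function.Injective gφ := hφ
  have hgφdeg : ∀ j : ℤ, (𝒜' j).map (gφ : R' →+ R) = 𝒜 (AddMonoidHom.mulRight (q : ℤ) j) := by
    intro j
    rw [← hdeg' j]
    rfl
  let I' : GrLC.StarInjRes 𝒜' 𝒜' := Groth.Agent.Lib.Helper30.starInjRes 𝒜' 𝒜'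
  have hJ := fun p : ℕ => Groth.Agent.Lib.Helper8.GrVerIso.exists_semilinear hE hdeg' hφ
    gφ hgφ hgφdeg m m' h1 N h2 hhom I I' p
  -- dimension
  have hint : φ.IsIntegral := by
    intro x
    induction x using DirectSum.Decomposition.inductionOn 𝒜 with
    | zero => exact φ.isIntegralElem_zero
    | @homogeneous d x =>
      have hxq : (x : R) ^ q ∈ 𝒜 (q • d) := SetLike.pow_mem_graded q x.2
      have hxq' : (x : R) ^ q ∈ 𝒜 (d * q) := by
        rwa [nsmul_eq_mul, mul_comm] at hxq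
      rw [← hdeg d] at hxq'
      obtain ⟨y, hy, hyx⟩ := hxq'
      have hyx' : φ y = (x : R) ^ q := hyx
      refine ⟨Polynomial.X ^ q - Polynomial.C y, Polynomial.monic_X_pow_sub_C y hq.ne', ?_⟩
      rw [Polynomial.eval₂_sub, Polynomial.eval₂_pow, Polynomial.eval₂_X, Polynomial.eval₂_C,
        hyx', sub_self]
    | add x y hx hy => exact RingHom.IsIntegralElem.add φ hx hy
  have hdim' : ringKrullDim R' = n := by
    rw [← hn]
    exact (Groth.Agent.S10843.ringKrullDim_eq_of_ringHom φ hint hφ).symm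
  have hnA' : ringKrullDim (Localization.AtPrime m'.toIdeal) = n := by
    rw [IsLocalization.AtPrime.ringKrullDim_eq_height m'.toIdeal
      (Localization.AtPrime m'.toIdeal),
      ← Groth.Agent.Lib.Helper8.GrHeight.ringKrullDim_eq_height 𝒜' m' hm', hdim']
  -- Cohen–Macaulayness of the localization of the Veronese subring
  have hvan : ∀ p, p < n → Subsingleton (LocCoh.H
      (IsLocalRing.maximalIdeal (Localization.AtPrime m'.toIdeal)) p
      (Localization.AtPrime m'.toIdeal)) := by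
    intro p hp
    have hV : ∀ g, Groth.Agent.Lib.Helper8.GrLCLES.VanM m 𝒜 p g := fun g =>
      Groth.Agent.Lib.Helper8.GrLCCM.vanM_of_cm hpos m hm n hn p hp g
    have hs1 : Subsingleton (LocCoh.H m.toIdeal p R) :=
      (Groth.Agent.Lib.Helper8.GrLCCompareRows.subsingleton_iff_vanM (ℳ := 𝒜) m p).mpr hV
    obtain ⟨c⟩ := Groth.Agent.Lib.Helper8.GrLCCompareRows.compare m I p
    have hs2 : Subsingleton (I.H m p) := c.injective.subsingleton
    obtain ⟨J, hJinj, -, -⟩ := hJ p
    have hs3 : Subsingleton (I'.H m' p) := hJinj.subsingleton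
    obtain ⟨c'⟩ := Groth.Agent.Lib.Helper8.GrLCCompareRows.compare m' I' p
    have hs4 : Subsingleton (LocCoh.H m'.toIdeal p R') := c'.symm.injective.subsingleton
    obtain ⟨e⟩ := Groth.Agent.Lib.Helper24.GorGrC.exists_equiv_localizedModule m'.toIdeal p
    have hs5 : Subsingleton (LocalizedModule m'.toIdeal.primeCompl
        (LocCoh.H m'.toIdeal p R')) := by
      refine ⟨fun a b => ?_⟩
      induction a using LocalizedModule.induction_on with
      | h x s =>
        induction b using LocalizedModule.induction_on with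
        | h y t => rw [Subsingleton.elim x 0, Subsingleton.elim y 0,
            LocalizedModule.zero_mk, LocalizedModule.zero_mk]
    exact e.injective.subsingleton
  haveI : LocCoh.IsCohenMacaulayLocalRing (Localization.AtPrime m'.toIdeal) := by
    refine { supportDim_eq_depth := ?_ }
    rw [Module.supportDim_self_eq_ringKrullDim, hnA']
    have h3 : (n : ℕ∞) ≤ LocCoh.depth (Localization.AtPrime m'.toIdeal)
        (Localization.AtPrime m'.toIdeal) :=
      (Groth.Agent.Lib.Helper85.FLCrit.le_depth_iff (Localization.AtPrime m'.toIdeal)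
        (Localization.AtPrime m'.toIdeal) n).mpr hvan
    have h4 := Groth.Agent.Lib.Helper67.depth_le_supportDim
      (R := Localization.AtPrime m'.toIdeal) (Localization.AtPrime m'.toIdeal)
    rw [Module.supportDim_self_eq_ringKrullDim, hnA'] at h4
    have h5 : LocCoh.depth (Localization.AtPrime m'.toIdeal)
        (Localization.AtPrime m'.toIdeal) ≤ (n : ℕ∞) := by exact_mod_cast h4
    rw [le_antisymm h5 h3]
    rfl
  -- the top local cohomology of `R`
  have hintH := Groth.Agent.S13225.result R 𝒜 m R 𝒜 I n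
  letI : DirectSum.Decomposition (I.Hgr m n) := hintH.chooseDecomposition
  haveI : SetLike.GradedSMul 𝒜 (I.Hgr m n) :=
    Groth.Agent.Lib.Helper8.GrLCTopQuot.gradedSMul_Hgr m n I
  obtain ⟨c⟩ := Groth.Agent.Lib.Helper8.GrLCCompareRows.compare m I n
  haveI : LocCoh.IsGorensteinLocalRing (Localization.AtPrime m.toIdeal) :=
    LocCoh.IsGorensteinRing.isGorensteinLocalRing_localization m.toIdeal
  have hinjH := Groth.Agent.Lib.Helper24.GorGrD.H_injective_of_gor m.toIdeal n hnA
  have hB : Module.Baer R (I.H m n) :=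
    Module.Baer.of_equiv c.symm (Module.Baer.of_injective hinjH)
  obtain ⟨h₀', -, hsoc', hcyc'⟩ :=
    Groth.Agent.Lib.Helper24.GorGrD.exists_socle_generator_of_gor m.toIdeal n hnA
  have hsoc : ∀ r ∈ m.toIdeal, r • c.symm h₀' = 0 := fun r hr => by
    rw [← map_smul, hsoc' r hr, map_zero]
  have hcyc : ∀ x : I.H m n, (∀ r ∈ m.toIdeal, r • x = 0) → ∃ r : R, x = r • c.symm h₀' := by
    intro x hx
    obtain ⟨r, hr⟩ := hcyc' (c x) (fun r hr => by rw [← map_smul, hx r hr, map_zero])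
    refine ⟨r, ?_⟩
    apply c.injective
    rw [map_smul, LinearEquiv.apply_symm_apply, hr]
  have htors : ∀ h : I.H m n, ∃ N : ℕ, ∀ r ∈ m.toIdeal ^ N, r • h = 0 := by
    intro h
    obtain ⟨k, hk⟩ := Groth.Agent.Lib.Helper24.GorGrD.isPowerTorsion_H m.toIdeal n (c h)
    refine ⟨k, fun r hr => ?_⟩
    apply c.injective
    rw [map_smul, hk r hr, map_zero]
  have hatop : ∀ t, a < t → I.Hgr m n t = ⊥ :=
    (Groth.Agent.Lib.Helper8.GrLCSub.endDeg_le_iff _ a).mp (le_of_eq ha)
  have hane : I.Hgr m n a ≠ ⊥ := by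
    intro hbot
    have h3 : GrLC.endDeg (I.Hgr m n) ≤ (((a - 1 : ℤ) : WithTop ℤ) : WithBot (WithTop ℤ)) := by
      rw [Groth.Agent.Lib.Helper8.GrLCSub.endDeg_le_iff]
      intro t ht
      rcases eq_or_lt_of_le (show a ≤ t by omega) with h | h
      · rw [← h]
        exact hbot
      · exact hatop t h
    rw [ha, WithBot.coe_le_coe, WithTop.coe_le_coe] at h3
    omega
  have harange : a ∈ Set.range (AddMonoidHom.mulRight (q : ℤ)) := by
    obtain ⟨b, hb⟩ := hdvd
    exact ⟨b, by rw [hb]; exact mul_comm b (q : ℤ)⟩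
  have hND : ∀ u : I.H m n, (∀ s : R, Groth.Agent.Lib.Helper8.GrVer.verProj
      (AddMonoidHom.mulRight (q : ℤ)) (I.Hgr m n) (s • u) = 0) → u = 0 := by
    intro u hu
    by_contra hu0
    obtain ⟨d, hd⟩ : ∃ d, (DirectSum.decompose (I.Hgr m n) u d : I.H m n) ≠ 0 := by
      by_contra hcon
      push Not at hcon
      apply hu0
      rw [← DirectSum.sum_support_decompose (I.Hgr m n) u]
      exact Finset.sum_eq_zero fun d _ => hcon d
    obtain ⟨s, hs, hs0⟩ := Groth.Agent.Lib.Helper24.GorGrG.exists_smul_ne_zero 𝒜 hpos m hmsp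
      (I.Hgr m n) a hatop hane (c.symm h₀') hsoc hcyc htors
      (DirectSum.decompose (I.Hgr m n) u d).2 hd
    have h3 := Groth.Agent.Lib.Helper8.GrVer.decompose_verProj
      (AddMonoidHom.mulRight (q : ℤ)) (I.Hgr m n) (s • u) a
    rw [hu s, DirectSum.decompose_zero, DirectSum.zero_apply, ZeroMemClass.coe_zero,
      if_pos harange] at h3
    have h4 := Groth.Agent.Lib.Helper30.decompose_smul_of_mem 𝒜 (I.Hgr m n) hs u d
    rw [sub_add_cancel] at h4
    rw [h4] at h3
    exact hs0 h3.symm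
  obtain ⟨J, hJinj, hJmem, hJsurj⟩ := hJ n
  have hJmem' : ∀ x, J x ∈ Groth.Agent.Lib.Helper8.GrVer.verSub
      (AddMonoidHom.mulRight (q : ℤ)) (I.Hgr m n) := by
    intro x
    have hint' := Groth.Agent.S13225.result R' 𝒜' m' R' 𝒜' I' n
    letI : DirectSum.Decomposition (I'.Hgr m' n) := hint'.chooseDecomposition
    induction x using DirectSum.Decomposition.inductionOn (I'.Hgr m' n) with
    | zero =>
      rw [map_zero]
      exact zero_mem _
    | @homogeneous j x =>
      exact Groth.Agent.Lib.Helper8.GrVer.mem_verSub_of_mem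
        (AddMonoidHom.mulRight (q : ℤ)) (I.Hgr m n) (hJmem j x x.2)
    | add x y hx hy =>
      rw [map_add]
      exact add_mem hx hy
  have hJsurj' : ∀ y ∈ Groth.Agent.Lib.Helper8.GrVer.verSub
      (AddMonoidHom.mulRight (q : ℤ)) (I.Hgr m n), ∃ x, J x = y := by
    intro y hy
    refine Groth.Agent.Lib.Helper8.GrVer.verSub_le_range (AddMonoidHom.mulRight (q : ℤ))
      (I.Hgr m n) (J : I'.H m' n →+ I.H m n) ?_ hy
    intro k y hy
    obtain ⟨x, _, hx⟩ := hJsurj k y hy
    exact ⟨x, hx⟩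
  have hB' : Module.Baer R' (I'.H m' n) :=
    Groth.Agent.Lib.Helper24.GorGrF.baer_ver (AddMonoidHom.mulRight (q : ℤ)) 𝒜 (I.Hgr m n) 𝒜' φ
      hdeg' hφ J hJinj hJmem' hJsurj' hB hND
  obtain ⟨c'⟩ := Groth.Agent.Lib.Helper8.GrLCCompareRows.compare m' I' n
  have hinjH' : Module.Injective R' (LocCoh.H m'.toIdeal n R') :=
    (Module.Baer.of_equiv c' hB').injective
  haveI : LocCoh.IsGorensteinLocalRing (Localization.AtPrime m'.toIdeal) :=
    Groth.Agent.Lib.Helper24.GorGrD.gor_of_H_injective m'.toIdeal n hnA' hinjH'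
  exact Groth.Agent.Lib.Helper24.GorGrB.gorRing_of_starLocal 𝒜' m' hm'

end Groth.Agent.S18641
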