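import Mathlib
-- Template for statement S18643 (row 18642; see the milestone table for weights).
-- Copy to Groth/Agent/S18643.lean and replace the sorry. The statement below is byte-identical to the frozen
-- statement GrLC.GrothFrozen.S18643 (Groth/Statements/S18643.lean; the theorem GrLC.isGorensteinRing_veronese_iff_dvd_aInvariant);
-- the grader kernel-checks Groth.Agent.S18643.result against that frozen type. Keep the theorem IN THIS FILE
-- (a `result` declared elsewhere and merely imported here is not credited); helpers may live anywhere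
-- under Groth/Agent/.
import Groth.Statements.S18643
import Groth.Agent.Lib.Helper24.GorGrH
import Groth.Agent.Lib.Helper24.GorGrI
import Groth.Agent.Lib.Helper24.GrUnmixed
import Groth.Agent.Lib.Helper8.GrLCTopQuot
import Groth.Agent.S13225
import Groth.Agent.S18641

set_option autoImplicit false
universe u
open GrLC

namespace Groth.Agent.S18643

/-- Let R be a graded ring defined over a field k = R_0 which is Gorenstein and generated over k by R_1,
with dim R ≥ 1 and dim_k R_1 ≥ 2, and let q ≥ 1. Then the Veronese subring R^(q) is a Gorenstein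
ring if and only if q divides the a-invariant a(R). Here 'graded ring defined over a field' means R
= ⊕_{n ≥ 0} R_n is Noetherian with R_0 a field, and m = R_+ is its unique graded maximal ideal. The
a-invariant a(R) is the largest degree in which the graded local cohomology H^n_m(R) (n = dim R, m =
R_+), computed from a *injective resolution of R in the graded category, is nonzero. The Veronese
subring R^(q) = ⊕_j R_{jq}, regraded by (R^(q))_j = R_{jq}, is presented abstractly as a ℤ-graded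
ring R' with an injective ring homomorphism φ : R' → R carrying R'_j onto R_{jq} for every j. -/
theorem result (R : Type u) [CommRing R] [LocCoh.IsGorensteinRing R] (𝒜 : ℤ → AddSubgroup R) [GradedRing 𝒜] (hpos : ∀ n : ℤ, n < 0 → 𝒜 n = ⊥) (h0 : IsField (GrLC.deg0 𝒜)) (m : HomogeneousIdeal 𝒜) (hm : GrLC.IsStarLocal 𝒜 m) (hmsp : m.toIdeal = Ideal.span (⋃ n ∈ Set.Ioi (0 : ℤ), (𝒜 n : Set R))) (hstd : Ideal.span (⋃ n ∈ Set.Ioi (0 : ℤ), (𝒜 n : Set R)) = Ideal.span ((𝒜 1 : AddSubgroup R) : Set R)) (hR1 : 2 ≤ Module.finrank (GrLC.deg0 𝒜) (GrLC.comp 𝒜 𝒜 1)) (n : ℕ) (hn : ringKrullDim R = n) (h1 : 1 ≤ n) (I : GrLC.StarInjRes 𝒜 𝒜) (a : ℤ) (ha : GrLC.endDeg (I.Hgr m n) = ((a : WithTop ℤ) : WithBot (WithTop ℤ))) (q : ℕ) (hq : 0 < q) (R' : Type u) [CommRing R'] (𝒜' : ℤ → AddSubgroup R') [GradedRing 𝒜'] (φ : R' →+* R) (hφ : Function.Injective φ) (hdeg : ∀ j : ℤ, (𝒜' j).map (φ : R' →+ R) = 𝒜 (j * q)) : LocCoh.IsGorensteinRing R' ↔ (q : ℤ) ∣ a :=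 by
  classical
  constructor
  swap
  · intro hdvd
    exact Groth.Agent.S18641.result R 𝒜 hpos h0 m hm hmsp n hn I a ha q hq R' 𝒜' φ hφ hdeg hdvd
  intro hG'
  haveI : IsNoetherianRing R := inferInstance
  haveI : IsNoetherianRing R' := inferInstance
  haveI hCMR : LocCoh.IsCohenMacaulayRing R :=
    Groth.Agent.Lib.Helper24.GrUnmixed.isCohenMacaulayRing_of_isGorensteinRing R
  haveI hmax : m.toIdeal.IsMaximal :=
    Groth.Agent.Lib.Helper8.GrLCPieces.isMaximal_of_isStarLocal hpos m hm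
  have hnA : ringKrullDim (Localization.AtPrime m.toIdeal) = n := by
    rw [IsLocalization.AtPrime.ringKrullDim_eq_height m.toIdeal (Localization.AtPrime m.toIdeal),
      ← Groth.Agent.Lib.Helper8.GrHeight.ringKrullDim_eq_height 𝒜 m hm, hn]
  have hq' : (q : ℤ) ≠ 0 := by exact_mod_cast hq.ne'
  have hqpos : (0 : ℤ) < (q : ℤ) := by exact_mod_cast hq
  obtain ⟨m', I', hm'sp, hm', hmax', hpos', h0', hdim', hJ⟩ :=
    Groth.Agent.Lib.Helper24.GorGrI.exists_ver_data R 𝒜 hpos h0 m hmsp n hn I q hq R' 𝒜' φ hφ hdeg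
  haveI := hmax'
  have hnA' : ringKrullDim (Localization.AtPrime m'.toIdeal) = n := by
    rw [IsLocalization.AtPrime.ringKrullDim_eq_height m'.toIdeal
      (Localization.AtPrime m'.toIdeal),
      ← Groth.Agent.Lib.Helper8.GrHeight.ringKrullDim_eq_height 𝒜' m' hm', hdim']
  -- remainder and quotient
  by_contra hndvd
  have hρ0 : 0 ≤ a % (q : ℤ) := Int.emod_nonneg a hq'
  have hρq : a % (q : ℤ) < q := Int.emod_lt_of_pos a hqpos
  have hab : a = a / (q : ℤ) * q + a % (q : ℤ) := by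
    have := Int.emod_add_mul_ediv a q
    linarith
  have hρ1 : 1 ≤ a % (q : ℤ) := by
    by_contra hlt
    apply hndvd
    apply Int.dvd_of_emod_eq_zero
    omega
  generalize a % (q : ℤ) = ρ at hρ0 hρq hab hρ1
  generalize a / (q : ℤ) = b at hab
  -- pieces of `R` are not cyclic
  have hncyc1 : ¬ Groth.Agent.Lib.Helper24.GorGrH.Cyc 𝒜 1 := by
    rintro ⟨w, hw, hcyc⟩
    haveI : Nontrivial (GrLC.deg0 𝒜) := h0.nontrivial
    have h3 := finrank_le_one (R := GrLC.deg0 𝒜) (M := GrLC.comp 𝒜 𝒜 1) ⟨w, hw⟩ (fun z => by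
      obtain ⟨c, hc, hcw⟩ := hcyc z.1 z.2
      exact ⟨⟨c, hc⟩, Subtype.ext hcw.symm⟩)
    omega
  obtain ⟨t, htm, htreg⟩ :=
    Groth.Agent.Lib.Helper24.GorGrI.exists_regular_of_cm hpos m hm n hn h1
  have hncyc : ¬ Groth.Agent.Lib.Helper24.GorGrH.Cyc 𝒜 ρ :=
    Groth.Agent.Lib.Helper24.GorGrH.not_cyc 𝒜 h0 hstd m hmsp hncyc1 htm htreg hρ1
  -- top local cohomology of `R`
  have hintH := Groth.Agent.S13225.result R 𝒜 m R 𝒜 I n
  letI : DirectSum.Decomposition (I.Hgr m n) := hintH.chooseDecomposition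
  haveI : SetLike.GradedSMul 𝒜 (I.Hgr m n) :=
    Groth.Agent.Lib.Helper8.GrLCTopQuot.gradedSMul_Hgr m n I
  haveI : LocCoh.IsGorensteinLocalRing (Localization.AtPrime m.toIdeal) :=
    LocCoh.IsGorensteinRing.isGorensteinLocalRing_localization m.toIdeal
  obtain ⟨hB, ⟨h₀, hsoc, hcyc⟩, htors⟩ :=
    Groth.Agent.Lib.Helper24.GorGrI.top_data_of_gor m n hnA I
  obtain ⟨hatop, hane⟩ := Groth.Agent.Lib.Helper24.GorGrI.endDeg_data (I.Hgr m n) a ha
  obtain ⟨ytop, hytop, hytop0⟩ : ∃ y ∈ I.Hgr m n a, y ≠ 0 := by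
    by_contra hcon
    push Not at hcon
    apply hane
    rw [eq_bot_iff]
    intro y hy
    rw [AddSubgroup.mem_bot]
    exact hcon y hy
  have hytops := Groth.Agent.Lib.Helper24.GorGrG.top_mem_socle 𝒜 m hmsp (I.Hgr m n) a hatop hytop
  -- top local cohomology of `R'`
  have hintH' := Groth.Agent.S13225.result R' 𝒜' m' R' 𝒜' I' n
  letI : DirectSum.Decomposition (I'.Hgr m' n) := hintH'.chooseDecomposition
  haveI : SetLike.GradedSMul 𝒜' (I'.Hgr m' n) :=
    Groth.Agent.Lib.Helper8.GrLCTopQuot.gradedSMul_Hgr m' n I'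
  haveI : LocCoh.IsGorensteinLocalRing (Localization.AtPrime m'.toIdeal) :=
    LocCoh.IsGorensteinRing.isGorensteinLocalRing_localization m'.toIdeal
  obtain ⟨-, ⟨h₀', hsoc', hcyc'⟩, -⟩ :=
    Groth.Agent.Lib.Helper24.GorGrI.top_data_of_gor m' n hnA' I'
  obtain ⟨J, hJinj, hJmem, hJsurj⟩ := hJ n
  -- a nonzero element of `R_ρ`
  obtain ⟨r₀, hr₀, hr₀0⟩ : ∃ r₀ ∈ 𝒜 ρ, r₀ ≠ 0 := by
    by_contra hcon
    push Not at hcon
    apply hncyc
    refine ⟨0, zero_mem _, fun z hz => ⟨0, zero_mem _, ?_⟩⟩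
    rw [mul_zero]
    exact hcon z hz
  have haρ : a - ρ = b * q := by omega
  obtain ⟨x₀, hx₀, hx₀r⟩ := Groth.Agent.Lib.Helper24.GorGrH.exists_smul_eq 𝒜 m (I.Hgr m n) a hm hB
    hytop hytops hr₀ hr₀0
  rw [haρ] at hx₀
  have hx₀0 : x₀ ≠ 0 := by
    intro h
    apply hytop0
    rw [← hx₀r, h, smul_zero]
  obtain ⟨x₁', hx₁', hJx₁'⟩ := hJsurj b x₀ hx₀
  have hx₁'0 : x₁' ≠ 0 := by
    intro h
    apply hx₀0
    rw [← hJx₁', h, map_zero]
  have hatop' : ∀ t, b < t → I'.Hgr m' n t = ⊥ := by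
    intro t ht
    rw [eq_bot_iff]
    intro x hx
    rw [AddSubgroup.mem_bot]
    apply hJinj
    rw [map_zero]
    have h3 := hJmem t x hx
    have h4 : a < t * q := by
      have : (b + 1) * (q : ℤ) ≤ t * q := by
        apply mul_le_mul_of_nonneg_right _ hqpos.le
        omega
      nlinarith
    rw [hatop (t * q) h4, AddSubgroup.mem_bot] at h3
    exact h3
  -- the piece `H_{bq}` is cyclic over `R_0`
  have hcycb : ∀ x ∈ I.Hgr m n (b * q), ∃ c ∈ 𝒜 0, x = c • x₀ := by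
    intro x hx
    obtain ⟨x', hx', hJx'⟩ := hJsurj b x hx
    obtain ⟨c', hc', hc'x⟩ := Groth.Agent.Lib.Helper24.GorGrH.top_cyclic 𝒜' m' hm'sp
      (I'.Hgr m' n) b hatop' h₀' hsoc' hcyc' hx₁' hx₁'0 hx'
    refine ⟨φ c', ?_, ?_⟩
    · have h3 : φ c' ∈ 𝒜 (0 * q) := by
        rw [← hdeg 0]
        exact ⟨c', hc', rfl⟩
      rwa [zero_mul] at h3
    · rw [← hJx', hc'x, map_smulₛₗ, hJx₁']
  -- a nonzero element of `R_ρ` killing `x₀`
  obtain ⟨r, hr, hr0, hrx₀⟩ := Groth.Agent.Lib.Helper24.GorGrH.exists_ne_zero_smul_eq_zero 𝒜 h0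
    hncyc x₀ ytop (by
      intro r hr
      have h3 : r • x₀ ∈ I.Hgr m n (ρ + b * q) :=
        Groth.Agent.Lib.Helper30.smul_mem_piece 𝒜 (I.Hgr m n) hr hx₀
      have h4 : ρ + b * q = a := by omega
      rw [h4] at h3
      exact Groth.Agent.Lib.Helper24.GorGrH.top_cyclic 𝒜 m hmsp (I.Hgr m n) a hatop h₀ hsoc hcyc
        hytop hytop0 h3)
  obtain ⟨x, hx, hxr⟩ := Groth.Agent.Lib.Helper24.GorGrH.exists_smul_eq 𝒜 m (I.Hgr m n) a hm hB
    hytop hytops hr hr0
  rw [haρ] at hx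
  obtain ⟨c, _, hcx⟩ := hcycb x hx
  apply hytop0
  rw [← hxr, hcx, smul_comm, hrx₀, smul_zero]

end Groth.Agent.S18643
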