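import Groth.Statements.S1865
import Groth.Agent.Lib.Helper72.GrpGen

set_option autoImplicit false
universe u v
open CategoryTheory MonoidalCategory CartesianMonoidalCategory MonObj GrpObj AlgebraicGeometry
open GrpSch

namespace Groth.Agent.S1865

/-- A group scheme over a field contains an open and closed subset containing the identity point which
is a countable union of affine opens. (The source does not mention the identity point; its
construction contains it, and without it the empty set would do.) -/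
theorem result (K : Type u) [Field K] (G : Over (Spec (CommRingCat.of K))) [GrpObj G] : ∃ U : G.left.Opens, IsClosed (U : Set G.left) ∧ η[G].left (IsLocalRing.closedPoint K) ∈ U ∧ ∃ V : ℕ → G.left.Opens, (∀ n, IsAffineOpen (V n)) ∧ (U : Set G.left) = ⋃ n, (V n : Set G.left) := by
  open Groth.Agent.Lib.Helper72.GrpGen Groth.Agent.Lib.Helper72.GrpComp in
  -- an affine open neighbourhood of the identity
  obtain ⟨_, ⟨V₀, hV₀, rfl⟩, heV₀, -⟩ :=
    G.left.isBasis_affineOpens.exists_subset_of_mem_open (Set.mem_univ (ePt G)) isOpen_univ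
  have hinv : ∀ y, invS G (invS G y) = y := fun y => app_eq (invS_invS G) y
  -- symmetric quasi-compact open neighbourhood
  let B : G.left.Opens := V₀ ⊔ (invS G) ⁻¹ᵁ V₀
  have heB : ePt G ∈ B := Or.inl heV₀
  have hsymm : ∀ y, y ∈ B → invS G y ∈ B := by
    rintro y (hy | hy)
    · exact Or.inr (show invS G (invS G y) ∈ V₀ by rw [hinv]; exact hy)
    · exact Or.inl hy
  have hBc : IsCompact (B : Set G.left) := by
    have h1 : ((invS G) ⁻¹ᵁ V₀ : Set G.left) = invS G '' (V₀ : Set G.left) := by
      ext y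
      constructor
      · intro hy
        exact ⟨invS G y, hy, hinv y⟩
      · rintro ⟨z, hz, rfl⟩
        show invS G (invS G z) ∈ V₀
        rw [hinv]; exact hz
    have h2 : IsCompact (((invS G) ⁻¹ᵁ V₀ : G.left.Opens) : Set G.left) := by
      rw [h1]
      exact hV₀.isCompact.image (invS G).continuous
    exact hV₀.isCompact.union h2
  have hopen : IsOpen (⋃ n, pw G (B : Set G.left) n) :=
    isOpen_iUnion fun n => isOpen_pw G B.isOpen n
  refine ⟨⟨⋃ n, pw G (B : Set G.left) n, hopen⟩, isClosed_iUnion_pw G B heB hsymm,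
    Set.mem_iUnion.2 ⟨0, heB⟩, ?_⟩
  -- each power is a finite union of affine opens
  have hfin : ∀ n, ∃ s : Set G.left.affineOpens, s.Finite ∧
      pw G (B : Set G.left) n = ⋃ i ∈ s, ((i : G.left.Opens) : Set G.left) := fun n =>
    isCompact_and_isOpen_iff_finite_and_eq_biUnion_affineOpens.1
      ⟨isCompact_pw G B hBc n, isOpen_pw G B.isOpen n⟩
  choose s hsfin hs using hfin
  have hcount : (⋃ n, s n).Countable := Set.countable_iUnion fun n => (hsfin n).countable
  have hne : (⋃ n, s n).Nonempty := by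
    have h0 : ePt G ∈ pw G (B : Set G.left) 0 := heB
    rw [hs 0] at h0
    obtain ⟨i, hi, -⟩ := Set.mem_iUnion₂.1 h0
    exact ⟨i, Set.mem_iUnion.2 ⟨0, hi⟩⟩
  obtain ⟨f, hf⟩ := hcount.exists_eq_range hne
  refine ⟨fun n => (f n).1, fun n => (f n).2, ?_⟩
  show (⋃ n, pw G (B : Set G.left) n) = ⋃ n, (((f n).1 : G.left.Opens) : Set G.left)
  ext y
  constructor
  · intro hy
    obtain ⟨n, hn⟩ := Set.mem_iUnion.1 hy
    rw [hs n] at hn
    obtain ⟨i, hi, hyi⟩ := Set.mem_iUnion₂.1 hn
    have : i ∈ Set.range f := hf ▸ Set.mem_iUnion.2 ⟨n, hi⟩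
    obtain ⟨m, rfl⟩ := this
    exact Set.mem_iUnion.2 ⟨m, hyi⟩
  · intro hy
    obtain ⟨m, hm⟩ := Set.mem_iUnion.1 hy
    have : f m ∈ ⋃ n, s n := hf ▸ Set.mem_range_self m
    obtain ⟨n, hn⟩ := Set.mem_iUnion.1 this
    refine Set.mem_iUnion.2 ⟨n, ?_⟩
    rw [hs n]
    exact Set.mem_iUnion₂.2 ⟨f m, hn, hm⟩

end Groth.Agent.S1865
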