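import Groth.Statements.S18653
import Groth.Agent.Lib.Helper14.GradedCurve

set_option autoImplicit false
universe u
open GrLC

namespace Groth.Agent.S18653

/-- Let R be a graded ring defined over an algebraically closed field k which is an integral domain of
dimension one. Then R is isomorphic to a semigroup ring (the subring of k[T] spanned by the
monomials T^h, h in an additive submonoid H of ℕ); moreover, if R is generated over k by R_1, then R
is a polynomial ring k[T]. Here a graded ring defined over k is a commutative k-algebra of finite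
type graded in nonnegative degrees by k-subspaces with degree-zero part k·1; the isomorphisms
asserted are ring isomorphisms. -/
theorem result (k : Type u) [Field k] [IsAlgClosed k] (R : Type u) [CommRing R] [IsDomain R] [Algebra k R] (𝒜 : ℤ → Submodule k R) [GradedAlgebra 𝒜] (hpos : ∀ n : ℤ, n < 0 → 𝒜 n = ⊥) (h0 : 𝒜 0 = Submodule.span k {(1 : R)}) [Algebra.FiniteType k R] (h1 : ringKrullDim R = 1) : (∃ H : AddSubmonoid ℕ, Nonempty (R ≃+* AddMonoidAlgebra k H)) ∧ (Ideal.span (⋃ n ∈ Set.Ioi (0 : ℤ), (𝒜 n : Set R)) = Ideal.span ((𝒜 1 : Submodule k R) : Set R) → Nonempty (R ≃+* Polynomial k)) := by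
  refine ⟨Groth.Agent.Lib.Helper14.exists_addSubmonoid_ringEquiv 𝒜 hpos h0 h1, ?_⟩
  intro hgen
  apply Groth.Agent.Lib.Helper14.nonempty_ringEquiv_polynomial 𝒜 hpos h0 h1
  intro hbot
  obtain ⟨n, hn0, hn⟩ := Groth.Agent.Lib.Helper14.exists_pos_ne_bot 𝒜 h0 hpos h1
  apply hn
  rw [eq_bot_iff]
  intro x hx
  have hx' : x ∈ Ideal.span (⋃ n ∈ Set.Ioi (0 : ℤ), (𝒜 n : Set R)) := by
    apply Ideal.subset_span
    simp only [Set.mem_iUnion, Set.mem_Ioi, SetLike.mem_coe, exists_prop]
    exact ⟨(n : ℤ), by exact_mod_cast Nat.pos_of_ne_zero hn0, hx⟩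
  rw [hgen, hbot] at hx'
  simpa using hx'

end Groth.Agent.S18653
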