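import Groth.Statements.S18658
import Groth.Agent.Lib.Helper8.GrCanVer

set_option autoImplicit false
universe u
open GrLC

namespace Groth.Agent.S18658

/-- Let R be a graded ring defined over a field, q ≥ 1, and R' = R^(q) its Veronese subring. Then K_{R'}
= (K_R)^(q): the canonical module of R' is the Veronese submodule ⊕_j (K_R)_{jq} of the canonical
module of R. Stated here as: for canonical modules C of R and C' of R' there is an injective
additive map g : C' → C, semilinear over the inclusion φ : R' → R, carrying C'_j onto C_{jq} for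
every j. Here 'graded ring defined over a field' means R = ⊕_{n ≥ 0} R_n is Noetherian with R_0 a
field, and m = R_+ is its unique graded maximal ideal. Both R and R' have dimension n = dim R; the
canonical module of each is represented by a finitely generated graded module together with a
homogeneous isomorphism from its Hom into a *injective envelope of the residue field onto the top
graded local cohomology H^n of the ring with support in its irrelevant ideal, computed from a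
*injective resolution in the graded category (by graded Matlis duality this pins the module up to
graded isomorphism). The Veronese subring R^(q) = ⊕_j R_{jq}, regraded by (R^(q))_j = R_{jq}, is
presented abstractly as a ℤ-graded ring R' with an injective ring homomorphism φ : R' → R carrying
R'_j onto R_{jq} for every j. -/
theorem result (R : Type u) [CommRing R] [IsNoetherianRing R] (𝒜 : ℤ → AddSubgroup R) [GradedRing 𝒜] (hpos : ∀ n : ℤ, n < 0 → 𝒜 n = ⊥) (h0 : IsField (GrLC.deg0 𝒜)) (m : HomogeneousIdeal 𝒜) (hm : GrLC.IsStarLocal 𝒜 m) (hmsp : m.toIdeal = Ideal.span (⋃ n ∈ Set.Ioi (0 : ℤ), (𝒜 n : Set R))) (n : ℕ) (hn : ringKrullDim R = n) (I : GrLC.StarInjRes 𝒜 𝒜) (E' : Type u) [AddCommGroup E'] [Module R E'] (𝓔 : ℤ → AddSubgroup E') [DirectSum.Decomposition 𝓔] [SetLike.GradedSMul 𝒜 𝓔] (e : (R ⧸ m.toIdeal) →ₗ[R] E') (he : GrLC.IsStarInjHull 𝒜 (GrLC.quotGr 𝒜 m) 𝓔 e) (C : Type u) [AddCommGroup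 C] [Module R C] (𝒞 : ℤ → AddSubgroup C) [DirectSum.Decomposition 𝒞] [SetLike.GradedSMul 𝒜 𝒞] (hC : GrLC.IsStarCanonical 𝒜 𝒞 𝓔 m n I) (q : ℕ) (hq : 0 < q) (R' : Type u) [CommRing R'] (𝒜' : ℤ → AddSubgroup R') [GradedRing 𝒜'] (φ : R' →+* R) (hφ : Function.Injective φ) (hdeg : ∀ j : ℤ, (𝒜' j).map (φ : R' →+ R) = 𝒜 (j * q)) (m' : HomogeneousIdeal 𝒜') (hm' : GrLC.IsStarLocal 𝒜' m') (hm'sp : m'.toIdeal = Ideal.span (⋃ j ∈ Set.Ioi (0 : ℤ), (𝒜' j : Set R'))) (I' : GrLC.StarInjRes 𝒜' 𝒜') (E'' : Type u) [AddCommGroup E''] [Module R' E''] (𝓔'' : ℤ → AddSubgroup E'') [DirectSum.Decomposition 𝓔''] [SetLike.GradedSMul 𝒜' 𝓔''] (e' : (R' ⧸ m'.toIdeal) →ₗ[R'] E'') (he' : GrLC.IsStarInjHull 𝒜' (GrLC.quotGr 𝒜' m') 𝓔'' e') (C' : Type u) [AddCommGroup C'] [Module R' C'] (𝒞' : ℤ → AddSubgroup C') [DirectSum.Decomposition 𝒞'] [SetLike.GradedSMul 𝒜' 𝒞'] (hC' : GrLC.IsStarCanonical 𝒜' 𝒞' 𝓔'' m' n I') : ∃ g : C' →ₛₗ[φ]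 C, Function.Injective g ∧ ∀ j : ℤ, (𝒞' j).map (g : C' →+ C) = 𝒞 (j * q) := by
  obtain ⟨hCfin, φC, hφC⟩ := hC
  obtain ⟨hCfin', φC', hφC'⟩ := hC'
  have hq' : (q : ℤ) ≠ 0 := by exact_mod_cast hq.ne'
  have hqpos : (0 : ℤ) < (q : ℤ) := by exact_mod_cast hq
  have hE : Function.Injective (AddMonoidHom.mulRight (q : ℤ)) := by
    intro a b hab
    have hab' : a * (q : ℤ) = b * (q : ℤ) := hab
    exact mul_right_cancel₀ hq' hab'
  have hdeg' : ∀ j : ℤ, (𝒜' j).map (φ : R' →+ R) = 𝒜 (AddMonoidHom.mulRight (q : ℤ) j) := hdeg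
  haveI : IsNoetherianRing R' :=
    Groth.Agent.Lib.Helper8.GrVer.isNoetherianRing_ver (AddMonoidHom.mulRight (q : ℤ)) 𝒜 𝒜' φ hdeg' hφ
  have hmem' : ∀ x : R', x ∈ (⋃ j ∈ Set.Ioi (0 : ℤ), (𝒜' j : Set R')) →
      ∃ j : ℤ, 0 < j ∧ x ∈ 𝒜' j := by
    intro x hx
    simp only [Set.mem_iUnion, Set.mem_Ioi] at hx
    obtain ⟨j, hj, hxj⟩ := hx
    exact ⟨j, hj, hxj⟩
  have hmem : ∀ x : R, x ∈ (⋃ n ∈ Set.Ioi (0 : ℤ), (𝒜 n : Set R)) →
      ∃ n : ℤ, 0 < n ∧ x ∈ 𝒜 n := by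
    intro x hx
    simp only [Set.mem_iUnion, Set.mem_Ioi] at hx
    obtain ⟨j, hj, hxj⟩ := hx
    exact ⟨j, hj, hxj⟩
  have hsub' : ∀ (j : ℤ) (x : R'), 0 < j → x ∈ 𝒜' j → x ∈ m'.toIdeal := by
    intro j x hj hx
    rw [hm'sp]
    apply Ideal.subset_span
    simp only [Set.mem_iUnion, Set.mem_Ioi]
    exact ⟨j, hj, hx⟩
  have hsub : ∀ (n : ℤ) (x : R), 0 < n → x ∈ 𝒜 n → x ∈ m.toIdeal := by
    intro j x hj hx
    rw [hmsp]
    apply Ideal.subset_span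
    simp only [Set.mem_iUnion, Set.mem_Ioi]
    exact ⟨j, hj, hx⟩
  have hφmem : ∀ (j : ℤ) (x : R'), x ∈ 𝒜' j → φ x ∈ 𝒜 (j * q) := by
    intro j x hx
    rw [← hdeg j]
    exact ⟨x, hx, rfl⟩
  have h1 : m'.toIdeal.map φ ≤ m.toIdeal := by
    conv_lhs => rw [hm'sp]
    rw [Ideal.map_span, Ideal.span_le]
    rintro _ ⟨x, hx, rfl⟩
    obtain ⟨j, hj, hxj⟩ := hmem' x hx
    exact hsub (j * q) (φ x) (mul_pos hj hqpos) (hφmem j x hxj)
  have hhom : (m'.toIdeal.map φ).IsHomogeneous 𝒜 := by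
    rw [hm'sp, Ideal.map_span]
    apply Ideal.homogeneous_span
    rintro _ ⟨x, hx, rfl⟩
    obtain ⟨j, hj, hxj⟩ := hmem' x hx
    exact ⟨j * q, hφmem j x hxj⟩
  have hrad : m.toIdeal ≤ (m'.toIdeal.map φ).radical := by
    conv_lhs => rw [hmsp]
    rw [Ideal.span_le]
    intro x hx
    obtain ⟨n, hn, hxn⟩ := hmem x hx
    refine ⟨q, ?_⟩
    have hxq : x ^ q ∈ 𝒜 (q • n) := SetLike.pow_mem_graded q hxn
    have hxq' : x ^ q ∈ 𝒜 (n * q) := by
      rwa [nsmul_eq_mul, mul_comm] at hxq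
    rw [← hdeg n] at hxq'
    obtain ⟨y, hy, hyx⟩ := hxq'
    have hyx' : φ y = x ^ q := hyx
    rw [← hyx']
    exact Ideal.mem_map_of_mem _ (hsub' n y hn hy)
  obtain ⟨N, h2⟩ := Ideal.exists_pow_le_of_le_radical_of_fg hrad (IsNoetherian.noetherian _)
  let gφ : R' →ₛₗ[φ] R :=
    { toFun := φ
      map_add' := map_add φ
      map_smul' := fun r x => map_mul φ r x }
  have hgφ : Function.Injective gφ := hφ
  have hgφdeg : ∀ j : ℤ, (𝒜' j).map (gφ : R' →+ R) = 𝒜 (AddMonoidHom.mulRight (q : ℤ) j) := by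
    intro j
    rw [← hdeg' j]
    rfl
  obtain ⟨J, hJinj, hJmem, hJsurj⟩ := Groth.Agent.Lib.Helper8.GrVerIso.exists_semilinear hE hdeg' hφ
    gφ hgφ hgφdeg m m' h1 N h2 hhom I I' n
  have hpos' := Groth.Agent.Lib.Helper8.GrCanVer.hpos' φ hφ (q : ℤ) hqpos hdeg hpos
  have h0' := Groth.Agent.Lib.Helper8.GrCanVer.h0' φ hφ (q : ℤ) hdeg h0
  exact Groth.Agent.Lib.Helper8.GrCanVer.main hpos h0 m hmsp 𝓔 e he 𝒞 n I φC hφC hpos' h0' m' hm'sp
    𝓔'' e' he' 𝒞' I' φC' hφC' φ hφ (q : ℤ) hqpos hdeg J hJinj hJmem hJsurj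

end Groth.Agent.S18658
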