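import Mathlib
-- Template for statement S18666 (row 18665; see the milestone table for weights).
-- Copy to Groth/Agent/S18666.lean and replace the sorry. The statement below is byte-identical to the frozen
-- statement GrProj.GrothFrozen.S18666 (Groth/Statements/S18666.lean; the theorem GrProj.isGorensteinLocalRing_stalk_proj_of_condition_sharp);
-- the grader kernel-checks Groth.Agent.S18666.result against that frozen type. Keep the theorem IN THIS FILE
-- (a `result` declared elsewhere and merely imported here is not credited); helpers may live anywhere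
-- under Groth/Agent/.
import Groth.Statements.S18666
import Groth.Agent.Lib.Helper24.GLocC
import Groth.Agent.Lib.Helper24.GZE

set_option autoImplicit false
set_option linter.style.haveILetI false
universe u
open GrProj

namespace Groth.Agent.S18666

open AlgebraicGeometry Pointwise in
/-- Let A = ⊕_{n ≥ 0} A_n be a commutative Noetherian graded ring satisfying condition (#) — there is an
integer d_0 such that for every d ≥ d_0 the Veronese subring A^(d) is generated by A_d over A_0,
equivalently A_{(n+1)d} is additively generated by the products A_d A_{nd} for every n ≥ 1 — and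
assume A is a Gorenstein ring. Then X = Proj A is a Gorenstein scheme: all of its local rings are
Gorenstein local rings. (The Cohen–Macaulay case of the same lemma is stated separately.) -/
theorem result (A : Type u) [CommRing A] (𝒜 : ℕ → AddSubgroup A) [GradedRing 𝒜] [LocCoh.IsGorensteinRing A] (hsharp : ∃ d₀ : ℕ, ∀ d : ℕ, d₀ ≤ d → ∀ n : ℕ, 1 ≤ n → 𝒜 ((n + 1) * d) = AddSubgroup.closure ((𝒜 d : Set A) * (𝒜 (n * d) : Set A))) (x : Proj 𝒜) : LocCoh.IsGorensteinLocalRing ((Proj 𝒜).presheaf.stalk x) := by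
  classical
  haveI hpp : x.asHomogeneousIdeal.toIdeal.IsPrime := x.isPrime
  set p : Ideal A := x.asHomogeneousIdeal.toIdeal with hp
  obtain ⟨e, he, h, hh, hhp⟩ : ∃ d, 0 < d ∧ ∃ u, u ∈ 𝒜 d ∧ u ∉ p := by
    obtain ⟨a, ha, hap⟩ := SetLike.not_le_iff_exists.1 x.not_irrelevant_le
    have hex : ∃ i, (DirectSum.decompose 𝒜 a i : A) ∉ p := by
      by_contra hcon
      push Not at hcon
      apply hap
      change a ∈ p
      rw [← DirectSum.sum_support_decompose 𝒜 a]
      exact Ideal.sum_mem _ (fun i _ => hcon i)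
    obtain ⟨i, hi⟩ := hex
    refine ⟨i, ?_, (DirectSum.decompose 𝒜 a i : A), (DirectSum.decompose 𝒜 a i).2, hi⟩
    rcases Nat.eq_zero_or_pos i with rfl | h
    · exfalso
      apply hi
      have h0 : GradedRing.proj 𝒜 0 a = 0 := ha
      rw [GradedRing.proj_apply] at h0
      rw [h0]
      exact Ideal.zero_mem _
    · exact h
  obtain ⟨d₀, hd₀⟩ := hsharp
  -- every degree `d ≥ max d₀ 1` has an element outside `p`
  have key : ∀ d : ℕ, d₀ ≤ d → 0 < d → ∃ f ∈ 𝒜 d, f ∉ p := by
    intro d hd hdpos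
    by_contra hcon
    push Not at hcon
    have hall : ∀ n : ℕ, 1 ≤ n → ∀ a ∈ 𝒜 (n * d), a ∈ p := by
      intro n hn a ha
      rcases Nat.lt_or_ge n 2 with h2 | h2
      · have : n = 1 := by omega
        subst this
        rw [one_mul] at ha
        exact hcon a ha
      · obtain ⟨k, rfl⟩ : ∃ k, n = k + 1 := ⟨n - 1, by omega⟩
        rw [hd₀ d hd k (by omega)] at ha
        refine AddSubgroup.closure_induction (p := fun a _ => a ∈ p) ?_ ?_ ?_ ?_ ha
        · rintro _ ⟨b, hb, c, hc, rfl⟩
          exact Ideal.mul_mem_right _ _ (hcon b hb)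
        · exact Ideal.zero_mem _
        · intro a b _ _ ha hb; exact Ideal.add_mem _ ha hb
        · intro a _ ha; exact (Ideal.neg_mem_iff _).2 ha
    have h1 : h ^ d ∈ 𝒜 (e * d) := by
      have := SetLike.pow_mem_graded d hh
      rwa [smul_eq_mul, mul_comm] at this
    exact hhp (hpp.mem_of_pow_mem d (hall e he _ h1))
  set d := max d₀ 1 with hd
  obtain ⟨f, hf, hfp⟩ := key d (le_max_left _ _) (lt_of_lt_of_le one_pos (le_max_right _ _))
  obtain ⟨g, hg, hgp⟩ := key (d + 1) ((le_max_left _ _).trans (Nat.le_succ _)) (Nat.succ_pos _)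
  have hmpos : 0 < d + (d + 1) := by omega
  set F : A := f * g with hF
  have hFm : F ∈ 𝒜 (d + (d + 1)) := SetLike.mul_mem_graded hf hg
  have hFp : F ∉ p := fun h => (hpp.mem_or_mem h).elim hfp hgp
  haveI : LocCoh.IsGorensteinRing (Localization.Away F) :=
    Groth.Agent.Lib.Helper85.GorRing.gorRing_localization (Submonoid.powers F) _
  have hFunit : IsUnit (algebraMap A (Localization.Away F) F) :=
    IsLocalization.map_units _ (⟨F, 1, pow_one F⟩ : Submonoid.powers F)
  have hfunit : IsUnit (algebraMap A (Localization.Away F) f) := by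
    rw [hF, map_mul] at hFunit; exact isUnit_of_mul_isUnit_left hFunit
  have hgunit : IsUnit (algebraMap A (Localization.Away F) g) := by
    rw [hF, map_mul] at hFunit; exact isUnit_of_mul_isUnit_right hFunit
  let t : (Localization.Away F)ˣ := hgunit.unit * hfunit.unit⁻¹
  have ht : (t : Localization.Away F) ∈
      Groth.Agent.Lib.Helper24.GLoc.awayPiece 𝒜 hmpos hFm 1 := by
    have h1 : (hgunit.unit : Localization.Away F) ∈
        Groth.Agent.Lib.Helper24.GLoc.awayPiece 𝒜 hmpos hFm ((d + 1 : ℕ) : ℤ) :=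
      Groth.Agent.Lib.Helper24.GLoc.algebraMap_mem 𝒜 hmpos hFm hg
    have h2 : ((hfunit.unit⁻¹ : (Localization.Away F)ˣ) : Localization.Away F) ∈
        Groth.Agent.Lib.Helper24.GLoc.awayPiece 𝒜 hmpos hFm (-((d : ℕ) : ℤ)) :=
      Groth.Agent.Lib.Helper24.GrUnit.inv_mem _
        (Groth.Agent.Lib.Helper24.GLoc.algebraMap_mem 𝒜 hmpos hFm hf) hfunit.unit rfl
    have h3 := SetLike.mul_mem_graded h1 h2
    have e : ((d + 1 : ℕ) : ℤ) + -((d : ℕ) : ℤ) = 1 := by push_cast; ring
    rw [e] at h3
    rw [Units.val_mul]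
    exact h3
  have hgor : LocCoh.IsGorensteinRing (HomogeneousLocalization.Away 𝒜 F) :=
    Groth.Agent.Lib.Helper24.GZ.isGorensteinRing_of_isGradeZero _
      (Groth.Agent.Lib.Helper24.GLoc.awayPiece 𝒜 hmpos hFm)
      (Groth.Agent.Lib.Helper24.GLoc.isGradeZero 𝒜 hmpos hFm) t ht
  let x' : ProjectiveSpectrum.basicOpen 𝒜 F := ⟨x, hFp⟩
  letI : Algebra (HomogeneousLocalization.Away 𝒜 F)
      (HomogeneousLocalization.AtPrime 𝒜 x.asHomogeneousIdeal.toIdeal) :=
    (HomogeneousLocalization.mapId 𝒜 (Submonoid.powers_le.mpr hFp)).toAlgebra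
  haveI hloc := ProjectiveSpectrum.Proj.isLocalization_atPrime 𝒜 F x' hFm hmpos
  set 𝔮 : Ideal (HomogeneousLocalization.Away 𝒜 F) :=
    ((ProjectiveSpectrum.Proj.toSpec 𝒜 F).base x').asIdeal with h𝔮
  haveI h𝔮p : 𝔮.IsPrime := ((ProjectiveSpectrum.Proj.toSpec 𝒜 F).base x').isPrime
  haveI h1 := hgor.isGorensteinLocalRing_localization 𝔮
  have e1 : Localization.AtPrime 𝔮 ≃+*
      HomogeneousLocalization.AtPrime 𝒜 x.asHomogeneousIdeal.toIdeal :=
    (IsLocalization.algEquiv 𝔮.primeCompl _ _).toRingEquiv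
  haveI h2 : LocCoh.IsGorensteinLocalRing
      (HomogeneousLocalization.AtPrime 𝒜 x.asHomogeneousIdeal.toIdeal) :=
    Groth.Agent.Lib.Helper85.GorRing.gor_of_ringEquiv e1
  let e := Proj.stalkIso 𝒜 x
  exact Groth.Agent.Lib.Helper85.GorRing.gor_of_ringEquiv e.symm.commRingCatIsoToRingEquiv

end Groth.Agent.S18666
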