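import Groth.Statements.S1867
import Groth.Agent.Lib.Helper73.DimFormula.CodimOneQF

set_option autoImplicit false
universe u
open CategoryTheory AlgebraicGeometry
open Cyc

namespace Groth.Agent.S1867

/-- Let f : X → Y be a proper morphism of integral schemes with Y locally Noetherian, mapping the
generic point to the generic point with finite extension of function fields, and let ξ be a point of
Y whose local ring has dimension 1. Then f is finite over some open neighbourhood of ξ. -/
theorem result (X Y : Scheme.{u}) [IsIntegral X] [IsIntegral Y] [IsLocallyNoetherian Y] (f : X ⟶ Y) [IsProper f] (hgen : f (genericPoint X) = genericPoint Y) (hfin : (f.residueFieldMap (genericPoint X)).hom.Finite) (ξ : Y) (hξ : ringKrullDim (Y.presheaf.stalk ξ) = 1) : ∃ V : Y.Opens, ξ ∈ V ∧ IsFinite (f ∣_ V) := by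
  open Groth.Agent.Lib.Helper73 in
  have h0 : resTrdegNat f (genericPoint X) = 0 := by
    have : resTrdeg f (genericPoint X) = 0 := by
      unfold resTrdeg
      letI := (f.residueFieldMap (genericPoint X)).hom.toAlgebra
      have hmf : Module.Finite (Y.residueField (f (genericPoint X)))
          (X.residueField (genericPoint X)) := hfin
      have : Algebra.IsAlgebraic (Y.residueField (f (genericPoint X)))
          (X.residueField (genericPoint X)) := Algebra.IsAlgebraic.of_finite _ _
      exact trdeg_eq_zero
    rw [resTrdeg_eq_resTrdegNat] at this
    exact_mod_cast this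
  have hmax : ∀ η : X, (∀ t : X, t ⤳ η → t = η) → resTrdegNat f η = 0 := by
    intro η hη
    rw [← hη _ (genericPoint_specializes η)]
    exact h0
  apply exists_open_isFinite_of_forall_quasiFiniteAt f ξ
  intro x hx
  exact quasiFiniteAt_of_stalk_dim_le_one f x (by rw [hx, hξ]) hmax

end Groth.Agent.S1867
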