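import Groth.Statements.S18671
import Groth.Agent.Lib.Helper8.GrVerMain

set_option autoImplicit false
universe u
open GrLC

namespace Groth.Agent.S18671

/-- Let R be a graded ring defined over a field, q ≥ 1, R' = R^(q) its Veronese subring with m' = R'_+,
and M a graded R-module with Veronese submodule M^(q) = ⊕_j M_{jq}, a graded R'-module. Then
H^p_{m'}(M^(q)) ≅ (H^p_m(M))^(q) for every p. Stated here, for M finitely generated, as the equality
of dimensions dim H^p_{m'}(M^(q))_j = dim H^p_m(M)_{jq} over the degree-zero fields R'_0 ≅ R_0, for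
all p and j (the published isomorphism is one of graded R'-modules; all these pieces are
finite-dimensional). Here 'graded ring defined over a field' means R = ⊕_{n ≥ 0} R_n is Noetherian
with R_0 a field, and m = R_+ is its unique graded maximal ideal. The graded local cohomologies are
computed from *injective resolutions in the respective graded categories; the Veronese subring R^(q)
= ⊕_j R_{jq}, regraded by (R^(q))_j = R_{jq}, is presented abstractly as a ℤ-graded ring R' with an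
injective ring homomorphism φ : R' → R carrying R'_j onto R_{jq} for every j. The module M^(q) is
presented as a graded R'-module M' with an injective additive map g : M' → M, semilinear over φ,
carrying M'_j onto M_{jq} for every j. -/
theorem result (R : Type u) [CommRing R] [IsNoetherianRing R] (𝒜 : ℤ → AddSubgroup R) [GradedRing 𝒜] (hpos : ∀ n : ℤ, n < 0 → 𝒜 n = ⊥) (h0 : IsField (GrLC.deg0 𝒜)) (m : HomogeneousIdeal 𝒜) (hm : GrLC.IsStarLocal 𝒜 m) (hmsp : m.toIdeal = Ideal.span (⋃ n ∈ Set.Ioi (0 : ℤ), (𝒜 n : Set R))) (M : Type u) [AddCommGroup M] [Module R M] (ℳ : ℤ → AddSubgroup M) [DirectSum.Decomposition ℳ] [SetLike.GradedSMul 𝒜 ℳ] [Module.Finite R M] (E : GrLC.StarInjRes 𝒜 ℳ) (q : ℕ) (hq : 0 < q) (R' : Type u) [CommRing R'] (𝒜' : ℤ → AddSubgroup R') [GradedRing 𝒜'] (φ : R' →+* R) (hφ : Function.Injective φ) (hdeg : ∀ j : ℤ, (𝒜' j).map (φ : R' →+ R) = 𝒜 (j * q)) (m' : HomogeneousIdeal 𝒜') (hm' : GrLC.IsStarLocal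 𝒜' m') (hm'sp : m'.toIdeal = Ideal.span (⋃ j ∈ Set.Ioi (0 : ℤ), (𝒜' j : Set R'))) (M' : Type u) [AddCommGroup M'] [Module R' M'] (ℳ' : ℤ → AddSubgroup M') [DirectSum.Decomposition ℳ'] [SetLike.GradedSMul 𝒜' ℳ'] (g : M' →ₛₗ[φ] M) (hg : Function.Injective g) (hgdeg : ∀ j : ℤ, (ℳ' j).map (g : M' →+ M) = ℳ (j * q)) (F : GrLC.StarInjRes 𝒜' ℳ') (p : ℕ) (j : ℤ) : Module.finrank (GrLC.deg0 𝒜') (F.Hcomp m' p j) = Module.finrank (GrLC.deg0 𝒜) (E.Hcomp m p (j * q)) := by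
  have hq' : (q : ℤ) ≠ 0 := by exact_mod_cast hq.ne'
  have hqpos : (0 : ℤ) < (q : ℤ) := by exact_mod_cast hq
  have he : Function.Injective (AddMonoidHom.mulRight (q : ℤ)) := by
    intro a b hab
    have hab' : a * (q : ℤ) = b * (q : ℤ) := hab
    exact mul_right_cancel₀ hq' hab'
  have hdeg' : ∀ j : ℤ, (𝒜' j).map (φ : R' →+ R) = 𝒜 (AddMonoidHom.mulRight (q : ℤ) j) := hdeg
  have hgdeg' : ∀ j : ℤ, (ℳ' j).map (g : M' →+ M) = ℳ (AddMonoidHom.mulRight (q : ℤ) j) := hgdeg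
  have hmem' : ∀ x : R', x ∈ (⋃ j ∈ Set.Ioi (0 : ℤ), (𝒜' j : Set R')) →
      ∃ j : ℤ, 0 < j ∧ x ∈ 𝒜' j := by
    intro x hx
    simp only [Set.mem_iUnion, Set.mem_Ioi] at hx
    obtain ⟨j, hj, hxj⟩ := hx
    exact ⟨j, hj, hxj⟩
  have hmem : ∀ x : R, x ∈ (⋃ n ∈ Set.Ioi (0 : ℤ), (𝒜 n : Set R)) →
      ∃ n : ℤ, 0 < n ∧ x ∈ 𝒜 n := by
    intro x hx
    simp only [Set.mem_iUnion, Set.mem_Ioi] at hx
    obtain ⟨j, hj, hxj⟩ := hx
    exact ⟨j, hj, hxj⟩
  have hsub' : ∀ (j : ℤ) (x : R'), 0 < j → x ∈ 𝒜' j → x ∈ m'.toIdeal := by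
    intro j x hj hx
    rw [hm'sp]
    apply Ideal.subset_span
    simp only [Set.mem_iUnion, Set.mem_Ioi]
    exact ⟨j, hj, hx⟩
  have hsub : ∀ (n : ℤ) (x : R), 0 < n → x ∈ 𝒜 n → x ∈ m.toIdeal := by
    intro j x hj hx
    rw [hmsp]
    apply Ideal.subset_span
    simp only [Set.mem_iUnion, Set.mem_Ioi]
    exact ⟨j, hj, hx⟩
  have hφmem : ∀ (j : ℤ) (x : R'), x ∈ 𝒜' j → φ x ∈ 𝒜 (j * q) := by
    intro j x hx
    rw [← hdeg j]
    exact ⟨x, hx, rfl⟩
  have h1 : m'.toIdeal.map φ ≤ m.toIdeal := by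
    conv_lhs => rw [hm'sp]
    rw [Ideal.map_span, Ideal.span_le]
    rintro _ ⟨x, hx, rfl⟩
    obtain ⟨j, hj, hxj⟩ := hmem' x hx
    exact hsub (j * q) (φ x) (mul_pos hj hqpos) (hφmem j x hxj)
  have hhom : (m'.toIdeal.map φ).IsHomogeneous 𝒜 := by
    rw [hm'sp, Ideal.map_span]
    apply Ideal.homogeneous_span
    rintro _ ⟨x, hx, rfl⟩
    obtain ⟨j, hj, hxj⟩ := hmem' x hx
    exact ⟨j * q, hφmem j x hxj⟩
  have hrad : m.toIdeal ≤ (m'.toIdeal.map φ).radical := by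
    conv_lhs => rw [hmsp]
    rw [Ideal.span_le]
    intro x hx
    obtain ⟨n, hn, hxn⟩ := hmem x hx
    refine ⟨q, ?_⟩
    have hxq : x ^ q ∈ 𝒜 (q • n) := SetLike.pow_mem_graded q hxn
    have hxq' : x ^ q ∈ 𝒜 (n * q) := by
      rwa [nsmul_eq_mul, mul_comm] at hxq
    rw [← hdeg n] at hxq'
    obtain ⟨y, hy, hyx⟩ := hxq'
    have hyx' : φ y = x ^ q := hyx
    rw [← hyx']
    exact Ideal.mem_map_of_mem _ (hsub' n y hn hy)
  obtain ⟨N, h2⟩ := Ideal.exists_pow_le_of_le_radical_of_fg hrad (IsNoetherian.noetherian _)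
  exact Groth.Agent.Lib.Helper8.GrVerMain.finrank_eq he hdeg' hφ g hg hgdeg' m m' h1 N h2 hhom E F p j

end Groth.Agent.S18671
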