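import Groth.Statements.S18672
import Mathlib.RingTheory.GradedAlgebra.Basic
import Mathlib.Algebra.Algebra.Operations

set_option autoImplicit false
universe u
open GrLC

namespace Groth.Agent.S18672

open DirectSum

section aux

variable {R : Type u} [CommRing R] (𝒜 : ℤ → AddSubgroup R) [GradedRing 𝒜]

/-- the graded piece as a `ℤ`-submodule -/
abbrev Sp (n : ℤ) : Submodule ℤ R := AddSubgroup.toIntSubmodule (𝒜 n)

lemma claim1
    (hstd : Ideal.span (⋃ n ∈ Set.Ioi (0 : ℤ), (𝒜 n : Set R)) =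
      Ideal.span ((𝒜 1 : AddSubgroup R) : Set R))
    (n : ℤ) (hn : 0 ≤ n) : Sp 𝒜 (n + 1) ≤ Sp 𝒜 n * Sp 𝒜 1 := by
  intro x hx
  have hx' : x ∈ 𝒜 (n + 1) := hx
  have hxs : x ∈ Ideal.span ((𝒜 1 : AddSubgroup R) : Set R) := by
    rw [← hstd]
    apply Ideal.subset_span
    simp only [Set.mem_iUnion]
    exact ⟨n + 1, by simp only [Set.mem_Ioi]; omega, hx'⟩
  obtain ⟨k, f, g, rfl⟩ := Submodule.mem_span_set'.1 hxs
  have e1 : (∑ i, f i • (g i : R)) = GradedRing.proj 𝒜 (n + 1) (∑ i, f i • (g i : R)) := by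
    rw [GradedRing.proj_apply, DirectSum.decompose_of_mem_same 𝒜 hx']
  rw [e1, map_sum]
  refine Submodule.sum_mem _ (fun i _ => ?_)
  rw [GradedRing.proj_apply, smul_eq_mul, DirectSum.coe_decompose_mul_add_of_right_mem 𝒜 (g i).2]
  exact Submodule.mul_mem_mul (SetLike.coe_mem _) (g i).2

lemma Sp_mul_le (i j : ℤ) : Sp 𝒜 i * Sp 𝒜 j ≤ Sp 𝒜 (i + j) := by
  rw [Submodule.mul_le]
  intro x hx y hy
  exact SetLike.mul_mem_graded (A := 𝒜) hx hy

lemma claim2
    (hstd : Ideal.span (⋃ n ∈ Set.Ioi (0 : ℤ), (𝒜 n : Set R)) =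
      Ideal.span ((𝒜 1 : AddSubgroup R) : Set R))
    (c : ℤ) (hc : 0 ≤ c) (k : ℕ) : Sp 𝒜 (c + k) ≤ Sp 𝒜 c * Sp 𝒜 k := by
  induction k with
  | zero =>
    intro x hx
    have hx' : x ∈ Sp 𝒜 c := by simpa using hx
    have h1 : (1 : R) ∈ Sp 𝒜 ((0 : ℕ) : ℤ) := by
      change (1 : R) ∈ 𝒜 ((0 : ℕ) : ℤ)
      rw [Nat.cast_zero]
      exact SetLike.GradedOne.one_mem (A := 𝒜)
    have := Submodule.mul_mem_mul hx' h1
    rwa [mul_one] at this
  | succ k ih =>
    have h1 : Sp 𝒜 (c + ((k + 1 : ℕ) : ℤ)) ≤ Sp 𝒜 (c + k) * Sp 𝒜 1 := by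
      have := claim1 𝒜 hstd (c + k) (by positivity)
      convert this using 2
      push_cast
      ring
    refine h1.trans ?_
    calc Sp 𝒜 (c + k) * Sp 𝒜 1 ≤ (Sp 𝒜 c * Sp 𝒜 k) * Sp 𝒜 1 := mul_le_mul' ih le_rfl
      _ = Sp 𝒜 c * (Sp 𝒜 k * Sp 𝒜 1) := mul_assoc _ _ _
      _ ≤ Sp 𝒜 c * Sp 𝒜 ((k + 1 : ℕ) : ℤ) := by
        refine mul_le_mul' le_rfl ?_
        have := Sp_mul_le 𝒜 k 1
        convert this using 2
        push_cast
        ring

end aux

/-- Let R be a graded ring defined over a field k = R_0 which is Cohen–Macaulay and generated over k by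
R_1 (the standing hypotheses of this section; only generation in degree one is used), q ≥ 1, R' =
R^(q), and a an integer. Then the Veronese submodule [R(a)]^(q) = ⊕_j R_{a+jq} is generated over R'
by its piece R(a)_n = R_{a+n}, where n is the smallest multiple of q with n + a ≥ 0. Here 'graded
ring defined over a field' means R = ⊕_{n ≥ 0} R_n is Noetherian with R_0 a field, and m = R_+ is
its unique graded maximal ideal. The Veronese subring R^(q) = ⊕_j R_{jq}, regraded by (R^(q))_j =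
R_{jq}, is presented abstractly as a ℤ-graded ring R' with an injective ring homomorphism φ : R' → R
carrying R'_j onto R_{jq} for every j. The module [R(a)]^(q) is presented as a graded R'-module M'
with an injective additive map g : M' → R, semilinear over φ, carrying M'_j onto R_{a+jq} for every
j; with n = j₀q, the conclusion is that the R'-span of M'_{j₀} is all of M'. -/
theorem result (R : Type u) [CommRing R] [LocCoh.IsCohenMacaulayRing R] (𝒜 : ℤ → AddSubgroup R) [GradedRing 𝒜] (hpos : ∀ n : ℤ, n < 0 → 𝒜 n = ⊥) (h0 : IsField (GrLC.deg0 𝒜)) (hstd : Ideal.span (⋃ n ∈ Set.Ioi (0 : ℤ), (𝒜 n : Set R)) = Ideal.span ((𝒜 1 : AddSubgroup R) : Set R)) (q : ℕ) (hq : 0 < q) (R' : Type u) [CommRing R'] (𝒜' : ℤ → AddSubgroup R') [GradedRing 𝒜'] (φ : R' →+* R) (hφ : Function.Injective φ) (hdeg : ∀ j : ℤ, (𝒜' j).map (φ : R' →+ R) = 𝒜 (j * q)) (a : ℤ) (M' : Type u) [AddCommGroup M'] [Module R' M'] (ℳ' : ℤ → AddSubgroup M') [DirectSum.Decomposition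 ℳ'] [SetLike.GradedSMul 𝒜' ℳ'] (g : M' →ₛₗ[φ] R) (hg : Function.Injective g) (hgdeg : ∀ j : ℤ, (ℳ' j).map (g : M' →+ R) = 𝒜 (a + j * q)) (j₀ : ℤ) (hj₀ : 0 ≤ a + j₀ * q) (hj₀' : a + (j₀ - 1) * q < 0) : Submodule.span R' ((ℳ' j₀ : AddSubgroup M') : Set M') = ⊤ := by
  rw [eq_top_iff]
  suffices hall : ∀ m : M', m ∈ Submodule.span R' ((ℳ' j₀ : AddSubgroup M') : Set M') from
    fun m _ => hall m
  intro m
  induction m using DirectSum.Decomposition.inductionOn ℳ' with
  | zero => exact zero_mem _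
  | add m m' hm hm' => exact add_mem hm hm'
  | @homogeneous j m =>
    have hgm : g (m : M') ∈ 𝒜 (a + j * q) := by
      rw [← hgdeg j]
      exact AddSubgroup.mem_map.2 ⟨m, m.2, rfl⟩
    by_cases hj : j < j₀
    · have hneg : a + j * q < 0 := by
        have h1 : j * (q : ℤ) ≤ (j₀ - 1) * q :=
          mul_le_mul_of_nonneg_right (by omega) (by positivity)
        omega
      rw [hpos _ hneg, AddSubgroup.mem_bot] at hgm
      have hm0 : (m : M') = 0 := hg (by rw [hgm, map_zero])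
      rw [hm0]
      exact zero_mem _
    · rw [not_lt] at hj
      obtain ⟨k, hk⟩ : ∃ k : ℕ, j = j₀ + k := ⟨(j - j₀).toNat, by omega⟩
      have hmem : g (m : M') ∈ Sp 𝒜 ((a + j₀ * q) + ((k * q : ℕ) : ℤ)) := by
        change g (m : M') ∈ 𝒜 ((a + j₀ * q) + ((k * q : ℕ) : ℤ))
        convert hgm using 2
        rw [hk]
        push_cast
        ring
      have hmem2 := claim2 𝒜 hstd (a + j₀ * q) hj₀ (k * q) hmem
      have key : ∀ r ∈ Sp 𝒜 (a + j₀ * q) * Sp 𝒜 ((k * q : ℕ) : ℤ),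
          ∃ m' ∈ Submodule.span R' ((ℳ' j₀ : AddSubgroup M') : Set M'), g m' = r := by
        intro r hr
        refine Submodule.mul_induction_on hr ?_ ?_
        · intro y hy x hx
          have hy' : y ∈ (ℳ' j₀).map (g : M' →+ R) := by rw [hgdeg j₀]; exact hy
          have hx' : x ∈ (𝒜' k).map (φ : R' →+ R) := by
            have e : ((k * q : ℕ) : ℤ) = (k : ℤ) * q := by push_cast; ring
            rw [hdeg k, ← e]
            exact hx
          obtain ⟨m₀, hm₀, rfl⟩ := AddSubgroup.mem_map.1 hy'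
          obtain ⟨r₀, hr₀, rfl⟩ := AddSubgroup.mem_map.1 hx'
          refine ⟨r₀ • m₀, Submodule.smul_mem _ _ (Submodule.subset_span hm₀), ?_⟩
          rw [map_smulₛₗ, smul_eq_mul, mul_comm]
          rfl
        · rintro x y ⟨m₁, hm₁, rfl⟩ ⟨m₂, hm₂, rfl⟩
          exact ⟨m₁ + m₂, add_mem hm₁ hm₂, map_add _ _ _⟩
      obtain ⟨m', hm', hgm'⟩ := key _ hmem2
      have : (m : M') = m' := hg hgm'.symm
      rw [this]
      exact hm'

end Groth.Agent.S18672
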