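import Groth.Statements.S1868
import Mathlib
import Groth.Agent.Lib.Helper90.CycFin4

set_option autoImplicit false
universe u
open CategoryTheory AlgebraicGeometry
open Cyc

namespace Groth.Agent.S1868

/-- Let f : X → Y be finite locally free of constant degree d (finite, flat, rank function constantly
d). Then f has relative dimension 0 and for every k-cycle α on Y, f_*(f^*α) = d·α (for any cycle
f^*α on X with the flat-pullback coefficients). Here a pair (X, δ) with Cyc.IsSetup plays the role
of a scheme locally of finite type over a fixed base with a dimension function (X locally Noetherian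
with universally catenary local rings, δ a dimension function), and Cyc.DeltaCompat records that the
dimension function upstairs is the induced one. -/
theorem result (X Y : Scheme.{u}) (δX : X → ℤ) (δY : Y → ℤ) (hX : Cyc.IsSetup X δX) (hY : Cyc.IsSetup Y δY) (f : X ⟶ Y) [IsFinite f] [Flat f] (d : ℕ) (hd : ∀ y : Y, f.finrank y = d) (hδ : Cyc.DeltaCompat f δX δY) (k : ℤ) : Cyc.HasRelDim f 0 ∧ ∀ (α : AlgebraicCycle Y ℤ), α ∈ Cyc.Zk Y δY k → ∀ α' : AlgebraicCycle X ℤ, ⇑α' = Cyc.pullFun f δX δY 0 ⇑α → AlgebraicCycle.map f δX δY α' = d • α := by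
  classical
  refine ⟨Groth.Agent.Lib.Helper90.CycFin.hasRelDim_zero f, ?_⟩
  intro α hα α' hα'
  ext y
  have hδeq := Groth.Agent.Lib.Helper90.CycFin.delta_eq f δX δY hδ
  have hfinite : (f ⁻¹' {y}).Finite := f.finite_preimage_singleton y
  have h1 : AlgebraicCycle.map f δX δY α' y =
      ∑ᶠ x ∈ f ⁻¹' {y}, α' x * ((AlgebraicCycle.mapCoeff f δX δY x : ℕ) : ℤ) := rfl
  rw [h1]
  have h2 : ∀ x ∈ f ⁻¹' {y}, α' x * ((AlgebraicCycle.mapCoeff f δX δY x : ℕ) : ℤ) =
      α y * (((Module.length (X.presheaf.stalk x) (X.presheaf.stalk x ⧸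
        (IsLocalRing.maximalIdeal (Y.presheaf.stalk (f x))).map (f.stalkMap x).hom)).toNat *
          f.residueDegree x : ℕ) : ℤ) := by
    intro x hx
    have hxy : f x = y := hx
    have e1 : α' x = Cyc.pullFun f δX δY 0 (⇑α) x := by rw [hα']
    rw [e1]
    unfold Cyc.pullFun AlgebraicCycle.mapCoeff
    rw [if_pos (by rw [add_zero]; exact hδeq x), if_pos (hδeq x),
      show α (f x) = α y from congrArg (⇑α) hxy]
    push_cast
    ring
  rw [finsum_mem_congr rfl h2, ← mul_finsum_mem, ← Nat.cast_finsum_mem hfinite,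
    Groth.Agent.Lib.Helper90.CycFin.finsum_fibre f y, hd y]
  simp [mul_comm]

end Groth.Agent.S1868
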