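import Groth.Statements.S18685
import Groth.Agent.Lib.Helper84.GLatExt

set_option autoImplicit false
open GLat

namespace Groth.Agent.S18685

/-- For a finite group G and a finitely generated G-module A there is an exact sequence 0 → P → F → A →
0 of finitely generated G-modules with P a permutation lattice and F a flasque lattice; rendered by
equivariant ℤ-linear maps i : P → F injective, π : F → A surjective, with range i = ker π. -/
theorem result (G : Type) [Group G] [Finite G]
    (A : Type) [AddCommGroup A] [Module.Finite ℤ A] (ρ : Representation ℤ G A) :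
    ∃ (P : Type) (_ : AddCommGroup P) (F : Type) (_ : AddCommGroup F)
      (_ : Module.Finite ℤ P) (_ : Module.Free ℤ P) (_ : Module.Finite ℤ F) (_ : Module.Free ℤ F)
      (σ : Representation ℤ G P) (τ : Representation ℤ G F) (i : P →ₗ[ℤ] F) (π : F →ₗ[ℤ] A),
      GLat.IsEquivariant σ τ i ∧ GLat.IsEquivariant τ ρ π ∧ Function.Injective i ∧ Function.Surjective π ∧
      LinearMap.range i = LinearMap.ker π ∧ GLat.IsPermutation σ ∧ GLat.IsFlasque τ := by
  open Groth.Agent.Lib.Helper84.GLatRes in
  let κ := kerRep ρ (perm (S ρ)) (cov ρ) (isEquivariant_cov ρ)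
  let j := (LinearMap.ker (cov ρ)).subtype
  have hj : GLat.IsEquivariant κ (perm (S ρ)) j :=
    isEquivariant_subtype ρ (perm (S ρ)) (cov ρ) (isEquivariant_cov ρ)
  have hi : GLat.IsEquivariant κ (perm (S κ.dual)) (ev κ) := isEquivariant_ev κ
  have hex : LinearMap.range j = LinearMap.ker (cov ρ) := Submodule.range_subtype _
  haveI : Module.IsTorsionFree ℤ (PO j (ev κ)) :=
    torsionFree_PO j (ev κ) (ev_injective κ) (ev_saturated κ)
  exact ⟨(S κ.dual → ℤ), inferInstance, PO j (ev κ), inferInstance,
    inferInstance, inferInstance, inferInstance, inferInstance,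
    perm (S κ.dual), repPO κ (perm (S ρ)) (perm (S κ.dual)) j (ev κ) hj hi,
    inc₀ j (ev κ), toA j (ev κ) (cov ρ) hex,
    isEquivariant_inc₀ κ _ _ j (ev κ) hj hi,
    isEquivariant_toA κ _ _ ρ j (ev κ) (cov ρ) hj hi (isEquivariant_cov ρ) hex,
    inc₀_injective j (ev κ) Subtype.val_injective,
    toA_surjective j (ev κ) (cov ρ) hex (cov_surjective ρ),
    range_inc₀ j (ev κ) (cov ρ) hex,
    isPermutation_perm,
    isFlasque_ext (perm (S ρ)) _ (quotRep κ (perm (S κ.dual)) (ev κ) hi) (inc₁ j (ev κ))
      (toF j (ev κ)) (isEquivariant_inc₁ κ _ _ j (ev κ) hj hi)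
      (isEquivariant_toF κ _ _ j (ev κ) hj hi) (inc₁_injective j (ev κ) (ev_injective κ))
      (range_inc₁ j (ev κ)) (toF_surjective j (ev κ)) isFlasque_perm (isFlasque_repFQ κ)⟩

end Groth.Agent.S18685
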