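import Groth.Statements.S18686
import Groth.Agent.Lib.Helper84.GLatFlasque

set_option autoImplicit false
open GLat

namespace Groth.Agent.S18686

/-- For a finite group G and a G-lattice A (finitely generated and free over ℤ) there is an exact
sequence 0 → A → P → F → 0 of G-lattices with P a permutation lattice and F flasque (a flasque
resolution of A); rendered by equivariant ℤ-linear maps i : A → P injective, π : P → F surjective,
with range i = ker π. -/
theorem result (G : Type) [Group G] [Finite G]
    (A : Type) [AddCommGroup A] [Module.Finite ℤ A] [Module.Free ℤ A] (ρ : Representation ℤ G A) :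
    ∃ (P : Type) (_ : AddCommGroup P) (F : Type) (_ : AddCommGroup F)
      (_ : Module.Finite ℤ P) (_ : Module.Free ℤ P) (_ : Module.Finite ℤ F) (_ : Module.Free ℤ F)
      (σ : Representation ℤ G P) (τ : Representation ℤ G F) (i : A →ₗ[ℤ] P) (π : P →ₗ[ℤ] F),
      GLat.IsEquivariant ρ σ i ∧ GLat.IsEquivariant σ τ π ∧ Function.Injective i ∧ Function.Surjective π ∧
      LinearMap.range i = LinearMap.ker π ∧ GLat.IsPermutation σ ∧ GLat.IsFlasque τ := by
  open Groth.Agent.Lib.Helper84.GLatRes in
  exact ⟨(S ρ.dual → ℤ), inferInstance, FQ ρ, inferInstance,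
    inferInstance, inferInstance, inferInstance, inferInstance,
    perm (S ρ.dual), repFQ ρ, ev ρ, (LinearMap.range (ev ρ)).mkQ,
    isEquivariant_ev ρ, isEquivariant_mkQ ρ (perm (S ρ.dual)) (ev ρ) (isEquivariant_ev ρ),
    ev_injective ρ, Submodule.mkQ_surjective _, (Submodule.ker_mkQ _).symm,
    isPermutation_perm, isFlasque_repFQ ρ⟩

end Groth.Agent.S18686
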