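import Groth.Statements.S18694
import Groth.Agent.Lib.Helper5.DSPts
import Groth.Agent.Lib.Helper6.WeilSmDict

set_option autoImplicit false
open CategoryTheory MonoidalCategory CartesianMonoidalCategory MonObj GrpObj AlgebraicGeometry
universe u
open MultTori

namespace Groth.Agent.S18694

section Helpers
open scoped TensorProduct
open Groth.Agent.Lib.Helper5.DSPts Groth.Agent.Lib.Helper6.WeilSmDict CategoryTheory.Limits

/-- units lift from the product of the residue rings of a semilocal base. -/
theorem exists_unit_lift {A R : Type*} [CommRing A] [CommRing R] [Algebra A R]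
    [Algebra.IsIntegral A R] [Finite (MaximalSpectrum A)]
    (Rm : MaximalSpectrum A → Type*) [∀ m, CommRing (Rm m)]
    (π : ∀ m, R →+* Rm m) (hπ : ∀ m, Function.Surjective (π m))
    (hk : ∀ m, RingHom.ker (π m) = Ideal.map (algebraMap A R) m.asIdeal)
    (v : ∀ m, Rm m) (hv : ∀ m, IsUnit (v m)) :
    ∃ w : R, IsUnit w ∧ ∀ m, π m w = v m := by
  classical
  let I : MaximalSpectrum A → Ideal R := fun m => Ideal.map (algebraMap A R) m.asIdeal
  have hI : Pairwise (Function.onFun IsCoprime I) := by
    intro m m' hne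
    have h1 : IsCoprime m.asIdeal m'.asIdeal := by
      rw [Ideal.isCoprime_iff_sup_eq]
      exact Ideal.IsMaximal.coprime_of_ne m.isMaximal m'.isMaximal
        (fun h => hne (MaximalSpectrum.ext h))
    change IsCoprime (I m) (I m')
    rw [Ideal.isCoprime_iff_sup_eq] at h1 ⊢
    change Ideal.map _ _ ⊔ Ideal.map _ _ = ⊤
    rw [← Ideal.map_sup, h1, Ideal.map_top]
  choose x hx using fun m => hπ m (v m)
  choose x' hx' using fun m => hπ m ((hv m).unit⁻¹ : (Rm m)ˣ)
  obtain ⟨r, hr⟩ := Ideal.exists_forall_sub_mem_ideal hI x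
  obtain ⟨r', hr'⟩ := Ideal.exists_forall_sub_mem_ideal hI x'
  have hπr : ∀ m, π m r = v m := fun m => by
    have : r - x m ∈ RingHom.ker (π m) := by rw [hk]; exact hr m
    rw [RingHom.mem_ker, map_sub, sub_eq_zero] at this
    rw [this, hx]
  have hπr' : ∀ m, π m r' = ((hv m).unit⁻¹ : (Rm m)ˣ) := fun m => by
    have : r' - x' m ∈ RingHom.ker (π m) := by rw [hk]; exact hr' m
    rw [RingHom.mem_ker, map_sub, sub_eq_zero] at this
    rw [this, hx']
  have hmem : ∀ m, r * r' - 1 ∈ I m := fun m => by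
    change _ ∈ Ideal.map (algebraMap A R) m.asIdeal
    rw [← hk, RingHom.mem_ker, map_sub, map_mul, map_one, hπr, hπr', sub_eq_zero]
    exact (hv m).mul_val_inv
  have hjac : r * r' - 1 ∈ Ideal.jacobson (⊥ : Ideal R) := by
    rw [Ideal.jacobson, Ideal.mem_sInf]
    rintro n ⟨-, hn⟩
    have hmax : (Ideal.comap (algebraMap A R) n).IsMaximal :=
      Ideal.isMaximal_comap_of_isIntegral_of_isMaximal n
    have := hmem ⟨_, hmax⟩
    exact Ideal.map_comap_le this
  have hu : IsUnit (r * r') := by
    have := Ideal.mem_jacobson_bot.mp hjac 1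
    simpa using this
  exact ⟨r, isUnit_of_mul_isUnit_left hu, hπr⟩

variable {A : Type u} [CommRing A] {B : Type u} [CommRing B] [Algebra A B]

/-- global sections of the base change of `Spec D`, identified with `B ⊗ D`. -/
noncomputable def gam (D : Type u) [CommRing D] [Algebra A D] :
    Γ(((Over.pullback (bb A B)).obj (TT A D)).left, ⊤) ⟶ CommRingCat.of (B ⊗[A] D) :=
  (kap B D).inv.appTop ≫ (Scheme.ΓSpecIso (CommRingCat.of (B ⊗[A] D))).hom

instance (D : Type u) [CommRing D] [Algebra A D] : IsIso (gam (A := A) (B := B) D) := by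
  unfold gam
  have : IsIso (kap (B := A) B D).inv.appTop :=
    ⟨(kap (B := A) B D).hom.appTop, by
      rw [← Scheme.Hom.comp_appTop, Iso.hom_inv_id, Scheme.Hom.id_appTop], by
      rw [← Scheme.Hom.comp_appTop, Iso.inv_hom_id, Scheme.Hom.id_appTop]⟩
  infer_instance

theorem gam_natural {W D : Type u} [CommRing W] [Algebra A W] [CommRing D] [Algebra A D]
    (φ : W →ₐ[A] D) :
    ((Over.pullback (bb A B)).map (alphaD φ)).left.appTop ≫ gam (A := A) (B := B) D =
      gam (A := A) (B := B) W ≫ CommRingCat.ofHom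
        ((Algebra.TensorProduct.map (AlgHom.id B B) φ : B ⊗[A] W →ₐ[B] B ⊗[A] D) :
          B ⊗[A] W →+* B ⊗[A] D) := by
  unfold gam
  rw [← Category.assoc, ← Scheme.Hom.comp_appTop, kap_natural, Scheme.Hom.comp_appTop,
    Category.assoc, Category.assoc, Scheme.ΓSpecIso_naturality]

variable {P : Over (Spec (CommRingCat.of A))}
  (q : Red.bc (bb A B) P ⟶ Red.Gm (Spec (CommRingCat.of B)))

/-- the unit of `B ⊗ D` attached to a `D`-valued point of `P`. -/
noncomputable def cD (D : Type u) [CommRing D] [Algebra A D] (t : TT A D ⟶ P) : B ⊗[A] D :=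
  (gam (A := A) (B := B) D).hom
    (charOfPt (WeilRes.restr (bb A B) q (TT A D) t) (Multiplicative.ofAdd (1 : ℤ)))

theorem isUnit_cD (D : Type u) [CommRing D] [Algebra A D] (t : TT A D ⟶ P) :
    IsUnit (cD q D t) :=
  (isUnit_charOfPt _ _).map _

theorem cD_comp {W D : Type u} [CommRing W] [Algebra A W] [CommRing D] [Algebra A D]
    (φ : W →ₐ[A] D) (t : TT A W ⟶ P) :
    cD q D (alphaD φ ≫ t) = Algebra.TensorProduct.map (AlgHom.id B B) φ (cD q W t) := by
  unfold cD
  rw [WeilRes.restr_comp, charOfPt_comp]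
  have h := congrArg (fun ψ => ψ.hom (charOfPt (WeilRes.restr (bb A B) q (TT A W) t)
    (Multiplicative.ofAdd (1 : ℤ)))) (gam_natural (A := A) (B := B) φ)
  exact h

theorem cD_injective (hP : WeilRes.IsWeilRes (bb A B) (Red.Gm (Spec (CommRingCat.of B))) P q)
    (D : Type u) [CommRing D] [Algebra A D] : Function.Injective (cD q D) := by
  intro t t' h
  unfold cD at h
  have h1 : Function.Injective (gam (A := A) (B := B) D).hom :=
    ((ConcreteCategory.isIso_iff_bijective (gam (A := A) (B := B) D)).mp inferInstance).1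
  have h2 := h1 h
  have h3 : charOfPt (WeilRes.restr (bb A B) q (TT A D) t) =
      charOfPt (WeilRes.restr (bb A B) q (TT A D) t') := MonoidHom.ext_mint h2
  exact (hP (TT A D)).1 (charOfPt_injective h3)

theorem cD_surjective (hP : WeilRes.IsWeilRes (bb A B) (Red.Gm (Spec (CommRingCat.of B))) P q)
    (D : Type u) [CommRing D] [Algebra A D] (w : B ⊗[A] D) (hw : IsUnit w) :
    ∃ t, cD q D t = w := by
  have hbij := (ConcreteCategory.isIso_iff_bijective (gam (A := A) (B := B) D)).mp inferInstance
  obtain ⟨w', hw'⟩ := hbij.2 w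
  have hu : IsUnit w' := by
    have : w' = (inv (gam (A := A) (B := B) D)).hom w := by
      rw [← hw']
      exact (congrArg (fun ψ => ψ.hom w') (IsIso.hom_inv_id (gam (A := A) (B := B) D))).symm
    rw [this]
    exact hw.map _
  let χ : Multiplicative ℤ →* Γ(((Over.pullback (bb A B)).obj (TT A D)).left, ⊤) :=
    (Units.coeHom _).comp (zpowersHom _ hu.unit)
  have hχ : χ (Multiplicative.ofAdd (1 : ℤ)) = w' := by
    simp [χ]
  obtain ⟨t, ht⟩ := (hP (TT A D)).2 (ptOfChar χ)
  refine ⟨t, ?_⟩
  unfold cD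
  rw [ht, charOfPt_ptOfChar, hχ]
  exact hw'

end Helpers

/-- In the case of the quasitrivial torus R_{B/A}(G_m), let A be a semilocal ring (finitely many maximal
ideals m, residue fields κ_m = A/m), B a finite étale A-algebra, and (P, q) a Weil restriction along
Spec B → Spec A of the multiplicative group over B (P an A-scheme with q : P ×_A B → G_{m,B}
universal). Then the reduction map P(A) → ∏_m P(κ_m) is surjective: every family (u_m) of κ_m-points
of P over the closed points of Spec A is the family of restrictions of one section of P over A. (The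
source states this for every invertible A-torus and reduces it to this case; the
invertible/quasitrivial notions are not available here, so only this case is stated.) -/
theorem result
    (A : Type u) [CommRing A] [Finite (MaximalSpectrum A)]
    (B : Type u) [CommRing B] [Algebra A B] [Module.Finite A B] [Algebra.Etale A B]
    (P : Over (Spec (CommRingCat.of A))) (q : Red.bc (Spec.map (CommRingCat.ofHom (algebraMap A B))) P ⟶ Red.Gm (Spec (CommRingCat.of B)))
    (hP : WeilRes.IsWeilRes (Spec.map (CommRingCat.ofHom (algebraMap A B))) (Red.Gm (Spec (CommRingCat.of B))) P q)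
    (u : ∀ m : MaximalSpectrum A, Spec (CommRingCat.of (A ⧸ m.asIdeal)) ⟶ P.left)
    (hu : ∀ m : MaximalSpectrum A, u m ≫ P.hom = (Spec.map (CommRingCat.ofHom (Ideal.Quotient.mk m.asIdeal)))) :
    ∃ s : Spec (CommRingCat.of A) ⟶ P.left, s ≫ P.hom = 𝟙 (Spec (CommRingCat.of A)) ∧
      ∀ m : MaximalSpectrum A, (Spec.map (CommRingCat.ofHom (Ideal.Quotient.mk m.asIdeal))) ≫ s = u m := by
  open scoped TensorProduct in
  open Groth.Agent.Lib.Helper5.DSPts Groth.Agent.Lib.Helper6.WeilSmDict CategoryTheory.Limits in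
  classical
  -- the points `u m` as morphisms over `Spec A`
  let tm : ∀ m : MaximalSpectrum A, TT A (A ⧸ m.asIdeal) ⟶ P := fun m => Over.homMk (u m) (hu m)
  -- reductions
  let π : ∀ m : MaximalSpectrum A, B ⊗[A] A →+* B ⊗[A] (A ⧸ m.asIdeal) := fun m =>
    ((Algebra.TensorProduct.map (AlgHom.id B B) (Ideal.Quotient.mkₐ A m.asIdeal) :
      B ⊗[A] A →ₐ[B] B ⊗[A] (A ⧸ m.asIdeal)) : B ⊗[A] A →+* B ⊗[A] (A ⧸ m.asIdeal))
  have hπ : ∀ m, Function.Surjective (π m) := fun m =>
    Algebra.TensorProduct.map_surjective _ _ Function.surjective_id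
      (Ideal.Quotient.mkₐ_surjective A m.asIdeal)
  have hinc : ((Algebra.TensorProduct.includeRight : A →ₐ[A] B ⊗[A] A) : A →+* B ⊗[A] A) =
      algebraMap A (B ⊗[A] A) := by
    ext a
    exact (Algebra.TensorProduct.includeRight : A →ₐ[A] B ⊗[A] A).commutes a
  have hk : ∀ m : MaximalSpectrum A,
      RingHom.ker (π m) = Ideal.map (algebraMap A (B ⊗[A] A)) m.asIdeal := fun m => by
    have h1 := Algebra.TensorProduct.lTensor_ker (A := B) (Ideal.Quotient.mkₐ A m.asIdeal)
      (Ideal.Quotient.mkₐ_surjective A m.asIdeal)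
    have h2 : RingHom.ker (Ideal.Quotient.mkₐ A m.asIdeal) = m.asIdeal :=
      Ideal.Quotient.mkₐ_ker A m.asIdeal
    rw [h2] at h1
    rw [← hinc]
    exact h1
  obtain ⟨w, hw, hwv⟩ := exists_unit_lift (A := A) (R := B ⊗[A] A)
    (fun m => B ⊗[A] (A ⧸ m.asIdeal)) π hπ hk (fun m => cD q _ (tm m))
    (fun m => isUnit_cD q _ (tm m))
  obtain ⟨t, ht⟩ := cD_surjective q hP A w hw
  refine ⟨t.left, ?_, fun m => ?_⟩
  · have h1 := Over.w t
    have h2 : (TT A A).hom = 𝟙 (Spec (CommRingCat.of A)) := by
      change Spec.map (CommRingCat.ofHom (algebraMap A A)) = _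
      rw [Algebra.algebraMap_self, CommRingCat.ofHom_id, Spec.map_id]
    rw [← h2]
    exact h1
  · have h1 : alphaD (Ideal.Quotient.mkₐ A m.asIdeal) ≫ t = tm m := by
      apply cD_injective q hP
      rw [cD_comp, ht]
      exact hwv m
    exact congrArg (fun s => CommaMorphism.left s) h1

end Groth.Agent.S18694
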