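import Groth.Statements.S18701
import Mathlib
import Groth.Agent.Lib.Helper67.SkEmb
import Groth.Agent.Lib.Helper56.DepthAss

set_option autoImplicit false
universe u
open QGor

namespace Groth.Agent.S18701

open LocCoh

section
variable {A : Type u} [CommRing A] [IsNoetherianRing A]

theorem mem_ass_of_depth_zero (M : Type u) [AddCommGroup M] [Module A M] [Module.Finite A M]
    (p : Ideal A) [p.IsPrime]
    (hd : depth (Localization.AtPrime p) (LocalizedModule p.primeCompl M) = 0) :
    p ∈ associatedPrimes A M := by
  have hmax := (Groth.Agent.Lib.Helper67.depth_eq_zero_iff _).mp hd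
  have hpre := Module.associatedPrimes.preimage_comap_associatedPrimes_eq_associatedPrimes_of_isLocalizedModule
    p.primeCompl (Localization.AtPrime p) (LocalizedModule.mkLinearMap p.primeCompl M)
  have hmem : (IsLocalRing.maximalIdeal (Localization.AtPrime p)).comap
      (algebraMap A (Localization.AtPrime p)) ∈ associatedPrimes A M := by
    have : IsLocalRing.maximalIdeal (Localization.AtPrime p) ∈
        (Ideal.comap (algebraMap A (Localization.AtPrime p))) ⁻¹' (associatedPrimes A M) := by
      rw [hpre]; exact hmax
    exact this
  have hcm : (IsLocalRing.maximalIdeal (Localization.AtPrime p)).comap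
      (algebraMap A (Localization.AtPrime p)) = p :=
    IsLocalization.AtPrime.comap_maximalIdeal (Localization.AtPrime p) p
  rwa [hcm] at hmem

theorem supportDim_le_zero_of_min_one {s : WithBot ℕ∞}
    (h : min ((1 : ℕ) : WithBot ℕ∞) s ≤ (((0 : ℕ∞)) : WithBot ℕ∞)) : s ≤ 0 := by
  rcases le_total ((1 : ℕ) : WithBot ℕ∞) s with h2 | h2
  · rw [min_eq_left h2] at h
    exact absurd h (by decide)
  · rw [min_eq_right h2] at h
    exact h

theorem natCast_le_coe {k : ℕ} {d : ℕ∞} (h : (k : ℕ∞) ≤ d) :
    ((k : ℕ) : WithBot ℕ∞) ≤ ((d : ℕ∞) : WithBot ℕ∞) := by exact_mod_cast h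

theorem natCast_le_of_coe {k : ℕ} {d : ℕ∞}
    (h : ((k : ℕ) : WithBot ℕ∞) ≤ ((d : ℕ∞) : WithBot ℕ∞)) : (k : ℕ∞) ≤ d := by exact_mod_cast h

omit [IsNoetherianRing A] in
theorem supportDim_loc_le_of_injective {M N : Type u} [AddCommGroup M] [Module A M]
    [AddCommGroup N] [Module A N] (f : M →ₗ[A] N) (hf : Function.Injective f)
    (p : Ideal A) [p.IsPrime] :
    Module.supportDim (Localization.AtPrime p) (LocalizedModule p.primeCompl M) ≤
      Module.supportDim (Localization.AtPrime p) (LocalizedModule p.primeCompl N) :=
  Module.supportDim_le_of_injective (LocalizedModule.map p.primeCompl f)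
    (LocalizedModule.map_injective p.primeCompl f hf)

/-- the (S_1) part, at a prime where the depth of the submodule vanishes. -/
theorem sk_of_depth_zero (k : ℕ) (E0 : Type u) [AddCommGroup E0] [Module A E0] [Module.Finite A E0]
    (G : Submodule A E0) (h1 : HasSk 1 A E0) (p : Ideal A) [p.IsPrime]
    (hd : depth (Localization.AtPrime p) (LocalizedModule p.primeCompl G) = 0) :
    min (k : WithBot ℕ∞)
        (Module.supportDim (Localization.AtPrime p) (LocalizedModule p.primeCompl G)) ≤
      ((depth (Localization.AtPrime p) (LocalizedModule p.primeCompl G) : ℕ∞) : WithBot ℕ∞) := by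
  have hpG := mem_ass_of_depth_zero G p hd
  have hpE : p ∈ associatedPrimes A E0 :=
    associatedPrimes.subset_of_injective (f := G.subtype) G.injective_subtype hpG
  have h0 := Groth.Agent.Lib.Helper56.depth_localizedModule_eq_zero_of_mem_associatedPrimes hpE
  have hS := h1 p
  rw [h0] at hS
  have hE := supportDim_le_zero_of_min_one hS
  have hG := (supportDim_loc_le_of_injective G.subtype G.injective_subtype p).trans hE
  rw [hd]
  exact (min_le_right _ _).trans hG

end

/-- Affine form. Let A be a Noetherian ring and G the kernel of a linear map u : E⁰ → E¹ of finite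
A-modules. If E⁰ has (S_1) then G has (S_1). If Supp G ⊆ Supp E¹, E¹ has (S_1) and E⁰ has (S_2),
then G has (S_2). -/
theorem result (A : Type u) [CommRing A] [IsNoetherianRing A]
    (E0 E1 : Type u) [AddCommGroup E0] [Module A E0] [Module.Finite A E0] [AddCommGroup E1] [Module A E1]
    [Module.Finite A E1] (u : E0 →ₗ[A] E1) :
    (LocCoh.HasSk 1 A E0 → LocCoh.HasSk 1 A (LinearMap.ker u)) ∧
    (Module.support A (LinearMap.ker u) ⊆ Module.support A E1 → LocCoh.HasSk 1 A E1 → LocCoh.HasSk 2 A E0 →
      LocCoh.HasSk 2 A (LinearMap.ker u)) := by
  constructor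
  · intro h1 p hp
    by_cases hd : depth (Localization.AtPrime p) (LocalizedModule p.primeCompl (LinearMap.ker u)) = 0
    · exact sk_of_depth_zero 1 E0 (LinearMap.ker u) h1 p hd
    · have h1' : (1 : ℕ∞) ≤ depth (Localization.AtPrime p)
          (LocalizedModule p.primeCompl (LinearMap.ker u)) :=
        Order.one_le_iff_pos.mpr (pos_iff_ne_zero.mpr hd)
      refine le_trans (min_le_left _ _) ?_
      exact_mod_cast h1'
  · intro hsupp hE1 hE0 p hp
    have h1 : HasSk 1 A E0 := Groth.Agent.Lib.Helper56.hasSk_mono (by norm_num) hE0
    by_cases hd : depth (Localization.AtPrime p) (LocalizedModule p.primeCompl (LinearMap.ker u)) = 0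
    · exact sk_of_depth_zero 2 E0 (LinearMap.ker u) h1 p hd
    by_cases hd2 : ((2 : ℕ) : ℕ∞) ≤ depth (Localization.AtPrime p)
        (LocalizedModule p.primeCompl (LinearMap.ker u))
    · exact le_trans (min_le_left _ _) (natCast_le_coe hd2)
    -- depth = 1
    have hd1 : depth (Localization.AtPrime p) (LocalizedModule p.primeCompl (LinearMap.ker u)) = 1 := by
      rw [not_le] at hd2
      obtain ⟨n, hn⟩ := ENat.ne_top_iff_exists.mp (ne_top_of_lt hd2)
      rw [← hn] at hd hd2 ⊢
      have h2 : n < 2 := by exact_mod_cast hd2
      have h0 : n ≠ 0 := by intro h; apply hd; rw [h]; rfl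
      have : n = 1 := by omega
      rw [this]; rfl
    -- it suffices to bound the dimension by one
    suffices hdim : Module.supportDim (Localization.AtPrime p)
        (LocalizedModule p.primeCompl (LinearMap.ker u)) ≤ 1 by
      rw [hd1]
      exact (min_le_right _ _).trans hdim
    -- the short exact sequence
    let f : LinearMap.ker u →ₗ[A] E0 := (LinearMap.ker u).subtype
    let g : E0 →ₗ[A] LinearMap.range u := u.rangeRestrict
    have hf : Function.Injective f := (LinearMap.ker u).injective_subtype
    have hg : Function.Surjective g := u.surjective_rangeRestrict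
    have hfg : Function.Exact f g := by
      rw [LinearMap.exact_iff, LinearMap.ker_rangeRestrict, Submodule.range_subtype]
    have hdl := Groth.Agent.Lib.Helper67.idealDepth_left_ge
      (IsLocalRing.maximalIdeal (Localization.AtPrime p))
      (LocalizedModule p.primeCompl (LinearMap.ker u)) (LocalizedModule p.primeCompl E0)
      (LocalizedModule p.primeCompl (LinearMap.range u))
      (LocalizedModule.map p.primeCompl f) (LocalizedModule.map p.primeCompl g)
      (LocalizedModule.map_injective p.primeCompl f hf)
      (LocalizedModule.map_surjective p.primeCompl g hg)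
      (LocalizedModule.map_exact p.primeCompl f g hfg)
    change min (depth (Localization.AtPrime p) (LocalizedModule p.primeCompl E0))
      (depth (Localization.AtPrime p) (LocalizedModule p.primeCompl (LinearMap.range u)) + 1) ≤
      depth (Localization.AtPrime p) (LocalizedModule p.primeCompl (LinearMap.ker u)) at hdl
    rw [hd1, min_le_iff] at hdl
    rcases hdl with hdE | hdC
    · -- depth E0_p ≤ 1
      have hS := hE0 p
      have hsE : Module.supportDim (Localization.AtPrime p) (LocalizedModule p.primeCompl E0) ≤ 1 := by
        rcases le_total ((2 : ℕ) : WithBot ℕ∞)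
          (Module.supportDim (Localization.AtPrime p) (LocalizedModule p.primeCompl E0)) with h2 | h2
        · rw [min_eq_left h2] at hS
          exfalso
          have : ((2 : ℕ) : ℕ∞) ≤ depth (Localization.AtPrime p) (LocalizedModule p.primeCompl E0) :=
            natCast_le_of_coe hS
          have := this.trans hdE
          exact absurd this (by decide)
        · rw [min_eq_right h2] at hS
          refine hS.trans ?_
          exact_mod_cast hdE
      exact (supportDim_loc_le_of_injective f hf p).trans hsE
    · -- depth C_p = 0
      have hdC0 : depth (Localization.AtPrime p)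
          (LocalizedModule p.primeCompl (LinearMap.range u)) = 0 := by
        have h := (ENat.add_le_add_iff_right ENat.one_ne_top).mp (by simpa using hdC :
          depth (Localization.AtPrime p) (LocalizedModule p.primeCompl (LinearMap.range u)) + 1 ≤ 0 + 1)
        exact le_antisymm h bot_le
      have hpC := mem_ass_of_depth_zero (LinearMap.range u) p hdC0
      have hpE1 : p ∈ associatedPrimes A E1 :=
        associatedPrimes.subset_of_injective (f := (LinearMap.range u).subtype)
          (LinearMap.range u).injective_subtype hpC
      have h0 := Groth.Agent.Lib.Helper56.depth_localizedModule_eq_zero_of_mem_associatedPrimes hpE1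
      have hS := hE1 p
      rw [h0] at hS
      have hsE1 := supportDim_le_zero_of_min_one hS
      have hpmin := Groth.Agent.Lib.Helper67.mem_minimalPrimes_of_supportDim_localization_le_zero E1 p
        (Groth.Agent.Lib.Helper67.annihilator_le_of_mem_associatedPrimes hpE1) hsE1
      -- p is minimal over ann G
      have hnt : Nontrivial (LocalizedModule p.primeCompl (LinearMap.ker u)) := by
        by_contra hcon
        rw [not_nontrivial_iff_subsingleton] at hcon
        have := Groth.Agent.Lib.Helper56.depth_eq_top_of_subsingleton (R := Localization.AtPrime p)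
          (LocalizedModule p.primeCompl (LinearMap.ker u))
        rw [hd1] at this
        exact absurd this (by decide)
      have hpsupp : (⟨p, hp⟩ : PrimeSpectrum A) ∈ Module.support A (LinearMap.ker u) :=
        Module.mem_support_iff.mpr hnt
      have hpminG : p ∈ (Module.annihilator A (LinearMap.ker u)).minimalPrimes := by
        refine ⟨⟨hp, Module.annihilator_le_of_mem_support hpsupp⟩, ?_⟩
        rintro q ⟨hq, hannq⟩ hqp
        have hqsupp : (⟨q, hq⟩ : PrimeSpectrum A) ∈ Module.support A (LinearMap.ker u) :=
          Module.mem_support_iff_of_finite.mpr hannq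
        have hq1 := hsupp hqsupp
        have hannE1 : Module.annihilator A E1 ≤ q := Module.mem_support_iff_of_finite.mp hq1
        exact hpmin.2 ⟨hq, hannE1⟩ hqp
      rw [Groth.Agent.Lib.Helper67.supportDim_localization_eq_zero_of_mem_minimalPrimes _ p hpminG]
      exact zero_le_one

end Groth.Agent.S18701
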