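import Groth.Statements.S18702
-- import your own Groth.Agent.* helpers here
import Groth.Agent.Lib.Helper85.Reflexive2
import Groth.Agent.Lib.Helper85.ZClosedSk
import Groth.Agent.Lib.Helper67.Depth2

set_option autoImplicit false
universe u
open QGor

namespace Groth.Agent.S18702

theorem support_self (R : Type u) [CommRing R] : Module.support R R = Set.univ := by
  rw [Set.eq_univ_iff_forall]
  intro p
  rw [Module.mem_support_iff_of_finite]
  intro x hx
  have := Module.mem_annihilator.mp hx 1
  simp at this
  rw [this]; exact zero_mem _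

/-- local estimate: for a reflexive module `G`, `min k (dim Supp G_q) ≤ depth G_q` when
`min k (ht q) ≤ depth A_q`, for `k = 1, 2`. -/
theorem local_bound (A : Type u) [CommRing A] [IsNoetherianRing A]
    (G : Type u) [AddCommGroup G] [Module A G] [Module.Finite A G] [Module.IsReflexive A G]
    (k : ℕ) (hk : k = 1 ∨ k = 2) (q : Ideal A) [q.IsPrime]
    (hA_q : min (k : ℕ∞) q.height ≤
      LocCoh.depth (Localization.AtPrime q) (Localization.AtPrime q)) :
    min (k : WithBot ℕ∞) (Module.supportDim (Localization.AtPrime q)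
      (LocalizedModule q.primeCompl G)) ≤
      ((LocCoh.depth (Localization.AtPrime q) (LocalizedModule q.primeCompl G) : ℕ∞) :
        WithBot ℕ∞) := by
  haveI := Groth.Agent.Lib.Helper85.Reflexive.isReflexive_localization q G
  let e : LocalizedModule q.primeCompl G ≃ₗ[Localization.AtPrime q]
      Module.Dual (Localization.AtPrime q)
        (Module.Dual (Localization.AtPrime q) (LocalizedModule q.primeCompl G)) :=
    LinearEquiv.ofBijective _ (Module.bijective_dual_eval (Localization.AtPrime q)
      (LocalizedModule q.primeCompl G))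
  have hcongr := Groth.Agent.Lib.Helper67.depth_congr e
  have hhom : min (k : ℕ∞) (LocCoh.depth (Localization.AtPrime q) (Localization.AtPrime q)) ≤
      LocCoh.depth (Localization.AtPrime q) (LocalizedModule q.primeCompl G) := by
    rw [hcongr]
    rcases hk with rfl | rfl
    · rw [Nat.cast_one, Groth.Agent.Lib.Helper85.ZClosed.sk1]
      exact fun h => Groth.Agent.Lib.Helper85.HomDepth.one_le_idealDepth_hom _ _ _ h
    · rw [Nat.cast_ofNat, Groth.Agent.Lib.Helper85.ZClosed.sk2]
      exact ⟨fun h => Groth.Agent.Lib.Helper85.HomDepth.two_le_idealDepth_hom _ _ _ h,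
        fun h => Groth.Agent.Lib.Helper85.HomDepth.one_le_idealDepth_hom _ _ _ h⟩
  have h3 : min (k : ℕ∞) q.height ≤
      LocCoh.depth (Localization.AtPrime q) (LocalizedModule q.primeCompl G) :=
    le_trans (le_min (min_le_left _ _) hA_q) hhom
  have h4 : Module.supportDim (Localization.AtPrime q) (LocalizedModule q.primeCompl G) ≤
      ((q.height : ℕ∞) : WithBot ℕ∞) := by
    rw [← IsLocalization.AtPrime.ringKrullDim_eq_height q (Localization.AtPrime q)]
    exact Module.supportDim_le_ringKrullDim _ _
  calc min (k : WithBot ℕ∞) (Module.supportDim (Localization.AtPrime q)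
        (LocalizedModule q.primeCompl G))
      ≤ min (((k : ℕ∞)) : WithBot ℕ∞) ((q.height : ℕ∞) : WithBot ℕ∞) :=
        min_le_min le_rfl h4
    _ = ((min (k : ℕ∞) q.height : ℕ∞) : WithBot ℕ∞) := (WithBot.coe_min _ _).symm
    _ ≤ _ := WithBot.coe_le_coe.mpr h3

/-- Affine form, for an arbitrary Noetherian ring A (not assumed to be a domain). Let I be an ideal and
G a finite reflexive A-module (the evaluation map into the double dual is bijective). For k = 1 and
k = 2: if depth_I A ≥ k then depth_I G ≥ k; and if A satisfies (S_k) then G satisfies (S_k). -/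
theorem result (A : Type u) [CommRing A] [IsNoetherianRing A] (I : Ideal A)
    (G : Type u) [AddCommGroup G] [Module A G] [Module.Finite A G] [Module.IsReflexive A G] :
    (1 ≤ LocCoh.idealDepth I A → 1 ≤ LocCoh.idealDepth I G) ∧
    (2 ≤ LocCoh.idealDepth I A → 2 ≤ LocCoh.idealDepth I G) ∧
    (LocCoh.HasSk 1 A A → LocCoh.HasSk 1 A G) ∧ (LocCoh.HasSk 2 A A → LocCoh.HasSk 2 A G) := by
  let e : G ≃ₗ[A] Module.Dual A (Module.Dual A G) :=
    LinearEquiv.ofBijective _ (Module.bijective_dual_eval A G)
  refine ⟨?_, ?_, ?_, ?_⟩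
  · intro h
    rw [Groth.Agent.Lib.Helper67.idealDepth_congr I e]
    exact Groth.Agent.Lib.Helper85.HomDepth.one_le_idealDepth_hom I _ A h
  · intro h
    rw [Groth.Agent.Lib.Helper67.idealDepth_congr I e]
    exact Groth.Agent.Lib.Helper85.HomDepth.two_le_idealDepth_hom I _ A h
  · intro hA q hq
    have hAsk := (Groth.Agent.Lib.Helper85.ZClosed.hasSk_iff (A := A) (M := A) (support_self A) 1).mp hA q
    exact local_bound A G 1 (Or.inl rfl) q hAsk
  · intro hA q hq
    have hAsk := (Groth.Agent.Lib.Helper85.ZClosed.hasSk_iff (A := A) (M := A) (support_self A) 2).mp hA q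
    exact local_bound A G 2 (Or.inr rfl) q hAsk

end Groth.Agent.S18702
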