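import Groth.Statements.S18704
-- import your own Groth.Agent.* helpers here
import Groth.Agent.Lib.Helper85.Reflexive
import Groth.Agent.Lib.Helper85.HomDepth
import Groth.Agent.Lib.Helper85.ZClosedSk
import Groth.Agent.Lib.Helper67.Depth2

set_option autoImplicit false
universe u
open QGor

namespace Groth.Agent.S18704

theorem support_self (R : Type u) [CommRing R] : Module.support R R = Set.univ := by
  rw [Set.eq_univ_iff_forall]
  intro p
  rw [Module.mem_support_iff_of_finite]
  intro x hx
  have := Module.mem_annihilator.mp hx 1
  simp at this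
  rw [this]; exact zero_mem _

/-- Affine form. Let A be a Noetherian ring with Serre's condition (S_2), I an ideal with ht I ≥ 2
(every prime containing I has height ≥ 2), and G a finite A-module with G_p reflexive for every
prime p not containing I. Then the following are equivalent: (i) G has (S_2) and dim Supp(G_p) ≥ 2
for every prime p ⊇ I in Supp G; (ii) depth_I G ≥ 2; (iii) G is reflexive. -/
theorem result (A : Type u) [CommRing A] [IsNoetherianRing A]
    (hA : LocCoh.HasSk 2 A A) (I : Ideal A) (hI : 2 ≤ I.height)
    (G : Type u) [AddCommGroup G] [Module A G] [Module.Finite A G]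
    (hU : ∀ p : PrimeSpectrum A, ¬ I ≤ p.asIdeal →
      Module.IsReflexive (Localization.AtPrime p.asIdeal) (LocalizedModule p.asIdeal.primeCompl G)) :
    ((LocCoh.HasSk 2 A G ∧ ∀ p : PrimeSpectrum A, I ≤ p.asIdeal → p ∈ Module.support A G →
        (2 : WithBot ℕ∞) ≤ Module.supportDim (Localization.AtPrime p.asIdeal) (LocalizedModule p.asIdeal.primeCompl G)) ↔
      2 ≤ LocCoh.idealDepth I G) ∧
    (2 ≤ LocCoh.idealDepth I G ↔ Module.IsReflexive A G) := by
  have hAsk := (Groth.Agent.Lib.Helper85.ZClosed.hasSk_iff (A := A) (M := A) (support_self A) 2).mp hA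
  have hP1 : 2 ≤ LocCoh.idealDepth I A := by
    rw [Groth.Agent.Lib.Helper67.idealDepth_eq_iInf_depth_localization I A]
    refine le_iInf₂ fun p hp => ?_
    exact le_trans (le_min le_rfl (hI.trans (Ideal.height_mono hp))) (hAsk p.asIdeal)
  refine ⟨⟨?_, ?_⟩, ⟨?_, ?_⟩⟩
  · rintro ⟨hSk, hdim⟩
    rw [Groth.Agent.Lib.Helper67.idealDepth_eq_iInf_depth_localization I G]
    refine le_iInf₂ fun p hp => ?_
    by_cases hsupp : p ∈ Module.support A G
    · have h1 := hSk p.asIdeal
      have h2 := hdim p hp hsupp
      have h3 : min ((2 : ℕ) : WithBot ℕ∞) (Module.supportDim (Localization.AtPrime p.asIdeal)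
          (LocalizedModule p.asIdeal.primeCompl G)) = ((2 : ℕ∞) : WithBot ℕ∞) := by
        rw [min_eq_left]
        · rfl
        · exact h2
      rw [h3] at h1
      exact_mod_cast h1
    · haveI : Subsingleton (LocalizedModule p.asIdeal.primeCompl G) :=
        Module.notMem_support_iff.mp hsupp
      rw [Groth.Agent.Lib.Helper56.depth_eq_top_of_subsingleton]
      exact le_top
  · intro h2
    have hdepthI : ∀ p : PrimeSpectrum A, I ≤ p.asIdeal → (2 : ℕ∞) ≤
        LocCoh.depth (Localization.AtPrime p.asIdeal) (LocalizedModule p.asIdeal.primeCompl G) :=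
      fun p hp => h2.trans
        (Groth.Agent.Lib.Helper67.idealDepth_le_depth_localization I G p.asIdeal hp)
    refine ⟨?_, ?_⟩
    · intro q hq
      by_cases hsub : Subsingleton (LocalizedModule q.primeCompl G)
      · rw [Groth.Agent.Lib.Helper56.depth_eq_top_of_subsingleton, WithBot.coe_top]
        exact le_top
      · by_cases hIq : I ≤ q
        · refine (min_le_left _ _).trans ?_
          have := hdepthI ⟨q, hq⟩ hIq
          exact WithBot.coe_le_coe.mpr this
        · haveI := hU ⟨q, hq⟩ hIq
          let e : LocalizedModule q.primeCompl G ≃ₗ[Localization.AtPrime q]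
              Module.Dual (Localization.AtPrime q)
                (Module.Dual (Localization.AtPrime q) (LocalizedModule q.primeCompl G)) :=
            LinearEquiv.ofBijective _ (Module.bijective_dual_eval (Localization.AtPrime q)
              (LocalizedModule q.primeCompl G))
          have hcongr := Groth.Agent.Lib.Helper67.depth_congr e
          have hA_q : min (2 : ℕ∞) q.height ≤
              LocCoh.depth (Localization.AtPrime q) (Localization.AtPrime q) := hAsk q
          have hhom : min (2 : ℕ∞) (LocCoh.depth (Localization.AtPrime q) (Localization.AtPrime q)) ≤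
              LocCoh.depth (Localization.AtPrime q) (LocalizedModule q.primeCompl G) := by
            rw [hcongr, Groth.Agent.Lib.Helper85.ZClosed.sk2]
            exact ⟨fun h => Groth.Agent.Lib.Helper85.HomDepth.two_le_idealDepth_hom _ _ _ h,
              fun h => Groth.Agent.Lib.Helper85.HomDepth.one_le_idealDepth_hom _ _ _ h⟩
          have h3 : min (2 : ℕ∞) q.height ≤
              LocCoh.depth (Localization.AtPrime q) (LocalizedModule q.primeCompl G) :=
            le_trans (le_min (min_le_left _ _) hA_q) hhom
          have h4 : Module.supportDim (Localization.AtPrime q) (LocalizedModule q.primeCompl G) ≤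
              ((q.height : ℕ∞) : WithBot ℕ∞) := by
            rw [← IsLocalization.AtPrime.ringKrullDim_eq_height q (Localization.AtPrime q)]
            exact Module.supportDim_le_ringKrullDim _ _
          calc min ((2 : ℕ) : WithBot ℕ∞) (Module.supportDim (Localization.AtPrime q)
                (LocalizedModule q.primeCompl G))
              ≤ min (((2 : ℕ∞)) : WithBot ℕ∞) ((q.height : ℕ∞) : WithBot ℕ∞) :=
                min_le_min le_rfl h4
            _ = ((min (2 : ℕ∞) q.height : ℕ∞) : WithBot ℕ∞) := (WithBot.coe_min _ _).symm
            _ ≤ _ := by exact_mod_cast h3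
    · intro p hp hsupp
      haveI : Nontrivial (LocalizedModule p.asIdeal.primeCompl G) :=
        Module.mem_support_iff.mp hsupp
      have h1 := hdepthI p hp
      calc (2 : WithBot ℕ∞) ≤ ((LocCoh.depth (Localization.AtPrime p.asIdeal)
            (LocalizedModule p.asIdeal.primeCompl G) : ℕ∞) : WithBot ℕ∞) := WithBot.coe_le_coe.mpr h1
        _ ≤ _ := Groth.Agent.Lib.Helper67.depth_le_supportDim _
  · intro h2
    exact Groth.Agent.Lib.Helper85.Reflexive.isReflexive_of_depth G I (le_trans (by norm_num) hP1) hU h2
  · intro hrefl
    let e : G ≃ₗ[A] Module.Dual A (Module.Dual A G) :=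
      LinearEquiv.ofBijective _ (Module.bijective_dual_eval A G)
    rw [Groth.Agent.Lib.Helper67.idealDepth_congr I e]
    exact Groth.Agent.Lib.Helper85.HomDepth.two_le_idealDepth_hom I _ A hP1

end Groth.Agent.S18704
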