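import Groth.Statements.S1871
import Mathlib
import Groth.Agent.Lib.Helper90.DiagRing4
import Groth.Agent.Lib.Helper90.IntMultDim4
import Groth.Agent.Lib.Helper90.IntMultGeom2
import Groth.Agent.Lib.Helper64.SubschemeStalk

set_option autoImplicit false
universe u
open CategoryTheory AlgebraicGeometry
attribute [local instance] HasDerivedCategory.standard
open IntMult

namespace Groth.Agent.S1871

lemma stalkIdeal_isPrime {X : Scheme.{u}} (I : X.IdealSheafData) [IsIntegral I.subscheme] (ξ : X)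
    (hξ : ξ ∈ I.support) : (IntMult.stalkIdeal I ξ).IsPrime := by
  have hr : ξ ∈ Set.range I.subschemeι := by rw [I.range_subschemeι]; exact hξ
  obtain ⟨z, rfl⟩ := hr
  obtain ⟨U, hU⟩ := Groth.Agent.Lib.Helper64.StalkIdeal.exists_affine_nhd (I.subschemeι z)
  rw [Groth.Agent.Lib.Helper90.IntMultGeom.stalkIdeal_eq,
    Groth.Agent.Lib.Helper64.StalkIdeal.stalkIdeal_eq I U _ hU]
  haveI : IsDomain (X.presheaf.stalk (I.subschemeι z) ⧸
      (I.ideal U).map (X.presheaf.germ U.1 (I.subschemeι z) hU).hom) :=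
    (Groth.Agent.Lib.Helper64.SubschemeStalk.stalkEquiv I U z hU).toMulEquiv.isDomain _
  exact (Ideal.Quotient.isDomain_iff_prime _).mp inferInstance

/-- Positivity of intersection multiplicities. Let X be a nonsingular variety of dimension n over an
algebraically closed field K (X integral, smooth, separated and quasi-compact over K), and V, W
integral closed subschemes of X, given by quasi-coherent ideal sheaves, of dimensions r and s, which
intersect properly (if V ∩ W is nonempty then n ≤ r + s and dim(V ∩ W) ≤ r + s − n). Let ξ be the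
generic point of an irreducible component Z of V ∩ W, i.e. a point of V ∩ W such that every point of
V ∩ W specializing to ξ equals ξ. Then the intersection multiplicity e(X, V·W, Z) = ∑_i (−1)^i
length_{O_{X,ξ}} Tor_i^{O_{X,ξ}}(O_{X,ξ}/I_{W,ξ}, O_{X,ξ}/I_{V,ξ}) is positive. -/
theorem result (K : Type u) [Field K] [IsAlgClosed K] (X : Scheme.{u}) (f : X ⟶ Spec (CommRingCat.of K)) [Smooth f] [IsSeparated f] [QuasiCompact f] [IsIntegral X] (IV IW : X.IdealSheafData) [IsIntegral IV.subscheme] [IsIntegral IW.subscheme] (n r s : ℕ) (hn : topologicalKrullDim X = n) (hr : topologicalKrullDim IV.support = r) (hs : topologicalKrullDim IW.support = s) (hprop : IntMult.ProperInt (IV.support : Set X) (IW.support : Set X) n r s) (ξ : X) (hξV : ξ ∈ IV.support) (hξW : ξ ∈ IW.support) (hmax : ∀ ξ' : X, ξ' ∈ IV.support → ξ' ∈ IW.support → ξ' ⤳ ξ → ξ' = ξ) : 0 < IntMult.mult IV IW ξ := by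
  haveI : IsLocallyNoetherian X := LocallyOfFiniteType.isLocallyNoetherian f
  obtain ⟨N, aV, aW, hN, haV, haW, hle⟩ := Groth.Agent.Lib.Helper90.IntMultDim.dims_of_proper f IV IW
    n r s hn hr hs hprop ξ hξV hξW
  have hfl := Groth.Agent.Lib.Helper90.IntMultGeom.isFiniteLength_quot_sup IV IW ξ hmax
  obtain ⟨U, hξU⟩ := Groth.Agent.Lib.Helper64.StalkIdeal.exists_affine_nhd ξ
  have hU : IsAffineOpen U.1 := U.2
  letI : Algebra Γ(X, U.1) (X.presheaf.stalk ξ) :=
    TopCat.Presheaf.algebra_section_stalk X.presheaf ⟨ξ, hξU⟩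
  haveI hloc : IsLocalization.AtPrime (X.presheaf.stalk ξ) (hU.primeIdealOf ⟨ξ, hξU⟩).asIdeal :=
    hU.isLocalization_stalk ⟨ξ, hξU⟩
  haveI : IsLocalRing (X.presheaf.stalk ξ) := inferInstance
  -- the `K`-algebra structure on `Γ(X, U)`
  let e₀ : K ≃+* Γ(Spec (CommRingCat.of K), ⊤) :=
    (Scheme.ΓSpecIso (CommRingCat.of K)).symm.commRingCatIsoToRingEquiv
  have hle' : U.1 ≤ f ⁻¹ᵁ ⊤ := le_top
  have hsm : (f.appLE ⊤ U.1 hle').hom.Smooth := f.smooth_appLE (isAffineOpen_top _) hU hle'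
  have hφ : ((f.appLE ⊤ U.1 hle').hom.comp e₀.toRingHom).Smooth :=
    (RingHom.Smooth.of_bijective e₀.bijective).comp hsm
  letI : Algebra K Γ(X, U.1) := ((f.appLE ⊤ U.1 hle').hom.comp e₀.toRingHom).toAlgebra
  haveI : Algebra.Smooth K Γ(X, U.1) := hφ
  haveI : Nonempty U.1 := ⟨⟨ξ, hξU⟩⟩
  haveI : IsDomain Γ(X, U.1) := inferInstance
  haveI h𝔭' := stalkIdeal_isPrime IV ξ hξV
  haveI h𝔮' := stalkIdeal_isPrime IW ξ hξW
  have hcomapmax := IsLocalization.AtPrime.comap_maximalIdeal (X.presheaf.stalk ξ)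
    (hU.primeIdealOf ⟨ξ, hξU⟩).asIdeal
  have h𝔭map := IsLocalization.map_comap (hU.primeIdealOf ⟨ξ, hξU⟩).asIdeal.primeCompl
    (X.presheaf.stalk ξ) (IntMult.stalkIdeal IV ξ)
  have h𝔮map := IsLocalization.map_comap (hU.primeIdealOf ⟨ξ, hξU⟩).asIdeal.primeCompl
    (X.presheaf.stalk ξ) (IntMult.stalkIdeal IW ξ)
  have h𝔭P : (IntMult.stalkIdeal IV ξ).comap (algebraMap Γ(X, U.1) (X.presheaf.stalk ξ)) ≤
      (hU.primeIdealOf ⟨ξ, hξU⟩).asIdeal := by
    rw [← hcomapmax]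
    exact Ideal.comap_mono (IsLocalRing.le_maximalIdeal h𝔭'.ne_top)
  have h𝔮P : (IntMult.stalkIdeal IW ξ).comap (algebraMap Γ(X, U.1) (X.presheaf.stalk ξ)) ≤
      (hU.primeIdealOf ⟨ξ, hξU⟩).asIdeal := by
    rw [← hcomapmax]
    exact Ideal.comap_mono (IsLocalRing.le_maximalIdeal h𝔮'.ne_top)
  have key := Groth.Agent.Lib.Helper90.DiagRing.chi_pos K Γ(X, U.1)
    (hU.primeIdealOf ⟨ξ, hξU⟩).asIdeal
    ((IntMult.stalkIdeal IV ξ).comap (algebraMap Γ(X, U.1) (X.presheaf.stalk ξ)))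
    ((IntMult.stalkIdeal IW ξ).comap (algebraMap Γ(X, U.1) (X.presheaf.stalk ξ)))
    (X.presheaf.stalk ξ) h𝔭P h𝔮P
    (by rw [h𝔭map, h𝔮map, sup_comm]; exact hfl)
    (by rw [h𝔭map, h𝔮map, hN, haV, haW]; exact_mod_cast hle)
  rw [h𝔭map, h𝔮map] at key
  exact key

end Groth.Agent.S1871
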