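import Groth.Statements.S18711
-- import your own Groth.Agent.* helpers here
import Groth.Agent.Lib.Helper85.KollarBC2
import Groth.Agent.S18700

set_option autoImplicit false
universe u
open QGor

namespace Groth.Agent.S18711

open TensorProduct in
/-- Affine form. Let A → B be a flat homomorphism of Noetherian rings, J an ideal of B such that for
every prime q ⊇ J with contraction p the fibre local ring B_q/pB_q has depth ≥ 2, A → A′ a
homomorphism of Noetherian rings and B′ = A′ ⊗_A B the (Noetherian) pushout. Let 0 → F → E⁰ → E¹ → G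
→ 0 be an exact sequence of finite B-modules with E⁰, E¹ projective and F_q, G_q free for every
prime q not containing J. Then F is reflexive; the kernel K′ of B′ ⊗_B E⁰ → B′ ⊗_B E¹ is a reflexive
B′-module with depth_{JB′} K′ ≥ 2 (so it is the module of sections of the pull-back of F off
V(JB′)); and K′ is flat over A′ with depth ≥ 2 along JB′ on every fibre stalk K′_{q′}/p′K′_{q′} if
and only if B′ ⊗_B G is flat over A′. (The published statement phrases the last left-hand condition
as the relative S₂ condition of K′ over A′; the two agree when the fibres of Spec B′ → Spec A′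
satisfy S₂ off V(JB′), and without that the relative S₂ form fails already for A = A′ a field, J =
B, F = E⁰ = B not S₂ and E¹ = G = 0, so the fibrewise-depth form, which is what the proof
establishes, is stated.) -/
theorem result (A B : Type u) [CommRing A] [CommRing B] [IsNoetherianRing A] [IsNoetherianRing B] [Algebra A B]
    (A' B' : Type u) [CommRing A'] [CommRing B'] [IsNoetherianRing A'] [IsNoetherianRing B']
    [Algebra A A'] [Algebra B B'] [Algebra A' B'] [Algebra A B'] [IsScalarTower A B B'] [IsScalarTower A A' B']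
    [Algebra.IsPushout A B A' B'] [Module.Flat A B] (J : Ideal B)
    (hZ : ∀ q : PrimeSpectrum B, J ≤ q.asIdeal →
      2 ≤ LocCoh.idealDepth (q.asIdeal.map (algebraMap B (EGA4.FibLocRing A B q.asIdeal))) (EGA4.FibLocRing A B q.asIdeal))
    (F E0 E1 G : Type u) [AddCommGroup F] [Module B F] [Module.Finite B F]
    [AddCommGroup E0] [Module B E0] [Module.Finite B E0] [Module.Projective B E0]
    [AddCommGroup E1] [Module B E1] [Module.Finite B E1] [Module.Projective B E1]
    [AddCommGroup G] [Module B G] [Module.Finite B G]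
    (f : F →ₗ[B] E0) (u : E0 →ₗ[B] E1) (v : E1 →ₗ[B] G)
    (hf : Function.Injective f) (hfu : Function.Exact f u) (huv : Function.Exact u v) (hv : Function.Surjective v)
    (hFU : ∀ q : PrimeSpectrum B, ¬ J ≤ q.asIdeal → Module.Free (Localization.AtPrime q.asIdeal) (LocalizedModule q.asIdeal.primeCompl F))
    (hGU : ∀ q : PrimeSpectrum B, ¬ J ≤ q.asIdeal → Module.Free (Localization.AtPrime q.asIdeal) (LocalizedModule q.asIdeal.primeCompl G)) :
    Module.IsReflexive B F ∧
    Module.IsReflexive B' (LinearMap.ker (u.baseChange B')) ∧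
    2 ≤ LocCoh.idealDepth (J.map (algebraMap B B')) (LinearMap.ker (u.baseChange B')) ∧
    ((∀ q' : PrimeSpectrum B', FlatCA.FlatAt A' q'.asIdeal (LinearMap.ker (u.baseChange B')) ∧
        2 ≤ LocCoh.idealDepth ((J.map (algebraMap B B')).map (algebraMap B' (EGA4.FibLocRing A' B' q'.asIdeal)))
          (EGA4.FibLocMod A' B' q'.asIdeal (LinearMap.ker (u.baseChange B')))) ↔
      Module.Flat A' (B' ⊗[B] G)) := by
  open Groth.Agent.Lib.Helper85 in
  have hB : 2 ≤ LocCoh.idealDepth J B := FibreDepth.le_idealDepth_self A B J 2 hZ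
  have hflat' : Module.Flat A' B' :=
    Module.Flat.of_linearEquiv (FibreBC.pe A B A' B').symm.toLinearEquiv
  have hZ' := FibreBC.fibre_depth_baseChange A B A' B' J 2 hZ
  have hB' : 2 ≤ LocCoh.idealDepth (J.map (algebraMap B B')) B' :=
    FibreDepth.le_idealDepth_self A' B' _ 2 hZ'
  -- (1) F reflexive
  have hE0 : 2 ≤ LocCoh.idealDepth J E0 := by
    have := KollarBC.le_idealDepth_of_flat (R := B) E0 J 2 (by exact_mod_cast hB)
    exact_mod_cast this
  have hE1 : 1 ≤ LocCoh.idealDepth J E1 := by
    have := KollarBC.le_idealDepth_of_flat (R := B) E1 J 1 (le_trans (by norm_num) hB)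
    exact_mod_cast this
  have hker := (Groth.Agent.S18700.result B J E0 E1 u).2 hE0 hE1
  have hrange : LinearMap.range f = LinearMap.ker u := (LinearMap.exact_iff.1 hfu).symm
  let e : F ≃ₗ[B] LinearMap.ker u :=
    (LinearEquiv.ofInjective f hf).trans (LinearEquiv.ofEq _ _ hrange)
  have hJF : 2 ≤ LocCoh.idealDepth J F := by
    rw [Groth.Agent.Lib.Helper67.idealDepth_congr J e]
    exact hker
  have hU : ∀ q : PrimeSpectrum B, ¬ J ≤ q.asIdeal →
      Module.IsReflexive (Localization.AtPrime q.asIdeal)
        (LocalizedModule q.asIdeal.primeCompl F) := by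
    intro q hq
    have := hFU q hq
    infer_instance
  have part1 : Module.IsReflexive B F :=
    Reflexive.isReflexive_of_depth F J (le_trans (by norm_num) hB) hU hJF
  -- (3) depth of the kernel
  have hE0' : 2 ≤ LocCoh.idealDepth (J.map (algebraMap B B')) (B' ⊗[B] E0) := by
    have := KollarBC.le_idealDepth_of_flat (R := B') (B' ⊗[B] E0) (J.map (algebraMap B B')) 2
      (by exact_mod_cast hB')
    exact_mod_cast this
  have hE1' : 1 ≤ LocCoh.idealDepth (J.map (algebraMap B B')) (B' ⊗[B] E1) := by
    have := KollarBC.le_idealDepth_of_flat (R := B') (B' ⊗[B] E1) (J.map (algebraMap B B')) 1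
      (le_trans (by norm_num) hB')
    exact_mod_cast this
  have part3 := (Groth.Agent.S18700.result B' (J.map (algebraMap B B')) (B' ⊗[B] E0) (B' ⊗[B] E1)
    (u.baseChange B')).2 hE0' hE1'
  -- exactness of the base change on the right
  have huv' : Function.Exact (u.baseChange B') (v.baseChange B') := by
    have := lTensor_exact B' huv hv
    exact this
  have hv' : Function.Surjective (v.baseChange B') := LinearMap.lTensor_surjective B' hv
  -- (2) reflexivity of the kernel
  have hU'' : ∀ q' : PrimeSpectrum B', ¬ J.map (algebraMap B B') ≤ q'.asIdeal →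
      Module.IsReflexive (Localization.AtPrime q'.asIdeal)
        (LocalizedModule q'.asIdeal.primeCompl (LinearMap.ker (u.baseChange B'))) := by
    intro q' hq'
    have := KollarBC.free_baseChange_off B B' J G hGU q' hq'
    exact KollarBC.isReflexive_localizedModule_ker q'.asIdeal (u.baseChange B') (v.baseChange B')
      huv' hv'
  have part2 : Module.IsReflexive B' (LinearMap.ker (u.baseChange B')) :=
    Reflexive.isReflexive_of_depth _ (J.map (algebraMap B B')) (le_trans (by norm_num) hB')
      hU'' part3
  refine ⟨part1, part2, part3, ?_⟩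
  -- (4) the flatness criterion
  have hfE0 : Module.Flat A' (B' ⊗[B] E0) := Module.Flat.trans A' B' _
  have hfE1 : Module.Flat A' (B' ⊗[B] E1) := Module.Flat.trans A' B' _
  have hf' : Function.Injective (LinearMap.ker (u.baseChange B')).subtype :=
    Submodule.injective_subtype _
  have hfu' : Function.Exact (LinearMap.ker (u.baseChange B')).subtype (u.baseChange B') :=
    LinearMap.exact_subtype_ker_map _
  constructor
  · intro h
    have hGU' : ∀ q' : PrimeSpectrum B', ¬ J.map (algebraMap B B') ≤ q'.asIdeal →
        FlatCA.FlatAt A' q'.asIdeal (B' ⊗[B] G) := by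
      intro q' hq'
      have := KollarBC.free_baseChange_off B B' J G hGU q' hq'
      unfold FlatCA.FlatAt
      exact Module.Flat.trans A' (Localization.AtPrime q'.asIdeal) _
    have h0' : ∀ q' : PrimeSpectrum B', J.map (algebraMap B B') ≤ q'.asIdeal →
        2 ≤ LocCoh.idealDepth (q'.asIdeal.map (algebraMap B' (EGA4.FibLocRing A' B' q'.asIdeal)))
          (EGA4.FibLocMod A' B' q'.asIdeal (B' ⊗[B] E0)) := by
      intro q' hq'
      have := KollarBC.le_fibreDepth_of_flat A' B' q'.asIdeal (B' ⊗[B] E0) 2
        (by exact_mod_cast hZ' q' hq')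
      exact_mod_cast this
    have hF' : ∀ q' : PrimeSpectrum B', J.map (algebraMap B B') ≤ q'.asIdeal →
        2 ≤ LocCoh.idealDepth (q'.asIdeal.map (algebraMap B' (EGA4.FibLocRing A' B' q'.asIdeal)))
          (EGA4.FibLocMod A' B' q'.asIdeal (LinearMap.ker (u.baseChange B'))) := by
      intro q' hq'
      exact KollarBC.le_idealDepth_of_le (Ideal.map_mono hq') _ 2 (h q').2
    exact KollarBC.flat_of_fibre_depth_all A' B' (J.map (algebraMap B B'))
      (LinearMap.ker (u.baseChange B')).subtype (u.baseChange B') (v.baseChange B')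
      hf' hfu' huv' hv' hGU' h0' hF'
  · intro hG' q'
    have hGq : FlatCA.FlatAt A' q'.asIdeal (B' ⊗[B] G) :=
      KollarFlat.flat_localizedModule (A := A') (B' ⊗[B] G) q'.asIdeal.primeCompl
    refine ⟨KollarLoc.flatAt_ker_of_flatAt A' B' q'.asIdeal
      (LinearMap.ker (u.baseChange B')).subtype (u.baseChange B') (v.baseChange B')
      hf' hfu' huv' hv' hGq, ?_⟩
    have hR := FibreJ.le_idealDepth_fibLocRing A' B' (J.map (algebraMap B B')) 2 hZ' q'.asIdeal
    have h0J : 2 ≤ LocCoh.idealDepth
        ((J.map (algebraMap B B')).map (algebraMap B' (EGA4.FibLocRing A' B' q'.asIdeal)))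
        (EGA4.FibLocMod A' B' q'.asIdeal (B' ⊗[B] E0)) := by
      have := KollarBC.le_fibreDepthI_of_flat A' B' q'.asIdeal (B' ⊗[B] E0) _ 2
        (by exact_mod_cast hR)
      exact_mod_cast this
    have h1J : 1 ≤ LocCoh.idealDepth
        ((J.map (algebraMap B B')).map (algebraMap B' (EGA4.FibLocRing A' B' q'.asIdeal)))
        (EGA4.FibLocMod A' B' q'.asIdeal (B' ⊗[B] E1)) := by
      have := KollarBC.le_fibreDepthI_of_flat A' B' q'.asIdeal (B' ⊗[B] E1) _ 1
        (le_trans (by norm_num) hR)
      exact_mod_cast this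
    exact KollarLoc.fibre_depthJ_of_flatAt A' B' q'.asIdeal
      (LinearMap.ker (u.baseChange B')).subtype (u.baseChange B') (v.baseChange B')
      hf' hfu' huv' hv' (J.map (algebraMap B B')) hGq h0J h1J

end Groth.Agent.S18711
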