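import Groth.Statements.S18718
-- import your own Groth.Agent.* helpers here
import Groth.Agent.Lib.Helper85.FibreBC
import Groth.Agent.Lib.Helper85.DDual
import Groth.Agent.S18707
import Groth.Agent.S18709
import Groth.Agent.Lib.Helper85.KollarBC

set_option autoImplicit false
universe u
open QGor

namespace Groth.Agent.S18718

open TensorProduct in
/-- Affine form. Let A → B be a flat homomorphism of Noetherian rings, J an ideal of B such that the
fibre local ring B_q/pB_q has depth ≥ 2 at every prime q ⊇ J (p its contraction), A → A′ a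
homomorphism of Noetherian rings with Noetherian pushout B′ = A′ ⊗_A B, and F a finite B-module with
F_q free for every prime q not containing J. Then depth_J (F^∨∨) ≥ 2 (the double dual is the module
of sections of F off V(J)); the natural map (B′ ⊗_B F)^∨∨ → (B′ ⊗_B F^∨∨)^∨∨ obtained by dualising
twice the base change of F → F^∨∨ is bijective; and if moreover F is flat over A and the fibre
stalks F_q/pF_q have depth ≥ 2 at all primes q ⊇ J, then F and B′ ⊗_B F are reflexive. -/
theorem result (A B : Type u) [CommRing A] [CommRing B] [IsNoetherianRing A] [IsNoetherianRing B] [Algebra A B]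
    (A' B' : Type u) [CommRing A'] [CommRing B'] [IsNoetherianRing A'] [IsNoetherianRing B']
    [Algebra A A'] [Algebra B B'] [Algebra A' B'] [Algebra A B'] [IsScalarTower A B B'] [IsScalarTower A A' B']
    [Algebra.IsPushout A B A' B'] [Module.Flat A B] (J : Ideal B)
    (hZ : ∀ q : PrimeSpectrum B, J ≤ q.asIdeal →
      2 ≤ LocCoh.idealDepth (q.asIdeal.map (algebraMap B (EGA4.FibLocRing A B q.asIdeal))) (EGA4.FibLocRing A B q.asIdeal))
    (F : Type u) [AddCommGroup F] [Module B F] [Module A F] [IsScalarTower A B F] [Module.Finite B F]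
    (hFU : ∀ q : PrimeSpectrum B, ¬ J ≤ q.asIdeal → Module.Free (Localization.AtPrime q.asIdeal) (LocalizedModule q.asIdeal.primeCompl F)) :
    2 ≤ LocCoh.idealDepth J (Module.Dual B (Module.Dual B F)) ∧
    Function.Bijective (((Module.Dual.eval B F).baseChange B').dualMap.dualMap) ∧
    (Module.Flat A F →
      (∀ q : PrimeSpectrum B, J ≤ q.asIdeal →
        2 ≤ LocCoh.idealDepth (q.asIdeal.map (algebraMap B (EGA4.FibLocRing A B q.asIdeal))) (EGA4.FibLocMod A B q.asIdeal F)) →
      Module.IsReflexive B F ∧ Module.IsReflexive B' (B' ⊗[B] F)) := by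
  open Groth.Agent.Lib.Helper85 in
  have hB : 2 ≤ LocCoh.idealDepth J B := FibreDepth.le_idealDepth_self A B J 2 hZ
  have hflat' : Module.Flat A' B' :=
    Module.Flat.of_linearEquiv (FibreBC.pe A B A' B').symm.toLinearEquiv
  have hZ' := FibreBC.fibre_depth_baseChange A B A' B' J 2 hZ
  have hB' : 2 ≤ LocCoh.idealDepth (J.map (algebraMap B B')) B' :=
    FibreDepth.le_idealDepth_self A' B' _ 2 hZ'
  have hU : ∀ q : PrimeSpectrum B, ¬ J ≤ q.asIdeal →
      Module.IsReflexive (Localization.AtPrime q.asIdeal)
        (LocalizedModule q.asIdeal.primeCompl F) := by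
    intro q hq
    have := hFU q hq
    infer_instance
  refine ⟨HomDepth.two_le_idealDepth_hom _ _ _ hB, ?_, ?_⟩
  · obtain ⟨n, hk, hc⟩ := DDual.exists_pow_ker_coker F J hU
    exact DDual.ddual_baseChange_bijective J (Module.Dual.eval B F) n hk hc hB'
  · intro hFflat hFd
    have hJF : 2 ≤ LocCoh.idealDepth J F :=
      Groth.Agent.S18707.le_idealDepth_of_fibres A B F J 2 hFd
    have hrefl : Module.IsReflexive B F :=
      Reflexive.isReflexive_of_depth F J (le_trans (by norm_num) hB) hU hJF
    refine ⟨hrefl, ?_⟩
    obtain ⟨n, m, g, h, hg, hgh, hGfree⟩ := Groth.Agent.S18709.result B J F hFU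
    have huv : Function.Exact h (LinearMap.range h).mkQ := LinearMap.exact_map_mkQ_range h
    have hv : Function.Surjective (LinearMap.range h).mkQ := Submodule.mkQ_surjective _
    have hflatE0 : Module.Flat A (Fin n → B) := by
      have e : (Π₀ _ : Fin n, B) ≃ₗ[A] (Fin n → B) := DFinsupp.linearEquivFunOnFintype
      exact Module.Flat.of_linearEquiv e.symm
    have hflatE1 : Module.Flat A (Fin m → B) := by
      have e : (Π₀ _ : Fin m, B) ≃ₗ[A] (Fin m → B) := DFinsupp.linearEquivFunOnFintype
      exact Module.Flat.of_linearEquiv e.symm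
    have hGU : ∀ q : PrimeSpectrum B, ¬ J ≤ q.asIdeal →
        FlatCA.FlatAt A q.asIdeal ((Fin m → B) ⧸ LinearMap.range h) := by
      intro q hq
      have := hGfree q hq
      unfold FlatCA.FlatAt
      exact Module.Flat.trans A (Localization.AtPrime q.asIdeal) _
    have h0 : ∀ q : PrimeSpectrum B, J ≤ q.asIdeal →
        2 ≤ LocCoh.idealDepth (q.asIdeal.map (algebraMap B (EGA4.FibLocRing A B q.asIdeal)))
          (EGA4.FibLocMod A B q.asIdeal (Fin n → B)) := by
      intro q hq
      have := KollarBC.le_fibreDepth_of_flat A B q.asIdeal (Fin n → B) 2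
        (by exact_mod_cast hZ q hq)
      exact_mod_cast this
    have hGflat : Module.Flat A ((Fin m → B) ⧸ LinearMap.range h) :=
      KollarBC.flat_of_fibre_depth_all A B J g h _ hg hgh huv hv hGU h0 hFd
    have hG' : 2 ≤ LocCoh.idealDepth (J.map (algebraMap B B')) (B' ⊗[B] F) :=
      KollarBC.two_le_idealDepth_baseChange A B A' B' g h _ hg hgh huv hv _ hB'
    have hU' : ∀ q' : PrimeSpectrum B', ¬ J.map (algebraMap B B') ≤ q'.asIdeal →
        Module.IsReflexive (Localization.AtPrime q'.asIdeal)
          (LocalizedModule q'.asIdeal.primeCompl (B' ⊗[B] F)) := by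
      intro q' hq'
      have := KollarBC.free_baseChange_off B B' J F hFU q' hq'
      infer_instance
    exact Reflexive.isReflexive_of_depth (B' ⊗[B] F) _ (le_trans (by norm_num) hB') hU' hG'

end Groth.Agent.S18718
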