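import Groth.Statements.S18725
-- import your own Groth.Agent.* helpers here
import Groth.Agent.Lib.Helper85.KollarLoc
import Groth.Agent.Lib.Helper55.FL.ModOpen

set_option autoImplicit false
universe u
open QGor

namespace Groth.Agent.S18725

/-- Affine form of the equivalence (c) ⇔ (d). Let A → B be a homomorphism of finite type between
Noetherian rings, J an ideal of B and 0 → F → E⁰ → E¹ → G → 0 an exact sequence of finite B-modules
such that E⁰, E¹ are flat over A, G_q is flat over A for every prime q not containing J, and for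
every prime q ⊇ J with contraction p the fibre stalk E⁰_q/pE⁰_q has depth ≥ 2 and E¹_q/pE¹_q has
depth ≥ 1. Then for a prime n of B the following are equivalent: G is flat over A at n; there is a
basic open neighbourhood D(s) of n such that at every prime q ∈ D(s) the module F is flat over A at
q and, if q ⊇ J, the fibre stalk F_q/pF_q has depth ≥ 2 (the restriction maps of the fibres of F off
V(J) are bijective on D(s)). -/
theorem result (A B : Type u) [CommRing A] [CommRing B]
    [IsNoetherianRing A] [IsNoetherianRing B] [Algebra A B] (hft : Algebra.FiniteType A B) (J : Ideal B)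
    (F E0 E1 G : Type u) [AddCommGroup F] [Module B F] [Module A F] [IsScalarTower A B F] [Module.Finite B F]
    [AddCommGroup E0] [Module B E0] [Module A E0] [IsScalarTower A B E0] [Module.Finite B E0] [Module.Flat A E0]
    [AddCommGroup E1] [Module B E1] [Module A E1] [IsScalarTower A B E1] [Module.Finite B E1] [Module.Flat A E1]
    [AddCommGroup G] [Module B G] [Module A G] [IsScalarTower A B G] [Module.Finite B G]
    (f : F →ₗ[B] E0) (u : E0 →ₗ[B] E1) (v : E1 →ₗ[B] G)
    (hf : Function.Injective f) (hfu : Function.Exact f u) (huv : Function.Exact u v) (hv : Function.Surjective v)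
    (hGU : ∀ q : PrimeSpectrum B, ¬ J ≤ q.asIdeal → FlatCA.FlatAt A q.asIdeal G)
    (h0 : ∀ q : PrimeSpectrum B, J ≤ q.asIdeal →
      2 ≤ LocCoh.idealDepth (q.asIdeal.map (algebraMap B (EGA4.FibLocRing A B q.asIdeal))) (EGA4.FibLocMod A B q.asIdeal E0))
    (h1 : ∀ q : PrimeSpectrum B, J ≤ q.asIdeal →
      1 ≤ LocCoh.idealDepth (q.asIdeal.map (algebraMap B (EGA4.FibLocRing A B q.asIdeal))) (EGA4.FibLocMod A B q.asIdeal E1))
    (n : PrimeSpectrum B) :
    FlatCA.FlatAt A n.asIdeal G ↔
      ∃ s : B, s ∉ n.asIdeal ∧ ∀ q : PrimeSpectrum B, s ∉ q.asIdeal →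
        FlatCA.FlatAt A q.asIdeal F ∧
        (J ≤ q.asIdeal →
          2 ≤ LocCoh.idealDepth (q.asIdeal.map (algebraMap B (EGA4.FibLocRing A B q.asIdeal))) (EGA4.FibLocMod A B q.asIdeal F)) := by
  open Groth.Agent.Lib.Helper85.KollarLoc in
  constructor
  · intro hG
    have : Algebra.FinitePresentation A B := Algebra.FinitePresentation.of_finiteType.mp hft
    have : Module.FinitePresentation B G := Module.finitePresentation_of_finite B G
    have hopen : IsOpen {q : PrimeSpectrum B |
        Module.Flat A (LocalizedModule q.asIdeal.primeCompl G)} :=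
      Groth.Agent.Lib.Helper55.FL.isOpen_flat_localizedModule_of_fp
    obtain ⟨V, ⟨s, rfl⟩, hnV, hVU⟩ :=
      PrimeSpectrum.isTopologicalBasis_basic_opens.exists_subset_of_mem_open
        (show n ∈ {q : PrimeSpectrum B |
          Module.Flat A (LocalizedModule q.asIdeal.primeCompl G)} from hG) hopen
    refine ⟨s, hnV, fun q hsq => ?_⟩
    have hGq : FlatCA.FlatAt A q.asIdeal G := hVU hsq
    refine ⟨flatAt_ker_of_flatAt A B q.asIdeal f u v hf hfu huv hv hGq, fun hJ => ?_⟩
    exact (fibre_depth_of_flatAt A B q.asIdeal f u v hf hfu huv hv hGq (h0 q hJ) (h1 q hJ)).2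
  · rintro ⟨s, hsn, hs⟩
    have key : ∀ (k : ℕ) (q : PrimeSpectrum B), s ∉ q.asIdeal → q.asIdeal.height = k →
        FlatCA.FlatAt A q.asIdeal G := by
      intro k
      induction k using Nat.strong_induction_on with
      | _ k ih =>
        intro q hsq hk
        by_cases hJ : J ≤ q.asIdeal
        · refine flatAt_of_fibre_depth A B q.asIdeal f u v hf hfu huv hv ?_ (h0 q hJ)
            ((hs q hsq).2 hJ)
          intro q' hlt
          have hfin : q'.asIdeal.height < q.asIdeal.height :=
            Ideal.height_strict_mono_of_isPrime_of_isPrime hlt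
          obtain ⟨m, hm⟩ := ENat.ne_top_iff_exists.mp
            (Ideal.height_ne_top_of_isPrime (I := q'.asIdeal))
          refine ih m ?_ q' (fun h => hsq (hlt.le h)) hm.symm
          rw [← hm, hk] at hfin
          exact_mod_cast hfin
        · exact hGU q hJ
    obtain ⟨m, hm⟩ := ENat.ne_top_iff_exists.mp
      (Ideal.height_ne_top_of_isPrime (I := n.asIdeal))
    exact key m n hsn hm.symm

end Groth.Agent.S18725
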