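import Groth.Statements.S1873
import Mathlib
import Groth.Agent.Lib.Helper90.IntMultCM
import Groth.Agent.Lib.Helper90.IntMultDim4
import Groth.Agent.Lib.Helper90.IntMultGeom2
import Groth.Agent.Lib.Helper90.RegSplit2
import Groth.Agent.Lib.Helper30.SmoothRegular
import Groth.Agent.Lib.Helper77.RegularCM

set_option autoImplicit false
universe u
open CategoryTheory AlgebraicGeometry
attribute [local instance] HasDerivedCategory.standard
open IntMult

namespace Groth.Agent.S1873

/-- If the multiplicity of Z in the closed subscheme V ∩ W is 1, i.e. length_{O_{X,ξ}}(O_{V∩W,ξ}) = 1,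
then e(X, V·W, Z) = 1 and the local rings O_{V,ξ}, O_{W,ξ} are regular (V and W are smooth at a
general point of Z). Here X is a nonsingular variety over an algebraically closed field K (smooth,
separated, of finite type, integral), V and W are closed subvarieties given by quasi-coherent ideal
sheaves with integral subschemes, of dimensions r and s with dim X = n, intersecting properly, and ξ
is the generic point of an irreducible component Z of V ∩ W; e(X, V·W, Z) is the alternating sum of
lengths of Tor over O_{X,ξ}. -/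
theorem result (K : Type u) [Field K] [IsAlgClosed K] (X : Scheme.{u}) (f : X ⟶ Spec (CommRingCat.of K)) [Smooth f] [IsSeparated f] [QuasiCompact f] [IsIntegral X] (IV IW : X.IdealSheafData) [IsIntegral IV.subscheme] [IsIntegral IW.subscheme] (n r s : ℕ) (hn : topologicalKrullDim X = n) (hr : topologicalKrullDim IV.support = r) (hs : topologicalKrullDim IW.support = s) (hprop : IntMult.ProperInt (IV.support : Set X) (IW.support : Set X) n r s) (ξ : X) (hξV : ξ ∈ IV.support) (hξW : ξ ∈ IW.support) (hmax : ∀ ξ' : X, ξ' ∈ IV.support → ξ' ∈ IW.support → ξ' ⤳ ξ → ξ' = ξ) (h1 : Module.length (X.presheaf.stalk ξ) (↑(X.presheaf.stalk ξ) ⧸ (IntMult.stalkIdeal IV ξ ⊔ IntMult.stalkIdeal IW ξ)) = 1) : IntMult.mult IV IW ξ = 1 ∧ IsRegularLocalRing (↑(X.presheaf.stalk ξ) ⧸ IntMult.stalkIdeal IV ξ) ∧ IsRegularLocalRing (↑(X.presheaf.stalk ξ) ⧸ IntMult.stalkIdeal IW ξ) := by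
  haveI : IsLocallyNoetherian X := LocallyOfFiniteType.isLocallyNoetherian f
  haveI hregO : IsRegularLocalRing (X.presheaf.stalk ξ) :=
    Groth.Agent.Lib.Helper30.SmoothRegular.stalk_regular_of_smooth_field K f ξ
  obtain ⟨N, aV, aW, hN, haV, haW, hle⟩ := Groth.Agent.Lib.Helper90.IntMultDim.dims_of_proper f IV IW
    n r s hn hr hs hprop ξ hξV hξW
  -- the sum of the two ideals is the maximal ideal
  have hsimple : IsSimpleModule (X.presheaf.stalk ξ)
      (↑(X.presheaf.stalk ξ) ⧸ (IntMult.stalkIdeal IV ξ ⊔ IntMult.stalkIdeal IW ξ)) :=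
    Module.length_eq_one_iff.mp h1
  have hmaxl : (IntMult.stalkIdeal IV ξ ⊔ IntMult.stalkIdeal IW ξ).IsMaximal := by
    rw [Ideal.isMaximal_def, ← isSimpleModule_iff_isCoatom]
    exact hsimple
  have hPQ : IntMult.stalkIdeal IV ξ ⊔ IntMult.stalkIdeal IW ξ =
      IsLocalRing.maximalIdeal (X.presheaf.stalk ξ) := IsLocalRing.eq_maximalIdeal hmaxl
  obtain ⟨hregV, hregW, c, g, hg, hreg, hc⟩ :=
    Groth.Agent.Lib.Helper90.RegSplit.split_regular (X.presheaf.stalk ξ) N hN
      (IntMult.stalkIdeal IV ξ) (IntMult.stalkIdeal IW ξ) hPQ aV aW haV haW hle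
  refine ⟨?_, hregV, hregW⟩
  have hCM : LocCoh.IsCohenMacaulayLocalRing (↑(X.presheaf.stalk ξ) ⧸ IntMult.stalkIdeal IW ξ) :=
    Groth.Agent.Lib.Helper77.RegularCM.isCohenMacaulayLocalRing _
  have hfl : IsFiniteLength (X.presheaf.stalk ξ)
      (↑(X.presheaf.stalk ξ) ⧸ (IntMult.stalkIdeal IW ξ ⊔ Ideal.span (Set.range g))) := by
    rw [← hg, sup_comm, ← Module.length_ne_top_iff, h1]
    exact ENat.one_ne_top
  have hc' : (c : WithBot ℕ∞) ≤ ringKrullDim (↑(X.presheaf.stalk ξ) ⧸ IntMult.stalkIdeal IW ξ) := by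
    rw [haW, hc]
  have key := Groth.Agent.Lib.Helper90.IntMultCM.chi_eq_length_of_CM (IntMult.stalkIdeal IW ξ)
    c g hreg hfl hc' hCM
  unfold IntMult.mult
  rw [hg, key, ← hg, sup_comm, h1]
  rfl

end Groth.Agent.S1873
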