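import Groth.Statements.S18731
import Groth.Agent.Lib.Helper82.EffCartier

set_option autoImplicit false
universe u
open CategoryTheory CategoryTheory.Limits AlgebraicGeometry TopologicalSpace
open ModPair

namespace Groth.Agent.S18731

open Groth.Agent.Lib.Helper82 Scheme

lemma nzd_of_le_span {R : Type*} [CommRing R] {I : Ideal R} (h : IsPrincipalNZD I) (g : R)
    (hle : I ≤ Ideal.span {g}) : g ∈ nonZeroDivisors R := by
  obtain ⟨s, hs, rfl⟩ := h
  have hmem : s ∈ Ideal.span {g} := hle (Ideal.mem_span_singleton_self s)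
  obtain ⟨c, hc⟩ := Ideal.mem_span_singleton'.1 hmem
  rw [mem_nonZeroDivisors_iff_right]
  intro r hr
  have h1 : r * s = 0 := by
    rw [← hc, mul_comm c g, ← mul_assoc, hr, zero_mul]
  exact (mem_nonZeroDivisors_iff_right.1 hs) r h1

theorem main {X Y : Scheme.{u}} (I : X.IdealSheafData)
    (J : Y.IdealSheafData) (hI : BlowUp.IsEffCartierIdeal I) (hJ : BlowUp.IsEffCartierIdeal J)
    (f : X ⟶ Y) (hf : I ≤ J.comap f) : BlowUp.IsEffCartierIdeal (J.comap f) := by
  intro x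
  obtain ⟨W, hxW, hW⟩ := hJ (f x)
  obtain ⟨U₀, hxU₀, hU₀⟩ := hI x
  have hxfW : x ∈ f ⁻¹ᵁ W.1 ⊓ U₀.1 := ⟨hxW, hxU₀⟩
  obtain ⟨U, hU, hxU, hUW'⟩ := exists_isAffineOpen_mem_and_subset (U := f ⁻¹ᵁ W.1 ⊓ U₀.1) hxfW
  have hUW : U ≤ f ⁻¹ᵁ W.1 := fun y hy => (hUW' hy).1
  have hUU₀ : U ≤ U₀.1 := fun y hy => (hUW' hy).2
  refine ⟨⟨U, hU⟩, hxU, ?_⟩
  change IsPrincipalNZD ((J.comap f).ideal ⟨U, hU⟩)
  replace hW : IsPrincipalNZD (J.ideal W) := hW
  replace hU₀ : IsPrincipalNZD (I.ideal U₀) := hU₀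
  have : IsAffine U := hU
  obtain ⟨W, hWaff⟩ := W
  obtain ⟨U₀, hU₀aff⟩ := U₀
  have : IsAffine W := hWaff
  have : IsAffine U₀ := hU₀aff
  replace hW := (isPrincipalNZD_iff_comap_ι J W hWaff).1 hW
  replace hU₀ := (isPrincipalNZD_iff_comap_ι I U₀ hU₀aff).1 hU₀
  refine (isPrincipalNZD_iff_comap_ι (J.comap f) U hU).2 ?_
  have e : (J.comap f).comap U.ι = (J.comap W.ι).comap (f.resLE W U hUW) := by
    rw [← IdealSheafData.comap_comp, ← IdealSheafData.comap_comp, Scheme.Hom.resLE_comp_ι]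
  have e' : I.comap U.ι = (I.comap U₀.ι).comap (X.homOfLE hUU₀) := by
    rw [← IdealSheafData.comap_comp, Scheme.homOfLE_ι]
  have hIU : IsPrincipalNZD ((I.comap U.ι).ideal ⟨⊤, isAffineOpen_top U⟩) := by
    rw [e', ideal_comap_top_of_isAffine]
    exact hU₀.map_of_flat _ (Scheme.Hom.flat_appTop _)
  have hle : (I.comap U.ι).ideal ⟨⊤, isAffineOpen_top U⟩ ≤
      ((J.comap f).comap U.ι).ideal ⟨⊤, isAffineOpen_top U⟩ :=
    (IdealSheafData.comap_mono U.ι hf) ⟨⊤, isAffineOpen_top U⟩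
  change IsPrincipalNZD (((J.comap f).comap U.ι).ideal ⟨⊤, isAffineOpen_top U⟩)
  obtain ⟨t, ht, htJ⟩ := hW
  have hJU : ((J.comap f).comap U.ι).ideal ⟨⊤, isAffineOpen_top U⟩ =
      Ideal.span {(f.resLE W U hUW).appTop.hom t} := by
    rw [e, ideal_comap_top_of_isAffine, htJ, Ideal.map_span, Set.image_singleton]
  rw [hJU] at hle ⊢
  exact ⟨_, nzd_of_le_span hIU _ hle, rfl⟩


/-- Let I on X and J on Y be quasi-coherent ideal sheaves of effective Cartier divisors and f : X ⟶ Y a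
morphism satisfying the modulus condition I ≤ J.comap f (the closed subscheme J ×_Y X of X lies
inside the closed subscheme cut out by I). Then the pull-back of the divisor of J along f is
defined: J.comap f is the ideal sheaf of an effective Cartier divisor on X. -/
theorem result {X Y : Scheme.{u}} (I : X.IdealSheafData)
    (J : Y.IdealSheafData) (hI : BlowUp.IsEffCartierIdeal I) (hJ : BlowUp.IsEffCartierIdeal J)
    (f : X ⟶ Y) (hf : ModPair.IsAmbient I J f) : BlowUp.IsEffCartierIdeal (J.comap f) := by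
  exact main I J hI hJ f hf

end Groth.Agent.S18731
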