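import Groth.Statements.S18735
-- import your own Groth.Agent.* helpers here
import Groth.Agent.Lib.Helper33.AdmOre

set_option autoImplicit false
universe u
open CategoryTheory CategoryTheory.Limits AlgebraicGeometry TopologicalSpace
open ModPair

namespace Groth.Agent.S18735

open Groth.Agent.S18748 Groth.Agent.S18738 Groth.Agent.Lib.Helper33.AdmOre
open AlgebraicGeometry.Scheme.IdealSheafData

theorem prodInterior_eq_snd {S T X : Scheme.{u}} (IS : S.IdealSheafData)
    (IT : T.IdealSheafData) (IX : X.IdealSheafData) (g : T ⟶ S) (hg : IT ≤ IS.comap g)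
    (s : X ⟶ S) (hs : IX = IS.comap s) :
    ModPair.prodInterior s g IX IT = pullback.snd s g ⁻¹ᵁ ModPair.interior IT := by
  refine le_antisymm inf_le_right (le_inf ?_ le_rfl)
  intro z hz
  change pullback.fst s g z ∈ ModPair.interior IX
  rw [hs, interior_comap]
  change s (pullback.fst s g z) ∈ ModPair.interior IS
  rw [← Scheme.Hom.comp_apply, pullback.condition, Scheme.Hom.comp_apply]
  exact apply_mem_interior_of_le g hg hz


/-- Let (S, I_S), (T, I_T), (X, I_X) be schemes equipped with quasi-coherent ideal sheaves of effective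
Cartier divisors, g : T ⟶ S a morphism satisfying the modulus condition I_T ≤ I_S.comap g, and s : X
⟶ S an abstract admissible blow-up (I_X = I_S.comap s, s proper and an isomorphism over the open
complement of the support of I_S). Let Y be the scheme-theoretic image in X ×_S T of the open
pr₁⁻¹(X°) ∩ pr₂⁻¹(T°), where X°, T° are the open complements of the supports of I_X, I_T, with
projections q : Y ⟶ T and r : Y ⟶ X. Then I_T.comap q is the ideal sheaf of an effective Cartier
divisor on Y, q is an abstract admissible blow-up from (Y, I_T.comap q) to (T, I_T), and r satisfies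
the modulus condition from (Y, I_T.comap q) to (X, I_X). -/
theorem result {S T X : Scheme.{u}} (IS : S.IdealSheafData)
    (IT : T.IdealSheafData) (IX : X.IdealSheafData) (hS : BlowUp.IsEffCartierIdeal IS)
    (hT : BlowUp.IsEffCartierIdeal IT) (hX : BlowUp.IsEffCartierIdeal IX)
    (g : T ⟶ S) (hg : ModPair.IsAmbient IT IS g) (s : X ⟶ S) (hs : ModPair.IsAdmBlowup IX IS s) :
    BlowUp.IsEffCartierIdeal (IT.comap (ModPair.mprodι s g IX IT ≫ pullback.snd s g)) ∧
      ModPair.IsAdmBlowup (IT.comap (ModPair.mprodι s g IX IT ≫ pullback.snd s g)) IT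
        (ModPair.mprodι s g IX IT ≫ pullback.snd s g) ∧
      ModPair.IsAmbient (IT.comap (ModPair.mprodι s g IX IT ≫ pullback.snd s g)) IX
        (ModPair.mprodι s g IX IT ≫ pullback.fst s g) := by
  have hU := prodInterior_eq_snd IS IT IX g hg s hs.1
  have haff : IsAffineHom (ModPair.interior IT).ι :=
    Groth.Agent.Lib.Helper82.isAffineHom_ι_compl_support IT hT
  have hdom : IsSchemeTheoreticallyDominant
      ((ModPair.mprodι s g IX IT ≫ pullback.snd s g) ⁻¹ᵁ ModPair.interior IT).ι :=
    isSchemeTheoreticallyDominant_preimage_ι (pullback.snd s g) (ModPair.interior IT) _ hU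
  have hs2 : IsProper s := hs.2.1
  have hs3 : IsIso (s ∣_ ModPair.interior IS) := hs.2.2
  have hcl : IsClosedImmersion (ModPair.mprodι s g IX IT) :=
    inferInstanceAs (IsClosedImmersion (ModPair.prodInterior s g IX IT).ι.ker.subschemeι)
  refine ⟨(Groth.Agent.S18732.result IT hT _).2, ⟨rfl, inferInstance, ?_⟩, ?_⟩
  · exact isIso_imageι_comp_restrict (pullback.snd s g) (ModPair.interior IT) _ hU
      (isIso_snd_restrict s g hg hs3)
  · change IT.comap (ModPair.mprodι s g IX IT ≫ pullback.snd s g) ≤
      IX.comap (ModPair.mprodι s g IX IT ≫ pullback.fst s g)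
    calc IT.comap (ModPair.mprodι s g IX IT ≫ pullback.snd s g)
        ≤ (IS.comap g).comap (ModPair.mprodι s g IX IT ≫ pullback.snd s g) :=
          comap_mono _ hg
      _ = IS.comap ((ModPair.mprodι s g IX IT ≫ pullback.snd s g) ≫ g) :=
          (comap_comp _ _ _).symm
      _ = IS.comap ((ModPair.mprodι s g IX IT ≫ pullback.fst s g) ≫ s) := by
          rw [Category.assoc, Category.assoc, pullback.condition]
      _ = (IS.comap s).comap (ModPair.mprodι s g IX IT ≫ pullback.fst s g) := comap_comp _ _ _
      _ = IX.comap (ModPair.mprodι s g IX IT ≫ pullback.fst s g) := by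
          rw [← show IX = IS.comap s from hs.1]

end Groth.Agent.S18735
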