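import Groth.Statements.S18750
import Groth.Agent.S18733
import Groth.Agent.Lib.Helper41.BlowUpExist

set_option autoImplicit false
universe u
open CategoryTheory CategoryTheory.Limits AlgebraicGeometry TopologicalSpace
open ModPair

namespace Groth.Agent.S18750

/-- Let (S, I_S), (T, J), (X, I) be schemes with quasi-coherent ideal sheaves of effective Cartier
divisors and f : X ⟶ S, g : T ⟶ S morphisms satisfying the modulus condition, and let Y₀ be the
scheme-theoretic image of pr₁⁻¹(X°) ∩ pr₂⁻¹(T°) in X ×_S T. Then the ambient product exists: there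
are a blowing up π : Y ⟶ Y₀ of Y₀ in the sum of the two pulled-back moduli and an ideal sheaf K on Y
whose product with the exceptional ideal is the product of the pull-backs of I and J (the divisor
D_X + D_T − E exists). -/
theorem result {S T X : Scheme.{u}} (IS : S.IdealSheafData)
    (J : T.IdealSheafData) (I : X.IdealSheafData) (hS : BlowUp.IsEffCartierIdeal IS)
    (hT : BlowUp.IsEffCartierIdeal J) (hX : BlowUp.IsEffCartierIdeal I)
    (f : X ⟶ S) (hf : ModPair.IsAmbient I IS f) (g : T ⟶ S) (hg : ModPair.IsAmbient J IS g) :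
    ∃ (Y : Scheme.{u}) (π : Y ⟶ ModPair.mprod f g I J) (K : Y.IdealSheafData),
      ModPair.IsAmbProd f g I J π K := by
  open AlgebraicGeometry.Scheme.IdealSheafData in
  obtain ⟨Y, π, hπ⟩ := Groth.Agent.Lib.Helper41.exists_isBlowUp (ModPair.mprod f g I J)
    (ModPair.prodCentre f g I J)
  have hπ' := hπ
  unfold ModPair.prodCentre at hπ'
  have haffI : IsAffineHom (ModPair.interior I).ι :=
    Groth.Agent.Lib.Helper82.isAffineHom_ι_compl_support I hX
  have haffJ : IsAffineHom (ModPair.interior J).ι :=
    Groth.Agent.Lib.Helper82.isAffineHom_ι_compl_support J hT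
  have h1 : IsAffineHom (pullback.fst f g ⁻¹ᵁ ModPair.interior I).ι :=
    MorphismProperty.of_isPullback (isPullback_morphismRestrict _ _) inferInstance
  have h2 : IsAffineHom (pullback.snd f g ⁻¹ᵁ ModPair.interior J).ι :=
    MorphismProperty.of_isPullback (isPullback_morphismRestrict _ _) inferInstance
  have h3 : IsAffineHom (ModPair.prodInterior f g I J).ι :=
    Groth.Agent.S18749.isAffineHom_ι_inf _ _
  have hqc : QuasiCompact (ModPair.prodInterior f g I J).ι := inferInstance
  have hdom : IsSchemeTheoreticallyDominant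
      (ModPair.mprodι f g I J ⁻¹ᵁ ModPair.prodInterior f g I J).ι :=
    Groth.Agent.S18737.dominant_imageι_preimage (ModPair.prodInterior f g I J)
  have h4 : IsAffineHom (ModPair.mprodι f g I J ⁻¹ᵁ ModPair.prodInterior f g I J).ι :=
    MorphismProperty.of_isPullback (isPullback_morphismRestrict _ _) inferInstance
  have hqc' : QuasiCompact (ModPair.mprodι f g I J ⁻¹ᵁ ModPair.prodInterior f g I J).ι :=
    inferInstance
  set r := ModPair.mprodι f g I J ≫ pullback.fst f g with hr
  set q := ModPair.mprodι f g I J ≫ pullback.snd f g with hq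
  set V₀ := ModPair.mprodι f g I J ⁻¹ᵁ ModPair.prodInterior f g I J with hV₀
  have hV₀r : V₀ ≤ r ⁻¹ᵁ ModPair.interior I := fun y hy => hy.1
  have hV₀q : V₀ ≤ q ⁻¹ᵁ ModPair.interior J := fun y hy => hy.2
  have hE : BlowUp.IsEffCartierIdeal ((I.comap r).comap π ⊔ (J.comap q).comap π) := by
    have := hπ'.1; rwa [Scheme.IdealSheafData.comap_sup] at this
  have hA : BlowUp.IsEffCartierIdeal ((I.comap r).comap π) := by
    have hd : IsSchemeTheoreticallyDominant ((π ≫ r) ⁻¹ᵁ ModPair.interior I).ι :=
      Groth.Agent.S18749.dominant_of_isBlowUp π _ hπ' V₀ _ (fun y hy => hV₀r hy)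
    have := (Groth.Agent.S18732.result I hX (π ≫ r)).2
    rwa [Scheme.IdealSheafData.comap_comp] at this
  have hB : BlowUp.IsEffCartierIdeal ((J.comap q).comap π) := by
    have hd : IsSchemeTheoreticallyDominant ((π ≫ q) ⁻¹ᵁ ModPair.interior J).ι :=
      Groth.Agent.S18749.dominant_of_isBlowUp π _ hπ' V₀ _ (fun y hy => hV₀q hy)
    have := (Groth.Agent.S18732.result J hT (π ≫ q)).2
    rwa [Scheme.IdealSheafData.comap_comp] at this
  obtain ⟨A', B', -, -, hAeq, -, -, -⟩ := Groth.Agent.S18733.result _ _ hA hB hE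
  refine ⟨Y, π, A' * (J.comap q).comap π, hπ, ?_⟩
  unfold ModPair.prodCentre
  rw [Scheme.IdealSheafData.comap_sup]
  change A' * (J.comap q).comap π * ((I.comap r).comap π ⊔ (J.comap q).comap π) =
    (I.comap r).comap π * (J.comap q).comap π
  conv_rhs => rw [hAeq]
  rw [mul_assoc, mul_assoc, mul_comm ((J.comap q).comap π)]

end Groth.Agent.S18750
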