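import Groth.Statements.S18739
import Groth.Agent.S18752
import Groth.Agent.S18750
import Groth.Agent.S18749

set_option autoImplicit false
universe u
open CategoryTheory CategoryTheory.Limits AlgebraicGeometry TopologicalSpace
open ModPair

namespace Groth.Agent.S18739

/-- The localization of the category of modulus pairs and ambient morphisms at the class of abstract
admissible blow-ups has all finite limits. -/
theorem result :
    HasFiniteLimits (ModPair.Pair.admBlowup.{u}).Localization := by
  haveI : (ModPair.Pair.admBlowup.{u}).HasRightCalculusOfFractions := Groth.Agent.S18738.result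
  haveI : HasPullbacks (ModPair.Pair.admBlowup.{u}).Localization := by
    refine Groth.Agent.Lib.Helper16.LocPullback.hasPullbacks_of_forall
      (ModPair.Pair.admBlowup.{u}).Q ModPair.Pair.admBlowup.{u} ?_
    intro T X P g f
    obtain ⟨Y, π, K, hY⟩ := Groth.Agent.S18750.result P.mod T.mod X.mod P.isEffCartier
      T.isEffCartier X.isEffCartier f.hom f.cond g.hom g.cond
    obtain ⟨hK, hX, hT, -⟩ := Groth.Agent.S18749.result P.mod T.mod X.mod P.isEffCartier
      T.isEffCartier X.isEffCartier f.hom f.cond g.hom g.cond π K hY
    exact ⟨_, _, _, Groth.Agent.S18752.result P T X f g π K hY hK hX hT⟩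
  haveI : HasTerminal (ModPair.Pair.admBlowup.{u}).Localization := by
    let t : ModPair.Pair.{u} :=
      ⟨⊤_ Scheme.{u}, ⊤, Groth.Agent.Lib.Helper82.isEffCartierIdeal_top _⟩
    have ht : IsTerminal t := by
      refine IsTerminal.ofUniqueHom (fun P => ⟨terminal.from P.total, ?_⟩) ?_
      · change P.mod ≤ _
        rw [Scheme.IdealSheafData.comap_top]
        exact le_top
      · intro P m
        exact ModPair.Pair.Hom.ext (terminal.hom_ext _ _)
    exact (Groth.Agent.Lib.Helper16.LocPullback.isTerminalMap
      (ModPair.Pair.admBlowup.{u}).Q ModPair.Pair.admBlowup.{u} ht).hasTerminal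
  exact hasFiniteLimits_of_hasTerminal_and_pullbacks

end Groth.Agent.S18739
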