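import Groth.Statements.S18742
import Groth.Agent.Lib.Helper50.SchDomLim

set_option autoImplicit false
universe u
open CategoryTheory CategoryTheory.Limits AlgebraicGeometry TopologicalSpace
open ModPair

namespace Groth.Agent.S18742

/-- Let S be a quasi-compact quasi-separated scheme, (X_i) a cofiltered system of S-schemes with affine,
scheme-theoretically dominant transition morphisms and all X_i quasi-compact and quasi-separated, X
its limit in the category of S-schemes, and Y ⟶ S locally of finite type with Y quasi-compact and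
quasi-separated. Then the canonical map from the colimit of the sets Hom_S(X_i, Y) to Hom_S(X, Y) is
bijective: every S-morphism X ⟶ Y factors through the projection to some X_i, and two S-morphisms
X_i ⟶ Y with the same composite X ⟶ Y become equal after composition with some transition morphism
X_j ⟶ X_i. No finite-presentation hypothesis on Y is assumed. -/
theorem result {S : Scheme.{u}} [CompactSpace S]
    [QuasiSeparatedSpace S] {I : Type u} [SmallCategory I] [IsCofiltered I] (D : I ⥤ Over S)
    (c : Cone D) (hc : IsLimit c)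
    [∀ (i j : I) (t : i ⟶ j), IsAffineHom (D.map t).left]
    [∀ (i j : I) (t : i ⟶ j), IsSchemeTheoreticallyDominant (D.map t).left]
    [∀ i, CompactSpace (D.obj i).left] [∀ i, QuasiSeparatedSpace (D.obj i).left]
    (Y : Over S) [CompactSpace Y.left] [QuasiSeparatedSpace Y.left] [LocallyOfFiniteType Y.hom] :
    (∀ φ : c.pt ⟶ Y, ∃ (i : I) (φi : D.obj i ⟶ Y), c.π.app i ≫ φi = φ) ∧
      ∀ (i : I) (φ ψ : D.obj i ⟶ Y), c.π.app i ≫ φ = c.π.app i ≫ ψ →
        ∃ (j : I) (t : j ⟶ i), D.map t ≫ φ = D.map t ≫ ψ := by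
  classical
  let D' : I ⥤ Scheme.{u} := D ⋙ Over.forget S
  let c' : Cone D' := (Over.forget S).mapCone c
  have hc' : IsLimit c' := isLimitOfPreserves (Over.forget S) hc
  have h1 : ∀ (i j : I) (f : i ⟶ j), IsAffineHom (D'.map f) := fun i j f ↦
    inferInstanceAs (IsAffineHom (D.map f).left)
  have h1' : ∀ {i j : I} (f : i ⟶ j), IsAffineHom (D'.map f) := fun f ↦ h1 _ _ f
  have h2 : ∀ (i j : I) (f : i ⟶ j), IsSchemeTheoreticallyDominant (D'.map f) := fun i j f ↦
    inferInstanceAs (IsSchemeTheoreticallyDominant (D.map f).left)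
  have h3 : ∀ i, CompactSpace (D'.obj i) := fun i ↦ inferInstanceAs (CompactSpace (D.obj i).left)
  have h4 : ∀ i, QuasiSeparatedSpace (D'.obj i) := fun i ↦
    inferInstanceAs (QuasiSeparatedSpace (D.obj i).left)
  let t : D' ⟶ (Functor.const I).obj S :=
    { app := fun i ↦ (D.obj i).hom
      naturality := fun i j f ↦ by
        change (D.map f).left ≫ (D.obj j).hom = (D.obj i).hom ≫ 𝟙 S
        rw [Over.w, Category.comp_id] }
  have qcY : QuasiCompact Y.hom := quasiCompact_of_compactSpace _
  have qsY : QuasiSeparated Y.hom := inferInstance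
  refine ⟨fun φ ↦ ?_, fun i φ ψ h ↦ ?_⟩
  · obtain ⟨i, g, hg1, hg2⟩ := Groth.Agent.Lib.Helper50.SchDomLim.exists_factor D' c' hc' t Y.hom
      φ.left (fun i ↦ by
        change φ.left ≫ Y.hom = (c.π.app i).left ≫ (D.obj i).hom
        rw [Over.w φ, Over.w (c.π.app i)]
        rfl)
    refine ⟨i, Over.homMk g hg2, ?_⟩
    ext
    exact hg1
  · obtain ⟨j, f, hj⟩ := Scheme.exists_hom_comp_eq_comp_of_locallyOfFiniteType D' t Y.hom c' hc'
      (i := i) φ.left ψ.left (Over.w φ).symm (Over.w ψ).symm (congrArg (fun z ↦ z.left) h)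
    refine ⟨j, f, ?_⟩
    ext
    exact hj

end Groth.Agent.S18742
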