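import Groth.Statements.S18743
import Mathlib
import Groth.Agent.Lib.Helper82.EffCartier
import Groth.Agent.Lib.Helper82.EffCartierCompl
import Groth.Agent.S18732

set_option autoImplicit false
universe u
open CategoryTheory CategoryTheory.Limits AlgebraicGeometry TopologicalSpace
open ModPair

namespace Groth.Agent.S18743

/-- Let (S, I_S), (T, I_T), (X, I_X) be schemes equipped with quasi-coherent ideal sheaves of effective
Cartier divisors, p : X ⟶ S a morphism with the modulus condition I_X ≤ I_S.comap p, and f : T ⟶ S a
minimal morphism (I_T = I_S.comap f) which is flat. Then the ambient product of (T, I_T) and (X,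
I_X) over (S, I_S) has total space all of X ×_S T with modulus pulled back from X: the open
pr₁⁻¹(X°) ∩ pr₂⁻¹(T°) (X°, T° the complements of the supports) is scheme-theoretically dominant in X
×_S T, the closed immersion of its scheme-theoretic image is an isomorphism, and I_X.comap pr₁ is
the ideal sheaf of an effective Cartier divisor. -/
theorem result {S T X : Scheme.{u}} (IS : S.IdealSheafData)
    (IT : T.IdealSheafData) (IX : X.IdealSheafData) (hS : BlowUp.IsEffCartierIdeal IS)
    (hT : BlowUp.IsEffCartierIdeal IT) (hX : BlowUp.IsEffCartierIdeal IX)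
    (p : X ⟶ S) (hp : ModPair.IsAmbient IX IS p) (f : T ⟶ S) (hf : ModPair.IsMinimal IT IS f) [Flat f] :
    IsSchemeTheoreticallyDominant (ModPair.prodInterior p f IX IT).ι ∧
      IsIso (ModPair.mprodι p f IX IT) ∧
      BlowUp.IsEffCartierIdeal (IX.comap (pullback.fst p f)) := by
  set UX : X.Opens := IX.support.compl with hUX
  haveI : IsAffineHom UX.ι := Groth.Agent.Lib.Helper82.isAffineHom_ι_compl_support IX hX
  haveI : IsSchemeTheoreticallyDominant UX.ι :=
    Groth.Agent.Lib.Helper82.isSchemeTheoreticallyDominant_ι_compl_support IX hX
  haveI hdom : IsSchemeTheoreticallyDominant ((pullback.fst p f) ⁻¹ᵁ UX).ι :=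
    .of_isPullback (isPullback_morphismRestrict (pullback.fst p f) UX)
  have heq : ModPair.prodInterior p f IX IT = (pullback.fst p f) ⁻¹ᵁ UX := by
    apply le_antisymm inf_le_left
    apply le_inf le_rfl
    intro z hz hz'
    apply hz
    have h1 : (pullback.snd p f).base z ∈ (IS.comap f).support := by
      have : IT = IS.comap f := hf
      rw [← this]; exact hz'
    rw [Scheme.IdealSheafData.support_comap] at h1
    have h2 : f.base ((pullback.snd p f).base z) = p.base ((pullback.fst p f).base z) := by
      rw [← Scheme.Hom.comp_apply, ← Scheme.Hom.comp_apply, pullback.condition]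
    have h3 : (pullback.fst p f).base z ∈ (IS.comap p).support := by
      rw [Scheme.IdealSheafData.support_comap]
      show p.base _ ∈ IS.support
      rw [← h2]; exact h1
    exact Scheme.IdealSheafData.support_antitone hp h3
  have key : ∀ O : (pullback p f).Opens, O = (pullback.fst p f) ⁻¹ᵁ UX →
      IsSchemeTheoreticallyDominant O.ι := by
    rintro _ rfl; exact hdom
  have h1 := key _ heq
  refine ⟨h1, ?_, ?_⟩
  · show IsIso (ModPair.prodInterior p f IX IT).ι.imageι
    rw [Scheme.Hom.imageι, Scheme.isIso_subschemeι_iff_eq_bot]
    exact h1.ker_eq_bot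
  · exact Groth.Agent.S18732.isEffCartierIdeal_comap_of_dominant IX hX (pullback.fst p f)

end Groth.Agent.S18743
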