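import Groth.Statements.S19329
-- import your own Groth.Agent.* helpers here
import Groth.Agent.S18749

set_option autoImplicit false
universe u
open CategoryTheory CategoryTheory.Limits AlgebraicGeometry TopologicalSpace
open ModPair

namespace Groth.Agent.S19329


open Groth.Agent.S18748 Groth.Agent.S18738 Groth.Agent.Lib.Helper33.AdmOre Groth.Agent.Lib.Helper82
open AlgebraicGeometry.Scheme.IdealSheafData Groth.Agent.S18749

theorem nzd_of_mul_eq {R : Type*} [CommRing R] (x e v : R) (he : e ∈ nonZeroDivisors R)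
    (h : e = v * x) : x ∈ nonZeroDivisors R := by
  have : v * x ∈ nonZeroDivisors R := h ▸ he
  exact (mul_mem_nonZeroDivisors.mp this).2

theorem isUnit_of_span_eq {R : Type*} [CommRing R] (j k c : R) (hj : j ∈ nonZeroDivisors R)
    (hjk : j = c * k) (h : Ideal.span {j} = Ideal.span {k}) : IsUnit c := by
  have hk : k ∈ Ideal.span {j} := h ▸ Ideal.subset_span rfl
  obtain ⟨d, hd⟩ := Ideal.mem_span_singleton'.mp hk
  have h1 : (c * d) * j = 1 * j := by rw [one_mul, mul_assoc, hd, ← hjk]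
  have h2 : c * d = 1 := (mul_cancel_right_mem_nonZeroDivisors hj).mp h1
  exact IsUnit.of_mul_eq_one d h2

theorem span_eq_of_isUnit {R : Type*} [CommRing R] (j k c : R) (hjk : j = c * k) (hc : IsUnit c) :
    Ideal.span {j} = Ideal.span {k} := by
  rw [hjk]; exact Ideal.span_singleton_mul_left_unit hc k

/-- local data: `J = (j)`, `J' = (k)`, `j = c k`, `j` a nonzerodivisor -/
def LocData {Y : Scheme.{u}} (J J' : Y.IdealSheafData) (V : Y.affineOpens)
    (j k c : Γ(Y, V.1)) : Prop :=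
  j ∈ nonZeroDivisors Γ(Y, V.1) ∧ J.ideal V = Ideal.span {j} ∧ J'.ideal V = Ideal.span {k} ∧
    j = c * k

theorem LocData.restrict {Y : Scheme.{u}} {J J' : Y.IdealSheafData} {V : Y.affineOpens}
    {j k c : Γ(Y, V.1)} (hd : LocData J J' V j k c) (W : Y.affineOpens) (h : W ≤ V) :
    LocData J J' W ((Y.presheaf.map (homOfLE h).op).hom j) ((Y.presheaf.map (homOfLE h).op).hom k)
      ((Y.presheaf.map (homOfLE h).op).hom c) := by
  obtain ⟨hj, hJ, hJ', hjk⟩ := hd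
  have e1 : J.ideal W = Ideal.span {(Y.presheaf.map (homOfLE h).op).hom j} := by
    rw [← J.map_ideal h, hJ, Ideal.map_span, Set.image_singleton]
  have e2 : J'.ideal W = Ideal.span {(Y.presheaf.map (homOfLE h).op).hom k} := by
    rw [← J'.map_ideal h, hJ', Ideal.map_span, Set.image_singleton]
  refine ⟨?_, e1, e2, by rw [hjk, map_mul]⟩
  obtain ⟨e, he, hJe⟩ := isPrincipalNZD_of_le J V W h ⟨j, hj, hJ⟩
  have hmem : e ∈ Ideal.span {(Y.presheaf.map (homOfLE h).op).hom j} := by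
    rw [← e1, hJe]; exact Ideal.subset_span rfl
  obtain ⟨v, hv⟩ := Ideal.mem_span_singleton'.mp hmem
  exact nzd_of_mul_eq _ e v he hv.symm


/-- Let (X, I), (Y, J), (Z, K) be modulus pairs, i.e. schemes with quasi-coherent ideal sheaves of
effective Cartier divisors, and let f : X ⟶ Y and g : Y ⟶ Z satisfy the modulus conditions I ≤
J.comap f and J ≤ K.comap g. Suppose the composite X ⟶ Z is minimal, I = K.comap (f ≫ g). Then f is
minimal, and there is an open subset U of Y whose inclusion is quasi-compact, which contains the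
image of f, and such that U ⟶ Z is minimal for the modulus of Y restricted to U. -/
theorem result {X Y Z : Scheme.{u}}
    (I : X.IdealSheafData) (J : Y.IdealSheafData) (K : Z.IdealSheafData)
    (hI : BlowUp.IsEffCartierIdeal I) (hJ : BlowUp.IsEffCartierIdeal J)
    (hK : BlowUp.IsEffCartierIdeal K) (f : X ⟶ Y) (g : Y ⟶ Z)
    (hf : ModPair.IsAmbient I J f) (hg : ModPair.IsAmbient J K g)
    (hfg : ModPair.IsMinimal I K (f ≫ g)) :
    ModPair.IsMinimal I J f ∧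
      ∃ U : Y.Opens, QuasiCompact U.ι ∧ Set.range f.base ⊆ (U : Set Y) ∧
        ModPair.IsMinimal (J.comap U.ι) K (U.ι ≫ g) := by
  have hmin1 : I = J.comap f := by
    apply le_antisymm hf
    calc J.comap f ≤ (K.comap g).comap f := comap_mono _ hg
      _ = K.comap (f ≫ g) := (comap_comp _ _ _).symm
      _ = I := hfg.symm
  refine ⟨hmin1, ?_⟩
  have hJJ' : J ≤ K.comap g := hg
  have hI' : I = (K.comap g).comap f := by rw [← comap_comp]; exact hfg
  -- local data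
  have hloc : ∀ y : Y, ∃ V : Y.affineOpens, y ∈ V.1 ∧ ∃ j k c : Γ(Y, V.1),
      LocData J (K.comap g) V j k c := by
    intro y
    obtain ⟨VJ, hyJ, hVJ⟩ := hJ y
    obtain ⟨WZ, hyZ, κ, -, hκ⟩ := hK (g y)
    obtain ⟨V, hV, hyV, hVle⟩ := exists_isAffineOpen_mem_and_subset
      (U := VJ.1 ⊓ g ⁻¹ᵁ WZ.1) (x := y) ⟨hyJ, hyZ⟩
    have hV1 : V ≤ VJ.1 := fun z hz => (hVle hz).1
    have hV2 : V ≤ g ⁻¹ᵁ WZ.1 := fun z hz => (hVle hz).2
    obtain ⟨j, hj, hJj⟩ := isPrincipalNZD_of_le J VJ ⟨V, hV⟩ hV1 hVJ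
    have hC : (K.comap g).ideal ⟨V, hV⟩ = Ideal.span {(g.appLE WZ.1 V hV2).hom κ} := by
      rw [ideal_comap_of_le g K V hV WZ.1 WZ.2 hV2]
      change (K.ideal WZ).map _ = _
      rw [hκ, Ideal.map_span, Set.image_singleton]
    have hmem : j ∈ Ideal.span {(g.appLE WZ.1 V hV2).hom κ} := by
      rw [← hC]
      apply hg ⟨V, hV⟩
      rw [hJj]
      exact Ideal.subset_span rfl
    obtain ⟨c, hc⟩ := Ideal.mem_span_singleton'.mp hmem
    exact ⟨⟨V, hV⟩, hyV, j, _, c, hj, hJj, hC, hc.symm⟩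
  let U : Y.Opens := ⨆ W : {W : Y.affineOpens // J.ideal W = (K.comap g).ideal W}, W.1.1
  have hD : ∀ (V : Y.affineOpens) (j k c : Γ(Y, V.1)), LocData J (K.comap g) V j k c →
      U ⊓ V.1 = Y.basicOpen c := by
    intro V j k c hd
    apply le_antisymm
    · rintro z ⟨hzU, hzV⟩
      obtain ⟨⟨W₀, hW₀⟩, hzW₀⟩ := Opens.mem_iSup.mp hzU
      obtain ⟨W, hW, hzW, hWle⟩ := exists_isAffineOpen_mem_and_subset
        (U := W₀.1 ⊓ V.1) (x := z) ⟨hzW₀, hzV⟩
      have h1 : (⟨W, hW⟩ : Y.affineOpens) ≤ W₀ := fun t ht => (hWle ht).1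
      have h2 : (⟨W, hW⟩ : Y.affineOpens) ≤ V := fun t ht => (hWle ht).2
      have heq : J.ideal ⟨W, hW⟩ = (K.comap g).ideal ⟨W, hW⟩ := by
        rw [← J.map_ideal h1, ← (K.comap g).map_ideal h1, hW₀]
      obtain ⟨hj', hJ1, hJ2, hjk'⟩ := hd.restrict ⟨W, hW⟩ h2
      have hu : IsUnit ((Y.presheaf.map (homOfLE h2).op).hom c) :=
        isUnit_of_span_eq _ _ _ hj' hjk' (by rw [← hJ1, ← hJ2, heq])
      have hb := Y.basicOpen_of_isUnit hu
      rw [Scheme.basicOpen_res] at hb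
      have : z ∈ W ⊓ Y.basicOpen c := hb.ge hzW
      exact this.2
    · intro z hz
      have hzV : z ∈ V.1 := Y.basicOpen_le c hz
      refine ⟨?_, hzV⟩
      have h2 : (⟨Y.basicOpen c, V.2.basicOpen c⟩ : Y.affineOpens) ≤ V := Y.basicOpen_le c
      obtain ⟨hj', hJ1, hJ2, hjk'⟩ := hd.restrict ⟨Y.basicOpen c, V.2.basicOpen c⟩ h2
      have hu : IsUnit ((Y.presheaf.map (homOfLE h2).op).hom c) :=
        RingedSpace.isUnit_res_basicOpen _ c
      have heq : J.ideal ⟨Y.basicOpen c, V.2.basicOpen c⟩ =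
          (K.comap g).ideal ⟨Y.basicOpen c, V.2.basicOpen c⟩ := by
        rw [hJ1, hJ2]; exact span_eq_of_isUnit _ _ _ hjk' hu
      exact Opens.mem_iSup.mpr ⟨⟨⟨Y.basicOpen c, V.2.basicOpen c⟩, heq⟩, hz⟩
  refine ⟨U, ?_, ?_, ?_⟩
  · have : IsAffineHom U.ι := by
      apply isAffineHom_of_forall_exists_isAffineOpen
      intro y
      obtain ⟨V, hyV, j, k, c, hd⟩ := hloc y
      refine ⟨V.1, hyV, V.2, ?_⟩
      rw [← Scheme.Hom.isAffineOpen_iff_of_isOpenImmersion U.ι,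
        Scheme.Hom.image_preimage_eq_opensRange_inf, Scheme.Opens.opensRange_ι, hD V j k c hd]
      exact V.2.basicOpen c
    infer_instance
  · rintro _ ⟨x, rfl⟩
    obtain ⟨V, hyV, j, k, c, hd⟩ := hloc (f x)
    obtain ⟨hj, hJj, hJk, hjk⟩ := hd
    obtain ⟨WI, hxI, hWI⟩ := hI x
    obtain ⟨O, hO, hxO, hOle⟩ := exists_isAffineOpen_mem_and_subset
      (U := WI.1 ⊓ f ⁻¹ᵁ V.1) (x := x) ⟨hxI, hyV⟩
    have hO1 : O ≤ WI.1 := fun z hz => (hOle hz).1
    have hO2 : O ≤ f ⁻¹ᵁ V.1 := fun z hz => (hOle hz).2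
    obtain ⟨i, hi, hIi⟩ := isPrincipalNZD_of_le I WI ⟨O, hO⟩ hO1 hWI
    have e1 : I.ideal ⟨O, hO⟩ = Ideal.span {(f.appLE V.1 O hO2).hom j} := by
      conv_lhs => rw [hmin1]
      rw [ideal_comap_of_le f J O hO V.1 V.2 hO2]
      change (J.ideal V).map _ = _
      rw [hJj, Ideal.map_span, Set.image_singleton]
    have e2 : I.ideal ⟨O, hO⟩ = Ideal.span {(f.appLE V.1 O hO2).hom k} := by
      conv_lhs => rw [hI']
      rw [ideal_comap_of_le f (K.comap g) O hO V.1 V.2 hO2]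
      change ((K.comap g).ideal V).map _ = _
      rw [hJk, Ideal.map_span, Set.image_singleton]
    have hmem : i ∈ Ideal.span {(f.appLE V.1 O hO2).hom j} := by
      rw [← e1, hIi]; exact Ideal.subset_span rfl
    obtain ⟨v, hv⟩ := Ideal.mem_span_singleton'.mp hmem
    have hjn : (f.appLE V.1 O hO2).hom j ∈ nonZeroDivisors Γ(X, O) :=
      nzd_of_mul_eq _ i v hi hv.symm
    have hu : IsUnit ((f.appLE V.1 O hO2).hom c) :=
      isUnit_of_span_eq _ _ _ hjn (by rw [hjk, map_mul]) (by rw [← e1, ← e2])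
    have hb := X.basicOpen_of_isUnit hu
    have happ : (f.appLE V.1 O hO2).hom c =
        (X.presheaf.map (homOfLE hO2).op).hom ((f.app V.1).hom c) := rfl
    rw [happ, Scheme.basicOpen_res, ← Scheme.preimage_basicOpen] at hb
    have hx2 : x ∈ O ⊓ f ⁻¹ᵁ Y.basicOpen c := hb.ge hxO
    have hfx : f x ∈ Y.basicOpen c := hx2.2
    have : f x ∈ U ⊓ V.1 := by rw [hD V j k c ⟨hj, hJj, hJk, hjk⟩]; exact hfx
    exact this.1
  · change J.comap U.ι = K.comap (U.ι ≫ g)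
    rw [comap_comp]
    refine ext_of_iSup_eq_top
      (ι := {p : (U : Scheme.{u}).affineOpens ×
        {W : Y.affineOpens // J.ideal W = (K.comap g).ideal W} // p.1.1 ≤ U.ι ⁻¹ᵁ p.2.1.1})
      (fun p => p.1.1) ?_ ?_
    · rw [eq_top_iff]
      intro z _
      obtain ⟨⟨W₀, hW₀⟩, hzW₀⟩ := Opens.mem_iSup.mp z.2
      obtain ⟨O, hO, hzO, hOle⟩ := exists_isAffineOpen_mem_and_subset
        (U := U.ι ⁻¹ᵁ W₀.1) (x := z) hzW₀
      exact Opens.mem_iSup.mpr ⟨⟨(⟨O, hO⟩, ⟨W₀, hW₀⟩), hOle⟩, hzO⟩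
    · rintro ⟨⟨⟨O, hO⟩, ⟨W₀, hW₀⟩⟩, hOle⟩
      change (J.comap U.ι).ideal ⟨O, hO⟩ = ((K.comap g).comap U.ι).ideal ⟨O, hO⟩
      rw [ideal_comap_of_le U.ι J O hO W₀.1 W₀.2 hOle,
        ideal_comap_of_le U.ι (K.comap g) O hO W₀.1 W₀.2 hOle]
      change (J.ideal W₀).map _ = ((K.comap g).ideal W₀).map _
      rw [hW₀]

end Groth.Agent.S19329
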