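import Groth.Statements.S18744
-- import your own Groth.Agent.* helpers here
import Groth.Agent.S19329

set_option autoImplicit false
universe u
open CategoryTheory CategoryTheory.Limits AlgebraicGeometry TopologicalSpace
open ModPair

namespace Groth.Agent.S18744

open AlgebraicGeometry.Scheme.IdealSheafData Groth.Agent.S18749 Groth.Agent.Lib.Helper82
open Groth.Agent.S18737

/-- a local generator of an effective Cartier ideal sheaf on an affine open is a nonzerodivisor -/
theorem nzd_of_isEffCartier {Y : Scheme.{u}} (K : Y.IdealSheafData)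
    (hK : BlowUp.IsEffCartierIdeal K)
    (V : Y.affineOpens) (f : Γ(Y, V.1)) (hf : K.ideal V = Ideal.span {f}) :
    f ∈ nonZeroDivisors Γ(Y, V.1) := by
  rw [mem_nonZeroDivisors_iff_right]
  intro s hs
  refine Y.IsSheaf.section_ext (U := Opposite.op V.1) ?_
  intro x hx
  obtain ⟨W, hxW, g, hg, hW⟩ := hK x
  obtain ⟨_, ⟨W', hW', rfl⟩, hxW', hle⟩ := Y.isBasis_affineOpens.exists_subset_of_mem_open
    (show x ∈ ((V.1 ⊓ W.1 : Y.Opens) : Set Y) from ⟨hx, hxW⟩) (V.1 ⊓ W.1).isOpen
  have hle1 : W' ≤ V.1 := fun y hy => (hle hy).1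
  have hle2 : W' ≤ W.1 := fun y hy => (hle hy).2
  obtain ⟨g', hg', hW'g⟩ := isPrincipalNZD_of_le K W ⟨W', hW'⟩ hle2 ⟨g, hg, hW⟩
  have h1 : K.ideal ⟨W', hW'⟩ = Ideal.span {(Y.presheaf.map (homOfLE hle1).op).hom f} := by
    rw [← K.map_ideal (U := ⟨W', hW'⟩) (V := V) hle1, hf, Ideal.map_span, Set.image_singleton]
    rfl
  have h2 : g' ∈ Ideal.span {(Y.presheaf.map (homOfLE hle1).op).hom f} := by
    rw [← h1, hW'g]; exact Ideal.subset_span rfl
  obtain ⟨v, hv⟩ := Ideal.mem_span_singleton'.mp h2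
  have h3 := Groth.Agent.S19329.nzd_of_mul_eq _ g' v hg' hv.symm
  refine ⟨W', hle1, hxW', ?_⟩
  have h4 : (Y.presheaf.map (homOfLE hle1).op).hom s *
      (Y.presheaf.map (homOfLE hle1).op).hom f = 0 := by
    rw [← map_mul, hs, map_zero]
  have h5 := (mem_nonZeroDivisors_iff_right.mp h3) _ h4
  change (Y.presheaf.map (homOfLE hle1).op).hom s = (Y.presheaf.map (homOfLE hle1).op).hom 0
  rw [h5, map_zero]

theorem appTop_w {I' : Type*} [Category I'] (D' : I' ⥤ Scheme.{u}) (c' : Cone D') {j k : I'}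
    (g : k ⟶ j) (t : Γ(D'.obj j, ⊤)) :
    (c'.π.app k).appTop.hom ((D'.map g).appTop.hom t) = (c'.π.app j).appTop.hom t := by
  rw [← c'.w g, Scheme.Hom.comp_appTop]; rfl

theorem appTop_map_comp {I' : Type*} [Category I'] (D' : I' ⥤ Scheme.{u}) {l k j : I'}
    (h : l ⟶ k) (g : k ⟶ j) (t : Γ(D'.obj j, ⊤)) :
    (D'.map h).appTop.hom ((D'.map g).appTop.hom t) = (D'.map (h ≫ g)).appTop.hom t := by
  rw [D'.map_comp, Scheme.Hom.comp_appTop]; rfl

theorem affine_case {I' : Type u} [SmallCategory I'] [IsCofiltered I'] (D' : I' ⥤ Scheme.{u})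
    (c' : Cone D') (hc' : IsLimit c') [∀ j, IsAffine (D'.obj j)] [IsAffine c'.pt]
    (J' : ∀ j, (D'.obj j).IdealSheafData) (hJ' : ∀ j, BlowUp.IsEffCartierIdeal (J' j))
    (hmin' : ∀ (j k : I') (t : j ⟶ k), J' j = (J' k).comap (D'.map t)) (i₀ : I')
    (e : Γ(D'.obj i₀, ⊤)) (he : (J' i₀).ideal ⟨⊤, isAffineOpen_top _⟩ = Ideal.span {e}) :
    BlowUp.IsEffCartierIdeal ((J' i₀).comap (c'.π.app i₀)) := by
  have inst : ∀ j, IsAffine (((Functor.const I').obj c'.pt).obj j) := fun _ => ‹IsAffine c'.pt›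
  intro x
  have hideal : ((J' i₀).comap (c'.π.app i₀)).ideal ⟨⊤, isAffineOpen_top _⟩ =
      Ideal.span {(c'.π.app i₀).appTop.hom e} := by
    rw [ideal_comap_top_of_isAffine, he, Ideal.map_span, Set.image_singleton]
  refine ⟨⟨⊤, isAffineOpen_top _⟩, trivial, (c'.π.app i₀).appTop.hom e, ?_, hideal⟩
  have hnzd : ∀ (l : I') (m : l ⟶ i₀),
      (D'.map m).appTop.hom e ∈ nonZeroDivisors Γ(D'.obj l, ⊤) := by
    intro l m
    apply nzd_of_isEffCartier (J' l) (hJ' l) ⟨⊤, isAffineOpen_top _⟩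
    rw [hmin' l i₀ m, ideal_comap_top_of_isAffine, he, Ideal.map_span, Set.image_singleton]
  rw [mem_nonZeroDivisors_iff_right]
  intro s hs
  obtain ⟨j, t, ht⟩ := exists_appTop_π_eq_of_isAffine_of_isLimit D' c' hc' s
  let k := IsCofiltered.min i₀ j
  let f : k ⟶ i₀ := IsCofiltered.minToLeft i₀ j
  let g : k ⟶ j := IsCofiltered.minToRight i₀ j
  have h0 : (c'.π.app k).appTop.hom ((D'.map g).appTop.hom t * (D'.map f).appTop.hom e) = 0 := by
    rw [map_mul, appTop_w, appTop_w]
    rw [← hs]; congr 1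
  obtain ⟨l, h, hl⟩ := exists_appTop_map_eq_zero_of_isAffine_of_isLimit D' c' hc' k _ h0
  have hl' : (D'.map h).appTop.hom ((D'.map g).appTop.hom t) *
      (D'.map (h ≫ f)).appTop.hom e = 0 := by
    rw [← appTop_map_comp, ← map_mul]; exact hl
  have h5 := (mem_nonZeroDivisors_iff_right.mp (hnzd l (h ≫ f))) _ hl'
  have : s = (c'.π.app l).appTop.hom ((D'.map h).appTop.hom ((D'.map g).appTop.hom t)) := by
    rw [appTop_w, appTop_w]; exact ht.symm
  rw [this, h5, map_zero]


/-- Let (X_i, I_i) be a cofiltered system of schemes equipped with quasi-coherent ideal sheaves of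
effective Cartier divisors, with affine and minimal transition morphisms (the modulus of X_i is the
pull-back of the modulus of X_j along each transition morphism X_i ⟶ X_j), and let X be its limit
with projections π_i. Then the pulled-back ideal I_i.comap π_i is the ideal sheaf of an effective
Cartier divisor on X for every i; with this modulus X is a modulus pair mapping minimally to each
(X_i, I_i). (The source allows the conditions on the transition morphisms to hold only beyond some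
index; here they are assumed throughout.) -/
theorem result {I : Type u}
    [SmallCategory I] [IsCofiltered I] (D : I ⥤ Scheme.{u}) (c : Cone D) (hc : IsLimit c)
    [∀ (i j : I) (t : i ⟶ j), IsAffineHom (D.map t)]
    (J : ∀ i, (D.obj i).IdealSheafData) (hJ : ∀ i, BlowUp.IsEffCartierIdeal (J i))
    (hmin : ∀ (i j : I) (t : i ⟶ j), ModPair.IsMinimal (J i) (J j) (D.map t)) (i : I) :
    BlowUp.IsEffCartierIdeal ((J i).comap (c.π.app i)) := by
  haveI hinst : ∀ {i j : I} (t : i ⟶ j), IsAffineHom (D.map t) := fun t => inferInstance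
  intro x
  obtain ⟨U, hxU, e, he, hU⟩ := hJ i ((c.π.app i) x)
  have haff := isAffineHom_π_app D c hc i
  let V : c.pt.Opens := c.π.app i ⁻¹ᵁ U.1
  have hxV : x ∈ V := hxU
  have hVaff : IsAffineOpen V := U.2.preimage (c.π.app i)
  have key : BlowUp.IsEffCartierIdeal (((J i).comap (c.π.app i)).comap V.ι) := by
    have hUaff : ∀ j : Over i, IsAffine ((opensDiagram D i U.1).obj j) :=
      fun j => U.2.preimage (D.map _)
    have hVaff' : IsAffine (opensCone D c i U.1).pt := hVaff
    let J' : ∀ j : Over i, ((opensDiagram D i U.1).obj j).IdealSheafData :=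
      fun j => (J j.left).comap (D.map j.hom ⁻¹ᵁ U.1).ι
    have hJ' : ∀ j, BlowUp.IsEffCartierIdeal (J' j) :=
      fun j => isEffCartierIdeal_comap_of_flat (D.map j.hom ⁻¹ᵁ U.1).ι _ (hJ j.left)
    have hmin' : ∀ (j k : Over i) (t : j ⟶ k),
        J' j = (J' k).comap ((opensDiagram D i U.1).map t) := by
      intro j k t
      change (J j.left).comap (D.map j.hom ⁻¹ᵁ U.1).ι =
        ((J k.left).comap (D.map k.hom ⁻¹ᵁ U.1).ι).comap ((D.map t.left).resLE _ _ _)
      rw [← comap_comp, Scheme.Hom.resLE_comp_ι, comap_comp, ← hmin j.left k.left t.left]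
    let W₀ : (D.obj i).Opens := D.map (𝟙 i) ⁻¹ᵁ U.1
    have hW₀ : IsAffineOpen W₀ := U.2.preimage (D.map (𝟙 i))
    have hle0 : W₀ ≤ U.1 := by simp [W₀]
    haveI : IsAffine W₀ := hW₀
    have he' : (J' (Over.mk (𝟙 i))).ideal ⟨⊤, isAffineOpen_top _⟩ =
        Ideal.span {W₀.topIso.inv.hom ((D.obj i).presheaf.map (homOfLE hle0).op e)} := by
      have h1 := ideal_comap_top_eq_map_topIso_inv (J i) W₀ hW₀
      have h2 : (J i).ideal ⟨W₀, hW₀⟩ =
          Ideal.span {((D.obj i).presheaf.map (homOfLE hle0).op).hom e} := by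
        rw [← (J i).map_ideal (U := ⟨W₀, hW₀⟩) (V := U) hle0, hU, Ideal.map_span,
          Set.image_singleton]
        rfl
      rw [h2, Ideal.map_span, Set.image_singleton] at h1
      exact h1
    have h3 := affine_case (opensDiagram D i U.1) (opensCone D c i U.1)
      (isLimitOpensCone D c hc i U.1) J' hJ' hmin' (Over.mk (𝟙 i)) _ he'
    have h4 : ((J i).comap (c.π.app i)).comap V.ι =
        (J' (Over.mk (𝟙 i))).comap ((opensCone D c i U.1).π.app (Over.mk (𝟙 i))) := by
      change _ = ((J i).comap W₀.ι).comap ((c.π.app i).resLE _ _ _)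
      rw [← comap_comp, ← comap_comp, Scheme.Hom.resLE_comp_ι]
    rw [h4]; exact h3
  obtain ⟨W, hW, f, hf, hWf⟩ := isEffCartier_at_of_openImmersion V.ι _ key ⟨x, hxV⟩
  exact ⟨W, hW, f, hf, hWf⟩

end Groth.Agent.S18744
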