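import Groth.Statements.S18745
-- import your own Groth.Agent.* helpers here
import Groth.Agent.S18742
import Groth.Agent.S18744
import Groth.Agent.Lib.Helper50.LimDesc

set_option autoImplicit false
universe u
open CategoryTheory CategoryTheory.Limits AlgebraicGeometry TopologicalSpace
open ModPair

namespace Groth.Agent.S18745

open AlgebraicGeometry.Scheme.IdealSheafData Groth.Agent.S18749 Groth.Agent.Lib.Helper82
open Groth.Agent.S18737 Groth.Agent.S18744 Groth.Agent.Lib.Helper50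

/-- affine diagram: membership in a principal ideal of the limit descends to a stage -/
theorem affine_mem {I' : Type u} [SmallCategory I'] [IsCofiltered I'] (D' : I' ⥤ Scheme.{u})
    (c' : Cone D') (hc' : IsLimit c') [∀ j, IsAffine (D'.obj j)]
    (i₀ : I') (e d : Γ(D'.obj i₀, ⊤))
    (h : (c'.π.app i₀).appTop.hom e ∈ Ideal.span {(c'.π.app i₀).appTop.hom d}) :
    ∃ (l : I') (m : l ⟶ i₀),
      (D'.map m).appTop.hom e ∈ Ideal.span {(D'.map m).appTop.hom d} := by
  obtain ⟨a, ha⟩ := Ideal.mem_span_singleton'.mp h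
  obtain ⟨j, t, ht⟩ := exists_appTop_π_eq_of_isAffine_of_isLimit D' c' hc' a
  let k := IsCofiltered.min i₀ j
  let f : k ⟶ i₀ := IsCofiltered.minToLeft i₀ j
  let g : k ⟶ j := IsCofiltered.minToRight i₀ j
  have ht' : (c'.π.app j).appTop.hom t = a := ht
  have h0 : (c'.π.app k).appTop.hom ((D'.map g).appTop.hom t * (D'.map f).appTop.hom d -
      (D'.map f).appTop.hom e) = 0 := by
    rw [map_sub, map_mul, appTop_w, appTop_w, appTop_w, ht', ha, sub_self]
  obtain ⟨l, h', hl⟩ := exists_appTop_map_eq_zero_of_isAffine_of_isLimit D' c' hc' k _ h0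
  refine ⟨l, h' ≫ f, ?_⟩
  rw [Ideal.mem_span_singleton']
  refine ⟨(D'.map h').appTop.hom ((D'.map g).appTop.hom t), ?_⟩
  have hl' : (D'.map h').appTop.hom ((D'.map g).appTop.hom t * (D'.map f).appTop.hom d -
      (D'.map f).appTop.hom e) = 0 := hl
  rw [map_sub, map_mul, sub_eq_zero] at hl'
  rw [← appTop_map_comp D' h' f, ← appTop_map_comp D' h' f]
  exact hl'

theorem comap_le_iff_mem {X Y : Scheme.{u}} [IsAffine X] [IsAffine Y] (p : X ⟶ Y)
    (A B : Y.IdealSheafData) (a b : Γ(Y, ⊤))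
    (hA : A.ideal ⟨⊤, isAffineOpen_top Y⟩ = Ideal.span {a})
    (hB : B.ideal ⟨⊤, isAffineOpen_top Y⟩ = Ideal.span {b}) :
    A.comap p ≤ B.comap p ↔ p.appTop.hom a ∈ Ideal.span {p.appTop.hom b} := by
  have key : (A.comap p).ideal ⟨⊤, isAffineOpen_top X⟩ ≤ (B.comap p).ideal ⟨⊤, isAffineOpen_top X⟩ ↔
      p.appTop.hom a ∈ Ideal.span {p.appTop.hom b} := by
    rw [ideal_comap_top_of_isAffine, ideal_comap_top_of_isAffine, hA, hB,
      Ideal.map_span, Ideal.map_span, Set.image_singleton, Set.image_singleton,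
      Ideal.span_singleton_le_iff_mem]
  exact ⟨fun h => key.mp (h ⟨⊤, isAffineOpen_top X⟩), fun h => le_of_isAffine (key.mpr h)⟩

variable {I : Type u} [SmallCategory I] [IsCofiltered I] (D : I ⥤ Scheme.{u}) (c : Cone D)
  (hc : IsLimit c)

omit [IsCofiltered I] in
theorem comap_map_eq (i₁ : I) (U : (D.obj i₁).Opens) (q : Over i₁) (p : q ⟶ Over.mk (𝟙 i₁))
    (L : (D.obj i₁).IdealSheafData) :
    (L.comap (D.map (𝟙 i₁) ⁻¹ᵁ U).ι).comap ((opensDiagram D i₁ U).map p) =
      (L.comap (D.map q.hom)).comap (D.map q.hom ⁻¹ᵁ U).ι := by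
  have hp : p.left = q.hom := by simpa using Over.w p
  change (L.comap (D.map (𝟙 i₁) ⁻¹ᵁ U).ι).comap ((D.map p.left).resLE _ _ _) = _
  rw [← comap_comp, Scheme.Hom.resLE_comp_ι, ← comap_comp, hp]

include hc in
theorem local_stage [∀ {i j} (f : i ⟶ j), IsAffineHom (D.map f)] (i₁ : I)
    (J₁ K : (D.obj i₁).IdealSheafData)
    (hle : J₁.comap (c.π.app i₁) ≤ K.comap (c.π.app i₁))
    (U : (D.obj i₁).affineOpens) (e d : Γ(D.obj i₁, U.1))
    (he : J₁.ideal U = Ideal.span {e}) (hd : K.ideal U = Ideal.span {d}) :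
    ∃ (j : I) (f : j ⟶ i₁), ∀ (k : I) (g : k ⟶ j) (g' : k ⟶ i₁), g ≫ f = g' →
      (J₁.comap (D.map g')).comap (D.map g' ⁻¹ᵁ U.1).ι ≤
        (K.comap (D.map g')).comap (D.map g' ⁻¹ᵁ U.1).ι := by
  have haff := isAffineHom_π_app D c hc i₁
  let V : c.pt.Opens := c.π.app i₁ ⁻¹ᵁ U.1
  have hVaff : IsAffineOpen V := U.2.preimage (c.π.app i₁)
  have hUaff : ∀ j : Over i₁, IsAffine ((opensDiagram D i₁ U.1).obj j) :=
    fun j => U.2.preimage (D.map _)
  have hVaff' : IsAffine (opensCone D c i₁ U.1).pt := hVaff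
  have inst : ∀ j, IsAffine (((Functor.const (Over i₁)).obj (opensCone D c i₁ U.1).pt).obj j) :=
    fun _ => hVaff'
  let W₀ : (D.obj i₁).Opens := D.map (𝟙 i₁) ⁻¹ᵁ U.1
  have hW₀ : IsAffineOpen W₀ := U.2.preimage (D.map (𝟙 i₁))
  have hle0 : W₀ ≤ U.1 := by simp [W₀]
  haveI : IsAffine W₀ := hW₀
  -- generators on W₀ as a scheme
  have gen : ∀ (L : (D.obj i₁).IdealSheafData) (x : Γ(D.obj i₁, U.1)),
      L.ideal U = Ideal.span {x} →
      (L.comap W₀.ι).ideal ⟨⊤, isAffineOpen_top _⟩ =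
        Ideal.span {W₀.topIso.inv.hom ((D.obj i₁).presheaf.map (homOfLE hle0).op x)} := by
    intro L x hx
    have h1 := ideal_comap_top_eq_map_topIso_inv L W₀ hW₀
    have h2 : L.ideal ⟨W₀, hW₀⟩ =
        Ideal.span {((D.obj i₁).presheaf.map (homOfLE hle0).op).hom x} := by
      rw [← L.map_ideal (U := ⟨W₀, hW₀⟩) (V := U) hle0, hx, Ideal.map_span,
        Set.image_singleton]
      rfl
    rw [h2, Ideal.map_span, Set.image_singleton] at h1
    exact h1
  have hπ : ∀ L : (D.obj i₁).IdealSheafData, (L.comap (c.π.app i₁)).comap V.ι =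
      (L.comap W₀.ι).comap ((opensCone D c i₁ U.1).π.app (Over.mk (𝟙 i₁))) := by
    intro L
    change _ = (L.comap W₀.ι).comap ((c.π.app i₁).resLE _ _ _)
    rw [← comap_comp, ← comap_comp, Scheme.Hom.resLE_comp_ι]
  -- membership in the limit
  have H : ((opensCone D c i₁ U.1).π.app (Over.mk (𝟙 i₁))).appTop.hom
      (W₀.topIso.inv.hom ((D.obj i₁).presheaf.map (homOfLE hle0).op e)) ∈
      Ideal.span {((opensCone D c i₁ U.1).π.app (Over.mk (𝟙 i₁))).appTop.hom
        (W₀.topIso.inv.hom ((D.obj i₁).presheaf.map (homOfLE hle0).op d))} := by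
    have h1 : (J₁.comap (c.π.app i₁)).comap V.ι ≤ (K.comap (c.π.app i₁)).comap V.ι :=
      comap_mono V.ι hle
    rw [hπ J₁, hπ K] at h1
    exact (comap_le_iff_mem ((opensCone D c i₁ U.1).π.app (Over.mk (𝟙 i₁))) _ _ _ _
      (gen J₁ e he) (gen K d hd)).mp h1
  obtain ⟨l, m, hm⟩ := affine_mem (opensDiagram D i₁ U.1) (opensCone D c i₁ U.1)
    (isLimitOpensCone D c hc i₁ U.1) (Over.mk (𝟙 i₁)) _ _ H
  -- inequality on the stage `l`
  have R : (J₁.comap W₀.ι).comap ((opensDiagram D i₁ U.1).map m) ≤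
      (K.comap W₀.ι).comap ((opensDiagram D i₁ U.1).map m) := by
    exact (comap_le_iff_mem ((opensDiagram D i₁ U.1).map m) _ _ _ _
      (gen J₁ e he) (gen K d hd)).mpr hm
  refine ⟨l.left, l.hom, ?_⟩
  intro k g g' hg
  subst hg
  let n : Over.mk (g ≫ l.hom) ⟶ l := Over.homMk g rfl
  have R' : ((J₁.comap W₀.ι).comap ((opensDiagram D i₁ U.1).map m)).comap
      ((opensDiagram D i₁ U.1).map n) ≤
      ((K.comap W₀.ι).comap ((opensDiagram D i₁ U.1).map m)).comap
        ((opensDiagram D i₁ U.1).map n) := comap_mono ((opensDiagram D i₁ U.1).map n) R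
  have eq : ∀ L : (D.obj i₁).IdealSheafData,
      ((L.comap W₀.ι).comap ((opensDiagram D i₁ U.1).map m)).comap
        ((opensDiagram D i₁ U.1).map n) =
      (L.comap (D.map (g ≫ l.hom))).comap (D.map (g ≫ l.hom) ⁻¹ᵁ U.1).ι := by
    intro L
    have hmc := (opensDiagram D i₁ U.1).map_comp n m
    calc ((L.comap W₀.ι).comap ((opensDiagram D i₁ U.1).map m)).comap
          ((opensDiagram D i₁ U.1).map n)
        = (L.comap W₀.ι).comap ((opensDiagram D i₁ U.1).map (n ≫ m)) := by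
          rw [hmc]; exact (comap_comp _ _ _).symm
      _ = _ := comap_map_eq D i₁ U.1 (Over.mk (g ≫ l.hom)) (n ≫ m) L
  rw [eq J₁, eq K] at R'
  exact R'

include hc in
theorem lemmaM [∀ {i j} (f : i ⟶ j), IsAffineHom (D.map f)] (i₁ : I) [CompactSpace (D.obj i₁)]
    (J₁ K : (D.obj i₁).IdealSheafData)
    (hle : J₁.comap (c.π.app i₁) ≤ K.comap (c.π.app i₁))
    (hloc : ∀ x : D.obj i₁, ∃ U : (D.obj i₁).affineOpens, x ∈ U.1 ∧ ∃ e d : Γ(D.obj i₁, U.1),
      J₁.ideal U = Ideal.span {e} ∧ K.ideal U = Ideal.span {d}) :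
    ∃ (k : I) (t : k ⟶ i₁), J₁.comap (D.map t) ≤ K.comap (D.map t) := by
  choose U hxU e d he hd using hloc
  obtain ⟨σ, hσ⟩ := CompactSpace.elim_nhds_subcover (fun x ↦ ((U x).1 : Set (D.obj i₁)))
    (fun x ↦ (U x).1.2.mem_nhds (hxU x))
  obtain ⟨j, f, hj⟩ := eventually_finset σ
    (fun x k g' ↦ (J₁.comap (D.map g')).comap (D.map g' ⁻¹ᵁ (U x).1).ι ≤
        (K.comap (D.map g')).comap (D.map g' ⁻¹ᵁ (U x).1).ι)
    (fun x _ ↦ local_stage D c hc i₁ J₁ K hle (U x) (e x) (d x) (he x) (hd x))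
  refine ⟨j, f, ?_⟩
  have hP := hj j (𝟙 j) f (Category.id_comp f)
  refine le_of_iSup_eq_top
    (fun x : σ => ⟨D.map f ⁻¹ᵁ (U x.1).1, (U x.1).2.preimage (D.map f)⟩) ?_ (fun x => ?_)
  · rw [← top_le_iff]
    rintro y -
    have : (D.map f) y ∈ ⋃ x ∈ σ, ((U x).1 : Set (D.obj i₁)) := hσ.ge (Set.mem_univ _)
    obtain ⟨x, hx, hyx⟩ := Set.mem_iUnion₂.mp this
    exact Opens.mem_iSup.mpr ⟨⟨x, hx⟩, hyx⟩
  · have hV : IsAffineOpen (D.map f ⁻¹ᵁ (U x.1).1) := (U x.1).2.preimage (D.map f)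
    haveI : IsAffine (D.map f ⁻¹ᵁ (U x.1).1) := hV
    rw [ideal_eq_map_topIso (J₁.comap (D.map f)) _ hV, ideal_eq_map_topIso (K.comap (D.map f)) _ hV]
    exact Ideal.map_mono (hP x.1 x.2 ⟨⊤, isAffineOpen_top _⟩)


/-- Let S be a quasi-compact quasi-separated scheme, (X_i, I_i) a cofiltered system of S-schemes, all
quasi-compact and quasi-separated, carrying quasi-coherent ideal sheaves of effective Cartier
divisors, with affine and minimal transition morphisms, and let X be its limit (as an S-scheme) with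
projections π_i and modulus I = I_i.comap π_i for every i. Let Y ⟶ S be locally of finite type with
Y quasi-compact and quasi-separated, carrying the ideal sheaf I_Y of an effective Cartier divisor.
Assume that either every transition morphism is scheme-theoretically dominant, or Y ⟶ S is locally
of finite presentation. Then every S-morphism φ : X ⟶ Y satisfying the modulus condition I ≤
I_Y.comap φ descends: for some i there is an S-morphism φ_i : X_i ⟶ Y satisfying the modulus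
condition I_i ≤ I_Y.comap φ_i with π_i ≫ φ_i = φ. (The base is taken to be a scheme, that is the
base modulus pair with empty modulus; morphisms over an arbitrary base modulus pair are among
these.) -/
theorem result {S : Scheme.{u}}
    [CompactSpace S] [QuasiSeparatedSpace S] {I : Type u} [SmallCategory I] [IsCofiltered I]
    (D : I ⥤ Over S) (c : Cone D) (hc : IsLimit c)
    [∀ (i j : I) (t : i ⟶ j), IsAffineHom (D.map t).left]
    [∀ i, CompactSpace (D.obj i).left] [∀ i, QuasiSeparatedSpace (D.obj i).left]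
    (J : ∀ i, (D.obj i).left.IdealSheafData) (hJ : ∀ i, BlowUp.IsEffCartierIdeal (J i))
    (hmin : ∀ (i j : I) (t : i ⟶ j), ModPair.IsMinimal (J i) (J j) (D.map t).left)
    (IX : c.pt.left.IdealSheafData) (hIX : ∀ i, IX = (J i).comap (c.π.app i).left)
    (Y : Over S) [CompactSpace Y.left] [QuasiSeparatedSpace Y.left] [LocallyOfFiniteType Y.hom]
    (IY : Y.left.IdealSheafData) (hY : BlowUp.IsEffCartierIdeal IY)
    (h : (∀ (i j : I) (t : i ⟶ j), IsSchemeTheoreticallyDominant (D.map t).left) ∨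
      LocallyOfFinitePresentation Y.hom)
    (φ : c.pt ⟶ Y) (hφ : ModPair.IsAmbient IX IY φ.left) :
    ∃ (i : I) (φi : D.obj i ⟶ Y), ModPair.IsAmbient (J i) IY φi.left ∧ c.π.app i ≫ φi = φ := by
  have i1 (i : I) : CompactSpace ((D ⋙ Over.forget S).obj i) :=
    inferInstanceAs (CompactSpace (D.obj i).left)
  have i2 (i : I) : QuasiSeparatedSpace ((D ⋙ Over.forget S).obj i) :=
    inferInstanceAs (QuasiSeparatedSpace (D.obj i).left)
  have i3 {i j : I} (f : i ⟶ j) : IsAffineHom ((D ⋙ Over.forget S).map f) :=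
    inferInstanceAs (IsAffineHom (D.map f).left)
  have hlim := isLimitOfPreserves (Over.forget S) hc
  -- Step 1: descend the morphism
  obtain ⟨i₁, φ₁, hφ₁⟩ : ∃ (i : I) (φi : D.obj i ⟶ Y), c.π.app i ≫ φi = φ := by
    rcases h with hdom | hfp
    · haveI := hdom
      exact (Groth.Agent.S18742.result D c hc Y).1 φ
    · obtain ⟨k, u, h1, h2⟩ := Scheme.exists_π_app_comp_eq_of_locallyOfFinitePresentation
        (D ⋙ Over.forget _) (.mk (fun _ ↦ (D.obj _).hom)) Y.hom _ hlim φ.left (by ext; simp)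
      exact ⟨k, Over.homMk u h2, by ext; exact h1⟩
  -- Step 2: descend the modulus condition
  let K : (D.obj i₁).left.IdealSheafData := IY.comap φ₁.left
  have hle : (J i₁).comap (c.π.app i₁).left ≤ K.comap (c.π.app i₁).left := by
    rw [← hIX i₁]
    have : K.comap (c.π.app i₁).left = IY.comap φ.left := by
      rw [← comap_comp, ← hφ₁]; rfl
    rw [this]; exact hφ
  have hloc : ∀ x : (D.obj i₁).left, ∃ U : (D.obj i₁).left.affineOpens, x ∈ U.1 ∧
      ∃ e d : Γ((D.obj i₁).left, U.1),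
        (J i₁).ideal U = Ideal.span {e} ∧ K.ideal U = Ideal.span {d} := by
    intro x
    obtain ⟨U₁, hxU₁, e, he, hU₁⟩ := hJ i₁ x
    obtain ⟨V, hyV, d, hd, hV⟩ := hY (φ₁.left x)
    obtain ⟨_, ⟨W, hW, rfl⟩, hxW, hWle⟩ :=
      (D.obj i₁).left.isBasis_affineOpens.exists_subset_of_mem_open
        (show x ∈ ((U₁.1 ⊓ φ₁.left ⁻¹ᵁ V.1 : (D.obj i₁).left.Opens) : Set _) from ⟨hxU₁, hyV⟩)
        (U₁.1 ⊓ φ₁.left ⁻¹ᵁ V.1).isOpen
    have hle1 : W ≤ U₁.1 := fun y hy => (hWle hy).1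
    have hle2 : W ≤ φ₁.left ⁻¹ᵁ V.1 := fun y hy => (hWle hy).2
    refine ⟨⟨W, hW⟩, hxW, ((D.obj i₁).left.presheaf.map (homOfLE hle1).op).hom e,
      (φ₁.left.appLE V.1 W hle2).hom d, ?_, ?_⟩
    · rw [← (J i₁).map_ideal (U := ⟨W, hW⟩) (V := U₁) hle1, hU₁, Ideal.map_span,
        Set.image_singleton]
      rfl
    · change (IY.comap φ₁.left).ideal ⟨W, hW⟩ = _
      rw [ideal_comap_of_le φ₁.left IY W hW V.1 V.2 hle2]
      change Ideal.map _ (IY.ideal V) = _
      rw [hV, Ideal.map_span, Set.image_singleton]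
  obtain ⟨k, t, hk⟩ := lemmaM (D ⋙ Over.forget S) _ hlim i₁ (J i₁) K hle hloc
  refine ⟨k, D.map t ≫ φ₁, ?_, ?_⟩
  · change J k ≤ IY.comap (D.map t ≫ φ₁).left
    rw [show J k = (J i₁).comap (D.map t).left from hmin k i₁ t]
    have : IY.comap (D.map t ≫ φ₁).left = K.comap (D.map t).left := by
      rw [Over.comp_left, comap_comp]
    rw [this]; exact hk
  · rw [← Category.assoc, c.w, hφ₁]

end Groth.Agent.S18745
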