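import Groth.Statements.S18751
import Groth.Agent.Lib.Helper16.BlowUpProper

set_option autoImplicit false
universe u
open CategoryTheory CategoryTheory.Limits AlgebraicGeometry TopologicalSpace
open ModPair

namespace Groth.Agent.S18751

/-- Let (S, I_S), (T, J), (X, I) be schemes with quasi-coherent ideal sheaves of effective Cartier
divisors, f : X ⟶ S and g : T ⟶ S morphisms satisfying the modulus condition, and (Y, K) together
with π : Y ⟶ Y₀ an ambient product of (X, I) and (T, J) over S (Y₀ the scheme-theoretic image of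
pr₁⁻¹(X°) ∩ pr₂⁻¹(T°) in X ×_S T, π a blowing up of Y₀ in the sum of the pulled-back moduli, K times
the exceptional ideal equal to the product of the pulled-back moduli). Then the projection Y ⟶ T is
of finite type if f is of finite type, universally closed if f is universally closed, and proper if
f is proper. -/
theorem result {S T X Y : Scheme.{u}}
    (IS : S.IdealSheafData) (J : T.IdealSheafData) (I : X.IdealSheafData)
    (hS : BlowUp.IsEffCartierIdeal IS) (hT : BlowUp.IsEffCartierIdeal J) (hX : BlowUp.IsEffCartierIdeal I)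
    (f : X ⟶ S) (hf : ModPair.IsAmbient I IS f) (g : T ⟶ S) (hg : ModPair.IsAmbient J IS g)
    (π : Y ⟶ ModPair.mprod f g I J) (K : Y.IdealSheafData) (hY : ModPair.IsAmbProd f g I J π K) :
    ((LocallyOfFiniteType f ∧ QuasiCompact f) →
        LocallyOfFiniteType (π ≫ ModPair.mprodι f g I J ≫ pullback.snd f g) ∧
          QuasiCompact (π ≫ ModPair.mprodι f g I J ≫ pullback.snd f g)) ∧
      (UniversallyClosed f → UniversallyClosed (π ≫ ModPair.mprodι f g I J ≫ pullback.snd f g)) ∧
      (IsProper f → IsProper (π ≫ ModPair.mprodι f g I J ≫ pullback.snd f g)) := by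
  obtain ⟨hπ, -⟩ := hY
  have hfgcomap : ∀ {Z W : Scheme.{u}} (L : W.IdealSheafData) (hL : BlowUp.IsEffCartierIdeal L)
      (r : Z ⟶ W) (x : Z), ∃ O : Z.Opens, x ∈ O ∧ ∀ V : Z.affineOpens, V.1 ≤ O →
        ((L.comap r).ideal V).FG := by
    intro Z W L hL r x
    obtain ⟨U, hxU, a, -, ha⟩ := hL (r x)
    refine ⟨r ⁻¹ᵁ U.1, hxU, fun V hV => ?_⟩
    rw [Groth.Agent.Lib.Helper82.ideal_comap_of_le r L V.1 V.2 U.1 U.2 hV]
    change ((L.ideal U).map _).FG
    rw [ha, Ideal.map_span, Set.image_singleton]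
    exact ⟨{(r.appLE U.1 V.1 hV).hom a}, by simp⟩
  have hprop : IsProper π := by
    refine Groth.Agent.Lib.Helper16.BlowUpProper.isProper_of_isBlowUp
      (ModPair.prodCentre f g I J) π hπ ?_
    intro x
    obtain ⟨O₁, hx₁, h₁⟩ := hfgcomap I hX
      (ModPair.mprodι f g I J ≫ pullback.fst f g) x
    obtain ⟨O₂, hx₂, h₂⟩ := hfgcomap J hT
      (ModPair.mprodι f g I J ≫ pullback.snd f g) x
    obtain ⟨V, hV, hxV, hVle⟩ := exists_isAffineOpen_mem_and_subset
      (U := O₁ ⊓ O₂) (x := x) ⟨hx₁, hx₂⟩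
    refine ⟨⟨V, hV⟩, hxV, ?_⟩
    unfold ModPair.prodCentre
    rw [Scheme.IdealSheafData.ideal_sup]
    exact Submodule.FG.sup (h₁ ⟨V, hV⟩ (fun z hz => (hVle hz).1))
      (h₂ ⟨V, hV⟩ (fun z hz => (hVle hz).2))
  refine ⟨?_, ?_, ?_⟩
  · rintro ⟨h1, h2⟩
    exact ⟨inferInstance, inferInstance⟩
  · intro h
    infer_instance
  · intro h
    infer_instance

end Groth.Agent.S18751
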