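import Groth.Statements.S18753
import Mathlib
import Groth.Agent.Lib.Helper41.SemiValSch
import Groth.Agent.Lib.Helper41.ValFinFib

set_option autoImplicit false
universe u
open CategoryTheory CategoryTheory.Limits AlgebraicGeometry TopologicalSpace
open ModPair

namespace Groth.Agent.S18753

open Groth.Agent.Lib.Helper41.SemiVal Groth.Agent.Lib.Helper82 IsLocalRing

section aux

variable {O : Type u} [CommRing O] [IsLocalRing O] (R : ValuationSubring (ResidueField O))
  (f : ↥((R.toSubring).comap (residue O)))

theorem range_J :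
    Set.range (Spec.map (CommRingCat.ofHom (Ideal.Quotient.mk (Ideal.span {f})))) =
      PrimeSpectrum.zeroLocus (Ideal.span {f} : Ideal ↥((R.toSubring).comap (residue O))) := by
  have := _root_.range_comap_of_surjective _ (Ideal.Quotient.mk (Ideal.span {f}))
    Ideal.Quotient.mk_surjective
  rw [Ideal.mk_ker] at this
  exact this

theorem mem_support_iff (p : Spec (CommRingCat.of ↥((R.toSubring).comap (residue O)))) :
    p ∈ (Spec.map (CommRingCat.ofHom (Ideal.Quotient.mk (Ideal.span {f})))).ker.support ↔
      f ∈ p.asIdeal := by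
  haveI : IsClosedImmersion (Spec.map (CommRingCat.ofHom (Ideal.Quotient.mk (Ideal.span {f})))) :=
    IsClosedImmersion.spec_of_surjective _ Ideal.Quotient.mk_surjective
  have hcl : IsClosed (Set.range
      (Spec.map (CommRingCat.ofHom (Ideal.Quotient.mk (Ideal.span {f}))))) :=
    (Spec.map (CommRingCat.ofHom
      (Ideal.Quotient.mk (Ideal.span {f})))).isClosedEmbedding.isClosed_range
  rw [← SetLike.mem_coe, Scheme.Hom.support_ker, hcl.closure_eq, range_J,
    PrimeSpectrum.zeroLocus_span]
  exact (PrimeSpectrum.mem_zeroLocus _ _).trans Set.singleton_subset_iff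

theorem mem_range_zmap_of_mem [IsLocalization.Away f O]
    (p : Spec (CommRingCat.of ↥((R.toSubring).comap (residue O)))) (hp : f ∈ p.asIdeal) :
    p ∈ Set.range (zmap R) := by
  have := _root_.range_comap_of_surjective _ (ρ R) (ρ_surjective R)
  show p ∈ Set.range (PrimeSpectrum.comap (ρ R))
  rw [this]
  refine (PrimeSpectrum.mem_zeroLocus _ _).mpr ?_
  intro x hx
  obtain ⟨y, -, rfl⟩ := exists_mul_of_ρ_eq_zero R f x hx
  exact Ideal.mul_mem_right _ _ hp

theorem J_ideal_top :
    (Spec.map (CommRingCat.ofHom (Ideal.Quotient.mk (Ideal.span {f})))).ker.ideal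
        ⟨⊤, isAffineOpen_top _⟩ =
      Ideal.span {(Scheme.ΓSpecIso
        (CommRingCat.of ↥((R.toSubring).comap (residue O)))).inv.hom f} := by
  let eA := (Scheme.ΓSpecIso
    (CommRingCat.of ↥((R.toSubring).comap (residue O)))).commRingCatIsoToRingEquiv
  haveI : IsClosedImmersion (Spec.map (CommRingCat.ofHom (Ideal.Quotient.mk (Ideal.span {f})))) :=
    IsClosedImmersion.spec_of_surjective _ Ideal.Quotient.mk_surjective
  rw [Scheme.Hom.ker_apply]
  have hnat := Scheme.ΓSpecIso_naturality
    (CommRingCat.ofHom (Ideal.Quotient.mk (Ideal.span {f})))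
  have hinj : Function.Injective (Scheme.ΓSpecIso (CommRingCat.of
      (↥((R.toSubring).comap (residue O)) ⧸ Ideal.span {f}))).hom.hom :=
    (ConcreteCategory.bijective_of_isIso (Scheme.ΓSpecIso _).hom).1
  ext x
  rw [RingHom.mem_ker]
  have h1 : (Scheme.ΓSpecIso (CommRingCat.of
      (↥((R.toSubring).comap (residue O)) ⧸ Ideal.span {f}))).hom.hom
        ((Spec.map (CommRingCat.ofHom (Ideal.Quotient.mk (Ideal.span {f})))).appTop.hom x) =
      Ideal.Quotient.mk (Ideal.span {f}) (eA x) := congrArg (fun g => g.hom x) hnat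
  have h2 : Ideal.Quotient.mk (Ideal.span {f}) (eA x) = 0 ↔ eA x ∈ Ideal.span {f} :=
    Ideal.Quotient.eq_zero_iff_mem
  have h3 : eA x ∈ Ideal.span {f} ↔ x ∈ Ideal.span {(Scheme.ΓSpecIso
        (CommRingCat.of ↥((R.toSubring).comap (residue O)))).inv.hom f} := by
    rw [Ideal.mem_span_singleton', Ideal.mem_span_singleton']
    constructor
    · rintro ⟨a, ha⟩
      refine ⟨eA.symm a, ?_⟩
      apply eA.injective
      rw [map_mul, eA.apply_symm_apply, ← ha]
      congr 1
      exact eA.apply_symm_apply f
    · rintro ⟨a, ha⟩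
      refine ⟨eA a, ?_⟩
      rw [← ha, map_mul]
      congr 1
      exact (eA.apply_symm_apply f).symm
  rw [← h3, ← h2]
  change (Spec.map (CommRingCat.ofHom (Ideal.Quotient.mk (Ideal.span {f})))).appTop.hom x = 0 ↔ _
  constructor
  · intro h
    rw [h, map_zero] at h1
    exact h1.symm
  · intro h
    apply hinj
    rw [h1, map_zero]
    exact h

end aux

/-- Let O be a local ring with residue field κ, R a valuation ring of κ, A ⊆ O the subring of elements
whose residue class lies in R (the fibre product ring R ×_κ O, a semi-valuation ring), and f an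
element of A such that O is the localization of A obtained by inverting f. Equip P = Spec A with the
modulus V(f), the closed subscheme cut out by f (an effective Cartier divisor: f is a unit of O, so
a nonzerodivisor of A), whose interior is Spec O. Let q : Q ⟶ P be a proper, minimal morphism of
modulus pairs (the modulus of Q is the pull-back of V(f) and is an effective Cartier divisor) whose
restriction over the interior of P is a finite morphism. Then q is finite. -/
theorem result {O : Type u} [CommRing O]
    [IsLocalRing O] (R : ValuationSubring (IsLocalRing.ResidueField O))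
    (f : ↥((R.toSubring).comap (IsLocalRing.residue O)))
    [IsLocalization.Away f O] {Q : Scheme.{u}} (IQ : Q.IdealSheafData)
    (hQ : BlowUp.IsEffCartierIdeal IQ)
    (q : Q ⟶ Spec (CommRingCat.of ↥((R.toSubring).comap (IsLocalRing.residue O))))
    (hq : ModPair.IsMinimal IQ
      (Spec.map (CommRingCat.ofHom (Ideal.Quotient.mk (Ideal.span {f})))).ker q)
    [IsProper q]
    (hfin : IsFinite (q ∣_ ModPair.interior
      (Spec.map (CommRingCat.ofHom (Ideal.Quotient.mk (Ideal.span {f})))).ker)) :
    IsFinite q := by
  classical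
  haveI hJci : IsClosedImmersion
      (Spec.map (CommRingCat.ofHom (Ideal.Quotient.mk (Ideal.span {f})))) :=
    IsClosedImmersion.spec_of_surjective _ Ideal.Quotient.mk_surjective
  choose W hW g hg hIg using hQ
  have hnzd : ∀ y, (q.appLE ⊤ (W y).1 le_top).hom
      ((Scheme.ΓSpecIso (CommRingCat.of ↥((R.toSubring).comap (residue O)))).inv.hom f) ∈
        nonZeroDivisors Γ(Q, (W y).1) := by
    intro y
    have h1 : IQ.ideal (W y) =
        ((Spec.map (CommRingCat.ofHom (Ideal.Quotient.mk (Ideal.span {f})))).ker.ideal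
          ⟨⊤, isAffineOpen_top _⟩).map (q.appLE ⊤ (W y).1 le_top).hom := by
      rw [show IQ = _ from hq]
      exact ideal_comap_of_le q _ (W y).1 (W y).2 ⊤ (isAffineOpen_top _) le_top
    rw [J_ideal_top R f, Ideal.map_span, Set.image_singleton, hIg y] at h1
    have h3 : g y ∈ Ideal.span {(q.appLE ⊤ (W y).1 le_top).hom
        ((Scheme.ΓSpecIso (CommRingCat.of ↥((R.toSubring).comap (residue O)))).inv.hom f)} := by
      rw [← h1]; exact Ideal.mem_span_singleton_self _
    obtain ⟨b, hb⟩ := Ideal.mem_span_singleton'.mp h3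
    rw [mem_nonZeroDivisors_iff_right]
    intro x hx
    apply (mem_nonZeroDivisors_iff_right.mp (hg y))
    rw [← hb, mul_left_comm, hx, mul_zero]
  haveI hflat : Flat (pullback.snd q (zmap R)) := flat_snd_of_nzd R f q W hW hnzd
  haveI hprop : IsProper (pullback.snd q (zmap R)) := inferInstance
  -- the generic fibre is finite
  have hgen : IsFinite (pullback.snd (pullback.snd q (zmap R))
      (Spec.map (CommRingCat.ofHom (algebraMap ↥R (FractionRing ↥R))))) := by
    have hrange : Set.range ((Spec.map (CommRingCat.ofHom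
        (algebraMap ↥R (FractionRing ↥R)))) ≫ zmap R) ⊆
          Set.range (ModPair.interior
            (Spec.map (CommRingCat.ofHom (Ideal.Quotient.mk (Ideal.span {f})))).ker).ι := by
      rintro _ ⟨x, rfl⟩
      rw [Scheme.Opens.range_ι]
      change ¬ (_ ∈ (Spec.map (CommRingCat.ofHom
        (Ideal.Quotient.mk (Ideal.span {f})))).ker.support)
      intro hx
      have hx2 := (mem_support_iff R f _).mp hx
      have hx3 : ρ R f ∈ ((Spec.map (CommRingCat.ofHom
          (algebraMap ↥R (FractionRing ↥R)))) x).asIdeal := hx2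
      have hx4 : algebraMap ↥R (FractionRing ↥R) (ρ R f) ∈ x.asIdeal := hx3
      have hx5 : algebraMap ↥R (FractionRing ↥R) (ρ R f) ≠ 0 := by
        intro h0
        exact ρ_f_ne_zero R f (IsFractionRing.injective ↥R (FractionRing ↥R)
          (by rw [h0, map_zero]))
      exact x.2.ne_top ((Ideal.eq_top_iff_one _).mpr (by
        have := Ideal.mul_mem_left x.asIdeal
          (algebraMap ↥R (FractionRing ↥R) (ρ R f))⁻¹ hx4
        rwa [inv_mul_cancel₀ hx5] at this))
    let ℓ := IsOpenImmersion.lift (ModPair.interior
      (Spec.map (CommRingCat.ofHom (Ideal.Quotient.mk (Ideal.span {f})))).ker).ι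
        ((Spec.map (CommRingCat.ofHom (algebraMap ↥R (FractionRing ↥R)))) ≫ zmap R) hrange
    have hℓ : ℓ ≫ (ModPair.interior
      (Spec.map (CommRingCat.ofHom (Ideal.Quotient.mk (Ideal.span {f})))).ker).ι =
        (Spec.map (CommRingCat.ofHom (algebraMap ↥R (FractionRing ↥R)))) ≫ zmap R :=
      IsOpenImmersion.lift_fac _ _ _
    have sq1 := IsPullback.of_hasPullback (pullback.snd q (zmap R))
      (Spec.map (CommRingCat.ofHom (algebraMap ↥R (FractionRing ↥R))))
    have sq2 := IsPullback.of_hasPullback q (zmap R)
    have big := sq1.paste_horiz sq2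
    have sqU := (isPullback_morphismRestrict q (ModPair.interior
      (Spec.map (CommRingCat.ofHom (Ideal.Quotient.mk (Ideal.span {f})))).ker)).flip
    have hcomm : (pullback.fst (pullback.snd q (zmap R))
        (Spec.map (CommRingCat.ofHom (algebraMap ↥R (FractionRing ↥R)))) ≫
          pullback.fst q (zmap R)) ≫ q =
        (pullback.snd (pullback.snd q (zmap R))
          (Spec.map (CommRingCat.ofHom (algebraMap ↥R (FractionRing ↥R)))) ≫ ℓ) ≫
            (ModPair.interior
              (Spec.map (CommRingCat.ofHom (Ideal.Quotient.mk (Ideal.span {f})))).ker).ι := by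
      exact big.w.trans (by rw [Category.assoc, hℓ])
    let h₁₁ := sqU.lift _ _ hcomm
    have h₁₁fst : h₁₁ ≫ (q ⁻¹ᵁ ModPair.interior
        (Spec.map (CommRingCat.ofHom (Ideal.Quotient.mk (Ideal.span {f})))).ker).ι = _ :=
      sqU.lift_fst _ _ hcomm
    have h₁₁snd : h₁₁ ≫ (q ∣_ ModPair.interior
        (Spec.map (CommRingCat.ofHom (Ideal.Quotient.mk (Ideal.span {f})))).ker) = _ :=
      sqU.lift_snd _ _ hcomm
    have big' : IsPullback (h₁₁ ≫ (q ⁻¹ᵁ ModPair.interior
        (Spec.map (CommRingCat.ofHom (Ideal.Quotient.mk (Ideal.span {f})))).ker).ι)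
        (pullback.snd (pullback.snd q (zmap R))
          (Spec.map (CommRingCat.ofHom (algebraMap ↥R (FractionRing ↥R))))) q
        (ℓ ≫ (ModPair.interior
          (Spec.map (CommRingCat.ofHom (Ideal.Quotient.mk (Ideal.span {f})))).ker).ι) := by
      rw [h₁₁fst, hℓ]
      exact big
    have sq := IsPullback.of_right big' h₁₁snd sqU
    exact MorphismProperty.of_isPullback (P := @IsFinite) sq hfin
  haveI hqR : IsFinite (pullback.snd q (zmap R)) :=
    Groth.Agent.Lib.Helper41.ValFinFib.isFinite_of_flat_proper (pullback.snd q (zmap R)) hgen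
  haveI : LocallyQuasiFinite q := by
    apply LocallyQuasiFinite.of_finite_preimage_singleton q
    intro p
    by_cases hp : p ∈ ModPair.interior
      (Spec.map (CommRingCat.ofHom (Ideal.Quotient.mk (Ideal.span {f})))).ker
    · haveI : IsFinite (q ∣_ ModPair.interior
        (Spec.map (CommRingCat.ofHom (Ideal.Quotient.mk (Ideal.span {f})))).ker) := hfin
      have hfib := Scheme.Hom.finite_preimage_singleton (q ∣_ ModPair.interior
        (Spec.map (CommRingCat.ofHom (Ideal.Quotient.mk (Ideal.span {f})))).ker) ⟨p, hp⟩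
      refine (hfib.image (q ⁻¹ᵁ ModPair.interior
        (Spec.map (CommRingCat.ofHom (Ideal.Quotient.mk (Ideal.span {f})))).ker).ι).subset ?_
      intro y hy
      have hy' : q y = p := hy
      have hyU : y ∈ q ⁻¹ᵁ ModPair.interior
          (Spec.map (CommRingCat.ofHom (Ideal.Quotient.mk (Ideal.span {f})))).ker := by
        have : q y ∈ ModPair.interior
            (Spec.map (CommRingCat.ofHom (Ideal.Quotient.mk (Ideal.span {f})))).ker := by
          rw [hy']; exact hp
        exact this
      refine ⟨⟨y, hyU⟩, ?_, rfl⟩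
      apply Subtype.ext
      rw [morphismRestrict_base_coe]
      exact hy'
    · have hp' : p ∈ (Spec.map (CommRingCat.ofHom
          (Ideal.Quotient.mk (Ideal.span {f})))).ker.support := by
        by_contra h
        exact hp h
      obtain ⟨r, hr⟩ := mem_range_zmap_of_mem R f p ((mem_support_iff R f p).mp hp')
      have hfib := Scheme.Hom.finite_preimage_singleton (pullback.snd q (zmap R)) r
      refine (hfib.image (pullback.fst q (zmap R))).subset ?_
      intro y hy
      have hy' : q y = zmap R r := by rw [hr]; exact hy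
      obtain ⟨z, hz1, hz2⟩ := Scheme.Pullback.exists_preimage_pullback y r hy'
      exact ⟨z, hz2, hz1⟩
  exact IsFinite.of_isProper_of_locallyQuasiFinite q

end Groth.Agent.S18753
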