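import Groth.Statements.S18754
-- import your own Groth.Agent.* helpers here
import Groth.Agent.S18744
import Groth.Agent.Lib.Helper50.LimDesc

set_option autoImplicit false
universe u
open CategoryTheory CategoryTheory.Limits AlgebraicGeometry TopologicalSpace
open ModPair

namespace Groth.Agent.S18754

open AlgebraicGeometry.Scheme.IdealSheafData Groth.Agent.S18749 Groth.Agent.Lib.Helper82
open Groth.Agent.S18737 Groth.Agent.S18748 Groth.Agent.S18738 Groth.Agent.Lib.Helper50

theorem std_ι_of_eq {X : Scheme.{u}} (V W : X.Opens) (h : V = W)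
    (hW : IsSchemeTheoreticallyDominant W.ι) : IsSchemeTheoreticallyDominant V.ι := by
  subst h; exact hW

/-- a closed immersion which is an isomorphism over a scheme-theoretically dense open is an iso -/
theorem isIso_of_isClosedImmersion_of_isIso_restrict {X Z : Scheme.{u}} (π : X ⟶ Z)
    [IsClosedImmersion π] (V : Z.Opens) (hV : IsSchemeTheoreticallyDominant V.ι)
    (hπ : IsIso (π ∣_ V)) : IsIso π := by
  have h1 : V.ι = (inv (π ∣_ V) ≫ (π ⁻¹ᵁ V).ι) ≫ π := by
    rw [Category.assoc, ← morphismRestrict_ι, IsIso.inv_hom_id_assoc]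
  have h2 : IsSchemeTheoreticallyDominant ((inv (π ∣_ V) ≫ (π ⁻¹ᵁ V).ι) ≫ π) := h1 ▸ hV
  have h3 := isSchemeTheoreticallyDominant_of_comp (inv (π ∣_ V) ≫ (π ⁻¹ᵁ V).ι) π
  exact IsClosedImmersion.isIso_iff_ker_eq_bot.mpr (Scheme.Hom.ker_eq_bot π)


/-- Let (Y, I_Y) be a modulus pair with Y quasi-compact and quasi-separated, and let (X_i ⟶ Y) be a
cofiltered system of Y-schemes with affine transition morphisms such that every X_i is quasi-compact
and quasi-separated, the pulled-back ideal I_Y.comap (X_i ⟶ Y) is the ideal of an effective Cartier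
divisor, and X_i ⟶ Y is an abstract admissible blow-up of modulus pairs which is locally of finite
presentation. Let X be the limit of the system over Y and suppose that X ⟶ Y, with the pulled-back
modulus (assumed effective Cartier), is also an abstract admissible blow-up. Then X ⟶ Y is locally
of finite presentation: an abstract admissible blow-up of quasi-compact quasi-separated modulus
pairs which is not of finite presentation is never a limit of finitely presented ones. -/
theorem result {Y : Scheme.{u}}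
    [CompactSpace Y] [QuasiSeparatedSpace Y] (IY : Y.IdealSheafData) (hY : BlowUp.IsEffCartierIdeal IY)
    {I : Type u} [SmallCategory I] [IsCofiltered I] (D : I ⥤ Over Y) (c : Cone D) (hc : IsLimit c)
    [∀ (i j : I) (t : i ⟶ j), IsAffineHom (D.map t).left]
    [∀ i, CompactSpace (D.obj i).left] [∀ i, QuasiSeparatedSpace (D.obj i).left]
    (hI : ∀ i, BlowUp.IsEffCartierIdeal (IY.comap (D.obj i).hom))
    (hadm : ∀ i, ModPair.IsAdmBlowup (IY.comap (D.obj i).hom) IY (D.obj i).hom)
    [∀ i, LocallyOfFinitePresentation (D.obj i).hom]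
    (hX : BlowUp.IsEffCartierIdeal (IY.comap c.pt.hom))
    (hXadm : ModPair.IsAdmBlowup (IY.comap c.pt.hom) IY c.pt.hom) :
    LocallyOfFinitePresentation c.pt.hom := by
  let D' : I ⥤ Scheme.{u} := D ⋙ Over.forget Y
  let c' : Cone D' := (Over.forget Y).mapCone c
  have hc' : IsLimit c' := isLimitOfPreserves (Over.forget Y) hc
  haveI : ∀ (i j : I) (t : i ⟶ j), IsAffineHom (D'.map t) := fun i j t => by
    dsimp [D']; infer_instance
  haveI : ∀ i, CompactSpace (D'.obj i) := fun i => inferInstanceAs (CompactSpace (D.obj i).left)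
  obtain ⟨i₀⟩ := IsCofiltered.nonempty (C := I)
  obtain ⟨hminX, hpropX, hisoX⟩ := hXadm
  have e0 : 𝟙 c'.pt ≫ c'.π.app i₀ ≫ (D.obj i₀).hom = c.pt.hom := by
    rw [Category.id_comp]; exact Over.w (c.π.app i₀)
  haveI := hpropX
  haveI : LocallyOfFiniteType (𝟙 c'.pt ≫ c'.π.app i₀ ≫ (D.obj i₀).hom) := by
    rw [e0]; exact hpropX.toLocallyOfFiniteType
  obtain ⟨j, fj, hj⟩ := exists_forall_isClosedImmersion_comp_π D' c' hc' i₀ (D.obj i₀).hom
    (𝟙 c'.pt)
  have hcl : IsClosedImmersion (c.π.app j).left := by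
    have := hj j (𝟙 j)
    rwa [Category.id_comp] at this
  have hw : (c.π.app j).left ≫ (D.obj j).hom = c.pt.hom := Over.w (c.π.app j)
  obtain ⟨-, -, hisoj⟩ := hadm j
  have hcomp : IsIso (((c.π.app j).left ≫ (D.obj j).hom) ∣_ ModPair.interior IY) := by
    rw [hw]; exact hisoX
  rw [morphismRestrict_comp] at hcomp
  haveI := hcomp
  haveI := hisoj
  have hπr : IsIso ((c.π.app j).left ∣_ ((D.obj j).hom ⁻¹ᵁ ModPair.interior IY)) :=
    @IsIso.of_isIso_comp_right _ _ _ _ _ _ _ hisoj hcomp
  have hdense : IsSchemeTheoreticallyDominant ((D.obj j).hom ⁻¹ᵁ ModPair.interior IY).ι :=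
    std_ι_of_eq _ _ (interior_comap IY (D.obj j).hom).symm
      (isSchemeTheoreticallyDominant_ι_compl_support _ (hI j))
  have hiso : IsIso (c.π.app j).left :=
    isIso_of_isClosedImmersion_of_isIso_restrict _ _ hdense hπr
  rw [← hw]
  infer_instance

end Groth.Agent.S18754
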