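import Groth.Statements.S18756
import Groth.Agent.Lib.Helper50.Descent11

set_option autoImplicit false
universe u
open CategoryTheory CategoryTheory.Limits AlgebraicGeometry TopologicalSpace
open ModPair

namespace Groth.Agent.S18756

/-- Let (X_i) be a cofiltered system of schemes with affine transition morphisms such that X_{i₀} is
quasi-compact and quasi-separated for some index i₀, let X be its limit, and let {U_a ⟶ X} be an
fppf covering: a jointly surjective family of morphisms which are flat and of finite presentation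
(flat, locally of finite presentation, quasi-compact and quasi-separated). Then the covering
descends: for some index i there is a finite fppf covering {V_j ⟶ X_i}_{j < n} such that every V_j
×_{X_i} X is one of the U_a, i.e. for each j some U_{a_j} ⟶ X is the base change of V_j ⟶ X_i along
X ⟶ X_i. (The source states the same for Zariski, Nisnevich and étale coverings; only the fppf case
is given here.) -/
theorem result {I : Type u} [SmallCategory I] [IsCofiltered I]
    (D : I ⥤ Scheme.{u}) (c : Cone D) (hc : IsLimit c)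
    [∀ (i j : I) (t : i ⟶ j), IsAffineHom (D.map t)] (i₀ : I) [CompactSpace (D.obj i₀)]
    [QuasiSeparatedSpace (D.obj i₀)] {ι : Type u} (U : ι → Scheme.{u}) (u : ∀ a, U a ⟶ c.pt)
    [∀ a, Flat (u a)] [∀ a, LocallyOfFinitePresentation (u a)] [∀ a, QuasiCompact (u a)]
    [∀ a, QuasiSeparated (u a)] (hcov : ∀ x : c.pt, ∃ (a : ι) (y : U a), (u a).base y = x) :
    ∃ (i : I) (n : ℕ) (V : Fin n → Scheme.{u}) (v : ∀ j, V j ⟶ D.obj i) (a : Fin n → ι)
      (e : ∀ j, U (a j) ⟶ V j),
      (∀ j, Flat (v j) ∧ LocallyOfFinitePresentation (v j) ∧ QuasiCompact (v j) ∧ QuasiSeparated (v j)) ∧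
      (∀ x : D.obj i, ∃ (j : Fin n) (y : V j), (v j).base y = x) ∧
      ∀ j, IsPullback (e j) (u (a j)) (v j) (c.π.app i) := by
  open Groth.Agent.Lib.Helper50 Groth.Agent.Lib.Helper50.Descent
    Groth.Agent.Lib.Helper50.StageSetup in
  classical
  have hcpt : ∀ j : Over i₀, CompactSpace ((D₀ D i₀).obj j) := fun j => compactSpace_of_hom D j.hom
  have hqs : ∀ j : Over i₀, QuasiSeparatedSpace ((D₀ D i₀).obj j) :=
    fun j => quasiSeparatedSpace_of_hom D j.hom
  have : CompactSpace c.pt := compactSpace_pt D c hc i₀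
  have : IsAffineHom (c.π.app i₀) := isAffineHom_π_app D c hc i₀
  have : QuasiSeparatedSpace c.pt := quasiSeparatedSpace_of_quasiSeparated (c.π.app i₀)
  have hUc : ∀ a, CompactSpace (U a) := fun a => QuasiCompact.compactSpace_of_compactSpace (u a)
  have hUq : ∀ a, QuasiSeparatedSpace (U a) := fun a => quasiSeparatedSpace_of_quasiSeparated (u a)
  have huo : ∀ a, UniversallyOpen (u a) := fun a => inferInstance
  have hopen : ∀ a, IsOpen (Set.range (u a)) := fun a => (u a).isOpenMap.isOpen_range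
  obtain ⟨t, ht⟩ := isCompact_univ.elim_finite_subcover (fun a => Set.range (u a)) hopen
    (fun x _ => by
      obtain ⟨a, y, h⟩ := hcov x
      exact Set.mem_iUnion.mpr ⟨a, y, h⟩)
  let a : Fin t.card → ι := fun j => (t.equivFin.symm j : ι)
  have hcov' : ∀ x : (c₀ D c i₀).pt, ∃ (j : Fin t.card) (y : U (a j)), u (a j) y = x := by
    intro x
    obtain ⟨b, hb⟩ := Set.mem_iUnion.mp (ht (Set.mem_univ x))
    obtain ⟨hbt, y, hy⟩ := Set.mem_iUnion.mp hb
    refine ⟨t.equivFin ⟨b, hbt⟩, ?_⟩
    have e : a (t.equivFin ⟨b, hbt⟩) = b := by simp [a]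
    rw [e]
    exact ⟨y, hy⟩
  obtain ⟨i, V, v, e, hV⟩ := exists_descent_with_fin (D₀ D i₀) (c₀ D c i₀) (hc₀ D c hc i₀) @Flat
    (fun i₁ X₀ X f₀ _ _ _ f qX hX hf ↦ by
      obtain ⟨j, hj⟩ := exists_forall_flat_τ (D₀ D i₀) (c₀ D c i₀) (hc₀ D c hc i₀) i₁ f₀ (𝟙 _) f
        (𝟙 _) ((c₀ D c i₀).π.app i₁) qX (IsPullback.id_vert _) hX
      exact ⟨j, hj j (𝟙 j)⟩)
    (fun j => U (a j)) (fun j => u (a j)) (fun j => inferInstance)
  have hvo : ∀ j, UniversallyOpen (v j) := fun j => by
    have := (hV j).2.2.2.1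
    have := (hV j).1
    infer_instance
  obtain ⟨k, ψ, hk⟩ := exists_rebase_jointly_surjective (D₀ D i₀) (c₀ D c i₀) (hc₀ D c hc i₀) v
    (fun j => (hV j).2.2.2.2) hcov'
  have hqk : QuasiSeparatedSpace (D.obj k.left) := hqs k
  refine ⟨k.left, t.card, fun j => pullback (v j) ((D₀ D i₀).map ψ),
    fun j => pullback.snd (v j) ((D₀ D i₀).map ψ), a,
    fun j => rebaseQ (D := D₀ D i₀) (c := c₀ D c i₀) (hV j).2.2.2.2
      (IsPullback.of_hasPullback (v j) ((D₀ D i₀).map ψ)), fun j => ⟨?_, ?_, ?_, ?_⟩, hk,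
    fun j => isPullback_rebaseQ (D := D₀ D i₀) (c := c₀ D c i₀) (hV j).2.2.2.2
      (IsPullback.of_hasPullback (v j) ((D₀ D i₀).map ψ))⟩
  · have := (hV j).2.2.2.1
    exact inferInstanceAs (Flat (pullback.snd (v j) ((D₀ D i₀).map ψ)))
  · have := (hV j).1
    exact inferInstanceAs (LocallyOfFinitePresentation (pullback.snd (v j) ((D₀ D i₀).map ψ)))
  · have := (hV j).2.1
    have : CompactSpace ↥(pullback (v j) ((D₀ D i₀).map ψ)) :=
      compactSpace_of_rebase (D := D₀ D i₀) (IsPullback.of_hasPullback (v j) ((D₀ D i₀).map ψ))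
    exact quasiCompact_of_compactSpace _
  · have := (hV j).2.2.1
    have : QuasiSeparatedSpace ↥(pullback (v j) ((D₀ D i₀).map ψ)) :=
      quasiSeparatedSpace_of_rebase (D := D₀ D i₀)
        (IsPullback.of_hasPullback (v j) ((D₀ D i₀).map ψ))
    infer_instance

end Groth.Agent.S18756
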