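import Groth.Statements.S18758
import Mathlib
import Groth.Agent.Lib.Helper11.SubLoc
import Groth.Agent.Lib.Helper45.SliceLoc
import Groth.Agent.S18738

set_option autoImplicit false
universe w v u
open CategoryTheory CategoryTheory.Limits AlgebraicGeometry TopologicalSpace
open ModPair

namespace Groth.Agent.S18758

section helpers
open CategoryTheory CategoryTheory.Limits AlgebraicGeometry TopologicalSpace
open ModPair


open Groth.Agent.Lib.Helper11 Groth.Agent.Lib.Helper45

end helpers

/-- Let S be a modulus pair and PSch_S the full subcategory of the slice category of modulus pairs over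
S on the objects whose structure morphism is of finite type (locally of finite type and
quasi-compact); let Σ_ft be the class of morphisms of PSch_S whose underlying morphism of modulus
pairs is an abstract admissible blow-up, and Q the localization functor of modulus pairs at all
abstract admissible blow-ups. Then the canonical functor from the localization of PSch_S at Σ_ft to
the slice category over Q S is fully faithful, so that it identifies the localization with the full
subcategory MSch_S of objects isomorphic to finite type ones: for every localization functor L' of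
PSch_S at Σ_ft and every functor Φ to the slice over Q S through which the inclusion followed by Q
on slices factors up to isomorphism, Φ is full and faithful. -/
theorem result (S : ModPair.Pair.{u})
    {E : Type v} [Category.{w} E]
    (L' : (ObjectProperty.FullSubcategory
        ((fun X : Over S => LocallyOfFiniteType X.hom.hom ∧ QuasiCompact X.hom.hom) :
          ObjectProperty (Over S))) ⥤ E)
    [L'.IsLocalization ((((ModPair.Pair.admBlowup.{u}).inverseImage (Over.forget S)).inverseImage
      (ObjectProperty.ι ((fun X : Over S => LocallyOfFiniteType X.hom.hom ∧ QuasiCompact X.hom.hom) :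
          ObjectProperty (Over S)))))]
    (Φ : E ⥤ Over ((ModPair.Pair.admBlowup.{u}).Q.obj S))
    (e : L' ⋙ Φ ≅ ObjectProperty.ι ((fun X : Over S => LocallyOfFiniteType X.hom.hom ∧ QuasiCompact X.hom.hom) :
          ObjectProperty (Over S)) ⋙ Over.post (ModPair.Pair.admBlowup.{u}).Q) :
    Φ.Full ∧ Φ.Faithful := by
  haveI : (ModPair.Pair.admBlowup.{u}).HasRightCalculusOfFractions := Groth.Agent.S18738.result
  refine Groth.Agent.Lib.Helper11.SubLoc.full_faithful (W := Groth.Agent.Lib.Helper45.SliceLoc.WS (ModPair.Pair.admBlowup.{u}) S)
    (Over.post (X := S) (ModPair.Pair.admBlowup.{u}).Q)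
    (Groth.Agent.Lib.Helper45.SliceLoc.inverts_post (ModPair.Pair.admBlowup.{u}).Q) L' Φ e ?_ ?_ ?_
  · intro X' X s hs hX
    obtain ⟨hmin, hprop, hiso⟩ : ModPair.IsAdmBlowup X'.left.mod X.left.mod s.left.hom := hs
    have hw : X'.hom.hom = s.left.hom ≫ X.hom.hom := by
      rw [← Over.w s]
      rfl
    obtain ⟨h1, h2⟩ := hX
    refine ⟨?_, ?_⟩
    · rw [hw]; infer_instance
    · rw [hw]; infer_instance
  · intro X Y z₁ z₂ h
    exact Groth.Agent.Lib.Helper45.SliceLoc.rel_of_map_post_eq _ z₁ z₂ h
  · intro X Y ψ
    exact Groth.Agent.Lib.Helper45.SliceLoc.exists_fraction_map_post_eq (W := ModPair.Pair.admBlowup.{u}) _ ψ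

end Groth.Agent.S18758
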