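import Groth.Statements.S1876
import Groth.Agent.Lib.Helper84.KProj
import Mathlib.LinearAlgebra.Trace
import Mathlib.Algebra.Order.Interval.Finset.SuccPred

set_option autoImplicit false
universe u
open CategoryTheory
attribute [local instance] HasDerivedCategory.standard
open Trace

namespace Groth.Agent.S1876

variable {Λ : Type u} [CommRing Λ]

lemma tr_comm {M N : ModuleCat.{u} Λ} (hM : Module.Finite Λ M ∧ Module.Free Λ M)
    (hN : Module.Finite Λ N ∧ Module.Free Λ N) (f : M ⟶ N) (g : N ⟶ M) :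
    LinearMap.trace Λ M (f ≫ g).hom = LinearMap.trace Λ N (g ≫ f).hom := by
  obtain ⟨_, _⟩ := hM
  obtain ⟨_, _⟩ := hN
  simp only [ModuleCat.hom_comp]
  exact LinearMap.trace_comp_comm' _ _

lemma telescope (w : ℤ → Λ) (a : ℤ) : ∀ b : ℤ, a ≤ b + 1 →
    ∑ i ∈ Finset.Icc a b, (w i - w (i - 1)) = w b - w (a - 1) := by
  intro b hb
  have key : ∀ c : ℤ, a ≤ c → ∑ i ∈ Finset.Icc a (c - 1), (w i - w (i - 1)) = w (c - 1) - w (a - 1) := by
    intro c hc
    induction c, hc using Int.le_induction with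
    | base => simp
    | succ c hc ih =>
      have h1 : insert c (Finset.Icc a (c - 1)) = Finset.Icc a c := by
        have := Finset.insert_Icc_right_eq_Icc_add_one (a := a) (b := c - 1) (by lia)
        simpa using this
      rw [add_sub_cancel_right, ← h1, Finset.sum_insert (by simp), ih]
      ring
  have := key (b + 1) hb
  simpa using this

noncomputable def altTr (P : DRing.Cx Λ) (a b : ℤ) (f : P ⟶ P) : Λ :=
  ∑ i ∈ Finset.Icc a b, ((i.negOnePow : ℤˣ) : ℤ) • LinearMap.trace Λ (P.X i) (f.f i).hom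

lemma altTr_eq_of_homotopy (P : DRing.Cx Λ) (a b : ℤ) (hP : DRing.VanishesOutside P a b)
    (hPf : DRing.TermwiseFiniteFree P) (u v : P ⟶ P) (H : Homotopy u v) :
    altTr P a b u = altTr P a b v := by
  classical
  by_cases hab : a ≤ b + 1
  swap
  · unfold altTr
    rw [Finset.Icc_eq_empty (by lia)]
    simp
  set z : ℤ → ℤ → Λ := fun i j => LinearMap.trace Λ (P.X i) (P.d i j ≫ H.hom j i).hom with hz
  set w : ℤ → Λ := fun i => ((i.negOnePow : ℤˣ) : ℤ) • z i (i + 1) with hw
  have hterm : ∀ i, ((i.negOnePow : ℤˣ) : ℤ) • LinearMap.trace Λ (P.X i) (u.f i).hom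
      = (w i - w (i - 1)) + ((i.negOnePow : ℤˣ) : ℤ) • LinearMap.trace Λ (P.X i) (v.f i).hom := by
    intro i
    have h1 := H.comm i
    rw [dNext_eq H.hom (show (ComplexShape.up ℤ).Rel i (i + 1) from rfl),
      prevD_eq H.hom (show (ComplexShape.up ℤ).Rel (i - 1) i from by simp)] at h1
    rw [h1]
    simp only [ModuleCat.hom_add, map_add, smul_add]
    rw [tr_comm (hPf i) (hPf (i - 1)) (H.hom i (i - 1)) (P.d (i - 1) i)]
    have h2 : w (i - 1) = (((i - 1).negOnePow : ℤˣ) : ℤ) • z (i - 1) i := by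
      simp only [hw]
      rw [sub_add_cancel]
    rw [h2, Int.negOnePow_sub, Int.negOnePow_one]
    simp only [hw, hz]
    simp
  have hwb : w b = 0 := by
    simp only [hw, hz]
    have : P.d b (b + 1) = 0 := (hP (b + 1) (Or.inr (by lia))).eq_of_tgt _ _
    rw [this]
    simp
  have hwa : w (a - 1) = 0 := by
    simp only [hw, hz]
    have : P.d (a - 1) (a - 1 + 1) = 0 := (hP (a - 1) (Or.inl (by lia))).eq_of_src _ _
    rw [this]
    simp
  unfold altTr
  rw [Finset.sum_congr rfl (fun i _ => hterm i), Finset.sum_add_distrib, telescope w a b hab,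
    hwb, hwa]
  simp

end Groth.Agent.S1876

namespace Groth.Agent.S1876

/-- Commutative coefficient ring, finite free terms: let P and Q be bounded complexes of finite free
Λ-modules with chain endomorphisms f and g, and α : P ≅ Q an isomorphism in the derived category
D(Λ) with α ∘ f = g ∘ α there. Then Σ_i (−1)^i Tr(f^i | P^i) = Σ_i (−1)^i Tr(g^i | Q^i); that is,
the trace of an endomorphism of a perfect object of D(Λ) is well defined. -/
theorem result (Λ : Type u) [CommRing Λ] (P Q : DRing.Cx Λ) (a b : ℤ) (hP : DRing.VanishesOutside P a b) (hQ : DRing.VanishesOutside Q a b) (hPf : DRing.TermwiseFiniteFree P) (hQf : DRing.TermwiseFiniteFree Q) (f : P ⟶ P) (g : Q ⟶ Q) (α : DRing.toD P ≅ DRing.toD Q) (h : α.hom ≫ DerivedCategory.Q.map g = DerivedCategory.Q.map f ≫ α.hom) : ∑ i ∈ Finset.Icc a b, ((i.negOnePow : ℤˣ) : ℤ) • LinearMap.trace Λ (P.X i) (f.f i).hom = ∑ i ∈ Finset.Icc a b, ((i.negOnePow : ℤˣ) : ℤ) • LinearMap.trace Λ (Q.X i) (g.f i).hom := by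
  have projP : ∀ i, Projective (P.X i) := fun i => by
    obtain ⟨_, _⟩ := hPf i
    exact ModuleCat.projective_of_categoryTheory_projective (P.X i)
  have projQ : ∀ i, Projective (Q.X i) := fun i => by
    obtain ⟨_, _⟩ := hQf i
    exact ModuleCat.projective_of_categoryTheory_projective (Q.X i)
  haveI : P.IsKProjective := Groth.Agent.Lib.Helper84.KProj.isKProjective_of_vanishesAbove P b
    (fun i hi => hP i (Or.inr hi)) projP
  haveI : Q.IsKProjective := Groth.Agent.Lib.Helper84.KProj.isKProjective_of_vanishesAbove Q b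
    (fun i hi => hQ i (Or.inr hi)) projQ
  obtain ⟨φ, hφ⟩ := Groth.Agent.Lib.Helper84.KProj.exists_Q_map_eq P Q α.hom
  obtain ⟨ψ, hψ⟩ := Groth.Agent.Lib.Helper84.KProj.exists_Q_map_eq Q P α.inv
  obtain ⟨H1⟩ := Groth.Agent.Lib.Helper84.KProj.nonempty_homotopy_of_Q_map_eq P P (φ ≫ ψ) (𝟙 P)
    (by rw [Functor.map_comp, hφ, hψ]; simp)
  obtain ⟨H2⟩ := Groth.Agent.Lib.Helper84.KProj.nonempty_homotopy_of_Q_map_eq Q Q (ψ ≫ φ) (𝟙 Q)
    (by rw [Functor.map_comp, hφ, hψ]; simp)
  obtain ⟨H3⟩ := Groth.Agent.Lib.Helper84.KProj.nonempty_homotopy_of_Q_map_eq P Q (f ≫ φ) (φ ≫ g)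
    (by rw [Functor.map_comp, Functor.map_comp, hφ]; exact h.symm)
  change altTr P a b f = altTr Q a b g
  have e1 : altTr P a b f = altTr P a b (f ≫ φ ≫ ψ) :=
    (altTr_eq_of_homotopy P a b hP hPf _ _ (H1.compLeftId f)).symm
  have e2 : altTr P a b (f ≫ φ ≫ ψ) = altTr P a b (φ ≫ g ≫ ψ) := by
    have := altTr_eq_of_homotopy P a b hP hPf _ _ (H3.compRight ψ)
    simpa only [Category.assoc] using this
  have e3 : altTr P a b (φ ≫ g ≫ ψ) = altTr Q a b (g ≫ ψ ≫ φ) := by
    unfold altTr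
    refine Finset.sum_congr rfl fun i _ => ?_
    congr 1
    have := tr_comm (hPf i) (hQf i) (φ.f i) ((g ≫ ψ).f i)
    simpa only [HomologicalComplex.comp_f, Category.assoc] using this
  have e4 : altTr Q a b (g ≫ ψ ≫ φ) = altTr Q a b g :=
    altTr_eq_of_homotopy Q a b hQ hQf _ _ (H2.compLeftId g)
  rw [e1, e2, e3, e4]

end Groth.Agent.S1876
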