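import Groth.Statements.S18763
import Groth.Agent.S14641
import Groth.Agent.S18861
import Groth.Agent.Lib.Helper78.FpqcQuot

set_option autoImplicit false
universe u
open CategoryTheory CategoryTheory.Limits MonoidalCategory CartesianMonoidalCategory MonObj GrpObj AlgebraicGeometry
open AlgGrp

namespace Groth.Agent.S18763

set_option backward.isDefEq.respectTransparency.types false
set_option linter.style.haveILetI false
set_option linter.unusedSectionVars false

open Groth.Agent.S18861 Groth.Agent.Lib.Helper78.FpqcQuot Groth.Agent.S14641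

section
variable {S : Scheme.{u}} {G H Q : Over S} [GrpObj G] [GrpObj H] (i : H ⟶ G) [IsMonHom i]
  (a : AlgGrp.Action G Q) (o : 𝟙_ (Over S) ⟶ Q)

/-- local lifts of points of `Q` to `G` from fppf-local sections of the orbit map. -/
theorem exists_local_lift
    (hloc : NonAbH1.IsLocallyTrivialFor Scheme.fppfPrecoverage
      (Over.mk (a.orbitMap o).left : Over Q.left))
    {T' : Over S} (x : T' ⟶ Q) :
    ∃ (P : Over S) (pr₁ : P ⟶ T') (g₀ : P ⟶ G), Epi pr₁ ∧ pr₁ ≫ x = g₀ ≫ a.orbitMap o := by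
  obtain ⟨R, hR, hsec⟩ := hloc
  have hR1 : ∀ y : Q.left, ∃ (Y : Scheme.{u}) (f : Y ⟶ Q.left), R f ∧ y ∈ Set.range f := by
    intro y
    exact (Presieve.mem_comap_jointlySurjectivePrecoverage_iff Scheme.forget).mp hR.1 y
  have hR2 : ∀ {Y : Scheme.{u}} (f : Y ⟶ Q.left), R f → Flat f := by
    intro Y f hf
    exact (hR.2 hf).1
  choose Y f hRf hy using fun t : T'.left => hR1 (x.left t)
  choose σ hσ using fun t : T'.left => hsec (f t) (hRf t)
  let P₀ : Scheme.{u} := ∐ fun t : T'.left => pullback x.left (f t)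
  let pr : P₀ ⟶ T'.left := Sigma.desc fun t => pullback.fst x.left (f t)
  let g : P₀ ⟶ G.left := Sigma.desc fun t => pullback.snd x.left (f t) ≫ σ t
  haveI : ∀ t, Flat (f t) := fun t => hR2 (f t) (hRf t)
  haveI : Flat pr := IsZariskiLocalAtSource.sigmaDesc fun t => inferInstance
  haveI : Surjective pr := by
    refine ⟨fun t => ?_⟩
    obtain ⟨y, hy'⟩ := hy t
    obtain ⟨z, hz, -⟩ := Scheme.Pullback.exists_preimage_pullback (f := x.left) (g := f t) t y hy'.symm
    refine ⟨(Sigma.ι (fun t : T'.left => pullback x.left (f t)) t) z, ?_⟩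
    rw [← Scheme.Hom.comp_apply, Sigma.ι_desc, hz]
  haveI : Epi pr := Flat.epi_of_flat_of_surjective pr
  have hg : g ≫ (a.orbitMap o).left = pr ≫ x.left := by
    refine Sigma.hom_ext _ _ fun t => ?_
    rw [Sigma.ι_desc_assoc, Sigma.ι_desc_assoc, Category.assoc]
    have := hσ t
    simp only [Over.mk_hom] at this
    rw [this, pullback.condition]
  refine ⟨Over.mk (pr ≫ T'.hom), Over.homMk pr rfl, Over.homMk g ?_, ?_, ?_⟩
  · simp only [Over.mk_hom]
    rw [← Over.w (a.orbitMap o), ← Category.assoc, hg, Category.assoc, Over.w]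
  · exact Functor.epi_of_epi_map (Over.forget S) (by simpa using (inferInstance : Epi pr))
  · ext
    simp only [Over.comp_left, Over.homMk_left]
    exact hg.symm

/-- a normal subgroup contained in `H` acts trivially on `G/H`. -/
theorem act_trivial_of_normal'
    (hsq : IsPullback (fst G H) ((G ◁ i) ≫ μ[G]) (a.orbitMap o) (a.orbitMap o))
    (hloc : NonAbH1.IsLocallyTrivialFor Scheme.fppfPrecoverage
      (Over.mk (a.orbitMap o).left : Over Q.left))
    {N' : Over S} [GrpObj N'] (n' : N' ⟶ G) (hn : AlgGrp.IsNormalHom n')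
    (f : N' ⟶ H) (hf : f ≫ i = n') {T' : Over S} (ν : T' ⟶ N') (x : T' ⟶ Q) :
    lift (ν ≫ n') x ≫ a.act = x := by
  obtain ⟨P, pr₁, g₀, hepi, hcond⟩ := exists_local_lift a o hloc x
  rw [← cancel_epi pr₁, comp_act, hcond, comp_orbitMap, ← act_mul]
  -- conjugate
  obtain ⟨c, hc⟩ := hn _ (g₀⁻¹) (pr₁ ≫ ν)
  have e : (pr₁ ≫ ν ≫ n') * g₀ = g₀ * ((c ≫ f) ≫ i) := by
    rw [Category.assoc, hf, ← hc, Category.assoc]
    group
  rw [e, ← comp_orbitMap, mul_comp_q i (a.orbitMap o) hsq]
  exact comp_orbitMap a o g₀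

end


/-- Let G be a finite group scheme over a field k and H a closed subgroup scheme of G, and let (Q, q₀)
with its G-action be the homogeneous space G/H for the fppf topology (the orbit map of q₀ is an fppf
H-torsor onto Q). Let N be a closed subgroup scheme of G which is the kernel of the action of G on
Q: a point g of G with values in a k-scheme T factors through N exactly when g acts as the identity
on all points of Q with values in T-schemes. Then N (the core of H in G) is normal in G, is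
contained in H, and contains every closed normal subgroup scheme of G which is contained in H. (The
published definition takes the core to be the kernel of the linear representation of G on the
coordinate ring of G/H; this is the same subgroup as the kernel of the action on G/H used here.) -/
theorem result
    (k : Type u) [Field k]
    (G : Over (Spec (CommRingCat.of k))) [GrpObj G] [IsFinite G.hom]
    (H : Over (Spec (CommRingCat.of k))) [GrpObj H] (i : H ⟶ G) [IsMonHom i] [IsClosedImmersion i.left]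
    (Q : Over (Spec (CommRingCat.of k))) (aQ : AlgGrp.Action G Q) (q₀ : 𝟙_ (Over (Spec (CommRingCat.of k))) ⟶ Q)
    (hQ : ChGrp.IsHomog Scheme.fppfPrecoverage i aQ q₀)
    (N : Over (Spec (CommRingCat.of k))) [GrpObj N] (n : N ⟶ G) [IsMonHom n] [IsClosedImmersion n.left]
    (hN : ∀ (T : Over (Spec (CommRingCat.of k))) (g : T ⟶ G),
      (∃ g' : T ⟶ N, g' ≫ n = g) ↔
        ∀ (T' : Over (Spec (CommRingCat.of k))) (v : T' ⟶ T) (q : T' ⟶ Q), lift (v ≫ g) q ≫ aQ.act = q) :
    AlgGrp.IsNormalHom n ∧ (∃ m : N ⟶ H, m ≫ i = n) ∧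
      ∀ (N' : Over (Spec (CommRingCat.of k))) [GrpObj N'] (n' : N' ⟶ G) [IsMonHom n'] [IsClosedImmersion n'.left],
        AlgGrp.IsNormalHom n' → (∃ m' : N' ⟶ H, m' ≫ i = n') → ∃ r : N' ⟶ N, r ≫ n = n' := by
  obtain ⟨-, hsq, hloc⟩ := hQ
  refine ⟨?_, ?_, ?_⟩
  · -- normal
    intro T g m
    have key : ∀ (T' : Over (Spec (CommRingCat.of k))) (s : T' ⟶ T) (x : T' ⟶ Q),
        lift (s ≫ (g * (m ≫ n) * g⁻¹)) x ≫ aQ.act = x := by
      intro T' s x
      have hm := (hN T (m ≫ n)).mp ⟨m, rfl⟩ T' s (lift (s ≫ g⁻¹) x ≫ aQ.act)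
      rw [MonObj.comp_mul, MonObj.comp_mul, act_mul, act_mul, hm, ← act_mul, ← MonObj.comp_mul,
        mul_inv_cancel, MonObj.comp_one, act_one]
    obtain ⟨n', hn'⟩ := (hN T _).mpr key
    exact ⟨n', hn'.symm⟩
  · -- contained in `H`
    have h1 := (hN N n).mp ⟨𝟙 N, Category.id_comp _⟩ N (𝟙 N) (toUnit N ≫ q₀)
    rw [Category.id_comp, ← comp_orbitMap] at h1
    have h2 : (1 : N ⟶ G) ≫ aQ.orbitMap q₀ = toUnit N ≫ q₀ := by
      rw [comp_orbitMap, act_one]
    obtain ⟨h', hh'⟩ := exists_of_comp_eq i (aQ.orbitMap q₀) hsq (1 : N ⟶ G) n (h2.trans h1.symm)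
    exact ⟨h', by rw [hh', _root_.one_mul]⟩
  · intro N' _ n' _ _ hn ⟨f, hf⟩
    refine (hN N' n').mpr ?_
    intro T' s x
    exact act_trivial_of_normal' i aQ q₀ hsq hloc n' hn f hf s x

end Groth.Agent.S18763
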