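import Groth.Statements.S18789
import Mathlib.LinearAlgebra.Matrix.Adjugate
import Mathlib.RingTheory.Nakayama
import Mathlib.LinearAlgebra.Finsupp.LinearCombination

set_option autoImplicit false
universe u v w x
open TorusGr

namespace Groth.Agent.S18789


theorem key {k : Type u} [Field k] {M : Type v} [AddCommGroup M] [DecidableEq M]
    {A : Type w} [CommRing A] [Algebra k A] (𝒜 : M → Submodule k A) [GradedAlgebra 𝒜]
    {P : Type x} [AddCommGroup P] [Module A P] [Module k P]
    (ℳ : M → Submodule k P) [DirectSum.Decomposition ℳ] [SetLike.GradedSMul 𝒜 ℳ]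
    (a : A) {p : P} {e : M} (hp : p ∈ ℳ e) (d : M) :
    (DirectSum.decompose ℳ (a • p) d : P) = (DirectSum.decompose 𝒜 a (d - e) : A) • p := by
  classical
  have hmem : ∀ j : M, ((DirectSum.decompose 𝒜 a j : A) • p) ∈ ℳ (j + e) := by
    intro j
    have := SetLike.GradedSMul.smul_mem (A := 𝒜) (B := ℳ)
      (Submodule.coe_mem (DirectSum.decompose 𝒜 a j)) hp
    rwa [vadd_eq_add] at this
  conv_lhs => rw [← DirectSum.sum_support_decompose 𝒜 a, Finset.sum_smul]
  rw [DirectSum.decompose_sum, DFinsupp.finsetSum_apply, AddSubmonoidClass.coe_finsetSum]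
  rw [Finset.sum_eq_single (d - e)]
  · have h1 := hmem (d - e)
    rw [sub_add_cancel] at h1
    rw [DirectSum.decompose_of_mem_same ℳ h1]
  · intro j _ hj
    rw [DirectSum.decompose_of_mem_ne ℳ (hmem j)]
    intro h
    apply hj
    rw [← h]
    abel
  · intro h
    have h0 : DirectSum.decompose 𝒜 a (d - e) = 0 := by simpa using h
    rw [h0]
    simp

open DirectSum in
/-- Let `A` be a commutative algebra over a field `k`, graded by an additive commutative group `M` (for
`M` the character group of a split torus `T` this is a `T`-action on `Spec A`, and an `M`-graded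
`A`-module is a `T`-equivariant quasi-coherent sheaf), let `P` be a finitely generated projective
`A`-module with a compatible `M`-grading (a locally free `T`-sheaf of finite rank), and let `m` be a
homogeneous maximal ideal with residue field `k` (a `T`-fixed rational point). If homogeneous
elements `f i` of `P` reduce to a basis of `P/mP`, then there is a homogeneous `s ∉ m` such that
after inverting `s` the `f i` generate `P` and every relation among them is killed by a power of
`s`: on the invariant open `D(s)` the module is free on the homogeneous sections `f i`, with the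
weights of the fibre `P/mP`. (The published statement has `M ≅ ℤ^r`, a split torus; here `M` is any
additive commutative group, i.e. any diagonalizable group.) -/
theorem result
    {k : Type u} [Field k] {M : Type v} [AddCommGroup M] [DecidableEq M]
    {A : Type w} [CommRing A] [Algebra k A] (𝒜 : M → Submodule k A) [GradedAlgebra 𝒜]
    {P : Type x} [AddCommGroup P] [Module A P] [Module k P] [IsScalarTower k A P]
    (ℳ : M → Submodule k P) [Decomposition ℳ] [SetLike.GradedSMul 𝒜 ℳ]
    [Module.Finite A P] [Module.Projective A P]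
    (m : Ideal A) [m.IsMaximal] (hm : m.IsHomogeneous 𝒜)
    (hrat : Function.Surjective (algebraMap k (A ⧸ m)))
    {n : ℕ} (wt : Fin n → M) (f : Fin n → P) (hf : ∀ i, f i ∈ ℳ (wt i))
    (hli : LinearIndependent (A ⧸ m)
      (fun i => (Submodule.Quotient.mk (f i) : P ⧸ (m • (⊤ : Submodule A P)))))
    (hsp : Submodule.span A (Set.range f) ⊔ m • (⊤ : Submodule A P) = ⊤) :
    ∃ s : A, SetLike.IsHomogeneousElem 𝒜 s ∧ s ∉ m ∧
      (∀ p : P, ∃ (N : ℕ) (c : Fin n → A), s ^ N • p = ∑ i, c i • f i) ∧
      (∀ c : Fin n → A, ∑ i, c i • f i = 0 → ∃ N : ℕ, ∀ i, s ^ N * c i = 0) := by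
  classical
  set F : Submodule A P := Submodule.span A (Set.range f) with hF
  have hFhom : ∀ x ∈ F, ∀ d, (DirectSum.decompose ℳ x d : P) ∈ F := by
    intro x hx d
    obtain ⟨c, rfl⟩ := (Submodule.mem_span_range_iff_exists_fun A).mp hx
    rw [DirectSum.decompose_sum, DFinsupp.finsetSum_apply, AddSubmonoidClass.coe_finsetSum]
    apply Submodule.sum_mem
    intro i _
    rw [key 𝒜 ℳ (c i) (hf i) d]
    exact Submodule.smul_mem _ _ (Submodule.subset_span ⟨i, rfl⟩)
  obtain ⟨r, hr1, hrF⟩ : ∃ r : A, r - 1 ∈ m ∧ ∀ p : P, r • p ∈ F := by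
    have hfg : (⊤ : Submodule A (P ⧸ F)).FG := Module.finite_def.mp inferInstance
    have hle : (⊤ : Submodule A (P ⧸ F)) ≤ m • ⊤ := by
      intro x _
      obtain ⟨p, rfl⟩ := Submodule.Quotient.mk_surjective _ x
      have hp : p ∈ F ⊔ m • (⊤ : Submodule A P) := by rw [hsp]; trivial
      obtain ⟨y, hy, z, hz, rfl⟩ := Submodule.mem_sup.mp hp
      have h0 : (Submodule.Quotient.mk (y + z) : P ⧸ F) = F.mkQ z := by
        rw [Submodule.Quotient.mk_add, (Submodule.Quotient.mk_eq_zero F).mpr hy, zero_add]
        rfl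
      rw [h0]
      have h1 : F.mkQ z ∈ Submodule.map F.mkQ (m • ⊤) := Submodule.mem_map_of_mem hz
      rw [Submodule.map_smul''] at h1
      exact Submodule.smul_mono le_rfl le_top h1
    obtain ⟨r, hr1, hr⟩ :=
      Submodule.exists_sub_one_mem_and_smul_eq_zero_of_fg_of_le_smul m ⊤ hfg hle
    refine ⟨r, hr1, fun p => ?_⟩
    have := hr (Submodule.Quotient.mk p) trivial
    rwa [← Submodule.Quotient.mk_smul, Submodule.Quotient.mk_eq_zero] at this
  let φ : (Fin n → A) →ₗ[A] P := Fintype.linearCombination A f
  have hφ : ∀ c, φ c = ∑ i, c i • f i := fun c => Fintype.linearCombination_apply A f c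
  have hrange : LinearMap.range φ = F := Fintype.range_linearCombination A f
  obtain ⟨ψ, hψ⟩ : ∃ ψ : P →ₗ[A] (Fin n → A), ∀ p, φ (ψ p) = r • p := by
    let g : P →ₗ[A] LinearMap.range φ :=
      LinearMap.codRestrict (LinearMap.range φ) (r • LinearMap.id)
        (fun p => by rw [hrange]; exact hrF p)
    obtain ⟨h, hh⟩ :=
      Module.projective_lifting_property φ.rangeRestrict g φ.surjective_rangeRestrict
    refine ⟨h, fun p => ?_⟩
    have := congrArg Subtype.val (LinearMap.congr_fun hh p)
    simpa [g] using this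
  let Ψ : Matrix (Fin n) (Fin n) A := Matrix.of fun i j => ψ (f j) i
  have hΨf : ∀ j, ∑ i, Ψ i j • f i = r • f j := by
    intro j
    rw [← hψ (f j), hφ]
    rfl
  have hΨc : ∀ c : Fin n → A, Ψ.mulVec c = ψ (φ c) := by
    intro c
    rw [hφ, map_sum]
    ext i
    simp only [Matrix.mulVec, dotProduct, Ψ, Matrix.of_apply, map_smul, Finset.sum_apply,
      Pi.smul_apply, smul_eq_mul]
    apply Finset.sum_congr rfl
    intro j _
    ring
  have hdet : Ψ.det - 1 ∈ m := by
    rw [← Ideal.Quotient.eq_zero_iff_mem, map_sub, map_one, RingHom.map_det]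
    have h1 : (Ideal.Quotient.mk m).mapMatrix Ψ = 1 := by
      ext i j
      have hg : ∑ i, ((Ideal.Quotient.mk m) (Ψ i j) - (1 : Matrix (Fin n) (Fin n) (A ⧸ m)) i j) •
          (Submodule.Quotient.mk (f i) : P ⧸ (m • (⊤ : Submodule A P))) = 0 := by
        simp only [sub_smul, Finset.sum_sub_distrib, Module.Quotient.mk_smul_mk]
        have hsum : ∑ x, (Submodule.Quotient.mk (Ψ x j • f x) : P ⧸ (m • (⊤ : Submodule A P))) =
            Submodule.Quotient.mk (∑ x, Ψ x j • f x) :=
          (map_sum (Submodule.mkQ (m • (⊤ : Submodule A P))) _ _).symm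
        rw [hsum, hΨf j]
        simp only [Matrix.one_apply, ite_smul, one_smul, zero_smul, Finset.sum_ite_eq',
          Finset.mem_univ, if_true]
        rw [← Submodule.Quotient.mk_sub, Submodule.Quotient.mk_eq_zero]
        have : r • f j - f j = (r - 1) • f j := by rw [sub_smul, one_smul]
        rw [this]
        exact Submodule.smul_mem_smul hr1 trivial
      have := Fintype.linearIndependent_iff.mp hli _ hg i
      rw [sub_eq_zero] at this
      simpa using this
    rw [h1, Matrix.det_one, sub_self]
  set t : A := r * Ψ.det with ht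
  have ht1 : t - 1 ∈ m := by
    have : t - 1 = (r - 1) * Ψ.det + (Ψ.det - 1) := by rw [ht]; ring
    rw [this]
    exact m.add_mem (m.mul_mem_right _ hr1) hdet
  have htF : ∀ p : P, t • p ∈ F := by
    intro p
    rw [ht, mul_comm, mul_smul]
    exact F.smul_mem _ (hrF p)
  have htc : ∀ c : Fin n → A, ∑ i, c i • f i = 0 → ∀ i, t * c i = 0 := by
    intro c hc i
    have h1 : Ψ.mulVec c = 0 := by rw [hΨc, hφ, hc, map_zero]
    have h2 : (Ψ.adjugate * Ψ).mulVec c = 0 := by
      rw [← Matrix.mulVec_mulVec, h1, Matrix.mulVec_zero]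
    rw [Matrix.adjugate_mul, Matrix.smul_mulVec, Matrix.one_mulVec] at h2
    have h3 := congrFun h2 i
    simp only [Pi.smul_apply, smul_eq_mul, Pi.zero_apply] at h3
    rw [ht, mul_assoc, h3, mul_zero]
  set s : A := (DirectSum.decompose 𝒜 t 0 : A) with hs
  have hs1 : s - 1 ∈ m := by
    have h1 := hm 0 ht1
    rw [DirectSum.decompose_sub, DirectSum.sub_apply, AddSubgroupClass.coe_sub,
      DirectSum.decompose_of_mem_same 𝒜 (SetLike.GradedOne.one_mem)] at h1
    exact h1
  have hsm : s ∉ m := by
    intro h
    have : (1 : A) ∈ m := by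
      have := m.sub_mem h hs1
      simpa using this
    exact (Ideal.IsMaximal.ne_top inferInstance) ((Ideal.eq_top_iff_one m).mpr this)
  have hsF : ∀ p : P, s • p ∈ F := by
    intro p
    rw [← DirectSum.sum_support_decompose ℳ p, Finset.smul_sum]
    apply Submodule.sum_mem
    intro e _
    have h1 := key 𝒜 ℳ t (Submodule.coe_mem (DirectSum.decompose ℳ p e)) e
    rw [sub_self] at h1
    rw [hs, ← h1]
    exact hFhom _ (htF _) e
  have hsc : ∀ c : Fin n → A, ∑ i, c i • f i = 0 → ∀ i, s * c i = 0 := by
    intro c hc i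
    have hcomp : ∀ e : M, t * (DirectSum.decompose 𝒜 (c i) e : A) = 0 := by
      intro e
      let c' : Fin n → A := fun j => (DirectSum.decompose 𝒜 (c j) (e + wt i - wt j) : A)
      have hc' : ∑ j, c' j • f j = 0 := by
        have h1 : (DirectSum.decompose ℳ (∑ j, c j • f j) (e + wt i) : P) = 0 := by
          rw [hc, DirectSum.decompose_zero]
          rfl
        rw [DirectSum.decompose_sum, DFinsupp.finsetSum_apply, AddSubmonoidClass.coe_finsetSum]
          at h1
        rw [← h1]
        apply Finset.sum_congr rfl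
        intro j _
        rw [key 𝒜 ℳ (c j) (hf j) (e + wt i)]
      have := htc c' hc' i
      simp only [c'] at this
      rwa [add_sub_cancel_right] at this
    have hcomp' : ∀ e : M, s * (DirectSum.decompose 𝒜 (c i) e : A) = 0 := by
      intro e
      have h1 := DirectSum.coe_decompose_mul_add_of_right_mem 𝒜 (a := t) (i := 0)
        (Submodule.coe_mem (DirectSum.decompose 𝒜 (c i) e))
      rw [hcomp e, DirectSum.decompose_zero] at h1
      rw [hs, ← h1]
      rfl
    rw [← DirectSum.sum_support_decompose 𝒜 (c i), Finset.mul_sum]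
    exact Finset.sum_eq_zero fun e _ => hcomp' e
  refine ⟨s, ⟨0, Submodule.coe_mem _⟩, hsm, ?_, ?_⟩
  · intro p
    obtain ⟨c, hc⟩ := (Submodule.mem_span_range_iff_exists_fun A).mp (hsF p)
    exact ⟨1, c, by rw [pow_one, hc]⟩
  · intro c hc
    exact ⟨1, fun i => by rw [pow_one]; exact hsc c hc i⟩

end Groth.Agent.S18789
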