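import Groth.Statements.S18790
-- import your own Groth.Agent.* helpers here

set_option autoImplicit false
universe u v w
open TorusGr

namespace Groth.Agent.S18790

/-- Let `A` be a commutative algebra over a field `k`, graded by an additive commutative group `M` (for
`M` the character group of a split torus `T`, a `T`-action on `Spec A`), let `J` be the ideal
generated by the homogeneous elements of non-zero degree (its zero locus is the fixed-point
subscheme) and let `m ⊇ J` be a maximal ideal with residue field `k` (a fixed rational point) at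
which the fixed-point subscheme is the reduced point: `J` and `m` agree after localizing at `m`.
Then the cotangent space `m/m²` has no part of weight zero: every degree-zero element of `m` lies in
`m²`. (The published statement has `M ≅ ℤ^r`, a split torus, and phrases the conclusion as the
non-vanishing of the weights of a semi-invariant basis of `m/m²`; here `M` is any additive
commutative group, i.e. any diagonalizable group.) -/
theorem result
    {k : Type u} [Field k] {M : Type v} [AddCommGroup M] [DecidableEq M]
    {A : Type w} [CommRing A] [Algebra k A] (𝒜 : M → Submodule k A) [GradedAlgebra 𝒜]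
    (m : Ideal A) [m.IsMaximal] (hrat : Function.Surjective (algebraMap k (A ⧸ m)))
    (hfix : ∀ i : M, i ≠ 0 → ∀ a ∈ 𝒜 i, a ∈ m)
    (hred : ∀ a ∈ m, ∃ s ∉ m, s * a ∈ Ideal.span {b : A | ∃ i : M, i ≠ 0 ∧ b ∈ 𝒜 i})
    {f : A} (hf0 : f ∈ 𝒜 0) (hfm : f ∈ m) : f ∈ m ^ 2 := by
  classical
  obtain ⟨s, hs, hsf⟩ := hred f hfm
  have hcomp : ∀ (a : A) (i : M), i ≠ 0 → (DirectSum.decompose 𝒜 a i : A) ∈ m :=
    fun a i hi => hfix i hi _ (Submodule.coe_mem _)
  have hs0 : (DirectSum.decompose 𝒜 s 0 : A) ∉ m := by
    intro h
    apply hs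
    rw [← DirectSum.sum_support_decompose 𝒜 s]
    apply sum_mem
    intro i _
    by_cases hi : i = 0
    · subst hi
      exact h
    · exact hcomp s i hi
  have hQ : ∀ y ∈ Ideal.span {b : A | ∃ i : M, i ≠ 0 ∧ b ∈ 𝒜 i},
      ∀ a : A, (DirectSum.decompose 𝒜 (a * y) 0 : A) ∈ m ^ 2 := by
    intro y hy
    induction hy using Submodule.span_induction with
    | mem b hb =>
      obtain ⟨i, hi, hbi⟩ := hb
      intro a
      have h0 : (0 : M) = -i + i := by simp
      rw [h0, DirectSum.coe_decompose_mul_add_of_right_mem 𝒜 hbi, pow_two]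
      exact Ideal.mul_mem_mul (hcomp a (-i) (neg_ne_zero.mpr hi)) (hfix i hi b hbi)
    | zero =>
      intro a
      simp
    | add y z _ _ hy hz =>
      intro a
      rw [mul_add, DirectSum.decompose_add, DirectSum.add_apply, Submodule.coe_add]
      exact Ideal.add_mem _ (hy a) (hz a)
    | smul c y _ hy =>
      intro a
      rw [smul_eq_mul, ← mul_assoc]
      exact hy (a * c)
  have key : (DirectSum.decompose 𝒜 s 0 : A) * f ∈ m ^ 2 := by
    have h1 := hQ (s * f) hsf 1
    rw [one_mul, DirectSum.coe_decompose_mul_of_right_mem_zero 𝒜 hf0] at h1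
    exact h1
  obtain ⟨t', ht⟩ := Ideal.Quotient.exists_inv ((Ideal.Quotient.eq_zero_iff_mem (I := m)).not.mpr hs0)
  obtain ⟨t, rfl⟩ := Ideal.Quotient.mk_surjective t'
  rw [← map_mul, ← map_one (Ideal.Quotient.mk m), Ideal.Quotient.eq] at ht
  have h2 : f = t * ((DirectSum.decompose 𝒜 s 0 : A) * f) -
      ((DirectSum.decompose 𝒜 s 0 : A) * t - 1) * f := by ring
  rw [h2]
  refine Ideal.sub_mem _ (Ideal.mul_mem_left _ _ key) ?_
  rw [pow_two]
  exact Ideal.mul_mem_mul ht hfm

end Groth.Agent.S18790
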