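import Groth.Statements.S18791
import Mathlib.LinearAlgebra.Matrix.Adjugate
import Mathlib.RingTheory.Ideal.Quotient.Operations

set_option autoImplicit false
universe u v w x
open TorusGr

namespace Groth.Agent.S18791

theorem pow_eq_zero_iff_of_pos_aux {R : Type*} [CommRing R] [IsDomain R] {a : R} {n : ℕ}
    (h : a ^ n = 0) : a = 0 := eq_zero_of_pow_eq_zero h
theorem det_trick {k : Type u} [Field k] {M : Type v} [AddCommGroup M] [DecidableEq M]
    {A : Type w} [CommRing A] [Algebra k A] (𝒜 : M → Submodule k A) [GradedAlgebra 𝒜]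
    (m : Ideal A) [m.IsMaximal] (hfix : ∀ i : M, i ≠ 0 → ∀ a ∈ 𝒜 i, a ∈ m)
    (s a : A) (hs : s ∉ m) (hsa : s * a = 0) :
    ∃ s' : A, s' ∉ m ∧ ∀ i : M, s' * (DirectSum.decompose 𝒜 a i : A) = 0 := by
  classical
  have hcomp : ∀ (x : A) (i : M), i ≠ 0 → (DirectSum.decompose 𝒜 x i : A) ∈ m :=
    fun x i hi => hfix i hi _ (Submodule.coe_mem _)
  have hs0 : (DirectSum.decompose 𝒜 s 0 : A) ∉ m := by
    intro h
    apply hs
    rw [← DirectSum.sum_support_decompose 𝒜 s]
    apply sum_mem
    intro i _
    by_cases hi : i = 0
    · subst hi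
      exact h
    · exact hcomp s i hi
  let I : Finset M := (DirectSum.decompose 𝒜 a).support
  let S : Matrix I I A := fun d i => (DirectSum.decompose 𝒜 s (d.1 - i.1) : A)
  let v : I → A := fun i => (DirectSum.decompose 𝒜 a i.1 : A)
  have hmv : S.mulVec v = 0 := by
    ext d
    rw [Matrix.mulVec, dotProduct, Pi.zero_apply]
    have h1 : (DirectSum.decompose 𝒜 (s * a) d.1 : A) = ∑ i : I, S d i * v i := by
      conv_lhs => rw [← DirectSum.sum_support_decompose 𝒜 a, Finset.mul_sum]
      rw [DirectSum.decompose_sum, DFinsupp.finsetSum_apply, AddSubmonoidClass.coe_finsetSum,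
        ← Finset.sum_coe_sort]
      apply Finset.sum_congr rfl
      intro i _
      have h2 : d.1 = (d.1 - i.1) + i.1 := by abel
      rw [h2, DirectSum.coe_decompose_mul_add_of_right_mem 𝒜 (Submodule.coe_mem _)]
    rw [← h1, hsa]
    simp
  refine ⟨S.det, ?_, ?_⟩
  · intro hdet
    have h3 : (Ideal.Quotient.mk m) S.det = 0 := Ideal.Quotient.eq_zero_iff_mem.mpr hdet
    rw [RingHom.map_det] at h3
    have h4 : (Ideal.Quotient.mk m).mapMatrix S =
        Matrix.diagonal (fun _ : I => (Ideal.Quotient.mk m) (DirectSum.decompose 𝒜 s 0 : A)) := by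
      ext d i
      by_cases hdi : d = i
      · subst hdi
        simp only [RingHom.mapMatrix_apply, Matrix.map_apply, S, Matrix.diagonal_apply_eq]
        rw [sub_self]
      · rw [Matrix.diagonal_apply_ne _ hdi]
        simp only [RingHom.mapMatrix_apply, Matrix.map_apply, S]
        rw [Ideal.Quotient.eq_zero_iff_mem]
        apply hcomp
        intro h
        apply hdi
        exact Subtype.ext (sub_eq_zero.mp h)
    rw [h4, Matrix.det_diagonal, Finset.prod_const] at h3
    have h5 := pow_eq_zero_iff_of_pos_aux h3
    exact hs0 (Ideal.Quotient.eq_zero_iff_mem.mp h5)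
  · intro i
    by_cases hi : i ∈ I
    · have h6 : (S.adjugate * S).mulVec v = 0 := by
        rw [← Matrix.mulVec_mulVec, hmv, Matrix.mulVec_zero]
      rw [Matrix.adjugate_mul, Matrix.smul_mulVec, Matrix.one_mulVec] at h6
      have h7 := congrFun h6 ⟨i, hi⟩
      simpa [v] using h7
    · have : DirectSum.decompose 𝒜 a i = 0 := by
        simpa [I] using hi
      rw [this]
      simp

/-- Let `φ : B → A` be a degree-preserving homomorphism of commutative algebras over a field `k` graded
by an additive commutative group `M` (for `M` the character group of a split torus, an equivariant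
morphism `Spec A → Spec B`), and let `m` be a maximal ideal of `A` containing all homogeneous
elements of non-zero degree (a fixed point). Then the ideal of those `b` whose image is zero in the
local ring `A_m` is homogeneous: the homogeneous (weight) components of such a `b` again die in
`A_m`. Since `A_m` embeds in its completion when `A` is Noetherian, these are the elements of `B`
that die in the completed local ring. (The published lemma asserts moreover that, for `B = k[Y_1, …,
Y_d]` mapping the `Y_i` to semi-invariant lifts of a basis of `m/m²`, the kernel of the induced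
surjection of completions `k[[Y]] → Â_m` is generated by semi-invariant polynomials; generation of
that kernel by polynomials can fail, so only the statement about polynomial elements of the kernel
is recorded here. The published statement has `M ≅ ℤ^r` (a split torus) and `B` the polynomial ring
on the lifts; here `M` is any additive commutative group and `B` any `M`-graded `k`-algebra.) -/
theorem result
    {k : Type u} [Field k] {M : Type v} [AddCommGroup M] [DecidableEq M]
    {A : Type w} [CommRing A] [Algebra k A] (𝒜 : M → Submodule k A) [GradedAlgebra 𝒜]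
    {B : Type x} [CommRing B] [Algebra k B] (ℬ : M → Submodule k B) [GradedAlgebra ℬ]
    (φ : B →ₐ[k] A) (hφ : ∀ i : M, ∀ b ∈ ℬ i, φ b ∈ 𝒜 i)
    (m : Ideal A) [m.IsMaximal] (hfix : ∀ i : M, i ≠ 0 → ∀ a ∈ 𝒜 i, a ∈ m) :
    (RingHom.ker ((algebraMap A (Localization.AtPrime m)).comp (φ : B →+* A))).IsHomogeneous ℬ := by
  classical
  intro i b hb
  rw [RingHom.mem_ker, RingHom.comp_apply] at hb ⊢
  obtain ⟨⟨s, hs⟩, hsb⟩ :=
    (IsLocalization.map_eq_zero_iff m.primeCompl (Localization.AtPrime m) _).mp hb
  obtain ⟨s', hs', hs'a⟩ := det_trick 𝒜 m hfix s (φ b) hs hsb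
  have hdec : (DirectSum.decompose 𝒜 (φ b) i : A) = φ (DirectSum.decompose ℬ b i : B) := by
    conv_lhs => rw [← DirectSum.sum_support_decompose ℬ b, map_sum]
    rw [DirectSum.decompose_sum, DFinsupp.finsetSum_apply, AddSubmonoidClass.coe_finsetSum]
    rw [Finset.sum_eq_single i]
    · rw [DirectSum.decompose_of_mem_same 𝒜 (hφ i _ (Submodule.coe_mem _))]
    · intro j _ hji
      rw [DirectSum.decompose_of_mem_ne 𝒜 (hφ j _ (Submodule.coe_mem _)) hji]
    · intro hi
      have h0 : DirectSum.decompose ℬ b i = 0 := by simpa using hi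
      rw [h0]
      simp
  rw [IsLocalization.map_eq_zero_iff m.primeCompl (Localization.AtPrime m)]
  refine ⟨⟨s', hs'⟩, ?_⟩
  change s' * (φ : B →+* A) (DirectSum.decompose ℬ b i : B) = 0
  have := hs'a i
  rw [hdec] at this
  exact this

end Groth.Agent.S18791
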