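import Groth.Statements.S18792

set_option autoImplicit false
universe u
open DefMod

namespace Groth.Agent.S18792

theorem exp_mulLeft {A : Type u} [Ring A] [Algebra ℚ A] (a : A) (ha : IsNilpotent a) :
    IsNilpotent.exp (LinearMap.mulLeft ℚ a) = LinearMap.mulLeft ℚ (IsNilpotent.exp a) := by
  obtain ⟨k, hk⟩ := ha
  have hk' : (LinearMap.mulLeft ℚ a) ^ k = 0 := by
    rw [LinearMap.pow_mulLeft, hk]; ext; simp
  rw [IsNilpotent.exp_eq_sum hk, IsNilpotent.exp_eq_sum hk']
  ext x
  simp [LinearMap.pow_mulLeft, Finset.sum_mul]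

theorem exp_mulRight {A : Type u} [Ring A] [Algebra ℚ A] (a : A) (ha : IsNilpotent a) :
    IsNilpotent.exp (LinearMap.mulRight ℚ a) = LinearMap.mulRight ℚ (IsNilpotent.exp a) := by
  obtain ⟨k, hk⟩ := ha
  have hk' : (LinearMap.mulRight ℚ a) ^ k = 0 := by
    rw [LinearMap.pow_mulRight, hk]; ext; simp
  rw [IsNilpotent.exp_eq_sum hk, IsNilpotent.exp_eq_sum hk']
  ext x
  simp [LinearMap.pow_mulRight, Finset.mul_sum]

theorem nil_mulLeft {A : Type u} [Ring A] [Algebra ℚ A] (a : A) (ha : IsNilpotent a) :
    IsNilpotent (LinearMap.mulLeft ℚ a) := by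
  obtain ⟨k, hk⟩ := ha
  refine ⟨k, ?_⟩
  rw [LinearMap.pow_mulLeft, hk]; ext; simp

theorem nil_mulRight {A : Type u} [Ring A] [Algebra ℚ A] (a : A) (ha : IsNilpotent a) :
    IsNilpotent (LinearMap.mulRight ℚ a) := by
  obtain ⟨k, hk⟩ := ha
  refine ⟨k, ?_⟩
  rw [LinearMap.pow_mulRight, hk]; ext; simp

/-- Let A be an associative unital algebra over ℚ, let a ∈ A be nilpotent and let b ∈ A. Then the
commutator map x ↦ a x − x a is a nilpotent ℚ-linear endomorphism of A, and exp(a) b exp(−a) =
exp(ad a)(b), where exp is the finite exponential series of a nilpotent element and ad a is the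
commutator map. (The published statement takes A an algebra over an arbitrary commutative ring; the
factorials in the exponential series require the rationals to act, so A is taken to be a ℚ-algebra
here. The intermediate double-sum expansion printed between the two sides is not restated.) -/
theorem result {A : Type u} [Ring A] [Algebra ℚ A] (a b : A)
    (ha : IsNilpotent a) :
    IsNilpotent (LinearMap.mulLeft ℚ a - LinearMap.mulRight ℚ a) ∧
      IsNilpotent.exp a * b * IsNilpotent.exp (-a) =
        IsNilpotent.exp (LinearMap.mulLeft ℚ a - LinearMap.mulRight ℚ a) b := by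
  have hL := nil_mulLeft a ha
  have hR := nil_mulRight a ha
  have hc : Commute (LinearMap.mulLeft ℚ a) (LinearMap.mulRight ℚ a) :=
    LinearMap.commute_mulLeft_right a a
  have hR' : IsNilpotent (-(LinearMap.mulRight ℚ a)) := hR.neg
  have hc' : Commute (LinearMap.mulLeft ℚ a) (-(LinearMap.mulRight ℚ a)) := hc.neg_right
  refine ⟨?_, ?_⟩
  · rw [sub_eq_add_neg]
    exact hc'.isNilpotent_add hL hR'
  · rw [sub_eq_add_neg, IsNilpotent.exp_add_of_commute hc' hL hR']
    have h1 : -(LinearMap.mulRight ℚ a) = LinearMap.mulRight ℚ (-a) := by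
      ext x; simp
    rw [h1, exp_mulLeft a ha, exp_mulRight (-a) ha.neg]
    simp [mul_assoc]

end Groth.Agent.S18792
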