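import Groth.Statements.S18793
import Mathlib.RingTheory.Flat.EquationalCriterion
import Mathlib.RingTheory.Artinian.Ring
import Mathlib.RingTheory.HopkinsLevitzki
import Mathlib.Tactic.LinearCombination
import Mathlib.Tactic.Ring
import Mathlib.Tactic.Abel
import Mathlib.RingTheory.Ideal.Operations

set_option autoImplicit false
universe u v w w'
open DefMod

namespace Groth.Agent.S18793

section colon

variable {A : Type*} [CommRing A] {M : Type*} [AddCommGroup M] [Module A M] [Module.Flat A M]

/-- For a flat module `M`: if `x • f ∈ I' M` and `(I' : x) ⊆ J` then `f ∈ J M`. -/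
theorem mem_smul_top_of_smul_mem (I' J : Ideal A) (x : A) (hx : ∀ a, x * a ∈ I' → a ∈ J)
    (f : M) (hf : x • f ∈ I' • (⊤ : Submodule A M)) : f ∈ J • (⊤ : Submodule A M) := by
  classical
  have h1 : x • f ∈ I' • Submodule.span A (Set.range (id : M → M)) := by
    rw [Set.range_id, Submodule.span_univ]; exact hf
  rw [Submodule.mem_ideal_smul_span_iff_exists_sum] at h1
  obtain ⟨a, ha, hsum⟩ := h1
  let c : Option a.support → A := fun o => o.elim x (fun g => - a g)
  let y : Option a.support → M := fun o => o.elim f (fun g => (g : M))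
  have hrel : ∑ o, c o • y o = 0 := by
    rw [Fintype.sum_option]
    simp only [c, y, Option.elim]
    rw [← hsum, Finsupp.sum, ← Finset.sum_coe_sort a.support]
    simp [neg_smul, Finset.sum_neg_distrib]
  obtain ⟨k, b, z, hy, hb⟩ := Module.Flat.isTrivialRelation_of_sum_smul_eq_zero hrel
  have hf' : f = ∑ j, b none j • z j := hy none
  rw [hf']
  refine Submodule.sum_mem _ fun j _ => Submodule.smul_mem_smul (hx _ ?_) Submodule.mem_top
  have h2 := hb j
  rw [Fintype.sum_option] at h2
  simp only [c, Option.elim] at h2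
  have h3 : x * b none j = ∑ g : a.support, a g * b (some g) j := by
    have h4 : ∑ g : a.support, -a g * b (some g) j = -∑ g : a.support, a g * b (some g) j := by
      simp [Finset.sum_neg_distrib]
    rw [h4] at h2
    rw [← sub_eq_add_neg, sub_eq_zero] at h2
    exact h2
  rw [h3]
  exact Submodule.sum_mem _ fun g _ => Ideal.mul_mem_right _ _ (ha g)

end colon

section main

variable {K : Type*} [Field K] {D : Type*} [Ring D] {E : Type*} [AddCommGroup E] [Module K E]
  [Module D E] {R : Type*} [CommRing R]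
  {F : Type*} [AddCommGroup F] [Module R F] [Module D F] [SMulCommClass R D F]

/-- `I F` is stable under `D`. -/
theorem smul_mem_smul_top (I : Ideal R) (d : D) {m : F} (hm : m ∈ I • (⊤ : Submodule R F)) :
    d • m ∈ I • (⊤ : Submodule R F) := by
  induction hm using Submodule.smul_induction_on' with
  | smul r hr n _ => rw [← smul_comm r d n]; exact Submodule.smul_mem_smul hr Submodule.mem_top
  | add x _ y _ hx hy => rw [smul_add]; exact Submodule.add_mem _ hx hy

theorem exists_of_mem_span_singleton_smul (x : R) {m : F}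
    (hm : m ∈ Ideal.span {x} • (⊤ : Submodule R F)) : ∃ g : F, m = x • g := by
  induction hm using Submodule.smul_induction_on' with
  | smul r hr n _ =>
    obtain ⟨a, rfl⟩ := Ideal.mem_span_singleton'.mp hr
    exact ⟨a • n, by rw [mul_comm, mul_smul]⟩
  | add y _ z _ hy hz =>
    obtain ⟨g, rfl⟩ := hy; obtain ⟨g', rfl⟩ := hz
    exact ⟨g + g', (smul_add _ _ _).symm⟩

theorem smul_mem_of_mul_mem (I I' : Ideal R) (a : R) (h : ∀ i ∈ I, a * i ∈ I') {m : F}
    (hm : m ∈ I • (⊤ : Submodule R F)) : a • m ∈ I' • (⊤ : Submodule R F) := by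
  induction hm using Submodule.smul_induction_on' with
  | smul r hr n _ => rw [smul_smul]; exact Submodule.smul_mem_smul (h r hr) Submodule.mem_top
  | add x _ y _ hx hy => rw [smul_add]; exact Submodule.add_mem _ hx hy

variable [IsLocalRing R] [IsArtinianRing R] [Module.Flat R F]

theorem main (res : R →+* K) (hres : Function.Surjective res)
    (hE : ∀ ψ : E →ₗ[D] E, ∃ c : K, ∀ y : E, ψ y = c • y)
    (θ : F →ₗ[D] E) (hθ : ∀ (r : R) (x : F), θ (r • x) = res r • θ x)
    (hsurj : Function.Surjective θ)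
    (hker : ∀ x : F, θ x = 0 ↔ x ∈ IsLocalRing.maximalIdeal R • (⊤ : Submodule R F)) :
    ∀ (I : Ideal R) (ψ : F →ₗ[R] F), (∀ (d : D) (x : F), ψ (d • x) = d • ψ x) →
      (∀ x, ψ x ∈ I • (⊤ : Submodule R F)) → ∃ r ∈ I, ∀ x, ψ x = r • x := by
  intro I
  induction I using WellFoundedLT.induction with
  | ind I IH =>
  intro ψ hψ hI
  by_cases hI0 : I = ⊥
  · subst hI0
    refine ⟨0, Submodule.zero_mem _, fun x => ?_⟩
    have := hI x
    rw [Submodule.bot_smul, Submodule.mem_bot] at this
    rw [this, zero_smul]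
  -- choose maximal I' < I
  obtain ⟨I', hI'lt, hI'max⟩ : ∃ I' : Ideal R, I' < I ∧ ∀ J : Ideal R, J < I → ¬ I' < J := by
    have hne : {J : Ideal R | J < I}.Nonempty := ⟨⊥, bot_lt_iff_ne_bot.mpr hI0⟩
    obtain ⟨I', h1, h2⟩ :=
      set_has_maximal_iff_noetherian.mpr (inferInstance : IsNoetherian R R) _ hne
    exact ⟨I', h1, fun J hJ => h2 J hJ⟩
  obtain ⟨x, hxI, hxI'⟩ := SetLike.exists_of_lt hI'lt
  have hsup : I' ⊔ Ideal.span {x} = I := by
    by_contra hne
    have hle : I' ⊔ Ideal.span {x} ≤ I :=
      sup_le hI'lt.le ((Ideal.span_singleton_le_iff_mem _).mpr hxI)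
    have hlt : I' ⊔ Ideal.span {x} < I := lt_of_le_of_ne hle hne
    refine hI'max _ hlt (lt_of_le_of_ne le_sup_left fun h => hxI' ?_)
    rw [h]; exact Ideal.mem_sup_right (Ideal.mem_span_singleton_self x)
  have hmx : ∀ a ∈ IsLocalRing.maximalIdeal R, a * x ∈ I' := by
    intro a ha
    by_contra hax
    have hle : I' ⊔ Ideal.span {a * x} ≤ I :=
      sup_le hI'lt.le ((Ideal.span_singleton_le_iff_mem _).mpr (I.mul_mem_left a hxI))
    have hgt : I' < I' ⊔ Ideal.span {a * x} :=
      lt_of_le_of_ne le_sup_left fun h => hax (by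
        rw [h]; exact Ideal.mem_sup_right (Ideal.mem_span_singleton_self _))
    have heq : I' ⊔ Ideal.span {a * x} = I := by
      by_contra hne
      exact hI'max _ (lt_of_le_of_ne hle hne) hgt
    have hx2 : x ∈ I' ⊔ Ideal.span {a * x} := heq ▸ hxI
    obtain ⟨i', hi', z, hz, hxz⟩ := Submodule.mem_sup.mp hx2
    obtain ⟨b, rfl⟩ := Ideal.mem_span_singleton'.mp hz
    have hu : IsUnit (1 - b * a) :=
      IsLocalRing.isUnit_one_sub_self_of_mem_nonunits _ (Ideal.mul_mem_left _ b ha)
    have h4 : (1 - b * a) * x = i' := by linear_combination (-1 : R) * hxz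
    apply hxI'
    have h5 : x = ↑(hu.unit⁻¹) * i' := by
      rw [← h4, ← mul_assoc, IsUnit.val_inv_mul, one_mul]
    rw [h5]; exact I'.mul_mem_left _ hi'
  have hcolon : ∀ a, x * a ∈ I' → a ∈ IsLocalRing.maximalIdeal R := by
    intro a ha
    by_contra hna
    have hu : IsUnit a := by
      by_contra h; exact hna ((IsLocalRing.mem_maximalIdeal a).mpr h)
    apply hxI'
    have : x = (x * a) * ↑(hu.unit⁻¹) := by rw [mul_assoc, IsUnit.mul_val_inv, mul_one]
    rw [this]; exact I'.mul_mem_right _ ha
  have hKF : ∀ g : F, x • g ∈ I' • (⊤ : Submodule R F) → θ g = 0 := fun g hg =>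
    (hker g).mpr (mem_smul_top_of_smul_mem I' _ x hcolon g hg)
  have hmI : ∀ a ∈ IsLocalRing.maximalIdeal R, ∀ i ∈ I, a * i ∈ I' := by
    intro a ha i hi
    rw [← hsup] at hi
    obtain ⟨i', hi', z, hz, rfl⟩ := Submodule.mem_sup.mp hi
    obtain ⟨b, rfl⟩ := Ideal.mem_span_singleton'.mp hz
    rw [mul_add]
    refine I'.add_mem (I'.mul_mem_left _ hi') ?_
    have : a * (b * x) = b * (a * x) := by ring
    rw [this]; exact I'.mul_mem_left _ (hmx a ha)
  have hψm : ∀ f ∈ IsLocalRing.maximalIdeal R • (⊤ : Submodule R F),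
      ψ f ∈ I' • (⊤ : Submodule R F) := by
    intro f hf
    induction hf using Submodule.smul_induction_on' with
    | smul a ha n _ =>
      rw [map_smul]; exact smul_mem_of_mul_mem I I' a (hmI a ha) (hI n)
    | add y _ z _ hy hz => rw [map_add]; exact Submodule.add_mem _ hy hz
  have hxm : ∀ f ∈ IsLocalRing.maximalIdeal R • (⊤ : Submodule R F),
      x • f ∈ I' • (⊤ : Submodule R F) := by
    intro f hf
    induction hf using Submodule.smul_induction_on' with
    | smul a ha n _ =>
      rw [smul_smul, mul_comm]; exact Submodule.smul_mem_smul (hmx a ha) Submodule.mem_top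
    | add y _ z _ hy hz => rw [smul_add]; exact Submodule.add_mem _ hy hz
  have hdec : ∀ f, ∃ g, ψ f - x • g ∈ I' • (⊤ : Submodule R F) := by
    intro f
    have h1 := hI f
    rw [← hsup, Submodule.sup_smul] at h1
    obtain ⟨u, hu, v, hv, huv⟩ := Submodule.mem_sup.mp h1
    obtain ⟨g, rfl⟩ := exists_of_mem_span_singleton_smul x hv
    exact ⟨g, by rw [← huv, add_sub_cancel_right]; exact hu⟩
  choose gfun hg using hdec
  have hKF' : ∀ f f' g g', ψ f - x • g ∈ I' • (⊤ : Submodule R F) →
      ψ f' - x • g' ∈ I' • (⊤ : Submodule R F) → θ f = θ f' → θ g = θ g' := by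
    intro f f' g g' h1 h2 h3
    have h4 : f - f' ∈ IsLocalRing.maximalIdeal R • (⊤ : Submodule R F) := by
      rw [← hker, map_sub, h3, sub_self]
    have h5 := hψm _ h4
    have h6 : x • (g - g') = ψ (f - f') - ((ψ f - x • g) - (ψ f' - x • g')) := by
      rw [map_sub, smul_sub]; abel
    have h7 : x • (g - g') ∈ I' • (⊤ : Submodule R F) := by
      rw [h6]; exact Submodule.sub_mem _ h5 (Submodule.sub_mem _ h1 h2)
    have h8 := hKF _ h7
    rw [map_sub, sub_eq_zero] at h8
    exact h8
  let s : E → F := Function.surjInv hsurj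
  have hs : ∀ y, θ (s y) = y := Function.surjInv_eq hsurj
  let Ψ : E →ₗ[D] E :=
    { toFun := fun y => θ (gfun (s y))
      map_add' := by
        intro y1 y2
        rw [← map_add]
        refine hKF' (s (y1 + y2)) (s y1 + s y2) _ _ (hg _) ?_ (by rw [map_add, hs, hs, hs])
        rw [map_add, smul_add, add_sub_add_comm]
        exact Submodule.add_mem _ (hg _) (hg _)
      map_smul' := by
        intro d y
        rw [RingHom.id_apply, ← map_smul]
        refine hKF' (s (d • y)) (d • s y) _ _ (hg _) ?_ (by rw [map_smul, hs, hs])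
        rw [hψ, smul_comm x d, ← smul_sub]
        exact smul_mem_smul_top I' d (hg _) }
  obtain ⟨c, hc⟩ := hE Ψ
  obtain ⟨ct, hct⟩ := hres c
  have hkey : ∀ f, ψ f - (x * ct) • f ∈ I' • (⊤ : Submodule R F) := by
    intro f
    have h1 : θ (gfun f) = θ (ct • f) := by
      have h2 : θ (gfun (s (θ f))) = θ (gfun f) := hKF' _ _ _ _ (hg _) (hg _) (hs _)
      rw [← h2, hθ, hct]; exact hc (θ f)
    have h3 : gfun f - ct • f ∈ IsLocalRing.maximalIdeal R • (⊤ : Submodule R F) := by
      rw [← hker, map_sub, h1, sub_self]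
    have h4 := hxm _ h3
    have h5 : ψ f - (x * ct) • f = (ψ f - x • gfun f) + x • (gfun f - ct • f) := by
      rw [mul_smul, smul_sub]; abel
    rw [h5]; exact Submodule.add_mem _ (hg f) h4
  let ψ' : F →ₗ[R] F := ψ - (x * ct) • LinearMap.id
  have hψ'app : ∀ f, ψ' f = ψ f - (x * ct) • f := fun f => rfl
  have hψ'D : ∀ (d : D) (f : F), ψ' (d • f) = d • ψ' f := by
    intro d f
    rw [hψ'app, hψ'app, hψ, smul_sub, smul_comm]
  obtain ⟨r', hr', hr'eq⟩ := IH I' hI'lt ψ' hψ'D (fun f => by rw [hψ'app]; exact hkey f)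
  refine ⟨r' + x * ct, I.add_mem (hI'lt.le hr') (I.mul_mem_right _ hxI), fun f => ?_⟩
  have := hr'eq f
  rw [hψ'app, sub_eq_iff_eq_add] at this
  rw [this, add_smul]

end main



/-- Let E be a nonzero left module over an associative algebra D over a field K of characteristic zero,
whose D-linear endomorphisms are exactly the scalars of K. Let R be an Artinian local K-algebra with
residue field K, and let F carry commuting R- and D-module structures (a left module over R ⊗_K D)
with F flat over R, together with a D-linear map θ : F → E that is semilinear over the augmentation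
R → K, surjective, and whose kernel is m_R F (so θ induces an isomorphism K ⊗_R F ≅ E; that is, (F,
θ) is a deformation of E over R). Then every endomorphism of F that is both R-linear and D-linear is
multiplication by a unique element of R. (The published statement adds that the automorphisms of (F,
θ) are then exactly the elements 1 + m_R of R; that consequence is stated separately.) -/
theorem result
    {K : Type u} [Field K] [CharZero K]
    {D : Type v} [Ring D] [Algebra K D]
    {E : Type w} [AddCommGroup E] [Module K E] [Module D E] [IsScalarTower K D E] [Nontrivial E]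
    (hE : ∀ ψ : E →ₗ[D] E, ∃ c : K, ∀ y : E, ψ y = c • y)
    (R : ArtFun.Art K K)
    {F : Type w'} [AddCommGroup F] [Module K F] [Module R F] [Module D F]
    [IsScalarTower K R F] [IsScalarTower K D F] [SMulCommClass R D F] [Module.Flat R F]
    (θ : F →ₗ[D] E) (hθ : ∀ (r : R) (x : F), θ (r • x) = R.res r • θ x)
    (hsurj : Function.Surjective θ)
    (hker : ∀ x : F, θ x = 0 ↔ x ∈ IsLocalRing.maximalIdeal R • (⊤ : Submodule R F))
    (φ : F →ₗ[R] F) (hφ : ∀ (d : D) (x : F), φ (d • x) = d • φ x) :
    ∃! r : R, ∀ x : F, φ x = r • x := by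
  obtain ⟨r, -, hr⟩ := main (R.res : R →+* K) R.res_surjective hE θ (fun r x => hθ r x) hsurj hker ⊤ φ hφ
    (fun x => by rw [Submodule.top_smul]; trivial)
  refine ⟨r, hr, fun r' hr' => ?_⟩
  by_contra hne
  have hs : ∀ f : F, (r' - r) • f = 0 := fun f => by rw [sub_smul, ← hr, ← hr', sub_self]
  have hcolon : ∀ a, (r' - r) * a ∈ (⊥ : Ideal R) → a ∈ IsLocalRing.maximalIdeal R := by
    intro a ha
    by_contra hna
    have hu : IsUnit a := by
      by_contra h; exact hna ((IsLocalRing.mem_maximalIdeal a).mpr h)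
    apply hne
    have h0 : (r' - r) * a = 0 := ha
    have h1 : r' - r = 0 := by
      have h2 : r' - r = ((r' - r) * a) * ↑(hu.unit⁻¹) := by
        rw [mul_assoc, IsUnit.mul_val_inv, mul_one]
      rw [h2, h0, zero_mul]
    exact sub_eq_zero.mp h1
  have hθ0 : ∀ f, θ f = 0 := fun f =>
    (hker f).mpr (mem_smul_top_of_smul_mem ⊥ _ (r' - r) hcolon f
      (by rw [hs]; exact Submodule.zero_mem _))
  obtain ⟨y, hy⟩ := exists_ne (0 : E)
  obtain ⟨f, rfl⟩ := hsurj y
  exact hy (hθ0 f)

end Groth.Agent.S18793
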