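import Groth.Statements.S18794
import Mathlib.RingTheory.Flat.FaithfullyFlat.Basic
import Mathlib.LinearAlgebra.Basis.VectorSpace
import Mathlib.FieldTheory.IntermediateField.Adjoin.Algebra
import Mathlib.FieldTheory.IsAlgClosed.Basic

set_option autoImplicit false
universe u v w
open scoped TensorProduct
open DefMod

namespace Groth.Agent.S18794

section

variable {K : Type u} [Field K] {D : Type v} [Ring D] [Algebra K D]
  {E : Type w} [AddCommGroup E] [Module K E] [Module D E] [IsScalarTower K D E]
variable {L : Type*} [Field L] [Algebra K L] {M : Type*} [Field M] [Algebra K M] (ι : L →ₐ[K] M)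

variable (E) in
noncomputable def jmap : L ⊗[K] E →ₗ[K] M ⊗[K] E := LinearMap.rTensor E ι.toLinearMap

theorem jmap_tmul (l : L) (e : E) : jmap E ι (l ⊗ₜ e) = ι l ⊗ₜ e := rfl

theorem jmap_smul (l : L) (x : L ⊗[K] E) : jmap E ι (l • x) = ι l • jmap E ι x := by
  induction x using TensorProduct.induction_on with
  | zero => simp
  | tmul a e => simp [TensorProduct.smul_tmul', jmap_tmul]
  | add x y hx hy => simp only [smul_add, map_add, hx, hy]

theorem jmap_injective : Function.Injective (jmap E ι) :=
  Module.Flat.rTensor_preserves_injective_linearMap _ ι.injective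

theorem jmap_act (d : D) (x : L ⊗[K] E) :
    jmap E ι ((DistribSMul.toLinearMap K E d).baseChange L x) =
      (DistribSMul.toLinearMap K E d).baseChange M (jmap E ι x) := by
  induction x using TensorProduct.induction_on with
  | zero => simp
  | tmul a e => simp [jmap_tmul]
  | add x y hx hy => simp only [map_add, hx, hy]

theorem exists_retraction : ∃ π : M →ₗ[K] L, (∀ l c, π (ι l * c) = l * π c) ∧ ∀ l, π (ι l) = l := by
  letI : Algebra L M := ι.toRingHom.toAlgebra
  have : IsScalarTower K L M := IsScalarTower.of_algebraMap_eq (fun k => (ι.commutes k).symm)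
  let f : L →ₗ[L] M := Algebra.linearMap L M
  obtain ⟨g, hg⟩ := f.exists_leftInverse_of_injective (LinearMap.ker_eq_bot.2 ι.injective)
  refine ⟨g.restrictScalars K, ?_, ?_⟩
  · intro l c
    show g (ι l * c) = l * g c
    have : ι l * c = l • c := (Algebra.smul_def l c).symm
    rw [this, map_smul, smul_eq_mul]
  · intro l
    exact LinearMap.congr_fun hg l

include ι in
theorem going_down
    (hM : Nontrivial (M ⊗[K] E) ∧ ∀ N : Submodule M (M ⊗[K] E),
      (∀ (d : D) (x : M ⊗[K] E), x ∈ N → (DistribSMul.toLinearMap K E d).baseChange M x ∈ N) →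
        N = ⊥ ∨ N = ⊤) :
    Nontrivial (L ⊗[K] E) ∧ ∀ N : Submodule L (L ⊗[K] E),
      (∀ (d : D) (x : L ⊗[K] E), x ∈ N → (DistribSMul.toLinearMap K E d).baseChange L x ∈ N) →
        N = ⊥ ∨ N = ⊤ := by
  obtain ⟨hnt, hirr⟩ := hM
  refine ⟨?_, ?_⟩
  · rw [Module.FaithfullyFlat.nontrivial_tensorProduct_iff_right] at hnt ⊢
    exact hnt
  · intro N hN
    let N' : Submodule M (M ⊗[K] E) := Submodule.span M (jmap E ι '' N)
    have hN' : ∀ (d : D) (x : M ⊗[K] E), x ∈ N' →
        (DistribSMul.toLinearMap K E d).baseChange M x ∈ N' := by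
      intro d x hx
      have : N' ≤ N'.comap ((DistribSMul.toLinearMap K E d).baseChange M) := by
        apply Submodule.span_le.2
        rintro _ ⟨n, hn, rfl⟩
        show _ ∈ N'
        rw [← jmap_act]
        exact Submodule.subset_span ⟨_, hN d n hn, rfl⟩
      exact this hx
    rcases hirr N' hN' with h | h
    · left
      rw [eq_bot_iff]
      intro n hn
      have h1 : jmap E ι n ∈ N' := Submodule.subset_span ⟨n, hn, rfl⟩
      rw [h] at h1
      have h2 : jmap E ι n = 0 := (Submodule.mem_bot _).1 h1
      exact (Submodule.mem_bot _).2 (jmap_injective ι (by rw [h2, map_zero]))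
    · right
      obtain ⟨π, hπ1, hπ2⟩ := exists_retraction ι
      let ρ : M ⊗[K] E →ₗ[K] L ⊗[K] E := LinearMap.rTensor E π
      have hρj : ∀ (c : M) (x : L ⊗[K] E), ρ (c • jmap E ι x) = π c • x := by
        intro c x
        induction x using TensorProduct.induction_on with
        | zero => simp
        | tmul a e =>
          simp only [jmap_tmul, TensorProduct.smul_tmul', ρ, LinearMap.rTensor_tmul, smul_eq_mul]
          rw [mul_comm c, hπ1, mul_comm]
        | add x y hx hy => simp only [smul_add, map_add, hx, hy]
      have key : ∀ z ∈ N', ∀ c : M, ρ (c • z) ∈ N := by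
        intro z hz
        induction hz using Submodule.span_induction with
        | mem z hz =>
          obtain ⟨n, hn, rfl⟩ := hz
          intro c
          rw [hρj]
          exact N.smul_mem _ hn
        | zero => intro c; simp
        | add x y _ _ hx hy =>
          intro c
          rw [smul_add, map_add]
          exact N.add_mem (hx c) (hy c)
        | smul a x _ hx =>
          intro c
          rw [smul_smul]
          exact hx _
      rw [eq_top_iff]
      intro x _
      have h1 : jmap E ι x ∈ N' := by rw [h]; trivial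
      have h2 := key _ h1 1
      have h3 : π 1 = 1 := by simpa using hπ2 1
      rw [hρj, h3, one_smul] at h2
      exact h2

theorem exists_finite_subfield [Algebra.IsAlgebraic K M] (x : M ⊗[K] E) :
    ∃ F : IntermediateField K M, FiniteDimensional K F ∧ x ∈ LinearMap.range (jmap E F.val) := by
  have mono : ∀ (F₁ F₂ : IntermediateField K M) (h : F₁ ≤ F₂),
      LinearMap.range (jmap E F₁.val) ≤ LinearMap.range (jmap E F₂.val) := by
    intro F₁ F₂ h
    rintro _ ⟨y, rfl⟩
    refine ⟨jmap E (IntermediateField.inclusion h) y, ?_⟩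
    induction y using TensorProduct.induction_on with
    | zero => simp
    | tmul a e => simp [jmap_tmul]
    | add x y hx hy => simp only [map_add, hx, hy]
  induction x using TensorProduct.induction_on with
  | zero => exact ⟨⊥, inferInstance, Submodule.zero_mem _⟩
  | tmul c e =>
    refine ⟨IntermediateField.adjoin K {c},
      IntermediateField.adjoin.finiteDimensional (Algebra.IsIntegral.isIntegral c), ?_⟩
    exact ⟨(⟨c, IntermediateField.mem_adjoin_simple_self K c⟩ : IntermediateField.adjoin K {c}) ⊗ₜ e,
      rfl⟩
  | add x y hx hy =>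
    obtain ⟨F₁, hF₁, h₁⟩ := hx
    obtain ⟨F₂, hF₂, h₂⟩ := hy
    refine ⟨F₁ ⊔ F₂, IntermediateField.finiteDimensional_sup F₁ F₂, ?_⟩
    exact Submodule.add_mem _ (mono _ _ le_sup_left h₁) (mono _ _ le_sup_right h₂)

theorem going_up [Algebra.IsAlgebraic K M]
    (h : ∀ F : IntermediateField K M, FiniteDimensional K F →
      (Nontrivial (F ⊗[K] E) ∧ ∀ N : Submodule F (F ⊗[K] E),
        (∀ (d : D) (x : F ⊗[K] E), x ∈ N → (DistribSMul.toLinearMap K E d).baseChange F x ∈ N) →
          N = ⊥ ∨ N = ⊤)) :
    Nontrivial (M ⊗[K] E) ∧ ∀ N : Submodule M (M ⊗[K] E),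
      (∀ (d : D) (x : M ⊗[K] E), x ∈ N → (DistribSMul.toLinearMap K E d).baseChange M x ∈ N) →
        N = ⊥ ∨ N = ⊤ := by
  refine ⟨?_, ?_⟩
  · have := (h ⊥ inferInstance).1
    rw [Module.FaithfullyFlat.nontrivial_tensorProduct_iff_right] at this ⊢
    exact this
  · intro N hN
    by_cases hbot : N = ⊥
    · exact Or.inl hbot
    right
    obtain ⟨x, hxN, hx0⟩ := Submodule.exists_mem_ne_zero_of_ne_bot hbot
    obtain ⟨F, hF, x', hx'⟩ := exists_finite_subfield (E := E) x
    let NF : Submodule F (F ⊗[K] E) :=
      { carrier := {y | jmap E F.val y ∈ N}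
        add_mem' := by
          intro a b ha hb
          simp only [Set.mem_setOf_eq, map_add] at ha hb ⊢
          exact N.add_mem ha hb
        zero_mem' := by simp
        smul_mem' := by
          intro l y hy
          simp only [Set.mem_setOf_eq] at hy ⊢
          rw [jmap_smul]
          exact N.smul_mem _ hy }
    have hNF : ∀ (d : D) (y : F ⊗[K] E), y ∈ NF →
        (DistribSMul.toLinearMap K E d).baseChange F y ∈ NF := by
      intro d y hy
      show jmap E F.val _ ∈ N
      rw [jmap_act]
      exact hN d _ hy
    have hx'N : x' ∈ NF := by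
      show jmap E F.val x' ∈ N
      rw [hx']; exact hxN
    have hNFbot : NF ≠ ⊥ := by
      intro hb
      rw [hb] at hx'N
      have : x' = 0 := (Submodule.mem_bot _).1 hx'N
      rw [this, map_zero] at hx'
      exact hx0 hx'.symm
    have hNFtop : NF = ⊤ := ((h F hF).2 NF hNF).resolve_left hNFbot
    rw [eq_top_iff]
    intro z _
    induction z using TensorProduct.induction_on with
    | zero => exact N.zero_mem
    | tmul c e =>
      have h1 : ((1 : F) ⊗ₜ[K] e) ∈ NF := by rw [hNFtop]; trivial
      have h2 : jmap E F.val ((1 : F) ⊗ₜ[K] e) ∈ N := h1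
      rw [jmap_tmul] at h2
      have h3 := N.smul_mem c h2
      rw [TensorProduct.smul_tmul'] at h3
      simpa using h3
    | add x y hx hy => exact N.add_mem (hx trivial) (hy trivial)

end

/-- Let E be a left module over an associative algebra D over a field K of characteristic zero. For a
field extension L of K, the base change L ⊗_K E is a module over L ⊗_K D, i.e. an L-vector space
with a commuting action of D; call it irreducible when it is nonzero and its only L-subspaces stable
under every element of D are 0 and the whole space. Then E is absolutely irreducible (its base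
change to an algebraic closure of K is irreducible) if and only if L ⊗_K E is irreducible for every
finite extension L of K. (Finite extensions are taken in the universe of K.) -/
theorem result
    {K : Type u} [Field K] [CharZero K]
    {D : Type v} [Ring D] [Algebra K D]
    {E : Type w} [AddCommGroup E] [Module K E] [Module D E] [IsScalarTower K D E] :
    (Nontrivial (AlgebraicClosure K ⊗[K] E) ∧ ∀ N : Submodule (AlgebraicClosure K) (AlgebraicClosure K ⊗[K] E), (∀ (d : D) (x : AlgebraicClosure K ⊗[K] E), x ∈ N → (DistribSMul.toLinearMap K E d).baseChange (AlgebraicClosure K) x ∈ N) → N = ⊥ ∨ N = ⊤) ↔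
      ∀ (L : Type u) [Field L] [Algebra K L] [FiniteDimensional K L],
        (Nontrivial (L ⊗[K] E) ∧ ∀ N : Submodule (L) (L ⊗[K] E), (∀ (d : D) (x : L ⊗[K] E), x ∈ N → (DistribSMul.toLinearMap K E d).baseChange (L) x ∈ N) → N = ⊥ ∨ N = ⊤) := by
  constructor
  · intro h L _ _ _
    exact going_down (IsAlgClosed.lift : L →ₐ[K] AlgebraicClosure K) h
  · intro h
    apply going_up
    intro F hF
    exact h F

end Groth.Agent.S18794
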