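import Groth.Statements.S18795
import Mathlib.LinearAlgebra.Basis.VectorSpace
import Mathlib.RingTheory.IntegralClosure.Algebra.Basic
import Mathlib.RingTheory.IntegralClosure.IsIntegralClosure.Basic
import Mathlib.FieldTheory.IsAlgClosed.Basic
import Mathlib.LinearAlgebra.TensorProduct.Tower

set_option autoImplicit false
universe u v w
open scoped TensorProduct
open DefMod

namespace Groth.Agent.S18795

/-- Let E be a left module over an associative algebra D over a field K of characteristic zero. Assume
that the D-linear endomorphisms of E form a finite-dimensional K-vector space, that E has a finite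
presentation over D, and that E is absolutely irreducible: its base change K̄ ⊗_K E to an algebraic
closure K̄ of K is nonzero and its only K̄-subspaces stable under every element of D are 0 and the
whole space. Then End_D(E) = K: every D-linear endomorphism of E is multiplication by a scalar from
K. -/
theorem result
    {K : Type u} [Field K] [CharZero K]
    {D : Type v} [Ring D] [Algebra K D]
    {E : Type w} [AddCommGroup E] [Module K E] [Module D E] [IsScalarTower K D E]
    [Module.Finite K (E →ₗ[D] E)] [Module.FinitePresentation D E]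
    (habs : (Nontrivial (AlgebraicClosure K ⊗[K] E) ∧ ∀ N : Submodule (AlgebraicClosure K) (AlgebraicClosure K ⊗[K] E), (∀ (d : D) (x : AlgebraicClosure K ⊗[K] E), x ∈ N → (DistribSMul.toLinearMap K E d).baseChange (AlgebraicClosure K) x ∈ N) → N = ⊥ ∨ N = ⊤))
    (φ : E →ₗ[D] E) : ∃ c : K, ∀ x : E, φ x = c • x := by
  classical
  obtain ⟨hnt, hirr⟩ := habs
  let R : Module.End D E →ₐ[K] Module.End K E :=
    { toFun := fun f => f.restrictScalars K
      map_one' := rfl
      map_mul' := fun _ _ => rfl
      map_zero' := rfl
      map_add' := fun _ _ => rfl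
      commutes' := fun r => by ext; simp }
  let Ψ : Module.End D E →ₐ[K] Module.End (AlgebraicClosure K) (AlgebraicClosure K ⊗[K] E) :=
    (Module.End.baseChangeHom K (AlgebraicClosure K) E).comp R
  have hΨ : ∀ (f : Module.End D E) (a : AlgebraicClosure K) (e : E),
      Ψ f (a ⊗ₜ e) = a ⊗ₜ f e := fun f a e => rfl
  set ψ := Ψ φ with hψ
  have hcomm : ∀ (d : D) (x : AlgebraicClosure K ⊗[K] E),
      ψ ((DistribSMul.toLinearMap K E d).baseChange (AlgebraicClosure K) x) =
        (DistribSMul.toLinearMap K E d).baseChange (AlgebraicClosure K) (ψ x) := by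
    intro d x
    induction x using TensorProduct.induction_on with
    | zero => simp
    | tmul a e => simp [hψ, hΨ]
    | add x y hx hy => simp only [map_add, hx, hy]
  have schur : ∀ μ : AlgebraicClosure K, ψ - μ • (1 : Module.End (AlgebraicClosure K) (AlgebraicClosure K ⊗[K] E)) ≠ 0 → Function.Injective (ψ - μ • (1 : Module.End (AlgebraicClosure K) (AlgebraicClosure K ⊗[K] E))) := by
    intro μ hne
    have := hirr (LinearMap.ker (ψ - μ • (1 : Module.End (AlgebraicClosure K) (AlgebraicClosure K ⊗[K] E)))) (by
      intro d x hx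
      rw [LinearMap.mem_ker] at hx ⊢
      simp only [LinearMap.sub_apply, LinearMap.smul_apply, Module.End.one_apply] at hx ⊢
      rw [hcomm, ← map_smul, ← map_sub, hx, map_zero])
    rcases this with h | h
    · exact LinearMap.ker_eq_bot.1 h
    · exact absurd (LinearMap.ker_eq_top.1 h) hne
  have hint : IsIntegral K φ := Algebra.IsIntegral.isIntegral φ
  obtain ⟨m, hm_monic, hm⟩ := hint
  have hmψ : Polynomial.aeval ψ (m.map (algebraMap K (AlgebraicClosure K))) = 0 := by
    rw [Polynomial.aeval_map_algebraMap, hψ, Polynomial.aeval_algHom_apply, Polynomial.aeval_def,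
      hm, map_zero]
  have key : ∀ n : ℕ, ∀ q : Polynomial (AlgebraicClosure K), q.natDegree ≤ n → q ≠ 0 →
      Polynomial.aeval ψ q = 0 → ∃ μ : AlgebraicClosure K, ψ = μ • (1 : Module.End (AlgebraicClosure K) (AlgebraicClosure K ⊗[K] E)) := by
    intro n
    induction n with
    | zero =>
      intro q hq hq0 hqψ
      exfalso
      rw [Polynomial.eq_C_of_natDegree_le_zero hq] at hqψ hq0
      rw [Polynomial.aeval_C] at hqψ
      have hc : q.coeff 0 ≠ 0 := fun h => hq0 (by rw [h, map_zero])
      obtain ⟨x, hx⟩ := exists_ne (0 : AlgebraicClosure K ⊗[K] E)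
      have := LinearMap.congr_fun hqψ x
      simp only [Module.algebraMap_end_apply, LinearMap.zero_apply] at this
      exact hx ((smul_eq_zero.1 this).resolve_left hc)
    | succ n ih =>
      intro q hq hq0 hqψ
      by_cases hdeg : q.natDegree = 0
      · exact ih q (by omega) hq0 hqψ
      obtain ⟨μ, hμ⟩ := IsAlgClosed.exists_root q (by
        intro h
        rw [Polynomial.degree_eq_natDegree hq0] at h
        exact hdeg (by exact_mod_cast h))
      obtain ⟨q₁, hq₁⟩ := Polynomial.dvd_iff_isRoot.2 hμ
      have hq₁0 : q₁ ≠ 0 := by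
        intro h; rw [h, mul_zero] at hq₁; exact hq0 hq₁
      by_cases hz : ψ - μ • (1 : Module.End (AlgebraicClosure K) (AlgebraicClosure K ⊗[K] E)) = 0
      · exact ⟨μ, sub_eq_zero.1 hz⟩
      apply ih q₁ _ hq₁0
      · have hinj := schur μ hz
        rw [hq₁, map_mul] at hqψ
        have h1 : Polynomial.aeval ψ (Polynomial.X - Polynomial.C μ) = ψ - μ • (1 : Module.End (AlgebraicClosure K) (AlgebraicClosure K ⊗[K] E)) := by
          simp [Algebra.algebraMap_eq_smul_one]
        rw [h1] at hqψ
        refine LinearMap.ext fun x => ?_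
        apply hinj
        have := LinearMap.congr_fun hqψ x
        simpa using this
      · have := congrArg Polynomial.natDegree hq₁
        rw [Polynomial.natDegree_mul (Polynomial.X_sub_C_ne_zero μ) hq₁0,
          Polynomial.natDegree_X_sub_C] at this
        omega
  obtain ⟨μ, hμ⟩ := key _ _ le_rfl
    (Polynomial.map_monic_ne_zero hm_monic) hmψ
  obtain ⟨t, ht⟩ := (Algebra.linearMap K (AlgebraicClosure K)).exists_leftInverse_of_injective
    (LinearMap.ker_eq_bot.2 (algebraMap K (AlgebraicClosure K)).injective)
  have ht1 : t 1 = 1 := by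
    have := LinearMap.congr_fun ht 1
    simpa using this
  refine ⟨t μ, fun e => ?_⟩
  have h1 : ψ ((1 : AlgebraicClosure K) ⊗ₜ[K] e) = μ • ((1 : AlgebraicClosure K) ⊗ₜ[K] e) := by
    rw [hμ]; simp
  rw [hψ, hΨ, TensorProduct.smul_tmul', smul_eq_mul, mul_one] at h1
  have h2 := congrArg ((TensorProduct.lid K E).toLinearMap ∘ₗ LinearMap.rTensor E t) h1
  simpa [ht1] using h2

end Groth.Agent.S18795
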