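import Groth.Statements.S18796
import Mathlib.LinearAlgebra.TensorProduct.Basis
import Mathlib.LinearAlgebra.Basis.VectorSpace
import Mathlib.LinearAlgebra.FreeModule.Basic

set_option autoImplicit false
universe u v w w' u'
open scoped TensorProduct
open DefMod

namespace Groth.Agent.S18796

section

variable {K : Type u} [Field K] {P : Type u'} [CommRing P] [Algebra K P]
variable {I : Type*} (b : Module.Basis I K P)

noncomputable def coordMap (V : Type*) [AddCommGroup V] [Module K V] (i : I) :
    P ⊗[K] V →ₗ[K] V :=
  (TensorProduct.lid K V).toLinearMap ∘ₗ LinearMap.rTensor V (b.coord i)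

theorem coordMap_tmul {V : Type*} [AddCommGroup V] [Module K V] (i : I) (p : P) (v : V) :
    coordMap b V i (p ⊗ₜ v) = b.repr p i • v := by
  simp [coordMap]

theorem eq_zero_of_coordMap {V : Type*} [AddCommGroup V] [Module K V] (z : P ⊗[K] V)
    (h : ∀ i, coordMap b V i z = 0) : z = 0 := by
  classical
  apply (TensorProduct.equivFinsuppOfBasisLeft b).injective
  ext i
  rw [TensorProduct.equivFinsuppOfBasisLeft_apply]
  simpa [coordMap] using h i

end

/-- Let K be a field of characteristic zero, D an associative K-algebra, E a left D-module that is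
finitely presented over D, F a left D-module and P a commutative K-algebra. The canonical P-linear
map Φ : P ⊗_K Hom_D(E, F) → Hom_P(P ⊗_K E, P ⊗_K F), determined by p ⊗ f ↦ p · (1_P ⊗ f), is
injective, and its image consists exactly of the P-linear maps that commute with the action of every
element of D; in other words Φ identifies P ⊗_K Hom_D(E, F) with the module of homomorphisms P ⊗_K E
→ P ⊗_K F over P ⊗_K D. The map Φ is pinned here by its values on pure tensors. -/
theorem result
    {K : Type u} [Field K] [CharZero K]
    {D : Type v} [Ring D] [Algebra K D]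
    {E : Type w} [AddCommGroup E] [Module K E] [Module D E] [IsScalarTower K D E]
    [Module.FinitePresentation D E]
    {F : Type w'} [AddCommGroup F] [Module K F] [Module D F] [IsScalarTower K D F]
    (P : Type u') [CommRing P] [Algebra K P]
    (Φ : P ⊗[K] (E →ₗ[D] F) →ₗ[P] (P ⊗[K] E →ₗ[P] P ⊗[K] F))
    (hΦ : ∀ (p : P) (f : E →ₗ[D] F), Φ (p ⊗ₜ[K] f) = p • (f.restrictScalars K).baseChange P) :
    Function.Injective Φ ∧
      ∀ g : P ⊗[K] E →ₗ[P] P ⊗[K] F,
        g ∈ LinearMap.range Φ ↔
          ∀ d : D, g ∘ₗ (DistribSMul.toLinearMap K E d).baseChange P =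
            (DistribSMul.toLinearMap K F d).baseChange P ∘ₗ g := by
  classical
  let b := Module.Free.chooseBasis K P
  have hcompat : ∀ (z : P ⊗[K] (E →ₗ[D] F)) (i) (e : E),
      coordMap b F i (Φ z (1 ⊗ₜ e)) = (coordMap b (E →ₗ[D] F) i z) e := by
    intro z i e
    induction z using TensorProduct.induction_on with
    | zero => simp
    | tmul p f =>
      rw [hΦ]
      simp [coordMap_tmul, TensorProduct.smul_tmul']
    | add x y hx hy => simp [map_add, hx, hy]
  refine ⟨?_, ?_⟩
  · rw [injective_iff_map_eq_zero]
    intro z hz
    apply eq_zero_of_coordMap b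
    intro i
    ext e
    rw [← hcompat, hz]
    simp
  · intro g
    constructor
    · rintro ⟨z, rfl⟩ d
      induction z using TensorProduct.induction_on with
      | zero => simp
      | tmul p f =>
        rw [hΦ]
        apply TensorProduct.AlgebraTensorModule.ext
        intro p' e
        simp
      | add x y hx hy =>
        rw [map_add, LinearMap.add_comp, LinearMap.comp_add, hx, hy]
    · intro hg
      have hγd : ∀ (i) (d : D) (w : P ⊗[K] F),
          coordMap b F i ((DistribSMul.toLinearMap K F d).baseChange P w) =
            d • coordMap b F i w := by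
        intro i d w
        induction w using TensorProduct.induction_on with
        | zero => simp
        | tmul p f =>
          simp only [LinearMap.baseChange_tmul, coordMap_tmul, DistribSMul.toLinearMap_apply]
          rw [smul_comm]
        | add x y hx hy => simp [map_add, hx, hy]
      let gi : Module.Free.ChooseBasisIndex K P → (E →ₗ[D] F) := fun i =>
        { toFun := fun e => coordMap b F i (g (1 ⊗ₜ e))
          map_add' := by intro x y; simp [TensorProduct.tmul_add]
          map_smul' := by
            intro d e
            have : (1 : P) ⊗ₜ[K] (d • e) =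
                (DistribSMul.toLinearMap K E d).baseChange P (1 ⊗ₜ e) := by simp
            rw [this, ← LinearMap.comp_apply, hg d, LinearMap.comp_apply, hγd]
            rfl }
      have hgi : ∀ i e, gi i e = coordMap b F i (g (1 ⊗ₜ e)) := fun i e => rfl
      obtain ⟨S, hS⟩ := (Module.Finite.fg_top : (⊤ : Submodule D E).FG)
      let J : Finset (Module.Free.ChooseBasisIndex K P) :=
        S.biUnion (fun s => (TensorProduct.equivFinsuppOfBasisLeft b (g (1 ⊗ₜ s))).support)
      have hJ : ∀ i, i ∉ J → gi i = 0 := by
        intro i hi
        apply LinearMap.ext_on hS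
        intro s hs
        rw [hgi, LinearMap.zero_apply]
        have : (TensorProduct.equivFinsuppOfBasisLeft b (g (1 ⊗ₜ s))) i = 0 := by
          by_contra hne
          apply hi
          rw [Finset.mem_biUnion]
          exact ⟨s, hs, Finsupp.mem_support_iff.2 hne⟩
        rw [TensorProduct.equivFinsuppOfBasisLeft_apply] at this
        simpa [coordMap] using this
      let z : P ⊗[K] (E →ₗ[D] F) := ∑ i ∈ J, b i ⊗ₜ gi i
      refine ⟨z, ?_⟩
      have h1 : ∀ e, Φ z (1 ⊗ₜ e) = g (1 ⊗ₜ e) := by
        intro e
        rw [← sub_eq_zero]
        apply eq_zero_of_coordMap b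
        intro j
        rw [map_sub, hcompat, sub_eq_zero, ← hgi]
        simp only [z, map_sum, coordMap_tmul, Module.Basis.repr_self, LinearMap.sum_apply,
          LinearMap.smul_apply]
        by_cases hj : j ∈ J
        · rw [Finset.sum_eq_single j]
          · simp
          · intro i _ hij
            simp [Finsupp.single_apply, hij]
          · intro h'; exact absurd hj h'
        · rw [hJ j hj]
          apply Finset.sum_eq_zero
          intro i hi
          have : i ≠ j := fun h' => hj (h' ▸ hi)
          simp [Finsupp.single_apply, this]
      apply TensorProduct.AlgebraTensorModule.ext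
      intro p e
      have : p ⊗ₜ[K] e = p • ((1 : P) ⊗ₜ[K] e) := by simp [TensorProduct.smul_tmul']
      rw [this, map_smul, map_smul, h1]

end Groth.Agent.S18796
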