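import Groth.Statements.S18797

set_option autoImplicit false
universe u v w
open DefMod

namespace Groth.Agent.S18797

theorem coord_deriv
    {K : Type u} [Field K]
    {O : Type v} [CommRing O] [Algebra K O] (δ : Derivation K O O)
    {E : Type w} [AddCommGroup E] [Module O E] [Module K E] [IsScalarTower K O E]
    (δE : E →ₗ[K] E) (hδE : ∀ (a : O) (e : E), δE (a • e) = δ a • e + a • δE e)
    {ι : Type*} [Fintype ι] [DecidableEq ι] (b : Module.Basis ι O E) (j : ι) (e : E) :
    b.repr (δE e) j = δ (b.repr e j) + ∑ i, b.repr e i * b.repr (δE (b i)) j := by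
  conv_lhs => rw [← b.sum_repr e]
  rw [map_sum]
  simp_rw [hδE]
  simp only [map_sum, map_add, map_smul, Finsupp.coe_finset_sum, Finset.sum_apply,
    Finsupp.coe_add, Pi.add_apply, Finsupp.coe_smul, Pi.smul_apply, smul_eq_mul,
    Module.Basis.repr_self, Finset.sum_add_distrib]
  congr 1
  simp [Finsupp.single_apply]

/-- Let K be a field of characteristic zero, O a commutative K-algebra with a K-linear derivation ∂, and
E a finite free O-module equipped with a K-linear map ∂_E satisfying the Leibniz rule ∂_E(a e) =
∂(a) e + a ∂_E(e) (a differential module). The induced derivation on End_O(E) sends φ to ∂_E ∘ φ − φ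
∘ ∂_E, which is again O-linear; the trace End_O(E) → O is compatible with the two derivations:
tr(∂_E ∘ φ − φ ∘ ∂_E) = ∂(tr φ). Here the O-linear map ψ = ∂_E ∘ φ − φ ∘ ∂_E is given by its values.
(The published lemma also asserts that the trace is split surjective and that it respects commutator
brackets; the split surjectivity fails for E = 0 over a nonzero ring and holds only in positive
rank, and neither clause is restated.) -/
theorem result
    {K : Type u} [Field K] [CharZero K]
    {O : Type v} [CommRing O] [Algebra K O] (δ : Derivation K O O)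
    {E : Type w} [AddCommGroup E] [Module O E] [Module K E] [IsScalarTower K O E]
    [Module.Free O E] [Module.Finite O E]
    (δE : E →ₗ[K] E) (hδE : ∀ (a : O) (e : E), δE (a • e) = δ a • e + a • δE e)
    (φ ψ : E →ₗ[O] E) (hψ : ∀ e : E, ψ e = δE (φ e) - φ (δE e)) :
    LinearMap.trace O E ψ = δ (LinearMap.trace O E φ) := by
  classical
  let b := Module.Free.chooseBasis O E
  rw [LinearMap.trace_eq_matrix_trace O b ψ, LinearMap.trace_eq_matrix_trace O b φ]
  simp only [Matrix.trace, Matrix.diag_apply, LinearMap.toMatrix_apply, map_sum]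
  have h1 : ∀ j, b.repr (ψ (b j)) j = δ (b.repr (φ (b j)) j) +
      (∑ i, b.repr (φ (b j)) i * b.repr (δE (b i)) j -
        ∑ i, b.repr (δE (b j)) i * b.repr (φ (b i)) j) := by
    intro j
    rw [hψ, map_sub, Finsupp.sub_apply, coord_deriv δ δE hδE b j (φ (b j))]
    have : b.repr (φ (δE (b j))) j = ∑ i, b.repr (δE (b j)) i * b.repr (φ (b i)) j := by
      conv_lhs => rw [← b.sum_repr (δE (b j))]
      simp only [map_sum, map_smul, Finsupp.coe_finset_sum, Finset.sum_apply, Finsupp.coe_smul,
        Pi.smul_apply, smul_eq_mul]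
    rw [this]
    ring
  simp_rw [h1]
  rw [Finset.sum_add_distrib, Finset.sum_sub_distrib]
  have h2 : ∑ j, ∑ i, b.repr (φ (b j)) i * b.repr (δE (b i)) j =
      ∑ j, ∑ i, b.repr (δE (b j)) i * b.repr (φ (b i)) j := by
    rw [Finset.sum_comm]
    refine Finset.sum_congr rfl fun i _ => Finset.sum_congr rfl fun j _ => ?_
    ring
  rw [h2, sub_self, add_zero]

end Groth.Agent.S18797
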