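import Groth.Statements.S18800
import Mathlib.Tactic
import Mathlib.RingTheory.Flat.EquationalCriterion
import Mathlib.RingTheory.Artinian.Ring
import Mathlib.RingTheory.HopkinsLevitzki
-- import your own Groth.Agent.* helpers here

set_option autoImplicit false
universe u v w w'
open DefMod

namespace Groth.Agent.S18800

/-- minimal generating family of a f.g. ideal in a local ring -/
theorem minGen {R : Type u} [CommRing R] [IsLocalRing R] (I : Ideal R) (hI : I.FG) :
    ∃ (n : ℕ) (ρ : Fin n → R), Ideal.span (Set.range ρ) = I ∧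
      ∀ a : Fin n → R, ∑ j, ρ j * a j = 0 → ∀ j, a j ∈ IsLocalRing.maximalIdeal R := by
  classical
  have hex : ∃ n : ℕ, ∃ ρ : Fin n → R, Ideal.span (Set.range ρ) = I := by
    obtain ⟨s, hs⟩ := hI
    refine ⟨s.card, fun i => (s.equivFin.symm i : R), ?_⟩
    rw [← hs]
    congr 1
    ext x
    constructor
    · rintro ⟨i, rfl⟩
      exact (s.equivFin.symm i).2
    · intro hx
      exact ⟨s.equivFin ⟨x, hx⟩, by simp⟩
  obtain ⟨n, ⟨ρ, hρ⟩, hmin⟩ : ∃ n, (∃ ρ : Fin n → R, Ideal.span (Set.range ρ) = I) ∧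
      ∀ m < n, ¬ ∃ ρ : Fin m → R, Ideal.span (Set.range ρ) = I :=
    ⟨Nat.find hex, Nat.find_spec hex, fun m hm => Nat.find_min hex hm⟩
  refine ⟨n, ρ, hρ, ?_⟩
  intro a ha j₀
  by_contra hj₀
  have hunit : IsUnit (a j₀) := by
    by_contra h
    exact hj₀ ((IsLocalRing.mem_maximalIdeal _).mpr h)
  obtain ⟨u, hu⟩ := hunit
  cases n with
  | zero => exact Fin.elim0 j₀
  | succ n' =>
    apply hmin n' (Nat.lt_succ_self n')
    refine ⟨fun i => ρ (j₀.succAbove i), ?_⟩
    apply le_antisymm
    · rw [Ideal.span_le]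
      rintro _ ⟨i, rfl⟩
      rw [← hρ]
      exact Ideal.subset_span ⟨_, rfl⟩
    · rw [← hρ, Ideal.span_le]
      rintro _ ⟨j, rfl⟩
      by_cases hj : j = j₀
      · subst hj
        rw [Fin.sum_univ_succAbove _ j] at ha
        have h1 : ρ j = -(∑ i, ρ (j.succAbove i) * a (j.succAbove i)) * (↑u⁻¹ : R) := by
          have h2 : ρ j * a j = -(∑ i, ρ (j.succAbove i) * a (j.succAbove i)) :=
            eq_neg_of_add_eq_zero_left ha
          rw [← h2, ← hu, mul_assoc, Units.mul_inv, mul_one]
        rw [h1]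
        apply Ideal.mul_mem_right
        apply neg_mem
        apply Ideal.sum_mem
        intro i _
        apply Ideal.mul_mem_right
        exact Ideal.subset_span ⟨i, rfl⟩
      · obtain ⟨i, rfl⟩ := Fin.exists_succAbove_eq hj
        exact Ideal.subset_span ⟨i, rfl⟩

section
variable {K : Type u} [Field K]
    {D : Type v} [Ring D] [Algebra K D]
    {E : Type w} [AddCommGroup E] [Module K E] [Module D E] [IsScalarTower K D E]
    (hE : ∀ ψ : E →ₗ[D] E, ∃ c : K, ∀ y : E, ψ y = c • y)
    (R : ArtFun.Art K K)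
    {F : Type w'} [AddCommGroup F] [Module K F] [Module R F] [Module D F]
    [IsScalarTower K R F] [SMulCommClass R D F] [Module.Flat R F]
    (θ : F →ₗ[D] E) (hθ : ∀ (r : R) (x : F), θ (r • x) = R.res r • θ x)
    (hθsurj : Function.Surjective θ)
    (hθker : ∀ x : F, θ x = 0 ↔ x ∈ IsLocalRing.maximalIdeal R • (⊤ : Submodule R F))

include hθ in
theorem theta_K (c : K) (x : F) : θ (c • x) = c • θ x := by
  rw [← algebraMap_smul R c x, hθ, AlgHom.commutes]
  rfl

omit [Module K F] [IsScalarTower K R F] in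
/-- elements of `I • ⊤` as combinations of generators -/
theorem exists_sum_of_mem_smul_top {n : ℕ} (ρ : Fin n → R) (I : Ideal R)
    (hρ : Ideal.span (Set.range ρ) = I) (N : Submodule R F) (z : F) (hz : z ∈ I • N) :
    ∃ y : Fin n → F, (∀ j, y j ∈ N) ∧ z = ∑ j, ρ j • y j := by
  refine Submodule.smul_induction_on hz ?_ ?_
  · intro r hr x hx
    rw [← hρ] at hr
    obtain ⟨c, hc⟩ := (Submodule.mem_span_range_iff_exists_fun R).mp hr
    refine ⟨fun j => c j • x, fun j => N.smul_mem _ hx, ?_⟩
    rw [← hc, Finset.sum_smul]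
    refine Finset.sum_congr rfl fun j _ => ?_
    rw [smul_eq_mul, mul_comm, mul_smul]
  · rintro x y ⟨y₁, h₁, rfl⟩ ⟨y₂, h₂, rfl⟩
    refine ⟨y₁ + y₂, fun j => N.add_mem (h₁ j) (h₂ j), ?_⟩
    simp only [Pi.add_apply, smul_add, Finset.sum_add_distrib]

omit [Module K F] [IsScalarTower K R F] in
include hθker in
theorem ff {n : ℕ} (ρ : Fin n → R) (I : Ideal R)
    (hρ : Ideal.span (Set.range ρ) = I)
    (hL : ∀ a : Fin n → R, ∑ j, ρ j * a j = 0 → ∀ j, a j ∈ IsLocalRing.maximalIdeal R)
    (y : Fin n → F)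
    (hy : ∑ j, ρ j • y j ∈ I • (IsLocalRing.maximalIdeal R • (⊤ : Submodule R F))) :
    ∀ j, θ (y j) = 0 := by
  obtain ⟨w, hw, hsum⟩ := exists_sum_of_mem_smul_top R ρ I hρ _ _ hy
  have h0 : ∑ j, ρ j • (y j - w j) = 0 := by
    simp only [smul_sub, Finset.sum_sub_distrib, hsum, sub_self]
  obtain ⟨k, a, z, hyz, ha⟩ := Module.Flat.isTrivialRelation_of_sum_smul_eq_zero h0
  intro j
  have hmem : y j - w j ∈ IsLocalRing.maximalIdeal R • (⊤ : Submodule R F) := by
    have := hyz j
    simp only at this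
    rw [this]
    apply Submodule.sum_mem
    intro l _
    exact Submodule.smul_mem_smul (hL (fun j => a j l) (ha l) j) trivial
  have h1 : θ (y j - w j) = 0 := (hθker _).mpr hmem
  have h2 : θ (w j) = 0 := (hθker _).mpr (hw j)
  rw [map_sub, h2, sub_zero] at h1
  exact h1

include hE hθ hθsurj hθker in
theorem step (I : Ideal R) (β : F →+ F) (hβR : ∀ (r : R) (x : F), β (r • x) = r • β x)
    (hβD : ∀ (d : D) (x : F), β (d • x) = d • β x)
    (hβI : ∀ x, β x ∈ I • (⊤ : Submodule R F)) :
    ∃ ρ₀ ∈ I, ∀ x, β x - ρ₀ • x ∈ I • (IsLocalRing.maximalIdeal R • (⊤ : Submodule R F)) := by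
  classical
  have hIfg : I.FG := (isNoetherianRing_iff_ideal_fg R).mp inferInstance I
  obtain ⟨n, ρ, hρ, hL⟩ := minGen I hIfg
  have hρI : ∀ j, ρ j ∈ I := fun j => hρ ▸ Ideal.subset_span ⟨j, rfl⟩
  have hy : ∀ x, ∃ y : Fin n → F, β x = ∑ j, ρ j • y j := by
    intro x
    obtain ⟨y, -, h⟩ := exists_sum_of_mem_smul_top R ρ I hρ _ _ (hβI x)
    exact ⟨y, h⟩
  have hβm : ∀ x ∈ IsLocalRing.maximalIdeal R • (⊤ : Submodule R F),
      β x ∈ I • (IsLocalRing.maximalIdeal R • (⊤ : Submodule R F)) := by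
    intro x hx
    refine Submodule.smul_induction_on hx ?_ ?_
    · intro a ha u _
      rw [hβR, ← Submodule.mul_smul, mul_comm, Submodule.mul_smul]
      exact Submodule.smul_mem_smul ha (hβI u)
    · intro u v hu hv
      rw [map_add]
      exact Submodule.add_mem _ hu hv
  have hU : ∀ (x x' : F) (y y' : Fin n → F), θ x = θ x' → β x = ∑ j, ρ j • y j →
      β x' = ∑ j, ρ j • y' j → ∀ j, θ (y j) = θ (y' j) := by
    intro x x' y y' hxx hx hx' j
    have h1 : x - x' ∈ IsLocalRing.maximalIdeal R • (⊤ : Submodule R F) := by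
      rw [← hθker, map_sub, hxx, sub_self]
    have h2 : ∑ j, ρ j • (y - y') j ∈ I • (IsLocalRing.maximalIdeal R • (⊤ : Submodule R F)) := by
      have := hβm _ h1
      rw [map_sub, hx, hx'] at this
      simpa only [Pi.sub_apply, smul_sub, Finset.sum_sub_distrib] using this
    have h3 := ff R θ hθker ρ I hρ hL (y - y') h2 j
    rw [Pi.sub_apply, map_sub, sub_eq_zero] at h3
    exact h3
  choose xe hxe using hθsurj
  choose Y hY using hy
  let ψ : Fin n → (E →ₗ[D] E) := fun j =>
    { toFun := fun e => θ (Y (xe e) j)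
      map_add' := by
        intro e e'
        rw [← map_add]
        refine hU (xe (e + e')) (xe e + xe e') (Y (xe (e + e'))) (Y (xe e) + Y (xe e')) ?_ (hY _) ?_ j
        · rw [map_add, hxe, hxe, hxe]
        · rw [map_add, hY, hY]
          simp only [Pi.add_apply, smul_add, Finset.sum_add_distrib]
      map_smul' := by
        intro d e
        rw [RingHom.id_apply, ← map_smul]
        refine hU (xe (d • e)) (d • xe e) (Y (xe (d • e))) (d • Y (xe e)) ?_ (hY _) ?_ j
        · rw [map_smul, hxe, hxe]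
        · rw [hβD, hY, Finset.smul_sum]
          refine Finset.sum_congr rfl fun j _ => ?_
          rw [Pi.smul_apply]
          exact (smul_comm (ρ j) d _).symm }
  choose c hc using fun j => hE (ψ j)
  refine ⟨∑ j, algebraMap K R (c j) * ρ j, ?_, ?_⟩
  · exact Ideal.sum_mem _ fun j _ => Ideal.mul_mem_left _ _ (hρI j)
  · intro x
    have h1 : β x - (∑ j, algebraMap K R (c j) * ρ j) • x = ∑ j, ρ j • (Y x j - c j • x) := by
      rw [hY x, Finset.sum_smul, ← Finset.sum_sub_distrib]
      refine Finset.sum_congr rfl fun j _ => ?_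
      rw [smul_sub, mul_comm, mul_smul, algebraMap_smul]
    rw [h1]
    refine Submodule.sum_mem _ fun j _ => Submodule.smul_mem_smul (hρI j) ?_
    rw [← hθker, map_sub, theta_K R θ hθ, sub_eq_zero]
    have h2 := hU x (xe (θ x)) (Y x) (Y (xe (θ x))) (hxe _).symm (hY _) (hY _) j
    rw [h2]
    exact hc j (θ x)

end

/-- Let E be a nonzero left module over an associative algebra D over a field K of characteristic zero,
whose D-linear endomorphisms are exactly the scalars of K; let R be an Artinian local K-algebra with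
residue field K and (F, θ) a deformation of E over R: F carries commuting R- and D-module structures
and is flat over R, and θ : F → E is D-linear, semilinear over the augmentation R → K, surjective,
with kernel m_R F. Then every automorphism of (F, θ) is multiplication by an element of 1 + m_R:
every endomorphism α of F that is R-linear and D-linear and satisfies θ ∘ α = θ is multiplication by
a unique element r of R, and the residue of r in K is 1. -/
theorem result
    {K : Type u} [Field K] [CharZero K]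
    {D : Type v} [Ring D] [Algebra K D]
    {E : Type w} [AddCommGroup E] [Module K E] [Module D E] [IsScalarTower K D E] [Nontrivial E]
    (hE : ∀ ψ : E →ₗ[D] E, ∃ c : K, ∀ y : E, ψ y = c • y)
    (R : ArtFun.Art K K)
    {F : Type w'} [AddCommGroup F] [Module K F] [Module R F] [Module D F]
    [IsScalarTower K R F] [IsScalarTower K D F] [SMulCommClass R D F] [Module.Flat R F]
    (θ : F →ₗ[D] E) (hθ : ∀ (r : R) (x : F), θ (r • x) = R.res r • θ x)
    (hθsurj : Function.Surjective θ)
    (hθker : ∀ x : F, θ x = 0 ↔ x ∈ IsLocalRing.maximalIdeal R • (⊤ : Submodule R F))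
    (α : F →ₗ[R] F) (hαD : ∀ (d : D) (x : F), α (d • x) = d • α x) (hαθ : ∀ x : F, θ (α x) = θ x) :
    ∃! r : R, R.res r = 1 ∧ ∀ x : F, α x = r • x := by
  have hP : ∀ k : ℕ, ∃ r : R, R.res r = 1 ∧
      ∀ x, α x - r • x ∈ (IsLocalRing.maximalIdeal R ^ (k + 1)) • (⊤ : Submodule R F) := by
    intro k
    induction k with
    | zero =>
      refine ⟨1, map_one _, fun x => ?_⟩
      rw [zero_add, pow_one, ← hθker, map_sub, one_smul, hαθ, sub_self]
    | succ k ih =>
      obtain ⟨r, hr1, hr⟩ := ih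
      let β : F →+ F := AddMonoidHom.mk' (fun x => α x - r • x)
        (by intro x y; simp only [map_add, smul_add]; abel)
      have hβR : ∀ (a : R) (x : F), β (a • x) = a • β x := by
        intro a x
        change α (a • x) - r • a • x = a • (α x - r • x)
        rw [map_smul, smul_sub, smul_comm]
      have hβD : ∀ (d : D) (x : F), β (d • x) = d • β x := by
        intro d x
        change α (d • x) - r • d • x = d • (α x - r • x)
        rw [hαD, smul_sub, smul_comm]
      obtain ⟨ρ₀, hρ₀, h⟩ := step hE R θ hθ hθsurj hθker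
        (IsLocalRing.maximalIdeal R ^ (k + 1)) β hβR hβD hr
      refine ⟨r + ρ₀, ?_, fun x => ?_⟩
      · have : ρ₀ ∈ IsLocalRing.maximalIdeal R :=
          Ideal.pow_le_self (Nat.succ_ne_zero k) hρ₀
        rw [map_add, hr1, (ArtFun.Art.mem_maximalIdeal_iff R ρ₀).mp this, add_zero]
      · have h1 := h x
        rw [← Submodule.mul_smul, ← pow_succ] at h1
        have h2 : α x - (r + ρ₀) • x = β x - ρ₀ • x := by
          change _ = α x - r • x - ρ₀ • x
          rw [add_smul]; abel
        rw [h2]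
        exact h1
  have hnil : IsNilpotent (IsLocalRing.maximalIdeal R) := by
    have := IsArtinianRing.isNilpotent_jacobson_bot (R := R)
    rwa [IsLocalRing.jacobson_eq_maximalIdeal (⊥ : Ideal R) bot_ne_top] at this
  obtain ⟨N, hN⟩ := hnil
  obtain ⟨r, hr1, hr⟩ := hP N
  have hrx : ∀ x, α x = r • x := by
    intro x
    have := hr x
    rw [pow_succ, hN, Ideal.zero_eq_bot, Ideal.bot_mul, Submodule.bot_smul, Submodule.mem_bot,
      sub_eq_zero] at this
    exact this
  refine ⟨r, ⟨hr1, hrx⟩, ?_⟩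
  rintro r' ⟨-, hr'x⟩
  by_contra hne
  have ha : r' - r ≠ 0 := sub_ne_zero.mpr hne
  obtain ⟨e, he⟩ := exists_ne (0 : E)
  obtain ⟨x, rfl⟩ := hθsurj e
  have h0 : ∑ _i : Fin 1, (r' - r) • x = 0 := by
    rw [Fin.sum_univ_one, sub_smul, ← hr'x, ← hrx, sub_self]
  obtain ⟨k, b, z, hxz, hb⟩ := Module.Flat.isTrivialRelation_of_sum_smul_eq_zero
    (f := fun _ : Fin 1 => r' - r) (x := fun _ : Fin 1 => x) h0
  apply he
  have hx0 : x = ∑ j, b 0 j • z j := hxz 0
  rw [hθker, hx0]
  refine Submodule.sum_mem _ fun l _ => Submodule.smul_mem_smul ?_ trivial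
  by_contra hbl
  have hunit : IsUnit (b 0 l) := by
    by_contra h
    exact hbl ((IsLocalRing.mem_maximalIdeal _).mpr h)
  have hbl0 : (r' - r) * b 0 l = 0 := by
    have := hb l
    rw [Fin.sum_univ_one] at this
    exact this
  exact ha (hunit.mul_left_eq_zero.mp hbl0)

end Groth.Agent.S18800
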