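import Groth.Statements.S18802
import Mathlib.Tactic
import Mathlib.LinearAlgebra.Basis.VectorSpace
import Mathlib.Algebra.Exact.Basic
-- import your own Groth.Agent.* helpers here

set_option autoImplicit false
universe u v w w' w''
open DefMod

namespace Groth.Agent.S18802

/-- Let K be a field of characteristic zero, D an associative K-algebra and E, F left D-modules. A
K-linear map s : D → Hom_K(E, F) with s(ab)(e) = a s(b)(e) + s(a)(b e) (a derivation into the
bimodule Hom_K(E, F), i.e. a Hochschild 1-cocycle) defines the twisted sum F ⊕_s E = F × E with a ·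
(f, e) = (a f + s(a) e, a e), an extension of E by F. Every extension of left D-modules 0 → F → Q →
E → 0 arises this way: there are such an s and a D-linear isomorphism Q ≅ F ⊕_s E carrying the given
map F → Q to the inclusion f ↦ (f, 0) and compatible with the two projections onto E. (Together with
the splitting criterion this identifies derivations modulo principal derivations with Ext¹_D(E, F);
the compatibility of that identification with addition and scalars is not restated.) -/
theorem result
    {K : Type u} [Field K] [CharZero K]
    {D : Type v} [Ring D] [Algebra K D]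
    {E : Type w} [AddCommGroup E] [Module K E] [Module D E] [IsScalarTower K D E]
    {F : Type w'} [AddCommGroup F] [Module K F] [Module D F] [IsScalarTower K D F]
    {Q : Type w''} [AddCommGroup Q] [Module D Q]
    (i : F →ₗ[D] Q) (p : Q →ₗ[D] E) (hi : Function.Injective i) (hp : Function.Surjective p)
    (hex : Function.Exact i p) :
    ∃ (s : D →ₗ[K] E →ₗ[K] F) (hs : W4c6defoisocp1.IsHomDerivation s) (Φ : Q ≃ₗ[D] W4c6defoisocp1.TwistExt s hs),
      (∀ f : F, Φ (i f) = W4c6defoisocp1.TwistExt.inl f) ∧ ∀ q : Q, W4c6defoisocp1.TwistExt.snd (Φ q) = p q := by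
  let _ : Module K Q := Module.compHom Q (algebraMap K D)
  have : IsScalarTower K D Q := IsScalarTower.of_algebraMap_smul fun _ _ => rfl
  let pK : Q →ₗ[K] E := p.restrictScalars K
  let iK : F →ₗ[K] Q := i.restrictScalars K
  obtain ⟨t, ht⟩ := pK.exists_rightInverse_of_surjective (LinearMap.range_eq_top.mpr hp)
  obtain ⟨r, hr⟩ := iK.exists_leftInverse_of_injective (LinearMap.ker_eq_bot.mpr hi)
  have hpt : ∀ e, p (t e) = e := fun e => LinearMap.congr_fun ht e
  have hri : ∀ f, r (i f) = f := fun f => LinearMap.congr_fun hr f
  have hir : ∀ x : Q, p x = 0 → i (r x) = x := by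
    intro x hx
    obtain ⟨f, rfl⟩ := (hex x).mp hx
    rw [hri]
  let B : D →ₗ[K] E →ₗ[K] Q := LinearMap.mk₂ K (fun a e => a • t e - t (a • e))
    (fun a b e => by simp only [add_smul, map_add]; abel)
    (fun c a e => by
      simp only [smul_assoc, map_smul, smul_sub])
    (fun a e₁ e₂ => by simp only [map_add, smul_add]; abel)
    (fun c a e => by
      simp only [map_smul, smul_comm a c, smul_sub])
  let s : D →ₗ[K] E →ₗ[K] F := B.compr₂ r
  have hBker : ∀ a e, p (B a e) = 0 := by
    intro a e
    simp only [B, LinearMap.mk₂_apply, map_sub, map_smul, hpt, sub_self]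
  have his : ∀ a e, i (s a e) = a • t e - t (a • e) := by
    intro a e
    change i (r (B a e)) = _
    rw [hir _ (hBker a e)]
    rfl
  have hs : W4c6defoisocp1.IsHomDerivation s := by
    intro a b e
    apply hi
    rw [map_add, map_smul, his, his, his, mul_smul, mul_smul, smul_sub]
    abel
  have hq : ∀ q : Q, p (q - t (p q)) = 0 := by
    intro q
    rw [map_sub, hpt, sub_self]
  let Φ : Q ≃ₗ[D] W4c6defoisocp1.TwistExt s hs :=
    { toFun := fun q => W4c6defoisocp1.TwistExt.mk (r (q - t (p q)), p q)
      invFun := fun x => i (W4c6defoisocp1.TwistExt.val x).1 + t (W4c6defoisocp1.TwistExt.val x).2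
      map_add' := by
        intro q₁ q₂
        apply W4c6defoisocp1.TwistExt.ext
        · change r (q₁ + q₂ - t (p (q₁ + q₂))) = r (q₁ - t (p q₁)) + r (q₂ - t (p q₂))
          rw [← map_add r, map_add p, map_add t]
          congr 1; abel
        · simp
      map_smul' := by
        intro a q
        apply W4c6defoisocp1.TwistExt.ext
        · change r (a • q - t (p (a • q))) = a • r (q - t (p q)) + s a (p q)
          apply hi
          have e1 : i (r (a • q - t (p (a • q)))) = a • q - t (p (a • q)) := hir _ (hq _)
          have e2 : i (r (q - t (p q))) = q - t (p q) := hir _ (hq _)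
          rw [e1, map_add, LinearMap.map_smul i, e2, his, LinearMap.map_smul p, smul_sub]
          abel
        · simp
      left_inv := by
        intro q
        simp only [W4c6defoisocp1.TwistExt.val_mk]
        rw [hir _ (hq _)]
        abel
      right_inv := by
        intro x
        apply W4c6defoisocp1.TwistExt.ext
        · simp only [W4c6defoisocp1.TwistExt.val_mk, map_add, hex.apply_apply_eq_zero, hpt, zero_add,
            add_sub_cancel_right, hri]
        · simp only [W4c6defoisocp1.TwistExt.val_mk, map_add, hex.apply_apply_eq_zero, hpt, zero_add] }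
  refine ⟨s, hs, Φ, fun f => ?_, fun q => rfl⟩
  apply W4c6defoisocp1.TwistExt.ext
  · change r (i f - t (p (i f))) = f
    rw [hex.apply_apply_eq_zero, map_zero, sub_zero, hri]
  · change p (i f) = 0
    exact hex.apply_apply_eq_zero f

end Groth.Agent.S18802
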