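import Groth.Statements.S18810
import Groth.Agent.Lib.Helper96.Isotypic

set_option autoImplicit false
universe u v v' w w' x
open TensorProduct
open HopfRep

namespace Groth.Agent.S18810

open Groth.Agent.Lib.Helper96 in
/-- Let k be a field, C a k-coalgebra, V a right C-comodule and (S_j) a family of simple C-comodules
which are pairwise non-isomorphic (for j ≠ j' no k-linear isomorphism S_j ≃ S_j' commutes with the
coactions). For each j let V[j] be the isotypic component of type S_j: the sum of the images of all
comodule maps S_j → V (equivalently of all simple subcomodules of V isomorphic to S_j, a nonzero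
such map being injective). Then the family j ↦ V[j] is independent, so that the socle of V is the
direct sum of its isotypic components. (The source states this for representations of an affine
monoid scheme over k, i.e. left comodules over its coordinate bialgebra; the row is the
right-comodule form over any coalgebra.) -/
theorem result (k : Type u) [Field k]
    (C : Type v) [AddCommGroup C] [Module k C] [Coalgebra k C]
    (V : Type w) [AddCommGroup V] [Module k V] [HopfRep.Comod k C V]
    {ι : Type x} (S : ι → Type w') [∀ j, AddCommGroup (S j)] [∀ j, Module k (S j)]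
    [∀ j, HopfRep.Comod k C (S j)] (hS : ∀ j, HopfRep.IsSimpleComod k C (S j))
    (hne : ∀ j j', j ≠ j' → ∀ e : S j ≃ₗ[k] S j', ¬ Hoch.IsComodHom C (e : S j →ₗ[k] S j')) :
    iSupIndep (fun j => ⨆ f : {f : S j →ₗ[k] V // Hoch.IsComodHom C f}, LinearMap.range f.1) := by
  classical
  let c : HopfRep.Comod k C V := inferInstance
  let cS : ∀ j, HopfRep.Comod k C (S j) := fun j => inferInstance
  intro j
  rw [disjoint_iff]
  by_contra hne0
  -- the intersection is a subcomodule
  have hsub1 : ∀ j, IsSub c (⨆ f : {f : S j →ₗ[k] V // Hoch.IsComodHom C f}, LinearMap.range f.1) :=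
    fun j => isSub_iSup c (fun f => isSub_range f.2)
  have hsub2 : IsSub c (⨆ j', ⨆ (_ : j' ≠ j),
      ⨆ f : {f : S j' →ₗ[k] V // Hoch.IsComodHom C f}, LinearMap.range f.1) :=
    isSub_iSup c (fun j' => isSub_iSup c (fun _ => hsub1 j'))
  have hsub := isSub_inf c (hsub1 j) hsub2
  obtain ⟨T, hTle, hTfin, hTmin⟩ := exists_isMinSub_le c hsub hne0
  have hTsimple := isSimple_restr_of_isMinSub c hTmin
  let cT := ComodSub.Comod.restr c T hTmin.1
  have hι : IsHom cT c T.subtype := ComodSub.isComodHom_subtype c T hTmin.1
  have hι0 : T.subtype ≠ 0 := by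
    intro h0
    apply hTmin.2.1
    rw [eq_bot_iff]
    intro x hx
    have : T.subtype ⟨x, hx⟩ = 0 := by rw [h0]; rfl
    rw [Submodule.mem_bot]
    exact this
  -- T is isomorphic to S j
  obtain ⟨f₁, e₁, he₁⟩ := exists_iso_of_le_iSup
    (fun _ : {f : S j →ₗ[k] V // Hoch.IsComodHom C f} => S j) (fun _ => cS j) (fun _ => hS j)
    T cT hTsimple V c (fun f => f.1) (fun f => f.2) T.subtype hι hι0
    (by rw [Submodule.range_subtype]; exact hTle.trans inf_le_left)
  -- T is isomorphic to some S j', j' ≠ j
  obtain ⟨f₂, e₂, he₂⟩ := exists_iso_of_le_iSup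
    (fun p : Σ j' : {j' // j' ≠ j}, {f : S j'.1 →ₗ[k] V // Hoch.IsComodHom C f} => S p.1.1)
    (fun p => cS p.1.1) (fun p => hS p.1.1)
    T cT hTsimple V c (fun p => p.2.1) (fun p => p.2.2) T.subtype hι hι0
    (by
      rw [Submodule.range_subtype]
      refine (hTle.trans inf_le_right).trans ?_
      refine iSup_le fun j' => iSup_le fun hj' => iSup_le fun f => ?_
      exact le_iSup (fun p : Σ j' : {j' // j' ≠ j},
        {f : S j'.1 →ₗ[k] V // Hoch.IsComodHom C f} => LinearMap.range p.2.1) ⟨⟨j', hj'⟩, f⟩)
  refine hne j f₂.1.1 (fun h => f₂.1.2 h.symm) (e₁.symm.trans e₂) ?_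
  have h1 : IsHom (cS j) cT e₁.symm.toLinearMap := isHom_symm e₁ he₁
  have := isHom_comp h1 he₂
  exact this

end Groth.Agent.S18810
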