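import Groth.Statements.S18811
import Mathlib.AlgebraicGeometry.Morphisms.Flat
import Mathlib.AlgebraicGeometry.Morphisms.QuasiSeparated

set_option autoImplicit false
universe u
open CategoryTheory CategoryTheory.Limits AlgebraicGeometry
open Variety

namespace Groth.Agent.S18811

theorem qsep_of_affine_diag {X S : Scheme.{u}} (f : X ⟶ S) [IsAffineHom (pullback.diagonal f)]
    [QuasiSeparatedSpace S] : QuasiSeparatedSpace X := by
  have : QuasiSeparated f := ⟨inferInstance⟩
  exact quasiSeparatedSpace_of_quasiSeparated f

/-- Let k be a field and X, Y quasi-compact k-schemes whose diagonal morphisms over k are affine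
(semi-separated; for instance X and Y separated over k). Then the canonical map Γ(X, O_X) ⊗_k Γ(Y,
O_Y) → Γ(X ×_k Y, O) is an isomorphism: the commutative square of rings of global sections formed by
Spec k, X, Y and X ×_k Y with the pullback maps along the structure morphisms and the two
projections is a pushout square of commutative rings. -/
theorem result (k : Type u) [Field k]
    (X : Scheme.{u}) [X.Over (Spec (CommRingCat.of k))] [CompactSpace ↥X]
    [IsAffineHom (pullback.diagonal (X ↘ (Spec (CommRingCat.of k))))]
    (Y : Scheme.{u}) [Y.Over (Spec (CommRingCat.of k))] [CompactSpace ↥Y]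
    [IsAffineHom (pullback.diagonal (Y ↘ (Spec (CommRingCat.of k))))] :
    IsPushout (X ↘ (Spec (CommRingCat.of k))).appTop (Y ↘ (Spec (CommRingCat.of k))).appTop
      (pullback.fst (X ↘ (Spec (CommRingCat.of k))) (Y ↘ (Spec (CommRingCat.of k)))).appTop
      (pullback.snd (X ↘ (Spec (CommRingCat.of k))) (Y ↘ (Spec (CommRingCat.of k)))).appTop := by
  let S := Spec (CommRingCat.of k)
  have hX : QuasiSeparatedSpace X := qsep_of_affine_diag (X ↘ S)
  have hY : QuasiSeparatedSpace Y := qsep_of_affine_diag (Y ↘ S)
  have H : IsPullback (pullback.fst (X ↘ S) (Y ↘ S)) (pullback.snd (X ↘ S) (Y ↘ S))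
      (X ↘ S) (Y ↘ S) := IsPullback.of_hasPullback _ _
  have hflat : Flat (Y ↘ S) := inferInstance
  have hiX : ((X ↘ S).appLE ⊤ ⊤ le_top).hom.Flat :=
    RingHom.Flat.of_isField (isField_of_isIntegral_of_subsingleton S) _
  have key := isIso_pushoutSection_of_isCompact_of_flat_right_of_ringHomFlat H
    (US := ⊤) (UT := ⊤) (UX := ⊤) (UY := ⊤) le_top le_top (by simp)
    (isAffineOpen_top S) isCompact_univ isQuasiSeparated_univ isCompact_univ isQuasiSeparated_univ
    hiX
  rw [isIso_pushoutSection_iff] at key
  have happ : ∀ {A B : Scheme.{u}} (f : A ⟶ B), f.appLE ⊤ ⊤ le_top = f.appTop := by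
    intro A B f
    simp [Scheme.Hom.appLE, Scheme.Hom.appTop]
  rw [happ, happ, happ, happ] at key
  exact key

end Groth.Agent.S18811
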