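import Groth.Statements.S18813
import Groth.Agent.Lib.Helper96.LinRed

set_option autoImplicit false
universe u
open scoped TensorProduct
open HopfRep

namespace Groth.Agent.S18813

open TensorProduct

section Aux
variable (k K A : Type u) [Field k] [Field K] [Algebra k K] [CommRing A] [HopfAlgebra k A]

/-- base change of a linear form -/
noncomputable def bc (α : A →ₗ[k] k) : K ⊗[k] A →ₗ[K] K :=
  (TensorProduct.AlgebraTensorModule.rid k K K).toLinearMap ∘ₗ α.baseChange K

theorem bc_tmul (α : A →ₗ[k] k) (c : K) (a : A) : bc k K A α (c ⊗ₜ[k] a) = α a • c := by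
  simp [bc]

/-- `r ⊗ a ↦ (r • c) ⊗ (1 ⊗ a)` -/
noncomputable def Phi (c : K) : k ⊗[k] A →ₗ[k] K ⊗[K] (K ⊗[k] A) :=
  TensorProduct.lift
    { toFun := fun r =>
        { toFun := fun a => (r • c) ⊗ₜ[K] ((1 : K) ⊗ₜ[k] a)
          map_add' := fun a b => by rw [TensorProduct.tmul_add, TensorProduct.tmul_add]
          map_smul' := fun s a => by
            rw [TensorProduct.tmul_smul, TensorProduct.tmul_smul]; rfl }
      map_add' := fun r s => by
        ext a
        simp [add_smul, TensorProduct.add_tmul]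
      map_smul' := fun s r => by
        ext a
        simp [mul_smul, TensorProduct.smul_tmul'] }

theorem Phi_tmul (c : K) (r : k) (a : A) :
    Phi k K A c (r ⊗ₜ[k] a) = (r • c) ⊗ₜ[K] ((1 : K) ⊗ₜ[k] a) := by
  simp [Phi]

theorem key1 (α : A →ₗ[k] k) (c : K) (w : A ⊗[k] A) :
    (bc k K A α).rTensor (K ⊗[k] A)
      (AlgebraTensorModule.tensorTensorTensorComm k K k K K K A A (((1 : K) ⊗ₜ[K] c) ⊗ₜ[k] w)) =
    Phi k K A c (α.rTensor A w) := by
  induction w using TensorProduct.induction_on with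
  | zero => simp
  | add x y hx hy => simp only [TensorProduct.tmul_add, map_add, hx, hy]
  | tmul a' a'' =>
    have h : c ⊗ₜ[k] a'' = c • ((1 : K) ⊗ₜ[k] a'') := by
      rw [TensorProduct.smul_tmul', smul_eq_mul, mul_one]
    simp only [AlgebraTensorModule.tensorTensorTensorComm_tmul, LinearMap.rTensor_tmul, bc_tmul,
      Phi_tmul]
    rw [h, TensorProduct.tmul_smul, ← TensorProduct.smul_tmul', smul_comm,
      TensorProduct.smul_tmul', TensorProduct.smul_tmul', smul_eq_mul, mul_one]

theorem integral_bc (α : A →ₗ[k] k)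
    (hα : @Hoch.IsComodHom k _ A _ _ _ A _ _ _ k _ _ (HopfRep.Comod.trivial k A k) α)
    (h1 : α 1 = 1) :
    @Hoch.IsComodHom K _ (K ⊗[k] A) _ _ _ (K ⊗[k] A) _ _ _ K _ _
      (HopfRep.Comod.trivial K (K ⊗[k] A) K) (bc k K A α) ∧ bc k K A α 1 = 1 := by
  constructor
  · apply TensorProduct.AlgebraTensorModule.ext
    intro c a
    show (bc k K A α (c ⊗ₜ[k] a)) ⊗ₜ[K] (1 : K ⊗[k] A) =
      (bc k K A α).rTensor (K ⊗[k] A) (Coalgebra.comul (R := K) (c ⊗ₜ[k] a))
    rw [TensorProduct.comul_tmul]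
    have hc : Coalgebra.comul (R := K) c = (1 : K) ⊗ₜ[K] c := rfl
    rw [hc, key1]
    have h := LinearMap.congr_fun hα a
    have h2 : α.rTensor A (Coalgebra.comul (R := k) a) = α a ⊗ₜ[k] (1 : A) := h.symm
    rw [h2, Phi_tmul, bc_tmul, Algebra.TensorProduct.one_def]
  · rw [Algebra.TensorProduct.one_def, bc_tmul, h1, one_smul]

/-- descent of a linear form along a `k`-linear retraction of `k → K` -/
noncomputable def desc (π : K →ₗ[k] k) (β : K ⊗[k] A →ₗ[K] K) : A →ₗ[k] k :=
  π ∘ₗ (β.restrictScalars k) ∘ₗ (TensorProduct.mk k K A 1)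

theorem desc_apply (π : K →ₗ[k] k) (β : K ⊗[k] A →ₗ[K] K) (a : A) :
    desc k K A π β a = π (β ((1 : K) ⊗ₜ[k] a)) := rfl

noncomputable def Psi (π : K →ₗ[k] k) : K ⊗[K] (K ⊗[k] A) →ₗ[k] k ⊗[k] A :=
  π.rTensor A ∘ₗ ((TensorProduct.lid K (K ⊗[k] A)).toLinearMap.restrictScalars k)

theorem Psi_tmul (π : K →ₗ[k] k) (c c' : K) (a : A) :
    Psi k K A π (c ⊗ₜ[K] (c' ⊗ₜ[k] a)) = π (c * c') ⊗ₜ[k] a := by
  simp [Psi, TensorProduct.smul_tmul']

theorem key2 (π : K →ₗ[k] k) (β : K ⊗[k] A →ₗ[K] K) (w : A ⊗[k] A) :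
    Psi k K A π (β.rTensor (K ⊗[k] A)
      (AlgebraTensorModule.tensorTensorTensorComm k K k K K K A A (((1 : K) ⊗ₜ[K] (1 : K)) ⊗ₜ[k] w))) =
    (desc k K A π β).rTensor A w := by
  induction w using TensorProduct.induction_on with
  | zero => simp
  | add x y hx hy => simp only [TensorProduct.tmul_add, map_add, hx, hy]
  | tmul a' a'' =>
    simp only [AlgebraTensorModule.tensorTensorTensorComm_tmul, LinearMap.rTensor_tmul, Psi_tmul,
      desc_apply, mul_one]

theorem integral_desc (π : K →ₗ[k] k) (hπ : π 1 = 1) (β : K ⊗[k] A →ₗ[K] K)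
    (hβ : @Hoch.IsComodHom K _ (K ⊗[k] A) _ _ _ (K ⊗[k] A) _ _ _ K _ _
      (HopfRep.Comod.trivial K (K ⊗[k] A) K) β) (h1 : β 1 = 1) :
    @Hoch.IsComodHom k _ A _ _ _ A _ _ _ k _ _ (HopfRep.Comod.trivial k A k) (desc k K A π β) ∧
      desc k K A π β 1 = 1 := by
  constructor
  · apply LinearMap.ext
    intro a
    show (desc k K A π β a) ⊗ₜ[k] (1 : A) = (desc k K A π β).rTensor A (Coalgebra.comul (R := k) a)
    have h := LinearMap.congr_fun hβ ((1 : K) ⊗ₜ[k] a)
    have h2 : (β ((1 : K) ⊗ₜ[k] a)) ⊗ₜ[K] (1 : K ⊗[k] A) =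
        β.rTensor (K ⊗[k] A) (Coalgebra.comul (R := K) ((1 : K) ⊗ₜ[k] a)) := h
    rw [TensorProduct.comul_tmul] at h2
    have hc : Coalgebra.comul (R := K) (1 : K) = (1 : K) ⊗ₜ[K] (1 : K) := rfl
    rw [hc] at h2
    rw [← key2, ← h2, Algebra.TensorProduct.one_def, Psi_tmul, mul_one, desc_apply]
  · rw [desc_apply, ← Algebra.TensorProduct.one_def, h1, hπ]

end Aux

/-- Let k be a field, K a field extension of k and A a commutative Hopf algebra over k, the coordinate
ring of an affine group scheme G (no finiteness assumed). Then G is linearly reductive (every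
finite-dimensional A-comodule is semisimple) if and only if the base change G_K is (every
finite-dimensional comodule over the K-Hopf algebra K ⊗_k A is semisimple). (The source phrases both
sides as semisimplicity of all representations, which over a field is equivalent to semisimplicity
of the finite-dimensional ones since every comodule is the union of its finite-dimensional
subcomodules.) -/
theorem result (k K A : Type u) [Field k] [Field K]
    [Algebra k K] [CommRing A] [HopfAlgebra k A] :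
    HopfRep.IsLinearlyReductive k A ↔ HopfRep.IsLinearlyReductive K (K ⊗[k] A) := by
  rw [Groth.Agent.Lib.Helper96.isLinearlyReductive_iff_exists_integral,
    Groth.Agent.Lib.Helper96.isLinearlyReductive_iff_exists_integral]
  constructor
  · rintro ⟨α, hα, h1⟩
    exact ⟨bc k K A α, integral_bc k K A α hα h1⟩
  · rintro ⟨β, hβ, h1⟩
    obtain ⟨π, hπ⟩ := LinearMap.exists_leftInverse_of_injective (Algebra.linearMap k K)
      (LinearMap.ker_eq_bot.mpr (algebraMap k K).injective)
    have hπ1 : π 1 = 1 := by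
      have := LinearMap.congr_fun hπ 1
      simpa using this
    exact ⟨desc k K A π β, integral_desc k K A π hπ1 β hβ h1⟩

end Groth.Agent.S18813
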