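import Groth.Statements.S18814
import Groth.Agent.Lib.Helper96.Semisimple

set_option autoImplicit false
universe u v v' w w'
open TensorProduct
open HopfRep

namespace Groth.Agent.S18814

open Groth.Agent.Lib.Helper96 in
theorem slice_swap {k : Type u} [Field k] {C : Type v} [AddCommGroup C] [Module k C]
    {D : Type v'} [AddCommGroup D] [Module k D] {V : Type w} [AddCommGroup V] [Module k V]
    (g : C →ₗ[k] k) (Y : (V ⊗[k] D) ⊗[k] C) :
    (slice V g).rTensor D ((TensorProduct.assoc k V C D).symm
      ((TensorProduct.comm k D C).toLinearMap.lTensor V (TensorProduct.assoc k V D C Y))) =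
      slice (V ⊗[k] D) g Y := by
  induction Y using TensorProduct.induction_on with
  | zero => simp
  | add x y hx hy => simp only [map_add, hx, hy]
  | tmul z c =>
    induction z using TensorProduct.induction_on with
    | zero => simp
    | add x y hx hy => simp only [TensorProduct.add_tmul, map_add, hx, hy]
    | tmul v d => simp [TensorProduct.smul_tmul']

open Groth.Agent.Lib.Helper96 in

/-- Let k be a field, C and D commutative bialgebras over k (coordinate rings of affine monoid schemes M
and N) and V a k-vector space carrying a right C-comodule structure with coaction ρ_C : V → V ⊗ C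
and a right D-comodule structure with coaction ρ_D : V → V ⊗ D which commute: (ρ_C ⊗ id_D) ∘ ρ_D and
(ρ_D ⊗ id_C) ∘ ρ_C agree in V ⊗ C ⊗ D after reassociating and swapping the last two factors (the
actions of M and N on V commute). Assume V is semisimple as a D-comodule. Then for every simple
D-comodule S the isotypic component of V of type S, the sum of the images of all D-comodule maps S →
V, is a C-subcomodule of V. (The source works with left comodules; this is the right-comodule form.) -/
theorem result (k : Type u) [Field k]
    (C : Type v) [CommRing C] [Bialgebra k C] (D : Type v') [CommRing D] [Bialgebra k D]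
    (V : Type w) [AddCommGroup V] [Module k V] [HopfRep.Comod k C V] [HopfRep.Comod k D V]
    (hcomm : (TensorProduct.assoc k V C D).toLinearMap ∘ₗ
        (HopfRep.Comod.coact (k := k) (A := C) (V := V)).rTensor D ∘ₗ HopfRep.Comod.coact (k := k) (A := D) =
      (TensorProduct.comm k D C).toLinearMap.lTensor V ∘ₗ (TensorProduct.assoc k V D C).toLinearMap ∘ₗ
        (HopfRep.Comod.coact (k := k) (A := D) (V := V)).rTensor C ∘ₗ HopfRep.Comod.coact (k := k) (A := C))
    (hV : HopfRep.IsSemisimpleComod k D V)
    (S : Type w') [AddCommGroup S] [Module k S] [HopfRep.Comod k D S] (hS : HopfRep.IsSimpleComod k D S) :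
    HopfRep.IsSubcomod (k := k) (A := C)
      (⨆ f : {f : S →ₗ[k] V // Hoch.IsComodHom D f}, LinearMap.range f.1) := by
  let cC : HopfRep.Comod k C V := inferInstance
  let cD : HopfRep.Comod k D V := inferInstance
  let cS : HopfRep.Comod k D S := inferInstance
  -- the slice operators of the C-coaction are D-comodule maps
  have hT : ∀ g : Module.Dual k C, IsHom cD cD (slice V g ∘ₗ cC.coact) := by
    intro g
    apply LinearMap.ext
    intro v
    show cD.coact (slice V g (cC.coact v)) = (slice V g ∘ₗ cC.coact).rTensor D (cD.coact v)
    rw [← slice_rTensor, LinearMap.rTensor_comp, LinearMap.comp_apply]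
    have h := LinearMap.congr_fun hcomm v
    simp only [LinearMap.coe_comp, Function.comp_apply, LinearEquiv.coe_coe] at h
    have h2 : (LinearMap.rTensor D cC.coact) (cD.coact v) =
        (TensorProduct.assoc k V C D).symm
          ((TensorProduct.comm k D C).toLinearMap.lTensor V
            (TensorProduct.assoc k V D C ((LinearMap.rTensor C cD.coact) (cC.coact v)))) := by
      rw [← h, LinearEquiv.symm_apply_apply]
    rw [h2, slice_swap]
  show IsSub cC _
  rw [isSub_iff_slice]
  intro w hw g
  have hmap : Submodule.map (slice V g ∘ₗ cC.coact)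
      (⨆ f : {f : S →ₗ[k] V // Hoch.IsComodHom D f}, LinearMap.range f.1) ≤
      ⨆ f : {f : S →ₗ[k] V // Hoch.IsComodHom D f}, LinearMap.range f.1 := by
    rw [Submodule.map_iSup]
    apply iSup_le
    intro f
    rw [← LinearMap.range_comp]
    exact le_iSup (fun f : {f : S →ₗ[k] V // Hoch.IsComodHom D f} => LinearMap.range f.1)
      ⟨(slice V g ∘ₗ cC.coact) ∘ₗ f.1, isHom_comp f.2 (hT g)⟩
  exact hmap ⟨w, hw, rfl⟩

end Groth.Agent.S18814
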