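import Groth.Statements.S18820
import Mathlib.CategoryTheory.Limits.Constructions.Over.Connected
-- import your own Groth.Agent.* helpers here

set_option autoImplicit false
universe u
open CategoryTheory MonoidalCategory CartesianMonoidalCategory AlgebraicGeometry
open AlgGrp

namespace Groth.Agent.S18820

open CategoryTheory.Limits in
theorem isPullback_whiskerLeft {C : Type*} [Category C] [CartesianMonoidalCategory C]
    (M : C) {Z X : C} (f : Z ⟶ X) :
    IsPullback (M ◁ f) (snd M Z) (snd M X) f := by
  refine ⟨⟨whiskerLeft_snd M f⟩, ⟨PullbackCone.IsLimit.mk _ (fun s => lift (s.fst ≫ fst M X) s.snd)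
    ?_ ?_ ?_⟩⟩
  · intro s
    apply CartesianMonoidalCategory.hom_ext
    · simp
    · simp [s.condition]
  · intro s
    simp
  · intro s m h1 h2
    apply CartesianMonoidalCategory.hom_ext
    · rw [lift_fst, ← h1]; simp
    · rw [lift_snd, ← h2]

/-- Let k be a field, M a k-scheme (in the source a monoid k-scheme) acting on a k-scheme X through a :
M ×_k X → X, and z : Z → X a closed immersion which is surjective (a closed subscheme defined by an
ideal all of whose sections are nilpotent, e.g. the reduction of X), stable under the action: a_Z :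
M ×_k Z → Z satisfies (id_M × z) followed by a = a_Z followed by z. For an open subset U of X the
following are equivalent: (i) U is stable, i.e. a maps M ×_k U into U; (ii) U ∩ Z is stable, i.e.
a_Z maps M ×_k (U ∩ Z) into U ∩ Z. (The monoid axioms of the source play no role and are not
assumed.) -/
theorem result (k : Type u) [Field k]
    (M X Z : Over (Spec (CommRingCat.of k))) (a : M ⊗ X ⟶ X) (aZ : M ⊗ Z ⟶ Z) (z : Z ⟶ X)
    [IsClosedImmersion z.left] [Surjective z.left] (hz : (M ◁ z) ≫ a = aZ ≫ z) (U : X.left.Opens) :
    (CartesianMonoidalCategory.snd M X).left ⁻¹ᵁ U ≤ a.left ⁻¹ᵁ U ↔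
      (CartesianMonoidalCategory.snd M Z).left ⁻¹ᵁ (z.left ⁻¹ᵁ U) ≤ aZ.left ⁻¹ᵁ (z.left ⁻¹ᵁ U) := by
  have hpb : IsPullback (M ◁ z).left (snd M Z).left (snd M X).left z.left :=
    (isPullback_whiskerLeft M z).map (Over.forget _)
  have hsurj : Surjective (M ◁ z).left :=
    MorphismProperty.of_isPullback (P := @Surjective) hpb.flip inferInstance
  have h1 : ∀ t : (M ⊗ Z).left, (snd M X).left.base ((M ◁ z).left.base t) =
      z.left.base ((snd M Z).left.base t) := by
    intro t
    have := congrArg (fun f => f.base t) hpb.w
    exact this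
  have h2 : ∀ t : (M ⊗ Z).left, a.left.base ((M ◁ z).left.base t) =
      z.left.base (aZ.left.base t) := by
    intro t
    have := congrArg (fun f : M ⊗ Z ⟶ X => f.left.base t) hz
    exact this
  constructor
  · intro h t ht
    have ht' : (M ◁ z).left.base t ∈ (snd M X).left ⁻¹ᵁ U := by
      change (snd M X).left.base ((M ◁ z).left.base t) ∈ U
      rw [h1]; exact ht
    have := h ht'
    change a.left.base ((M ◁ z).left.base t) ∈ U at this
    rw [h2] at this
    exact this
  · intro h t' ht'
    obtain ⟨t, rfl⟩ := hsurj.surj t'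
    have ht : t ∈ (snd M Z).left ⁻¹ᵁ (z.left ⁻¹ᵁ U) := by
      change z.left.base ((snd M Z).left.base t) ∈ U
      rw [← h1]; exact ht'
    have := h ht
    change z.left.base (aZ.left.base t) ∈ U at this
    rw [← h2] at this
    exact this

end Groth.Agent.S18820
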