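import Groth.Statements.S18821
import Mathlib.CategoryTheory.Monoidal.Cartesian.Over
import Mathlib.AlgebraicGeometry.Pullbacks
import Mathlib.AlgebraicGeometry.AffineScheme

set_option autoImplicit false
universe u
open CategoryTheory MonoidalCategory CartesianMonoidalCategory MonObj AlgebraicGeometry
open AlgGrp

namespace Groth.Agent.S18821

set_option backward.isDefEq.respectTransparency.types false
set_option linter.style.haveILetI false
set_option linter.unusedSectionVars false

section
variable {C : Type*} [Category C] [CartesianMonoidalCategory C] [Limits.HasPullbacks C]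
  (M : C) [MonObj M]

/-- `(x, y) ↦ (xy, yx)` -/
noncomputable def pq : M ⊗ M ⟶ M ⊗ M := lift (fst M M * snd M M) (snd M M * fst M M)

/-- the point `(1, 1)` -/
noncomputable def uu : 𝟙_ C ⟶ M ⊗ M := lift η[M] η[M]

/-- the object of units -/
noncomputable abbrev units : C := Limits.pullback (pq M) (uu M)

/-- the inclusion of units -/
noncomputable abbrev unitsι : units M ⟶ M := Limits.pullback.fst (pq M) (uu M) ≫ fst M M

theorem cond_iff {T : C} (m n : T ⟶ M) :
    lift m n ≫ pq M = toUnit T ≫ uu M ↔ m * n = 1 ∧ n * m = 1 := by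
  have e1 : lift m n ≫ pq M = lift (m * n) (n * m) := by
    apply CartesianMonoidalCategory.hom_ext
    · simp [pq, MonObj.comp_mul]
    · simp [pq, MonObj.comp_mul]
  have e2 : toUnit T ≫ uu M = lift (1 : T ⟶ M) 1 := by
    apply CartesianMonoidalCategory.hom_ext
    · simp [uu, Hom.one_def]
    · simp [uu, Hom.one_def]
  rw [e1, e2]
  constructor
  · intro h
    have h1 := congr_arg (fun f => f ≫ fst M M) h
    have h2 := congr_arg (fun f => f ≫ snd M M) h
    simp only [lift_fst, lift_snd] at h1 h2
    exact ⟨h1, h2⟩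
  · rintro ⟨h1, h2⟩
    rw [h1, h2]

theorem units_fst_snd {T : C} (a : T ⟶ units M) :
    (a ≫ Limits.pullback.fst (pq M) (uu M) ≫ fst M M) *
      (a ≫ Limits.pullback.fst (pq M) (uu M) ≫ snd M M) = 1 ∧
    (a ≫ Limits.pullback.fst (pq M) (uu M) ≫ snd M M) *
      (a ≫ Limits.pullback.fst (pq M) (uu M) ≫ fst M M) = 1 := by
  rw [← cond_iff]
  have h : lift (a ≫ Limits.pullback.fst (pq M) (uu M) ≫ fst M M)
      (a ≫ Limits.pullback.fst (pq M) (uu M) ≫ snd M M) =
      a ≫ Limits.pullback.fst (pq M) (uu M) := by
    apply CartesianMonoidalCategory.hom_ext <;> simp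
  rw [h, Category.assoc, Limits.pullback.condition, ← Category.assoc]
  congr 1
  exact toUnit_unique _ _

theorem mono_unitsι : Mono (unitsι M) := by
  constructor
  intro T a b hab
  obtain ⟨ha1, ha2⟩ := units_fst_snd M a
  obtain ⟨hb1, hb2⟩ := units_fst_snd M b
  have hm : a ≫ Limits.pullback.fst (pq M) (uu M) ≫ fst M M =
      b ≫ Limits.pullback.fst (pq M) (uu M) ≫ fst M M := hab
  have hn : a ≫ Limits.pullback.fst (pq M) (uu M) ≫ snd M M =
      b ≫ Limits.pullback.fst (pq M) (uu M) ≫ snd M M := by
    rw [hm] at ha1 ha2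
    exact left_inv_eq_right_inv ha2 hb1
  apply Limits.pullback.hom_ext
  · apply CartesianMonoidalCategory.hom_ext
    · rw [Category.assoc, Category.assoc]
      exact hm
    · rw [Category.assoc, Category.assoc]
      exact hn
  · exact toUnit_unique _ _

theorem exists_iff_isUnit {T : C} (m : T ⟶ M) :
    (∃ g : T ⟶ units M, g ≫ unitsι M = m) ↔ IsUnit m := by
  constructor
  · rintro ⟨g, rfl⟩
    obtain ⟨h1, h2⟩ := units_fst_snd M g
    rw [isUnit_iff_exists]
    refine ⟨g ≫ Limits.pullback.fst (pq M) (uu M) ≫ snd M M, ?_, ?_⟩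
    · simpa [unitsι] using h1
    · simpa [unitsι] using h2
  · intro h
    rw [isUnit_iff_exists] at h
    obtain ⟨n, h1, h2⟩ := h
    refine ⟨Limits.pullback.lift (lift m n) (toUnit T) ((cond_iff M m n).mpr ⟨h1, h2⟩), ?_⟩
    rw [Limits.pullback.lift_fst_assoc, lift_fst]

end

/-- Let k be a commutative ring and M a monoid k-scheme (a monoid object in k-schemes). Then the group
k-functor of units T ↦ M(T)^× is representable by a k-scheme: there are a k-scheme G and a
monomorphism i : G → M such that, for every k-scheme T, a T-valued point of M factors through i if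
and only if it is invertible in the monoid M(T). If moreover M is affine then G is affine. -/
theorem result (k : Type u) [CommRing k]
    (M : Over (Spec (CommRingCat.of k))) [MonObj M] :
    ∃ (G : Over (Spec (CommRingCat.of k))) (i : G ⟶ M), Mono i ∧
      (∀ (T : Over (Spec (CommRingCat.of k))) (m : T ⟶ M), (∃ g : T ⟶ G, g ≫ i = m) ↔ IsUnit m) ∧
      (IsAffine M.left → IsAffine G.left) := by
  refine ⟨units M, unitsι M, mono_unitsι M, fun T m => exists_iff_isUnit M m, ?_⟩
  intro hM
  have sq := (IsPullback.of_hasPullback (pq M) (uu M)).map (Over.forget _)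
  haveI : IsAffine ((Over.forget (Spec (CommRingCat.of k))).obj (M ⊗ M)) := by
    change IsAffine (Limits.pullback M.hom M.hom)
    infer_instance
  haveI : IsAffine ((Over.forget (Spec (CommRingCat.of k))).obj (𝟙_ _)) := by
    change IsAffine (Spec (CommRingCat.of k))
    infer_instance
  have e := sq.isoPullback
  exact IsAffine.of_isIso e.hom

end Groth.Agent.S18821
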