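import Groth.Statements.S18822
-- import your own Groth.Agent.* helpers here
import Mathlib.CategoryTheory.Sites.SubcanonicalOver
import Mathlib.CategoryTheory.Sites.Subsheaf
import Mathlib.AlgebraicGeometry.Sites.BigZariski

set_option autoImplicit false
universe u
open CategoryTheory MonoidalCategory CartesianMonoidalCategory MonObj AlgebraicGeometry Opposite
open Magnet

namespace Groth.Agent.S18822

universe v₁ u₁

section
variable {C : Type u₁} [Category.{v₁} C] [CartesianMonoidalCategory C] {A X : C} [MonObj A]

/-- The fixed points as a subfunctor of the functor of points. -/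
def fixedSub (a : Magnet.MonAct A X) : Subfunctor (yoneda.obj X) where
  obj T := {x | ∀ (T' : C) (t : T' ⟶ unop T) (g : T' ⟶ A), lift g (t ≫ x) ≫ a.act = t ≫ x}
  map {U V} i x hx := by
    intro T' t g
    show lift g (t ≫ i.unop ≫ x) ≫ a.act = t ≫ i.unop ≫ x
    rw [← Category.assoc]
    exact hx T' (t ≫ i.unop) g

def fixedIso (a : Magnet.MonAct A X) : Magnet.MonAct.fixedPsh a ≅ (fixedSub a).toFunctor :=
  NatIso.ofComponents (fun _ => Equiv.toIso
    { toFun := fun x => ⟨x.1, x.2⟩
      invFun := fun x => ⟨x.1, x.2⟩
      left_inv := fun _ => rfl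
      right_inv := fun _ => rfl })
    (fun _ => rfl)

theorem isSheaf_fixedPsh (J : GrothendieckTopology C) [J.Subcanonical] (a : Magnet.MonAct A X) :
    Presheaf.IsSheaf J (Magnet.MonAct.fixedPsh a) := by
  rw [isSheaf_iff_isSheaf_of_type]
  have hX : Presieve.IsSheaf J (yoneda.obj X) :=
    GrothendieckTopology.Subcanonical.isSheaf_of_isRepresentable (yoneda.obj X)
  refine Presieve.isSheaf_iso J (fixedIso a).symm ?_
  rw [Subfunctor.isSheaf_iff _ hX]
  intro T x hx T' t g
  -- equality of two morphisms T' ⟶ X checked on the covering sieve t^*R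
  have hcov : (Sieve.pullback t ((fixedSub a).sieveOfSection x)) ∈ J T' := J.pullback_stable t hx
  refine (hX _ hcov).isSeparatedFor.ext ?_
  intro W f hf
  -- hf : (f ≫ t) ≫ x fixed
  have h1 := hf W (𝟙 W) (f ≫ g)
  show f ≫ lift g (t ≫ x) ≫ a.act = f ≫ t ≫ x
  rw [← Category.assoc, comp_lift]
  simpa [Category.assoc] using h1

end


/-- Let k be a commutative ring, M a monoid k-scheme and X a k-scheme with an action a of M. Then the
fixed-point subpresheaf X^M of X, whose T-valued points are the k-morphisms x : T → X such that g ·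
(x ∘ t) = x ∘ t for every k-scheme T', every t : T' → T and every T'-valued point g of M, is a sheaf
for the Zariski topology on k-schemes (the topology induced on schemes over Spec k). -/
theorem result (k : Type u) [CommRing k]
    (M X : Over (Spec (CommRingCat.of k))) [MonObj M] (a : Magnet.MonAct M X) :
    Presheaf.IsSheaf (Scheme.zariskiTopology.over (Spec (CommRingCat.of k))) (Magnet.MonAct.fixedPsh a) := by
  exact isSheaf_fixedPsh _ a

end Groth.Agent.S18822
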