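import Groth.Statements.S18823
import Mathlib
import Groth.Agent.Lib.Helper78.ClosedCond

set_option autoImplicit false
universe u
open CategoryTheory MonoidalCategory CartesianMonoidalCategory AlgebraicGeometry
open AlgGrp

namespace Groth.Agent.S18823

section helpers
open CategoryTheory MonoidalCategory CartesianMonoidalCategory AlgebraicGeometry
open AlgGrp


section aux

open CategoryTheory.Limits

variable {C : Type*} [Category C] [CartesianMonoidalCategory C]

/-- the swap morphism -/
def swp (A B : C) : A ⊗ B ⟶ B ⊗ A := lift (snd A B) (fst A B)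

lemma swp_swp (A B : C) : swp A B ≫ swp B A = 𝟙 _ := by
  apply CartesianMonoidalCategory.hom_ext <;> simp [swp]

lemma swp_whiskerRight {A A' : C} (B : C) (f : A ⟶ A') :
    swp B A ≫ (f ▷ B) = (B ◁ f) ≫ swp B A' := by
  apply CartesianMonoidalCategory.hom_ext <;> simp [swp]

end aux

theorem key (k : Type u) [Field k]
    (M G X : Over (Spec (CommRingCat.of k))) [IsSeparated X.hom] (i : G ⟶ M)
    [IsSchemeTheoreticallyDominant i.left]
    (T : Over (Spec (CommRingCat.of k))) (u v : M ⊗ T ⟶ X)
    (h : (i ▷ T) ≫ u = (i ▷ T) ≫ v) : u = v := by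
  let u' : T ⊗ M ⟶ X := swp T M ≫ u
  let v' : T ⊗ M ⟶ X := swp T M ≫ v
  obtain ⟨Z, j, hj, huniv⟩ := Groth.Agent.Lib.Helper78.ClosedCond.exists_closed_representing k M T
    (Limits.equalizer u' v') (Limits.equalizer.ι u' v')
  -- `i` factors through `Z`
  have hi : (T ◁ i) ≫ u' = (T ◁ i) ≫ v' := by
    change (T ◁ i) ≫ swp T M ≫ u = (T ◁ i) ≫ swp T M ≫ v
    rw [← Category.assoc, ← swp_whiskerRight, Category.assoc, h, ← Category.assoc,
      swp_whiskerRight, Category.assoc]
  obtain ⟨z, hz⟩ := (huniv G i).2 ⟨Limits.equalizer.lift (T ◁ i) hi, Limits.equalizer.lift_ι _ _⟩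
  -- hence `j` has trivial kernel, so the identity factors through `Z`
  have hker : j.left.ker ≤ (𝟙 M.left : M.left ⟶ M.left).ker := by
    have h1 : j.left.ker ≤ (z.left ≫ j.left).ker := Scheme.Hom.le_ker_comp _ _
    rw [← Over.comp_left, hz, IsSchemeTheoreticallyDominant.ker_eq_bot i.left] at h1
    exact h1.trans bot_le
  let s : M.left ⟶ Z.left := IsClosedImmersion.lift j.left (𝟙 M.left) hker
  have hs : s ≫ j.left = 𝟙 M.left := IsClosedImmersion.lift_fac _ _ _
  let s' : M ⟶ Z := Over.homMk s (by
    rw [← Over.w j, ← Category.assoc, hs, Category.id_comp])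
  have hs' : s' ≫ j = 𝟙 M := by
    apply Over.OverMorphism.ext
    exact hs
  obtain ⟨e, he⟩ := (huniv M (𝟙 M)).1 ⟨s', hs'⟩
  have h2 : u' = v' := by
    have h3 : (T ◁ (𝟙 M)) = 𝟙 (T ⊗ M) := by simp
    calc u' = (T ◁ (𝟙 M)) ≫ u' := by rw [h3, Category.id_comp]
      _ = e ≫ Limits.equalizer.ι u' v' ≫ u' := by rw [← he, Category.assoc]
      _ = e ≫ Limits.equalizer.ι u' v' ≫ v' := by rw [Limits.equalizer.condition]
      _ = (T ◁ (𝟙 M)) ≫ v' := by rw [← he, Category.assoc]
      _ = v' := by rw [h3, Category.id_comp]
  calc u = swp M T ≫ swp T M ≫ u := by rw [← Category.assoc, swp_swp, Category.id_comp]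
    _ = swp M T ≫ swp T M ≫ v := by exact congrArg (swp M T ≫ ·) h2
    _ = v := by rw [← Category.assoc, swp_swp, Category.id_comp]

end helpers

/-- Let k be a field, X a separated k-scheme, M a k-scheme (in the source a monoid k-scheme) acting on X
through a : M ×_k X → X, and i : G → M a morphism of k-schemes which is a scheme-theoretically
dominant open immersion: no nonzero quasi-coherent ideal of O_M restricts to zero on G (for
quasi-compact i this is the usual schematic density, O_M → i_*O_G injective; in the source G is the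
group of units of M, open and schematically dense). For a k-scheme T and a T-valued point x of X, x
is fixed under M, i.e. a ∘ (id_M × x) = x ∘ pr_T on M ×_k T, if and only if x is fixed under G, i.e.
a ∘ (i × x) = x ∘ pr_T on G ×_k T. Thus the fixed-point subpresheaves X^M and X^G of X are equal.
(The published statement has no separatedness assumption on X and reduces to points landing in an
affine open; the step asserting that the equalizer of the two maps M ×_k T → X is closed uses that
the target is separated, so X is taken separated here, the case the printed argument establishes.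
The monoid structure and the action axioms play no role in that argument and are not assumed.) -/
theorem result (k : Type u) [Field k]
    (M G X : Over (Spec (CommRingCat.of k))) [IsSeparated X.hom] (a : M ⊗ X ⟶ X) (i : G ⟶ M)
    [IsOpenImmersion i.left] [IsSchemeTheoreticallyDominant i.left]
    (T : Over (Spec (CommRingCat.of k))) (x : T ⟶ X) :
    (M ◁ x) ≫ a = CartesianMonoidalCategory.snd M T ≫ x ↔
      (G ◁ x) ≫ (i ▷ X) ≫ a = CartesianMonoidalCategory.snd G T ≫ x := by
  have hex : (G ◁ x) ≫ (i ▷ X) = (i ▷ T) ≫ (M ◁ x) := whisker_exchange i x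
  have hsnd : (i ▷ T) ≫ CartesianMonoidalCategory.snd M T = CartesianMonoidalCategory.snd G T :=
    whiskerRight_snd i T
  constructor
  · intro h
    rw [← Category.assoc, hex, Category.assoc, h, ← Category.assoc, hsnd]
  · intro h
    apply key k M G X i T
    rw [← Category.assoc, ← hex, Category.assoc, h, ← Category.assoc, hsnd]

end Groth.Agent.S18823
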