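import Groth.Statements.S18826
import Groth.Agent.S18824

set_option autoImplicit false
universe u
open CategoryTheory MonoidalCategory CartesianMonoidalCategory MonObj AlgebraicGeometry
open AlgGrp

namespace Groth.Agent.S18826

set_option backward.isDefEq.respectTransparency.types false
set_option linter.style.haveILetI false

open CategoryTheory.Limits

/-- the largest open of the target over which `f` has a Zariski-local property. -/
theorem exists_largest_open (P : MorphismProperty Scheme.{u}) [IsZariskiLocalAtTarget P]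
    {X Y : Scheme.{u}} (f : X ⟶ Y) :
    ∃ V : Y.Opens, P (f ∣_ V) ∧ ∀ V' : Y.Opens, P (f ∣_ V') → V' ≤ V := by
  let I := {V' : Y.Opens // P (f ∣_ V')}
  let V : Y.Opens := ⨆ i : I, i.1
  refine ⟨V, ?_, fun V' h => le_iSup (fun i : I => i.1) ⟨V', h⟩⟩
  apply IsZariskiLocalAtTarget.of_iSup_eq_top (fun i : I => V.ι ⁻¹ᵁ i.1)
  · apply V.ι.image_injective
    dsimp only
    rw [Scheme.Hom.image_iSup, Scheme.Hom.image_top_eq_opensRange, Scheme.Opens.opensRange_ι]
    simp only [Scheme.Hom.image_preimage_eq_opensRange_inf, Scheme.Opens.opensRange_ι]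
    apply le_antisymm
    · exact iSup_le fun i => inf_le_left
    · exact iSup_le fun i => le_iSup_of_le i (le_inf (le_iSup (fun i : I => i.1) i) le_rfl)
  · intro i
    have e : V.ι ''ᵁ (V.ι ⁻¹ᵁ i.1) = i.1 := by
      rw [Scheme.Hom.image_preimage_eq_opensRange_inf, Scheme.Opens.opensRange_ι]
      exact inf_eq_right.mpr (le_iSup (fun i : I => i.1) i)
    rw [P.arrow_mk_iso_iff (morphismRestrictRestrict f V _ ≪≫ morphismRestrictEq f e)]
    exact i.2

/-- restricting a pullback square over an open of the target. -/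
theorem exists_isPullback_restrict {A B X Y : Scheme.{u}} {t : A ⟶ B} {l : A ⟶ X} {r : B ⟶ Y}
    {f : X ⟶ Y} (sq : IsPullback t l r f) (V : Y.Opens) (r' : B ⟶ V) (hr : r' ≫ V.ι = r) :
    ∃ l' : A ⟶ f ⁻¹ᵁ V, IsPullback t l' r' (f ∣_ V) := by
  have R := isPullback_morphismRestrict f V
  have hw : (t ≫ r') ≫ V.ι = l ≫ f := by rw [Category.assoc, hr, sq.w]
  refine ⟨R.lift (t ≫ r') l hw, ?_⟩
  refine IsPullback.of_bot ?_ (R.lift_fst _ _ _).symm R
  rw [R.lift_snd, hr]
  exact sq

section
variable {S : Scheme.{u}} {G X Y : Over S} [GrpObj G]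

/-- an equivariant morphism is cartesian over the action maps. -/
theorem isPullback_act (aX : AlgGrp.Action G X) (aY : AlgGrp.Action G Y) (f : X ⟶ Y)
    (hf : (G ◁ f) ≫ aY.act = aX.act ≫ f) : IsPullback (G ◁ f) aX.act aY.act f := by
  have sq0 := Groth.Agent.Lib.Helper78.FpqcQuot.isPullback_whiskerLeft G f
  have hX : (Groth.Agent.S18861.shear aX).inv ≫ aX.act = snd G X := by
    rw [Iso.inv_comp_eq, Groth.Agent.S18861.shear_hom_snd]
  have hY : (Groth.Agent.S18861.shear aY).inv ≫ aY.act = snd G Y := by
    rw [Iso.inv_comp_eq, Groth.Agent.S18861.shear_hom_snd]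
  have hc : (G ◁ f) ≫ (Groth.Agent.S18861.shear aY).hom =
      (Groth.Agent.S18861.shear aX).hom ≫ (G ◁ f) := by
    apply CartesianMonoidalCategory.hom_ext
    · simp [Groth.Agent.S18861.shear]
    · simp [Groth.Agent.S18861.shear, hf]
  refine IsPullback.of_iso sq0 (Groth.Agent.S18861.shear aX).symm
    (Groth.Agent.S18861.shear aY).symm (Iso.refl _) (Iso.refl _) ?_ ?_ ?_ ?_
  · simp only [Iso.symm_hom]
    rw [Iso.comp_inv_eq, Category.assoc, hc, Iso.inv_hom_id_assoc]
  · simp only [Iso.symm_hom, Iso.refl_hom, Category.comp_id]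
    exact hX.symm
  · simp only [Iso.symm_hom, Iso.refl_hom, Category.comp_id]
    exact hY.symm
  · simp

end

/-- Let k be a field, G a locally algebraic group over k (a group k-scheme locally of finite type)
acting on k-schemes X and Y, and f : X → Y a G-equivariant k-morphism. Let P be a property of
morphisms of schemes which is local on the target for the Zariski topology, stable under base
change, and descends along flat surjective universally open morphisms (the published hypothesis is
descent along fpqc morphisms; the printed argument descends only along the restriction G ×_k U → G·U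
of the action, which is flat, surjective and universally open). Then there is a largest open subset
V of Y such that the restriction f⁻¹(V) → V of f has P, and this V is G-stable: the action G ×_k Y →
Y maps G ×_k V into V. -/
theorem result (k : Type u) [Field k]
    (G X Y : Over (Spec (CommRingCat.of k))) [GrpObj G] [LocallyOfFiniteType G.hom]
    (aX : AlgGrp.Action G X) (aY : AlgGrp.Action G Y) (f : X ⟶ Y) (hf : (G ◁ f) ≫ aY.act = aX.act ≫ f)
    (P : MorphismProperty Scheme.{u}) [IsZariskiLocalAtTarget P] [P.IsStableUnderBaseChange]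
    [P.DescendsAlong (@Flat ⊓ @Surjective ⊓ @UniversallyOpen)] :
    ∃ V : Y.left.Opens, P (f.left ∣_ V) ∧ (∀ V' : Y.left.Opens, P (f.left ∣_ V') → V' ≤ V) ∧
      (CartesianMonoidalCategory.snd G Y).left ⁻¹ᵁ V ≤ aY.act.left ⁻¹ᵁ V := by
  obtain ⟨V, hV, hmax⟩ := exists_largest_open P f.left
  refine ⟨V, hV, hmax, ?_⟩
  haveI : UniversallyOpen G.hom := Groth.Agent.S18824.universallyOpen_of_field k G.hom
  haveI : Flat G.hom := inferInstance
  haveI : UniversallyOpen aY.act.left :=
    Groth.Agent.S18861.prop_act aY @UniversallyOpen inferInstance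
  haveI : Flat aY.act.left := Groth.Agent.S18861.prop_act aY @Flat inferInstance
  -- notation
  let g : (G ⊗ X).left ⟶ (G ⊗ Y).left := (G ◁ f).left
  let W : (G ⊗ Y).left.Opens := (snd G Y).left ⁻¹ᵁ V
  -- the two pullback squares over `f`
  have sq0 : IsPullback g (snd G X).left (snd G Y).left f.left :=
    (Groth.Agent.Lib.Helper78.FpqcQuot.isPullback_whiskerLeft G f).map (Over.forget _)
  have sqA : IsPullback g aX.act.left aY.act.left f.left :=
    (isPullback_act aX aY f hf).map (Over.forget _)
  have R := isPullback_morphismRestrict g W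
  have sq0' := R.paste_vert sq0
  have sqA' := R.paste_vert sqA
  -- `g ∣_ W` has `P`
  have hgW : P (g ∣_ W) := by
    obtain ⟨l', hl'⟩ := exists_isPullback_restrict sq0' V ((snd G Y).left ∣_ V)
      (morphismRestrict_ι _ _)
    exact P.of_isPullback hl'.flip hV
  -- the image `G · V`
  let aW : (W : Scheme.{u}) ⟶ Y.left := W.ι ≫ aY.act.left
  haveI : UniversallyOpen aW := inferInstance
  haveI : Flat aW := inferInstance
  let V₂ : Y.left.Opens := ⟨Set.range aW.base, aW.isOpenMap.isOpen_range⟩
  have hr : Set.range aW.base ⊆ Set.range V₂.ι.base := by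
    rw [Scheme.Opens.range_ι]
    exact subset_rfl
  let aW' : (W : Scheme.{u}) ⟶ V₂ := IsOpenImmersion.lift V₂.ι aW hr
  have haW' : aW' ≫ V₂.ι = aW := IsOpenImmersion.lift_fac _ _ _
  have hsurj : Surjective aW' := by
    refine ⟨fun y => ?_⟩
    obtain ⟨w, hw⟩ := y.2
    refine ⟨w, ?_⟩
    apply V₂.ι.injective
    rw [← Scheme.Hom.comp_apply, haW']
    exact hw
  have sqI : IsPullback (𝟙 (W : Scheme.{u})) aW' aW V₂.ι :=
    IsPullback.of_horiz_isIso_mono ⟨by rw [Category.id_comp, haW']⟩
  have hQ : (@Flat ⊓ @Surjective ⊓ @UniversallyOpen : MorphismProperty Scheme.{u}) aW' :=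
    ⟨⟨MorphismProperty.of_isPullback (P := @Flat) sqI inferInstance, hsurj⟩,
      MorphismProperty.of_isPullback (P := @UniversallyOpen) sqI inferInstance⟩
  -- descent
  have hV₂ : P (f.left ∣_ V₂) := by
    obtain ⟨l', hl'⟩ := exists_isPullback_restrict sqA' V₂ aW' haW'
    exact MorphismProperty.of_isPullback_of_descendsAlong
      (Q := @Flat ⊓ @Surjective ⊓ @UniversallyOpen) hl' hQ hgW
  have hle : V₂ ≤ V := hmax V₂ hV₂
  intro z hz
  apply hle
  exact ⟨⟨z, hz⟩, rfl⟩

end Groth.Agent.S18826
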