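import Groth.Statements.S18830
import Groth.Agent.S18821
import Mathlib.AlgebraicGeometry.Morphisms.Immersion
import Mathlib.AlgebraicGeometry.Noetherian
import Mathlib.AlgebraicGeometry.Morphisms.FiniteType

set_option autoImplicit false
universe u
open CategoryTheory MonoidalCategory CartesianMonoidalCategory MonObj AlgebraicGeometry
open AlgGrp

namespace Groth.Agent.S18830

set_option backward.isDefEq.respectTransparency.types false
set_option linter.style.haveILetI false

open Groth.Agent.S18821

/-- Let k be a field and M an algebraic monoid over k (a monoid k-scheme of finite type). Let i : G → M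
be its group of units: a monomorphism of k-schemes through which a T-valued point of M factors if
and only if it is invertible in the monoid M(T). Then G is of finite type over k, i.e. the unit
group is an algebraic group. -/
theorem result (k : Type u) [Field k]
    (M G : Over (Spec (CommRingCat.of k))) [MonObj M] [LocallyOfFiniteType M.hom] [QuasiCompact M.hom]
    (i : G ⟶ M) [Mono i]
    (hi : ∀ (T : Over (Spec (CommRingCat.of k))) (m : T ⟶ M), (∃ g : T ⟶ G, g ≫ i = m) ↔ IsUnit m) :
    LocallyOfFiniteType G.hom ∧ QuasiCompact G.hom := by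
  -- `G ≅ units M`
  haveI := mono_unitsι M
  obtain ⟨a, ha⟩ := (exists_iff_isUnit M i).mpr ((hi G i).mp ⟨𝟙 G, Category.id_comp _⟩)
  obtain ⟨b, hb⟩ := (hi (units M) (unitsι M)).mpr
    ((exists_iff_isUnit M (unitsι M)).mp ⟨𝟙 _, Category.id_comp _⟩)
  have hab : a ≫ b = 𝟙 G := by
    rw [← cancel_mono i, Category.assoc, hb, ha, Category.id_comp]
  -- the structure morphism of `units M`
  have sq := (IsPullback.of_hasPullback (pq M) (uu M)).map (Over.forget _)
  have hw : (uu M).left ≫ (M ⊗ M).hom = 𝟙 _ := Over.w (uu M)
  haveI : IsImmersion ((uu M).left ≫ (M ⊗ M).hom) := by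
    rw [hw]; exact (inferInstance : IsImmersion (𝟙 (Spec (CommRingCat.of k))))
  haveI : IsImmersion (uu M).left := IsImmersion.of_comp (uu M).left (M ⊗ M).hom
  haveI : QuasiCompact (uu M).left := by
    change QuasiCompact (X := Spec (CommRingCat.of k)) (uu M).left
    infer_instance
  have h1 : LocallyOfFiniteType (Limits.pullback.fst (pq M) (uu M)).left :=
    MorphismProperty.of_isPullback (P := @LocallyOfFiniteType) sq.flip
      (inferInstance : LocallyOfFiniteType (uu M).left)
  have h2 : QuasiCompact (Limits.pullback.fst (pq M) (uu M)).left :=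
    MorphismProperty.of_isPullback (P := @QuasiCompact) sq.flip
      (inferInstance : QuasiCompact (uu M).left)
  have h3 : LocallyOfFiniteType (M ⊗ M).hom := by
    change LocallyOfFiniteType (Limits.pullback.fst M.hom M.hom ≫ M.hom)
    infer_instance
  have h4 : QuasiCompact (M ⊗ M).hom := by
    change QuasiCompact (Limits.pullback.fst M.hom M.hom ≫ M.hom)
    infer_instance
  have hG : G.hom = a.left ≫ (Limits.pullback.fst (pq M) (uu M)).left ≫ (M ⊗ M).hom := by
    rw [Over.w, Over.w]
  haveI : IsIso a := ⟨b, hab, by
    rw [← cancel_mono (unitsι M), Category.assoc, ha, hb, Category.id_comp]⟩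
  haveI : IsIso a.left := (inferInstance : IsIso ((Over.forget _).map a))
  rw [hG]
  exact ⟨inferInstance, inferInstance⟩

end Groth.Agent.S18830
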