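import Groth.Statements.S18832
import Groth.Agent.Lib.Helper76.CurviReg

set_option autoImplicit false
universe u
open Polynomial
open DefT

namespace Groth.Agent.S18832

/-- Let k be an algebraically closed field of characteristic zero, A a finitely generated k-algebra and
m a maximal ideal of A. Then A_m is a regular local ring (the pointed scheme (Spec A, m) is smooth
at m) if and only if, for every l ≥ 1, every k-algebra homomorphism φ : A → k[X]/(X^l) mapping m
into the nilpotent elements extends to a k-algebra homomorphism ψ : A → k[X]/(X^(l+1)) reducing to φ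
modulo X^l. Only jets along Spec k[X]/(X^l) are tested, not all local Artinian algebras. -/
theorem result (k : Type u) [Field k] [IsAlgClosed k] [CharZero k]
    (A : Type u) [CommRing A] [Algebra k A] [Algebra.FiniteType k A]
    (m : Ideal A) [m.IsMaximal] :
    IsRegularLocalRing (Localization.AtPrime m) ↔
      ∀ (l : ℕ), 1 ≤ l →
        ∀ (φ : A →ₐ[k] (k[X] ⧸ Ideal.span {(X : k[X]) ^ l})),
          (∀ a ∈ m, IsNilpotent (φ a)) →
          ∃ ψ : A →ₐ[k] (k[X] ⧸ Ideal.span {(X : k[X]) ^ (l + 1)}),
            (Ideal.Quotient.factorₐ k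
                (Ideal.span_singleton_le_span_singleton.mpr (pow_dvd_pow (X : k[X]) (Nat.le_succ l)))).comp ψ = φ := by
  constructor
  · intro hreg l hl φ hφ
    refine Groth.Agent.Lib.Helper76.CurviReg.lift_of_regular k A m hreg _
      (Ideal.Quotient.factor_surjective
        (Ideal.span_singleton_le_span_singleton.mpr (pow_dvd_pow (X : k[X]) (Nat.le_succ l)))) ?_ φ hφ
    refine ⟨2, ?_⟩
    have hk : RingHom.ker ((Ideal.Quotient.factorₐ k
        (Ideal.span_singleton_le_span_singleton.mpr (pow_dvd_pow (X : k[X]) (Nat.le_succ l))) :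
          (k[X] ⧸ Ideal.span {(X : k[X]) ^ (l + 1)}) →ₐ[k] (k[X] ⧸ Ideal.span {(X : k[X]) ^ l})) :
          (k[X] ⧸ Ideal.span {(X : k[X]) ^ (l + 1)}) →+* (k[X] ⧸ Ideal.span {(X : k[X]) ^ l})) =
        (Ideal.span {(X : k[X]) ^ l}).map (Ideal.Quotient.mk (Ideal.span {(X : k[X]) ^ (l + 1)})) :=
      Ideal.Quotient.factor_ker
        (Ideal.span_singleton_le_span_singleton.mpr (pow_dvd_pow (X : k[X]) (Nat.le_succ l)))
    rw [hk, ← Ideal.map_pow, Ideal.span_singleton_pow, Ideal.zero_eq_bot,
      Ideal.map_eq_bot_iff_le_ker, Ideal.mk_ker, Ideal.span_singleton_le_span_singleton, ← pow_mul]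
    exact pow_dvd_pow X (by omega)
  · intro H
    apply Groth.Agent.Lib.Helper76.CurviReg.regular_of_curvilinear k A m
    intro n φ hφ
    obtain ⟨ψ, hψ⟩ := H (n + 2) (by omega) φ hφ
    refine ⟨ψ, fun a => ?_⟩
    have h1 := DFunLike.congr_fun hψ a
    have h2 : T1Lift.αAlg k (n + 1) = Ideal.Quotient.factorₐ k
        (Ideal.span_singleton_le_span_singleton.mpr (pow_dvd_pow (X : k[X]) (Nat.le_succ (n + 2)))) := by
      apply AdjoinRoot.algHom_ext
      rw [T1Lift.αAlg_t]
      rfl
    exact (DFunLike.congr_fun h2 (ψ a)).trans h1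

end Groth.Agent.S18832
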