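import Groth.Statements.S18834
-- import your own Groth.Agent.* helpers here
import Groth.Agent.Lib.Helper96.Reynolds
import Groth.Agent.Lib.Helper96.LinRed

set_option autoImplicit false
universe u
open TensorProduct
open GIT

namespace Groth.Agent.S18834

/-- Let k be an algebraically closed field of characteristic zero, G = Spec A a linearly reductive
affine group over k (A a commutative Hopf algebra whose finite-dimensional comodules are semisimple)
acting on an affine k-scheme Spec R of finite type (a multiplicative coaction of A on R), and R^G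
the ring of invariants. Then for every ideal I of R^G the ideal I·R of R generated by I satisfies
(I·R) ∩ R^G = I. (The section also assumes Spec R irreducible; that hypothesis plays no role here
and is not carried.) -/
theorem result (k : Type u) [Field k] [IsAlgClosed k] [CharZero k]
    (A : Type u) [CommRing A] [HopfAlgebra k A] (hG : HopfRep.IsLinearlyReductive k A)
    (R : Type u) [CommRing R] [Algebra k R] [Algebra.FiniteType k R]
    [HopfRep.Comod k A R] [GLin.IsCoactAlg k A R]
    (I : Ideal (GLin.invariants k A R)) :
    Ideal.comap (GLin.invariants k A R).val.toRingHom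
        (Ideal.map (GLin.invariants k A R).val.toRingHom I) = I := by
  classical
  obtain ⟨α, hα, h1⟩ :=
    (Groth.Agent.Lib.Helper96.isLinearlyReductive_iff_exists_integral (k := k) (A := A)).mp hG
  set cR : HopfRep.Comod k A R := ‹HopfRep.Comod k A R› with hcR
  set β : A →ₗ[k] k := α ∘ₗ (HopfAlgebra.antipode k (A := A)) with hβ
  set E := Groth.Agent.Lib.Helper96.reyn cR α with hE
  -- slice is linear over invariants
  have hslice : ∀ (a : R) (y : R ⊗[k] A),
      Groth.Agent.Lib.Helper96.slice R β (y * (a ⊗ₜ[k] (1 : A))) =
        Groth.Agent.Lib.Helper96.slice R β y * a := by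
    intro a y
    induction y using TensorProduct.induction_on with
    | zero => simp
    | add x y hx hy => rw [add_mul, map_add, hx, hy, map_add, add_mul]
    | tmul r h =>
      rw [Algebra.TensorProduct.tmul_mul_tmul, mul_one, Groth.Agent.Lib.Helper96.slice_tmul,
        Groth.Agent.Lib.Helper96.slice_tmul, smul_mul_assoc]
  have hE_mul : ∀ (r : R) (a : GLin.invariants k A R), E (r * (a : R)) = E r * (a : R) := by
    intro r a
    rw [hE, Groth.Agent.Lib.Helper96.reyn_apply, Groth.Agent.Lib.Helper96.reyn_apply]
    have ha : cR.coact (a : R) = (a : R) ⊗ₜ[k] (1 : A) := a.2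
    rw [show cR.coact (r * (a : R)) = cR.coact r * cR.coact (a : R) from
      GLin.IsCoactAlg.coact_mul (k := k) (A := A) r (a : R), ha]
    exact hslice _ _
  have hE_mem : ∀ r : R, E r ∈ GLin.invariants k A R := fun r => Groth.Agent.Lib.Helper96.coact_reyn cR α hα r
  have hE_fix : ∀ a : GLin.invariants k A R, E (a : R) = a := fun a =>
    Groth.Agent.Lib.Helper96.reyn_of_fixed cR α h1 a.2
  apply le_antisymm
  · intro s hs
    rw [Ideal.mem_comap] at hs
    have key : ∀ x ∈ Submodule.span R ((GLin.invariants k A R).val.toRingHom '' (I : Set (GLin.invariants k A R))),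
        ∀ r : R, ∃ t ∈ I, (t : R) = E (r * x) := by
      intro x hx
      refine Submodule.span_induction (p := fun x _ => ∀ r : R, ∃ t ∈ I, (t : R) = E (r * x))
        ?_ ?_ ?_ ?_ hx
      · intro x hx
        obtain ⟨a, ha, rfl⟩ := hx
        intro r
        refine ⟨⟨E r, hE_mem r⟩ * a, I.mul_mem_left _ ha, ?_⟩
        exact (hE_mul r a).symm
      · intro r
        exact ⟨0, I.zero_mem, by simp⟩
      · intro x y _ _ hx hy r
        obtain ⟨t1, ht1, e1⟩ := hx r
        obtain ⟨t2, ht2, e2⟩ := hy r
        refine ⟨t1 + t2, I.add_mem ht1 ht2, ?_⟩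
        rw [mul_add, map_add, ← e1, ← e2]
        rfl
      · intro c x _ hx r
        obtain ⟨t, ht, e⟩ := hx (r * c)
        refine ⟨t, ht, ?_⟩
        rw [e, smul_eq_mul, mul_assoc]
    obtain ⟨t, ht, e⟩ := key _ hs 1
    rw [one_mul] at e
    have : t = s := by
      apply Subtype.ext
      rw [e]
      exact hE_fix s
    rw [← this]
    exact ht
  · exact Ideal.le_comap_map

end Groth.Agent.S18834
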