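import Groth.Statements.S18864
import Mathlib.RingTheory.Flat.Basic
import Mathlib.RingTheory.Flat.FaithfullyFlat.Basic
import Mathlib.RingTheory.Adjoin.Basic
import Mathlib.LinearAlgebra.Basis.VectorSpace
import Mathlib.LinearAlgebra.FreeModule.Basic

set_option autoImplicit false
universe u v w
open HopfRep

namespace Groth.Agent.S18864

theorem exists_index {A : Type v} {ι : Type v} (R : ι → Set A)
    (hdir : ∀ i j, ∃ l, R i ⊆ R l ∧ R j ⊆ R l)
    (hcov : ∀ a : A, ∃ i, a ∈ R i) (a0 : A) (S : Finset A) :
    ∃ i, ∀ s ∈ S, s ∈ R i := by
  classical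
  induction S using Finset.induction_on with
  | empty =>
    obtain ⟨i, _⟩ := hcov a0
    exact ⟨i, by simp⟩
  | insert a S _ ih =>
    obtain ⟨i, hi⟩ := ih
    obtain ⟨j, hj⟩ := hcov a
    obtain ⟨l, hil, hjl⟩ := hdir i j
    refine ⟨l, ?_⟩
    intro s hs
    rcases Finset.mem_insert.1 hs with rfl | hs
    · exact hjl hj
    · exact hil (hi s hs)

/-- Let k be a field and G = lim G_i a pro-algebraic group scheme over k, so that G = Spec A with A the
direct limit of the Hopf algebras A_i of the affine group schemes G_i of finite type; assume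
moreover that the maps A_i → A are injective, so that A is the directed union of the A_i, here given
as injective bialgebra maps A_i → A with directed, jointly covering images. Then every homomorphism
from G to an affine group scheme H = Spec B of finite type over k factors through some projection G
→ G_i: every bialgebra map f : B → A with B finitely generated as a k-algebra is the composite of
A_i → A with a bialgebra map B → A_i for some i. (The published statement allows arbitrary
transition maps in the system; this row assumes each A_i → A injective, the case the printed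
argument treats. The source also states the pro-finite variant with H finite, which is the case of
finite-dimensional A_i and B; finite generation of the A_i is not used.) -/
theorem result (k : Type u) [Field k]
    (A : Type v) [CommRing A] [HopfAlgebra k A] {ι : Type v} (Aι : ι → Type v)
    [∀ i, CommRing (Aι i)] [∀ i, HopfAlgebra k (Aι i)] (emb : ∀ i, Aι i →ₐc[k] A)
    (hinj : ∀ i, Function.Injective (emb i))
    (hdir : ∀ i j, ∃ l, Set.range (emb i) ⊆ Set.range (emb l) ∧ Set.range (emb j) ⊆ Set.range (emb l))
    (hcov : ∀ a : A, ∃ i, a ∈ Set.range (emb i))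
    (B : Type w) [CommRing B] [HopfAlgebra k B] [Algebra.FiniteType k B] (f : B →ₐc[k] A) :
    ∃ (i : ι) (g : B →ₐc[k] Aι i), (emb i).comp g = f := by
  classical
  obtain ⟨S, hS⟩ := (Algebra.FiniteType.out : (⊤ : Subalgebra k B).FG)
  obtain ⟨i, hi⟩ := exists_index (fun i => Set.range (emb i)) hdir hcov 0 (S.image f)
  refine ⟨i, ?_⟩
  let e : Aι i →ₐ[k] A := (emb i : Aι i →ₐ[k] A)
  have hrange : ∀ b : B, f b ∈ e.range := by
    intro b
    have hb : b ∈ Algebra.adjoin k (S : Set B) := by rw [hS]; trivial
    have : Algebra.adjoin k (S : Set B) ≤ e.range.comap (f : B →ₐ[k] A) := by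
      apply Algebra.adjoin_le
      intro s hs
      have := hi (f s) (Finset.mem_image_of_mem f hs)
      obtain ⟨x, hx⟩ := this
      exact ⟨x, hx⟩
    exact this hb
  let eq : Aι i ≃ₐ[k] e.range := AlgEquiv.ofInjective e (hinj i)
  let g₀ : B →ₐ[k] Aι i := (eq.symm : e.range →ₐ[k] Aι i).comp
    ((f : B →ₐ[k] A).codRestrict e.range hrange)
  have hg₀ : ∀ b, emb i (g₀ b) = f b := by
    intro b
    have : e (eq.symm ((f : B →ₐ[k] A).codRestrict e.range hrange b)) =
        ((f : B →ₐ[k] A).codRestrict e.range hrange b : A) := by
      have := eq.apply_symm_apply ((f : B →ₐ[k] A).codRestrict e.range hrange b)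
      exact congrArg Subtype.val this
    exact this
  have hcounit : (Bialgebra.counitAlgHom k (Aι i)).comp g₀ = Bialgebra.counitAlgHom k B := by
    ext b
    simp only [AlgHom.coe_comp, Function.comp_apply, Bialgebra.counitAlgHom_apply]
    rw [← CoalgHomClass.counit_comp_apply (emb i) (g₀ b), hg₀,
      CoalgHomClass.counit_comp_apply f b]
  have hcomul : (Algebra.TensorProduct.map g₀ g₀).comp (Bialgebra.comulAlgHom k B) =
      (Bialgebra.comulAlgHom k (Aι i)).comp g₀ := by
    ext b
    have hinj2 : Function.Injective
        (TensorProduct.map (emb i : Aι i →ₗ[k] A) (emb i : Aι i →ₗ[k] A)) :=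
      TensorProduct.map_injective_of_flat_flat _ _ (hinj i) (hinj i)
    apply hinj2
    simp only [AlgHom.coe_comp, Function.comp_apply, Bialgebra.comulAlgHom_apply]
    rw [CoalgHomClass.map_comp_comul_apply (emb i) (g₀ b), hg₀,
      ← CoalgHomClass.map_comp_comul_apply f b]
    have : ∀ z : TensorProduct k B B, TensorProduct.map (emb i : Aι i →ₗ[k] A) (emb i : Aι i →ₗ[k] A)
        (Algebra.TensorProduct.map g₀ g₀ z) = TensorProduct.map (f : B →ₗ[k] A) (f : B →ₗ[k] A) z := by
      intro z
      induction z using TensorProduct.induction_on with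
      | zero => simp
      | tmul x y => simp [hg₀]
      | add x y hx hy => simp only [map_add, hx, hy]
    exact this _
  refine ⟨BialgHom.ofAlgHom g₀ hcounit hcomul, ?_⟩
  ext b
  exact hg₀ b

end Groth.Agent.S18864
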