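import Groth.Statements.S18866
import Groth.Agent.Lib.Helper11.CMUnmixed
import Groth.Agent.Lib.Helper4.GorCM

set_option autoImplicit false
universe u
open Liaison

namespace Groth.Agent.S18866

/-- Let K be a field, R = K[x_0, …, x_n] graded by degree, c ≥ 2, 𝔠 ⊂ R a homogeneous ideal of height c
such that R/𝔠 is a Gorenstein ring, and I, J ⊂ R homogeneous ideals that are directly linked by 𝔠,
that is 𝔠 : I = J and 𝔠 : J = I. If R/I and R/J have no associated prime in common, then I ∩ J = 𝔠,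
so I and J are geometrically linked by 𝔠. -/
theorem result (K : Type u) [Field K] (n c : ℕ) (hc : 2 ≤ c)
    (𝔠 I J : Ideal (MvPolynomial (Fin (n + 1)) K))
    (h𝔠 : 𝔠.IsHomogeneous (GrSyz.stdGr K (Fin (n + 1)))) (hI : I.IsHomogeneous (GrSyz.stdGr K (Fin (n + 1)))) (hJ : J.IsHomogeneous (GrSyz.stdGr K (Fin (n + 1))))
    [LocCoh.IsGorensteinRing (MvPolynomial (Fin (n + 1)) K ⧸ 𝔠)] (h𝔠c : 𝔠.height = c)
    (hIJ : 𝔠.colon (I : Set (MvPolynomial (Fin (n + 1)) K)) = J) (hJI : 𝔠.colon (J : Set (MvPolynomial (Fin (n + 1)) K)) = I)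
    (hdisj : Disjoint (associatedPrimes (MvPolynomial (Fin (n + 1)) K) (MvPolynomial (Fin (n + 1)) K ⧸ I)) (associatedPrimes (MvPolynomial (Fin (n + 1)) K) (MvPolynomial (Fin (n + 1)) K ⧸ J))) :
    I ⊓ J = 𝔠 := by
  let R := MvPolynomial (Fin (n + 1)) K
  have hCM : LocCoh.IsCohenMacaulayRing (R ⧸ 𝔠) :=
    { isCohenMacaulayLocalRing_localization := fun p _ =>
        have := LocCoh.IsGorensteinRing.isGorensteinLocalRing_localization p
        Groth.Agent.Lib.Helper4.GorCM.isCohenMacaulayLocalRing_of_gorenstein _ }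
  have hcI : 𝔠 ≤ I := by
    intro x hx
    rw [← hJI, Submodule.mem_colon]
    intro j _
    exact 𝔠.mul_mem_right _ hx
  have hcJ : 𝔠 ≤ J := by
    intro x hx
    rw [← hIJ, Submodule.mem_colon]
    intro j _
    exact 𝔠.mul_mem_right _ hx
  refine le_antisymm ?_ (le_inf hcI hcJ)
  rintro x ⟨hxI, hxJ⟩
  by_contra hxc
  obtain ⟨P, hP, hle⟩ :=
    Groth.Agent.Lib.Helper11.CMUnmixed.exists_mem_minimalPrimes_colon_le 𝔠 hxc
  have hPp : P.IsPrime := hP.1.1
  -- `I ≤ 𝔠 : x` and `J ≤ 𝔠 : x`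
  have hIP : I ≤ P := by
    intro i hi
    apply hle
    rw [Submodule.mem_colon_singleton, smul_eq_mul]
    have : x ∈ 𝔠.colon (I : Set R) := by rw [hIJ]; exact hxJ
    rw [Submodule.mem_colon] at this
    have h2 := this i hi
    rwa [smul_eq_mul, mul_comm] at h2
  have hJP : J ≤ P := by
    intro j hj
    apply hle
    rw [Submodule.mem_colon_singleton, smul_eq_mul]
    have : x ∈ 𝔠.colon (J : Set R) := by rw [hJI]; exact hxI
    rw [Submodule.mem_colon] at this
    have h2 := this j hj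
    rwa [smul_eq_mul, mul_comm] at h2
  -- `P` is minimal over `I` and over `J`
  have hminI : P ∈ I.minimalPrimes :=
    ⟨⟨hPp, hIP⟩, fun Q hQ hQP => hP.2 ⟨hQ.1, hcI.trans hQ.2⟩ hQP⟩
  have hminJ : P ∈ J.minimalPrimes :=
    ⟨⟨hPp, hJP⟩, fun Q hQ hQP => hP.2 ⟨hQ.1, hcJ.trans hQ.2⟩ hQP⟩
  have hassI : P ∈ associatedPrimes R (R ⧸ I) := by
    apply Module.associatedPrimes.minimalPrimes_annihilator_subset_associatedPrimes R (R ⧸ I)
    rwa [Ideal.annihilator_quotient]
  have hassJ : P ∈ associatedPrimes R (R ⧸ J) := by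
    apply Module.associatedPrimes.minimalPrimes_annihilator_subset_associatedPrimes R (R ⧸ J)
    rwa [Ideal.annihilator_quotient]
  exact Set.disjoint_left.mp hdisj hassI hassJ

end Groth.Agent.S18866
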