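import Mathlib
-- Template for statement S18868 (row 18867; see the milestone table for weights).
-- Copy to Groth/Agent/S18868.lean and replace the sorry. The statement below is byte-identical to the frozen
-- statement Liaison.GrothFrozen.S18868 (Groth/Statements/S18868.lean; the theorem Liaison.isGorensteinRing_quot_colon_of_almostCompleteIntersection);
-- the grader kernel-checks Groth.Agent.S18868.result against that frozen type. Keep the theorem IN THIS FILE
-- (a `result` declared elsewhere and merely imported here is not credited); helpers may live anywhere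
-- under Groth/Agent/.
import Groth.Statements.S18868
import Groth.Agent.Lib.Helper24.GorLinkMain
import Groth.Agent.Lib.Helper24.GrUnmixed

set_option autoImplicit false
universe u
open Liaison

namespace Groth.Agent.S18868

/-- Let K be a field, R = K[x_0, …, x_n] graded by degree, c ≥ 2, 𝔠 ⊂ R a homogeneous complete
intersection of codimension c, that is a homogeneous ideal of height c generated by c elements g_1,
…, g_c, and I ⊂ R a homogeneous ideal of height c with R/I Cohen–Macaulay which properly contains 𝔠
and has the form I = 𝔠 + fR for some f (so I is an almost complete intersection). Then the linked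
ideal J = 𝔠 : I has height c and R/J is a Gorenstein ring. (A Gorenstein ideal of the notes, one
whose quotient is Cohen–Macaulay with last graded Betti number 1, is rendered as: the quotient ring
is Gorenstein.) -/
theorem result (K : Type u) [Field K] (n c : ℕ) (hc : 2 ≤ c)
    (g : Fin c → MvPolynomial (Fin (n + 1)) K) (f : MvPolynomial (Fin (n + 1)) K) (𝔠 I : Ideal (MvPolynomial (Fin (n + 1)) K)) (h𝔠g : Ideal.span (Set.range g) = 𝔠)
    (h𝔠 : 𝔠.IsHomogeneous (GrSyz.stdGr K (Fin (n + 1)))) (hI : I.IsHomogeneous (GrSyz.stdGr K (Fin (n + 1))))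
    (h𝔠c : 𝔠.height = c) (hIc : I.height = c) [LocCoh.IsCohenMacaulayRing (MvPolynomial (Fin (n + 1)) K ⧸ I)]
    (hlt : 𝔠 < I) (hIf : I = 𝔠 ⊔ Ideal.span {f}) :
    (𝔠.colon (I : Set (MvPolynomial (Fin (n + 1)) K))).height = c ∧
      LocCoh.IsGorensteinRing (MvPolynomial (Fin (n + 1)) K ⧸ 𝔠.colon (I : Set (MvPolynomial (Fin (n + 1)) K))) := by
  subst h𝔠g
  haveI hG : LocCoh.IsGorensteinRing
      (MvPolynomial (Fin (n + 1)) K ⧸ Ideal.span (Set.range g)) :=
    Groth.Agent.Lib.Helper24.GorLink.gorRing_quot_span_range K (n + 1) c g h𝔠c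
  have hI𝔠 : ¬ I ≤ Ideal.span (Set.range g) := fun h => absurd hlt (not_lt_of_ge h)
  refine ⟨(Groth.Agent.Lib.Helper24.GrUnmixed.main K n c _ I h𝔠 h𝔠c hI𝔠).1, ?_⟩
  exact Groth.Agent.Lib.Helper24.GorLink.gorRing_quot_colon K n c _ I f h𝔠 hI h𝔠c hIc hlt.le hIf

end Groth.Agent.S18868
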