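import Mathlib
-- Template for statement S18871 (row 18870; see the milestone table for weights).
-- Copy to Groth/Agent/S18871.lean and replace the sorry. The statement below is byte-identical to the frozen
-- statement Liaison.GrothFrozen.S18871 (Groth/Statements/S18871.lean; the theorem Liaison.unmixed_iff_unmixed_basicDoubleLink);
-- the grader kernel-checks Groth.Agent.S18871.result against that frozen type. Keep the theorem IN THIS FILE
-- (a `result` declared elsewhere and merely imported here is not credited); helpers may live anywhere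
-- under Groth/Agent/.
import Groth.Statements.S18871
import Groth.Agent.Lib.Helper24.GrUnmixed2
import Groth.Agent.Lib.Helper24.BDL

set_option autoImplicit false
universe u
open Liaison

namespace Groth.Agent.S18871

/-- Let K be a field, R = K[x_0, …, x_n] graded by degree, and J ⊆ I ⊂ R homogeneous ideals with J ≠ 0,
height I = height J + 1 = h + 1 and R/J Cohen–Macaulay; let f ∈ R be homogeneous of degree d with J
: f = J, and put Ĩ = J + fI (the basic double link). Then I is unmixed, meaning that every
associated prime of R/I has height h + 1, if and only if Ĩ is unmixed in the same sense. -/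
theorem result (K : Type u) [Field K] (n h : ℕ)
    (J I : Ideal (MvPolynomial (Fin (n + 1)) K))
    (hJ : J.IsHomogeneous (GrSyz.stdGr K (Fin (n + 1)))) (hI : I.IsHomogeneous (GrSyz.stdGr K (Fin (n + 1))))
    (hJ0 : J ≠ ⊥) (hJI : J ≤ I) (hJh : J.height = h) (hIh : I.height = h + 1)
    [LocCoh.IsCohenMacaulayRing (MvPolynomial (Fin (n + 1)) K ⧸ J)]
    (f : MvPolynomial (Fin (n + 1)) K) (d : ℕ) (hf : f ∈ GrSyz.stdGr K (Fin (n + 1)) (d : ℤ)) (hJf : J.colon {f} = J) :
    (∀ p ∈ associatedPrimes (MvPolynomial (Fin (n + 1)) K) (MvPolynomial (Fin (n + 1)) K ⧸ I), p.height = h + 1) ↔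
      ∀ p ∈ associatedPrimes (MvPolynomial (Fin (n + 1)) K) (MvPolynomial (Fin (n + 1)) K ⧸ (J ⊔ Ideal.span {f} * I)), p.height = h + 1 := by
  obtain ⟨h1, h2⟩ := Groth.Agent.Lib.Helper24.BDL.associatedPrimes_bdl J I f hJI hJf
  constructor
  · intro hI' p hp
    rcases h2 hp with hp' | hp'
    · exact hI' p hp'
    · exact Groth.Agent.Lib.Helper24.GrUnmixed.height_eq_of_mem_associatedPrimes_sup K n h J hJ hJh
        f hJf p hp'
  · intro hI' p hp
    exact hI' p (h1 hp)

end Groth.Agent.S18871
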