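import Groth.Statements.S18876
import Groth.Agent.Lib.Helper14.QuotStCalc2
import Mathlib

set_option autoImplicit false
universe u
open Gerb

namespace Groth.Agent.S18876

section
open CategoryTheory AlgebraicGeometry Opposite Groth.Agent.Lib.Helper14.QuotStCalc

def geomTop : GrothendieckTopology Scheme.{u} where
  sieves X := {R | ∀ (Ω : Type u) [Field Ω] [IsAlgClosed Ω] (x : Spec (CommRingCat.of Ω) ⟶ X), R x}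
  top_mem' X := fun _ _ _ _ => trivial
  pullback_stable' X Y R f hR := fun Ω _ _ y => hR Ω (y ≫ f)
  transitive' X R hR R' h := fun Ω _ _ x => by
    have h1 := h (hR Ω x) Ω (𝟙 _)
    have h2 : R' (𝟙 _ ≫ x) := h1
    rwa [Category.id_comp] at h2

theorem fppf_le_geomTop : Scheme.fppfPrecoverage.toGrothendieck ≤ geomTop.{u} := by
  rw [Precoverage.toGrothendieck_le_iff_le_toPrecoverage]
  intro X R hR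
  rw [GrothendieckTopology.mem_toPrecoverage_iff]
  intro Ω _ _ x
  have hR' : R ∈ Scheme.precoverage (@Flat ⊓ @LocallyOfFinitePresentation) _ := hR
  obtain ⟨T', g, hg, x', hx'⟩ := Scheme.JointlySurjective.exists_eq R hR'
    (x (IsLocalRing.closedPoint Ω : Spec (CommRingCat.of Ω)))
  have hP : (@Flat ⊓ @LocallyOfFinitePresentation : MorphismProperty Scheme.{u}) g := hR'.2 hg
  have h1 : LocallyOfFinitePresentation g := hP.2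
  obtain ⟨z, -, -⟩ := Scheme.Pullback.exists_preimage_pullback (f := g) (g := x) x'
    (IsLocalRing.closedPoint Ω : Spec (CommRingCat.of Ω)) hx'
  have h2 : Nonempty ↑(Limits.pullback g x) := ⟨z⟩
  obtain ⟨σ, hσ⟩ := exists_point_of_nonempty (Limits.pullback.snd g x)
  refine ⟨T', σ ≫ Limits.pullback.fst g x, g, hg, ?_⟩
  rw [Category.assoc, Limits.pullback.condition, ← Category.assoc, hσ, Category.id_comp]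

theorem id_mem_of_geom {S : Scheme.{u}} {Ω : Type u} [Field Ω] [IsAlgClosed Ω]
    (t : Spec (CommRingCat.of Ω) ⟶ S) (T' : Over S) (hT : T' = Over.mk t)
    (R : Sieve T') (hR : R ∈ (QuotSh.J Scheme.fppfPrecoverage S) T') : R (𝟙 T') := by
  subst hT
  have h1 : Sieve.overEquiv (Over.mk t) R ∈ Scheme.fppfPrecoverage.toGrothendieck _ :=
    (GrothendieckTopology.mem_over_iff _ _).1 hR
  have h2 := fppf_le_geomTop _ h1 Ω (𝟙 _)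
  rw [Sieve.overEquiv_iff] at h2
  have h3 : (𝟙 (Over.mk t) : Over.mk t ⟶ Over.mk t) =
      (Over.homMk (𝟙 _) (by simp) : Over.mk t ⟶ Over.mk (𝟙 _ ≫ (Over.mk t).hom)) ≫
        (Over.homMk (𝟙 _) : Over.mk (𝟙 _ ≫ (Over.mk t).hom) ⟶ Over.mk t) := by
    ext
    simp
  rw [h3]
  exact R.downward_closed h2 _

variable {S : Scheme.{u}}

theorem comp_assoc' {𝒳 𝒴 𝒵 𝒲 : AlgSt.Cat S} (F : 𝒳 ⥤ᵇ 𝒴) (G : 𝒴 ⥤ᵇ 𝒵) (H : 𝒵 ⥤ᵇ 𝒲) :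
    BasedFunctor.comp (BasedFunctor.comp F G) H = BasedFunctor.comp F (BasedFunctor.comp G H) := rfl

theorem fibSec_eq {𝒳 : AlgSt.Cat S} {M : AlgSp.Sp S} (π : 𝒳 ⥤ᵇ AlgSt.ofSp M) {T : Over S}
    (x : 𝒳.p.Fiber T) :
    AlgSt.fibSec π x = M.obj.map (eqToHom x.2.symm).op (secAt π x.1) := by
  unfold AlgSt.fibSec secAt
  rw [← Functor.map_comp_apply, ← op_comp, eqToHom_trans]
  rfl

theorem fibSec_comp {𝒳 𝒴 : AlgSt.Cat S} {M : AlgSp.Sp S} (F : 𝒳 ⥤ᵇ 𝒴) (π : 𝒴 ⥤ᵇ AlgSt.ofSp M)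
    {T : Over S} (x : 𝒳.p.Fiber T) :
    AlgSt.fibSec (BasedFunctor.comp F π) x =
      AlgSt.fibSec π (⟨F.obj x.1, (F.w_obj x.1).trans x.2⟩ : 𝒴.p.Fiber T) := rfl

theorem fibSec_eq_of_hom {𝒴 : AlgSt.Cat S} {M : AlgSp.Sp S} (π : 𝒴 ⥤ᵇ AlgSt.ofSp M) {T : Over S}
    (a b : 𝒴.p.Fiber T) (g : a.1 ⟶ b.1) (hg : 𝒴.p.IsHomLift (𝟙 T) g) :
    AlgSt.fibSec π a = AlgSt.fibSec π b := by
  rw [fibSec_eq, fibSec_eq, ← secAt_map π g, ← Functor.map_comp_apply, ← op_comp]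
  have h := IsHomLift.fac' 𝒴.p (𝟙 T) g
  congr 3
  rw [h]
  simp

theorem fiber_iso_of_hom {𝒳 : AlgSt.Cat S} (hg : FibCat.IsFibGrpd 𝒳.p) {T : Over S}
    (a b : 𝒳.p.Fiber T) (φ : a.1 ⟶ b.1) (hφ : 𝒳.p.IsHomLift (𝟙 T) φ) : Nonempty (a ≅ b) := by
  have hc : 𝒳.p.IsStronglyCartesian (𝒳.p.map φ) φ := FibCat.IsFibGrpd.isStronglyCartesian φ
  have hi : IsIso (𝒳.p.map φ) := by
    rw [IsHomLift.fac' 𝒳.p (𝟙 T) φ]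
    infer_instance
  have hiφ : IsIso φ := Functor.IsStronglyCartesian.isIso_of_base_isIso 𝒳.p (𝒳.p.map φ) φ
  have hl' : 𝒳.p.IsHomLift (𝟙 T) (inv φ) :=
    @IsHomLift.lift_id_inv_isIso _ _ _ _ 𝒳.p T a.1 b.1 φ hiφ hφ
  exact ⟨{ hom := ⟨φ, hφ⟩
           inv := ⟨inv φ, hl'⟩
           hom_inv_id := Subtype.ext (IsIso.hom_inv_id φ)
           inv_hom_id := Subtype.ext (IsIso.inv_hom_id φ) }⟩

theorem lift_obj {𝒳 𝒴 : AlgSt.Cat S} (F : 𝒳 ⥤ᵇ 𝒴)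
    (hF : Gerb.LocSurjObj (QuotSh.J Scheme.fppfPrecoverage S) F)
    {Ω : Type u} [Field Ω] [IsAlgClosed Ω] (t : Spec (CommRingCat.of Ω) ⟶ S)
    (T : Over S) (hT : T = Over.mk t) (y : 𝒴.p.Fiber T) :
    ∃ (x : 𝒳.p.Fiber T) (g : F.obj x.1 ⟶ y.1), 𝒴.p.IsHomLift (𝟙 T) g := by
  obtain ⟨y1, hy⟩ := y
  subst hy
  obtain ⟨R, hR, h⟩ := hF y1
  have hid := id_mem_of_geom t (𝒴.p.obj y1) hT R hR
  obtain ⟨x, g, hg⟩ := h (𝟙 _) hid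
  have hd : 𝒴.p.obj (F.obj x) = 𝒴.p.obj y1 := IsHomLift.domain_eq 𝒴.p (𝟙 (𝒴.p.obj y1)) g
  exact ⟨⟨x, (F.w_obj x).symm.trans hd⟩, g, hg⟩

theorem lift_iso {𝒳 𝒴 : AlgSt.Cat S} (F : 𝒳 ⥤ᵇ 𝒴) (hg : FibCat.IsFibGrpd 𝒳.p)
    (hF : Gerb.LocSurjHom (QuotSh.J Scheme.fppfPrecoverage S) F)
    {Ω : Type u} [Field Ω] [IsAlgClosed Ω] (t : Spec (CommRingCat.of Ω) ⟶ S)
    (T : Over S) (hT : T = Over.mk t) (x x' : 𝒳.p.Fiber T)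
    (b : F.obj x.1 ⟶ F.obj x'.1) (hb : 𝒴.p.IsHomLift (𝟙 T) b) : Nonempty (x ≅ x') := by
  obtain ⟨x1, hx⟩ := x
  subst hx
  obtain ⟨R, hR, h⟩ := hF x1 x'.1 b hb
  have hid := id_mem_of_geom t (𝒳.p.obj x1) hT R hR
  obtain ⟨x₀, φ, ψ, hφ, hψ, -⟩ := h (𝟙 _) hid
  have hd : 𝒳.p.obj x₀ = 𝒳.p.obj x1 := IsHomLift.domain_eq 𝒳.p (𝟙 (𝒳.p.obj x1)) φ
  let x0 : 𝒳.p.Fiber (𝒳.p.obj x1) := ⟨x₀, hd⟩
  obtain ⟨e1⟩ := fiber_iso_of_hom hg x0 ⟨x1, rfl⟩ φ hφ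
  obtain ⟨e2⟩ := fiber_iso_of_hom hg x0 x' ψ hψ
  exact ⟨e1.symm ≪≫ e2⟩

theorem huniv_eq {𝒳 𝒴 : AlgSt.Cat S} (F : 𝒳 ⥤ᵇ 𝒴)
    (huniv : ∀ (N : AlgSp.Sp S), AlgSp.IsAlgSpace N → ∀ φ : 𝒳 ⥤ᵇ AlgSt.ofSp N,
      ∃ ψ : 𝒴 ⥤ᵇ AlgSt.ofSp N, Nonempty (BasedFunctor.comp F ψ ≅ φ) ∧
        ∀ ψ' : 𝒴 ⥤ᵇ AlgSt.ofSp N, Nonempty (BasedFunctor.comp F ψ' ≅ φ) → Nonempty (ψ' ≅ ψ))
    (N : AlgSp.Sp S) (hN : AlgSp.IsAlgSpace N) (φ : 𝒳 ⥤ᵇ AlgSt.ofSp N) :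
    ∃ ψ : 𝒴 ⥤ᵇ AlgSt.ofSp N, BasedFunctor.comp F ψ = φ ∧
      ∀ ψ' : 𝒴 ⥤ᵇ AlgSt.ofSp N, BasedFunctor.comp F ψ' = φ → ψ' = ψ := by
  obtain ⟨ψ, h1, h2⟩ := huniv N hN φ
  refine ⟨ψ, eq_of_nonempty_iso _ _ h1, fun ψ' h => eq_of_nonempty_iso _ _ (h2 ψ' ?_)⟩
  rw [h]
  exact ⟨Iso.refl _⟩

theorem cat_down {𝒳 𝒴 : AlgSt.Cat S} (F : 𝒳 ⥤ᵇ 𝒴)
    (huniv : ∀ (N : AlgSp.Sp S), AlgSp.IsAlgSpace N → ∀ φ : 𝒳 ⥤ᵇ AlgSt.ofSp N,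
      ∃ ψ : 𝒴 ⥤ᵇ AlgSt.ofSp N, BasedFunctor.comp F ψ = φ ∧
        ∀ ψ' : 𝒴 ⥤ᵇ AlgSt.ofSp N, BasedFunctor.comp F ψ' = φ → ψ' = ψ)
    {M : AlgSp.Sp S} (π : 𝒴 ⥤ᵇ AlgSt.ofSp M)
    (hπ : AlgSt.IsCatModuliIn (AlgSp.IsAlgSpace (S := S)) π) :
    AlgSt.IsCatModuliIn (AlgSp.IsAlgSpace (S := S)) (BasedFunctor.comp F π) := by
  refine ⟨hπ.1, fun N hN φ => ?_⟩
  obtain ⟨ψ, hψ, huq⟩ := huniv N hN φ
  obtain ⟨g, hg, hgu⟩ := hπ.2 N hN ψ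
  have hg' : BasedFunctor.comp π (AlgSt.ofSpMap g) = ψ := eq_of_nonempty_iso _ _ hg
  refine ⟨g, ?_, ?_⟩
  · change Nonempty (BasedFunctor.comp (BasedFunctor.comp F π) (AlgSt.ofSpMap g) ≅ φ)
    rw [comp_assoc', hg', hψ]
    exact ⟨Iso.refl _⟩
  · intro g' hg2
    apply hgu
    have h1 : BasedFunctor.comp (BasedFunctor.comp F π) (AlgSt.ofSpMap g') = φ :=
      eq_of_nonempty_iso _ _ hg2
    have h2 : BasedFunctor.comp π (AlgSt.ofSpMap g') = ψ := huq _ (by rw [← comp_assoc']; exact h1)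
    change Nonempty (BasedFunctor.comp π (AlgSt.ofSpMap g') ≅ ψ)
    rw [h2]
    exact ⟨Iso.refl _⟩

theorem cat_up {𝒳 𝒴 : AlgSt.Cat S} (F : 𝒳 ⥤ᵇ 𝒴)
    (huniv : ∀ (N : AlgSp.Sp S), AlgSp.IsAlgSpace N → ∀ φ : 𝒳 ⥤ᵇ AlgSt.ofSp N,
      ∃ ψ : 𝒴 ⥤ᵇ AlgSt.ofSp N, BasedFunctor.comp F ψ = φ ∧
        ∀ ψ' : 𝒴 ⥤ᵇ AlgSt.ofSp N, BasedFunctor.comp F ψ' = φ → ψ' = ψ)
    {M : AlgSp.Sp S} (π' : 𝒳 ⥤ᵇ AlgSt.ofSp M) (ψ : 𝒴 ⥤ᵇ AlgSt.ofSp M)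
    (hFψ : BasedFunctor.comp F ψ = π')
    (hπ' : AlgSt.IsCatModuliIn (AlgSp.IsAlgSpace (S := S)) π') :
    AlgSt.IsCatModuliIn (AlgSp.IsAlgSpace (S := S)) ψ := by
  refine ⟨hπ'.1, fun N hN φ => ?_⟩
  obtain ⟨g, hg, hgu⟩ := hπ'.2 N hN (BasedFunctor.comp F φ)
  have hg' : BasedFunctor.comp π' (AlgSt.ofSpMap g) = BasedFunctor.comp F φ :=
    eq_of_nonempty_iso _ _ hg
  obtain ⟨ψ₀, hψ₀, huq⟩ := huniv N hN (BasedFunctor.comp F φ)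
  have e1 : BasedFunctor.comp ψ (AlgSt.ofSpMap g) = ψ₀ :=
    huq _ (by rw [← comp_assoc', hFψ, hg'])
  have e2 : φ = ψ₀ := huq _ rfl
  refine ⟨g, ?_, ?_⟩
  · change Nonempty (BasedFunctor.comp ψ (AlgSt.ofSpMap g) ≅ φ)
    rw [e1, ← e2]
    exact ⟨Iso.refl _⟩
  · intro g' hg2
    apply hgu
    have h1 : BasedFunctor.comp ψ (AlgSt.ofSpMap g') = φ := eq_of_nonempty_iso _ _ hg2
    change Nonempty (BasedFunctor.comp π' (AlgSt.ofSpMap g') ≅ BasedFunctor.comp F φ)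
    rw [← hFψ, comp_assoc', h1]
    exact ⟨Iso.refl _⟩

theorem geom_down {𝒳 𝒴 : AlgSt.Cat S} (F : 𝒳 ⥤ᵇ 𝒴) (hg : FibCat.IsFibGrpd 𝒳.p)
    (hF : Gerb.IsGerbeOver (QuotSh.J Scheme.fppfPrecoverage S) F)
    {M : AlgSp.Sp S} (π : 𝒴 ⥤ᵇ AlgSt.ofSp M) (hπ : AlgSt.GeomPtBij π) :
    AlgSt.GeomPtBij (BasedFunctor.comp F π) := by
  intro Ω _ _ t
  obtain ⟨h1, h2⟩ := hπ Ω t
  constructor
  · intro m
    obtain ⟨y, hy⟩ := h1 m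
    obtain ⟨x, g, hgl⟩ := lift_obj F hF.1 t (Over.mk t) rfl y
    refine ⟨x, ?_⟩
    rw [fibSec_comp, fibSec_eq_of_hom π _ y g hgl, hy]
  · intro x x' h
    rw [fibSec_comp, fibSec_comp] at h
    obtain ⟨e⟩ := h2 _ _ h
    exact lift_iso F hg hF.2 t (Over.mk t) rfl x x' e.hom.1 e.hom.2

theorem geom_up {𝒳 𝒴 : AlgSt.Cat S} (F : 𝒳 ⥤ᵇ 𝒴) (hg : FibCat.IsFibGrpd 𝒴.p)
    (hF : Gerb.IsGerbeOver (QuotSh.J Scheme.fppfPrecoverage S) F)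
    {M : AlgSp.Sp S} (π' : 𝒳 ⥤ᵇ AlgSt.ofSp M) (ψ : 𝒴 ⥤ᵇ AlgSt.ofSp M)
    (hFψ : BasedFunctor.comp F ψ = π') (hπ' : AlgSt.GeomPtBij π') :
    AlgSt.GeomPtBij ψ := by
  subst hFψ
  intro Ω _ _ t
  obtain ⟨h1, h2⟩ := hπ' Ω t
  constructor
  · intro m
    obtain ⟨x, hx⟩ := h1 m
    exact ⟨⟨F.obj x.1, (F.w_obj x.1).trans x.2⟩, hx⟩
  · intro y y' h
    obtain ⟨x, g, hgl⟩ := lift_obj F hF.1 t (Over.mk t) rfl y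
    obtain ⟨x', g', hgl'⟩ := lift_obj F hF.1 t (Over.mk t) rfl y'
    have h3 : AlgSt.fibSec (BasedFunctor.comp F ψ) x = AlgSt.fibSec (BasedFunctor.comp F ψ) x' := by
      rw [fibSec_comp, fibSec_comp,
        fibSec_eq_of_hom ψ (⟨F.obj x.1, (F.w_obj x.1).trans x.2⟩ : 𝒴.p.Fiber _) y g hgl,
        fibSec_eq_of_hom ψ (⟨F.obj x'.1, (F.w_obj x'.1).trans x'.2⟩ : 𝒴.p.Fiber _) y' g' hgl', h]
    obtain ⟨e⟩ := h2 x x' h3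
    have hl : 𝒳.p.IsHomLift (𝟙 (Over.mk t)) e.hom.1 := e.hom.2
    have hl2 : 𝒴.p.IsHomLift (𝟙 (Over.mk t)) (F.map e.hom.1) :=
      BasedFunctor.preserves_isHomLift F (𝟙 (Over.mk t)) e.hom.1
    obtain ⟨i1⟩ := fiber_iso_of_hom hg (⟨F.obj x.1, (F.w_obj x.1).trans x.2⟩ : 𝒴.p.Fiber _) y g hgl
    obtain ⟨i2⟩ := fiber_iso_of_hom hg (⟨F.obj x'.1, (F.w_obj x'.1).trans x'.2⟩ : 𝒴.p.Fiber _) y' g' hgl'
    obtain ⟨i3⟩ := fiber_iso_of_hom hg (⟨F.obj x.1, (F.w_obj x.1).trans x.2⟩ : 𝒴.p.Fiber _)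
      (⟨F.obj x'.1, (F.w_obj x'.1).trans x'.2⟩ : 𝒴.p.Fiber _) (F.map e.hom.1) hl2
    exact ⟨i1.symm ≪≫ i3 ≪≫ i2⟩

theorem main (S : Scheme.{u}) (𝒳 𝒴 : AlgSt.Cat S)
    (h𝒳 : AlgSt.IsAlgStack Scheme.fppfPrecoverage 𝒳) (h𝒴 : AlgSt.IsAlgStack Scheme.fppfPrecoverage 𝒴)
    (F : 𝒳 ⥤ᵇ 𝒴) (hF : Gerb.IsGerbeOver (QuotSh.J Scheme.fppfPrecoverage S) F)
    (huniv : ∀ (N : AlgSp.Sp S), AlgSp.IsAlgSpace N → ∀ φ : 𝒳 ⥤ᵇ AlgSt.ofSp N,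
      ∃ ψ : 𝒴 ⥤ᵇ AlgSt.ofSp N, Nonempty (BasedFunctor.comp F ψ ≅ φ) ∧
        ∀ ψ' : 𝒴 ⥤ᵇ AlgSt.ofSp N, Nonempty (BasedFunctor.comp F ψ' ≅ φ) → Nonempty (ψ' ≅ ψ)) :
    ((∃ (M : AlgSp.Sp S) (π : 𝒴 ⥤ᵇ AlgSt.ofSp M), AlgSt.IsCoarseModuli π) ↔
        ∃ (M : AlgSp.Sp S) (π : 𝒳 ⥤ᵇ AlgSt.ofSp M), AlgSt.IsCoarseModuli π) ∧
      ∀ (M : AlgSp.Sp S) (π : 𝒴 ⥤ᵇ AlgSt.ofSp M), AlgSt.IsCoarseModuli π →
        AlgSt.IsCoarseModuli (BasedFunctor.comp F π) := by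
  have hu := huniv_eq F huniv
  have key : ∀ (M : AlgSp.Sp S) (π : 𝒴 ⥤ᵇ AlgSt.ofSp M), AlgSt.IsCoarseModuli π →
      AlgSt.IsCoarseModuli (BasedFunctor.comp F π) := fun M π hπ =>
    ⟨cat_down F hu π hπ.1, geom_down F h𝒳.isStack.1 hF π hπ.2⟩
  refine ⟨⟨fun ⟨M, π, hπ⟩ => ⟨M, _, key M π hπ⟩, fun ⟨M, π', hπ'⟩ => ?_⟩, key⟩
  obtain ⟨ψ, hψ, -⟩ := hu M hπ'.1.1 π'
  exact ⟨M, ψ, cat_up F hu π' ψ hψ hπ'.1, geom_up F h𝒴.isStack.1 hF π' ψ hψ hπ'.2⟩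

end

open CategoryTheory AlgebraicGeometry in

open CategoryTheory AlgebraicGeometry in
/-- Let S be a scheme and F : 𝒳 → 𝒴 a morphism of algebraic stacks over S which makes 𝒳 an fppf gerbe
over 𝒴 and through which every morphism from 𝒳 to an algebraic space factors, uniquely up to
2-isomorphism. Then 𝒴 admits a coarse moduli space exactly when 𝒳 does, and the two coarse moduli
spaces coincide: for every coarse moduli map π : 𝒴 → M the composite 𝒳 → 𝒴 → M is a coarse moduli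
map of 𝒳. (The published statement is about the rigidification F of 𝒳 along a flat finitely
presented subgroup stack of its inertia; only two of its properties are assumed here, that F is a
gerbe and that maps to algebraic spaces factor through F, which is what the published argument uses;
neither stack is assumed quasi-separated or locally of finite presentation over S, and their
diagonals are not assumed quasi-compact or separated.) -/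
theorem result (S : Scheme.{u}) (𝒳 𝒴 : AlgSt.Cat S)
    (h𝒳 : AlgSt.IsAlgStack Scheme.fppfPrecoverage 𝒳) (h𝒴 : AlgSt.IsAlgStack Scheme.fppfPrecoverage 𝒴)
    (F : 𝒳 ⥤ᵇ 𝒴) (hF : Gerb.IsGerbeOver (QuotSh.J Scheme.fppfPrecoverage S) F)
    (huniv : ∀ (N : AlgSp.Sp S), AlgSp.IsAlgSpace N → ∀ φ : 𝒳 ⥤ᵇ AlgSt.ofSp N,
      ∃ ψ : 𝒴 ⥤ᵇ AlgSt.ofSp N, Nonempty (BasedFunctor.comp F ψ ≅ φ) ∧
        ∀ ψ' : 𝒴 ⥤ᵇ AlgSt.ofSp N, Nonempty (BasedFunctor.comp F ψ' ≅ φ) → Nonempty (ψ' ≅ ψ)) :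
    ((∃ (M : AlgSp.Sp S) (π : 𝒴 ⥤ᵇ AlgSt.ofSp M), AlgSt.IsCoarseModuli π) ↔
        ∃ (M : AlgSp.Sp S) (π : 𝒳 ⥤ᵇ AlgSt.ofSp M), AlgSt.IsCoarseModuli π) ∧
      ∀ (M : AlgSp.Sp S) (π : 𝒴 ⥤ᵇ AlgSt.ofSp M), AlgSt.IsCoarseModuli π →
        AlgSt.IsCoarseModuli (BasedFunctor.comp F π) := by
  exact Groth.Agent.S18876.main S 𝒳 𝒴 h𝒳 h𝒴 F hF huniv

end Groth.Agent.S18876
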