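import Groth.Statements.S18879
import Groth.Agent.Lib.Helper73.DimFormula.Birational

set_option autoImplicit false
universe u
open CategoryTheory AlgebraicGeometry
open Resolve

namespace Groth.Agent.S18879

/-- Let f : Y ⟶ X be a morphism locally of finite type between Noetherian separated schemes which is
birational: it maps the maximal points of Y bijectively onto the maximal points of X, and over every
maximal point of X its fibre is one point with the same residue field. Then for every point y of Y,
the Krull dimension of the local ring of Y at y is at most the Krull dimension of the local ring of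
X at f y (the codimension of a point does not increase along f). -/
theorem result {X Y : Scheme.{u}} (f : Y ⟶ X)
    [IsNoetherian X] [X.IsSeparated] [IsNoetherian Y] [Y.IsSeparated] [LocallyOfFiniteType f]
    (hf : RadPt.IsBirational f) (y : Y) :
    ringKrullDim (Y.presheaf.stalk y) ≤ ringKrullDim (X.presheaf.stalk (f.base y)) := by
  open Groth.Agent.Lib.Helper73 in
  obtain ⟨η, hηy, hηmax, hcodim⟩ := exists_maximal_codim_eq_stalk y
  have hηgen : η ∈ genericPoints Y :=
    closure_singleton_mem_irreducibleComponents_of_maximal η hηmax
  have hfη : f η ∈ genericPoints X := hf.1.mapsTo hηgen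
  have h0 : resTrdeg f η = 0 :=
    resTrdeg_eq_zero_of_bijective f η ((hf.2 (f η) hfη).2 η rfl)
  obtain ⟨a, b, ha, hb, hab⟩ := codim_add_resTrdeg_le f η y hηy
  rw [h0, add_zero] at hab
  have hab' : (a : Cardinal.{u}) ≤ b := le_trans (le_add_right le_rfl) hab
  have hab'' : a ≤ b := by exact_mod_cast hab'
  rw [← hcodim, ha]
  refine le_trans ?_ (codim_le_ringKrullDim_stalk (f η) (f y))
  rw [hb]
  exact_mod_cast hab''

end Groth.Agent.S18879
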