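import Groth.Statements.S1888
import Groth.Agent.S1886
import Mathlib.AlgebraicGeometry.ResidueField

set_option autoImplicit false
universe u
open CategoryTheory CategoryTheory.Limits AlgebraicGeometry
open Grpd

namespace Groth.Agent.S1888

section

open CategoryTheory CategoryTheory.Limits AlgebraicGeometry Groth.Agent.S1886

theorem isIso_fromSpecResidueField_Spec (k : Type u) [Field k] (x : Spec (CommRingCat.of k)) :
    IsIso ((Spec (CommRingCat.of k)).fromSpecResidueField x) := by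
  rw [← Scheme.Spec.map_residueFieldIso_inv_eq_fromSpecResidueField]
  have : IsIso (CommRingCat.ofHom (algebraMap k x.asIdeal.ResidueField)) :=
    (Ideal.algEquivResidueFieldOfField x.asIdeal).toRingEquiv.toCommRingCatIso.isIso_hom
  infer_instance

theorem isIso_fromSpecResidueField {U : Scheme.{u}} (k : Type u) [Field k]
    (eU : U ≅ Spec (CommRingCat.of k)) (x : U) : IsIso (U.fromSpecResidueField x) := by
  have h := Scheme.Hom.SpecMap_residueFieldMap_fromSpecResidueField (f := eU.hom) x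
  have := isIso_fromSpecResidueField_Spec k (eU.hom x)
  have e : U.fromSpecResidueField x = (Spec.map (eU.hom.residueFieldMap x) ≫
      (Spec (CommRingCat.of k)).fromSpecResidueField (eU.hom x)) ≫ eU.inv := by
    rw [h, Category.assoc, Iso.hom_inv_id, Category.comp_id]
  rw [e]
  infer_instance

variable {S : Scheme.{u}} (G : Grpd.GroupoidScheme S)

theorem comp_one_eq {T : Scheme.{u}} (x : T ⟶ G.R) (a : T ⟶ G.R) (ha : a = x ≫ G.t ≫ G.e) :
    comp G a x (by rw [ha, Category.assoc, Category.assoc, G.e_s, Category.comp_id]) = x := by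
  subst ha
  exact G.e_comp x

theorem autom (ρ : G.U ⟶ G.R) (θ : G.U ⟶ G.U) [IsIso θ] (hρs : ρ ≫ G.s = 𝟙 _)
    (hρt : ρ ≫ G.t = θ) : ∃ φ : G.R ≅ G.R, G.e ≫ φ.hom = ρ := by
  have hL : (G.t ≫ ρ) ≫ G.s = 𝟙 G.R ≫ G.t := by
    rw [Category.assoc, hρs, Category.comp_id, Category.id_comp]
  have hβt : (G.t ≫ inv θ ≫ ρ) ≫ G.t = G.t := by
    rw [Category.assoc, Category.assoc, hρt, IsIso.inv_hom_id, Category.comp_id]
  have hβs : (G.t ≫ inv θ ≫ ρ) ≫ G.s = G.t ≫ inv θ := by
    rw [Category.assoc, Category.assoc, hρs, Category.comp_id]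
  have hL' : ((G.t ≫ inv θ ≫ ρ) ≫ G.i) ≫ G.s = 𝟙 G.R ≫ G.t := by
    rw [Category.assoc, G.i_s, hβt, Category.id_comp]
  let L : G.R ⟶ G.R := comp G (G.t ≫ ρ) (𝟙 G.R) hL
  let L' : G.R ⟶ G.R := comp G ((G.t ≫ inv θ ≫ ρ) ≫ G.i) (𝟙 G.R) hL'
  have hLt : L ≫ G.t = G.t ≫ θ := by
    show comp G (G.t ≫ ρ) (𝟙 G.R) hL ≫ G.t = _
    unfold comp
    rw [G.comp_t, Category.assoc, hρt]
  have hL't : L' ≫ G.t = G.t ≫ inv θ := by
    show comp G ((G.t ≫ inv θ ≫ ρ) ≫ G.i) (𝟙 G.R) hL' ≫ G.t = _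
    unfold comp
    rw [G.comp_t, Category.assoc, G.i_t, hβs]
  have h1 : L ≫ L' = 𝟙 _ := by
    have hα : (G.t ≫ ρ) ≫ G.s = ((G.t ≫ ρ) ≫ G.i) ≫ G.t := by rw [Category.assoc _ G.i, G.i_t]
    have hα' : ((G.t ≫ ρ) ≫ G.i) ≫ G.s = (G.t ≫ ρ) ≫ G.t := by rw [Category.assoc _ G.i, G.i_s]
    calc L ≫ L' = _ := precomp_comp G L _ _ hL'
      _ = comp G ((G.t ≫ ρ) ≫ G.i) (comp G (G.t ≫ ρ) (𝟙 G.R) hL)
          (hα'.trans (G.comp_t (G.t ≫ ρ) (𝟙 G.R) hL).symm) := by
        apply comp_congr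
        · rw [← Category.assoc, ← Category.assoc, ← Category.assoc, hLt]
          simp only [Category.assoc, IsIso.hom_inv_id_assoc]
        · exact Category.comp_id _
      _ = comp G (comp G ((G.t ≫ ρ) ≫ G.i) (G.t ≫ ρ) hα') (𝟙 G.R)
          ((G.comp_s _ _ hα').trans hL) := (G.assoc _ _ _ hα' hL).symm
      _ = 𝟙 _ := by
        apply comp_one_eq
        rw [Category.id_comp]
        exact (G.i_comp (G.t ≫ ρ)).trans (by rw [Category.assoc, reassoc_of% hρs])
  have h2 : L' ≫ L = 𝟙 _ := by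
    have hβ : (G.t ≫ inv θ ≫ ρ) ≫ G.s = ((G.t ≫ inv θ ≫ ρ) ≫ G.i) ≫ G.t := by
      rw [Category.assoc _ G.i, G.i_t]
    calc L' ≫ L = _ := precomp_comp G L' _ _ hL
      _ = comp G (G.t ≫ inv θ ≫ ρ) (comp G ((G.t ≫ inv θ ≫ ρ) ≫ G.i) (𝟙 G.R) hL')
          (hβ.trans (G.comp_t _ (𝟙 G.R) hL').symm) := by
        apply comp_congr
        · rw [← Category.assoc, hL't, Category.assoc]
        · exact Category.comp_id _
      _ = comp G (comp G (G.t ≫ inv θ ≫ ρ) ((G.t ≫ inv θ ≫ ρ) ≫ G.i) hβ) (𝟙 G.R)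
          ((G.comp_s _ _ hβ).trans hL') := (G.assoc _ _ _ hβ hL').symm
      _ = 𝟙 _ := by
        apply comp_one_eq
        rw [Category.id_comp]
        exact (G.comp_i (G.t ≫ inv θ ≫ ρ)).trans (by rw [← Category.assoc, hβt])
  refine ⟨⟨L, L', h1, h2⟩, ?_⟩
  show G.e ≫ comp G (G.t ≫ ρ) (𝟙 G.R) hL = ρ
  rw [precomp_comp]
  have := G.comp_e ρ
  refine Eq.trans ?_ this
  apply comp_congr
  · rw [reassoc_of% G.e_t]
  · rw [Category.comp_id, reassoc_of% hρs]

end

/-- Let (U, R, s, t, c) be a groupoid scheme over S with U the spectrum of a field k, and r a point of R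
such that both s and t induce isomorphisms from k to κ(r). Then there is an automorphism of the
scheme R carrying the identity point e to r. (The source's automorphism is x ↦ c(r, x); only the
existence of an automorphism moving e to r is stated here.) (A groupoid scheme carries U, R, s, t,
c, e, i over S with the groupoid axioms on T-points; 'finite locally free' is finite, flat and
locally of finite presentation; C ⊂ Γ(U) is the ring of functions a with s♯(a) = t♯(a) and M = Spec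
C.) -/
theorem result (S : Scheme.{u}) (G : Grpd.GroupoidScheme S) (k : Type u) [Field k] (eU : G.U ≅ Spec (CommRingCat.of k)) (r : G.R) (hs : IsIso (G.s.residueFieldMap r)) (ht : IsIso (G.t.residueFieldMap r)) : ∃ φ : G.R ≅ G.R, φ.hom (G.e (eU.inv (IsLocalRing.closedPoint k))) = r := by
  have e1 : G.R.fromSpecResidueField r ≫ G.s =
      Spec.map (G.s.residueFieldMap r) ≫ G.U.fromSpecResidueField (G.s r) :=
    (Scheme.Hom.SpecMap_residueFieldMap_fromSpecResidueField (f := G.s) r).symm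
  have e2 : G.R.fromSpecResidueField r ≫ G.t =
      Spec.map (G.t.residueFieldMap r) ≫ G.U.fromSpecResidueField (G.t r) :=
    (Scheme.Hom.SpecMap_residueFieldMap_fromSpecResidueField (f := G.t) r).symm
  have := isIso_fromSpecResidueField k eU (G.s r)
  have := isIso_fromSpecResidueField k eU (G.t r)
  have i1 : IsIso (G.R.fromSpecResidueField r ≫ G.s) := by
    rw [e1]
    infer_instance
  have i2 : IsIso (G.R.fromSpecResidueField r ≫ G.t) := by
    rw [e2]
    infer_instance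
  have hρs : (inv (G.R.fromSpecResidueField r ≫ G.s) ≫ G.R.fromSpecResidueField r) ≫ G.s = 𝟙 _ := by
    rw [Category.assoc, IsIso.inv_hom_id]
  have i3 : IsIso ((inv (G.R.fromSpecResidueField r ≫ G.s) ≫ G.R.fromSpecResidueField r) ≫ G.t) := by
    rw [Category.assoc]
    infer_instance
  obtain ⟨φ, hφ⟩ := autom G (inv (G.R.fromSpecResidueField r ≫ G.s) ≫ G.R.fromSpecResidueField r)
    _ hρs rfl
  refine ⟨φ, ?_⟩
  rw [← Scheme.Hom.comp_apply, hφ, Scheme.Hom.comp_apply, Scheme.fromSpecResidueField_apply]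

end Groth.Agent.S1888
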