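import Groth.Statements.S18884
import Mathlib.Algebra.Group.Subgroup.Basic

set_option autoImplicit false
universe v u w
open CategoryTheory CategoryTheory.Limits
open Desc

namespace Groth.Agent.S18884

section core

variable {C : Type u} [Category.{v} C] [HasPullbacks C] (W : MorphismProperty C)
  [W.IsStableUnderBaseChange] [W.IsStableUnderComposition]
  (D : ObjectProperty C) (hD : ∀ X : C, ∃ (Y : C) (π : Y ⟶ X), W π ∧ D Y)
  (F G : C ⥤ AddCommGrpCat.{w})
  (hF : ∀ ⦃Y X : C⦄ (π : Y ⟶ X), W π → Function.Surjective (F.map π).hom ∧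
    (F.map π).hom.ker =
      ((F.map (pullback.fst π π)).hom - (F.map (pullback.snd π π)).hom).range)
  (b : ∀ Y, D Y → (F.obj Y →+ G.obj Y))
  (hb : ∀ (Y₁ Y₂ : C) (h₁ : D Y₁) (h₂ : D Y₂) (u : Y₁ ⟶ Y₂) (y : F.obj Y₁),
    b Y₂ h₂ ((F.map u).hom y) = (G.map u).hom (b Y₁ h₁ y))

omit [HasPullbacks C] in
theorem map_comp_apply' (G : C ⥤ AddCommGrpCat.{w}) {X Y Z : C} (u : X ⟶ Y) (v : Y ⟶ Z)
    (x : G.obj X) : (G.map (u ≫ v)).hom x = (G.map v).hom ((G.map u).hom x) := by
  simp

include hD hF hb in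
theorem lemA {Y X : C} (π : Y ⟶ X) (hπ : W π) (hY : D Y) (y : F.obj Y)
    (hy : (F.map π).hom y = 0) : (G.map π).hom (b Y hY y) = 0 := by
  have hker := (hF π hπ).2
  have hy' : y ∈ (F.map π).hom.ker := hy
  rw [hker] at hy'
  obtain ⟨w', hw⟩ := hy'
  obtain ⟨Z, ρ, hρ, hZ⟩ := hD (pullback π π)
  obtain ⟨z, hz⟩ := (hF ρ hρ).1 w'
  have hy2 : y = (F.map (ρ ≫ pullback.fst π π)).hom z - (F.map (ρ ≫ pullback.snd π π)).hom z := by
    rw [← hw, ← hz, map_comp_apply', map_comp_apply']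
    rfl
  rw [hy2, map_sub, map_sub, hb _ _ hZ hY, hb _ _ hZ hY, ← map_comp_apply', ← map_comp_apply',
    Category.assoc, Category.assoc, pullback.condition, sub_self]

include hD hF hb in
theorem lemA' {Y X : C} (π : Y ⟶ X) (hπ : W π) (hY : D Y) (y y' : F.obj Y)
    (hy : (F.map π).hom y = (F.map π).hom y') :
    (G.map π).hom (b Y hY y) = (G.map π).hom (b Y hY y') := by
  have := lemA W D hD F G hF b hb π hπ hY (y - y') (by rw [map_sub, hy, sub_self])
  rwa [map_sub, map_sub, sub_eq_zero] at this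

include hD hF hb in
theorem lemB {X' X Y' Y : C} (f : X' ⟶ X) (π' : Y' ⟶ X') (hπ' : W π') (hY' : D Y')
    (π : Y ⟶ X) (hπ : W π) (hY : D Y) (y' : F.obj Y') (y : F.obj Y)
    (h : (F.map f).hom ((F.map π').hom y') = (F.map π).hom y) :
    (G.map f).hom ((G.map π').hom (b Y' hY' y')) = (G.map π).hom (b Y hY y) := by
  have ha : W (pullback.fst (π' ≫ f) π) := W.pullback_fst _ _ hπ
  obtain ⟨Z, ρ, hρ, hZ⟩ := hD (pullback (π' ≫ f) π)
  have hρa : W (ρ ≫ pullback.fst (π' ≫ f) π) := W.comp_mem _ _ hρ ha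
  obtain ⟨z, hz⟩ := (hF _ hρa).1 y'
  have hcond : ρ ≫ pullback.snd (π' ≫ f) π ≫ π =
      ρ ≫ pullback.fst (π' ≫ f) π ≫ π' ≫ f := by
    rw [← pullback.condition]
  have h1 : (F.map π).hom ((F.map (ρ ≫ pullback.snd (π' ≫ f) π)).hom z) = (F.map π).hom y := by
    rw [← h, ← hz, ← map_comp_apply', ← map_comp_apply', ← map_comp_apply']
    simp only [Category.assoc]
    rw [hcond]
  have h2 := lemA' W D hD F G hF b hb π hπ hY _ _ h1
  rw [← h2, hb Z Y hZ hY, ← hz, hb Z Y' hZ hY', ← map_comp_apply', ← map_comp_apply',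
    ← map_comp_apply']
  simp only [Category.assoc]
  rw [hcond]

include hD hF hb in
theorem exists_extension :
    ∃ α : F ⟶ G, ∀ (Y : C) (hY : D Y), (α.app Y).hom = b Y hY := by
  classical
  choose Yc πc hWc hDc using hD
  have hD' : ∀ X : C, ∃ (Y : C) (π : Y ⟶ X), W π ∧ D Y :=
    fun X => ⟨Yc X, πc X, hWc X, hDc X⟩
  let a : ∀ X : C, F.obj X →+ G.obj X := fun X =>
    (F.map (πc X)).hom.liftOfRightInverse (Function.surjInv (hF (πc X) (hWc X)).1)
      (Function.rightInverse_surjInv _)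
      ⟨(G.map (πc X)).hom.comp (b (Yc X) (hDc X)), by
        intro y hy
        rw [AddMonoidHom.mem_ker] at hy ⊢
        exact lemA W D hD' F G hF b hb (πc X) (hWc X) (hDc X) y hy⟩
  have ha : ∀ (X : C) (y : F.obj (Yc X)),
      a X ((F.map (πc X)).hom y) = (G.map (πc X)).hom (b (Yc X) (hDc X) y) := by
    intro X y
    exact AddMonoidHom.liftOfRightInverse_comp_apply _ _ _ _ y
  have hnat : ∀ {X' X : C} (f : X' ⟶ X) (x' : F.obj X'),
      a X ((F.map f).hom x') = (G.map f).hom (a X' x') := by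
    intro X' X f x'
    obtain ⟨y', rfl⟩ := (hF (πc X') (hWc X')).1 x'
    obtain ⟨y, hy⟩ := (hF (πc X) (hWc X)).1 ((F.map f).hom ((F.map (πc X')).hom y'))
    rw [← hy, ha, ha]
    exact (lemB W D hD' F G hF b hb f (πc X') (hWc X') (hDc X') (πc X) (hWc X) (hDc X)
      y' y hy.symm).symm
  refine ⟨{ app := fun X => AddCommGrpCat.ofHom (a X), naturality := ?_ }, ?_⟩
  · intro X' X f
    ext x'
    exact hnat f x'
  · intro Y hY
    ext x
    obtain ⟨y, rfl⟩ := (hF (πc Y) (hWc Y)).1 x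
    show a Y _ = _
    rw [ha]
    exact (hb _ _ _ _ (πc Y) y).symm

end core

/-- Let C be a category with pullbacks equipped with a class W of morphisms, the covers, stable under
base change and under composition. An abelian cosheaf is a functor F : C ⥤ Ab such that for every
cover π : Y ⟶ X the map F(π) is surjective and its kernel is the image of F(p₁) − F(p₂), where p₁,
p₂ : Y ×_X Y ⟶ Y are the two projections. If D is a full subcategory of C such that every object of
C is the target of a cover whose source lies in D, then the restriction functor from the full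
subcategory of abelian cosheaves in C ⥤ Ab to D ⥤ Ab is full and faithful. -/
theorem result {C : Type u} [Category.{v} C]
    [HasPullbacks C] (W : MorphismProperty C) [W.IsStableUnderBaseChange] [W.IsStableUnderComposition]
    (D : ObjectProperty C) (hD : ∀ X : C, ∃ (Y : C) (π : Y ⟶ X), W π ∧ D Y) :
    (ObjectProperty.ι (fun F : C ⥤ AddCommGrpCat.{w} =>
        ∀ ⦃Y X : C⦄ (π : Y ⟶ X), W π → Function.Surjective (F.map π).hom ∧
          (F.map π).hom.ker = ((F.map (pullback.fst π π)).hom - (F.map (pullback.snd π π)).hom).range) ⋙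
      (Functor.whiskeringLeft D.FullSubcategory C AddCommGrpCat.{w}).obj D.ι).Full ∧
    (ObjectProperty.ι (fun F : C ⥤ AddCommGrpCat.{w} =>
        ∀ ⦃Y X : C⦄ (π : Y ⟶ X), W π → Function.Surjective (F.map π).hom ∧
          (F.map π).hom.ker = ((F.map (pullback.fst π π)).hom - (F.map (pullback.snd π π)).hom).range) ⋙
      (Functor.whiskeringLeft D.FullSubcategory C AddCommGrpCat.{w}).obj D.ι).Faithful := by
  refine ⟨⟨?_⟩, ⟨?_⟩⟩
  · intro 𝓕 𝓖 β
    obtain ⟨α, hα⟩ := exists_extension W D hD 𝓕.obj 𝓖.obj 𝓕.property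
      (fun Y hY => (β.app ⟨Y, hY⟩).hom)
      (by
        intro Y₁ Y₂ h₁ h₂ u y
        have := β.naturality (ObjectProperty.homMk u : (⟨Y₁, h₁⟩ : D.FullSubcategory) ⟶ ⟨Y₂, h₂⟩)
        exact congrArg (fun φ => φ.hom y) this)
    refine ⟨ObjectProperty.homMk α, ?_⟩
    ext ⟨Y, hY⟩ : 2
    apply AddCommGrpCat.hom_ext
    exact hα Y hY
  · intro 𝓕 𝓖 α₁ α₂ h
    apply ObjectProperty.hom_ext
    ext X : 2
    obtain ⟨Y, π, hπ, hY⟩ := hD X
    have hsurj := (𝓕.property π hπ).1
    apply AddCommGrpCat.hom_ext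
    ext x
    obtain ⟨y, rfl⟩ := hsurj x
    have h1 := congrArg (fun φ => (φ.app ⟨Y, hY⟩).hom y) h
    have n1 := congrArg (fun φ => φ.hom y) (α₁.hom.naturality π)
    have n2 := congrArg (fun φ => φ.hom y) (α₂.hom.naturality π)
    simp only [AddCommGrpCat.hom_comp, AddMonoidHom.comp_apply] at n1 n2
    rw [n1, n2]
    exact congrArg (𝓖.obj.map π).hom h1

end Groth.Agent.S18884
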