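import Groth.Statements.S18887
import Mathlib.LinearAlgebra.Dimension.Free
import Mathlib.LinearAlgebra.LinearIndependent.Lemmas
import Mathlib.RingTheory.Trace.Basic

set_option autoImplicit false
universe u v
open DblCov

namespace Groth.Agent.S18887

/-- Let A be a commutative ring in which 2 is invertible and B a commutative A-algebra which is free of
rank 2 as an A-module and whose trace form tr : B → A has kernel free of rank 1 over A. Then σ(b) =
tr(b) − b defines an A-algebra endomorphism σ of B with σ ≠ id and σ ∘ σ = id, and the elements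
fixed by σ are exactly the image of A in B. -/
theorem result {A : Type u} {B : Type v} [CommRing A] [CommRing B]
    [Algebra A B] (h2 : IsUnit (2 : A)) [Module.Free A B] [Module.Finite A B]
    (hrk : Module.finrank A B = 2)
    [Module.Free A (LinearMap.ker (Algebra.trace A B))]
    (hker : Module.finrank A (LinearMap.ker (Algebra.trace A B)) = 1) :
    ∃ σ : B →ₐ[A] B, (∀ b : B, σ b = algebraMap A B (Algebra.trace A B b) - b) ∧
      σ ≠ AlgHom.id A B ∧ σ.comp σ = AlgHom.id A B ∧
      ∀ b : B, σ b = b ↔ b ∈ Set.range (algebraMap A B) := by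
  classical
  have hnt : Nontrivial A := by
    by_contra h
    rw [not_nontrivial_iff_subsingleton] at h
    have := rank_subsingleton A B
    simp [Module.finrank, this] at hrk
  obtain ⟨u, hu⟩ := h2
  -- half
  set c : A := ↑u⁻¹ with hc
  have hc2 : (2 : A) * c = 1 := by rw [← hu, hc]; exact u.mul_inv
  have htr1 : ∀ a : A, Algebra.trace A B (algebraMap A B a) = 2 * a := by
    intro a
    rw [Algebra.trace_algebraMap, hrk]; simp
  -- generator of the kernel
  let bk : Module.Basis (Fin 1) A (LinearMap.ker (Algebra.trace A B)) :=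
    Module.basisUnique (Fin 1) hker
  set y : B := (bk 0 : B) with hy
  have hytr : Algebra.trace A B y = 0 := (bk 0).2
  have hyne : y ≠ 0 := by
    intro h0
    have : bk 0 = 0 := Subtype.ext h0
    exact bk.ne_zero 0 this
  have hker_gen : ∀ z : B, Algebra.trace A B z = 0 → ∃ q : A, z = q • y := by
    intro z hz
    have := bk.sum_repr ⟨z, hz⟩
    rw [Fin.sum_univ_one] at this
    refine ⟨bk.repr ⟨z, hz⟩ 0, ?_⟩
    have h' := congrArg Subtype.val this
    simpa using h'.symm
  have hy_tf : ∀ q : A, q • y = 0 → q = 0 := by
    intro q hq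
    have : q • bk 0 = 0 := Subtype.ext (by simpa using hq)
    have hli := bk.linearIndependent
    rw [Fintype.linearIndependent_iff] at hli
    exact hli (fun _ => q) (by simpa using this) 0
  -- decomposition
  have hdecomp : ∀ b : B, ∃ p q : A, b = p • (1 : B) + q • y := by
    intro b
    obtain ⟨q, hq⟩ := hker_gen (b - algebraMap A B (c * Algebra.trace A B b)) (by
      rw [map_sub, htr1, ← mul_assoc, hc2, one_mul, sub_self])
    refine ⟨c * Algebra.trace A B b, q, ?_⟩
    rw [← hq, Algebra.algebraMap_eq_smul_one]; abel
  have htr_pq : ∀ p q : A, Algebra.trace A B (p • (1 : B) + q • y) = 2 * p := by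
    intro p q
    have h1 : Algebra.trace A B (1 : B) = 2 := by
      have := htr1 1
      rwa [map_one, mul_one] at this
    rw [map_add, map_smul, map_smul, hytr, smul_zero, add_zero, h1, smul_eq_mul, mul_comm]
  have hli : LinearIndependent A ![(1 : B), y] := by
    rw [LinearIndependent.pair_iff]
    intro s t hst
    have h1 := congrArg (Algebra.trace A B) hst
    rw [htr_pq, map_zero] at h1
    have hs : s = 0 := by
      have := congrArg (fun x => c * x) h1
      simp only [mul_zero] at this
      rwa [← mul_assoc, mul_comm c 2, hc2, one_mul] at this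
    subst hs
    rw [zero_smul, zero_add] at hst
    exact ⟨rfl, hy_tf t hst⟩
  have hsp : ⊤ ≤ Submodule.span A (Set.range ![(1 : B), y]) := by
    intro b _
    obtain ⟨p, q, rfl⟩ := hdecomp b
    have : Set.range ![(1 : B), y] = {1, y} := by
      ext z; simp [or_comm]
    rw [this, Submodule.mem_span_pair]
    exact ⟨p, q, rfl⟩
  let bb : Module.Basis (Fin 2) A B := Module.Basis.mk hli hsp
  have hbb0 : bb 0 = 1 := by simp [bb]
  have hbb1 : bb 1 = y := by simp [bb]
  obtain ⟨a, e, hyy⟩ := hdecomp (y * y)
  have he : e = 0 := by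
    have h1 : Algebra.trace A B y = e := by
      rw [Algebra.trace_eq_matrix_trace bb, Matrix.trace, Fin.sum_univ_two]
      simp only [Matrix.diag_apply, Algebra.leftMulMatrix_eq_repr_mul, hbb0, hbb1, mul_one]
      rw [hyy]
      nth_rewrite 1 [← hbb1]
      rw [← hbb0, ← hbb1]
      simp
    rw [← h1, hytr]
  rw [he, zero_smul, add_zero] at hyy
  let σl : B →ₗ[A] B := (Algebra.linearMap A B).comp (Algebra.trace A B) - LinearMap.id
  have hσl : ∀ b, σl b = algebraMap A B (Algebra.trace A B b) - b := fun b => rfl
  have hσpq : ∀ p q : A, σl (p • (1 : B) + q • y) = p • (1 : B) - q • y := by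
    intro p q
    rw [hσl, htr_pq, Algebra.algebraMap_eq_smul_one, two_mul, add_smul]
    abel
  have hσ1 : σl 1 = 1 := by
    have := hσpq 1 0
    simpa using this
  have hσmul : ∀ x z : B, σl (x * z) = σl x * σl z := by
    intro x z
    obtain ⟨p, q, rfl⟩ := hdecomp x
    obtain ⟨p', q', rfl⟩ := hdecomp z
    have hprod : (p • (1 : B) + q • y) * (p' • (1 : B) + q' • y) =
        (p * p' + q * q' * a) • (1 : B) + (p * q' + q * p') • y := by
      have : (q • y) * (q' • y) = (q * q' * a) • (1 : B) := by
        rw [smul_mul_smul_comm, hyy, smul_smul]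
      calc (p • (1 : B) + q • y) * (p' • (1 : B) + q' • y)
          = (p * p') • (1 : B) + (q • y) * (q' • y) + ((p * q') • y + (q * p') • y) := by
            simp only [add_mul, mul_add, smul_mul_smul_comm, mul_one, one_mul]
            abel
        _ = _ := by rw [this, ← add_smul, ← add_smul]
    rw [hprod, hσpq, hσpq, hσpq]
    have : (q • y) * (q' • y) = (q * q' * a) • (1 : B) := by
      rw [smul_mul_smul_comm, hyy, smul_smul]
    calc (p * p' + q * q' * a) • (1 : B) - (p * q' + q * p') • y
        = (p * p') • (1 : B) + (q • y) * (q' • y) - ((p * q') • y + (q * p') • y) := by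
          rw [this, ← add_smul, ← add_smul]
      _ = (p • (1 : B) - q • y) * (p' • (1 : B) - q' • y) := by
          simp only [sub_mul, mul_sub, smul_mul_smul_comm, mul_one, one_mul]
          abel
  let σ : B →ₐ[A] B := AlgHom.ofLinearMap σl hσ1 hσmul
  have hσ : ∀ b, σ b = algebraMap A B (Algebra.trace A B b) - b := fun b => rfl
  refine ⟨σ, hσ, ?_, ?_, ?_⟩
  · intro hid
    have h1 : σ y = y := by rw [hid]; rfl
    rw [hσ, hytr, map_zero, zero_sub] at h1
    have h2 : (2 : A) • y = 0 := by
      rw [two_smul]
      nth_rewrite 1 [← h1]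
      exact neg_add_cancel y
    have := hy_tf 2 h2
    rw [← hu] at this
    exact u.ne_zero this
  · ext b
    simp only [AlgHom.coe_comp, Function.comp_apply, AlgHom.coe_id, id_eq]
    rw [hσ (σ b), hσ b, map_sub, htr1, map_sub, two_mul, map_add]
    abel
  · intro b
    constructor
    · intro hb
      rw [hσ] at hb
      refine ⟨c * Algebra.trace A B b, ?_⟩
      have h3 : algebraMap A B (Algebra.trace A B b) = (2 : A) • b := by
        rw [two_smul]
        exact sub_eq_iff_eq_add.1 hb
      rw [map_mul, h3, ← Algebra.smul_def, smul_smul, mul_comm, hc2, one_smul]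
    · rintro ⟨a', rfl⟩
      rw [hσ, htr1, two_mul, map_add]
      abel

end Groth.Agent.S18887
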