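import Groth.Statements.S18888
import Mathlib.RingTheory.Trace.Basic
import Mathlib.RingTheory.Localization.NumDen
import Mathlib.LinearAlgebra.FiniteDimensional.Lemmas
import Mathlib.LinearAlgebra.LinearIndependent.Lemmas
import Mathlib.RingTheory.IntegralClosure.IntegrallyClosed
import Mathlib.RingTheory.Polynomial.UniqueFactorization
import Mathlib.RingTheory.Polynomial.RationalRoot

set_option autoImplicit false
universe u v w
open CAlg

namespace Groth.Agent.S18888

theorem ufd_lemma {A : Type u} {K : Type v}
    [CommRing A] [IsDomain A] [UniqueFactorizationMonoid A] [Field K] [Algebra A K]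
    [IsFractionRing A K] (d : A) (hd : Squarefree d) (q : K) (a₁ : A)
    (h : algebraMap A K a₁ = q * q * algebraMap A K d) : ∃ q' : A, algebraMap A K q' = q := by
  obtain ⟨r, s, hrel, hq⟩ := IsFractionRing.exists_reduced_fraction (A := A) q
  have hs0 : algebraMap A K (s : A) ≠ 0 :=
    IsFractionRing.to_map_ne_zero_of_mem_nonZeroDivisors s.2
  have hq' : q * algebraMap A K (s : A) = algebraMap A K r := by
    rw [← hq]; exact IsLocalization.mk'_spec K r s
  have h1 : a₁ * ((s : A) * (s : A)) = r * r * d := by
    apply IsFractionRing.injective A K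
    simp only [map_mul]
    rw [h, ← hq']
    ring
  have hrel2 : IsRelPrime ((s : A) * (s : A)) (r * r) := by
    have h3 : IsRelPrime ((s : A) * (s : A)) r := hrel.symm.mul_left hrel.symm
    exact h3.mul_right h3
  have hdvd : (s : A) * (s : A) ∣ d := by
    apply hrel2.dvd_of_dvd_mul_left
    exact ⟨a₁, by rw [← h1]; ring⟩
  have hu : IsUnit (s : A) := hd _ hdvd
  obtain ⟨u, hu⟩ := hu
  refine ⟨r * ↑u⁻¹, ?_⟩
  rw [map_mul, ← hq', ← hu, mul_assoc, ← map_mul]
  simp

/-- Let A be a unique factorisation domain in which 2 is invertible, with fraction field K, and let L ⊇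
K be a quadratic extension field (of degree 2 over K) containing an element y ∉ K whose square is a
squarefree element d of A. Then the integral closure of A in L equals the A-subalgebra A[y]
generated by y. -/
theorem result {A : Type u} {K : Type v} {L : Type w}
    [CommRing A] [IsDomain A] [UniqueFactorizationMonoid A] [Field K] [Algebra A K] [IsFractionRing A K]
    [Field L] [Algebra K L] [Algebra A L] [IsScalarTower A K L]
    (h2 : IsUnit (2 : A)) (hL : Module.finrank K L = 2)
    (d : A) (hd : Squarefree d) (y : L) (hy : y * y = algebraMap A L d)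
    (hyK : y ∉ Set.range (algebraMap K L)) :
    integralClosure A L = Algebra.adjoin A {y} := by
  classical
  have hfin : FiniteDimensional K L := Module.finite_of_finrank_pos (by rw [hL]; norm_num)
  have hyint : IsIntegral A y := by
    refine ⟨Polynomial.X ^ 2 - Polynomial.C d, Polynomial.monic_X_pow_sub_C d two_ne_zero, ?_⟩
    simp [sq, hy]
  apply le_antisymm
  swap
  · apply Algebra.adjoin_le
    intro z hz
    rw [Set.mem_singleton_iff] at hz
    rw [hz]
    exact hyint
  intro α hα
  have hαint : IsIntegral A α := hα
  have hli : LinearIndependent K ![(1 : L), y] := by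
    rw [LinearIndependent.pair_iff' one_ne_zero]
    intro a ha
    exact hyK ⟨a, by rw [Algebra.algebraMap_eq_smul_one]; exact ha⟩
  let bb : Module.Basis (Fin 2) K L :=
    basisOfLinearIndependentOfCardEqFinrank hli (by simp [hL])
  have hbb0 : bb 0 = 1 := by simp [bb]
  have hbb1 : bb 1 = y := by simp [bb]
  set p : K := bb.repr α 0 with hp
  set q : K := bb.repr α 1 with hq
  have hdec : α = p • (1 : L) + q • y := by
    have := bb.sum_repr α
    rw [Fin.sum_univ_two, hbb0, hbb1] at this
    exact this.symm
  have htry : Algebra.trace K L y = 0 := by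
    rw [Algebra.trace_eq_matrix_trace bb, Matrix.trace, Fin.sum_univ_two]
    simp only [Matrix.diag_apply, Algebra.leftMulMatrix_eq_repr_mul, hbb0, hbb1, mul_one]
    have h1 : algebraMap A L d = (algebraMap A K d) • bb 0 := by
      rw [hbb0, IsScalarTower.algebraMap_apply A K L, Algebra.algebraMap_eq_smul_one]
    have e1 : bb.repr y = Finsupp.single 1 1 := by rw [← hbb1, bb.repr_self]
    have e2 : bb.repr (y * y) = algebraMap A K d • Finsupp.single 0 1 := by
      rw [hy, h1, map_smul, bb.repr_self]
    rw [e1, e2]
    simp
  have htr : Algebra.trace K L α = 2 * p := by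
    have ht1 : Algebra.trace K L (1 : L) = 2 := by
      have := Algebra.trace_algebraMap (R := K) (S := L) (1 : K)
      rw [map_one, hL] at this
      simpa using this
    rw [hdec, map_add, map_smul, map_smul, htry, smul_zero, add_zero, ht1, smul_eq_mul, mul_comm]
  have hint_tr : IsIntegral A (Algebra.trace K L α) := Algebra.isIntegral_trace hαint
  obtain ⟨a₀, ha₀⟩ := IsIntegrallyClosed.isIntegral_iff.1 hint_tr
  obtain ⟨u, hu⟩ := h2
  have hp' : algebraMap A K (↑u⁻¹ * a₀) = p := by
    rw [map_mul, ha₀, htr]
    have : (2 : K) = algebraMap A K (u : A) := by rw [hu]; exact (map_ofNat _ 2).symm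
    rw [this, ← mul_assoc, ← map_mul]
    simp
  set p' : A := ↑u⁻¹ * a₀ with hp'def
  have hβ : IsIntegral A (q • y) := by
    have : q • y = α - algebraMap A L p' := by
      rw [hdec, IsScalarTower.algebraMap_apply A K L, hp', Algebra.algebraMap_eq_smul_one]
      abel
    rw [this]
    exact hαint.sub isIntegral_algebraMap
  have hβ2 : IsIntegral A (algebraMap K L (q * q * algebraMap A K d)) := by
    have : algebraMap K L (q * q * algebraMap A K d) = (q • y) * (q • y) := by
      rw [smul_mul_smul_comm, hy, IsScalarTower.algebraMap_apply A K L, map_mul, map_mul,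
        Algebra.smul_def, map_mul]
    rw [this]
    exact hβ.mul hβ
  rw [isIntegral_algebraMap_iff (algebraMap K L).injective] at hβ2
  obtain ⟨a₁, ha₁⟩ := IsIntegrallyClosed.isIntegral_iff.1 hβ2
  obtain ⟨q', hq'⟩ := ufd_lemma d hd q a₁ ha₁
  have hfinal : α = algebraMap A L p' + algebraMap A L q' * y := by
    rw [hdec, IsScalarTower.algebraMap_apply A K L p', hp',
      IsScalarTower.algebraMap_apply A K L q', hq', Algebra.algebraMap_eq_smul_one,
      Algebra.smul_def q y]
  rw [hfinal]
  exact Subalgebra.add_mem _ (Subalgebra.algebraMap_mem _ _)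
    (Subalgebra.mul_mem _ (Subalgebra.algebraMap_mem _ _) (Algebra.subset_adjoin rfl))

end Groth.Agent.S18888
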