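import Groth.Statements.S1889
import Groth.Agent.S1886
import Mathlib.AlgebraicGeometry.Morphisms.UniversallyOpen

set_option autoImplicit false
universe u
open CategoryTheory CategoryTheory.Limits AlgebraicGeometry
open Grpd

namespace Groth.Agent.S1889

section

open CategoryTheory CategoryTheory.Limits AlgebraicGeometry Groth.Agent.S1886

variable {S : Scheme.{u}} (G : Grpd.GroupoidScheme S)

theorem universallyOpen_to_U (k : Type u) [Field k] (eU : G.U ≅ Spec (CommRingCat.of k))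
    {Z : Scheme.{u}} (f : Z ⟶ G.U) : UniversallyOpen f := by
  have : Nonempty G.U := ⟨eU.inv (IsLocalRing.closedPoint k)⟩
  have : IsIntegral G.U := isIntegral_of_isOpenImmersion eU.hom
  have : Subsingleton G.U := eU.hom.homeomorph.subsingleton
  infer_instance

theorem inv_comp_cancel {T : Scheme.{u}} (α w : T ⟶ G.R) (hm : α ≫ G.s = w ≫ G.t)
    (h1 : (α ≫ G.i) ≫ G.s = comp G α w hm ≫ G.t) :
    comp G (α ≫ G.i) (comp G α w hm) h1 = w := by
  have h1' : (α ≫ G.i) ≫ G.s = α ≫ G.t := by rw [Category.assoc, G.i_s]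
  calc comp G (α ≫ G.i) (comp G α w hm) h1
      = comp G (comp G (α ≫ G.i) α h1') w ((G.comp_s _ _ h1').trans hm) :=
        (G.assoc _ _ _ h1' hm).symm
    _ = comp G (w ≫ G.t ≫ G.e) w
        (by rw [Category.assoc, Category.assoc, G.e_s, Category.comp_id]) := by
      apply comp_congr
      · exact (G.i_comp α).trans (by rw [← Category.assoc, hm, Category.assoc])
      · rfl
    _ = w := G.e_comp w

theorem comp_inv_cancel {T : Scheme.{u}} (β r : T ⟶ G.R) (hβr : (β ≫ G.i) ≫ G.s = r ≫ G.t)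
    (h1 : β ≫ G.s = comp G (β ≫ G.i) r hβr ≫ G.t) :
    comp G β (comp G (β ≫ G.i) r hβr) h1 = r := by
  have h2 : β ≫ G.s = (β ≫ G.i) ≫ G.t := by rw [Category.assoc, G.i_t]
  have hbt : β ≫ G.t = r ≫ G.t := by rw [← hβr, Category.assoc, G.i_s]
  calc comp G β (comp G (β ≫ G.i) r hβr) h1
      = comp G (comp G β (β ≫ G.i) h2) r ((G.comp_s _ _ h2).trans hβr) :=
        (G.assoc _ _ _ h2 hβr).symm
    _ = comp G (r ≫ G.t ≫ G.e) r
        (by rw [Category.assoc, Category.assoc, G.e_s, Category.comp_id]) := by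
      apply comp_congr
      · exact (G.comp_i β).trans (by rw [← Category.assoc, hbt, Category.assoc])
      · rfl
    _ = r := G.e_comp r

theorem range_eq {Z : Scheme.{u}} (W : G.R.Opens) (a : Z ⟶ G.R)
    (hm : (pullback.fst (a ≫ G.s) (W.ι ≫ G.t) ≫ a) ≫ G.s =
      (pullback.snd (a ≫ G.s) (W.ι ≫ G.t) ≫ W.ι) ≫ G.t)
    (hΨ : (pullback.fst (a ≫ G.t) G.t ≫ a ≫ G.i) ≫ G.s = pullback.snd (a ≫ G.t) G.t ≫ G.t) :
    Set.range ⇑(comp G (pullback.fst (a ≫ G.s) (W.ι ≫ G.t) ≫ a)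
      (pullback.snd (a ≫ G.s) (W.ι ≫ G.t) ≫ W.ι) hm) =
    (pullback.snd (a ≫ G.t) G.t) '' ((comp G (pullback.fst (a ≫ G.t) G.t ≫ a ≫ G.i)
      (pullback.snd (a ≫ G.t) G.t) hΨ) ⁻¹' (W : Set G.R)) := by
  set m := comp G (pullback.fst (a ≫ G.s) (W.ι ≫ G.t) ≫ a)
      (pullback.snd (a ≫ G.s) (W.ι ≫ G.t) ≫ W.ι) hm with hmdef
  set Ψ := comp G (pullback.fst (a ≫ G.t) G.t ≫ a ≫ G.i) (pullback.snd (a ≫ G.t) G.t) hΨ with hΨdef
  have hmt : m ≫ G.t = (pullback.fst (a ≫ G.s) (W.ι ≫ G.t) ≫ a) ≫ G.t := by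
    rw [hmdef]
    unfold comp
    rw [G.comp_t]
  have hΨt : Ψ ≫ G.t = (pullback.fst (a ≫ G.t) G.t ≫ a ≫ G.i) ≫ G.t := by
    rw [hΨdef]
    unfold comp
    rw [G.comp_t]
  let F : pullback (a ≫ G.s) (W.ι ≫ G.t) ⟶ pullback (a ≫ G.t) G.t :=
    pullback.lift (pullback.fst (a ≫ G.s) (W.ι ≫ G.t)) m (by rw [hmt, Category.assoc])
  have hF1 : F ≫ pullback.fst (a ≫ G.t) G.t = pullback.fst (a ≫ G.s) (W.ι ≫ G.t) :=
    pullback.lift_fst _ _ _
  have hF2 : F ≫ pullback.snd (a ≫ G.t) G.t = m := pullback.lift_snd _ _ _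
  have hFΨ : F ≫ Ψ = pullback.snd (a ≫ G.s) (W.ι ≫ G.t) ≫ W.ι := by
    have h1 : ((pullback.fst (a ≫ G.s) (W.ι ≫ G.t) ≫ a) ≫ G.i) ≫ G.s = m ≫ G.t := by
      rw [hmt, Category.assoc _ G.i, G.i_s]
    refine Eq.trans ?_ (inv_comp_cancel G _ _ hm h1)
    refine (precomp_comp G F _ _ hΨ).trans ?_
    apply comp_congr
    · rw [← Category.assoc, hF1, Category.assoc]
    · exact hF2
  ext x
  constructor
  · rintro ⟨p, rfl⟩
    refine ⟨F p, ?_, ?_⟩
    · show Ψ (F p) ∈ W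
      rw [← Scheme.Hom.comp_apply, hFΨ, Scheme.Hom.comp_apply]
      exact (pullback.snd (a ≫ G.s) (W.ι ≫ G.t) p).2
    · rw [← Scheme.Hom.comp_apply, hF2]
  · rintro ⟨q, hq, rfl⟩
    let ι' := (Ψ ⁻¹ᵁ W).ι
    have hres : (Ψ ∣_ W) ≫ W.ι = ι' ≫ Ψ := morphismRestrict_ι Ψ W
    have hcond : (ι' ≫ pullback.fst (a ≫ G.t) G.t) ≫ a ≫ G.s = (Ψ ∣_ W) ≫ W.ι ≫ G.t := by
      rw [← Category.assoc (Ψ ∣_ W), hres, Category.assoc ι' Ψ, hΨt]
      simp only [Category.assoc, G.i_t]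
    let F' : (Ψ ⁻¹ᵁ W).toScheme ⟶ pullback (a ≫ G.s) (W.ι ≫ G.t) :=
      pullback.lift (ι' ≫ pullback.fst (a ≫ G.t) G.t) (Ψ ∣_ W) hcond
    have hF'1 : F' ≫ pullback.fst (a ≫ G.s) (W.ι ≫ G.t) = ι' ≫ pullback.fst (a ≫ G.t) G.t :=
      pullback.lift_fst _ _ _
    have hF'2 : F' ≫ pullback.snd (a ≫ G.s) (W.ι ≫ G.t) = Ψ ∣_ W := pullback.lift_snd _ _ _
    have hF'm : F' ≫ m = ι' ≫ pullback.snd (a ≫ G.t) G.t := by
      have hβr : (((ι' ≫ pullback.fst (a ≫ G.t) G.t) ≫ a) ≫ G.i) ≫ G.s =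
          (ι' ≫ pullback.snd (a ≫ G.t) G.t) ≫ G.t := by
        rw [Category.assoc _ G.i, G.i_s]
        simp only [Category.assoc]
        rw [pullback.condition]
      have hιΨ : ι' ≫ Ψ = comp G (((ι' ≫ pullback.fst (a ≫ G.t) G.t) ≫ a) ≫ G.i)
          (ι' ≫ pullback.snd (a ≫ G.t) G.t) hβr := by
        refine (precomp_comp G ι' _ _ hΨ).trans ?_
        apply comp_congr
        · simp only [Category.assoc]
        · rfl
      have h1 : ((ι' ≫ pullback.fst (a ≫ G.t) G.t) ≫ a) ≫ G.s =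
          comp G (((ι' ≫ pullback.fst (a ≫ G.t) G.t) ≫ a) ≫ G.i)
            (ι' ≫ pullback.snd (a ≫ G.t) G.t) hβr ≫ G.t := by
        unfold comp
        rw [G.comp_t, Category.assoc _ G.i, G.i_t]
      refine Eq.trans ?_ (comp_inv_cancel G _ _ hβr h1)
      refine (precomp_comp G F' _ _ hm).trans ?_
      apply comp_congr
      · rw [← Category.assoc, hF'1]
      · rw [← Category.assoc, hF'2, hres, hιΨ]
    refine ⟨F' ⟨q, hq⟩, ?_⟩
    rw [← Scheme.Hom.comp_apply, hF'm, Scheme.Hom.comp_apply]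
    rfl

end

/-- Let (U, R, s, t, c) be a groupoid scheme over S with U the spectrum of a field, W ⊆ R open and a : Z
→ R a morphism. Then the image of Z ×_{s∘a, U, t} W → R ×_{s,U,t} R → R (composition) is open. (A
groupoid scheme carries U, R, s, t, c, e, i over S with the groupoid axioms on T-points; 'finite
locally free' is finite, flat and locally of finite presentation; C ⊂ Γ(U) is the ring of functions
a with s♯(a) = t♯(a) and M = Spec C.) -/
theorem result (S : Scheme.{u}) (G : Grpd.GroupoidScheme S) (k : Type u) [Field k] (eU : G.U ≅ Spec (CommRingCat.of k)) (W : G.R.Opens) (Z : Scheme.{u}) (a : Z ⟶ G.R) : IsOpen (Set.range ⇑(pullback.lift (pullback.fst (a ≫ G.s) (W.ι ≫ G.t) ≫ a) (pullback.snd (a ≫ G.s) (W.ι ≫ G.t) ≫ W.ι) ((Category.assoc _ _ _).trans (pullback.condition.trans (Category.assoc _ _ _).symm)) ≫ G.c)) := by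
  have hΨ : (pullback.fst (a ≫ G.t) G.t ≫ a ≫ G.i) ≫ G.s = pullback.snd (a ≫ G.t) G.t ≫ G.t := by
    simp only [Category.assoc, G.i_s]
    exact pullback.condition (f := a ≫ G.t) (g := G.t)
  have key := range_eq G W a ((Category.assoc _ _ _).trans
    (pullback.condition.trans (Category.assoc _ _ _).symm)) hΨ
  unfold Groth.Agent.S1886.comp at key
  rw [key]
  have := universallyOpen_to_U G k eU (a ≫ G.t)
  exact (pullback.snd (a ≫ G.t) G.t).isOpenMap _ (W.2.preimage (Scheme.Hom.continuous _))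

end Groth.Agent.S1889
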