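import Groth.Statements.S18890

set_option autoImplicit false
universe u v w w'
open CAlg

namespace Groth.Agent.S18890

/-- Let R be a commutative ring, G a finite group whose order is invertible in R, M an R-module with an
R-linear action ρ of G and N an arbitrary R-module. Then the natural map M^G ⊗_R N → M ⊗_R N induced
by the inclusion of the invariants is injective, and its image is the submodule of invariants of M
⊗_R N under the action ρ ⊗ 1 (G acting on the first factor). (The source lets G be a group of
R-automorphisms of M; a possibly non-faithful linear action changes nothing.) -/
theorem result {R : Type u} [CommRing R]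
    {G : Type v} [Group G] [Finite G] (hG : IsUnit ((Nat.card G : ℕ) : R))
    {M : Type w} {N : Type w'} [AddCommGroup M] [Module R M] [AddCommGroup N] [Module R N]
    (ρ : Representation R G M) :
    Function.Injective (LinearMap.rTensor N ρ.invariants.subtype) ∧
      LinearMap.range (LinearMap.rTensor N ρ.invariants.subtype) =
        (ρ.tprod (Representation.trivial R G N)).invariants := by
  classical
  have : Fintype G := Fintype.ofFinite G
  have hG' : IsUnit ((Fintype.card G : ℕ) : R) := by
    rwa [Nat.card_eq_fintype_card] at hG
  have : Invertible ((Fintype.card G : ℕ) : R) := hG'.invertible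
  let π : M →ₗ[R] ρ.invariants :=
    LinearMap.codRestrict ρ.invariants ρ.averageMap ρ.averageMap_invariant
  have hπ : π ∘ₗ ρ.invariants.subtype = LinearMap.id := by
    ext ⟨v, hv⟩
    exact ρ.averageMap_id v hv
  have hπ' : ρ.invariants.subtype ∘ₗ π = ρ.averageMap := by
    ext v
    simp [π]
  refine ⟨?_, ?_⟩
  · apply Function.LeftInverse.injective (g := LinearMap.rTensor N π)
    intro x
    rw [← LinearMap.comp_apply, ← LinearMap.rTensor_comp, hπ, LinearMap.rTensor_id]
    rfl
  · apply le_antisymm
    · rintro _ ⟨x, rfl⟩
      rw [Representation.mem_invariants]
      intro g
      induction x using TensorProduct.induction_on with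
      | zero => simp
      | tmul m n =>
        obtain ⟨m, hm⟩ := m
        simp [Representation.tprod_apply, (Representation.mem_invariants ρ m).1 hm g]
      | add x y hx hy => simp only [map_add, hx, hy]
    · intro z hz
      rw [Representation.mem_invariants] at hz
      refine ⟨LinearMap.rTensor N π z, ?_⟩
      rw [← LinearMap.comp_apply, ← LinearMap.rTensor_comp, hπ']
      have key : LinearMap.rTensor N ρ.averageMap =
          ⅟((Fintype.card G : ℕ) : R) • ∑ g : G, (ρ.tprod (Representation.trivial R G N)) g := by
        ext m n
        simp [Representation.averageMap, Representation.asAlgebraHom, GroupAlgebra.average,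
          Representation.tprod_apply, TensorProduct.sum_tmul]
      rw [key, LinearMap.smul_apply, LinearMap.sum_apply]
      simp only [hz, Finset.sum_const, Finset.card_univ]
      rw [← Nat.cast_smul_eq_nsmul R, invOf_smul_smul]

end Groth.Agent.S18890
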