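import Groth.Statements.S18891
import Mathlib.AlgebraicGeometry.ZariskisMainTheorem
import Mathlib.AlgebraicGeometry.Morphisms.IsIso
import Mathlib.FieldTheory.IsAlgClosed.AlgebraicClosure

set_option autoImplicit false
universe u
open CategoryTheory CategoryTheory.Limits AlgebraicGeometry
open Mor

namespace Groth.Agent.S18891

theorem diagonal_surjective {X Y : Scheme.{u}} (f : X ⟶ Y)
    (hinj : ∀ (Ω : Type u) [Field Ω] [IsAlgClosed Ω],
      Function.Injective (fun g : Spec (CommRingCat.of Ω) ⟶ X => g ≫ f)) :
    Surjective (pullback.diagonal f) := by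
  constructor
  intro z
  let P := pullback f f
  let κ := P.residueField z
  let Ω := AlgebraicClosure κ
  let j : Spec (CommRingCat.of Ω) ⟶ P :=
    Spec.map (CommRingCat.ofHom (algebraMap κ Ω)) ≫ P.fromSpecResidueField z
  have h12 : j ≫ pullback.fst f f = j ≫ pullback.snd f f := by
    apply hinj Ω
    simp only [Category.assoc, pullback.condition]
  have hj : j = (j ≫ pullback.fst f f) ≫ pullback.diagonal f := by
    apply pullback.hom_ext
    · simp
    · simp [h12]
  have hne : Nonempty (Spec (CommRingCat.of Ω)) := inferInstance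
  obtain ⟨s⟩ := hne
  refine ⟨(j ≫ pullback.fst f f) s, ?_⟩
  have hz : j s = z := by
    simp only [j, Scheme.Hom.comp_apply]
    exact Scheme.fromSpecResidueField_apply _ _
  have h3 : ((j ≫ pullback.fst f f) ≫ pullback.diagonal f) s = z := by
    rw [← hj]; exact hz
  simpa using h3

/-- Let f : X → Y be a morphism of schemes which is proper and formally unramified, and such that for
every algebraically closed field Ω the map X(Ω) → Y(Ω), g ↦ g ≫ f, is injective. Then f is a closed
immersion. -/
theorem result {X Y : Scheme.{u}} (f : X ⟶ Y)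
    [IsProper f] [FormallyUnramified f]
    (hinj : ∀ (Ω : Type u) [Field Ω] [IsAlgClosed Ω],
      Function.Injective (fun g : Spec (CommRingCat.of Ω) ⟶ X => g ≫ f)) :
    IsClosedImmersion f := by
  rw [IsClosedImmersion.iff_isProper_and_mono]
  refine ⟨inferInstance, ?_⟩
  rw [← pullback.isIso_diagonal_iff]
  rw [isIso_iff_isOpenImmersion_and_surjective]
  exact ⟨inferInstance, diagonal_surjective f hinj⟩

end Groth.Agent.S18891
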