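import Groth.Statements.S18899
import Mathlib.RingTheory.Invariant.Basic

set_option autoImplicit false
universe u v w
open CAlg

namespace Groth.Agent.S18899

open Polynomial in
theorem pointwise {R : Type*} [CommRing R] {G : Type*} [Group G] [Fintype G]
    [MulSemiringAction G R]
    {D : Type*} [CommRing D] [IsDomain D] (f₁ f₂ : R →+* D)
    (h : ∀ a : R, (∀ g : G, g • a = a) → f₁ a = f₂ a) (a : R) :
    ∃ g : G, f₂ a = f₁ (g • a) := by
  have h1 : (MulSemiringAction.charpoly G a).map f₁ = (MulSemiringAction.charpoly G a).map f₂ := by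
    ext n
    simp only [Polynomial.coeff_map]
    exact h _ (fun g => MulSemiringAction.smul_coeff_charpoly a n g)
  have h2 : ((MulSemiringAction.charpoly G a).map f₂).eval (f₂ a) = 0 := by
    rw [Polynomial.eval_map, Polynomial.eval₂_hom, MulSemiringAction.eval_charpoly, map_zero]
  rw [← h1, MulSemiringAction.charpoly_eq, Polynomial.map_prod, Polynomial.eval_prod] at h2
  obtain ⟨g, _, hg⟩ := Finset.prod_eq_zero_iff.1 h2
  refine ⟨g, ?_⟩
  simpa [sub_eq_zero] using hg

/-- Let A be a commutative ring on which a finite group G acts by ring automorphisms, with ring of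
invariants A^G, and let K be a field. If two ring homomorphisms f₁, f₂ : A → K have the same
restriction to A^G, then f₂ = f₁ ∘ γ for some γ ∈ G. -/
theorem result {A : Type u} [CommRing A] {G : Type v} [Group G] [Finite G]
    [MulSemiringAction G A] {K : Type w} [Field K] (f₁ f₂ : A →+* K)
    (h : ∀ a : A, (∀ g : G, g • a = a) → f₁ a = f₂ a) :
    ∃ γ : G, ∀ a : A, f₂ a = f₁ (γ • a) := by
  classical
  have : Fintype G := Fintype.ofFinite G
  by_contra hcon
  push Not at hcon
  choose a ha using hcon
  let e : G ≃ Fin (Fintype.card G) := Fintype.equivFin G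
  let p : Polynomial A := ∑ g : G, Polynomial.C (a g) * Polynomial.X ^ (e g : ℕ)
  have hp : ∀ (γ : G) (F : A →+* K), ((γ • p).map F).coeff (e γ : ℕ) = F (γ • a γ) := by
    intro γ F
    simp only [p, Polynomial.smul_eq_map, Polynomial.coeff_map, Polynomial.finset_sum_coeff,
      Polynomial.coeff_C_mul, Polynomial.coeff_X_pow]
    rw [Finset.sum_eq_single γ]
    · simp
    · intro g _ hg
      have : (e γ : ℕ) ≠ (e g : ℕ) := by
        intro h'
        exact hg (e.injective (Fin.ext h'.symm))
      simp [this]
    · intro h'; exact absurd (Finset.mem_univ γ) h'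
  have hagree : ∀ q : Polynomial A, (∀ g : G, g • q = q) →
      Polynomial.mapRingHom f₁ q = Polynomial.mapRingHom f₂ q := by
    intro q hq
    ext n
    simp only [Polynomial.coe_mapRingHom, Polynomial.coeff_map]
    apply h
    intro g
    rw [← Polynomial.coeff_smul, hq g]
  obtain ⟨γ, hγ⟩ := pointwise (Polynomial.mapRingHom f₁) (Polynomial.mapRingHom f₂) hagree p
  apply ha γ
  have h1 := hp γ f₁
  have h2 := hp 1 f₂
  rw [one_smul] at h2
  simp only [Polynomial.coe_mapRingHom] at hγ
  have h3 : (p.map f₂).coeff (e γ : ℕ) = f₂ (a γ) := by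
    simp only [p, Polynomial.coeff_map, Polynomial.finset_sum_coeff,
      Polynomial.coeff_C_mul, Polynomial.coeff_X_pow]
    rw [Finset.sum_eq_single γ]
    · simp
    · intro g _ hg
      have : (e γ : ℕ) ≠ (e g : ℕ) := by
        intro h'
        exact hg (e.injective (Fin.ext h'.symm))
      simp [this]
    · intro h'; exact absurd (Finset.mem_univ γ) h'
  rw [← h3, hγ, h1]

end Groth.Agent.S18899
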