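import Groth.Statements.S1890
import Mathlib.AlgebraicGeometry.Morphisms.Immersion
import Mathlib.AlgebraicGeometry.Morphisms.QuasiSeparated
import Mathlib.AlgebraicGeometry.Morphisms.Affine

set_option autoImplicit false
universe u
open CategoryTheory CategoryTheory.Limits AlgebraicGeometry
open Grpd

namespace Groth.Agent.S1890

/-- If `V` is qcqs and `b f : Γ(V, ⊤)` with `V_b ≤ V_f`, then some power of `b` is a multiple
of `f`. -/
theorem exists_pow_eq_mul {V : Scheme.{u}} [CompactSpace V] [QuasiSeparatedSpace V]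
    (b f : Γ(V, ⊤)) (hle : V.basicOpen b ≤ V.basicOpen f) : ∃ (n : ℕ) (c : Γ(V, ⊤)), b ^ n = f * c := by
  -- `f` restricted to `V_b` is a unit
  have hunit : IsUnit (V.presheaf.map (homOfLE (le_top : V.basicOpen b ≤ ⊤)).op f) := by
    have h1 : IsUnit (V.presheaf.map (homOfLE (V.basicOpen_le f)).op f) :=
      RingedSpace.isUnit_res_basicOpen _ f
    have h2 := h1.map (V.presheaf.map (homOfLE hle).op).hom
    rwa [← CommRingCat.comp_apply, ← Functor.map_comp] at h2
  obtain ⟨u, hu⟩ := hunit.exists_right_inv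
  obtain ⟨n, c, hc⟩ := exists_eq_pow_mul_of_isCompact_of_isQuasiSeparated V ⊤
    CompactSpace.isCompact_univ isQuasiSeparated_univ b u
  -- `(f * c)|_{V_b} = (b ^ n)|_{V_b}`
  have hres : (f * c) |_ V.basicOpen b = (b ^ n) |_ V.basicOpen b := by
    have hc' : V.presheaf.map (homOfLE (le_top : V.basicOpen b ≤ ⊤)).op c =
        (V.presheaf.map (homOfLE (le_top : V.basicOpen b ≤ ⊤)).op b) ^ n * u := hc
    show V.presheaf.map (homOfLE (le_top : V.basicOpen b ≤ ⊤)).op (f * c) =
      V.presheaf.map (homOfLE (le_top : V.basicOpen b ≤ ⊤)).op (b ^ n)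
    rw [map_mul, map_pow, hc', mul_comm _ u, ← mul_assoc, hu, one_mul]
  obtain ⟨m, hm⟩ := exists_of_res_eq_of_qcqs_of_top hres
  refine ⟨m + n, b ^ m * c, ?_⟩
  rw [pow_add, ← hm]
  ring

/-- Take a quasi-compact immersion j : V → Spec A and an element f ∈ A such that j⁻¹(D(f)) is affine and
j(V) ∩ V(f) is closed in Spec A. Then V is affine. -/
theorem result (A : Type u) [CommRing A] (V : Scheme.{u}) (j : V ⟶ Spec (CommRingCat.of A)) [IsImmersion j] [QuasiCompact j] (f : A) (haff : IsAffineOpen (j ⁻¹ᵁ PrimeSpectrum.basicOpen f)) (hcl : IsClosed (Set.range ⇑j ∩ PrimeSpectrum.zeroLocus {f})) : IsAffine V := by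
  classical
  let X : Scheme.{u} := Spec (CommRingCat.of A)
  haveI : CompactSpace V := QuasiCompact.compactSpace_of_compactSpace j
  haveI : QuasiSeparatedSpace V := quasiSeparatedSpace_of_quasiSeparated j
  -- the ring map `A → Γ(V, ⊤)`
  let φ : A →+* Γ(V, ⊤) := j.appTop.hom.comp (Scheme.ΓSpecIso (CommRingCat.of A)).inv.hom
  let D : A → X.Opens := fun r => PrimeSpectrum.basicOpen r
  have hφ : ∀ r : A, V.basicOpen (φ r) = j ⁻¹ᵁ D r := by
    intro r
    have h1 : D r = X.basicOpen ((Scheme.ΓSpecIso (CommRingCat.of A)).inv r) :=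
      (basicOpen_eq_of_affine (R := CommRingCat.of A) r).symm
    rw [h1, Scheme.preimage_basicOpen_top]
    rfl
  have hmem : ∀ (r : A) (x : V), x ∈ V.basicOpen (φ r) ↔ r ∉ (j x).asIdeal := by
    intro r x
    rw [hφ]
    rfl
  -- the two closed sets
  let Wc : Set (PrimeSpectrum A) := (coborder (Set.range j))ᶜ
  have hWc : IsClosed Wc := j.isLocallyClosed_range.isOpen_coborder.isClosed_compl
  let C : Set (PrimeSpectrum A) := Set.range j ∩ PrimeSpectrum.zeroLocus {f}
  have hdisj : Wc ∩ C = ∅ := by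
    ext p
    simp only [Set.mem_inter_iff, Set.mem_empty_iff_false, iff_false, not_and]
    intro hp hpC
    exact hp (subset_coborder hpC.1)
  have htop : PrimeSpectrum.vanishingIdeal Wc ⊔ PrimeSpectrum.vanishingIdeal C = ⊤ := by
    rw [← PrimeSpectrum.zeroLocus_empty_iff_eq_top, PrimeSpectrum.zeroLocus_sup,
      PrimeSpectrum.zeroLocus_vanishingIdeal_eq_closure,
      PrimeSpectrum.zeroLocus_vanishingIdeal_eq_closure]
    have h1 : closure Wc = Wc := hWc.closure_eq
    have h2 : closure C = C := hcl.closure_eq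
    rw [h1, h2, hdisj]
  obtain ⟨a, ha, b, hb, hab⟩ := Submodule.mem_sup.1 (htop ▸ Submodule.mem_top : (1 : A) ∈ _)
  -- `V_a` is affine
  have haff_a : IsAffineOpen (V.basicOpen (φ a)) := by
    rw [hφ]
    have hle : D a ≤ j.coborderRange := by
      intro p hp
      by_contra hpW
      exact hp ((PrimeSpectrum.mem_vanishingIdeal _ _).1 ha p hpW)
    have h1 : IsAffineOpen (D a) := by
      have h1' : D a = X.basicOpen ((Scheme.ΓSpecIso (CommRingCat.of A)).inv a) :=
        (basicOpen_eq_of_affine (R := CommRingCat.of A) a).symm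
      rw [h1']
      exact (isAffineOpen_top X).basicOpen _
    have h2 : IsAffineOpen (j.coborderRange.ι ⁻¹ᵁ (D a)) :=
      h1.preimage_of_isOpenImmersion _ (by rwa [Scheme.Opens.opensRange_ι])
    have h3 := h2.preimage j.liftCoborder
    rwa [Scheme.Hom.liftCoborder_preimage, Scheme.Hom.image_preimage_eq_opensRange_inf,
      Scheme.Opens.opensRange_ι, inf_eq_right.mpr hle] at h3
  -- `V_f` is affine
  have haff_f : IsAffineOpen (V.basicOpen (φ f)) := by rw [hφ]; exact haff
  -- `V_b ≤ V_f`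
  have hle : V.basicOpen (φ b) ≤ V.basicOpen (φ f) := by
    intro x hx
    rw [hmem] at hx ⊢
    intro hfx
    apply hx
    refine (PrimeSpectrum.mem_vanishingIdeal _ _).1 hb (j x) ⟨⟨x, rfl⟩, ?_⟩
    rw [PrimeSpectrum.mem_zeroLocus]
    intro y hy
    rw [Set.mem_singleton_iff.1 hy]
    exact hfx
  obtain ⟨n, c, hc⟩ := exists_pow_eq_mul (φ b) (φ f) hle
  -- `1 ∈ (φ a, φ f)`
  have hspan : Ideal.span ({φ a, φ f} : Set Γ(V, ⊤)) = ⊤ := by
    rw [Ideal.eq_top_iff_one]
    have h1 : (φ a + φ b) ^ n = 1 := by rw [← map_add, hab, map_one, one_pow]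
    rw [← h1, add_pow]
    refine Submodule.sum_mem _ fun i _ => ?_
    by_cases hi : i = 0
    · subst hi
      simp only [pow_zero, one_mul, Nat.sub_zero, Nat.choose_zero_right, Nat.cast_one, mul_one]
      rw [hc]
      exact Ideal.mul_mem_right _ _ (Ideal.subset_span (by simp))
    · obtain ⟨i', rfl⟩ := Nat.exists_eq_succ_of_ne_zero hi
      rw [pow_succ, mul_assoc, mul_assoc, mul_comm (φ a), ← mul_assoc, ← mul_assoc]
      exact Ideal.mul_mem_left _ _ (Ideal.subset_span (by simp))
  refine isAffine_of_isAffineOpen_basicOpen _ hspan ?_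
  intro i hi
  rcases hi with rfl | hi
  · exact haff_a
  · rw [Set.mem_singleton_iff.1 hi]
    exact haff_f

end Groth.Agent.S1890
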