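import Groth.Statements.S18905
import Mathlib

set_option autoImplicit false
universe u
open CategoryTheory CategoryTheory.Limits AlgebraicGeometry
open Mor

set_option linter.unusedSectionVars false

namespace Groth.Agent.S18905Aux

open KaehlerDifferential

/-- dual-number criterion for formal unramifiedness of a finite type algebra over an algebraically
closed field -/
theorem formallyUnramified_of_dualNumber (k : Type u) [Field k] [IsAlgClosed k] (B : Type u) [CommRing B]
    [Algebra k B] [Algebra.FiniteType k B]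
    (H : ∀ φ₁ φ₂ : B →ₐ[k] DualNumber k,
      (TrivSqZeroExt.fstHom k k k).comp φ₁ = (TrivSqZeroExt.fstHom k k k).comp φ₂ → φ₁ = φ₂) :
    Algebra.FormallyUnramified k B := by
  constructor
  by_contra hns
  rw [not_subsingleton_iff_nontrivial] at hns
  -- a maximal submodule
  obtain ⟨N, hN⟩ : ∃ N : Submodule B Ω[B⁄k], IsCoatom N := by
    rcases eq_top_or_exists_le_coatom (⊥ : Submodule B Ω[B⁄k]) with h | ⟨N, hN, -⟩
    · exact absurd h bot_ne_top
    · exact ⟨N, hN⟩
  have hsimple : IsSimpleModule B (Ω[B⁄k] ⧸ N) := isSimpleModule_iff_isCoatom.2 hN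
  obtain ⟨m, hm, ⟨e⟩⟩ := isSimpleModule_iff_quot_maximal.1 hsimple
  let _ : Field (B ⧸ m) := Ideal.Quotient.field m
  have : Module.Finite k (B ⧸ m) := finite_of_finite_type_of_isJacobsonRing k (B ⧸ m)
  have : Algebra.IsIntegral k (B ⧸ m) := Algebra.IsIntegral.of_finite k (B ⧸ m)
  have hbij : Function.Bijective (algebraMap k (B ⧸ m)) :=
    IsAlgClosed.algebraMap_bijective_of_isIntegral
  let ε : k ≃ₐ[k] (B ⧸ m) := AlgEquiv.ofBijective (Algebra.ofId k (B ⧸ m)) hbij
  -- the surjection and the derivation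
  let D₀ : Ω[B⁄k] →ₗ[B] (B ⧸ m) := e.toLinearMap.comp N.mkQ
  have hD₀ : Function.Surjective D₀ := e.surjective.comp N.mkQ_surjective
  let d : Derivation k B (B ⧸ m) := D₀.compDer (KaehlerDifferential.D k B)
  let χ : B →ₐ[k] k := (ε.symm : (B ⧸ m) →ₐ[k] k).comp (Ideal.Quotient.mkₐ k m)
  let δ : B → k := fun b => ε.symm (d b)
  have hχ : ∀ b, ε (χ b) = Ideal.Quotient.mk m b := fun b => by simp [χ]
  have hδmul : ∀ a b, δ (a * b) = χ a * δ b + χ b * δ a := by
    intro a b
    apply ε.injective
    simp only [δ, map_add, map_mul, AlgEquiv.apply_symm_apply, hχ]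
    rw [d.leibniz, Algebra.smul_def, Algebra.smul_def]
    rfl
  have hδadd : ∀ a b, δ (a + b) = δ a + δ b := fun a b => by simp [δ]
  have hδalg : ∀ c : k, δ (algebraMap k B c) = 0 := fun c => by simp [δ]
  let φ₁ : B →ₐ[k] DualNumber k := (TrivSqZeroExt.inlAlgHom k k k).comp χ
  let φ₂ : B →ₐ[k] DualNumber k :=
    { toFun := fun b => TrivSqZeroExt.inl (χ b) + TrivSqZeroExt.inr (δ b)
      map_one' := by
        have : δ 1 = 0 := by simpa using hδalg 1
        simp [this]
      map_mul' := fun a b => by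
        ext
        · simp
        · simp [hδmul]; ring
      map_zero' := by
        have : δ 0 = 0 := by simpa using hδalg 0
        simp [this]
      map_add' := fun a b => by
        ext
        · simp
        · simp [hδadd]
      commutes' := fun c => by
        ext
        · simp [Algebra.algebraMap_eq_smul_one]
        · simp only [TrivSqZeroExt.snd_add, TrivSqZeroExt.snd_inl, TrivSqZeroExt.snd_inr, hδalg,
            zero_add, TrivSqZeroExt.algebraMap_eq_inl] }
  have h12 : φ₁ = φ₂ := by
    apply H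
    ext b
    simp [φ₁, φ₂]
  have hδ0 : ∀ b, δ b = 0 := by
    intro b
    have := congrArg (fun φ : B →ₐ[k] DualNumber k => TrivSqZeroExt.snd (φ b)) h12
    simpa [φ₁, φ₂] using this.symm
  have hd0 : ∀ b, D₀ (KaehlerDifferential.D k B b) = 0 := by
    intro b
    have := hδ0 b
    have h2 : d b = 0 := by simpa [δ] using this
    exact h2
  have hD₀0 : D₀ = 0 := by
    apply LinearMap.ext_on (KaehlerDifferential.span_range_derivation k B)
    rintro _ ⟨b, rfl⟩
    simpa using hd0 b
  obtain ⟨x, hx⟩ := hD₀ 1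
  rw [hD₀0] at hx
  exact zero_ne_one hx

lemma isNilpotent_ker_SpecMap {R S : CommRingCat.{u}} (φ : R ⟶ S) (n : ℕ)
    (h : RingHom.ker φ.hom ^ n = ⊥) : IsNilpotent (Spec.map φ).ker := by
  refine ⟨n, ?_⟩
  rw [Scheme.IdealSheafData.zero_eq_bot]
  apply Scheme.IdealSheafData.ext_of_isAffine
  rw [Scheme.IdealSheafData.ideal_pow, Pi.pow_apply, Scheme.Hom.ker_apply]
  have hinjS : Function.Injective (Scheme.ΓSpecIso S).hom :=
    (ConcreteCategory.bijective_of_isIso (Scheme.ΓSpecIso S).hom).1
  have hinjR : Function.Injective (Scheme.ΓSpecIso R).hom :=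
    (ConcreteCategory.bijective_of_isIso (Scheme.ΓSpecIso R).hom).1
  have hk : RingHom.ker ((Spec.map φ).appTop).hom =
      (RingHom.ker φ.hom).comap (Scheme.ΓSpecIso R).hom.hom := by
    ext x
    simp only [RingHom.mem_ker, Ideal.mem_comap]
    have := congr($(Scheme.ΓSpecIso_naturality φ) x)
    simp only [CommRingCat.comp_apply] at this
    change _ ↔ φ ((Scheme.ΓSpecIso R).hom x) = 0
    rw [← this]
    constructor
    · intro hx
      change ((Spec.map φ).appTop) x = 0 at hx
      rw [hx, map_zero]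
    · intro hx
      exact hinjS (by rw [hx, map_zero])
  change RingHom.ker ((Spec.map φ).appTop).hom ^ n = _
  rw [hk]
  apply le_antisymm
  · refine (Ideal.le_comap_pow _ n).trans ?_
    rw [h]
    intro x hx
    rw [Ideal.mem_comap, Ideal.mem_bot] at hx
    have : x = 0 := hinjR (by rw [map_zero]; exact hx)
    rw [this]
    exact Submodule.zero_mem _
  · intro x hx
    have : x = 0 := by simpa using hx
    rw [this]
    exact Submodule.zero_mem _

/-- glue: abstract version over CommRingCat. -/
lemma fromSpec_comp_eq {K : CommRingCat.{u}} {X : Scheme.{u}} (p : X ⟶ Spec K) {V : X.Opens}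
    (hV : IsAffineOpen V) :
    hV.fromSpec ≫ p = Spec.map ((Scheme.ΓSpecIso K).inv ≫ p.appLE ⊤ V le_top) := by
  rw [← IsAffineOpen.SpecMap_appLE_fromSpec p (isAffineOpen_top _) hV le_top,
    IsAffineOpen.fromSpec_top, Scheme.isoSpec_Spec_inv, ← Spec.map_comp]

theorem main_backward (k : Type u) [Field k] [IsAlgClosed k]
    {X : Scheme.{u}} (p : X ⟶ Spec (CommRingCat.of k)) [LocallyOfFiniteType p]
    (H : ∀ v₁ v₂ : Spec (CommRingCat.of (DualNumber k)) ⟶ X,
        v₁ ≫ p = Spec.map (CommRingCat.ofHom (algebraMap k (DualNumber k))) →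
        v₂ ≫ p = Spec.map (CommRingCat.ofHom (algebraMap k (DualNumber k))) →
        Spec.map (CommRingCat.ofHom (TrivSqZeroExt.fstHom k k k).toRingHom) ≫ v₁ =
          Spec.map (CommRingCat.ofHom (TrivSqZeroExt.fstHom k k k).toRingHom) ≫ v₂ →
        v₁ = v₂) : FormallyUnramified p := by
  refine HasRingHomProperty.of_iSup_eq_top (P := @FormallyUnramified) (fun V : X.affineOpens => V)
    (iSup_affineOpens_eq_top X) fun V => ?_
  have hV : IsAffineOpen V.1 := V.2
  have hbij : Function.Bijective (Scheme.ΓSpecIso (CommRingCat.of k)).inv :=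
    ConcreteCategory.bijective_of_isIso (Scheme.ΓSpecIso (CommRingCat.of k)).inv
  -- compose with iso
  have hiso : RingHom.FormallyUnramified
      ((Scheme.ΓSpecIso (CommRingCat.of k)).inv ≫ p.appLE ⊤ V.1 le_top).hom := by
    let ψ : k →+* Γ(X, V.1) := ((Scheme.ΓSpecIso (CommRingCat.of k)).inv ≫ p.appLE ⊤ V.1 le_top).hom
    change ψ.FormallyUnramified
    let _ : Algebra k Γ(X, V.1) := ψ.toAlgebra
    have hft : ψ.FiniteType := by
      have h1 := p.finiteType_appLE (isAffineOpen_top _) hV le_top
      have h2 : ((Scheme.ΓSpecIso (CommRingCat.of k)).inv).hom.FiniteType :=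
        RingHom.FiniteType.of_surjective _ hbij.2
      exact h1.comp h2
    have : Algebra.FiniteType k Γ(X, V.1) := hft
    have key := formallyUnramified_of_dualNumber k Γ(X, V.1) ?_
    · exact key
    intro φ₁ φ₂ h12
    have hcomp : ∀ φ : Γ(X, V.1) →ₐ[k] DualNumber k,
        (Spec.map (CommRingCat.ofHom φ.toRingHom) ≫ hV.fromSpec) ≫ p =
          Spec.map (CommRingCat.ofHom (algebraMap k (DualNumber k))) := by
      intro φ
      rw [Category.assoc, fromSpec_comp_eq p hV, ← Spec.map_comp]
      congr 1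
      exact CommRingCat.hom_ext (RingHom.ext fun x => φ.commutes x)
    have e : (TrivSqZeroExt.fstHom k k k).toRingHom.comp φ₁.toRingHom =
        (TrivSqZeroExt.fstHom k k k).toRingHom.comp φ₂.toRingHom :=
      RingHom.ext fun x => congr($h12 x)
    have := H (Spec.map (CommRingCat.ofHom φ₁.toRingHom) ≫ hV.fromSpec)
      (Spec.map (CommRingCat.ofHom φ₂.toRingHom) ≫ hV.fromSpec) (hcomp φ₁) (hcomp φ₂) (by
        rw [← Category.assoc, ← Category.assoc, ← Spec.map_comp, ← Spec.map_comp,
          ← CommRingCat.ofHom_comp, ← CommRingCat.ofHom_comp, e])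
    rw [cancel_mono, Spec.map_inj] at this
    exact AlgHom.ext fun x ↦ congr($this x)
  have := (RingHom.FormallyUnramified.respectsIso.cancel_left_isIso
    (Scheme.ΓSpecIso (CommRingCat.of k)).inv (p.appLE ⊤ V.1 le_top)).1 hiso
  exact this

theorem main_forward (k : Type u) [Field k]
    {X : Scheme.{u}} (p : X ⟶ Spec (CommRingCat.of k)) [FormallyUnramified p]
    (v₁ v₂ : Spec (CommRingCat.of (DualNumber k)) ⟶ X)
    (h1 : v₁ ≫ p = Spec.map (CommRingCat.ofHom (algebraMap k (DualNumber k))))
    (h2 : v₂ ≫ p = Spec.map (CommRingCat.ofHom (algebraMap k (DualNumber k))))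
    (h12 : Spec.map (CommRingCat.ofHom (TrivSqZeroExt.fstHom k k k).toRingHom) ≫ v₁ =
          Spec.map (CommRingCat.ofHom (TrivSqZeroExt.fstHom k k k).toRingHom) ≫ v₂) :
    v₁ = v₂ := by
  have hsurj : Function.Surjective (TrivSqZeroExt.fstHom k k k).toRingHom := fun a =>
    ⟨TrivSqZeroExt.inl a, rfl⟩
  have : IsClosedImmersion (Spec.map (CommRingCat.ofHom (TrivSqZeroExt.fstHom k k k).toRingHom)) :=
    IsClosedImmersion.spec_of_surjective _ hsurj
  refine FormallyUnramified.hom_ext
    (Spec.map (CommRingCat.ofHom (TrivSqZeroExt.fstHom k k k).toRingHom))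
    (isNilpotent_ker_SpecMap _ 2 ?_) p h12 (h1.trans h2.symm)
  rw [eq_bot_iff, pow_two, Ideal.mul_le]
  intro x hx y hy
  rw [RingHom.mem_ker] at hx hy
  change TrivSqZeroExt.fst x = 0 at hx
  change TrivSqZeroExt.fst y = 0 at hy
  rw [Ideal.mem_bot]
  ext
  · simp [hx, hy]
  · simp [hx, hy]

end Groth.Agent.S18905Aux

namespace Groth.Agent.S18905

/-- Let k be an algebraically closed field and X a scheme locally of finite type over k. Then X → Spec k
is formally unramified if and only if the map Hom_k(Spec k[ε], X) → Hom_k(Spec k, X) given by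
restricting along the closed immersion of Spec k into Spec k[ε] (k[ε] the ring of dual numbers, ε ↦
0), is bijective; since that map is always surjective, the condition is stated as injectivity: two
k-morphisms from Spec k[ε] to X which agree on Spec k are equal. -/
theorem result (k : Type u) [Field k] [IsAlgClosed k]
    {X : Scheme.{u}} (p : X ⟶ Spec (CommRingCat.of k)) [LocallyOfFiniteType p] :
    FormallyUnramified p ↔
      ∀ v₁ v₂ : Spec (CommRingCat.of (DualNumber k)) ⟶ X,
        v₁ ≫ p = Spec.map (CommRingCat.ofHom (algebraMap k (DualNumber k))) →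
        v₂ ≫ p = Spec.map (CommRingCat.ofHom (algebraMap k (DualNumber k))) →
        Spec.map (CommRingCat.ofHom (TrivSqZeroExt.fstHom k k k).toRingHom) ≫ v₁ =
          Spec.map (CommRingCat.ofHom (TrivSqZeroExt.fstHom k k k).toRingHom) ≫ v₂ →
        v₁ = v₂ := by
  constructor
  · intro h v₁ v₂ h1 h2 h12
    exact Groth.Agent.S18905Aux.main_forward k p v₁ v₂ h1 h2 h12
  · intro H
    exact Groth.Agent.S18905Aux.main_backward k p H

end Groth.Agent.S18905
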