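import Groth.Statements.S18908
-- import your own Groth.Agent.* helpers here
import Mathlib.Tactic
import Mathlib.RingTheory.Etale.Field
import Mathlib.RingTheory.Etale.Descent
import Mathlib.RingTheory.Flat.FaithfullyFlat.Basic

set_option autoImplicit false
universe u v w
open scoped TensorProduct
open CAlg

namespace Groth.Agent.S18908

/-- Let K ⊇ k be a finite field extension of degree n and Ω ⊇ k an algebraically closed extension. Then
K is separable over k if and only if Ω ⊗_k K is isomorphic, as an Ω-algebra, to the product of n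
copies of Ω. (The source says 'for every (some) algebraically closed extension Ω'; the equivalence
is stated for each fixed Ω, which gives both readings.) -/
theorem result (k : Type u) (K : Type v) (Ω : Type w)
    [Field k] [Field K] [Algebra k K] [FiniteDimensional k K]
    [Field Ω] [Algebra k Ω] [IsAlgClosed Ω] :
    Algebra.IsSeparable k K ↔ Nonempty ((Ω ⊗[k] K) ≃ₐ[Ω] (Fin (Module.finrank k K) → Ω)) := by
  constructor
  · intro hsep
    haveI : Algebra.FormallyEtale k K := Algebra.FormallyEtale.of_isSeparable k K
    haveI : Algebra.FormallyEtale Ω (Ω ⊗[k] K) := inferInstance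
    haveI : Algebra.EssFiniteType Ω (Ω ⊗[k] K) := inferInstance
    let e := Algebra.FormallyEtale.equivPiOfIsSepClosed Ω (Ω ⊗[k] K)
    haveI : IsArtinianRing (Ω ⊗[k] K) := isArtinian_of_tower Ω inferInstance
    haveI hfin : Finite (PrimeSpectrum (Ω ⊗[k] K)) := inferInstance
    have hcard : Nat.card (PrimeSpectrum (Ω ⊗[k] K)) = Module.finrank k K := by
      have h1 : Module.finrank Ω (Ω ⊗[k] K) = Module.finrank k K := Module.finrank_baseChange
      have h2 : Module.finrank Ω (Ω ⊗[k] K) = Module.finrank Ω (PrimeSpectrum (Ω ⊗[k] K) → Ω) :=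
        e.toLinearEquiv.finrank_eq
      haveI := Fintype.ofFinite (PrimeSpectrum (Ω ⊗[k] K))
      rw [Module.finrank_fintype_fun_eq_card] at h2
      rw [Nat.card_eq_fintype_card, ← h2, h1]
    let eq : Fin (Module.finrank k K) ≃ PrimeSpectrum (Ω ⊗[k] K) := (Finite.equivFinOfCardEq hcard).symm
    exact ⟨e.trans (AlgEquiv.piCongrLeft Ω (fun _ => Ω) eq).symm⟩
  · rintro ⟨e⟩
    haveI : Algebra.FormallyUnramified Ω (Fin (Module.finrank k K) → Ω) := inferInstance
    haveI : Algebra.FormallyUnramified Ω (Ω ⊗[k] K) := Algebra.FormallyUnramified.of_equiv e.symm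
    haveI : Module.FaithfullyFlat k Ω := inferInstance
    haveI : Algebra.FormallyUnramified k K :=
      Algebra.FormallyUnramified.of_formallyUnramified_tensorProduct_of_faithfullyFlat Ω
    exact Algebra.FormallyUnramified.isSeparable k K

end Groth.Agent.S18908
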