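import Groth.Statements.S18912
import Mathlib

set_option autoImplicit false
universe u
open CategoryTheory CategoryTheory.Limits AlgebraicGeometry
open TFNodal

namespace Groth.Agent.S18912

section helpers

variable {X : Scheme.{u}} (F : X.Modules) (τ : F ⟶ Coh.structureModule X) (η : X)

/-- sections of the structure module as sections of the structure sheaf -/
def toSec {X : Scheme.{u}} (U : X.Opens) (x : Γ(Coh.structureModule X, U)) : Γ(X, U) := x

/-- germ of the image of a section -/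
noncomputable def gval (U : X.Opens) (hU : η ∈ U) (a : Γ(F, U)) : X.presheaf.stalk η :=
  X.presheaf.germ U η hU (τ.app U a : Γ(X, U))

theorem gval_res (U W : X.Opens) (hWU : W ≤ U) (hW : η ∈ W) (a : Γ(F, U)) :
    gval F τ η W hW (F.presheaf.map (homOfLE hWU).op a) = gval F τ η U (hWU hW) a := by
  unfold gval
  have nat := congrArg (fun f => f.hom a) (τ.mapPresheaf.naturality (homOfLE hWU).op)
  simp only [Scheme.Modules.mapPresheaf_app] at nat
  have h2 : (τ.app W (F.presheaf.map (homOfLE hWU).op a) : Γ(X, W)) =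
      X.presheaf.map (homOfLE hWU).op (τ.app U a : Γ(X, U)) := nat
  rw [h2]
  exact X.presheaf.germ_res_apply (homOfLE hWU) η hW _

open Polynomial

theorem core {k K : Type*} [Field k] [IsAlgClosed k] [Field K] (φ : k →+* K) (d : ℕ) (hd : 1 ≤ d)
    {ι : Type*} (P P' : ι → K) (h1 : ∀ a, P' a ^ d = P a ^ d)
    (h2 : ∀ a a₀, P' a * P' a₀ ^ (d - 1) = P a * P a₀ ^ (d - 1)) :
    ∃ ξ : k, ξ ^ d = 1 ∧ ∀ a, P' a = φ ξ * P a := by
  have hlift : ∀ z : K, z ^ d = 1 → ∃ ξ : k, ξ ^ d = 1 ∧ φ ξ = z := by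
    intro z hz
    set p : k[X] := X ^ d - 1 with hp
    have hp0 : p ≠ 0 := by
      apply X_pow_sub_C_ne_zero (by omega) (1 : k)
    have hsp : p.Splits := IsAlgClosed.splits p
    have hmap : (p.map φ).roots = p.roots.map φ := hsp.roots_map φ
    have hz' : z ∈ (p.map φ).roots := by
      rw [mem_roots (Polynomial.map_ne_zero hp0)]
      simp [hp, IsRoot, hz]
    rw [hmap, Multiset.mem_map] at hz'
    obtain ⟨r, hr, hrz⟩ := hz'
    refine ⟨r, ?_, hrz⟩
    have := (mem_roots hp0).mp hr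
    simpa [hp, IsRoot, sub_eq_zero] using this
  by_cases hall : ∀ a, P a = 0
  · refine ⟨1, one_pow d, fun a => ?_⟩
    have := h1 a
    rw [hall a, zero_pow (by omega)] at this
    rw [hall a, mul_zero]
    exact pow_eq_zero_iff (by omega) |>.mp this
  · push Not at hall
    obtain ⟨a₀, ha₀⟩ := hall
    have hz : (P' a₀ / P a₀) ^ d = 1 := by
      rw [div_pow, h1 a₀, div_self (pow_ne_zero _ ha₀)]
    obtain ⟨ξ, hξ, hφ⟩ := hlift _ hz
    refine ⟨ξ, hξ, fun a => ?_⟩
    rw [hφ]
    have h := h2 a a₀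
    have hd' : d = (d - 1) + 1 := by omega
    have hP'a₀ : P' a₀ = (P' a₀ / P a₀) * P a₀ := by field_simp
    set z := P' a₀ / P a₀ with hzdef
    rw [hP'a₀, mul_pow] at h
    have hne : P a₀ ^ (d - 1) ≠ 0 := pow_ne_zero _ ha₀
    have h3 : P' a * z ^ (d - 1) = P a := by
      have : (P' a * z ^ (d - 1)) * P a₀ ^ (d - 1) = P a * P a₀ ^ (d - 1) := by
        rw [← h]; ring
      exact mul_right_cancel₀ hne this
    have hz1 : z ^ (d - 1) * z = 1 := by rw [← pow_succ, ← hd', hz]
    calc P' a = P' a * (z ^ (d - 1) * z) := by rw [hz1, mul_one]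
      _ = z * (P' a * z ^ (d - 1)) := by ring
      _ = z * P a := by rw [h3]

theorem main
    (k : Type u) [Field k] [IsAlgClosed k]
    (X : Scheme.{u}) [X.Over (Spec (CommRingCat.of k))]
    (F : X.Modules) (τ τ' : F ⟶ Coh.structureModule X) (d : ℕ) (hd : 1 ≤ d)
    (hS : ∀ (U : X.Opens) (a : Fin d → Γ(F, U)),
      (∏ i, (τ.app U (a i) : Γ(X, U)) : Γ(X, U)) = (∏ i, (τ'.app U (a i) : Γ(X, U)) : Γ(X, U)))
    (η : X) (hη : IsField (X.presheaf.stalk η)) :
    ∃ ξ : k, ξ ^ d = 1 ∧ ∀ (U : X.Opens) (hU : η ∈ U) (a : Γ(F, U)),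
      (X.presheaf.germ U η hU (τ'.app U a : Γ(X, U)) : X.presheaf.stalk η) =
        Curv2.stalkMap k X η ξ * X.presheaf.germ U η hU (τ.app U a : Γ(X, U)) := by
  let _ : Field (X.presheaf.stalk η) := hη.toField
  let ι := Σ U : {U : X.Opens // η ∈ U}, Γ(F, U.1)
  let P : ι → X.presheaf.stalk η := fun x => gval F τ η x.1.1 x.1.2 x.2
  let P' : ι → X.presheaf.stalk η := fun x => gval F τ' η x.1.1 x.1.2 x.2
  have h1 : ∀ x : ι, P' x ^ d = P x ^ d := by
    rintro ⟨⟨U, hU⟩, a⟩
    have h0 : (∏ _i : Fin d, toSec U (τ.app U a)) = (∏ _i : Fin d, toSec U (τ'.app U a)) :=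
      hS U (fun _ => a)
    have e : ∀ t : Γ(X, U), (∏ _i : Fin d, t) = t ^ d := fun t => by
      rw [Finset.prod_const, Finset.card_univ, Fintype.card_fin]
    rw [e, e] at h0
    have := congrArg (fun s => X.presheaf.germ U η hU s) h0
    simp only [map_pow] at this
    exact this.symm
  have h2 : ∀ x x₀ : ι, P' x * P' x₀ ^ (d - 1) = P x * P x₀ ^ (d - 1) := by
    rintro ⟨⟨U, hU⟩, a⟩ ⟨⟨U₀, hU₀⟩, a₀⟩
    obtain ⟨d', rfl⟩ : ∃ d', d = d' + 1 := ⟨d - 1, by omega⟩
    have hW : η ∈ U ⊓ U₀ := ⟨hU, hU₀⟩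
    let aW : Γ(F, U ⊓ U₀) := F.presheaf.map (homOfLE (inf_le_left : U ⊓ U₀ ≤ U)).op a
    let a₀W : Γ(F, U ⊓ U₀) := F.presheaf.map (homOfLE (inf_le_right : U ⊓ U₀ ≤ U₀)).op a₀
    have h0 : toSec (U ⊓ U₀) (τ.app (U ⊓ U₀) aW) *
          (∏ _i : Fin d', toSec (U ⊓ U₀) (τ.app (U ⊓ U₀) a₀W)) =
        toSec (U ⊓ U₀) (τ'.app (U ⊓ U₀) aW) *
          (∏ _i : Fin d', toSec (U ⊓ U₀) (τ'.app (U ⊓ U₀) a₀W)) := by
      have h00 : (∏ i : Fin (d' + 1), toSec (U ⊓ U₀) (τ.app (U ⊓ U₀)
            ((Fin.cons aW (fun _ => a₀W) : Fin (d' + 1) → Γ(F, U ⊓ U₀)) i))) =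
          (∏ i : Fin (d' + 1), toSec (U ⊓ U₀) (τ'.app (U ⊓ U₀)
            ((Fin.cons aW (fun _ => a₀W) : Fin (d' + 1) → Γ(F, U ⊓ U₀)) i))) :=
        hS (U ⊓ U₀) (Fin.cons aW (fun _ => a₀W))
      rw [Fin.prod_univ_succ, Fin.prod_univ_succ] at h00
      simpa only [Fin.cons_zero, Fin.cons_succ] using h00
    have e : ∀ t : Γ(X, U ⊓ U₀), (∏ _i : Fin d', t) = t ^ d' := fun t => by
      rw [Finset.prod_const, Finset.card_univ, Fintype.card_fin]
    rw [e, e] at h0
    have := congrArg (fun s => X.presheaf.germ (U ⊓ U₀) η hW s) h0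
    simp only [map_mul, map_pow] at this
    have e1 := gval_res F τ η U (U ⊓ U₀) inf_le_left hW a
    have e2 := gval_res F τ η U₀ (U ⊓ U₀) inf_le_right hW a₀
    have e3 := gval_res F τ' η U (U ⊓ U₀) inf_le_left hW a
    have e4 := gval_res F τ' η U₀ (U ⊓ U₀) inf_le_right hW a₀
    simp only [gval] at e1 e2 e3 e4
    simp only [P, P', gval, Nat.add_sub_cancel]
    rw [← e1, ← e2, ← e3, ← e4]
    exact this.symm
  obtain ⟨ξ, hξ, hall⟩ := core (Curv2.stalkMap k X η) d hd P P' h1 h2
  exact ⟨ξ, hξ, fun U hU a => hall ⟨⟨U, hU⟩, a⟩⟩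


end helpers

/-- Let k be an algebraically closed field of characteristic zero, X a reduced scheme locally of finite
type over k, F an O_X-module, d ≥ 1 an integer and τ, τ' : F → O_X two O_X-linear maps whose d-th
symmetric powers agree, in the sense that for every open U and all sections a_1, …, a_d of F over U
the products τ(a_1)⋯τ(a_d) and τ'(a_1)⋯τ'(a_d) coincide in Γ(U, O_X). Then for every point η of X
whose local ring is a field (a generic point of an irreducible component) there is a d-th root of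
unity ξ in k such that, for every section a of F over an open containing η, the germ of τ'(a) at η
is ξ times the germ of τ(a). The published statement is for a coherent module on a projective nodal
curve and concludes that τ' = ξ τ with one root of unity ξ on each connected component; that form
fails for the union of two lines meeting at a node, F the ideal of the node, τ the inclusion and τ'
equal to τ on one line and to −τ on the other (d = 2), so the conclusion is stated here at each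
generic point, i.e. per irreducible component, which is what the stalkwise argument yields. -/
theorem result
    (k : Type u) [Field k] [IsAlgClosed k] [CharZero k]
    (X : Scheme.{u}) [X.Over (Spec (CommRingCat.of k))]
    [LocallyOfFiniteType (X ↘ Spec (CommRingCat.of k))] [AlgebraicGeometry.IsReduced X]
    (F : X.Modules) (τ τ' : F ⟶ Coh.structureModule X) (d : ℕ) (hd : 1 ≤ d)
    (hS : ∀ (U : X.Opens) (a : Fin d → Γ(F, U)),
      (∏ i, (τ.app U (a i) : Γ(X, U)) : Γ(X, U)) = (∏ i, (τ'.app U (a i) : Γ(X, U)) : Γ(X, U)))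
    (η : X) (hη : IsField (X.presheaf.stalk η)) :
    ∃ ξ : k, ξ ^ d = 1 ∧ ∀ (U : X.Opens) (hU : η ∈ U) (a : Γ(F, U)),
      (X.presheaf.germ U η hU (τ'.app U a : Γ(X, U)) : X.presheaf.stalk η) =
        Curv2.stalkMap k X η ξ * X.presheaf.germ U η hU (τ.app U a : Γ(X, U)) := by
  exact main k X F τ τ' d hd hS η hη

end Groth.Agent.S18912
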