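import Groth.Statements.S18916
import Groth.Agent.Lib.Helper21.FieldStalk
import Groth.Agent.Lib.Helper64.HomSh5
import Groth.Agent.Lib.Helper29.QCohUnit

set_option autoImplicit false
universe u
open CategoryTheory CategoryTheory.Limits AlgebraicGeometry
open TFNodal

namespace Groth.Agent.S18916

/-- Let k be an algebraically closed field of characteristic zero, X a reduced proper curve over k (a
proper k-scheme of dimension one) without isolated points (no closed point is open, i.e. X is
one-dimensional at every point) and F a coherent O_X-module. Then the dual 𝓗om(F, O_X) is torsion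
free: no closed point of X is an associated point of it. -/
theorem result
    (k : Type u) [Field k] [IsAlgClosed k] [CharZero k]
    (X : Scheme.{u}) [X.Over (Spec (CommRingCat.of k))] [IsProper (X ↘ Spec (CommRingCat.of k))]
    [AlgebraicGeometry.IsReduced X] (hdim : topologicalKrullDim X = 1)
    (hpure : ∀ x : X, IsClosed ({x} : Set X) → ¬ IsOpen ({x} : Set X))
    (F : X.Modules) (hF : Coh.IsCoh F) (x : X) (hx : IsClosed ({x} : Set X)) :
    ¬ Curv2.IsAssPoint (RefHull.dual F) x := by
  intro hass
  haveI : IsLocallyNoetherian X :=
    LocallyOfFiniteType.isLocallyNoetherian (X ↘ Spec (CommRingCat.of k))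
  haveI : CompactSpace X :=
    QuasiCompact.compactSpace_of_compactSpace (X ↘ Spec (CommRingCat.of k))
  haveI : IsNoetherian X := {}
  have e1 := Groth.Agent.Lib.Helper64.HomSh.stalkHomEquiv (G := Coh.structureModule X)
    (Groth.Agent.Lib.Helper64.HomSh.isFP_of_isCoh hF) x
  have e2 := Groth.Agent.Lib.Helper29.QCohLoc.stalkEquiv X x
  haveI : Module.IsTorsionFree (X.presheaf.stalk x)
      ((Coh.structureModule X).presheaf.stalk x) :=
    e2.symm.injective.moduleIsTorsionFree _ (fun r m => map_smul e2.symm r m)
  haveI : Module.IsTorsionFree (X.presheaf.stalk x)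
      (RefHull.StalkHom F (Coh.structureModule X) x) :=
    ⟨fun r hr φ ψ h => LinearMap.ext fun m => hr.isSMulRegular (congr($h m))⟩
  haveI : Module.IsTorsionFree (X.presheaf.stalk x) ((RefHull.dual F).presheaf.stalk x) :=
    e1.injective.moduleIsTorsionFree _ (fun r m => map_smul e1 r m)
  haveI : IsNoetherianRing (X.presheaf.stalk x) := inferInstance
  have hfld : IsField (X.presheaf.stalk x) :=
    Groth.Agent.Lib.Helper21.TorsionFreeAss.isField_of_isAssociatedPrime_of_torsionFree
      (X.presheaf.stalk x) ((RefHull.dual F).presheaf.stalk x) hass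
  exact hpure x hx (Groth.Agent.Lib.Helper21.FieldStalk.isOpen_singleton_of_isField x hfld hx)

end Groth.Agent.S18916
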