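import Groth.Statements.S18918
import Mathlib
import Groth.Agent.S19692

set_option autoImplicit false
universe u
open CategoryTheory CategoryTheory.Limits AlgebraicGeometry
open FEt

namespace Groth.Agent.S18918

section helpers
open CategoryTheory CategoryTheory.Limits AlgebraicGeometry Opposite


section Ring

/-- In an `n`-dimensional algebra over a field with `n` distinct characters, every prime is the
kernel of one of the characters. -/
theorem prime_eq_ker {κ C : Type u} [Field κ] [CommRing C] [Algebra κ C] [Module.Finite κ C]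
    {n : ℕ} (hn : Module.finrank κ C = n) (χ : Fin n → (C →ₐ[κ] κ)) (hχ : Function.Injective χ)
    (𝔭 : Ideal C) [h𝔭 : 𝔭.IsPrime] : ∃ i, 𝔭 = RingHom.ker (χ i) := by
  have hli : LinearIndependent κ (fun i => (χ i).toLinearMap) :=
    (linearIndependent_toLinearMap κ C κ).comp χ hχ
  have hspan : Submodule.span κ (Set.range fun i => (χ i).toLinearMap) = ⊤ := by
    apply hli.span_eq_top_of_card_eq_finrank'
    rw [Fintype.card_fin, ← hn]
    exact (Subspace.dual_finrank_eq (K := κ) (V := C)).symm
  have hbot : (⨅ i, RingHom.ker (χ i)) = (⊥ : Ideal C) := by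
    rw [eq_bot_iff]
    intro c hc
    rw [Ideal.mem_iInf] at hc
    rw [Ideal.mem_bot]
    rw [← Module.forall_dual_apply_eq_zero_iff κ c]
    intro φ
    have hφ : φ ∈ Submodule.span κ (Set.range fun i => (χ i).toLinearMap) := by
      rw [hspan]; trivial
    induction hφ using Submodule.span_induction with
    | mem x hx =>
      obtain ⟨i, rfl⟩ := hx
      exact hc i
    | zero => rfl
    | add x y _ _ hx hy => rw [LinearMap.add_apply, hx, hy, add_zero]
    | smul r x _ hx => rw [LinearMap.smul_apply, hx, smul_zero]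
  have hle : (Finset.univ.inf fun i => RingHom.ker (χ i)) ≤ 𝔭 := by
    rw [Finset.inf_univ_eq_iInf, hbot]; exact bot_le
  obtain ⟨i, -, hi⟩ := (Ideal.IsPrime.inf_le' h𝔭).1 hle
  refine ⟨i, ?_⟩
  have hmax : (RingHom.ker (χ i)).IsMaximal :=
    RingHom.ker_isMaximal_of_surjective (χ i) (fun k => ⟨algebraMap κ C k, by simp⟩)
  exact (hmax.eq_of_le h𝔭.ne_top hi).symm

end Ring

section Sec

variable {P X' : Scheme.{u}} (q : P ⟶ X') [IsFinite q] [Etale q]

theorem sec_isClosedImmersion (s : X' ⟶ P) (hs : s ≫ q = 𝟙 X') : IsClosedImmersion s := by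
  haveI : IsClosedImmersion (s ≫ q) := by rw [hs]; infer_instance
  exact IsClosedImmersion.of_comp s q

theorem sec_isOpenImmersion (s : X' ⟶ P) (hs : s ≫ q = 𝟙 X') : IsOpenImmersion s := by
  haveI : Etale (s ≫ q) := by rw [hs]; infer_instance
  haveI : Etale s := Etale.of_comp s q
  haveI : Mono s := mono_of_mono_fac hs
  exact IsOpenImmersion.of_flat_of_mono s

/-- two sections of a finite etale morphism over a connected base which agree at a point are
equal -/
theorem sec_ext [PreconnectedSpace X'] (s t : X' ⟶ P) (hs : s ≫ q = 𝟙 X') (ht : t ≫ q = 𝟙 X')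
    (a : X') (h : s a = t a) : s = t := by
  haveI := sec_isClosedImmersion q t ht
  haveI := sec_isOpenImmersion q t ht
  -- `U = s⁻¹(range t)` is clopen and contains `a`
  have hclopen : IsClopen (s ⁻¹' (Set.range t)) :=
    ⟨t.isClosedEmbedding.isClosed_range.preimage s.continuous,
      t.isOpenEmbedding.isOpen_range.preimage s.continuous⟩
  have hU : s ⁻¹' (Set.range t) = Set.univ :=
    hclopen.eq_univ ⟨a, ⟨a, h.symm⟩⟩
  have hrange : Set.range s ⊆ Set.range t := by
    rintro _ ⟨x, rfl⟩
    have : x ∈ s ⁻¹' (Set.range t) := by rw [hU]; trivial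
    exact this
  have hl : IsOpenImmersion.lift t s hrange ≫ t = s := IsOpenImmersion.lift_fac t s hrange
  have h1 : IsOpenImmersion.lift t s hrange = 𝟙 X' := by
    calc IsOpenImmersion.lift t s hrange = IsOpenImmersion.lift t s hrange ≫ t ≫ q := by
          rw [ht, Category.comp_id]
      _ = s ≫ q := by rw [← Category.assoc, hl]
      _ = 𝟙 X' := hs
  rw [← hl, h1, Category.id_comp]

theorem sec_disjoint [PreconnectedSpace X'] (s t : X' ⟶ P) (hs : s ≫ q = 𝟙 X')
    (ht : t ≫ q = 𝟙 X') (hne : s ≠ t) : Disjoint (Set.range s) (Set.range t) := by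
  rw [Set.disjoint_iff]
  rintro _ ⟨⟨x, rfl⟩, ⟨y, hy⟩⟩
  apply hne
  have hxy : y = x := by
    have h1 : q (t y) = q (s x) := by rw [hy]
    rw [← Scheme.Hom.comp_apply, ← Scheme.Hom.comp_apply, hs, ht] at h1
    simpa using h1
  subst hxy
  exact sec_ext q s t hs ht y hy.symm

end Sec

section Fibre

variable {P X' : Scheme.{u}} (q : P ⟶ X') [IsFinite q] [Etale q] (a : X')

/-- the fibre of `q` over the residue field of `a` -/
noncomputable abbrev Fib : Scheme.{u} := pullback q (X'.fromSpecResidueField a)

noncomputable abbrev pr2 : Fib q a ⟶ Spec (X'.residueField a) :=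
  pullback.snd q (X'.fromSpecResidueField a)

instance : IsAffine (Fib q a) := isAffine_of_isAffineHom (pr2 q a)

/-- the structure map of the fibre algebra -/
noncomputable def gmap : X'.residueField a ⟶ Γ(Fib q a, ⊤) :=
  (Scheme.ΓSpecIso (X'.residueField a)).inv ≫ (pr2 q a).appTop

noncomputable instance fibAlg : Algebra (X'.residueField a) Γ(Fib q a, ⊤) :=
  (gmap q a).hom.toAlgebra

theorem pr2_eq : pr2 q a = (Fib q a).isoSpec.hom ≫ Spec.map (gmap q a) := by
  have h := Scheme.isoSpec_hom_naturality (pr2 q a)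
  rw [Scheme.isoSpec_Spec_hom] at h
  rw [gmap, Spec.map_comp, ← Category.assoc, h, Category.assoc, ← Spec.map_comp,
    Iso.inv_hom_id, Spec.map_id, Category.comp_id]

instance : IsFinite (Spec.map (gmap q a)) := by
  have h : IsFinite ((Fib q a).isoSpec.hom ≫ Spec.map (gmap q a)) := by
    rw [← pr2_eq]; infer_instance
  exact (MorphismProperty.cancel_left_of_respectsIso @IsFinite _ _).1 h

instance : Flat (Spec.map (gmap q a)) := by
  have h : Flat ((Fib q a).isoSpec.hom ≫ Spec.map (gmap q a)) := by
    rw [← pr2_eq]; infer_instance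
  exact (MorphismProperty.cancel_left_of_respectsIso @Flat _ _).1 h

instance fibFinite : Module.Finite (X'.residueField a) Γ(Fib q a, ⊤) := by
  have h : (gmap q a).hom.Finite := (IsFinite.SpecMap_iff _).1 inferInstance
  exact h

theorem finrank_fib {n : ℕ} (hn : q.finrank a = n) :
    Module.finrank (X'.residueField a) Γ(Fib q a, ⊤) = n := by
  obtain ⟨pt⟩ : Nonempty (Spec (X'.residueField a)) := inferInstance
  have h1 : (pr2 q a).finrank pt = q.finrank a := by
    rw [Scheme.Hom.finrank_pullback_snd, Scheme.fromSpecResidueField_apply]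
  have h2 : (pr2 q a).finrank = (Spec.map (gmap q a)).finrank := by
    rw [pr2_eq]; exact Scheme.Hom.finrank_comp_left_of_isIso _ _
  have h3 : (Spec.map (gmap q a)).finrank = (gmap q a).hom.finrank :=
    Scheme.Hom.finrank_SpecMap_eq_finrank ((IsFinite.SpecMap_iff _).1 inferInstance)
      (Flat.SpecMap_iff.1 inferInstance)
  rw [← hn, ← h1, h2, h3]
  change _ = Module.rankAtStalk (R := X'.residueField a) Γ(Fib q a, ⊤) pt
  rw [Module.rankAtStalk_eq_finrank_of_free]
  rfl

/-- the section of the fibre induced by a section of `q` -/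
noncomputable def secFib (s : X' ⟶ P) (hs : s ≫ q = 𝟙 X') :
    Spec (X'.residueField a) ⟶ Fib q a :=
  pullback.lift (X'.fromSpecResidueField a ≫ s) (𝟙 _) (by rw [Category.assoc, hs]; simp)

theorem secFib_pr2 (s : X' ⟶ P) (hs : s ≫ q = 𝟙 X') : secFib q a s hs ≫ pr2 q a = 𝟙 _ :=
  pullback.lift_snd _ _ _

theorem secFib_fst (s : X' ⟶ P) (hs : s ≫ q = 𝟙 X') :
    secFib q a s hs ≫ pullback.fst q (X'.fromSpecResidueField a) =
      X'.fromSpecResidueField a ≫ s :=
  pullback.lift_fst _ _ _

/-- the character of the fibre algebra induced by a section of `q` -/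
noncomputable def chi (s : X' ⟶ P) (hs : s ≫ q = 𝟙 X') :
    Γ(Fib q a, ⊤) →ₐ[X'.residueField a] X'.residueField a where
  toRingHom := ((secFib q a s hs).appTop ≫ (Scheme.ΓSpecIso (X'.residueField a)).hom).hom
  commutes' := fun k => by
    change ((gmap q a) ≫ (secFib q a s hs).appTop ≫
      (Scheme.ΓSpecIso (X'.residueField a)).hom).hom k = k
    have : (gmap q a) ≫ (secFib q a s hs).appTop ≫
        (Scheme.ΓSpecIso (X'.residueField a)).hom = 𝟙 _ := by
      rw [gmap, Category.assoc, ← Category.assoc (pr2 q a).appTop, ← Scheme.Hom.comp_appTop,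
        secFib_pr2]
      simp
    rw [this]; rfl

theorem chi_apply (s : X' ⟶ P) (hs : s ≫ q = 𝟙 X') (c : Γ(Fib q a, ⊤)) :
    chi q a s hs c = (Scheme.ΓSpecIso (X'.residueField a)).hom.hom
      ((secFib q a s hs).appTop.hom c) := rfl

theorem secFib_eq_of_chi_eq (s t : X' ⟶ P) (hs : s ≫ q = 𝟙 X') (ht : t ≫ q = 𝟙 X')
    (h : chi q a s hs = chi q a t ht) : secFib q a s hs = secFib q a t ht := by
  apply ext_of_isAffine
  rw [← cancel_mono (Scheme.ΓSpecIso (X'.residueField a)).hom]
  ext c
  have := DFunLike.congr_fun h c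
  rwa [chi_apply, chi_apply] at this

theorem apply_eq_of_chi_eq (s t : X' ⟶ P) (hs : s ≫ q = 𝟙 X') (ht : t ≫ q = 𝟙 X')
    (h : chi q a s hs = chi q a t ht) : s a = t a := by
  obtain ⟨pt⟩ : Nonempty (Spec (X'.residueField a)) := inferInstance
  have h1 := secFib_eq_of_chi_eq q a s t hs ht h
  have h2 : X'.fromSpecResidueField a ≫ s = X'.fromSpecResidueField a ≫ t := by
    rw [← secFib_fst q a s hs, ← secFib_fst q a t ht, h1]
  have h3 := congrArg (fun φ : Spec (X'.residueField a) ⟶ P => φ pt) h2
  simpa [Scheme.Hom.comp_apply, Scheme.fromSpecResidueField_apply] using h3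

theorem ker_chi_isMaximal (s : X' ⟶ P) (hs : s ≫ q = 𝟙 X') :
    (RingHom.ker (chi q a s hs)).IsMaximal :=
  RingHom.ker_isMaximal_of_surjective (chi q a s hs)
    (fun k => ⟨algebraMap _ _ k, (chi q a s hs).commutes k⟩)

theorem isoSpec_secFib (s : X' ⟶ P) (hs : s ≫ q = 𝟙 X') (pt : Spec (X'.residueField a)) :
    ((Fib q a).isoSpec.hom (secFib q a s hs pt)).asIdeal = RingHom.ker (chi q a s hs) := by
  have hnat := Scheme.isoSpec_hom_naturality (secFib q a s hs)
  have h1 : (Fib q a).isoSpec.hom (secFib q a s hs pt) =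
      Spec.map (secFib q a s hs).appTop ((Spec (X'.residueField a)).isoSpec.hom pt) := by
    rw [← Scheme.Hom.comp_apply, ← hnat, Scheme.Hom.comp_apply]
  rw [h1, Spec.map_apply]
  set 𝔮 := (Spec (X'.residueField a)).isoSpec.hom pt with h𝔮
  have hle : RingHom.ker (chi q a s hs) ≤
      (PrimeSpectrum.comap (secFib q a s hs).appTop.hom 𝔮).asIdeal := by
    intro c hc
    rw [RingHom.mem_ker] at hc
    have hc' : (secFib q a s hs).appTop.hom c = 0 := by
      have hinj : Function.Injective (Scheme.ΓSpecIso (X'.residueField a)).hom.hom :=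
        (ConcreteCategory.bijective_of_isIso (Scheme.ΓSpecIso (X'.residueField a)).hom).injective
      apply hinj
      rw [map_zero]
      exact hc
    change (secFib q a s hs).appTop.hom c ∈ 𝔮.asIdeal
    rw [hc']
    exact 𝔮.asIdeal.zero_mem
  exact ((ker_chi_isMaximal q a s hs).eq_of_le
    (PrimeSpectrum.comap (secFib q a s hs).appTop.hom 𝔮).isPrime.ne_top hle).symm

/-- every point of `P` over `a` is hit by one of `n` distinct sections, when `q` has rank `n` -/
theorem exists_sec_apply_eq {n : ℕ} (hn : q.finrank a = n) (s : Fin n → (X' ⟶ P))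
    (hs : ∀ i, s i ≫ q = 𝟙 X') (hinj : ∀ i j, s i a = s j a → i = j)
    (p : P) (hp : q p = a) : ∃ i, s i a = p := by
  obtain ⟨pt⟩ : Nonempty (Spec (X'.residueField a)) := inferInstance
  obtain ⟨z, hz1, hz2⟩ := Scheme.Pullback.exists_preimage_pullback (f := q)
    (g := X'.fromSpecResidueField a) p pt
    (by rw [hp, Scheme.fromSpecResidueField_apply])
  have hχinj : Function.Injective (fun i => chi q a (s i) (hs i)) := by
    intro i j hij
    exact hinj i j (apply_eq_of_chi_eq q a (s i) (s j) (hs i) (hs j) hij)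
  obtain ⟨i, hi⟩ := prime_eq_ker (finrank_fib q a hn) (fun i => chi q a (s i) (hs i)) hχinj
    ((Fib q a).isoSpec.hom z).asIdeal
  refine ⟨i, ?_⟩
  have h2 : (Fib q a).isoSpec.hom z = (Fib q a).isoSpec.hom (secFib q a (s i) (hs i) pt) := by
    apply PrimeSpectrum.ext
    rw [hi, isoSpec_secFib]
  have hinj' : Function.Injective (Fib q a).isoSpec.hom :=
    (ConcreteCategory.bijective_of_isIso ((Scheme.forgetToTop ⋙ forget TopCat).map
      (Fib q a).isoSpec.hom)).injective
  have h3 : z = secFib q a (s i) (hs i) pt := hinj' h2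
  rw [← hz1, h3, ← Scheme.Hom.comp_apply, secFib_fst, Scheme.Hom.comp_apply,
    Scheme.fromSpecResidueField_apply]

end Fibre

section Q

variable {P X' : Scheme.{u}} (q : P ⟶ X') [IsFinite q] [Etale q]

/-- sections of `q` -/
abbrev Sec : Type u := {s : X' ⟶ P // s ≫ q = 𝟙 X'}

variable [Nonempty X'] [ConnectedSpace X'] {n : ℕ}

theorem sec_card (hn : ∀ a, q.finrank a = n) : Finite (Sec q) ∧ Nat.card (Sec q) ≤ n := by
  obtain ⟨a⟩ : Nonempty X' := inferInstance
  have hinj : Function.Injective (fun s : Sec q => chi q a s.1 s.2) := by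
    intro s t hst
    exact Subtype.ext (sec_ext q s.1 t.1 s.2 t.2 a (apply_eq_of_chi_eq q a s.1 t.1 s.2 t.2 hst))
  haveI : Finite (Sec q) := Finite.of_injective _ hinj
  refine ⟨inferInstance, ?_⟩
  calc Nat.card (Sec q) ≤ Nat.card (Γ(Fib q a, ⊤) →ₐ[X'.residueField a] X'.residueField a) :=
        Nat.card_le_card_of_injective _ hinj
    _ ≤ Module.finrank (X'.residueField a) Γ(Fib q a, ⊤) := card_algHom_le_finrank _ _ _
    _ = n := finrank_fib q a (hn a)

theorem sec_card_iff (hn : ∀ a, q.finrank a = n) :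
    Nat.card (Sec q) = n ↔ ∃ e : P ≅ ∐ fun _ : Fin n => X',
      e.hom ≫ Sigma.desc (fun _ : Fin n => 𝟙 X') = q := by
  obtain ⟨hfin, hle⟩ := sec_card q hn
  constructor
  · intro hcard
    let E : Sec q ≃ Fin n := Finite.equivFinOfCardEq hcard
    let s : Fin n → (X' ⟶ P) := fun i => (E.symm i).1
    have hs : ∀ i, s i ≫ q = 𝟙 X' := fun i => (E.symm i).2
    haveI : ∀ i, IsOpenImmersion (s i) := fun i => sec_isOpenImmersion q (s i) (hs i)
    have hne : ∀ i j, i ≠ j → s i ≠ s j := by
      intro i j hij h
      apply hij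
      have : E.symm i = E.symm j := Subtype.ext h
      exact E.symm.injective this
    have hdisj : Pairwise (Function.onFun Disjoint (fun i => (s i).opensRange)) := by
      intro i j hij
      have := sec_disjoint q (s i) (s j) (hs i) (hs j) (hne i j hij)
      rw [Function.onFun, disjoint_iff, TopologicalSpace.Opens.ext_iff]
      simpa [Set.disjoint_iff_inter_eq_empty] using this
    have hcov : ⨆ i, (s i).opensRange = ⊤ := by
      rw [eq_top_iff]
      intro p _
      obtain ⟨i, hi⟩ := exists_sec_apply_eq q (q p) (hn (q p)) s hs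
        (fun i j hij => by
          by_contra hne'
          exact hne i j hne' (sec_ext q (s i) (s j) (hs i) (hs j) (q p) hij)) p rfl
      simp only [TopologicalSpace.Opens.iSup_mk, TopologicalSpace.Opens.mem_mk, Set.mem_iUnion]
      exact ⟨i, q p, hi⟩
    obtain ⟨hc⟩ := nonempty_isColimit_cofanMk_of s hcov hdisj
    let e : P ≅ ∐ fun _ : Fin n => X' := hc.coconePointUniqueUpToIso (colimit.isColimit _)
    refine ⟨e, ?_⟩
    apply Cofan.IsColimit.hom_ext hc
    intro i
    have h1 : s i ≫ e.hom = Sigma.ι (fun _ : Fin n => X') i :=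
      hc.comp_coconePointUniqueUpToIso_hom (colimit.isColimit _) ⟨i⟩
    change s i ≫ e.hom ≫ _ = s i ≫ q
    rw [← Category.assoc, h1, hs i]
    simp
  · rintro ⟨e, he⟩
    let t : Fin n → Sec q := fun i =>
      ⟨Sigma.ι (fun _ : Fin n => X') i ≫ e.inv, by
        rw [← he, Category.assoc, Iso.inv_hom_id_assoc]; simp⟩
    have htinj : Function.Injective t := by
      intro i j hij
      by_contra hne
      have h1 : Sigma.ι (fun _ : Fin n => X') i ≫ e.inv =
          Sigma.ι (fun _ : Fin n => X') j ≫ e.inv := congrArg Subtype.val hij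
      rw [cancel_mono] at h1
      have h2 := disjoint_opensRange_sigmaι (fun _ : Fin n => X') i j hne
      obtain ⟨x⟩ : Nonempty X' := inferInstance
      have h3 : Sigma.ι (fun _ : Fin n => X') i x ∈
          (Sigma.ι (fun _ : Fin n => X') i).opensRange ⊓
            (Sigma.ι (fun _ : Fin n => X') j).opensRange :=
        ⟨⟨x, rfl⟩, ⟨x, by rw [h1]⟩⟩
      rw [disjoint_iff.1 h2] at h3
      exact h3
    have h4 : n ≤ Nat.card (Sec q) := by
      have := Nat.card_le_card_of_injective t htinj
      simpa using this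
    exact le_antisymm hle h4

end Q

section Main

variable {X Y X' : Scheme.{u}} (f : X ⟶ Y) (φ : X' ⟶ Y)

/-- `Y`-morphisms `X' ⟶ X` are the sections of the base change. -/
noncomputable def overEquivSec : (Over.mk φ ⟶ Over.mk f) ≃ Sec (pullback.snd f φ) where
  toFun σ := ⟨pullback.lift σ.left (𝟙 X') (by simpa using Over.w σ), pullback.lift_snd _ _ _⟩
  invFun s := Over.homMk (s.1 ≫ pullback.fst f φ) (by
    have h := s.2
    simp only [Over.mk_left, Over.mk_hom, Category.assoc, pullback.condition]
    rw [← Category.assoc, h, Category.id_comp])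
  left_inv σ := by
    apply Over.OverMorphism.ext
    simp only [Over.homMk_left]
    exact pullback.lift_fst _ _ _
  right_inv s := by
    apply Subtype.ext
    apply pullback.hom_ext
    · simp only [Over.homMk_left]
      exact pullback.lift_fst _ _ _
    · simp only [Over.homMk_left]
      rw [pullback.lift_snd]
      exact s.2.symm

end Main

end helpers

/-- Let f : X → Y be a finite étale morphism of degree n (f_*O_X locally free of rank n) and φ : X' → Y
a morphism from a nonempty connected scheme X'. Then the Y-morphisms X' → X (equivalently, the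
sections of X ×_Y X' → X') form a finite set with at most n elements, and there are exactly n of
them if and only if the covering X ×_Y X' → X' is trivial, i.e. X ×_Y X' is isomorphic over X' to
the disjoint union of n copies of X'. The source works with separated Noetherian schemes over an
algebraically closed field of characteristic zero; that setting is not needed for the statement. -/
theorem result
    {X Y X' : Scheme.{u}} (f : X ⟶ Y) [IsFinite f] [Etale f] (n : ℕ)
    (hdeg : FlatMod.IsFinLocFreeOfRank n ((Scheme.Modules.pushforward f).obj (Coh.structureModule X)))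
    (φ : X' ⟶ Y) [Nonempty X'] [ConnectedSpace X'] :
    Finite (Over.mk φ ⟶ Over.mk f) ∧ Nat.card (Over.mk φ ⟶ Over.mk f) ≤ n ∧
      (Nat.card (Over.mk φ ⟶ Over.mk f) = n ↔
        ∃ e : pullback f φ ≅ ∐ fun _ : Fin n => X',
          e.hom ≫ Sigma.desc (fun _ : Fin n => 𝟙 X') = pullback.snd f φ) := by
  have hcover : FinCov.IsCover f n := (Groth.Agent.S19692.result f n).2 ⟨inferInstance, hdeg⟩
  have hn : ∀ a, (pullback.snd f φ).finrank a = n := by
    intro a
    haveI : Flat f := hcover.1.2.1
    rw [Scheme.Hom.finrank_pullback_snd]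
    exact hcover.2 (φ a)
  obtain ⟨hfin, hle⟩ := sec_card (pullback.snd f φ) hn
  have hcard : Nat.card (Over.mk φ ⟶ Over.mk f) = Nat.card (Sec (pullback.snd f φ)) :=
    Nat.card_congr (overEquivSec f φ)
  refine ⟨Finite.of_equiv _ (overEquivSec f φ).symm, hcard ▸ hle, ?_⟩
  rw [hcard]
  exact sec_card_iff (pullback.snd f φ) hn

end Groth.Agent.S18918
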