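import Groth.Statements.S18925
import Mathlib

set_option autoImplicit false
universe u
open ResHyp

set_option linter.unusedSectionVars false

namespace Groth.Agent.S18925Aux
open Polynomial

set_option linter.unusedSectionVars false

section basics
variable {F : Type u} [Field F]

/-- polynomial with prescribed coefficient vector -/
noncomputable def P {N : ℕ} (a : Fin N → F) : F[X] := ∑ i : Fin N, C (a i) * X ^ (i : ℕ)

lemma P_eq {N : ℕ} (a : Fin N → F) : P a = ((degreeLTEquiv F N).symm a : F[X]) := by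
  simp [P, degreeLTEquiv, C_mul_X_pow_eq_monomial]

lemma P_degree_lt {N : ℕ} (a : Fin N → F) : (P a).degree < N := by
  rw [P_eq]; exact mem_degreeLT.1 (Subtype.property _)

lemma P_natDegree_le {N : ℕ} (a : Fin (N+1) → F) : (P a).natDegree ≤ N := by
  have := P_degree_lt a
  by_cases h : P a = 0
  · simp [h]
  · rw [degree_eq_natDegree h] at this
    exact Nat.lt_succ_iff.1 (by exact_mod_cast this)

lemma P_injective {N : ℕ} : Function.Injective (P : (Fin N → F) → F[X]) := by
  intro a b hab
  rw [P_eq, P_eq] at hab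
  exact (degreeLTEquiv F N).symm.injective (Subtype.ext hab)

lemma P_vec {N : ℕ} (p : F[X]) (hp : p.degree < N) : P (fun i : Fin N => p.coeff i) = p := by
  rw [P_eq]
  have := (degreeLTEquiv F N).symm_apply_apply ⟨p, mem_degreeLT.2 hp⟩
  exact congrArg Subtype.val this

lemma P_coeff {N : ℕ} (a : Fin N → F) (i : Fin N) : (P a).coeff i = a i := by
  have := (degreeLTEquiv F N).apply_symm_apply a
  rw [P_eq]
  exact congrFun this i

lemma P_eval {N : ℕ} (a : Fin N → F) (r : F) : (P a).eval r = ∑ i : Fin N, a i * r ^ (i : ℕ) := by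
  simp [P, eval_finsetSum]

lemma P_smul {N : ℕ} (c : F) (a : Fin N → F) : P (c • a) = C c * P a := by
  simp [P, Finset.mul_sum, mul_assoc]

lemma P_two (h : Fin 2 → F) : P h = C (h 0) + C (h 1) * X := by
  simp [P, Fin.sum_univ_succ]

lemma P_three (a : Fin 3 → F) : P a = C (a 0) + C (a 1) * X + C (a 2) * X ^ 2 := by
  simp [P, Fin.sum_univ_succ, add_assoc]

/-- linear `h` with nonzero leading coefficient -/
lemma res_lin_right (f : F[X]) (hf : f.natDegree ≤ 2) (h : Fin 2 → F) (h1 : h 1 ≠ 0) :
    resultant f (P h) 2 1 = (h 1) ^ 2 * f.eval (-(h 0) / (h 1)) := by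
  have : P h = C (h 1) * (X - C (-(h 0) / (h 1))) := by
    rw [P_two, mul_sub, ← C_mul]
    have : h 1 * (-(h 0) / h 1) = - h 0 := by field_simp
    rw [this, C_neg]; ring
  rw [this, resultant_C_mul_right, resultant_X_sub_C_right _ _ _ hf]
  ring

lemma res_const_right (f : F[X]) (h : Fin 2 → F) (h1 : h 1 = 0) :
    resultant f (P h) 2 1 = f.coeff 2 * (h 0) ^ 2 := by
  rw [P_two, h1, C_0, zero_mul, add_zero, resultant_C_right]
  ring

/-- degree-one `f` -/
lemma res_lin_left (a : Fin 3 → F) (a2 : a 2 = 0) (a1 : a 1 ≠ 0) (g : F[X]) (n : ℕ)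
    (hg : g.natDegree ≤ n) :
    resultant (P a) g 2 n = (-1) ^ n * g.coeff n * ((a 1) ^ n * g.eval (-(a 0) / (a 1))) := by
  have hP : P a = C (a 1) * (X - C (-(a 0) / (a 1))) := by
    rw [P_three, a2, mul_sub, ← C_mul]
    have : a 1 * (-(a 0) / a 1) = - a 0 := by field_simp
    rw [this, C_neg]; simp; ring
  have hd : (P a).natDegree ≤ 1 := by
    rw [hP]
    refine (natDegree_C_mul_le _ _).trans ?_
    exact natDegree_X_sub_C_le _
  rw [resultant_succ_left_deg _ _ _ _ hd, hP, resultant_C_mul_left, resultant_X_sub_C_left _ _ _ hg]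

lemma res_const_left (a : Fin 3 → F) (a2 : a 2 = 0) (a1 : a 1 = 0) (g : F[X]) (n : ℕ) :
    resultant (P a) g 2 n = g.coeff n ^ 2 * (a 0) ^ n := by
  rw [P_three, a2, a1, C_0, zero_mul, zero_mul, add_zero, add_zero, resultant_C_left, pow_mul]
  simp

/-- division step -/
lemma res_div (f : F[X]) (hf : f.natDegree ≤ 2) (k : ℕ) (h : Fin 2 → F) (s : Fin (k + 1) → F) :
    resultant f (P h + f * P s) 2 (k + 2) = f.coeff 2 ^ (k + 1) * resultant f (P h) 2 1 := by
  rw [resultant_add_mul_right _ _ _ _ _ (by have := P_natDegree_le s; omega) hf]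
  have : k + 2 = 1 + (k + 1) := by ring
  rw [this, resultant_add_right_deg _ _ _ _ _ (P_natDegree_le h)]

noncomputable def Θ (f : F[X]) (k : ℕ) (x : (Fin (k + 1) → F) × (Fin 2 → F)) : Fin (k + 3) → F :=
  fun i => (P x.2 + f * P x.1).coeff i

lemma theta_P (f : F[X]) (hf : f.natDegree ≤ 2) (k : ℕ) (x : (Fin (k + 1) → F) × (Fin 2 → F)) :
    P (Θ f k x) = P x.2 + f * P x.1 := by
  apply P_vec
  have h1 : (P x.2 + f * P x.1).natDegree ≤ k + 2 := by
    refine (natDegree_add_le _ _).trans (max_le ?_ ?_)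
    · have := P_natDegree_le x.2; omega
    · refine natDegree_mul_le.trans ?_
      have := P_natDegree_le x.1; omega
  refine lt_of_le_of_lt (degree_le_of_natDegree_le h1) ?_
  exact_mod_cast Nat.lt_succ_self (k + 2)

lemma theta_inj (f : F[X]) (hf : f.natDegree = 2) (k : ℕ) : Function.Injective (Θ f k) := by
  rintro ⟨s, h⟩ ⟨s', h'⟩ hx
  have e : P h + f * P s = P h' + f * P s' := by
    have := congrArg P hx
    rwa [theta_P f hf.le, theta_P f hf.le] at this
  have e2 : f * (P s - P s') = P h' - P h := by linear_combination e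
  have hs : P s = P s' := by
    by_contra hne
    have hne' : P s - P s' ≠ 0 := sub_ne_zero.2 hne
    have hf0 : f ≠ 0 := by rintro rfl; simp at hf
    have h1 : (f * (P s - P s')).natDegree = 2 + (P s - P s').natDegree := by
      rw [natDegree_mul hf0 hne', hf]
    have h2 : (P h' - P h).natDegree ≤ 1 := by
      refine (natDegree_sub_le _ _).trans (max_le (P_natDegree_le _) (P_natDegree_le _))
    rw [e2] at h1
    omega
  have hh : P h = P h' := by
    rw [hs] at e; exact add_right_cancel e
  rw [P_injective hs, P_injective hh]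

end basics

/-- fibre counting for surjective linear maps -/
lemma card_preimage {F V W : Type*} [Field F] [AddCommGroup V] [Module F V] [AddCommGroup W]
    [Module F W] [Finite V] [Finite W] (Φ : V →ₗ[F] W) (hΦ : Function.Surjective Φ) (S : Set W) :
    Nat.card {v : V // Φ v ∈ S} * Nat.card W = Nat.card S * Nat.card V := by
  obtain ⟨g, hg⟩ := LinearMap.exists_rightInverse_of_surjective Φ (LinearMap.range_eq_top.2 hΦ)
  have hg' : ∀ w, Φ (g w) = w := fun w => LinearMap.congr_fun hg w
  let e : V ≃ W × LinearMap.ker Φ :=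
    { toFun := fun v => (Φ v, ⟨v - g (Φ v), by simp [hg']⟩)
      invFun := fun x => g x.1 + x.2.1
      left_inv := fun v => by simp
      right_inv := fun x => by
        obtain ⟨w, ⟨k, hk⟩⟩ := x
        have hk' : Φ k = 0 := hk
        ext <;> simp [hg', hk'] }
  let e' : {v : V // Φ v ∈ S} ≃ S × LinearMap.ker Φ :=
    { toFun := fun v => (⟨Φ v.1, v.2⟩, (e v.1).2)
      invFun := fun x => ⟨e.symm (x.1.1, x.2), by
        obtain ⟨⟨w, hw⟩, ⟨k, hk⟩⟩ := x
        have hk' : Φ k = 0 := hk
        simp [e, hg', hk', hw]⟩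
      left_inv := fun v => by
        apply Subtype.ext
        exact e.symm_apply_apply v.1
      right_inv := fun x => by
        obtain ⟨⟨w, hw⟩, ⟨k, hk⟩⟩ := x
        have hk' : Φ k = 0 := hk
        ext <;> simp [e, hg', hk'] }
  rw [Nat.card_congr e', Nat.card_congr e, Nat.card_prod, Nat.card_prod]
  ring

section counting
variable {F : Type u} [Field F] [Finite F]

lemma card_ne_zero : Nat.card {x : F // x ≠ 0} = Nat.card F - 1 := by
  classical
  have := Fintype.ofFinite F
  rw [Nat.card_eq_fintype_card, Nat.card_eq_fintype_card, Fintype.card_subtype_compl]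
  simp

lemma card_pi (N : ℕ) : Nat.card (Fin N → F) = Nat.card F ^ N := by
  rw [Nat.card_fun]; simp

lemma card_S2 :
    Nat.card {w : F × F | w.1 ≠ 0 ∧ w.2 ≠ 0} = (Nat.card F - 1) * (Nat.card F - 1) := by
  have e : {w : F × F | w.1 ≠ 0 ∧ w.2 ≠ 0} ≃ {x : F // x ≠ 0} × {x : F // x ≠ 0} :=
    { toFun := fun w => (⟨w.1.1, w.2.1⟩, ⟨w.1.2, w.2.2⟩)
      invFun := fun x => ⟨(x.1.1, x.2.1), ⟨x.1.2, x.2.2⟩⟩
      left_inv := fun w => rfl
      right_inv := fun x => rfl }
  rw [Nat.card_congr e, Nat.card_prod, card_ne_zero]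

/-- the evaluation/last-coefficient pair, as a linear map -/
noncomputable def evLast (M : ℕ) (r : F) : (Fin (M + 2) → F) →ₗ[F] F × F :=
  { toFun := fun b => (b (Fin.last _), ∑ i, b i * r ^ (i : ℕ))
    map_add' := fun b c => by simp [add_mul, Finset.sum_add_distrib]
    map_smul' := fun c b => by simp [Finset.mul_sum, mul_assoc] }

lemma evLast_surj (M : ℕ) (r : F) : Function.Surjective (evLast M r) := by
  rintro ⟨x, y⟩
  refine ⟨Pi.single (Fin.last _) x + Pi.single 0 (y - x * r ^ (M + 1)), ?_⟩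
  have h0 : (0 : Fin (M + 2)) ≠ Fin.last (M + 1) := by
    intro h; have := congrArg Fin.val h; simp at this
  simp [evLast, Pi.single_apply, h0.symm, add_mul, Finset.sum_add_distrib, ite_mul]

lemma lemL (M : ℕ) (r : F) :
    Nat.card {b : Fin (M + 2) → F // b (Fin.last _) ≠ 0 ∧ (P b).eval r ≠ 0} =
      (Nat.card F - 1) * (Nat.card F - 1) * Nat.card F ^ M := by
  have h := card_preimage (evLast M r) (evLast_surj M r) {w : F × F | w.1 ≠ 0 ∧ w.2 ≠ 0}
  rw [card_S2, Nat.card_prod, card_pi] at h
  have hq : 0 < Nat.card F := Nat.card_pos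
  have e : {b : Fin (M + 2) → F // b (Fin.last _) ≠ 0 ∧ (P b).eval r ≠ 0} =
      {v : Fin (M + 2) → F // evLast M r v ∈ {w : F × F | w.1 ≠ 0 ∧ w.2 ≠ 0}} := by
    congr 1; ext b; simp [evLast, P_eval]
  rw [e]
  have : Nat.card {v : Fin (M + 2) → F // evLast M r v ∈ {w : F × F | w.1 ≠ 0 ∧ w.2 ≠ 0}} *
      (Nat.card F * Nat.card F)
      = ((Nat.card F - 1) * (Nat.card F - 1) * Nat.card F ^ M) * (Nat.card F * Nat.card F) := by
    rw [h]; ring
  exact Nat.eq_of_mul_eq_mul_right (Nat.mul_pos hq hq) this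

lemma card_coord_ne (M : ℕ) (j : Fin (M + 1)) :
    Nat.card {b : Fin (M + 1) → F // b j ≠ 0} = (Nat.card F - 1) * Nat.card F ^ M := by
  have hs : Function.Surjective (LinearMap.proj (R := F) (φ := fun _ : Fin (M + 1) => F) j) :=
    fun x => ⟨Pi.single j x, by simp⟩
  have h := card_preimage (LinearMap.proj (R := F) (φ := fun _ : Fin (M + 1) => F) j) hs
    {x : F | x ≠ 0}
  have hq : 0 < Nat.card F := Nat.card_pos
  have e : {b : Fin (M + 1) → F // b j ≠ 0} =
      {v : Fin (M + 1) → F // LinearMap.proj (R := F) (φ := fun _ : Fin (M + 1) => F) j v ∈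
        {x : F | x ≠ 0}} := by
    congr 1
  rw [e]
  have h2 : Nat.card ({x : F | x ≠ 0} : Set F) = Nat.card F - 1 := card_ne_zero
  rw [h2, card_pi] at h
  have : Nat.card {v : Fin (M + 1) → F // LinearMap.proj (R := F) (φ := fun _ : Fin (M + 1) => F) j v ∈
        {x : F | x ≠ 0}} * Nat.card F = ((Nat.card F - 1) * Nat.card F ^ M) * Nat.card F := by
    rw [h]; ring
  exact Nat.eq_of_mul_eq_mul_right hq this

lemma theta_bij (f : F[X]) (hf : f.natDegree = 2) (k : ℕ) : Function.Bijective (Θ f k) := by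
  have := Fintype.ofFinite F
  classical
  rw [Fintype.bijective_iff_injective_and_card]
  refine ⟨theta_inj f hf k, ?_⟩
  simp only [Fintype.card_prod, Fintype.card_pi, Finset.prod_const, Finset.card_univ,
    Fintype.card_fin]
  ring

/-- Count for fixed `f` of exact degree two. -/
lemma cntA (f : F[X]) (hf : f.natDegree = 2) (k : ℕ) :
    Nat.card {b : Fin (k + 3) → F // resultant f (P b) 2 (k + 2) ≠ 0} =
      Nat.card F ^ (k + 1) * Nat.card {h : Fin 2 → F // resultant f (P h) 2 1 ≠ 0} := by
  have hc : f.coeff 2 ≠ 0 := by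
    rw [← hf]; simp only [coeff_natDegree, ne_eq, leadingCoeff_eq_zero]
    rintro rfl; simp at hf
  let e := Equiv.ofBijective _ (theta_bij f hf k)
  have e1 : {x : (Fin (k + 1) → F) × (Fin 2 → F) // resultant f (P x.2) 2 1 ≠ 0} ≃
      {b : Fin (k + 3) → F // resultant f (P b) 2 (k + 2) ≠ 0} :=
    e.subtypeEquiv (fun x => by
      show _ ↔ resultant f (P (Θ f k x)) 2 (k + 2) ≠ 0
      rw [theta_P f hf.le, res_div f hf.le]
      simp [hc])
  have e2 : {x : (Fin (k + 1) → F) × (Fin 2 → F) // resultant f (P x.2) 2 1 ≠ 0} ≃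
      (Fin (k + 1) → F) × {h : Fin 2 → F // resultant f (P h) 2 1 ≠ 0} :=
    { toFun := fun x => (x.1.1, ⟨x.1.2, x.2⟩)
      invFun := fun y => ⟨(y.1, y.2.1), y.2.2⟩
      left_inv := fun x => rfl
      right_inv := fun y => rfl }
  rw [← Nat.card_congr e1, Nat.card_congr e2, Nat.card_prod, card_pi]

end counting


section assembly
variable {F : Type u} [Field F] [Fintype F]

lemma card_prod_fst {A B : Type*} [Fintype A] [Finite B] (p : A × B → Prop) :
    Nat.card {x : A × B // p x} = ∑ a, Nat.card {b : B // p (a, b)} := by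
  rw [← Nat.card_sigma]
  exact Nat.card_congr (Equiv.subtypeProdEquivSigmaSubtype (fun a b => p (a, b)))

lemma card_prod_snd {A B : Type*} [Finite A] [Fintype B] (p : A × B → Prop) :
    Nat.card {x : A × B // p x} = ∑ b, Nat.card {a : A // p (a, b)} := by
  rw [← card_prod_fst (fun x : B × A => p (x.2, x.1))]
  exact Nat.card_congr ((Equiv.prodComm A B).subtypeEquiv (fun x => Iff.rfl))

lemma sum_ite_const {A : Type*} [Fintype A] (p : A → Prop) [DecidablePred p] (c : ℕ) :
    ∑ a, (if p a then c else 0) = Nat.card {a // p a} * c := by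
  rw [Nat.card_eq_fintype_card, Fintype.card_subtype, Finset.sum_ite, Finset.sum_const,
    Finset.sum_const_zero, add_zero, smul_eq_mul]

lemma card_h_a : Nat.card {h : Fin 2 → F // h 1 = 0 ∧ h 0 ≠ 0} = Nat.card F - 1 := by
  rw [← card_ne_zero]
  refine Nat.card_congr
    { toFun := fun h => ⟨h.1 0, h.2.2⟩
      invFun := fun x => ⟨![x.1, 0], by simp [x.2]⟩
      left_inv := fun h => by
        apply Subtype.ext
        funext i
        fin_cases i
        · simp
        · simp [h.2.1]
      right_inv := fun x => by simp }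

lemma card_a_b : Nat.card {a : Fin 3 → F // a 2 = 0 ∧ a 1 ≠ 0} = (Nat.card F - 1) * Nat.card F := by
  rw [← card_ne_zero, ← Nat.card_prod]
  refine Nat.card_congr
    { toFun := fun a => (⟨a.1 1, a.2.2⟩, a.1 0)
      invFun := fun y => ⟨![y.2, y.1.1, 0], by simp [y.1.2]⟩
      left_inv := fun a => by
        apply Subtype.ext
        funext i
        fin_cases i
        · simp
        · simp
        · simp [a.2.1]
      right_inv := fun y => by simp }

lemma card_a_c : Nat.card {a : Fin 3 → F // a 2 = 0 ∧ a 1 = 0 ∧ a 0 ≠ 0} = Nat.card F - 1 := by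
  rw [← card_ne_zero]
  refine Nat.card_congr
    { toFun := fun a => ⟨a.1 0, a.2.2.2⟩
      invFun := fun x => ⟨![x.1, 0, 0], by simp [x.2]⟩
      left_inv := fun a => by
        apply Subtype.ext
        funext i
        fin_cases i
        · simp
        · simp [a.2.2.1]
        · simp [a.2.1]
      right_inv := fun x => by simp }

lemma P_coeff_two (a : Fin 3 → F) : (P a).coeff 2 = a 2 := P_coeff a 2

lemma P_coeff_last {N : ℕ} (b : Fin (N + 1) → F) : (P b).coeff N = b (Fin.last N) := by
  have := P_coeff b (Fin.last N)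
  simpa using this

lemma natDegree_P_three (a : Fin 3 → F) (h : a 2 ≠ 0) : (P a).natDegree = 2 := by
  refine le_antisymm (P_natDegree_le a) (le_natDegree_of_ne_zero ?_)
  rw [P_coeff_two]; exact h

open Classical in
lemma cnt_a (k : ℕ) (a : Fin 3 → F) :
    Nat.card {b : Fin (k + 3) → F // resultant (P a) (P b) 2 (k + 2) ≠ 0} =
      (if a 2 ≠ 0 then Nat.card F ^ (k + 1) *
          Nat.card {h : Fin 2 → F // resultant (P a) (P h) 2 1 ≠ 0} else 0)
      + (if a 2 = 0 ∧ a 1 ≠ 0 then
          (Nat.card F - 1) * (Nat.card F - 1) * Nat.card F ^ (k + 1) else 0)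
      + (if a 2 = 0 ∧ a 1 = 0 ∧ a 0 ≠ 0 then (Nat.card F - 1) * Nat.card F ^ (k + 2) else 0) := by
  by_cases h2 : a 2 = 0
  · by_cases h1 : a 1 = 0
    · by_cases h0 : a 0 = 0
      · simp only [h2, h1, h0, ne_eq, not_true_eq_false, if_false, and_false, and_true, add_zero]
        have : IsEmpty {b : Fin (k + 3) → F // resultant (P a) (P b) 2 (k + 2) ≠ 0} := by
          constructor
          rintro ⟨b, hb⟩
          apply hb
          rw [res_const_left a h2 h1, h0]
          simp
        simp
      · simp only [h2, h1, h0, ne_eq, not_true_eq_false, not_false_eq_true, if_false, if_true,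
          and_false, and_true, and_self, zero_add]
        rw [← card_coord_ne (k + 2) (Fin.last (k + 2))]
        refine Nat.card_congr (Equiv.subtypeEquivRight (fun b => ?_))
        rw [res_const_left a h2 h1, P_coeff_last]
        simp [h0]
    · simp only [h2, h1, ne_eq, not_true_eq_false, not_false_eq_true, if_false, if_true,
          and_false, and_true, and_self, zero_add, add_zero, false_and]
      rw [← lemL (k + 1) (-(a 0) / (a 1))]
      refine Nat.card_congr (Equiv.subtypeEquivRight (fun b => ?_))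
      rw [res_lin_left a h2 h1 _ _ (P_natDegree_le b), P_coeff_last]
      simp [h1]
  · simp only [h2, ne_eq, not_false_eq_true, if_true, false_and, if_false, add_zero]
    exact cntA (P a) (natDegree_P_three a h2) k

open Classical in
lemma cnt_h (h : Fin 2 → F) :
    Nat.card {a : Fin 3 → F // a 2 ≠ 0 ∧ resultant (P a) (P h) 2 1 ≠ 0} =
      (if h 1 ≠ 0 then (Nat.card F - 1) * (Nat.card F - 1) * Nat.card F else 0)
      + (if h 1 = 0 ∧ h 0 ≠ 0 then (Nat.card F - 1) * Nat.card F ^ 2 else 0) := by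
  by_cases h1 : h 1 = 0
  · by_cases h0 : h 0 = 0
    · simp only [h1, h0, ne_eq, not_true_eq_false, if_false, and_false, add_zero]
      have : IsEmpty {a : Fin 3 → F // a 2 ≠ 0 ∧ resultant (P a) (P h) 2 1 ≠ 0} := by
        constructor
        rintro ⟨a, -, hb⟩
        apply hb
        rw [res_const_right _ h h1, h0]
        simp
      simp
    · simp only [h1, h0, ne_eq, not_true_eq_false, not_false_eq_true, if_false, if_true,
        and_self, zero_add]
      rw [← card_coord_ne 2 (2 : Fin 3)]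
      refine Nat.card_congr (Equiv.subtypeEquivRight (fun a => ?_))
      rw [res_const_right _ h h1, P_coeff_two]
      simp [h0]
  · simp only [h1, ne_eq, not_false_eq_true, if_true, false_and, if_false, add_zero]
    have := lemL (F := F) 1 (-(h 0) / (h 1))
    rw [pow_one] at this
    rw [← this]
    refine Nat.card_congr (Equiv.subtypeEquivRight (fun a => ?_))
    rw [res_lin_right _ (P_natDegree_le a) h h1]
    have : (Fin.last 2 : Fin 3) = 2 := rfl
    simp [h1, this]

open Classical in
lemma total (k : ℕ) :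
    Nat.card {p : (Fin 3 → F) × (Fin (k + 3) → F) //
        resultant (P p.1) (P p.2) 2 (k + 2) ≠ 0} =
      Nat.card F ^ (k + 1) *
        ((Nat.card F - 1) * Nat.card F * ((Nat.card F - 1) * (Nat.card F - 1) * Nat.card F)
          + (Nat.card F - 1) * ((Nat.card F - 1) * Nat.card F ^ 2))
      + (Nat.card F - 1) * Nat.card F *
          ((Nat.card F - 1) * (Nat.card F - 1) * Nat.card F ^ (k + 1))
      + (Nat.card F - 1) * ((Nat.card F - 1) * Nat.card F ^ (k + 2)) := by
  rw [card_prod_fst (fun p : (Fin 3 → F) × (Fin (k + 3) → F) =>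
    resultant (P p.1) (P p.2) 2 (k + 2) ≠ 0)]
  simp only [cnt_a]
  rw [Finset.sum_add_distrib, Finset.sum_add_distrib, sum_ite_const, sum_ite_const, card_a_b,
    card_a_c]
  congr 2
  -- the degree-two part
  have h1 : ∀ a : Fin 3 → F,
      (if a 2 ≠ 0 then Nat.card F ^ (k + 1) *
          Nat.card {h : Fin 2 → F // resultant (P a) (P h) 2 1 ≠ 0} else 0) =
      Nat.card F ^ (k + 1) *
        Nat.card {h : Fin 2 → F // a 2 ≠ 0 ∧ resultant (P a) (P h) 2 1 ≠ 0} := by
    intro a
    by_cases h2 : a 2 = 0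
    · simp [h2]
    · simp [h2]
  simp only [h1]
  rw [← Finset.mul_sum]
  congr 1
  rw [← card_prod_fst (fun p : (Fin 3 → F) × (Fin 2 → F) =>
    p.1 2 ≠ 0 ∧ resultant (P p.1) (P p.2) 2 1 ≠ 0),
    card_prod_snd (fun p : (Fin 3 → F) × (Fin 2 → F) =>
    p.1 2 ≠ 0 ∧ resultant (P p.1) (P p.2) 2 1 ≠ 0)]
  simp only [cnt_h]
  rw [Finset.sum_add_distrib, sum_ite_const, sum_ite_const, card_h_a]
  have := card_coord_ne (F := F) 1 (1 : Fin 2)
  rw [pow_one] at this
  rw [this]

lemma arith (q k : ℕ) (hq : 2 ≤ q) :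
    q ^ (k + 1) * ((q - 1) * q * ((q - 1) * (q - 1) * q) + (q - 1) * ((q - 1) * q ^ 2))
      + (q - 1) * q * ((q - 1) * (q - 1) * q ^ (k + 1))
      + (q - 1) * ((q - 1) * q ^ (k + 2)) =
    q ^ (k + 2 + 4) - q ^ (k + 2 + 3) - q ^ (k + 2 + 2) + q ^ (k + 2 + 1) := by
  obtain ⟨r, rfl⟩ : ∃ r, q = r + 2 := ⟨q - 2, by omega⟩
  have h1 : r + 2 - 1 = r + 1 := by omega
  rw [h1]
  have e1 : (r + 2) ^ (k + 2 + 4) = (r + 2) ^ (k + 2 + 3) + (r + 2) ^ (k + 2 + 2) +
      (r + 2) ^ (k + 2 + 2) * (r ^ 2 + 3 * r + 1) := by ring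
  have e2 : (r + 2) ^ (k + 1) * ((r + 1) * (r + 2) * ((r + 1) * (r + 1) * (r + 2)) +
      (r + 1) * ((r + 1) * (r + 2) ^ 2))
      + (r + 1) * (r + 2) * ((r + 1) * (r + 1) * (r + 2) ^ (k + 1))
      + (r + 1) * ((r + 1) * (r + 2) ^ (k + 2)) =
      (r + 2) ^ (k + 2 + 2) * (r ^ 2 + 3 * r + 1) + (r + 2) ^ (k + 2 + 1) := by ring
  rw [e2, e1]
  omega

end assembly

end Groth.Agent.S18925Aux

namespace Groth.Agent.S18925

/-- Let F be a finite field with q elements and let n ≥ 2. Count the pairs (f, g) where f is a binary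
quadratic form and g a binary form of degree n over F, recorded by their coefficient vectors of
lengths 3 and n + 1 (leading coefficients may vanish), whose resultant — the Sylvester determinant
of the two coefficient vectors with size parameters 2 and n — is nonzero, i.e. f and g have no
common zero on the projective line. The number of such pairs is q ^ (n + 4) - q ^ (n + 3) - q ^ (n +
2) + q ^ (n + 1). (The source's result is the compactly supported ℓ-adic cohomology of this locus:
one-dimensional of Tate weights n + 4, n + 3, n + 2, n + 1 in degrees 2n + 8, 2n + 7, 2n + 5, 2n + 4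
and zero elsewhere; this row keeps only the resulting point count.) -/
theorem result (F : Type u) [Field F] [Fintype F] (n : ℕ) (h2 : 2 ≤ n) :
    Nat.card {p : (Fin 3 → F) × (Fin (n + 1) → F) //
      Polynomial.resultant (∑ i : Fin 3, Polynomial.C (p.1 i) * Polynomial.X ^ (i : ℕ))
        (∑ j : Fin (n + 1), Polynomial.C (p.2 j) * Polynomial.X ^ (j : ℕ)) 2 n ≠ 0} =
      Fintype.card F ^ (n + 4) - Fintype.card F ^ (n + 3) - Fintype.card F ^ (n + 2) + Fintype.card F ^ (n + 1) := by
  obtain ⟨k, rfl⟩ : ∃ k, n = k + 2 := ⟨n - 2, by omega⟩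
  have hq : 2 ≤ Nat.card F := by
    rw [Nat.card_eq_fintype_card]; exact Fintype.one_lt_card
  have := Groth.Agent.S18925Aux.total (F := F) k
  rw [Groth.Agent.S18925Aux.arith (Nat.card F) k hq, Nat.card_eq_fintype_card (α := F)] at this
  exact this

end Groth.Agent.S18925
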