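import Groth.Statements.S18924
import Mathlib
import Groth.Agent.S18925

set_option autoImplicit false
universe u
open ResHyp

set_option linter.unusedSectionVars false

namespace Groth.Agent.S18924Aux
open Polynomial Groth.Agent.S18925Aux

variable {F : Type u} [Field F] [Fintype F]

/-- the resultant on coefficient vectors -/
noncomputable def R (n : ℕ) (p : (Fin 3 → F) × (Fin (n + 1) → F)) : F :=
  resultant (P p.1) (P p.2) 2 n

omit [Fintype F] in
lemma R_smul (n : ℕ) (l m : F) (p : (Fin 3 → F) × (Fin (n + 1) → F)) :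
    R n (l • p.1, m • p.2) = l ^ n * m ^ 2 * R n p := by
  unfold R
  rw [P_smul, P_smul, resultant_C_mul_left, resultant_C_mul_right]
  ring

/-- fibres over nonzero values all have the same size (n odd) -/
lemma card_fibre (m : ℕ) (c : F) (hc : c ≠ 0) :
    Nat.card {p : (Fin 3 → F) × (Fin (2 * m + 1 + 1) → F) // R (2 * m + 1) p = c} =
      Nat.card {p : (Fin 3 → F) × (Fin (2 * m + 1 + 1) → F) // R (2 * m + 1) p = 1} := by
  have hmul : ∀ d : F, d ≠ 0 → d ^ (2 * m + 1) * ((d⁻¹) ^ m) ^ 2 = d := by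
    intro d hd
    rw [← pow_mul, mul_comm m 2, pow_succ, mul_assoc, mul_comm d, ← mul_assoc, ← mul_pow,
      mul_inv_cancel₀ hd, one_pow, one_mul]
  symm
  refine Nat.card_congr
    { toFun := fun p => ⟨(c • p.1.1, (c⁻¹) ^ m • p.1.2), by
        rw [R_smul, p.2, mul_one, hmul c hc]⟩
      invFun := fun p => ⟨(c⁻¹ • p.1.1, ((c⁻¹)⁻¹) ^ m • p.1.2), by
        rw [R_smul, p.2, hmul c⁻¹ (inv_ne_zero hc), inv_mul_cancel₀ hc]⟩
      left_inv := fun p => by
        apply Subtype.ext
        ext i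
        · simp [smul_smul, hc]
        · simp [smul_smul, hc, ← mul_pow]
      right_inv := fun p => by
        apply Subtype.ext
        ext i
        · simp [smul_smul, hc]
        · simp [smul_smul, hc, ← mul_pow] }

open Classical in
lemma card_ne (m : ℕ) :
    Nat.card {p : (Fin 3 → F) × (Fin (2 * m + 1 + 1) → F) // R (2 * m + 1) p ≠ 0} =
      (Nat.card F - 1) *
        Nat.card {p : (Fin 3 → F) × (Fin (2 * m + 1 + 1) → F) // R (2 * m + 1) p = 1} := by
  have e : {p : (Fin 3 → F) × (Fin (2 * m + 1 + 1) → F) // R (2 * m + 1) p ≠ 0} ≃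
      {x : F × ((Fin 3 → F) × (Fin (2 * m + 1 + 1) → F)) // x.1 ≠ 0 ∧ R (2 * m + 1) x.2 = x.1} :=
    { toFun := fun p => ⟨(R (2 * m + 1) p.1, p.1), ⟨p.2, rfl⟩⟩
      invFun := fun x => ⟨x.1.2, by rw [x.2.2]; exact x.2.1⟩
      left_inv := fun p => rfl
      right_inv := fun x => by
        apply Subtype.ext
        exact Prod.ext x.2.2 rfl }
  rw [Nat.card_congr e, card_prod_fst (fun x : F × ((Fin 3 → F) × (Fin (2 * m + 1 + 1) → F)) =>
    x.1 ≠ 0 ∧ R (2 * m + 1) x.2 = x.1)]
  have h1 : ∀ c : F, Nat.card {p : (Fin 3 → F) × (Fin (2 * m + 1 + 1) → F) //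
      c ≠ 0 ∧ R (2 * m + 1) p = c} =
      if c ≠ 0 then Nat.card {p : (Fin 3 → F) × (Fin (2 * m + 1 + 1) → F) // R (2 * m + 1) p = 1}
      else 0 := by
    intro c
    by_cases hc : c = 0
    · simp [hc]
    · simp only [ne_eq, hc, not_false_eq_true, true_and, if_true]
      exact card_fibre m c hc
  simp only [h1]
  rw [sum_ite_const, card_ne_zero]

lemma arith (q n N : ℕ) (hq : 2 ≤ q)
    (h : q ^ (n + 4) - q ^ (n + 3) - q ^ (n + 2) + q ^ (n + 1) = (q - 1) * N) :
    N = q ^ (n + 3) - q ^ (n + 1) := by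
  obtain ⟨r, rfl⟩ : ∃ r, q = r + 2 := ⟨q - 2, by omega⟩
  have h1 : r + 2 - 1 = r + 1 := by omega
  rw [h1] at h
  have e1 : (r + 2) ^ (n + 4) = (r + 2) ^ (n + 3) + (r + 2) ^ (n + 2) +
      (r + 2) ^ (n + 2) * (r ^ 2 + 3 * r + 1) := by ring
  have e2 : (r + 2) ^ (n + 2) * (r ^ 2 + 3 * r + 1) + (r + 2) ^ (n + 1) =
      (r + 1) * ((r + 2) ^ (n + 1) * ((r + 1) * (r + 3))) := by ring
  have e3 : (r + 2) ^ (n + 3) = (r + 2) ^ (n + 1) + (r + 2) ^ (n + 1) * ((r + 1) * (r + 3)) := by
    ring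
  have h2 : (r + 1) * ((r + 2) ^ (n + 1) * ((r + 1) * (r + 3))) = (r + 1) * N := by
    rw [← e2, ← h, e1]; omega
  have h3 := Nat.eq_of_mul_eq_mul_left (Nat.succ_pos r) h2
  rw [e3, ← h3]; omega

end Groth.Agent.S18924Aux

namespace Groth.Agent.S18924

/-- Let F be a finite field with q elements and let n ≥ 3 be odd. Count the pairs (f, g) where f is a
binary quadratic form and g a binary form of degree n over F, recorded by their coefficient vectors
of lengths 3 and n + 1 (leading coefficients may vanish), whose resultant — the Sylvester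
determinant of the two coefficient vectors with size parameters 2 and n — equals 1. The number of
such pairs is q ^ (n + 3) - q ^ (n + 1). (The published statement gives q ^ (n + 3) + q ^ (n + 1);
for q = 3 and n = 3 the count is 648, not 810.) -/
theorem result (F : Type u) [Field F] [Fintype F] (n : ℕ)
    (hn : Odd n) (h3 : 3 ≤ n) :
    Nat.card {p : (Fin 3 → F) × (Fin (n + 1) → F) //
      Polynomial.resultant (∑ i : Fin 3, Polynomial.C (p.1 i) * Polynomial.X ^ (i : ℕ))
        (∑ j : Fin (n + 1), Polynomial.C (p.2 j) * Polynomial.X ^ (j : ℕ)) 2 n = 1} =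
      Fintype.card F ^ (n + 3) - Fintype.card F ^ (n + 1) := by
  obtain ⟨m, rfl⟩ := hn
  have hq : 2 ≤ Fintype.card F := Fintype.one_lt_card
  have h1 := Groth.Agent.S18925.result F (2 * m + 1) (by omega)
  have h2 := Groth.Agent.S18924Aux.card_ne (F := F) m
  rw [Nat.card_eq_fintype_card (α := F)] at h2
  exact Groth.Agent.S18924Aux.arith (Fintype.card F) (2 * m + 1) _ hq (h1.symm.trans h2)

end Groth.Agent.S18924
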