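import Groth.Statements.S18927
import Groth.Agent.Lib.Helper84.SchSt

set_option autoImplicit false
universe u v
open W4c6secantcecovers

namespace Groth.Agent.S18927

open TensorProduct in
/-- Let R be a commutative ring, E = R^r the free module with its coordinate basis, S = R[X_1, …, X_r]
(the symmetric algebra of E), and N an R-module carrying R-linear operators φ_j (the action of the
j-th basis vector of E) and an R-bilinear form β with β(φ_j n, m) = β(n, φ_j m) for every j. On (ΛE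
⊗ S) ⊗ N — all terms Λ^k(S ⊗ E) ⊗ N of the Scheja–Storch complex at once — let δ be the differential
sending (e_1 ∧ ⋯ ∧ e_k) ⊗ s ⊗ n to Σ_i (-1)^(i-1) (e_1 ∧ ⋯ ê_i ⋯ ∧ e_k) ⊗ x(e_i) s ⊗ n + Σ_i (-1)^i
(e_1 ∧ ⋯ ê_i ⋯ ∧ e_k) ⊗ s ⊗ e_i · n, and pair a term u = ω ⊗ s ⊗ n of degree k with v = η ⊗ t ⊗ m by
⟨u, v⟩_k = (-1)^(k choose 2) β(n, m) · (ω ∧ η) ⊗ s t. Then the differential is adjoint to itself for
this pairing in complementary degrees: for u = (e_0 ∧ ⋯ ∧ e_k) ⊗ s ⊗ n of degree k + 1 ≤ r and v =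
(f_1 ∧ ⋯ ∧ f_(r-k)) ⊗ t ⊗ m of degree r - k, ⟨δ u, v⟩_k = ⟨u, δ v⟩_(k+1). (The source takes E
finitely generated projective and N a module over the ambient algebra with a pairing satisfying ⟨f,
g h⟩ = ⟨g f, h⟩; the proof runs on a basis, which is the form stated here, with the action of E
recorded by the operators φ_j.) -/
theorem result
    (R : Type u) [CommRing R] (r : ℕ) (N : Type v) [AddCommGroup N] [Module R N]
    (φ : Fin r → (N →ₗ[R] N)) (β : N →ₗ[R] N →ₗ[R] R)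
    (hβ : ∀ (j : Fin r) (n m : N), β (φ j n) m = β n (φ j m))
    (k : ℕ) (hk : k < r)
    (e : Fin (k + 1) → (Fin r → R)) (f : Fin (r - k) → (Fin r → R))
    (s t : MvPolynomial (Fin r) R) (n m : N) :
    W4c6secantcecovers.ssPair R r N β k
        (W4c6secantcecovers.ssDelta R r N φ ((ExteriorAlgebra.ιMulti R (k + 1) e ⊗ₜ[R] s) ⊗ₜ[R] n))
        ((ExteriorAlgebra.ιMulti R (r - k) f ⊗ₜ[R] t) ⊗ₜ[R] m) =
      W4c6secantcecovers.ssPair R r N β (k + 1)
        ((ExteriorAlgebra.ιMulti R (k + 1) e ⊗ₜ[R] s) ⊗ₜ[R] n)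
        (W4c6secantcecovers.ssDelta R r N φ ((ExteriorAlgebra.ιMulti R (r - k) f ⊗ₜ[R] t) ⊗ₜ[R] m)) := by
  classical
  have hpair : ∀ (k' : ℕ) (ω η : SSLam R r) (s' t' : MvPolynomial (Fin r) R) (n' m' : N),
      ssPair R r N β k' ((ω ⊗ₜ[R] s') ⊗ₜ[R] n') ((η ⊗ₜ[R] t') ⊗ₜ[R] m') =
        ((-1 : R) ^ (k'.choose 2) * β n' m') • ((ω * η) ⊗ₜ[R] (s' * t')) := by
    intro k' ω η s' t' n' m'
    simp [ssPair, ssPairAux, Algebra.TensorProduct.tmul_mul_tmul, mul_smul]
  have hdelta : ∀ (ω : SSLam R r) (s' : MvPolynomial (Fin r) R) (n' : N),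
      ssDelta R r N φ ((ω ⊗ₜ[R] s') ⊗ₜ[R] n') =
        ∑ j : Fin r, (((ssContr R r j ω) ⊗ₜ[R] (MvPolynomial.X j * s')) ⊗ₜ[R] n' +
          (-1 : R) • (((ssContr R r j ω) ⊗ₜ[R] s') ⊗ₜ[R] (φ j n'))) := by
    intro ω s' n'
    simp [ssDelta, ssDKoszul, ssDAct, LinearMap.sum_apply]
  have hkey : ∀ j : Fin r,
      ssContr R r j (ExteriorAlgebra.ιMulti R (k + 1) e) * ExteriorAlgebra.ιMulti R (r - k) f =
        (-1 : R) ^ k • (ExteriorAlgebra.ιMulti R (k + 1) e *
          ssContr R r j (ExteriorAlgebra.ιMulti R (r - k) f)) := by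
    intro j
    rw [Groth.Agent.Lib.Helper84.SchSt.contr_mul_eq R r (by omega) j e f]
    congr 1
    rw [pow_add, pow_add]
    norm_num
  have hch : (k + 1).choose 2 = k.choose 2 + k := by
    rw [Nat.choose_succ_succ, Nat.choose_one_right, add_comm]
  rw [hdelta, hdelta]
  simp only [map_sum, LinearMap.sum_apply, map_add, LinearMap.add_apply, map_smul,
    LinearMap.smul_apply, hpair]
  refine Finset.sum_congr rfl fun j _ => ?_
  rw [hkey j, hβ j n m, hch, pow_add]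
  simp only [← smul_tmul', smul_smul]
  congr 1
  · congr 1
    · ring
    · congr 1
      ring
  · congr 1
    ring

end Groth.Agent.S18927
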