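import Groth.Statements.S18928
-- import your own Groth.Agent.* helpers here
import Mathlib.Tactic

set_option autoImplicit false
universe u
open DPow

namespace Groth.Agent.S18928

theorem add_pow_sub_pow_mem {B : Type*} [CommRing B] {I : Ideal B}
    (hI : DividedPowers I) (N : ℕ) (hN : 0 < N) (b δ : B) (hδ : δ ∈ I) :
    (b + δ) ^ N - b ^ N ∈ Ideal.span {(N : B)} * I := by
  obtain ⟨N', rfl⟩ := Nat.exists_eq_succ_of_ne_zero hN.ne'
  rw [add_comm b δ, add_pow, Finset.sum_range_succ']
  simp only [pow_zero, Nat.sub_zero, one_mul, Nat.choose_zero_right, Nat.cast_one, mul_one,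
    add_sub_cancel_right]
  apply Ideal.sum_mem
  intro m hm
  have h1 : δ ^ (m + 1) * b ^ (N' + 1 - (m + 1)) * ((N' + 1).choose (m + 1) : B) =
      ((N' + 1 : ℕ) : B) * (((N'.descFactorial m : ℕ) : B) * b ^ (N' + 1 - (m + 1)) *
        hI.dpow (m + 1) δ) := by
    rw [← hI.factorial_mul_dpow_eq_pow hδ]
    have h2 : ((m + 1).factorial : B) * ((N' + 1).choose (m + 1) : B) =
        ((N' + 1 : ℕ) : B) * ((N'.descFactorial m : ℕ) : B) := by
      rw [← Nat.cast_mul, ← Nat.cast_mul, ← Nat.descFactorial_eq_factorial_mul_choose,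
        Nat.succ_descFactorial_succ]
    calc ((m + 1).factorial : B) * hI.dpow (m + 1) δ * b ^ (N' + 1 - (m + 1)) *
          ((N' + 1).choose (m + 1) : B)
        = (((m + 1).factorial : B) * ((N' + 1).choose (m + 1) : B)) *
          (b ^ (N' + 1 - (m + 1)) * hI.dpow (m + 1) δ) := by ring
      _ = _ := by rw [h2]; ring
  rw [h1]
  apply Ideal.mul_mem_mul (Ideal.mem_span_singleton_self _)
  exact Ideal.mul_mem_left _ _ (hI.dpow_mem (Nat.succ_ne_zero m) hδ)

/-- Let B be a commutative ring, I an ideal of B with a divided power structure, p a prime, r a natural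
number, b an element of B and δ an element of I. Then (b + δ)^(p^r) − b^(p^r) lies in the ideal p^r
I. (The source states this for a divided power thickening over the Witt vectors of length n and 0 ≤
r ≤ n; neither restriction is used.) -/
theorem result {B : Type u} [CommRing B] {I : Ideal B}
    (hI : DividedPowers I) (p : ℕ) [Fact p.Prime] (r : ℕ) (b δ : B) (hδ : δ ∈ I) :
    (b + δ) ^ (p ^ r) - b ^ (p ^ r) ∈ Ideal.span {((p : B) ^ r)} * I := by
  have h := add_pow_sub_pow_mem hI (p ^ r) (pow_pos (Fact.out : p.Prime).pos r) b δ hδ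
  rwa [Nat.cast_pow] at h

end Groth.Agent.S18928
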