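import Groth.Statements.S18930
-- import your own Groth.Agent.* helpers here
import Mathlib.Tactic

set_option autoImplicit false
universe u
open DPow

namespace Groth.Agent.S18930

/-- Let p be a prime, n ≥ 1, B a commutative ring with p^n = 0 and A = B/pB. Let θ : W_n(A) → B be the
ring homomorphism which sends the reduction of a Witt vector (x_0, …, x_{n−1}) over B to Σ_{i<n} p^i
x_i^(p^(n−i)), let J_n be its kernel and let I_n be the set of a in W_n(A) whose zeroth component
satisfies a_0^(p^n) = 0. Then J_n + (p) ⊆ I_n. (In the source B is the ring of global sections of a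
scheme over the Witt vectors of length n of a perfect field.) -/
theorem result (p : ℕ) [Fact p.Prime] (n : ℕ) (hn : 0 < n)
    {B : Type u} [CommRing B] (hp : (p : B) ^ n = 0)
    (θ : TruncatedWittVector p n (B ⧸ (Ideal.span {(p : B)})) →+* B)
    (hθ : ∀ x : WittVector p B, θ (WittVector.truncate n (WittVector.map (Ideal.Quotient.mk (Ideal.span {(p : B)})) x)) =
        ∑ i : Fin n, (p : B) ^ (i : ℕ) * (x.coeff i) ^ (p ^ (n - i)))
    (a : TruncatedWittVector p n (B ⧸ (Ideal.span {(p : B)})))
    (ha : a ∈ RingHom.ker θ ⊔ Ideal.span {(p : TruncatedWittVector p n (B ⧸ (Ideal.span {(p : B)})))}) :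
    (TruncatedWittVector.coeff ⟨0, hn⟩ a) ^ (p ^ n) = 0 := by
  have hpA : ((p : ℕ) : B ⧸ Ideal.span {(p : B)}) = 0 := by
    rw [← map_natCast (Ideal.Quotient.mk (Ideal.span {(p : B)}))]
    exact Ideal.Quotient.eq_zero_iff_mem.mpr (Ideal.mem_span_singleton_self _)
  obtain ⟨u, hu, v, hv, rfl⟩ := Submodule.mem_sup.mp ha
  obtain ⟨c, rfl⟩ := Ideal.mem_span_singleton'.mp hv
  obtain ⟨xu, rfl⟩ := WittVector.truncate_surjective p n _ u
  obtain ⟨y, rfl⟩ := WittVector.map_surjective _ Ideal.Quotient.mk_surjective xu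
  obtain ⟨xc, rfl⟩ := WittVector.truncate_surjective p n _ c
  have e1 : WittVector.truncate n (WittVector.map (Ideal.Quotient.mk (Ideal.span {(p : B)})) y) +
      WittVector.truncate n xc * (p : TruncatedWittVector p n (B ⧸ Ideal.span {(p : B)})) =
      WittVector.truncate n (WittVector.map (Ideal.Quotient.mk (Ideal.span {(p : B)})) y + xc * (p : WittVector p (B ⧸ Ideal.span {(p : B)}))) := by
    rw [map_add, map_mul, map_natCast]
  rw [e1, WittVector.coeff_truncate]
  have e2 : (WittVector.map (Ideal.Quotient.mk (Ideal.span {(p : B)})) y + xc * (p : WittVector p (B ⧸ Ideal.span {(p : B)}))).coeff 0 =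
      Ideal.Quotient.mk (Ideal.span {(p : B)}) (y.coeff 0) := by
    have := (WittVector.constantCoeff (p := p) (R := B ⧸ Ideal.span {(p : B)})).map_add
      (WittVector.map (Ideal.Quotient.mk (Ideal.span {(p : B)})) y) (xc * (p : WittVector p (B ⧸ Ideal.span {(p : B)})))
    rw [map_mul, map_natCast, hpA, mul_zero, add_zero] at this
    exact this
  have e3 : (⟨0, hn⟩ : Fin n).val = 0 := rfl
  rw [e3, e2]
  have hker : θ (WittVector.truncate n (WittVector.map (Ideal.Quotient.mk (Ideal.span {(p : B)})) y)) = 0 := hu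
  rw [hθ] at hker
  have h4 := congrArg (Ideal.Quotient.mk (Ideal.span {(p : B)})) hker
  rw [map_sum, map_zero] at h4
  obtain ⟨m, rfl⟩ := Nat.exists_eq_succ_of_ne_zero hn.ne'
  rw [Fin.sum_univ_succ] at h4
  have h5 : ∀ i : Fin m, Ideal.Quotient.mk (Ideal.span {(p : B)})
      ((p : B) ^ ((Fin.succ i : Fin (m + 1)) : ℕ) *
        y.coeff (Fin.succ i : Fin (m + 1)) ^ p ^ (m + 1 - ((Fin.succ i : Fin (m + 1)) : ℕ))) = 0 := by
    intro i
    rw [map_mul, map_pow, map_natCast, hpA, Fin.val_succ, pow_succ, mul_zero, zero_mul]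
  rw [Finset.sum_eq_zero (fun i _ => h5 i), add_zero] at h4
  simpa using h4

end Groth.Agent.S18930
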