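import Groth.Statements.S18931
-- import your own Groth.Agent.* helpers here
import Mathlib.Tactic
import Mathlib.RingTheory.WittVector.Identities
import Mathlib.RingTheory.WittVector.Domain
import Mathlib.Algebra.CharP.Quotient

set_option autoImplicit false
universe u
open DPow

namespace Groth.Agent.S18931

theorem exists_pow_add (p : ℕ) {B : Type*} [CommRing B]
    (hF : Function.Surjective (fun y : B ⧸ (Ideal.span {(p : B)}) => y ^ p)) (m : ℕ) (b : B) :
    ∃ c d : B, b = c ^ (p ^ m) + (p : B) * d := by
  have h1 : ∀ m : ℕ, ∀ y : B ⧸ (Ideal.span {(p : B)}), ∃ z, z ^ (p ^ m) = y := by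
    intro m
    induction m with
    | zero => intro y; exact ⟨y, by simp⟩
    | succ m ih =>
      intro y
      obtain ⟨z, hz⟩ := ih y
      obtain ⟨w, hw⟩ := hF z
      refine ⟨w, ?_⟩
      simp only at hw
      rw [pow_succ', pow_mul, hw, hz]
  obtain ⟨z, hz⟩ := h1 m (Ideal.Quotient.mk _ b)
  obtain ⟨c, rfl⟩ := Ideal.Quotient.mk_surjective z
  rw [← map_pow, eq_comm, ← sub_eq_zero, ← map_sub, Ideal.Quotient.eq_zero_iff_mem,
    Ideal.mem_span_singleton'] at hz
  obtain ⟨d, hd⟩ := hz
  exact ⟨c, d, by rw [mul_comm, hd]; ring⟩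

theorem exists_expansion (p : ℕ) {B : Type*} [CommRing B]
    (hF : Function.Surjective (fun y : B ⧸ (Ideal.span {(p : B)}) => y ^ p)) (N : ℕ) (j : ℕ)
    (b : B) :
    ∃ (x : ℕ → B) (b' : B),
      b = ∑ i ∈ Finset.range j, (p : B) ^ i * (x i) ^ (p ^ (N - i)) + (p : B) ^ j * b' := by
  induction j with
  | zero => exact ⟨fun _ => 0, b, by simp⟩
  | succ j ih =>
    obtain ⟨x, b', hb⟩ := ih
    obtain ⟨c, d, hcd⟩ := exists_pow_add p hF (N - j) b'
    refine ⟨Function.update x j c, d, ?_⟩
    rw [Finset.sum_range_succ, Function.update_self]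
    have h2 : ∀ i ∈ Finset.range j,
        (p : B) ^ i * (Function.update x j c i) ^ (p ^ (N - i)) =
          (p : B) ^ i * (x i) ^ (p ^ (N - i)) := by
      intro i hi
      rw [Function.update_of_ne (Finset.mem_range.mp hi).ne]
    rw [Finset.sum_congr rfl h2]
    conv_lhs => rw [hb, hcd]
    ring

theorem exists_eq_mul_p_of_coeff_zero (p : ℕ) [Fact p.Prime] (A : Type*) [CommRing A] [CharP A p]
    (hF : Function.Surjective (fun y : A => y ^ p)) (z : WittVector p A) (hz : z.coeff 0 = 0) :
    ∃ w : WittVector p A, z = w * (p : WittVector p A) := by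
  have h1 : z = WittVector.verschiebung (z.shift 1) := by
    have := WittVector.eq_iterate_verschiebung (x := z) (n := 1) (by
      intro i hi
      have : i = 0 := by omega
      subst this
      exact hz)
    simpa using this
  have h2 : Function.Surjective (WittVector.frobenius (p := p) (R := A)) := by
    rw [WittVector.frobenius_eq_map_frobenius]
    exact WittVector.map_surjective _ hF
  obtain ⟨w, hw⟩ := h2 (z.shift 1)
  refine ⟨w, ?_⟩
  rw [← WittVector.verschiebung_frobenius, hw, ← h1]

/-- Let p be a prime, n ≥ 1, B a commutative ring with p^n = 0 and A = B/pB, and assume that the p-th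
power map of A is surjective. Let θ : W_n(A) → B be the ring homomorphism which sends the reduction
of a Witt vector (x_0, …, x_{n−1}) over B to Σ_{i<n} p^i x_i^(p^(n−i)). Then every a in W_n(A) with
a_0^(p^n) = 0 lies in ker θ + (p); together with the reverse inclusion, ker θ + (p) is exactly the
set of such a. (In the source B is the ring of global sections of a scheme over the Witt vectors of
length n of a perfect field. The printed argument subtracts a single correction term, which suffices
for n ≤ 2; in general one corrects the components one at a time.) -/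
theorem result (p : ℕ) [Fact p.Prime]
    (n : ℕ) (hn : 0 < n) {B : Type u} [CommRing B] (hp : (p : B) ^ n = 0)
    (hF : Function.Surjective (fun y : B ⧸ (Ideal.span {(p : B)}) => y ^ p))
    (θ : TruncatedWittVector p n (B ⧸ (Ideal.span {(p : B)})) →+* B)
    (hθ : ∀ x : WittVector p B, θ (WittVector.truncate n (WittVector.map (Ideal.Quotient.mk (Ideal.span {(p : B)})) x)) =
        ∑ i : Fin n, (p : B) ^ (i : ℕ) * (x.coeff i) ^ (p ^ (n - i)))
    (a : TruncatedWittVector p n (B ⧸ (Ideal.span {(p : B)}))) (ha : (TruncatedWittVector.coeff ⟨0, hn⟩ a) ^ (p ^ n) = 0) :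
    a ∈ RingHom.ker θ ⊔ Ideal.span {(p : TruncatedWittVector p n (B ⧸ (Ideal.span {(p : B)})))} := by
  rcases subsingleton_or_nontrivial B with hB | hB
  · have : a = 0 := by
      ext i
      exact Subsingleton.elim _ _
    rw [this]
    exact zero_mem _
  · have hnonunit : (p : B) ∈ nonunits B := by
      intro hu
      have := hu.pow n
      rw [hp] at this
      exact not_isUnit_zero this
    haveI : CharP (B ⧸ Ideal.span {(p : B)}) p := CharP.quotient B p hnonunit
    obtain ⟨xa, rfl⟩ := WittVector.truncate_surjective p n _ a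
    obtain ⟨X0, rfl⟩ := WittVector.map_surjective _ Ideal.Quotient.mk_surjective xa
    rw [WittVector.coeff_truncate, WittVector.map_coeff] at ha
    have e0 : ((⟨0, hn⟩ : Fin n) : ℕ) = 0 := rfl
    rw [e0, ← map_pow, Ideal.Quotient.eq_zero_iff_mem, Ideal.mem_span_singleton'] at ha
    obtain ⟨b1, hb1⟩ := ha
    obtain ⟨m, rfl⟩ : ∃ m, n = m + 1 := ⟨n - 1, by omega⟩
    obtain ⟨x', b', hb⟩ := exists_expansion p hF m m (-b1)
    let Xf : ℕ → B := fun i => Nat.rec (X0.coeff 0) (fun i' _ => x' i') i
    have hXf0 : Xf 0 = X0.coeff 0 := rfl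
    have hXfs : ∀ i, Xf (i + 1) = x' i := fun i => rfl
    let U : WittVector p B := WittVector.mk p Xf
    have hU : ∀ i, U.coeff i = Xf i := fun i => rfl
    have hu : WittVector.truncate (m + 1)
        (WittVector.map (Ideal.Quotient.mk (Ideal.span {(p : B)})) U) ∈ RingHom.ker θ := by
      rw [RingHom.mem_ker, hθ, Fin.sum_univ_succ]
      simp only [Fin.val_zero, Fin.val_succ, hU, hXf0, hXfs, pow_zero, one_mul, Nat.sub_zero,
        Nat.add_sub_add_right]
      have h3 : ∑ i : Fin m, (p : B) ^ ((i : ℕ) + 1) * x' i ^ p ^ (m - (i : ℕ)) =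
          (p : B) * ∑ i ∈ Finset.range m, (p : B) ^ i * x' i ^ p ^ (m - i) := by
        rw [Finset.sum_range, Finset.mul_sum]
        apply Finset.sum_congr rfl
        intro i _
        ring
      have h4 : ∑ i ∈ Finset.range m, (p : B) ^ i * x' i ^ p ^ (m - i) = -b1 - (p : B) ^ m * b' := by
        rw [hb]; ring
      rw [h3, h4, ← hb1]
      have : (p : B) ^ (m + 1) * b' = 0 := by rw [hp, zero_mul]
      linear_combination (-1 : B) * this
    have hz : (WittVector.map (Ideal.Quotient.mk (Ideal.span {(p : B)})) X0 -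
        WittVector.map (Ideal.Quotient.mk (Ideal.span {(p : B)})) U).coeff 0 = 0 := by
      have := (WittVector.constantCoeff (p := p) (R := B ⧸ Ideal.span {(p : B)})).map_sub
        (WittVector.map (Ideal.Quotient.mk (Ideal.span {(p : B)})) X0)
        (WittVector.map (Ideal.Quotient.mk (Ideal.span {(p : B)})) U)
      simp only [WittVector.constantCoeff_apply, WittVector.map_coeff] at this
      rw [this, hU, hXf0, sub_self]
    obtain ⟨w, hw⟩ := exists_eq_mul_p_of_coeff_zero p _ hF _ hz
    have hdiff : WittVector.truncate (m + 1)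
        (WittVector.map (Ideal.Quotient.mk (Ideal.span {(p : B)})) X0) -
        WittVector.truncate (m + 1)
        (WittVector.map (Ideal.Quotient.mk (Ideal.span {(p : B)})) U) ∈
        Ideal.span {(p : TruncatedWittVector p (m + 1) (B ⧸ (Ideal.span {(p : B)})))} := by
      rw [← map_sub, hw, map_mul, map_natCast]
      exact Ideal.mul_mem_left _ _ (Ideal.mem_span_singleton_self _)
    have := Submodule.add_mem_sup hu hdiff
    rwa [add_sub_cancel] at this

end Groth.Agent.S18931
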