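import Groth.Statements.S18932
-- import your own Groth.Agent.* helpers here
import Mathlib.Tactic
import Mathlib.RingTheory.WittVector.Identities

set_option autoImplicit false
universe u
open DPow

namespace Groth.Agent.S18932

theorem exists_pow_add (p : ℕ) {B : Type*} [CommRing B]
    (hF : Function.Surjective (fun y : B ⧸ (Ideal.span {(p : B)}) => y ^ p)) (m : ℕ) (b : B) :
    ∃ c d : B, b = c ^ (p ^ m) + (p : B) * d := by
  have h1 : ∀ m : ℕ, ∀ y : B ⧸ (Ideal.span {(p : B)}), ∃ z, z ^ (p ^ m) = y := by
    intro m
    induction m with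
    | zero => intro y; exact ⟨y, by simp⟩
    | succ m ih =>
      intro y
      obtain ⟨z, hz⟩ := ih y
      obtain ⟨w, hw⟩ := hF z
      refine ⟨w, ?_⟩
      simp only at hw
      rw [pow_succ', pow_mul, hw, hz]
  obtain ⟨z, hz⟩ := h1 m (Ideal.Quotient.mk _ b)
  obtain ⟨c, rfl⟩ := Ideal.Quotient.mk_surjective z
  rw [← map_pow, eq_comm, ← sub_eq_zero, ← map_sub, Ideal.Quotient.eq_zero_iff_mem,
    Ideal.mem_span_singleton'] at hz
  obtain ⟨d, hd⟩ := hz
  exact ⟨c, d, by rw [mul_comm, hd]; ring⟩

theorem exists_expansion (p : ℕ) {B : Type*} [CommRing B]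
    (hF : Function.Surjective (fun y : B ⧸ (Ideal.span {(p : B)}) => y ^ p)) (N : ℕ) (j : ℕ)
    (b : B) :
    ∃ (x : ℕ → B) (b' : B),
      b = ∑ i ∈ Finset.range j, (p : B) ^ i * (x i) ^ (p ^ (N - i)) + (p : B) ^ j * b' := by
  induction j with
  | zero => exact ⟨fun _ => 0, b, by simp⟩
  | succ j ih =>
    obtain ⟨x, b', hb⟩ := ih
    obtain ⟨c, d, hcd⟩ := exists_pow_add p hF (N - j) b'
    refine ⟨Function.update x j c, d, ?_⟩
    rw [Finset.sum_range_succ, Function.update_self]
    have h2 : ∀ i ∈ Finset.range j,
        (p : B) ^ i * (Function.update x j c i) ^ (p ^ (N - i)) =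
          (p : B) ^ i * (x i) ^ (p ^ (N - i)) := by
      intro i hi
      rw [Function.update_of_ne (Finset.mem_range.mp hi).ne]
    rw [Finset.sum_congr rfl h2]
    conv_lhs => rw [hb, hcd]
    ring

/-- Let p be a prime, k a perfect field of characteristic p, n a natural number and A a commutative
W_n(k)-algebra, W_n(k) the truncated Witt vectors, which is flat over W_n(k) and whose reduction
A/pA has surjective p-th power map. Let θ : W_n(A/pA) → A be the ring homomorphism which sends the
reduction of a Witt vector (x_0, …, x_{n−1}) over A to Σ_{i<n} p^i x_i^(p^(n−i)). Then θ is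
surjective, so A is the quotient of W_n(A/pA) by the kernel of θ. (This is the step of the source's
proposition establishing that Spec of the divided power envelope of that kernel is a thickening of
Spec A; the assertion that it is a final object of the crystalline site is not stated here.) -/
theorem result (p : ℕ) [Fact p.Prime]
    (k : Type u) [Field k] [CharP k p] [PerfectRing k p] (n : ℕ)
    (A : Type u) [CommRing A] [Algebra (TruncatedWittVector p n k) A] [Module.Flat (TruncatedWittVector p n k) A]
    (hF : Function.Surjective (fun y : A ⧸ (Ideal.span {(p : A)}) => y ^ p))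
    (θ : TruncatedWittVector p n (A ⧸ (Ideal.span {(p : A)})) →+* A)
    (hθ : ∀ x : WittVector p A, θ (WittVector.truncate n (WittVector.map (Ideal.Quotient.mk (Ideal.span {(p : A)})) x)) =
        ∑ i : Fin n, (p : A) ^ (i : ℕ) * (x.coeff i) ^ (p ^ (n - i))) :
    Function.Surjective θ := by
  intro b
  have hpn : (p : A) ^ n = 0 := by
    have h0 : ((p : TruncatedWittVector p n k)) ^ n = 0 := by
      rw [← map_natCast (WittVector.truncate (p := p) (R := k) n), ← map_pow, ← RingHom.mem_ker,
        WittVector.mem_ker_truncate]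
      intro i hi
      exact WittVector.coeff_p_pow_eq_zero (p := p) (R := k) (Nat.ne_of_lt hi)
    have := congrArg (algebraMap (TruncatedWittVector p n k) A) h0
    simpa using this
  obtain ⟨x, b', hb⟩ := exists_expansion p hF n n b
  refine ⟨WittVector.truncate n (WittVector.map (Ideal.Quotient.mk _) (WittVector.mk p x)), ?_⟩
  rw [hθ, hb, hpn, zero_mul, add_zero, Finset.sum_range]
  rfl

end Groth.Agent.S18932
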