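import Groth.Statements.S18936
-- import your own Groth.Agent.* helpers here
import Mathlib.Tactic
import Mathlib.RingTheory.Support

set_option autoImplicit false
universe u
open CAlg

namespace Groth.Agent.S18936

/-- Let A be a Noetherian commutative ring, q a prime ideal of A and f an element of A whose image in
the localization A_q is a non-zero-divisor. Then there is an element b of A not in q such that the
image of f in A[1/b] is a non-zero-divisor. -/
theorem result {A : Type u} [CommRing A] [IsNoetherianRing A]
    (q : Ideal A) [q.IsPrime] (f : A)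
    (hf : algebraMap A (Localization.AtPrime q) f ∈ nonZeroDivisors (Localization.AtPrime q)) :
    ∃ b : A, b ∉ q ∧ algebraMap A (Localization.Away b) f ∈ nonZeroDivisors (Localization.Away b) := by
  classical
  set K : Ideal A := (Ideal.span {f}).annihilator with hK
  have hKmem : ∀ a : A, a ∈ K ↔ a * f = 0 := by
    intro a
    rw [hK, Submodule.mem_annihilator_span_singleton, smul_eq_mul]
  have hloc : ∀ k : K, ∃ r ∉ q, r • k = 0 := by
    intro k
    have h1 : (k : A) * f = 0 := (hKmem k).1 k.2
    have h2 : algebraMap A (Localization.AtPrime q) (k : A) *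
        algebraMap A (Localization.AtPrime q) f = 0 := by
      rw [← map_mul, h1, map_zero]
    have h3 : algebraMap A (Localization.AtPrime q) (k : A) = 0 :=
      (mem_nonZeroDivisors_iff_right.mp hf) _ h2
    obtain ⟨m, hm⟩ := (IsLocalization.map_eq_zero_iff q.primeCompl _ _).1 h3
    refine ⟨m, m.2, ?_⟩
    apply Subtype.ext
    simpa using hm
  let p : PrimeSpectrum A := ⟨q, inferInstance⟩
  have hsupp : p ∉ Module.support A K := Module.notMem_support_iff'.2 hloc
  rw [Module.mem_support_iff_of_finite] at hsupp
  obtain ⟨b, hbann, hbq⟩ := SetLike.not_le_iff_exists.mp hsupp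
  refine ⟨b, hbq, ?_⟩
  have hbK : ∀ a ∈ K, b * a = 0 := by
    intro a ha
    have := Module.mem_annihilator.mp hbann ⟨a, ha⟩
    simpa using congrArg Subtype.val this
  rw [mem_nonZeroDivisors_iff_right]
  intro x hx
  obtain ⟨a, s, rfl⟩ := IsLocalization.exists_mk'_eq (Submonoid.powers b) x
  rw [← IsLocalization.mk'_one (M := Submonoid.powers b) (Localization.Away b) f,
    ← IsLocalization.mk'_mul, IsLocalization.mk'_eq_zero_iff] at hx
  obtain ⟨m, hm⟩ := hx
  rw [IsLocalization.mk'_eq_zero_iff]
  have h4 : (m : A) * a ∈ K := by
    rw [hKmem, mul_assoc]; exact hm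
  refine ⟨⟨b, Submonoid.mem_powers b⟩ * m, ?_⟩
  have := hbK _ h4
  simpa [mul_assoc] using this

end Groth.Agent.S18936
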