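import Groth.Statements.S18938
import Groth.Agent.Lib.Helper94.SyntV
import Groth.Agent.Lib.Helper94.SyntF

set_option autoImplicit false
universe u
open Synt

namespace Groth.Agent.S18938

open MvPolynomial RingTheory.Sequence Groth.Agent.Lib.Helper94.CIPres
  Groth.Agent.Lib.Helper94.RegSpread Groth.Agent.Lib.Helper39.QSpread
  Groth.Agent.Lib.Helper94.CILoc Groth.Agent.Lib.Helper94.SyntV in

/-- Let A be a Noetherian commutative ring and B a syntomic A-algebra. Then Spec B is covered by basic
opens D(g) with B[1/g] isomorphic, as an A-algebra, to A[T_1, …, T_n]/(P_1, …, P_d) for a regular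
sequence P_1, …, P_d (successive non-zero-divisors with nonzero last quotient) in the polynomial
ring A[T_1, …, T_n]. (The source states this for a syntomic scheme over Spec A, syntomic meaning
flat, locally of finite presentation and locally a Koszul-regular immersion into a smooth scheme;
here syntomic is the ring-map notion with local complete intersection fibres, which agrees with it.) -/
theorem result
    (A : Type u) [CommRing A] [IsNoetherianRing A] (B : Type u) [CommRing B] [Algebra A B]
    (h : Synt.IsSyntomic A B) (q : PrimeSpectrum B) :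
    ∃ g : B, g ∉ q.asIdeal ∧
      ∃ (n d : ℕ) (P : Fin d → MvPolynomial (Fin n) A),
        RingTheory.Sequence.IsRegular (MvPolynomial (Fin n) A) (List.ofFn P) ∧
        Nonempty (Localization.Away g ≃ₐ[A] (MvPolynomial (Fin n) A ⧸ Ideal.ofList (List.ofFn P))) := by
  classical
  obtain ⟨g₀, hg₀, N, C, G, hG, ⟨e₀⟩⟩ := exists_relGCI_of_isSyntomic A B h q.asIdeal
  -- the prime of the relative global complete intersection
  haveI hq₀ : (q.asIdeal.map (algebraMap B (Localization.Away g₀))).IsPrime :=
    isPrime_map_away g₀ q.asIdeal hg₀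
  let q₁ : Ideal (Synt.RelGCIRing A N C G) :=
    (q.asIdeal.map (algebraMap B (Localization.Away g₀))).comap e₀.symm.toRingEquiv.toRingHom
  haveI hq₁ : q₁.IsPrime := Ideal.comap_isPrime _ _
  let q' : Ideal (MvPolynomial (Fin N) A) := q₁.comap (Ideal.Quotient.mk (Ideal.span (Set.range G)))
  haveI hq'p : q'.IsPrime := Ideal.comap_isPrime _ _
  have hJq' : Ideal.span (Set.range G) ≤ q' := fun a ha => by
    show Ideal.Quotient.mk _ a ∈ q₁
    rw [Ideal.Quotient.eq_zero_iff_mem.mpr ha]
    exact Ideal.zero_mem _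
  have hreg := (Groth.Agent.Lib.Helper94.SyntF.transRegAt_of_isRelGCI A N C G hG q' hJq').2.1
  obtain ⟨h₀, hh₀, hgood⟩ := exists_goodL q' (Localization.AtPrime q') (List.ofFn G) hreg
  -- the relations
  let u : MvPolynomial (Fin (N + 1)) A := X 0 * ι h₀ - 1
  let Pf : Fin (C + 1) → MvPolynomial (Fin (N + 1)) A :=
    Fin.cons u (fun i => (ι : MvPolynomial (Fin N) A →ₐ[A] _) (G i))
  have hPf : List.ofFn Pf = u :: (List.ofFn G).map (ι : MvPolynomial (Fin N) A →ₐ[A] _) := by
    rw [List.ofFn_succ, List.map_ofFn]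
    simp only [Pf, Fin.cons_zero, Fin.cons_succ]
    rfl
  have hweak : IsWeaklyRegular (MvPolynomial (Fin (N + 1)) A) (List.ofFn Pf) := by
    rw [hPf]
    exact isWeaklyRegular_cons_of_goodL (List.ofFn G) h₀ hgood
  -- the presentation of the localization
  let φ : MvPolynomial (Fin N) A →ₐ[A] Synt.RelGCIRing A N C G :=
    Ideal.Quotient.mkₐ A (Ideal.span (Set.range G))
  have hφ : Function.Surjective φ := Ideal.Quotient.mkₐ_surjective A _
  have hkerφ : RingHom.ker φ.toRingHom = Ideal.span (Set.range G) := Ideal.Quotient.mkₐ_ker A _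
  have hker : RingHom.ker (awayHom φ h₀).toRingHom = Ideal.ofList (List.ofFn Pf) := by
    rw [ker_awayHom φ h₀ (Ideal.span (Set.range G)) hkerφ.ge (fun a ha => ⟨0, by
      rw [pow_zero, one_mul, ← hkerφ]; exact ha⟩)]
    have hmapι : Ideal.ofList ((List.ofFn G).map (ι : MvPolynomial (Fin N) A →ₐ[A] _)) =
        Ideal.map (ι : MvPolynomial (Fin N) A →ₐ[A] MvPolynomial (Fin (N + 1)) A).toRingHom
          (Ideal.span (Set.range G)) := by
      rw [← Groth.Agent.Lib.Helper94.CIField.ofList_ofFn]
      exact (Ideal.map_ofList _ _).symm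
    rw [hPf, Ideal.ofList_cons, sup_comm, hmapι]
  let e1 : (MvPolynomial (Fin (N + 1)) A ⧸ Ideal.ofList (List.ofFn Pf)) ≃ₐ[A]
      Localization.Away (φ h₀) :=
    (Ideal.quotientEquivAlgOfEq A hker.symm).trans
      (Ideal.quotientKerAlgEquivOfSurjective (awayHom_surjective φ h₀ hφ))
  -- φ h₀ ∉ q₁
  have hφh : φ h₀ ∉ q₁ := hh₀
  -- nontriviality
  haveI hP1 : (q₁.map (algebraMap _ (Localization.Away (φ h₀)))).IsPrime :=
    isPrime_map_away (φ h₀) q₁ hφh
  haveI : Nontrivial (Localization.Away (φ h₀)) :=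
    ⟨⟨0, 1, fun h01 => hP1.ne_top (by
      rw [Ideal.eq_top_iff_one, ← h01]; exact Ideal.zero_mem _)⟩⟩
  haveI : Nontrivial (MvPolynomial (Fin (N + 1)) A ⧸ Ideal.ofList (List.ofFn Pf)) :=
    e1.toEquiv.nontrivial
  have hne : Ideal.ofList (List.ofFn Pf) ≠ ⊤ := by
    intro htop
    exact not_subsingleton _ (Ideal.Quotient.subsingleton_iff.mpr htop)
  have hregular : IsRegular (MvPolynomial (Fin (N + 1)) A) (List.ofFn Pf) := by
    refine ⟨hweak, ?_⟩
    rw [smul_eq_mul, Ideal.mul_top]
    exact fun h => hne h.symm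
  -- the element of `B`
  let g' : Localization.Away g₀ := e₀.symm (φ h₀)
  have hg' : g' ∉ q.asIdeal.map (algebraMap B (Localization.Away g₀)) := hφh
  obtain ⟨g, hg, ⟨e2⟩⟩ := Groth.Agent.Lib.Helper94.SyntS.exists_away_algEquiv (R := A)
    q.asIdeal g₀ hg₀ g' hg'
  -- localizations of isomorphic rings
  let e3 : Localization.Away g' ≃ₐ[A] Localization.Away (φ h₀) :=
    IsLocalization.algEquivOfAlgEquiv (M := Submonoid.powers g') (T := Submonoid.powers (φ h₀))
      (Localization.Away g') (Localization.Away (φ h₀)) e₀ (by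
      rw [Submonoid.map_powers]
      congr 1
      exact e₀.apply_symm_apply _)
  exact ⟨g, hg, N + 1, C + 1, Pf, hregular, ⟨(e2.trans e3).trans e1.symm⟩⟩


end Groth.Agent.S18938
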