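import Groth.Statements.S1894
import Groth.Agent.Lib.Helper53.GrpdSat

set_option autoImplicit false
universe u
open CategoryTheory CategoryTheory.Limits AlgebraicGeometry
open Grpd

namespace Groth.Agent.S1894

/-- Let (U, R, s, t, c) be a groupoid scheme over S with s, t quasi-compact and flat and U
quasi-separated, and W ⊆ U a quasi-compact open. Then there are an R-invariant open V (s⁻¹V = t⁻¹V)
and a quasi-compact open W' with W ⊆ V ⊆ W'. (A groupoid scheme carries U, R, s, t, c, e, i over S
with the groupoid axioms on T-points; 'finite locally free' is finite, flat and locally of finite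
presentation; C ⊂ Γ(U) is the ring of functions a with s♯(a) = t♯(a) and M = Spec C.) -/
theorem result (S : Scheme.{u}) (G : Grpd.GroupoidScheme S) [QuasiCompact G.s] [Flat G.s] [QuasiCompact G.t] [Flat G.t] [QuasiSeparatedSpace G.U] (W : G.U.Opens) (hW : IsCompact (W : Set G.U)) : ∃ V W' : G.U.Opens, G.s ⁻¹ᵁ V = G.t ⁻¹ᵁ V ∧ IsCompact (W' : Set G.U) ∧ W ≤ V ∧ V ≤ W' := by
  have hEc : IsCompact (Lib.Helper53.sat G (W : Set G.U)) :=
    (QuasiCompact.isCompact_preimage (f := G.s) _ W.isOpen hW).image G.t.continuous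
  have hEg : StableUnderGeneralization (Lib.Helper53.sat G (W : Set G.U)) :=
    (Flat.generalizingMap G.t).stableUnderGeneralization_image
      (W.isOpen.preimage G.s.continuous).stableUnderGeneralization
  obtain ⟨W', hW', hEW', -⟩ :=
    Lib.Helper53.exists_isCompact_opens_between hEc ⊤ (fun _ _ => trivial)
  have hZ : IsClosed ((W' : Set G.U)ᶜ) := W'.isOpen.isClosed_compl
  -- the saturation of the complement misses the saturation of W
  have hdisj : ∀ u, u ∈ Lib.Helper53.sat G ((W' : Set G.U)ᶜ) →
      u ∉ Lib.Helper53.sat G (W : Set G.U) := by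
    rintro u ⟨r, hr, rfl⟩ hu
    exact hr (hEW' (Lib.Helper53.s_mem_sat_of_t_mem_sat G r hu))
  have hdisj' : ∀ u, u ∈ closure (Lib.Helper53.sat G ((W' : Set G.U)ᶜ)) →
      u ∉ Lib.Helper53.sat G (W : Set G.U) := by
    intro u hu huE
    obtain ⟨τ, hτ, hsp⟩ := Lib.Helper53.exists_specializes_of_mem_closure_sat G hZ hu
    exact hdisj τ hτ (hEg hsp huE)
  refine ⟨⟨(closure (Lib.Helper53.sat G ((W' : Set G.U)ᶜ)))ᶜ, isClosed_closure.isOpen_compl⟩,
    W', ?_, hW', ?_, ?_⟩
  · ext r
    exact not_congr (Lib.Helper53.s_mem_closure_sat_iff G hZ r)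
  · intro w hw hmem
    exact hdisj' w hmem (Lib.Helper53.subset_sat G _ hw)
  · intro v hv
    by_contra hvW
    exact hv (subset_closure (Lib.Helper53.subset_sat G _ hvW))

end Groth.Agent.S1894
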