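import Groth.Statements.S18942
-- import your own Groth.Agent.* helpers here
import Mathlib.Tactic
import Mathlib.RingTheory.WittVector.TeichmullerSeries
import Mathlib.RingTheory.WittVector.Complete
import Mathlib.NumberTheory.Basic

set_option autoImplicit false
universe u
open DPow

namespace Groth.Agent.S18942

theorem frobeniusEquiv_symm_pow_apply_pow (p : ℕ) [Fact p.Prime] (R : Type*) [CommRing R]
    [CharP R p] [PerfectRing R p] (i : ℕ) (z : R) :
    ((_root_.frobeniusEquiv R p).symm ^ i) (z ^ (p ^ i)) = z := by
  induction i generalizing z with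
  | zero => simp
  | succ i ih =>
    rw [pow_succ, RingAut.mul_apply, pow_succ, pow_mul, frobeniusEquiv_symm_pow, ih]

theorem dvd_teichmuller_term (p : ℕ) [Fact p.Prime] (k : Type*) [CommRing k] [CharP k p]
    [PerfectRing k p] (n i : ℕ) (hi : i ≤ n) (xi : k) (y : WittVector p k)
    (hy : (y.coeff 0) ^ (p ^ n) = xi) :
    (p : WittVector p k) ^ n ∣
      WittVector.teichmuller p (((_root_.frobeniusEquiv k p).symm ^ i) xi) * (p : WittVector p k) ^ i -
        (p : WittVector p k) ^ i * y ^ (p ^ (n - i)) := by
  have hz : ((_root_.frobeniusEquiv k p).symm ^ i) xi = (y.coeff 0) ^ (p ^ (n - i)) := by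
    rw [← hy]
    have : (y.coeff 0) ^ (p ^ n) = ((y.coeff 0) ^ (p ^ (n - i))) ^ (p ^ i) := by
      rw [← pow_mul, ← pow_add, Nat.sub_add_cancel hi]
    rw [this, frobeniusEquiv_symm_pow_apply_pow]
  rw [hz, map_pow]
  have hdiv : (p : WittVector p k) ∣ y - WittVector.teichmuller p (y.coeff 0) := by
    rw [← Ideal.mem_span_singleton, WittVector.mem_span_p_iff_coeff_zero_eq_zero]
    have := (WittVector.constantCoeff (p := p) (R := k)).map_sub y
      (WittVector.teichmuller p (y.coeff 0))
    simp only [WittVector.constantCoeff_apply, WittVector.teichmuller_coeff_zero, sub_self] at this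
    exact this
  have h2 := dvd_sub_pow_of_dvd_sub hdiv (n - i)
  obtain ⟨c, hc⟩ := h2
  refine ⟨-(p : WittVector p k) * c, ?_⟩
  have hpn : (p : WittVector p k) ^ n = (p : WittVector p k) ^ i * (p : WittVector p k) ^ (n - i) := by
    rw [← pow_add, Nat.add_sub_cancel' hi]
  calc WittVector.teichmuller p (y.coeff 0) ^ p ^ (n - i) * (p : WittVector p k) ^ i -
        (p : WittVector p k) ^ i * y ^ p ^ (n - i)
      = -((p : WittVector p k) ^ i * (y ^ p ^ (n - i) -
          WittVector.teichmuller p (y.coeff 0) ^ p ^ (n - i))) := by ring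
    _ = -((p : WittVector p k) ^ i * ((p : WittVector p k) ^ (n - i + 1) * c)) := by rw [hc]
    _ = (p : WittVector p k) ^ n * (-(p : WittVector p k) * c) := by rw [hpn]; ring

/-- Let p be a prime, k a perfect field of characteristic p, n a natural number and x an element of
W_n(k), written here as the truncation of a Witt vector x over k. For any Witt vectors y_0, …,
y_{n−1} over k lifting the components of x under the map y ↦ (y_0)^(p^n) (that is, (y_i)_0^(p^n) =
x_i), one has x = Σ_{i<n} p^i y_i^(p^(n−i)) in W_n(k). -/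
theorem result (p : ℕ) [Fact p.Prime]
    (k : Type u) [Field k] [CharP k p] [PerfectRing k p] (n : ℕ) (x : WittVector p k)
    (y : Fin n → WittVector p k) (hy : ∀ i : Fin n, ((y i).coeff 0) ^ (p ^ n) = x.coeff i) :
    WittVector.truncate n x =
      WittVector.truncate n (∑ i : Fin n, (p : WittVector p k) ^ (i : ℕ) * (y i) ^ (p ^ (n - i))) := by
  classical
  rw [← sub_eq_zero, ← map_sub, ← RingHom.mem_ker, WittVector.mem_ker_truncate]
  intro m hm
  have key : (x - ∑ i : Fin n, (p : WittVector p k) ^ (i : ℕ) * (y i) ^ (p ^ (n - i))) ∈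
      Ideal.span {((p : WittVector p k) ^ n)} := by
    rw [Ideal.mem_span_singleton]
    cases n with
    | zero => simp
    | succ n' =>
      have h1 := WittVector.dvd_sub_sum_teichmuller_iterateFrobeniusEquiv_coeff x n'
      rw [← Nat.range_succ_eq_Iic, Finset.sum_range] at h1
      have h3 := dvd_add h1 (Finset.dvd_sum (s := Finset.univ) (fun (i : Fin (n' + 1)) _ =>
        dvd_teichmuller_term p k (n' + 1) i (le_of_lt i.2) (x.coeff i) (y i) (hy i)))
      rw [Finset.sum_sub_distrib] at h3
      convert h3 using 1
      ring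
  exact (WittVector.mem_span_p_pow_iff_le_coeff_eq_zero _ n).mp key m hm

end Groth.Agent.S18942
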