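import Groth.Statements.S18943
-- import your own Groth.Agent.* helpers here
import Mathlib.Tactic
import Mathlib.Analysis.Calculus.ContDiff.Convolution
import Mathlib.Analysis.Calculus.BumpFunction.InnerProduct
import Mathlib.MeasureTheory.Integral.IntervalIntegral.FundThmCalculus

set_option autoImplicit false
open scoped ContDiff
open CInfGerm

namespace Groth.Agent.S18943

open MeasureTheory Convolution Set in
theorem contDiff_integral_unitInterval (h : ℝ → ℝ) (hh : ContDiff ℝ ∞ h) :
    ContDiff ℝ ∞ (fun x : ℝ => ∫ t in (0 : ℝ)..1, h (t * x)) := by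
  let φ : ContDiffBump (0 : ℝ) := ⟨1, 2, one_pos, one_lt_two⟩
  let f₀ : ℝ → ℝ := Set.indicator (Set.Icc (0 : ℝ) 1) (fun _ => (1 : ℝ))
  let g : ℝ → ℝ → ℝ := fun p y => φ y * h (-y * p)
  have hf₀ : LocallyIntegrable f₀ volume :=
    (locallyIntegrable_const (1 : ℝ)).indicator measurableSet_Icc
  have hgs : ∀ p, ∀ x, p ∈ (Set.univ : Set ℝ) → x ∉ Metric.closedBall (0 : ℝ) 2 → g p x = 0 := by
    intro p x _ hx
    have : φ x = 0 := by
      apply φ.zero_of_le_dist
      rw [Metric.mem_closedBall, not_le] at hx
      exact hx.le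
    simp [g, this]
  have hg : ContDiffOn ℝ ∞ ↿g ((Set.univ : Set ℝ) ×ˢ Set.univ) := by
    apply ContDiff.contDiffOn
    have h1 : ContDiff ℝ ∞ (fun q : ℝ × ℝ => φ q.2) := φ.contDiff.comp contDiff_snd
    have h2 : ContDiff ℝ ∞ (fun q : ℝ × ℝ => h (-q.2 * q.1)) :=
      hh.comp (contDiff_snd.neg.mul contDiff_fst)
    exact h1.mul h2
  have key := contDiffOn_convolution_right_with_param_comp (μ := volume) (n := ⊤)
    (ContinuousLinearMap.lsmul ℝ ℝ) (v := fun _ : ℝ => (0 : ℝ)) contDiffOn_const
    isOpen_univ (isCompact_closedBall (0 : ℝ) 2) hgs hf₀ hg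
  rw [contDiffOn_univ] at key
  convert key using 1
  ext x
  rw [convolution_lsmul]
  have h3 : ∀ t : ℝ, f₀ t • g x (0 - t) =
      Set.indicator (Set.Icc (0 : ℝ) 1) (fun t => h (t * x)) t := by
    intro t
    by_cases ht : t ∈ Set.Icc (0 : ℝ) 1
    · have hφ : φ (0 - t) = 1 := by
        apply φ.one_of_mem_closedBall
        rw [Metric.mem_closedBall, Real.dist_eq]
        simp only [zero_sub, sub_zero, abs_neg]
        rw [abs_of_nonneg ht.1]
        exact ht.2
      simp only [f₀, g, Set.indicator_of_mem ht, hφ, one_mul, smul_eq_mul]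
      congr 1
      ring
    · simp [f₀, Set.indicator_of_notMem ht]
  simp_rw [h3]
  rw [integral_indicator measurableSet_Icc, intervalIntegral.integral_of_le zero_le_one,
    integral_Icc_eq_integral_Ioc]

/-- Let f be an infinitely differentiable real-valued function on the real line with f(0) = 0. Then f(x)
= x·g(x) for an infinitely differentiable function g. (The source phrases this for germs at 0: the
maximal ideal of the local ring of germs of smooth functions at the origin is generated by the
coordinate t; the global form stated here is what its argument, smooth extension of f(x)/x across 0,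
gives.) -/
theorem result (f : ℝ → ℝ) (hf : ContDiff ℝ ∞ f) (h0 : f 0 = 0) :
    ∃ g : ℝ → ℝ, ContDiff ℝ ∞ g ∧ ∀ x : ℝ, f x = x * g x := by
  have hd : ContDiff ℝ ∞ (deriv f) := (contDiff_infty_iff_deriv.mp hf).2
  refine ⟨fun x => ∫ t in (0 : ℝ)..1, deriv f (t * x), contDiff_integral_unitInterval _ hd, ?_⟩
  intro x
  have hcont : ContinuousOn (fun t : ℝ => deriv f (0 + t • x)) (Set.Icc 0 1) := by
    apply Continuous.continuousOn
    exact hd.continuous.comp (continuous_const.add (continuous_id.smul continuous_const))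
  have hderiv : ∀ t ∈ Set.Icc (0 : ℝ) 1, HasDerivAt f (deriv f (0 + t • x)) (0 + t • x) := by
    intro t _
    exact (hf.differentiable (by simp)).differentiableAt.hasDerivAt
  have := intervalIntegral.integral_unitInterval_deriv_eq_sub hcont hderiv
  simp only [zero_add, smul_eq_mul, h0, sub_zero] at this
  exact this.symm

end Groth.Agent.S18943
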