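import Groth.Statements.S18945
-- import your own Groth.Agent.* helpers here
import Groth.Agent.Lib.Helper33.SyntGeom

set_option autoImplicit false
universe u
open CategoryTheory AlgebraicGeometry
open Synt

namespace Groth.Agent.S18945

open Groth.Agent.Lib.Helper33.SyntLib Groth.Agent.Lib.Helper33.SyntGeom

/-- Let p be a prime, X a scheme and a a global section of the structure sheaf of X. There is a covering
of X for the syntomic topology, that is a jointly surjective family of syntomic morphisms X_i → X,
such that the restriction of a to each X_i is a p-th power. (The source states the surjectivity of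
the p-th power map of the structure sheaf on the small syntomic site of a syntomic scheme over a
perfect field of characteristic p; the covering it uses elsewhere, adjoining a p-th root T^p = a
over affine pieces, gives the statement for every scheme, which is the form given here.) -/
theorem result (p : ℕ) [Fact p.Prime] (X : Scheme.{u}) (a : Γ(X, ⊤)) :
    ∃ 𝒰 : Scheme.Cover.{u} (Scheme.precoverage @Synt.IsSyntomicMor) X,
      ∀ i : 𝒰.I₀, ∃ b : Γ(𝒰.X i, ⊤), b ^ p = (𝒰.f i).appTop a := by
  have hp : p ≠ 0 := (Fact.out : p.Prime).ne_zero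
  have hsynt : ∀ V : X.affineOpens, Synt.IsSyntomic Γ(X, V.1) (BV p X a V) ∧
      Module.FaithfullyFlat Γ(X, V.1) (BV p X a V) :=
    fun V => adjoinRoot_pow_sub_C_syntomic p hp _ (aV X a V)
  refine ⟨Scheme.Cover.mkOfCovers X.affineOpens (fun V => Spec (CommRingCat.of (BV p X a V)))
    (fun V => specTo V.2 (BV p X a V)) ?_ (fun V => specTo_isSyntomicMor V.2 (BV p X a V) (hsynt V).1), ?_⟩
  · intro x
    obtain ⟨_, ⟨U, hU, rfl⟩, hxU, -⟩ := X.isBasis_affineOpens.exists_subset_of_mem_open
      (Set.mem_univ x) isOpen_univ
    obtain ⟨y, hy⟩ := specTo_range hU (BV p X a ⟨U, hU⟩) (hsynt ⟨U, hU⟩).2 x hxU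
    exact ⟨⟨U, hU⟩, y, hy⟩
  · intro V
    exact specTo_root p X a V


end Groth.Agent.S18945
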