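import Groth.Statements.S18946
-- import your own Groth.Agent.* helpers here
import Mathlib.Tactic

set_option autoImplicit false
universe u
open scoped BigOperators
open InvQ

namespace Groth.Agent.S18946

open MvPolynomial in
theorem aeval_rescale_monomial {k : Type*} [Field k] {ι : Type*} [Fintype ι] [DecidableEq ι]
    (c : ι → k) (m : ι →₀ ℕ) (a : k) :
    aeval (fun i => (C (c i) : MvPolynomial ι k) * X i) (monomial m a) =
      monomial m (a * ∏ i, c i ^ m i) := by
  rw [aeval_monomial, monomial_eq, Finsupp.prod_fintype _ _ (by simp),
    Finsupp.prod_fintype _ _ (by simp)]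
  simp only [mul_pow, Finset.prod_mul_distrib, ← map_pow, ← map_prod]
  rw [map_mul, mul_assoc]
  rfl

open MvPolynomial in
theorem coeff_aeval_rescale {k : Type*} [Field k] {ι : Type*} [Fintype ι] [DecidableEq ι]
    (c : ι → k) (m : ι →₀ ℕ) (f : MvPolynomial ι k) :
    coeff m (aeval (fun i => (C (c i) : MvPolynomial ι k) * X i) f) =
      (∏ i, c i ^ m i) * coeff m f := by
  induction f using MvPolynomial.induction_on' with
  | monomial m' a =>
    rw [aeval_rescale_monomial, coeff_monomial, coeff_monomial]
    split_ifs with h
    · subst h; ring
    · simp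
  | add p q hp hq =>
    rw [map_add, coeff_add, coeff_add, hp, hq, mul_add]

/-- Let k be an algebraically closed field of characteristic zero and n a natural number, and let the
torus of (n+1)-tuples of units of k with product 1 act on the polynomial ring k[t_0, ..., t_n] by
rescaling each variable t_i by the i-th unit. A polynomial is fixed by every such rescaling if and
only if it lies in the k-subalgebra generated by the product t_0 t_1 ... t_n. (This is the
computation of the ring of functions on affine (n+1)-space invariant under the maximal diagonal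
torus of the special linear group, identified with the polynomial ring in the single coordinate t =
t_0 ... t_n of the line it maps to by the product map; invariance is tested on k-valued points of
the torus, which over an infinite field is the same as invariance under the group scheme.) -/
theorem result
    (k : Type u) [Field k] [IsAlgClosed k] [CharZero k] (n : ℕ)
    (f : MvPolynomial (Fin (n + 1)) k) :
    (∀ σ : Fin (n + 1) → kˣ, ∏ i, (σ i : k) = 1 →
        MvPolynomial.aeval (fun i => MvPolynomial.C (σ i : k) * MvPolynomial.X i) f = f) ↔
      f ∈ Algebra.adjoin k ({∏ i : Fin (n + 1), MvPolynomial.X i} : Set (MvPolynomial (Fin (n + 1)) k)) := by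
  classical
  constructor
  · intro hfix
    have hconst : ∀ m ∈ f.support, ∀ i j : Fin (n + 1), ¬ (m j < m i) := by
      intro m hm i j hlt
      have hij : i ≠ j := by
        rintro rfl
        exact lt_irrefl _ hlt
      have h2 : (2 : k) ≠ 0 := two_ne_zero
      let u : kˣ := Units.mk0 2 h2
      let σ : Fin (n + 1) → kˣ := fun l => if l = i then u else if l = j then u⁻¹ else 1
      have hσi : σ i = u := by simp [σ]
      have hσj : σ j = u⁻¹ := by simp [σ, hij.symm]
      have hσl : ∀ l, l ≠ i ∧ l ≠ j → σ l = 1 := by
        intro l hl
        simp [σ, hl.1, hl.2]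
      have hprod : ∏ l, (σ l : k) = 1 := by
        rw [Finset.prod_eq_mul i j hij (fun l _ hl => by rw [hσl l hl]; simp)
          (fun h => absurd (Finset.mem_univ _) h) (fun h => absurd (Finset.mem_univ _) h),
          hσi, hσj]
        simp [u]
      have h1 := congrArg (MvPolynomial.coeff m) (hfix σ hprod)
      rw [coeff_aeval_rescale] at h1
      have hcoeff : MvPolynomial.coeff m f ≠ 0 := MvPolynomial.mem_support_iff.mp hm
      have h3 : ∏ l, (σ l : k) ^ m l = 1 := by
        have : (∏ l, (σ l : k) ^ m l - 1) * MvPolynomial.coeff m f = 0 := by
          rw [sub_mul, h1, one_mul, sub_self]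
        rcases mul_eq_zero.mp this with h | h
        · exact sub_eq_zero.mp h
        · exact absurd h hcoeff
      rw [Finset.prod_eq_mul i j hij (fun l _ hl => by rw [hσl l hl]; simp)
          (fun h => absurd (Finset.mem_univ _) h) (fun h => absurd (Finset.mem_univ _) h),
          hσi, hσj] at h3
      have h4 : (2 : k) ^ (m i - m j) = 1 := by
        have h5 : (2 : k) ^ m i * ((2 : k)⁻¹) ^ m j = 1 := by simpa [u] using h3
        have h6 : (2 : k) ^ m i = (2 : k) ^ (m i - m j) * (2 : k) ^ m j := by
          rw [← pow_add, Nat.sub_add_cancel hlt.le]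
        rw [h6, mul_assoc, inv_pow, mul_inv_cancel₀ (pow_ne_zero _ h2), mul_one] at h5
        exact h5
      have h7 : ((2 ^ (m i - m j) : ℕ) : k) = ((1 : ℕ) : k) := by
        push_cast
        exact h4
      have h8 := Nat.cast_injective h7
      have h9 : 0 < m i - m j := Nat.sub_pos_of_lt hlt
      have h10 : 1 < 2 ^ (m i - m j) := Nat.one_lt_two_pow h9.ne'
      omega
    rw [← MvPolynomial.support_sum_monomial_coeff f]
    apply Subalgebra.sum_mem
    intro m hm
    have hm0 : ∀ i, m i = m 0 := by
      intro i
      have h1 := hconst m hm i 0
      have h2 := hconst m hm 0 i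
      omega
    rw [MvPolynomial.monomial_eq, Finsupp.prod_fintype _ _ (by simp)]
    simp only [hm0, Finset.prod_pow]
    apply Subalgebra.mul_mem
    · exact Subalgebra.algebraMap_mem _ _
    · apply Subalgebra.pow_mem
      exact Algebra.subset_adjoin (Set.mem_singleton _)
  · intro hf σ hσ
    let φ : MvPolynomial (Fin (n + 1)) k →ₐ[k] MvPolynomial (Fin (n + 1)) k :=
      MvPolynomial.aeval (fun i => MvPolynomial.C (σ i : k) * MvPolynomial.X i)
    have hle : Algebra.adjoin k
        ({∏ i : Fin (n + 1), MvPolynomial.X i} : Set (MvPolynomial (Fin (n + 1)) k)) ≤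
        AlgHom.equalizer φ (AlgHom.id k _) := by
      apply Algebra.adjoin_le
      intro x hx
      rw [Set.mem_singleton_iff] at hx
      subst hx
      show φ _ = _
      simp only [φ, map_prod, MvPolynomial.aeval_X, Finset.prod_mul_distrib]
      rw [← map_prod, hσ, map_one, one_mul]
      rfl
    exact hle hf

end Groth.Agent.S18946
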