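import Groth.Statements.S18948
-- import your own Groth.Agent.* helpers here
import Mathlib.Tactic

set_option autoImplicit false
universe u v
open CExt

namespace Groth.Agent.S18948

theorem mem_orbit_conj_iff {H : Type*} [Group H] (y z : H) :
    z ∈ MulAction.orbit (ConjAct H) y ↔ ∃ h : H, h * y * h⁻¹ = z := by
  constructor
  · rintro ⟨c, rfl⟩
    exact ⟨ConjAct.ofConjAct c, (ConjAct.smul_def c y).symm⟩
  · rintro ⟨h, rfl⟩
    refine ⟨ConjAct.toConjAct h, ?_⟩
    show ConjAct.toConjAct h • y = _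
    rw [ConjAct.smul_def, ConjAct.ofConjAct_toConjAct]

/-- Let f : E → G be a surjective homomorphism of groups whose kernel is central in E, and let x ∈ E.
Then f maps the conjugacy class of x bijectively onto the conjugacy class of f(x) if and only if
every element of G commuting with f(x) is the image of some element of E commuting with x. (In the
source E → G is the central extension, with kernel the roots of unity, attached to a Brauer class of
the classifying stack of a finite tame étale group scheme, and a conjugacy class of E mapping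
bijectively onto a given class of G is a marking; the equivalence is stated here for an arbitrary
central extension of abstract groups.) -/
theorem result {E : Type u} {G : Type v} [Group E] [Group G]
    (f : E →* G) (hf : Function.Surjective f) (hker : f.ker ≤ Subgroup.center E) (x : E) :
    Set.BijOn f (MulAction.orbit (ConjAct E) x) (MulAction.orbit (ConjAct G) (f x)) ↔
      ∀ g : G, g * f x = f x * g → ∃ e : E, f e = g ∧ e * x = x * e := by
  constructor
  · intro hbij g hg
    obtain ⟨e, rfl⟩ := hf g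
    refine ⟨e, rfl, ?_⟩
    have hmem1 : e * x * e⁻¹ ∈ MulAction.orbit (ConjAct E) x := (mem_orbit_conj_iff x _).2 ⟨e, rfl⟩
    have hmem2 : x ∈ MulAction.orbit (ConjAct E) x := (mem_orbit_conj_iff x _).2 ⟨1, by simp⟩
    have himg : f (e * x * e⁻¹) = f x := by
      rw [map_mul, map_mul, map_inv, hg, mul_inv_cancel_right]
    have := hbij.injOn hmem1 hmem2 himg
    calc e * x = e * x * e⁻¹ * e := by rw [inv_mul_cancel_right]
      _ = x * e := by rw [this]
  · intro hlift
    refine ⟨?_, ?_, ?_⟩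
    · intro y hy
      obtain ⟨h, rfl⟩ := (mem_orbit_conj_iff x y).1 hy
      exact (mem_orbit_conj_iff (f x) _).2 ⟨f h, by simp⟩
    · intro y hy z hz hyz
      obtain ⟨h₁, rfl⟩ := (mem_orbit_conj_iff x y).1 hy
      obtain ⟨h₂, rfl⟩ := (mem_orbit_conj_iff x z).1 hz
      have hcomm : f (h₂⁻¹ * h₁) * f x = f x * f (h₂⁻¹ * h₁) := by
        have h3 : f h₁ * f x * (f h₁)⁻¹ = f h₂ * f x * (f h₂)⁻¹ := by
          simpa using hyz
        rw [map_mul, map_inv]
        calc (f h₂)⁻¹ * f h₁ * f x
            = (f h₂)⁻¹ * (f h₁ * f x * (f h₁)⁻¹) * f h₁ := by group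
          _ = (f h₂)⁻¹ * (f h₂ * f x * (f h₂)⁻¹) * f h₁ := by rw [h3]
          _ = f x * ((f h₂)⁻¹ * f h₁) := by group
      obtain ⟨e, hfe, hex⟩ := hlift _ hcomm
      have hk : e⁻¹ * (h₂⁻¹ * h₁) ∈ f.ker := by
        rw [MonoidHom.mem_ker, map_mul, map_inv, hfe, inv_mul_cancel]
      have hc := Subgroup.mem_center_iff.mp (hker hk) x
      have hx : (h₂⁻¹ * h₁) * x = x * (h₂⁻¹ * h₁) := by
        calc (h₂⁻¹ * h₁) * x = e * (e⁻¹ * (h₂⁻¹ * h₁)) * x := by group
          _ = e * (e⁻¹ * (h₂⁻¹ * h₁) * x) := by group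
          _ = e * (x * (e⁻¹ * (h₂⁻¹ * h₁))) := by rw [← hc]
          _ = (e * x) * (e⁻¹ * (h₂⁻¹ * h₁)) := by group
          _ = (x * e) * (e⁻¹ * (h₂⁻¹ * h₁)) := by rw [hex]
          _ = x * (h₂⁻¹ * h₁) := by group
      calc h₁ * x * h₁⁻¹ = h₂ * ((h₂⁻¹ * h₁) * x) * h₁⁻¹ := by group
        _ = h₂ * (x * (h₂⁻¹ * h₁)) * h₁⁻¹ := by rw [hx]
        _ = h₂ * x * h₂⁻¹ := by group
    · intro z hz
      obtain ⟨g, rfl⟩ := (mem_orbit_conj_iff (f x) z).1 hz
      obtain ⟨e, rfl⟩ := hf g
      exact ⟨e * x * e⁻¹, (mem_orbit_conj_iff x _).2 ⟨e, rfl⟩, by simp⟩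

end Groth.Agent.S18948
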