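import Groth.Statements.S18949
-- import your own Groth.Agent.* helpers here
import Mathlib.Tactic

set_option autoImplicit false
universe u v
open CExt

namespace Groth.Agent.S18949

/-- Automorphisms over the base: let f : E → G be a surjective homomorphism of groups with central
kernel A. For every homomorphism χ : G → A the map e ↦ χ(f(e)) · e is an endomorphism of E over G
which is the identity on A; and every endomorphism α of E with f ∘ α = f and α equal to the identity
on A is of this form for exactly one χ. (In the source this identifies the automorphisms of a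
central extension fixing its kernel with Hom(G, A), for extensions of profinite étale group schemes
over a field; stated here for abstract groups.) -/
theorem result {E : Type u} {G : Type v} [Group E] [Group G]
    (f : E →* G) (hf : Function.Surjective f) (hker : f.ker ≤ Subgroup.center E) :
    (∀ χ : G →* f.ker, ∃ α : E →* E, f.comp α = f ∧ (∀ a ∈ f.ker, α a = a) ∧
        ∀ e : E, α e = (χ (f e) : E) * e) ∧
      ∀ α : E →* E, f.comp α = f → (∀ a ∈ f.ker, α a = a) →
        ∃! χ : G →* f.ker, ∀ e : E, α e = (χ (f e) : E) * e := by
  have hcen : ∀ a : f.ker, ∀ e : E, (a : E) * e = e * (a : E) := by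
    intro a e
    exact (Subgroup.mem_center_iff.mp (hker a.2) e).symm
  constructor
  · intro χ
    have hχker : ∀ g : G, f (χ g : E) = 1 := fun g => MonoidHom.mem_ker.mp (χ g).2
    let α : E →* E :=
      { toFun := fun e => (χ (f e) : E) * e
        map_one' := by simp
        map_mul' := by
          intro a b
          simp only [map_mul, Subgroup.coe_mul]
          calc (χ (f a) : E) * (χ (f b) : E) * (a * b)
              = (χ (f a) : E) * ((χ (f b) : E) * a) * b := by group
            _ = (χ (f a) : E) * (a * (χ (f b) : E)) * b := by rw [hcen (χ (f b)) a]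
            _ = (χ (f a) : E) * a * ((χ (f b) : E) * b) := by group }
    refine ⟨α, ?_, ?_, fun e => rfl⟩
    · ext e
      show f ((χ (f e) : E) * e) = f e
      rw [map_mul, hχker, one_mul]
    · intro a ha
      show (χ (f a) : E) * a = a
      rw [MonoidHom.mem_ker.mp ha, map_one, Subgroup.coe_one, one_mul]
  · intro α hα hαA
    have hfα : ∀ e : E, f (α e) = f e := fun e => by
      have := congrArg (fun φ : E →* G => φ e) hα
      simpa using this
    have hmem : ∀ e : E, α e * e⁻¹ ∈ f.ker := by
      intro e
      rw [MonoidHom.mem_ker, map_mul, map_inv, hfα, mul_inv_cancel]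
    have hwd : ∀ e₁ e₂ : E, f e₁ = f e₂ → α e₁ * e₁⁻¹ = α e₂ * e₂⁻¹ := by
      intro e₁ e₂ h
      have hk : e₂⁻¹ * e₁ ∈ f.ker := by
        rw [MonoidHom.mem_ker, map_mul, map_inv, h, inv_mul_cancel]
      have h1 : α (e₂⁻¹ * e₁) = e₂⁻¹ * e₁ := hαA _ hk
      have h2 : α e₁ = α e₂ * (e₂⁻¹ * e₁) := by
        rw [← h1, ← map_mul, mul_inv_cancel_left]
      rw [h2]
      group
    let χfun : G → f.ker := fun g => ⟨α (Function.surjInv hf g) * (Function.surjInv hf g)⁻¹, hmem _⟩
    have hχfun : ∀ e : E, (χfun (f e) : E) = α e * e⁻¹ := by
      intro e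
      exact hwd _ _ (Function.surjInv_eq hf (f e))
    have hmul : ∀ a b : E, α (a * b) * (a * b)⁻¹ = (α a * a⁻¹) * (α b * b⁻¹) := by
      intro a b
      have hc := hcen ⟨α b * b⁻¹, hmem b⟩ a⁻¹
      simp only at hc
      calc α (a * b) * (a * b)⁻¹ = α a * ((α b * b⁻¹) * a⁻¹) := by rw [map_mul]; group
        _ = α a * (a⁻¹ * (α b * b⁻¹)) := by rw [hc]
        _ = (α a * a⁻¹) * (α b * b⁻¹) := by group
    let χ : G →* f.ker :=
      { toFun := χfun
        map_one' := by
          apply Subtype.ext
          have := hχfun 1
          rw [map_one] at this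
          rw [this]
          simp
        map_mul' := by
          intro g₁ g₂
          obtain ⟨a, rfl⟩ := hf g₁
          obtain ⟨b, rfl⟩ := hf g₂
          apply Subtype.ext
          rw [← map_mul, Subgroup.coe_mul, hχfun, hχfun, hχfun, hmul] }
    refine ⟨χ, ?_, ?_⟩
    · intro e
      show α e = (χfun (f e) : E) * e
      rw [hχfun, inv_mul_cancel_right]
    · intro χ' hχ'
      ext g
      obtain ⟨e, rfl⟩ := hf g
      show (χ' (f e) : E) = (χfun (f e) : E)
      rw [hχfun, hχ' e, mul_inv_cancel_right]

end Groth.Agent.S18949
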