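import Groth.Statements.S18950
-- import your own Groth.Agent.* helpers here

set_option autoImplicit false
universe u v
open CExt

namespace Groth.Agent.S18950

/-- Let f : E → G be a homomorphism of groups whose kernel is central in E, let α be an endomorphism of
E with f ∘ α = f which is the identity on the kernel, and let S ⊆ E be a subset fixed pointwise by α
such that f(S) generates G. Then α is the identity. (In the source S is the marking of a marked
central extension of finite tame étale group schemes and the hypothesis is that the marked conjugacy
classes generate G; the conclusion there is that a morphism of marked extensions inducing the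
identity on the kernel and on G is unique.) -/
theorem result {E : Type u} {G : Type v} [Group E] [Group G]
    (f : E →* G) (hker : f.ker ≤ Subgroup.center E) (α : E →* E) (hα : f.comp α = f)
    (hαA : ∀ a ∈ f.ker, α a = a) (S : Set E) (hS : Subgroup.closure (f '' S) = ⊤)
    (hαS : ∀ s ∈ S, α s = s) : α = MonoidHom.id E := by
  have key : ∀ e : E, α e = e := by
    let H : Subgroup E :=
      { carrier := {e | α e = e}
        mul_mem' := by
          intro a b ha hb
          simp only [Set.mem_setOf_eq] at ha hb ⊢
          rw [map_mul, ha, hb]
        one_mem' := by simp
        inv_mem' := by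
          intro a ha
          simp only [Set.mem_setOf_eq] at ha ⊢
          rw [map_inv, ha] }
    have hSH : f '' S ⊆ (H.map f : Set G) := by
      rintro _ ⟨s, hs, rfl⟩
      exact ⟨s, hαS s hs, rfl⟩
    have hmap : H.map f = ⊤ := by
      rw [eq_top_iff, ← hS, Subgroup.closure_le]
      exact hSH
    intro e
    have he : f e ∈ H.map f := by rw [hmap]; trivial
    obtain ⟨h, hh, hfe⟩ := he
    have hk : h⁻¹ * e ∈ f.ker := by
      rw [MonoidHom.mem_ker, map_mul, map_inv, hfe, inv_mul_cancel]
    have h1 : α (h⁻¹ * e) = h⁻¹ * e := hαA _ hk
    have h2 : α h = h := hh
    calc α e = α (h * (h⁻¹ * e)) := by rw [mul_inv_cancel_left]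
      _ = h * (h⁻¹ * e) := by rw [map_mul, h1, h2]
      _ = e := by rw [mul_inv_cancel_left]
  exact MonoidHom.ext key

end Groth.Agent.S18950
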