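import Groth.Statements.S18953
import Mathlib

set_option autoImplicit false
universe u v
open OrbPic

namespace Groth.Agent.S18953

/-- Let G₁ and G₂ be groups with subsets C₁ ⊆ G₁ and C₂ ⊆ G₂, and let C ⊆ G₁ × G₂ be the union of C₁ ×
{1} and {1} × C₂. Restricting the character and the weight along the two inclusions G₁ → G₁ × G₂ and
G₂ → G₁ × G₂ is a bijection from the geometric partial orbifold line bundles of G₁ × G₂ with respect
to C onto pairs of geometric partial orbifold line bundles of G₁ with respect to C₁ and of G₂ with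
respect to C₂. (As in the source after a choice of roots of unity, each group stands for the
geometric points of a tame finite étale group scheme, characters are homomorphisms to ℚ/ℤ and
weights are class functions; the source states the Galois-equivariant version, which follows by
taking invariants.) -/
theorem result (G₁ : Type u) (G₂ : Type v) [Group G₁] [Group G₂] (C₁ : Set G₁) (C₂ : Set G₂) :
    Set.BijOn
      (fun p : (Additive (G₁ × G₂) →+ W4c6brauerbgmalle.QmodZ) × (G₁ × G₂ → ℚ) =>
        ((p.1.comp (MonoidHom.toAdditive (MonoidHom.inl G₁ G₂)), fun g => p.2 (g, 1)),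
          (p.1.comp (MonoidHom.toAdditive (MonoidHom.inr G₁ G₂)), fun g => p.2 (1, g))))
      (W4c6brauerbgmalle.picOrb (G₁ × G₂) ((fun g => (g, (1 : G₂))) '' C₁ ∪ (fun g => ((1 : G₁), g)) '' C₂))
      ((W4c6brauerbgmalle.picOrb G₁ C₁ : Set _) ×ˢ (W4c6brauerbgmalle.picOrb G₂ C₂ : Set _)) := by
  classical
  refine ⟨?_, ?_, ?_⟩
  · -- MapsTo
    rintro ⟨χ, w⟩ ⟨h1, h2, h3, h4⟩
    simp only at h1 h2 h3 h4
    refine ⟨⟨h1, ?_, ?_, ?_⟩, ⟨h1, ?_, ?_, ?_⟩⟩
    · intro g hg
      by_cases hC : ((g, (1 : G₂)) : G₁ × G₂) ∈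
          ((fun g => (g, (1 : G₂))) '' C₁ ∪ (fun g => ((1 : G₁), g)) '' C₂)
      · rcases hC with ⟨g', hg', he⟩ | ⟨g', hg', he⟩
        · simp only [Prod.mk.injEq] at he
          exact absurd (he.1 ▸ hg') hg
        · simp only [Prod.mk.injEq] at he
          show w (g, 1) = 0
          rw [← he.1]
          exact h1
      · exact h2 _ hC
    · intro g h
      have := h3 (g, 1) (h, 1)
      simpa using this
    · intro g hg
      have := h4 (g, 1) (Or.inl ⟨g, hg, rfl⟩)
      simpa using this
    · intro g hg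
      by_cases hC : (((1 : G₁), g) : G₁ × G₂) ∈
          ((fun g => (g, (1 : G₂))) '' C₁ ∪ (fun g => ((1 : G₁), g)) '' C₂)
      · rcases hC with ⟨g', hg', he⟩ | ⟨g', hg', he⟩
        · simp only [Prod.mk.injEq] at he
          show w (1, g) = 0
          rw [← he.2]
          exact h1
        · simp only [Prod.mk.injEq] at he
          exact absurd (he.2 ▸ hg') hg
      · exact h2 _ hC
    · intro g h
      have := h3 (1, g) (1, h)
      simpa using this
    · intro g hg
      have := h4 (1, g) (Or.inr ⟨g, hg, rfl⟩)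
      simpa using this
  · -- InjOn
    rintro ⟨χ, w⟩ ⟨h1, h2, h3, h4⟩ ⟨χ', w'⟩ ⟨h1', h2', h3', h4'⟩ heq
    simp only at h1 h2 h3 h4 h1' h2' h3' h4'
    simp only [Prod.mk.injEq] at heq
    obtain ⟨⟨hχ1, hw1⟩, ⟨hχ2, hw2⟩⟩ := heq
    have hχ : χ = χ' := by
      ext x
      obtain ⟨g₁, g₂⟩ := x
      have e : Additive.ofMul ((g₁, g₂) : G₁ × G₂) =
          Additive.ofMul ((g₁, 1) : G₁ × G₂) + Additive.ofMul ((1, g₂) : G₁ × G₂) := by
        rw [← ofMul_mul]
        simp
      have a1 := DFunLike.congr_fun hχ1 (Additive.ofMul g₁)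
      have a2 := DFunLike.congr_fun hχ2 (Additive.ofMul g₂)
      simp only [AddMonoidHom.coe_comp, Function.comp_apply, MonoidHom.toAdditive_apply_apply,
        toMul_ofMul, MonoidHom.inl_apply, MonoidHom.inr_apply] at a1 a2
      show χ (Additive.ofMul (g₁, g₂)) = χ' (Additive.ofMul (g₁, g₂))
      rw [e, map_add, map_add, a1, a2]
    have hw : w = w' := by
      funext x
      by_cases hC : x ∈ ((fun g => (g, (1 : G₂))) '' C₁ ∪ (fun g => ((1 : G₁), g)) '' C₂)
      · rcases hC with ⟨g', hg', rfl⟩ | ⟨g', hg', rfl⟩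
        · exact congrFun hw1 g'
        · exact congrFun hw2 g'
      · rw [h2 x hC, h2' x hC]
    rw [hχ, hw]
  · -- SurjOn
    rintro ⟨⟨χ₁, w₁⟩, ⟨χ₂, w₂⟩⟩ ⟨⟨a1, a2, a3, a4⟩, ⟨b1, b2, b3, b4⟩⟩
    simp only at a1 a2 a3 a4 b1 b2 b3 b4
    refine ⟨(χ₁.comp (MonoidHom.toAdditive (MonoidHom.fst G₁ G₂)) +
        χ₂.comp (MonoidHom.toAdditive (MonoidHom.snd G₁ G₂)),
      fun x => if x.2 = 1 then w₁ x.1 else if x.1 = 1 then w₂ x.2 else 0), ⟨?_, ?_, ?_, ?_⟩, ?_⟩
    · simp [a1]
    · rintro ⟨g₁, g₂⟩ hg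
      simp only
      split_ifs with hg2 hg1
      · apply a2
        intro hC
        apply hg
        subst hg2
        exact Or.inl ⟨g₁, hC, rfl⟩
      · apply b2
        intro hC
        apply hg
        subst hg1
        exact Or.inr ⟨g₂, hC, rfl⟩
      · rfl
    · rintro ⟨g₁, g₂⟩ ⟨k₁, k₂⟩
      simp only [Prod.mk_mul_mk, Prod.inv_mk]
      have e2 : k₂ * g₂ * k₂⁻¹ = 1 ↔ g₂ = 1 := by
        constructor
        · intro h
          have : g₂ = k₂⁻¹ * (k₂ * g₂ * k₂⁻¹) * k₂ := by group
          rw [this, h]; group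
        · rintro rfl; group
      have e1 : k₁ * g₁ * k₁⁻¹ = 1 ↔ g₁ = 1 := by
        constructor
        · intro h
          have : g₁ = k₁⁻¹ * (k₁ * g₁ * k₁⁻¹) * k₁ := by group
          rw [this, h]; group
        · rintro rfl; group
      simp only [e1, e2, a3, b3]
    · rintro x (⟨g, hg, rfl⟩ | ⟨g, hg, rfl⟩)
      · simp only [if_true]
        rw [a4 g hg]
        simp
      · simp only [if_true]
        have : (if g = 1 then w₁ 1 else w₂ g) = w₂ g := by
          split_ifs with h
          · rw [h, a1, b1]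
          · rfl
        rw [this, b4 g hg]
        simp
    · simp only [Prod.mk.injEq]
      refine ⟨⟨?_, ?_⟩, ⟨?_, ?_⟩⟩
      · ext g
        simp
      · funext g
        simp
      · ext g
        simp
      · funext g
        simp only [if_true]
        split_ifs with h
        · rw [h, a1, b1]
        · rfl

end Groth.Agent.S18953
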