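import Groth.Statements.S18954
-- import your own Groth.Agent.* helpers here
import Mathlib.Tactic

set_option autoImplicit false
universe u v w
open Classical
open BGCount

namespace Groth.Agent.S18954

/-- Let a finite group G act on a finite set X, let W be a finite set of orbits and f a function on
orbits with values in a field of characteristic zero. Then Σ_{O ∈ W} f(O)/|Stab(x_O)|, with x_O any
point of O, equals |G|⁻¹ · Σ f(orbit(x)) over the points x of X whose orbit lies in W. (In the
source X is the set of 1-cocycles of the absolute Galois group of a field in a finite étale group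
scheme G, acted on by the geometric points of G, the orbits are the isomorphism classes of G-torsors
and the stabilisers their automorphism groups; stated here for an arbitrary action of a finite group
on a finite set, the representative x_O being chosen by Quotient.out.) -/
theorem result {G : Type u} {X : Type v} (𝕜 : Type w)
    [Group G] [Fintype G] [MulAction G X] [Fintype X] [Field 𝕜] [CharZero 𝕜]
    (W : Finset (MulAction.orbitRel.Quotient G X)) (f : MulAction.orbitRel.Quotient G X → 𝕜) :
    (∑ O ∈ W, f O / (Nat.card (MulAction.stabilizer G O.out) : 𝕜)) =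
      (Fintype.card G : 𝕜)⁻¹ *
        ∑ x ∈ Finset.univ.filter (fun x : X => (Quotient.mk (MulAction.orbitRel G X) x) ∈ W),
          f (Quotient.mk (MulAction.orbitRel G X) x) := by
  have hG : (Fintype.card G : 𝕜) ≠ 0 := Nat.cast_ne_zero.mpr Fintype.card_ne_zero
  have key : ∀ O : MulAction.orbitRel.Quotient G X,
      ((Finset.univ.filter
          (fun x : X => (Quotient.mk (MulAction.orbitRel G X) x) = O)).card : 𝕜) *
        (Nat.card (MulAction.stabilizer G O.out) : 𝕜) = (Fintype.card G : 𝕜) := by
    intro O
    have h1 : Finset.univ.filter
        (fun x : X => (Quotient.mk (MulAction.orbitRel G X) x) = O) =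
        (MulAction.orbit G O.out).toFinset := by
      ext x
      simp only [Finset.mem_filter, Finset.mem_univ, true_and, Set.mem_toFinset]
      rw [← MulAction.orbitRel_apply, ← Quotient.eq (r := MulAction.orbitRel G X), Quotient.out_eq]
    rw [h1, Set.toFinset_card, Nat.card_eq_fintype_card, ← Nat.cast_mul,
      MulAction.card_orbit_mul_card_stabilizer_eq_card_group]
  have hstab : ∀ O : MulAction.orbitRel.Quotient G X,
      (Nat.card (MulAction.stabilizer G O.out) : 𝕜) ≠ 0 := by
    intro O h
    have := key O
    rw [h, mul_zero] at this
    exact hG this.symm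
  rw [← Finset.sum_fiberwise_of_maps_to (s := Finset.univ.filter
      (fun x : X => (Quotient.mk (MulAction.orbitRel G X) x) ∈ W)) (t := W)
      (g := fun x => Quotient.mk (MulAction.orbitRel G X) x)
      (fun x hx => (Finset.mem_filter.mp hx).2), Finset.mul_sum]
  apply Finset.sum_congr rfl
  intro O hO
  have h2 : (Finset.univ.filter
      (fun x : X => (Quotient.mk (MulAction.orbitRel G X) x) ∈ W)).filter
      (fun x => Quotient.mk (MulAction.orbitRel G X) x = O) =
      Finset.univ.filter (fun x : X => (Quotient.mk (MulAction.orbitRel G X) x) = O) := by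
    ext x
    simp only [Finset.mem_filter, Finset.mem_univ, true_and]
    constructor
    · exact fun h => h.2
    · exact fun h => ⟨h ▸ hO, h⟩
  rw [h2, Finset.sum_congr rfl (fun x hx => by rw [(Finset.mem_filter.mp hx).2] :
    ∀ x ∈ Finset.univ.filter (fun x : X => (Quotient.mk (MulAction.orbitRel G X) x) = O),
      f (Quotient.mk (MulAction.orbitRel G X) x) = f O), Finset.sum_const, nsmul_eq_mul]
  have hne : ((Finset.univ.filter
          (fun x : X => (Quotient.mk (MulAction.orbitRel G X) x) = O)).card : 𝕜) *
        (Nat.card (MulAction.stabilizer G O.out) : 𝕜) ≠ 0 := by rw [key O]; exact hG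
  rw [div_eq_iff (hstab O), ← key O]
  generalize ((Finset.univ.filter
          (fun x : X => (Quotient.mk (MulAction.orbitRel G X) x) = O)).card : 𝕜) = a at hne ⊢
  generalize (Nat.card (MulAction.stabilizer G O.out) : 𝕜) = b at hne ⊢
  calc f O = (a * b)⁻¹ * (a * b) * f O := by rw [inv_mul_cancel₀ hne, one_mul]
    _ = (a * b)⁻¹ * (a * f O) * b := by ring

end Groth.Agent.S18954
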