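import Groth.Statements.S18955
import Mathlib
import Groth.Agent.Lib.Helper18.DXAffine

set_option autoImplicit false
universe u
open CategoryTheory MonoidalCategory CartesianMonoidalCategory MonObj AlgebraicGeometry Opposite
open Magnet

namespace Groth.Agent.S18955


open Groth.Agent.Lib.Helper18.DXAffine Groth.Agent.Lib.Helper18.FpqcOver CategoryTheory.Limits

section general

variable {C : Type*} [Category C] [CartesianMonoidalCategory C] {G M X : C} [MonObj M] [MonObj G]
  (i : G ⟶ M) [IsMonHom i] (aX : MonAct G X)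

theorem restrict_eq {T : C} (ψ : M ⊗ T ⟶ X)
    (hψ : MonAct.IsEquivariant (((MonAct.regular M).restrict i).prod (MonAct.trivial G T)) aX ψ) :
    (i ▷ T) ≫ ψ = (G ◁ (lift (toUnit T ≫ η[M]) (𝟙 T) ≫ ψ)) ≫ aX.act := by
  apply hom_ext_lift₂
  intro T' g t
  rw [MonAct.mem_eqvHom_iff] at hψ
  have h1 := hψ T' g (toUnit T' ≫ η[M]) t
  have h2 : lift g (toUnit T' ≫ η[M]) ≫ ((MonAct.regular M).restrict i).act = g ≫ i := by
    rw [MonAct.lift_restrict_act, MonAct.lift_regular_act, ← Hom.one_def, _root_.mul_one]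
  have h3 : lift (toUnit T' ≫ η[M]) t = t ≫ lift (toUnit T ≫ η[M]) (𝟙 T) := by
    rw [comp_lift, Category.comp_id, ← Category.assoc, toUnit_unique (t ≫ toUnit T) (toUnit T')]
  rw [h2, h3] at h1
  rw [lift_whiskerRight_assoc, h1, lift_whiskerLeft_assoc]
  simp only [Category.assoc]

theorem eqv_of_restrict {Z : C} (j : Z ⟶ X) (φZ : M ⊗ Z ⟶ X)
    (h : (i ▷ Z) ≫ φZ = (G ◁ j) ≫ aX.act) :
    (G ◁ (i ▷ Z)) ≫ (((MonAct.regular M).restrict i).prod (MonAct.trivial G Z)).act ≫ φZ =
      (G ◁ (i ▷ Z)) ≫ (G ◁ φZ) ≫ aX.act := by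
  apply hom_ext_lift₂
  intro T' g w
  have hw : w = lift (w ≫ fst _ _) (w ≫ snd _ _) := (lift_comp_fst_snd w).symm
  generalize w ≫ fst _ _ = h' at hw
  generalize w ≫ snd _ _ = t at hw
  subst hw
  have e1 : lift h' t ≫ (i ▷ Z) ≫ φZ = lift h' (t ≫ j) ≫ aX.act := by
    rw [h, lift_whiskerLeft_assoc]
  rw [lift_whiskerLeft_assoc, lift_whiskerLeft_assoc, lift_whiskerRight, MonAct.lift_prod_act_assoc,
    MonAct.lift_trivial_act, MonAct.lift_restrict_act, MonAct.lift_regular_act,
    ← MonObj.mul_comp, ← lift_whiskerRight_assoc, h, lift_whiskerLeft_assoc,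
    lift_whiskerLeft_assoc, ← lift_whiskerRight_assoc, e1, MonAct.lift_mul_act]

theorem eval_φZ {Z : C} (j : Z ⟶ X) (φZ : M ⊗ Z ⟶ X)
    (h : (i ▷ Z) ≫ φZ = (G ◁ j) ≫ aX.act) :
    lift (toUnit Z ≫ η[M]) (𝟙 Z) ≫ φZ = j := by
  have h1 : lift (toUnit Z ≫ η[M]) (𝟙 Z) = lift (toUnit Z ≫ η[G]) (𝟙 Z) ≫ (i ▷ Z) := by
    rw [lift_whiskerRight, Category.assoc, IsMonHom.one_hom]
  rw [h1, Category.assoc, h, lift_whiskerLeft_assoc, Category.id_comp, ← Hom.one_def,
    MonAct.lift_one_act]

end general


/-- Let k be a field, M an affine monoid k-scheme (a monoid object in k-schemes with affine underlying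
scheme), G an affine group k-scheme and i : G → M a homomorphism of monoids which is an open
immersion with scheme-theoretically dense image, and let X be an affine k-scheme with an action a of
G. Let D_X be the functor on k-schemes whose value at Y is the set of k-morphisms M ×_k Y → X that
are G-equivariant for G acting on M ×_k Y by left multiplication through i on the first factor and
on X through a. Then D_X is representable by a k-scheme Z, and the canonical map D_X → X
(restriction to the unit section of M) is a closed immersion j : Z → X. (The published statement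
takes G to be the group of units of M, open and schematically dense; here it is assumed only that i
is a homomorphism of monoids and a scheme-theoretically dominant open immersion of affine schemes.) -/
theorem result (k : Type u) [Field k]
    (M G X : Over (Spec (CommRingCat.of k))) [MonObj M] [GrpObj G] [IsAffine M.left] [IsAffine G.left]
    [IsAffine X.left] (i : G ⟶ M) [IsMonHom i] [IsOpenImmersion i.left]
    [IsSchemeTheoreticallyDominant i.left] (a : AlgGrp.Action G X) :
    ∃ (Z : Over (Spec (CommRingCat.of k))) (j : Z ⟶ X)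
      (e : (Magnet.MonAct.eqvHom ((Magnet.MonAct.regular M).restrict i) (Magnet.MonAct.ofAction a)).RepresentableBy Z),
      IsClosedImmersion j.left ∧
      ∀ (T : Over (Spec (CommRingCat.of k))) (z : T ⟶ Z),
        (Magnet.MonAct.eqvHom.evalAt ((Magnet.MonAct.regular M).restrict i) (Magnet.MonAct.ofAction a) η[M]).app
          (op T) (e.homEquiv z) = z ≫ j := by
  let aX := MonAct.ofAction a
  let Z := Groth.Agent.Lib.Helper18.DXAffine.Z i aX.act
  let j : Z ⟶ X := Groth.Agent.Lib.Helper18.DXAffine.j i aX.act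
  obtain ⟨φZ, hφZ⟩ := exists_φZ i aX.act
  have hqc : QuasiCompact i.left := quasiCompact_of_affine _
  have hdomT : ∀ T : Over (Spec (CommRingCat.of k)),
      IsSchemeTheoreticallyDominant (i ▷ T).left := fun T => dominant_whiskerRight i T
  have hqcT : ∀ T : Over (Spec (CommRingCat.of k)), QuasiCompact (i ▷ T).left :=
    fun T => prop_whiskerRight @QuasiCompact i T hqc
  -- equivariance of φZ
  have heqv : MonAct.IsEquivariant
      (((MonAct.regular M).restrict i).prod (MonAct.trivial G Z)) aX φZ := by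
    unfold MonAct.IsEquivariant
    have hd : IsSchemeTheoreticallyDominant (G ◁ (i ▷ Z)).left := by
      have := hdomT Z
      have := hqcT Z
      have hfl : Flat (snd G (M ⊗ Z)).left := by
        change Flat (pullback.snd G.hom (M ⊗ Z).hom)
        infer_instance
      exact IsSchemeTheoreticallyDominant.of_isPullback (isPullback_whiskerLeft G (i ▷ Z)).flip
    have hq : QuasiCompact (G ◁ (i ▷ Z)).left :=
      prop_whiskerLeft @QuasiCompact G (i ▷ Z) (hqcT Z)
    have h1 := eqv_of_restrict i aX j φZ hφZ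
    ext : 1
    apply eq_of_dominant (G ◁ (i ▷ Z)).left
    have h2 := congrArg (fun f => f.left) h1
    simpa using h2
  have hev : lift (toUnit Z ≫ η[M]) (𝟙 Z) ≫ φZ = j := eval_φZ i aX j φZ hφZ
  have hmono : Mono j := by
    have : Mono j.left := inferInstance
    exact Over.mono_of_mono_left j
  let univ : (MonAct.eqvHom ((MonAct.regular M).restrict i) aX).obj (op Z) := ⟨φZ, heqv⟩
  -- evaluation of pulled back universal element
  have hevz : ∀ (T : Over (Spec (CommRingCat.of k))) (z : T ⟶ Z),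
      lift (toUnit T ≫ η[M]) (𝟙 T) ≫ (M ◁ z) ≫ φZ = z ≫ j := by
    intro T z
    rw [lift_whiskerLeft_assoc, Category.id_comp, ← hev, ← Category.assoc]
    congr 1
    rw [comp_lift, Category.comp_id, ← Category.assoc, toUnit_unique (z ≫ toUnit Z) (toUnit T)]
  -- uniqueness
  have huniq : ∀ (T : Over (Spec (CommRingCat.of k)))
      (ψ₁ ψ₂ : (MonAct.eqvHom ((MonAct.regular M).restrict i) aX).obj (op T)),
      lift (toUnit T ≫ η[M]) (𝟙 T) ≫ ψ₁.1 = lift (toUnit T ≫ η[M]) (𝟙 T) ≫ ψ₂.1 → ψ₁ = ψ₂ := by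
    intro T ψ₁ ψ₂ h
    apply Subtype.ext
    have h1 := restrict_eq i aX ψ₁.1 ψ₁.2
    have h2 := restrict_eq i aX ψ₂.1 ψ₂.2
    rw [h] at h1
    have h3 : (i ▷ T) ≫ ψ₁.1 = (i ▷ T) ≫ ψ₂.1 := h1.trans h2.symm
    have := hdomT T
    have := hqcT T
    ext : 1
    apply eq_of_dominant (i ▷ T).left
    have h4 := congrArg (fun f => f.left) h3
    simpa using h4
  refine ⟨Z, j, ⟨fun {T} => Equiv.ofBijective
      (fun z => (MonAct.eqvHom ((MonAct.regular M).restrict i) aX).map z.op univ) ⟨?_, ?_⟩,
    ?_⟩, inferInstance, ?_⟩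
  · intro z z' hzz'
    have h1 := congrArg Subtype.val hzz'
    simp only [MonAct.eqvHom_map_coe] at h1
    have h2 : z ≫ j = z' ≫ j := by
      rw [← hevz T z, ← hevz T z']
      exact congrArg (fun f => lift (toUnit T ≫ η[M]) (𝟙 T) ≫ f) h1
    exact (cancel_mono j).mp h2
  · intro ψ
    obtain ⟨z, hz⟩ := exists_factor i aX.act (lift (toUnit T ≫ η[M]) (𝟙 T) ≫ ψ.1) ψ.1
      (restrict_eq i aX ψ.1 ψ.2)
    refine ⟨z, ?_⟩
    apply huniq
    rw [MonAct.eqvHom_map_coe]
    exact (hevz T z).trans hz
  · intro T T' f g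
    apply Subtype.ext
    simp only [Equiv.ofBijective_apply, MonAct.eqvHom_map_coe]
    change (M ◁ (f ≫ g)) ≫ φZ = (M ◁ f) ≫ (M ◁ g) ≫ φZ
    rw [MonoidalCategory.whiskerLeft_comp, Category.assoc]
  · intro T z
    exact hevz T z

end Groth.Agent.S18955
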