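import Groth.Statements.S18956
import Mathlib.AlgebraicGeometry.Morphisms.Flat
import Mathlib.AlgebraicGeometry.IdealSheaf.Functorial

set_option autoImplicit false
universe u
open CategoryTheory MonoidalCategory CartesianMonoidalCategory MonObj AlgebraicGeometry Opposite
open Magnet

namespace Groth.Agent.S18956

section helpers
open CategoryTheory.Limits

variable {k : Type u} [Field k]

/-- `(i ▷ T).left` is the base change of `i.left` along the first projection. -/
theorem isPullback_whiskerRight {S : Scheme.{u}} {G M : Over S} (i : G ⟶ M) (T : Over S) :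
    IsPullback (pullback.fst G.hom T.hom) (i ▷ T).left i.left (pullback.fst M.hom T.hom) := by
  refine IsPullback.flip ?_
  refine IsPullback.of_right (h₁₂ := pullback.snd M.hom T.hom) (h₂₂ := M.hom) (v₁₃ := T.hom)
    ?_ ?_ (IsPullback.of_hasPullback M.hom T.hom).flip
  · rw [Over.whiskerRight_left_snd, Over.w i]
    exact (IsPullback.of_hasPullback G.hom T.hom).flip
  · rw [Over.whiskerRight_left_fst]

theorem dominant_whiskerRight {G M : Over (Spec (CommRingCat.of k))} (i : G ⟶ M)
    [QuasiCompact i.left] [IsSchemeTheoreticallyDominant i.left]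
    (T : Over (Spec (CommRingCat.of k))) :
    IsSchemeTheoreticallyDominant (i ▷ T).left := by
  have : Flat T.hom := inferInstance
  have : Flat (pullback.fst M.hom T.hom) := inferInstance
  exact IsSchemeTheoreticallyDominant.of_isPullback (isPullback_whiskerRight i T)

/-- The key identity in any cartesian monoidal category: an equivariant `ψ : M ⊗ T ⟶ X` whose
restriction to the unit section is `z ≫ j` restricts on `G ⊗ T` to `(g, t) ↦ j (g • z t)`. -/
theorem whisker_comp_eq {C : Type*} [Category C] [CartesianMonoidalCategory C]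
    {G M X Z T : C} [MonObj M] [MonObj G] (i : G ⟶ M) [IsMonHom i]
    (aX : MonAct G X) (aZ : MonAct G Z) (j : Z ⟶ X) (hj : MonAct.IsEquivariant aZ aX j)
    (ψ : M ⊗ T ⟶ X)
    (hψ : MonAct.IsEquivariant (((MonAct.regular M).restrict i).prod (MonAct.trivial G T)) aX ψ)
    (z : T ⟶ Z) (hz : lift (toUnit T ≫ η[M]) (𝟙 T) ≫ ψ = z ≫ j) :
    (i ▷ T) ≫ ψ = ((G ◁ z) ≫ aZ.act) ≫ j := by
  apply hom_ext_lift₂
  intro T' g t
  rw [MonAct.mem_eqvHom_iff] at hψ
  rw [MonAct.isEquivariant_iff] at hj
  have h1 := hψ T' g (toUnit T' ≫ η[M]) t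
  have h2 : lift g (toUnit T' ≫ η[M]) ≫ ((MonAct.regular M).restrict i).act = g ≫ i := by
    rw [MonAct.lift_restrict_act, MonAct.lift_regular_act, ← Hom.one_def, _root_.mul_one]
  have h3 : lift (toUnit T' ≫ η[M]) t ≫ ψ = (t ≫ z) ≫ j := by
    have : lift (toUnit T' ≫ η[M]) t = t ≫ lift (toUnit T ≫ η[M]) (𝟙 T) := by
      rw [comp_lift, Category.comp_id, ← Category.assoc, toUnit_unique (t ≫ toUnit T) (toUnit T')]
    rw [this, Category.assoc, hz, Category.assoc]
  rw [h2, h3] at h1
  rw [lift_whiskerRight_assoc, h1, ← hj T' g (t ≫ z)]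
  simp only [Category.assoc, lift_whiskerLeft_assoc]

/-- A morphism `ψ` whose restriction along a scheme-theoretically dominant morphism `d` factors
through a closed immersion `j` factors through `j`. -/
theorem exists_factor_of_dominant {S : Scheme.{u}} {U Y X Z : Over S} (d : U ⟶ Y)
    [IsSchemeTheoreticallyDominant d.left] (ψ : Y ⟶ X) (j : Z ⟶ X) [IsClosedImmersion j.left]
    (w : U ⟶ Z) (hw : d ≫ ψ = w ≫ j) : ∃ φ : Y ⟶ Z, φ ≫ j = ψ := by
  have H : j.left.ker ≤ ψ.left.ker := by
    have h1 : (d.left ≫ ψ.left).ker = ψ.left.ker := by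
      rw [Scheme.Hom.ker_comp, d.left.ker_eq_bot, Scheme.IdealSheafData.map_bot]
    have h2 : d.left ≫ ψ.left = w.left ≫ j.left := by
      rw [← Over.comp_left, ← Over.comp_left, hw]
    rw [← h1, h2]
    exact Scheme.Hom.le_ker_comp _ _
  refine ⟨Over.homMk (IsClosedImmersion.lift j.left ψ.left H) ?_, ?_⟩
  · rw [← Over.w j, IsClosedImmersion.lift_fac_assoc, Over.w ψ]
  · ext
    simp

end helpers

/-- Let k be a field, M an affine monoid k-scheme, G an affine group k-scheme and i : G → M a
homomorphism of monoids which is a quasi-compact open immersion with scheme-theoretically dense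
image. Let X be a k-scheme with an action aX of G, and j : Z → X a closed immersion which is
G-equivariant for an action aZ of G on Z (a closed G-stable subscheme). For a G-scheme W write D_W
for the functor on k-schemes whose value at Y is the set of k-morphisms M ×_k Y → W that are
G-equivariant for G acting on M ×_k Y by left multiplication through i on the first factor. Then the
square of presheaves formed by D_Z → D_X (composition with j), the restrictions D_Z → Z and D_X → X
to the unit section of M, and j is cartesian. (The published statement takes G to be the group of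
units of M, open and schematically dense; here it is assumed only that i is a homomorphism of
monoids and a quasi-compact, scheme-theoretically dominant open immersion.) -/
theorem result (k : Type u) [Field k]
    (M G X Z : Over (Spec (CommRingCat.of k))) [MonObj M] [GrpObj G] [IsAffine M.left] [IsAffine G.left]
    (i : G ⟶ M) [IsMonHom i] [IsOpenImmersion i.left] [QuasiCompact i.left]
    [IsSchemeTheoreticallyDominant i.left]
    (aX : AlgGrp.Action G X) (aZ : AlgGrp.Action G Z) (j : Z ⟶ X) [IsClosedImmersion j.left]
    (hj : Magnet.MonAct.IsEquivariant (Magnet.MonAct.ofAction aZ) (Magnet.MonAct.ofAction aX) j) :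
    IsPullback
      (Magnet.MonAct.eqvHom.postcomp ((Magnet.MonAct.regular M).restrict i) j hj)
      (Magnet.MonAct.eqvHom.evalAt ((Magnet.MonAct.regular M).restrict i) (Magnet.MonAct.ofAction aZ) η[M])
      (Magnet.MonAct.eqvHom.evalAt ((Magnet.MonAct.regular M).restrict i) (Magnet.MonAct.ofAction aX) η[M])
      (yoneda.map j) := by
  have hmono : Mono j := by
    have : Mono j.left := inferInstance
    exact Over.mono_of_mono_left j
  refine IsPullback.of_forall_isPullback_app fun T ↦ ?_
  rw [Limits.Types.isPullback_iff]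
  refine ⟨?_, ?_, ?_⟩
  · ext φ
    exact (Category.assoc _ _ _).symm
  · rintro φ₁ φ₂ ⟨h1, -⟩
    apply Subtype.ext
    have := congrArg Subtype.val h1
    simp only [MonAct.eqvHom.postcomp_app_coe] at this
    exact (cancel_mono j).mp this
  · intro ψ z hz
    have hz' : lift (toUnit (unop T) ≫ η[M]) (𝟙 (unop T)) ≫ ψ.1 = z ≫ j := hz
    have hw := whisker_comp_eq i (MonAct.ofAction aX) (MonAct.ofAction aZ) j hj ψ.1 ψ.2 z hz'
    have := dominant_whiskerRight i (unop T)
    obtain ⟨φ, hφ⟩ := exists_factor_of_dominant (i ▷ unop T) ψ.1 j _ hw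
    have hφeq : MonAct.IsEquivariant
        (((MonAct.regular M).restrict i).prod (MonAct.trivial G (unop T))) (MonAct.ofAction aZ) φ := by
      have h2 := ψ.2
      unfold MonAct.IsEquivariant at h2 hj ⊢
      rw [← cancel_mono j, Category.assoc, hφ, h2, ← hφ, MonoidalCategory.whiskerLeft_comp,
        Category.assoc, Category.assoc, hj]
    refine ⟨⟨φ, hφeq⟩, Subtype.ext hφ, ?_⟩
    change lift (toUnit (unop T) ≫ η[M]) (𝟙 (unop T)) ≫ φ = z
    rw [← cancel_mono j, Category.assoc, hφ, hz']

end Groth.Agent.S18956
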