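import Groth.Statements.S18957
import Mathlib.AlgebraicGeometry.Morphisms.SchemeTheoreticallyDominant
import Mathlib.AlgebraicGeometry.Morphisms.ClosedImmersion
import Mathlib.AlgebraicGeometry.Morphisms.Flat

set_option autoImplicit false
universe u
open CategoryTheory MonoidalCategory CartesianMonoidalCategory MonObj AlgebraicGeometry Opposite
open Magnet

namespace Groth.Agent.S18957

/-- In a cartesian monoidal category, `f ▷ B` is the base change of `f` along the projection. -/
lemma isPullback_whiskerRight_fst {C : Type*} [Category C] [CartesianMonoidalCategory C] (B : C)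
    {X Y : C} (f : X ⟶ Y) : IsPullback (f ▷ B) (fst X B) (fst Y B) f := by
  refine ⟨⟨by simp⟩, ⟨Limits.PullbackCone.IsLimit.mk _ (fun s => lift s.snd (s.fst ≫ snd Y B)) ?_ ?_ ?_⟩⟩
  · intro s
    apply CartesianMonoidalCategory.hom_ext
    · simp only [Category.assoc, whiskerRight_fst, lift_fst_assoc]
      exact s.condition.symm
    · simp
  · intro s
    simp
  · intro s m h1 h2
    apply CartesianMonoidalCategory.hom_ext
    · rw [lift_fst, h2]
    · rw [lift_snd, ← h1, Category.assoc, whiskerRight_snd]

lemma isPullback_fst_snd_toUnit {C : Type*} [Category C] [CartesianMonoidalCategory C] (A B : C) :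
    IsPullback (fst A B) (snd A B) (toUnit A) (toUnit B) := by
  refine ⟨⟨toUnit_unique _ _⟩, ⟨Limits.PullbackCone.IsLimit.mk _ (fun s => lift s.fst s.snd) ?_ ?_ ?_⟩⟩
  · intro s; simp
  · intro s; simp
  · intro s m h1 h2
    apply CartesianMonoidalCategory.hom_ext
    · rw [lift_fst, h1]
    · rw [lift_snd, h2]

/-- Let k be a field, M a monoid k-scheme with an action a on a k-scheme X, G a group k-scheme and i : G
→ M a homomorphism of monoids which is a quasi-compact open immersion with scheme-theoretically
dense image. Let j : Z → X be a closed immersion and b an action of G on Z for which j is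
equivariant, G acting on X through i and a (a closed G-stable subscheme). Then the G-action on Z
extends to an M-action making j equivariant: there is an action c of M on Z such that j is
equivariant for c and a and the restriction of c along i is b. (The published statement takes G to
be the group of units of M, schematically dense in M; here it is assumed only that i is a
homomorphism of monoids and a quasi-compact, scheme-theoretically dominant open immersion.) -/
theorem result (k : Type u) [Field k]
    (M G X Z : Over (Spec (CommRingCat.of k))) [MonObj M] [GrpObj G]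
    (i : G ⟶ M) [IsMonHom i] [IsOpenImmersion i.left] [QuasiCompact i.left]
    [IsSchemeTheoreticallyDominant i.left]
    (a : Magnet.MonAct M X) (b : AlgGrp.Action G Z) (j : Z ⟶ X) [IsClosedImmersion j.left]
    (hj : Magnet.MonAct.IsEquivariant (Magnet.MonAct.ofAction b) (a.restrict i) j) :
    ∃ c : Magnet.MonAct M Z, Magnet.MonAct.IsEquivariant c a j ∧ c.restrict i = Magnet.MonAct.ofAction b := by
  have hjmono : Mono j := by
    have : Mono ((Over.forget _).map j) := by
      change Mono j.left
      infer_instance
    exact (Over.forget _).mono_of_mono_map this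
  -- the key identity
  have hkey : (i ▷ Z) ≫ (M ◁ j) ≫ a.act = b.act ≫ j := by
    have h1 : b.act ≫ j = (G ◁ j) ≫ (i ▷ X) ≫ a.act := hj
    rw [h1, ← Category.assoc, ← Category.assoc, whisker_exchange]
  let F : (M ⊗ Z).left ⟶ X.left := ((M ◁ j) ≫ a.act).left
  -- flatness of the projection
  have hflatZ : Flat (toUnit Z).left := by
    have h1 : Subsingleton (Spec (CommRingCat.of k)) := inferInstance
    have h2 : IsIntegral (Spec (CommRingCat.of k)) := inferInstance
    change Flat (Y := Spec (CommRingCat.of k)) (toUnit Z).left
    infer_instance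
  have hflat : Flat (fst M Z).left :=
    MorphismProperty.of_isPullback (P := @Flat)
      ((isPullback_fst_snd_toUnit M Z).map (Over.forget _)).flip hflatZ
  have hdom : IsSchemeTheoreticallyDominant (i ▷ Z).left := by
    have hsq := ((isPullback_whiskerRight_fst Z i).map (Over.forget _)).flip
    have h1 : IsSchemeTheoreticallyDominant ((Over.forget _).map i) :=
      ‹IsSchemeTheoreticallyDominant i.left›
    have h2 : QuasiCompact ((Over.forget _).map i) := ‹QuasiCompact i.left›
    have h3 : Flat ((Over.forget _).map (fst M Z)) := hflat
    exact @IsSchemeTheoreticallyDominant.of_isPullback _ _ _ _ _ _ _ _ hsq h1 h2 h3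
  have hker : j.left.ker ≤ F.ker := by
    have h1 : (i ▷ Z).left ≫ F = b.act.left ≫ j.left := by
      have := congrArg (fun f => f.left) hkey
      exact this
    have h2 : ((i ▷ Z).left ≫ F).ker = F.ker := by
      rw [Scheme.Hom.ker_comp, (i ▷ Z).left.ker_eq_bot, Scheme.IdealSheafData.map_bot]
    rw [← h2, h1]
    exact Scheme.Hom.le_ker_comp _ _
  let cl : (M ⊗ Z).left ⟶ Z.left := IsClosedImmersion.lift j.left F hker
  have hcl : cl ≫ j.left = F := IsClosedImmersion.lift_fac _ _ _
  let c₀ : M ⊗ Z ⟶ Z := Over.homMk cl (by
    have h1 := Over.w ((M ◁ j) ≫ a.act)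
    have h2 := Over.w j
    rw [← h2, ← Category.assoc, hcl]
    exact h1)
  have hc₀ : c₀ ≫ j = (M ◁ j) ≫ a.act := by
    ext1
    exact hcl
  let c : Magnet.MonAct M Z := Magnet.MonAct.mk' c₀
    (fun T x => by
      rw [← cancel_mono j, Category.assoc, hc₀, lift_whiskerLeft_assoc, a.lift_one_act])
    (fun T g h x => by
      rw [← cancel_mono j, Category.assoc, hc₀, lift_whiskerLeft_assoc, a.lift_mul_act,
        Category.assoc, hc₀, lift_whiskerLeft_assoc, Category.assoc, hc₀, lift_whiskerLeft_assoc])
  refine ⟨c, hc₀, ?_⟩
  apply Magnet.MonAct.ext'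
  change (i ▷ Z) ≫ c₀ = b.act
  rw [← cancel_mono j, Category.assoc, hc₀, hkey]

end Groth.Agent.S18957
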