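import Groth.Statements.S18958
import Groth.Agent.Lib.Helper5.MagnetAux
import Mathlib.CategoryTheory.Limits.Types.Pullbacks

set_option autoImplicit false
universe u
open CategoryTheory MonoidalCategory CartesianMonoidalCategory MonObj AlgebraicGeometry Opposite
open Magnet

namespace Groth.Agent.S18958

theorem key (k : Type u) [Field k]
    (M G X U : Over (Spec (CommRingCat.of k))) [MonObj M] [GrpObj G] (i : G ⟶ M) [IsMonHom i]
    (o : 𝟙_ (Over (Spec (CommRingCat.of k))) ⟶ M)
    (hM : ∀ (T : Over (Spec (CommRingCat.of k))) (K : Type u) [Field K] (eT : T.left ≅ Spec (CommRingCat.of K))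
      (W : (M ⊗ T).left.Opens),
      (CartesianMonoidalCategory.snd G (M ⊗ T)).left ⁻¹ᵁ W ≤
          ((((Magnet.MonAct.regular M).restrict i).prod (Magnet.MonAct.trivial G T)).act).left ⁻¹ᵁ W →
      (CartesianMonoidalCategory.lift (toUnit T ≫ o) (𝟙 T)).left ⁻¹ᵁ W = ⊤ → W = ⊤)
    (aX : AlgGrp.Action G X) (aU : AlgGrp.Action G U) (j : U ⟶ X) [IsOpenImmersion j.left]
    (hj : Magnet.MonAct.IsEquivariant (Magnet.MonAct.ofAction aU) (Magnet.MonAct.ofAction aX) j)
    (Y : Over (Spec (CommRingCat.of k))) (φ : M ⊗ Y ⟶ X)
    (hφ : Magnet.MonAct.IsEquivariant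
      (((Magnet.MonAct.regular M).restrict i).prod (Magnet.MonAct.trivial G Y))
      (Magnet.MonAct.ofAction aX) φ)
    (u : Y ⟶ U) (hφu : lift (toUnit Y ≫ o) (𝟙 Y) ≫ φ = u ≫ j) :
    ∃ ψ : M ⊗ Y ⟶ U, Magnet.MonAct.IsEquivariant
      (((Magnet.MonAct.regular M).restrict i).prod (Magnet.MonAct.trivial G Y))
      (Magnet.MonAct.ofAction aU) ψ ∧ ψ ≫ j = φ := by
  have hjmono : Mono j := by
    have : Mono ((Over.forget _).map j) := by
      change Mono j.left
      infer_instance
    exact (Over.forget _).mono_of_mono_map this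
  -- stability of the open `U` under `G`
  have hstab : ∀ q' : (G ⊗ X).left, (snd G X).left q' ∈ Set.range j.left →
      aX.act.left q' ∈ Set.range j.left := by
    intro q' hq'
    obtain ⟨q'', rfl⟩ := Groth.Agent.Lib.Helper5.exists_whiskerLeft_left_eq G j q' hq'
    have h1 : (G ◁ j) ≫ aX.act = aU.act ≫ j := hj.symm
    have h2 := congrArg (fun f => f.left q'') h1
    simp only [Over.comp_left, Scheme.Hom.comp_apply] at h2
    rw [h2]
    exact ⟨_, rfl⟩
  have hW : ∀ p : (M ⊗ Y).left, φ.left p ∈ Set.range j.left := by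
    intro p
    let y := (snd M Y).left p
    let T : Over (Spec (CommRingCat.of k)) := Over.mk (Y.left.fromSpecResidueField y ≫ Y.hom)
    let t : T ⟶ Y := Over.homMk (Y.left.fromSpecResidueField y) rfl
    let W : (M ⊗ Y).left.Opens := φ.left ⁻¹ᵁ j.left.opensRange
    let WT : (M ⊗ T).left.Opens := (M ◁ t).left ⁻¹ᵁ W
    have hWT : WT = ⊤ := by
      refine hM T (Y.left.residueField y) (Iso.refl _) WT ?_ ?_
      · intro q hq
        let ψ' : M ⊗ T ⟶ X := (M ◁ t) ≫ φ
        have e1 : snd G (M ⊗ T) ≫ ψ' = (G ◁ ψ') ≫ snd G X := (whiskerLeft_snd _ _).symm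
        have e2 : ((((Magnet.MonAct.regular M).restrict i).prod (Magnet.MonAct.trivial G T)).act) ≫ ψ' =
            (G ◁ ψ') ≫ aX.act := by
          change _ ≫ (M ◁ t) ≫ φ = _
          rw [Magnet.MonAct.prod_trivial_act_whiskerLeft_assoc, hφ, MonoidalCategory.whiskerLeft_comp,
            Category.assoc]
          rfl
        have hq' : (snd G X).left ((G ◁ ψ').left q) ∈ Set.range j.left := by
          have := congrArg (fun f => f.left q) e1
          simp only [Over.comp_left, Scheme.Hom.comp_apply] at this
          rw [← this]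
          exact hq
        have := hstab _ hq'
        have e3 := congrArg (fun f => f.left q) e2
        simp only [Over.comp_left, Scheme.Hom.comp_apply] at e3
        rw [← e3] at this
        exact this
      · ext x
        simp only [TopologicalSpace.Opens.coe_top, Set.mem_univ, iff_true]
        have e0 : lift (toUnit T ≫ o) (𝟙 T) ≫ (M ◁ t) = t ≫ lift (toUnit Y ≫ o) (𝟙 Y) := by
          apply CartesianMonoidalCategory.hom_ext
          · rw [Category.assoc, whiskerLeft_fst, lift_fst, Category.assoc, lift_fst, ← Category.assoc,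
              toUnit_unique (t ≫ toUnit Y) (toUnit T)]
          · simp
        have e : lift (toUnit T ≫ o) (𝟙 T) ≫ (M ◁ t) ≫ φ = t ≫ u ≫ j := by
          rw [← Category.assoc, e0, Category.assoc, hφu]
        have e' := congrArg (fun f => f.left x) e
        simp only [Over.comp_left, Scheme.Hom.comp_apply] at e'
        change φ.left ((M ◁ t).left ((lift (toUnit T ≫ o) (𝟙 T)).left x)) ∈ Set.range j.left
        rw [e']
        exact ⟨_, rfl⟩
    have hy : (snd M Y).left p ∈ Set.range t.left := by
      change y ∈ Set.range (Y.left.fromSpecResidueField y)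
      rw [Scheme.range_fromSpecResidueField]
      rfl
    obtain ⟨p', hp'⟩ := Groth.Agent.Lib.Helper5.exists_whiskerLeft_left_eq M t p hy
    have : p' ∈ WT := by rw [hWT]; trivial
    rw [← hp']
    exact this
  -- the lift through `j`
  let ψl : (M ⊗ Y).left ⟶ U.left := IsOpenImmersion.lift j.left φ.left (by
    rintro _ ⟨p, rfl⟩
    exact hW p)
  have hψl : ψl ≫ j.left = φ.left := IsOpenImmersion.lift_fac _ _ _
  let ψ : M ⊗ Y ⟶ U := Over.homMk ψl (by
    have h1 := Over.w φ
    have h2 := Over.w j
    rw [← h2, ← Category.assoc, hψl, h1])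
  have hψ : ψ ≫ j = φ := by
    ext1
    exact hψl
  refine ⟨ψ, ?_, hψ⟩
  unfold Magnet.MonAct.IsEquivariant at hφ hj ⊢
  rw [← cancel_mono j, Category.assoc, hψ, hφ, Category.assoc, hj, ← hψ,
    MonoidalCategory.whiskerLeft_comp, Category.assoc]

/-- Let k be a field, G a group k-scheme and M a monoid k-scheme with a homomorphism of monoids i : G →
M and a zero o : Spec k → M (m·o = o = o·m for every point m of M). Assume that for every k-scheme T
whose underlying scheme is the spectrum of a field K, every open subset of M ×_k T which is stable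
under G acting by left multiplication through i on the first factor and which contains the zero
section T → M ×_k T is the whole of M ×_k T. Let X be a k-scheme with an action aX of G and j : U →
X an open immersion, G-equivariant for an action aU of G on U (an open G-stable subscheme). For a
G-scheme W write D_W for the functor on k-schemes whose value at Y is the set of k-morphisms M ×_k Y
→ W that are G-equivariant for G acting on M ×_k Y by left multiplication through i on the first
factor. Then the square of presheaves formed by D_U → D_X (composition with j), the restrictions D_U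
→ U and D_X → X to the zero section of M, and j is cartesian. (In the source M is a Kempf monoid
with G its group of units, and the restriction to the zero section is viewed as the retraction of
D_X onto the fixed points X^G; the displayed property of the open G-stable subsets of M over field
extensions is what the argument uses about M, and the square over X^G is cartesian exactly when the
one over X is, U^G being X^G ×_X U.) -/
theorem result (k : Type u) [Field k]
    (M G X U : Over (Spec (CommRingCat.of k))) [MonObj M] [GrpObj G] (i : G ⟶ M) [IsMonHom i]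
    (o : 𝟙_ (Over (Spec (CommRingCat.of k))) ⟶ M)
    (ho : ∀ (T : Over (Spec (CommRingCat.of k))) (m : T ⟶ M), m * (toUnit T ≫ o) = toUnit T ≫ o ∧ (toUnit T ≫ o) * m = toUnit T ≫ o)
    (hM : ∀ (T : Over (Spec (CommRingCat.of k))) (K : Type u) [Field K] (eT : T.left ≅ Spec (CommRingCat.of K))
      (W : (M ⊗ T).left.Opens),
      (CartesianMonoidalCategory.snd G (M ⊗ T)).left ⁻¹ᵁ W ≤
          ((((Magnet.MonAct.regular M).restrict i).prod (Magnet.MonAct.trivial G T)).act).left ⁻¹ᵁ W →
      (CartesianMonoidalCategory.lift (toUnit T ≫ o) (𝟙 T)).left ⁻¹ᵁ W = ⊤ → W = ⊤)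
    (aX : AlgGrp.Action G X) (aU : AlgGrp.Action G U) (j : U ⟶ X) [IsOpenImmersion j.left]
    (hj : Magnet.MonAct.IsEquivariant (Magnet.MonAct.ofAction aU) (Magnet.MonAct.ofAction aX) j) :
    IsPullback
      (Magnet.MonAct.eqvHom.postcomp ((Magnet.MonAct.regular M).restrict i) j hj)
      (Magnet.MonAct.eqvHom.evalAt ((Magnet.MonAct.regular M).restrict i) (Magnet.MonAct.ofAction aU) o)
      (Magnet.MonAct.eqvHom.evalAt ((Magnet.MonAct.regular M).restrict i) (Magnet.MonAct.ofAction aX) o)
      (yoneda.map j) := by
  have hjmono : Mono j := by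
    have : Mono ((Over.forget _).map j) := by
      change Mono j.left
      infer_instance
    exact (Over.forget _).mono_of_mono_map this
  apply IsPullback.of_forall_isPullback_app
  intro Y'
  rw [Limits.Types.isPullback_iff]
  refine ⟨?_, ?_, ?_⟩
  · ext φ
    change lift (toUnit (unop Y') ≫ o) (𝟙 (unop Y')) ≫ (φ.1 ≫ j) =
      (lift (toUnit (unop Y') ≫ o) (𝟙 (unop Y')) ≫ φ.1) ≫ j
    rw [Category.assoc]
  · rintro φ₁ φ₂ ⟨h1, -⟩
    apply Subtype.ext
    have h2 := congrArg Subtype.val h1
    change φ₁.1 ≫ j = φ₂.1 ≫ j at h2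
    exact (cancel_mono j).mp h2
  · intro φ u hφu
    change lift (toUnit (unop Y') ≫ o) (𝟙 (unop Y')) ≫ φ.1 = u ≫ j at hφu
    obtain ⟨ψ, hψeq, hψ⟩ := key k M G X U i o hM aX aU j hj (unop Y') φ.1 φ.2 u hφu
    refine ⟨⟨ψ, hψeq⟩, ?_, ?_⟩
    · apply Subtype.ext
      exact hψ
    · change lift (toUnit (unop Y') ≫ o) (𝟙 (unop Y')) ≫ ψ = u
      rw [← cancel_mono j, Category.assoc, hψ, hφu]

end Groth.Agent.S18958
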