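import Groth.Statements.S1896
import Groth.Agent.Lib.Helper64.CohSupport
import Groth.Agent.Lib.Helper78.ModStalkExact

set_option autoImplicit false
universe u
open CategoryTheory AlgebraicGeometry
open Cyc

namespace Groth.Agent.S1896


/-- For a short exact sequence 0 → F → G → H → 0 of coherent O_X-modules (X locally Noetherian with
dimension function δ) whose supports have δ-dimension at most k, one has [G]_k = [F]_k + [H]_k
coefficientwise. Here (X, δ) satisfies Cyc.IsSetup (X locally Noetherian with universally catenary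
local rings, δ a dimension function). -/
theorem result (X : Scheme.{u}) (δ : X → ℤ) (hX : Cyc.IsSetup X δ) (k : ℤ) (T : ShortComplex X.Modules) (hT : T.ShortExact) (h₁ : Coh.IsCoh T.X₁) (h₂ : Coh.IsCoh T.X₂) (h₃ : Coh.IsCoh T.X₃) (hdim : ∀ x : X, Nontrivial (T.X₂.presheaf.stalk x) → δ x ≤ k) : Cyc.sheafFun δ k T.X₂ = Cyc.sheafFun δ k T.X₁ + Cyc.sheafFun δ k T.X₃ := by
  funext x
  simp only [Cyc.sheafFun, Pi.add_apply]
  by_cases hk : δ x = k
  · simp only [hk, if_true]
    haveI : IsLocallyNoetherian X := hX.1
    have hmax : ∀ y : X, Nontrivial (T.X₂.presheaf.stalk y) → y ⤳ x → y = x := by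
      intro y hy hyx
      by_contra hne
      have h1 := (hX.2.2 y x hyx hne).1
      have h2 := hdim y hy
      omega
    haveI : SheafOfModules.IsQuasicoherent (R := X.ringCatSheaf) T.X₂ := h₂.1
    have hfin₂ := Groth.Agent.Lib.Helper64.CohSupport.length_stalk_lt_top T.X₂ h₂.2 x hmax
    have hexact := Groth.Agent.Lib.Helper78.ModStalkExact.stalk_function_exact T hT x
    have hinj := Groth.Agent.Lib.Helper78.ModStalkExact.stalk_injective T hT x
    have hsurj := Groth.Agent.Lib.Helper78.ModStalkExact.stalk_surjective T hT x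
    have hadd := Module.length_eq_add_of_exact _ _ hinj hsurj hexact
    have hfin₁ : Module.length (X.presheaf.stalk x) (T.X₁.presheaf.stalk x) ≠ ⊤ := by
      intro h
      rw [hadd, h] at hfin₂
      simp at hfin₂
    have hfin₃ : Module.length (X.presheaf.stalk x) (T.X₃.presheaf.stalk x) ≠ ⊤ := by
      intro h
      rw [hadd, h] at hfin₂
      simp at hfin₂
    rw [hadd, ENat.toNat_add hfin₁ hfin₃]
    push_cast
    rfl
  · simp [hk]

end Groth.Agent.S1896
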