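import Groth.Statements.S18960
-- import your own Groth.Agent.* helpers here
import Mathlib.CategoryTheory.Limits.Preserves.Basic
import Mathlib.CategoryTheory.Limits.Creates
import Mathlib.CategoryTheory.NatIso

set_option autoImplicit false
universe w' w v u
open CategoryTheory Limits
open CatLim

namespace Groth.Agent.S18960

section Impl

variable {C : Type u} [Category.{v} C] (T : C ⥤ C) {J : Type w} [Category.{w'} J]

abbrev PIso : ObjectProperty (Endofunctor.Algebra T) := fun A => IsIso A.str

abbrev FF : (PIso T).FullSubcategory ⥤ C :=
  (ObjectProperty.ι (PIso T)) ⋙ Endofunctor.Algebra.forget T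

variable {T}
variable {K : J ⥤ (PIso T).FullSubcategory} (c : Cocone (K ⋙ FF T)) (t : IsColimit c)

def gam : (K ⋙ FF T) ⋙ T ⟶ K ⋙ FF T where
  app j := (K.obj j).obj.str
  naturality j j' f := (K.map f).hom.h

instance gam_isIso : IsIso (gam (K := K)) := by
  haveI : ∀ j, IsIso ((gam (K := K)).app j) := fun j => (K.obj j).property
  exact NatIso.isIso_of_isIso_app _

def newCocone : Cocone ((K ⋙ FF T) ⋙ T) where
  pt := c.pt
  ι := gam ≫ c.ι

variable [PreservesColimit (K ⋙ FF T) T]

noncomputable def lam : T.obj c.pt ⟶ c.pt :=
  (isColimitOfPreserves T t).desc (newCocone c)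

theorem commuting (j : J) :
    T.map (c.ι.app j) ≫ lam c t = (K.obj j).obj.str ≫ c.ι.app j :=
  (isColimitOfPreserves T t).fac (newCocone c) j

noncomputable def newCoconeIsColimit : IsColimit (newCocone c) :=
  (IsColimit.precomposeHomEquiv (asIso (gam (K := K))) c).symm t

theorem lam_isIso : IsIso (lam c t) := by
  have : lam c t =
      ((isColimitOfPreserves T t).coconePointUniqueUpToIso (newCoconeIsColimit c t)).hom := rfl
  rw [this]
  infer_instance

noncomputable def coconePoint : (PIso T).FullSubcategory :=
  ⟨⟨c.pt, lam c t⟩, lam_isIso c t⟩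

noncomputable def liftedCocone : Cocone K where
  pt := coconePoint c t
  ι :=
    { app := fun j => ObjectProperty.homMk
        { f := c.ι.app j
          h := commuting c t j }
      naturality := fun j j' f => by
        apply ObjectProperty.hom_ext
        apply Endofunctor.Algebra.Hom.ext
        show (K.map f).hom.f ≫ c.ι.app j' = c.ι.app j ≫ 𝟙 _
        rw [Category.comp_id]
        exact c.w f }

noncomputable def liftedCoconeIsColimit : IsColimit (liftedCocone c t) where
  desc s := ObjectProperty.homMk
    { f := t.desc ((FF T).mapCocone s)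
      h := (isColimitOfPreserves T t).hom_ext fun j => by
        let σ : (K.obj j).obj.a ⟶ s.pt.obj.a := (s.ι.app j).hom.f
        let ιj : (K.obj j).obj.a ⟶ c.pt := c.ι.app j
        let d : c.pt ⟶ s.pt.obj.a := t.desc ((FF T).mapCocone s)
        have h2 : T.map σ ≫ s.pt.obj.str = (K.obj j).obj.str ≫ σ := (s.ι.app j).hom.h
        have hfac : ιj ≫ d = σ := t.fac ((FF T).mapCocone s) j
        have hcomm : T.map ιj ≫ lam c t = (K.obj j).obj.str ≫ ιj := commuting c t j
        show T.map ιj ≫ T.map d ≫ s.pt.obj.str = T.map ιj ≫ lam c t ≫ d
        rw [← Category.assoc, ← T.map_comp, hfac, h2, ← Category.assoc, hcomm, Category.assoc,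
          hfac] }
  fac s j := by
    apply ObjectProperty.hom_ext
    apply Endofunctor.Algebra.Hom.ext
    exact t.fac ((FF T).mapCocone s) j
  uniq s m hm := by
    apply ObjectProperty.hom_ext
    apply Endofunctor.Algebra.Hom.ext
    apply t.hom_ext
    intro j
    have h1 : c.ι.app j ≫ m.hom.f = (s.ι.app j).hom.f := congrArg (fun φ => φ.hom.f) (hm j)
    have h2 : c.ι.app j ≫ t.desc ((FF T).mapCocone s) = (s.ι.app j).hom.f :=
      t.fac ((FF T).mapCocone s) j
    exact h1.trans h2.symm

end Impl

/-- Let C be a category and T an endofunctor of C; let C(T) be the category whose objects are pairs (X,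
u) with u : T X → X an isomorphism and whose morphisms (X, u) → (Y, w) are the morphisms X → Y
compatible with u and w — the full subcategory of T-algebras with invertible structure map — and let
π : C(T) → C be the forgetful functor. If T preserves colimits of shape J then π creates colimits of
shape J. (The source assumes T preserves all small colimits and concludes for all small shapes; the
argument is shape by shape.) -/
theorem result {C : Type u} [Category.{v} C] (T : C ⥤ C)
    (J : Type w) [Category.{w'} J] [PreservesColimitsOfShape J T] :
    Nonempty (CreatesColimitsOfShape J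
      ((ObjectProperty.ι (fun A : Endofunctor.Algebra T => IsIso A.str)) ⋙ Endofunctor.Algebra.forget T)) := by
  refine ⟨{ CreatesColimit := fun {K} => ?_ }⟩
  haveI : (FF T).ReflectsIsomorphisms := inferInstance
  exact createsColimitOfReflectsIso fun c t =>
    { liftedCocone := liftedCocone c t
      validLift := Cocone.ext (Iso.refl _) (fun j => by
        show c.ι.app j ≫ 𝟙 _ = c.ι.app j
        exact Category.comp_id _)
      makesColimit := liftedCoconeIsColimit c t }

end Groth.Agent.S18960
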