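import Groth.Statements.S18961
import Mathlib
import Groth.Agent.Lib.Helper71.GradedPoly

set_option autoImplicit false
universe u
open BBDec

namespace Groth.Agent.S18961
open Groth.Agent.Lib.Helper71.GradedPoly MvPolynomial

theorem mem_idealOfVars_of_constantCoeff_eq_zero {A : Type u} [CommRing A] {ι : Type*}
    (f : MvPolynomial ι A) (h : constantCoeff f = 0) : f ∈ idealOfVars ι A := by
  have : f ∈ idealOfVars ι A ^ 1 := by
    rw [mem_pow_idealOfVars_iff']
    intro x hx
    have hx0 : Finsupp.degree x = 0 := by omega
    rw [Finsupp.degree_eq_zero_iff] at hx0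
    rw [hx0]; exact h
  rwa [pow_one] at this

theorem eq_zero_of_forall_mem_pow {A : Type u} [CommRing A] {ι : Type*}
    (f : MvPolynomial ι A) (h : ∀ m, f ∈ idealOfVars ι A ^ m) : f = 0 := by
  by_contra hne
  obtain ⟨x, hx⟩ : f.support.Nonempty := by
    rw [Finset.nonempty_iff_ne_empty]
    intro h0
    exact hne (MvPolynomial.support_eq_empty.mp h0)
  have := (mem_pow_idealOfVars_iff _ f).mp (h (Finsupp.degree x + 1)) x hx
  omega


/-- Let k be a field, A a finitely generated k-algebra and B a finitely generated A-algebra graded by
the natural numbers as an A-algebra, with degree-zero part equal to the image of A and A → B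
injective; let B₊ be the irrelevant ideal. So Spec B → Spec A is the retraction of an affine scheme
with an action of the multiplicative monoid of the affine line onto its fixed-point scheme, with
zero section cut out by B₊; this is the affine-local graded form, for that monoid, of the published
statement, which covers any Kempf monoid M with unit group G and a k-scheme X locally of finite
type, and concludes that the retraction X⁺ → X^G is an affine-space bundle near a fixed point at
whose section value it is smooth. Assume that A → B is smooth at every prime ideal containing B₊ and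
that B₊/B₊² is a free A-module of finite rank. Then B is isomorphic, as an A-algebra, to the
polynomial ring over A in (rank of B₊/B₊²) variables. (The published statement also makes the
isomorphism equivariant for a suitable linear action when G is linearly reductive; only the
existence of an A-algebra isomorphism is stated here. Freeness of the conormal module holds after
shrinking the base, which is how the published proof reaches this situation.) -/
theorem result (k : Type u) [Field k]
    (A B : Type u) [CommRing A] [CommRing B] [Algebra k A] [Algebra k B] [Algebra A B] [IsScalarTower k A B]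
    [Algebra.FiniteType k A] [Algebra.FiniteType A B] (𝒜 : ℕ → Submodule A B) [GradedAlgebra 𝒜]
    (h0 : ∀ b : B, b ∈ 𝒜 0 ↔ b ∈ Set.range (algebraMap A B)) (hinj : Function.Injective (algebraMap A B))
    (hsm : ∀ (P : Ideal B) [P.IsPrime], (HomogeneousIdeal.irrelevant 𝒜).toIdeal ≤ P → Algebra.IsSmoothAt A P)
    [Module.Free A (HomogeneousIdeal.irrelevant 𝒜).toIdeal.Cotangent]
    [Module.Finite A (HomogeneousIdeal.irrelevant 𝒜).toIdeal.Cotangent] :
    Nonempty (B ≃ₐ[A]
      MvPolynomial (Fin (Module.finrank A (HomogeneousIdeal.irrelevant 𝒜).toIdeal.Cotangent)) A) := by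
  rcases subsingleton_or_nontrivial A with hA | hA
  · -- trivial case
    have hB : Subsingleton B := by
      refine ⟨fun x y => ?_⟩
      have h1 : (1 : B) = 0 := by
        rw [← map_one (algebraMap A B), Subsingleton.elim (1 : A) 0, map_zero]
      rw [← mul_one x, ← mul_one y, h1, mul_zero, mul_zero]
    have hP : Subsingleton (MvPolynomial
        (Fin (Module.finrank A (HomogeneousIdeal.irrelevant 𝒜).toIdeal.Cotangent)) A) := by
      refine ⟨fun x y => ?_⟩
      have h1 : (1 : MvPolynomial
          (Fin (Module.finrank A (HomogeneousIdeal.irrelevant 𝒜).toIdeal.Cotangent)) A) = 0 := by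
        rw [← map_one (algebraMap A _), Subsingleton.elim (1 : A) 0, map_zero]
      rw [← mul_one x, ← mul_one y, h1, mul_zero, mul_zero]
    refine ⟨(AlgEquiv.ofBijective (MvPolynomial.aeval (fun _ => (0 : B))) ⟨?_, ?_⟩).symm⟩
    · intro x y _; exact Subsingleton.elim x y
    · intro b; exact ⟨0, Subsingleton.elim _ _⟩
  · have : IsNoetherianRing A := Algebra.FiniteType.isNoetherianRing k A
    let e := Module.finBasis A (HomogeneousIdeal.irrelevant 𝒜).toIdeal.Cotangent
    obtain ⟨y, hy, hadj⟩ := exists_graded_generators 𝒜 h0 e
    have hsurj : Function.Surjective (phi 𝒜 y) := by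
      have h1 : (phi 𝒜 y).range = ⊤ := by
        rw [← hadj]
        exact (Algebra.adjoin_range_eq_range_aeval A (fun i => (y i : B))).symm
      intro b
      have : b ∈ (phi 𝒜 y).range := by rw [h1]; trivial
      exact this
    have hker2 := ker_phi_le 𝒜 y hinj e hy
    have hker : ∀ f, phi 𝒜 y f = 0 → f = 0 := by
      intro f hf
      have hfK : f ∈ RingHom.ker (phi 𝒜 y).toRingHom := hf
      -- Ann(f) ⊔ 𝔫 = ⊤
      have htop : (Ideal.span {f}).annihilator ⊔ idealOfVars _ A = ⊤ := by
        by_contra hne
        obtain ⟨𝔮, h𝔮max, h𝔮le⟩ := Ideal.exists_le_maximal _ hne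
        have := h𝔮max.isPrime
        have hn𝔮 : idealOfVars _ A ≤ 𝔮 := le_sup_right.trans h𝔮le
        have hK𝔮2 : RingHom.ker (phi 𝒜 y).toRingHom ≤ 𝔮 ^ 2 :=
          hker2.trans (Ideal.pow_right_mono hn𝔮 2)
        have hK𝔮 : RingHom.ker (phi 𝒜 y).toRingHom ≤ 𝔮 :=
          hK𝔮2.trans (Ideal.pow_le_self (by norm_num))
        have hp : (𝔮.map (phi 𝒜 y).toRingHom).IsPrime :=
          Ideal.map_isPrime_of_surjective hsurj hK𝔮
        have hcomap : 𝔮 = (𝔮.map (phi 𝒜 y).toRingHom).comap (phi 𝒜 y).toRingHom := by
          have h1 := Ideal.comap_map_of_surjective (phi 𝒜 y).toRingHom hsurj 𝔮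
          rw [h1]
          apply le_antisymm le_sup_left
          rw [sup_le_iff]
          exact ⟨le_rfl, hK𝔮⟩
        have hIrr : (HomogeneousIdeal.irrelevant 𝒜).toIdeal ≤ 𝔮.map (phi 𝒜 y).toRingHom := by
          intro b hb
          obtain ⟨f', rfl⟩ := hsurj b
          have h1 := phi_sub_const_mem 𝒜 y f'
          have h2 : algebraMap A B (constantCoeff f') ∈ Irr 𝒜 := by
            have := Ideal.sub_mem _ hb h1
            rwa [sub_sub_cancel] at this
          have h3 := (algebraMap_mem_Irr_iff 𝒜 hinj _).mp h2
          exact Ideal.mem_map_of_mem _ (hn𝔮 (mem_idealOfVars_of_constantCoeff_eq_zero f' h3))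
        have : Algebra.FormallySmooth A (Localization.AtPrime (𝔮.map (phi 𝒜 y).toRingHom)) :=
          hsm _ hIrr
        obtain ⟨t, ht𝔮, htf⟩ := exists_mul_eq_zero_of_smooth (phi 𝒜 y) hsurj 𝔮
          (𝔮.map (phi 𝒜 y).toRingHom) hcomap hK𝔮2 f hfK
        apply ht𝔮
        apply h𝔮le
        apply Ideal.mem_sup_left
        rw [Submodule.mem_annihilator_span_singleton]
        exact htf
      obtain ⟨u, hu, n, hn, hun⟩ := Submodule.mem_sup.mp (htop ▸ Submodule.mem_top : (1 : MvPolynomial _ A) ∈ _)
      rw [Submodule.mem_annihilator_span_singleton] at hu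
      have hfn : f = n * f := by
        calc f = (u + n) * f := by rw [hun, one_mul]
          _ = u * f + n * f := add_mul _ _ _
          _ = n * f := by rw [show u * f = 0 from hu, zero_add]
      apply eq_zero_of_forall_mem_pow
      intro m
      induction m with
      | zero => rw [pow_zero, Ideal.one_eq_top]; exact Submodule.mem_top
      | succ m ih =>
        rw [hfn, pow_succ']
        exact Ideal.mul_mem_mul hn ih
    exact ⟨(AlgEquiv.ofBijective (phi 𝒜 y) ⟨(injective_iff_map_eq_zero _).mpr hker, hsurj⟩).symm⟩

end Groth.Agent.S18961
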