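import Groth.Statements.S18964
import Mathlib
import Groth.Agent.S18955
import Groth.Agent.Lib.Helper18.RepOver
import Groth.Agent.Lib.Helper18.EqvHomSheaf

set_option autoImplicit false
universe u
open CategoryTheory MonoidalCategory CartesianMonoidalCategory MonObj AlgebraicGeometry Opposite
open Magnet

namespace Groth.Agent.S18964


open Groth.Agent.Lib.Helper18.FpqcOver Groth.Agent.Lib.Helper18.RepOver
  Groth.Agent.Lib.Helper18.EqvHomSheaf CategoryTheory.Limits

section general

variable {C : Type*} [Category C] [CartesianMonoidalCategory C] {A B X Y : C} [MonObj A]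

def actOfMono (a : MonAct A X) (j : Y ⟶ X) [Mono j] (act' : A ⊗ Y ⟶ Y)
    (h : act' ≫ j = (A ◁ j) ≫ a.act) : MonAct A Y :=
  MonAct.mk' act'
    (fun T x => by
      rw [← cancel_mono j, Category.assoc, h, lift_whiskerLeft_assoc, a.lift_one_act])
    (fun T g g' x => by
      rw [← cancel_mono j]
      simp only [Category.assoc, h, lift_whiskerLeft_assoc]
      rw [a.lift_mul_act])

theorem actOfMono_act (a : MonAct A X) (j : Y ⟶ X) [Mono j] (act' : A ⊗ Y ⟶ Y)
    (h : act' ≫ j = (A ◁ j) ≫ a.act) : (actOfMono a j act' h).act = act' := rfl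

theorem actOfMono_eqv (a : MonAct A X) (j : Y ⟶ X) [Mono j] (act' : A ⊗ Y ⟶ Y)
    (h : act' ≫ j = (A ◁ j) ≫ a.act) : MonAct.IsEquivariant (actOfMono a j act' h) a j := h

theorem eqv_of_comp_mono {a : MonAct A X} {b : MonAct A Y} {c : MonAct A B} (j : Y ⟶ X) [Mono j]
    (hj : MonAct.IsEquivariant b a j) (ψ : B ⟶ Y) (h : MonAct.IsEquivariant c a (ψ ≫ j)) :
    MonAct.IsEquivariant c b ψ := by
  unfold MonAct.IsEquivariant at *
  rw [← cancel_mono j, Category.assoc, h, Category.assoc, hj, MonoidalCategory.whiskerLeft_comp,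
    Category.assoc]

variable {M : C} [MonObj M] (i : A ⟶ M) [IsMonHom i] (o : 𝟙_ C ⟶ M)
  (ho : ∀ (T : C) (m : T ⟶ M), m * (toUnit T ≫ o) = toUnit T ≫ o ∧ (toUnit T ≫ o) * m = toUnit T ≫ o)

include ho in
theorem zero_fixed (a : MonAct A X) {T : C} (φ : M ⊗ T ⟶ X)
    (hφ : MonAct.IsEquivariant (((MonAct.regular M).restrict i).prod (MonAct.trivial A T)) a φ)
    (T' : C) (t : T' ⟶ T) (g : T' ⟶ A) :
    lift g (t ≫ lift (toUnit T ≫ o) (𝟙 T) ≫ φ) ≫ a.act = t ≫ lift (toUnit T ≫ o) (𝟙 T) ≫ φ := by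
  rw [MonAct.mem_eqvHom_iff] at hφ
  have h1 := hφ T' g (toUnit T' ≫ o) t
  have h2 : lift g (toUnit T' ≫ o) ≫ ((MonAct.regular M).restrict i).act = toUnit T' ≫ o := by
    rw [MonAct.lift_restrict_act, MonAct.lift_regular_act]
    exact (ho T' (g ≫ i)).1
  have h3 : t ≫ lift (toUnit T ≫ o) (𝟙 T) = lift (toUnit T' ≫ o) t := by
    rw [comp_lift, Category.comp_id, ← Category.assoc, toUnit_unique (t ≫ toUnit T) (toUnit T')]
  rw [h2] at h1
  rw [← Category.assoc t, h3]
  exact h1.symm

theorem eval_whiskerLeft {T T' : C} (t : T' ⟶ T) (φ : M ⊗ T ⟶ X) :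
    lift (toUnit T' ≫ o) (𝟙 T') ≫ (M ◁ t) ≫ φ = t ≫ lift (toUnit T ≫ o) (𝟙 T) ≫ φ := by
  rw [lift_whiskerLeft_assoc, Category.id_comp, ← Category.assoc t]
  congr 1
  rw [comp_lift, Category.comp_id, ← Category.assoc, toUnit_unique (t ≫ toUnit T) (toUnit T')]

end general

section opens

variable {S : Scheme.{u}}

theorem mono_resι (X : Over S) (U : X.left.Opens) : Mono (resι X U) := by
  have : Mono (resι X U).left := (inferInstance : Mono U.ι)
  exact Over.mono_of_mono_left _

theorem exists_factor_open {Y X : Over S} (f : Y ⟶ X) (U : X.left.Opens)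
    (h : f.left ⁻¹ᵁ U = ⊤) : ∃ f' : Y ⟶ resOv X U, f' ≫ resι X U = f := by
  have hr : Set.range f.left ⊆ Set.range U.ι := by
    rw [Scheme.Opens.range_ι]
    rintro _ ⟨y, rfl⟩
    have : y ∈ f.left ⁻¹ᵁ U := by rw [h]; trivial
    exact this
  let f₀ := IsOpenImmersion.lift U.ι f.left hr
  have hf₀ : f₀ ≫ U.ι = f.left := IsOpenImmersion.lift_fac _ _ _
  refine ⟨Over.homMk f₀ ?_, ?_⟩
  · change f₀ ≫ U.ι ≫ X.hom = Y.hom
    rw [← Category.assoc, hf₀, Over.w]
  · ext : 1
    exact hf₀

theorem comp_left_apply {A B C : Over S} (f : A ⟶ B) (g : B ⟶ C) (x : A.left) :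
    (f ≫ g).left x = g.left (f.left x) := by
  rw [Over.comp_left, Scheme.Hom.comp_apply]

variable {G X : Over S} [MonObj G] (a : MonAct G X) (U : X.left.Opens)
  (hU : (snd G X).left ⁻¹ᵁ U ≤ a.act.left ⁻¹ᵁ U)

include hU in
theorem exists_act_open : ∃ act' : G ⊗ resOv X U ⟶ resOv X U,
    act' ≫ resι X U = (G ◁ resι X U) ≫ a.act := by
  apply exists_factor_open
  rw [eq_top_iff]
  intro z _
  change ((G ◁ resι X U) ≫ a.act).left z ∈ U
  rw [comp_left_apply]
  have h1 : (G ◁ resι X U).left z ∈ (snd G X).left ⁻¹ᵁ U := by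
    change (snd G X).left ((G ◁ resι X U).left z) ∈ U
    rw [← comp_left_apply, whiskerLeft_snd, comp_left_apply]
    exact ((snd G (resOv X U)).left z).2
  exact hU h1

end opens

section F2

variable {k : Type u} [Field k] {M G X : Over (Spec (CommRingCat.of k))} [MonObj M] [GrpObj G]
  (i : G ⟶ M) [IsMonHom i] (o : 𝟙_ (Over (Spec (CommRingCat.of k))) ⟶ M)
  (hM : ∀ (T : Over (Spec (CommRingCat.of k))) (K : Type u) [Field K]
      (eT : T.left ≅ Spec (CommRingCat.of K)) (W : (M ⊗ T).left.Opens),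
      (CartesianMonoidalCategory.snd G (M ⊗ T)).left ⁻¹ᵁ W ≤
          ((((Magnet.MonAct.regular M).restrict i).prod (Magnet.MonAct.trivial G T)).act).left ⁻¹ᵁ W →
      (CartesianMonoidalCategory.lift (toUnit T ≫ o) (𝟙 T)).left ⁻¹ᵁ W = ⊤ → W = ⊤)
  (a : MonAct G X) (U : X.left.Opens) (hU : (snd G X).left ⁻¹ᵁ U ≤ a.act.left ⁻¹ᵁ U)

include hU in
theorem stable_preimage {T : Over (Spec (CommRingCat.of k))} (φ : M ⊗ T ⟶ X)
    (hφ : MonAct.IsEquivariant (((MonAct.regular M).restrict i).prod (MonAct.trivial G T)) a φ) :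
    (snd G (M ⊗ T)).left ⁻¹ᵁ (φ.left ⁻¹ᵁ U) ≤
      ((((MonAct.regular M).restrict i).prod (MonAct.trivial G T)).act).left ⁻¹ᵁ (φ.left ⁻¹ᵁ U) := by
  intro w hw
  have hw' : φ.left ((snd G (M ⊗ T)).left w) ∈ U := hw
  change φ.left (((((MonAct.regular M).restrict i).prod (MonAct.trivial G T)).act).left w) ∈ U
  rw [← comp_left_apply]
  unfold MonAct.IsEquivariant at hφ
  rw [hφ, comp_left_apply]
  apply hU
  change (snd G X).left ((G ◁ φ).left w) ∈ U
  rw [← comp_left_apply, whiskerLeft_snd, comp_left_apply]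
  exact hw'

include hM hU in
theorem preimage_eq_top {T : Over (Spec (CommRingCat.of k))} (φ : M ⊗ T ⟶ X)
    (hφ : MonAct.IsEquivariant (((MonAct.regular M).restrict i).prod (MonAct.trivial G T)) a φ)
    (h0 : (lift (toUnit T ≫ o) (𝟙 T) ≫ φ).left ⁻¹ᵁ U = ⊤) : φ.left ⁻¹ᵁ U = ⊤ := by
  rw [eq_top_iff]
  intro y _
  let t : T.left := (snd M T).left y
  let K : CommRingCat.{u} := T.left.residueField t
  let τ₀ : Spec K ⟶ T.left := T.left.fromSpecResidueField t
  let TK : Over (Spec (CommRingCat.of k)) := Over.mk (τ₀ ≫ T.hom)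
  let τ : TK ⟶ T := Over.homMk τ₀ rfl
  let eT : TK.left ≅ Spec (CommRingCat.of K) := Iso.refl _
  let φK : M ⊗ TK ⟶ X := (M ◁ τ) ≫ φ
  have hφK : MonAct.IsEquivariant
      (((MonAct.regular M).restrict i).prod (MonAct.trivial G TK)) a φK :=
    ((MonAct.eqvHom ((MonAct.regular M).restrict i) a).map τ.op ⟨φ, hφ⟩).2
  have hstab := stable_preimage i a U hU φK hφK
  have hzero : (lift (toUnit TK ≫ o) (𝟙 TK)).left ⁻¹ᵁ (φK.left ⁻¹ᵁ U) = ⊤ := by
    rw [eq_top_iff]
    intro p _
    change φK.left ((lift (toUnit TK ≫ o) (𝟙 TK)).left p) ∈ U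
    rw [← comp_left_apply, eval_whiskerLeft, comp_left_apply]
    have : τ.left p ∈ (lift (toUnit T ≫ o) (𝟙 T) ≫ φ).left ⁻¹ᵁ U := by rw [h0]; trivial
    exact this
  have hWK : φK.left ⁻¹ᵁ U = ⊤ := hM TK K eT _ hstab hzero
  let pt : (Spec K : Scheme.{u}) := IsLocalRing.closedPoint K
  have hpt : (snd M T).left y = τ.left pt := by
    change t = (T.left.fromSpecResidueField t) pt
    rw [Scheme.fromSpecResidueField_apply]
  obtain ⟨z, hz, -⟩ := exists_preimage_of_isPullback (isPullback_whiskerLeft M τ) y pt hpt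
  have hzU : z ∈ φK.left ⁻¹ᵁ U := by rw [hWK]; trivial
  have hzU' : φK.left z ∈ U := hzU
  rw [comp_left_apply, hz] at hzU'
  exact hzU'

end F2

section chart

variable {k : Type u} [Field k] {M G X : Over (Spec (CommRingCat.of k))} [MonObj M] [GrpObj G]
  [IsAffine M.left] [IsAffine G.left]
  (i : G ⟶ M) [IsMonHom i] [IsOpenImmersion i.left] [IsSchemeTheoreticallyDominant i.left]
  (a : MonAct G X)

theorem exists_chart (U : X.left.Opens) (hUa : IsAffineOpen U)
    (hU : (snd G X).left ⁻¹ᵁ U ≤ a.act.left ⁻¹ᵁ U) :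
    ∃ (aU : MonAct G (resOv X U)) (_ : MonAct.IsEquivariant aU a (resι X U))
      (Z : Over (Spec (CommRingCat.of k))),
      Nonempty ((MonAct.eqvHom ((MonAct.regular M).restrict i) aU).RepresentableBy Z) := by
  obtain ⟨act', h⟩ := exists_act_open a U hU
  have := mono_resι X U
  haveI : IsAffine (resOv X U).left := hUa
  obtain ⟨Z, _, e, -⟩ := Groth.Agent.S18955.result k M G (resOv X U) i
    (actOfMono a (resι X U) act' h).toAction
  exact ⟨actOfMono a (resι X U) act' h, actOfMono_eqv a (resι X U) act' h, Z, ⟨e⟩⟩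

end chart


/-- Let k be a field, M an affine monoid k-scheme, G an affine group k-scheme and i : G → M a
homomorphism of monoids which is an open immersion with scheme-theoretically dense image; let o :
Spec k → M be a zero of M (m·o = o = o·m), and assume that for every k-scheme T whose underlying
scheme is the spectrum of a field, every open subset of M ×_k T which is stable under G acting by
left multiplication through i on the first factor and contains the zero section is the whole of M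
×_k T. Let X be a k-scheme with an action aX of G such that the G-stable affine open subsets U of X
cover the fixed points: for every k-scheme T and every G-fixed T-valued point x of X, the preimages
under x of the G-stable affine opens cover T (equivalently, the open subfunctors U^G cover X^G; this
holds when X is locally linear, i.e. every point has a G-stable affine open neighbourhood). Then the
functor D_X on k-schemes, whose value at Y is the set of k-morphisms M ×_k Y → X that are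
G-equivariant for G acting on M ×_k Y by left multiplication through i on the first factor, is
representable by a k-scheme. (In the source M is a Kempf monoid with G its group of units;
affineness of G, density and openness of G in M and the displayed property of G-stable opens over
field extensions are the consequences of that hypothesis which the argument uses.) -/
theorem result (k : Type u) [Field k]
    (M G X : Over (Spec (CommRingCat.of k))) [MonObj M] [GrpObj G] [IsAffine M.left] [IsAffine G.left]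
    (i : G ⟶ M) [IsMonHom i] [IsOpenImmersion i.left] [IsSchemeTheoreticallyDominant i.left]
    (o : 𝟙_ (Over (Spec (CommRingCat.of k))) ⟶ M)
    (ho : ∀ (T : Over (Spec (CommRingCat.of k))) (m : T ⟶ M), m * (toUnit T ≫ o) = toUnit T ≫ o ∧ (toUnit T ≫ o) * m = toUnit T ≫ o)
    (hM : ∀ (T : Over (Spec (CommRingCat.of k))) (K : Type u) [Field K] (eT : T.left ≅ Spec (CommRingCat.of K))
      (W : (M ⊗ T).left.Opens),
      (CartesianMonoidalCategory.snd G (M ⊗ T)).left ⁻¹ᵁ W ≤
          ((((Magnet.MonAct.regular M).restrict i).prod (Magnet.MonAct.trivial G T)).act).left ⁻¹ᵁ W →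
      (CartesianMonoidalCategory.lift (toUnit T ≫ o) (𝟙 T)).left ⁻¹ᵁ W = ⊤ → W = ⊤)
    (aX : AlgGrp.Action G X)
    (hcov : ∀ (T : Over (Spec (CommRingCat.of k))) (x : (Magnet.MonAct.fixedPsh (Magnet.MonAct.ofAction aX)).obj (op T)),
      ⨆ (U : X.left.Opens) (_ : IsAffineOpen U ∧ (CartesianMonoidalCategory.snd G X).left ⁻¹ᵁ U ≤ aX.act.left ⁻¹ᵁ U),
        x.1.left ⁻¹ᵁ U = ⊤) :
    ∃ Z : Over (Spec (CommRingCat.of k)),
      Nonempty ((Magnet.MonAct.eqvHom ((Magnet.MonAct.regular M).restrict i) (Magnet.MonAct.ofAction aX)).RepresentableBy Z) := by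
  classical
  let ρ : MonAct G M := (MonAct.regular M).restrict i
  let a : MonAct G X := MonAct.ofAction aX
  let D := MonAct.eqvHom ρ a
  let Idx : Type u := {U : X.left.Opens // IsAffineOpen U ∧
    (CartesianMonoidalCategory.snd G X).left ⁻¹ᵁ U ≤ aX.act.left ⁻¹ᵁ U}
  have hchart : ∀ U : Idx, ∃ (aU : MonAct G (resOv X U.1))
      (_ : MonAct.IsEquivariant aU a (resι X U.1)) (Z : Over (Spec (CommRingCat.of k))),
      Nonempty ((MonAct.eqvHom ρ aU).RepresentableBy Z) :=
    fun U => exists_chart i a U.1 U.2.1 U.2.2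
  choose aU hj Z e' using hchart
  let e : ∀ U : Idx, (MonAct.eqvHom ρ (aU U)).RepresentableBy (Z U) := fun U => (e' U).some
  let dZ : ∀ U : Idx, D.obj (op (Z U)) := fun U =>
    ⟨((e U).homEquiv (𝟙 (Z U))).1 ≫ resι X U.1, ((e U).homEquiv (𝟙 (Z U))).2.comp (hj U)⟩
  have K1 : ∀ (U : Idx) (T : Over (Spec (CommRingCat.of k))) (z : T ⟶ Z U),
      (D.map z.op (dZ U)).1 = ((e U).homEquiv z).1 ≫ resι X U.1 := by
    intro U T z
    have h1 := (e U).homEquiv_comp z (𝟙 (Z U))
    rw [Category.comp_id] at h1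
    rw [h1]
    change (M ◁ z) ≫ ((e U).homEquiv (𝟙 (Z U))).1 ≫ resι X U.1 = _
    rw [← Category.assoc]
    rfl
  let x₀ : ∀ (T : Over (Spec (CommRingCat.of k))) (d : D.obj (op T)), T ⟶ X :=
    fun T d => lift (toUnit T ≫ o) (𝟙 T) ≫ d.1
  let Vf : ∀ (_ : Idx) (T : Over (Spec (CommRingCat.of k))) (_ : D.obj (op T)), T.left.Opens :=
    fun U T d => (x₀ T d).left ⁻¹ᵁ U.1
  apply representable_of_local' (D := D) Z dZ (hsep ρ a) (hglue ρ a) ?_ Vf ?_ ?_ ?_
  · intro U T z z' h
    have := mono_resι X U.1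
    have h1 : (D.map z.op (dZ U)).1 = (D.map z'.op (dZ U)).1 := congrArg Subtype.val h
    rw [K1, K1, cancel_mono] at h1
    exact (e U).homEquiv.injective (Subtype.ext h1)
  · intro U T d
    have := mono_resι X U.1
    let V := Vf U T d
    let dV := D.map (resι T V).op d
    have hx : lift (toUnit (resOv T V) ≫ o) (𝟙 (resOv T V)) ≫ dV.1 = resι T V ≫ x₀ T d :=
      eval_whiskerLeft o (resι T V) d.1
    have h0 : (lift (toUnit (resOv T V) ≫ o) (𝟙 (resOv T V)) ≫ dV.1).left ⁻¹ᵁ U.1 = ⊤ := by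
      rw [hx, eq_top_iff]
      intro p _
      change (resι T V ≫ x₀ T d).left p ∈ U.1
      rw [comp_left_apply]
      exact p.2
    have h1 := preimage_eq_top i o hM a U.1 U.2.2 dV.1 dV.2 h0
    obtain ⟨ψ, hψ⟩ := exists_factor_open dV.1 U.1 h1
    have hψe : MonAct.IsEquivariant (ρ.prod (MonAct.trivial G (resOv T V))) (aU U) ψ := by
      apply eqv_of_comp_mono (resι X U.1) (hj U)
      rw [hψ]
      exact dV.2
    refine ⟨(e U).homEquiv.symm ⟨ψ, hψe⟩, ?_⟩
    apply Subtype.ext
    rw [K1, Equiv.apply_symm_apply]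
    exact hψ
  · intro U T d W w a' h x
    change (x₀ T d).left (w.left x) ∈ U.1
    rw [← comp_left_apply]
    have h1 : w ≫ x₀ T d = lift (toUnit W ≫ o) (𝟙 W) ≫ (D.map w.op d).1 :=
      (eval_whiskerLeft o w d.1).symm
    rw [h1, ← h, K1, ← Category.assoc, comp_left_apply]
    exact ((lift (toUnit W ≫ o) (𝟙 W) ≫ ((e U).homEquiv a').1).left x).2
  · intro T d t
    let x : (MonAct.fixedPsh a).obj (op T) :=
      ⟨x₀ T d, fun T' t' g => zero_fixed i o ho a d.1 d.2 T' t' g⟩
    have h1 := hcov T x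
    have ht : t ∈ (⊤ : T.left.Opens) := trivial
    rw [← h1] at ht
    obtain ⟨U, hU⟩ := TopologicalSpace.Opens.mem_iSup.mp ht
    obtain ⟨hU2, hU3⟩ := TopologicalSpace.Opens.mem_iSup.mp hU
    exact ⟨⟨U, hU2⟩, hU3⟩

end Groth.Agent.S18964
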