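import Groth.Statements.S18974
import Mathlib

set_option autoImplicit false
universe u
open CAlg

namespace Groth.Agent.S18974

section
open Polynomial Finset

variable {A : Type u} [CommRing A] [Algebra ℚ A] (D : Derivation ℚ A A)

theorem iter_leibniz (n : ℕ) (x y : A) :
    (⇑D)^[n] (x * y) = ∑ ij ∈ antidiagonal n, (n.choose ij.1) • ((⇑D)^[ij.1] x * (⇑D)^[ij.2] y) := by
  induction n with
  | zero => simp
  | succ n ih =>
    rw [Finset.sum_antidiagonal_choose_succ_nsmul (M := A) (fun i j => (⇑D)^[i] x * (⇑D)^[j] y) n]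
    simp only [Function.iterate_succ_apply', ih, map_sum, map_nsmul, Derivation.leibniz, smul_add,
      sum_add_distrib, smul_eq_mul]
    congr 1
    refine sum_congr rfl fun ⟨i, j⟩ hij => ?_
    rw [n.choose_symm_of_eq_add (mem_antidiagonal.1 hij).symm, mul_comm]

theorem vanish {x : A} {n m : ℕ} (h : (⇑D)^[n] x = 0) (hnm : n ≤ m) : (⇑D)^[m] x = 0 := by
  obtain ⟨k, rfl⟩ := Nat.exists_eq_add_of_le hnm
  rw [add_comm, Function.iterate_add_apply, h]
  exact iterate_map_zero D k

variable (hnil : ∀ x : A, ∃ n : ℕ, (⇑D)^[n] x = 0)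

open scoped Classical in
noncomputable def Epoly (x : A) : A[X] :=
  ∑ n ∈ range (Nat.find (hnil x)), monomial n (((n.factorial : ℚ)⁻¹) • (⇑D)^[n] x)

open scoped Classical in
theorem coeffE (x : A) (m : ℕ) :
    (Epoly D hnil x).coeff m = ((m.factorial : ℚ)⁻¹) • (⇑D)^[m] x := by
  classical
  simp only [Epoly, finsetSum_coeff, coeff_monomial]
  rw [Finset.sum_ite_eq']
  split_ifs with h
  · rfl
  · rw [Finset.mem_range, not_lt] at h
    rw [vanish D (Nat.find_spec (hnil x)) h, smul_zero]

theorem iter_succ_one (m : ℕ) : (⇑D)^[m + 1] (1 : A) = 0 := by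
  rw [Function.iterate_succ_apply, D.map_one_eq_zero]
  exact iterate_map_zero D m

theorem fact_id (i j : ℕ) :
    (((i + j).factorial : ℚ)⁻¹) * ((i + j).choose i : ℚ) =
      ((i.factorial : ℚ)⁻¹) * ((j.factorial : ℚ)⁻¹) := by
  have h := Nat.add_choose_mul_factorial_mul_factorial i j
  rw [← Nat.choose_symm_add] at h
  have h' : (((i + j).choose i : ℚ)) * (i.factorial : ℚ) * (j.factorial : ℚ) =
      ((i + j).factorial : ℚ) := by exact_mod_cast h
  have hi : (i.factorial : ℚ) ≠ 0 := by exact_mod_cast i.factorial_ne_zero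
  have hj : (j.factorial : ℚ) ≠ 0 := by exact_mod_cast j.factorial_ne_zero
  have hij : ((i + j).factorial : ℚ) ≠ 0 := by exact_mod_cast (i + j).factorial_ne_zero
  rw [← h']
  have hc : (((i + j).choose i : ℚ)) ≠ 0 := by
    intro h0
    rw [h0, zero_mul, zero_mul] at h'
    exact hij h'.symm
  field_simp

noncomputable def Ehom : A →+* A[X] where
  toFun := Epoly D hnil
  map_one' := by
    ext m
    rw [coeffE]
    rcases m with _ | m
    · simp
    · rw [iter_succ_one, smul_zero, coeff_one]
      simp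
  map_mul' x y := by
    ext m
    rw [coeffE, coeff_mul, iter_leibniz, Finset.smul_sum]
    refine sum_congr rfl fun ⟨i, j⟩ hij => ?_
    rw [coeffE, coeffE]
    have hm : i + j = m := mem_antidiagonal.1 hij
    subst hm
    simp only [smul_mul_smul_comm]
    rw [← Nat.cast_smul_eq_nsmul ℚ, smul_smul, fact_id]
  map_zero' := by
    ext m
    rw [coeffE, iterate_map_zero, smul_zero, coeff_zero]
  map_add' x y := by
    ext m
    rw [coeff_add, coeffE, coeffE, coeffE, iterate_map_add, smul_add]

theorem Ehom_coeff (x : A) (m : ℕ) :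
    (Ehom D hnil x).coeff m = ((m.factorial : ℚ)⁻¹) • (⇑D)^[m] x := coeffE D hnil x m

theorem E1 (x : A) : Ehom D hnil (D x) = derivative (Ehom D hnil x) := by
  ext m
  rw [coeff_derivative, Ehom_coeff, Ehom_coeff, ← Function.iterate_succ_apply]
  have hc : ((m.factorial : ℚ)⁻¹) = (((m + 1).factorial : ℚ)⁻¹) * ((m : ℚ) + 1) := by
    have h1 : ((m : ℚ) + 1) ≠ 0 := by positivity
    have h2 : (m.factorial : ℚ) ≠ 0 := by exact_mod_cast m.factorial_ne_zero
    rw [Nat.factorial_succ]
    push_cast
    field_simp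
  rw [hc, mul_smul, smul_mul_assoc]
  congr 1
  rw [Algebra.smul_def, mul_comm]
  congr 1
  simp

theorem E3 (x : A) (hx : D x = 0) : Ehom D hnil x = C x := by
  ext m
  rw [Ehom_coeff, coeff_C]
  rcases m with _ | m
  · simp
  · rw [Function.iterate_succ_apply, hx, iterate_map_zero, smul_zero]
    simp

theorem E2 (a : A) (ha : D a = 1) : Ehom D hnil a = C a + X := by
  ext m
  rw [Ehom_coeff, coeff_add, coeff_C, coeff_X]
  rcases m with _ | m
  · simp
  · rcases m with _ | m
    · simp [ha]
    · rw [Function.iterate_succ_apply, ha, iter_succ_one, smul_zero]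
      simp

theorem Esum (x : A) (N : ℕ) (hN : (⇑D)^[N] x = 0) :
    Ehom D hnil x = ∑ n ∈ range N, monomial n (((n.factorial : ℚ)⁻¹) • (⇑D)^[n] x) := by
  classical
  ext m
  rw [Ehom_coeff, finsetSum_coeff]
  simp only [coeff_monomial]
  rw [Finset.sum_ite_eq']
  split_ifs with h
  · rfl
  · rw [Finset.mem_range, not_lt] at h
    rw [vanish D hN h, smul_zero]

theorem Deval (b : A) (p : A[X]) :
    D (eval b p) = (p.sum fun n c => D c * b ^ n) + eval b (derivative p) * D b := by
  induction p using Polynomial.induction_on' with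
  | add p q hp hq =>
    rw [eval_add, map_add, hp, hq, derivative_add, eval_add,
      sum_add_index p q _ (fun n => by simp) (fun n c c' => by rw [map_add, add_mul])]
    ring
  | monomial n c =>
    rw [eval_monomial, D.leibniz, D.leibniz_pow, sum_monomial_index _ _ (by simp),
      derivative_monomial, eval_monomial]
    simp only [smul_eq_mul, nsmul_eq_mul]
    ring

theorem supp_E (x : A) (N : ℕ) (hN : (⇑D)^[N] x = 0) : (Ehom D hnil x).support ⊆ range N := by
  intro n hn
  rw [mem_support_iff, Ehom_coeff] at hn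
  rw [Finset.mem_range]
  by_contra h
  rw [not_lt] at h
  exact hn (by rw [vanish D hN h, smul_zero])

theorem sumD_E (b : A) (x : A) :
    ((Ehom D hnil x).sum fun n c => D c * b ^ n) = eval b (Ehom D hnil (D x)) := by
  obtain ⟨N, hN⟩ := hnil x
  have hN' : (⇑D)^[N] (D x) = 0 := by
    rw [← Function.iterate_succ_apply]
    exact vanish D hN (Nat.le_succ N)
  rw [eval_eq_sum, Polynomial.sum_eq_of_subset _ (by simp) (supp_E D hnil x N hN),
    Polynomial.sum_eq_of_subset _ (by simp) (supp_E D hnil (D x) N hN')]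
  refine sum_congr rfl fun n hn => ?_
  rw [Ehom_coeff, Ehom_coeff, D.map_smul, ← Function.iterate_succ_apply' (⇑D),
    Function.iterate_succ_apply]

noncomputable def piHom (a : A) : A →+* A := (evalRingHom (-a)).comp (Ehom D hnil)

theorem pi_apply (a x : A) : piHom D hnil a x = eval (-a) (Ehom D hnil x) := rfl

theorem pi1 (a : A) (ha : D a = 1) : piHom D hnil a a = 0 := by
  rw [pi_apply, E2 D hnil a ha]
  simp

theorem pi2 (a : A) (ha : D a = 1) (x : A) : D (piHom D hnil a x) = 0 := by
  rw [pi_apply, Deval, sumD_E, E1, map_neg, ha]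
  ring

theorem pi3 (a x : A) (hx : D x = 0) : piHom D hnil a x = x := by
  rw [pi_apply, E3 D hnil x hx, eval_C]

theorem pi4 (a x : A) :
    Ideal.Quotient.mk (Ideal.span ({a} : Set A)) (piHom D hnil a x) =
      Ideal.Quotient.mk (Ideal.span ({a} : Set A)) x := by
  rw [pi_apply, ← eval₂_id, hom_eval₂, map_neg,
    Ideal.Quotient.eq_zero_iff_mem.2 (Ideal.mem_span_singleton_self a), neg_zero, eval₂_at_zero,
    Ehom_coeff]
  simp

theorem pi_span (a : A) (ha : D a = 1) (z : A) (hz : z ∈ Ideal.span ({a} : Set A)) :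
    piHom D hnil a z = 0 := by
  obtain ⟨w, rfl⟩ := Ideal.mem_span_singleton'.1 hz
  rw [map_mul, pi1 D hnil a ha, mul_zero]

theorem Deval2 (a : A) (ha : D a = 1) (p : A[X]) :
    D (eval₂ (piHom D hnil a) a p) = eval₂ (piHom D hnil a) a (derivative p) := by
  induction p using Polynomial.induction_on' with
  | add p q hp hq =>
    rw [eval₂_add, map_add, hp, hq, derivative_add, eval₂_add]
  | monomial n c =>
    rw [eval₂_monomial, D.leibniz, D.leibniz_pow, pi2 D hnil a ha, derivative_monomial,
      eval₂_monomial, ha]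
    simp only [smul_eq_mul, nsmul_eq_mul, map_mul, map_natCast]
    ring

noncomputable def rhoHom (a : A) : A →+* A :=
  (eval₂RingHom (piHom D hnil a) a).comp (Ehom D hnil)

theorem rho_apply (a x : A) : rhoHom D hnil a x = eval₂ (piHom D hnil a) a (Ehom D hnil x) := rfl

theorem rho1 (a : A) (ha : D a = 1) (x : A) : D (rhoHom D hnil a x) = rhoHom D hnil a (D x) := by
  rw [rho_apply, Deval2 D hnil a ha, ← E1, rho_apply]

theorem rho2 (a : A) (ha : D a = 1) (x : A) :
    piHom D hnil a (rhoHom D hnil a x) = piHom D hnil a x := by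
  rw [rho_apply, hom_eval₂, pi1 D hnil a ha, eval₂_at_zero, Ehom_coeff]
  simp only [Nat.factorial_zero, Nat.cast_one, inv_one, Function.iterate_zero, id_eq, one_smul,
    RingHom.comp_apply]
  exact pi3 D hnil a _ (pi2 D hnil a ha x)

theorem rho_id (a : A) (ha : D a = 1) : ∀ (N : ℕ) (x : A), (⇑D)^[N] x = 0 →
    rhoHom D hnil a x = x := by
  intro N
  induction N with
  | zero =>
    intro x hx
    rw [Function.iterate_zero, id_eq] at hx
    rw [hx, map_zero]
  | succ N ih =>
    intro x hx
    rw [Function.iterate_succ_apply] at hx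
    have h1 := ih (D x) hx
    have h2 : D (rhoHom D hnil a x - x) = 0 := by
      rw [map_sub, rho1 D hnil a ha, h1, sub_self]
    have h3 := pi3 D hnil a _ h2
    rw [map_sub, rho2 D hnil a ha, sub_self] at h3
    exact sub_eq_zero.1 h3.symm

end

/-- Let A be a commutative algebra over the rationals, D a locally nilpotent derivation of A and a an
element with D a = 1; write A' for the quotient of A by the ideal generated by a. Then there is a
ring isomorphism from A onto the polynomial ring A'[Y] which sends every x to the (finite) sum over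
n of (1/n!) (class of D^n x) Y^n; its inverse sends Y to a and the constant polynomial on the class
of x to the sum over n of ((-1)^n/n!) (D^n x) a^n, and under it D corresponds to the derivative
d/dY. (The source says only that A is a ring, in a setting over a field of characteristic zero; the
rational coefficients 1/n! require an algebra over the rationals, which is the hypothesis taken
here. Both sums are written over any range beyond which the iterates of D vanish at x.) -/
theorem result
    (A : Type u) [CommRing A] [Algebra ℚ A] (D : Derivation ℚ A A)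
    (hnil : ∀ x : A, ∃ n : ℕ, ((D : A →ₗ[ℚ] A) ^ n) x = 0) (a : A) (ha : D a = 1) :
    ∃ χ : A ≃+* Polynomial (A ⧸ Ideal.span ({a} : Set A)),
      (∀ (x : A) (N : ℕ), ((D : A →ₗ[ℚ] A) ^ N) x = 0 →
        χ x = ∑ n ∈ Finset.range N,
          ((n.factorial : ℚ)⁻¹ • Polynomial.C (Ideal.Quotient.mk (Ideal.span ({a} : Set A)) (((D : A →ₗ[ℚ] A) ^ n) x))) *
            Polynomial.X ^ n) ∧
      χ.symm Polynomial.X = a ∧
      (∀ (x : A) (N : ℕ), ((D : A →ₗ[ℚ] A) ^ N) x = 0 →
        χ.symm (Polynomial.C (Ideal.Quotient.mk (Ideal.span ({a} : Set A)) x)) =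
          ∑ n ∈ Finset.range N, (((-1 : ℚ) ^ n * (n.factorial : ℚ)⁻¹) • ((((D : A →ₗ[ℚ] A) ^ n) x) * a ^ n))) ∧
      ∀ p : Polynomial (A ⧸ Ideal.span ({a} : Set A)), χ (D (χ.symm p)) = Polynomial.derivative p := by
  have hconv : ∀ (n : ℕ) (x : A), ((D : A →ₗ[ℚ] A) ^ n) x = (⇑D)^[n] x := fun n x => by
    rw [Module.End.pow_apply]; rfl
  have hnil' : ∀ x : A, ∃ n : ℕ, (⇑D)^[n] x = 0 := fun x => by
    obtain ⟨n, hn⟩ := hnil x
    exact ⟨n, by rw [← hconv]; exact hn⟩
  let πbar : A ⧸ Ideal.span ({a} : Set A) →+* A :=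
    Ideal.Quotient.lift _ (piHom D hnil' a) (pi_span D hnil' a ha)
  let χ : A →+* Polynomial (A ⧸ Ideal.span ({a} : Set A)) :=
    (Polynomial.mapRingHom (Ideal.Quotient.mk (Ideal.span ({a} : Set A)))).comp (Ehom D hnil')
  let ψ : Polynomial (A ⧸ Ideal.span ({a} : Set A)) →+* A := Polynomial.eval₂RingHom πbar a
  have hχ : ∀ x, χ x = Polynomial.map (Ideal.Quotient.mk (Ideal.span ({a} : Set A)))
      (Ehom D hnil' x) := fun x => rfl
  have hψ : ∀ p, ψ p = Polynomial.eval₂ πbar a p := fun p => rfl
  have hπbar : ∀ x, πbar (Ideal.Quotient.mk (Ideal.span ({a} : Set A)) x) = piHom D hnil' a x :=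
    fun x => Ideal.Quotient.lift_mk _ _ _
  have hχψ : χ.comp ψ = RingHom.id _ := by
    apply Polynomial.ringHom_ext
    · intro q
      obtain ⟨x, rfl⟩ := Ideal.Quotient.mk_surjective q
      rw [RingHom.comp_apply, hψ, Polynomial.eval₂_C, hπbar, hχ,
        E3 D hnil' _ (pi2 D hnil' a ha x), Polynomial.map_C, pi4, RingHom.id_apply]
    · rw [RingHom.comp_apply, hψ, Polynomial.eval₂_X, hχ, E2 D hnil' a ha, Polynomial.map_add,
        Polynomial.map_C, Polynomial.map_X,
        Ideal.Quotient.eq_zero_iff_mem.2 (Ideal.mem_span_singleton_self a), Polynomial.C_0,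
        zero_add, RingHom.id_apply]
  have hψχ : ψ.comp χ = RingHom.id _ := by
    ext x
    rw [RingHom.comp_apply, hψ, hχ, Polynomial.eval₂_map, RingHom.id_apply]
    have hc : πbar.comp (Ideal.Quotient.mk (Ideal.span ({a} : Set A))) = piHom D hnil' a := by
      ext y
      exact hπbar y
    rw [hc]
    obtain ⟨N, hN⟩ := hnil' x
    exact rho_id D hnil' a ha N x hN
  refine ⟨RingEquiv.ofRingHom χ ψ hχψ hψχ, ?_, ?_, ?_, ?_⟩
  · intro x N hN
    rw [hconv] at hN
    change χ x = _
    rw [hχ, Esum D hnil' x N hN, Polynomial.map_sum]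
    refine Finset.sum_congr rfl fun n _ => ?_
    rw [Polynomial.map_monomial, hconv, map_rat_smul, ← Polynomial.smul_monomial,
      ← Polynomial.C_mul_X_pow_eq_monomial, smul_mul_assoc]
  · change ψ Polynomial.X = a
    rw [hψ, Polynomial.eval₂_X]
  · intro x N hN
    rw [hconv] at hN
    change ψ _ = _
    rw [hψ, Polynomial.eval₂_C, hπbar, pi_apply, Esum D hnil' x N hN, Polynomial.eval_finsetSum]
    refine Finset.sum_congr rfl fun n _ => ?_
    rw [Polynomial.eval_monomial, hconv, Algebra.smul_def, Algebra.smul_def, map_mul, map_pow,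
      map_neg, map_one, neg_pow a]
    ring
  · intro p
    change χ (D (ψ p)) = _
    rw [hχ, E1, ← Polynomial.derivative_map, ← hχ]
    have : χ (ψ p) = p := RingHom.congr_fun hχψ p
    rw [this]

end Groth.Agent.S18974
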