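import Groth.Statements.S18976
import Groth.Agent.Lib.Helper5.PrincAssoc
import Groth.Agent.Lib.Helper5.PrincQuot
import Groth.Agent.S18975

set_option autoImplicit false
universe u
open CategoryTheory MonoidalCategory CartesianMonoidalCategory MonObj AlgebraicGeometry
open GIT

namespace Groth.Agent.S18976

/-- The associated fibre bundle exists. Over an algebraically closed field k of characteristic zero, let
G be an affine group scheme of finite type over k acting on a k-scheme X, let φ : X → Y be a
G-torsor over Y (the square formed by the action, the second projection and φ twice is cartesian,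
and φ acquires sections on the members of some fpqc covering family of Y), and let G act on an
affine k-scheme F. Give X ×_k F the diagonal action. Then there are a k-scheme Q with a morphism to
Y and a morphism q : X ×_k F → Q compatible with the projection to Y such that q is a G-torsor over
Q in the same sense; moreover q is affine and a geometric quotient. (The source writes the torsor
with a right action and lets g act on X × F by (x g⁻¹, g f); with the left action g x := x g⁻¹ this
is the diagonal action used here. The last assertion of the source, on the case where F is a larger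
affine group containing G, is not part of this row.) -/
theorem result
    (k : Type u) [Field k] [IsAlgClosed k] [CharZero k]
    (G X Y F : Over (Spec (CommRingCat.of k))) [GrpObj G] [IsAffine G.left] [LocallyOfFiniteType G.hom]
    (a : AlgGrp.Action G X) (φ : X ⟶ Y)
    (hcart : IsPullback a.act (snd G X) φ φ)
    (hloc : NonAbH1.IsLocallyTrivialFor Scheme.fpqcPrecoverage (Over.mk φ.left : Over Y.left))
    [IsAffine F.left] (b : AlgGrp.Action G F) :
    ∃ (Q : Over (Spec (CommRingCat.of k))) (q : X ⊗ F ⟶ Q) (r : Q ⟶ Y),
      q ≫ r = fst X F ≫ φ ∧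
      IsPullback (a.prod b).act (snd G (X ⊗ F)) q q ∧
      NonAbH1.IsLocallyTrivialFor Scheme.fpqcPrecoverage (Over.mk q.left : Over Q.left) ∧
      IsAffineHom q.left ∧ GIT.IsGeomQuot (a.prod b) q := by
  -- properties of φ from the torsor structure
  obtain ⟨haff, hgq⟩ := Groth.Agent.S18975.result k G X Y a φ hcart hloc
  have hsurj : Surjective φ.left := ⟨hgq.surj⟩
  have hflat : Flat φ.left := by
    obtain ⟨R, hR, hsec⟩ := hloc
    have hGflat : Flat G.hom := by
      have h1 : Subsingleton (Spec (CommRingCat.of k)) := inferInstance
      have h2 : IsIntegral (Spec (CommRingCat.of k)) := inferInstance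
      change Flat (Y := Spec (CommRingCat.of k)) G.hom
      infer_instance
    have hd2 := Groth.Agent.S18975.flat_descendsAlong'.{u}
    apply Groth.Agent.Lib.Helper5.of_mem_fpqcPrecoverage @Flat φ.left R hR
    intro Y' f hf
    obtain ⟨s, hs⟩ := hsec f hf
    obtain ⟨top, sq⟩ := Groth.Agent.S18975.isPullback_of_section a φ hcart f s hs
    have h1 : Flat (Limits.pullback.snd G.hom (f ≫ Y.hom)) :=
      MorphismProperty.pullback_snd (P := @Flat) _ _ hGflat
    rw [← sq.isoPullback_hom_snd] at h1
    exact (MorphismProperty.cancel_left_of_respectsIso @Flat _ _).mp h1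
  haveI := haff
  haveI := hsurj
  haveI := hflat
  haveI : QuasiCompact φ.left := inferInstance
  haveI : IsAffineHom F.hom := isAffineHom_of_isAffine F.hom
  have hsq : IsPullback a.act.left (snd G X).left φ.left φ.left := hcart.map (Over.forget _)
  obtain ⟨Q, q, r, -, hinv, hpb⟩ := Groth.Agent.Lib.Helper5.PrincAssoc.exists_assoc a φ hsq b
  have hqr : q ≫ r = fst X F ≫ φ := by
    apply Over.OverMorphism.ext
    rw [Over.comp_left, Over.comp_left]
    exact hpb.w.symm
  have hρ : (a.prod b).act ≫ q = snd G (X ⊗ F) ≫ q := hinv
  have hr : (a.prod b).act ≫ fst X F = (G ◁ fst X F) ≫ a.act := by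
    rw [AlgGrp.Action.prod_act, lift_fst]
  have hact : IsPullback (a.prod b).act (snd G (X ⊗ F)) q q :=
    Groth.Agent.Lib.Helper5.PrincQuot.isPullback_act a φ hsq (a.prod b) (fst X F) hr q hρ r hpb
  haveI hqflat : Flat q.left := MorphismProperty.of_isPullback (P := @Flat) hpb hflat
  haveI hqsurj : Surjective q.left := MorphismProperty.of_isPullback (P := @Surjective) hpb hsurj
  haveI hqaff : IsAffineHom q.left := MorphismProperty.of_isPullback (P := @IsAffineHom) hpb haff
  have hlocq : NonAbH1.IsLocallyTrivialFor Scheme.fpqcPrecoverage (Over.mk q.left : Over Q.left) := by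
    refine ⟨Presieve.singleton q.left, Scheme.Hom.singleton_mem_fpqcPrecoverage q.left, ?_⟩
    rintro S' f ⟨⟩
    exact ⟨𝟙 _, Category.id_comp _⟩
  obtain ⟨haffq, hgqq⟩ := Groth.Agent.S18975.result k G (X ⊗ F) Q (a.prod b) q hact hlocq
  exact ⟨Q, q, r, hqr, hact, hlocq, haffq, hgqq⟩

end Groth.Agent.S18976
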