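import Groth.Statements.S18977
import Mathlib
import Groth.Agent.Lib.Helper93.TorsorPts

set_option autoImplicit false
universe u
open CategoryTheory MonoidalCategory CartesianMonoidalCategory MonObj AlgebraicGeometry
open GIT
open Groth.Agent.Lib.Helper93 CategoryTheory.Limits GrpObj

namespace Groth.Agent.S18977

/-- Composition of torsors. Over an algebraically closed field k of characteristic zero, let G be an
affine group scheme of finite type over k, N a closed normal subgroup scheme which is the kernel of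
a homomorphism q : G → Q, and H a closed subgroup scheme of G which q maps isomorphically onto Q (so
G is the inner semidirect product N H). Let G act on a k-scheme X and let φ₁ : X → Y be a torsor
over Y under the restricted action of N (the square formed by the N-action, the second projection
and φ₁ twice is cartesian, and φ₁ acquires sections on the members of some fpqc covering family of
Y); let Q act on Y so that φ₁ is equivariant along q, and let φ₂ : Y → Z be a Q-torsor over Z in the
same sense. Then φ₂ ∘ φ₁ is a G-torsor over Z: the square formed by the G-action, the second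
projection and φ₂ ∘ φ₁ twice is cartesian, and φ₂ ∘ φ₁ acquires sections fpqc-locally on Z. (The
induced action of the factor group on Y is taken as a datum together with the equivariance of φ₁;
the source's second assertion, that the composite of trivial torsors is trivial, amounts to
composing sections and is not restated.) -/
theorem result
    (k : Type u) [Field k] [IsAlgClosed k] [CharZero k]
    (G N Q H X Y Z : Over (Spec (CommRingCat.of k))) [GrpObj G] [GrpObj N] [GrpObj Q] [GrpObj H]
    [IsAffine G.left] [LocallyOfFiniteType G.hom]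
    (iN : N ⟶ G) [IsMonHom iN] [IsClosedImmersion iN.left] (hnorm : AlgGrp.IsNormalHom iN)
    (q : G ⟶ Q) [IsMonHom q] (hker : AlgGrp.IsKernel iN q)
    (iH : H ⟶ G) [IsMonHom iH] [IsClosedImmersion iH.left] [IsIso (iH ≫ q)]
    (a : AlgGrp.Action G X) (φ₁ : X ⟶ Y)
    (h₁ : IsPullback (a.restrict iN).act (snd N X) φ₁ φ₁)
    (h₁loc : NonAbH1.IsLocallyTrivialFor Scheme.fpqcPrecoverage (Over.mk φ₁.left : Over Y.left))
    (aY : AlgGrp.Action Q Y) (hequiv : (q ⊗ₘ φ₁) ≫ aY.act = a.act ≫ φ₁)
    (φ₂ : Y ⟶ Z) (h₂ : IsPullback aY.act (snd Q Y) φ₂ φ₂)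
    (h₂loc : NonAbH1.IsLocallyTrivialFor Scheme.fpqcPrecoverage (Over.mk φ₂.left : Over Z.left)) :
    IsPullback a.act (snd G X) (φ₁ ≫ φ₂) (φ₁ ≫ φ₂) ∧
      NonAbH1.IsLocallyTrivialFor Scheme.fpqcPrecoverage (Over.mk (φ₁ ≫ φ₂).left : Over Z.left) := by
  refine ⟨?_, ?_⟩
  · -- points form of the equivariance of φ₁
    have hEq : ∀ (T : Over (Spec (CommRingCat.of k))) (g : T ⟶ G) (x : T ⟶ X),
        (lift g x ≫ a.act) ≫ φ₁ = lift (g ≫ q) (x ≫ φ₁) ≫ aY.act := by
      intro T g x
      rw [Category.assoc, ← hequiv, ← Category.assoc, lift_map]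
    apply TorsorPts.isPullback_of_points
    · -- invariance
      intro T g x
      rw [← Category.assoc, hEq, TorsorPts.act_comp_of_isPullback aY φ₂ h₂, Category.assoc]
    · -- existence
      intro T x' x hx
      obtain ⟨q₀, hq₀⟩ := TorsorPts.exists_of_isPullback aY φ₂ h₂ (x' ≫ φ₁) (x ≫ φ₁)
        (by simpa using hx)
      set g₁ : T ⟶ G := q₀ ≫ inv (iH ≫ q) ≫ iH with hg₁
      have hg₁q : g₁ ≫ q = q₀ := by
        rw [hg₁, Category.assoc, Category.assoc, IsIso.inv_hom_id, Category.comp_id]
      have h1 : (lift g₁ x ≫ a.act) ≫ φ₁ = x' ≫ φ₁ := by rw [hEq, hg₁q, hq₀]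
      obtain ⟨n, hn⟩ := TorsorPts.exists_of_isPullback (a.restrict iN) φ₁ h₁ x'
        (lift g₁ x ≫ a.act) h1.symm
      rw [AlgGrp.Action.lift_restrict_act] at hn
      refine ⟨(n ≫ iN) * g₁, ?_⟩
      rw [AlgGrp.Action.lift_mul_act, hn]
    · -- uniqueness
      intro T g g' x hgg
      have hq : g ≫ q = g' ≫ q := by
        apply TorsorPts.eq_of_isPullback aY φ₂ h₂ _ _ (x ≫ φ₁)
        rw [← hEq, ← hEq, hgg]
      have hd : (g' * g⁻¹) ≫ q = 1 := by
        rw [MonObj.mul_comp, GrpObj.inv_comp, hq, mul_inv_cancel]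
      obtain ⟨n, hn⟩ : ∃ n : T ⟶ N, n ≫ iN = g' * g⁻¹ := by
        refine ⟨hker.lift (g' * g⁻¹) (toUnit T) ?_, hker.lift_fst _ _ _⟩
        rw [hd, Hom.one_def]
      have hn1 : n = 1 := by
        apply TorsorPts.eq_of_isPullback (a.restrict iN) φ₁ h₁ _ _ (lift g x ≫ a.act)
        rw [AlgGrp.Action.lift_restrict_act, AlgGrp.Action.lift_restrict_act, hn,
          ← AlgGrp.Action.lift_mul_act, inv_mul_cancel_right, MonObj.one_comp,
          AlgGrp.Action.lift_one_act, hgg]
      have : g' * g⁻¹ = 1 := by rw [← hn, hn1, MonObj.one_comp]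
      exact (mul_inv_eq_one.mp this).symm
  · exact TorsorPts.isLocallyTrivialFor_comp Scheme.fpqcPrecoverage φ₁.left φ₂.left h₁loc h₂loc

end Groth.Agent.S18977
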