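import Groth.Statements.S18983
import Mathlib

set_option autoImplicit false
universe u v w
open CAlg

set_option linter.unusedSectionVars false

namespace Groth.Agent.S18983Aux

open Module

section
variable {k : Type u} [Field k] {Λ : Type v} [AddCommGroup Λ] [DecidableEq Λ]
  {V : Type w} [AddCommGroup V] [Module k V]
  (𝒱 : Λ → Submodule k V) [DirectSum.Decomposition 𝒱]

/-- The projection onto the `μ`-th homogeneous component, as an endomorphism. -/
noncomputable def proj (μ : Λ) : V →ₗ[k] V :=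
  (𝒱 μ).subtype ∘ₗ (DirectSum.component k Λ (fun i => 𝒱 i) μ) ∘ₗ
    (DirectSum.decomposeLinearEquiv 𝒱).toLinearMap

theorem proj_apply (μ : Λ) (v : V) : proj 𝒱 μ v = (DirectSum.decompose 𝒱 v μ : V) := rfl

theorem proj_mem (μ : Λ) (v : V) : proj 𝒱 μ v ∈ 𝒱 μ := by
  rw [proj_apply]; exact Subtype.property _

theorem proj_of_mem {μ : Λ} {v : V} (hv : v ∈ 𝒱 μ) : proj 𝒱 μ v = v := by
  rw [proj_apply, DirectSum.decompose_of_mem_same 𝒱 hv]

theorem proj_of_mem_ne {μ ν : Λ} {v : V} (hv : v ∈ 𝒱 ν) (h : ν ≠ μ) : proj 𝒱 μ v = 0 := by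
  rw [proj_apply, DirectSum.decompose_of_mem_ne 𝒱 hv h]

theorem sum_proj (v : V) : ∃ s : Finset Λ, ∑ μ ∈ s, proj 𝒱 μ v = v := by
  classical
  exact ⟨_, DirectSum.sum_support_decompose 𝒱 v⟩

/-- A submodule is homogeneous if it contains the homogeneous components of its elements. -/
def IsHom (W : Submodule k V) : Prop := ∀ w ∈ W, ∀ μ, proj 𝒱 μ w ∈ W

variable {𝒱} (A : Module.End k V) (χ : Λ)
  (hhom : ∀ (μ : Λ) (v : V), v ∈ 𝒱 μ → A v ∈ 𝒱 (μ + χ))

include hhom in
theorem A_proj (μ : Λ) (v : V) : A (proj 𝒱 μ v) = proj 𝒱 (μ + χ) (A v) := by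
  induction v using DirectSum.Decomposition.inductionOn 𝒱 with
  | zero => simp
  | @homogeneous ν m =>
    by_cases h : ν = μ
    · subst h
      rw [proj_of_mem 𝒱 m.2, proj_of_mem 𝒱 (hhom _ _ m.2)]
    · rw [proj_of_mem_ne 𝒱 m.2 h, map_zero, proj_of_mem_ne 𝒱 (hhom _ _ m.2)]
      intro h'
      exact h (add_right_cancel h')
  | add m m' h1 h2 => simp only [map_add, h1, h2]

include hhom in
theorem A_proj_sub (μ : Λ) (v : V) : proj 𝒱 μ (A v) = A (proj 𝒱 (μ - χ) v) := by
  rw [A_proj A χ hhom, sub_add_cancel]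

include hhom in
theorem pow_hom (l : ℕ) {μ : Λ} {v : V} (hv : v ∈ 𝒱 μ) : (A ^ l) v ∈ 𝒱 (μ + l • χ) := by
  induction l with
  | zero => simpa using hv
  | succ l ih =>
    rw [pow_succ', Module.End.mul_apply, succ_nsmul, ← add_assoc]
    exact hhom _ _ ih

include hhom in
theorem isHom_map {W : Submodule k V} (hW : IsHom 𝒱 W) : IsHom 𝒱 (W.map A) := by
  rintro _ ⟨w, hw, rfl⟩ μ
  rw [A_proj_sub A χ hhom]
  exact ⟨_, hW w hw _, rfl⟩

include hhom in
theorem isHom_ker : IsHom 𝒱 (LinearMap.ker A) := by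
  intro w hw μ
  rw [LinearMap.mem_ker] at hw ⊢
  rw [A_proj A χ hhom, hw, map_zero]

theorem isHom_inf {W₁ W₂ : Submodule k V} (h₁ : IsHom 𝒱 W₁) (h₂ : IsHom 𝒱 W₂) :
    IsHom 𝒱 (W₁ ⊓ W₂) := fun w hw μ => ⟨h₁ w hw.1 μ, h₂ w hw.2 μ⟩

theorem isHom_top : IsHom 𝒱 (⊤ : Submodule k V) := fun _ _ _ => Submodule.mem_top

/-- A homogeneous submodule is spanned by its homogeneous elements. -/
theorem span_hom_eq {W : Submodule k V} (hW : IsHom 𝒱 W) :
    Submodule.span k {v | v ∈ W ∧ ∃ μ, v ∈ 𝒱 μ} = W := by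
  apply le_antisymm
  · rw [Submodule.span_le]
    exact fun v hv => hv.1
  · intro w hw
    obtain ⟨s, hs⟩ := sum_proj 𝒱 w
    rw [← hs]
    exact Submodule.sum_mem _ fun μ _ =>
      Submodule.subset_span ⟨hW w hw μ, μ, proj_mem 𝒱 μ w⟩

end

section Main
variable {k : Type u} [Field k] {Λ : Type v} [AddCommGroup Λ] [DecidableEq Λ]
  {V : Type w} [AddCommGroup V] [Module k V] [FiniteDimensional k V]
  {𝒱 : Λ → Submodule k V} [DirectSum.Decomposition 𝒱]
  (A : Module.End k V)

theorem finrank_eq (W : Submodule k V) :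
    finrank k W = finrank k (W.map A) + finrank k (LinearMap.ker A ⊓ W : Submodule k V) := by
  have h := LinearMap.finrank_range_add_finrank_ker (A.domRestrict W)
  have h1 : LinearMap.range (A.domRestrict W) = W.map A := by
    ext v
    constructor
    · rintro ⟨w, rfl⟩; exact ⟨w.1, w.2, rfl⟩
    · rintro ⟨w, hw, rfl⟩; exact ⟨⟨w, hw⟩, rfl⟩
  have h2 : (LinearMap.ker (A.domRestrict W)).map W.subtype = LinearMap.ker A ⊓ W := by
    ext v
    constructor
    · rintro ⟨w, hw, rfl⟩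
      exact ⟨hw, w.2⟩
    · rintro ⟨hv1, hv2⟩
      exact ⟨⟨v, hv2⟩, hv1, rfl⟩
  have h3 : finrank k (LinearMap.ker (A.domRestrict W)) =
      finrank k (LinearMap.ker A ⊓ W : Submodule k V) := by
    rw [← h2]
    exact (Submodule.equivSubtypeMap W _).finrank_eq
  rw [← h, h1, h3]

theorem pow_stable {W : Submodule k V} (hW : ∀ w ∈ W, A w ∈ W) (l : ℕ) :
    ∀ w ∈ W, (A ^ l) w ∈ W := by
  induction l with
  | zero => intro w hw; simpa using hw
  | succ l ih =>
    intro w hw
    rw [pow_succ', Module.End.mul_apply]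
    exact hW _ (ih w hw)

theorem ker_inf_ne_bot (hA : IsNilpotent A) {W : Submodule k V} (hW : ∀ w ∈ W, A w ∈ W)
    (hne : W ≠ ⊥) : LinearMap.ker A ⊓ W ≠ ⊥ := by
  classical
  obtain ⟨w, hw, hw0⟩ := Submodule.exists_mem_ne_zero_of_ne_bot hne
  obtain ⟨p, hp⟩ := hA
  have hex : ∃ j, (A ^ j) w = 0 := ⟨p, by rw [hp]; rfl⟩
  have hj0 : Nat.find hex ≠ 0 := by
    intro h0
    have := Nat.find_spec hex
    rw [h0] at this
    exact hw0 (by simpa using this)
  obtain ⟨j, hj⟩ := Nat.exists_eq_succ_of_ne_zero hj0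
  have h1 : (A ^ j) w ≠ 0 := Nat.find_min hex (by omega)
  have h2 : A ((A ^ j) w) = 0 := by
    have := Nat.find_spec hex
    rw [hj, Nat.succ_eq_add_one, pow_succ', Module.End.mul_apply] at this
    exact this
  intro hbot
  have : (A ^ j) w ∈ LinearMap.ker A ⊓ W := ⟨h2, pow_stable A hW j w hw⟩
  rw [hbot] at this
  exact h1 ((Submodule.mem_bot k).mp this)

/-- The chain family attached to tops `t` with lengths `m`. -/
def chain {ι : Type w} (m : ι → ℕ) (t : ι → V) : (Σ i, Fin (m i + 1)) → V :=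
  fun x => (A ^ (x.2 : ℕ)) (t x.1)

end Main

section Claim
variable {k : Type u} [Field k] {Λ : Type v} [AddCommGroup Λ] [DecidableEq Λ]
  {V : Type w} [AddCommGroup V] [Module k V] [FiniteDimensional k V]
  {𝒱 : Λ → Submodule k V} [DirectSum.Decomposition 𝒱]
  (A : Module.End k V)

theorem pow_comm_apply (l : ℕ) (x : V) : (A ^ l) (A x) = A ((A ^ l) x) := by
  rw [← Module.End.mul_apply, ← Module.End.mul_apply, ← pow_succ, ← pow_succ']

theorem claim (hA : IsNilpotent A) (χ : Λ)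
    (hhom : ∀ (μ : Λ) (v : V), v ∈ 𝒱 μ → A v ∈ 𝒱 (μ + χ)) :
    ∀ (n : ℕ) (W : Submodule k V), finrank k W = n → IsHom 𝒱 W → (∀ w ∈ W, A w ∈ W) →
    ∃ (ι : Type w) (_ : Fintype ι) (m : ι → ℕ) (t : ι → V),
      (∀ i, t i ∈ W) ∧ (∀ i, ∃ μ, t i ∈ 𝒱 μ) ∧ (∀ i, (A ^ (m i + 1)) (t i) = 0) ∧
      Submodule.span k (Set.range (chain A m t)) = W ∧
      Fintype.card (Σ i, Fin (m i + 1)) = finrank k W := by
  classical
  intro n
  induction n using Nat.strong_induction_on with
  | _ n ih =>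
  intro W hn hWhom hWst
  by_cases hbot : W = ⊥
  · subst hbot
    refine ⟨PEmpty, inferInstance, PEmpty.elim, PEmpty.elim, fun i => i.elim, fun i => i.elim,
      fun i => i.elim, ?_, ?_⟩
    · have : Set.range (chain A (PEmpty.elim : PEmpty → ℕ) (PEmpty.elim : PEmpty → V)) = ∅ :=
        Set.range_eq_empty _
      rw [this, Submodule.span_empty]
    · rw [finrank_bot]; exact Fintype.card_eq_zero
  -- main step
  have hW'W : W.map A ≤ W := by rintro _ ⟨w, hw, rfl⟩; exact hWst w hw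
  have hrank := finrank_eq A W
  have hNne : LinearMap.ker A ⊓ W ≠ ⊥ := ker_inf_ne_bot A hA hWst hbot
  have hNpos : 0 < finrank k (LinearMap.ker A ⊓ W : Submodule k V) :=
    Nat.pos_of_ne_zero (mt Submodule.finrank_eq_zero.mp hNne)
  have hNhom : IsHom 𝒱 (LinearMap.ker A ⊓ W) := isHom_inf (isHom_ker A χ hhom) hWhom
  obtain ⟨ι', hι', m', t', ht'W, ht'hom, ht'top, hspan', hcard'⟩ :=
    ih (finrank k (W.map A)) (by omega) (W.map A) rfl (isHom_map A χ hhom hWhom)
      (fun w hw => ⟨w, hW'W hw, rfl⟩)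
  have hli' : LinearIndependent k (chain A m' t') := by
    rw [linearIndependent_iff_card_eq_finrank_span, hcard', Set.finrank, hspan']
  -- lift the tops
  have hu : ∀ i : ι', ∃ u : V, u ∈ W ∧ (∃ μ, u ∈ 𝒱 μ) ∧ A u = t' i := by
    intro i
    obtain ⟨w, hw, hwt⟩ := ht'W i
    obtain ⟨μ, hμ⟩ := ht'hom i
    refine ⟨proj 𝒱 (μ - χ) w, hWhom w hw _, ⟨_, proj_mem 𝒱 _ w⟩, ?_⟩
    rw [← A_proj_sub A χ hhom, hwt, proj_of_mem 𝒱 hμ]
  choose u huW huhom huA using hu
  -- bottoms
  let β : ι' → V := fun i => (A ^ (m' i)) (t' i)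
  have hβ_eq : ∀ i, β i = chain A m' t' ⟨i, Fin.last (m' i)⟩ := fun i => rfl
  have hβN : ∀ i, β i ∈ LinearMap.ker A ⊓ W := by
    intro i
    refine ⟨?_, pow_stable A hWst _ _ (hW'W (ht'W i))⟩
    show A ((A ^ (m' i)) (t' i)) = 0
    rw [← Module.End.mul_apply, ← pow_succ']
    exact ht'top i
  have hβhom : ∀ i, ∃ μ, β i ∈ 𝒱 μ := by
    intro i
    obtain ⟨μ, hμ⟩ := ht'hom i
    exact ⟨_, pow_hom A χ hhom (m' i) hμ⟩
  have hβli : LinearIndependent k β := by
    have : β = chain A m' t' ∘ (fun i => (⟨i, Fin.last (m' i)⟩ : Σ i, Fin (m' i + 1))) := rfl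
    rw [this]
    refine hli'.comp _ ?_
    intro i i' h
    exact congrArg Sigma.fst h
  have hS₀ : Set.range β ⊆ {v | v ∈ LinearMap.ker A ⊓ W ∧ ∃ μ, v ∈ 𝒱 μ} := by
    rintro _ ⟨i, rfl⟩
    exact ⟨hβN i, hβhom i⟩
  obtain ⟨B, hBH, hS₀B, hHB, hBli⟩ :=
    exists_linearIndepOn_id_extension hβli.linearIndepOn_id hS₀
  have hspanB : Submodule.span k B = LinearMap.ker A ⊓ W := by
    apply le_antisymm
    · rw [Submodule.span_le]
      exact fun b hb => (hBH hb).1
    · rw [← span_hom_eq hNhom, Submodule.span_le]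
      exact hHB
  have hBfin : B.Finite := LinearIndependent.setFinite hBli
  let J : Type w := ↥(B \ Set.range β)
  have hJfin : Finite J := (hBfin.subset Set.sdiff_subset).to_subtype
  let _ : Fintype J := Fintype.ofFinite J
  let γ : ι' ⊕ J → V := Sum.elim β (fun j => j.1)
  have hγinj : Function.Injective γ := by
    rintro (i | j) (i' | j') h
    · exact congrArg Sum.inl (hβli.injective h)
    · exact absurd ⟨i, h⟩ j'.2.2
    · exact absurd ⟨i', h.symm⟩ j.2.2
    · exact congrArg Sum.inr (Subtype.ext h)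
  have hγrange : Set.range γ = B := by
    ext b
    constructor
    · rintro ⟨(i | j), rfl⟩
      · exact hS₀B ⟨i, rfl⟩
      · exact j.2.1
    · intro hb
      by_cases hbβ : b ∈ Set.range β
      · obtain ⟨i, rfl⟩ := hbβ
        exact ⟨Sum.inl i, rfl⟩
      · exact ⟨Sum.inr ⟨b, hb, hbβ⟩, rfl⟩
  have hγli : LinearIndependent k γ := by
    rw [← linearIndepOn_id_range_iff hγinj, hγrange]
    exact hBli
  have hcardγ : Fintype.card (ι' ⊕ J) = finrank k (LinearMap.ker A ⊓ W : Submodule k V) := by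
    rw [← hspanB, ← hγrange, finrank_span_eq_card hγli]
  -- new data
  let m : ι' ⊕ J → ℕ := Sum.elim (fun i => m' i + 1) (fun _ => 0)
  let t : ι' ⊕ J → V := Sum.elim u (fun j => j.1)
  have htW : ∀ s, t s ∈ W := by
    rintro (i | j)
    · exact huW i
    · exact (hBH j.2.1).1.2
  have hGW : Submodule.span k (Set.range (chain A m t)) ≤ W := by
    rw [Submodule.span_le]
    rintro _ ⟨⟨s, l⟩, rfl⟩
    exact pow_stable A hWst _ _ (htW s)
  have hchain_inl : ∀ (i : ι') (l : ℕ), l ≤ m' i + 1 →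
      (A ^ l) (u i) ∈ Submodule.span k (Set.range (chain A m t)) := by
    intro i l hl
    exact Submodule.subset_span ⟨⟨Sum.inl i, ⟨l, by show l < m' i + 1 + 1; omega⟩⟩, rfl⟩
  have hW'G : W.map A ≤ (Submodule.span k (Set.range (chain A m t))).map A := by
    rw [← hspan', Submodule.span_le]
    rintro _ ⟨⟨i, l⟩, rfl⟩
    refine ⟨(A ^ (l : ℕ)) (u i), hchain_inl i l (by have := l.2; omega), ?_⟩
    show A ((A ^ (l : ℕ)) (u i)) = (A ^ (l : ℕ)) (t' i)
    rw [← pow_comm_apply, huA]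
  have hNG : LinearMap.ker A ⊓ W ≤ Submodule.span k (Set.range (chain A m t)) := by
    rw [← hspanB, Submodule.span_le, ← hγrange]
    rintro _ ⟨(i | j), rfl⟩
    · show (A ^ (m' i)) (t' i) ∈ _
      rw [← huA, pow_comm_apply, ← Module.End.mul_apply, ← pow_succ']
      exact hchain_inl i _ le_rfl
    · refine Submodule.subset_span ⟨⟨Sum.inr j, 0⟩, ?_⟩
      show (A ^ 0) j.1 = j.1
      simp
  refine ⟨ι' ⊕ J, inferInstance, m, t, htW, ?_, ?_, ?_, ?_⟩
  · rintro (i | j)
    · exact huhom i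
    · exact (hBH j.2.1).2
  · rintro (i | j)
    · show (A ^ (m' i + 1 + 1)) (u i) = 0
      rw [pow_succ, Module.End.mul_apply, huA]
      exact ht'top i
    · show (A ^ (0 + 1)) j.1 = 0
      rw [zero_add, pow_one]
      exact (hBH j.2.1).1.1
  · apply le_antisymm hGW
    intro w hw
    obtain ⟨x, hxG, hx⟩ := hW'G ⟨w, hw, rfl⟩
    have hwx : w - x ∈ LinearMap.ker A ⊓ W := by
      refine ⟨?_, W.sub_mem hw (hGW hxG)⟩
      show A (w - x) = 0
      rw [map_sub, hx, sub_self]
    have := Submodule.add_mem _ (hNG hwx) hxG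
    rwa [sub_add_cancel] at this
  · rw [Fintype.card_sigma, Fintype.sum_sum_type]
    simp only [Fintype.card_fin]
    have h1 : ∑ i : ι', (m (Sum.inl i) + 1) = ∑ i : ι', (m' i + 1) + Fintype.card ι' := by
      show ∑ i : ι', (m' i + 1 + 1) = _
      rw [Finset.sum_add_distrib]
      simp
    have h2 : ∑ j : J, (m (Sum.inr j) + 1) = Fintype.card J := by
      show ∑ j : J, (0 + 1) = _
      simp
    have h3 : Fintype.card (Σ i, Fin (m' i + 1)) = ∑ i : ι', (m' i + 1) := by
      rw [Fintype.card_sigma]; simp only [Fintype.card_fin]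
    rw [h1, h2, ← h3, hcard', hrank, ← hcardγ, Fintype.card_sum]
    omega

end Claim

section Final
variable {k : Type u} [Field k] {Λ : Type v} [AddCommGroup Λ] [DecidableEq Λ]
  {V : Type w} [AddCommGroup V] [Module k V] [FiniteDimensional k V]

theorem main (𝒱 : Λ → Submodule k V) (h𝒱 : DirectSum.IsInternal 𝒱)
    (A : Module.End k V) (hA : IsNilpotent A) (χ : Λ)
    (hhom : ∀ (μ : Λ) (v : V), v ∈ 𝒱 μ → A v ∈ 𝒱 (μ + χ)) :
    ∃ (ι : Type w) (_ : Finite ι) (n : ι → ℕ) (b : Module.Basis (Σ i : ι, Fin (n i + 1)) k V),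
      (∀ (i : ι) (l : Fin (n i + 1)), ∃ μ : Λ, b ⟨i, l⟩ ∈ 𝒱 μ) ∧
      (∀ i : ι, A (b ⟨i, 0⟩) = 0) ∧
      ∀ (i : ι) (l : Fin (n i)), A (b ⟨i, l.succ⟩) = b ⟨i, l.castSucc⟩ := by
  classical
  let _ := h𝒱.chooseDecomposition
  obtain ⟨ι, hι, m, t, -, hthom, httop, hspan, hcard⟩ :=
    claim (𝒱 := 𝒱) A hA χ hhom _ ⊤ rfl (isHom_top) (fun _ _ => Submodule.mem_top)
  have hli : LinearIndependent k (chain A m t) := by
    rw [linearIndependent_iff_card_eq_finrank_span, hcard, Set.finrank, hspan]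
  let e : (Σ i, Fin (m i + 1)) ≃ (Σ i, Fin (m i + 1)) :=
    Equiv.sigmaCongrRight (fun i => Fin.revPerm)
  let g : (Σ i, Fin (m i + 1)) → V := chain A m t ∘ e
  have hgli : LinearIndependent k g := hli.comp _ e.injective
  have hgspan : ⊤ ≤ Submodule.span k (Set.range g) := by
    rw [show Set.range g = Set.range (chain A m t) from e.surjective.range_comp _, hspan]
  let b := Module.Basis.mk hgli hgspan
  have hb : ∀ x, b x = g x := fun x => congrFun (Module.Basis.coe_mk hgli hgspan) x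
  have hg : ∀ i (l : Fin (m i + 1)), g ⟨i, l⟩ = (A ^ (m i - (l : ℕ))) (t i) := by
    intro i l
    show (A ^ ((Fin.rev l : Fin _) : ℕ)) (t i) = _
    rw [Fin.val_rev]
    congr 2
    omega
  refine ⟨ι, Finite.of_fintype ι, m, b, ?_, ?_, ?_⟩
  · intro i l
    obtain ⟨μ, hμ⟩ := hthom i
    rw [hb, hg]
    exact ⟨_, pow_hom A χ hhom _ hμ⟩
  · intro i
    rw [hb, hg]
    show A ((A ^ (m i - 0)) (t i)) = 0
    rw [Nat.sub_zero, ← Module.End.mul_apply, ← pow_succ']
    exact httop i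
  · intro i l
    rw [hb, hb, hg, hg, Fin.val_succ, Fin.val_castSucc, ← Module.End.mul_apply, ← pow_succ']
    congr 2
    have := l.2
    omega

end Final

end Groth.Agent.S18983Aux

namespace Groth.Agent.S18983

/-- Let k be a field, Λ an additive commutative group, V a finite-dimensional k-vector space which is
the internal direct sum of subspaces V_μ indexed by Λ (a representation of a torus with character
group Λ), and A a nilpotent endomorphism of V mapping each V_μ into V_{μ+χ} for a fixed χ (the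
infinitesimal generator of an action of the additive group on which the torus acts through the
character χ). Then V has a basis consisting of homogeneous vectors e_{i,l}, 0 ≤ l ≤ n_i, with A
e_{i,0} = 0 and A e_{i,l+1} = e_{i,l}: a weight basis bringing A into Jordan normal form. (The
source states this, over an algebraically closed field of characteristic zero, as a decomposition of
every representation of the semidirect product of the additive group with a torus into twists of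
symmetric powers of the standard two-dimensional representation by characters; the first line of its
proof reduces that to the present statement, which is what is proved, and which holds over any
field.) -/
theorem result
    (k : Type u) [Field k] (Λ : Type v) [AddCommGroup Λ] [DecidableEq Λ]
    (V : Type w) [AddCommGroup V] [Module k V] [FiniteDimensional k V]
    (𝒱 : Λ → Submodule k V) (h𝒱 : DirectSum.IsInternal 𝒱)
    (A : Module.End k V) (hA : IsNilpotent A) (χ : Λ)
    (hhom : ∀ (μ : Λ) (v : V), v ∈ 𝒱 μ → A v ∈ 𝒱 (μ + χ)) :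
    ∃ (ι : Type w) (_ : Finite ι) (n : ι → ℕ) (b : Module.Basis (Σ i : ι, Fin (n i + 1)) k V),
      (∀ (i : ι) (l : Fin (n i + 1)), ∃ μ : Λ, b ⟨i, l⟩ ∈ 𝒱 μ) ∧
      (∀ i : ι, A (b ⟨i, 0⟩) = 0) ∧
      ∀ (i : ι) (l : Fin (n i)), A (b ⟨i, l.succ⟩) = b ⟨i, l.castSucc⟩ := by
  exact Groth.Agent.S18983Aux.main 𝒱 h𝒱 A hA χ hhom

end Groth.Agent.S18983
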