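import Groth.Statements.S1899
import Groth.Agent.Lib.Helper64.PushStalk

set_option autoImplicit false
universe u
open CategoryTheory AlgebraicGeometry
open Cyc

namespace Groth.Agent.S1899


/-- For a closed immersion i : Z → X with Z of δ-dimension ≤ k, [Z]_k = [O_Z]_k, i.e. the multiplicities
computed from lengths of the local rings O_{Z,z} agree with those computed from the stalks of i_*O_Z
as O_X-modules. A pair (X, δ) with Cyc.IsSetup plays the role of a scheme locally of finite type
over a fixed base with a dimension function (X locally Noetherian with universally catenary local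
rings, δ a dimension function), and Cyc.DeltaCompat records that the dimension function upstairs is
the induced one. -/
theorem result (X Z : Scheme.{u}) (δ : X → ℤ) (hX : Cyc.IsSetup X δ) (i : Z ⟶ X) [IsClosedImmersion i] (k : ℤ) (hdim : ∀ z : Z, δ (i z) ≤ k) : Cyc.subschemeFun δ k i = Cyc.sheafFun δ k ((Coh.push i).obj (Coh.structureModule Z)) := by
  funext x
  unfold Cyc.subschemeFun Cyc.sheafFun
  by_cases hk : δ x = k
  · simp only [hk, if_true]
    by_cases hx : x ∈ Set.range i
    · obtain ⟨z, rfl⟩ := hx
      have hset : {z' : Z | i z' = i z} = {z} := by
        ext z'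
        simp only [Set.mem_setOf_eq, Set.mem_singleton_iff]
        exact i.isEmbedding.injective.eq_iff
      rw [hset, finsum_mem_singleton]
      rw [← Groth.Agent.Lib.Helper64.PushStalk.length_stalk_pushO i z]
    · have hempty : {z : Z | i z = x} = ∅ := by
        ext z
        simp only [Set.mem_setOf_eq, Set.mem_empty_iff_false, iff_false]
        intro h
        exact hx ⟨z, h⟩
      rw [hempty, finsum_mem_empty]
      haveI := Groth.Agent.Lib.Helper64.PushStalk.subsingleton_stalk_of_not_mem_range i x hx
      rw [Module.length_eq_zero]
      simp
  · simp [hk]

end Groth.Agent.S1899
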