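import Groth.Statements.S19005
import Mathlib.Tactic

set_option autoImplicit false
open scoped TensorProduct
open K2Cent

namespace Groth.Agent.S19005

theorem sq_smul_eq {T : Type*} [AddCommGroup T] (t : T) (ht : (2 : ℤ) • t = 0) (a : ℤ) :
    (a * a) • t = a • t := by
  obtain ⟨k, hk⟩ := Int.even_mul_pred_self a
  have h1 : a * a = a + k * 2 := by
    have : a * (a - 1) = a * a - a := by ring
    rw [this] at hk
    linarith
  rw [h1, add_smul, mul_smul, ht, smul_zero, add_zero]

/-- For abelian groups X and M and ε in M with 2ε = 0 (in the source X is the character group of a split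
torus and ε is the class of −1 among the units), the map x ↦ (x ⊗ x, −(x ⊗ ε)) into (X ⊗ X) × (X ⊗
M) is quadratic over ℤ, i.e. it underlies an integer quadratic map with exactly these values. -/
theorem result (X M : Type*) [AddCommGroup X]
    [AddCommGroup M] (ε : M) (hε : 2 • ε = 0) :
    ∃ R : QuadraticMap ℤ X (TensorProduct ℤ X X × TensorProduct ℤ X M),
      ∀ x : X, R x = (x ⊗ₜ[ℤ] x, -(x ⊗ₜ[ℤ] ε)) := by
  have hε' : (2 : ℤ) • ε = 0 := by
    rw [← hε]; norm_num [two_smul]
  have ht : ∀ x : X, (2 : ℤ) • (x ⊗ₜ[ℤ] ε) = 0 := by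
    intro x
    rw [← TensorProduct.tmul_smul, hε', TensorProduct.tmul_zero]
  refine ⟨{
    toFun := fun x => (x ⊗ₜ[ℤ] x, -(x ⊗ₜ[ℤ] ε))
    toFun_smul := ?_
    exists_companion' := ?_ }, fun x => rfl⟩
  · intro a x
    ext
    · simp only [Prod.smul_fst]
      rw [TensorProduct.smul_tmul_smul]
    · simp only [Prod.smul_snd]
      rw [smul_neg, sq_smul_eq _ (ht x) a, TensorProduct.smul_tmul']
  · refine ⟨LinearMap.mk₂ ℤ (fun x y : X => ((x ⊗ₜ[ℤ] y + y ⊗ₜ[ℤ] x, 0) :
        TensorProduct ℤ X X × TensorProduct ℤ X M)) ?_ ?_ ?_ ?_, ?_⟩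
    · intro x₁ x₂ y
      ext
      · simp only [TensorProduct.add_tmul, TensorProduct.tmul_add, Prod.fst_add]; abel
      · simp
    · intro c x y
      ext
      · simp only [Prod.smul_fst, smul_add, TensorProduct.smul_tmul', TensorProduct.tmul_smul]
      · simp
    · intro x y₁ y₂
      ext
      · simp only [TensorProduct.add_tmul, TensorProduct.tmul_add, Prod.fst_add]; abel
      · simp
    · intro c x y
      ext
      · simp only [Prod.smul_fst, smul_add, TensorProduct.smul_tmul', TensorProduct.tmul_smul]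
      · simp
    · intro x y
      rw [LinearMap.mk₂_apply]
      ext
      · simp only [TensorProduct.add_tmul, TensorProduct.tmul_add, Prod.fst_add]
        abel
      · simp only [TensorProduct.add_tmul, Prod.snd_add, add_zero, neg_add_rev]
        abel

end Groth.Agent.S19005
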