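import Groth.Statements.S19006
import Groth.Agent.Lib.Helper17.RootQuad

set_option autoImplicit false
universe u v w x
open RootD

namespace Groth.Agent.S19006

/-- For a root pairing over an integral domain of characteristic zero, a quadratic form Q on the
coweight module N with polar form B, and a root α with coroot α^∨, the form Q is invariant under the
reflection attached to α acting on N if and only if B(y, α^∨) = ⟨α, y⟩ Q(α^∨) for all y in N. (The
source states this for integer-valued forms on the cocharacter lattice of a split reductive group;
here the form takes values in the base ring of the pairing.) -/
theorem result {ι : Type u} {R : Type v} {M : Type w} {N : Type x} [CommRing R] [IsDomain R] [CharZero R]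
    [AddCommGroup M] [Module R M] [AddCommGroup N] [Module R N] (P : RootPairing ι R M N)
    (Q : QuadraticMap R N R) (j : ι) :
    (∀ y : N, Q (P.coreflection j y) = Q y) ↔
      ∀ y : N, QuadraticMap.polar Q y (P.coroot j) = P.root' j y * Q (P.coroot j) := by
  have h := Groth.Agent.Lib.Helper17.coreflection_invariant_on_iff P Q j ⊤ Submodule.mem_top
  constructor
  · intro h1 y
    exact h.mp (fun y _ => h1 y) y Submodule.mem_top
  · intro h1 y
    exact h.mpr (fun y _ => h1 y) y Submodule.mem_top

end Groth.Agent.S19006
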