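import Groth.Statements.S19007
import Groth.Agent.Lib.Helper17.RootQuad
import Mathlib.LinearAlgebra.RootSystem.Base

set_option autoImplicit false
universe u v w x
open RootD

namespace Groth.Agent.S19007

theorem coreflection_reflectionPerm {ι : Type u} {R : Type v} {M : Type w} {N : Type x}
    [CommRing R] [AddCommGroup M] [Module R M] [AddCommGroup N] [Module R N]
    (P : RootPairing ι R M N) (i j : ι) (y : N) :
    P.coreflection (P.reflectionPerm j i) y =
      P.coreflection j (P.coreflection i (P.coreflection j y)) := by
  have h := P.flip.reflection_reflectionPerm (i := i) (j := j)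
  exact congrArg (fun f => f y) h

/-- Let P be a finite reduced crystallographic root pairing over an integral domain of characteristic
zero, b a base of P (a system of simple roots) and Q a quadratic form on the coweight module with
polar form B. Then Q is invariant under all root reflections (equivalently under the Weyl group) on
the span of the coroots if and only if for all pairs of distinct simple roots α_i ≠ α_j one has
B(α_i^∨, α_j^∨) = ⟨α_j, α_i^∨⟩ Q(α_j^∨). (In the source the form is integer-valued on the lattice
spanned by the coroots and the condition says that the bilinear form lies in the kernel of the last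
map of a three-term complex built from the Bruhat cells of codimension at most two; here the form
takes values in the base ring.) -/
theorem result {ι : Type u} {R : Type v} {M : Type w} {N : Type x} [CommRing R] [IsDomain R] [CharZero R]
    [AddCommGroup M] [Module R M] [AddCommGroup N] [Module R N] (P : RootPairing ι R M N)
    [Finite ι] [P.IsCrystallographic] [P.IsReduced] (b : P.Base) (Q : QuadraticMap R N R) :
    (∀ i : ι, ∀ y ∈ Submodule.span R (Set.range P.coroot), Q (P.coreflection i y) = Q y) ↔
      ∀ i ∈ b.support, ∀ j ∈ b.support, i ≠ j →
        QuadraticMap.polar Q (P.coroot i) (P.coroot j) = P.pairing j i * Q (P.coroot j) := by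
  set D : Submodule R N := Submodule.span R (Set.range P.coroot) with hDdef
  have hcor : ∀ i, P.coroot i ∈ D := fun i => Submodule.subset_span (Set.mem_range_self i)
  have hDinv : ∀ i, ∀ y ∈ D, P.coreflection i y ∈ D := by
    intro i y hy
    have h := P.corootSpan_mem_invtSubmodule_coreflection (R := R) i
    rw [Module.End.mem_invtSubmodule_iff_forall_mem_of_mem] at h
    exact h y hy
  constructor
  · intro h i _ j _ _
    have h1 := (Groth.Agent.Lib.Helper17.coreflection_invariant_on_iff P Q j D (hcor j)).mp (h j)
      (P.coroot i) (hcor i)
    rw [h1, P.root'_coroot_eq_pairing]
  · intro h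
    have hsimple : ∀ j ∈ b.support, ∀ y ∈ D, Q (P.coreflection j y) = Q y := by
      intro j hj
      apply (Groth.Agent.Lib.Helper17.coreflection_invariant_on_iff P Q j D (hcor j)).mpr
      intro y hy
      have hy' : y ∈ Submodule.span R (P.coroot '' b.support) := by
        rw [b.span_coroot_support]; exact hy
      have : (Q.polarBilin.flip (P.coroot j)) y = (Q (P.coroot j) • P.root' j) y := by
        refine LinearMap.eqOn_span ?_ hy'
        rintro _ ⟨i, hi, rfl⟩
        simp only [LinearMap.flip_apply, QuadraticMap.polarBilin_apply_apply, LinearMap.smul_apply,
          smul_eq_mul]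
        by_cases hij : i = j
        · subst hij
          rw [QuadraticMap.polar_self, P.root'_coroot_eq_pairing, P.pairing_same, nsmul_eq_mul]
          push_cast
          ring
        · rw [h i hi j hj hij, P.root'_coroot_eq_pairing]
          ring
      simp only [LinearMap.flip_apply, QuadraticMap.polarBilin_apply_apply, LinearMap.smul_apply,
        smul_eq_mul] at this
      rw [this]; ring
    intro i
    refine b.induction_reflect i (p := fun i => ∀ y ∈ D, Q (P.coreflection i y) = Q y) ?_ hsimple ?_
    · intro i hi y hy
      rw [coreflection_reflectionPerm, hi _ (hDinv i _ (hDinv i y hy)), P.coreflection_same]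
    · intro i j hi hj y hy
      rw [coreflection_reflectionPerm, hsimple j hj _ (hDinv i _ (hDinv j y hy)),
        hi _ (hDinv j y hy), hsimple j hj y hy]

end Groth.Agent.S19007
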