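import Groth.Statements.S19009
import Groth.Agent.Lib.Helper17.RootQuad
import Mathlib.LinearAlgebra.Projection

set_option autoImplicit false
universe u v w x
open RootD

namespace Groth.Agent.S19009

/-- Let P be a root pairing over an integral domain R of characteristic zero (roots α acting on the
coweight module N through reflections y ↦ y − ⟨α, y⟩ α^∨), D ⊆ N a submodule containing every coroot
and such that every element of D has a positive integer multiple in the span of the coroots (the
derived part), and Y₀ a complement of D in N. Let Q_d be a quadratic form on N whose restriction to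
D is invariant under all root reflections. Then there is a quadratic form on N, invariant under all
root reflections and agreeing with Q_d on D, if and only if there is an R-bilinear form Φ on N with
Φ(y₀, α^∨) = ⟨α, y₀⟩ Q_d(α^∨) for all y₀ in Y₀ and all roots α. (In the source R = ℤ, N = Y₀ ⊕ Y_der
is the cocharacter lattice of a split reductive group, and the condition is phrased as integrality
on Y₀ × Y_der of the pairing y₀, y ↦ B(q(y₀), y) deduced from the polar form B of Q_d; that pairing
is characterised by the displayed values on coroots, only the values of Φ on Y₀ × D matter, and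
forms take values in R here.) -/
theorem result {ι : Type u} {R : Type v} {M : Type w} {N : Type x} [CommRing R] [IsDomain R] [CharZero R]
    [AddCommGroup M] [Module R M] [AddCommGroup N] [Module R N] (P : RootPairing ι R M N)
    (D Y₀ : Submodule R N) (hD : ∀ i : ι, P.coroot i ∈ D)
    (hDsat : ∀ y ∈ D, ∃ n : ℕ, 0 < n ∧ n • y ∈ Submodule.span R (Set.range P.coroot))
    (hc : IsCompl Y₀ D)
    (Qd : QuadraticMap R N R) (hQd : ∀ i : ι, ∀ y ∈ D, Qd (P.coreflection i y) = Qd y) :
    (∃ Q : QuadraticMap R N R, (∀ (i : ι) (y : N), Q (P.coreflection i y) = Q y) ∧ ∀ y ∈ D, Q y = Qd y) ↔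
      ∃ Φ : N →ₗ[R] N →ₗ[R] R, ∀ y₀ ∈ Y₀, ∀ i : ι,
        Φ y₀ (P.coroot i) = P.root' i y₀ * Qd (P.coroot i) := by
  constructor
  · rintro ⟨Q, hinv, hQD⟩
    refine ⟨Q.polarBilin, fun y₀ _ i => ?_⟩
    have h := (Groth.Agent.Lib.Helper17.coreflection_invariant_on_iff P Q i ⊤ Submodule.mem_top).mp
      (fun y _ => hinv i y) y₀ Submodule.mem_top
    rw [QuadraticMap.polarBilin_apply_apply, h, hQD _ (hD i)]
  · rintro ⟨Φ, hΦ⟩
    let eY : N →ₗ[R] N := Y₀.projection D hc
    let eD : N →ₗ[R] N := D.projection Y₀ hc.symm
    have heY : ∀ y, eY y ∈ Y₀ := fun y => Submodule.projection_apply_mem hc y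
    have heD : ∀ y, eD y ∈ D := fun y => Submodule.projection_apply_mem hc.symm y
    have hsum : ∀ y, eY y + eD y = y := fun y => Submodule.projection_add_projection_eq_self hc y
    have heYD : ∀ d ∈ D, eY d = 0 := fun d hd => (Submodule.projection_apply_eq_zero_iff hc).mpr hd
    have heDD : ∀ d ∈ D, eD d = d := fun d hd => (Submodule.projection_eq_self_iff hc.symm d).mpr hd
    let B : LinearMap.BilinMap R N R := Φ.compl₁₂ eY eD
    let Q : QuadraticMap R N R := Qd.comp eD + B.toQuadraticMap
    have hQ : ∀ z, Q z = Qd (eD z) + Φ (eY z) (eD z) := by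
      intro z
      simp only [Q, B, add_apply, QuadraticMap.comp_apply,
        LinearMap.BilinMap.toQuadraticMap_apply, LinearMap.compl₁₂_apply]
    have hQD : ∀ d ∈ D, Q d = Qd d := by
      intro d hd
      rw [hQ, heYD d hd, heDD d hd, map_zero, LinearMap.zero_apply, add_zero]
    refine ⟨Q, ?_, hQD⟩
    intro i
    have hall := (Groth.Agent.Lib.Helper17.coreflection_invariant_on_iff P Q i ⊤
      Submodule.mem_top).mpr ?_
    · exact fun y => hall y Submodule.mem_top
    intro y _
    have hv := hD i
    have h1 := (Groth.Agent.Lib.Helper17.coreflection_invariant_on_iff P Qd i D hv).mp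
      (hQd i) (eD y) (heD y)
    have h2 := hΦ (eY y) (heY y) i
    rw [hQD _ hv]
    unfold QuadraticMap.polar at h1 ⊢
    have e1 : eD (y + P.coroot i) = eD y + P.coroot i := by rw [map_add, heDD _ hv]
    have e2 : eY (y + P.coroot i) = eY y := by rw [map_add, heYD _ hv, add_zero]
    rw [hQ, hQ, hQD _ hv, e1, e2, map_add (Φ (eY y)), h2]
    have h3 : P.root' i y = P.root' i (eY y) + P.root' i (eD y) := by
      rw [← map_add, hsum]
    rw [h3]
    linear_combination h1

end Groth.Agent.S19009
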