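import Groth.Statements.S19010
import Groth.Agent.Lib.Helper17.RootQuad
import Mathlib.LinearAlgebra.Projection

set_option autoImplicit false
universe u v w x
open RootD

namespace Groth.Agent.S19010

/-- Let P be a root pairing over an integral domain R of characteristic zero (roots α acting on the
coweight module N through reflections y ↦ y − ⟨α, y⟩ α^∨), D ⊆ N a submodule containing every coroot
and such that every element of D has a positive integer multiple in the span of the coroots (the
derived part), and Y₀ a complement of D in N. Let Q' be a quadratic form on N invariant under all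
root reflections. Then restriction to Y₀ is a bijection from the set of quadratic forms on N that
are invariant under all root reflections and agree with Q' on D onto the set of all quadratic forms
on Y₀. (In the source R = ℤ and N = Y₀ ⊕ Y_der is the cocharacter lattice of a split reductive
group; forms take values in R here.) -/
theorem result {ι : Type u} {R : Type v} {M : Type w} {N : Type x} [CommRing R] [IsDomain R] [CharZero R]
    [AddCommGroup M] [Module R M] [AddCommGroup N] [Module R N] (P : RootPairing ι R M N)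
    (D Y₀ : Submodule R N) (hD : ∀ i : ι, P.coroot i ∈ D)
    (hDsat : ∀ y ∈ D, ∃ n : ℕ, 0 < n ∧ n • y ∈ Submodule.span R (Set.range P.coroot))
    (hc : IsCompl Y₀ D)
    (Q' : QuadraticMap R N R) (hQ' : ∀ (i : ι) (y : N), Q' (P.coreflection i y) = Q' y) :
    Set.BijOn (fun Q : QuadraticMap R N R => Q.comp Y₀.subtype)
      {Q | (∀ (i : ι) (y : N), Q (P.coreflection i y) = Q y) ∧ ∀ y ∈ D, Q y = Q' y} Set.univ := by
  refine ⟨fun _ _ => Set.mem_univ _, ?_, ?_⟩
  · -- injectivity
    rintro Q₁ ⟨h₁inv, h₁D⟩ Q₂ ⟨h₂inv, h₂D⟩ hres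
    have hres' : ∀ y₀ ∈ Y₀, Q₁ y₀ = Q₂ y₀ := by
      intro y₀ hy₀
      have := congrArg (fun q : QuadraticMap R Y₀ R => q ⟨y₀, hy₀⟩) hres
      simpa using this
    have hpol : ∀ (Q : QuadraticMap R N R), (∀ (i : ι) (y : N), Q (P.coreflection i y) = Q y) →
        (∀ y ∈ D, Q y = Q' y) → ∀ (y : N) (i : ι),
        QuadraticMap.polar Q y (P.coroot i) = P.root' i y * Q' (P.coroot i) := by
      intro Q hinv hQD y i
      have h := (Groth.Agent.Lib.Helper17.coreflection_invariant_on_iff P Q i ⊤ Submodule.mem_top).mp
        (fun y _ => hinv i y) y Submodule.mem_top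
      rw [h, hQD _ (hD i)]
    have hspan : ∀ (y : N), ∀ z ∈ Submodule.span R (Set.range P.coroot),
        QuadraticMap.polar Q₁ y z = QuadraticMap.polar Q₂ y z := by
      intro y z hz
      have : Q₁.polarBilin y z = Q₂.polarBilin y z := by
        refine LinearMap.eqOn_span ?_ hz
        rintro _ ⟨i, rfl⟩
        simp only [QuadraticMap.polarBilin_apply_apply]
        rw [hpol Q₁ h₁inv h₁D, hpol Q₂ h₂inv h₂D]
      simpa using this
    have hDpol : ∀ (y : N), ∀ d ∈ D, QuadraticMap.polar Q₁ y d = QuadraticMap.polar Q₂ y d := by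
      intro y d hd
      obtain ⟨n, hn, hnd⟩ := hDsat d hd
      have h := hspan y _ hnd
      have e : (n : ℕ) • d = (n : R) • d := by rw [Nat.cast_smul_eq_nsmul]
      rw [e, QuadraticMap.polar_smul_right, QuadraticMap.polar_smul_right] at h
      simp only [smul_eq_mul] at h
      have hn' : (n : R) ≠ 0 := by exact_mod_cast hn.ne'
      exact mul_left_cancel₀ hn' h
    ext y
    obtain ⟨y₀, hy₀, d, hd, rfl⟩ : ∃ y₀ ∈ Y₀, ∃ d ∈ D, y₀ + d = y := by
      have : y ∈ Y₀ ⊔ D := by rw [hc.sup_eq_top]; exact Submodule.mem_top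
      exact Submodule.mem_sup.mp this
    rw [QuadraticMap.map_add Q₁, QuadraticMap.map_add Q₂, hres' y₀ hy₀, h₁D d hd, h₂D d hd,
      hDpol y₀ d hd]
  · -- surjectivity
    intro q₀ _
    let π : N →ₗ[R] Y₀ := Submodule.projectionOnto Y₀ D hc
    have hπD : ∀ d ∈ D, π d = 0 := fun d hd => (Submodule.projectionOnto_apply_eq_zero_iff hc).mpr hd
    have hπY : ∀ y₀ : Y₀, π y₀ = y₀ := fun y₀ => Submodule.projectionOnto_apply_left hc y₀
    refine ⟨Q' + (q₀ - Q'.comp Y₀.subtype).comp π, ⟨?_, ?_⟩, ?_⟩
    · intro i y
      have h1 : π (P.coreflection i y) = π y := by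
        rw [P.coreflection_apply, map_sub, map_smul, hπD _ (hD i), smul_zero, sub_zero]
      simp only [add_apply, QuadraticMap.comp_apply, h1, hQ' i y]
    · intro d hd
      simp only [add_apply, QuadraticMap.comp_apply, hπD d hd, QuadraticMap.map_zero,
        add_zero]
    · ext y₀
      simp only [QuadraticMap.comp_apply, add_apply, sub_apply,
        Submodule.subtype_apply, hπY]
      ring

end Groth.Agent.S19010
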