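import Groth.Statements.S19012
import Groth.Agent.Lib.Helper17.RootQuad

set_option autoImplicit false
universe u v w x
open RootD

namespace Groth.Agent.S19012

/-- Let P be a finite reduced crystallographic root pairing over a field of characteristic zero which is
irreducible, and b a base. A quadratic form on the coweight module that is invariant under all root
reflections and vanishes on some simple coroot is zero; in other words an invariant form is
determined by its value on a single simple coroot. (The source proves, component by component of the
Dynkin diagram, that an invariant integer-valued form on the coroot lattice with prescribed value on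
the first simple coroot of each component is unique; here the system is irreducible, the coroots
span the coweight module, and forms take values in the base field.) -/
theorem result {ι : Type u} {K : Type v} {M : Type w} {N : Type x} [Field K] [CharZero K]
    [AddCommGroup M] [Module K M] [AddCommGroup N] [Module K N] (P : RootPairing ι K M N)
    [Finite ι] [P.IsCrystallographic] [P.IsReduced] [P.IsIrreducible] (b : P.Base)
    (Q : QuadraticMap K N K) (hQ : ∀ (i : ι) (y : N), Q (P.coreflection i y) = Q y)
    (i₀ : ι) (hi₀ : i₀ ∈ b.support) (h0 : Q (P.coroot i₀) = 0) : Q = 0 := by
  let Kr : Submodule K N := LinearMap.ker Q.polarBilin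
  have hmem : ∀ y, y ∈ Kr ↔ ∀ z, QuadraticMap.polar Q y z = 0 := by
    intro y
    simp only [Kr, LinearMap.mem_ker]
    constructor
    · intro h z
      have := congrArg (fun f => f z) h
      simpa using this
    · intro h
      ext z
      simpa using h z
  have hinv : ∀ i, Kr ∈ Module.End.invtSubmodule (P.coreflection i : N →ₗ[K] N) := by
    intro i
    rw [Module.End.mem_invtSubmodule_iff_forall_mem_of_mem]
    intro y hy
    rw [hmem] at hy ⊢
    intro z
    have h1 := hy (P.coreflection i z)
    unfold QuadraticMap.polar at h1 ⊢
    have e1 : P.coreflection i y + z = P.coreflection i (y + P.coreflection i z) := by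
      rw [map_add, P.coreflection_same]
    have e2 : Q z = Q (P.coreflection i z) := (hQ i z).symm
    simp only [LinearEquiv.coe_coe]
    rw [e1, hQ, hQ, e2]
    exact h1
  have hne : Kr ≠ ⊥ := by
    intro hbot
    have hin : P.coroot i₀ ∈ Kr := by
      rw [hmem]
      intro z
      rw [QuadraticMap.polar_comm]
      have h := (Groth.Agent.Lib.Helper17.coreflection_invariant_on_iff P Q i₀ ⊤
        Submodule.mem_top).mp (fun y _ => hQ i₀ y) z Submodule.mem_top
      rw [h, h0, mul_zero]
    rw [hbot, Submodule.mem_bot] at hin
    exact P.ne_zero' i₀ hin
  have htop := RootPairing.IsIrreducible.eq_top_of_invtSubmodule_coreflection (P := P) Kr hinv hne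
  ext y
  have hy : y ∈ Kr := by rw [htop]; exact Submodule.mem_top
  rw [hmem] at hy
  have h2 := hy y
  rw [QuadraticMap.polar_self] at h2
  have h3 : (2 : K) * Q y = 0 := by
    rw [← h2, nsmul_eq_mul]; norm_num
  simpa using h3

end Groth.Agent.S19012
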