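import Groth.Statements.S19013
import Mathlib
import Groth.Agent.Lib.Helper31.MilnorKDVR

set_option autoImplicit false
universe u v
open MilnorK

namespace Groth.Agent.S19013

/-- Let A ⊆ B be discrete valuation rings, the inclusion being a local homomorphism, with fraction
fields E ⊆ F compatibly, with the induced homomorphism of residue fields κ(A) → κ(B), and with
ramification index e, the natural number such that the maximal ideal of A generates the e-th power
of the maximal ideal of B. Let ∂_A : K_{n+1}(E) → K_n(κ(A)) and ∂_B : K_{n+1}(F) → K_n(κ(B)) be the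
residue maps (tame symbols) on Milnor K-groups. Then for every x in K_{n+1}(E) one has ∂_B(x_F) = e
· (∂_A x)_{κ(B)}, where the subscripts denote the change-of-fields maps along E → F and κ(A) → κ(B).
(The published statement concerns discrete valuations of geometric type on fields finitely generated
over a base field; it is stated here for an arbitrary pair of discrete valuation rings, which is all
the printed computation uses.) -/
theorem result
    (A B : Type u) [CommRing A] [IsDomain A] [IsDiscreteValuationRing A]
    [CommRing B] [IsDomain B] [IsDiscreteValuationRing B] [Algebra A B] [IsLocalHom (algebraMap A B)]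
    (E F : Type v) [Field E] [Field F] [Algebra A E] [IsFractionRing A E] [Algebra B F] [IsFractionRing B F]
    [Algebra E F] [Algebra A F] [IsScalarTower A E F] [IsScalarTower A B F]
    (e : ℕ) (he : Ideal.map (algebraMap A B) (IsLocalRing.maximalIdeal A) = IsLocalRing.maximalIdeal B ^ e)
    (n : ℕ) (dA : MilK.K E (n + 1) →+ MilK.K (IsLocalRing.ResidueField A) n) (hdA : MilK.IsTameSymbol A E n dA)
    (dB : MilK.K F (n + 1) →+ MilK.K (IsLocalRing.ResidueField B) n) (hdB : MilK.IsTameSymbol B F n dB)
    (x : MilK.K E (n + 1)) :
    dB (MilK.map (algebraMap E F) (n + 1) x) =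
      e • MilK.map (IsLocalRing.ResidueField.map (algebraMap A B)) n (dA x) := by
  open Groth.Agent.Lib.Helper31.MK in
  obtain ⟨ϖA, hϖA⟩ := IsDiscreteValuationRing.exists_irreducible A
  obtain ⟨ϖB, hϖB⟩ := IsDiscreteValuationRing.exists_irreducible B
  have hassoc : Associated (algebraMap A B ϖA) (ϖB ^ e) := by
    rw [hϖA.maximalIdeal_eq, hϖB.maximalIdeal_eq, Ideal.map_span, Set.image_singleton,
      Ideal.span_singleton_pow] at he
    exact Ideal.span_singleton_eq_span_singleton.mp he
  obtain ⟨w, hw⟩ := hassoc.symm
  have hAF : ∀ a : A, algebraMap E F (algebraMap A E a) = algebraMap B F (algebraMap A B a) := by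
    intro a
    rw [← IsScalarTower.algebraMap_apply A E F, ← IsScalarTower.algebraMap_apply A B F]
  have hunits : ∀ c : Aˣ, Units.map (algebraMap E F : E →* F) (MilK.unitToFrac A E c) =
      MilK.unitToFrac B F (Units.map (algebraMap A B : A →* B) c) := by
    intro c
    ext
    simp only [Units.coe_map, MonoidHom.coe_coe, MilK.unitToFrac]
    exact hAF c
  have hpi : Units.map (algebraMap E F : E →* F) (MilK.unitFrac A E ϖA hϖA.ne_zero) =
      MilK.unitFrac B F ϖB hϖB.ne_zero ^ e * MilK.unitToFrac B F w := by
    ext
    simp only [Units.coe_map, MonoidHom.coe_coe, MilK.coe_unitFrac, Units.val_mul, Units.val_pow_eq_pow_val,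
      MilK.unitToFrac]
    rw [hAF, ← hw, map_mul, map_pow]
  have key : dB.comp (MilK.map (algebraMap E F) (n + 1)) =
      e • ((MilK.map (IsLocalRing.ResidueField.map (algebraMap A B)) n).comp dA) := by
    apply hom_ext_dvr ϖA hϖA
    · intro u
      simp only [AddMonoidHom.comp_apply, AddMonoidHom.smul_apply]
      rw [hdA ϖA hϖA u, MilK.map_symbol, MilK.map_symbol]
      have h1 : (fun i => Units.map (algebraMap E F : E →* F)
            ((Fin.cons (MilK.unitFrac A E ϖA hϖA.ne_zero) fun i => MilK.unitToFrac A E (u i) :
              Fin (n + 1) → Eˣ) i)) =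
          Function.update
            (Fin.cons (MilK.unitFrac B F ϖB hϖB.ne_zero)
              fun i => MilK.unitToFrac B F (Units.map (algebraMap A B : A →* B) (u i)) :
              Fin (n + 1) → Fˣ) 0
            (MilK.unitFrac B F ϖB hϖB.ne_zero ^ e * MilK.unitToFrac B F w) := by
        funext i
        induction i using Fin.cases with
        | zero => simp [hpi]
        | succ i => simp [hunits]
      rw [h1, symbol_update_mul, symbol_update_pow, Fin.update_cons_zero, Fin.update_cons_zero,
        map_add, map_nsmul, hdB ϖB hϖB]
      have h2 : (Fin.cons (MilK.unitToFrac B F w)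
            fun i => MilK.unitToFrac B F (Units.map (algebraMap A B : A →* B) (u i)) :
            Fin (n + 1) → Fˣ) =
          fun i => MilK.unitToFrac B F
            ((Fin.cons w fun i => Units.map (algebraMap A B : A →* B) (u i) : Fin (n + 1) → Bˣ) i) := by
        funext i
        induction i using Fin.cases with
        | zero => simp
        | succ i => simp
      rw [h2, tame_units_eq_zero dB hdB, add_zero]
      congr 2
    · intro u
      simp only [AddMonoidHom.comp_apply, AddMonoidHom.smul_apply]
      rw [tame_units_eq_zero dA hdA u, map_zero, smul_zero, MilK.map_symbol]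
      have h3 : (fun i => Units.map (algebraMap E F : E →* F) (MilK.unitToFrac A E (u i))) =
          fun i => MilK.unitToFrac B F (Units.map (algebraMap A B : A →* B) (u i)) := by
        funext i
        exact hunits (u i)
      rw [h3]
      exact tame_units_eq_zero dB hdB _
  have := DFunLike.congr_fun key x
  simpa only [AddMonoidHom.comp_apply, AddMonoidHom.smul_apply] using this

end Groth.Agent.S19013
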