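import Groth.Statements.S19014
import Mathlib
import Groth.Agent.Lib.Helper31.MilnorKDVR

set_option autoImplicit false
universe u v
open MilnorK

namespace Groth.Agent.S19014

/-- Let B be a discrete valuation ring with fraction field F and residue field κ, and let E be a field
equipped with a ring homomorphism into B, hence into F, so that the valuation of F is trivial on E.
If ∂ : K_{n+1}(F) → K_n(κ) is the residue map (tame symbol) on Milnor K-groups, then ∂(x_F) = 0 for
every x in K_{n+1}(E). (The published statement concerns discrete valuations of geometric type on
fields finitely generated over a base field; it is stated here for an arbitrary discrete valuation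
ring, which is all the printed computation uses.) -/
theorem result
    (B : Type u) [CommRing B] [IsDomain B] [IsDiscreteValuationRing B]
    (E F : Type v) [Field E] [Field F] [Algebra B F] [IsFractionRing B F]
    [Algebra E B] [Algebra E F] [IsScalarTower E B F]
    (n : ℕ) (d : MilK.K F (n + 1) →+ MilK.K (IsLocalRing.ResidueField B) n) (hd : MilK.IsTameSymbol B F n d)
    (x : MilK.K E (n + 1)) :
    d (MilK.map (algebraMap E F) (n + 1) x) = 0 := by
  induction x using Groth.Agent.Lib.Helper31.MK.induction_on with
  | zero => rw [map_zero, map_zero]
  | symbol y =>
    rw [MilK.map_symbol]
    have h : (fun i => Units.map (algebraMap E F : E →* F) (y i)) =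
        fun i => MilK.unitToFrac B F (Units.map (algebraMap E B : E →* B) (y i)) := by
      funext i
      ext
      simp only [Units.coe_map, MonoidHom.coe_coe, MilK.unitToFrac]
      exact IsScalarTower.algebraMap_apply E B F _
    rw [h]
    exact Groth.Agent.Lib.Helper31.MK.tame_units_eq_zero d hd _
  | add a b ha hb => rw [map_add, map_add, ha, hb, add_zero]
  | neg a ha => rw [map_neg, map_neg, ha, neg_zero]

end Groth.Agent.S19014
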