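import Groth.Statements.S19016
import Mathlib
import Groth.Agent.Lib.Helper31.MilnorKDVR
import Groth.Agent.Lib.Helper31.MilnorKCons

set_option autoImplicit false
universe u v
open MilnorK

namespace Groth.Agent.S19016

/-- Let B be a discrete valuation ring with fraction field F and residue field κ, let u be a unit of B
with residue class ū, and let ∂ denote the residue maps (tame symbols) K_{n+1}(F) → K_n(κ) and
K_{n+2}(F) → K_{n+1}(κ) on Milnor K-groups. Then ∂({u} · ρ) = −{ū} · ∂(ρ) for every ρ in K_{n+1}(F),
the products {u} · ρ in K_{1+(n+1)}(F) and {ū} · ∂ρ in K_{1+n}(κ) being regarded in K_{n+2}(F) and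
K_{n+1}(κ). (The published statement concerns discrete valuations of geometric type on fields
finitely generated over a base field; it is stated here for an arbitrary discrete valuation ring,
which is all the printed computation uses.) -/
theorem result
    (B : Type u) [CommRing B] [IsDomain B] [IsDiscreteValuationRing B]
    (F : Type v) [Field F] [Algebra B F] [IsFractionRing B F] (n : ℕ)
    (d : MilK.K F (n + 1) →+ MilK.K (IsLocalRing.ResidueField B) n) (hd : MilK.IsTameSymbol B F n d)
    (d' : MilK.K F (n + 1 + 1) →+ MilK.K (IsLocalRing.ResidueField B) (n + 1))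
    (hd' : MilK.IsTameSymbol B F (n + 1) d')
    (u : Bˣ) (ρ : MilK.K F (n + 1)) :
    d' (MilK.cast F (Nat.add_comm 1 (n + 1)) (MilK.mul F 1 (n + 1) (MilK.symbol ![MilK.unitToFrac B F u]) ρ)) =
      -(MilK.cast (IsLocalRing.ResidueField B) (Nat.add_comm 1 n)
          (MilK.mul (IsLocalRing.ResidueField B) 1 n (MilK.symbol ![MilK.unitResidue B u]) (d ρ))) := by
  open Groth.Agent.Lib.Helper31.MK in
  obtain ⟨ϖ, hϖ⟩ := IsDiscreteValuationRing.exists_irreducible B
  have key : d'.comp (consMap (MilK.unitToFrac B F u) (n + 1)) =
      -((consMap (MilK.unitResidue B u) n).comp d) := by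
    apply hom_ext_dvr ϖ hϖ
    · intro v
      simp only [AddMonoidHom.comp_apply, AddMonoidHom.neg_apply, consMap_symbol]
      rw [hd ϖ hϖ v, consMap_symbol]
      have h := symbol_comp_swap
        (Fin.cons (MilK.unitFrac B F ϖ hϖ.ne_zero)
          (Fin.cons (MilK.unitToFrac B F u) fun i => MilK.unitToFrac B F (v i)) :
          Fin (n + 1 + 1) → Fˣ) 0 1 (by simp)
      have h1 : (Fin.cons (MilK.unitFrac B F ϖ hϖ.ne_zero)
          (Fin.cons (MilK.unitToFrac B F u) fun i => MilK.unitToFrac B F (v i)) :
          Fin (n + 1 + 1) → Fˣ) ∘ Equiv.swap 0 1 =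
          Fin.cons (MilK.unitToFrac B F u)
            (Fin.cons (MilK.unitFrac B F ϖ hϖ.ne_zero) fun i => MilK.unitToFrac B F (v i)) := by
        funext i
        induction i using Fin.cases with
        | zero => simp
        | succ i =>
          induction i using Fin.cases with
          | zero => simp
          | succ i =>
            have h2 : (Equiv.swap (0 : Fin (n + 1 + 1)) 1) i.succ.succ = i.succ.succ := by
              apply Equiv.swap_apply_of_ne_of_ne
              · exact Fin.succ_ne_zero _
              · intro h
                have := congrArg Fin.val h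
                simp at this
            simp only [Function.comp_apply, h2, Fin.cons_succ]
      rw [h1] at h
      rw [h, map_neg]
      have h3 : (Fin.cons (MilK.unitToFrac B F u) fun i => MilK.unitToFrac B F (v i) :
          Fin (n + 1) → Fˣ) = fun i => MilK.unitToFrac B F ((Fin.cons u v : Fin (n + 1) → Bˣ) i) := by
        funext i
        induction i using Fin.cases with
        | zero => simp
        | succ i => simp
      rw [h3, hd' ϖ hϖ (Fin.cons u v)]
      congr 2
      funext i
      induction i using Fin.cases with
      | zero => simp
      | succ i => simp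
    · intro w
      simp only [AddMonoidHom.comp_apply, AddMonoidHom.neg_apply, consMap_symbol]
      rw [tame_units_eq_zero d hd w, map_zero, neg_zero]
      have h3 : (Fin.cons (MilK.unitToFrac B F u) fun i => MilK.unitToFrac B F (w i) :
          Fin (n + 1 + 1) → Fˣ) =
          fun i => MilK.unitToFrac B F ((Fin.cons u w : Fin (n + 1 + 1) → Bˣ) i) := by
        funext i
        induction i using Fin.cases with
        | zero => simp
        | succ i => simp
      rw [h3]
      exact tame_units_eq_zero d' hd' _
  have := DFunLike.congr_fun key ρ
  simpa only [AddMonoidHom.comp_apply, AddMonoidHom.neg_apply, consMap_apply] using this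

end Groth.Agent.S19016
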