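import Groth.Statements.S19018
import Mathlib

set_option autoImplicit false
universe u
open TensorProduct
open SymTen

namespace Groth.Agent.S19018

section

open scoped Pointwise

theorem generic {k T : Type*} [Field k] [NeZero (2 : k)] [CommRing T] [Algebra k T]
    (σ : T →ₐ[k] T) (hσ : ∀ t, σ (σ t) = t) (G : Set T) (hG : ∀ g ∈ G, σ g = -g)
    (I : Ideal T) (hI : I = Ideal.span G) :
    Ideal.comap (AlgHom.equalizer σ (AlgHom.id k T)).val (I ^ 4) =
      (Ideal.comap (AlgHom.equalizer σ (AlgHom.id k T)).val (I ^ 2)) ^ 2 := by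
  obtain ⟨S, hS⟩ : ∃ S : Subalgebra k T, S = AlgHom.equalizer σ (AlgHom.id k T) := ⟨_, rfl⟩
  rw [← hS]
  have hSmem : ∀ t : T, t ∈ S ↔ σ t = t := by
    intro t; rw [hS]; exact Iff.rfl
  have hI2 : I ^ 2 = Ideal.span (G * G) := by
    rw [pow_two, hI, Ideal.span_mul_span']
  have hI4 : I ^ 4 = Ideal.span ((G * G) * (G * G)) := by
    have : I ^ 4 = I ^ 2 * I ^ 2 := by rw [← pow_add]
    rw [this, hI2, Ideal.span_mul_span']
  have hG2 : ∀ u ∈ G * G, σ u = u := by
    rintro _ ⟨g, hg, g', hg', rfl⟩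
    simp only [map_mul, hG g hg, hG g' hg', neg_mul_neg]
  have hG2I : ∀ u ∈ G * G, u ∈ I ^ 2 := by
    intro u hu; rw [hI2]; exact Ideal.subset_span hu
  apply le_antisymm
  · intro x hx
    rw [Ideal.mem_comap] at hx
    obtain ⟨Q, hQ⟩ : ∃ Q : Ideal T, ∀ a, a ∈ Q ↔ ∀ t : T, ∃ y ∈ (Ideal.comap S.val (I ^ 2)) ^ 2,
        (y : T) = t * a + σ (t * a) := by
      refine ⟨{ carrier := {a | ∀ t : T, ∃ y ∈ (Ideal.comap S.val (I ^ 2)) ^ 2,
                  (y : T) = t * a + σ (t * a)}
                add_mem' := ?_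
                zero_mem' := ?_
                smul_mem' := ?_ }, fun a => Iff.rfl⟩
      · intro a b ha hb t
        obtain ⟨y₁, hy₁, e₁⟩ := ha t
        obtain ⟨y₂, hy₂, e₂⟩ := hb t
        refine ⟨y₁ + y₂, Ideal.add_mem _ hy₁ hy₂, ?_⟩
        rw [Subalgebra.coe_add, e₁, e₂, mul_add, map_add]
        ring
      · intro t
        exact ⟨0, Ideal.zero_mem _, by simp⟩
      · intro c a ha t
        obtain ⟨y, hy, e⟩ := ha (t * c)
        refine ⟨y, hy, ?_⟩
        rw [e, smul_eq_mul, mul_assoc]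
    have hle : I ^ 4 ≤ Q := by
      rw [hI4, Ideal.span_le]
      rintro _ ⟨u, hu, v, hv, rfl⟩
      rw [SetLike.mem_coe, hQ]
      intro t
      have hts : t + σ t ∈ S := by
        rw [hSmem, map_add, hσ, add_comm]
      have hus : u ∈ S := (hSmem u).mpr (hG2 u hu)
      have hvs : v ∈ S := (hSmem v).mpr (hG2 v hv)
      refine ⟨⟨t + σ t, hts⟩ * (⟨u, hus⟩ * ⟨v, hvs⟩), ?_, ?_⟩
      · apply Ideal.mul_mem_left
        rw [pow_two]
        exact Ideal.mul_mem_mul (hG2I u hu) (hG2I v hv)
      · simp only [Subalgebra.coe_mul, map_mul, hG2 u hu, hG2 v hv]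
        ring
    obtain ⟨y, hy, e⟩ := (hQ _).mp (hle hx) 1
    have hx' : σ (x : T) = x := (hSmem _).mp x.2
    rw [one_mul] at e
    have e' : (y : T) = S.val x + S.val x := by
      rw [e]
      show S.val x + σ (S.val x) = _
      rw [show σ (S.val x) = S.val x from hx']
    have h2 : (2 : k) ≠ 0 := NeZero.ne 2
    have hxy : x = algebraMap k S (2⁻¹) * y := by
      apply Subtype.ext
      rw [Subalgebra.coe_mul, e', Subalgebra.coe_algebraMap]
      show (x : T) = algebraMap k T 2⁻¹ * ((x : T) + (x : T))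
      rw [← two_mul, ← mul_assoc]
      have : algebraMap k T 2⁻¹ * 2 = 1 := by
        rw [← map_ofNat (algebraMap k T) 2, ← map_mul, inv_mul_cancel₀ h2, map_one]
      rw [this, one_mul]
    rw [hxy]
    exact Ideal.mul_mem_left _ _ hy
  · rw [pow_two, Ideal.mul_le]
    intro y hy z hz
    rw [Ideal.mem_comap] at hy hz ⊢
    rw [map_mul]
    have : I ^ 4 = I ^ 2 * I ^ 2 := by rw [← pow_add]
    rw [this]
    exact Ideal.mul_mem_mul hy hz

end

/-- Suppose k is a field in which 2 ≠ 0 and R is a commutative k-algebra. Write I for the ideal of the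
diagonal, i.e. the kernel of multiplication R ⊗_k R → R, and write S for the subalgebra of R ⊗_k R
consisting of elements invariant under interchanging the two tensor factors. Then, viewed as ideals
of S, the swap-invariant elements of I^4 form precisely the square of the ideal of swap-invariant
elements of I^2. (The source is stated over the complex numbers; the proof needs only that 2 is
invertible.) -/
theorem result
    (k R : Type u) [Field k] [NeZero (2 : k)] [CommRing R] [Algebra k R] :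
    Ideal.comap
        (AlgHom.equalizer ((Algebra.TensorProduct.comm k R R : R ⊗[k] R ≃ₐ[k] R ⊗[k] R) : R ⊗[k] R →ₐ[k] R ⊗[k] R)
          (AlgHom.id k (R ⊗[k] R))).val
        (KaehlerDifferential.ideal k R ^ 4) =
      (Ideal.comap
        (AlgHom.equalizer ((Algebra.TensorProduct.comm k R R : R ⊗[k] R ≃ₐ[k] R ⊗[k] R) : R ⊗[k] R →ₐ[k] R ⊗[k] R)
          (AlgHom.id k (R ⊗[k] R))).val
        (KaehlerDifferential.ideal k R ^ 2)) ^ 2 := by
  apply generic ((Algebra.TensorProduct.comm k R R : R ⊗[k] R ≃ₐ[k] R ⊗[k] R) : R ⊗[k] R →ₐ[k] R ⊗[k] R)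
    _ (Set.range fun s : R => (1 : R) ⊗ₜ[k] s - s ⊗ₜ[k] (1 : R)) _ _
    (KaehlerDifferential.span_range_eq_ideal k R).symm
  · intro t
    induction t using TensorProduct.induction_on with
    | zero => simp
    | tmul a b => simp
    | add a b ha hb => rw [map_add, map_add, ha, hb]
  · rintro _ ⟨s, rfl⟩
    simp

end Groth.Agent.S19018
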