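import Groth.Statements.S19019
import Mathlib

set_option autoImplicit false
open scoped ComplexOrder
open Toeplitz


open scoped Real
open MeasureTheory

namespace Groth.Agent.S19019

/-- `e n y = exp (i n y)`. -/
noncomputable def e (n : ℤ) (y : ℝ) : ℂ := Complex.exp (Complex.I * (n : ℂ) * (y : ℂ))

lemma e_add (a b : ℤ) (y : ℝ) : e (a + b) y = e a y * e b y := by
  unfold e; rw [← Complex.exp_add]; congr 1; push_cast; ring

lemma e_conj (a : ℤ) (y : ℝ) : (starRingEnd ℂ) (e a y) = e (-a) y := by
  unfold e
  rw [← Complex.exp_conj]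
  congr 1
  simp [Complex.conj_ofReal]

lemma continuous_e (a : ℤ) : Continuous (e a) := by
  unfold e
  exact Complex.continuous_exp.comp (continuous_const.mul Complex.continuous_ofReal)

lemma integral_e (n : ℤ) :
    ∫ y in (0 : ℝ)..(2 * π), e n y = if n = 0 then ((2 * π : ℝ) : ℂ) else 0 := by
  split_ifs with h
  · subst h
    simp [e]
  · have hc : Complex.I * (n : ℂ) ≠ 0 := mul_ne_zero Complex.I_ne_zero (by exact_mod_cast h)
    unfold e
    rw [integral_exp_mul_complex hc]
    have : Complex.exp (Complex.I * (n : ℂ) * ((2 * π : ℝ) : ℂ)) = 1 := by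
      have := Complex.exp_int_mul_two_pi_mul_I n
      rw [← this]
      congr 1
      push_cast
      ring
    rw [this]
    simp

end Groth.Agent.S19019

namespace Groth.Agent.S19019

/-- Let A be an m × m complex Hermitian Toeplitz matrix, with entries A i j = t (j - i) constant along
diagonals, and let f(y) = Σ_{-m < k < m} t k · exp(i k y) be the trigonometric polynomial attached
to it. If f has positive real part at every real y outside a countable set, then A is positive
definite (hence nondegenerate). (The source also states the mirror case: f negative off a countable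
set gives A negative definite, which is this statement for -A.) -/
theorem result
    (m : ℕ) (t : ℤ → ℂ) (A : Matrix (Fin m) (Fin m) ℂ)
    (hA : ∀ i j : Fin m, A i j = t ((j : ℤ) - (i : ℤ))) (hH : A.IsHermitian)
    (hpos : Set.Countable {y : ℝ | ¬ 0 < (∑ k ∈ Finset.Ioo (-(m : ℤ)) (m : ℤ),
        t k * Complex.exp (Complex.I * (k : ℂ) * (y : ℂ))).re}) :
    A.PosDef := by
  classical
  refine Matrix.PosDef.of_dotProduct_mulVec_pos hH fun x hx => ?_
  have him : (star x ⬝ᵥ A.mulVec x).im = 0 := hH.im_star_dotProduct_mulVec_self x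
  have hpi : (0 : ℝ) < 2 * π := by positivity
  -- the functions
  set f : ℝ → ℂ := fun y => ∑ k ∈ Finset.Ioo (-(m : ℤ)) (m : ℤ), t k * e k y with hf
  set p : ℝ → ℂ := fun y => ∑ j : Fin m, x j * e (-(j : ℤ)) y with hp
  set g : ℝ → ℂ := fun y => ∑ i : Fin m, ∑ j : Fin m, ∑ k ∈ Finset.Ioo (-(m : ℤ)) (m : ℤ),
      (star (x i) * x j * t k) * e (k + i - j) y with hg
  have hfc : Continuous f := continuous_finsetSum _ fun k _ => continuous_const.mul (continuous_e k)
  have hpc : Continuous p := continuous_finsetSum _ fun j _ => continuous_const.mul (continuous_e _)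
  have hgfp : ∀ y, g y = f y * ((Complex.normSq (p y) : ℝ) : ℂ) := by
    intro y
    have hconj : (starRingEnd ℂ) (p y) = ∑ i : Fin m, star (x i) * e (i : ℤ) y := by
      simp only [hp, map_sum, map_mul, e_conj, neg_neg]
      rfl
    rw [Complex.normSq_eq_conj_mul_self, hconj, mul_comm (f y)]
    simp only [hp, hf, hg]
    rw [Finset.sum_mul_sum, Finset.sum_mul]
    refine Finset.sum_congr rfl fun i _ => ?_
    rw [Finset.sum_mul]
    refine Finset.sum_congr rfl fun j _ => ?_
    rw [Finset.mul_sum]
    refine Finset.sum_congr rfl fun k _ => ?_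
    rw [show k + (i : ℤ) - (j : ℤ) = k + i + (-(j : ℤ)) by ring, e_add, e_add]
    ring
  have hint : ∫ y in (0 : ℝ)..(2 * π), g y = ((2 * π : ℝ) : ℂ) * (star x ⬝ᵥ A.mulVec x) := by
    simp only [hg]
    rw [intervalIntegral.integral_finsetSum]
    swap
    · intro i _
      exact (continuous_finsetSum _ fun j _ => continuous_finsetSum _ fun k _ =>
        continuous_const.mul (continuous_e _)).intervalIntegrable _ _
    simp only [dotProduct, Matrix.mulVec, Finset.mul_sum]
    refine Finset.sum_congr rfl fun i _ => ?_
    rw [intervalIntegral.integral_finsetSum]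
    swap
    · intro j _
      exact (continuous_finsetSum _ fun k _ =>
        continuous_const.mul (continuous_e _)).intervalIntegrable _ _
    refine Finset.sum_congr rfl fun j _ => ?_
    rw [intervalIntegral.integral_finsetSum]
    swap
    · intro k _
      exact (continuous_const.mul (continuous_e _)).intervalIntegrable _ _
    simp only [intervalIntegral.integral_const_mul, integral_e]
    rw [Finset.sum_eq_single ((j : ℤ) - (i : ℤ))]
    · rw [if_pos (by ring), hA]
      simp only [Pi.star_apply]
      ring
    · intro k _ hk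
      rw [if_neg (fun h => hk (by linarith)), mul_zero]
    · intro h
      exfalso
      apply h
      rw [Finset.mem_Ioo]
      have hi := i.2
      have hj := j.2
      constructor <;> omega
  -- real part
  set G : ℝ → ℝ := fun y => (f y).re * Complex.normSq (p y) with hG
  have hGc : Continuous G :=
    (Complex.continuous_re.comp hfc).mul (Complex.continuous_normSq.comp hpc)
  have hgc : Continuous g := by
    have : g = fun y => f y * ((Complex.normSq (p y) : ℝ) : ℂ) := funext hgfp
    rw [this]
    exact hfc.mul (Complex.continuous_ofReal.comp (Complex.continuous_normSq.comp hpc))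
  have hGg : ∀ y, G y = (g y).re := by
    intro y
    rw [hgfp, Complex.re_mul_ofReal]
  have hre : ∫ y in (0 : ℝ)..(2 * π), G y = (2 * π) * (star x ⬝ᵥ A.mulVec x).re := by
    have h1 := intervalIntegral.intervalIntegral_re (𝕜 := ℂ) (hgc.intervalIntegrable 0 (2 * π))
      (μ := MeasureTheory.volume)
    simp only [hGg]
    rw [show (fun y => (g y).re) = fun y => RCLike.re (g y) from rfl]
    rw [h1, hint]
    show ((((2 * π : ℝ) : ℂ)) * (star x ⬝ᵥ A.mulVec x)).re = _
    rw [Complex.re_ofReal_mul]
  -- nonnegativity of Re f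
  have hdense : Dense {y : ℝ | 0 < (f y).re} := by
    have := hpos.dense_compl ℝ
    convert this using 1
    ext y
    simp only [Set.mem_setOf_eq, Set.mem_compl_iff, not_not]
    rfl
  have hnonneg : ∀ y, 0 ≤ (f y).re := by
    intro y
    have hcl : IsClosed {y : ℝ | 0 ≤ (f y).re} :=
      isClosed_le continuous_const (Complex.continuous_re.comp hfc)
    have hsub : {y : ℝ | 0 < (f y).re} ⊆ {y : ℝ | 0 ≤ (f y).re} := fun z (hz : 0 < (f z).re) => le_of_lt hz
    have := hcl.closure_subset_iff.mpr hsub
    exact this (hdense y)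
  -- a point where p is nonzero and Re f is positive
  have hex : ∃ y ∈ Set.Ioo (0 : ℝ) (2 * π), p y ≠ 0 := by
    by_contra hcon
    push Not at hcon
    apply hx
    have hIcc : ∀ y ∈ Set.Icc (0 : ℝ) (2 * π), p y = 0 := by
      have hcl : IsClosed {y : ℝ | p y = 0} := isClosed_eq hpc continuous_const
      have hsub : Set.Ioo (0 : ℝ) (2 * π) ⊆ {y : ℝ | p y = 0} := hcon
      have := hcl.closure_subset_iff.mpr hsub
      rw [closure_Ioo (ne_of_lt hpi)] at this
      exact this
    funext j0
    have h0 : ∫ y in (0 : ℝ)..(2 * π), p y * e (j0 : ℤ) y = 0 := by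
      rw [intervalIntegral.integral_congr (g := fun _ => (0 : ℂ))]
      · simp
      · intro y hy
        rw [Set.uIcc_of_le hpi.le] at hy
        simp only [hIcc y hy, zero_mul]
    have h1 : ∫ y in (0 : ℝ)..(2 * π), p y * e (j0 : ℤ) y = ((2 * π : ℝ) : ℂ) * x j0 := by
      simp only [hp, Finset.sum_mul]
      rw [intervalIntegral.integral_finsetSum]
      swap
      · intro l _
        exact ((continuous_const.mul (continuous_e _)).mul (continuous_e _)).intervalIntegrable _ _
      have : ∀ l : Fin m, ∀ y, x l * e (-(l : ℤ)) y * e (j0 : ℤ) y =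
          x l * e (-(l : ℤ) + j0) y := by
        intro l y
        rw [e_add]; ring
      simp only [this, intervalIntegral.integral_const_mul, integral_e]
      rw [Finset.sum_eq_single j0]
      · rw [if_pos (by ring)]; ring
      · intro l _ hl
        rw [if_neg, mul_zero]
        intro h
        apply hl
        apply Fin.ext
        omega
      · intro h; exact absurd (Finset.mem_univ _) h
    rw [h0] at h1
    have h2 : ((2 * π : ℝ) : ℂ) ≠ 0 := by
      exact_mod_cast ne_of_gt hpi
    simpa [h2] using h1.symm
  obtain ⟨y0, hy0, hpy0⟩ := hex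
  have hopen : IsOpen ({y : ℝ | p y ≠ 0} ∩ Set.Ioo (0 : ℝ) (2 * π)) :=
    (isOpen_ne_fun hpc continuous_const).inter isOpen_Ioo
  obtain ⟨c, hc3, hc1, hc2⟩ := hdense.exists_mem_open hopen ⟨y0, hpy0, hy0⟩
  have hpos' : 0 < ∫ y in (0 : ℝ)..(2 * π), G y := by
    apply intervalIntegral.integral_pos hpi hGc.continuousOn
    · intro y _
      exact mul_nonneg (hnonneg y) (Complex.normSq_nonneg _)
    · exact ⟨c, Set.Ioo_subset_Icc_self hc2, mul_pos hc3 (Complex.normSq_pos.mpr hc1)⟩
  rw [hre] at hpos'
  rw [Complex.pos_iff]
  exact ⟨(mul_pos_iff_of_pos_left hpi).mp hpos', him.symm⟩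

end Groth.Agent.S19019
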