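import Groth.Statements.S19021
import Groth.Agent.Lib.Helper17.Toeplitz
import Mathlib.LinearAlgebra.Matrix.ToLinearEquiv

set_option autoImplicit false
open Toeplitz

namespace Groth.Agent.S19021

open Groth.Agent.Lib.Helper17

/-- the integer matrix of the statement -/
def tmat (n m : ℕ) : Matrix (Fin m) (Fin m) ℤ :=
  Matrix.of fun i j : Fin m =>
        (-1 : ℤ) ^ ((i : ℕ) + (j : ℕ)) *
          (if (j : ℕ) ≤ (i : ℕ) then (Nat.choose (2 * n + 1) (n + 1 + ((i : ℕ) - (j : ℕ))) : ℤ)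
            else (Nat.choose (2 * n + 1) (n + ((j : ℕ) - (i : ℕ))) : ℤ))

theorem cbin_pascal (n k : ℕ) :
    cbin (n + 1) k = Nat.choose (2 * n + 1) (n + k) + Nat.choose (2 * n + 1) (n + 1 + k) := by
  unfold cbin
  have e1 : 2 * (n + 1) = (2 * n + 1) + 1 := by ring
  have e2 : n + 1 + k = (n + k) + 1 := by ring
  rw [e1, e2, Nat.choose_succ_succ]

theorem tmat_add_transpose (n m : ℕ) :
    ((Int.castRingHom ℝ).mapMatrix (tmat n m)) + ((Int.castRingHom ℝ).mapMatrix (tmat n m)).transpose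
      = amat (n + 1) m := by
  ext i j
  simp only [Matrix.add_apply, Matrix.transpose_apply, RingHom.mapMatrix_apply, Matrix.map_apply,
    tmat, Matrix.of_apply, amat, alpha, Int.coe_castRingHom]
  rcases lt_trichotomy (i : ℕ) (j : ℕ) with h | h | h
  · have h1 : ¬ (j : ℕ) ≤ (i : ℕ) := by omega
    have h2 : (i : ℕ) ≤ (j : ℕ) := by omega
    rw [if_neg h1, if_pos h2, Nat.dist_eq_sub_of_le h2, cbin_pascal, add_comm (j : ℕ) (i : ℕ)]
    push_cast
    ring
  · have h1 : (j : ℕ) ≤ (i : ℕ) := by omega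
    have h2 : (i : ℕ) ≤ (j : ℕ) := by omega
    rw [if_pos h1, if_pos h2, h, Nat.dist_self, cbin_pascal]
    have hsymm : Nat.choose (2 * n + 1) (n + 0) = Nat.choose (2 * n + 1) (n + 1 + 0) := by
      apply Nat.choose_symm_of_eq_add
      ring
    rw [hsymm]
    simp only [Nat.sub_self]
    push_cast
    ring
  · have h1 : (j : ℕ) ≤ (i : ℕ) := by omega
    have h2 : ¬ (i : ℕ) ≤ (j : ℕ) := by omega
    rw [if_pos h1, if_neg h2, Nat.dist_eq_sub_of_le_right h1, cbin_pascal, add_comm (j : ℕ) (i : ℕ)]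
    push_cast
    ring

/-- For natural numbers n and m, the m × m integer Toeplitz matrix with (i, j) entry (-1)^(i+j) ·
C(2n+1, n+1+i-j) (the binomial coefficient being 0 outside the range 0 ≤ n+1+i-j ≤ 2n+1;
equivalently s_k = (-1)^k C(2n+1, n+k+1) on the diagonal i - j = k for -n-1 ≤ k ≤ n and zero beyond)
is nondegenerate: its determinant is nonzero (m = 0 is the empty matrix, of determinant 1). -/
theorem result (n m : ℕ) :
    (Matrix.of fun i j : Fin m =>
        (-1 : ℤ) ^ ((i : ℕ) + (j : ℕ)) *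
          (if (j : ℕ) ≤ (i : ℕ) then (Nat.choose (2 * n + 1) (n + 1 + ((i : ℕ) - (j : ℕ))) : ℤ)
            else (Nat.choose (2 * n + 1) (n + ((j : ℕ) - (i : ℕ))) : ℤ))).det ≠ 0 := by
  show (tmat n m).det ≠ 0
  intro hdet
  set T : Matrix (Fin m) (Fin m) ℝ := (Int.castRingHom ℝ).mapMatrix (tmat n m) with hT
  have hdetR : T.det = 0 := by
    rw [hT, ← RingHom.map_det, hdet, map_zero]
  obtain ⟨x, hx, hTx⟩ := Matrix.exists_mulVec_eq_zero_iff.mpr hdetR
  have hpos := (amat_posDef (n + 1) m).dotProduct_mulVec_pos hx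
  rw [← tmat_add_transpose, ← hT, Matrix.add_mulVec, dotProduct_add, hTx, dotProduct_zero, zero_add,
    Matrix.dotProduct_mulVec, Matrix.vecMul_transpose] at hpos
  simp only [star_trivial] at hpos
  rw [hTx, zero_dotProduct] at hpos
  exact lt_irrefl _ hpos

end Groth.Agent.S19021
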