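import Groth.Statements.S19025
import Mathlib.Tactic
-- import your own Groth.Agent.* helpers here

set_option autoImplicit false
universe u
open HigherRestr

namespace Groth.Agent.S19025


variable {S : Type u} [CommRing S]

theorem locality (m : ℕ) (f f' : ℕ → S) (hff : ∀ j, j ≤ m → f j = f' j) :
    (fwdDiff (1 : ℕ))^[m] f 0 = (fwdDiff (1 : ℕ))^[m] f' 0 := by
  rw [fwdDiff_iter_eq_sum_shift, fwdDiff_iter_eq_sum_shift]
  apply Finset.sum_congr rfl
  intro k hk
  rw [Finset.mem_range] at hk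
  rw [hff (0 + k • 1) (by simp; omega)]

def Z (g₀ g₁ : S) (n s : ℕ) (y : ℕ → S) : ℕ → S := fun j => g₀ ^ (n - j) * g₁ ^ j * y (s + j)

theorem step (g₀ g₁ : S) (n s : ℕ) (y : ℕ → S) :
    (fwdDiff (1 : ℕ))^[n + 1] (Z g₀ g₁ (n + 1) s y) 0 =
      g₀ * (fwdDiff (1 : ℕ))^[n] (Z g₀ g₁ n s (fwdDiff (1 : ℕ) y)) 0 +
        (g₁ - g₀) * (fwdDiff (1 : ℕ))^[n] (Z g₀ g₁ n (s + 1) y) 0 := by
  rw [Function.iterate_succ_apply]
  have h1 := locality n (fwdDiff (1 : ℕ) (Z g₀ g₁ (n + 1) s y))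
    (g₀ • Z g₀ g₁ n s (fwdDiff (1 : ℕ) y) + (g₁ - g₀) • Z g₀ g₁ n (s + 1) y) (by
      intro j hj
      simp only [fwdDiff, Z, Pi.add_apply, Pi.smul_apply, smul_eq_mul]
      have e1 : n + 1 - (j + 1) = n - j := by omega
      have e2 : n + 1 - j = (n - j) + 1 := by omega
      have e3 : s + 1 + j = s + j + 1 := by omega
      have e4 : s + (j + 1) = s + j + 1 := by omega
      rw [e1, e2, e3, e4]
      ring)
  rw [h1, fwdDiff_iter_add, fwdDiff_iter_const_smul, fwdDiff_iter_const_smul]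
  simp only [Pi.add_apply, Pi.smul_apply, smul_eq_mul]

theorem main (I : Ideal S) (g₀ g₁ : S) (hg : g₁ - g₀ ∈ I) :
    ∀ (n K s : ℕ) (y : ℕ → S), n ≤ K →
      (∀ i : ℕ, 1 ≤ i → i ≤ n → (fwdDiff (1 : ℕ))^[n - i] y (s + i) ∈ I ^ (K - i)) →
      g₀ ^ n * (fwdDiff (1 : ℕ))^[n] y s - (fwdDiff (1 : ℕ))^[n] (Z g₀ g₁ n s y) 0 ∈ I ^ K := by
  intro n
  induction n with
  | zero =>
    intro K s y _ _
    simp [Z]
  | succ n ih =>
    intro K s y hK hy
    have hA := ih K s (fwdDiff (1 : ℕ) y) (by omega) (by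
      intro i hi1 hin
      have := hy i hi1 (by omega)
      have e : n + 1 - i = (n - i) + 1 := by omega
      rw [e, Function.iterate_succ_apply] at this
      exact this)
    have hB := ih (K - 1) (s + 1) y (by omega) (by
      intro i hi1 hin
      have := hy (i + 1) (by omega) (by omega)
      have e1 : n + 1 - (i + 1) = n - i := by omega
      have e2 : s + (i + 1) = s + 1 + i := by omega
      have e3 : K - (i + 1) = K - 1 - i := by omega
      rw [e1, e2, e3] at this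
      exact this)
    have hc : (fwdDiff (1 : ℕ))^[n] y (s + 1) ∈ I ^ (K - 1) := by
      have := hy 1 le_rfl (by omega)
      simpa using this
    rw [step, Function.iterate_succ_apply]
    have hK1 : I ^ K = I ^ (K - 1) * I := by
      rw [← pow_succ]; congr 1; omega
    have key : g₀ ^ (n + 1) * (fwdDiff (1 : ℕ))^[n] (fwdDiff (1 : ℕ) y) s -
        (g₀ * (fwdDiff (1 : ℕ))^[n] (Z g₀ g₁ n s (fwdDiff (1 : ℕ) y)) 0 +
          (g₁ - g₀) * (fwdDiff (1 : ℕ))^[n] (Z g₀ g₁ n (s + 1) y) 0) =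
        g₀ * (g₀ ^ n * (fwdDiff (1 : ℕ))^[n] (fwdDiff (1 : ℕ) y) s -
            (fwdDiff (1 : ℕ))^[n] (Z g₀ g₁ n s (fwdDiff (1 : ℕ) y)) 0) -
          (g₀ ^ n * (fwdDiff (1 : ℕ))^[n] y (s + 1)) * (g₁ - g₀) +
          (g₀ ^ n * (fwdDiff (1 : ℕ))^[n] y (s + 1) -
            (fwdDiff (1 : ℕ))^[n] (Z g₀ g₁ n (s + 1) y) 0) * (g₁ - g₀) := by
      ring
    rw [key]
    apply Ideal.add_mem
    · apply Ideal.sub_mem
      · exact Ideal.mul_mem_left _ _ hA
      · rw [hK1]
        exact Ideal.mul_mem_mul (Ideal.mul_mem_left _ _ hc) hg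
    · rw [hK1]
      exact Ideal.mul_mem_mul hB hg

/-- In abstract form, the estimate its proof establishes. Let S be a commutative ring, I an ideal of S,
g₀ and g₁ elements with g₁ - g₀ ∈ I, N a natural number and y a sequence in S such that, for 1 ≤ i ≤
N, the (N-i)-fold unit-step forward difference of y taken at i lies in I^(N-i). Then g₀^N times the
N-fold forward difference of y at 0, minus the N-fold forward difference at 0 of the twisted
sequence j ↦ g₀^(N-j) g₁^j y_j, lies in I^N. (In the source S is the ring of functions on an affine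
chart of X^n, I the ideal of a pairwise diagonal, g₀ and g₁ the two pullbacks of a transition unit
of L, and y_j the components x_λ along the compositions a₀^(N-j) a₁^j μ; the estimate is what makes
the higher order restrictions D^l_L well defined on ker D^(l-1)_L independently of the
trivialisation.) -/
theorem result
    (S : Type u) [CommRing S] (I : Ideal S) (g₀ g₁ : S) (hg : g₁ - g₀ ∈ I)
    (N : ℕ) (y : ℕ → S)
    (hy : ∀ i : ℕ, 1 ≤ i → i ≤ N → (fwdDiff (1 : ℕ))^[N - i] y i ∈ I ^ (N - i)) :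
    g₀ ^ N * (fwdDiff (1 : ℕ))^[N] y 0 -
        (fwdDiff (1 : ℕ))^[N] (fun j : ℕ => g₀ ^ (N - j) * g₁ ^ j * y j) 0 ∈ I ^ N := by
  have h := main I g₀ g₁ hg N N 0 y le_rfl (by
    intro i hi1 hiN
    have := hy i hi1 hiN
    rwa [zero_add])
  have hZ : Z g₀ g₁ N 0 y = fun j : ℕ => g₀ ^ (N - j) * g₁ ^ j * y j := by
    funext j
    simp [Z]
  rw [hZ] at h
  exact h

end Groth.Agent.S19025
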