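import Groth.Statements.S19033
import Groth.Agent.S17179
import Groth.Agent.S17173
import Mathlib.Tactic

set_option autoImplicit false
universe u
open LabGraph

namespace Groth.Agent.S19033

open LabGraph Groth.Agent.S17179 Groth.Agent.S17173

section

variable {V E : Type u} [Fintype V] [Fintype E] [DecidableEq V] [DecidableEq E]

theorem twist_const (ends : E → V × V) (c : ℤ) (v : V) : twist ends (fun _ => c) v = 0 := by
  unfold twist
  simp

/-- for an exceptional vertex the number of edge-ends is two -/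
theorem endCount_exceptional (ends : E → V × V) (w : V → ℕ) (b : V)
    (hb : IsExceptional ends w b) : (endCount ends Finset.univ b : ℤ) = 2 := by
  obtain ⟨_, hloop, hcut⟩ := hb
  have h1 : (cut ends {b} : ℤ) = 2 := by exact_mod_cast hcut
  rw [cut_eq_sum] at h1
  rw [← h1]
  unfold endCount chi
  push_cast
  refine Finset.sum_congr rfl fun e _ => ?_
  have hl := hloop e
  simp only [Finset.mem_singleton]
  by_cases h1 : (ends e).1 = b <;> by_cases h2 : (ends e).2 = b <;> simp [h1, h2]
  exact hl (Prod.ext h1 h2)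

theorem canDeg_insert (ends : E → V × V) (w : V → ℕ) (b : V) (Z : Finset V) (hbZ : b ∉ Z)
    (hb : IsExceptional ends w b) : canDeg ends w (insert b Z) = canDeg ends w Z := by
  unfold canDeg
  rw [Finset.sum_insert hbZ, endCount_exceptional ends w b hb, hb.1]
  simp

theorem canDeg_erase (ends : E → V × V) (w : V → ℕ) (a : V) (Z : Finset V) (haZ : a ∈ Z)
    (ha : IsExceptional ends w a) : canDeg ends w (Z.erase a) = canDeg ends w Z := by
  unfold canDeg
  rw [← Finset.add_sum_erase Z _ haZ, endCount_exceptional ends w a ha, ha.1]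
  simp

theorem cut_insert_le (ends : E → V × V) (w : V → ℕ) (b : V) (Z : Finset V) (hbZ : b ∉ Z)
    (hb : IsExceptional ends w b) (e₀ : E)
    (he₀ : ((ends e₀).1 ∈ Z ∧ (ends e₀).2 = b) ∨ ((ends e₀).1 = b ∧ (ends e₀).2 ∈ Z)) :
    (cut ends (insert b Z) : ℤ) ≤ cut ends Z := by
  obtain ⟨_, hloop, hcut⟩ := hb
  have h1 : (cut ends {b} : ℤ) = 2 := by exact_mod_cast hcut
  let τ : E → ℤ := fun e => if ((ends e).1 ∈ Z ∧ (ends e).2 = b) ∨ ((ends e).1 = b ∧ (ends e).2 ∈ Z)
    then 1 else 0
  have hedge : ∀ e : E, chi ends (insert b Z) e = chi ends Z e + chi ends {b} e - 2 * τ e := by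
    intro e
    have hl := hloop e
    unfold chi
    simp only [Finset.mem_insert, Finset.mem_singleton, τ]
    by_cases h1 : (ends e).1 = b
    · by_cases h2 : (ends e).2 = b
      · exact absurd (Prod.ext h1 h2) hl
      · have h3 : (ends e).1 ∉ Z := h1 ▸ hbZ
        by_cases h4 : (ends e).2 ∈ Z <;> simp [h1, h2, h4, hbZ]
    · by_cases h2 : (ends e).2 = b
      · have h4 : (ends e).2 ∉ Z := h2 ▸ hbZ
        by_cases h3 : (ends e).1 ∈ Z <;> simp [h1, h2, h3, hbZ]
      · by_cases h3 : (ends e).1 ∈ Z <;> by_cases h4 : (ends e).2 ∈ Z <;> simp [h1, h2, h3, h4]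
  have hτ : 1 ≤ ∑ e : E, τ e := by
    calc (1 : ℤ) = τ e₀ := by simp only [τ]; rw [if_pos he₀]
      _ ≤ ∑ e : E, τ e := Finset.single_le_sum (f := τ)
          (fun e _ => by simp only [τ]; split_ifs <;> norm_num) (Finset.mem_univ e₀)
  rw [cut_eq_sum, cut_eq_sum ends Z, Finset.sum_congr rfl (fun e _ => hedge e),
    Finset.sum_sub_distrib, Finset.sum_add_distrib, ← cut_eq_sum ends {b}, h1, ← Finset.mul_sum]
  linarith

theorem cut_erase_le (ends : E → V × V) (w : V → ℕ) (a : V) (Z : Finset V) (haZ : a ∈ Z)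
    (ha : IsExceptional ends w a) (e₀ : E)
    (he₀ : ((ends e₀).1 ∉ Z ∧ (ends e₀).2 = a) ∨ ((ends e₀).1 = a ∧ (ends e₀).2 ∉ Z)) :
    (cut ends (Z.erase a) : ℤ) ≤ cut ends Z := by
  obtain ⟨_, hloop, hcut⟩ := ha
  have h1 : (cut ends {a} : ℤ) = 2 := by exact_mod_cast hcut
  let τ : E → ℤ := fun e => if ((ends e).1 ∉ Z ∧ (ends e).2 = a) ∨ ((ends e).1 = a ∧ (ends e).2 ∉ Z)
    then 1 else 0
  have hedge : ∀ e : E, chi ends (Z.erase a) e = chi ends Z e + chi ends {a} e - 2 * τ e := by
    intro e
    have hl := hloop e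
    unfold chi
    simp only [Finset.mem_erase, Finset.mem_singleton, τ]
    by_cases h1 : (ends e).1 = a
    · by_cases h2 : (ends e).2 = a
      · exact absurd (Prod.ext h1 h2) hl
      · by_cases h4 : (ends e).2 ∈ Z <;> simp [h1, h2, h4, haZ]
    · by_cases h2 : (ends e).2 = a
      · by_cases h3 : (ends e).1 ∈ Z <;> simp [h1, h2, h3, haZ]
      · by_cases h3 : (ends e).1 ∈ Z <;> by_cases h4 : (ends e).2 ∈ Z <;> simp [h1, h2, h3, h4]
  have hτ : 1 ≤ ∑ e : E, τ e := by
    calc (1 : ℤ) = τ e₀ := by simp only [τ]; rw [if_pos he₀]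
      _ ≤ ∑ e : E, τ e := Finset.single_le_sum (f := τ)
          (fun e _ => by simp only [τ]; split_ifs <;> norm_num) (Finset.mem_univ e₀)
  rw [cut_eq_sum, cut_eq_sum ends Z, Finset.sum_congr rfl (fun e _ => hedge e),
    Finset.sum_sub_distrib, Finset.sum_add_distrib, ← cut_eq_sum ends {a}, h1, ← Finset.mul_sum]
  linarith

theorem sum_twist_indicator_le (ends : E → V × V) (Y W : Finset V) (h : W ⊆ Y ∨ Y ⊆ W) :
    ∑ v ∈ Y, twist ends (fun u => if u ∈ W then (1 : ℤ) else 0) v ≤ 0 := by
  rw [sum_twist]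
  apply Finset.sum_nonpos
  intro e _
  rcases h with h | h
  · have h1 : (ends e).1 ∈ W → (ends e).1 ∈ Y := fun hh => h hh
    have h2 : (ends e).2 ∈ W → (ends e).2 ∈ Y := fun hh => h hh
    by_cases a1 : (ends e).1 ∈ W <;> by_cases a2 : (ends e).2 ∈ W <;>
      by_cases b1 : (ends e).1 ∈ Y <;> by_cases b2 : (ends e).2 ∈ Y <;>
      simp [a1, a2, b1, b2] <;> tauto
  · have h1 : (ends e).1 ∈ Y → (ends e).1 ∈ W := fun hh => h hh
    have h2 : (ends e).2 ∈ Y → (ends e).2 ∈ W := fun hh => h hh
    by_cases a1 : (ends e).1 ∈ W <;> by_cases a2 : (ends e).2 ∈ W <;>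
      by_cases b1 : (ends e).1 ∈ Y <;> by_cases b2 : (ends e).2 ∈ Y <;>
      simp [a1, a2, b1, b2] <;> tauto

theorem sum_twist_indicator_self (ends : E → V × V) (Y : Finset V) :
    ∑ v ∈ Y, twist ends (fun u => if u ∈ Y then (1 : ℤ) else 0) v = -(cut ends Y : ℤ) := by
  rw [sum_twist, cut_eq_sum, ← Finset.sum_neg_distrib]
  refine Finset.sum_congr rfl fun e _ => ?_
  unfold chi
  by_cases b1 : (ends e).1 ∈ Y <;> by_cases b2 : (ends e).2 ∈ Y <;> simp [b1, b2]

end

open LabGraph in
/-- Let X be a quasi-wp-stable curve of genus g ≥ 2 over an algebraically closed field, encoded by a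
weighted multigraph: vertices are the irreducible components C_v, with the weight w v and the loops
at v chosen so that w v plus the number of loops at v is the arithmetic genus of C_v; two distinct
components are joined by one edge for each node and by two edges for each tacnode at which they
meet. For a set Y of vertices (a subcurve) canDeg Y is then deg_Y ω_X = 2 g_Y − 2 + k_Y and cut Y is
k_Y, the length of the intersection of Y with its complementary subcurve; a vertex is exceptional
(weight zero, loopless, exactly two edges to other vertices) exactly when C_v is an exceptional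
component; the twist of the indicator function of Y is the multidegree Σ_{C ⊆ Y} C of the degree
class group construction; and the graph is a connected quasistable graph. Let d, d' be properly
balanced multidegrees of the same total degree D (each satisfies the Basic Inequality 2·|K·d_Y −
D·canDeg Y| ≤ cut Y·K for every Y, where K = 2g − 2 = canDeg of the whole graph, and takes the value
1 on every exceptional vertex), with d strictly balanced: for every nonempty proper Y with d_Y equal
to the upper extreme, i.e. 2(K·d_Y − D·canDeg Y) = K·cut Y, every edge with exactly one endpoint in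
Y has an exceptional endpoint. Suppose d' = d + Σ_i twist(1_{Z_i}) for nested vertex sets Z_1 ⊆ ⋯ ⊆
Z_m, each with d at its upper extreme, such that for j < i no edge joins a vertex of Z_j to a vertex
outside Z_i. Then d = d'. (The source assumes only that d − d' lies in the lattice generated by the
multidegrees of the components and takes the existence of such a nested family from an earlier paper
it cites without proof; this row carries that description as its hypothesis.) -/
theorem result {V E : Type u} [Fintype V] [Fintype E]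
    [DecidableEq V] [DecidableEq E] (ends : E → V × V) (w : V → ℕ) (hX : IsQuasistableGraph ends w)
    (hg : 2 ≤ genus ends w) (d d' : V → ℤ) (hD : ∑ v, d v = ∑ v, d' v)
    (hBI : SatisfiesBI ends w d) (hBI' : SatisfiesBI ends w d')
    (hone : ∀ v : V, IsExceptional ends w v → d v = 1) (hone' : ∀ v : V, IsExceptional ends w v → d' v = 1)
    (hstrict : ∀ Y : Finset V, Y.Nonempty → Y ≠ Finset.univ →
      2 * (canDeg ends w Finset.univ * (∑ v ∈ Y, d v) - (∑ v, d v) * canDeg ends w Y)
          = (cut ends Y : ℤ) * canDeg ends w Finset.univ →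
      ∀ e : E, (((ends e).1 ∈ Y ∧ (ends e).2 ∉ Y) ∨ ((ends e).1 ∉ Y ∧ (ends e).2 ∈ Y)) →
        (IsExceptional ends w (ends e).1 ∨ IsExceptional ends w (ends e).2))
    (m : ℕ) (Z : Fin m → Finset V) (hmono : ∀ i j : Fin m, i ≤ j → Z i ⊆ Z j)
    (hext : ∀ i : Fin m, 2 * (canDeg ends w Finset.univ * (∑ v ∈ Z i, d v) - (∑ v, d v) * canDeg ends w (Z i))
          = (cut ends (Z i) : ℤ) * canDeg ends w Finset.univ)
    (hsep : ∀ i j : Fin m, j < i → ∀ e : E,
      ¬ (((ends e).1 ∈ Z j ∧ (ends e).2 ∉ Z i) ∨ ((ends e).2 ∈ Z j ∧ (ends e).1 ∉ Z i)))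
    (hsum : ∀ v : V, d' v = d v + ∑ i : Fin m, twist ends (fun u => if u ∈ Z i then (1 : ℤ) else 0) v) :
    d = d' := by
  have hconn : Connected ends := hX.1.1
  have hK : 2 ≤ canDeg ends w Finset.univ := by rw [canDeg_univ]; linarith
  by_cases hall : ∀ i : Fin m, Z i = ∅ ∨ Z i = Finset.univ
  · funext v
    rw [hsum v]
    have h0 : ∀ i : Fin m, twist ends (fun u => if u ∈ Z i then (1 : ℤ) else 0) v = 0 := by
      intro i
      rcases hall i with h | h
      · rw [h]; simp only [Finset.notMem_empty, if_false]; exact twist_const ends 0 v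
      · rw [h]; simp only [Finset.mem_univ, if_true]; exact twist_const ends 1 v
    rw [Finset.sum_eq_zero (fun i _ => h0 i)]
    simp
  · exfalso
    push Not at hall
    obtain ⟨i, hne, hnu⟩ := hall
    have hYne : (Z i).Nonempty := hne
    -- (A)
    have hA : ∑ v ∈ Z i, d' v ≤ ∑ v ∈ Z i, d v - (cut ends (Z i) : ℤ) := by
      have h1 : ∑ v ∈ Z i, d' v = ∑ v ∈ Z i, d v +
          ∑ k : Fin m, ∑ v ∈ Z i, twist ends (fun u => if u ∈ Z k then (1 : ℤ) else 0) v := by
        rw [Finset.sum_congr rfl (fun v _ => hsum v), Finset.sum_add_distrib, Finset.sum_comm]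
      have h2 : ∀ k : Fin m,
          ∑ v ∈ Z i, twist ends (fun u => if u ∈ Z k then (1 : ℤ) else 0) v ≤ 0 := by
        intro k
        apply sum_twist_indicator_le
        rcases le_total k i with h | h
        · exact Or.inl (hmono k i h)
        · exact Or.inr (hmono i k h)
      have h3 := sum_twist_indicator_self ends (Z i)
      have h4 : ∑ k : Fin m, ∑ v ∈ Z i, twist ends (fun u => if u ∈ Z k then (1 : ℤ) else 0) v
          ≤ -(cut ends (Z i) : ℤ) := by
        rw [← Finset.add_sum_erase Finset.univ _ (Finset.mem_univ i), h3]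
        have := Finset.sum_nonpos (s := Finset.univ.erase i) (fun k _ => h2 k)
        linarith
      linarith
    -- (B)
    have hB := hBI' (Z i)
    rw [← hD] at hB
    have hB' := (abs_le.mp (show |canDeg ends w Finset.univ * (∑ v ∈ Z i, d' v) -
        (∑ v, d v) * canDeg ends w (Z i)| ≤ _ from le_refl _)).1
    have hE := hext i
    have hKA := mul_le_mul_of_nonneg_left hA (show (0:ℤ) ≤ canDeg ends w Finset.univ by linarith)
    have hlow : 2 * (canDeg ends w Finset.univ * (∑ v ∈ Z i, d' v) -
        (∑ v, d v) * canDeg ends w (Z i)) = -((cut ends (Z i) : ℤ) * canDeg ends w Finset.univ) := by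
      have := neg_abs_le (canDeg ends w Finset.univ * (∑ v ∈ Z i, d' v) -
        (∑ v, d v) * canDeg ends w (Z i))
      nlinarith
    -- (C)
    obtain ⟨u, hu⟩ := hYne
    obtain ⟨v, hv⟩ : ∃ v, v ∉ Z i := by
      by_contra hcon
      push Not at hcon
      exact hnu (Finset.eq_univ_iff_forall.mpr hcon)
    obtain ⟨e, he⟩ := exists_cut_edge ends hconn (fun x => x ∈ Z i) u v hu hv
    have hex := hstrict (Z i) ⟨u, hu⟩ hnu hE e he
    -- the two cases
    have caseOut : ∀ b : V, b ∉ Z i → IsExceptional ends w b →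
        (((ends e).1 ∈ Z i ∧ (ends e).2 = b) ∨ ((ends e).1 = b ∧ (ends e).2 ∈ Z i)) → False := by
      intro b hbZ hb hadj
      have h1 := hBI (insert b (Z i))
      rw [Finset.sum_insert hbZ, hone b hb, canDeg_insert ends w b (Z i) hbZ hb] at h1
      have h2 := cut_insert_le ends w b (Z i) hbZ hb e hadj
      have h3 := le_abs_self (canDeg ends w Finset.univ * (1 + ∑ v ∈ Z i, d v) -
        (∑ v, d v) * canDeg ends w (Z i))
      have h4 := mul_le_mul_of_nonneg_right h2 (show (0:ℤ) ≤ canDeg ends w Finset.univ by linarith)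
      nlinarith
    have caseIn : ∀ a : V, a ∈ Z i → IsExceptional ends w a →
        (((ends e).1 ∉ Z i ∧ (ends e).2 = a) ∨ ((ends e).1 = a ∧ (ends e).2 ∉ Z i)) → False := by
      intro a haZ ha hadj
      have h1 := hBI' ((Z i).erase a)
      rw [← hD, canDeg_erase ends w a (Z i) haZ ha] at h1
      have h5 : ∑ v ∈ (Z i).erase a, d' v = ∑ v ∈ Z i, d' v - 1 := by
        rw [← Finset.add_sum_erase (Z i) d' haZ, hone' a ha]; ring
      rw [h5] at h1
      have h2 := cut_erase_le ends w a (Z i) haZ ha e hadj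
      have h3 := neg_abs_le (canDeg ends w Finset.univ * (∑ v ∈ Z i, d' v - 1) -
        (∑ v, d v) * canDeg ends w (Z i))
      have h4 := mul_le_mul_of_nonneg_right h2 (show (0:ℤ) ≤ canDeg ends w Finset.univ by linarith)
      nlinarith
    rcases he with ⟨h1, h2⟩ | ⟨h1, h2⟩
    · rcases hex with hx | hx
      · exact caseIn _ h1 hx (Or.inr ⟨rfl, h2⟩)
      · exact caseOut _ h2 hx (Or.inl ⟨h1, rfl⟩)
    · rcases hex with hx | hx
      · exact caseOut _ h1 hx (Or.inr ⟨rfl, h2⟩)
      · exact caseIn _ h2 hx (Or.inl ⟨h1, rfl⟩)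

end Groth.Agent.S19033
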