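import Groth.Statements.S19034
import Mathlib

set_option autoImplicit false
universe u
open LabGraph

set_option linter.unusedSectionVars false

namespace Groth.Agent.S19034Aux
open LabGraph

variable {V E : Type u} [Fintype V] [Fintype E] [DecidableEq V] [DecidableEq E]

theorem cutset_single (ends : E → V × V) (v : V) (hloop : ∀ e : E, ends e ≠ (v, v)) :
    (Finset.univ.filter (fun e : E =>
      ((ends e).1 ∈ ({v} : Finset V) ∧ (ends e).2 ∉ ({v} : Finset V)) ∨
        ((ends e).1 ∉ ({v} : Finset V) ∧ (ends e).2 ∈ ({v} : Finset V))))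
      = Finset.univ.filter (fun e : E => (ends e).1 = v ∨ (ends e).2 = v) := by
  ext e
  simp only [Finset.mem_filter, Finset.mem_univ, true_and, Finset.mem_singleton]
  have := hloop e
  by_cases h1 : (ends e).1 = v <;> by_cases h2 : (ends e).2 = v
  · exact absurd (Prod.ext h1 h2) this
  · simp [h1, h2]
  · simp [h1, h2]
  · simp [h1, h2]

theorem endCount_exc (ends : E → V × V) (w : V → ℕ) (v : V) (hv : IsExceptional ends w v) :
    endCount ends Finset.univ v = 2 := by
  obtain ⟨_, hloop, hcut⟩ := hv
  rw [← hcut, endCount, cut, Finset.card_filter]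
  refine Finset.sum_congr rfl fun e _ => ?_
  have := hloop e
  simp only [Finset.mem_singleton]
  by_cases h1 : (ends e).1 = v <;> by_cases h2 : (ends e).2 = v
  · exact absurd (Prod.ext h1 h2) this
  · simp [h1, h2]
  · simp [h1, h2]
  · simp [h1, h2]

theorem canDeg_filter (ends : E → V × V) (w : V → ℕ) (S : Finset V)
    (hS : ∀ v ∈ S, IsExceptional ends w v) (Y : Finset V) :
    canDeg ends w (Y.filter (fun v => v ∉ S)) = canDeg ends w Y := by
  unfold canDeg
  refine Finset.sum_filter_of_ne fun v _ hne => ?_
  intro hvS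
  apply hne
  rw [endCount_exc ends w v (hS v hvS), (hS v hvS).1]
  norm_num

theorem canDeg_congr (ends : E → V × V) (w : V → ℕ) (S : Finset V)
    (hS : ∀ v ∈ S, IsExceptional ends w v) (Y Z : Finset V)
    (h : ∀ u, u ∉ S → (u ∈ Y ↔ u ∈ Z)) :
    canDeg ends w Y = canDeg ends w Z := by
  rw [← canDeg_filter ends w S hS Y, ← canDeg_filter ends w S hS Z]
  congr 1
  ext u
  simp only [Finset.mem_filter]
  constructor
  · rintro ⟨h1, h2⟩; exact ⟨(h u h2).mp h1, h2⟩
  · rintro ⟨h1, h2⟩; exact ⟨(h u h2).mpr h1, h2⟩

theorem sum_endCount (ends : E → V × V) :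
    ∑ v : V, endCount ends Finset.univ v = 2 * Fintype.card E := by
  unfold endCount
  rw [Finset.sum_comm]
  simp only [Finset.sum_add_distrib, Finset.sum_ite_eq, Finset.mem_univ, if_true]
  simp only [Finset.sum_const, Finset.card_univ, smul_eq_mul, mul_one]
  omega

theorem canDeg_univ (ends : E → V × V) (w : V → ℕ) :
    canDeg ends w Finset.univ = 2 * genus ends w - 2 := by
  have h := sum_endCount ends
  have h' : ∑ v : V, (endCount ends Finset.univ v : ℤ) = 2 * (Fintype.card E : ℤ) := by
    exact_mod_cast h
  unfold canDeg genus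
  rw [Finset.sum_add_distrib, Finset.sum_sub_distrib, ← Finset.mul_sum, h']
  simp only [Finset.sum_const, Finset.card_univ, nsmul_eq_mul]
  ring

theorem cut_le (ends : E → V × V) (S : Finset V)
    (hloop : ∀ v ∈ S, ∀ e : E, ends e ≠ (v, v))
    (hdeg : ∀ v ∈ S,
      (Finset.univ.filter (fun e : E => (ends e).1 = v ∨ (ends e).2 = v)).card = 2)
    (hone : ∀ e : E, (ends e).1 ∈ S → (ends e).2 ∈ S → False)
    (W Y What : Finset V) (hW : Disjoint W S) (hY : ∀ u, u ∉ S → (u ∈ Y ↔ u ∈ W))
    (hWh1 : ∀ u, u ∉ S → (u ∈ What ↔ u ∈ W))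
    (hWh2 : ∀ v ∈ S, (v ∈ What ↔ ∀ e : E,
      ((ends e).1 = v → (ends e).2 ∈ W) ∧ ((ends e).2 = v → (ends e).1 ∈ W))) :
    cut ends What ≤ cut ends Y := by
  classical
  have hWS : ∀ u, u ∈ S → u ∉ W := fun u hu huW => (Finset.disjoint_left.mp hW huW hu)
  let f : E → Option V := fun e =>
    if (ends e).1 ∈ S then some (ends e).1 else if (ends e).2 ∈ S then some (ends e).2 else none
  -- description of the cut condition for edges at `v ∈ S`
  have key : ∀ (Z : Finset V), (∀ u, u ∉ S → (u ∈ Z ↔ u ∈ W)) → ∀ v ∈ S, ∀ e : E,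
      ((ends e).1 = v ∨ (ends e).2 = v) →
      ((((ends e).1 ∈ Z ∧ (ends e).2 ∉ Z) ∨ ((ends e).1 ∉ Z ∧ (ends e).2 ∈ Z)) ↔
        ((v ∈ Z ∧ ¬ ((ends e).1 ∈ W ∨ (ends e).2 ∈ W)) ∨
          (v ∉ Z ∧ ((ends e).1 ∈ W ∨ (ends e).2 ∈ W)))) := by
    intro Z hZ v hvS e he
    rcases he with he | he
    · have h2 : (ends e).2 ∉ S := fun h => hone e (he ▸ hvS) h
      have h1W : (ends e).1 ∉ W := he ▸ hWS v hvS
      rw [hZ _ h2, he]
      rw [he] at h1W
      simp only [h1W, false_or]
    · have h1 : (ends e).1 ∉ S := fun h => hone e h (he ▸ hvS)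
      have h2W : (ends e).2 ∉ W := he ▸ hWS v hvS
      rw [hZ _ h1, he]
      rw [he] at h2W
      simp only [h2W, or_false]
      tauto
  have hf : ∀ v ∈ S, ∀ e : E, f e = some v ↔ ((ends e).1 = v ∨ (ends e).2 = v) := by
    intro v hvS e
    constructor
    · intro h
      by_cases h1 : (ends e).1 ∈ S
      · simp only [f, h1, if_true, Option.some.injEq] at h; exact Or.inl h
      · by_cases h2 : (ends e).2 ∈ S
        · simp only [f, h1, h2, if_true, if_false, Option.some.injEq] at h; exact Or.inr h
        · simp [f, h1, h2] at h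
    · rintro (h | h)
      · subst h
        simp [f, hvS]
      · subst h
        have h1 : (ends e).1 ∉ S := fun h' => hone e h' hvS
        simp [f, h1, hvS]
  unfold cut
  rw [Finset.card_eq_sum_card_fiberwise (f := f) (t := Finset.univ)
      (fun _ _ => Finset.mem_univ _)]
  rw [Finset.card_eq_sum_card_fiberwise (f := f) (t := Finset.univ)
      (s := Finset.univ.filter (fun e : E =>
        ((ends e).1 ∈ Y ∧ (ends e).2 ∉ Y) ∨ ((ends e).1 ∉ Y ∧ (ends e).2 ∈ Y)))
      (fun _ _ => Finset.mem_univ _)]
  refine Finset.sum_le_sum fun o _ => ?_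
  rcases o with _ | v
  · refine Finset.card_le_card ?_
    intro e he
    simp only [Finset.mem_filter, Finset.mem_univ, true_and] at he ⊢
    obtain ⟨hc, hfe⟩ := he
    have h1 : (ends e).1 ∉ S := by
      intro h; simp [f, h] at hfe
    have h2 : (ends e).2 ∉ S := by
      intro h; simp [f, h1, h] at hfe
    refine ⟨?_, hfe⟩
    rw [hWh1 _ h1, hWh1 _ h2] at hc
    rw [hY _ h1, hY _ h2]; exact hc
  · by_cases hvS : v ∈ S
    swap
    · have hempty : ∀ e : E, f e ≠ some v := by
        intro e h
        by_cases h1 : (ends e).1 ∈ S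
        · simp only [f, h1, if_true, Option.some.injEq] at h; exact hvS (h ▸ h1)
        · by_cases h2 : (ends e).2 ∈ S
          · simp only [f, h1, h2, if_true, if_false, Option.some.injEq] at h
            exact hvS (h ▸ h2)
          · simp [f, h1, h2] at h
      have : (Finset.univ.filter (fun e : E =>
        ((ends e).1 ∈ What ∧ (ends e).2 ∉ What) ∨ ((ends e).1 ∉ What ∧ (ends e).2 ∈ What))).filter
          (fun e => f e = some v) = ∅ := by
        ext e; simp [hempty e]
      rw [this]; simp
    · set A : Finset E := Finset.univ.filter (fun e : E => (ends e).1 = v ∨ (ends e).2 = v)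
        with hA
      have hAcard : A.card = 2 := hdeg v hvS
      set P : E → Prop := fun e => (ends e).1 ∈ W ∨ (ends e).2 ∈ W with hP
      have hL : (Finset.univ.filter (fun e : E =>
          ((ends e).1 ∈ What ∧ (ends e).2 ∉ What) ∨ ((ends e).1 ∉ What ∧ (ends e).2 ∈ What))).filter
            (fun e => f e = some v)
          = A.filter (fun e => (v ∈ What ∧ ¬ P e) ∨ (v ∉ What ∧ P e)) := by
        ext e
        simp only [Finset.mem_filter, Finset.mem_univ, true_and, hA]
        rw [hf v hvS e]
        constructor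
        · rintro ⟨h1, h2⟩; exact ⟨h2, (key What hWh1 v hvS e h2).mp h1⟩
        · rintro ⟨h1, h2⟩; exact ⟨(key What hWh1 v hvS e h1).mpr h2, h1⟩
      have hR : (Finset.univ.filter (fun e : E =>
          ((ends e).1 ∈ Y ∧ (ends e).2 ∉ Y) ∨ ((ends e).1 ∉ Y ∧ (ends e).2 ∈ Y))).filter
            (fun e => f e = some v)
          = A.filter (fun e => (v ∈ Y ∧ ¬ P e) ∨ (v ∉ Y ∧ P e)) := by
        ext e
        simp only [Finset.mem_filter, Finset.mem_univ, true_and, hA]
        rw [hf v hvS e]
        constructor
        · rintro ⟨h1, h2⟩; exact ⟨h2, (key Y hY v hvS e h2).mp h1⟩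
        · rintro ⟨h1, h2⟩; exact ⟨(key Y hY v hvS e h1).mpr h2, h1⟩
      rw [hL, hR]
      by_cases hvWh : v ∈ What
      · -- all edges at v end in W: nothing is cut
        have hall := (hWh2 v hvS).mp hvWh
        have : A.filter (fun e => (v ∈ What ∧ ¬ P e) ∨ (v ∉ What ∧ P e)) = ∅ := by
          ext e
          simp only [Finset.mem_filter, Finset.mem_univ, true_and, hA, Finset.notMem_empty,
            iff_false, not_and]
          intro he
          have hPe : P e := by
            rcases he with he | he
            · exact Or.inr ((hall e).1 he)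
            · exact Or.inl ((hall e).2 he)
          simp [hvWh, hPe]
        rw [this]; simp
      · have hex : ∃ e0 ∈ A, ¬ P e0 := by
          have hnot := (not_congr (hWh2 v hvS)).mp hvWh
          push Not at hnot
          obtain ⟨e, he⟩ := hnot
          by_cases h1 : (ends e).1 = v
          · by_cases h1' : (ends e).2 ∈ W
            · have h2 := he (fun _ => h1')
              refine ⟨e, by simp [hA, h1], ?_⟩
              intro hPe
              rcases hPe with hPe | hPe
              · exact h2.2 hPe
              · exact hWS v hvS (h2.1 ▸ hPe)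
            · refine ⟨e, by simp [hA, h1], ?_⟩
              intro hPe
              rcases hPe with hPe | hPe
              · exact hWS v hvS (h1 ▸ hPe)
              · exact h1' hPe
          · have h2 := he (fun h => absurd h h1)
            refine ⟨e, by simp [hA, h2.1], ?_⟩
            intro hPe
            rcases hPe with hPe | hPe
            · exact h2.2 hPe
            · exact hWS v hvS (h2.1 ▸ hPe)
        have hLsub : A.filter (fun e => (v ∈ What ∧ ¬ P e) ∨ (v ∉ What ∧ P e))
            = A.filter P := by
          refine Finset.filter_congr fun e _ => ?_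
          simp [hvWh]
        rw [hLsub]
        by_cases hvY : v ∈ Y
        · have hRsub : A.filter (fun e => (v ∈ Y ∧ ¬ P e) ∨ (v ∉ Y ∧ P e))
              = A.filter (fun e => ¬ P e) := by
            refine Finset.filter_congr fun e _ => ?_
            simp [hvY]
          rw [hRsub]
          have hsum := Finset.card_filter_add_card_filter_not (s := A) P
          obtain ⟨e0, he0A, he0⟩ := hex
          have hpos : 1 ≤ (A.filter (fun e => ¬ P e)).card :=
            Finset.card_pos.mpr ⟨e0, Finset.mem_filter.mpr ⟨he0A, he0⟩⟩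
          omega
        · have hRsub : A.filter (fun e => (v ∈ Y ∧ ¬ P e) ∨ (v ∉ Y ∧ P e))
              = A.filter P := by
            refine Finset.filter_congr fun e _ => ?_
            simp [hvY]
          rw [hRsub]

end Groth.Agent.S19034Aux

namespace Groth.Agent.S19034

open LabGraph in
/-- Let σ : Z → X be the contraction of some exceptional components of a quasi-wp-stable curve Z of
genus g ≥ 2 onto a quasi-wp-stable curve X, and d a properly balanced multidegree on X; then the
pull-back d̃ of d to Z (d̃_W = d_{σ(W)} when σ(W) is a curve, d̃ = 0 on contracted components) is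
balanced. Encode Z by its weighted multigraph (vertices = irreducible components, weight plus number
of loops = arithmetic genus of the component, one edge per node and two per tacnode joining distinct
components; canDeg Y = deg_Y ω_Z, cut Y = k_Y, K = canDeg of all vertices = 2g − 2; exceptional
vertex = exceptional component), and let S be the set of contracted components, each an exceptional
vertex. The components of X are the vertices outside S; for a set W of them, the subcurve σ(W) of X
has deg ω_X equal to canDeg Ŵ and k equal to cut Ŵ, where Ŵ is W together with the vertices of S all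
of whose edges end in W, and the exceptional components of X are the exceptional vertices outside S.
So the hypotheses below say that d̃ vanishes on S and that d = d̃|_{V∖S} is properly balanced on X
(Basic Inequality 2·|K·d_W − D·canDeg Ŵ| ≤ cut Ŵ·K for every W disjoint from S, D the total degree,
and value 1 on exceptional vertices outside S); the conclusion is the Basic Inequality for d̃ on Z,
for every set of vertices. -/
theorem result {V E : Type u} [Fintype V] [Fintype E]
    [DecidableEq V] [DecidableEq E] (ends : E → V × V) (w : V → ℕ) (hZ : IsQuasistableGraph ends w)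
    (hg : 2 ≤ genus ends w) (S : Finset V) (hS : ∀ v ∈ S, IsExceptional ends w v)
    (dt : V → ℤ) (hzero : ∀ v ∈ S, dt v = 0)
    (hBI : ∀ W : Finset V, Disjoint W S →
      2 * |canDeg ends w Finset.univ * (∑ v ∈ W, dt v) - (∑ v, dt v) * canDeg ends w (Finset.univ.filter (fun v : V => v ∈ W ∨ (v ∈ S ∧ ∀ e : E, ((ends e).1 = v → (ends e).2 ∈ W) ∧ ((ends e).2 = v → (ends e).1 ∈ W))))|
        ≤ (cut ends (Finset.univ.filter (fun v : V => v ∈ W ∨ (v ∈ S ∧ ∀ e : E, ((ends e).1 = v → (ends e).2 ∈ W) ∧ ((ends e).2 = v → (ends e).1 ∈ W)))) : ℤ) * canDeg ends w Finset.univ)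
    (hone : ∀ v : V, v ∉ S → IsExceptional ends w v → dt v = 1) :
    SatisfiesBI ends w dt := by
  intro Y
  have hloop : ∀ v ∈ S, ∀ e : E, ends e ≠ (v, v) := fun v hv => (hS v hv).2.1
  have hdeg : ∀ v ∈ S,
      (Finset.univ.filter (fun e : E => (ends e).1 = v ∨ (ends e).2 = v)).card = 2 := by
    intro v hv
    rw [← Groth.Agent.S19034Aux.cutset_single ends v (hloop v hv)]
    exact (hS v hv).2.2
  have hone' : ∀ e : E, (ends e).1 ∈ S → (ends e).2 ∈ S → False := by
    intro e h1 h2
    by_cases heq : (ends e).1 = (ends e).2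
    · exact hloop _ h1 e (Prod.ext rfl heq.symm)
    · exact hZ.2 e heq ⟨hS _ h1, hS _ h2⟩
  set W : Finset V := Y.filter (fun v => v ∉ S) with hWdef
  have hWdisj : Disjoint W S := by
    rw [Finset.disjoint_left]
    intro u hu
    exact (Finset.mem_filter.mp hu).2
  have hYW : ∀ u, u ∉ S → (u ∈ Y ↔ u ∈ W) := by
    intro u hu
    simp [hWdef, hu]
  have hb := hBI W hWdisj
  set What : Finset V := (Finset.univ.filter (fun v : V => v ∈ W ∨ (v ∈ S ∧ ∀ e : E, ((ends e).1 = v → (ends e).2 ∈ W) ∧ ((ends e).2 = v → (ends e).1 ∈ W)))) with hWhat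
  have hWh1 : ∀ u, u ∉ S → (u ∈ What ↔ u ∈ W) := by
    intro u hu
    simp [hWhat, hu]
  have hWh2 : ∀ v ∈ S, (v ∈ What ↔ ∀ e : E,
      ((ends e).1 = v → (ends e).2 ∈ W) ∧ ((ends e).2 = v → (ends e).1 ∈ W)) := by
    intro v hv
    have hvW : v ∉ W := fun h => Finset.disjoint_left.mp hWdisj h hv
    simp [hWhat, hv, hvW]
  have hcut := Groth.Agent.S19034Aux.cut_le ends S hloop hdeg hone' W Y What hWdisj hYW hWh1 hWh2
  have hcan : canDeg ends w Y = canDeg ends w What :=
    Groth.Agent.S19034Aux.canDeg_congr ends w S hS Y What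
      (fun u hu => (hYW u hu).trans (hWh1 u hu).symm)
  have hsum : ∑ v ∈ Y, dt v = ∑ v ∈ W, dt v := by
    rw [hWdef]
    symm
    refine Finset.sum_filter_of_ne fun v _ hne hvS => hne (hzero v hvS)
  have hK : 0 ≤ canDeg ends w Finset.univ := by
    rw [Groth.Agent.S19034Aux.canDeg_univ]; linarith
  rw [hsum, hcan]
  refine hb.trans ?_
  exact mul_le_mul_of_nonneg_right (by exact_mod_cast hcut) hK

end Groth.Agent.S19034
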