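import Groth.Statements.S19035
import Mathlib.RingTheory.Noetherian.Basic
import Mathlib.RingTheory.Polynomial.Basic
import Mathlib.Order.Directed
import Mathlib.Data.Finset.Max
import Mathlib.Tactic
-- import your own Groth.Agent.* helpers here

set_option autoImplicit false
universe u v w x
open CAlg

namespace Groth.Agent.S19035

/-- Let p be a prime and k a perfect field of characteristic p. Let (A_i) be a directed system of
finitely generated commutative k-algebras, indexed by a nonempty directed preorder, with compatible
k-algebra transition maps, and let B be a finitely generated k-algebra with compatible k-algebra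
maps A_i → B which present B as the direct limit of the system (every element of B is the image of
an element of some A_i, and two elements of some A_i with the same image in B have the same image in
some A_j). Then the p-typical Witt vectors commute with this direct limit: every Witt vector over B
is the image of a Witt vector over some A_i, and two Witt vectors over some A_i with the same image
over B already have the same image over some A_j. (Both finiteness hypotheses matter: for an
arbitrary filtered direct limit of commutative rings either assertion can fail.) -/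
theorem result
    (p : ℕ) [Fact p.Prime] (k : Type u) [Field k] [CharP k p] [PerfectRing k p]
    {ι : Type v} [Preorder ι] [IsDirected ι (· ≤ ·)] [Nonempty ι]
    (A : ι → Type w) [∀ i, CommRing (A i)] [∀ i, Algebra k (A i)]
    [∀ i, Algebra.FiniteType k (A i)]
    (f : ∀ i j, i ≤ j → (A i →ₐ[k] A j))
    (hf : ∀ i j l (hij : i ≤ j) (hjl : j ≤ l) (x : A i),
      f j l hjl (f i j hij x) = f i l (hij.trans hjl) x)
    (B : Type x) [CommRing B] [Algebra k B] [Algebra.FiniteType k B]
    (g : ∀ i, A i →ₐ[k] B)
    (hfg : ∀ i j (hij : i ≤ j) (x : A i), g j (f i j hij x) = g i x)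
    (hsurj : ∀ b : B, ∃ i, ∃ x : A i, g i x = b)
    (hinj : ∀ i (x y : A i), g i x = g i y → ∃ j, ∃ hij : i ≤ j, f i j hij x = f i j hij y) :
    (∀ w : WittVector p B, ∃ i, ∃ v : WittVector p (A i),
        WittVector.map (g i).toRingHom v = w) ∧
    (∀ i (v v' : WittVector p (A i)),
        WittVector.map (g i).toRingHom v = WittVector.map (g i).toRingHom v' →
        ∃ j, ∃ hij : i ≤ j,
          WittVector.map (f i j hij).toRingHom v = WittVector.map (f i j hij).toRingHom v') := by
  classical
  constructor
  · -- some g i is surjective
    obtain ⟨s, hs⟩ := (Algebra.FiniteType.out : (⊤ : Subalgebra k B).FG)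
    choose idx xs hxs using hsurj
    obtain ⟨i₀, hi₀⟩ := Finset.exists_le (s.image idx)
    have hrange : (g i₀).range = ⊤ := by
      rw [eq_top_iff, ← hs]
      apply Algebra.adjoin_le
      intro b hb
      have hle : idx b ≤ i₀ := hi₀ _ (Finset.mem_image_of_mem idx hb)
      exact ⟨f (idx b) i₀ hle (xs b), by
        show g i₀ (f (idx b) i₀ hle (xs b)) = b
        rw [hfg, hxs]⟩
    have hsurj' : Function.Surjective (g i₀) := by
      intro b
      have : b ∈ (g i₀).range := by rw [hrange]; trivial
      exact this
    intro w
    choose pre hpre using hsurj'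
    refine ⟨i₀, WittVector.mk p (fun n => pre (w.coeff n)), ?_⟩
    ext n
    rw [WittVector.map_coeff, WittVector.coeff_mk]
    exact hpre _
  · intro i v v' hvv
    have hcoeff : ∀ n, g i (v.coeff n) = g i (v'.coeff n) := by
      intro n
      have := congrArg (fun w => WittVector.coeff w n) hvv
      simpa [WittVector.map_coeff] using this
    haveI : IsNoetherianRing (A i) := Algebra.FiniteType.isNoetherianRing k (A i)
    obtain ⟨t, ht⟩ := (isNoetherianRing_iff_ideal_fg (A i)).1 inferInstance (RingHom.ker (g i).toRingHom)
    have hfin : ∀ t : Finset (A i), (∀ a ∈ t, g i a = 0) →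
        ∃ j, ∃ hij : i ≤ j, ∀ a ∈ t, f i j hij a = 0 := by
      intro t
      induction t using Finset.induction_on with
      | empty => intro _; exact ⟨i, le_refl i, fun a ha => absurd ha (Finset.notMem_empty a)⟩
      | insert a t ha ih =>
        intro h
        obtain ⟨j₁, hij₁, h₁⟩ := ih (fun b hb => h b (Finset.mem_insert_of_mem hb))
        obtain ⟨j₂, hij₂, h₂⟩ := hinj i a 0 (by rw [h a (Finset.mem_insert_self a t), map_zero])
        rw [map_zero] at h₂
        obtain ⟨j, hj₁, hj₂⟩ := exists_ge_ge j₁ j₂
        refine ⟨j, hij₁.trans hj₁, fun b hb => ?_⟩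
        rcases Finset.mem_insert.1 hb with rfl | hb
        · rw [← hf i j₂ j hij₂ hj₂, h₂, map_zero]
        · rw [← hf i j₁ j hij₁ hj₁, h₁ b hb, map_zero]
    obtain ⟨j, hij, hj⟩ := hfin t (fun a ha => by
      have : a ∈ RingHom.ker (g i).toRingHom := by rw [← ht]; exact Ideal.subset_span ha
      exact this)
    refine ⟨j, hij, ?_⟩
    have hker : RingHom.ker (g i).toRingHom ≤ RingHom.ker (f i j hij).toRingHom := by
      rw [← ht, Ideal.span_le]
      intro a ha
      exact hj a ha
    ext n
    rw [WittVector.map_coeff, WittVector.map_coeff]
    have h1 : v.coeff n - v'.coeff n ∈ RingHom.ker (g i).toRingHom := by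
      rw [RingHom.mem_ker, map_sub, sub_eq_zero]
      exact hcoeff n
    have h2 := hker h1
    rw [RingHom.mem_ker, map_sub, sub_eq_zero] at h2
    exact h2

end Groth.Agent.S19035
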