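import Groth.Statements.S19036
import Mathlib

set_option autoImplicit false
universe u
open Instab

namespace Groth.Agent.S19036

open CategoryTheory CategoryTheory.Limits AlgebraicGeometry

/-- Quasi-compactness of the Zariski–Riemann space, in the form of a finite subcover statement. -/
theorem exists_finite_subcover_valuationSubring {K : Type*} [Field K] (P : Set K)
    {I : Type*} (W : I → Finset K)
    (hcov : ∀ O : ValuationSubring K, P ⊆ (O : Set K) → ∃ i, (↑(W i) : Set K) ⊆ (O : Set K)) :
    ∃ F : Finset I, ∀ O : ValuationSubring K, P ⊆ (O : Set K) →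
      ∃ i ∈ F, (↑(W i) : Set K) ⊆ (O : Set K) := by
  classical
  let C : Set (K → Bool) := {χ | χ 0 = true ∧ χ 1 = true ∧
    (∀ a b, χ a = true → χ b = true → χ (a + b) = true) ∧
    (∀ a b, χ a = true → χ b = true → χ (a * b) = true) ∧
    (∀ a, χ a = true → χ (-a) = true) ∧ (∀ a, χ a = true ∨ χ a⁻¹ = true) ∧
    ∀ p ∈ P, χ p = true}
  have hclopen : ∀ a : K, IsClopen {χ : K → Bool | χ a = true} := by
    intro a
    have : {χ : K → Bool | χ a = true} = (fun χ : K → Bool => χ a) ⁻¹' {true} := rfl
    rw [this]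
    exact (isClopen_discrete _).preimage (continuous_apply a)
  have hCclosed : IsClosed C := by
    have h1 : IsClosed {χ : K → Bool | χ 0 = true} := (hclopen 0).isClosed
    have h2 : IsClosed {χ : K → Bool | χ 1 = true} := (hclopen 1).isClosed
    have h3 : IsClosed {χ : K → Bool | ∀ a b, χ a = true → χ b = true → χ (a + b) = true} := by
      simp only [Set.setOf_forall]
      exact isClosed_iInter fun a => isClosed_iInter fun b =>
        isClosed_imp (hclopen a).isOpen (isClosed_imp (hclopen b).isOpen (hclopen _).isClosed)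
    have h4 : IsClosed {χ : K → Bool | ∀ a b, χ a = true → χ b = true → χ (a * b) = true} := by
      simp only [Set.setOf_forall]
      exact isClosed_iInter fun a => isClosed_iInter fun b =>
        isClosed_imp (hclopen a).isOpen (isClosed_imp (hclopen b).isOpen (hclopen _).isClosed)
    have h5 : IsClosed {χ : K → Bool | ∀ a, χ a = true → χ (-a) = true} := by
      simp only [Set.setOf_forall]
      exact isClosed_iInter fun a => isClosed_imp (hclopen a).isOpen (hclopen _).isClosed
    have h6 : IsClosed {χ : K → Bool | ∀ a, χ a = true ∨ χ a⁻¹ = true} := by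
      simp only [Set.setOf_forall]
      exact isClosed_iInter fun a => (hclopen a).isClosed.union (hclopen _).isClosed
    have h7 : IsClosed {χ : K → Bool | ∀ p ∈ P, χ p = true} := by
      simp only [Set.setOf_forall]
      exact isClosed_iInter fun a => isClosed_iInter fun _ => (hclopen a).isClosed
    exact h1.inter (h2.inter (h3.inter (h4.inter (h5.inter (h6.inter h7)))))
  have hCcompact : IsCompact C := hCclosed.isCompact
  let N : I → Set (K → Bool) := fun i => {χ | ∀ w ∈ W i, χ w = true}
  have hNopen : ∀ i, IsOpen (N i) := by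
    intro i
    have : N i = ⋂ w ∈ W i, {χ : K → Bool | χ w = true} := by
      ext χ
      simp [N]
    rw [this]
    exact isOpen_biInter_finset fun w _ => (hclopen w).isOpen
  have hCN : C ⊆ ⋃ i, N i := by
    rintro χ ⟨c0, c1, cadd, cmul, cneg, cinv, cP⟩
    let O : ValuationSubring K :=
      { carrier := {a | χ a = true}
        mul_mem' := fun {a b} ha hb => cmul a b ha hb
        one_mem' := c1
        add_mem' := fun {a b} ha hb => cadd a b ha hb
        zero_mem' := c0
        neg_mem' := fun {a} ha => cneg a ha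
        mem_or_inv_mem' := cinv }
    obtain ⟨i, hi⟩ := hcov O (fun p hp => cP p hp)
    exact Set.mem_iUnion.mpr ⟨i, fun w hw => hi hw⟩
  obtain ⟨F, hF⟩ := hCcompact.elim_finite_subcover N hNopen hCN
  refine ⟨F, fun O hPO => ?_⟩
  let χ : K → Bool := fun a => decide (a ∈ O)
  have hχ : χ ∈ C := by
    refine ⟨?_, ?_, ?_, ?_, ?_, ?_, ?_⟩
    · simp [χ, O.zero_mem]
    · simp [χ, O.one_mem]
    · intro a b ha hb
      simp only [χ, decide_eq_true_eq] at ha hb ⊢
      exact O.add_mem _ _ ha hb
    · intro a b ha hb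
      simp only [χ, decide_eq_true_eq] at ha hb ⊢
      exact O.mul_mem _ _ ha hb
    · intro a ha
      simp only [χ, decide_eq_true_eq] at ha ⊢
      exact O.neg_mem _ ha
    · intro a
      simp only [χ, decide_eq_true_eq]
      exact O.mem_or_inv_mem a
    · intro p hp
      simp only [χ, decide_eq_true_eq]
      exact hPO hp
  obtain ⟨i, hiF, hi⟩ := Set.mem_iUnion₂.mp (hF hχ)
  refine ⟨i, hiF, fun w hw => ?_⟩
  have := hi w hw
  simpa [χ] using this

lemma exists_finset_of_finiteType {A B : Type*} [CommRing A] [CommRing B] (φ : A →+* B)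
    (h : φ.FiniteType) :
    ∃ s : Finset B, ∀ T : Subring B, (∀ a, φ a ∈ T) → (↑s : Set B) ⊆ T → ∀ b, b ∈ T := by
  letI := φ.toAlgebra
  obtain ⟨s, hs⟩ := (h : Algebra.FiniteType A B).out
  refine ⟨s, fun T hT hsT b => ?_⟩
  let T' : Subalgebra A B := { T with algebraMap_mem' := fun a => hT a }
  have h1 : Algebra.adjoin A (↑s : Set B) ≤ T' := Algebra.adjoin_le hsT
  rw [hs] at h1
  exact h1 (Algebra.mem_top (x := b))

/-- Over an affine base, the second equation of a lift of a valuative square follows from the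
first. -/
lemma comp_eq_of_fac_left {X : Scheme.{u}} {R : CommRingCat.{u}} (f : X ⟶ Spec R)
    {K : Type u} [Field K] (O : ValuationSubring K)
    (i₁ : Spec (CommRingCat.of K) ⟶ X) (i₂ : Spec (CommRingCat.of O) ⟶ Spec R)
    (hsq : i₁ ≫ f = Spec.map (CommRingCat.ofHom (algebraMap O K)) ≫ i₂)
    (l : Spec (CommRingCat.of O) ⟶ X)
    (hl : Spec.map (CommRingCat.ofHom (algebraMap O K)) ≫ l = i₁) : l ≫ f = i₂ := by
  obtain ⟨α, hα⟩ := Spec.map_surjective (l ≫ f)
  obtain ⟨β, hβ⟩ := Spec.map_surjective i₂
  rw [← hα, ← hβ]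
  congr 1
  have h1 : Spec.map (α ≫ CommRingCat.ofHom (algebraMap O K)) =
      Spec.map (β ≫ CommRingCat.ofHom (algebraMap O K)) := by
    rw [Spec.map_comp, Spec.map_comp, hα, hβ, ← hsq, ← Category.assoc, hl]
  have h2 := Spec.map_injective h1
  ext r
  have h3 := congrArg (fun t => t.hom r) h2
  exact h3

open IsLocalRing in
theorem exists_finset_affineOpens {X : Scheme.{u}} {R : CommRingCat.{u}} (f : X ⟶ Spec R)
    [LocallyOfFiniteType f] (hf : ValuativeCriterion f) (η : X) :
    ∃ t : Finset X.affineOpens, {x : X | η ⤳ x} ⊆ ⋃ U ∈ t, ((U : X.Opens) : Set X) := by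
  classical
  let K : Type u := X.residueField η
  let i₁ : Spec (CommRingCat.of K) ⟶ X := X.fromSpecResidueField η
  let ρ : R ⟶ CommRingCat.of K := Spec.preimage (i₁ ≫ f)
  have hρ : Spec.map ρ = i₁ ≫ f := Spec.map_preimage _
  let I := {U : X.affineOpens // η ∈ (U : X.Opens)}
  let can : ∀ U : I, Γ(X, (U.1 : X.Opens)) ⟶ CommRingCat.of K :=
    fun U => X.presheaf.germ (U.1 : X.Opens) η U.2 ≫ X.residue η
  have hcan : ∀ U : I, Spec.map (can U) ≫ U.1.2.fromSpec = i₁ := by
    intro U
    change Spec.map (X.presheaf.germ (U.1 : X.Opens) η U.2 ≫ X.residue η) ≫ U.1.2.fromSpec =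
      X.fromSpecResidueField η
    rw [Spec.map_comp, Category.assoc, Scheme.fromSpecResidueField,
      ← U.1.2.fromSpecStalk_eq_fromSpecStalk U.2]
    rfl
  let θ : ∀ U : I, R ⟶ Γ(X, (U.1 : X.Opens)) := fun U => Spec.preimage (U.1.2.fromSpec ≫ f)
  have hθ : ∀ U : I, Spec.map (θ U) = U.1.2.fromSpec ≫ f := fun U => Spec.map_preimage _
  have hθcan : ∀ U : I, θ U ≫ can U = ρ := by
    intro U
    apply Spec.map_injective
    rw [Spec.map_comp, hθ, ← Category.assoc, hcan, hρ]
  have hft : ∀ U : I, (θ U).hom.FiniteType := by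
    intro U
    rw [← HasRingHomProperty.Spec_iff (P := @LocallyOfFiniteType), hθ]
    infer_instance
  choose s hs using fun U : I => exists_finset_of_finiteType (θ U).hom (hft U)
  let W : I → Finset K := fun U => (s U).image (can U).hom
  -- the valuative square attached to a valuation subring containing the image of `R`
  have hsq : ∀ (O : ValuationSubring K) (hO : ∀ r, ρ.hom r ∈ O.toSubring),
      i₁ ≫ f = Spec.map (CommRingCat.ofHom (algebraMap O K)) ≫
        Spec.map (CommRingCat.ofHom (ρ.hom.codRestrict O.toSubring hO)) := by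
    intro O hO
    rw [← hρ, ← Spec.map_comp]
    rfl
  -- every lift has its centre in an affine open `U`, and then `can U` lands in `O`
  have hA : ∀ (O : ValuationSubring K) (l : Spec (CommRingCat.of O) ⟶ X)
      (hl : Spec.map (CommRingCat.ofHom (algebraMap O K)) ≫ l = i₁) (U : X.affineOpens)
      (hU : l (closedPoint O) ∈ (U : X.Opens)),
      ∃ hη : η ∈ (U : X.Opens), ∀ b, (can ⟨U, hη⟩).hom b ∈ O := by
    intro O l hl U hU
    have htop : l ⁻¹ᵁ (U : X.Opens) = ⊤ := Scheme.preimage_eq_top_of_closedPoint_mem l hU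
    have hrange : Set.range l ⊆ Set.range U.2.fromSpec := by
      rw [U.2.range_fromSpec]
      rintro _ ⟨z, rfl⟩
      have : z ∈ l ⁻¹ᵁ (U : X.Opens) := by rw [htop]; trivial
      exact this
    have hη : η ∈ (U : X.Opens) := by
      have h1 : i₁ (closedPoint K) = η := Scheme.fromSpecResidueField_apply _ _
      have h2 : l (Spec.map (CommRingCat.ofHom (algebraMap O K)) (closedPoint K)) = η := by
        rw [← Scheme.Hom.comp_apply, hl, h1]
      have h3 := hrange ⟨Spec.map (CommRingCat.ofHom (algebraMap O K)) (closedPoint K), rfl⟩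
      rw [U.2.range_fromSpec, h2] at h3
      exact h3
    refine ⟨hη, ?_⟩
    let l₀ := IsOpenImmersion.lift U.2.fromSpec l hrange
    have hl₀ : l₀ ≫ U.2.fromSpec = l := IsOpenImmersion.lift_fac _ _ _
    obtain ⟨β, hβ⟩ := Spec.map_surjective l₀
    have h1 : Spec.map (β ≫ CommRingCat.ofHom (algebraMap O K)) = Spec.map (can ⟨U, hη⟩) := by
      rw [← cancel_mono U.2.fromSpec, hcan, Spec.map_comp, Category.assoc, hβ, hl₀, hl]
    have h2 := Spec.map_injective h1
    intro b
    have h3 := congrArg (fun t => t.hom b) h2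
    change (can ⟨U, hη⟩).hom b ∈ O
    rw [← h3]
    exact (β.hom b).2
  have hcov : ∀ O : ValuationSubring K, Set.range ρ.hom ⊆ (O : Set K) →
      ∃ U : I, (↑(W U) : Set K) ⊆ (O : Set K) := by
    intro O hO
    have hO' : ∀ r, ρ.hom r ∈ O.toSubring := fun r => hO ⟨r, rfl⟩
    let S : ValuativeCommSq f :=
      { R := O, K := K, i₁ := i₁,
        i₂ := Spec.map (CommRingCat.ofHom (ρ.hom.codRestrict O.toSubring hO')),
        commSq := ⟨hsq O hO'⟩ }
    obtain ⟨l⟩ := (hf.existence S).exists_lift
    obtain ⟨U, hU, hxU, -⟩ := TopologicalSpace.Opens.isBasis_iff_nbhd.mp X.isBasis_affineOpens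
      (show l.l (closedPoint O) ∈ (⊤ : X.Opens) from trivial)
    obtain ⟨hη, hb⟩ := hA O l.l l.fac_left ⟨U, hU⟩ hxU
    refine ⟨⟨⟨U, hU⟩, hη⟩, ?_⟩
    intro w hw
    obtain ⟨b, -, rfl⟩ := Finset.mem_image.mp (Finset.mem_coe.mp hw)
    exact hb b
  obtain ⟨F, hF⟩ := exists_finite_subcover_valuationSubring (Set.range ρ.hom) W hcov
  refine ⟨F.image Subtype.val, ?_⟩
  intro x hx
  have hηx : η ⤳ x := hx
  -- a valuation ring of `K` dominating the local ring at `x`
  let φ : X.presheaf.stalk x ⟶ X.residueField η :=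
    X.presheaf.stalkSpecializes hηx ≫ X.residue η
  obtain ⟨O, hOφ, hOloc⟩ := exists_factor_valuationRing φ.hom
  let ψ : X.presheaf.stalk x ⟶ CommRingCat.of O := CommRingCat.ofHom (φ.hom.codRestrict _ hOφ)
  let l'' : Spec (CommRingCat.of O) ⟶ X := Spec.map ψ ≫ X.fromSpecStalk x
  have hl''c : l'' (closedPoint O) = x := by
    have h1 : Spec.map ψ (closedPoint O) = closedPoint (X.presheaf.stalk x) :=
      comap_closedPoint (S := O) (φ.hom.codRestrict O.toSubring hOφ)
    change (Spec.map ψ ≫ X.fromSpecStalk x) (closedPoint O) = x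
    rw [Scheme.Hom.comp_apply, h1, X.fromSpecStalk_closedPoint]
  have hl'' : Spec.map (CommRingCat.ofHom (algebraMap O K)) ≫ l'' = i₁ := by
    change Spec.map (CommRingCat.ofHom (algebraMap O K)) ≫ Spec.map ψ ≫ X.fromSpecStalk x =
      X.fromSpecResidueField η
    rw [Scheme.fromSpecResidueField, ← Scheme.SpecMap_stalkSpecializes_fromSpecStalk hηx]
    simp_rw [← Spec.map_comp_assoc]
    rfl
  -- `O` contains the image of `R`
  have hO : Set.range ρ.hom ⊆ (O : Set K) := by
    obtain ⟨α, hα⟩ := Spec.map_surjective (l'' ≫ f)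
    have h1 : Spec.map ρ = Spec.map (α ≫ CommRingCat.ofHom (algebraMap O K)) := by
      rw [hρ, Spec.map_comp, hα, ← Category.assoc, hl'']
    have h2 := Spec.map_injective h1
    rintro _ ⟨r, rfl⟩
    have h3 := congrArg (fun t => t.hom r) h2
    change ρ.hom r ∈ O
    rw [h3]
    exact (α.hom r).2
  have hO' : ∀ r, ρ.hom r ∈ O.toSubring := fun r => hO ⟨r, rfl⟩
  obtain ⟨U, hUF, hWU⟩ := hF O hO
  -- `can U` lands in `O`
  have hcanO : ∀ b, (can U).hom b ∈ O.toSubring := by
    refine hs U (O.toSubring.comap (can U).hom) (fun r => ?_) (fun b hb => ?_)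
    · change (can U).hom ((θ U).hom r) ∈ O
      have : (can U).hom ((θ U).hom r) = ρ.hom r := by
        rw [← hθcan U]; rfl
      rw [this]
      exact hO' r
    · change (can U).hom b ∈ O
      exact hWU (Finset.mem_coe.mpr (Finset.mem_image_of_mem _ hb))
  let l' : Spec (CommRingCat.of O) ⟶ X :=
    Spec.map (CommRingCat.ofHom ((can U).hom.codRestrict O.toSubring hcanO)) ≫ U.1.2.fromSpec
  have hl' : Spec.map (CommRingCat.ofHom (algebraMap O K)) ≫ l' = i₁ := by
    change Spec.map (CommRingCat.ofHom (algebraMap O K)) ≫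
      Spec.map (CommRingCat.ofHom ((can U).hom.codRestrict O.toSubring hcanO)) ≫ U.1.2.fromSpec = i₁
    rw [← hcan U, ← Spec.map_comp_assoc]
    rfl
  let S : ValuativeCommSq f :=
    { R := O, K := K, i₁ := i₁,
      i₂ := Spec.map (CommRingCat.ofHom (ρ.hom.codRestrict O.toSubring hO')),
      commSq := ⟨hsq O hO'⟩ }
  have huniq := hf.uniqueness S
  let L' : S.commSq.LiftStruct :=
    ⟨l', hl', comp_eq_of_fac_left f O i₁ _ (hsq O hO') l' hl'⟩
  let L'' : S.commSq.LiftStruct :=
    ⟨l'', hl'', comp_eq_of_fac_left f O i₁ _ (hsq O hO') l'' hl''⟩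
  have hLL : L' = L'' := Subsingleton.elim _ _
  have hll : l' = l'' := congrArg CommSq.LiftStruct.l hLL
  have hxU : x ∈ ((U.1 : X.affineOpens) : X.Opens) := by
    rw [← hl''c, ← hll]
    have h5 : l' (closedPoint O) = U.1.2.fromSpec
        (Spec.map (CommRingCat.ofHom ((can U).hom.codRestrict O.toSubring hcanO))
          (closedPoint O)) := Scheme.Hom.comp_apply _ _ _
    have h6 : l' (closedPoint O) ∈ Set.range U.1.2.fromSpec := ⟨_, h5.symm⟩
    rwa [U.1.2.range_fromSpec] at h6
  exact Set.mem_iUnion₂.mpr ⟨U.1, Finset.mem_image_of_mem _ hUF, hxU⟩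

theorem compactSpace_of_valuativeCriterion {X : Scheme.{u}} {R : CommRingCat.{u}}
    (f : X ⟶ Spec R) [LocallyOfFiniteType f] (hf : ValuativeCriterion f) (H : Set X)
    (hH : H.Finite) (hcover : ∀ x : X, ∃ η ∈ H, η ⤳ x) : CompactSpace X := by
  choose t ht using fun η : X => exists_finset_affineOpens f hf η
  have hcompact : IsCompact (⋃ η ∈ H, ⋃ U ∈ t η, ((U : X.Opens) : Set X)) :=
    hH.isCompact_biUnion fun η _ => (t η).isCompact_biUnion fun U _ => U.2.isCompact
  have huniv : (⋃ η ∈ H, ⋃ U ∈ t η, ((U : X.Opens) : Set X)) = Set.univ := by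
    rw [Set.eq_univ_iff_forall]
    intro x
    obtain ⟨η, hηH, hηx⟩ := hcover x
    exact Set.mem_iUnion₂.mpr ⟨η, hηH, ht η hηx⟩
  rw [huniv] at hcompact
  exact ⟨hcompact⟩

theorem uniqueness_pullback_snd {X Y Y' : Scheme.{u}} (f : X ⟶ Y) (g : Y' ⟶ Y)
    (hf : ValuativeCriterion.Uniqueness f) :
    ValuativeCriterion.Uniqueness (pullback.snd f g) := by
  intro S'
  constructor
  intro l₁ l₂
  let S : ValuativeCommSq f :=
    { R := S'.R, K := S'.K, i₁ := S'.i₁ ≫ pullback.fst f g, i₂ := S'.i₂ ≫ g,
      commSq := ⟨by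
        rw [Category.assoc, pullback.condition, ← Category.assoc, S'.commSq.w, Category.assoc]⟩ }
  have huniq := hf S
  let L₁ : S.commSq.LiftStruct :=
    ⟨l₁.l ≫ pullback.fst f g, by rw [← Category.assoc, l₁.fac_left],
      by rw [Category.assoc, pullback.condition, ← Category.assoc, l₁.fac_right]⟩
  let L₂ : S.commSq.LiftStruct :=
    ⟨l₂.l ≫ pullback.fst f g, by rw [← Category.assoc, l₂.fac_left],
      by rw [Category.assoc, pullback.condition, ← Category.assoc, l₂.fac_right]⟩
  have hLL : L₁ = L₂ := Subsingleton.elim _ _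
  have h1 : l₁.l ≫ pullback.fst f g = l₂.l ≫ pullback.fst f g :=
    congrArg CommSq.LiftStruct.l hLL
  have h2 : l₁.l ≫ pullback.snd f g = l₂.l ≫ pullback.snd f g := by
    rw [l₁.fac_right, l₂.fac_right]
  have h3 : l₁.l = l₂.l := pullback.hom_ext h1 h2
  cases l₁
  cases l₂
  congr

theorem exists_finite_generic {X : Scheme.{u}} (hX : (irreducibleComponents ↥X).Finite) :
    ∃ H : Set X, H.Finite ∧ ∀ x : X, ∃ η ∈ H, η ⤳ x := by
  refine ⟨⋃ Z ∈ irreducibleComponents ↥X, {η | IsGenericPoint η Z}, ?_, ?_⟩
  · refine hX.biUnion fun Z _ => Set.Subsingleton.finite ?_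
    intro a ha b hb
    exact IsGenericPoint.eq ha hb
  · intro x
    have hZ : irreducibleComponent x ∈ irreducibleComponents ↥X :=
      irreducibleComponent_mem_irreducibleComponents x
    obtain ⟨η, hη⟩ := QuasiSober.sober (isIrreducible_irreducibleComponent (x := x))
      isClosed_irreducibleComponent
    refine ⟨η, Set.mem_iUnion₂.mpr ⟨_, hZ, hη⟩, ?_⟩
    rw [specializes_iff_mem_closure, hη.def]
    exact mem_irreducibleComponent

open CategoryTheory AlgebraicGeometry in
/-- Let f : X → Y be a morphism of schemes which is locally of finite presentation, and for which the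
valuative criterion holds (every valuative square over a valuation ring has exactly one lift). When
X has only finitely many irreducible components, the morphism f is quasi-compact. (The source states
this for algebraic spaces and adds that f is then proper; universal closedness follows from
quasi-compactness and the existence part by the standard criterion, and separatedness from the
uniqueness part once f is quasi-separated. Only the scheme case and the quasi-compactness conclusion
are stated here.) -/
theorem result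
    {X Y : Scheme.{u}} (f : X ⟶ Y) [LocallyOfFinitePresentation f]
    (hf : ValuativeCriterion f) (hX : (irreducibleComponents ↥X).Finite) :
    QuasiCompact f := by
  obtain ⟨H, hHfin, hH⟩ := exists_finite_generic hX
  rw [IsZariskiLocalAtTarget.iff_of_openCover (P := @QuasiCompact) Y.affineOpenCover.openCover]
  intro i
  change QuasiCompact (pullback.snd f (Y.affineOpenCover.f i))
  have hlft : LocallyOfFiniteType (pullback.snd f (Y.affineOpenCover.f i)) := inferInstance
  have hval : ValuativeCriterion (pullback.snd f (Y.affineOpenCover.f i)) := by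
    rw [ValuativeCriterion.iff]
    exact ⟨MorphismProperty.pullback_snd (P := ValuativeCriterion.Existence) _ _ hf.existence,
      uniqueness_pullback_snd f _ hf.uniqueness⟩
  have hopen : Topology.IsOpenEmbedding (pullback.fst f (Y.affineOpenCover.f i)) :=
    (pullback.fst f (Y.affineOpenCover.f i)).isOpenEmbedding
  have hcpt : CompactSpace ↥(pullback f (Y.affineOpenCover.f i)) := by
    refine compactSpace_of_valuativeCriterion (pullback.snd f (Y.affineOpenCover.f i)) hval
      ((pullback.fst f (Y.affineOpenCover.f i)) ⁻¹' H)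
      (hHfin.preimage hopen.injective.injOn) ?_
    intro x'
    obtain ⟨η, hηH, hηx⟩ := hH (pullback.fst f (Y.affineOpenCover.f i) x')
    have hηr : η ∈ Set.range (pullback.fst f (Y.affineOpenCover.f i)) :=
      hηx.mem_open hopen.isOpen_range ⟨x', rfl⟩
    obtain ⟨η', rfl⟩ := hηr
    exact ⟨η', hηH, hopen.isInducing.specializes_iff.mp hηx⟩
  exact (HasAffineProperty.iff_of_isAffine (P := @QuasiCompact)).mpr hcpt

end Groth.Agent.S19036
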