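import Groth.Statements.S19037
import Mathlib.Tactic
-- import your own Groth.Agent.* helpers here

set_option autoImplicit false
universe u v
open scoped Polynomial LaurentPolynomial
open Instab

namespace Groth.Agent.S19037

/-- Affine form over a ring R. Let A be a commutative ℤ-graded R-algebra and t an element of degree −1
(so A is a graded algebra over R[t] with t in degree −1), and let ψ : A[1/t] → R[T, T⁻¹] be an
R-algebra map sending t to T which is graded, in the sense that each homogeneous element of degree n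
of A goes to an element of R times T^(−n). Then ψ is obtained by inverting t from an R-algebra map χ
: A → R[T] (compared through the inclusion of R[T] in R[T, T⁻¹]) if and only if ψ kills t·a for
every homogeneous a of degree 1; such a χ is unique. (The source states this for quasi-coherent
graded algebras over an arbitrary base scheme; the statement is local on the base and is given here
over an affine base.) -/
theorem result
    {R : Type u} {A : Type v} [CommRing R] [CommRing A] [Algebra R A]
    (𝒜 : ℤ → Submodule R A) [GradedAlgebra 𝒜] (t : A) (ht : t ∈ 𝒜 (-1))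
    (ψ : Localization.Away t →ₐ[R] R[T;T⁻¹])
    (hψt : ψ (algebraMap A (Localization.Away t) t) = LaurentPolynomial.T 1)
    (hψ : ∀ (n : ℤ) (a : A), a ∈ 𝒜 n →
      ∃ r : R, ψ (algebraMap A (Localization.Away t) a) = LaurentPolynomial.C r * LaurentPolynomial.T (-n)) :
    (∃! χ : A →ₐ[R] R[X], ∀ a : A,
        ψ (algebraMap A (Localization.Away t) a) = Polynomial.toLaurentAlg (χ a)) ↔
      ∀ a ∈ 𝒜 1, ψ (algebraMap A (Localization.Away t) (t * a)) = 0 := by
  classical
  set φ : A →ₐ[R] R[T;T⁻¹] := ψ.comp (IsScalarTower.toAlgHom R A (Localization.Away t)) with hφ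
  have hφa : ∀ a : A, φ a = ψ (algebraMap A (Localization.Away t) a) := fun a => rfl
  have hinjL : Function.Injective (Polynomial.toLaurentAlg : R[X] →ₐ[R] R[T;T⁻¹]) := by
    intro x y hxy
    rw [Polynomial.toLaurentAlg_apply, Polynomial.toLaurentAlg_apply] at hxy
    exact Polynomial.toLaurent_injective hxy
  constructor
  · rintro ⟨χ, hχ, -⟩ a ha
    obtain ⟨r, hr⟩ := hψ 1 a ha
    have h1 := hχ a
    rw [hr, Polynomial.toLaurentAlg_apply] at h1
    have h2 := congrArg LaurentPolynomial.trunc h1
    rw [Polynomial.trunc_toLaurent, LaurentPolynomial.trunc_C_mul_T, if_neg (by norm_num)] at h2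
    rw [map_mul, map_mul, hχ a, ← h2, map_zero, mul_zero]
  · intro h
    have hunit : ∀ (n : ℤ) (x : R[T;T⁻¹]), LaurentPolynomial.T n * x = 0 → x = 0 := by
      intro n x hx
      have := congrArg (fun y => LaurentPolynomial.T (-n) * y) hx
      simp only [← mul_assoc, ← LaurentPolynomial.T_add, neg_add_cancel, LaurentPolynomial.T_zero,
        one_mul, mul_zero] at this
      exact this
    have hpow : ∀ m : ℕ, φ (t ^ m) = LaurentPolynomial.T m := by
      intro m
      rw [map_pow, hφa, hψt, LaurentPolynomial.T_pow, mul_one]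
    have hpos : ∀ (n : ℤ) (a : A), 1 ≤ n → a ∈ 𝒜 n → φ a = 0 := by
      intro n a hn ha
      obtain ⟨m, rfl⟩ : ∃ m : ℕ, n = (m : ℤ) + 1 := ⟨(n - 1).toNat, by omega⟩
      have htm : t ^ m ∈ 𝒜 (m • (-1 : ℤ)) := SetLike.pow_mem_graded m ht
      have hmem : t ^ m * a ∈ 𝒜 1 := by
        have := SetLike.mul_mem_graded htm ha
        have e : m • (-1 : ℤ) + ((m : ℤ) + 1) = 1 := by simp
        rwa [e] at this
      have h0 := h _ hmem
      rw [← hφa, map_mul, map_mul, hpow, hφa t, hψt] at h0
      rw [← mul_assoc, ← LaurentPolynomial.T_add] at h0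
      exact hunit _ _ h0
    have hrange : ∀ a : A, φ a ∈ (Polynomial.toLaurentAlg : R[X] →ₐ[R] R[T;T⁻¹]).range := by
      intro a
      rw [← DirectSum.sum_support_decompose 𝒜 a, map_sum]
      apply Subalgebra.sum_mem
      intro n _
      have hmem : ((DirectSum.decompose 𝒜 a n : 𝒜 n) : A) ∈ 𝒜 n := (DirectSum.decompose 𝒜 a n).2
      by_cases hn : 1 ≤ n
      · rw [hpos n _ hn hmem]
        exact Subalgebra.zero_mem _
      · obtain ⟨r, hr⟩ := hψ n _ hmem
        rw [hφa, hr]
        obtain ⟨m, hm⟩ : ∃ m : ℕ, -n = (m : ℤ) := ⟨(-n).toNat, by omega⟩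
        refine ⟨Polynomial.monomial m r, ?_⟩
        rw [hm]
        show Polynomial.toLaurentAlg (Polynomial.monomial m r) = _
        rw [Polynomial.toLaurentAlg_apply, Polynomial.toLaurent_C_mul_T]
    let e := AlgEquiv.ofInjective (Polynomial.toLaurentAlg : R[X] →ₐ[R] R[T;T⁻¹]) hinjL
    let χ : A →ₐ[R] R[X] := (e.symm : _ →ₐ[R] R[X]).comp (φ.codRestrict _ hrange)
    have hχ : ∀ a, ψ (algebraMap A (Localization.Away t) a) = Polynomial.toLaurentAlg (χ a) := by
      intro a
      have : (e (e.symm (φ.codRestrict _ hrange a)) : R[T;T⁻¹]) = φ a := by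
        rw [AlgEquiv.apply_symm_apply]; rfl
      rw [← hφa, ← this]
      rfl
    refine ⟨χ, hχ, ?_⟩
    intro χ' hχ'
    ext1 a
    apply hinjL
    rw [← hχ, ← hχ']

end Groth.Agent.S19037
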