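import Groth.Statements.S19039
import Mathlib
import Groth.Agent.Lib.Helper18.SpAlg
import Groth.Agent.Lib.Helper18.EqvHomSheaf

set_option autoImplicit false
universe u
open Instab

namespace Groth.Agent.S19039


open CategoryTheory MonoidalCategory CartesianMonoidalCategory MonObj GrpObj AlgebraicGeometry
open CategoryTheory.Limits TensorProduct
open Groth.Agent.Lib.Helper18.FpqcOver Groth.Agent.Lib.Helper18.SchDom
  Groth.Agent.Lib.Helper18.SpAlg Groth.Agent.Lib.Helper18.LineAlg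
  Groth.Agent.Lib.Helper18.EqvHomSheaf

noncomputable local instance braidedAlgSpecOf' (R : Type u) [CommRing R] :
    (algSpec (CommRingCat.of R)).Braided :=
  braidedAlgSpec

variable (R : Type u) [CommRing R]

/-- the inclusion `G_m → A¹`. -/
noncomputable abbrev jj : ThetaS.Gm R ⟶ ThetaS.Line R :=
  (CoactBr.pt (ThetaS.linePt (ThetaS.zPow R 1)) : ThetaS.Gm R ⟶ ThetaS.Line R)

noncomputable abbrev inl' : ThetaS.Lau R →ₐ[R] ThetaS.Lau R ⊗[R] ThetaS.Lau R :=
  Algebra.TensorProduct.includeLeft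

noncomputable abbrev inr' : ThetaS.Lau R →ₐ[R] ThetaS.Lau R ⊗[R] ThetaS.Lau R :=
  Algebra.TensorProduct.includeRight

theorem isIso_lift_pt :
    IsIso (lift (CoactBr.pt (inl' R)) (CoactBr.pt (inr' R)) :
      CoactBr.sp R (ThetaS.Lau R ⊗[R] ThetaS.Lau R) ⟶
        CoactBr.sp R (ThetaS.Lau R) ⊗ CoactBr.sp R (ThetaS.Lau R)) := by
  have h := CoactBr.lift_pt_pt (inl' R) (inr' R)
  have h2 : (Algebra.TensorProduct.lift (inl' R) (inr' R) fun _ _ => .all _ _) =
      AlgHom.id R (ThetaS.Lau R ⊗[R] ThetaS.Lau R) := by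
    apply Algebra.TensorProduct.ext'
    intro a b
    simp
  rw [h2, CoactBr.pt_id] at h
  have hiso : IsIso (Functor.LaxMonoidal.μ (algSpec (CommRingCat.of R))
      (Opposite.op (.of R (ThetaS.Lau R))) (Opposite.op (.of R (ThetaS.Lau R)))) :=
    (inferInstance : IsIso (Functor.Monoidal.μIso (algSpec (CommRingCat.of R))
      (Opposite.op (.of R (ThetaS.Lau R))) (Opposite.op (.of R (ThetaS.Lau R)))).hom)
  have h3 := @IsIso.eq_inv_of_inv_hom_id _ _ _ _ _ hiso _ h
  rw [h3]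
  exact @IsIso.inv_isIso _ _ _ _ _ hiso

theorem comp_linePt {A : Type u} [CommRing A] [Algebra R A] (ψ : ThetaS.Lau R →ₐ[R] A) :
    ψ.comp (ThetaS.linePt (ThetaS.zPow R 1)) = ThetaS.linePt (ψ (ThetaS.zPow R 1)) := by
  apply Polynomial.algHom_ext
  simp [ThetaS.linePt]

theorem pt_comp_jj {A : Type u} [CommRing A] [Algebra R A] (ψ : ThetaS.Lau R →ₐ[R] A) :
    (CoactBr.pt ψ : CoactBr.sp R A ⟶ ThetaS.Gm R) ≫ jj R =
      CoactBr.pt (ThetaS.linePt (ψ (ThetaS.zPow R 1))) := by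
  rw [← comp_linePt]
  exact (CoactBr.pt_comp _ _).symm

theorem jj_univ : (ThetaS.Gm R ◁ jj R) ≫ (ThetaS.lineAction R).act = μ[ThetaS.Gm R] ≫ jj R := by
  have hiso := isIso_lift_pt R
  rw [← cancel_epi (lift (CoactBr.pt (inl' R)) (CoactBr.pt (inr' R)) :
      CoactBr.sp R (ThetaS.Lau R ⊗[R] ThetaS.Lau R) ⟶
        CoactBr.sp R (ThetaS.Lau R) ⊗ CoactBr.sp R (ThetaS.Lau R))]
  have hL : (lift (CoactBr.pt (inl' R)) (CoactBr.pt (inr' R)) :
      CoactBr.sp R (ThetaS.Lau R ⊗[R] ThetaS.Lau R) ⟶ ThetaS.Gm R ⊗ ThetaS.Gm R) ≫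
      (ThetaS.Gm R ◁ jj R) ≫ (ThetaS.lineAction R).act =
      CoactBr.pt (ThetaS.linePt (inl' R (ThetaS.zPow R 1) * inr' R (ThetaS.zPow R 1))) := by
    rw [lift_whiskerLeft_assoc, pt_comp_jj]
    exact ThetaS.lineAction_pt (inl' R) (inr' R (ThetaS.zPow R 1))
  have hR : (lift (CoactBr.pt (inl' R)) (CoactBr.pt (inr' R)) :
      CoactBr.sp R (ThetaS.Lau R ⊗[R] ThetaS.Lau R) ⟶ ThetaS.Gm R ⊗ ThetaS.Gm R) ≫
      μ[ThetaS.Gm R] ≫ jj R =
      CoactBr.pt (ThetaS.linePt (inl' R (ThetaS.zPow R 1) * inr' R (ThetaS.zPow R 1))) := by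
    rw [← Category.assoc]
    have h1 : (lift (CoactBr.pt (inl' R)) (CoactBr.pt (inr' R)) :
        CoactBr.sp R (ThetaS.Lau R ⊗[R] ThetaS.Lau R) ⟶ ThetaS.Gm R ⊗ ThetaS.Gm R) ≫
        μ[ThetaS.Gm R] = CoactBr.pt (inl' R) * CoactBr.pt (inr' R) := (Hom.mul_def _ _).symm
    rw [h1, CoactBr.pt_mul_pt, pt_comp_jj]
    congr 2
    simp only [AlgHom.comp_apply, Bialgebra.comulAlgHom_apply, ThetaS.comul_zPow,
      Algebra.TensorProduct.lift_tmul]
  exact hL.trans hR.symm

theorem jj_eqv {T' : Over (Spec (CommRingCat.of R))} (g h : T' ⟶ ThetaS.Gm R) :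
    lift g (h ≫ jj R) ≫ (ThetaS.lineAction R).act = (g * h) ≫ jj R := by
  rw [Hom.mul_def, Category.assoc, ← jj_univ, lift_whiskerLeft_assoc]

section geom

variable {R}

theorem isAffine_Gm : IsAffine (ThetaS.Gm R).left := inferInstanceAs (IsAffine (Spec _))

theorem isAffine_Line : IsAffine (ThetaS.Line R).left := inferInstanceAs (IsAffine (Spec _))

theorem isAffine_tensor (A T : Over (Spec (CommRingCat.of R))) [IsAffine A.left] [IsAffine T.left] :
    IsAffine (A ⊗ T).left := by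
  change IsAffine (pullback A.hom T.hom)
  infer_instance

theorem quasiCompact_of_isAffine {A B : Scheme.{u}} [IsAffine A] [IsAffine B] (f : A ⟶ B) :
    QuasiCompact f := by
  rw [HasAffineProperty.iff_of_isAffine (P := @QuasiCompact)]
  infer_instance

theorem flat_Gm : Flat (ThetaS.Gm R).hom := by
  change Flat (Spec.map (CommRingCat.ofHom (algebraMap R (ThetaS.Lau R))))
  rw [Flat.SpecMap_iff]
  exact RingHom.flat_algebraMap_iff.mpr inferInstance

theorem dom_jj (T : Over (Spec (CommRingCat.of R))) [IsAffine T.left] :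
    IsSchemeTheoreticallyDominant (jj R ▷ T).left := by
  have hG := isAffine_Gm (R := R)
  have hL := isAffine_Line (R := R)
  have h1 := isAffine_tensor (ThetaS.Gm R) T
  have h2 := isAffine_tensor (ThetaS.Line R) T
  exact schDominant_of_injective_appTop _
    (whiskerRight_pt_injective (ThetaS.linePt (ThetaS.zPow R 1)) (retr R) (retr_aeval R) T)

theorem dom_whisker (T : Over (Spec (CommRingCat.of R))) [IsAffine T.left] :
    IsSchemeTheoreticallyDominant (ThetaS.Gm R ◁ (jj R ▷ T)).left := by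
  have hG := isAffine_Gm (R := R)
  have hL := isAffine_Line (R := R)
  have h1 := isAffine_tensor (ThetaS.Gm R) T
  have h2 := isAffine_tensor (ThetaS.Line R) T
  have := dom_jj T
  have hqc : QuasiCompact (jj R ▷ T).left := quasiCompact_of_isAffine _
  have := flat_Gm (R := R)
  have hfl : Flat (snd (ThetaS.Gm R) (ThetaS.Line R ⊗ T)).left := by
    change Flat (pullback.snd (ThetaS.Gm R).hom (ThetaS.Line R ⊗ T).hom)
    infer_instance
  exact IsSchemeTheoreticallyDominant.of_isPullback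
    (isPullback_whiskerLeft (ThetaS.Gm R) (jj R ▷ T)).flip

end geom

section main

variable {R} {X : Over (Spec (CommRingCat.of R))} (a : AlgGrp.Action (ThetaS.Gm R) X)

theorem hom_ext_lift₃' {C : Type*} [Category C] [CartesianMonoidalCategory C] {P Q Q' Z : C}
    {f g : P ⊗ (Q ⊗ Q') ⟶ Z}
    (h : ∀ (T : C) (p : T ⟶ P) (q : T ⟶ Q) (r : T ⟶ Q'),
      lift p (lift q r) ≫ f = lift p (lift q r) ≫ g) : f = g := by
  have := h (P ⊗ (Q ⊗ Q')) (fst _ _) (snd _ _ ≫ fst _ _) (snd _ _ ≫ snd _ _)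
  simpa [← comp_lift] using this

def Eqv {T : Over (Spec (CommRingCat.of R))} (u : ThetaS.Line R ⊗ T ⟶ X) : Prop :=
  ∀ (T' : Over (Spec (CommRingCat.of R))) (g : T' ⟶ ThetaS.Gm R) (l : T' ⟶ ThetaS.Line R)
    (t : T' ⟶ T),
    lift (lift g l ≫ (ThetaS.lineAction R).act) t ≫ u = lift g (lift l t ≫ u) ≫ a.act

theorem eqv_of_stmt {T : Over (Spec (CommRingCat.of R))} (u : ThetaS.Line R ⊗ T ⟶ X)
    (h : (α_ (ThetaS.Gm R) (ThetaS.Line R) T).inv ≫ ((ThetaS.lineAction R).act ▷ T) ≫ u =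
      (ThetaS.Gm R ◁ u) ≫ a.act) : Eqv a u := by
  intro T' g l t
  have h1 := congrArg (fun k => lift g (lift l t) ≫ k) h
  simp only [lift_lift_associator_inv_assoc, lift_whiskerRight_assoc, lift_whiskerLeft_assoc] at h1
  exact h1

theorem Eqv.whiskerLeft {T T' : Over (Spec (CommRingCat.of R))} (t : T' ⟶ T)
    {u : ThetaS.Line R ⊗ T ⟶ X} (hu : Eqv a u) : Eqv a ((ThetaS.Line R ◁ t) ≫ u) := by
  intro T'' g l t'
  rw [lift_whiskerLeft_assoc, lift_whiskerLeft_assoc]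
  exact hu T'' g l (t' ≫ t)

theorem one_jj_comp {T T' : Over (Spec (CommRingCat.of R))} (t : T' ⟶ T) :
    lift ((1 : T' ⟶ ThetaS.Gm R) ≫ jj R) t =
      t ≫ lift ((1 : T ⟶ ThetaS.Gm R) ≫ jj R) (𝟙 T) := by
  rw [comp_lift, Category.comp_id, ← Category.assoc, MonObj.comp_one]

theorem restrict_eq {T : Over (Spec (CommRingCat.of R))} (u : ThetaS.Line R ⊗ T ⟶ X)
    (hu : Eqv a u) :
    (jj R ▷ T) ≫ u =
      (ThetaS.Gm R ◁ (lift ((1 : T ⟶ ThetaS.Gm R) ≫ jj R) (𝟙 T) ≫ u)) ≫ a.act := by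
  apply Magnet.hom_ext_lift₂
  intro T' g t
  rw [lift_whiskerRight_assoc, lift_whiskerLeft_assoc]
  have h1 := jj_eqv R g (1 : T' ⟶ ThetaS.Gm R)
  rw [_root_.mul_one] at h1
  rw [← h1, hu T' g ((1 : T' ⟶ ThetaS.Gm R) ≫ jj R) t, one_jj_comp, Category.assoc]

theorem partA_affine (T : Over (Spec (CommRingCat.of R))) [IsAffine T.left] [IsSeparated X.hom]
    (u v : ThetaS.Line R ⊗ T ⟶ X) (hu : Eqv a u) (hv : Eqv a v)
    (h1 : lift ((1 : T ⟶ ThetaS.Gm R) ≫ jj R) (𝟙 T) ≫ u =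
      lift ((1 : T ⟶ ThetaS.Gm R) ≫ jj R) (𝟙 T) ≫ v) : u = v := by
  have := dom_jj T
  apply ext_of_schDominant (jj R ▷ T)
  rw [restrict_eq a u hu, restrict_eq a v hv, h1]

theorem isZarCov_affine (T : Over (Spec (CommRingCat.of R))) :
    IsZarCov (T := T) (fun i => Over.mk (T.left.affineCover.f i ≫ T.hom))
      (fun i => (Over.homMk (T.left.affineCover.f i) rfl :
        Over.mk (T.left.affineCover.f i ≫ T.hom) ⟶ T)) :=
  isZarCov_of_cover T.hom T.left.affineCover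

theorem partA (T : Over (Spec (CommRingCat.of R))) [IsSeparated X.hom]
    (u v : ThetaS.Line R ⊗ T ⟶ X) (hu : Eqv a u) (hv : Eqv a v)
    (h1 : lift ((1 : T ⟶ ThetaS.Gm R) ≫ jj R) (𝟙 T) ≫ u =
      lift ((1 : T ⟶ ThetaS.Gm R) ≫ jj R) (𝟙 T) ≫ v) : u = v := by
  have hcov := isZarCov_affine T
  apply (hcov.whiskerLeft (ThetaS.Line R)).hom_ext
  intro i
  have : IsAffine (Over.mk (T.left.affineCover.f i ≫ T.hom)).left :=
    (inferInstance : IsAffine (T.left.affineCover.X i))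
  apply partA_affine a _ _ _ (hu.whiskerLeft a _) (hv.whiskerLeft a _)
  rw [lift_whiskerLeft_assoc, lift_whiskerLeft_assoc, Category.id_comp, one_jj_comp,
    Category.assoc, Category.assoc, h1]

theorem partB_affine (T : Over (Spec (CommRingCat.of R))) [IsAffine T.left] [IsSeparated X.hom]
    (x : T ⟶ X) (u : ThetaS.Line R ⊗ T ⟶ X)
    (h : (jj R ▷ T) ≫ u = (ThetaS.Gm R ◁ x) ≫ a.act) :
    (α_ (ThetaS.Gm R) (ThetaS.Line R) T).inv ≫ ((ThetaS.lineAction R).act ▷ T) ≫ u =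
      (ThetaS.Gm R ◁ u) ≫ a.act := by
  have := dom_whisker T
  apply ext_of_schDominant (ThetaS.Gm R ◁ (jj R ▷ T))
  apply hom_ext_lift₃'
  intro T' g h' t
  have hx : ∀ (g' : T' ⟶ ThetaS.Gm R), lift (g' ≫ jj R) t ≫ u = lift g' (t ≫ x) ≫ a.act := by
    intro g'
    have := congrArg (fun k => lift g' t ≫ k) h
    simp only [lift_whiskerRight_assoc, lift_whiskerLeft_assoc] at this
    exact this
  have E1 : lift g (lift h' t) ≫ (ThetaS.Gm R ◁ (jj R ▷ T)) ≫
      (α_ (ThetaS.Gm R) (ThetaS.Line R) T).inv ≫ ((ThetaS.lineAction R).act ▷ T) ≫ u =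
      lift (g * h') (t ≫ x) ≫ a.act := by
    rw [lift_whiskerLeft_assoc, lift_whiskerRight, lift_lift_associator_inv_assoc,
      lift_whiskerRight_assoc, jj_eqv, hx]
  have E2 : lift g (lift h' t) ≫ (ThetaS.Gm R ◁ (jj R ▷ T)) ≫ (ThetaS.Gm R ◁ u) ≫ a.act =
      lift (g * h') (t ≫ x) ≫ a.act := by
    rw [lift_whiskerLeft_assoc, lift_whiskerRight, lift_whiskerLeft_assoc, hx]
    exact (Magnet.MonAct.lift_mul_act (Magnet.MonAct.ofAction a) g h' (t ≫ x)).symm
  rw [E1, E2]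

theorem partB (T : Over (Spec (CommRingCat.of R))) [IsSeparated X.hom]
    (x : T ⟶ X) (u : ThetaS.Line R ⊗ T ⟶ X)
    (h : (jj R ▷ T) ≫ u = (ThetaS.Gm R ◁ x) ≫ a.act) :
    (α_ (ThetaS.Gm R) (ThetaS.Line R) T).inv ≫ ((ThetaS.lineAction R).act ▷ T) ≫ u =
      (ThetaS.Gm R ◁ u) ≫ a.act := by
  have hcov := isZarCov_affine T
  apply ((hcov.whiskerLeft (ThetaS.Line R)).whiskerLeft (ThetaS.Gm R)).hom_ext
  intro i
  have : IsAffine (Over.mk (T.left.affineCover.f i ≫ T.hom)).left :=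
    (inferInstance : IsAffine (T.left.affineCover.X i))
  let ti : Over.mk (T.left.affineCover.f i ≫ T.hom) ⟶ T :=
    Over.homMk (T.left.affineCover.f i) rfl
  have hi := partB_affine a (Over.mk (T.left.affineCover.f i ≫ T.hom)) (ti ≫ x)
    ((ThetaS.Line R ◁ ti) ≫ u)
    (by rw [← whisker_exchange_assoc, h, ← MonoidalCategory.whiskerLeft_comp_assoc])
  change (ThetaS.Gm R ◁ (ThetaS.Line R ◁ ti)) ≫ _ = (ThetaS.Gm R ◁ (ThetaS.Line R ◁ ti)) ≫ _
  rw [← MonoidalCategory.whiskerLeft_comp_assoc, ← hi, associator_inv_naturality_right_assoc,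
    whisker_exchange_assoc]

end main


open CategoryTheory MonoidalCategory CartesianMonoidalCategory MonObj GrpObj AlgebraicGeometry in
/-- The case n = 1 for a scheme X separated over an affine base Spec R, stated as the two facts that
identify equivariant families with maps whose orbit map extends. Let G_m act on X (a left action a :
G_m × X → X over Spec R) and on A¹ × T through the scaling action on A¹, for an R-scheme T; write j
: G_m → A¹ for the inclusion t ↦ t. (a) If u, v : A¹ × T → X are G_m-equivariant R-morphisms with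
the same restriction to the section {1} × T, then u = v. (b) If x : T → X is an R-morphism and u :
A¹ × T → X is an R-morphism whose restriction along j × T is the orbit family (g, t) ↦ g · x(t),
then u is G_m-equivariant. (The source works with an algebraic space X quasi-separated and locally
of finite presentation over a base B with an action of G_mⁿ and deduces that X⁺ → X is a locally
finitely presented unramified monomorphism; only the elementary identification for n = 1 is stated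
here, which uses separatedness alone.) -/
theorem result
    (R : Type u) [CommRing R] (X : Over (Spec (CommRingCat.of R))) [IsSeparated X.hom]
    (a : AlgGrp.Action (ThetaS.Gm R) X) (T : Over (Spec (CommRingCat.of R))) :
    (∀ u v : ThetaS.Line R ⊗ T ⟶ X,
        (α_ (ThetaS.Gm R) (ThetaS.Line R) T).inv ≫ ((ThetaS.lineAction R).act ▷ T) ≫ u = (ThetaS.Gm R ◁ u) ≫ a.act →
        (α_ (ThetaS.Gm R) (ThetaS.Line R) T).inv ≫ ((ThetaS.lineAction R).act ▷ T) ≫ v = (ThetaS.Gm R ◁ v) ≫ a.act →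
        lift ((1 : T ⟶ ThetaS.Gm R) ≫ (CoactBr.pt (ThetaS.linePt (ThetaS.zPow R 1)) : ThetaS.Gm R ⟶ ThetaS.Line R)) (𝟙 T) ≫ u =
          lift ((1 : T ⟶ ThetaS.Gm R) ≫ (CoactBr.pt (ThetaS.linePt (ThetaS.zPow R 1)) : ThetaS.Gm R ⟶ ThetaS.Line R)) (𝟙 T) ≫ v →
        u = v) ∧
    (∀ (x : T ⟶ X) (u : ThetaS.Line R ⊗ T ⟶ X),
        ((CoactBr.pt (ThetaS.linePt (ThetaS.zPow R 1)) : ThetaS.Gm R ⟶ ThetaS.Line R) ▷ T) ≫ u = (ThetaS.Gm R ◁ x) ≫ a.act →
        (α_ (ThetaS.Gm R) (ThetaS.Line R) T).inv ≫ ((ThetaS.lineAction R).act ▷ T) ≫ u =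
          (ThetaS.Gm R ◁ u) ≫ a.act) := by
  refine ⟨fun u v hu hv h1 => ?_, fun x u h => ?_⟩
  · exact partA a T u v (eqv_of_stmt a u hu) (eqv_of_stmt a v hv) h1
  · exact partB a T x u h

end Groth.Agent.S19039
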