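import Groth.Statements.S19040
import Groth.Agent.Lib.Helper22.FlatCodimFinite
import Groth.Agent.Lib.Helper68.WidePBWP1
import Groth.Agent.Lib.Helper39.WidePBWP2
import Groth.Agent.Lib.Helper90.WidePBWP3
import Groth.Agent.Lib.Helper7.ProjSpaceProper

set_option autoImplicit false
universe u
open CategoryTheory CategoryTheory.Limits AlgebraicGeometry
open Cyc

namespace Groth.Agent.S19040

/-- Let X be an integral Noetherian scheme and n a natural number, let P be the n-fold fibre product
over X of copies of the projective line over X, with structure map to X, and let W be an integral
closed subscheme of P of codimension n, in the sense that the local ring of P at the generic point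
of W has Krull dimension n. If the induced morphism f : W → X is dominant and flat, then f is finite
and surjective, so finite and faithfully flat. (The source works with a Noetherian separated scheme
X of finite dimension over a field k, takes W to be the closure in X ×_k (P^1_k)^n of an integral
closed subscheme Z of codimension n of X × (P^1 minus the point 1)^n, and assumes the closure
dominant and flat over X; such a closure is an integral closed subscheme of codimension n of the
n-fold product of projective lines over X, which is the form stated here, and the field k plays no
role.) -/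
theorem result
    (X : Scheme.{u}) [IsIntegral X] [IsNoetherian X] (n : ℕ)
    (W : Scheme.{u}) [IsIntegral W]
    (i : W ⟶ widePullback X (fun _ : Fin n => CohB1.ProjSpaceOver 1 X)
      (fun _ => CohB1.ProjSpaceOver.toBase 1 X))
    [IsClosedImmersion i]
    (hcodim : ringKrullDim
      ((widePullback X (fun _ : Fin n => CohB1.ProjSpaceOver 1 X)
        (fun _ => CohB1.ProjSpaceOver.toBase 1 X)).presheaf.stalk (i.base (genericPoint W))) = n)
    (f : W ⟶ X)
    (hf : i ≫ WidePullback.base (fun _ : Fin n => CohB1.ProjSpaceOver.toBase 1 X) = f)
    [IsDominant f] [Flat f] :
    IsFinite f ∧ Surjective f := by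
  have hprop : IsProper (WidePullback.base (fun _ : Fin n => CohB1.ProjSpaceOver.toBase 1 X)) :=
    Groth.Agent.Lib.Helper68.WidePBWP1.isProper_wideBase _ _
  refine Groth.Agent.Lib.Helper22.FlatCodimFinite.core
    (WidePullback.base (fun _ : Fin n => CohB1.ProjSpaceOver.toBase 1 X)) n ?_ i hcodim f hf
  intro p
  have := Groth.Agent.Lib.Helper39.WidePBWP2.fibreDimAt_wideBase_le
    (fun _ : Fin n => CohB1.ProjSpaceOver 1 X)
    (fun _ => CohB1.ProjSpaceOver.toBase 1 X) 1
    (fun _ q => Groth.Agent.Lib.Helper90.WidePBWP3.fibreDimAt_projLine_le X q) p
  simpa using this

end Groth.Agent.S19040
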