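import Groth.Statements.S19044
import Groth.Agent.Lib.Helper44.FunFldASDiff2

set_option autoImplicit false
universe u v w
open Classical
open FunFld
open Groth.Agent.Lib.Helper88.FF Groth.Agent.Lib.Helper44.FFExt

namespace Groth.Agent.S19044

/-- The number of `j` with `1 ≤ j` and `2j + 1 ≤ n`. -/
lemma card_aux (n : ℕ) (hn : Odd n) : Nat.card {j : ℕ // 1 ≤ j ∧ 2 * j + 1 ≤ n} = n / 2 ∧
    Finite {j : ℕ // 1 ≤ j ∧ 2 * j + 1 ≤ n} := by
  have e : {j : ℕ // 1 ≤ j ∧ 2 * j + 1 ≤ n} ≃ ↥(Finset.Icc 1 (n / 2)) :=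
    Equiv.subtypeEquivRight (fun j => by
      obtain ⟨m, hm⟩ := hn
      rw [Finset.mem_Icc]; omega)
  refine ⟨?_, Finite.of_equiv _ e.symm⟩
  rw [Nat.card_congr e, Nat.card_eq_fintype_card, Fintype.card_coe, Nat.card_Icc]
  omega

/-- Let `k` be algebraically closed of characteristic `2` and `K = k(x, y)` with `y² + y = f(x)`, `K`
separable of degree `2` over `k(x)`; let `B ⊆ k` be a finite set containing `0` such that `f` has a
pole of odd order `d_α` at `x = α` for every `α ∈ B` and is integral at all other places of `k(x)`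
(so also at infinity), and put `c_α = (d_α - 1)/2`. Then the differentials `z dx` with `z = (x -
α)^{-(j+1)}` (`α ∈ B`, `1 ≤ j ≤ c_α`) and `z = α/(x(x-α))` (`α ∈ B`, `α ≠ 0`) are regular, this
family of `z` is linearly independent over `k`, and every `z` with `z dx` regular is a `k`-linear
combination of them; regularity is read through Laurent expansions over `k` at every place of `K`.
(Up to sign these are the forms `x_α^{j-1} dx_α` and `x_α^{-1} dx_α - x_0^{-1} dx_0` with `x_α = (x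
- α)^{-1}`.) -/
theorem result (k : Type u) (K : Type v)
    [Field k] [IsAlgClosed k] [CharP k 2] [Field K] [Algebra k K] [Algebra (RatFunc k) K] [IsScalarTower k (RatFunc k) K]
    (hK : FunFld.IsFunctionField k K) (hdeg : Module.finrank (RatFunc k) K = 2) [Algebra.IsSeparable (RatFunc k) K]
    (y : K) (hy : y ∉ Set.range (algebraMap (RatFunc k) K)) (f : RatFunc k)
    (heq : y ^ 2 + y = algebraMap (RatFunc k) K f)
    (B : Finset k) (h0 : (0 : k) ∈ B) (d : k → ℕ) (hd : ∀ α ∈ B, Odd (d α))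
    (hpole : ∀ (p : FunFld.Place k (RatFunc k)) (α : k), α ∈ B →
      p.1 ((RatFunc.X : RatFunc k) - RatFunc.C α) < 1 → p.ord f = -(d α : ℤ))
    (hint : ∀ p : FunFld.Place k (RatFunc k), (∀ α ∈ B, 1 ≤ p.1 ((RatFunc.X : RatFunc k) - RatFunc.C α)) → p.1 f ≤ 1)
    (F : FunFld.Place k K → Type w) [∀ P, Field (F P)] [∀ P, Algebra k (F P)] [∀ P, FiniteDimensional k (F P)]
    (φ : ∀ P, K →ₐ[k] LaurentSeries (F P)) (hφ : ∀ P, LocRes.IsExpansionAt P.1 (φ P)) :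
    (∀ i P, LocRes.vDiff (φ P) ((Sum.elim
        (fun a : {a : ↥B × ℕ // 1 ≤ a.2 ∧ 2 * a.2 + 1 ≤ d (a.1 : k)} => algebraMap (RatFunc k) K (((RatFunc.X : RatFunc k) - RatFunc.C (a.1.1 : k))⁻¹ ^ (a.1.2 + 1)))
        (fun b : {b : ↥B // (b : k) ≠ 0} => algebraMap (RatFunc k) K (RatFunc.C (b.1 : k) / ((RatFunc.X : RatFunc k) * ((RatFunc.X : RatFunc k) - RatFunc.C (b.1 : k)))))) i) (algebraMap (RatFunc k) K RatFunc.X) ≤ 1) ∧
    LinearIndependent k (Sum.elim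
        (fun a : {a : ↥B × ℕ // 1 ≤ a.2 ∧ 2 * a.2 + 1 ≤ d (a.1 : k)} => algebraMap (RatFunc k) K (((RatFunc.X : RatFunc k) - RatFunc.C (a.1.1 : k))⁻¹ ^ (a.1.2 + 1)))
        (fun b : {b : ↥B // (b : k) ≠ 0} => algebraMap (RatFunc k) K (RatFunc.C (b.1 : k) / ((RatFunc.X : RatFunc k) * ((RatFunc.X : RatFunc k) - RatFunc.C (b.1 : k)))))) ∧
    ∀ z : K, (∀ P, LocRes.vDiff (φ P) z (algebraMap (RatFunc k) K RatFunc.X) ≤ 1) →
      z ∈ Submodule.span k (Set.range (Sum.elim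
        (fun a : {a : ↥B × ℕ // 1 ≤ a.2 ∧ 2 * a.2 + 1 ≤ d (a.1 : k)} => algebraMap (RatFunc k) K (((RatFunc.X : RatFunc k) - RatFunc.C (a.1.1 : k))⁻¹ ^ (a.1.2 + 1)))
        (fun b : {b : ↥B // (b : k) ≠ 0} => algebraMap (RatFunc k) K (RatFunc.C (b.1 : k) / ((RatFunc.X : RatFunc k) * ((RatFunc.X : RatFunc k) - RatFunc.C (b.1 : k))))))) := by
  set ι₁ := {a : ↥B × ℕ // 1 ≤ a.2 ∧ 2 * a.2 + 1 ≤ d (a.1 : k)} with hι₁
  set ι₂ := {b : ↥B // (b : k) ≠ 0} with hι₂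
  let α : ι₁ ⊕ ι₂ → k := Sum.elim (fun a => (a.1.1 : k)) (fun b => (b.1 : k))
  let jj : ι₁ ⊕ ι₂ → ℕ := Sum.elim (fun a => a.1.2) (fun _ => 0)
  let v : ι₁ ⊕ ι₂ → RatFunc k := Sum.elim
    (fun a : ι₁ => ((RatFunc.X : RatFunc k) - RatFunc.C (a.1.1 : k))⁻¹ ^ (a.1.2 + 1))
    (fun b : ι₂ => RatFunc.C (b.1 : k) /
      ((RatFunc.X : RatFunc k) * ((RatFunc.X : RatFunc k) - RatFunc.C (b.1 : k))))
  have hfam : (Sum.elim
        (fun a : ι₁ => algebraMap (RatFunc k) K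
          (((RatFunc.X : RatFunc k) - RatFunc.C (a.1.1 : k))⁻¹ ^ (a.1.2 + 1)))
        (fun b : ι₂ => algebraMap (RatFunc k) K (RatFunc.C (b.1 : k) /
          ((RatFunc.X : RatFunc k) * ((RatFunc.X : RatFunc k) - RatFunc.C (b.1 : k)))))) =
      fun i => algebraMap (RatFunc k) K (v i) := by
    funext i
    rcases i with a | b <;> rfl
  have hv : ∀ i, v i = ((RatFunc.X : RatFunc k) - RatFunc.C (α i))⁻¹ ^ (jj i + 1) -
      (if jj i = 0 then (RatFunc.X : RatFunc k)⁻¹ else 0) := by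
    rintro (a | b)
    · have h1 : a.1.2 ≠ 0 := by have := a.2.1; omega
      show ((RatFunc.X : RatFunc k) - RatFunc.C (a.1.1 : k))⁻¹ ^ (a.1.2 + 1) =
        ((RatFunc.X : RatFunc k) - RatFunc.C (a.1.1 : k))⁻¹ ^ (a.1.2 + 1) -
          (if a.1.2 = 0 then (RatFunc.X : RatFunc k)⁻¹ else 0)
      rw [if_neg h1, sub_zero]
    · show RatFunc.C (b.1 : k) /
          ((RatFunc.X : RatFunc k) * ((RatFunc.X : RatFunc k) - RatFunc.C (b.1 : k))) =
        ((RatFunc.X : RatFunc k) - RatFunc.C (b.1 : k))⁻¹ ^ (0 + 1) -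
          (if (0 : ℕ) = 0 then (RatFunc.X : RatFunc k)⁻¹ else 0)
      rw [if_pos rfl, zero_add, pow_one]
      have h1 := X_sub_C_ne_zero' (b.1 : k)
      have h2 : (RatFunc.X : RatFunc k) ≠ 0 := RatFunc.X_ne_zero
      field_simp
      ring
  have hα : ∀ i, α i ∈ B := by
    rintro (a | b)
    · exact a.1.1.2
    · exact b.1.2
  have hjj : ∀ i, 2 * jj i + 1 ≤ d (α i) := by
    rintro (a | b)
    · exact a.2.2
    · have := (hd (b.1 : k) b.1.2).pos
      show 2 * 0 + 1 ≤ d (b.1 : k)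
      omega
  have hinj : Function.Injective (fun i => (α i, jj i)) := by
    rintro (a | b) (a' | b') h
    · have h1 : (a.1.1 : k) = (a'.1.1 : k) := (Prod.ext_iff.1 h).1
      have h2 : a.1.2 = a'.1.2 := (Prod.ext_iff.1 h).2
      congr 1
      exact Subtype.ext (Prod.ext (Subtype.ext h1) h2)
    · have h2 : a.1.2 = 0 := (Prod.ext_iff.1 h).2
      have := a.2.1
      omega
    · have h2 : 0 = a'.1.2 := (Prod.ext_iff.1 h).2
      have := a'.2.1
      omega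
    · have h1 : (b.1 : k) = (b'.1 : k) := (Prod.ext_iff.1 h).1
      congr 1
      exact Subtype.ext (Subtype.ext h1)
  have hzero : ∀ i, ¬ (α i = 0 ∧ jj i = 0) := by
    rintro (a | b) ⟨h1, h2⟩
    · have := a.2.1
      have h3 : a.1.2 = 0 := h2
      omega
    · exact b.2 h1
  -- finiteness and cardinality of the index type
  have e₁ : ι₁ ≃ Σ β : ↥B, {j : ℕ // 1 ≤ j ∧ 2 * j + 1 ≤ d (β : k)} :=
    Equiv.subtypeProdEquivSigmaSubtype (fun (β : ↥B) (j : ℕ) => 1 ≤ j ∧ 2 * j + 1 ≤ d (β : k))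
  have : ∀ β : ↥B, Finite {j : ℕ // 1 ≤ j ∧ 2 * j + 1 ≤ d (β : k)} :=
    fun β => (card_aux _ (hd β β.2)).2
  have : Finite ι₁ := Finite.of_equiv _ e₁.symm
  have hc₁ : Nat.card ι₁ = ∑ β ∈ B, d β / 2 := by
    rw [Nat.card_congr e₁, Nat.card_sigma]
    rw [← Finset.sum_coe_sort B (fun β => d β / 2)]
    apply Finset.sum_congr rfl
    intro β _
    exact (card_aux _ (hd β β.2)).1
  have e₂ : ι₂ ≃ ↥(B.erase 0) :=
    { toFun := fun b => ⟨(b.1 : k), Finset.mem_erase.2 ⟨b.2, b.1.2⟩⟩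
      invFun := fun c => ⟨⟨c.1, Finset.mem_of_mem_erase c.2⟩, (Finset.mem_erase.1 c.2).1⟩
      left_inv := fun _ => rfl
      right_inv := fun _ => rfl }
  have hc₂ : Nat.card ι₂ = B.card - 1 := by
    rw [Nat.card_congr e₂, Nat.card_eq_fintype_card, Fintype.card_coe, Finset.card_erase_of_mem h0]
  have hcard : Nat.card (ι₁ ⊕ ι₂) + 1 = ∑ β ∈ B, (d β / 2 + 1) := by
    rw [Nat.card_sum, hc₁, hc₂, Finset.sum_add_distrib, Finset.sum_const, smul_eq_mul, mul_one]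
    have : 0 < B.card := Finset.card_pos.2 ⟨0, h0⟩
    omega
  rw [hfam]
  exact AS_regular_differentials hK hdeg hy heq B h0 d hd hpole hint φ hφ α jj hα hjj hinj hzero
    hcard v hv

end Groth.Agent.S19044
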