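import Groth.Statements.S19045
import Groth.Agent.Lib.Helper44.FunFldAS

set_option autoImplicit false
universe u v
open FunFld
open Groth.Agent.Lib.Helper88.FF Groth.Agent.Lib.Helper44.FFExt WithZero

namespace Groth.Agent.S19045

/-- Let `k` be algebraically closed of characteristic `2` and `K = k(x, y)` with `y² + y = f(x)`, `K`
separable of degree `2` over `k(x)`; let `B ⊆ k` be a finite set containing `0` such that `f` has a
pole of odd order `d_β` at `x = β` for every `β ∈ B` and is integral at all other places of `k(x)`.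
Then `y` is integral at the places of `K` above `x = ∞` and has order `0` at one of them, and for `α
∈ B` and `j ∈ ℤ` the divisor of poles of `y (x - α)^j` consists of: order `max(d_α - 2j, 0)` at the
place above `α`, order exactly `d_β` above every other `β ∈ B`, order `max(j - ord_P y, 0)` at each
place `P` above `∞`, and nothing elsewhere. -/
theorem result (k : Type u) (K : Type v)
    [Field k] [IsAlgClosed k] [CharP k 2] [Field K] [Algebra k K] [Algebra (RatFunc k) K] [IsScalarTower k (RatFunc k) K]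
    (hK : FunFld.IsFunctionField k K) (hdeg : Module.finrank (RatFunc k) K = 2) [Algebra.IsSeparable (RatFunc k) K]
    (y : K) (hy : y ∉ Set.range (algebraMap (RatFunc k) K)) (f : RatFunc k)
    (heq : y ^ 2 + y = algebraMap (RatFunc k) K f)
    (B : Finset k) (h0 : (0 : k) ∈ B) (d : k → ℕ) (hd : ∀ β ∈ B, Odd (d β))
    (hpole : ∀ (p : FunFld.Place k (RatFunc k)) (β : k), β ∈ B →
      p.1 ((RatFunc.X : RatFunc k) - RatFunc.C β) < 1 → p.ord f = -(d β : ℤ))
    (hint : ∀ p : FunFld.Place k (RatFunc k), (∀ β ∈ B, 1 ≤ p.1 ((RatFunc.X : RatFunc k) - RatFunc.C β)) → p.1 f ≤ 1) :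
    (∀ P : FunFld.Place k K, 1 < P.1 (algebraMap (RatFunc k) K RatFunc.X) → 0 ≤ P.ord y) ∧
    (∃ P : FunFld.Place k K, 1 < P.1 (algebraMap (RatFunc k) K RatFunc.X) ∧ P.ord y = 0) ∧
    ∀ (α : k), α ∈ B → ∀ (j : ℤ) (P : FunFld.Place k K),
      (P.1 ((algebraMap (RatFunc k) K RatFunc.X) - (algebraMap k K α)) < 1 →
        max (-(P.ord (y * ((algebraMap (RatFunc k) K RatFunc.X) - (algebraMap k K α)) ^ j))) 0 = max ((d α : ℤ) - 2 * j) 0) ∧
      (∀ β : k, β ∈ B → β ≠ α → P.1 ((algebraMap (RatFunc k) K RatFunc.X) - (algebraMap k K β)) < 1 →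
        P.ord (y * ((algebraMap (RatFunc k) K RatFunc.X) - (algebraMap k K α)) ^ j) = -(d β : ℤ)) ∧
      (1 < P.1 (algebraMap (RatFunc k) K RatFunc.X) → max (-(P.ord (y * ((algebraMap (RatFunc k) K RatFunc.X) - (algebraMap k K α)) ^ j))) 0 = max (j - P.ord y) 0) ∧
      (P.1 (algebraMap (RatFunc k) K RatFunc.X) ≤ 1 → (∀ β : k, β ∈ B → 1 ≤ P.1 ((algebraMap (RatFunc k) K RatFunc.X) - (algebraMap k K β))) → 0 ≤ P.ord (y * ((algebraMap (RatFunc k) K RatFunc.X) - (algebraMap k K α)) ^ j)) := by
  classical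
  have hF : IsFunctionField k (RatFunc k) := isFunctionField_ratFunc k
  have : FiniteDimensional (RatFunc k) K := Module.finite_of_finrank_pos (by rw [hdeg]; norm_num)
  have : Algebra.IsAlgebraic (RatFunc k) K := Algebra.IsAlgebraic.of_finite _ _
  have : CharP K 2 := charP_of_injective_algebraMap (algebraMap k K).injective 2
  have h2K : (2 : K) = 0 := CharTwo.two_eq_zero
  set x : K := algebraMap (RatFunc k) K RatFunc.X with hx
  have hxα : ∀ α : k, x - algebraMap k K α =
      algebraMap (RatFunc k) K (RatFunc.X - RatFunc.C α) := by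
    intro α
    rw [map_sub, IsScalarTower.algebraMap_apply k (RatFunc k) K, RatFunc.algebraMap_eq_C]
  have hy0 : y ≠ 0 := by
    rintro rfl
    exact hy ⟨0, map_zero _⟩
  have hXC0 : ∀ α : k, (RatFunc.X - RatFunc.C α : RatFunc k) ≠ 0 := by
    intro α h
    have h1 : algebraMap (Polynomial k) (RatFunc k) (Polynomial.X - Polynomial.C α) = 0 := by
      rw [map_sub, RatFunc.algebraMap_X, RatFunc.algebraMap_C, h]
    rw [map_eq_zero_iff _ (RatFunc.algebraMap_injective k)] at h1
    exact Polynomial.X_sub_C_ne_zero α h1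
  have hxα0 : ∀ α : k, x - algebraMap k K α ≠ 0 := by
    intro α
    rw [hxα]
    exact (map_ne_zero _).2 (hXC0 α)
  -- (A) places above infinity
  have hA : ∀ P : Place k K, 1 < P.1 x →
      ∃ p : Place k (RatFunc k), IsOverWith P p 1 ∧ 1 < p.1 RatFunc.X ∧ P.1 y ≤ 1 := by
    intro P hP
    obtain ⟨p, e, he⟩ := exists_isOver_below (K := RatFunc k) P
    have hpX : 1 < p.1 RatFunc.X := by
      by_contra hcon
      rw [not_lt] at hcon
      have := (isOverWith_val_le_one_iff he RatFunc.X).2 hcon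
      exact absurd hP (not_lt.2 this)
    have hf : p.1 f ≤ 1 := hint p (fun β _ => by
      rw [val_X_sub_C_of_pole hpX β, ← exp_zero, exp_le_exp]
      norm_num)
    obtain ⟨h1, h2⟩ := AS_unram hdeg hy heq hf ⟨e, he⟩
    exact ⟨p, h1, hpX, h2⟩
  -- (B) places above `β ∈ B`
  have hB : ∀ (P : Place k K) (β : k), β ∈ B → P.1 (x - algebraMap k K β) < 1 →
      P.1 y = exp (d β : ℤ) ∧ P.1 (x - algebraMap k K β) = exp (-2 : ℤ) := by
    intro P β hβ hP
    obtain ⟨p, e, he⟩ := exists_isOver_below (K := RatFunc k) P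
    rw [hxα] at hP
    have hpβ : p.1 (RatFunc.X - RatFunc.C β) < 1 := (isOverWith_val_lt_one_iff he _).1 hP
    have hord := hpole p β hβ hpβ
    obtain ⟨h1, h2, -⟩ := AS_ram hdeg hy heq (hd β hβ) hord ⟨e, he⟩
    refine ⟨h2, ?_⟩
    rw [hxα, h1, val_X_sub_C_of_lt_one hpβ, exp_pow']
    norm_num
  -- (C) the other places
  have hC : ∀ P : Place k K, P.1 x ≤ 1 → (∀ β ∈ B, 1 ≤ P.1 (x - algebraMap k K β)) →
      P.1 y ≤ 1 := by
    intro P _ hPB
    obtain ⟨p, e, he⟩ := exists_isOver_below (K := RatFunc k) P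
    have hf : p.1 f ≤ 1 := hint p (fun β hβ => by
      by_contra hcon
      rw [not_le] at hcon
      have := (isOverWith_val_lt_one_iff he _).2 hcon
      rw [← hxα] at this
      exact absurd (hPB β hβ) (not_le.2 this))
    exact (AS_unram hdeg hy heq hf ⟨e, he⟩).2
  refine ⟨?_, ?_, ?_⟩
  · intro P hP
    obtain ⟨p, -, -, h⟩ := hA P hP
    exact ord_nonneg_of_val_le_one P h
  · have hXk : (RatFunc.X : RatFunc k) ∉ Set.range (algebraMap k (RatFunc k)) :=
      not_mem_range_of_transcendental RatFunc.transcendental_X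
    obtain ⟨p, hp⟩ := exists_pole hF hXk
    obtain ⟨P, e, he⟩ := exists_isOver_above (K' := K) hF p
    have hpX : 1 < p.1 RatFunc.X := (one_lt_val_iff p RatFunc.X_ne_zero).2 hp
    have hPx : 1 < P.1 x := by
      by_contra hcon
      rw [not_lt] at hcon
      have := (isOverWith_val_le_one_iff he RatFunc.X).1 hcon
      exact absurd hpX (not_lt.2 this)
    obtain ⟨-, -, -, hPy⟩ := hA P hPx
    rcases lt_or_eq_of_le hPy with hlt | heq1
    · obtain ⟨σ, hσ⟩ := AS_exists_sigma hdeg h2K hy heq
      refine ⟨comapPlace σ P, ?_, ?_⟩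
      · show 1 < P.1 (σ x)
        rw [hx, σ.commutes]
        exact hPx
      · apply ord_eq_zero_of_val_eq_one
        show P.1 (σ y) = 1
        rw [hσ, add_comm, Valuation.map_add_eq_of_lt_left, map_one]
        rw [map_one]
        exact hlt
    · exact ⟨P, hPx, ord_eq_zero_of_val_eq_one heq1⟩
  · intro α hα j P
    have hw : P.ord (y * (x - algebraMap k K α) ^ j) =
        P.ord y + j * P.ord (x - algebraMap k K α) := by
      rw [ord_mul P hy0 (zpow_ne_zero _ (hxα0 α)), ord_zpow]
    refine ⟨?_, ?_, ?_, ?_⟩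
    · intro h
      obtain ⟨h1, h2⟩ := hB P α hα h
      rw [hw, ord_eq_of_val_eq_exp P h1, ord_eq_of_val_eq_exp P h2]
      congr 1
      ring
    · intro β hβ hne h
      obtain ⟨h1, -⟩ := hB P β hβ h
      have h3 : P.1 (x - algebraMap k K α) = 1 := by
        have : x - algebraMap k K α = algebraMap k K (β - α) + (x - algebraMap k K β) := by
          rw [map_sub]; ring
        rw [this, Valuation.map_add_eq_of_lt_left, val_algebraMap P (sub_ne_zero.2 hne)]
        rw [val_algebraMap P (sub_ne_zero.2 hne)]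
        exact h
      rw [hw, ord_eq_of_val_eq_exp P h1, ord_eq_zero_of_val_eq_one h3]
      ring
    · intro h
      obtain ⟨p, h1, h2, -⟩ := hA P h
      have h3 : P.1 (x - algebraMap k K α) = exp (1 : ℤ) := by
        rw [hxα, h1, pow_one, val_X_sub_C_of_pole h2]
      rw [hw, ord_eq_of_val_eq_exp P h3]
      congr 1
      ring
    · intro hx1 hPB
      have h1 := hC P hx1 hPB
      have h3 : P.1 (x - algebraMap k K α) = 1 := by
        apply le_antisymm _ (hPB α hα)
        exact (P.1.map_sub _ _).trans (max_le hx1 (P.2.1 α))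
      apply ord_nonneg_of_val_le_one
      rw [map_mul, map_zpow₀, h3, one_zpow, mul_one]
      exact h1

end Groth.Agent.S19045
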