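import Groth.Statements.S19046
import Groth.Agent.Lib.Helper44.FunFldASH1

set_option autoImplicit false
universe u v
open Classical
open FunFld
open Groth.Agent.Lib.Helper88.FF Groth.Agent.Lib.Helper44.FFExt

namespace Groth.Agent.S19046

/-- The number of `j` with `1 ≤ j` and `2j + 1 ≤ n`. -/
lemma card_aux (n : ℕ) (hn : Odd n) : Nat.card {j : ℕ // 1 ≤ j ∧ 2 * j + 1 ≤ n} = n / 2 ∧
    Finite {j : ℕ // 1 ≤ j ∧ 2 * j + 1 ≤ n} := by
  have e : {j : ℕ // 1 ≤ j ∧ 2 * j + 1 ≤ n} ≃ ↥(Finset.Icc 1 (n / 2)) :=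
    Equiv.subtypeEquivRight (fun j => by
      obtain ⟨m, hm⟩ := hn
      rw [Finset.mem_Icc]; omega)
  refine ⟨?_, Finite.of_equiv _ e.symm⟩
  rw [Nat.card_congr e, Nat.card_eq_fintype_card, Fintype.card_coe, Nat.card_Icc]
  omega


/-- Let `k` be algebraically closed of characteristic `2`, `K = k(x, y)` with `y² + y = f(x)` separable
of degree `2` over `k(x)`, `B ⊆ k` a finite set containing `0` with `f` having a pole of odd order
`d_β` at `x = β` for `β ∈ B` and integral elsewhere, `c_β = (d_β - 1)/2`, and `P_β` a place of `K`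
above `x = β`. Identify `H¹(X, O)` of the smooth projective model with the repartitions (adeles with
components in `K`) modulo `W = A(0) + K` (everywhere-integral repartitions plus constants), a Čech
class with defining component `h` at `β` corresponding to the repartition with component `h` at
`P_β` and `0` elsewhere. Then the repartitions supported at `P_α` with value `y (x - α)^j` (`α ∈ B`,
`1 ≤ j ≤ c_α`) and with value `y` (`α ∈ B`, `α ≠ 0`) are adeles whose classes modulo `W` are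
linearly independent over `k` and, together with `W`, span the adeles: they give a basis of `H¹(X,
O)`. -/
theorem result (k : Type u) (K : Type v)
    [Field k] [IsAlgClosed k] [CharP k 2] [Field K] [Algebra k K] [Algebra (RatFunc k) K] [IsScalarTower k (RatFunc k) K]
    (hK : FunFld.IsFunctionField k K) (hdeg : Module.finrank (RatFunc k) K = 2) [Algebra.IsSeparable (RatFunc k) K]
    (y : K) (hy : y ∉ Set.range (algebraMap (RatFunc k) K)) (f : RatFunc k)
    (heq : y ^ 2 + y = algebraMap (RatFunc k) K f)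
    (B : Finset k) (h0 : (0 : k) ∈ B) (d : k → ℕ) (hd : ∀ β ∈ B, Odd (d β))
    (hpole : ∀ (p : FunFld.Place k (RatFunc k)) (β : k), β ∈ B →
      p.1 ((RatFunc.X : RatFunc k) - RatFunc.C β) < 1 → p.ord f = -(d β : ℤ))
    (hint : ∀ p : FunFld.Place k (RatFunc k), (∀ β ∈ B, 1 ≤ p.1 ((RatFunc.X : RatFunc k) - RatFunc.C β)) → p.1 f ≤ 1)
    (Pl : k → FunFld.Place k K) (hPl : ∀ β ∈ B, (Pl β).1 ((algebraMap (RatFunc k) K RatFunc.X) - (algebraMap k K β)) < 1) :
    (∀ i, (Sum.elim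
        (fun a : {a : ↥B × ℕ // 1 ≤ a.2 ∧ 2 * a.2 + 1 ≤ d (a.1 : k)} =>
          (Pi.single (Pl (a.1.1 : k)) (y * ((algebraMap (RatFunc k) K RatFunc.X) - (algebraMap k K (a.1.1 : k))) ^ a.1.2) : FunFld.Place k K → K))
        (fun b : {b : ↥B // (b : k) ≠ 0} => (Pi.single (Pl (b.1 : k)) y : FunFld.Place k K → K))) i ∈ FunFld.adele k K) ∧
    LinearIndependent k (fun i => Submodule.mkQ (FunFld.AD (0 : FunFld.Divisor k K) ⊔ LinearMap.range (FunFld.diag k K)) ((Sum.elim
        (fun a : {a : ↥B × ℕ // 1 ≤ a.2 ∧ 2 * a.2 + 1 ≤ d (a.1 : k)} =>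
          (Pi.single (Pl (a.1.1 : k)) (y * ((algebraMap (RatFunc k) K RatFunc.X) - (algebraMap k K (a.1.1 : k))) ^ a.1.2) : FunFld.Place k K → K))
        (fun b : {b : ↥B // (b : k) ≠ 0} => (Pi.single (Pl (b.1 : k)) y : FunFld.Place k K → K))) i)) ∧
    ∀ a : FunFld.Place k K → K, a ∈ FunFld.adele k K →
      a ∈ (FunFld.AD (0 : FunFld.Divisor k K) ⊔ LinearMap.range (FunFld.diag k K)) ⊔ Submodule.span k (Set.range (Sum.elim
        (fun a : {a : ↥B × ℕ // 1 ≤ a.2 ∧ 2 * a.2 + 1 ≤ d (a.1 : k)} =>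
          (Pi.single (Pl (a.1.1 : k)) (y * ((algebraMap (RatFunc k) K RatFunc.X) - (algebraMap k K (a.1.1 : k))) ^ a.1.2) : FunFld.Place k K → K))
        (fun b : {b : ↥B // (b : k) ≠ 0} => (Pi.single (Pl (b.1 : k)) y : FunFld.Place k K → K)))) := by
  set ι₁ := {a : ↥B × ℕ // 1 ≤ a.2 ∧ 2 * a.2 + 1 ≤ d (a.1 : k)} with hι₁
  set ι₂ := {b : ↥B // (b : k) ≠ 0} with hι₂
  set x : K := algebraMap (RatFunc k) K RatFunc.X with hx
  let α : ι₁ ⊕ ι₂ → k := Sum.elim (fun a => (a.1.1 : k)) (fun b => (b.1 : k))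
  let jj : ι₁ ⊕ ι₂ → ℕ := Sum.elim (fun a => a.1.2) (fun _ => 0)
  have hfam : (Sum.elim
        (fun a : ι₁ =>
          (Pi.single (Pl (a.1.1 : k)) (y * (x - (algebraMap k K (a.1.1 : k))) ^ a.1.2) : FunFld.Place k K → K))
        (fun b : ι₂ => (Pi.single (Pl (b.1 : k)) y : FunFld.Place k K → K))) =
      fun i => (Pi.single (Pl (α i)) (y * (x - algebraMap k K (α i)) ^ jj i) :
        FunFld.Place k K → K) := by
    funext i
    rcases i with a | b
    · rfl
    · show (Pi.single (Pl (b.1 : k)) y : FunFld.Place k K → K) =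
        Pi.single (Pl (b.1 : k)) (y * (x - algebraMap k K (b.1 : k)) ^ 0)
      rw [pow_zero, mul_one]
  have hα : ∀ i, α i ∈ B := by
    rintro (a | b)
    · exact a.1.1.2
    · exact b.1.2
  have hjj : ∀ i, 2 * jj i + 1 ≤ d (α i) := by
    rintro (a | b)
    · exact a.2.2
    · have := (hd (b.1 : k) b.1.2).pos
      show 2 * 0 + 1 ≤ d (b.1 : k)
      omega
  have hinj : Function.Injective (fun i => (α i, jj i)) := by
    rintro (a | b) (a' | b') h
    · have h1 : (a.1.1 : k) = (a'.1.1 : k) := (Prod.ext_iff.1 h).1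
      have h2 : a.1.2 = a'.1.2 := (Prod.ext_iff.1 h).2
      congr 1
      exact Subtype.ext (Prod.ext (Subtype.ext h1) h2)
    · have h2 : a.1.2 = 0 := (Prod.ext_iff.1 h).2
      have := a.2.1
      omega
    · have h2 : 0 = a'.1.2 := (Prod.ext_iff.1 h).2
      have := a'.2.1
      omega
    · have h1 : (b.1 : k) = (b'.1 : k) := (Prod.ext_iff.1 h).1
      congr 1
      exact Subtype.ext (Subtype.ext h1)
  have hzero : ∀ i, ¬ (α i = 0 ∧ jj i = 0) := by
    rintro (a | b) ⟨h1, h2⟩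
    · have := a.2.1
      have h3 : a.1.2 = 0 := h2
      omega
    · exact b.2 h1
  -- finiteness and cardinality of the index type
  have e₁ : ι₁ ≃ Σ β : ↥B, {j : ℕ // 1 ≤ j ∧ 2 * j + 1 ≤ d (β : k)} :=
    Equiv.subtypeProdEquivSigmaSubtype (fun (β : ↥B) (j : ℕ) => 1 ≤ j ∧ 2 * j + 1 ≤ d (β : k))
  have : ∀ β : ↥B, Finite {j : ℕ // 1 ≤ j ∧ 2 * j + 1 ≤ d (β : k)} :=
    fun β => (card_aux _ (hd β β.2)).2
  have : Finite ι₁ := Finite.of_equiv _ e₁.symm
  have hc₁ : Nat.card ι₁ = ∑ β ∈ B, d β / 2 := by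
    rw [Nat.card_congr e₁, Nat.card_sigma]
    rw [← Finset.sum_coe_sort B (fun β => d β / 2)]
    apply Finset.sum_congr rfl
    intro β _
    exact (card_aux _ (hd β β.2)).1
  have e₂ : ι₂ ≃ ↥(B.erase 0) :=
    { toFun := fun b => ⟨(b.1 : k), Finset.mem_erase.2 ⟨b.2, b.1.2⟩⟩
      invFun := fun c => ⟨⟨c.1, Finset.mem_of_mem_erase c.2⟩, (Finset.mem_erase.1 c.2).1⟩
      left_inv := fun _ => rfl
      right_inv := fun _ => rfl }
  have hc₂ : Nat.card ι₂ = B.card - 1 := by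
    rw [Nat.card_congr e₂, Nat.card_eq_fintype_card, Fintype.card_coe, Finset.card_erase_of_mem h0]
  have hcard : Nat.card (ι₁ ⊕ ι₂) + 1 = ∑ β ∈ B, (d β / 2 + 1) := by
    rw [Nat.card_sum, hc₁, hc₂, Finset.sum_add_distrib, Finset.sum_const, smul_eq_mul, mul_one]
    have : 0 < B.card := Finset.card_pos.2 ⟨0, h0⟩
    omega
  refine ⟨?_, ?_, ?_⟩
  · intro i
    rw [hfam]
    exact single_mem_adele _ _
  · rw [hfam]
    exact AS_H1_linearIndependent hdeg hy heq B h0 d hd hpole hint Pl hPl α jj hα hjj hinj hzero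
  · intro a ha
    rw [hfam]
    exact AS_H1_span hK hdeg hy heq B h0 d hd hpole hint Pl hPl α jj hα hjj hinj hzero hcard a ha

end Groth.Agent.S19046
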