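import Groth.Statements.S19047
import Groth.Agent.Lib.Helper44.FunFldAS2

set_option autoImplicit false
universe u v
open Classical
open FunFld
open Groth.Agent.Lib.Helper88.FF Groth.Agent.Lib.Helper44.FFExt WithZero

namespace Groth.Agent.S19047

/-- Let `k` be algebraically closed of characteristic `2`, `K = k(x, y)` with `y² + y = f(x)` separable
of degree `2` over `k(x)`, `B ⊆ k` a finite set containing `0` with `f` having a pole of odd order
`d_β` at `x = β` for `β ∈ B` and integral elsewhere, `c_β = (d_β - 1)/2`, and `P_β` a place of `K`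
above `x = β`. With `H¹(X, O)` of the smooth projective model written as repartitions modulo `W =
A(0) + K` (everywhere-integral repartitions plus constants) and its Frobenius induced by
componentwise squaring, for `α ∈ B` and `j ≥ 0`: the Frobenius of the class of the repartition
supported at `P_α` with value `y (x - α)^j` is the class of the one with value `y (x - α)^{2j}` when
`2j ≤ c_α`, and is `0` when `2j > c_α`. -/
theorem result (k : Type u) (K : Type v)
    [Field k] [IsAlgClosed k] [CharP k 2] [Field K] [Algebra k K] [Algebra (RatFunc k) K] [IsScalarTower k (RatFunc k) K]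
    (hK : FunFld.IsFunctionField k K) (hdeg : Module.finrank (RatFunc k) K = 2) [Algebra.IsSeparable (RatFunc k) K]
    (y : K) (hy : y ∉ Set.range (algebraMap (RatFunc k) K)) (f : RatFunc k)
    (heq : y ^ 2 + y = algebraMap (RatFunc k) K f)
    (B : Finset k) (h0 : (0 : k) ∈ B) (d : k → ℕ) (hd : ∀ β ∈ B, Odd (d β))
    (hpole : ∀ (p : FunFld.Place k (RatFunc k)) (β : k), β ∈ B →
      p.1 ((RatFunc.X : RatFunc k) - RatFunc.C β) < 1 → p.ord f = -(d β : ℤ))
    (hint : ∀ p : FunFld.Place k (RatFunc k), (∀ β ∈ B, 1 ≤ p.1 ((RatFunc.X : RatFunc k) - RatFunc.C β)) → p.1 f ≤ 1)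
    (Pl : k → FunFld.Place k K) (hPl : ∀ β ∈ B, (Pl β).1 ((algebraMap (RatFunc k) K RatFunc.X) - (algebraMap k K β)) < 1)
    (α : k) (hα : α ∈ B) (j : ℕ) :
    (4 * j + 1 ≤ d α → (Pi.single (Pl α) ((y * ((algebraMap (RatFunc k) K RatFunc.X) - (algebraMap k K α)) ^ j) ^ 2) : FunFld.Place k K → K) - (Pi.single (Pl α) (y * ((algebraMap (RatFunc k) K RatFunc.X) - (algebraMap k K α)) ^ (2 * j)) : FunFld.Place k K → K) ∈ (FunFld.AD (0 : FunFld.Divisor k K) ⊔ LinearMap.range (FunFld.diag k K))) ∧
    (d α < 4 * j + 1 → (Pi.single (Pl α) ((y * ((algebraMap (RatFunc k) K RatFunc.X) - (algebraMap k K α)) ^ j) ^ 2) : FunFld.Place k K → K) ∈ (FunFld.AD (0 : FunFld.Divisor k K) ⊔ LinearMap.range (FunFld.diag k K))) := by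
  have hF : IsFunctionField k (RatFunc k) := isFunctionField_ratFunc k
  have hg : genus k (RatFunc k) = 0 :=
    ((genus_zero_iff_rational hF).2 ⟨RatFunc.X, RatFunc.adjoin_X⟩).1
  have : FiniteDimensional (RatFunc k) K := Module.finite_of_finrank_pos (by rw [hdeg]; norm_num)
  have : Algebra.IsAlgebraic (RatFunc k) K := Algebra.IsAlgebraic.of_finite _ _
  have : CharP K 2 := charP_of_injective_algebraMap (algebraMap k K).injective 2
  have h2K : (2 : K) = 0 := CharTwo.two_eq_zero
  set x : K := algebraMap (RatFunc k) K RatFunc.X with hx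
  have hxα : x - algebraMap k K α =
      algebraMap (RatFunc k) K (RatFunc.X - RatFunc.C α) := by
    rw [map_sub, IsScalarTower.algebraMap_apply k (RatFunc k) K, RatFunc.algebraMap_eq_C]
  set P := Pl α with hP
  have hPα := hPl α hα
  obtain ⟨p, e, he⟩ := exists_isOver_below (K := RatFunc k) P
  rw [hxα] at hPα
  have hpα : p.1 (RatFunc.X - RatFunc.C α) < 1 := (isOverWith_val_lt_one_iff he _).1 hPα
  have hord := hpole p α hα hpα
  obtain ⟨h1, h2, huniq⟩ := AS_ram hdeg hy heq (hd α hα) hord ⟨e, he⟩
  have hsingle := fun h : RatFunc k =>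
    single_mem_AD_sup_diag (K' := K) hF hg ⟨e, he⟩ huniq h
  have hxval : P.1 (x - algebraMap k K α) = exp (-2 : ℤ) := by
    rw [hxα, h1, val_X_sub_C_of_lt_one hpα, exp_pow']
    norm_num
  have key : (y * (x - algebraMap k K α) ^ j) ^ 2 = y * (x - algebraMap k K α) ^ (2 * j) +
      algebraMap (RatFunc k) K (f * (RatFunc.X - RatFunc.C α) ^ (2 * j)) := by
    rw [map_mul, map_pow, ← hxα, ← heq]
    linear_combination (-(y * (x - algebraMap k K α) ^ (2 * j))) * h2K
  constructor
  · intro _
    rw [← Pi.single_sub, key, add_sub_cancel_left]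
    exact hsingle _
  · intro hlt
    rw [key, Pi.single_add]
    refine Submodule.add_mem _ (Submodule.mem_sup_left ?_) (hsingle _)
    intro Q
    simp only [Finsupp.coe_zero, Pi.zero_apply, exp_zero]
    by_cases hQ : Q = P
    · subst hQ
      rw [Pi.single_eq_same, map_mul, map_pow, h2, hxval, exp_pow', ← exp_add, ← exp_zero,
        exp_le_exp]
      push_cast
      omega
    · rw [Pi.single_eq_of_ne hQ, map_zero]
      exact zero_le_one

end Groth.Agent.S19047
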