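import Groth.Statements.S19098
import Groth.Agent.Lib.Helper93.TorsorPts

set_option autoImplicit false
universe u
open CategoryTheory MonoidalCategory CartesianMonoidalCategory MonObj AlgebraicGeometry
open ChGrp

namespace Groth.Agent.S19098

/-- Let S be a scheme, G an S-group scheme acting on an S-scheme X through a, and h an S-point of G. Let
i : Z → G be a homomorphism and ψ : Ψ → G a monomorphism with a G-action on Ψ under which ψ
intertwines with conjugation, and o an S-point of Ψ over h, such that (Ψ, o) is the homogeneous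
space G/Z for the fppf topology through the orbit map g ↦ g h g⁻¹ (so Z is the centralizer of h and
Ψ its conjugacy class). Let incl : X^h → X be a monomorphism whose points are the points of X fixed
by h, with the Z-action restricted from a; let σ : S_Ψ → G ×_S X be a monomorphism whose points are
the pairs (g, x) with g a point of Ψ and g x = x (the part of the global stabilizer over Ψ), with
the G-action by conjugation on the first entry and by a on the second; and let Φ : G ×_S X^h → S_Ψ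
be the morphism (g, x) ↦ (g h g⁻¹, g x). Then Φ makes S_Ψ, with its G-action, the balanced product G
×^Z X^h for the fppf topology: Φ is G-equivariant, it is a Z-torsor for the action z (g, x) = (g
z⁻¹, z x), and it has sections fppf-locally on S_Ψ. (The source works with algebraic spaces of
finite type over the complex numbers and a semisimple conjugacy class Ψ, where the identification of
Ψ with G/Z comes from the theory of algebraic groups; here that identification is the hypothesis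
hhom, the base is arbitrary and X is a scheme.) -/
theorem result
    {S : Scheme.{u}} {G X Z Ψ Xh SΨ : Over S} [GrpObj G] [GrpObj Z]
    (a : AlgGrp.Action G X) (h : 𝟙_ (Over S) ⟶ G)
    (i : Z ⟶ G) [IsMonHom i]
    (ψ : Ψ ⟶ G) [Mono ψ] (aΨ : AlgGrp.Action G Ψ)
    (hψ : aΨ.act ≫ ψ = fst G Ψ * (snd G Ψ ≫ ψ) * (fst G Ψ)⁻¹)
    (o : 𝟙_ (Over S) ⟶ Ψ) (ho : o ≫ ψ = h)
    (hhom : ChGrp.IsHomog Scheme.fppfPrecoverage i aΨ o)
    (incl : Xh ⟶ X) [Mono incl]
    (hXh : ∀ (T : Over S) (x : T ⟶ X), (∃ y : T ⟶ Xh, y ≫ incl = x) ↔ lift (toUnit T ≫ h) x ≫ a.act = x)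
    (aXh : AlgGrp.Action Z Xh) (hincl : AlgGrp.Action.IsEquivariant aXh (a.restrict i) incl)
    (σ : SΨ ⟶ G ⊗ X) [Mono σ]
    (hSΨ : ∀ (T : Over S) (g : T ⟶ G) (x : T ⟶ X),
      (∃ q : T ⟶ SΨ, q ≫ σ = lift g x) ↔ ((∃ y : T ⟶ Ψ, y ≫ ψ = g) ∧ lift g x ≫ a.act = x))
    (aS : AlgGrp.Action G SΨ)
    (hσ : aS.act ≫ σ = lift (fst G SΨ * (snd G SΨ ≫ σ ≫ fst G X) * (fst G SΨ)⁻¹)
      (lift (fst G SΨ) (snd G SΨ ≫ σ ≫ snd G X) ≫ a.act))
    (Φ : G ⊗ Xh ⟶ SΨ)
    (hΦ : Φ ≫ σ = lift (fst G Xh * (toUnit (G ⊗ Xh) ≫ h) * (fst G Xh)⁻¹)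
      (lift (fst G Xh) (snd G Xh ≫ incl) ≫ a.act)) :
    ChGrp.IsBalProd Scheme.fppfPrecoverage i aXh aS Φ := by
  -- points forms
  have hΦ' : ∀ (T : Over S) (g : T ⟶ G) (x : T ⟶ Xh), lift g x ≫ Φ ≫ σ =
      lift (g * (toUnit T ≫ h) * g⁻¹) (lift g (x ≫ incl) ≫ a.act) := by
    intro T g x
    rw [hΦ, comp_lift, MonObj.comp_mul, MonObj.comp_mul, GrpObj.comp_inv, lift_fst, comp_lift_assoc,
      lift_fst, lift_snd_assoc, ← Category.assoc, toUnit_unique (lift g x ≫ toUnit (G ⊗ Xh)) (toUnit T)]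
  have hσ' : ∀ (T : Over S) (g : T ⟶ G) (s : T ⟶ SΨ), lift g s ≫ aS.act ≫ σ =
      lift (g * (s ≫ σ ≫ fst G X) * g⁻¹) (lift g (s ≫ σ ≫ snd G X) ≫ a.act) := by
    intro T g s
    rw [hσ, comp_lift, MonObj.comp_mul, MonObj.comp_mul, GrpObj.comp_inv, lift_fst, comp_lift_assoc,
      lift_fst, lift_snd_assoc, lift_snd_assoc]
  have hψ' : ∀ (T : Over S) (g : T ⟶ G) (y : T ⟶ Ψ), (lift g y ≫ aΨ.act) ≫ ψ = g * (y ≫ ψ) * g⁻¹ := by
    intro T g y
    rw [Category.assoc, hψ, MonObj.comp_mul, MonObj.comp_mul, GrpObj.comp_inv, lift_fst, lift_snd_assoc]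
  have hincl' : ∀ (T : Over S) (z : T ⟶ Z) (x : T ⟶ Xh), (lift z x ≫ aXh.act) ≫ incl =
      lift (z ≫ i) (x ≫ incl) ≫ a.act := by
    intro T z x
    rw [Category.assoc, hincl, lift_whiskerLeft_assoc, AlgGrp.Action.lift_restrict_act]
  obtain ⟨-, hpb, hloc⟩ := hhom
  -- `i(z)` centralizes `h`
  have hpbw : ∀ (T : Over S) (g : T ⟶ G) (z : T ⟶ Z),
      g ≫ aΨ.orbitMap o = (g * (z ≫ i)) ≫ aΨ.orbitMap o := by
    intro T g z
    have := lift g z ≫= hpb.w
    rw [lift_fst_assoc, ← Category.assoc, ← Category.assoc, lift_whiskerLeft, ← Hom.mul_def] at this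
    exact this
  have horb : ∀ (T : Over S) (g : T ⟶ G), (g ≫ aΨ.orbitMap o) ≫ ψ = g * (toUnit T ≫ h) * g⁻¹ := by
    intro T g
    rw [AlgGrp.Action.comp_orbitMap, hψ', Category.assoc, ho]
  have hcent : ∀ (T : Over S) (z : T ⟶ Z), (z ≫ i) * (toUnit T ≫ h) * (z ≫ i)⁻¹ = toUnit T ≫ h := by
    intro T z
    have h1 := congrArg (· ≫ ψ) (hpbw T 1 z)
    simp only [horb] at h1
    rw [_root_.one_mul, _root_.one_mul, inv_one, _root_.mul_one] at h1
    exact h1.symm
  -- `i` is a monomorphism on points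
  have himono : ∀ (T : Over S) (z z' : T ⟶ Z), z ≫ i = z' ≫ i → z = z' := by
    intro T z z' hz
    have h1 : lift (1 : T ⟶ G) z = lift 1 z' := by
      apply hpb.hom_ext
      · rw [lift_fst, lift_fst]
      · rw [← Category.assoc, ← Category.assoc, lift_whiskerLeft, lift_whiskerLeft, hz]
    have h2 := congrArg (· ≫ snd G Z) h1
    simpa using h2
  refine ⟨?_, ?_, ?_⟩
  · -- equivariance
    change _ ≫ Φ = (G ◁ Φ) ≫ aS.act
    rw [← cancel_mono σ]
    apply AlgGrp.Action.hom_ext_lift₂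
    intro T g' p
    have hp : p = lift (p ≫ fst G Xh) (p ≫ snd G Xh) := (lift_comp_fst_snd p).symm
    generalize p ≫ fst G Xh = g at hp
    generalize p ≫ snd G Xh = x at hp
    subst hp
    have hL : lift g' (lift g x) ≫ ((NonAbH1.trivialAction G).prod (AlgGrp.Action.trivial G Xh)).act =
        lift (g' * g) x := by
      rw [AlgGrp.Action.lift_prod_act, AlgGrp.Action.lift_trivial_act]
      congr 1
    simp only [Category.assoc]
    rw [reassoc_of% hL, hΦ', lift_whiskerLeft_assoc, hσ']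
    have e1 : (lift g x ≫ Φ) ≫ σ = lift (g * (toUnit T ≫ h) * g⁻¹) (lift g (x ≫ incl) ≫ a.act) := by
      rw [Category.assoc, hΦ']
    have e2 : (lift g x ≫ Φ) ≫ σ ≫ fst G X = g * (toUnit T ≫ h) * g⁻¹ := by
      rw [← Category.assoc, e1, lift_fst]
    have e3 : (lift g x ≫ Φ) ≫ σ ≫ snd G X = lift g (x ≫ incl) ≫ a.act := by
      rw [← Category.assoc, e1, lift_snd]
    rw [e2, e3, ← a.lift_mul_act]
    congr 1
    rw [_root_.mul_inv_rev]
    simp only [_root_.mul_assoc]
  · -- pullback square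
    apply Groth.Agent.Lib.Helper93.TorsorPts.isPullback_of_points
    · intro T z p
      have hp : p = lift (p ≫ fst G Xh) (p ≫ snd G Xh) := (lift_comp_fst_snd p).symm
      generalize p ≫ fst G Xh = g at hp
      generalize p ≫ snd G Xh = x at hp
      subst hp
      rw [← cancel_mono σ, lift_twist_act]
      simp only [Category.assoc]
      rw [hΦ', hΦ', hincl',
        ← a.lift_mul_act, inv_mul_cancel_right]
      congr 1
      have hc := hcent T z
      rw [_root_.mul_inv_rev, inv_inv]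
      calc g * (z ≫ i)⁻¹ * (toUnit T ≫ h) * ((z ≫ i) * g⁻¹)
          = g * ((z ≫ i)⁻¹ * ((z ≫ i) * (toUnit T ≫ h) * (z ≫ i)⁻¹) * (z ≫ i)) * g⁻¹ := by
            rw [hc]; simp only [_root_.mul_assoc]
        _ = g * (toUnit T ≫ h) * g⁻¹ := by
            simp only [_root_.mul_assoc, inv_mul_cancel_left, inv_mul_cancel, _root_.mul_one]
    · intro T p' p hpp
      have hp : p = lift (p ≫ fst G Xh) (p ≫ snd G Xh) := (lift_comp_fst_snd p).symm
      generalize p ≫ fst G Xh = g at hp
      generalize p ≫ snd G Xh = x at hp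
      subst hp
      have hp' : p' = lift (p' ≫ fst G Xh) (p' ≫ snd G Xh) := (lift_comp_fst_snd p').symm
      generalize p' ≫ fst G Xh = g' at hp'
      generalize p' ≫ snd G Xh = x' at hp'
      subst hp'
      have h0 := congrArg (· ≫ σ) hpp
      simp only [Category.assoc, hΦ'] at h0
      have h1 : g' * (toUnit T ≫ h) * g'⁻¹ = g * (toUnit T ≫ h) * g⁻¹ := by
        have := congrArg (· ≫ fst G X) h0
        simpa using this
      have h2 : lift g' (x' ≫ incl) ≫ a.act = lift g (x ≫ incl) ≫ a.act := by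
        have := congrArg (· ≫ snd G X) h0
        simpa using this
      -- g' and g have the same orbit point
      have h3 : g' ≫ aΨ.orbitMap o = g ≫ aΨ.orbitMap o := by
        rw [← cancel_mono ψ, horb, horb, h1]
      let w := hpb.lift g' g h3
      have hw1 : w ≫ fst G Z = g' := hpb.lift_fst _ _ _
      have hw2 : w ≫ (G ◁ i) ≫ μ[G] = g := hpb.lift_snd _ _ _
      let z₀ : T ⟶ Z := w ≫ snd G Z
      have hw : w = lift g' z₀ := by
        apply CartesianMonoidalCategory.hom_ext
        · rw [hw1, lift_fst]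
        · rw [lift_snd]
      have hg : g = g' * (z₀ ≫ i) := by
        rw [← hw2, hw, ← Category.assoc, lift_whiskerLeft, ← Hom.mul_def]
      refine ⟨z₀, ?_⟩
      rw [lift_twist_act]
      apply CartesianMonoidalCategory.hom_ext
      · rw [lift_fst, lift_fst, hg, mul_inv_cancel_right]
      · rw [lift_snd, lift_snd, ← cancel_mono incl, hincl']
        -- x' ι = ζ₀ • x ι
        have h4 : x' ≫ incl = lift g'⁻¹ (lift g' (x' ≫ incl) ≫ a.act) ≫ a.act := by
          rw [← a.lift_mul_act, inv_mul_cancel, a.lift_one_act]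
        rw [h4, h2, ← a.lift_mul_act, hg, inv_mul_cancel_left]
    · intro T z z' p hzz
      have hp : p = lift (p ≫ fst G Xh) (p ≫ snd G Xh) := (lift_comp_fst_snd p).symm
      generalize p ≫ fst G Xh = g at hp
      generalize p ≫ snd G Xh = x at hp
      subst hp
      rw [lift_twist_act, lift_twist_act] at hzz
      have h1 := congrArg (· ≫ fst G Xh) hzz
      simp only [lift_fst] at h1
      have h2 : (z ≫ i)⁻¹ = (z' ≫ i)⁻¹ := mul_left_cancel h1
      exact himono T z z' (inv_injective h2)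
  · -- local triviality
    obtain ⟨R₀, hR₀, hs₀⟩ := hloc
    obtain ⟨I, V, f, rfl⟩ := R₀.exists_eq_ofArrows
    have hs₀' : ∀ j, ∃ s : V j ⟶ G.left, s ≫ (aΨ.orbitMap o).left = f j :=
      fun j => hs₀ (f j) (Presieve.ofArrows.mk j)
    choose s₀ hs₀ using hs₀'
    obtain ⟨⟨π, hπ⟩, hfix⟩ := (hSΨ SΨ (σ ≫ fst G X) (σ ≫ snd G X)).mp
      ⟨𝟙 _, by rw [Category.id_comp, lift_comp_fst_snd]⟩
    have hcov : Presieve.ofArrows (fun j => Limits.pullback π.left (f j))
        (fun j => Limits.pullback.fst π.left (f j)) ∈ Scheme.fppfPrecoverage SΨ.left :=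
      Precoverage.mem_coverings_of_isPullback f hR₀ π.left _
        (fun j => Limits.pullback.snd π.left (f j)) (fun j => IsPullback.of_hasPullback _ _)
    refine ⟨_, hcov, ?_⟩
    rintro S' f' ⟨j⟩
    let p₁ := Limits.pullback.fst π.left (f j)
    let p₂ := Limits.pullback.snd π.left (f j)
    have hp12 : p₁ ≫ π.left = p₂ ≫ f j := Limits.pullback.condition
    let T : Over S := Over.mk (p₁ ≫ SΨ.hom)
    let q : T ⟶ SΨ := Over.homMk p₁ rfl
    let gam : T ⟶ G := Over.homMk (p₂ ≫ s₀ j) (by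
      change (p₂ ≫ s₀ j) ≫ G.hom = p₁ ≫ SΨ.hom
      rw [← Over.w (aΨ.orbitMap o), Category.assoc, ← Category.assoc (s₀ j), hs₀, ← Category.assoc,
        ← hp12, Category.assoc, Over.w π])
    have hgam : gam ≫ aΨ.orbitMap o = q ≫ π := by
      ext1
      change (p₂ ≫ s₀ j) ≫ (aΨ.orbitMap o).left = p₁ ≫ π.left
      rw [Category.assoc, hs₀, hp12]
    let g : T ⟶ G := q ≫ σ ≫ fst G X
    let x : T ⟶ X := q ≫ σ ≫ snd G X
    have hg : g = gam * (toUnit T ≫ h) * gam⁻¹ := by
      change q ≫ σ ≫ fst G X = _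
      rw [← hπ, ← Category.assoc, ← hgam, horb]
    have hgx : lift g x ≫ a.act = x := by
      have := q ≫= hfix
      rw [← Category.assoc, comp_lift] at this
      exact this
    let x' : T ⟶ X := lift gam⁻¹ x ≫ a.act
    have hx' : lift (toUnit T ≫ h) x' ≫ a.act = x' := by
      change lift (toUnit T ≫ h) (lift gam⁻¹ x ≫ a.act) ≫ a.act = lift gam⁻¹ x ≫ a.act
      rw [← a.lift_mul_act]
      have e : (toUnit T ≫ h) * gam⁻¹ = gam⁻¹ * g := by
        rw [hg]; simp only [_root_.mul_assoc, inv_mul_cancel_left]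
      rw [e, a.lift_mul_act, hgx]
    obtain ⟨y, hy⟩ := (hXh T x').mpr hx'
    have hsec : lift gam y ≫ Φ = q := by
      rw [← cancel_mono σ, Category.assoc, hΦ', hy]
      have e1 : lift gam x' ≫ a.act = x := by
        change lift gam (lift gam⁻¹ x ≫ a.act) ≫ a.act = x
        rw [← a.lift_mul_act, mul_inv_cancel, a.lift_one_act]
      rw [e1, ← hg]
      exact lift_comp_fst_snd (q ≫ σ) |>.trans rfl |> fun e => by
        rw [← e]; simp only [Category.assoc]; rfl
    refine ⟨(lift gam y).left, ?_⟩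
    change (lift gam y).left ≫ Φ.left = p₁
    rw [← Over.comp_left, hsec]
    rfl

end Groth.Agent.S19098
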