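import Groth.Statements.S19099
import Groth.Agent.Lib.Helper93.TorsorPts
import Groth.Agent.Lib.Helper5.FpqcLocal
import Groth.Agent.Lib.Helper5.MagnetAux
import Groth.Agent.S0083

set_option autoImplicit false
universe u
open CategoryTheory MonoidalCategory CartesianMonoidalCategory MonObj AlgebraicGeometry
open ChGrp

namespace Groth.Agent.S19099

section aux

theorem isSheafFor_yoneda_of_mem_fppf {T₀ : Scheme.{u}} (W : Scheme.{u}) (R : Presieve T₀)
    (hR : R ∈ Scheme.fppfPrecoverage T₀) : Presieve.IsSheafFor (yoneda.obj W) R := by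
  exact Presieve.IsSheaf.isSheafFor_of_mem_precoverage
    (GrothendieckTopology.Subcanonical.isSheaf_of_isRepresentable (J := Scheme.fppfTopology) _) hR

/-- fppf covering families are jointly epimorphic. -/
theorem eq_of_forall_comp_eq {T₀ W : Scheme.{u}} (R : Presieve T₀)
    (hR : R ∈ Scheme.fppfPrecoverage T₀) (u v : T₀ ⟶ W)
    (h : ∀ ⦃T' : Scheme.{u}⦄ (f : T' ⟶ T₀), R f → f ≫ u = f ≫ v) : u = v := by
  have hsh := isSheafFor_yoneda_of_mem_fppf W R hR
  exact hsh.isSeparatedFor.ext (fun T' f hf => h f hf)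

/-- gluing morphisms along an fppf covering family. -/
theorem exists_glue {T₀ W : Scheme.{u}} (R : Presieve T₀)
    (hR : R ∈ Scheme.fppfPrecoverage T₀)
    (x : ∀ ⦃T' : Scheme.{u}⦄ (f : T' ⟶ T₀), R f → (T' ⟶ W))
    (hx : ∀ ⦃T₁ T₂ T'' : Scheme.{u}⦄ (g₁ : T'' ⟶ T₁) (g₂ : T'' ⟶ T₂) (f₁ : T₁ ⟶ T₀) (f₂ : T₂ ⟶ T₀)
      (h₁ : R f₁) (h₂ : R f₂), g₁ ≫ f₁ = g₂ ≫ f₂ → g₁ ≫ x f₁ h₁ = g₂ ≫ x f₂ h₂) :
    ∃ u : T₀ ⟶ W, ∀ ⦃T' : Scheme.{u}⦄ (f : T' ⟶ T₀) (hf : R f), f ≫ u = x f hf := by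
  have hsh := isSheafFor_yoneda_of_mem_fppf W R hR
  let fam : Presieve.FamilyOfElements (yoneda.obj W) R := fun T' f hf => x f hf
  have hc : fam.Compatible := by
    intro T₁ T₂ T'' g₁ g₂ f₁ f₂ h₁ h₂ e
    exact hx g₁ g₂ f₁ f₂ h₁ h₂ e
  exact ⟨hsh.amalgamate fam hc, fun T' f hf => hsh.valid_glue hc f hf⟩

end aux

section overS
variable {S : Scheme.{u}}

abbrev res (T : Over S) {T' : Scheme.{u}} (f : T' ⟶ T.left) : Over S := Over.mk (f ≫ T.hom)
abbrev resι (T : Over S) {T' : Scheme.{u}} (f : T' ⟶ T.left) : res T f ⟶ T := Over.homMk f rfl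

theorem over_eq_of_forall {T W : Over S} (R : Presieve T.left)
    (hR : R ∈ Scheme.fppfPrecoverage T.left) (u v : T ⟶ W)
    (h : ∀ ⦃T' : Scheme.{u}⦄ (f : T' ⟶ T.left), R f → resι T f ≫ u = resι T f ≫ v) : u = v := by
  ext1
  apply eq_of_forall_comp_eq R hR
  intro T' f hf
  exact congrArg (fun k => k.left) (h f hf)

theorem over_exists_glue {T W : Over S} (R : Presieve T.left)
    (hR : R ∈ Scheme.fppfPrecoverage T.left)
    (x : ∀ ⦃T' : Scheme.{u}⦄ (f : T' ⟶ T.left), R f → (res T f ⟶ W))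
    (hx : ∀ ⦃T₁ T₂ T'' : Scheme.{u}⦄ (g₁ : T'' ⟶ T₁) (g₂ : T'' ⟶ T₂) (f₁ : T₁ ⟶ T.left) (f₂ : T₂ ⟶ T.left)
      (h₁ : R f₁) (h₂ : R f₂), g₁ ≫ f₁ = g₂ ≫ f₂ → g₁ ≫ (x f₁ h₁).left = g₂ ≫ (x f₂ h₂).left) :
    ∃ u : T ⟶ W, ∀ ⦃T' : Scheme.{u}⦄ (f : T' ⟶ T.left) (hf : R f), resι T f ≫ u = x f hf := by
  obtain ⟨u₀, hu₀⟩ := exists_glue R hR (fun T' f hf => (x f hf).left) hx
  have hw : u₀ ≫ W.hom = T.hom := by
    apply eq_of_forall_comp_eq R hR
    intro T' f hf
    rw [← Category.assoc, hu₀ f hf]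
    exact Over.w (x f hf)
  refine ⟨Over.homMk u₀ hw, fun T' f hf => ?_⟩
  ext1
  exact hu₀ f hf

theorem exists_local_lift {A B : Over S} (π : A ⟶ B)
    (hπ : NonAbH1.IsLocallyTrivialFor Scheme.fppfPrecoverage (Over.mk π.left : Over B.left))
    {T : Over S} (b : T ⟶ B) :
    ∃ R : Presieve T.left, R ∈ Scheme.fppfPrecoverage T.left ∧
      ∀ ⦃T' : Scheme.{u}⦄ (f : T' ⟶ T.left), R f → ∃ a : res T f ⟶ A, a ≫ π = resι T f ≫ b := by
  obtain ⟨R₀, hR₀, hs₀⟩ := hπ
  obtain ⟨I, V, f, rfl⟩ := R₀.exists_eq_ofArrows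
  have hcov : Presieve.ofArrows (fun j => Limits.pullback b.left (f j))
      (fun j => Limits.pullback.fst b.left (f j)) ∈ Scheme.fppfPrecoverage T.left :=
    Precoverage.mem_coverings_of_isPullback f hR₀ b.left _
      (fun j => Limits.pullback.snd b.left (f j)) (fun j => IsPullback.of_hasPullback _ _)
  refine ⟨_, hcov, ?_⟩
  rintro T' f' ⟨j⟩
  obtain ⟨s, hs⟩ := hs₀ (f j) (Presieve.ofArrows.mk j)
  have hs' : s ≫ π.left = f j := hs
  refine ⟨Over.homMk (Limits.pullback.snd b.left (f j) ≫ s) ?_, ?_⟩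
  · change (Limits.pullback.snd b.left (f j) ≫ s) ≫ A.hom = Limits.pullback.fst b.left (f j) ≫ T.hom
    rw [← Over.w π, Category.assoc, ← Category.assoc s, hs', ← Category.assoc,
      ← Limits.pullback.condition, Category.assoc, Over.w b]
  · ext1
    change (Limits.pullback.snd b.left (f j) ≫ s) ≫ π.left = Limits.pullback.fst b.left (f j) ≫ b.left
    rw [Category.assoc, hs', Limits.pullback.condition]

end overS

theorem whiskerLeft_mono_aux {S : Scheme.{u}} {Q A B : Over S} (f : A ⟶ B) [Mono f] : Mono (Q ◁ f) := by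
  refine ⟨fun {Z} u v huv => ?_⟩
  apply CartesianMonoidalCategory.hom_ext
  · have := congrArg (fun k => k ≫ fst Q B) huv
    simpa using this
  · have := congrArg (fun k => k ≫ snd Q B) huv
    simp only [Category.assoc, whiskerLeft_snd] at this
    rw [← Category.assoc, ← Category.assoc] at this
    exact (cancel_mono f).mp this

/-- Let S be a scheme, i : G → Q a monomorphic homomorphism of S-group schemes (a closed subgroup), h an
S-point of G whose image in Q is central, and X an S-scheme with a G-action a. Let incl : X^h → X be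
a monomorphism whose points are the points of X fixed by h, with a G-action making incl equivariant
(X^h is G-stable since h is central in G). Let Y with its Q-action and j : Q ×_S X → Y be the
balanced product Q ×^G X for the fppf topology, Y' with j' : Q ×_S X^h → Y' the balanced product Q
×^G X^h, and m : Y' → Y the morphism under which j' followed by m is Q × incl followed by j. Then m
is a monomorphism, a point of Y factors through m exactly when it is fixed by h acting on Y through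
the Q-action, and m is a closed immersion if incl is one: Q ×^G X^h is the fixed locus of h in Q ×^G
X. (The source states this for a smooth algebraic space X of finite type over the complex numbers,
as an equality of closed subspaces, and argues on closed points; the form here is the one its
computation gives for the fppf quotients over any base, with X a scheme.) -/
theorem result
    {S : Scheme.{u}} {Q G X Xh Y Y' : Over S} [GrpObj Q] [GrpObj G]
    (i : G ⟶ Q) [IsMonHom i] [Mono i]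
    (h : 𝟙_ (Over S) ⟶ G)
    (hcent : ∀ (T : Over S) (q : T ⟶ Q), q * (toUnit T ≫ h ≫ i) = (toUnit T ≫ h ≫ i) * q)
    (a : AlgGrp.Action G X)
    (incl : Xh ⟶ X) [Mono incl]
    (hXh : ∀ (T : Over S) (x : T ⟶ X), (∃ y : T ⟶ Xh, y ≫ incl = x) ↔ lift (toUnit T ≫ h) x ≫ a.act = x)
    (aXh : AlgGrp.Action G Xh) (hincl : AlgGrp.Action.IsEquivariant aXh a incl)
    (aY : AlgGrp.Action Q Y) (j : Q ⊗ X ⟶ Y) (hY : ChGrp.IsBalProd Scheme.fppfPrecoverage i a aY j)
    (aY' : AlgGrp.Action Q Y') (j' : Q ⊗ Xh ⟶ Y') (hY' : ChGrp.IsBalProd Scheme.fppfPrecoverage i aXh aY' j')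
    (m : Y' ⟶ Y) (hm : j' ≫ m = (Q ◁ incl) ≫ j) :
    Mono m ∧
      (∀ (T : Over S) (y : T ⟶ Y), (∃ y' : T ⟶ Y', y' ≫ m = y) ↔ lift (toUnit T ≫ h ≫ i) y ≫ aY.act = y) ∧
      (IsClosedImmersion incl.left → IsClosedImmersion m.left) := by
  obtain ⟨hYeq, hYpb, hYloc⟩ := hY
  obtain ⟨hY'eq, hY'pb, hY'loc⟩ := hY'
  -- equivariance in points form
  have hE : ∀ (T : Over S) (q' q : T ⟶ Q) (x : T ⟶ X),
      lift (q' * q) x ≫ j = lift q' (lift q x ≫ j) ≫ aY.act := by
    intro T q' q x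
    have : lift q' (lift q x) ≫ ((NonAbH1.trivialAction Q).prod (AlgGrp.Action.trivial Q X)).act ≫ j =
        lift q' (lift q x) ≫ (Q ◁ j) ≫ aY.act := congrArg (fun k => lift q' (lift q x) ≫ k) hYeq
    rw [AlgGrp.Action.lift_prod_act_assoc, lift_whiskerLeft_assoc, AlgGrp.Action.lift_trivial_act] at this
    rw [← this]
    congr 2
  -- invariance in points form
  have hI : ∀ (T : Over S) (g : T ⟶ G) (q : T ⟶ Q) (x : T ⟶ X),
      lift (q * (g ≫ i)⁻¹) (lift g x ≫ a.act) ≫ j = lift q x ≫ j := by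
    intro T g q x
    have := Groth.Agent.Lib.Helper93.TorsorPts.act_comp_of_isPullback (twist i a) j hYpb g (lift q x)
    rwa [lift_twist_act] at this
  have hI' : ∀ (T : Over S) (g : T ⟶ G) (q : T ⟶ Q) (x : T ⟶ Xh),
      lift (q * (g ≫ i)⁻¹) (lift g x ≫ aXh.act) ≫ j' = lift q x ≫ j' := by
    intro T g q x
    have := Groth.Agent.Lib.Helper93.TorsorPts.act_comp_of_isPullback (twist i aXh) j' hY'pb g (lift q x)
    rwa [lift_twist_act] at this
  -- torsor property in points form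
  have hT : ∀ (T : Over S) (q₁ q₂ : T ⟶ Q) (x₁ x₂ : T ⟶ X), lift q₁ x₁ ≫ j = lift q₂ x₂ ≫ j →
      ∃ g : T ⟶ G, q₁ = q₂ * (g ≫ i)⁻¹ ∧ x₁ = lift g x₂ ≫ a.act := by
    intro T q₁ q₂ x₁ x₂ e
    obtain ⟨g, hg⟩ := Groth.Agent.Lib.Helper93.TorsorPts.exists_of_isPullback (twist i a) j hYpb _ _ e
    rw [lift_twist_act] at hg
    refine ⟨g, ?_, ?_⟩
    · have := congrArg (fun k => k ≫ fst Q X) hg
      simpa using this.symm
    · have := congrArg (fun k => k ≫ snd Q X) hg
      simpa using this.symm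
  -- equivariance of incl in points form
  have hinc : ∀ (T : Over S) (g : T ⟶ G) (x : T ⟶ Xh),
      (lift g x ≫ aXh.act) ≫ incl = lift g (x ≫ incl) ≫ a.act := by
    intro T g x
    rw [Category.assoc, hincl, lift_whiskerLeft_assoc]
  have hm' : ∀ (T : Over S) (q : T ⟶ Q) (x : T ⟶ Xh), (lift q x ≫ j') ≫ m = lift q (x ≫ incl) ≫ j := by
    intro T q x
    rw [Category.assoc, hm, lift_whiskerLeft_assoc]
  have hp : ∀ {A B T : Over S} (p : T ⟶ A ⊗ B), p = lift (p ≫ fst A B) (p ≫ snd A B) := by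
    intro A B T p
    apply CartesianMonoidalCategory.hom_ext <;> simp
  -- Lemma (M'): injectivity of m on points in the image of j'
  have hM : ∀ (T : Over S) (p₁ p₂ : T ⟶ Q ⊗ Xh), (p₁ ≫ j') ≫ m = (p₂ ≫ j') ≫ m → p₁ ≫ j' = p₂ ≫ j' := by
    intro T p₁ p₂ e
    rw [hp p₁, hp p₂] at e ⊢
    rw [hm', hm'] at e
    obtain ⟨g, hg1, hg2⟩ := hT T _ _ _ _ e
    rw [← hinc] at hg2
    have hg3 := (cancel_mono incl).mp hg2
    rw [hg1, hg3]
    exact hI' T g _ _
  -- Lemma (F): fixed points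
  have hF : ∀ (T : Over S) (q : T ⟶ Q) (x : T ⟶ X),
      lift (toUnit T ≫ h ≫ i) (lift q x ≫ j) ≫ aY.act = lift q x ≫ j ↔
        lift (toUnit T ≫ h) x ≫ a.act = x := by
    intro T q x
    rw [← hE, ← hcent]
    have h1 := hI T (toUnit T ≫ h) (q * (toUnit T ≫ h ≫ i)) x
    rw [Category.assoc, _root_.mul_assoc, _root_.mul_inv_cancel, _root_.mul_one] at h1
    rw [← h1]
    constructor
    · intro e
      obtain ⟨g, hg1, hg2⟩ := hT T _ _ _ _ e
      have hg3 : g ≫ i = 1 := by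
        have : (g ≫ i)⁻¹ = 1 := by
          have := congrArg (fun k => q⁻¹ * k) hg1
          simpa using this.symm
        simpa using this
      have hg4 : g = 1 := by
        apply (cancel_mono i).mp
        rw [hg3]
        exact (MonObj.one_comp i).symm
      rw [hg2, hg4, AlgGrp.Action.lift_one_act]
    · intro e
      rw [e]
  -- (A) m is a monomorphism
  have hmono : Mono m := by
    refine ⟨fun {T} u v huv => ?_⟩
    obtain ⟨R₁, hR₁, hl₁⟩ := exists_local_lift j' hY'loc u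
    apply over_eq_of_forall R₁ hR₁
    intro T₁ f₁ hf₁
    obtain ⟨a₁, ha₁⟩ := hl₁ f₁ hf₁
    obtain ⟨R₂, hR₂, hl₂⟩ := exists_local_lift j' hY'loc (resι T f₁ ≫ v)
    apply over_eq_of_forall R₂ hR₂
    intro T₂ f₂ hf₂
    obtain ⟨a₂, ha₂⟩ := hl₂ f₂ hf₂
    rw [← ha₂, ← ha₁, ← Category.assoc]
    apply hM
    simp only [Category.assoc]
    rw [reassoc_of% ha₁, reassoc_of% ha₂, huv]
  have hB : ∀ (T : Over S) (y : T ⟶ Y),
      (∃ y' : T ⟶ Y', y' ≫ m = y) ↔ lift (toUnit T ≫ h ≫ i) y ≫ aY.act = y := by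
    intro T y
    constructor
    · rintro ⟨y', rfl⟩
      obtain ⟨R₁, hR₁, hl₁⟩ := exists_local_lift j' hY'loc y'
      apply over_eq_of_forall R₁ hR₁
      intro T₁ f₁ hf₁
      obtain ⟨a₁, ha₁⟩ := hl₁ f₁ hf₁
      rw [comp_lift_assoc, ← Category.assoc (resι T f₁) y' m, ← ha₁, ← Category.assoc,
        toUnit_unique (resι T f₁ ≫ toUnit T) (toUnit _), hp a₁, hm']
      rw [hF]
      exact (hXh _ _).mp ⟨_, rfl⟩
    · intro hy
      obtain ⟨R₁, hR₁, hl₁⟩ := exists_local_lift j hYloc y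
      have hloc : ∀ ⦃T' : Scheme.{u}⦄ (f : T' ⟶ T.left), R₁ f → ∃ y' : res T f ⟶ Y', y' ≫ m = resι T f ≫ y := by
        intro T₁ f₁ hf₁
        obtain ⟨a₁, ha₁⟩ := hl₁ f₁ hf₁
        have e1 : lift (toUnit (res T f₁) ≫ h ≫ i) (resι T f₁ ≫ y) ≫ aY.act = resι T f₁ ≫ y := by
          have : resι T f₁ ≫ lift (toUnit T ≫ h ≫ i) y ≫ aY.act = resι T f₁ ≫ y :=
            congrArg (fun k => resι T f₁ ≫ k) hy
          rwa [comp_lift_assoc, ← Category.assoc, toUnit_unique (resι T f₁ ≫ toUnit T) (toUnit _)] at this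
        rw [← ha₁, hp a₁, hF] at e1
        obtain ⟨x', hx'⟩ := (hXh _ _).mpr e1
        refine ⟨lift (a₁ ≫ fst Q X) x' ≫ j', ?_⟩
        rw [hm', hx', ← hp a₁, ha₁]
      choose yl hyl using hloc
      have : Mono m.left := inferInstance
      obtain ⟨y', hy'⟩ := over_exists_glue (W := Y') R₁ hR₁ yl (by
        intro T₁ T₂ T'' g₁ g₂ f₁ f₂ h₁ h₂ e
        apply (cancel_mono m.left).mp
        have e1 : (yl f₁ h₁).left ≫ m.left = f₁ ≫ y.left := congrArg (fun k => k.left) (hyl f₁ h₁)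
        have e2 : (yl f₂ h₂).left ≫ m.left = f₂ ≫ y.left := congrArg (fun k => k.left) (hyl f₂ h₂)
        rw [Category.assoc, Category.assoc, e1, e2, ← Category.assoc, ← Category.assoc, e])
      refine ⟨y', ?_⟩
      apply over_eq_of_forall R₁ hR₁
      intro T₁ f₁ hf₁
      rw [← Category.assoc, hy' f₁ hf₁, hyl]
  refine ⟨hmono, hB, ?_⟩
  · intro hcl
    have hwm : Mono (Q ◁ incl) := whiskerLeft_mono_aux incl
    -- the cartesian square
    have sqC : IsPullback j' (Q ◁ incl) m j := by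
      apply Groth.Agent.Lib.Helper93.TorsorPts.isPullback_of_existsUnique _ _ _ _ hm
      intro T y' p e
      have e1 : lift (toUnit T ≫ h ≫ i) (p ≫ j) ≫ aY.act = p ≫ j := by
        rw [← e]
        exact (hB T (y' ≫ m)).mp ⟨y', rfl⟩
      rw [hp p, hF] at e1
      obtain ⟨x', hx'⟩ := (hXh _ _).mpr e1
      have ht2 : lift (p ≫ fst Q X) x' ≫ (Q ◁ incl) = p := by
        rw [lift_whiskerLeft, hx', ← hp p]
      refine ⟨lift (p ≫ fst Q X) x', ⟨?_, ht2⟩, ?_⟩
      · apply (cancel_mono m).mp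
        rw [Category.assoc, hm, reassoc_of% ht2, e]
      · rintro t ⟨_, ht⟩
        apply (cancel_mono (Q ◁ incl)).mp
        rw [ht, ht2]
    have sqC' : IsPullback j'.left (Q ◁ incl).left m.left j.left := sqC.map (Over.forget S)
    have hcl' : IsClosedImmersion (Q ◁ incl).left := by
      have h1 : IsPullback (Q ◁ incl).left (snd Q Xh).left (snd Q X).left incl.left :=
        (Groth.Agent.Lib.Helper5.isPullback_whiskerLeft_snd Q incl).map (Over.forget S)
      exact MorphismProperty.of_isPullback (P := @IsClosedImmersion) h1.flip hcl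
    obtain ⟨R, hR, hsec⟩ := hYloc
    have := Groth.Agent.S0083.result.{u}
    have : MorphismProperty.RespectsIso (@IsClosedImmersion : MorphismProperty Scheme.{u}) :=
      MorphismProperty.IsStableUnderBaseChange.respectsIso
    apply Groth.Agent.Lib.Helper5.of_mem_fpqcPrecoverage @IsClosedImmersion m.left R
      (Scheme.fppfPrecoverage_le_fpqcPrecoverage _ hR)
    intro V f hf
    obtain ⟨s, hs⟩ := hsec f hf
    have hs' : s ≫ j.left = f := hs
    have big : IsPullback (Limits.pullback.fst (Q ◁ incl).left s ≫ j'.left)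
        (Limits.pullback.snd (Q ◁ incl).left s) m.left (s ≫ j.left) :=
      ((IsPullback.of_hasPullback (Q ◁ incl).left s).flip.paste_vert sqC'.flip).flip
    rw [hs'] at big
    have h1 : IsClosedImmersion (Limits.pullback.snd (Q ◁ incl).left s) :=
      MorphismProperty.pullback_snd (P := @IsClosedImmersion) _ _ hcl'
    rw [← big.isoPullback_hom_snd] at h1
    exact (MorphismProperty.cancel_left_of_respectsIso (@IsClosedImmersion : MorphismProperty Scheme.{u}) _ _).mp h1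

end Groth.Agent.S19099
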