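import Groth.Statements.S19106
import Mathlib.Tactic
-- import your own Groth.Agent.* helpers here

set_option autoImplicit false
open HilbD

namespace Groth.Agent.S19106

/-- Let μ be a non-empty Young diagram, V the number of its cells, E the number of unordered pairs of
cells sharing a side (a cell together with the cell immediately below it, or immediately to its
right, both in μ) and Q the number of 2 × 2 blocks of cells of μ (cells c such that the cell
diagonally below-right of c is in μ, the other two corners being in μ automatically). Then V − E + Q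
− 1 = 0, stated as V + Q = E + 1 in the naturals. (The empty diagram, for which the count reads 0 −
0 + 0 − 1, is excluded.) -/
theorem result (μ : YoungDiagram) (hμ : μ ≠ ⊥) :
    μ.cells.card + (μ.cells.filter (fun c => (c.1 + 1, c.2 + 1) ∈ μ)).card =
      (μ.cells.filter (fun c => (c.1 + 1, c.2) ∈ μ)).card + (μ.cells.filter (fun c => (c.1, c.2 + 1) ∈ μ)).card + 1 := by
  classical
  have h00 : ((0, 0) : ℕ × ℕ) ∈ μ.cells := by
    have hne : μ.cells.Nonempty := by
      rw [Finset.nonempty_iff_ne_empty]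
      intro h
      apply hμ
      apply YoungDiagram.ext
      rw [h, YoungDiagram.cells_bot]
    obtain ⟨⟨i, j⟩, hc⟩ := hne
    rw [YoungDiagram.mem_cells] at hc ⊢
    exact μ.up_left_mem (Nat.zero_le i) (Nat.zero_le j) hc
  have e1 : (μ.cells.filter (fun c => (c.1 + 1, c.2) ∈ μ)).card =
      (μ.cells.filter (fun c : ℕ × ℕ => 1 ≤ c.1)).card := by
    apply Finset.card_nbij' (fun c => (c.1 + 1, c.2)) (fun c => (c.1 - 1, c.2))
    · intro c hc
      simp only [Finset.coe_filter, Set.mem_ofPred_eq, YoungDiagram.mem_cells] at hc ⊢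
      exact ⟨hc.2, by omega⟩
    · intro c hc
      simp only [Finset.coe_filter, Set.mem_ofPred_eq, YoungDiagram.mem_cells] at hc ⊢
      have h1 : c.1 - 1 + 1 = c.1 := by omega
      refine ⟨μ.up_left_mem (by omega) le_rfl (show (c.1, c.2) ∈ μ from hc.1), ?_⟩
      rw [h1]; exact hc.1
    · intro c _
      simp
    · intro c hc
      simp only [Finset.coe_filter, Set.mem_ofPred_eq] at hc
      ext
      · simp only; omega
      · rfl
  have e2 : (μ.cells.filter (fun c => (c.1, c.2 + 1) ∈ μ)).card =
      (μ.cells.filter (fun c : ℕ × ℕ => 1 ≤ c.2)).card := by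
    apply Finset.card_nbij' (fun c => (c.1, c.2 + 1)) (fun c => (c.1, c.2 - 1))
    · intro c hc
      simp only [Finset.coe_filter, Set.mem_ofPred_eq, YoungDiagram.mem_cells] at hc ⊢
      exact ⟨hc.2, by omega⟩
    · intro c hc
      simp only [Finset.coe_filter, Set.mem_ofPred_eq, YoungDiagram.mem_cells] at hc ⊢
      have h1 : c.2 - 1 + 1 = c.2 := by omega
      refine ⟨μ.up_left_mem le_rfl (by omega) (show (c.1, c.2) ∈ μ from hc.1), ?_⟩
      rw [h1]; exact hc.1
    · intro c _
      simp
    · intro c hc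
      simp only [Finset.coe_filter, Set.mem_ofPred_eq] at hc
      ext
      · rfl
      · simp only; omega
  have e3 : (μ.cells.filter (fun c => (c.1 + 1, c.2 + 1) ∈ μ)).card =
      (μ.cells.filter (fun c : ℕ × ℕ => 1 ≤ c.1 ∧ 1 ≤ c.2)).card := by
    apply Finset.card_nbij' (fun c => (c.1 + 1, c.2 + 1)) (fun c => (c.1 - 1, c.2 - 1))
    · intro c hc
      simp only [Finset.coe_filter, Set.mem_ofPred_eq, YoungDiagram.mem_cells] at hc ⊢
      exact ⟨hc.2, by omega, by omega⟩
    · intro c hc
      simp only [Finset.coe_filter, Set.mem_ofPred_eq, YoungDiagram.mem_cells] at hc ⊢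
      have h1 : c.1 - 1 + 1 = c.1 := by omega
      have h2 : c.2 - 1 + 1 = c.2 := by omega
      refine ⟨μ.up_left_mem (by omega) (by omega) (show (c.1, c.2) ∈ μ from hc.1), ?_⟩
      rw [h1, h2]; exact hc.1
    · intro c _
      simp
    · intro c hc
      simp only [Finset.coe_filter, Set.mem_ofPred_eq] at hc
      ext
      · simp only; omega
      · simp only; omega
  rw [e1, e2, e3]
  have hunion : μ.cells.filter (fun c : ℕ × ℕ => 1 ≤ c.1) ∪ μ.cells.filter (fun c : ℕ × ℕ => 1 ≤ c.2) =
      μ.cells.erase (0, 0) := by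
    ext ⟨i, j⟩
    simp only [Finset.mem_union, Finset.mem_filter, Finset.mem_erase, ne_eq, Prod.mk.injEq]
    constructor
    · rintro (⟨h, h1⟩ | ⟨h, h1⟩)
      · exact ⟨by omega, h⟩
      · exact ⟨by omega, h⟩
    · rintro ⟨h1, h⟩
      by_cases hi : 1 ≤ i
      · exact Or.inl ⟨h, hi⟩
      · exact Or.inr ⟨h, by omega⟩
  have hinter : μ.cells.filter (fun c : ℕ × ℕ => 1 ≤ c.1) ∩ μ.cells.filter (fun c : ℕ × ℕ => 1 ≤ c.2) =
      μ.cells.filter (fun c : ℕ × ℕ => 1 ≤ c.1 ∧ 1 ≤ c.2) := by
    ext c
    simp only [Finset.mem_inter, Finset.mem_filter]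
    tauto
  have hcard := Finset.card_union_add_card_inter (μ.cells.filter (fun c : ℕ × ℕ => 1 ≤ c.1))
    (μ.cells.filter (fun c : ℕ × ℕ => 1 ≤ c.2))
  rw [hunion, hinter, Finset.card_erase_of_mem h00] at hcard
  have hpos : 0 < μ.cells.card := Finset.card_pos.mpr ⟨_, h00⟩
  omega

end Groth.Agent.S19106
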