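import Groth.Statements.S1913
import Mathlib
import Groth.Agent.Lib.Helper90.DiagSch3

set_option autoImplicit false
universe u
open CategoryTheory AlgebraicGeometry
attribute [local instance] HasDerivedCategory.standard
open CategoryTheory.Limits
open IntMult

namespace Groth.Agent.S1913

/-- Reduction to the diagonal for intersection multiplicities, coefficientwise: e(X, V·W, Z) = e(X × X,
Δ·(V × W), Δ(Z)), where X × X is the product over K, Δ its diagonal (a closed immersion, X being
separated) and V × W ⊆ X × X the product closed subscheme. Here X is a nonsingular variety over an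
algebraically closed field K (smooth, separated, of finite type, integral), V and W are closed
subvarieties given by quasi-coherent ideal sheaves with integral subschemes, of dimensions r and s
with dim X = n, intersecting properly, and ξ is the generic point of an irreducible component Z of V
∩ W; e(X, V·W, Z) is the alternating sum of lengths of Tor over 𝒪_{X,ξ}. -/
theorem result (K : Type u) [Field K] [IsAlgClosed K] (X : Scheme.{u}) (f : X ⟶ Spec (CommRingCat.of K)) [Smooth f] [IsSeparated f] [QuasiCompact f] [IsIntegral X] (IV IW : X.IdealSheafData) [IsIntegral IV.subscheme] [IsIntegral IW.subscheme] (n r s : ℕ) (hn : topologicalKrullDim X = n) (hr : topologicalKrullDim IV.support = r) (hs : topologicalKrullDim IW.support = s) (hprop : IntMult.ProperInt (IV.support : Set X) (IW.support : Set X) n r s) (ξ : X) (hξV : ξ ∈ IV.support) (hξW : ξ ∈ IW.support) (hmax : ∀ ξ' : X, ξ' ∈ IV.support → ξ' ∈ IW.support → ξ' ⤳ ξ → ξ' = ξ) : IntMult.mult IV IW ξ = IntMult.mult (pullback.map (IV.subschemeι ≫ f) (IW.subschemeι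 ≫ f) f f IV.subschemeι IW.subschemeι (𝟙 _) (Category.comp_id _) (Category.comp_id _)).ker (pullback.diagonal f).ker (pullback.diagonal f ξ) := by
  have hΔ₁ : pullback.diagonal f ≫ pullback.fst f f = 𝟙 X := pullback.diagonal_fst f
  have hΔ₂ : pullback.diagonal f ≫ pullback.snd f f = 𝟙 X := pullback.diagonal_snd f
  -- the ring maps
  set ι₁ := Groth.Agent.Lib.Helper90.DiagSch.ιOf (pullback.fst f f) (pullback.diagonal f) hΔ₁ ξ
    with hι₁
  set ι₂ := Groth.Agent.Lib.Helper90.DiagSch.ιOf (pullback.snd f f) (pullback.diagonal f) hΔ₂ ξ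
    with hι₂
  set μ := ((pullback.diagonal f).stalkMap ξ).hom with hμ
  have h₁ : μ.comp ι₁ = RingHom.id _ :=
    Groth.Agent.Lib.Helper90.DiagSch.stalkMap_comp_ιOf _ _ hΔ₁ ξ
  have h₂ : μ.comp ι₂ = RingHom.id _ :=
    Groth.Agent.Lib.Helper90.DiagSch.stalkMap_comp_ιOf _ _ hΔ₂ ξ
  -- the ideals
  have hV : (IntMult.stalkIdeal IV ξ).map ι₁ =
      IntMult.stalkIdeal (IV.comap (pullback.fst f f)) (pullback.diagonal f ξ) :=
    Groth.Agent.Lib.Helper90.DiagSch.map_ιOf _ _ hΔ₁ ξ IV
  have hW : (IntMult.stalkIdeal IW ξ).map ι₂ =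
      IntMult.stalkIdeal (IW.comap (pullback.snd f f)) (pullback.diagonal f ξ) :=
    Groth.Agent.Lib.Helper90.DiagSch.map_ιOf _ _ hΔ₂ ξ IW
  have hJ : IntMult.stalkIdeal (pullback.map (IV.subschemeι ≫ f) (IW.subschemeι ≫ f) f f
      IV.subschemeι IW.subschemeι (𝟙 _) (Category.comp_id _) (Category.comp_id _)).ker
      (pullback.diagonal f ξ) =
      (IntMult.stalkIdeal IV ξ).map ι₁ ⊔ (IntMult.stalkIdeal IW ξ).map ι₂ := by
    rw [Groth.Agent.Lib.Helper90.DiagSch.ker_pullback_map,
      Groth.Agent.Lib.Helper90.DiagSch.stalkIdeal_sup, hV, hW]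
  have hD : IntMult.stalkIdeal (pullback.diagonal f).ker (pullback.diagonal f ξ) = RingHom.ker μ :=
    Groth.Agent.Lib.Helper90.DiagSch.stalkIdeal_ker (pullback.diagonal f) ξ
  -- flatness
  have hf₂ : ι₂.Flat := Groth.Agent.Lib.Helper90.DiagSch.flat_ιOf _ _ hΔ₂ ξ
  have hf₁ : RingHom.Flat (R := X.presheaf.stalk ξ)
      (S := (pullback f f).presheaf.stalk (pullback.diagonal f ξ) ⧸ (IntMult.stalkIdeal IW ξ).map ι₂)
      ((Ideal.Quotient.mk ((IntMult.stalkIdeal IW ξ).map ι₂)).comp ι₁) := by
    rw [hW]
    have sq1 : IsPullback (pullback.fst (pullback.snd f f) IW.subschemeι)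
        (pullback.snd (pullback.snd f f) IW.subschemeι) (pullback.snd f f) IW.subschemeι :=
      IsPullback.of_hasPullback _ _
    have sq2 : IsPullback (pullback.fst f f) (pullback.snd f f) f f := IsPullback.of_hasPullback f f
    have sq := sq1.paste_horiz sq2
    haveI : Flat (IW.subschemeι ≫ f) := inferInstance
    haveI hfl : Flat (pullback.fst (pullback.snd f f) IW.subschemeι ≫ pullback.fst f f) :=
      MorphismProperty.of_isPullback (P := @Flat) sq.flip inferInstance
    haveI : Flat ((IW.comap (pullback.snd f f)).subschemeι ≫ pullback.fst f f) := by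
      rw [← Scheme.IdealSheafData.comapIso_hom_fst, Category.assoc]
      infer_instance
    have hy : pullback.diagonal f ξ ∈ (IW.comap (pullback.snd f f)).support := by
      rw [Scheme.IdealSheafData.support_comap]
      change pullback.snd f f (pullback.diagonal f ξ) ∈ IW.support
      rw [← Groth.Agent.Lib.Helper90.DiagSch.apply_section _ _ hΔ₂ ξ]
      exact hξW
    have key := Groth.Agent.Lib.Helper90.DiagSch.flat_quot_of_flat (pullback.fst f f)
      (IW.comap (pullback.snd f f)) (pullback.diagonal f ξ) hy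
    have hiso : (X.presheaf.stalkCongr (.of_eq
        (Groth.Agent.Lib.Helper90.DiagSch.apply_section _ _ hΔ₁ ξ))).hom.hom.Flat :=
      RingHom.Flat.of_bijective (ConcreteCategory.bijective_of_isIso
        (X.presheaf.stalkCongr (.of_eq
          (Groth.Agent.Lib.Helper90.DiagSch.apply_section _ _ hΔ₁ ξ))).hom)
    have := hiso.comp key
    rw [RingHom.comp_assoc] at this
    exact this
  -- Tor comparison
  unfold IntMult.mult IntMult.chi
  refine finsum_congr (fun i => ?_)
  rw [hJ, hD, Groth.Agent.Lib.Helper90.TorBC.length_tor_symm' (R := (pullback f f).presheaf.stalk (pullback.diagonal f ξ)),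
    Groth.Agent.Lib.Helper90.TorBC.tor_diagonal ι₁ ι₂ μ h₁ h₂ (IntMult.stalkIdeal IV ξ)
      (IntMult.stalkIdeal IW ξ) hf₂ hf₁ i]

end Groth.Agent.S1913
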