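import Groth.Statements.S19135
import Groth.Agent.Lib.Helper39.LD.MainCx
import Groth.Agent.Lib.Helper39.LD.Cor
import Groth.Agent.Lib.Helper85.HullExist
-- import your own Groth.Agent.* helpers here

set_option autoImplicit false
universe u
open CategoryTheory
attribute [local instance] HasDerivedCategory.standard
open Dual

namespace Groth.Agent.S19135

/-- In the case of the spectrum of the base local ring and its closed point, let A be a Noetherian local
ring with maximal ideal m and ω a normalized dualizing complex over A (Hom(k, ω[i]) = 0 in D(A) for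
i ≠ 0), assume the total right derived functor RΓ_m of the m-power-torsion functor exists on D(A),
and let M be an object of D(A) which is bounded with finitely generated cohomology modules. Then
RHom(M, ω) is concentrated in degrees ≥ 0 (Hom(M, ω[i]) = 0 for all i < 0) if and only if RΓ_m M is
concentrated in degrees ≤ 0 (H^i(RΓ_m M) = 0 for all i > 0); and RHom(M, ω) is concentrated in
degrees ≤ 0 if and only if RΓ_m M is concentrated in degrees ≥ 0. In particular M is perverse
coherent (RHom(M, ω) concentrated in degree 0) exactly when its local cohomology at m is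
concentrated in degree 0. (The published statement of the two halves, read in cohomological
indexing, has the inequalities on the local cohomology side exchanged: over a field k with ω = k,
the complex k[1] has RHom(k[1], ω) = k[−1] concentrated in degrees ≥ 0 while its local cohomology
k[1] is concentrated in degree −1, not in degrees ≥ 0. This statement gives the form that local
duality yields, which is the one compatible with the description of the perverse t-structure by
support conditions.) -/
theorem result
    (A : Type u) [CommRing A] [IsLocalRing A] [IsNoetherianRing A]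
    (ω : Dual.D A) (hω : Dual.IsDualizing A ω) (hn : Dual.IsNormalized A ω)
    [DRing.HasRgammaI (IsLocalRing.maximalIdeal A)] (M : Dual.D A)
    (hfin : ∀ i : ℤ, Module.Finite A (Dual.HD A M i))
    (hbd : ∃ a b : ℤ, ∀ i : ℤ, (i < a ∨ b < i) → Subsingleton (Dual.HD A M i)) :
    ((∀ i : ℤ, i < 0 → Subsingleton (M ⟶ ω⟦i⟧)) ↔
      (∀ i : ℤ, 0 < i → Subsingleton (Dual.HD A ((DRing.RgammaI (IsLocalRing.maximalIdeal A)).obj M) i))) ∧
    ((∀ i : ℤ, 0 < i → Subsingleton (M ⟶ ω⟦i⟧)) ↔
      (∀ i : ℤ, i < 0 → Subsingleton (Dual.HD A ((DRing.RgammaI (IsLocalRing.maximalIdeal A)).obj M) i))) := by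
  obtain ⟨E, _, _, f, hf⟩ :=
    Groth.Agent.Lib.Helper85.Hull.exists_injectiveHull (R := A) (IsLocalRing.ResidueField A)
  obtain ⟨J, a, b, hJ, hb, ⟨eJ⟩⟩ := Groth.Agent.Lib.Helper25.Bidual.exists_bounded_injective_model ω hω
  have hInj : DRing.HasInjAmplitudeIn A a b ω :=
    ⟨J, hb, fun n => (Module.injective_iff_injective_object A (J.X n)).2 (hJ n), ⟨eJ⟩⟩
  have key : ∀ i : ℤ, Subsingleton (M ⟶ ω⟦(-i)⟧) ↔
      Subsingleton (Dual.HD A ((DRing.RgammaI (IsLocalRing.maximalIdeal A)).obj M) i) := by
    intro i
    obtain ⟨e1⟩ := Groth.Agent.Lib.Helper25.LocColim.main (IsLocalRing.maximalIdeal A) M i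
    obtain ⟨e2⟩ := Groth.Agent.Lib.Helper39.LD.localDualityCx ω hω hn E f hf M hfin hbd i
    haveI : Module.Finite A (M ⟶ ω⟦(-i)⟧) :=
      Groth.Agent.Lib.Helper84.HomFinite.finite_hom M ω hfin hω.finite_cohomology ⟨a, b, hInj⟩ (-i)
    constructor
    · intro h
      haveI : Subsingleton ((M ⟶ ω⟦(-i)⟧) →ₗ[A] E) :=
        ⟨fun φ ψ => LinearMap.ext fun x => by rw [Subsingleton.elim x 0, map_zero, map_zero]⟩
      exact (e1.trans e2).toEquiv.subsingleton
    · intro h
      haveI : Subsingleton ((M ⟶ ω⟦(-i)⟧) →ₗ[A] E) := (e1.trans e2).symm.toEquiv.subsingleton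
      refine ⟨fun x y => ?_⟩
      by_contra hxy
      obtain ⟨φ, hφ⟩ := Groth.Agent.Lib.Helper39.LD.exists_hom_apply_ne_zero' hf
        (M ⟶ ω⟦(-i)⟧) (x - y) (sub_ne_zero.2 hxy)
      apply hφ
      rw [Subsingleton.elim φ 0]
      rfl
  refine ⟨⟨fun h i hi => ?_, fun h i hi => ?_⟩, ⟨fun h i hi => ?_, fun h i hi => ?_⟩⟩
  · exact (key i).1 (h (-i) (by omega))
  · have := (key (-i)).2 (h (-i) (by omega))
    rwa [neg_neg] at this
  · exact (key i).1 (h (-i) (by omega))
  · have := (key (-i)).2 (h (-i) (by omega))
    rwa [neg_neg] at this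

end Groth.Agent.S19135
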