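import Groth.Statements.S19136
import Mathlib.Tactic
-- import your own Groth.Agent.* helpers here

set_option autoImplicit false
universe u
open Instab

namespace Groth.Agent.S19136

/-- Let p be a seminorm and ℓ a linear form on a real vector space, let y₀ and y₁ be vectors at which p
is positive and ℓ is non-negative, and let y = t y₀ + (1 - t) y₁ with 0 < t < 1 be a point of the
open segment at which p is positive. Then ℓ(y)/p(y) is at least the smaller of ℓ(y₀)/p(y₀) and
ℓ(y₁)/p(y₁), and if it equals that smaller value then ℓ(y₀)/p(y₀) = ℓ(y₁)/p(y₁). (The published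
lemma concerns the numerical invariant attached to a degree-two cohomology class and a semi-norm on
graded points of a stack; restricted to one rational simplex that invariant is the quotient of a
linear form by a semi-norm on the non-negative orthant of a real coordinate space, and local
quasi-concavity there amounts to this inequality with its equality clause, the set where the linear
form is non-negative being automatically convex; the lemma's further assertion, that the invariant
is positive at no pair of antipodal points, is not stated here. The vector space is arbitrary here.) -/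
theorem result {E : Type u} [AddCommGroup E] [Module ℝ E]
    (p : Seminorm ℝ E) (ℓ : E →ₗ[ℝ] ℝ) (y₀ y₁ : E) (h₀ : 0 < p y₀) (h₁ : 0 < p y₁)
    (hℓ₀ : 0 ≤ ℓ y₀) (hℓ₁ : 0 ≤ ℓ y₁) (t : ℝ) (ht₀ : 0 < t) (ht₁ : t < 1)
    (hy : 0 < p (t • y₀ + (1 - t) • y₁)) :
    min (ℓ y₀ / p y₀) (ℓ y₁ / p y₁) ≤ ℓ (t • y₀ + (1 - t) • y₁) / p (t • y₀ + (1 - t) • y₁) ∧
      (ℓ (t • y₀ + (1 - t) • y₁) / p (t • y₀ + (1 - t) • y₁) = min (ℓ y₀ / p y₀) (ℓ y₁ / p y₁) →
        ℓ y₀ / p y₀ = ℓ y₁ / p y₁) := by
  set y := t • y₀ + (1 - t) • y₁ with hydef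
  have h1t : 0 < 1 - t := by linarith
  have hℓy : ℓ y = t * ℓ y₀ + (1 - t) * ℓ y₁ := by
    simp [hydef, map_add, map_smul, smul_eq_mul]
  have hpy : p y ≤ t * p y₀ + (1 - t) * p y₁ := by
    calc p y ≤ p (t • y₀) + p ((1 - t) • y₁) := map_add_le_add p _ _
      _ = t * p y₀ + (1 - t) * p y₁ := by
        rw [map_smul_eq_mul, map_smul_eq_mul, Real.norm_of_nonneg ht₀.le, Real.norm_of_nonneg h1t.le]
  set a := ℓ y₀ with ha
  set b := ℓ y₁ with hb
  set c := p y₀ with hc
  set d := p y₁ with hd
  set m := min (a / c) (b / d) with hm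
  have hma : m ≤ a / c := min_le_left _ _
  have hmb : m ≤ b / d := min_le_right _ _
  have hma' : m * c ≤ a := by rwa [le_div_iff₀ h₀] at hma
  have hmb' : m * d ≤ b := by rwa [le_div_iff₀ h₁] at hmb
  have hm0 : 0 ≤ m := le_min (div_nonneg hℓ₀ h₀.le) (div_nonneg hℓ₁ h₁.le)
  have hD : 0 < t * c + (1 - t) * d := by positivity
  have hmain : m * p y ≤ ℓ y := by
    calc m * p y ≤ m * (t * c + (1 - t) * d) := mul_le_mul_of_nonneg_left hpy hm0
      _ = t * (m * c) + (1 - t) * (m * d) := by ring
      _ ≤ t * a + (1 - t) * b := by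
        apply add_le_add
        · exact mul_le_mul_of_nonneg_left hma' ht₀.le
        · exact mul_le_mul_of_nonneg_left hmb' h1t.le
      _ = ℓ y := hℓy.symm
  refine ⟨by rw [le_div_iff₀ hy]; exact hmain, ?_⟩
  intro heq
  rw [div_eq_iff hy.ne'] at heq
  have e1 : t * (a - m * c) + (1 - t) * (b - m * d) ≤ 0 := by
    have : t * a + (1 - t) * b = m * p y := by rw [← hℓy, heq]
    have h2 : m * p y ≤ m * (t * c + (1 - t) * d) := mul_le_mul_of_nonneg_left hpy hm0
    nlinarith
  have n1 : 0 ≤ t * (a - m * c) := mul_nonneg ht₀.le (by linarith)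
  have n2 : 0 ≤ (1 - t) * (b - m * d) := mul_nonneg h1t.le (by linarith)
  have z1 : t * (a - m * c) = 0 := by linarith
  have z2 : (1 - t) * (b - m * d) = 0 := by linarith
  have z1' : a = m * c := by
    rcases mul_eq_zero.mp z1 with h | h
    · exact absurd h ht₀.ne'
    · linarith
  have z2' : b = m * d := by
    rcases mul_eq_zero.mp z2 with h | h
    · exact absurd h h1t.ne'
    · linarith
  rw [z1', z2', mul_div_assoc, mul_div_assoc, div_self h₀.ne', div_self h₁.ne']

end Groth.Agent.S19136
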