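import Groth.Statements.S19142
import Groth.Agent.Lib.Helper6.CentFinal

set_option autoImplicit false
open CategoryTheory MonoidalCategory CartesianMonoidalCategory MonObj GrpObj AlgebraicGeometry
universe u
open SGA3x

namespace Groth.Agent.S19142

/-- Let H be an S-group of multiplicative type (of arbitrary type: no finite-type hypothesis), G an
S-group smooth and affine over S and u : H ⟶ G a homomorphism. Then the centralizer of u in G is
representable by a closed subgroup scheme of G which is smooth over S. -/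
theorem result {S : Scheme.{u}} (H G : Over S) [GrpObj H] [GrpObj G]
    (hH : TwC.Locally S TwC.Topology.fpqc (fun S' g => ∃ (M : Type) (_ : AddCommGroup M), Nonempty (Grp.mk (Red.bc g H) ≅ Grp.mk (Red.DS S' M))))
    (hG : Smooth G.hom) (hGa : IsAffineHom G.hom) (u : H ⟶ G) [IsMonHom u] :
    ∃ (Z : Over S) (_ : GrpObj Z) (j : Z ⟶ G), Red.IsCentralizerOf u j ∧ IsClosedImmersion j.left ∧ Smooth Z.hom := by
  have := hG
  have := hGa
  have hH' : ∃ (S' : Scheme.{u}) (f : S' ⟶ S), Flat f ∧ Surjective f ∧
      (∀ V : S.Opens, IsAffineOpen V →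
        ∃ W : S'.Opens, IsCompact (W : Set S') ∧ f.base '' (W : Set S') = (V : Set S)) ∧
      ∀ s' : S', ∃ U : S'.Opens, s' ∈ U ∧ ∃ (M : Type) (_ : AddCommGroup M),
        Nonempty (Grp.mk (Red.bc (U.ι ≫ f) H) ≅ Grp.mk (Red.DS (U : Scheme.{u}) M)) := hH
  have hrep : Groth.Agent.Lib.Helper6.MultTypeClosed.HasRep H G True :=
    Groth.Agent.Lib.Helper6.MultTypeClosed.hasRep_of_multType' H G hH'
  have : IsSeparated G.hom := inferInstance
  have : LocallyOfFinitePresentation G.hom := inferInstance
  obtain ⟨C, c, hci, hfp, hpts⟩ :=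
    Groth.Agent.Lib.Helper6.CentFinal.centralizer_of_hasRep_fp hrep trivial u
  have := hci
  have := hfp
  have : Mono c.left := inferInstance
  have : Mono c := (Over.forget S).mono_of_mono_map ‹Mono c.left›
  obtain ⟨inst, hmon⟩ := Groth.Agent.Lib.Helper6.CentFinal.subgroup_of_centralizer u C c hpts
  exact ⟨C, inst, c, ⟨hmon, inferInstance, hpts⟩, hci,
    Groth.Agent.Lib.Helper6.CentGlobal.smooth_of_multType H G u hH' C c hpts⟩

end Groth.Agent.S19142
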