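import Groth.Statements.S19144
import Groth.Agent.Lib.Helper5.FpqcLocal
import Groth.Agent.S0081
import Mathlib

set_option autoImplicit false
set_option linter.style.haveILetI false
open CategoryTheory MonoidalCategory CartesianMonoidalCategory MonObj GrpObj AlgebraicGeometry
universe u
open TwC

namespace Groth.Agent.S19144

open CategoryTheory.Limits TopologicalSpace Opposite

section K

variable {U : Scheme.{u}} {I : Type u}

/-- the fold map -/
noncomputable abbrev fold (U : Scheme.{u}) (I : Type u) : (∐ fun _ : I => U) ⟶ U :=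
  Sigma.desc fun _ : I => 𝟙 U

lemma ι_fold (i : I) : Sigma.ι (fun _ : I => U) i ≫ fold U I = 𝟙 U := by
  simp [fold]

lemma exists_sigmaι_eq (x : ↥(∐ fun _ : I => U)) :
    ∃ (i : I) (a : U), Sigma.ι (fun _ : I => U) i a = x := by
  obtain ⟨⟨i, a⟩, rfl⟩ := (sigmaMk (fun _ : I => U)).surjective x
  exact ⟨i, a, (sigmaMk_mk (fun _ : I => U) i a).symm⟩

lemma etale_fold : Etale (fold U I) := by
  haveI : IsZariskiLocalAtSource @Etale.{u} :=
    HasRingHomProperty.instIsZariskiLocalAtSource (Q := RingHom.Etale)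
  exact IsZariskiLocalAtSource.sigmaDesc (P := @Etale) fun _ => inferInstance

lemma existence_fold : ValuativeCriterion.Existence (fold U I) := by
  intro S
  obtain ⟨i, a, ha⟩ := exists_sigmaι_eq (S.i₁ default)
  have hrange : Set.range S.i₁ ⊆ Set.range (Sigma.ι (fun _ : I => U) i) := by
    rintro _ ⟨y, rfl⟩
    obtain rfl : y = default := Subsingleton.elim _ _
    exact ⟨a, ha⟩
  let m := IsOpenImmersion.lift (Sigma.ι (fun _ : I => U) i) S.i₁ hrange
  have hm : m ≫ Sigma.ι (fun _ : I => U) i = S.i₁ := IsOpenImmersion.lift_fac _ _ _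
  have h1 := S.commSq.w
  refine ⟨⟨⟨S.i₂ ≫ Sigma.ι (fun _ : I => U) i, ?_, ?_⟩⟩⟩
  · rw [← reassoc_of% h1]
    calc S.i₁ ≫ fold U I ≫ Sigma.ι (fun _ : I => U) i
        = m ≫ Sigma.ι (fun _ : I => U) i ≫ fold U I ≫ Sigma.ι (fun _ : I => U) i := by
          rw [reassoc_of% hm]
      _ = S.i₁ := by rw [reassoc_of% (ι_fold (U := U) i), hm]
  · rw [Category.assoc, ι_fold, Category.comp_id]

lemma factor_of_le {T : Scheme.{u}} (r : T ⟶ ∐ fun _ : I => U) (i : I) (W : T.Opens)
    (hW : W ≤ r ⁻¹ᵁ (Sigma.ι (fun _ : I => U) i).opensRange) :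
    W.ι ≫ r = W.ι ≫ r ≫ fold U I ≫ Sigma.ι (fun _ : I => U) i := by
  have hrange : Set.range (W.ι ≫ r) ⊆ Set.range (Sigma.ι (fun _ : I => U) i) := by
    rintro _ ⟨w, rfl⟩
    rw [Scheme.Hom.comp_apply]
    exact hW w.2
  have hl := IsOpenImmersion.lift_fac (Sigma.ι (fun _ : I => U) i) (W.ι ≫ r) hrange
  conv_rhs => rw [← Category.assoc, ← hl, Category.assoc, reassoc_of% (ι_fold (U := U) i)]
  exact hl.symm

lemma isSeparated_fold : IsSeparated (fold U I) := by
  refine ⟨IsClosedImmersion.of_isPreimmersion _ ?_⟩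
  rw [← isOpen_compl_iff, isOpen_iff_forall_mem_open]
  intro p hp
  obtain ⟨i, a, ha⟩ := exists_sigmaι_eq (pullback.fst (fold U I) (fold U I) p)
  obtain ⟨j, b, hb⟩ := exists_sigmaι_eq (pullback.snd (fold U I) (fold U I) p)
  let W : (pullback (fold U I) (fold U I)).Opens :=
    pullback.fst (fold U I) (fold U I) ⁻¹ᵁ (Sigma.ι (fun _ : I => U) i).opensRange ⊓
      pullback.snd (fold U I) (fold U I) ⁻¹ᵁ (Sigma.ι (fun _ : I => U) j).opensRange
  have hpW : p ∈ W := ⟨⟨a, ha⟩, ⟨b, hb⟩⟩
  by_cases hij : i = j
  · subst hij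
    exfalso
    apply hp
    have e1 := factor_of_le (pullback.fst (fold U I) (fold U I)) i W inf_le_left
    have e2 := factor_of_le (pullback.snd (fold U I) (fold U I)) i W inf_le_right
    have e : W.ι ≫ pullback.fst (fold U I) (fold U I) = W.ι ≫ pullback.snd (fold U I) (fold U I) := by
      rw [e1, e2, reassoc_of% (pullback.condition (f := fold U I) (g := fold U I))]
    have hW : W.ι = (W.ι ≫ pullback.fst (fold U I) (fold U I)) ≫ pullback.diagonal (fold U I) := by
      apply pullback.hom_ext
      · simp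
      · simp [e]
    refine ⟨(W.ι ≫ pullback.fst (fold U I) (fold U I)) (⟨p, hpW⟩ : W.toScheme), ?_⟩
    refine (Scheme.Hom.comp_apply (W.ι ≫ pullback.fst (fold U I) (fold U I))
      (pullback.diagonal (fold U I)) _).symm.trans ?_
    rw [← hW]
    rfl
  · refine ⟨W, ?_, W.2, hpW⟩
    rintro _ ⟨⟨a', ha'⟩, ⟨b', hb'⟩⟩ ⟨r, rfl⟩
    have h1 : pullback.fst (fold U I) (fold U I) (pullback.diagonal (fold U I) r) = r := by
      rw [← Scheme.Hom.comp_apply, pullback.diagonal_fst]; rfl
    have h2 : pullback.snd (fold U I) (fold U I) (pullback.diagonal (fold U I) r) = r := by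
      rw [← Scheme.Hom.comp_apply, pullback.diagonal_snd]; rfl
    have h3 : Sigma.ι (fun _ : I => U) i a' = Sigma.ι (fun _ : I => U) j b' := by
      rw [ha', hb', h1, h2]
    exact hij (congrArg Sigma.fst ((sigmaι_eq_iff _ _ _ _ _).mp h3))

end K


section Desc

/-- Descent of the existence part of the valuative criterion along a jointly surjective flat
family. -/
lemma existence_of_flat_family {Y Z : Scheme.{u}} (g : Y ⟶ Z) {κ : Type*} (Zi : κ → Scheme.{u})
    (f : ∀ i, Zi i ⟶ Z) (hf : ∀ i, Flat (f i)) (hsurj : ∀ z : Z, ∃ i, z ∈ Set.range (f i))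
    (H : ∀ i, ValuativeCriterion.Existence (pullback.snd g (f i))) :
    ValuativeCriterion.Existence g := by
  rw [ValuativeCriterion.Existence.eq]
  intro Y' T i₁ i₂ g' hsq
  change SpecializingMap g'
  intro y t hyt
  change g' y ⤳ t at hyt
  obtain ⟨i, zi, hzi⟩ := hsurj (i₂ t)
  haveI := hf i
  let p := pullback.fst i₂ (f i)
  let q := pullback.snd i₂ (f i)
  obtain ⟨ti, hti1, hti2⟩ := Scheme.Pullback.exists_preimage_pullback (f := i₂) (g := f i)
    t zi hzi.symm
  have hgen : GeneralizingMap p := Flat.generalizingMap p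
  obtain ⟨ti', hti'1, hti'2⟩ := hgen (a := ti) (b := g' y) (by rw [hti1]; exact hyt)
  obtain ⟨yi, hyi1, hyi2⟩ := Scheme.Pullback.exists_preimage_pullback (f := g') (g := p)
    y ti' hti'2.symm
  let pr := pullback.fst g' p
  let gi := pullback.snd g' p
  -- `gi` is a base change of `pullback.snd g (f i)`
  have big : IsPullback (pr ≫ i₁) gi g (q ≫ f i) := by
    have := (IsPullback.of_hasPullback g' p).paste_horiz hsq.flip
    rwa [pullback.condition (f := i₂) (g := f i)] at this
  have hcond : (pr ≫ i₁) ≫ g = (gi ≫ q) ≫ f i := by rw [big.w, Category.assoc]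
  let l : pullback g' p ⟶ pullback g (f i) := pullback.lift (pr ≫ i₁) (gi ≫ q) hcond
  have hl1 : l ≫ pullback.fst g (f i) = pr ≫ i₁ := pullback.lift_fst _ _ _
  have hl2 : l ≫ pullback.snd g (f i) = gi ≫ q := pullback.lift_snd _ _ _
  have left : IsPullback l gi (pullback.snd g (f i)) q := by
    refine IsPullback.of_right ?_ hl2 (IsPullback.of_hasPullback g (f i))
    rw [hl1]
    exact big
  have hgi : ValuativeCriterion.Existence gi :=
    MorphismProperty.of_isPullback (P := ValuativeCriterion.Existence) left (H i)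
  have hspec : SpecializingMap gi := by
    rw [ValuativeCriterion.Existence.eq] at hgi
    exact MorphismProperty.universally_le _ _ hgi
  obtain ⟨yi', hyi'1, hyi'2⟩ := hspec (a := yi) (b := ti) (by
    change gi yi ⤳ ti
    rw [hyi2]; exact hti'1)
  change yi ⤳ yi' at hyi'1
  refine ⟨pr yi', ?_, ?_⟩
  · change y ⤳ pr yi'
    rw [← hyi1]
    exact hyi'1.map pr.continuous
  · change g' (pr yi') = t
    rw [← Scheme.Hom.comp_apply, pullback.condition, Scheme.Hom.comp_apply]
    change p (gi yi') = t
    rw [hyi'2, hti1]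

end Desc


section Main

set_option backward.isDefEq.respectTransparency.types false in
lemma isZLAT_isSeparated : IsZariskiLocalAtTarget @IsSeparated.{u} := inferInstance

set_option backward.isDefEq.respectTransparency.types false in
lemma isZLAT_etale : IsZariskiLocalAtTarget @Etale.{u} := inferInstance

set_option backward.isDefEq.respectTransparency.types false in
lemma descends_etale : MorphismProperty.DescendsAlong @Etale.{u}
    (@Surjective ⊓ @Flat ⊓ @QuasiCompact : MorphismProperty Scheme.{u}) := inferInstance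

end Main


/-- A quasi-isotrivial twisted constant S-scheme X (etale-locally on S isomorphic to a constant scheme)
is separated and etale over S, and its structure morphism satisfies the valuative criterion of
properness (every valuative square has exactly one lift; X ⟶ S need not be quasi-compact). -/
theorem result {S : Scheme.{u}} (X : Over S)
    (hX : TwC.IsTwConst TwC.Topology.etale X) :
    IsSeparated X.hom ∧ Etale X.hom ∧ ValuativeCriterion X.hom := by
  choose S' f hfet hfs htriv using hX
  let 𝒰 : PreZeroHypercover.{u} S := { I₀ := S, X := S', f := f }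
  have hfl : ∀ i, Flat (f i) := fun i => by
    haveI := hfet i
    infer_instance
  haveI : QuasiCompactCover 𝒰 :=
    ⟨fun {V} hV => .of_isOpenMap (fun i => (f i).continuous)
      (fun i => by
        haveI := hfet i
        exact (f i).isOpenMap)
      (fun x _ => ⟨x, hfs x⟩) V.2 hV.isCompact⟩
  have key : ∀ s, ∃ (I : Type u) (e : pullback X.hom (f s) ≅ ∐ fun _ : I => S' s),
      pullback.snd X.hom (f s) = e.hom ≫ fold (S' s) I := by
    intro s
    obtain ⟨I, ⟨e⟩⟩ := htriv s
    refine ⟨I, (Over.forget _).mapIso e, ?_⟩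
    exact (Over.w e.hom).symm
  have hsep : IsSeparated X.hom := by
    haveI := Groth.Agent.S0081.result.{u}
    haveI := isZLAT_isSeparated.{u}
    refine Groth.Agent.Lib.Helper5.of_quasiCompactCover @IsSeparated X.hom 𝒰 hfl fun s => ?_
    obtain ⟨I, e, he⟩ := key s
    change IsSeparated (pullback.snd X.hom (f s))
    rw [he]
    haveI := isSeparated_fold (U := S' s) (I := I)
    infer_instance
  have het : Etale X.hom := by
    haveI := descends_etale.{u}
    haveI := isZLAT_etale.{u}
    refine Groth.Agent.Lib.Helper5.of_quasiCompactCover @Etale X.hom 𝒰 hfl fun s => ?_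
    obtain ⟨I, e, he⟩ := key s
    change Etale (pullback.snd X.hom (f s))
    rw [he]
    haveI := etale_fold (U := S' s) (I := I)
    infer_instance
  refine ⟨hsep, het, ?_⟩
  rw [ValuativeCriterion.iff]
  refine ⟨?_, IsSeparated.valuativeCriterion X.hom⟩
  refine existence_of_flat_family X.hom S' f hfl (fun z => ⟨z, hfs z⟩) fun s => ?_
  obtain ⟨I, e, he⟩ := key s
  rw [he]
  haveI : ValuativeCriterion.Existence.RespectsIso :=
    MorphismProperty.IsStableUnderBaseChange.respectsIso
  exact (MorphismProperty.cancel_left_of_respectsIso ValuativeCriterion.Existence e.hom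
    (fold (S' s) I)).mpr existence_fold

end Groth.Agent.S19144
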