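import Groth.Statements.S19148
import Mathlib

set_option autoImplicit false
open scoped TensorProduct
universe u v
open FiltMod

namespace Groth.Agent.S19148

section
variable {R : Type u} [CommRing R] {M : Type v} [AddCommGroup M] [Module R M]
  [Module.Finite R M] [Module.Projective R M]

omit [Module.Finite R M] [Module.Projective R M] in
theorem stepA (F₁ F₂ : Submodule R M) (k' : ℕ)
    (h : LinearMap.range (PiTensorProduct.map (R := R) (fun _ : Fin (k'+1) => F₁.subtype)) ≤
      LinearMap.range (PiTensorProduct.map (R := R) (fun _ : Fin (k'+1) => F₂.subtype)))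
    (ψ : Fin (k'+1) → Module.Dual R M) (hψ : ∀ y ∈ F₂, ψ 0 y = 0)
    (x : Fin (k'+1) → M) (hx : ∀ i, x i ∈ F₁) : ∏ i, ψ i (x i) = 0 := by
  let Λ : (⨂[R] _ : Fin (k'+1), M) →ₗ[R] R :=
    PiTensorProduct.lift ((MultilinearMap.mkPiAlgebra R (Fin (k'+1)) R).compLinearMap ψ)
  have hΛ : ∀ m : Fin (k'+1) → M, Λ (PiTensorProduct.tprod R m) = ∏ i, ψ i (m i) := by
    intro m
    simp [Λ, PiTensorProduct.lift.tprod]
  have h2 : LinearMap.range (PiTensorProduct.map (R := R) (fun _ : Fin (k'+1) => F₂.subtype)) ≤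
      LinearMap.ker Λ := by
    rw [PiTensorProduct.map_range_eq_span_tprod, Submodule.span_le]
    rintro _ ⟨m, rfl⟩
    rw [SetLike.mem_coe, LinearMap.mem_ker, hΛ]
    exact Finset.prod_eq_zero (Finset.mem_univ 0) (hψ _ (m 0).2)
  have h3 : PiTensorProduct.tprod R x ∈
      LinearMap.range (PiTensorProduct.map (R := R) (fun _ : Fin (k'+1) => F₁.subtype)) := by
    refine ⟨PiTensorProduct.tprod R (fun i => (⟨x i, hx i⟩ : F₁)), ?_⟩
    rw [PiTensorProduct.map_tprod]
    rfl
  have h4 := h2 (h h3)
  rw [LinearMap.mem_ker, hΛ] at h4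
  exact h4

theorem sub_of_range_le (F₁ F₂ C₁ C₂ : Submodule R M) (hc₁ : IsCompl F₁ C₁) (hc₂ : IsCompl F₂ C₂)
    (k' : ℕ)
    (h : LinearMap.range (PiTensorProduct.map (R := R) (fun _ : Fin (k'+1) => F₁.subtype)) ≤
      LinearMap.range (PiTensorProduct.map (R := R) (fun _ : Fin (k'+1) => F₂.subtype))) :
    F₁ ≤ F₂ := by
  classical
  obtain ⟨n, f, g, -, -, hfg⟩ := Module.Finite.exists_comp_eq_id_of_projective R M
  let p₁ : M →ₗ[R] M := F₁.subtype ∘ₗ Submodule.projectionOnto F₁ C₁ hc₁
  have hp₁ : ∀ x ∈ F₁, p₁ x = x := by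
    intro x hx
    simp only [p₁, LinearMap.comp_apply, Submodule.subtype_apply]
    rw [Submodule.projectionOnto_apply_of_mem_left hc₁ hx]
  have hp₁mem : ∀ m, p₁ m ∈ F₁ := fun m => Submodule.coe_mem _
  -- expansion
  have hexp : ∀ (θ : Module.Dual R M) (x : M), x ∈ F₁ →
      θ x = ∑ l : Fin n, (g x l) * θ (p₁ (f (Pi.single l 1))) := by
    intro θ x hx
    have h1 : x = p₁ (f (g x)) := by
      have : f (g x) = x := LinearMap.congr_fun hfg x
      rw [this, hp₁ x hx]
    have h2 : g x = ∑ l : Fin n, (g x l) • (Pi.single l (1 : R) : Fin n → R) := by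
      ext j
      simp [Finset.sum_apply, Pi.single_apply]
    conv_lhs => rw [h1, h2]
    simp only [map_sum, map_smul, smul_eq_mul]
  let T : ℕ → Prop := fun m => ∀ (θ : Module.Dual R M), (∀ y ∈ F₂, θ y = 0) → ∀ x ∈ F₁,
    ∀ (ψ' : Fin m → Module.Dual R M) (y : Fin m → M), (∀ i, y i ∈ F₁) →
      θ x * ∏ i, ψ' i (y i) = 0
  have hT0 : T k' := by
    intro θ hθ x hx ψ' y hy
    have := stepA F₁ F₂ k' h (Fin.cons θ ψ') (by simpa using hθ) (Fin.cons x y)
      (by
        intro i
        refine Fin.cases ?_ ?_ i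
        · simpa using hx
        · intro j; simpa using hy j)
    rw [Fin.prod_univ_succ] at this
    simpa using this
  have hstep : ∀ m, T (m+1) → T m := by
    intro m hm θ hθ x hx ψ' y hy
    rw [hexp θ x hx, Finset.sum_mul]
    apply Finset.sum_eq_zero
    intro l _
    have := hm θ hθ (p₁ (f (Pi.single l 1))) (hp₁mem _)
      (Fin.cons ((LinearMap.proj l) ∘ₗ g) ψ') (Fin.cons x y)
      (by
        intro i
        refine Fin.cases ?_ ?_ i
        · simpa using hx
        · intro j; simpa using hy j)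
    rw [Fin.prod_univ_succ] at this
    simp only [Fin.cons_zero, Fin.cons_succ, LinearMap.comp_apply, LinearMap.proj_apply] at this
    rw [← this]
    ring
  have hdown : ∀ d m, T (m + d) → T m := by
    intro d
    induction d with
    | zero => intro m hm; simpa using hm
    | succ d ih =>
      intro m hm
      apply hstep
      apply ih
      have : m + 1 + d = m + (d + 1) := by ring
      rw [this]
      exact hm
  have hT : T 0 := hdown k' 0 (by simpa using hT0)
  intro x hx
  let q : M →ₗ[R] M := C₂.subtype ∘ₗ Submodule.projectionOnto C₂ F₂ hc₂.symm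
  have hq : ∀ y ∈ F₂, q y = 0 := by
    intro y hy
    simp only [q, LinearMap.comp_apply]
    rw [(Submodule.projectionOnto_apply_eq_zero_iff hc₂.symm).mpr hy, map_zero]
  have hqx : q x = 0 := by
    rw [← Module.forall_dual_apply_eq_zero_iff R]
    intro θ
    have := hT (θ ∘ₗ q) (fun y hy => by simp [hq y hy]) x hx Fin.elim0 Fin.elim0 (fun i => i.elim0)
    simpa using this
  simp only [q, LinearMap.comp_apply, Submodule.subtype_apply, ZeroMemClass.coe_eq_zero] at hqx
  exact (Submodule.projectionOnto_apply_eq_zero_iff hc₂.symm).mp hqx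

end

/-- In affine form, let R be a commutative ring, M a finitely generated projective R-module (a finite
locally free sheaf on Spec R), F₁ and F₂ direct summands of M and k ≥ 1. Then the images of F₁^{⊗k}
and F₂^{⊗k} in the k-th tensor power M^{⊗k} are equal if and only if F₁ = F₂. (The source states
this for local direct factors of a finite locally free sheaf on a scheme; equality of subsheaves
being local, this is the affine case with global direct summands, to which it reduces.) -/
theorem result {R : Type u} [CommRing R] {M : Type v} [AddCommGroup M] [Module R M]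
    [Module.Finite R M] [Module.Projective R M] (F₁ F₂ : Submodule R M)
    (h₁ : ∃ C : Submodule R M, IsCompl F₁ C) (h₂ : ∃ C : Submodule R M, IsCompl F₂ C) (k : ℕ) (hk : 1 ≤ k) :
    LinearMap.range (PiTensorProduct.map (R := R) (fun _ : Fin k => F₁.subtype)) =
      LinearMap.range (PiTensorProduct.map (R := R) (fun _ : Fin k => F₂.subtype)) ↔ F₁ = F₂ := by
  obtain ⟨k', rfl⟩ : ∃ k', k = k' + 1 := ⟨k - 1, by omega⟩
  obtain ⟨C₁, hc₁⟩ := h₁
  obtain ⟨C₂, hc₂⟩ := h₂
  constructor
  · intro h
    exact le_antisymm (sub_of_range_le F₁ F₂ C₁ C₂ hc₁ hc₂ k' h.le)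
      (sub_of_range_le F₂ F₁ C₂ C₁ hc₂ hc₁ k' h.ge)
  · rintro rfl
    rfl

end Groth.Agent.S19148
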