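import Groth.Statements.S19170
import Mathlib

set_option autoImplicit false
universe u
open ProCompl

namespace Groth.Agent.S19170


theorem qz_torsion : IsAddTorsion (ℚ ⧸ AddSubgroup.zmultiples (1 : ℚ)) := by
  intro x
  obtain ⟨q, rfl⟩ := QuotientAddGroup.mk_surjective x
  rw [isOfFinAddOrder_iff_nsmul_eq_zero]
  refine ⟨q.den, q.den_pos, ?_⟩
  rw [← QuotientAddGroup.mk_nsmul, QuotientAddGroup.eq_zero_iff]
  refine ⟨q.num, ?_⟩
  simp [Rat.den_mul_eq_num]

theorem finite_image_of_compact {B : Type u} {G : Type*} [AddCommGroup B] [TopologicalSpace B]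
    [IsTopologicalAddGroup B] [AddCommGroup G] (K : Set B) (hK : IsCompact K) (χ : B →+ G)
    (hχ : IsOpen (χ.ker : Set B)) : (χ '' K).Finite := by
  have hopen : ∀ k : B, IsOpen {x | χ x = χ k} := by
    intro k
    have : {x | χ x = χ k} = (fun x => x - k) ⁻¹' (χ.ker : Set B) := by
      ext x
      simp [AddMonoidHom.mem_ker, sub_eq_zero]
    rw [this]
    exact hχ.preimage (continuous_id.sub continuous_const)
  obtain ⟨t, _, ht⟩ := hK.elim_nhds_subcover (fun k => {x | χ x = χ k})
    (fun k _ => (hopen k).mem_nhds rfl)
  apply Set.Finite.subset (t.finite_toSet.image χ)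
  rintro _ ⟨x, hx, rfl⟩
  obtain ⟨k, hk, hxk⟩ := Set.mem_iUnion₂.mp (ht hx)
  exact ⟨k, hk, hxk.symm⟩

/-- Let B be a topological abelian group generated as a group by a compact subset. Then every character
χ : B → ℚ/ℤ with open kernel (a continuous character for discrete ℚ/ℤ) has kernel of finite index;
consequently each such character factors through B^∧, the completion of B taken along its
finite-index open subgroups, i.e. (B^∧)^D = B^D. (The published statement assumes moreover that B is
Hausdorff, locally compact and totally disconnected; only compact generation is needed for this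
assertion, so those assumptions are dropped here.) -/
theorem result
    {B : Type u} [AddCommGroup B] [TopologicalSpace B] [IsTopologicalAddGroup B]
    (hcg : ∃ K : Set B, IsCompact K ∧ AddSubgroup.closure K = ⊤)
    (χ : B →+ ℚ ⧸ AddSubgroup.zmultiples (1 : ℚ)) (hχ : IsOpen (χ.ker : Set B)) : χ.ker.FiniteIndex := by
  obtain ⟨K, hK, hKtop⟩ := hcg
  have hfin : (χ '' K).Finite := finite_image_of_compact K hK χ hχ
  have hrange : χ.range = AddSubgroup.closure (χ '' K) := by
    rw [← AddMonoidHom.map_closure, hKtop, AddMonoidHom.range_eq_map]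
  haveI : Finite (χ '' K) := hfin
  haveI : AddGroup.FG (AddSubgroup.closure (χ '' K)) := inferInstance
  haveI : AddGroup.FG χ.range := hrange ▸ this
  haveI : Finite χ.range := AddCommGroup.finite_of_fg_isAddTorsion _ (qz_torsion.addSubgroup _)
  exact AddSubgroup.finiteIndex_ker χ

end Groth.Agent.S19170
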