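import Groth.Statements.S19172
import Groth.Agent.Lib.Helper63.FIComplLim

set_option autoImplicit false
universe u v w
open ProCompl

namespace Groth.Agent.S19172

open W4c61motalbduality Groth.Agent.Lib.Helper63.FIComplLim

def mapFI {B : Type v} {C : Type w} [AddCommGroup B] [TopologicalSpace B]
    [AddCommGroup C] [TopologicalSpace C] (p : B →+ C) (hpo : IsOpenMap p)
    (hps : Function.Surjective p) (V : OpenFI B) : OpenFI C where
  toAddSubgroup := V.toAddSubgroup.map p
  isOpen' := by
    rw [AddSubgroup.coe_map]
    exact hpo _ V.isOpen'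
  finiteIndex' := by
    have := V.finiteIndex'
    refine ⟨fun h => ?_⟩
    have hd := AddSubgroup.index_map_dvd V.toAddSubgroup hps
    rw [h] at hd
    exact AddSubgroup.FiniteIndex.index_ne_zero (zero_dvd_iff.mp hd)

open W4c61motalbduality in
/-- Let i : A → B and p : B → C be continuous homomorphisms of topological abelian groups with p
surjective and open and with the kernel of p equal to the image of i. Then the induced sequence of
completions with respect to open subgroups of finite index, A^∧ → B^∧ → C^∧ → 0, is exact: the map
B^∧ → C^∧ is surjective and its kernel is the image of A^∧. The completion is the group of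
compatible families of residues modulo all open subgroups of finite index. (The published statement
takes i injective, as the first map of an exact sequence 0 → A → B → C → 0 of topological abelian
groups; here it is only assumed that the image of i is the kernel of p, which is all the proof
uses.) -/
theorem result
    {A : Type u} {B : Type v} {C : Type w}
    [AddCommGroup A] [TopologicalSpace A] [IsTopologicalAddGroup A]
    [AddCommGroup B] [TopologicalSpace B] [IsTopologicalAddGroup B]
    [AddCommGroup C] [TopologicalSpace C] [IsTopologicalAddGroup C]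
    (i : A →+ B) (hi : Continuous i) (p : B →+ C) (hp : Continuous p)
    (hpo : IsOpenMap p) (hps : Function.Surjective p) (hex : p.ker = i.range) :
    Function.Surjective (FICompl.map p hp) ∧ (FICompl.map p hp).ker = (FICompl.map i hi).range := by
  constructor
  · intro z
    let S : ∀ V : OpenFI B, Set (B ⧸ V.toAddSubgroup) := fun V =>
      {t | QuotientAddGroup.map V.toAddSubgroup (mapFI p hpo hps V).toAddSubgroup p
        (AddSubgroup.le_comap_map p V.toAddSubgroup) t = z.1 (mapFI p hpo hps V)}
    have hne : ∀ V, (S V).Nonempty := by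
      intro V
      obtain ⟨c, hc⟩ := QuotientAddGroup.mk_surjective (z.1 (mapFI p hpo hps V))
      obtain ⟨b, rfl⟩ := hps c
      exact ⟨QuotientAddGroup.mk b, hc⟩
    have hcompat : ∀ (U V : OpenFI B) (h : U.toAddSubgroup ≤ V.toAddSubgroup), ∀ t ∈ S U,
        QuotientAddGroup.map U.toAddSubgroup V.toAddSubgroup (AddMonoidHom.id B) h t ∈ S V := by
      intro U V h t ht
      obtain ⟨b, rfl⟩ := QuotientAddGroup.mk_surjective t
      have h1 : (QuotientAddGroup.mk (p b) : C ⧸ (mapFI p hpo hps U).toAddSubgroup) =
          z.1 (mapFI p hpo hps U) := ht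
      have h2 := z.2 (mapFI p hpo hps U) (mapFI p hpo hps V) (AddSubgroup.map_mono h)
      rw [← h1] at h2
      exact h2
    obtain ⟨y, hy⟩ := exists_compl_mem S hne hcompat
    refine ⟨y, ?_⟩
    apply Subtype.ext
    funext W
    obtain ⟨b, hb⟩ := QuotientAddGroup.mk_surjective (y.1 (W.comap p hp))
    have h1 : (QuotientAddGroup.mk (p b) :
        C ⧸ (mapFI p hpo hps (W.comap p hp)).toAddSubgroup) =
        z.1 (mapFI p hpo hps (W.comap p hp)) := by
      have := hy (W.comap p hp)
      rw [← hb] at this
      exact this
    have h2 := z.2 (mapFI p hpo hps (W.comap p hp)) W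
      (AddSubgroup.map_comap_le p W.toAddSubgroup)
    rw [← h1] at h2
    rw [← h2]
    change QuotientAddGroup.map _ _ p _ (y.1 (W.comap p hp)) = _
    rw [← hb]
    rfl
  · ext y
    rw [AddMonoidHom.mem_ker, AddMonoidHom.mem_range]
    constructor
    · intro hy
      have stepA : ∀ V : OpenFI B, ∃ a : A,
          (QuotientAddGroup.mk (i a) : B ⧸ V.toAddSubgroup) = y.1 V := by
        intro V
        obtain ⟨b, hb⟩ := QuotientAddGroup.mk_surjective (y.1 V)
        have h0 : (FICompl.map p hp y).1 (mapFI p hpo hps V) = 0 := by rw [hy]; rfl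
        have hle : V.toAddSubgroup ≤ ((mapFI p hpo hps V).comap p hp).toAddSubgroup :=
          AddSubgroup.le_comap_map p V.toAddSubgroup
        have h1 := y.2 V ((mapFI p hpo hps V).comap p hp) hle
        rw [← hb] at h1
        change QuotientAddGroup.map _ _ p _ (y.1 ((mapFI p hpo hps V).comap p hp)) = 0 at h0
        rw [← h1] at h0
        have h2 : (QuotientAddGroup.mk (p b) : C ⧸ (mapFI p hpo hps V).toAddSubgroup) = 0 := h0
        rw [QuotientAddGroup.eq_zero_iff] at h2
        obtain ⟨v, hv, hvb⟩ := h2
        have h3 : b - v ∈ p.ker := by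
          rw [AddMonoidHom.mem_ker, map_sub, hvb, sub_self]
        rw [hex] at h3
        obtain ⟨a, ha⟩ := h3
        refine ⟨a, ?_⟩
        rw [ha, ← hb, QuotientAddGroup.mk_sub]
        have : (QuotientAddGroup.mk v : B ⧸ V.toAddSubgroup) = 0 :=
          (QuotientAddGroup.eq_zero_iff v).mpr hv
        rw [this, sub_zero]
      let T : ∀ U : OpenFI A, Set (A ⧸ U.toAddSubgroup) := fun U =>
        {t | ∀ V : OpenFI B, ∃ a : A, (QuotientAddGroup.mk a : A ⧸ U.toAddSubgroup) = t ∧
          (QuotientAddGroup.mk (i a) : B ⧸ V.toAddSubgroup) = y.1 V}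
      have hne : ∀ U, (T U).Nonempty := by
        intro U
        have hfin : Finite (A ⧸ U.toAddSubgroup) := finite_quot U
        obtain ⟨t, ht⟩ := exists_mem_iInter_of_directed (ι := OpenFI B)
          (fun V => {t : A ⧸ U.toAddSubgroup | ∃ a : A,
            (QuotientAddGroup.mk a : A ⧸ U.toAddSubgroup) = t ∧
            (QuotientAddGroup.mk (i a) : B ⧸ V.toAddSubgroup) = y.1 V})
          (fun V => by
            obtain ⟨a, ha⟩ := stepA V
            exact ⟨QuotientAddGroup.mk a, a, rfl, ha⟩)
          (fun V V' => by
            refine ⟨infFI V V', ?_⟩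
            rintro t ⟨a, hat, hay⟩
            refine ⟨⟨a, hat, ?_⟩, ⟨a, hat, ?_⟩⟩
            · have := y.2 (infFI V V') V inf_le_left
              rw [← hay] at this
              exact this
            · have := y.2 (infFI V V') V' inf_le_right
              rw [← hay] at this
              exact this)
        exact ⟨t, fun V => Set.mem_iInter.mp ht V⟩
      have hcompat : ∀ (U V : OpenFI A) (h : U.toAddSubgroup ≤ V.toAddSubgroup), ∀ t ∈ T U,
          QuotientAddGroup.map U.toAddSubgroup V.toAddSubgroup (AddMonoidHom.id A) h t ∈ T V := by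
        intro U V h t ht W
        obtain ⟨a, hat, hay⟩ := ht W
        refine ⟨a, ?_, hay⟩
        rw [← hat]
        rfl
      obtain ⟨x, hx⟩ := exists_compl_mem T hne hcompat
      refine ⟨x, ?_⟩
      apply Subtype.ext
      funext V
      obtain ⟨a, hat, hay⟩ := hx (V.comap i hi) V
      change QuotientAddGroup.map _ _ i _ (x.1 (V.comap i hi)) = _
      rw [← hat, ← hay]
      rfl
    · rintro ⟨x, rfl⟩
      apply Subtype.ext
      funext W
      obtain ⟨a, ha⟩ := QuotientAddGroup.mk_surjective (x.1 ((W.comap p hp).comap i hi))
      change QuotientAddGroup.map _ _ p _ (QuotientAddGroup.map _ _ i _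
        (x.1 ((W.comap p hp).comap i hi))) = 0
      rw [← ha]
      have h1 : p (i a) = 0 := by
        have : i a ∈ p.ker := by rw [hex]; exact ⟨a, rfl⟩
        exact this
      change (QuotientAddGroup.mk (p (i a)) : C ⧸ W.toAddSubgroup) = 0
      rw [h1]
      rfl

end Groth.Agent.S19172
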