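import Groth.Statements.S19173
import Groth.Agent.Lib.Helper63.FIComplLim
import Groth.Agent.S19170
import Groth.Agent.S19171
import Mathlib.Algebra.Module.CharacterModule
import Mathlib.Topology.Algebra.OpenSubgroup

set_option autoImplicit false
universe u v
open ProCompl

namespace Groth.Agent.S19173

open W4c61motalbduality Groth.Agent.Lib.Helper63.FIComplLim

open W4c61motalbduality Topology in
/-- Let B be a Hausdorff, locally compact, totally disconnected topological abelian group generated as a
group by a compact subset, and let i : A → B be an injective continuous homomorphism inducing the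
topology of A from that of B (a strict injection) with closed image. Then the map induced by i on
completions with respect to open subgroups of finite index is injective; together with right
exactness for open surjections this makes 0 → A^∧ → B^∧ → C^∧ → 0 exact for a topological exact
sequence 0 → A → B → C → 0 with such B, strict closed i and open p. -/
theorem result
    {A : Type u} {B : Type v} [AddCommGroup A] [TopologicalSpace A] [IsTopologicalAddGroup A]
    [AddCommGroup B] [TopologicalSpace B] [IsTopologicalAddGroup B]
    [T2Space B] [LocallyCompactSpace B] [TotallyDisconnectedSpace B]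
    (hcg : ∃ K : Set B, IsCompact K ∧ AddSubgroup.closure K = ⊤)
    (i : A →+ B) (hi : Continuous i) (hinj : Function.Injective i) (hind : IsInducing i)
    (hcl : IsClosed (Set.range i)) :
    Function.Injective (FICompl.map i hi) := by
  have key : ∀ U : OpenFI A, ∃ V : OpenFI B,
      (V.comap i hi).toAddSubgroup ≤ U.toAddSubgroup := by
    intro U
    have hfin : Finite (A ⧸ U.toAddSubgroup) := finite_quot U
    have hc : ∀ t : A ⧸ U.toAddSubgroup,
        ∃ c : (A ⧸ U.toAddSubgroup) →+ ℚ ⧸ AddSubgroup.zmultiples (1 : ℚ), t ≠ 0 → c t ≠ 0 := by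
      intro t
      by_cases ht : t = 0
      · exact ⟨0, fun h => absurd ht h⟩
      · obtain ⟨c, hc⟩ := CharacterModule.exists_character_apply_ne_zero_of_ne_zero ht
        exact ⟨c, fun _ => hc⟩
    choose c hc using hc
    have hψ : ∀ t, ∃ ψ : B →+ ℚ ⧸ AddSubgroup.zmultiples (1 : ℚ), IsOpen (ψ.ker : Set B) ∧
        ψ.comp i = (c t).comp (QuotientAddGroup.mk' U.toAddSubgroup) := by
      intro t
      apply Groth.Agent.S19171.result hcg i hi hinj hind hcl
      have hle : U.toAddSubgroup ≤ ((c t).comp (QuotientAddGroup.mk' U.toAddSubgroup)).ker := by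
        intro a ha
        rw [AddMonoidHom.mem_ker, AddMonoidHom.comp_apply]
        have : QuotientAddGroup.mk' U.toAddSubgroup a = 0 :=
          (QuotientAddGroup.eq_zero_iff a).mpr ha
        rw [this, map_zero]
      exact AddSubgroup.isOpen_mono hle U.isOpen'
    choose ψ hψo hψc using hψ
    refine ⟨⟨⨅ t, (ψ t).ker, ?_, ?_⟩, ?_⟩
    · rw [AddSubgroup.coe_iInf]
      exact isOpen_iInter_of_finite fun t => hψo t
    · exact AddSubgroup.finiteIndex_iInf fun t => Groth.Agent.S19170.result hcg (ψ t) (hψo t)
    · intro a ha
      change i a ∈ ⨅ t, (ψ t).ker at ha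
      rw [AddSubgroup.mem_iInf] at ha
      by_contra hne
      have h1 : (QuotientAddGroup.mk a : A ⧸ U.toAddSubgroup) ≠ 0 :=
        fun h => hne ((QuotientAddGroup.eq_zero_iff a).mp h)
      have h2 := ha (QuotientAddGroup.mk a)
      rw [AddMonoidHom.mem_ker] at h2
      have h3 := DFunLike.congr_fun (hψc (QuotientAddGroup.mk a)) a
      rw [AddMonoidHom.comp_apply, h2] at h3
      exact hc _ h1 h3.symm
  rw [injective_iff_map_eq_zero]
  intro x hx
  apply Subtype.ext
  funext U
  obtain ⟨V, hV⟩ := key U
  have h0 : (FICompl.map i hi x).1 V = 0 := by rw [hx]; rfl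
  change QuotientAddGroup.map _ _ i _ (x.1 (V.comap i hi)) = 0 at h0
  obtain ⟨a, ha⟩ := QuotientAddGroup.mk_surjective (x.1 (V.comap i hi))
  rw [← ha] at h0
  have h1 : (QuotientAddGroup.mk (i a) : B ⧸ V.toAddSubgroup) = 0 := h0
  rw [QuotientAddGroup.eq_zero_iff] at h1
  have h2 := x.2 (V.comap i hi) U hV
  rw [← ha] at h2
  rw [← h2]
  exact (QuotientAddGroup.eq_zero_iff a).mpr (hV h1)

end Groth.Agent.S19173
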