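import Groth.Statements.S19176
import Groth.Agent.Lib.Helper79.MonomialQuot

set_option autoImplicit false
universe u
open PlaneCurve

namespace Groth.Agent.S19176


open MvPolynomial

theorem mem_of_eq {R : Type*} [CommRing R] {I : Ideal R} {x y : R} (h : x = y) (hy : y ∈ I) :
    x ∈ I := h ▸ hy

theorem ne_zero_of_char {k : Type u} [Field k] (p : ℕ) [CharP k p] (q : ℕ) (hq : q.Prime)
    (hpq : p ≠ q) : ((q : ℕ) : k) ≠ 0 := by
  intro h
  have hdvd : p ∣ q := (CharP.cast_eq_zero_iff k p q).mp h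
  rcases (Nat.dvd_prime hq).mp hdvd with h1 | h1
  · exact CharP.char_ne_one k p h1
  · exact hpq h1

theorem case2 (k : Type u) [Field k] [CharP k 2] :
    Ideal.span ({X 1 ^ 2 - X 0 ^ 3, -(3 * X 0 ^ 2), 2 * X 1} : Set (MvPolynomial (Fin 2) k)) =
      Ideal.span ({X 0 ^ 2, X 1 ^ 2} : Set (MvPolynomial (Fin 2) k)) := by
  have h20 : (2 : MvPolynomial (Fin 2) k) = 0 := by
    have := CharP.cast_eq_zero (MvPolynomial (Fin 2) k) 2
    exact_mod_cast this
  apply le_antisymm
  · rw [Ideal.span_le]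
    rintro q hq
    simp only [Set.mem_insert_iff, Set.mem_singleton_iff] at hq
    rcases hq with rfl | rfl | rfl
    · exact Ideal.mem_span_pair.mpr ⟨-X 0, 1, by ring⟩
    · exact Ideal.mem_span_pair.mpr ⟨-3, 0, by ring⟩
    · rw [h20, zero_mul]; exact Ideal.zero_mem _
  · have hX0 : (X 0 ^ 2 : MvPolynomial (Fin 2) k) ∈ Ideal.span
        ({X 1 ^ 2 - X 0 ^ 3, -(3 * X 0 ^ 2), 2 * X 1} : Set (MvPolynomial (Fin 2) k)) := by
      have e : (X 0 ^ 2 : MvPolynomial (Fin 2) k) = -(3 * X 0 ^ 2) + 2 * (2 * X 0 ^ 2) := by ring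
      rw [h20, zero_mul, add_zero] at e
      exact mem_of_eq e (Ideal.subset_span (by simp))
    rw [Ideal.span_le]
    rintro q hq
    simp only [Set.mem_insert_iff, Set.mem_singleton_iff] at hq
    rcases hq with rfl | rfl
    · exact hX0
    · have e : (X 1 ^ 2 : MvPolynomial (Fin 2) k) = (X 1 ^ 2 - X 0 ^ 3) + X 0 * X 0 ^ 2 := by ring
      exact mem_of_eq e
        (Ideal.add_mem _ (Ideal.subset_span (by simp)) (Ideal.mul_mem_left _ _ hX0))

theorem case3 (k : Type u) [Field k] [CharP k 3] :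
    Ideal.span ({X 1 ^ 2 - X 0 ^ 3, -(3 * X 0 ^ 2), 2 * X 1} : Set (MvPolynomial (Fin 2) k)) =
      Ideal.span ({X 0 ^ 3, X 1 ^ 1} : Set (MvPolynomial (Fin 2) k)) := by
  have h30 : (3 : MvPolynomial (Fin 2) k) = 0 := by
    have := CharP.cast_eq_zero (MvPolynomial (Fin 2) k) 3
    exact_mod_cast this
  apply le_antisymm
  · rw [Ideal.span_le]
    rintro q hq
    simp only [Set.mem_insert_iff, Set.mem_singleton_iff] at hq
    rcases hq with rfl | rfl | rfl
    · exact Ideal.mem_span_pair.mpr ⟨-1, X 1, by ring⟩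
    · rw [h30, zero_mul, neg_zero]; exact Ideal.zero_mem _
    · exact Ideal.mem_span_pair.mpr ⟨0, 2, by ring⟩
  · have hX1 : (X 1 : MvPolynomial (Fin 2) k) ∈ Ideal.span
        ({X 1 ^ 2 - X 0 ^ 3, -(3 * X 0 ^ 2), 2 * X 1} : Set (MvPolynomial (Fin 2) k)) := by
      have e : (X 1 : MvPolynomial (Fin 2) k) = 2 * (2 * X 1) - 3 * X 1 := by ring
      rw [h30, zero_mul, sub_zero] at e
      exact mem_of_eq e (Ideal.mul_mem_left _ _ (Ideal.subset_span (by simp)))
    rw [Ideal.span_le]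
    rintro q hq
    simp only [Set.mem_insert_iff, Set.mem_singleton_iff] at hq
    rcases hq with rfl | rfl
    · have e : (X 0 ^ 3 : MvPolynomial (Fin 2) k) = X 1 * X 1 - (X 1 ^ 2 - X 0 ^ 3) := by ring
      exact mem_of_eq e
        (Ideal.sub_mem _ (Ideal.mul_mem_left _ _ hX1) (Ideal.subset_span (by simp)))
    · rw [pow_one]; exact hX1

theorem caseOther (k : Type u) [Field k] (h2 : (2 : k) ≠ 0) (h3 : (3 : k) ≠ 0) :
    Ideal.span ({X 1 ^ 2 - X 0 ^ 3, -(3 * X 0 ^ 2), 2 * X 1} : Set (MvPolynomial (Fin 2) k)) =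
      Ideal.span ({X 0 ^ 2, X 1 ^ 1} : Set (MvPolynomial (Fin 2) k)) := by
  have e2 : (2 : MvPolynomial (Fin 2) k) = C (2 : k) := (map_ofNat C 2).symm
  have e3 : (3 : MvPolynomial (Fin 2) k) = C (3 : k) := (map_ofNat C 3).symm
  apply le_antisymm
  · rw [Ideal.span_le]
    rintro q hq
    simp only [Set.mem_insert_iff, Set.mem_singleton_iff] at hq
    rcases hq with rfl | rfl | rfl
    · exact Ideal.mem_span_pair.mpr ⟨-X 0, X 1, by ring⟩
    · exact Ideal.mem_span_pair.mpr ⟨-3, 0, by ring⟩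
    · exact Ideal.mem_span_pair.mpr ⟨0, 2, by ring⟩
  · have hX1 : (X 1 : MvPolynomial (Fin 2) k) ∈ Ideal.span
        ({X 1 ^ 2 - X 0 ^ 3, -(3 * X 0 ^ 2), 2 * X 1} : Set (MvPolynomial (Fin 2) k)) := by
      have e : (X 1 : MvPolynomial (Fin 2) k) = C (2 : k)⁻¹ * (2 * X 1) := by
        rw [e2, ← mul_assoc, ← C_mul, inv_mul_cancel₀ h2, C_1, one_mul]
      exact mem_of_eq e (Ideal.mul_mem_left _ _ (Ideal.subset_span (by simp)))
    have hX0 : (X 0 ^ 2 : MvPolynomial (Fin 2) k) ∈ Ideal.span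
        ({X 1 ^ 2 - X 0 ^ 3, -(3 * X 0 ^ 2), 2 * X 1} : Set (MvPolynomial (Fin 2) k)) := by
      have e : (X 0 ^ 2 : MvPolynomial (Fin 2) k) = (- C (3 : k)⁻¹) * (-(3 * X 0 ^ 2)) := by
        rw [e3, neg_mul_neg, ← mul_assoc, ← C_mul, inv_mul_cancel₀ h3, C_1, one_mul]
      exact mem_of_eq e (Ideal.mul_mem_left _ _ (Ideal.subset_span (by simp)))
    rw [Ideal.span_le]
    rintro q hq
    simp only [Set.mem_insert_iff, Set.mem_singleton_iff] at hq
    rcases hq with rfl | rfl
    · exact hX0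
    · rw [pow_one]; exact hX1

open MvPolynomial in
/-- Let k be a field of characteristic p (p = 0 allowed) and F = y² − x³ in k[x, y] (x the variable of
index 0, y of index 1). The singular subscheme of the plane curve F = 0, cut out by F and its two
partial derivatives, is finite over k of degree 4 when p = 2, of degree 3 when p = 3, and of degree
2 otherwise: the k-dimension of k[x, y]/(F, ∂F/∂x, ∂F/∂y) is that number. (The source phrases this
through the complete local ring of a cusp; the row is the computation for the standard cusp y² =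
x³.) -/
theorem result (k : Type u) [Field k] (p : ℕ) [CharP k p] :
    Module.finrank k (MvPolynomial (Fin 2) k ⧸ Ideal.span
      ({X 1 ^ 2 - X 0 ^ 3, pderiv 0 (X 1 ^ 2 - X 0 ^ 3), pderiv 1 (X 1 ^ 2 - X 0 ^ 3)} :
        Set (MvPolynomial (Fin 2) k))) = (if p = 2 then 4 else if p = 3 then 3 else 2) := by
  have hd0 : pderiv (0 : Fin 2) (X 1 ^ 2 - X 0 ^ 3 : MvPolynomial (Fin 2) k) = -(3 * X 0 ^ 2) := by
    simp [pderiv_X]
  have hd1 : pderiv (1 : Fin 2) (X 1 ^ 2 - X 0 ^ 3 : MvPolynomial (Fin 2) k) = 2 * X 1 := by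
    simp [pderiv_X]
  rw [hd0, hd1]
  by_cases h2 : p = 2
  · subst h2
    rw [if_pos rfl, case2 k, Groth.Agent.Lib.Helper79.finrank_monomial_quot k 2 2 (by norm_num)]
  · by_cases h3 : p = 3
    · subst h3
      rw [if_neg h2, if_pos rfl, case3 k,
        Groth.Agent.Lib.Helper79.finrank_monomial_quot k 3 1 (by norm_num)]
    · rw [if_neg h2, if_neg h3]
      have h2k : (2 : k) ≠ 0 := by
        have := ne_zero_of_char (k := k) p 2 Nat.prime_two h2
        exact_mod_cast this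
      have h3k : (3 : k) ≠ 0 := by
        have := ne_zero_of_char (k := k) p 3 Nat.prime_three h3
        exact_mod_cast this
      rw [caseOther k h2k h3k,
        Groth.Agent.Lib.Helper79.finrank_monomial_quot k 2 1 (by norm_num)]

end Groth.Agent.S19176
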