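import Groth.Statements.S19177
import Mathlib

set_option autoImplicit false
universe u
open CAlg

namespace Groth.Agent.S19177


theorem exists_retraction (S R : Type u) [CommRing S] [CommRing R] [Algebra S R]
    [Module.Finite S R] [Module.Projective S R]
    (h2 : ∀ p : PrimeSpectrum S, Module.rankAtStalk (R := S) R p = 2) :
    ∃ ρ : R →ₗ[S] S, ρ 1 = 1 := by
  let ev : (R →ₗ[S] S) →ₗ[S] S := LinearMap.applyₗ (1 : R)
  let I : Ideal S := LinearMap.range ev
  by_contra hcon
  have hI : I ≠ ⊤ := by
    intro h
    have h1 : (1 : S) ∈ I := h ▸ Submodule.mem_top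
    obtain ⟨ρ, hρ⟩ := h1
    exact hcon ⟨ρ, hρ⟩
  obtain ⟨m, hm, hIm⟩ := Ideal.exists_le_maximal I hI
  have hval : ∀ (f : R →ₗ[S] S) (r : R), f r ∈ I := fun f r =>
    ⟨f.comp (LinearMap.mulLeft S r), by simp [ev]⟩
  obtain ⟨s, hs⟩ := Module.projective_def'.mp (inferInstance : Module.Projective S R)
  have htop : (⊤ : Submodule S R) ≤ m • (⊤ : Submodule S R) := by
    intro r _
    have hr : r = Finsupp.linearCombination S id (s r) := (LinearMap.congr_fun hs r).symm
    rw [hr, Finsupp.linearCombination_apply]
    apply Submodule.sum_mem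
    intro x _
    apply Submodule.smul_mem_smul _ Submodule.mem_top
    exact hIm (hval ((Finsupp.lapply x).comp s) r)
  obtain ⟨a, ha1, ha2⟩ := Submodule.exists_sub_one_mem_and_smul_eq_zero_of_fg_of_le_smul m
    (⊤ : Submodule S R) Module.Finite.fg_top htop
  have ham : a ∉ m := by
    intro h
    apply hm.ne_top
    rw [Ideal.eq_top_iff_one]
    have := m.sub_mem h ha1
    simpa using this
  have hsupp : (⟨m, hm.isPrime⟩ : PrimeSpectrum S) ∉ Module.support S R := by
    rw [Module.mem_support_iff_of_finite]
    intro hle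
    exact ham (hle (Module.mem_annihilator.mpr (fun r => ha2 r Submodule.mem_top)))
  have hpos : 0 < Module.rankAtStalk (R := S) R ⟨m, hm.isPrime⟩ := by rw [h2]; norm_num
  exact hsupp ((Module.rankAtStalk_pos_iff_mem_support (M := R) ⟨m, hm.isPrime⟩).mp hpos)

/-- Let S → R be a homomorphism of commutative rings making R a finitely generated projective S-module
of rank 2 at every prime of S (the affine form of a finite locally free morphism of degree 2). Then
the cokernel of the (injective) structure map S → R, the S-module R/S, is a projective S-module of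
rank 1 at every prime of S (locally free of rank 1). -/
theorem result
    (S R : Type u) [CommRing S] [CommRing R] [Algebra S R] [Module.Finite S R] [Module.Projective S R]
    (h2 : ∀ p : PrimeSpectrum S, Module.rankAtStalk (R := S) R p = 2) :
    Module.Projective S (R ⧸ LinearMap.range (Algebra.linearMap S R)) ∧
      ∀ p : PrimeSpectrum S,
        Module.rankAtStalk (R := S) (R ⧸ LinearMap.range (Algebra.linearMap S R)) p = 1 := by
  obtain ⟨ρ, hρ⟩ := exists_retraction S R h2
  set ι : S →ₗ[S] R := Algebra.linearMap S R with hι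
  have hρι : ∀ s : S, ρ (ι s) = s := by
    intro s
    rw [hι, Algebra.linearMap_apply, Algebra.algebraMap_eq_smul_one, map_smul, hρ, smul_eq_mul,
      mul_one]
  let q : R →ₗ[S] (R ⧸ LinearMap.range ι) := (LinearMap.range ι).mkQ
  let i : (R ⧸ LinearMap.range ι) →ₗ[S] R :=
    (LinearMap.range ι).liftQ (LinearMap.id - ι.comp ρ) (by
      rintro _ ⟨s, rfl⟩
      simp [hρι])
  have hi_mk : ∀ r : R, i (q r) = r - ι (ρ r) := fun r => rfl
  have hq_ι : ∀ s : S, q (ι s) = 0 := by
    intro s
    show Submodule.Quotient.mk (ι s) = 0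
    rw [Submodule.Quotient.mk_eq_zero]; exact ⟨s, rfl⟩
  have hqsurj : Function.Surjective q := Submodule.mkQ_surjective _
  have hqi' : ∀ m, q (i m) = m := by
    intro m
    obtain ⟨r, rfl⟩ := hqsurj m
    rw [hi_mk, map_sub, hq_ι, sub_zero]
  have hqi : q.comp i = LinearMap.id := LinearMap.ext hqi'
  have hproj : Module.Projective S (R ⧸ LinearMap.range ι) := Module.Projective.of_split i q hqi
  refine ⟨hproj, ?_⟩
  intro p
  have : Nontrivial S := ⟨⟨0, 1, fun h => p.isPrime.ne_top ((Ideal.eq_top_iff_one _).mpr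
    (h ▸ p.asIdeal.zero_mem))⟩⟩
  have hρi : ∀ m, ρ (i m) = 0 := by
    intro m
    obtain ⟨r, rfl⟩ := hqsurj m
    rw [hi_mk, map_sub, hρι, sub_self]
  let e : R ≃ₗ[S] S × (R ⧸ LinearMap.range ι) := LinearEquiv.ofLinearMap (ρ.prod q) (ι.coprod i)
    (by
      apply LinearMap.ext
      rintro ⟨s, m⟩
      apply Prod.ext
      · show ρ (ι s + i m) = s
        rw [map_add, hρι, hρi, add_zero]
      · show q (ι s + i m) = m
        rw [map_add, hq_ι, hqi', zero_add])
    (by
      apply LinearMap.ext
      intro r
      show ι (ρ r) + i (q r) = r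
      rw [hi_mk]; abel)
  have : Module.Finite S (R ⧸ LinearMap.range ι) := Module.Finite.of_surjective q hqsurj
  have : Module.Flat S (R ⧸ LinearMap.range ι) := inferInstance
  have h3 := Module.rankAtStalk_eq_of_equiv (R := S) e
  rw [Module.rankAtStalk_prod] at h3
  have h4 := congrFun h3 p
  rw [h2 p, Pi.add_apply, Module.rankAtStalk_self] at h4
  simp only [Pi.one_apply] at h4
  omega

end Groth.Agent.S19177
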