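import Groth.Statements.S19178
import Mathlib

set_option autoImplicit false
universe u
open Curves

namespace Groth.Agent.S19178


open MvPolynomial

section
variable {k : Type u} [Field k]

noncomputable def zeta (k : Type u) [Field k] : MvPolynomial (Fin 2) k →ₐ[k] Polynomial k :=
  aeval ![Polynomial.X, 0]

noncomputable def zback (k : Type u) [Field k] : Polynomial k →ₐ[k] MvPolynomial (Fin 2) k :=
  Polynomial.aeval (X 0)

theorem X1_dvd_of_zeta_eq_zero (p : MvPolynomial (Fin 2) k) (h : zeta k p = 0) : X 1 ∣ p := by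
  have hcomp : ((Ideal.Quotient.mkₐ k (Ideal.span {(X 1 : MvPolynomial (Fin 2) k)})).comp
      ((zback k).comp (zeta k))) = Ideal.Quotient.mkₐ k _ := by
    apply MvPolynomial.algHom_ext
    intro i
    fin_cases i
    · simp [zeta, zback]
    · simp only [zeta, zback, AlgHom.comp_apply, aeval_X]
      simp only [Fin.mk_one, Fin.isValue, Matrix.cons_val_one, Matrix.cons_val_fin_one, map_zero]
      symm
      rw [Ideal.Quotient.mkₐ_eq_mk, Ideal.Quotient.eq_zero_iff_mem]
      exact Ideal.subset_span rfl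
  have key := DFunLike.congr_fun hcomp p
  simp only [AlgHom.comp_apply] at key
  rw [h, map_zero, map_zero] at key
  have h0 : p ∈ Ideal.span {(X 1 : MvPolynomial (Fin 2) k)} := by
    rw [← Ideal.Quotient.eq_zero_iff_mem]; exact key.symm
  exact Ideal.mem_span_singleton.mp h0

noncomputable def cubic (W : WeierstrassCurve k) : Polynomial (MvPolynomial (Fin 2) k) :=
  Polynomial.X ^ 3 + (Polynomial.C (C W.a₂ * X 1) * Polynomial.X ^ 2 +
    Polynomial.C (C W.a₄ * X 1 ^ 2 - C W.a₁ * X 0 * X 1) * Polynomial.X +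
    Polynomial.C (C W.a₆ * X 1 ^ 3 - X 0 ^ 2 * X 1 - C W.a₃ * X 0 * X 1 ^ 2))

theorem finSucc_poly (W : WeierstrassCurve k) :
    finSuccEquiv k 2 (WeierstrassCurve.Projective.polynomial W) = - cubic W := by
  have h1 : (Fin.cases Polynomial.X (fun i => Polynomial.C (X i)) (1 : Fin 3) :
      Polynomial (MvPolynomial (Fin 2) k)) = Polynomial.C (X 0) := rfl
  have h2 : (Fin.cases Polynomial.X (fun i => Polynomial.C (X i)) (2 : Fin 3) :
      Polynomial (MvPolynomial (Fin 2) k)) = Polynomial.C (X 1) := rfl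
  rw [WeierstrassCurve.Projective.polynomial, cubic]
  simp only [finSuccEquiv_apply, map_sub, map_add, map_mul, map_pow, eval₂Hom_X', eval₂Hom_C,
    RingHom.coe_comp, Function.comp_apply, h1, h2]
  have h0 : (Fin.cases Polynomial.X (fun i => Polynomial.C (X i)) (0 : Fin 3) :
      Polynomial (MvPolynomial (Fin 2) k)) = Polynomial.X := rfl
  rw [h0]
  ring

theorem cubic_degree_lt (W : WeierstrassCurve k) :
    (Polynomial.C (C W.a₂ * X 1) * Polynomial.X ^ 2 +
    Polynomial.C (C W.a₄ * X 1 ^ 2 - C W.a₁ * X 0 * X 1) * Polynomial.X +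
    Polynomial.C (C W.a₆ * X 1 ^ 3 - X 0 ^ 2 * X 1 - C W.a₃ * X 0 * X 1 ^ 2) :
      Polynomial (MvPolynomial (Fin 2) k)).degree < 3 :=
  Polynomial.degree_quadratic_lt

theorem cubic_monic (W : WeierstrassCurve k) : (cubic W).Monic :=
  Polynomial.monic_X_pow_add (cubic_degree_lt W)

theorem cubic_natDegree (W : WeierstrassCurve k) : (cubic W).natDegree = 3 := by
  have hd : (cubic W).degree = 3 := by
    rw [cubic, Polynomial.degree_add_eq_left_of_degree_lt, Polynomial.degree_X_pow]
    · rfl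
    · rw [Polynomial.degree_X_pow]; exact cubic_degree_lt W
  exact Polynomial.natDegree_eq_of_degree_eq_some hd

theorem cubic_no_root (W : WeierstrassCurve k) (r : MvPolynomial (Fin 2) k) :
    ¬ (cubic W).IsRoot r := by
  intro hr
  have e : r ^ 3 + ((C W.a₂ * X 1) * r ^ 2 + (C W.a₄ * X 1 ^ 2 - C W.a₁ * X 0 * X 1) * r +
      (C W.a₆ * X 1 ^ 3 - X 0 ^ 2 * X 1 - C W.a₃ * X 0 * X 1 ^ 2)) = 0 := by
    have := hr
    simp only [cubic, Polynomial.IsRoot.def, Polynomial.eval_add, Polynomial.eval_mul,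
      Polynomial.eval_pow, Polynomial.eval_X, Polynomial.eval_C] at this
    exact this
  have hz1 : zeta k (X 1) = 0 := by simp [zeta]
  have hz0 : zeta k (X 0) = Polynomial.X := by simp [zeta]
  have e1 := congrArg (zeta k) e
  simp only [map_add, map_mul, map_sub, map_pow, hz1, hz0, map_zero] at e1
  have e2 : (zeta k r) ^ 3 = 0 := by
    have : (zeta k r) ^ 3 = (zeta k r) ^ 3 + ((zeta k) (C W.a₂) * 0 * (zeta k r) ^ 2 +
      ((zeta k) (C W.a₄) * 0 ^ 2 - (zeta k) (C W.a₁) * Polynomial.X * 0) * (zeta k r) +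
      ((zeta k) (C W.a₆) * 0 ^ 3 - Polynomial.X ^ 2 * 0 -
        (zeta k) (C W.a₃) * Polynomial.X * 0 ^ 2)) := by ring
    rw [this]; exact e1
  have e3 : zeta k r = 0 := by simpa using e2
  obtain ⟨r₁, rfl⟩ := X1_dvd_of_zeta_eq_zero r e3
  have e4 : X 1 * (X 1 ^ 2 * r₁ ^ 3 + C W.a₂ * X 1 ^ 2 * r₁ ^ 2 +
      (C W.a₄ * X 1 ^ 2 - C W.a₁ * X 0 * X 1) * r₁ +
      (C W.a₆ * X 1 ^ 2 - X 0 ^ 2 - C W.a₃ * X 0 * X 1)) = (0 : MvPolynomial (Fin 2) k) := by
    rw [← e]; ring
  have hX1 : (X 1 : MvPolynomial (Fin 2) k) ≠ 0 := X_ne_zero 1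
  have e5 := (mul_eq_zero.mp e4).resolve_left hX1
  have e6 := congrArg (zeta k) e5
  simp only [map_add, map_mul, map_sub, map_pow, hz1, hz0, map_zero] at e6
  have e7 : (Polynomial.X : Polynomial k) ^ 2 = 0 := by
    have : (Polynomial.X : Polynomial k) ^ 2 = -(0 ^ 2 * (zeta k r₁) ^ 3 +
      (zeta k) (C W.a₂) * 0 ^ 2 * (zeta k r₁) ^ 2 +
      ((zeta k) (C W.a₄) * 0 ^ 2 - (zeta k) (C W.a₁) * Polynomial.X * 0) * (zeta k r₁) +
      ((zeta k) (C W.a₆) * 0 ^ 2 - Polynomial.X ^ 2 - (zeta k) (C W.a₃) * Polynomial.X * 0)) := by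
      ring
    rw [this, e6, neg_zero]
  exact Polynomial.X_ne_zero ((pow_eq_zero_iff (two_ne_zero)).mp e7)

end

/-- For every field k and every choice of coefficients a₁, a₂, a₃, a₄, a₆ in k, the homogeneous
Weierstrass cubic Y²Z + a₁XYZ + a₃YZ² − (X³ + a₂X²Z + a₄XZ² + a₆Z³) is an irreducible polynomial in
k[X, Y, Z]. Applied to all fields, this says every fibre of the Weierstrass family over the affine
space of coefficients is geometrically integral. -/
theorem result (k : Type u) [Field k]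
    (W : WeierstrassCurve k) :
    Irreducible (WeierstrassCurve.Projective.polynomial W) := by
  have hirr : Irreducible (cubic W) := by
    rw [(cubic_monic W).irreducible_iff_roots_eq_zero_of_degree_le_three
      (by rw [cubic_natDegree]; norm_num) (by rw [cubic_natDegree])]
    apply Multiset.eq_zero_of_forall_notMem
    intro r hr
    exact cubic_no_root W r (Polynomial.isRoot_of_mem_roots hr)
  have hneg : Irreducible (- cubic W) :=
    (Associated.neg_right (Associated.refl (cubic W))).irreducible hirr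
  rw [← finSucc_poly] at hneg
  exact (MulEquiv.irreducible_iff (finSuccEquiv k 2).toMulEquiv).mp hneg

end Groth.Agent.S19178
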