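import Groth.Statements.S19180
import Groth.Agent.Lib.Helper60.Lf1
import Groth.Agent.S0844
-- import your own Groth.Agent.* helpers here

set_option autoImplicit false
universe u
open Coherent

namespace Groth.Agent.S19180

open CategoryTheory AlgebraicGeometry in
/-- Let R be a local ring and m ≥ 1, and consider the projective line P¹_R with its structure sheaf O
and twisting sheaf O(m). For every O-module F and every short exact sequence 0 → O(m) → F → O → 0 of
O-modules, the surjection F → O admits a section; consequently F is isomorphic to O(m) ⊕ O. -/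
theorem result (R : Type u) [CommRing R] [IsLocalRing R]
    (m : ℕ) (hm : 1 ≤ m) (F : (CohB1.ProjSpace 1 R).Modules)
    (i : Twist.twistProjSpace 1 R (m : ℤ) ⟶ F) (p : F ⟶ Coh.structureModule (CohB1.ProjSpace 1 R))
    (w : i ≫ p = 0) (hex : (ShortComplex.mk i p w).ShortExact) :
    ∃ s : Coh.structureModule (CohB1.ProjSpace 1 R) ⟶ F, s ≫ p = 𝟙 _ := by
  have h1 : Subsingleton (Coh.HH (CohB1.ProjSpace 1 R) (Twist.twistProjSpace 1 R (m : ℤ)) 1) := by
    apply Groth.Agent.S0844.result R 1 (m : ℤ) 1
    · rintro ⟨h, -⟩
      omega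
    · rintro ⟨-, h⟩
      have : (0 : ℤ) ≤ (m : ℤ) := Int.natCast_nonneg m
      simp only [Nat.cast_one] at h
      omega
  exact Groth.Agent.Lib.Helper60.LiftSec.exists_section_of_epi i p w hex h1

end Groth.Agent.S19180
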