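import Groth.Statements.S19181
import Mathlib

set_option autoImplicit false
universe u
open CAlg

namespace Groth.Agent.S19181


theorem sat_general {P : Type*} [CommRing P] (y g : P) (hy : ∀ u w : P, y * u = y * w → u = w)
    (hg : ∀ t : P, y ∣ g * t → y ∣ t) (s : P) :
    (∃ n : ℕ, y ^ n * s ∈ Ideal.span ({y ^ 2 * g} : Set P)) ↔ s ∈ Ideal.span ({g} : Set P) := by
  have claim : ∀ m : ℕ, ∀ s t : P, y ^ m * s = g * t → g ∣ s := by
    intro m
    induction m with
    | zero => intro s t h; exact ⟨t, by simpa using h⟩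
    | succ m ih =>
      intro s t h
      have hdvd : y ∣ g * t := ⟨y ^ m * s, by rw [← h]; ring⟩
      obtain ⟨t', rfl⟩ := hg t hdvd
      apply ih s t'
      apply hy
      rw [← mul_assoc, ← pow_succ', h]; ring
  constructor
  · rintro ⟨n, hn⟩
    rw [Ideal.mem_span_singleton'] at hn
    obtain ⟨t, ht⟩ := hn
    rw [Ideal.mem_span_singleton]
    exact claim n s (y ^ 2 * t) (by rw [← ht]; ring)
  · intro hs
    rw [Ideal.mem_span_singleton] at hs
    obtain ⟨t, rfl⟩ := hs
    exact ⟨2, Ideal.mem_span_singleton'.mpr ⟨t, by ring⟩⟩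

open MvPolynomial

noncomputable def phi (R : Type u) [CommRing R] : MvPolynomial (Fin 2) R →ₐ[R] Polynomial R :=
  aeval ![0, Polynomial.X]

noncomputable def psi (R : Type u) [CommRing R] : Polynomial R →ₐ[R] MvPolynomial (Fin 2) R :=
  Polynomial.aeval (X 1)

theorem X0_dvd_of_phi_eq_zero {R : Type u} [CommRing R] (p : MvPolynomial (Fin 2) R)
    (h : phi R p = 0) : X 0 ∣ p := by
  have hcomp : ((Ideal.Quotient.mkₐ R (Ideal.span {(X 0 : MvPolynomial (Fin 2) R)})).comp
      ((psi R).comp (phi R))) = Ideal.Quotient.mkₐ R _ := by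
    apply MvPolynomial.algHom_ext
    intro i
    fin_cases i
    · simp only [phi, psi, AlgHom.comp_apply, aeval_X]
      simp only [Fin.zero_eta, Fin.isValue, Matrix.cons_val_zero, map_zero]
      symm
      rw [Ideal.Quotient.mkₐ_eq_mk, Ideal.Quotient.eq_zero_iff_mem]
      exact Ideal.subset_span rfl
    · simp [phi, psi]
  have key := DFunLike.congr_fun hcomp p
  simp only [AlgHom.comp_apply] at key
  rw [h, map_zero, map_zero] at key
  have h0 : p ∈ Ideal.span {(X 0 : MvPolynomial (Fin 2) R)} := by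
    rw [← Ideal.Quotient.eq_zero_iff_mem]; exact key.symm
  exact Ideal.mem_span_singleton.mp h0

theorem X0_cancel {R : Type u} [CommRing R] (u w : MvPolynomial (Fin 2) R)
    (h : X 0 * u = X 0 * w) : u = w := by
  have := congrArg (fun q => divMonomial q (Finsupp.single (0 : Fin 2) 1)) h
  simpa using this

theorem hg_of_nzd {R : Type u} [CommRing R] (g : MvPolynomial (Fin 2) R)
    (hg : phi R g ∈ nonZeroDivisors (Polynomial R)) (t : MvPolynomial (Fin 2) R)
    (h : X 0 ∣ g * t) : X 0 ∣ t := by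
  apply X0_dvd_of_phi_eq_zero
  obtain ⟨c, hc⟩ := h
  have h1 : phi R (g * t) = 0 := by
    rw [hc, map_mul]
    have : phi R (X 0) = 0 := by simp [phi]
    rw [this, zero_mul]
  rw [map_mul, mul_comm] at h1
  exact hg.2 _ h1

theorem nzd1 {R : Type u} [CommRing R] (a₁ a₂ : R) :
    (1 + Polynomial.C a₁ * Polynomial.X - Polynomial.C a₂ * Polynomial.X ^ 2 : Polynomial R) ∈
      nonZeroDivisors (Polynomial R) := by
  rcases subsingleton_or_nontrivial R with hR | hR
  · have : Subsingleton (Polynomial R) := inferInstance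
    rw [Subsingleton.elim (1 + Polynomial.C a₁ * Polynomial.X - Polynomial.C a₂ * Polynomial.X ^ 2 :
      Polynomial R) 1]
    exact one_mem _
  apply Polynomial.mem_nonZeroDivisors_of_trailingCoeff
  have h0 : (1 + Polynomial.C a₁ * Polynomial.X - Polynomial.C a₂ * Polynomial.X ^ 2 :
      Polynomial R).coeff 0 = 1 := by
    simp
  have h1 : (1 + Polynomial.C a₁ * Polynomial.X - Polynomial.C a₂ * Polynomial.X ^ 2 :
      Polynomial R).natTrailingDegree = 0 := by
    rw [Polynomial.natTrailingDegree_eq_zero]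
    right; rw [h0]; exact one_ne_zero
  rw [Polynomial.trailingCoeff, h1, h0]
  exact one_mem _

theorem nzd2 {R : Type u} [CommRing R] (a₁ a₂ : R) :
    (Polynomial.X ^ 2 + Polynomial.C a₁ * Polynomial.X - Polynomial.C a₂ : Polynomial R) ∈
      nonZeroDivisors (Polynomial R) := by
  apply Polynomial.Monic.mem_nonZeroDivisors
  rw [sub_eq_add_neg, add_assoc, ← Polynomial.C_neg]
  exact Polynomial.monic_X_pow_add Polynomial.degree_linear_lt

open MvPolynomial in
/-- Let R be a commutative ring, a₁, a₂ ∈ R, and C ⊂ A²_R the curve y² + a₁xy = x³ + a₂x², blown up at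
the section x = y = 0. In the chart where x = yα (variables y = X 0, α = X 1) the equation of C
becomes y²·g₁ with g₁ = 1 + a₁α − yα³ − a₂α², and the y-saturation of the ideal (y²g₁) is (g₁): for
s ∈ R[y, α], some yⁿs lies in (y²g₁) if and only if s ∈ (g₁). In the chart where y = xβ (variables x
= X 0, β = X 1) the equation becomes x²·g₂ with g₂ = β² + a₁β − x − a₂, and some xⁿs lies in (x²g₂)
if and only if s ∈ (g₂). In other words the strict transform of C is cut out by g₁, resp. g₂, in the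
two charts. -/
theorem result (R : Type u) [CommRing R] (a₁ a₂ : R) :
    (∀ s : MvPolynomial (Fin 2) R,
      (∃ n : ℕ, X 0 ^ n * s ∈ Ideal.span ({X 0 ^ 2 * (1 + C a₁ * X 1 - X 0 * X 1 ^ 3 - C a₂ * X 1 ^ 2)} :
        Set (MvPolynomial (Fin 2) R))) ↔
      s ∈ Ideal.span ({1 + C a₁ * X 1 - X 0 * X 1 ^ 3 - C a₂ * X 1 ^ 2} : Set (MvPolynomial (Fin 2) R))) ∧
    (∀ s : MvPolynomial (Fin 2) R,
      (∃ n : ℕ, X 0 ^ n * s ∈ Ideal.span ({X 0 ^ 2 * (X 1 ^ 2 + C a₁ * X 1 - X 0 - C a₂)} :
        Set (MvPolynomial (Fin 2) R))) ↔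
      s ∈ Ideal.span ({X 1 ^ 2 + C a₁ * X 1 - X 0 - C a₂} : Set (MvPolynomial (Fin 2) R))) := by
  constructor
  · intro s
    apply sat_general _ _ X0_cancel
    apply hg_of_nzd
    have : phi R (1 + C a₁ * X 1 - X 0 * X 1 ^ 3 - C a₂ * X 1 ^ 2) =
        1 + Polynomial.C a₁ * Polynomial.X - Polynomial.C a₂ * Polynomial.X ^ 2 := by
      simp [phi]
    rw [this]
    exact nzd1 a₁ a₂
  · intro s
    apply sat_general _ _ X0_cancel
    apply hg_of_nzd
    have : phi R (X 1 ^ 2 + C a₁ * X 1 - X 0 - C a₂) =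
        Polynomial.X ^ 2 + Polynomial.C a₁ * Polynomial.X - Polynomial.C a₂ := by
      simp [phi]
    rw [this]
    exact nzd2 a₁ a₂

end Groth.Agent.S19181
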