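import Groth.Statements.S19183
import Mathlib

set_option autoImplicit false
universe u
open CAlg

namespace Groth.Agent.S19183


noncomputable def toSub (A : Type u) [CommRing A] (f : A) :
    (A × A) →ₗ[A] (Submodule.comap (LinearMap.fst A A A - LinearMap.snd A A A) (Ideal.span ({f} : Set A))) where
  toFun x := ⟨(x.2 + f * x.1, x.2), by
    simp only [Submodule.mem_comap, LinearMap.sub_apply, LinearMap.fst_apply, LinearMap.snd_apply,
      add_sub_cancel_left]
    exact Ideal.mul_mem_right _ _ (Ideal.subset_span rfl)⟩
  map_add' x y := by
    ext <;> simp <;> ring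
  map_smul' r x := by
    ext <;> simp <;> ring

theorem toSub_bij (A : Type u) [CommRing A] (f : A) (hf : f ∈ nonZeroDivisors A) :
    Function.Bijective (toSub A f) := by
  constructor
  · intro x y h
    have h1 : (toSub A f x).1 = (toSub A f y).1 := by rw [h]
    simp only [toSub, LinearMap.coe_mk, AddHom.coe_mk, Prod.mk.injEq] at h1
    obtain ⟨h1, h2⟩ := h1
    rw [h2] at h1
    have h3 : f * x.1 = f * y.1 := add_left_cancel h1
    have h4 : x.1 = y.1 := by
      exact (mul_cancel_left_mem_nonZeroDivisors hf).mp h3
    exact Prod.ext h4 h2
  · rintro ⟨⟨x, y⟩, h⟩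
    simp only [Submodule.mem_comap, LinearMap.sub_apply, LinearMap.fst_apply, LinearMap.snd_apply] at h
    obtain ⟨a, ha⟩ := Ideal.mem_span_singleton'.mp h
    refine ⟨(a, y), ?_⟩
    apply Subtype.ext
    simp only [toSub, LinearMap.coe_mk, AddHom.coe_mk, Prod.mk.injEq, and_true]
    rw [mul_comm, ha]; ring

/-- Let A be a non-zero commutative ring and f ∈ A a non-zero-divisor. The fibre product A ×_{A/(f)} A
of two copies of A over A/(f) — the A-submodule of A × A of pairs (x, y) with x − y ∈ (f), which is
the coordinate ring of two copies of Spec A glued along the Cartier divisor f = 0 — is a free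
A-module of rank 2. (This is what makes the gluing of two copies of a curve along an effective
Cartier divisor finite locally free of degree 2 over the curve.) -/
theorem result (A : Type u) [CommRing A] [Nontrivial A]
    (f : A) (hf : f ∈ nonZeroDivisors A) :
    Module.Free A (Submodule.comap (LinearMap.fst A A A - LinearMap.snd A A A) (Ideal.span ({f} : Set A))) ∧
      Module.finrank A (Submodule.comap (LinearMap.fst A A A - LinearMap.snd A A A) (Ideal.span ({f} : Set A))) = 2 := by
  let e := LinearEquiv.ofBijective (toSub A f) (toSub_bij A f hf)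
  refine ⟨Module.Free.of_equiv e, ?_⟩
  rw [← LinearEquiv.finrank_eq e, Module.finrank_prod, Module.finrank_self]

end Groth.Agent.S19183
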