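import Groth.Statements.S19184
import Mathlib

set_option autoImplicit false
universe u
open CAlg

namespace Groth.Agent.S19184


open Polynomial

theorem fmonic {S : Type u} [CommRing S] (a b : S) : (X ^ 2 + C a * X + C b : S[X]).Monic := by
  rw [add_assoc]; exact monic_X_pow_add degree_linear_lt

theorem fdeg {S : Type u} [CommRing S] [Nontrivial S] (a b : S) :
    degree (X ^ 2 + C a * X + C b : S[X]) = 2 := by
  rw [add_assoc, degree_add_eq_left_of_degree_lt, degree_X_pow]
  · rfl
  · rw [degree_X_pow]; exact degree_linear_lt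

noncomputable abbrev Asub (S : Type u) [CommRing S] (a b : S) : Subalgebra S S[X] :=
  (⊥ : Subalgebra S (S[X] ⧸ Ideal.span ({X ^ 2 + C a * X + C b} : Set S[X]))).comap
    (Ideal.Quotient.mkₐ S (Ideal.span ({X ^ 2 + C a * X + C b} : Set S[X])))

theorem mem_Asub_iff {S : Type u} [CommRing S] (a b : S) (p : S[X]) :
    p ∈ Asub S a b ↔ ∃ s q, p = C s + q * (X ^ 2 + C a * X + C b) := by
  rw [Subalgebra.mem_comap, Algebra.mem_bot]
  constructor
  · rintro ⟨s, hs⟩
    have h1 : (Ideal.Quotient.mk (Ideal.span ({X ^ 2 + C a * X + C b} : Set S[X]))) (C s) =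
        (Ideal.Quotient.mk (Ideal.span ({X ^ 2 + C a * X + C b} : Set S[X]))) p := hs
    rw [eq_comm, Ideal.Quotient.eq, Ideal.mem_span_singleton'] at h1
    obtain ⟨q, hq⟩ := h1
    exact ⟨s, q, by rw [hq]; ring⟩
  · rintro ⟨s, q, rfl⟩
    refine ⟨s, ?_⟩
    show (Ideal.Quotient.mk (Ideal.span ({X ^ 2 + C a * X + C b} : Set S[X]))) (C s) =
        (Ideal.Quotient.mk (Ideal.span ({X ^ 2 + C a * X + C b} : Set S[X]))) _
    rw [Ideal.Quotient.eq, Ideal.mem_span_singleton']
    exact ⟨-q, by ring⟩

noncomputable def toA (S : Type u) [CommRing S] (a b : S) : (S × S[X]) →ₗ[S] Asub S a b where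
  toFun x := ⟨C x.1 + x.2 * (X ^ 2 + C a * X + C b), (mem_Asub_iff a b _).mpr ⟨x.1, x.2, rfl⟩⟩
  map_add' x y := by
    apply Subtype.ext
    simp only [Prod.fst_add, Prod.snd_add, map_add, Subalgebra.coe_add]
    ring
  map_smul' r x := by
    apply Subtype.ext
    simp only [Prod.smul_fst, Prod.smul_snd, RingHom.id_apply, Subalgebra.coe_smul, smul_eq_mul,
      map_mul, smul_add, ← C_mul', mul_assoc, Algebra.smul_mul_assoc]

theorem toA_bij (S : Type u) [CommRing S] (a b : S) : Function.Bijective (toA S a b) := by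
  constructor
  · rcases subsingleton_or_nontrivial S with hS | hS
    · exact Function.injective_of_subsingleton _
    · intro x y h
      have h1 : C x.1 + x.2 * (X ^ 2 + C a * X + C b) = C y.1 + y.2 * (X ^ 2 + C a * X + C b) :=
        congrArg Subtype.val h
      have hdeg : ∀ s : S, degree (C s) < degree (X ^ 2 + C a * X + C b : S[X]) := by
        intro s
        rw [fdeg a b]
        exact lt_of_le_of_lt degree_C_le (by norm_num)
      have u1 := div_modByMonic_unique (f := C y.1 + y.2 * (X ^ 2 + C a * X + C b)) x.2 (C x.1)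
        (fmonic a b) ⟨by rw [← h1]; ring, hdeg _⟩
      have u2 := div_modByMonic_unique (f := C y.1 + y.2 * (X ^ 2 + C a * X + C b)) y.2 (C y.1)
        (fmonic a b) ⟨by ring, hdeg _⟩
      apply Prod.ext
      · exact C_injective (u1.2.symm.trans u2.2)
      · exact u1.1.symm.trans u2.1
  · rintro ⟨p, hp⟩
    obtain ⟨s, q, rfl⟩ := (mem_Asub_iff a b p).mp hp
    exact ⟨(s, q), rfl⟩

theorem finite_over_A (S : Type u) [CommRing S] (a b : S) : Module.Finite (Asub S a b) S[X] := by
  rcases subsingleton_or_nontrivial S with hS | hS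
  · exact Module.Finite.of_surjective (0 : (Asub S a b) →ₗ[Asub S a b] S[X])
      (fun x => ⟨0, Subsingleton.elim _ _⟩)
  classical
  refine ⟨⟨({1, X} : Finset S[X]), ?_⟩⟩
  rw [eq_top_iff]
  rintro p -
  have hmon := fmonic a b
  set f : S[X] := X ^ 2 + C a * X + C b with hf
  have hdeg : degree (p %ₘ f) ≤ 1 := by
    have h1 := degree_modByMonic_lt p hmon
    have h2 : degree f = 2 := fdeg a b
    rw [h2] at h1
    exact Order.le_of_lt_succ h1
  have hr := eq_X_add_C_of_degree_le_one hdeg
  have hp : p = (⟨f * (p /ₘ f) + C ((p %ₘ f).coeff 0), (mem_Asub_iff a b _).mpr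
      ⟨(p %ₘ f).coeff 0, p /ₘ f, by rw [hf]; ring⟩⟩ : Asub S a b) • (1 : S[X]) +
      (⟨C ((p %ₘ f).coeff 1), (mem_Asub_iff a b _).mpr
      ⟨(p %ₘ f).coeff 1, 0, by ring⟩⟩ : Asub S a b) • (X : S[X]) := by
    rw [Subalgebra.smul_def, Subalgebra.smul_def]
    simp only [smul_eq_mul, mul_one]
    conv_lhs => rw [← modByMonic_add_div p f, hr]
    ring
  rw [hp]
  apply Submodule.add_mem
  · exact Submodule.smul_mem _ _ (Submodule.subset_span (by simp))
  · exact Submodule.smul_mem _ _ (Submodule.subset_span (by simp))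

open Polynomial in
/-- Let S be a commutative ring, a, b ∈ S, f = x² + ax + b ∈ S[x] and R = S[x]/(f), a free S-algebra of
rank 2. Let A ⊂ S[x] be the S-subalgebra of polynomials whose class in R lies in the image of S → R;
it is the fibre product S[x] ×_R S, the coordinate ring of the affine line over S with the degree-2
subscheme Spec R collapsed onto Spec S. Then A is a free S-module and S[x] is a finitely generated
A-module. -/
theorem result (S : Type u) [CommRing S] (a b : S) :
    Module.Free S ((⊥ : Subalgebra S (S[X] ⧸ Ideal.span ({X ^ 2 + C a * X + C b} : Set S[X]))).comap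
        (Ideal.Quotient.mkₐ S (Ideal.span ({X ^ 2 + C a * X + C b} : Set S[X])))) ∧
      Module.Finite ((⊥ : Subalgebra S (S[X] ⧸ Ideal.span ({X ^ 2 + C a * X + C b} : Set S[X]))).comap
        (Ideal.Quotient.mkₐ S (Ideal.span ({X ^ 2 + C a * X + C b} : Set S[X])))) S[X] := by
  refine ⟨?_, finite_over_A S a b⟩
  exact Module.Free.of_equiv (LinearEquiv.ofBijective (toA S a b) (toA_bij S a b))

end Groth.Agent.S19184
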