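import Groth.Statements.S19186
import Mathlib.RingTheory.Coprime.Lemmas

set_option autoImplicit false
universe u
open OneMot

namespace Groth.Agent.S19186


theorem bez {G : Type u} [AddCommGroup G] (m N : ℕ) (h : Nat.Coprime m N) :
    ∃ u v : ℤ, ∀ x : G, x = u • (m • x) + v • (N • x) := by
  have hc : IsCoprime (m : ℤ) (N : ℤ) := Nat.isCoprime_iff_coprime.mpr h
  obtain ⟨u, v, huv⟩ := hc
  refine ⟨u, v, fun x => ?_⟩
  have : (u * m + v * N) • x = x := by rw [huv, one_smul]
  rw [add_smul, mul_smul, mul_smul, natCast_zsmul, natCast_zsmul] at this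
  exact this.symm

theorem cop (p ℓ k n : ℕ) (hp : p.Prime) (hl : ℓ.Prime) (hne : ℓ ≠ p) : Nat.Coprime (p ^ k) (ℓ ^ n) := by
  apply Nat.Coprime.pow
  exact (Nat.coprime_primes hp hl).mpr (Ne.symm hne)

/-- Let p and ℓ be distinct prime numbers, r and n natural numbers, and f : A → B a homomorphism of
abelian groups whose kernel and cokernel are annihilated by p^r (f a = 0 implies p^r • a = 0, and
every p^r • b lies in the image of f). Then f induces a bijection between the ℓ^n-torsion subgroups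
of A and B and a bijection A/ℓ^n A → B/ℓ^n B. Spelled out without quotients: every ℓ^n-torsion
element of B has exactly one ℓ^n-torsion preimage; an element of A whose image is an ℓ^n-multiple is
itself an ℓ^n-multiple; and every element of B is the sum of an image and an ℓ^n-multiple. -/
theorem result {A B : Type u} [AddCommGroup A] [AddCommGroup B] (f : A →+ B) (p ℓ r n : ℕ) (hp : p.Prime) (hl : ℓ.Prime) (hne : ℓ ≠ p) (hker : ∀ a : A, f a = 0 → p ^ r • a = 0) (hcoker : ∀ b : B, ∃ a : A, f a = p ^ r • b) : (∀ b : B, ℓ ^ n • b = 0 → ∃! a : A, ℓ ^ n • a = 0 ∧ f a = b) ∧ (∀ a : A, (∃ b' : B, f a = ℓ ^ n • b') → ∃ a' : A, a = ℓ ^ n • a') ∧ (∀ b : B, ∃ (a : A) (b' : B), b = f a + ℓ ^ n • b') := by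
  have h1 := cop p ℓ r n hp hl hne
  have h2 := cop p ℓ (r + r) n hp hl hne
  refine ⟨?_, ?_, ?_⟩
  · intro b hb
    obtain ⟨a₀, ha₀⟩ := hcoker b
    obtain ⟨u, v, huv⟩ := bez (G := B) _ _ h2
    have hb1 : u • (p ^ r • (p ^ r • b)) = b := by
      have := huv b
      rw [hb, smul_zero, add_zero, pow_add, mul_smul] at this
      exact this.symm
    have hk : ℓ ^ n • (p ^ r • a₀) = 0 := by
      rw [smul_comm]
      apply hker
      rw [map_nsmul, ha₀, smul_comm, hb, smul_zero]
    refine ⟨u • (p ^ r • a₀), ⟨?_, ?_⟩, ?_⟩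
    · rw [smul_comm, hk, smul_zero]
    · rw [map_zsmul, map_nsmul, ha₀, hb1]
    · rintro a' ⟨ha'1, ha'2⟩
      obtain ⟨u', v', huv'⟩ := bez (G := A) _ _ h1
      have hd : a' - u • (p ^ r • a₀) = 0 := by
        rw [huv' (a' - u • (p ^ r • a₀))]
        have e1 : p ^ r • (a' - u • (p ^ r • a₀)) = 0 := by
          apply hker
          rw [map_sub, ha'2, map_zsmul, map_nsmul, ha₀, hb1, sub_self]
        have e2 : ℓ ^ n • (a' - u • (p ^ r • a₀)) = 0 := by
          rw [smul_sub, ha'1, smul_comm, hk, smul_zero, sub_zero]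
        rw [e1, e2, smul_zero, smul_zero, add_zero]
      exact sub_eq_zero.mp hd
  · rintro a ⟨b', hb'⟩
    obtain ⟨a₀, ha₀⟩ := hcoker b'
    obtain ⟨u, v, huv⟩ := bez (G := A) _ _ h2
    have hk : p ^ r • (p ^ r • a - ℓ ^ n • a₀) = 0 := by
      apply hker
      rw [map_sub, map_nsmul, map_nsmul, hb', ha₀, smul_comm, sub_self]
    have hk' : p ^ (r + r) • a = ℓ ^ n • (p ^ r • a₀) := by
      rw [smul_sub, sub_eq_zero] at hk
      rw [pow_add, mul_smul, hk, smul_comm]
    refine ⟨u • (p ^ r • a₀) + v • a, ?_⟩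
    have := huv a
    rw [hk'] at this
    rw [smul_add, smul_comm (ℓ ^ n) u, smul_comm (ℓ ^ n) v]
    exact this
  · intro b
    obtain ⟨a₀, ha₀⟩ := hcoker b
    obtain ⟨u, v, huv⟩ := bez (G := B) _ _ h1
    refine ⟨u • a₀, v • b, ?_⟩
    have := huv b
    rw [map_zsmul, ha₀, smul_comm (ℓ ^ n) v]
    exact this

end Groth.Agent.S19186
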