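import Groth.Statements.S19187
import Mathlib

set_option autoImplicit false
universe u
open Cpct

namespace Groth.Agent.S19187

open CategoryTheory AlgebraicGeometry in
/-- Let k be a field, X̄ and Ȳ schemes proper over Spec k, j : X → X̄ an open immersion with dense image
and v : Y → Ȳ an open immersion (compactifications of X and Y), f : X → Y a proper morphism and f̄ :
X̄ → Ȳ a morphism over Spec k with f̄ ∘ j = v ∘ f. Then the preimage under f̄ of the open v(Y) is
the open j(X); equivalently, the complement of X in X̄ is the preimage of the complement of Y in Ȳ.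
(The base field k is arbitrary: no perfectness assumption is needed.) -/
theorem result {k : Type u} [Field k] {X Y Xb Yb : Scheme.{u}} (a : Xb ⟶ Spec (CommRingCat.of k)) (b : Yb ⟶ Spec (CommRingCat.of k)) [IsProper a] [IsProper b] (j : X ⟶ Xb) [IsOpenImmersion j] (hj : Dense (Set.range j.base)) (v : Y ⟶ Yb) [IsOpenImmersion v] (f : X ⟶ Y) [IsProper f] (fb : Xb ⟶ Yb) (hfb : fb ≫ b = a) (hsq : j ≫ fb = f ≫ v) : fb ⁻¹ᵁ v.opensRange = j.opensRange := by
  haveI : IsSeparated (fb ≫ b) := by rw [hfb]; infer_instance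
  haveI : IsSeparated fb := IsSeparated.of_comp fb b
  let W : Xb.Opens := fb ⁻¹ᵁ v.opensRange
  have hjW : Set.range j ⊆ Set.range W.ι := by
    rintro _ ⟨x, rfl⟩
    rw [Scheme.Opens.range_ι]
    show fb (j x) ∈ v.opensRange
    rw [← Scheme.Hom.comp_apply, hsq, Scheme.Hom.comp_apply]
    exact ⟨_, rfl⟩
  let j' : X ⟶ W := IsOpenImmersion.lift W.ι j hjW
  have hj' : j' ≫ W.ι = j := IsOpenImmersion.lift_fac _ _ _
  have hfbW : Set.range (W.ι ≫ fb) ⊆ Set.range v := by
    rintro _ ⟨x, rfl⟩
    rw [Scheme.Hom.comp_apply]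
    exact x.2
  let fb' : (W : Scheme) ⟶ Y := IsOpenImmersion.lift v (W.ι ≫ fb) hfbW
  have hfb' : fb' ≫ v = W.ι ≫ fb := IsOpenImmersion.lift_fac _ _ _
  have hcomp : j' ≫ fb' = f := by
    rw [← cancel_mono v, Category.assoc, hfb', ← Category.assoc, hj', hsq]
  haveI : IsSeparated (fb' ≫ v) := by rw [hfb']; infer_instance
  haveI : IsSeparated fb' := IsSeparated.of_comp fb' v
  haveI : IsProper (j' ≫ fb') := by rw [hcomp]; infer_instance
  haveI : IsProper j' := IsProper.of_comp j' fb'
  have hclosed : IsClosed (Set.range j') := j'.isClosedMap.isClosed_range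
  have hrange : Set.range j' = W.ι ⁻¹' (Set.range j) := by
    ext w
    constructor
    · rintro ⟨x, rfl⟩
      exact ⟨x, by rw [← hj', Scheme.Hom.comp_apply]⟩
    · rintro ⟨x, hx⟩
      refine ⟨x, W.ι.injective ?_⟩
      rw [← Scheme.Hom.comp_apply, hj', hx]
  have hdense : Dense (Set.range j') := by
    rw [hrange]
    exact hj.preimage W.ι.isOpenEmbedding.isOpenMap
  have hsurj : Set.range j' = Set.univ := by
    rw [← hclosed.closure_eq]; exact hdense.closure_eq
  apply TopologicalSpace.Opens.ext
  show (W : Set Xb) = Set.range j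
  rw [← hj']
  show (W : Set Xb) = Set.range (W.ι ∘ j')
  rw [Set.range_comp, hsurj, Set.image_univ, Scheme.Opens.range_ι]

end Groth.Agent.S19187
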