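import Groth.Statements.S19190
import Mathlib

set_option autoImplicit false
universe w v u v' u'
open CategoryTheory CategoryTheory.Limits CategoryTheory.Pretriangulated CategoryTheory.Triangulated
open CohDer

namespace Groth.Agent.S19190


section
variable {A : Type w} [CommRing A] (S : Submonoid A)
    {T : Type u} [Category.{v} T] [Preadditive T] [Linear A T] [HasZeroObject T] [HasShift T ℤ]
    [∀ n : ℤ, (shiftFunctor T n).Additive] [∀ n : ℤ, (shiftFunctor T n).Linear A]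
    [Pretriangulated T] [IsTriangulated T]

def Tors : ObjectProperty T := fun Z => ∃ s ∈ S, s • 𝟙 Z = 0

instance tors_retracts : (Tors (T := T) S).IsStableUnderRetracts where
  of_retract := by
    rintro X Y r ⟨s, hs, h⟩
    refine ⟨s, hs, ?_⟩
    have : s • 𝟙 X = r.i ≫ (s • 𝟙 Y) ≫ r.r := by
      rw [Linear.smul_comp, Linear.comp_smul, Category.id_comp, r.retract]
    rw [this, h, zero_comp, comp_zero]

open ZeroObject in
instance tors_zero : (Tors (T := T) S).ContainsZero where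
  exists_zero := ⟨(0 : T), isZero_zero T, ⟨1, S.one_mem, (isZero_zero T).eq_of_src _ _⟩⟩

instance tors_shift : (Tors (T := T) S).IsStableUnderShift ℤ where
  isStableUnderShiftBy n :=
    { le_shift := by
        rintro X ⟨s, hs, h⟩
        refine ⟨s, hs, ?_⟩
        have : s • 𝟙 (X⟦n⟧) = (shiftFunctor T n).map (s • 𝟙 X) := by
          rw [Functor.map_smul, CategoryTheory.Functor.map_id]
        rw [this, h, Functor.map_zero] }

instance tors_ext : (Tors (T := T) S).IsTriangulatedClosed₂ where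
  ext₂' := by
    rintro Tr hTr ⟨s, hs, h⟩ ⟨s', hs', h'⟩
    apply ObjectProperty.le_isoClosure
    refine ⟨s * s', S.mul_mem hs hs', ?_⟩
    have h1 : (s' • 𝟙 Tr.obj₂) ≫ Tr.mor₂ = 0 := by
      have : (s' • 𝟙 Tr.obj₂) ≫ Tr.mor₂ = Tr.mor₂ ≫ (s' • 𝟙 Tr.obj₃) := by
        rw [Linear.smul_comp, Linear.comp_smul, Category.id_comp, Category.comp_id]
      rw [this, h', comp_zero]
    obtain ⟨k, hk⟩ := Triangle.coyoneda_exact₂ Tr hTr _ h1
    have h2 : (s * s') • 𝟙 Tr.obj₂ = (k ≫ (s • 𝟙 Tr.obj₁)) ≫ Tr.mor₁ := by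
      rw [mul_smul, hk, Linear.comp_smul, Linear.smul_comp, Category.comp_id]
    rw [h2, h, comp_zero, zero_comp]

instance tors_tri : (Tors (T := T) S).IsTriangulated where

theorem tors_cone (X : T) (f : A) (hf : f ∈ S) (Z : T) (g : X ⟶ Z) (h : Z ⟶ X⟦(1 : ℤ)⟧)
    (hT : Triangle.mk (f • 𝟙 X) g h ∈ distTriang T) : Tors S Z := by
  refine ⟨f * f, S.mul_mem hf hf, ?_⟩
  have h1 : g ≫ (f • 𝟙 Z) = 0 := by
    have : g ≫ (f • 𝟙 Z) = (f • 𝟙 X) ≫ g := by
      rw [Linear.smul_comp, Linear.comp_smul, Category.id_comp, Category.comp_id]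
    rw [this]
    exact comp_distTriang_mor_zero₁₂ _ hT
  obtain ⟨k, hk⟩ := Triangle.yoneda_exact₃ _ hT (f • 𝟙 Z) h1
  change (X⟦(1 : ℤ)⟧ ⟶ Z) at k
  change f • 𝟙 Z = h ≫ k at hk
  have h2 : h ≫ (f • 𝟙 (X⟦(1 : ℤ)⟧)) = 0 := by
    have : f • 𝟙 (X⟦(1 : ℤ)⟧) = (shiftFunctor T (1 : ℤ)).map (f • 𝟙 X) := by
      rw [Functor.map_smul, CategoryTheory.Functor.map_id]
    rw [this]
    exact comp_distTriang_mor_zero₃₁ _ hT
  have h3 : (f * f) • 𝟙 Z = (h ≫ (f • 𝟙 (X⟦(1 : ℤ)⟧))) ≫ k := by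
    rw [mul_smul, hk, Linear.comp_smul, Linear.smul_comp, Category.comp_id]
  rw [h3, h2, zero_comp]

theorem exists_factor (U : ObjectProperty T) (hUT : U ≤ Tors S) {X' X : T} (t : X' ⟶ X)
    (ht : U.trW t) : ∃ s ∈ S, ∃ k : X ⟶ X', s • 𝟙 X = k ≫ t := by
  obtain ⟨Z, g, h, hT, hZ⟩ := ht
  obtain ⟨s, hs, hs0⟩ := hUT _ hZ
  have h1 : (s • 𝟙 X) ≫ g = 0 := by
    have : (s • 𝟙 X) ≫ g = g ≫ (s • 𝟙 Z) := by
      rw [Linear.smul_comp, Linear.comp_smul, Category.id_comp, Category.comp_id]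
    rw [this, hs0, comp_zero]
  obtain ⟨k, hk⟩ := Triangle.coyoneda_exact₂ _ hT (s • 𝟙 X) h1
  exact ⟨s, hs, k, hk⟩

end

/-- Let `A` be a commutative ring, `S` a multiplicative subset of `A` and `T` an `A`-linear triangulated
category (octahedron axiom included; the shift functors are `A`-linear). Call an object of `T`
`S`-torsion when it lies in the smallest thick subcategory `U` of `T` (a property of objects
containing zero, stable under shifts, extensions, isomorphisms and direct factors) containing every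
cone of an endomorphism `f • 𝟙 X` with `f ∈ S`. Let `Q : T ⥤ E` exhibit `E` as the localization of
`T` at the morphisms whose cone lies in `U` (the Verdier quotient `T/U`), where `E` is preadditive
and `A`-linear and `Q` is `A`-linear. Then for all objects `X`, `Y` of `T` the `A`-linear map
`Hom_T(X, Y) → Hom_E(Q X, Q Y)` given by `Q` exhibits its target as the localization of `Hom_T(X,
Y)` at `S`. Since `Q` is essentially surjective, this says that the comparison functor from `T/U` to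
the category having the objects of `T` and morphism modules `Hom_T(X, Y) ⊗_A S⁻¹A` is an
equivalence. -/
theorem result
    {A : Type w} [CommRing A] (S : Submonoid A)
    {T : Type u} [Category.{v} T] [Preadditive T] [Linear A T] [HasZeroObject T] [HasShift T ℤ]
    [∀ n : ℤ, (shiftFunctor T n).Additive] [∀ n : ℤ, (shiftFunctor T n).Linear A]
    [Pretriangulated T] [IsTriangulated T]
    (U : ObjectProperty T) [U.IsTriangulated] [U.IsClosedUnderIsomorphisms] [U.IsStableUnderRetracts]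
    (hU : ∀ (X : T) (f : A), f ∈ S → ∀ (Z : T) (g : X ⟶ Z) (h : Z ⟶ X⟦(1 : ℤ)⟧),
      Triangle.mk (f • 𝟙 X) g h ∈ distTriang T → U Z)
    (hmin : ∀ (U' : ObjectProperty T) [U'.IsTriangulated] [U'.IsClosedUnderIsomorphisms]
      [U'.IsStableUnderRetracts],
      (∀ (X : T) (f : A), f ∈ S → ∀ (Z : T) (g : X ⟶ Z) (h : Z ⟶ X⟦(1 : ℤ)⟧),
        Triangle.mk (f • 𝟙 X) g h ∈ distTriang T → U' Z) → U ≤ U')
    {E : Type u'} [Category.{v'} E] [Preadditive E] [Linear A E]
    (Q : T ⥤ E) [Q.Additive] [Q.Linear A] [Q.IsLocalization U.trW] (X Y : T) :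
    IsLocalizedModule S (Q.mapLinearMap A : (X ⟶ Y) →ₗ[A] (Q.obj X ⟶ Q.obj Y)) := by
  have hUT : U ≤ Tors S := hmin (Tors S) (tors_cone S)
  refine ⟨?_, ?_, ?_⟩
  · rintro ⟨s, hs⟩
    rw [Module.End.isUnit_iff]
    obtain ⟨Z, g, h, hT⟩ := distinguished_cocone_triangle (s • 𝟙 Y)
    have hW : U.trW (s • 𝟙 Y) := ⟨Z, g, h, hT, hU Y s hs Z g h hT⟩
    have : IsIso (Q.map (s • 𝟙 Y)) := Localization.inverts Q U.trW _ hW
    have hmap : ∀ m : Q.obj X ⟶ Q.obj Y,
        (algebraMap A (Module.End A (Q.obj X ⟶ Q.obj Y)) s) m = m ≫ Q.map (s • 𝟙 Y) := by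
      intro m
      rw [Module.algebraMap_end_apply, Functor.map_smul, CategoryTheory.Functor.map_id, Linear.comp_smul,
        Category.comp_id]
    constructor
    · intro m₁ m₂ hm
      rw [hmap, hmap] at hm
      exact (cancel_mono _).mp hm
    · intro m
      refine ⟨m ≫ inv (Q.map (s • 𝟙 Y)), ?_⟩
      rw [hmap, Category.assoc, IsIso.inv_hom_id, Category.comp_id]
  · intro y
    obtain ⟨φ, hφ⟩ := Localization.exists_leftFraction Q U.trW y
    obtain ⟨s, hs, k, hk⟩ := exists_factor S U hUT φ.s φ.hs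
    refine ⟨(φ.f ≫ k, ⟨s, hs⟩), ?_⟩
    have : IsIso (Q.map φ.s) := Localization.inverts Q U.trW _ φ.hs
    have h1 : Q.map k = s • inv (Q.map φ.s) := by
      have : Q.map k ≫ Q.map φ.s = s • 𝟙 _ := by
        rw [← Q.map_comp, ← hk, Functor.map_smul, CategoryTheory.Functor.map_id]
      rw [← cancel_mono (Q.map φ.s), this, Linear.smul_comp, IsIso.inv_hom_id]
    show s • y = Q.map (φ.f ≫ k)
    rw [hφ, Q.map_comp, h1, Linear.comp_smul]
    rfl
  · intro f₁ f₂ hf
    have hf' : Q.map f₁ = Q.map f₂ := hf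
    rw [MorphismProperty.map_eq_iff_precomp Q U.trW] at hf'
    obtain ⟨X', t, ht, htf⟩ := hf'
    obtain ⟨s, hs, k, hk⟩ := exists_factor S U hUT t ht
    refine ⟨⟨s, hs⟩, ?_⟩
    show s • f₁ = s • f₂
    have e1 : s • f₁ = (s • 𝟙 X) ≫ f₁ := by rw [Linear.smul_comp, Category.id_comp]
    have e2 : s • f₂ = (s • 𝟙 X) ≫ f₂ := by rw [Linear.smul_comp, Category.id_comp]
    rw [e1, e2, hk, Category.assoc, Category.assoc, htf]

end Groth.Agent.S19190
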