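import Groth.Statements.S19191
import Mathlib

set_option autoImplicit false
universe w v u v' u'
open CategoryTheory CategoryTheory.Limits CategoryTheory.Pretriangulated CategoryTheory.Triangulated
open CohDer

namespace Groth.Agent.S19191


theorem id_eq_zero_iff
    {T : Type u} [Category.{v} T] [Preadditive T] [HasZeroObject T] [HasShift T ℤ]
    [∀ n : ℤ, (shiftFunctor T n).Additive]
    [Pretriangulated T] [IsTriangulated T]
    (U : ObjectProperty T) [U.IsTriangulated] [U.IsClosedUnderIsomorphisms] [U.IsStableUnderRetracts]
    {E : Type u'} [Category.{v'} E] [Preadditive E]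
    (Q : T ⥤ E) [Q.Additive] [Q.IsLocalization U.trW] (X : T) :
    U X ↔ 𝟙 (Q.obj X) = 0 := by
  constructor
  · intro hX
    have h1 : Q.map (𝟙 X) = Q.map (0 : X ⟶ X) := by
      rw [MorphismProperty.map_eq_iff_postcomp Q U.trW]
      refine ⟨_, (contractibleTriangle X).mor₂,
        ObjectProperty.trW.mk' U (contractible_distinguished X) hX, ?_⟩
      exact (isZero_zero T).eq_of_tgt _ _
    rw [Q.map_id, Q.map_zero] at h1
    exact h1
  · intro h
    have h1 : Q.map (𝟙 X) = Q.map (0 : X ⟶ X) := by
      rw [Q.map_id, Q.map_zero]; exact h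
    rw [MorphismProperty.map_eq_iff_postcomp Q U.trW] at h1
    obtain ⟨Z, s, hs, hs0⟩ := h1
    rw [Category.id_comp, zero_comp] at hs0
    subst hs0
    obtain ⟨C, g, hh, hT, hC⟩ := hs
    have hz : 𝟙 (X⟦(1 : ℤ)⟧) ≫ (shiftFunctor T (1 : ℤ)).map (0 : X ⟶ Z) = 0 := by
      rw [Category.id_comp]; exact Functor.map_zero _ _ _
    obtain ⟨σ, hσ⟩ := Triangle.coyoneda_exact₁ _ hT (𝟙 (X⟦(1 : ℤ)⟧)) hz
    have hret : Retract (X⟦(1 : ℤ)⟧) C := ⟨σ, hh, hσ.symm⟩
    have hX1 : U (X⟦(1 : ℤ)⟧) := U.prop_of_retract hret hC
    exact (U.prop_shift_iff_of_isStableUnderShift X (1 : ℤ)).mp hX1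

/-- Let `A` be a commutative ring, `T` an `A`-linear triangulated category (octahedron axiom included;
shift functors `A`-linear), `U` a thick subcategory of `T` (a property of objects containing zero,
stable under shifts, extensions, isomorphisms and direct factors), and `Q : T ⥤ E` a localization of
`T` at the morphisms whose cone lies in `U` (the Verdier quotient `T/U`), where `E` is preadditive
and `A`-linear and `Q` is `A`-linear. For an object `X` of `T` the following two conditions are
equivalent: (i) `X` lies in `U`; (ii) for every maximal ideal `m` of `A` the image of `X` in the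
category obtained from `T/U` by tensoring the morphism modules with `A_m` is zero, i.e. some element
of `A` outside `m` annihilates the identity of `Q X`. (The published statement also lists a third
equivalent condition, phrased with idempotent completions of the localized categories; it is not
asserted here.) -/
theorem result
    {A : Type w} [CommRing A]
    {T : Type u} [Category.{v} T] [Preadditive T] [Linear A T] [HasZeroObject T] [HasShift T ℤ]
    [∀ n : ℤ, (shiftFunctor T n).Additive] [∀ n : ℤ, (shiftFunctor T n).Linear A]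
    [Pretriangulated T] [IsTriangulated T]
    (U : ObjectProperty T) [U.IsTriangulated] [U.IsClosedUnderIsomorphisms] [U.IsStableUnderRetracts]
    {E : Type u'} [Category.{v'} E] [Preadditive E] [Linear A E]
    (Q : T ⥤ E) [Q.Additive] [Q.Linear A] [Q.IsLocalization U.trW] (X : T) :
    U X ↔ ∀ m : Ideal A, m.IsMaximal → ∃ s : A, s ∉ m ∧ s • 𝟙 (Q.obj X) = 0 := by
  rw [id_eq_zero_iff U Q X]
  constructor
  · intro h m hm
    refine ⟨1, ?_, ?_⟩
    · exact (Ideal.ne_top_iff_one m).mp hm.ne_top
    · rw [one_smul]; exact h
  · intro h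
    let I : Ideal A :=
      { carrier := {s | s • 𝟙 (Q.obj X) = 0}
        add_mem' := by
          intro a b ha hb
          simp only [Set.mem_ofPred_eq] at ha hb ⊢
          rw [add_smul, ha, hb, add_zero]
        zero_mem' := by simp
        smul_mem' := by
          intro c a ha
          simp only [Set.mem_ofPred_eq] at ha ⊢
          rw [smul_eq_mul, mul_smul, ha, smul_zero] }
    have hI : I = ⊤ := by
      by_contra hne
      obtain ⟨m, hm, hIm⟩ := Ideal.exists_le_maximal I hne
      obtain ⟨s, hsm, hs⟩ := h m hm
      exact hsm (hIm hs)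
    have h1 : (1 : A) ∈ I := by rw [hI]; trivial
    have h2 : (1 : A) • 𝟙 (Q.obj X) = 0 := h1
    rwa [one_smul] at h2

end Groth.Agent.S19191
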