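import Groth.Statements.S19193
import Mathlib
import Groth.Prelude.Def_W4c6blochformula0cycCech

set_option autoImplicit false
universe u
open CategoryTheory Opposite TopologicalSpace
open CohTop

namespace Groth.Agent.S19193

section Aux
open CategoryTheory Opposite TopologicalSpace
open W4c6blochformula0cyc


variable {X : Type u} [TopologicalSpace X] (F : (Opens X)ᵒᵖ ⥤ AddCommGrpCat.{u})

lemma res_res {V W Z : Opens X} (h1 : W ≤ V) (h2 : Z ≤ W) (x : F.obj (op V)) :
    res F h2 (res F h1 x) = res F (h2.trans h1) x := by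
  unfold res
  have : (homOfLE (h2.trans h1)).op = (homOfLE h1).op ≫ (homOfLE h2).op := rfl
  rw [this, F.map_comp]
  rfl

lemma res_id {V : Opens X} (h : V ≤ V) (x : F.obj (op V)) : res F h x = x := by
  unfold res
  have : (homOfLE h).op = 𝟙 (op V) := rfl
  rw [this, F.map_id]
  rfl

variable {ι : Type u} (U : ι → Opens X)

lemma res_congr {n : ℕ} (f : Cochain F U n) {s s' : Fin n → ι} (hs : s = s') {W : Opens X}
    (h : W ≤ cechOpen U s) (h' : W ≤ cechOpen U s') :
    res F h (f s) = res F h' (f s') := by
  subst hs; rfl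

lemma E_congr (E : ∀ (V : Opens X) (α : ι), F.obj (op (V ⊓ U α)) →+ F.obj (op V))
    {V V' : Opens X} (hV : V = V') (α : ι) {Z : Opens X} (x : F.obj (op Z))
    (h : V ⊓ U α ≤ Z) (h' : V' ⊓ U α ≤ Z) :
    E V α (res F h x) = res F hV.le (E V' α (res F h' x)) := by
  subst hV
  rw [res_id]

lemma cechOpen_eq {n : ℕ} (t : Fin (n + 1) → ι) (i : Fin (n + 1)) :
    cechOpen U t = cechOpen U (t ∘ i.succAbove) ⊓ U (t i) := by
  apply le_antisymm
  · exact le_inf (cechOpen_le_comp U t i) (iInf_le (fun j => U (t j)) i)
  · refine le_iInf fun j => ?_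
    by_cases hj : j = i
    · subst hj; exact inf_le_right
    · obtain ⟨k, rfl⟩ := Fin.exists_succAbove_eq hj
      exact inf_le_left.trans (iInf_le (fun k => U ((t ∘ i.succAbove) k)) k)

lemma cons_comp_zero {n : ℕ} (t : Fin (n + 1) → ι) (α : ι) :
    (Fin.cons α t : Fin (n + 2) → ι) ∘ (0 : Fin (n + 2)).succAbove = t := by
  funext k
  simp [Fin.succAbove_zero]

lemma cons_comp_succ {n : ℕ} (t : Fin (n + 1) → ι) (α : ι) (i : Fin (n + 1)) :
    (Fin.cons α t : Fin (n + 2) → ι) ∘ (i.succ).succAbove =
      (Fin.cons α (t ∘ i.succAbove) : Fin (n + 1) → ι) := by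
  funext k
  refine Fin.cases ?_ (fun k => ?_) k
  · simp
  · simp

theorem main [Fintype ι]
    (E : ∀ (V : Opens X) (α : ι), F.obj (op (V ⊓ U α)) →+ F.obj (op V))
    (h2 : ∀ (m : ℕ) (t : Fin (m + 1) → ι) (f : F.obj (op (cechOpen U t))),
      ∑ α, E (cechOpen U t) α (res F inf_le_left f) = f)
    (h3 : ∀ (m : ℕ) (t : Fin (m + 1) → ι) (α β : ι) (g : F.obj (op (cechOpen U t ⊓ U α))),
      res F inf_le_left (E (cechOpen U t) α g) =
        E (cechOpen U t ⊓ U β) α (res F (inf_le_inf_right (U α) inf_le_left) g))
    (n : ℕ) (f : Cochain F U (n + 2)) :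
    homotopy F U E (n + 2) (delta F U (n + 2) f) + delta F U (n + 1) (homotopy F U E (n + 1) f) = f := by
  funext t
  have hle : ∀ (α : ι) (i : Fin (n + 2)), cechOpen U t ⊓ U α ≤
      cechOpen U (Fin.cons α (t ∘ i.succAbove) : Fin (n + 2) → ι) :=
    fun α i => (inf_le_inf_right _ (cechOpen_le_comp U t i)).trans (inf_le_cechOpen_cons U _ α)
  let Xf : ι → Fin (n + 2) → F.obj (op (cechOpen U t)) := fun α i =>
    E (cechOpen U t) α (res F (hle α i) (f (Fin.cons α (t ∘ i.succAbove))))
  have hA : homotopy F U E (n + 2) (delta F U (n + 2) f) t =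
      f t + ∑ α, ∑ i : Fin (n + 2), ((-1 : ℤ) ^ ((i : ℕ) + 1)) • Xf α i := by
    change ∑ α : ι, E (cechOpen U t) α (res F (inf_le_cechOpen_cons U t α)
      (delta F U (n + 2) f (Fin.cons α t))) = _
    have : ∀ α, E (cechOpen U t) α (res F (inf_le_cechOpen_cons U t α)
        (delta F U (n + 2) f (Fin.cons α t))) =
        E (cechOpen U t) α (res F inf_le_left (f t)) +
          ∑ i : Fin (n + 2), ((-1 : ℤ) ^ ((i : ℕ) + 1)) • Xf α i := by
      intro α
      change E (cechOpen U t) α (res F _ (∑ j : Fin (n + 3), ((-1 : ℤ) ^ (j : ℕ)) •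
        res F (cechOpen_le_comp U _ j) (f ((Fin.cons α t : Fin (n + 3) → ι) ∘ j.succAbove)))) = _
      rw [Fin.sum_univ_succ, map_add, map_add, map_sum, map_sum]
      congr 1
      · simp only [Fin.val_zero, pow_zero, one_smul]
        rw [res_res]
        exact congrArg _ (res_congr F U f (cons_comp_zero t α) _ _)
      · refine Finset.sum_congr rfl fun i _ => ?_
        rw [map_zsmul, map_zsmul, res_res]
        simp only [Fin.val_succ]
        exact congrArg _ (congrArg _ (res_congr F U f (cons_comp_succ t α i) _ _))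
    rw [Finset.sum_congr rfl (fun α _ => this α), Finset.sum_add_distrib, h2]
  have hB : delta F U (n + 1) (homotopy F U E (n + 1) f) t =
      ∑ i : Fin (n + 2), ∑ α, ((-1 : ℤ) ^ (i : ℕ)) • Xf α i := by
    change ∑ i : Fin (n + 2), ((-1 : ℤ) ^ (i : ℕ)) • res F (cechOpen_le_comp U t i)
      (∑ α : ι, E (cechOpen U (t ∘ i.succAbove)) α (res F (inf_le_cechOpen_cons U _ α)
        (f (Fin.cons α (t ∘ i.succAbove))))) = _
    refine Finset.sum_congr rfl fun i _ => ?_
    rw [map_sum, Finset.smul_sum]
    refine Finset.sum_congr rfl fun α _ => ?_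
    congr 1
    have h := h3 n (t ∘ i.succAbove) α (t i)
      (res F (inf_le_cechOpen_cons U _ α) (f (Fin.cons α (t ∘ i.succAbove))))
    rw [res_res] at h
    have hV := cechOpen_eq U t i
    change _ = E (cechOpen U t) α (res F (hle α i) (f (Fin.cons α (t ∘ i.succAbove))))
    rw [E_congr F U E hV α (f (Fin.cons α (t ∘ i.succAbove))) (hle α i)
      ((inf_le_inf_right _ inf_le_left).trans (inf_le_cechOpen_cons U _ α)), ← h, res_res]
  change homotopy F U E (n + 2) (delta F U (n + 2) f) t +
    delta F U (n + 1) (homotopy F U E (n + 1) f) t = f t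
  rw [hB, Finset.sum_comm, hA, add_assoc, ← Finset.sum_add_distrib]
  have : ∀ α : ι, ∑ i : Fin (n + 2), ((-1 : ℤ) ^ ((i : ℕ) + 1)) • Xf α i + ∑ i : Fin (n + 2), ((-1 : ℤ) ^ (i : ℕ)) • Xf α i = 0 := by
    intro α
    rw [← Finset.sum_add_distrib]
    refine Finset.sum_eq_zero fun i _ => ?_
    rw [← add_smul, pow_succ]
    simp
  rw [Finset.sum_congr rfl (fun α _ => this α), Finset.sum_const_zero, add_zero]


end Aux

open W4c6blochformula0cyc in
/-- Let `F` be a presheaf of abelian groups on a topological space `X`, `U` a family of opens of `X`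
indexed by a finite type, and suppose given, for every open `V` and every index `α`, an additive map
`E V α : F(V ∩ U_α) → F(V)` such that for every nonempty tuple of indices `t`, with `V = U_{t_0} ∩ ⋯
∩ U_{t_m}`: (i) `∑_α E V α (f|_{V ∩ U_α}) = f` for all `f ∈ F(V)`, and (ii) `(E V α g)|_{V ∩ U_β} =
E (V ∩ U_β) α (g|_{V ∩ U_β ∩ U_α})` for all indices `α, β` and all `g ∈ F(V ∩ U_α)`. Then the
operator `H` on ordered Čech cochains, `(H f)_t = ∑_α E (U_t) α (f_{(α, t)})`, satisfies `H (δ f) +
δ (H f) = f` for every Čech cochain `f` on tuples of length at least `2`, i.e. in every Čech degree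
`≥ 1`. (The published statement takes a flasque sheaf on an open cover and extension maps attached
to pairs of finite intersections; this row takes any presheaf, any finite family of opens, and maps
that may depend on the index, none of which the printed argument needs. The published statement also
asserts the identity in every degree of the Čech complex without augmentation term, and allows an
infinite index set with finitely supported sums; in Čech degree `0`, where that complex has no term
below and the identity reads `H (δ f) = f`, it fails in general — for the one-member cover of a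
point and the constant presheaf `ℤ` with `E` the identity, `δ f` vanishes on the pair while `f` need
not — so it is stated here from degree `1` on, i.e. for cochains on tuples of length at least `2`
(the whole-space term on the empty tuple carried by the cochain groups used here plays no role), and
for a finite index type.) -/
theorem result {X : Type u} [TopologicalSpace X]
    {ι : Type u} [Fintype ι] (F : (Opens X)ᵒᵖ ⥤ AddCommGrpCat.{u}) (U : ι → Opens X)
    (E : ∀ (V : Opens X) (α : ι), F.obj (op (V ⊓ U α)) →+ F.obj (op V))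
    (h2 : ∀ (m : ℕ) (t : Fin (m + 1) → ι) (f : F.obj (op (cechOpen U t))),
      ∑ α, E (cechOpen U t) α (res F inf_le_left f) = f)
    (h3 : ∀ (m : ℕ) (t : Fin (m + 1) → ι) (α β : ι) (g : F.obj (op (cechOpen U t ⊓ U α))),
      res F inf_le_left (E (cechOpen U t) α g) =
        E (cechOpen U t ⊓ U β) α (res F (inf_le_inf_right (U α) inf_le_left) g))
    (n : ℕ) (f : Cochain F U (n + 2)) :
    homotopy F U E (n + 2) (delta F U (n + 2) f) + delta F U (n + 1) (homotopy F U E (n + 1) f) = f := by
  exact main F U E h2 h3 n f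

end Groth.Agent.S19193
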