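import Groth.Statements.S19195
import Groth.Agent.Lib.Helper55.FL.FpUI
import Groth.Agent.Lib.Helper55.FL.FibreReg

set_option autoImplicit false
universe u
open TensorProduct
open RelS1

namespace Groth.Agent.S19195

/-- Let A be a commutative ring, B a finitely presented A-algebra and M a finitely presented B-module
which is flat over A. Suppose that for every prime p of A, with residue field κ(p), the fibre module
(B ⊗_A κ(p)) ⊗_B M over the fibre ring B ⊗_A κ(p) satisfies Serre's condition (S_1) in the form:
each of its associated primes is a minimal prime of its annihilator. Let a be an element of B whose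
image a ⊗ 1 in every fibre ring B ⊗_A κ(p) lies in no minimal prime of the annihilator of the fibre
module. Then a is a non-zero-divisor on M. (Since all hypotheses are preserved by base change of A
and by passing to affine opens, this expresses that a flat finitely presented sheaf with (S_1)
fibres is pure relative to the base after every base change. The published statement is an
equivalence for sheaves on a locally finitely presented morphism, quantified over all base changes;
this row states its direct implication in affine form.) -/
theorem result (A B M : Type u) [CommRing A] [CommRing B] [Algebra A B]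
    [Algebra.FinitePresentation A B] [AddCommGroup M] [Module B M] [Module A M]
    [IsScalarTower A B M] [Module.FinitePresentation B M] [Module.Flat A M]
    (hS1 : ∀ (p : Ideal A) [p.IsPrime],
      associatedPrimes (B ⊗[A] p.ResidueField) ((B ⊗[A] p.ResidueField) ⊗[B] M) ⊆
        (Module.annihilator (B ⊗[A] p.ResidueField) ((B ⊗[A] p.ResidueField) ⊗[B] M)).minimalPrimes)
    (a : B)
    (ha : ∀ (p : Ideal A) [p.IsPrime],
      ∀ P ∈ (Module.annihilator (B ⊗[A] p.ResidueField) ((B ⊗[A] p.ResidueField) ⊗[B] M)).minimalPrimes,
        a ⊗ₜ[A] (1 : p.ResidueField) ∉ P) :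
    IsSMulRegular M a := by
  classical
  have key : ∀ (q : Ideal B) [q.IsPrime] (y : M),
      (LinearMap.lsmul B M a) y ∈ (q.comap (algebraMap A B)) • (⊤ : Submodule A M) →
      ∃ t ∉ q, t • y ∈ (q.comap (algebraMap A B)) • (⊤ : Submodule A M) := by
    intro q _ y hy
    obtain ⟨r, hr, hry⟩ := Groth.Agent.Lib.Helper55.FL.fibre_regular_key
      (q.comap (algebraMap A B)) (hS1 _) a (ha _) y hy
    refine ⟨algebraMap A B r, hr, ?_⟩
    rwa [algebraMap_smul]
  rw [isSMulRegular_iff_right_eq_zero_of_smul]
  intro x hx
  by_contra hne
  have hI : LinearMap.ker (LinearMap.toSpanSingleton B M x) ≠ ⊤ := by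
    intro htop
    apply hne
    have h1 : (1 : B) ∈ LinearMap.ker (LinearMap.toSpanSingleton B M x) := by
      rw [htop]; exact Submodule.mem_top
    simpa using h1
  obtain ⟨q, hq, hIq⟩ := Ideal.exists_le_maximal _ hI
  have := hq.isPrime
  obtain ⟨t, ht, htx⟩ := Groth.Agent.Lib.Helper55.FL.fp_ui (LinearMap.lsmul B M a) q (key q) ⊥ x
    (by
      have : (LinearMap.lsmul B M a) x = 0 := hx
      rw [this]
      exact Submodule.zero_mem _)
  have h0 : t • x = 0 := by
    have : (⊥ : Ideal A) • (⊤ : Submodule A M) = ⊥ := Submodule.bot_smul _
    rw [this] at htx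
    exact htx
  exact ht (hIq (by simpa using h0))

end Groth.Agent.S19195
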