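import Groth.Statements.S19196
import Mathlib

set_option autoImplicit false
universe u
open RelS1

namespace Groth.Agent.S19196

/-- Let R be a Noetherian commutative ring and N a finitely generated R-module which fails Serre's
condition (S_1), in the sense that some associated prime of N is not a minimal prime of the
annihilator of N. Then there exist an element a of R lying in no minimal prime of the annihilator of
N and a nonzero element b of N with a • b = 0; thus the basic open set D(a) meets the support of N
densely while restriction to it is not injective on N. -/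
theorem result (R N : Type u) [CommRing R] [IsNoetherianRing R]
    [AddCommGroup N] [Module R N] [Module.Finite R N]
    (h : ¬ associatedPrimes R N ⊆ (Module.annihilator R N).minimalPrimes) :
    ∃ (a : R) (b : N), (∀ P ∈ (Module.annihilator R N).minimalPrimes, a ∉ P) ∧ b ≠ 0 ∧ a • b = 0 := by
  classical
  rw [Set.not_subset] at h
  obtain ⟨P, hP, hPmin⟩ := h
  have hPprime : P.IsPrime := hP.isPrime
  have hann : Module.annihilator R N ≤ P := by
    have := hP.annihilator_le
    rwa [Submodule.annihilator_top] at this
  obtain ⟨Q₀, hQ₀, hQ₀P⟩ := Ideal.exists_minimalPrimes_le hann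
  have hfin : (Module.annihilator R N).minimalPrimes.Finite :=
    Ideal.finite_minimalPrimes_of_isNoetherianRing R _
  have hnot : ¬ ((P : Set R) ⊆ ⋃ Q ∈ (↑hfin.toFinset : Set (Ideal R)), (id Q : Ideal R)) := by
    rw [Ideal.subset_union_prime (f := id) Q₀ Q₀]
    · rintro ⟨Q, hQ, hPQ⟩
      rw [Set.Finite.mem_toFinset] at hQ
      have hQ₀Q : Q₀ ≤ Q := hQ₀P.trans hPQ
      have hQQ₀ : Q ≤ Q₀ := hQ.2 hQ₀.1 hQ₀Q
      have : P = Q₀ := le_antisymm (hPQ.trans hQQ₀) hQ₀P
      exact hPmin (this ▸ hQ₀)
    · intro Q hQ _ _
      rw [Set.Finite.mem_toFinset] at hQ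
      exact hQ.1.1
  rw [Set.not_subset] at hnot
  obtain ⟨a, haP, hanot⟩ := hnot
  obtain ⟨_, b, hb⟩ := (isAssociatedPrime_iff).mp hP
  have hb0 : b ≠ 0 := by
    rintro rfl
    apply hPprime.ne_top
    rw [hb]
    simp
  refine ⟨a, b, ?_, hb0, ?_⟩
  · intro Q hQ haQ
    apply hanot
    simp only [Set.mem_iUnion]
    exact ⟨Q, by simpa using hQ, haQ⟩
  · have : a ∈ Submodule.colon (⊥ : Submodule R N) {b} := hb ▸ haP
    simpa [Submodule.mem_colon_singleton] using this

end Groth.Agent.S19196
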