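import Groth.Statements.S19202
import Mathlib
import Groth.Agent.Lib.Helper7.FlatImage

set_option autoImplicit false
set_option linter.style.haveILetI false
universe u
open CategoryTheory AlgebraicGeometry
open FlatMor

namespace Groth.Agent.S19202

open CategoryTheory.Limits TopologicalSpace Opposite
open FlatMor
open Groth.Agent.Lib.Helper7.GenFibreDense Groth.Agent.Lib.Helper7.FlatClosure

/-- Localizations of a Dedekind domain at primes are valuation rings. -/
lemma valuationRing_of_atPrime (A : Type u) [CommRing A] [IsDedekindDomain A]
    (P : Ideal A) [P.IsPrime] (S : Type u) [CommRing S] [IsDomain S] [Algebra A S]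
    [IsLocalization.AtPrime S P] : ValuationRing S := by
  by_cases hP : P = ⊥
  · subst hP
    haveI : IsLocalRing S := IsLocalization.AtPrime.isLocalRing S (⊥ : Ideal A)
    have hf : IsField S := by
      rw [IsLocalRing.isField_iff_maximalIdeal_eq,
        ← IsLocalization.AtPrime.map_eq_maximalIdeal (⊥ : Ideal A) S, Ideal.map_bot]
    exact valuationRing_of_isField hf
  · haveI := IsLocalization.AtPrime.isDiscreteValuationRing_of_dedekind_domain A hP S
    infer_instance

lemma valuationRing_stalk_Spec (A : Type u) [CommRing A] [IsDedekindDomain A]
    (y : Spec (CommRingCat.of A)) :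
    ValuationRing ((Spec (CommRingCat.of A)).presheaf.stalk y) := by
  letI : Algebra A ((Spec (CommRingCat.of A)).presheaf.stalk y) :=
    StructureSheaf.stalkAlgebra (R := A) y
  haveI : y.asIdeal.IsPrime := y.isPrime
  haveI : IsLocalization.AtPrime ((Spec (CommRingCat.of A)).presheaf.stalk y) y.asIdeal :=
    StructureSheaf.IsLocalization.to_stalk (R := A) y
  exact valuationRing_of_atPrime A y.asIdeal _


/-- Let R be a Dedekind domain, X and Y schemes over Spec R with X flat over Spec R, and f : X → Y a
morphism over Spec R. Then the scheme-theoretic image of f, i.e. the closed subscheme of Y cut out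
by the kernel ideal sheaf of f, is flat over Spec R. (The published statement takes the base to be a
non-singular curve and f proper; this row takes the spectrum of any Dedekind domain and any morphism
f over it.) -/
theorem result (R : Type u) [CommRing R] [IsDedekindDomain R]
    {X Y : Scheme.{u}} (p : X ⟶ Spec (CommRingCat.of R)) (q : Y ⟶ Spec (CommRingCat.of R))
    (f : X ⟶ Y) (w : f ≫ q = p) [Flat p] : Flat (f.imageι ≫ q) := by
  let η : Spec (CommRingCat.of R) := (⟨⊥, Ideal.isPrime_bot⟩ : PrimeSpectrum R)
  have hη : closure {η} = (Set.univ : Set (Spec (CommRingCat.of R))) := by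
    refine (PrimeSpectrum.closure_singleton (⟨⊥, Ideal.isPrime_bot⟩ : PrimeSpectrum R)).trans ?_
    simp
    rfl
  exact flat_imageι_of_flat (valuationRing_stalk_Spec R) η hη p q f w

end Groth.Agent.S19202
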