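import Groth.Statements.S19208
import Mathlib
import Groth.Agent.Lib.Helper90.SamuelPrimary
import Groth.Agent.Lib.Helper90.PolyLim

set_option autoImplicit false
universe u
open Filter
open LocAlg

namespace Groth.Agent.S19208

/-- Let O be a Noetherian local ring of Krull dimension r containing a field, with maximal ideal m. The
zeroth flat multiplicity e_0(O), the supremum over m-primary ideals I of e(I)/(r!·length(O/I)) with
e(I) the Samuel multiplicity, is at least 1: for every ε > 0 there is an m-primary ideal I (I ⊆ m,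
m^N ⊆ I for some N) whose multiplicity e(I), the limit of r!·length(O/I^n)/n^r, satisfies e(I) ≥ (1
− ε)·r!·length(O/I). (The same statement for the power-series rings O[[t_1, …, t_k]] is the bound
e_k(O) ≥ 1 for the k-th flat multiplicity.) -/
theorem result (O : Type u) [CommRing O] [IsNoetherianRing O]
    [IsLocalRing O] (K : Type u) [Field K] [Algebra K O] (r : ℕ) (hr : ringKrullDim O = r)
    (ε : ℝ) (hε : 0 < ε) :
    ∃ (I : Ideal O) (e : ℝ), I ≤ IsLocalRing.maximalIdeal O ∧
      (∃ N : ℕ, IsLocalRing.maximalIdeal O ^ N ≤ I) ∧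
      Tendsto (fun n : ℕ => (r.factorial : ℝ) * ((Module.length O (O ⧸ I ^ n)).toNat : ℝ) / (n : ℝ) ^ r)
        atTop (nhds e) ∧
      (1 - ε) * ((r.factorial : ℝ) * ((Module.length O (O ⧸ I)).toNat : ℝ)) ≤ e := by
  classical
  obtain ⟨P, hPr, N₀, hP⟩ := Groth.Agent.Lib.Helper90.SamuelPrimary.exists_poly_maximalIdeal r hr
  -- positivity of values
  have hpos : ∀ n : ℕ, 1 ≤ n → 1 ≤ (Module.length O (O ⧸ IsLocalRing.maximalIdeal O ^ n)).toNat := by
    intro n hn
    have hne : IsLocalRing.maximalIdeal O ^ n ≠ ⊤ := by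
      intro h
      have h1 : IsLocalRing.maximalIdeal O ^ n ≤ IsLocalRing.maximalIdeal O :=
        Ideal.pow_le_self (by omega)
      rw [h, top_le_iff] at h1
      exact (IsLocalRing.maximalIdeal.isMaximal O).ne_top h1
    haveI : Nontrivial (O ⧸ IsLocalRing.maximalIdeal O ^ n) :=
      Submodule.Quotient.nontrivial_iff.mpr hne
    have h2 : 0 < Module.length O (O ⧸ IsLocalRing.maximalIdeal O ^ n) := Module.length_pos
    have h3 := Groth.Agent.Lib.Helper90.SamuelPrimary.length_quot_maximalIdeal_pow_ne_top (A := O) n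
    rw [← ENat.natCast_toNat h3] at h2
    exact_mod_cast h2
  have hP0 : P ≠ 0 := by
    intro h0
    have h1 := hP (max N₀ 1) (le_max_left _ _)
    rw [h0, Polynomial.eval_zero] at h1
    have h2 := hpos (max N₀ 1) (le_max_right _ _)
    have h3 : ((Module.length O (O ⧸ IsLocalRing.maximalIdeal O ^ (max N₀ 1))).toNat : ℚ) = 0 := h1
    have h4 : (Module.length O (O ⧸ IsLocalRing.maximalIdeal O ^ (max N₀ 1))).toNat = 0 := by
      exact_mod_cast h3
    omega
  have hdeg : P.degree = (r : WithBot ℕ) := by rw [Polynomial.degree_eq_natDegree hP0, hPr]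
  have hlimP := Groth.Agent.Lib.Helper90.PolyLim.tendsto_eval_div_pow_leadingCoeff P r hdeg
  -- leading coefficient is positive
  have hlc0 : (0 : ℝ) ≤ ((P.leadingCoeff : ℚ) : ℝ) := by
    apply ge_of_tendsto hlimP
    filter_upwards [Filter.eventually_ge_atTop N₀] with n hn
    apply div_nonneg _ (by positivity)
    rw [← hP n hn]
    positivity
  have hlc : (0 : ℝ) < ((P.leadingCoeff : ℚ) : ℝ) := by
    apply lt_of_le_of_ne hlc0
    intro h
    have : (P.leadingCoeff : ℚ) = 0 := by exact_mod_cast h.symm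
    exact hP0 (Polynomial.leadingCoeff_eq_zero.mp this)
  -- choose k
  have hk : ∃ k : ℕ, 1 ≤ k ∧ N₀ ≤ k ∧
      (1 - ε) * (((P.eval (k : ℚ) : ℚ) : ℝ) / (k : ℝ) ^ r) ≤ ((P.leadingCoeff : ℚ) : ℝ) := by
    by_cases hε1 : 1 ≤ ε
    · refine ⟨max N₀ 1, le_max_right _ _, le_max_left _ _, ?_⟩
      have h1 : (0 : ℝ) ≤ ((P.eval ((max N₀ 1 : ℕ) : ℚ) : ℚ) : ℝ) / ((max N₀ 1 : ℕ) : ℝ) ^ r := by
        apply div_nonneg _ (by positivity)
        rw [← hP _ (le_max_left _ _)]
        positivity
      have h2 : (1 - ε) ≤ 0 := by linarith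
      nlinarith
    · rw [not_le] at hε1
      have h1ε : 0 < 1 - ε := by linarith
      have hlt : ((P.leadingCoeff : ℚ) : ℝ) < ((P.leadingCoeff : ℚ) : ℝ) / (1 - ε) := by
        rw [lt_div_iff₀ h1ε]
        nlinarith
      have hev := hlimP.eventually_lt_const hlt
      obtain ⟨k, hk1, hk2⟩ := (hev.and (Filter.eventually_ge_atTop (max N₀ 1))).exists
      refine ⟨k, (le_max_right _ _).trans hk2, (le_max_left _ _).trans hk2, ?_⟩
      rw [lt_div_iff₀ h1ε] at hk1
      linarith
  obtain ⟨k, hk1, hkN, hkineq⟩ := hk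
  have hkpos : (0 : ℝ) < (k : ℝ) ^ r := by positivity
  refine ⟨IsLocalRing.maximalIdeal O ^ k, (r.factorial : ℝ) * (((P.leadingCoeff : ℚ) : ℝ) * (k : ℝ) ^ r),
    Ideal.pow_le_self (by omega), ⟨k, le_rfl⟩, ?_, ?_⟩
  · -- the limit
    set Pk : Polynomial ℚ := P.comp (Polynomial.C (k : ℚ) * Polynomial.X) with hPk
    have hkq : (k : ℚ) ≠ 0 := by
      have : (0 : ℚ) < (k : ℚ) := by exact_mod_cast hk1
      exact this.ne'
    have hq : (Polynomial.C (k : ℚ) * Polynomial.X : Polynomial ℚ).natDegree = 1 :=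
      Polynomial.natDegree_C_mul_X _ hkq
    have hlcPk : Pk.leadingCoeff = P.leadingCoeff * (k : ℚ) ^ r := by
      rw [hPk, Polynomial.leadingCoeff_comp (by rw [hq]; exact one_ne_zero),
        Polynomial.leadingCoeff_mul, Polynomial.leadingCoeff_C, Polynomial.leadingCoeff_X, mul_one,
        hPr]
    have hPk0 : Pk ≠ 0 := by
      intro h
      rw [h, Polynomial.leadingCoeff_zero] at hlcPk
      have : P.leadingCoeff = 0 :=
        (mul_eq_zero.mp hlcPk.symm).resolve_right (pow_ne_zero r hkq)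
      exact hP0 (Polynomial.leadingCoeff_eq_zero.mp this)
    have hdegPk : Pk.degree = (r : WithBot ℕ) := by
      rw [Polynomial.degree_eq_natDegree hPk0, hPk, Polynomial.natDegree_comp, hq, mul_one, hPr]
    have hlimPk := (Groth.Agent.Lib.Helper90.PolyLim.tendsto_eval_div_pow_leadingCoeff Pk r
      hdegPk).const_mul (r.factorial : ℝ)
    rw [hlcPk] at hlimPk
    have htarget : (r.factorial : ℝ) * (((P.leadingCoeff * (k : ℚ) ^ r : ℚ)) : ℝ) =
        (r.factorial : ℝ) * (((P.leadingCoeff : ℚ) : ℝ) * (k : ℝ) ^ r) := by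
      push_cast
      rfl
    rw [htarget] at hlimPk
    refine hlimPk.congr' ?_
    filter_upwards [Filter.eventually_ge_atTop N₀] with n hn
    have hkn : N₀ ≤ k * n := le_trans hn (Nat.le_mul_of_pos_left n (by omega))
    have h1 : ((Pk.eval (n : ℚ) : ℚ) : ℝ) =
        ((Module.length O (O ⧸ (IsLocalRing.maximalIdeal O ^ k) ^ n)).toNat : ℝ) := by
      rw [hPk, Polynomial.eval_comp, Polynomial.eval_mul, Polynomial.eval_C, Polynomial.eval_X,
        ← pow_mul]
      have := hP (k * n) hkn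
      rw [Nat.cast_mul] at this
      rw [← this]
      push_cast
      rfl
    rw [h1, mul_div_assoc]
  · have h1 : ((Module.length O (O ⧸ IsLocalRing.maximalIdeal O ^ k)).toNat : ℝ) =
        ((P.eval (k : ℚ) : ℚ) : ℝ) := by
      rw [← hP k hkN]
      push_cast
      rfl
    rw [h1]
    have h2 : (1 - ε) * ((P.eval (k : ℚ) : ℚ) : ℝ) ≤ ((P.leadingCoeff : ℚ) : ℝ) * (k : ℝ) ^ r := by
      have := mul_le_mul_of_nonneg_right hkineq hkpos.le
      rwa [mul_assoc, div_mul_cancel₀ _ hkpos.ne'] at this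
    have h3 : (0 : ℝ) ≤ (r.factorial : ℝ) := by positivity
    calc (1 - ε) * ((r.factorial : ℝ) * ((P.eval (k : ℚ) : ℚ) : ℝ))
        = (r.factorial : ℝ) * ((1 - ε) * ((P.eval (k : ℚ) : ℚ) : ℝ)) := by ring
      _ ≤ (r.factorial : ℝ) * (((P.leadingCoeff : ℚ) : ℝ) * (k : ℝ) ^ r) :=
        mul_le_mul_of_nonneg_left h2 h3

end Groth.Agent.S19208
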