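import Groth.Statements.S19209
import Mathlib

set_option autoImplicit false
universe u
open Curves

namespace Groth.Agent.S19209


theorem gauss (d : ℕ) : ∑ t ∈ Finset.range d, (t : ℝ) = (d : ℝ) * ((d : ℝ) - 1) / 2 := by
  induction d with
  | zero => simp
  | succ d ih => rw [Finset.sum_range_succ, ih]; push_cast; ring

def consChain (a : ℕ) (s : ℕ → ℕ) : ℕ → ℕ
  | 0 => a
  | m + 1 => s m

theorem claim (n : ℕ) (p : ℕ → ℝ) (hpn : p n = 0) :
    ∀ m a : ℕ, a ≤ n → n - a ≤ m →
    ∃ (l : ℕ) (s : ℕ → ℕ), s 0 = a ∧ s l = n ∧ (∀ k : ℕ, k < l → s k < s (k + 1)) ∧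
      (∑ k ∈ Finset.range l, (p (s k) - p (s (k + 1))) * ((s k : ℝ) + (s (k + 1) : ℝ))) / 2
        + (1 / 2 - (a : ℝ)) * p a ≤ ∑ j ∈ Finset.Ico a (n + 1), p j ∧
      (∑ k ∈ Finset.range l, (p (s k) - p (s (k + 1))) * ((s k : ℝ) + (s (k + 1) : ℝ)))
        ≤ ((n : ℝ) + (a : ℝ)) * p a := by
  intro m
  induction m with
  | zero =>
    intro a han hm
    have : a = n := by omega
    subst this
    refine ⟨0, fun _ => a, rfl, rfl, fun k hk => absurd hk (Nat.not_lt_zero k), ?_, ?_⟩
    · simp [hpn]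
    · simp [hpn]
  | succ m ih =>
    intro a han hm
    rcases Nat.eq_or_lt_of_le han with h | h
    · subst h
      refine ⟨0, fun _ => a, rfl, rfl, fun k hk => absurd hk (Nat.not_lt_zero k), ?_, ?_⟩
      · simp [hpn]
      · simp [hpn]
    · have hne : (Finset.Ioc a n).Nonempty := ⟨n, Finset.mem_Ioc.2 ⟨h, le_rfl⟩⟩
      obtain ⟨i, hi, hmin⟩ := Finset.exists_min_image (Finset.Ioc a n)
        (fun j => (p j - p a) / ((j : ℝ) - (a : ℝ))) hne
      rw [Finset.mem_Ioc] at hi
      obtain ⟨hai, hin⟩ := hi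
      have hai' : (0 : ℝ) < (i : ℝ) - (a : ℝ) := by
        have : (a : ℝ) < (i : ℝ) := by exact_mod_cast hai
        linarith
      have hslope : ∀ j : ℕ, a < j → j ≤ n →
          (p i - p a) * ((j : ℝ) - (a : ℝ)) ≤ (p j - p a) * ((i : ℝ) - (a : ℝ)) := by
        intro j haj hjn
        have hj' : (0 : ℝ) < (j : ℝ) - (a : ℝ) := by
          have : (a : ℝ) < (j : ℝ) := by exact_mod_cast haj
          linarith
        have := hmin j (Finset.mem_Ioc.2 ⟨haj, hjn⟩)
        rwa [div_le_div_iff₀ hai' hj'] at this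
      obtain ⟨l, s, hs0, hsl, hinc, h1, h2⟩ := ih i hin (by omega)
      refine ⟨l + 1, consChain a s, rfl, hsl, ?_, ?_, ?_⟩
      · intro k hk
        cases k with
        | zero => simp only [consChain]; rw [hs0]; exact hai
        | succ k => simp only [consChain]; exact hinc k (by omega)
      · rw [Finset.sum_range_succ']
        simp only [consChain]
        rw [hs0]
        have hsplit : ∑ j ∈ Finset.Ico a (n + 1), p j =
            ∑ j ∈ Finset.Ico a i, p j + ∑ j ∈ Finset.Ico i (n + 1), p j :=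
          (Finset.sum_Ico_consecutive p hai.le (by omega)).symm
        rw [hsplit]
        have hshift : ∑ j ∈ Finset.Ico a i, p j = ∑ t ∈ Finset.range (i - a), p (a + t) :=
          Finset.sum_Ico_eq_sum_range p a i
        have hd : ((i - a : ℕ) : ℝ) = (i : ℝ) - (a : ℝ) := Nat.cast_sub hai.le
        have hsum : (p i - p a) * ∑ t ∈ Finset.range (i - a), (t : ℝ) ≤
            ((i : ℝ) - (a : ℝ)) * ∑ t ∈ Finset.range (i - a), (p (a + t) - p a) := by
          rw [Finset.mul_sum, Finset.mul_sum]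
          apply Finset.sum_le_sum
          intro t ht
          rw [Finset.mem_range] at ht
          rcases Nat.eq_zero_or_pos t with h0 | h0
          · subst h0; simp
          · have := hslope (a + t) (by omega) (by omega)
            push_cast at this
            nlinarith [this]
        rw [gauss, Finset.sum_sub_distrib, Finset.sum_const, Finset.card_range, nsmul_eq_mul,
          hd, ← hshift] at hsum
        have hkey : p a * (((i : ℝ) - (a : ℝ)) + 1) / 2 + p i * (((i : ℝ) - (a : ℝ)) - 1) / 2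
            ≤ ∑ j ∈ Finset.Ico a i, p j := by
          have e : (p i - p a) * (((i : ℝ) - (a : ℝ)) * (((i : ℝ) - (a : ℝ)) - 1) / 2) =
              ((i : ℝ) - (a : ℝ)) * ((p i - p a) * (((i : ℝ) - (a : ℝ)) - 1) / 2) := by ring
          rw [e] at hsum
          have := le_of_mul_le_mul_left hsum hai'
          linarith
        linarith
      · rw [Finset.sum_range_succ']
        simp only [consChain]
        rw [hs0]
        have hj := hslope n h le_rfl
        rw [hpn] at hj
        nlinarith [hj, h2]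

/-- Let n ≥ 1 and let p_0 ≥ p_1 ≥ … ≥ p_n = 0 be real numbers. Then some chain 0 = s_0 < s_1 < … < s_l =
n satisfies Σ_{k<l} (p_{s_k} − p_{s_{k+1}})·(s_k + s_{k+1}) ≤ (2n/(n+1))·(p_0 + p_1 + … + p_n).
Equivalently the minimum of these sums over all chains, which is twice the area under the Newton
polygon (lower convex hull) of the points (k, p_k), is at most 2n/(n+1) times the sum of the
weights. -/
theorem result (n : ℕ) (hn : 1 ≤ n) (p : ℕ → ℝ)
    (hp : ∀ i j : ℕ, i ≤ j → j ≤ n → p j ≤ p i) (hpn : p n = 0) :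
    ∃ (l : ℕ) (s : ℕ → ℕ), s 0 = 0 ∧ s l = n ∧ (∀ k : ℕ, k < l → s k < s (k + 1)) ∧
      (∑ k ∈ Finset.range l, (p (s k) - p (s (k + 1))) * ((s k : ℝ) + (s (k + 1) : ℝ))) ≤
        2 * (n : ℝ) / ((n : ℝ) + 1) * ∑ i ∈ Finset.range (n + 1), p i := by
  obtain ⟨l, s, hs0, hsl, hinc, h1, h2⟩ := claim n p hpn n 0 (Nat.zero_le n) (by omega)
  refine ⟨l, s, hs0, hsl, hinc, ?_⟩
  rw [← Finset.range_eq_Ico] at h1
  have hn0 : (0 : ℝ) ≤ (n : ℝ) := by positivity
  have hn1 : (0 : ℝ) < (n : ℝ) + 1 := by positivity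
  rw [div_mul_eq_mul_div, le_div_iff₀ hn1]
  simp only [Nat.cast_zero, sub_zero, add_zero] at h1 h2
  have h3 := mul_le_mul_of_nonneg_left h1 hn0
  nlinarith [h3, h2]

end Groth.Agent.S19209
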