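import Groth.Statements.S19210
import Mathlib

set_option autoImplicit false
universe u
open LocAlg

namespace Groth.Agent.S19210


theorem pow_succ_lower (b : ℕ) (x : ℝ) (hx : 0 ≤ x) :
    x ^ (b + 1) + (b + 1 : ℝ) * x ^ b ≤ (x + 1) ^ (b + 1) := by
  induction b with
  | zero => simp
  | succ b ih =>
    have h1 : (x + 1) ^ (b + 1 + 1) = (x + 1) * (x + 1) ^ (b + 1) := by ring
    have h2 : (x + 1) * (x ^ (b + 1) + (b + 1 : ℝ) * x ^ b) ≤ (x + 1) * (x + 1) ^ (b + 1) :=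
      mul_le_mul_of_nonneg_left ih (by linarith)
    have h3 : 0 ≤ (b + 1 : ℝ) * x ^ b := by positivity
    have h4 : x ^ (b + 1 + 1) = x * (x * x ^ b) := by ring
    have h5 : x ^ (b + 1) = x * x ^ b := by ring
    rw [h1, h4, h5]
    rw [h5] at h2
    push_cast
    nlinarith [h2, h3]

theorem pow_succ_upper (b : ℕ) (x : ℝ) (hx : 0 ≤ x) :
    (x + 1) ^ (b + 1) ≤ x ^ (b + 1) + (b + 1 : ℝ) * (x + 1) ^ b := by
  induction b with
  | zero => simp
  | succ b ih =>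
    have h1 : (x + 1) ^ (b + 1 + 1) = (x + 1) * (x + 1) ^ b + x * (x + 1) ^ (b + 1) := by ring
    have h2 : x * (x + 1) ^ (b + 1) ≤ x * (x ^ (b + 1) + (b + 1 : ℝ) * (x + 1) ^ b) :=
      mul_le_mul_of_nonneg_left ih hx
    have h3 : (0:ℝ) ≤ (b + 1 : ℝ) * (x + 1) ^ b := by positivity
    have h4 : x ^ (b + 1 + 1) = x * x ^ (b + 1) := by ring
    have h5 : (x + 1) ^ (b + 1) = (x + 1) * (x + 1) ^ b := by ring
    rw [h1, h4]
    push_cast
    rw [h5]
    rw [h5] at h2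
    nlinarith [h2, h3]

theorem sum_pow_le (b n : ℕ) :
    (b + 1 : ℝ) * ∑ i ∈ Finset.range n, (i : ℝ) ^ b ≤ (n : ℝ) ^ (b + 1) := by
  induction n with
  | zero => simp
  | succ n ih =>
    rw [Finset.sum_range_succ, mul_add]
    have := pow_succ_lower b (n : ℝ) (by positivity)
    push_cast
    linarith

theorem le_sum_pow (b n : ℕ) :
    (n : ℝ) ^ (b + 1) ≤ (b + 1 : ℝ) * ∑ i ∈ Finset.range (n + 1), (i : ℝ) ^ b := by
  induction n with
  | zero => simp; positivity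
  | succ n ih =>
    rw [Finset.sum_range_succ, mul_add]
    have := pow_succ_upper b (n : ℝ) (by positivity)
    push_cast at this ⊢
    linarith

theorem main (a : ℕ) : ∀ b : ℕ, ∃ C : ℝ, ∀ n : ℕ, 1 ≤ n →
    |(∑ i ∈ Finset.range n, ((n : ℝ) - (i : ℝ)) ^ a * (i : ℝ) ^ b) -
      (a.factorial : ℝ) * (b.factorial : ℝ) / ((a + b + 1).factorial : ℝ) * (n : ℝ) ^ (a + b + 1)| ≤
    C * (n : ℝ) ^ (a + b) := by
  induction a with
  | zero =>
    intro b
    refine ⟨1, fun n hn => ?_⟩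
    have h1 := sum_pow_le b n
    have h2 := le_sum_pow b n
    rw [Finset.sum_range_succ, mul_add] at h2
    have hb : (0:ℝ) < (b + 1 : ℝ) := by positivity
    have hfac : ((0 + b + 1).factorial : ℝ) = (b + 1 : ℝ) * (b.factorial : ℝ) := by
      rw [zero_add, Nat.factorial_succ]; push_cast; ring
    have hbf : (0:ℝ) < (b.factorial : ℝ) := by exact_mod_cast Nat.factorial_pos b
    simp only [pow_zero, one_mul, Nat.factorial_zero, Nat.cast_one, zero_add]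
    rw [zero_add] at hfac
    rw [hfac]
    have h3 : (b.factorial : ℝ) / ((b + 1 : ℝ) * (b.factorial : ℝ)) = 1 / (b + 1 : ℝ) := by
      field_simp
    rw [h3, abs_le]
    have h4 : 1 / (b + 1 : ℝ) * (n : ℝ) ^ (b + 1) * (b + 1 : ℝ) = (n : ℝ) ^ (b + 1) := by
      field_simp
    constructor
    · have : (1 / (b + 1 : ℝ) * (n : ℝ) ^ (b + 1) - (n:ℝ)^b) * (b + 1 : ℝ) ≤
          (∑ i ∈ Finset.range n, (i : ℝ) ^ b) * (b + 1 : ℝ) := by
        rw [sub_mul, h4]; linarith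
      have := le_of_mul_le_mul_right this hb
      linarith
    · have : (∑ i ∈ Finset.range n, (i : ℝ) ^ b) * (b + 1 : ℝ) ≤
          (1 / (b + 1 : ℝ) * (n : ℝ) ^ (b + 1)) * (b + 1 : ℝ) := by
        rw [h4]; linarith
      have := le_of_mul_le_mul_right this hb
      have hn0 : (0:ℝ) ≤ (n:ℝ)^b := by positivity
      linarith
  | succ a ih =>
    intro b
    obtain ⟨C1, hC1⟩ := ih b
    obtain ⟨C2, hC2⟩ := ih (b + 1)
    refine ⟨C1 + C2, fun n hn => ?_⟩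
    have e1 := hC1 n hn
    have e2 := hC2 n hn
    have hsum : (∑ i ∈ Finset.range n, ((n : ℝ) - (i : ℝ)) ^ (a + 1) * (i : ℝ) ^ b) =
        (n : ℝ) * (∑ i ∈ Finset.range n, ((n : ℝ) - (i : ℝ)) ^ a * (i : ℝ) ^ b) -
        (∑ i ∈ Finset.range n, ((n : ℝ) - (i : ℝ)) ^ a * (i : ℝ) ^ (b + 1)) := by
      rw [Finset.mul_sum, ← Finset.sum_sub_distrib]
      refine Finset.sum_congr rfl fun i _ => ?_
      ring
    have hc : ((a + 1).factorial : ℝ) * (b.factorial : ℝ) / ((a + 1 + b + 1).factorial : ℝ) =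
        (a.factorial : ℝ) * (b.factorial : ℝ) / ((a + b + 1).factorial : ℝ) -
        (a.factorial : ℝ) * ((b + 1).factorial : ℝ) / ((a + (b + 1) + 1).factorial : ℝ) := by
      have e : a + 1 + b + 1 = (a + b + 1) + 1 := by ring
      have e' : a + (b + 1) + 1 = (a + b + 1) + 1 := by ring
      rw [e, e', Nat.factorial_succ (a + b + 1), Nat.factorial_succ a, Nat.factorial_succ b]
      have hf : ((a + b + 1).factorial : ℝ) ≠ 0 := by exact_mod_cast (Nat.factorial_pos _).ne'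
      push_cast
      field_simp
      ring
    rw [hsum, hc]
    have e3 : (n : ℝ) * (∑ i ∈ Finset.range n, ((n : ℝ) - (i : ℝ)) ^ a * (i : ℝ) ^ b) -
        (∑ i ∈ Finset.range n, ((n : ℝ) - (i : ℝ)) ^ a * (i : ℝ) ^ (b + 1)) -
        ((a.factorial : ℝ) * (b.factorial : ℝ) / ((a + b + 1).factorial : ℝ) -
        (a.factorial : ℝ) * ((b + 1).factorial : ℝ) / ((a + (b + 1) + 1).factorial : ℝ)) *
          (n : ℝ) ^ (a + 1 + b + 1) =
        (n : ℝ) * ((∑ i ∈ Finset.range n, ((n : ℝ) - (i : ℝ)) ^ a * (i : ℝ) ^ b) -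
          (a.factorial : ℝ) * (b.factorial : ℝ) / ((a + b + 1).factorial : ℝ) * (n : ℝ) ^ (a + b + 1)) -
        ((∑ i ∈ Finset.range n, ((n : ℝ) - (i : ℝ)) ^ a * (i : ℝ) ^ (b + 1)) -
          (a.factorial : ℝ) * ((b + 1).factorial : ℝ) / ((a + (b + 1) + 1).factorial : ℝ) *
            (n : ℝ) ^ (a + (b + 1) + 1)) := by
      have p1 : (n : ℝ) ^ (a + 1 + b + 1) = (n : ℝ) * (n : ℝ) ^ (a + b + 1) := by ring
      have p2 : (n : ℝ) ^ (a + (b + 1) + 1) = (n : ℝ) * (n : ℝ) ^ (a + b + 1) := by ring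
      rw [p1, p2]; ring
    rw [e3]
    have hn0 : (0:ℝ) ≤ (n:ℝ) := by positivity
    calc _ ≤ |(n : ℝ) * ((∑ i ∈ Finset.range n, ((n : ℝ) - (i : ℝ)) ^ a * (i : ℝ) ^ b) -
          (a.factorial : ℝ) * (b.factorial : ℝ) / ((a + b + 1).factorial : ℝ) * (n : ℝ) ^ (a + b + 1))| +
        |((∑ i ∈ Finset.range n, ((n : ℝ) - (i : ℝ)) ^ a * (i : ℝ) ^ (b + 1)) -
          (a.factorial : ℝ) * ((b + 1).factorial : ℝ) / ((a + (b + 1) + 1).factorial : ℝ) *
            (n : ℝ) ^ (a + (b + 1) + 1))| := abs_sub _ _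
      _ ≤ (n : ℝ) * (C1 * (n : ℝ) ^ (a + b)) + C2 * (n : ℝ) ^ (a + (b + 1)) := by
          rw [abs_mul, abs_of_nonneg hn0]
          exact add_le_add (mul_le_mul_of_nonneg_left e1 hn0) e2
      _ = (C1 + C2) * (n : ℝ) ^ (a + 1 + b) := by
          have p1 : (n : ℝ) ^ (a + 1 + b) = (n : ℝ) * (n : ℝ) ^ (a + b) := by ring
          have p2 : (n : ℝ) ^ (a + (b + 1)) = (n : ℝ) * (n : ℝ) ^ (a + b) := by ring
          rw [p1, p2]; ring

/-- For natural numbers j ≤ r, the sums Σ_{i=0}^{n−1} (n − i)^{r−j} i^j equal n^{r+1}·(r − j)!·j!/(r +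
1)! up to O(n^r): there is a real constant C with |Σ_{i<n} (n − i)^{r−j} i^j − ((r − j)!·j!/(r +
1)!)·n^{r+1}| ≤ C·n^r for all n ≥ 1. -/
theorem result (r j : ℕ) (hj : j ≤ r) :
    ∃ C : ℝ, ∀ n : ℕ, 1 ≤ n →
      |(∑ i ∈ Finset.range n, ((n : ℝ) - (i : ℝ)) ^ (r - j) * (i : ℝ) ^ j) -
          ((r - j).factorial : ℝ) * (j.factorial : ℝ) / ((r + 1).factorial : ℝ) * (n : ℝ) ^ (r + 1)| ≤
        C * (n : ℝ) ^ r := by
  obtain ⟨a, rfl⟩ : ∃ a, r = a + j := Nat.exists_eq_add_of_le' hj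
  rw [Nat.add_sub_cancel]
  exact main a j

end Groth.Agent.S19210
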