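import Groth.Statements.S19212
import Groth.Agent.Lib.Helper32.DiagSym3K

set_option autoImplicit false
universe u v
open TensorProduct
open DiagIdeal
open Groth.Agent.Lib.Helper32.DiagSym3

namespace Groth.Agent.S19212

/-- Let k be an algebraically closed field of characteristic zero and A a smooth k-algebra which is a
domain. Let the symmetric group on three letters permute the factors of A ⊗ A ⊗ A (it is generated
by the swap of the first two factors and the swap of the last two), let r : A ⊗ (A ⊗ A) → A ⊗ A be
the k-linear map a ⊗ b ⊗ c ↦ ab ⊗ c, and let D : A ⊗ A → Ω_{A/k} be the k-linear map a ⊗ b ↦ 2a·db −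
b·da. Then an element y of A ⊗ A satisfies D y = 0 if and only if y = r x for some x fixed by both
swaps, and D is surjective. (This is exactness at the last two places of the four-term right
resolution of the invariants of the ideal of the big diagonal on the symmetric cube of X = Spec A,
namely invariant functions on X³, then functions on X × X through restriction to a diagonal, then
one-forms on X; exactness at the first two places is immediate. The published statement is the sheaf
version on the symmetric cube of a smooth complex variety of any dimension; an algebraically closed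
field of characteristic zero is used here.) -/
theorem result (k : Type u) [Field k] [IsAlgClosed k] [CharZero k]
    (A : Type v) [CommRing A] [Algebra k A] [Algebra.Smooth k A] [IsDomain A]
    (r : A ⊗[k] (A ⊗[k] A) →ₗ[k] A ⊗[k] A)
    (hr : ∀ a b c : A, r (a ⊗ₜ[k] (b ⊗ₜ[k] c)) = (a * b) ⊗ₜ[k] c)
    (D : A ⊗[k] A →ₗ[k] Ω[A⁄k])
    (hD : ∀ a b : A, D (a ⊗ₜ[k] b) = (2 : A) • (a • KaehlerDifferential.D k A b) - b • KaehlerDifferential.D k A a) :
    (∀ y : A ⊗[k] A, D y = 0 ↔ ∃ x : A ⊗[k] (A ⊗[k] A),
        TensorProduct.leftComm k A A A x = x ∧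
        LinearMap.lTensor A (TensorProduct.comm k A A).toLinearMap x = x ∧ r x = y) ∧
    Function.Surjective D := by
  classical
  have hr' : ∀ x, r x = rr k A x := by
    intro x
    have : r = (rr k A).toLinearMap :=
      TensorProduct.ext_threefold' (by intro a b c; simp [hr])
    rw [this]; rfl
  have hs1 : ∀ x, TensorProduct.leftComm k A A A x = s1 k A x := by
    intro x
    have : (TensorProduct.leftComm k A A A).toLinearMap = (s1 k A).toLinearMap :=
      TensorProduct.ext_threefold' (by intro a b c; simp)
    exact LinearMap.congr_fun this x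
  have hs2 : ∀ x, LinearMap.lTensor A (TensorProduct.comm k A A).toLinearMap x = s2 k A x := by
    intro x
    have : LinearMap.lTensor A (TensorProduct.comm k A A).toLinearMap = (s2 k A).toLinearMap :=
      TensorProduct.ext_threefold' (by intro a b c; simp)
    exact LinearMap.congr_fun this x
  have h3 : ((3 : ℕ) : k) ≠ 0 := by exact_mod_cast (by norm_num : (3 : ℕ) ≠ 0)
  have h6 : ((6 : ℕ) : k) ≠ 0 := by exact_mod_cast (by norm_num : (6 : ℕ) ≠ 0)
  have Sy3_add : ∀ x y : A ⊗[k] (A ⊗[k] A), Sy3 (x + y) = Sy3 x + Sy3 y := by
    intro x y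
    simp only [Sy3, map_add]
    abel
  have DrSy3 : ∀ x : A ⊗[k] (A ⊗[k] A), D (rr k A (Sy3 x)) = 0 := by
    intro x
    induction x using TensorProduct.induction_on with
    | zero => simp [Sy3]
    | tmul a w =>
      induction w using TensorProduct.induction_on with
      | zero => simp [Sy3]
      | tmul b c =>
        rw [Sy3_tmul]
        simp only [map_add, rr_tmul, hD, Derivation.leibniz]
        module
      | add w1 w2 h1 h2 =>
        rw [TensorProduct.tmul_add, Sy3_add, map_add, map_add, h1, h2, add_zero]
    | add x y hx hy =>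
      rw [Sy3_add, map_add, map_add, hx, hy, add_zero]
  refine ⟨?_, ?_⟩
  · intro y
    constructor
    · intro hy
      set f : A := LinearMap.mul' k A y with hf
      set xf : A ⊗[k] (A ⊗[k] A) := (3 : k)⁻¹ • (f ⊗ₜ[k] ((1 : A) ⊗ₜ[k] (1 : A)) +
        (1 : A) ⊗ₜ[k] (f ⊗ₜ[k] (1 : A)) + (1 : A) ⊗ₜ[k] ((1 : A) ⊗ₜ[k] f)) with hxf
      have hxf1 : s1 k A xf = xf := by
        rw [hxf]
        simp only [map_smul, map_add, s1_tmul]
        congr 1
        abel
      have hxf2 : s2 k A xf = xf := by
        rw [hxf]
        simp only [map_smul, map_add, s2_tmul]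
        congr 1
        abel
      have hyf : rr k A xf = (3 : k)⁻¹ • (f ⊗ₜ[k] (1 : A) + f ⊗ₜ[k] (1 : A) + (1 : A) ⊗ₜ[k] f) := by
        rw [hxf]
        simp only [map_smul, map_add, rr_tmul, mul_one, one_mul]
      have h3' : (3 : k) ≠ 0 := by exact_mod_cast h3
      have hDyf : D (rr k A xf) = 0 := by
        rw [hyf, map_smul, map_add, map_add, hD, hD]
        simp only [Derivation.map_one_eq_zero, smul_zero, zero_sub, one_smul, sub_zero]
        rw [smul_eq_zero]
        right
        module
      have hmul : LinearMap.mul' k A (rr k A xf) = f := by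
        rw [hyf, map_smul, map_add, map_add]
        simp only [LinearMap.mul'_apply, mul_one, one_mul]
        rw [show f + f + f = (3 : k) • f by rw [← Nat.cast_ofNat (R := k), Nat.cast_smul_eq_nsmul]; abel,
          smul_smul, inv_mul_cancel₀ h3', one_smul]
      have hz : y - rr k A xf ∈ KaehlerDifferential.ideal k A := by
        change _ ∈ RingHom.ker _
        rw [RingHom.mem_ker]
        have : Algebra.TensorProduct.lmul' k (y - rr k A xf) = LinearMap.mul' k A (y - rr k A xf) := by
          rw [← Algebra.TensorProduct.lmul'_toLinearMap]; rfl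
        change Algebra.TensorProduct.lmul' k (y - rr k A xf) = 0
        rw [this, map_sub, hmul, sub_self]
      have hz2 := mem_sq_of_D_eq_zero D hD (y - rr k A xf) hz (by rw [map_sub, hy, hDyf, sub_zero])
      have key : ∀ z ∈ (KaehlerDifferential.ideal k A) ^ 2,
          ∃ x, s1 k A x = x ∧ s2 k A x = x ∧ rr k A x = z := by
        intro z hz
        rw [pow_two] at hz
        refine Submodule.smul_induction_on hz ?_ ?_
        · intro m hm n hn
          refine ⟨(2 : k)⁻¹ • Sy3 (i13 k A m * i23 k A n), ?_, ?_, ?_⟩
          · rw [map_smul, s1_Sy3]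
          · rw [map_smul, s2_Sy3]
          · rw [map_smul, rr_Sy3_mul m n hm hn, smul_eq_mul, ← Nat.cast_smul_eq_nsmul k, smul_smul]
            have : (2 : k)⁻¹ * ((2 : ℕ) : k) = 1 := by
              have h2 : (2 : k) ≠ 0 := two_ne_zero
              push_cast
              exact inv_mul_cancel₀ h2
            rw [this, one_smul]
        · rintro x y ⟨x1, a1, b1, c1⟩ ⟨x2, a2, b2, c2⟩
          exact ⟨x1 + x2, by rw [map_add, a1, a2], by rw [map_add, b1, b2], by rw [map_add, c1, c2]⟩
      obtain ⟨xz, h1, h2, h3z⟩ := key _ hz2
      refine ⟨xf + xz, ?_, ?_, ?_⟩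
      · rw [hs1, map_add, hxf1, h1]
      · rw [hs2, map_add, hxf2, h2]
      · rw [hr', map_add, h3z]
        abel
    · rintro ⟨x, hx1, hx2, rfl⟩
      rw [hs1] at hx1
      rw [hs2] at hx2
      have h := DrSy3 x
      rw [Sy3_of_fixed x hx1 hx2, map_nsmul, map_nsmul, ← hr'] at h
      rw [← Nat.cast_smul_eq_nsmul k, smul_eq_zero] at h
      rcases h with h | h
      · exact absurd h h6
      · exact h
  · intro ω
    obtain ⟨y, rfl⟩ := KaehlerDifferential.tensorProductTo_surjective k A ω
    have h3' : (3 : k) ≠ 0 := by exact_mod_cast h3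
    let Ψ : A ⊗[k] A →ₗ[k] A ⊗[k] A :=
      (3 : k)⁻¹ • ((2 : k) • LinearMap.id + (TensorProduct.comm k A A).toLinearMap)
    have hΨ : D.comp Ψ =
        ((KaehlerDifferential.D k A).tensorProductTo).restrictScalars k := by
      apply TensorProduct.ext'
      intro a b
      simp only [Ψ, LinearMap.comp_apply, LinearMap.smul_apply, LinearMap.add_apply, LinearMap.id_apply,
        LinearEquiv.coe_coe, TensorProduct.comm_tmul, map_smul, map_add, hD,
        LinearMap.restrictScalars_apply, Derivation.tensorProductTo_tmul]
      rw [← sub_eq_zero, ← smul_right_inj h3', smul_zero, smul_sub, smul_smul, mul_inv_cancel₀ h3',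
        one_smul, sub_eq_zero]
      rw [show (3 : k) • a • (KaehlerDifferential.D k A) b = (3 : ℕ) • (a • (KaehlerDifferential.D k A) b) by
        rw [← Nat.cast_smul_eq_nsmul k]; norm_num]
      rw [show ∀ v : Ω[A⁄k], (2 : k) • v = (2 : ℕ) • v by
        intro v; rw [← Nat.cast_smul_eq_nsmul k]; norm_num]
      module
    refine ⟨Ψ y, ?_⟩
    exact LinearMap.congr_fun hΨ y

end Groth.Agent.S19212
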