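import Groth.Statements.S19213
import Groth.Agent.Lib.Helper32.DiagSym3T

set_option autoImplicit false
universe u v
open TensorProduct
open DiagIdeal
open Groth.Agent.Lib.Helper32.DiagSym3

namespace Groth.Agent.S19213

/-- Let k be an algebraically closed field of characteristic zero and A a smooth k-algebra which is a
domain. Let r₁₂, r₂₃ : A ⊗ (A ⊗ A) → A ⊗ A be the k-linear maps a ⊗ u ⊗ v ↦ au ⊗ v and a ⊗ u ⊗ v ↦
uv ⊗ a (restriction to the diagonal of factors 1, 2, resp. 2, 3, the repeated coordinate written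
first), let m : A ⊗ A → A be multiplication, and let ψ : (A ⊗ A) × (A ⊗ A) → Ω_{A/k} be the k-linear
map with ψ(a ⊗ u, b ⊗ v) = 2a·du − v·db. Then for p, q in A ⊗ A with m p = m q one has ψ(p, q) = 0
if and only if (p, q) = (r₁₂ x, r₂₃ x) for some x fixed by the swap of the last two tensor factors;
and every element of Ω_{A/k} is ψ(p, q) for some pair with m p = m q. (This is exactness at the last
two places of the right resolution, on the symmetric cube of X = Spec A, of the invariants of the
ideal of the big diagonal under the transposition of the last two factors; exactness at the first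
two places is immediate. The published statement is the sheaf version for a smooth complex variety
of any dimension; an algebraically closed field of characteristic zero is used here.) -/
theorem result (k : Type u) [Field k] [IsAlgClosed k] [CharZero k]
    (A : Type v) [CommRing A] [Algebra k A] [Algebra.Smooth k A] [IsDomain A]
    (r₁₂ r₂₃ : A ⊗[k] (A ⊗[k] A) →ₗ[k] A ⊗[k] A)
    (h₁₂ : ∀ a u v : A, r₁₂ (a ⊗ₜ[k] (u ⊗ₜ[k] v)) = (a * u) ⊗ₜ[k] v)
    (h₂₃ : ∀ a u v : A, r₂₃ (a ⊗ₜ[k] (u ⊗ₜ[k] v)) = (u * v) ⊗ₜ[k] a)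
    (ψ : (A ⊗[k] A) × (A ⊗[k] A) →ₗ[k] Ω[A⁄k])
    (hψ : ∀ a u b v : A, ψ (a ⊗ₜ[k] u, b ⊗ₜ[k] v) =
      (2 : A) • (a • KaehlerDifferential.D k A u) - v • KaehlerDifferential.D k A b) :
    (∀ p q : A ⊗[k] A, LinearMap.mul' k A p = LinearMap.mul' k A q →
      (ψ (p, q) = 0 ↔ ∃ x : A ⊗[k] (A ⊗[k] A),
        LinearMap.lTensor A (TensorProduct.comm k A A).toLinearMap x = x ∧ r₁₂ x = p ∧ r₂₃ x = q)) ∧
    (∀ ω : Ω[A⁄k], ∃ p q : A ⊗[k] A, LinearMap.mul' k A p = LinearMap.mul' k A q ∧ ψ (p, q) = ω) := by
  classical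
  have hr12 : ∀ x, r₁₂ x = rr k A x := by
    intro x
    have : r₁₂ = (rr k A).toLinearMap :=
      TensorProduct.ext_threefold' (by intro a b c; simp [h₁₂])
    rw [this]; rfl
  have hr23 : ∀ x, r₂₃ x = r23 k A x := by
    intro x
    have : r₂₃ = (r23 k A).toLinearMap :=
      TensorProduct.ext_threefold' (by intro a b c; simp [h₂₃])
    rw [this]; rfl
  have hs2 : ∀ x, LinearMap.lTensor A (TensorProduct.comm k A A).toLinearMap x = s2 k A x := by
    intro x
    have : LinearMap.lTensor A (TensorProduct.comm k A A).toLinearMap = (s2 k A).toLinearMap :=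
      TensorProduct.ext_threefold' (by intro a b c; simp)
    exact LinearMap.congr_fun this x
  have h2 : (2 : k) ≠ 0 := two_ne_zero
  have h2' : ((2 : ℕ) : k) ≠ 0 := by exact_mod_cast h2
  let tp : A ⊗[k] A →ₗ[k] Ω[A⁄k] := ((KaehlerDifferential.D k A).tensorProductTo).restrictScalars k
  have tp_tmul : ∀ a b : A, tp (a ⊗ₜ[k] b) = a • KaehlerDifferential.D k A b := by
    intro a b
    simp [tp, Derivation.tensorProductTo_tmul]
  let ψ1 : A ⊗[k] A →ₗ[k] Ω[A⁄k] := ψ.comp (LinearMap.inl k _ _)
  let ψ2 : A ⊗[k] A →ₗ[k] Ω[A⁄k] := ψ.comp (LinearMap.inr k _ _)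
  have hsplit : ∀ p q, ψ (p, q) = ψ1 p + ψ2 q := by
    intro p q
    simp only [ψ1, ψ2, LinearMap.comp_apply, LinearMap.inl_apply, LinearMap.inr_apply, ← map_add,
      Prod.mk_add_mk, add_zero, zero_add]
  have hψ1 : ψ1 = (2 : ℕ) • tp := by
    apply TensorProduct.ext'
    intro a u
    have := hψ a u 0 0
    simp only [TensorProduct.zero_tmul, map_zero, smul_zero, sub_zero] at this
    simp only [ψ1, LinearMap.comp_apply, LinearMap.inl_apply, LinearMap.smul_apply, tp_tmul]
    rw [this]
    module
  have hψ2 : ψ2 = -(tp.comp (cm k A).toLinearMap) := by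
    apply TensorProduct.ext'
    intro b v
    have := hψ 0 0 b v
    simp only [TensorProduct.zero_tmul, map_zero, smul_zero, zero_sub] at this
    simp only [ψ2, LinearMap.comp_apply, LinearMap.inr_apply, LinearMap.neg_apply,
      AlgHom.toLinearMap_apply, cm_tmul, tp_tmul]
    rw [this]
  have lemA0 : (ψ1.comp ((rr k A).toLinearMap.comp (LinearMap.id + (s2 k A).toLinearMap)) +
      ψ2.comp ((r23 k A).toLinearMap.comp (LinearMap.id + (s2 k A).toLinearMap))) = 0 := by
    apply TensorProduct.ext_threefold'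
    intro a b c
    simp only [LinearMap.add_apply, LinearMap.comp_apply, LinearMap.id_apply, AlgHom.toLinearMap_apply,
      s2_tmul, map_add, rr_tmul, r23_tmul, hψ1, hψ2, LinearMap.smul_apply,
      LinearMap.neg_apply, cm_tmul, tp_tmul, Derivation.leibniz, LinearMap.zero_apply]
    module
  have lemA : ∀ x : A ⊗[k] (A ⊗[k] A),
      ψ1 (rr k A (x + s2 k A x)) + ψ2 (r23 k A (x + s2 k A x)) = 0 := by
    intro x
    exact LinearMap.congr_fun lemA0 x
  refine ⟨?_, ?_⟩
  · intro p q hpq
    constructor
    · intro h0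
      set G0 : A ⊗[k] (A ⊗[k] A) := (2 : k)⁻¹ • j21 k A q with hG0
      set G : A ⊗[k] (A ⊗[k] A) := G0 + s2 k A G0 with hG
      have hGs : s2 k A G = G := by
        rw [hG, map_add, s2_s2]
        abel
      have hG23 : r23 k A G = q := by
        rw [hG, hG0]
        simp only [map_add, map_smul, r23_j21, r23_s2_j21]
        rw [← add_smul, ← two_mul, mul_inv_cancel₀ h2, one_smul]
      have hG12 : rr k A G = (2 : k)⁻¹ • (mu1 k A q + cm k A q) := by
        rw [hG, hG0]
        simp only [map_add, map_smul, rr_j21, rr_s2_j21, smul_add]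
      have hmG : LinearMap.mul' k A (rr k A G) = LinearMap.mul' k A q := by
        rw [hG12, map_smul, map_add, mul'_mu1, mul'_cm, ← two_smul k, smul_smul,
          inv_mul_cancel₀ h2, one_smul]
      have hz : p - rr k A G ∈ KaehlerDifferential.ideal k A := by
        change Algebra.TensorProduct.lmul' k (p - rr k A G) = 0
        have : Algebra.TensorProduct.lmul' k (p - rr k A G) = LinearMap.mul' k A (p - rr k A G) := by
          rw [← Algebra.TensorProduct.lmul'_toLinearMap]; rfl
        rw [this, map_sub, hmG, hpq, sub_self]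
      have hψz : ψ1 (p - rr k A G) = 0 := by
        have e := lemA G0
        rw [← hG, hG23] at e
        have e2 : ψ1 p + ψ2 q = 0 := by rw [← hsplit]; exact h0
        rw [map_sub]
        have : ψ1 p - ψ1 (rr k A G) = (ψ1 p + ψ2 q) - (ψ1 (rr k A G) + ψ2 q) := by abel
        rw [this, e, e2, sub_zero]
      have hz2 : p - rr k A G ∈ (KaehlerDifferential.ideal k A) ^ 2 := by
        rw [hψ1, LinearMap.smul_apply] at hψz
        change (2 : ℕ) • (KaehlerDifferential.D k A).tensorProductTo (p - rr k A G) = 0 at hψz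
        rw [tensorProductTo_of_mem _ hz, ← Nat.cast_smul_eq_nsmul k, smul_eq_zero] at hψz
        rcases hψz with h | h
        · exact absurd h h2'
        · exact (fromIdeal_eq_zero_iff _).mp h
      have key : ∀ z ∈ (KaehlerDifferential.ideal k A) ^ 2,
          ∃ F, s2 k A F = F ∧ rr k A F = z ∧ r23 k A F = 0 := by
        intro z hz
        rw [pow_two] at hz
        refine Submodule.smul_induction_on hz ?_ ?_
        · intro m hm n hn
          refine ⟨i13 k A m * i23 k A n + s2 k A (i13 k A m * i23 k A n), ?_, ?_, ?_⟩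
          · rw [map_add, s2_s2]
            abel
          · rw [rr_T_mul m n hm, smul_eq_mul]
          · exact r23_T_mul m n hn
        · rintro x y ⟨x1, a1, b1, c1⟩ ⟨x2, a2, b2, c2⟩
          exact ⟨x1 + x2, by rw [map_add, a1, a2], by rw [map_add, b1, b2],
            by rw [map_add, c1, c2, add_zero]⟩
      obtain ⟨F, hF1, hF2, hF3⟩ := key _ hz2
      refine ⟨G + F, ?_, ?_, ?_⟩
      · rw [hs2, map_add, hGs, hF1]
      · rw [hr12, map_add, hF2]
        abel
      · rw [hr23, map_add, hG23, hF3, add_zero]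
    · rintro ⟨x, hx, rfl, rfl⟩
      rw [hs2] at hx
      have := lemA x
      rw [hx, ← two_smul k x, map_smul, map_smul, map_smul, map_smul, ← smul_add, smul_eq_zero] at this
      rcases this with h | h
      · exact absurd h h2
      · rw [hsplit, hr12, hr23]
        exact h
  · intro ω
    obtain ⟨⟨z, hz⟩, rfl⟩ := KaehlerDifferential.fromIdeal_surjective k A ω
    have h0 : LinearMap.mul' k A z = 0 := by
      have : Algebra.TensorProduct.lmul' k z = 0 := hz
      rw [← Algebra.TensorProduct.lmul'_toLinearMap]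
      exact this
    refine ⟨(2 : k)⁻¹ • z, 0, ?_, ?_⟩
    · rw [map_smul, h0, smul_zero, map_zero]
    · rw [hsplit, map_zero, add_zero, hψ1, LinearMap.smul_apply, map_smul,
        ← Nat.cast_smul_eq_nsmul k, smul_smul]
      have : ((2 : ℕ) : k) * (2 : k)⁻¹ = 1 := by
        push_cast
        exact mul_inv_cancel₀ h2
      rw [this, one_smul]
      exact tensorProductTo_of_mem z hz

end Groth.Agent.S19213
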