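import Groth.Statements.S19216
import Mathlib

set_option autoImplicit false
universe u
open SymRep

namespace Groth.Agent.S19216


noncomputable def EMap (k : Type u) [Field k] (r s : ℕ) :
    (Fin r ⊕ Fin s → k) →ₗ[k] (Fin r → k) × (Fin s → k) × k where
  toFun f := (fun i => f (Sum.inl i) - (∑ i', f (Sum.inl i')) / (r : k),
    fun j => f (Sum.inr j) - (∑ j', f (Sum.inr j')) / (s : k), ∑ i', f (Sum.inl i'))
  map_add' f g := by
    ext <;> simp [Finset.sum_add_distrib] <;> ring
  map_smul' c f := by
    ext <;> simp [← Finset.mul_sum] <;> ring

/-- Let k be a field of characteristic zero and r, s ≥ 1. Realise the standard representation of the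
symmetric group on a finite set T as the hyperplane of functions T → k with sum zero, the group
acting by precomposition with the inverse. Then the standard representation of the symmetric group
of Fin r ⊕ Fin s, restricted to the subgroup S_r × S_s, is isomorphic to the direct sum of the
standard representations of S_r and of S_s and of a one-dimensional trivial representation: there is
a k-linear map E from functions on Fin r ⊕ Fin s to triples (function on Fin r, function on Fin s,
scalar), compatible with the actions of S_r × S_s (trivial on the scalar), which maps the sum-zero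
hyperplane bijectively onto the product of the two sum-zero hyperplanes and k. (The published
statement is over the complex numbers; a field of characteristic zero is used here. The published
statement also gives the analogous decomposition for any number of blocks, which follows by
induction; only the two-block case is stated here.) -/
theorem result (k : Type u) [Field k] [CharZero k]
    (r s : ℕ) (hr : 1 ≤ r) (hs : 1 ≤ s) :
    ∃ E : (Fin r ⊕ Fin s → k) →ₗ[k] (Fin r → k) × (Fin s → k) × k,
      (∀ (σ : Equiv.Perm (Fin r)) (τ : Equiv.Perm (Fin s)) (f : Fin r ⊕ Fin s → k),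
        E (f ∘ ⇑(Equiv.sumCongr σ τ).symm) = ((E f).1 ∘ ⇑σ.symm, (E f).2.1 ∘ ⇑τ.symm, (E f).2.2)) ∧
      Set.BijOn E {f | ∑ i, f i = 0}
        ({g : Fin r → k | ∑ i, g i = 0} ×ˢ ({h : Fin s → k | ∑ i, h i = 0} ×ˢ Set.univ)) := by
  have hr0 : (r : k) ≠ 0 := by
    have : r ≠ 0 := by omega
    exact_mod_cast this
  have hs0 : (s : k) ≠ 0 := by
    have : s ≠ 0 := by omega
    exact_mod_cast this
  refine ⟨EMap k r s, ?_, ?_, ?_, ?_⟩
  · intro σ τ f
    have h1 : ∑ i', f (Sum.inl (σ.symm i')) = ∑ i', f (Sum.inl i') :=
      Equiv.sum_comp σ.symm (fun i => f (Sum.inl i))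
    have h2 : ∑ j', f (Sum.inr (τ.symm j')) = ∑ j', f (Sum.inr j') :=
      Equiv.sum_comp τ.symm (fun j => f (Sum.inr j))
    ext <;> simp [EMap, h1, h2]
  · intro f hf
    simp only [Set.mem_setOf_eq] at hf
    simp only [Set.mem_prod, Set.mem_setOf_eq, Set.mem_univ, and_true]
    constructor
    · simp only [EMap, LinearMap.coe_mk, AddHom.coe_mk, Finset.sum_sub_distrib, Finset.sum_const,
        Finset.card_univ, Fintype.card_fin, nsmul_eq_mul]
      field_simp
      ring
    · simp only [EMap, LinearMap.coe_mk, AddHom.coe_mk, Finset.sum_sub_distrib, Finset.sum_const,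
        Finset.card_univ, Fintype.card_fin, nsmul_eq_mul]
      field_simp
      ring
  · intro f hf f' hf' h
    simp only [Set.mem_setOf_eq, Fintype.sum_sum_type] at hf hf'
    simp only [EMap, LinearMap.coe_mk, AddHom.coe_mk, Prod.mk.injEq] at h
    obtain ⟨h1, h2, h3⟩ := h
    have h4 : ∑ j', f (Sum.inr j') = ∑ j', f' (Sum.inr j') := by
      linear_combination hf - hf' - h3
    funext x
    rcases x with i | j
    · have := congrFun h1 i
      simp only [h3] at this
      linear_combination this
    · have := congrFun h2 j
      simp only [h4] at this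
      linear_combination this
  · rintro ⟨g, h, c⟩ hgh
    simp only [Set.mem_prod, Set.mem_setOf_eq, Set.mem_univ, and_true] at hgh
    obtain ⟨hg, hh⟩ := hgh
    refine ⟨Sum.elim (fun i => g i + c / (r : k)) (fun j => h j - c / (s : k)), ?_, ?_⟩
    · simp only [Set.mem_setOf_eq, Fintype.sum_sum_type, Sum.elim_inl, Sum.elim_inr,
        Finset.sum_add_distrib, Finset.sum_sub_distrib, hg, hh, Finset.sum_const,
        Finset.card_univ, Fintype.card_fin, nsmul_eq_mul]
      field_simp
      ring
    · have e1 : ∑ i', (g i' + c / (r : k)) = c := by
        simp only [Finset.sum_add_distrib, hg, Finset.sum_const, Finset.card_univ,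
          Fintype.card_fin, nsmul_eq_mul]
        field_simp
        ring
      have e2 : ∑ j', (h j' - c / (s : k)) = -c := by
        simp only [Finset.sum_sub_distrib, hh, Finset.sum_const, Finset.card_univ,
          Fintype.card_fin, nsmul_eq_mul]
        field_simp
        ring
      simp only [EMap, LinearMap.coe_mk, AddHom.coe_mk, Sum.elim_inl, Sum.elim_inr, e1, e2,
        Prod.mk.injEq]
      refine ⟨?_, ?_, trivial⟩
      · funext i; ring
      · funext j; ring

end Groth.Agent.S19216
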