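import Groth.Statements.S19221
import Mathlib

set_option autoImplicit false
universe u
open SymRep

namespace Groth.Agent.S19221


section
variable {k : Type u} [Field k]
    (P : Equiv.Perm (Fin 4) → ((Fin 2 → Fin 4 → Fin 4 → k) →ₗ[k] (Fin 2 → Fin 4 → Fin 4 → k)))
    (hP : ∀ (σ : Equiv.Perm (Fin 4)) (f : Fin 2 → Fin 4 → Fin 4 → k) (c : Fin 2) (a b : Fin 4),
      P σ f c a b = f c (σ.symm a) (σ.symm b))
    (z : Fin 2 → Fin 4 → Fin 4 → Fin 4 → (Fin 2 → Fin 4 → Fin 4 → k))
    (hz : ∀ (c : Fin 2) (i j l : Fin 4) (c' : Fin 2) (a b : Fin 4), z c i j l c' a b =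
      if c' = c then
        ((if a = i ∧ b = j then 1 else 0) + (if a = j ∧ b = l then 1 else 0) + (if a = l ∧ b = i then 1 else 0)
          - (if a = j ∧ b = i then 1 else 0) - (if a = l ∧ b = j then 1 else 0) - (if a = i ∧ b = l then 1 else 0))
      else 0)

include hP hz in
theorem P_z (σ : Equiv.Perm (Fin 4)) (c : Fin 2) (i j l : Fin 4) :
    P σ (z c i j l) = z c (σ i) (σ j) (σ l) := by
  funext c' a b
  rw [hP, hz, hz]
  simp only [Equiv.symm_apply_eq]

include hz in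
theorem z_swap23 (c : Fin 2) (i j l : Fin 4) : z c i l j = - z c i j l := by
  funext c' a b
  rw [Pi.neg_apply, Pi.neg_apply, Pi.neg_apply, hz, hz]
  by_cases h : c' = c
  · simp only [if_pos h]
    ring
  · simp [h]

include hz in
theorem z_swap13 (c : Fin 2) (i j l : Fin 4) : z c l j i = - z c i j l := by
  funext c' a b
  rw [Pi.neg_apply, Pi.neg_apply, Pi.neg_apply, hz, hz]
  by_cases h : c' = c
  · simp only [if_pos h]
    ring
  · simp [h]

include hz in
theorem z_swap12 (c : Fin 2) (i j l : Fin 4) : z c j i l = - z c i j l := by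
  funext c' a b
  rw [Pi.neg_apply, Pi.neg_apply, Pi.neg_apply, hz, hz]
  by_cases h : c' = c
  · simp only [if_pos h]
    ring
  · simp [h]

theorem map_prod4 (f : (Fin 2 → Fin 4 → Fin 4 → k) →ₗ[k] (Fin 2 → Fin 4 → Fin 4 → k))
    (a b c d : Fin 2 → Fin 4 → Fin 4 → k) :
    ExteriorAlgebra.map f (ExteriorAlgebra.ι k a * ExteriorAlgebra.ι k b * ExteriorAlgebra.ι k c *
      ExteriorAlgebra.ι k d) =
    ExteriorAlgebra.ι k (f a) * ExteriorAlgebra.ι k (f b) * ExteriorAlgebra.ι k (f c) *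
      ExteriorAlgebra.ι k (f d) := by
  simp only [map_mul, ExteriorAlgebra.map_apply_ι]

theorem anti (x y : Fin 2 → Fin 4 → Fin 4 → k) :
    ExteriorAlgebra.ι k y * ExteriorAlgebra.ι k x = -(ExteriorAlgebra.ι k x * ExteriorAlgebra.ι k y) :=
  eq_neg_of_add_eq_zero_right (ExteriorAlgebra.ι_add_mul_swap x y)

theorem swap_pairs (a b c d : Fin 2 → Fin 4 → Fin 4 → k) :
    ExteriorAlgebra.ι k c * ExteriorAlgebra.ι k d * ExteriorAlgebra.ι k a * ExteriorAlgebra.ι k b =
    ExteriorAlgebra.ι k a * ExteriorAlgebra.ι k b * ExteriorAlgebra.ι k c * ExteriorAlgebra.ι k d := by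
  have hDA := anti a d
  have hCA := anti a c
  have hDB := anti b d
  have hCB := anti b c
  set A := ExteriorAlgebra.ι k a
  set B := ExteriorAlgebra.ι k b
  set C := ExteriorAlgebra.ι k c
  set D := ExteriorAlgebra.ι k d
  calc C * D * A * B = C * (D * A) * B := by simp only [mul_assoc]
    _ = -((C * A) * (D * B)) := by rw [hDA]; noncomm_ring
    _ = -((-(A * C)) * (-(B * D))) := by rw [hCA, hDB]
    _ = -(A * (C * B) * D) := by noncomm_ring
    _ = A * B * C * D := by rw [hCB]; noncomm_ring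

include hP hz in
theorem part1 :
    ExteriorAlgebra.map (P (Equiv.swap 0 2)) (ExteriorAlgebra.ι k (z 0 0 1 2) * ExteriorAlgebra.ι k (z 1 0 1 2) *
      ExteriorAlgebra.ι k (z 0 0 2 3) * ExteriorAlgebra.ι k (z 1 0 2 3)) =
    ExteriorAlgebra.ι k (z 0 0 1 2) * ExteriorAlgebra.ι k (z 1 0 1 2) *
      ExteriorAlgebra.ι k (z 0 0 2 3) * ExteriorAlgebra.ι k (z 1 0 2 3) := by
  rw [map_prod4, P_z P hP z hz, P_z P hP z hz, P_z P hP z hz, P_z P hP z hz]
  have e0 : (Equiv.swap (0 : Fin 4) 2) 0 = 2 := by decide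
  have e1 : (Equiv.swap (0 : Fin 4) 2) 1 = 1 := by decide
  have e2 : (Equiv.swap (0 : Fin 4) 2) 2 = 0 := by decide
  have e3 : (Equiv.swap (0 : Fin 4) 2) 3 = 3 := by decide
  rw [e0, e1, e2, e3, z_swap13 z hz 0 0 1 2, z_swap13 z hz 1 0 1 2, z_swap12 z hz 0 0 2 3,
    z_swap12 z hz 1 0 2 3]
  simp only [map_neg, neg_mul, mul_neg, neg_neg]

include hP hz in
theorem part2 :
    ExteriorAlgebra.map (P (Equiv.swap 1 3)) (ExteriorAlgebra.ι k (z 0 0 1 2) * ExteriorAlgebra.ι k (z 1 0 1 2) *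
      ExteriorAlgebra.ι k (z 0 0 2 3) * ExteriorAlgebra.ι k (z 1 0 2 3)) =
    ExteriorAlgebra.ι k (z 0 0 1 2) * ExteriorAlgebra.ι k (z 1 0 1 2) *
      ExteriorAlgebra.ι k (z 0 0 2 3) * ExteriorAlgebra.ι k (z 1 0 2 3) := by
  rw [map_prod4, P_z P hP z hz, P_z P hP z hz, P_z P hP z hz, P_z P hP z hz]
  have e0 : (Equiv.swap (1 : Fin 4) 3) 0 = 0 := by decide
  have e1 : (Equiv.swap (1 : Fin 4) 3) 1 = 3 := by decide
  have e2 : (Equiv.swap (1 : Fin 4) 3) 2 = 2 := by decide
  have e3 : (Equiv.swap (1 : Fin 4) 3) 3 = 1 := by decide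
  rw [e0, e1, e2, e3, z_swap23 z hz 0 0 2 3, z_swap23 z hz 1 0 2 3, z_swap23 z hz 0 0 1 2,
    z_swap23 z hz 1 0 1 2]
  simp only [map_neg, neg_mul, mul_neg, neg_neg]
  exact swap_pairs _ _ _ _

end

theorem det4 {k : Type*} [CommRing k] (a b c d : k) :
    Matrix.det !![a,0,b,0; 0,a,0,b; c,0,d,0; 0,c,0,d] = (a*d - b*c)^2 := by
  rw [Matrix.det_succ_row_zero]
  simp [Fin.sum_univ_succ, Matrix.det_fin_three, Matrix.submatrix, Fin.succAbove]
  ring

def zI (i j l a b : Fin 4) : ℤ :=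
  (if a = i ∧ b = j then 1 else 0) + (if a = j ∧ b = l then 1 else 0) + (if a = l ∧ b = i then 1 else 0)
    - (if a = j ∧ b = i then 1 else 0) - (if a = l ∧ b = j then 1 else 0) - (if a = i ∧ b = l then 1 else 0)

def dI (σ : Equiv.Perm (Fin 4)) : ℤ :=
  zI (σ 0) (σ 1) (σ 2) 1 2 * zI (σ 0) (σ 2) (σ 3) 2 3 -
    zI (σ 0) (σ 1) (σ 2) 2 3 * zI (σ 0) (σ 2) (σ 3) 1 2

noncomputable def Lmap (k : Type u) [Field k] : (Fin 2 → Fin 4 → Fin 4 → k) →ₗ[k] (Fin 4 → k) where
  toFun f := ![f 0 1 2, f 1 1 2, f 0 2 3, f 1 2 3]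
  map_add' f g := by
    ext i
    fin_cases i <;> simp
  map_smul' c f := by
    ext i
    fin_cases i <;> simp

noncomputable def altFam (k : Type u) [Field k] :
    ∀ i, (Fin 2 → Fin 4 → Fin 4 → k) [⋀^Fin i]→ₗ[k] k := fun i =>
  if h : i = 4 then h ▸ ((Matrix.detRowAlternating (n := Fin 4) (R := k)).compLinearMap (Lmap k)) else 0

noncomputable def Phi (k : Type u) [Field k] :
    ExteriorAlgebra k (Fin 2 → Fin 4 → Fin 4 → k) →ₗ[k] k :=
  ExteriorAlgebra.liftAlternating (altFam k)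

theorem Phi_prod (k : Type u) [Field k] (a b c d : Fin 2 → Fin 4 → Fin 4 → k) :
    Phi k (ExteriorAlgebra.ι k a * ExteriorAlgebra.ι k b * ExteriorAlgebra.ι k c *
      ExteriorAlgebra.ι k d) =
    Matrix.det (Matrix.of ![Lmap k a, Lmap k b, Lmap k c, Lmap k d]) := by
  have h1 : ExteriorAlgebra.ι k a * ExteriorAlgebra.ι k b * ExteriorAlgebra.ι k c *
      ExteriorAlgebra.ι k d = ExteriorAlgebra.ιMulti k 4 ![a, b, c, d] := by
    rw [ExteriorAlgebra.ιMulti_apply]
    simp [List.ofFn_succ, mul_assoc]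
  rw [h1, Phi, ExteriorAlgebra.liftAlternating_apply_ιMulti]
  unfold altFam
  rw [dif_pos rfl]
  change Matrix.detRowAlternating (fun i => Lmap k (![a, b, c, d] i)) = _
  change Matrix.det (Matrix.of fun i => Lmap k (![a, b, c, d] i)) = _
  congr 1
  ext i j
  fin_cases i <;> rfl

section
variable {k : Type u} [Field k]
    (z : Fin 2 → Fin 4 → Fin 4 → Fin 4 → (Fin 2 → Fin 4 → Fin 4 → k))
    (hz : ∀ (c : Fin 2) (i j l : Fin 4) (c' : Fin 2) (a b : Fin 4), z c i j l c' a b =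
      if c' = c then
        ((if a = i ∧ b = j then 1 else 0) + (if a = j ∧ b = l then 1 else 0) + (if a = l ∧ b = i then 1 else 0)
          - (if a = j ∧ b = i then 1 else 0) - (if a = l ∧ b = j then 1 else 0) - (if a = i ∧ b = l then 1 else 0))
      else 0)

include hz in
theorem z_val (c : Fin 2) (i j l : Fin 4) (c' : Fin 2) (a b : Fin 4) :
    z c i j l c' a b = if c' = c then ((zI i j l a b : ℤ) : k) else 0 := by
  rw [hz]
  unfold zI
  push_cast
  rfl

include hz in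
theorem Phi_sigma (i j l i' j' l' : Fin 4) :
    Phi k (ExteriorAlgebra.ι k (z 0 i j l) * ExteriorAlgebra.ι k (z 1 i j l) *
      ExteriorAlgebra.ι k (z 0 i' j' l') * ExteriorAlgebra.ι k (z 1 i' j' l')) =
    (((zI i j l 1 2 * zI i' j' l' 2 3 - zI i j l 2 3 * zI i' j' l' 1 2 : ℤ) : k)) ^ 2 := by
  rw [Phi_prod]
  have hM : (Matrix.of ![Lmap k (z 0 i j l), Lmap k (z 1 i j l), Lmap k (z 0 i' j' l'),
      Lmap k (z 1 i' j' l')] : Matrix (Fin 4) (Fin 4) k) =
      !![((zI i j l 1 2 : ℤ) : k), 0, ((zI i j l 2 3 : ℤ) : k), 0;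
         0, ((zI i j l 1 2 : ℤ) : k), 0, ((zI i j l 2 3 : ℤ) : k);
         ((zI i' j' l' 1 2 : ℤ) : k), 0, ((zI i' j' l' 2 3 : ℤ) : k), 0;
         0, ((zI i' j' l' 1 2 : ℤ) : k), 0, ((zI i' j' l' 2 3 : ℤ) : k)] := by
    ext r s
    fin_cases r <;> fin_cases s <;> simp [Lmap, z_val z hz]
  rw [hM, det4]
  push_cast
  ring

end


/-- Let k be a field of characteristic zero and F the k-space of functions Fin 2 → Fin 4 → Fin 4 → k,
with the symmetric group of Fin 4 acting through P σ f c a b = f c (σ⁻¹ a) (σ⁻¹ b). The signed edge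
vectors of the complete graph on four vertices live in F as the functions antisymmetric in the two
vertex arguments, and for a colour c and an oriented 3-cycle i → j → l → i the cycle vector z c i j
l is the function equal, in colour c, to +1 at (i,j), (j,l), (l,i), to −1 at (j,i), (l,j), (i,l) and
to 0 elsewhere (and 0 in the other colour); these cycle vectors span k² ⊗ (cycle space), the
representation written C² ⊗ q in the published text. Let Γ be the graph with edges 01, 02, 03, 12,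
23 (a 4-cycle with one chord), whose cycle space is spanned by the cycles (0,1,2) and (0,2,3), and
let ω be the product in the exterior algebra of F of the four vectors z 0 0 1 2, z 1 0 1 2, z 0 0 2
3, z 1 0 2 3 (a generator of the top exterior power of k² ⊗ q_Γ). Then ω is fixed by the stabiliser
of Γ in the symmetric group (generated by the transpositions (0 2) and (1 3)), and the sum over all
24 permutations σ of the images of ω under the maps induced by P σ is nonzero: the projection of ω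
to the invariants of the fourth exterior power of k² ⊗ q_{K₄} does not vanish. (The published
statement is over the complex numbers; a field of characteristic zero is used here. The published
statement also asserts that this map is an isomorphism onto the one-dimensional space of
S₄-invariants of the fourth exterior power of k² ⊗ q_{K₄}; only its non-vanishing is stated here.) -/
theorem result (k : Type u) [Field k] [CharZero k]
    (P : Equiv.Perm (Fin 4) → ((Fin 2 → Fin 4 → Fin 4 → k) →ₗ[k] (Fin 2 → Fin 4 → Fin 4 → k)))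
    (hP : ∀ (σ : Equiv.Perm (Fin 4)) (f : Fin 2 → Fin 4 → Fin 4 → k) (c : Fin 2) (a b : Fin 4),
      P σ f c a b = f c (σ.symm a) (σ.symm b))
    (z : Fin 2 → Fin 4 → Fin 4 → Fin 4 → (Fin 2 → Fin 4 → Fin 4 → k))
    (hz : ∀ (c : Fin 2) (i j l : Fin 4) (c' : Fin 2) (a b : Fin 4), z c i j l c' a b =
      if c' = c then
        ((if a = i ∧ b = j then 1 else 0) + (if a = j ∧ b = l then 1 else 0) + (if a = l ∧ b = i then 1 else 0)
          - (if a = j ∧ b = i then 1 else 0) - (if a = l ∧ b = j then 1 else 0) - (if a = i ∧ b = l then 1 else 0))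
      else 0)
    (ω : ExteriorAlgebra k (Fin 2 → Fin 4 → Fin 4 → k))
    (hω : ω = ExteriorAlgebra.ι k (z 0 0 1 2) * ExteriorAlgebra.ι k (z 1 0 1 2) *
      ExteriorAlgebra.ι k (z 0 0 2 3) * ExteriorAlgebra.ι k (z 1 0 2 3)) :
    ExteriorAlgebra.map (P (Equiv.swap 0 2)) ω = ω ∧
    ExteriorAlgebra.map (P (Equiv.swap 1 3)) ω = ω ∧
    (∑ σ : Equiv.Perm (Fin 4), ExteriorAlgebra.map (P σ) ω) ≠ 0 := by
  subst hω
  refine ⟨part1 P hP z hz, part2 P hP z hz, ?_⟩
  intro hsum
  have h := congrArg (Phi k) hsum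
  rw [map_sum, map_zero] at h
  have hterm : ∀ σ : Equiv.Perm (Fin 4), Phi k (ExteriorAlgebra.map (P σ)
      (ExteriorAlgebra.ι k (z 0 0 1 2) * ExteriorAlgebra.ι k (z 1 0 1 2) *
        ExteriorAlgebra.ι k (z 0 0 2 3) * ExteriorAlgebra.ι k (z 1 0 2 3))) =
      ((dI σ : ℤ) : k) ^ 2 := by
    intro σ
    rw [map_prod4, P_z P hP z hz, P_z P hP z hz, P_z P hP z hz, P_z P hP z hz, Phi_sigma z hz]
    rfl
  simp_rw [hterm] at h
  have h2 : ((∑ σ : Equiv.Perm (Fin 4), (dI σ) ^ 2 : ℤ) : k) = 0 := by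
    push_cast
    exact h
  have h3 : (∑ σ : Equiv.Perm (Fin 4), (dI σ) ^ 2 : ℤ) = 0 := by exact_mod_cast h2
  have h4 : (dI 1) ^ 2 ≤ ∑ σ : Equiv.Perm (Fin 4), (dI σ) ^ 2 :=
    Finset.single_le_sum (f := fun σ : Equiv.Perm (Fin 4) => (dI σ) ^ 2)
      (fun σ _ => sq_nonneg _) (Finset.mem_univ 1)
  have h5 : dI 1 = 1 := by decide
  rw [h5] at h4
  omega

end Groth.Agent.S19221
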