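import Groth.Statements.S19222
import Groth.Agent.Lib.Helper69.EtSplit
import Groth.Agent.Lib.Helper69.HensFinite
import Groth.Agent.Lib.Helper69.HensIntegralU

set_option autoImplicit false
set_option linter.style.haveILetI false
universe u
open CategoryTheory AlgebraicGeometry
open EtBase

namespace Groth.Agent.S19222

open IsLocalRing in
/-- In the spectrum of a finite algebra over a henselian local ring, closed points have bases of
clopen neighbourhoods. -/
theorem exists_clopen_nhds {R : Type u} [CommRing R] [HenselianLocalRing R] (B : Type u)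
    [CommRing B] [Algebra R B] [Module.Finite R B] (m : PrimeSpectrum B)
    (hm : m.asIdeal.IsMaximal) (U : Set (PrimeSpectrum B)) (hU : IsOpen U) (hmU : m ∈ U) :
    ∃ V : Set (PrimeSpectrum B), IsClopen V ∧ m ∈ V ∧ V ⊆ U := by
  obtain ⟨n, e, he, hloc⟩ :=
    Groth.Agent.Lib.Helper9.exists_completeOrthogonalIdempotents_of_finite (R := R) B
  obtain ⟨i, hi⟩ : ∃ i, e i ∉ m.asIdeal := by
    by_contra h
    push Not at h
    have : (1 : B) ∈ m.asIdeal := by
      rw [← he.complete]
      exact Ideal.sum_mem _ fun i _ => h i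
    exact hm.ne_top ((Ideal.eq_top_iff_one _).mpr this)
  have hidem : IsIdempotentElem (e i) := he.idem i
  have hmul : e i * (1 - e i) = 0 := by rw [mul_sub, mul_one, hidem.eq, sub_self]
  have h1e : 1 - e i ∈ m.asIdeal := by
    have : e i * (1 - e i) ∈ m.asIdeal := by rw [hmul]; exact zero_mem _
    exact (m.isPrime.mem_or_mem this).resolve_left hi
  haveI := hloc i
  refine ⟨PrimeSpectrum.basicOpen (e i),
    PrimeSpectrum.isClopen_basicOpen_of_mul_add (e i) (1 - e i) hmul (by ring), hi, ?_⟩
  intro p hp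
  have hpe : e i ∉ p.asIdeal := hp
  have hle : p ≤ m := by
    intro b hb
    by_contra hbm
    -- `b` is a unit modulo `1 - e i`
    have hu : IsUnit (Ideal.Quotient.mk (Ideal.span {1 - e i}) b) := by
      -- `c b + μ = 1` with `μ ∈ m`
      obtain ⟨c, μ, hμ, hc⟩ := hm.exists_inv hbm
      -- `μ` is a non-unit modulo `1 - e i`
      have hμnu : ¬ IsUnit (Ideal.Quotient.mk (Ideal.span {1 - e i}) μ) := by
        intro hμu
        obtain ⟨d, hd⟩ := hμu.exists_right_inv
        obtain ⟨d, rfl⟩ := Ideal.Quotient.mk_surjective d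
        rw [← map_mul, ← map_one (Ideal.Quotient.mk (Ideal.span {1 - e i})), Ideal.Quotient.eq,
          Ideal.mem_span_singleton'] at hd
        obtain ⟨r, hr⟩ := hd
        have : (1 : B) ∈ m.asIdeal := by
          have h2 : (1 : B) = μ * d - r * (1 - e i) := by rw [hr]; ring
          rw [h2]
          exact sub_mem (Ideal.mul_mem_right _ _ hμ) (Ideal.mul_mem_left _ _ h1e)
        exact hm.ne_top ((Ideal.eq_top_iff_one _).mpr this)
      have h1 : IsUnit (1 - Ideal.Quotient.mk (Ideal.span {1 - e i}) μ) :=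
        IsLocalRing.isUnit_one_sub_self_of_mem_nonunits _ hμnu
      have h2 : Ideal.Quotient.mk (Ideal.span {1 - e i}) c *
          Ideal.Quotient.mk (Ideal.span {1 - e i}) b =
          1 - Ideal.Quotient.mk (Ideal.span {1 - e i}) μ := by
        rw [← map_mul, ← map_one (Ideal.Quotient.mk (Ideal.span {1 - e i})), ← map_sub, ← hc]
        congr 1
        ring
      rw [← h2] at h1
      exact isUnit_of_mul_isUnit_right h1
    obtain ⟨y, hy⟩ := hu.exists_right_inv
    obtain ⟨y, rfl⟩ := Ideal.Quotient.mk_surjective y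
    rw [← map_mul, ← map_one (Ideal.Quotient.mk (Ideal.span {1 - e i})), Ideal.Quotient.eq,
      Ideal.mem_span_singleton'] at hy
    obtain ⟨r, hr⟩ := hy
    have h2 : e i = b * (y * e i) := by
      have h3 : b * y = 1 + r * (1 - e i) := by rw [hr]; ring
      calc e i = (1 + r * (1 - e i)) * e i := by
            rw [add_mul, one_mul, mul_assoc, mul_comm (1 - e i), hmul, mul_zero, add_zero]
        _ = b * (y * e i) := by rw [← h3]; ring
    exact hpe (h2 ▸ Ideal.mul_mem_right _ _ hb)
  exact ((PrimeSpectrum.le_iff_specializes p m).1 hle).mem_open hU hmU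

/-- Transport of clopen neighbourhood bases from the prime spectrum of global sections. -/
theorem clopen_nhds_of_isAffine (X : Scheme.{u}) [IsAffine X]
    (h : ∀ m : PrimeSpectrum Γ(X, ⊤), m.asIdeal.IsMaximal →
      ∀ U : Set (PrimeSpectrum Γ(X, ⊤)), IsOpen U → m ∈ U → ∃ V, IsClopen V ∧ m ∈ V ∧ V ⊆ U)
    (x : X) (hx : IsClosed ({x} : Set X)) (U : X.Opens) (hxU : x ∈ U) :
    ∃ V : X.Opens, IsClopen (V : Set X) ∧ x ∈ V ∧ V ≤ U := by
  let φ : X ≃ₜ PrimeSpectrum Γ(X, ⊤) := Scheme.homeoOfIso X.isoSpec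
  have hmax : (φ x).asIdeal.IsMaximal := by
    rw [← PrimeSpectrum.isClosed_singleton_iff_isMaximal, ← Set.image_singleton]
    exact φ.isClosed_image.2 hx
  obtain ⟨V, hV, hxV, hVU⟩ := h (φ x) hmax (φ '' (U : Set X)) (φ.isOpen_image.2 U.isOpen)
    ⟨x, hxU, rfl⟩
  refine ⟨⟨φ ⁻¹' V, hV.isOpen.preimage φ.continuous⟩, hV.preimage φ.continuous, hxV, ?_⟩
  intro y hy
  obtain ⟨z, hz, hzy⟩ := hVU hy
  rwa [← φ.injective hzy]

/-- The stalks at closed points of an affine scheme finite over a strictly henselian local ring are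
strictly henselian. -/
theorem strictlyHenselian_stalk (R : Type u) [CommRing R] [HenselianLocalRing R]
    [IsSepClosed (IsLocalRing.ResidueField R)] (X : Scheme.{u}) [IsAffine X]
    [Algebra R Γ(X, ⊤)] [Module.Finite R Γ(X, ⊤)] (x : X) (hx : IsClosed ({x} : Set X)) :
    HenselianLocalRing (X.presheaf.stalk x) ∧
      IsSepClosed (IsLocalRing.ResidueField (X.presheaf.stalk x)) := by
  letI : Algebra Γ(X, ⊤) (X.presheaf.stalk x) :=
    TopCat.Presheaf.algebra_section_stalk X.presheaf (⟨x, trivial⟩ : (⊤ : X.Opens))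
  set m := ((isAffineOpen_top X).primeIdealOf ⟨x, trivial⟩).asIdeal with hm
  haveI hmax : m.IsMaximal := (isAffineOpen_top X).primeIdealOf_isMaximal_of_isClosed ⟨x, trivial⟩ hx
  haveI hloc : IsLocalization.AtPrime (X.presheaf.stalk x) m :=
    (isAffineOpen_top X).isLocalization_stalk ⟨x, trivial⟩
  have hsurj0 := Groth.Agent.Lib.Helper69.HensFinite.surjective_algebraMap_atPrime R Γ(X, ⊤) m
  have hsurj : Function.Surjective (algebraMap Γ(X, ⊤) (X.presheaf.stalk x)) := by
    let ε := IsLocalization.algEquiv m.primeCompl (Localization.AtPrime m) (X.presheaf.stalk x)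
    intro z
    obtain ⟨b, hb⟩ := hsurj0 (ε.symm z)
    refine ⟨b, ?_⟩
    have := congrArg ε hb
    rwa [ε.commutes, ε.apply_symm_apply] at this
  letI : Algebra R (X.presheaf.stalk x) :=
    ((algebraMap Γ(X, ⊤) (X.presheaf.stalk x)).comp (algebraMap R Γ(X, ⊤))).toAlgebra
  haveI : IsScalarTower R Γ(X, ⊤) (X.presheaf.stalk x) :=
    IsScalarTower.of_algebraMap_eq fun _ => rfl
  haveI : Algebra.IsIntegral R (X.presheaf.stalk x) :=
    Algebra.IsIntegral.of_surjective (IsScalarTower.toAlgHom R Γ(X, ⊤) (X.presheaf.stalk x)) hsurj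
  exact ⟨Groth.Agent.Lib.Helper69.HensIntegralU.henselianLocalRing_of_isIntegral R _,
    Groth.Agent.Lib.Helper69.HensIntegralU.isSepClosed_residueField_of_isIntegral R _⟩


/-- Let R be a strictly henselian local ring (henselian, with separably closed residue field), let X be
a scheme finite over Spec R and let F be an abelian étale sheaf on X. Then H^j(X_et, F) = 0 for
every j ≥ 1. (The source states this vanishing for the schemes X ×_R Y ×_R ⋯ ×_R Y with Y a further
finite R-scheme; these are again finite over R, so the present form is the whole content.) -/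
theorem result (R : Type u) [CommRing R] [HenselianLocalRing R]
    [IsSepClosed (IsLocalRing.ResidueField R)] (X : Scheme.{u}) (f : X ⟶ Spec (CommRingCat.of R)) [IsFinite f]
    (F : EtCoh.Ab X) (j : ℕ) (hj : 1 ≤ j) : Subsingleton (EtCoh.H X F j) := by
  haveI : IsAffine X := isAffine_of_isAffineHom f
  let φ : CommRingCat.of R ⟶ Γ(X, ⊤) := Spec.preimage (X.isoSpec.inv ≫ f)
  have hφ : Spec.map φ = X.isoSpec.inv ≫ f := Spec.map_preimage _
  have hfin : φ.hom.Finite := by
    rw [← IsFinite.SpecMap_iff, hφ]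
    infer_instance
  letI : Algebra R Γ(X, ⊤) := φ.hom.toAlgebra
  haveI : Module.Finite R Γ(X, ⊤) := hfin
  exact Groth.Agent.Lib.Helper69.EtSplit.H_subsingleton_of_isAffine X
    (fun x hx => strictlyHenselian_stalk R X x hx)
    (fun x hx U hxU => clopen_nhds_of_isAffine X
      (fun m hm U hU hmU => exists_clopen_nhds (R := R) Γ(X, ⊤) m hm U hU hmU) x hx U hxU) F j hj

end Groth.Agent.S19222
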