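import Groth.Statements.S19223
import Mathlib
import Groth.Agent.Lib.Helper1.GrpCohDiv
open CategoryTheory CategoryTheory.Limits

set_option autoImplicit false
attribute [local instance] Units.mulDistribMulActionRight
open GalCoh

namespace Groth.Agent.S19223

/-- For a strictly henselian local ring R whose residue field k has characteristic p ≥ 0, and a finite
group G of order prime to p acting on R by ring automorphisms (hence on the unit groups R^× and
k^×), consider the homomorphism H^n(G, R^×) → H^n(G, k^×) induced by the reduction map. It is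
bijective for every n ≥ 2; it is also bijective for n = 1 provided that p = 0 or the only p-power
root of unity in R is 1. (The reduction map on cohomology is pinned by its values on units; groups,
rings and modules are taken in the lowest universe, as integral coefficients in the group-cohomology
library require.) -/
theorem result (R : Type) [CommRing R]
    [HenselianLocalRing R] [IsSepClosed (IsLocalRing.ResidueField R)] (p : ℕ) [CharP (IsLocalRing.ResidueField R) p]
    (G : Type) [Group G] [Finite G] [MulSemiringAction G R] (hp : ¬ p ∣ Nat.card G)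
    (φ : Rep.ofMulDistribMulAction G Rˣ ⟶ Rep.ofMulDistribMulAction G (IsLocalRing.ResidueField R)ˣ)
    (hφ : ∀ x : Rˣ, Additive.toMul (φ.hom (Additive.ofMul x)) = Units.map (IsLocalRing.residue R).toMonoidHom x)
    (n : ℕ) (hn : 1 ≤ n) (h1 : n = 1 → p ≠ 0 → ∀ (ζ : Rˣ) (m : ℕ), ζ ^ p ^ m = 1 → ζ = 1) :
    Function.Bijective ((groupCohomology.functor ℤ G n).map φ).hom := by
  classical
  have hN0 : Nat.card G ≠ 0 := Nat.card_pos.ne'
  have hNk : ((Nat.card G : ℕ) : IsLocalRing.ResidueField R) ≠ 0 := by
    rwa [Ne, CharP.cast_eq_zero_iff (IsLocalRing.ResidueField R) p]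
  -- surjectivity of φ
  have hsurj : Function.Surjective φ.hom := by
    intro b
    obtain ⟨r, hr⟩ := IsLocalRing.residue_surjective
      (((Additive.toMul (α := (IsLocalRing.ResidueField R)ˣ) b : (IsLocalRing.ResidueField R)ˣ) :
        IsLocalRing.ResidueField R))
    have hru : IsUnit r := by
      rw [← IsLocalRing.residue_ne_zero_iff_isUnit, hr]
      exact Units.ne_zero _
    refine ⟨Additive.ofMul (α := Rˣ) hru.unit, ?_⟩
    apply (Additive.toMul (α := (IsLocalRing.ResidueField R)ˣ)).injective
    refine (hφ hru.unit).trans ?_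
    apply Units.ext
    simp [hr]
  let X : ShortComplex (Rep ℤ G) := ShortComplex.mk (kernel.ι φ) φ (kernel.condition φ)
  have hX : X.ShortExact :=
    { exact := ShortComplex.exact_kernel φ
      mono_f := inferInstanceAs (Mono (kernel.ι φ))
      epi_g := (Rep.epi_iff_surjective φ).2 hsurj }
  have hιinj : Function.Injective (kernel.ι φ).hom :=
    (Rep.mono_iff_injective (kernel.ι φ)).1 inferInstance
  have hιφ : ∀ w : (kernel φ : Rep ℤ G), φ.hom ((kernel.ι φ).hom w) = 0 := by
    intro w
    have := kernel.condition φ
    have h2 := congrArg (fun m => m.hom w) this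
    exact h2
  -- residue of elements of the kernel
  have hres : ∀ w : (kernel φ : Rep ℤ G),
      IsLocalRing.residue R ((Additive.toMul (α := Rˣ) ((kernel.ι φ).hom w) : Rˣ) : R) = 1 := by
    intro w
    have h1 := hφ (Additive.toMul (α := Rˣ) ((kernel.ι φ).hom w))
    have h0 : φ.hom (Additive.ofMul (Additive.toMul (α := Rˣ) ((kernel.ι φ).hom w))) = 0 := hιφ w
    rw [h0] at h1
    have h2 := congrArg (fun u : (IsLocalRing.ResidueField R)ˣ => (u : IsLocalRing.ResidueField R)) h1
    simp only [Units.coe_map, RingHom.toMonoidHom_eq_coe, MonoidHom.coe_coe] at h2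
    rw [← h2]
    rfl
  have hbij : Function.Bijective (fun a : (kernel φ : Rep ℤ G) => Nat.card G • a) := by
    constructor
    · intro w₁ w₂ h
      have h0 : Nat.card G • (w₁ - w₂) = 0 := by
        have : Nat.card G • w₁ = Nat.card G • w₂ := h
        rw [smul_sub, this, sub_self]
      have h1 : Nat.card G • (kernel.ι φ).hom (w₁ - w₂) = 0 := by
        rw [← map_nsmul, h0, map_zero]
      have h2' : (Additive.toMul (α := Rˣ) ((kernel.ι φ).hom (w₁ - w₂))) ^ Nat.card G = 1 :=
        congrArg (Additive.toMul (α := Rˣ)) h1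
      have h2 : ((Additive.toMul (α := Rˣ) ((kernel.ι φ).hom (w₁ - w₂)) : Rˣ) : R) ^ Nat.card G = 1 := by
        rw [← Units.val_pow_eq_pow_val, h2']
        rfl
      have h3 := Groth.Agent.Lib.Helper1.GrpCohDiv.eq_one_of_pow_eq_one (Nat.card G) hNk _
        (hres (w₁ - w₂)) h2
      have h4 : (kernel.ι φ).hom (w₁ - w₂) = 0 := by
        apply (Additive.toMul (α := Rˣ)).injective
        apply Units.ext
        exact h3
      have h5 : w₁ - w₂ = 0 := hιinj (by rw [h4, map_zero])
      exact sub_eq_zero.mp h5
    · intro w
      obtain ⟨y, hy, hy1⟩ := Groth.Agent.Lib.Helper1.GrpCohDiv.exists_pow_eq (Nat.card G) hNk _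
        (hres w)
      have hyu : IsUnit y := by
        rw [← IsLocalRing.residue_ne_zero_iff_isUnit, hy1]
        exact one_ne_zero
      have hφy : φ.hom (Additive.ofMul (α := Rˣ) hyu.unit) = 0 := by
        apply (Additive.toMul (α := (IsLocalRing.ResidueField R)ˣ)).injective
        refine (hφ hyu.unit).trans ?_
        apply Units.ext
        simp only [Units.coe_map, RingHom.toMonoidHom_eq_coe, MonoidHom.coe_coe, IsUnit.unit_spec, hy1]
        rfl
      obtain ⟨w', hw'⟩ := Groth.Agent.Lib.Helper84.GrpCohLim.exists_kernel_lift φ _ hφy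
      refine ⟨w', ?_⟩
      apply hιinj
      change (kernel.ι φ).hom (Nat.card G • w') = _
      rw [map_nsmul, hw']
      apply (Additive.toMul (α := Rˣ)).injective
      apply Units.ext
      change ((hyu.unit ^ Nat.card G : Rˣ) : R) = _
      rw [Units.val_pow_eq_pow_val, IsUnit.unit_spec, hy]
  have hz : ∀ m : ℕ, IsZero (groupCohomology (kernel φ : Rep ℤ G) (m + 1)) := by
    intro m
    have := Groth.Agent.Lib.Helper1.GrpCohDiv.subsingleton_of_card_bijective (kernel φ) hbij m
    exact ModuleCat.isZero_of_subsingleton _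
  obtain ⟨m, rfl⟩ : ∃ m, n = m + 1 := ⟨n - 1, by omega⟩
  have hmono : Mono ((groupCohomology.functor ℤ G (m + 1)).map φ) := by
    have hex := groupCohomology.mapShortComplex₂_exact hX (m + 1)
    exact hex.mono_g ((hz m).eq_of_src _ _)
  have hepi : Epi ((groupCohomology.functor ℤ G (m + 1)).map φ) := by
    have hex := groupCohomology.mapShortComplex₃_exact hX (i := m + 1) (j := m + 2) rfl
    exact hex.epi_f ((hz (m + 1)).eq_of_tgt _ _)
  exact ⟨(ModuleCat.mono_iff_injective _).1 hmono, (ModuleCat.epi_iff_surjective _).1 hepi⟩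

end Groth.Agent.S19223
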