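import Groth.Statements.S19224
import Mathlib
-- import your own Groth.Agent.* helpers here

set_option autoImplicit false
open GalCoh

namespace Groth.Agent.S19224
open CategoryTheory groupCohomology

/-- consequence of `H^3(Q, ℤ) = 0` in terms of explicit cochains -/
theorem exists_of_H3 (Q : Type) [Group Q]
    (hQ : Subsingleton (groupCohomology (Rep.trivial ℤ Q ℤ) 3))
    (F : Q × Q → ℤ) (t : Q × Q × Q → ℤ) (m : ℤ) (hm : m ≠ 0)
    (h : ∀ g, m * t g = d₂₃ (Rep.trivial ℤ Q ℤ) F g) :
    ∃ S : Q × Q → ℤ, d₂₃ (Rep.trivial ℤ Q ℤ) S = t := by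
  set Z := Rep.trivial ℤ Q ℤ with hZ
  set C := inhomogeneousCochains Z with hC
  have hex : (C.sc' 2 3 4).Exact := by
    rw [← HomologicalComplex.exactAt_iff' C 2 3 4 (by simp) (by simp),
      HomologicalComplex.exactAt_iff_isZero_homology]
    have : Subsingleton (C.homology 3) := hQ
    exact ModuleCat.isZero_of_subsingleton _
  rw [ShortComplex.moduleCat_exact_iff] at hex
  let t₃ : C.X 3 := (cochainsIso₃ Z).inv t
  have h1 : m • t₃ = C.d 2 3 ((cochainsIso₂ Z).inv F) := by
    have := eq_d₂₃_comp_inv_apply Z F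
    rw [this]
    change m • (cochainsIso₃ Z).inv t = _
    rw [← map_smul]
    congr 1
    funext g
    exact h g
  have h2 : C.d 3 4 t₃ = 0 := by
    have h3 : m • C.d 3 4 t₃ = 0 := by
      rw [← map_smul, h1, ← ConcreteCategory.comp_apply, C.d_comp_d]
      rfl
    funext g
    have := congrFun h3 g
    have h5 : m * (C.d 3 4 t₃) g = 0 := this
    exact (mul_eq_zero.mp h5).resolve_left hm
  obtain ⟨s, hs⟩ := hex t₃ h2
  refine ⟨(cochainsIso₂ Z).hom s, ?_⟩
  have h4 := congrArg (fun φ => φ s) (congrArg (fun φ => (ConcreteCategory.hom φ : _ → _)) (comp_d₂₃_eq Z))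
  simp only [ConcreteCategory.comp_apply] at h4
  rw [h4]
  have hs' : C.d 2 3 s = t₃ := hs
  rw [hs']
  exact Iso.inv_hom_id_apply (cochainsIso₃ Z) t

theorem d23_apply (Q : Type) [Group Q] (F : Q × Q → ℤ) (g h j : Q) :
    d₂₃ (Rep.trivial ℤ Q ℤ) F (g, h, j) = F (h, j) - F (g * h, j) + F (g, h * j) - F (g, h) := by
  rw [d₂₃_hom_apply]
  simp

section Core
variable {Q : Type} [Group Q] [Fintype Q] {M : Type} [AddCommGroup M]

/-- 2-cocycle condition, trivial action -/
def IsZ2 (f : Q × Q → M) : Prop := ∀ g h j : Q, f (g * h, j) + f (g, h) = f (h, j) + f (g, h * j)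

/-- coboundary of a 1-cochain, trivial action -/
def dOne (x : Q → M) : Q × Q → M := fun p => x p.2 - x (p.1 * p.2) + x p.1

omit [Fintype Q] in
theorem isZ2_dOne (x : Q → M) : IsZ2 (dOne x) := by
  intro g h j
  simp only [dOne, mul_assoc]
  abel

theorem card_smul_eq_dOne {f : Q × Q → M} (hf : IsZ2 f) (p : Q × Q) :
    Fintype.card Q • f p = dOne (fun g => ∑ x : Q, f (g, x)) p := by
  obtain ⟨g, h⟩ := p
  have h1 : ∑ j : Q, (f (g * h, j) + f (g, h)) = ∑ j : Q, (f (h, j) + f (g, h * j)) :=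
    Finset.sum_congr rfl fun j _ => hf g h j
  rw [Finset.sum_add_distrib, Finset.sum_add_distrib, Finset.sum_const, Finset.card_univ] at h1
  have h2 : ∑ j : Q, f (g, h * j) = ∑ j : Q, f (g, j) :=
    Equiv.sum_comp (Equiv.mulLeft h) (fun j => f (g, j))
  rw [h2] at h1
  simp only [dOne]
  rw [eq_sub_of_add_eq' h1]
  abel

/-- the core cocycle computation -/
theorem exists_dOne_eq (hQ : Subsingleton (groupCohomology (Rep.trivial ℤ Q ℤ) 3))
    (hD : ∀ x : M, ∃ y : M, Fintype.card Q • y = x)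
    (ζ : M) (hζ : Fintype.card Q • ζ = 0)
    (hC : ∀ x : M, Fintype.card Q • x = 0 → ∃ i : ℤ, x = i • ζ)
    (f : Q × Q → M) (hf : IsZ2 f) : ∃ x : Q → M, f = dOne x := by
  classical
  set N := Fintype.card Q with hN
  have hNpos : 0 < N := Fintype.card_pos
  -- step 1
  have h1 := card_smul_eq_dOne hf
  choose h' hh' using fun g : Q => hD (∑ x : Q, f (g, x))
  set f' : Q × Q → M := fun p => f p - dOne h' p with hf'
  have hf'Z : IsZ2 f' := by
    intro g h j
    have a := hf g h j
    have b := isZ2_dOne h' g h j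
    simp only [hf']
    calc f (g * h, j) - dOne h' (g * h, j) + (f (g, h) - dOne h' (g, h))
        = (f (g * h, j) + f (g, h)) - (dOne h' (g * h, j) + dOne h' (g, h)) := by abel
      _ = (f (h, j) + f (g, h * j)) - (dOne h' (h, j) + dOne h' (g, h * j)) := by rw [a, b]
      _ = _ := by abel
  have hf'N : ∀ p, N • f' p = 0 := by
    intro p
    simp only [hf', smul_sub]
    rw [h1 p]
    simp only [dOne, smul_add, smul_sub, hh']
    abel
  -- step 2
  choose F hF using fun p : Q × Q => hC (f' p) (hf'N p)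
  -- step 3
  set m : ℤ := (addOrderOf ζ : ℤ) with hm
  have hm0 : m ≠ 0 := by
    have : 0 < addOrderOf ζ := by
      rw [addOrderOf_pos_iff, isOfFinAddOrder_iff_nsmul_eq_zero]
      exact ⟨N, hNpos, hζ⟩
    rw [hm]
    exact_mod_cast this.ne'
  have hmζ : m • ζ = 0 := by
    rw [hm, natCast_zsmul]
    exact addOrderOf_nsmul_eq_zero ζ
  have hdvd : ∀ g : Q × Q × Q, m ∣ d₂₃ (Rep.trivial ℤ Q ℤ) F g := by
    rintro ⟨g, h, j⟩
    rw [d23_apply, hm, addOrderOf_dvd_iff_zsmul_eq_zero]
    have := hf'Z g h j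
    rw [hF (g * h, j), hF (g, h), hF (h, j), hF (g, h * j)] at this
    simp only [sub_smul, add_smul]
    rw [sub_eq_zero]
    have e : F (g, h) • ζ = F (h, j) • ζ + F (g, h * j) • ζ - F (g * h, j) • ζ :=
      eq_sub_iff_add_eq'.mpr this
    rw [e]
    abel
  -- step 4
  obtain ⟨S, hS⟩ := exists_of_H3 Q hQ F (fun g => d₂₃ (Rep.trivial ℤ Q ℤ) F g / m) m hm0
    (fun g => Int.mul_ediv_cancel' (hdvd g))
  set F' : Q × Q → ℤ := fun p => F p - m * S p with hF'
  have hF'Z : IsZ2 F' := by
    intro g h j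
    have e1 := congrFun hS (g, h, j)
    rw [d23_apply] at e1
    have e2 := Int.mul_ediv_cancel' (hdvd (g, h, j))
    rw [← e1, d23_apply] at e2
    simp only [hF']
    linarith
  have hF'ζ : ∀ p, F' p • ζ = f' p := by
    intro p
    simp only [hF', sub_smul, mul_smul]
    rw [smul_comm, hmζ, smul_zero, sub_zero, ← hF p]
  -- step 5
  have h2 := card_smul_eq_dOne hF'Z
  obtain ⟨ξ, hξ⟩ := hD ζ
  refine ⟨fun g => (∑ x : Q, F' (g, x)) • ξ + h' g, ?_⟩
  funext p
  have h3 : f' p = dOne (fun g => (∑ x : Q, F' (g, x)) • ξ) p := by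
    rw [← hF'ζ p, ← hξ, ← natCast_zsmul, smul_smul, mul_comm, ← nsmul_eq_mul, h2 p]
    simp only [dOne, sub_smul, add_smul]
  have h4 : f p = f' p + dOne h' p := by simp only [hf']; abel
  rw [h4, h3]
  simp only [dOne]
  abel

end Core
theorem d12_apply (Q : Type) [Group Q] (M : Type) [AddCommGroup M] (x : Q → M) (g h : Q) :
    d₁₂ (Rep.trivial ℤ Q M) x (g, h) = x h - x (g * h) + x g := by
  rw [d₁₂_hom_apply]
  simp

theorem mem_cocycles2 (Q : Type) [Group Q] (M : Type) [AddCommGroup M] (f : Q × Q → M) :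
    f ∈ cocycles₂ (Rep.trivial ℤ Q M) ↔
      ∀ g h j : Q, f (g * h, j) + f (g, h) = f (h, j) + f (g, h * j) := by
  rw [mem_cocycles₂_iff]
  simp


/-- Let Q be a finite group such that H^3(Q, ℤ) = 0 for the trivial action, and let k be a separably
closed field of characteristic p ≥ 0 with p not dividing the order of Q. Then H^2(Q, k^×) = 0, where
Q acts trivially on the units of k. (Groups and fields are taken in the lowest universe, as integral
coefficients in the group-cohomology library require.) -/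
theorem result (Q : Type) [Group Q] [Finite Q]
    (hQ : Subsingleton (groupCohomology (Rep.trivial ℤ Q ℤ) 3)) (k : Type) [Field k] [IsSepClosed k]
    (p : ℕ) [CharP k p] (hp : ¬ p ∣ Nat.card Q) :
    Subsingleton (groupCohomology (Rep.trivial ℤ Q (Additive kˣ)) 2) := by
  have := Fintype.ofFinite Q
  have hcard : Nat.card Q = Fintype.card Q := Nat.card_eq_fintype_card
  rw [hcard] at hp
  have hN0 : Fintype.card Q ≠ 0 := Fintype.card_ne_zero
  have hNk : NeZero (Fintype.card Q : k) := ⟨by rwa [Ne, CharP.cast_eq_zero_iff k p]⟩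
  have hD : ∀ x : Additive kˣ, ∃ y : Additive kˣ, Fintype.card Q • y = x := by
    intro x
    obtain ⟨z, hz⟩ := IsSepClosed.exists_pow_nat_eq ((Additive.toMul x : kˣ) : k) (Fintype.card Q)
    have hz0 : z ≠ 0 := by
      rintro rfl
      rw [zero_pow hN0] at hz
      exact (Additive.toMul x : kˣ).ne_zero hz.symm
    refine ⟨Additive.ofMul (Units.mk0 z hz0), ?_⟩
    apply Additive.toMul.injective
    apply Units.ext
    simp [hz]
  obtain ⟨ζ', hζ'⟩ := IsCyclic.exists_generator (α := rootsOfUnity (Fintype.card Q) k)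
  have hζ : Fintype.card Q • (Additive.ofMul (ζ' : kˣ)) = 0 := by
    apply Additive.toMul.injective
    simp only [toMul_nsmul, toMul_ofMul, toMul_zero]
    exact (mem_rootsOfUnity _ _).mp ζ'.2
  have hC : ∀ x : Additive kˣ, Fintype.card Q • x = 0 →
      ∃ i : ℤ, x = i • (Additive.ofMul (ζ' : kˣ)) := by
    intro x hx
    have hx' : (Additive.toMul x : kˣ) ∈ rootsOfUnity (Fintype.card Q) k := by
      rw [mem_rootsOfUnity]
      have := congrArg Additive.toMul hx
      simpa using this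
    obtain ⟨i, hi⟩ := Subgroup.mem_zpowers_iff.mp (hζ' ⟨_, hx'⟩)
    refine ⟨i, ?_⟩
    apply Additive.toMul.injective
    have := congrArg Subtype.val hi
    simp only [toMul_zsmul, toMul_ofMul]
    rw [Subgroup.coe_zpow] at this
    exact this.symm
  refine ⟨fun a b => ?_⟩
  suffices h : ∀ a : groupCohomology (Rep.trivial ℤ Q (Additive kˣ)) 2, a = 0 by rw [h a, h b]
  intro a
  induction a using H2_induction_on with
  | h x =>
    rw [H2π_eq_zero_iff]
    obtain ⟨y, hy⟩ := exists_dOne_eq hQ hD _ hζ hC x.1 ((mem_cocycles2 Q _ x.1).mp x.2)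
    refine ⟨y, ?_⟩
    funext q
    obtain ⟨g, h⟩ := q
    rw [d12_apply]
    exact (congrFun hy (g, h)).symm


end Groth.Agent.S19224
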