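import Groth.Statements.S19230
import Groth.Agent.Lib.Helper6.SigmaLin

set_option autoImplicit false
universe u v
open SigmaLin

namespace Groth.Agent.S19230


open Groth.Agent.Lib.Helper6.SigmaLin

section aux

variable {k : Type u} [Field k] {σ : k →+* k} {V : Type v} [AddCommGroup V] [Module k V]
  (T : V →ₛₗ[σ] V)

theorem iterate_smul (n : ℕ) : ∀ (c : k) (v : V),
    (⇑T)^[n] (c • v) = ((⇑σ)^[n] c) • (⇑T)^[n] v := by
  induction n with
  | zero => intro c v; rfl
  | succ n ih =>
    intro c v
    rw [Function.iterate_succ_apply, map_smulₛₗ, ih, Function.iterate_succ_apply,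
      Function.iterate_succ_apply]

def K (n : ℕ) : Submodule k V where
  carrier := {v | (⇑T)^[n] v = 0}
  zero_mem' := iterate_map_zero T n
  add_mem' := by
    intro a b ha hb
    change (⇑T)^[n] (a + b) = 0
    rw [iterate_map_add, ha, hb, add_zero]
  smul_mem' := by
    intro c v hv
    change (⇑T)^[n] (c • v) = 0
    rw [iterate_smul, hv, smul_zero]

theorem mem_K {n : ℕ} {v : V} : v ∈ K T n ↔ (⇑T)^[n] v = 0 := Iff.rfl

theorem K_mono : Monotone (K T) := by
  apply monotone_nat_of_le_succ
  intro n v hv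
  rw [mem_K] at hv ⊢
  rw [Function.iterate_succ_apply', hv, map_zero]

theorem mem_W_iff (hσ : Function.Surjective σ) (n : ℕ) (v : V) :
    v ∈ W T n ↔ ∃ u, (⇑T)^[n] u = v := by
  constructor
  · intro hv
    induction hv using Submodule.span_induction with
    | mem x hx => exact hx
    | zero => exact ⟨0, iterate_map_zero T n⟩
    | add x y _ _ hx hy =>
      obtain ⟨a, rfl⟩ := hx
      obtain ⟨b, rfl⟩ := hy
      exact ⟨a + b, iterate_map_add T n a b⟩
    | smul c x _ hx =>
      obtain ⟨a, rfl⟩ := hx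
      obtain ⟨c', rfl⟩ := Function.Surjective.iterate hσ n c
      exact ⟨c' • a, iterate_smul T n c' a⟩
  · rintro ⟨u, rfl⟩
    exact Submodule.subset_span ⟨u, rfl⟩

theorem iInf_W_eq [FiniteDimensional k V] {N : ℕ} (hN : ∀ m, N ≤ m → W T N = W T m) :
    (⨅ n : ℕ, W T n) = W T N := by
  apply le_antisymm (iInf_le _ N)
  refine le_iInf fun n => ?_
  rcases le_total n N with h | h
  · exact W_antitone T h
  · exact (hN n h).le

end aux

/-- Let k be a field, σ a surjective ring endomorphism of k, V a finite-dimensional k-vector space and T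
: V → V additive with T (c • v) = σ c • T v. Then the set of vectors killed by some iterate of T is
a k-subspace on which a single iterate of T vanishes, it is a complement of the intersection over n
of the k-spans of the images of the n-th iterates, and T restricts to a bijection of that
intersection onto itself. -/
theorem result
    (k : Type u) [Field k] (σ : k →+* k) (hσ : Function.Surjective σ)
    (V : Type v) [AddCommGroup V] [Module k V] [FiniteDimensional k V] (T : V →ₛₗ[σ] V) :
    (∃ W : Submodule k V, (W : Set V) = {v : V | ∃ n : ℕ, (⇑T)^[n] v = 0} ∧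
      (∃ N : ℕ, ∀ v ∈ W, (⇑T)^[N] v = 0) ∧
      IsCompl W (⨅ n : ℕ, Submodule.span k (Set.range ((⇑T)^[n])))) ∧
    Set.BijOn (⇑T) (⋂ n : ℕ, (Submodule.span k (Set.range ((⇑T)^[n])) : Set V))
      (⋂ n : ℕ, (Submodule.span k (Set.range ((⇑T)^[n])) : Set V)) := by
  obtain ⟨N2, hN2⟩ := stab T
  obtain ⟨hstab1, hstab2⟩ := stable_spec T hN2
  obtain ⟨N1, hN1⟩ := monotone_stabilizes_iff_noetherian.2 (inferInstance : IsNoetherian k V)
    ⟨K T, K_mono T⟩
  have hInf : (⨅ n : ℕ, Submodule.span k (Set.range ((⇑T)^[n]))) = W T N2 := iInf_W_eq T hN2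
  have hInter : (⋂ n : ℕ, (Submodule.span k (Set.range ((⇑T)^[n])) : Set V)) = (W T N2 : Set V) := by
    rw [← hInf, Submodule.coe_iInf]
  refine ⟨⟨K T N1, ?_, ⟨N1, fun v hv => hv⟩, ?_⟩, ?_⟩
  · ext v
    constructor
    · intro hv
      exact ⟨N1, hv⟩
    · rintro ⟨n, hn⟩
      have h1 : v ∈ K T (max n N1) := K_mono T (le_max_left n N1) hn
      have h2 : K T N1 = K T (max n N1) := hN1 _ (le_max_right n N1)
      change v ∈ K T N1
      rw [h2]
      exact h1
  · rw [hInf]
    constructor
    · rw [Submodule.disjoint_def]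
      intro x hx hx'
      exact eq_zero_of_iterate T (W T N2) hstab1 hstab2 N1 hx' hx
    · rw [codisjoint_iff, Submodule.eq_top_iff']
      intro x
      have h1 : (⇑T)^[N2] x ∈ W T N2 := Submodule.subset_span ⟨x, rfl⟩
      rw [hN2 (N2 + N2) (Nat.le_add_right _ _), mem_W_iff T hσ] at h1
      obtain ⟨u, hu⟩ := h1
      rw [Function.iterate_add_apply] at hu
      rw [Submodule.mem_sup]
      refine ⟨x - (⇑T)^[N2] u, ?_, (⇑T)^[N2] u, Submodule.subset_span ⟨u, rfl⟩, by abel⟩
      have h3 : x - (⇑T)^[N2] u ∈ K T N2 := by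
        rw [mem_K, iterate_map_sub, hu, sub_self]
      have h4 : K T N1 = K T (max N2 N1) := hN1 _ (le_max_right N2 N1)
      rw [h4]
      exact K_mono T (le_max_left N2 N1) h3
  · rw [hInter]
    refine ⟨?_, ?_, ?_⟩
    · intro v hv
      exact hstab1 v hv
    · intro v hv w hw h
      have h1 : T (v - w) = 0 := by rw [map_sub, h, sub_self]
      have h2 := eq_zero_of_map_eq_zero T (W T N2) hstab1 hstab2 (sub_mem hv hw) h1
      exact sub_eq_zero.1 h2
    · intro w hw
      have hw' : w ∈ W T (N2 + 1) := by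
        rw [← hN2 (N2 + 1) (Nat.le_succ _)]
        exact hw
      rw [mem_W_iff T hσ] at hw'
      obtain ⟨u, hu⟩ := hw'
      rw [Function.iterate_succ_apply'] at hu
      exact ⟨(⇑T)^[N2] u, Submodule.subset_span ⟨u, rfl⟩, hu⟩

end Groth.Agent.S19230
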