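import Groth.Statements.S19232
import Mathlib
-- import your own Groth.Agent.* helpers here

set_option autoImplicit false
universe u v
open SigmaLin

namespace Groth.Agent.S19232

/-- recursive coefficients -/
def coef {k : Type u} [Field k] (σ : k →+* k) (x : k) (b' : ℕ → k) : ℕ → k
  | 0 => σ x * b' 0
  | (j + 1) => σ (coef σ x b' j) + σ x * b' (j + 1)

theorem coef_closed {k : Type u} [Field k] (σ : k →+* k) (x : k) (b' : ℕ → k) (j : ℕ) :
    coef σ x b' j = ∑ i ∈ Finset.range (j + 1), (⇑σ)^[i + 1] x * (⇑σ)^[i] (b' (j - i)) := by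
  induction j with
  | zero => simp [coef]
  | succ j ih =>
    rw [coef, ih, Finset.sum_range_succ' _ (j + 1), map_sum]
    simp only [Function.iterate_zero, id_eq, Nat.sub_zero, zero_add, Function.iterate_one]
    congr 1
    apply Finset.sum_congr rfl
    intro i _
    rw [map_mul, ← Function.iterate_succ_apply' (⇑σ), ← Function.iterate_succ_apply' (⇑σ),
      Nat.add_sub_add_right]

theorem key {k : Type u} [Field k] (σ : k →+* k)
    {V : Type v} [AddCommGroup V] [Module k V] (T : V →ₛₗ[σ] V)
    (e : V) (n : ℕ) (b' : ℕ → k) (x : k)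
    (hrel : (⇑T)^[n + 1] e = ∑ j ∈ Finset.range (n + 1), b' j • (⇑T)^[j] e)
    (hx : coef σ x b' n = x) :
    T (∑ j ∈ Finset.range (n + 1), coef σ x b' j • (⇑T)^[j] e) =
      ∑ j ∈ Finset.range (n + 1), coef σ x b' j • (⇑T)^[j] e := by
  rw [map_sum]
  simp only [LinearMap.map_smulₛₗ, ← Function.iterate_succ_apply' (⇑T)]
  rw [Finset.sum_range_succ, hx, hrel, Finset.smul_sum]
  conv_rhs => rw [Finset.sum_range_succ']
  rw [Finset.sum_range_succ' (fun j => σ x • b' j • (⇑T)^[j] e)]
  simp only [coef, add_smul, Finset.sum_add_distrib, smul_smul]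
  abel

/-- Let k be a field with a ring endomorphism σ, and assume that for every n and every tuple (b_0, …,
b_n) of elements of k, not all zero, the equation x = Σ_{i=0}^{n} σ^{i+1}(x) σ^{i}(b_{n-i}) has a
nonzero solution x in k. Let V be a finite-dimensional k-vector space, T : V → V additive with T (c
• v) = σ c • T v, and e ∈ V a vector no iterate of T sends to 0. Then the k-span of the orbit e, T
e, T² e, … contains a nonzero vector v with T v = v. -/
theorem result
    (k : Type u) [Field k] (σ : k →+* k)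
    (V : Type v) [AddCommGroup V] [Module k V] [FiniteDimensional k V] (T : V →ₛₗ[σ] V)
    (h2 : ∀ (n : ℕ) (b : Fin (n + 1) → k), b ≠ 0 →
      ∃ x : k, x ≠ 0 ∧ x = ∑ i : Fin (n + 1), (⇑σ)^[i.val + 1] x * (⇑σ)^[i.val] (b (Fin.rev i)))
    (e : V) (he : ∀ m : ℕ, (⇑T)^[m] e ≠ 0) :
    ∃ v ∈ Submodule.span k (Set.range (fun m : ℕ => (⇑T)^[m] e)), v ≠ 0 ∧ T v = v := by
  classical
  set w : ℕ → V := fun m => (⇑T)^[m] e with hw
  have hex : ∃ N : ℕ, ¬ LinearIndependent k (fun i : Fin (N + 1) => w i) := by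
    refine ⟨Module.finrank k V, fun h => ?_⟩
    have := h.fintype_card_le_finrank
    simp at this
  have hN0 : Nat.find hex ≠ 0 := by
    intro h0
    have h1 := Nat.find_spec hex
    rw [h0] at h1
    apply h1
    haveI : Unique (Fin (0 + 1)) := inferInstanceAs (Unique (Fin 1))
    rw [linearIndependent_unique_iff]
    exact he _
  obtain ⟨n, hn⟩ := Nat.exists_eq_succ_of_ne_zero hN0
  have hli : LinearIndependent k (fun i : Fin (n + 1) => w i) := by
    have := Nat.find_min hex (m := n) (by omega)
    exact not_not.mp this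
  have hdep : ¬ LinearIndependent k (fun i : Fin (n + 1 + 1) => w i) := by
    have := Nat.find_spec hex
    rwa [hn] at this
  rw [linearIndependent_finSucc'] at hdep
  have hmem : w (n + 1) ∈ Submodule.span k (Set.range (fun i : Fin (n + 1) => w i)) := by
    by_contra hcon
    exact hdep ⟨hli, hcon⟩
  obtain ⟨b, hb⟩ := (Submodule.mem_span_range_iff_exists_fun k).mp hmem
  have hb0 : b ≠ 0 := by
    rintro rfl
    simp at hb
    exact he (n + 1) hb.symm
  obtain ⟨x, hx0, hx⟩ := h2 n b hb0
  set b' : ℕ → k := fun j => if h : j < n + 1 then b ⟨j, h⟩ else 0 with hb'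
  have hrel : (⇑T)^[n + 1] e = ∑ j ∈ Finset.range (n + 1), b' j • (⇑T)^[j] e := by
    rw [← Fin.sum_univ_eq_sum_range (fun j => b' j • (⇑T)^[j] e) (n + 1)]
    rw [show (⇑T)^[n + 1] e = w (n + 1) from rfl, ← hb]
    apply Finset.sum_congr rfl
    intro i _
    have hi : (i : ℕ) < n + 1 := i.isLt
    simp only [hb', hi, dif_pos, hw, Fin.eta]
  have hxn : coef σ x b' n = x := by
    rw [coef_closed, ← Fin.sum_univ_eq_sum_range
      (fun i => (⇑σ)^[i + 1] x * (⇑σ)^[i] (b' (n - i))) (n + 1)]
    conv_rhs => rw [hx]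
    apply Finset.sum_congr rfl
    intro i _
    congr 2
    have : n - i.val < n + 1 := by omega
    simp only [hb', this, dif_pos]
    congr 1
    apply Fin.ext
    simp only [Fin.val_rev]
    omega
  refine ⟨∑ j ∈ Finset.range (n + 1), coef σ x b' j • (⇑T)^[j] e, ?_, ?_, key σ T e n b' x hrel hxn⟩
  · apply Submodule.sum_mem
    intro j _
    exact Submodule.smul_mem _ _ (Submodule.subset_span ⟨j, rfl⟩)
  · intro h0
    rw [← Fin.sum_univ_eq_sum_range (fun j => coef σ x b' j • (⇑T)^[j] e) (n + 1)] at h0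
    have := (Fintype.linearIndependent_iff.mp hli) (fun i => coef σ x b' i) h0 (Fin.last n)
    simp only [Fin.val_last] at this
    rw [hxn] at this
    exact hx0 this

end Groth.Agent.S19232
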