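import Groth.Statements.S19233
import Groth.Agent.S19232
import Groth.Agent.Lib.Helper83.SigmaLin
-- import your own Groth.Agent.* helpers here

set_option autoImplicit false
universe u v
open SigmaLin

namespace Groth.Agent.S19233

open Groth.Agent.Lib.Helper83.SigmaLin

theorem fixedSpan_eq_top (k : Type u) [Field k] (σ : k →+* k)
    (V : Type v) [AddCommGroup V] [Module k V] [FiniteDimensional k V] (T : V →ₛₗ[σ] V)
    (h1 : Submodule.span k (Set.range ⇑T) = ⊤)
    (h2 : ∀ (n : ℕ) (b : Fin (n + 1) → k), b ≠ 0 →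
      ∃ x : k, x ≠ 0 ∧ x = ∑ i : Fin (n + 1), (⇑σ)^[i.val + 1] x * (⇑σ)^[i.val] (b (Fin.rev i)))
    (h3 : ∀ c : k, ∃ y : k, σ y - y + c = 0) : fixedSpan T = ⊤ := by
  by_contra hne
  have hnt : Nontrivial (V ⧸ fixedSpan T) := Submodule.Quotient.nontrivial_iff.mpr hne
  have h1q : Submodule.span k (Set.range ⇑((fixedSpan T).mapQ (fixedSpan T) T
      (fixedSpan_le_comap T))) = ⊤ := by
    rw [eq_top_iff]
    rintro x -
    obtain ⟨x, rfl⟩ := (fixedSpan T).mkQ_surjective x
    have hx : x ∈ Submodule.span k (Set.range ⇑T) := by rw [h1]; trivial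
    have hmem : (fixedSpan T).mkQ x ∈
        Submodule.map (fixedSpan T).mkQ (Submodule.span k (Set.range ⇑T)) :=
      Submodule.mem_map_of_mem hx
    rw [Submodule.map_span] at hmem
    refine Submodule.span_mono ?_ hmem
    rintro _ ⟨_, ⟨y, rfl⟩, rfl⟩
    exact ⟨(fixedSpan T).mkQ y, rfl⟩
  obtain ⟨e, he⟩ := exists_non_nilpotent _ h1q
  obtain ⟨vq, -, hv0, hvfix⟩ := Groth.Agent.S19232.result k σ (V ⧸ fixedSpan T) _ h2 e he
  obtain ⟨x, rfl⟩ := (fixedSpan T).mkQ_surjective vq
  have hsub : T x - x ∈ fixedSpan T := by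
    have h4 : (fixedSpan T).mkQ (T x) = (fixedSpan T).mkQ x := hvfix
    rw [← sub_eq_zero, ← map_sub, Submodule.mkQ_apply, Submodule.Quotient.mk_eq_zero] at h4
    exact h4
  obtain ⟨x', hx'fix, hx'⟩ := exists_fixed_of_sub_mem T h3 x hsub
  apply hv0
  have hx'W : x' ∈ fixedSpan T := Submodule.subset_span hx'fix
  have hxW : x ∈ fixedSpan T := by
    have := (fixedSpan T).sub_mem hx'W hx'
    simpa using this
  simpa using hxW

theorem exists_fixed_basis (k : Type u) [Field k] (σ : k →+* k)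
    (V : Type v) [AddCommGroup V] [Module k V] [FiniteDimensional k V] (T : V →ₛₗ[σ] V)
    (h : fixedSpan T = ⊤) :
    ∃ b : Module.Basis (Fin (Module.finrank k V)) k V, ∀ i, T (b i) = b i := by
  obtain ⟨s, hsF, hspan, hli⟩ := exists_linearIndependent k {x : V | T x = x}
  have hsp : ⊤ ≤ Submodule.span k (Set.range ((↑) : s → V)) := by
    rw [Subtype.range_coe, hspan]
    exact h.ge
  let B := Module.Basis.mk hli hsp
  let eqv := B.indexEquiv (Module.finBasis k V)
  refine ⟨B.reindex eqv, fun i => ?_⟩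
  rw [Module.Basis.reindex_apply, Module.Basis.mk_apply]
  exact hsF (eqv.symm i).2

/-- Let k be a field with a ring endomorphism σ such that (i) for every n and every tuple (b_0, …, b_n)
in k, not all zero, the equation x = Σ_{i=0}^{n} σ^{i+1}(x) σ^{i}(b_{n-i}) has a nonzero solution x
in k, and (ii) for every c in k there is y in k with σ(y) − y + c = 0. Let V be a finite-dimensional
k-vector space and T : V → V additive with T (c • v) = σ c • T v, such that the image of T spans V
over k. Then V admits a k-basis consisting of vectors fixed by T, and the map v ↦ v − T v is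
surjective. -/
theorem result
    (k : Type u) [Field k] (σ : k →+* k)
    (V : Type v) [AddCommGroup V] [Module k V] [FiniteDimensional k V] (T : V →ₛₗ[σ] V)
    (h1 : Submodule.span k (Set.range ⇑T) = ⊤)
    (h2 : ∀ (n : ℕ) (b : Fin (n + 1) → k), b ≠ 0 →
      ∃ x : k, x ≠ 0 ∧ x = ∑ i : Fin (n + 1), (⇑σ)^[i.val + 1] x * (⇑σ)^[i.val] (b (Fin.rev i)))
    (h3 : ∀ c : k, ∃ y : k, σ y - y + c = 0) :
    (∃ b : Module.Basis (Fin (Module.finrank k V)) k V, ∀ i, T (b i) = b i) ∧
    Function.Surjective (fun v : V => v - T v) := by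
  have htop := fixedSpan_eq_top k σ V T h1 h2 h3
  refine ⟨exists_fixed_basis k σ V T htop, ?_⟩
  intro x
  have hx : x ∈ fixedSpan T := by rw [htop]; trivial
  obtain ⟨z, -, hz⟩ := sub_surj_on_fixedSpan T h3 x hx 1
  exact ⟨z, by simpa using hz⟩

end Groth.Agent.S19233
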