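import Groth.Statements.S19234
import Groth.Agent.S19233
import Groth.Agent.Lib.Helper83.SigmaLin
-- import your own Groth.Agent.* helpers here

set_option autoImplicit false
universe u v
open SigmaLin

namespace Groth.Agent.S19234

open Groth.Agent.Lib.Helper83.SigmaLin

theorem main (k : Type u) [Field k] (σ : k →+* k)
    (V : Type v) [AddCommGroup V] [Module k V] [FiniteDimensional k V] (T : V →ₛₗ[σ] V)
    (h2 : ∀ (n : ℕ) (b : Fin (n + 1) → k), b ≠ 0 →
      ∃ x : k, x ≠ 0 ∧ x = ∑ i : Fin (n + 1), (⇑σ)^[i.val + 1] x * (⇑σ)^[i.val] (b (Fin.rev i)))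
    (h3 : ∀ c : k, ∃ y : k, σ y - y + c = 0)
    (W : Submodule k V) (hW : W = ⨅ n : ℕ, Submodule.span k (Set.range ((⇑T)^[n]))) :
    Function.Surjective (fun x : V => x - T x) ∧
    ∃ b : Module.Basis (Fin (Module.finrank k ↥W)) k ↥W, ∀ i, T (b i : V) = (b i : V) := by
  obtain ⟨N, hN, hN1⟩ := exists_iInf_spanIter_eq T
  rw [← hW] at hN
  have hstab : ∀ x ∈ W, T x ∈ W := by
    intro x hx
    rw [hN] at hx ⊢
    rw [hN1]
    exact map_mem_spanIter_succ T N x hx
  have h1 : Submodule.span k (Set.range ⇑(T.restrict hstab)) = ⊤ := by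
    rw [eq_top_iff]
    rintro ⟨x, hx⟩ -
    have hle : W ≤ Submodule.map W.subtype (Submodule.span k (Set.range ⇑(T.restrict hstab))) := by
      rw [Submodule.map_span]
      conv_lhs => rw [hN, hN1]
      apply Submodule.span_mono
      rintro _ ⟨y, rfl⟩
      have hy : (⇑T)^[N] y ∈ W := by
        rw [hN]
        exact Submodule.subset_span ⟨y, rfl⟩
      refine ⟨T.restrict hstab ⟨(⇑T)^[N] y, hy⟩, ⟨_, rfl⟩, ?_⟩
      simp only [Submodule.subtype_apply, LinearMap.coe_restrict_apply]
      exact (Function.iterate_succ_apply' _ _ _).symm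
    obtain ⟨y, hy, hyx⟩ := hle hx
    have : y = ⟨x, hx⟩ := Subtype.ext hyx
    rw [← this]
    exact hy
  obtain ⟨⟨b, hb⟩, hsurj⟩ := Groth.Agent.S19233.result k σ W (T.restrict hstab) h1 h2 h3
  refine ⟨?_, b, fun i => ?_⟩
  · intro x
    have hx : (⇑T)^[N] x ∈ W := by
      rw [hN]
      exact Submodule.subset_span ⟨x, rfl⟩
    obtain ⟨z, hz⟩ := hsurj ⟨(⇑T)^[N] x, hx⟩
    have hz' : (z : V) - T (z : V) = (⇑T)^[N] x := by
      have := congrArg Subtype.val hz
      simpa using this
    refine ⟨(∑ i ∈ Finset.range N, (⇑T)^[i] x) + z, ?_⟩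
    have htel := telescope T N x
    show (∑ i ∈ Finset.range N, (⇑T)^[i] x) + z - T ((∑ i ∈ Finset.range N, (⇑T)^[i] x) + z) = x
    rw [map_add]
    have : ∑ i ∈ Finset.range N, (⇑T)^[i] x + ↑z -
        (T (∑ i ∈ Finset.range N, (⇑T)^[i] x) + T ↑z) =
        (∑ i ∈ Finset.range N, (⇑T)^[i] x - T (∑ i ∈ Finset.range N, (⇑T)^[i] x)) +
        ((z : V) - T (z : V)) := by abel
    rw [this, htel, hz']
    abel
  · have := congrArg Subtype.val (hb i)
    simpa using this

/-- Let k be a field with a surjective ring endomorphism σ such that (i) for every n and every tuple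
(b_0, …, b_n) in k, not all zero, the equation x = Σ_{i=0}^{n} σ^{i+1}(x) σ^{i}(b_{n-i}) has a
nonzero solution x in k, and (ii) for every c in k there is y with σ(y) − y + c = 0. Let V be a
finite-dimensional k-vector space and T : V → V additive with T (c • v) = σ c • T v (no further
condition on T). Then v ↦ v − T v is surjective on V, and the intersection over n of the k-spans of
the images of the iterates of T (the part of V on which T is bijective) admits a k-basis of vectors
fixed by T; in particular the fixed vectors of T span that intersection over k. -/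
theorem result
    (k : Type u) [Field k] (σ : k →+* k) (hσ : Function.Surjective σ)
    (V : Type v) [AddCommGroup V] [Module k V] [FiniteDimensional k V] (T : V →ₛₗ[σ] V)
    (h2 : ∀ (n : ℕ) (b : Fin (n + 1) → k), b ≠ 0 →
      ∃ x : k, x ≠ 0 ∧ x = ∑ i : Fin (n + 1), (⇑σ)^[i.val + 1] x * (⇑σ)^[i.val] (b (Fin.rev i)))
    (h3 : ∀ c : k, ∃ y : k, σ y - y + c = 0) :
    Function.Surjective (fun v : V => v - T v) ∧
    ∃ b : Module.Basis (Fin (Module.finrank k ↥(⨅ n : ℕ, Submodule.span k (Set.range ((⇑T)^[n]))))) k ↥(⨅ n : ℕ, Submodule.span k (Set.range ((⇑T)^[n]))),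
      ∀ i, T (b i : V) = (b i : V) := by
  exact main k σ V T h2 h3 _ rfl

end Groth.Agent.S19234
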