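import Groth.Statements.S19235
import Groth.Agent.S19234
-- import your own Groth.Agent.* helpers here

set_option autoImplicit false
universe u v
open SigmaLin

namespace Groth.Agent.S19235

open IsLocalRing

section
variable {p : ℕ} {R : Type u} [CommRing R] [IsLocalRing R]
  (hmax : IsLocalRing.maximalIdeal R = Ideal.span {(p : R)})
  {σ : R →+* R} {M : Type v} [AddCommGroup M] [Module R M] (T : M →ₛₗ[σ] M)

include hmax in
theorem mem_smul_top_iff (x : M) :
    x ∈ (maximalIdeal R • ⊤ : Submodule R M) ↔ ∃ y : M, x = (p : R) • y := by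
  rw [hmax, Submodule.ideal_span_singleton_smul, Submodule.mem_smul_pointwise_iff_exists]
  constructor
  · rintro ⟨y, -, rfl⟩; exact ⟨y, rfl⟩
  · rintro ⟨y, rfl⟩; exact ⟨y, trivial, rfl⟩

include hmax in
theorem smul_top_le_comap :
    (maximalIdeal R • ⊤ : Submodule R M) ≤ (maximalIdeal R • ⊤ : Submodule R M).comap T := by
  intro x hx
  obtain ⟨y, rfl⟩ := (mem_smul_top_iff hmax x).mp hx
  rw [Submodule.mem_comap, LinearMap.map_smulₛₗ, map_natCast]
  exact (mem_smul_top_iff hmax _).mpr ⟨T y, rfl⟩

end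

theorem lift_step {p : ℕ} {R : Type u} [CommRing R]
    {σ : R →+* R} {M : Type v} [AddCommGroup M] [Module R M] (T : M →ₛₗ[σ] M)
    (hbase : ∀ m : M, ∃ y m' : M, m = (y - T y) + (p : R) • m') (j : ℕ) :
    ∀ m : M, ∃ y m' : M, m = (y - T y) + ((p : R) ^ j) • m' := by
  induction j with
  | zero => intro m; exact ⟨0, m, by simp⟩
  | succ j ih =>
    intro m
    obtain ⟨x, m', hm⟩ := ih m
    obtain ⟨y, m'', hm'⟩ := hbase m'
    refine ⟨x + ((p : R) ^ j) • y, m'', ?_⟩
    have hT : T (((p : R) ^ j) • y) = ((p : R) ^ j) • T y := by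
      rw [LinearMap.map_smulₛₗ, map_pow, map_natCast]
    rw [map_add, hT, hm, hm', smul_add, smul_sub, pow_succ, mul_smul]
    abel

/-- Let p be a prime number and R a local ring whose maximal ideal is generated by p and in which p^n =
0 for some n. Let σ be a ring endomorphism of R and σ̄ the induced endomorphism of the residue field
k = R/(p); assume σ̄ is surjective, that for every m and every tuple (b_0, …, b_m) in k, not all
zero, the equation x = Σ_{i=0}^{m} σ̄^{i+1}(x) σ̄^{i}(b_{m-i}) has a nonzero solution x in k, and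
that for every c in k there is y with σ̄(y) − y + c = 0. Let M be a finitely generated R-module and
T : M → M additive with T (r • m) = σ r • T m. Then the map m ↦ m − T m is surjective on M. -/
theorem result
    (p : ℕ) [Fact p.Prime] (R : Type u) [CommRing R] [IsLocalRing R]
    (hmax : IsLocalRing.maximalIdeal R = Ideal.span {(p : R)}) (n : ℕ) (hn : (p : R) ^ n = 0)
    (σ : R →+* R) (σbar : IsLocalRing.ResidueField R →+* IsLocalRing.ResidueField R)
    (hσbar : ∀ r : R, σbar (IsLocalRing.residue R r) = IsLocalRing.residue R (σ r))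
    (hsurj : Function.Surjective σbar)
    (h2 : ∀ (n : ℕ) (b : Fin (n + 1) → IsLocalRing.ResidueField R), b ≠ 0 →
      ∃ x : IsLocalRing.ResidueField R, x ≠ 0 ∧ x = ∑ i : Fin (n + 1), (⇑σbar)^[i.val + 1] x * (⇑σbar)^[i.val] (b (Fin.rev i)))
    (h3 : ∀ c : IsLocalRing.ResidueField R, ∃ y : IsLocalRing.ResidueField R, σbar y - y + c = 0)
    (M : Type v) [AddCommGroup M] [Module R M] [Module.Finite R M] (T : M →ₛₗ[σ] M) :
    Function.Surjective (fun m : M => m - T m) := by
  classical
  letI instMod : Module (ResidueField R) (M ⧸ (maximalIdeal R • ⊤ : Submodule R M)) :=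
    inferInstanceAs (Module (R ⧸ maximalIdeal R) (M ⧸ maximalIdeal R • (⊤ : Submodule R M)))
  letI instTower : IsScalarTower R (ResidueField R) (M ⧸ (maximalIdeal R • ⊤ : Submodule R M)) :=
    inferInstanceAs (IsScalarTower R (R ⧸ maximalIdeal R)
      (M ⧸ maximalIdeal R • (⊤ : Submodule R M)))
  haveI instFin : Module.Finite (ResidueField R) (M ⧸ (maximalIdeal R • ⊤ : Submodule R M)) :=
    Module.Finite.of_restrictScalars_finite R _ _
  let TR : (M ⧸ (maximalIdeal R • ⊤ : Submodule R M)) →ₛₗ[σ]
      (M ⧸ (maximalIdeal R • ⊤ : Submodule R M)) :=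
    Submodule.mapQ _ _ T (smul_top_le_comap hmax T)
  let Tbar : (M ⧸ (maximalIdeal R • ⊤ : Submodule R M)) →ₛₗ[σbar]
      (M ⧸ (maximalIdeal R • ⊤ : Submodule R M)) :=
    { toFun := TR
      map_add' := TR.map_add
      map_smul' := by
        intro c x
        obtain ⟨c, rfl⟩ := IsLocalRing.residue_surjective c
        obtain ⟨x, rfl⟩ := Submodule.Quotient.mk_surjective _ x
        rw [hσbar]
        show TR (Submodule.Quotient.mk (c • x)) = _
        show Submodule.Quotient.mk (T (c • x)) = _
        rw [LinearMap.map_smulₛₗ]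
        rfl }
  have hsurj1 := (Groth.Agent.S19234.main (ResidueField R) σbar _ Tbar h2 h3 _ rfl).1
  have hbase : ∀ m : M, ∃ y m' : M, m = (y - T y) + (p : R) • m' := by
    intro m
    obtain ⟨ybar, hy⟩ := hsurj1 (Submodule.Quotient.mk m)
    obtain ⟨y, rfl⟩ := Submodule.Quotient.mk_surjective _ ybar
    have h4 : (Submodule.Quotient.mk (y - T y) : M ⧸ (maximalIdeal R • ⊤ : Submodule R M)) =
        Submodule.Quotient.mk m := hy
    rw [Submodule.Quotient.eq] at h4
    obtain ⟨m', hm'⟩ := (mem_smul_top_iff hmax _).mp h4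
    refine ⟨y, -m', ?_⟩
    rw [smul_neg, ← hm']
    abel
  intro m
  obtain ⟨y, m', hm⟩ := lift_step T hbase n m
  refine ⟨y, ?_⟩
  rw [hn, zero_smul, add_zero] at hm
  exact hm.symm

end Groth.Agent.S19235
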