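import Groth.Statements.S19236
import Groth.Agent.S19235
-- import your own Groth.Agent.* helpers here

set_option autoImplicit false
universe u v
open SigmaLin

namespace Groth.Agent.S19236

open IsLocalRing

theorem lemmaX
    (p : ℕ) [Fact p.Prime] (R : Type u) [CommRing R] [IsLocalRing R]
    (hmax : IsLocalRing.maximalIdeal R = Ideal.span {(p : R)}) (n : ℕ) (hn : (p : R) ^ n = 0)
    (σ : R →+* R) (σbar : IsLocalRing.ResidueField R →+* IsLocalRing.ResidueField R)
    (hσbar : ∀ r : R, σbar (IsLocalRing.residue R r) = IsLocalRing.residue R (σ r))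
    (hsurj : Function.Surjective σbar)
    (h2 : ∀ (n : ℕ) (b : Fin (n + 1) → IsLocalRing.ResidueField R), b ≠ 0 →
      ∃ x : IsLocalRing.ResidueField R, x ≠ 0 ∧ x = ∑ i : Fin (n + 1), (⇑σbar)^[i.val + 1] x * (⇑σbar)^[i.val] (b (Fin.rev i)))
    (h3 : ∀ c : IsLocalRing.ResidueField R, ∃ y : IsLocalRing.ResidueField R, σbar y - y + c = 0)
    (M : Type v) [AddCommGroup M] [Module R M] [Module.Finite R M] (T : M →ₛₗ[σ] M)
    (hlift : ∀ x : IsLocalRing.ResidueField R, σbar x = x → ∃ r : R, σ r = r ∧ IsLocalRing.residue R r = x) :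
    ∃ (d : ℕ) (e : Fin d → M), (∀ i, T (e i) = e i) ∧
      ∀ m : M, T m = m → ∃ c : Fin d → R, (∀ i, σ (c i) = c i) ∧
        m - ∑ i, c i • e i ∈ (maximalIdeal R • ⊤ : Submodule R M) := by
  classical
  letI instMod : Module (ResidueField R) (M ⧸ (maximalIdeal R • ⊤ : Submodule R M)) :=
    inferInstanceAs (Module (R ⧸ maximalIdeal R) (M ⧸ maximalIdeal R • (⊤ : Submodule R M)))
  letI instTower : IsScalarTower R (ResidueField R) (M ⧸ (maximalIdeal R • ⊤ : Submodule R M)) :=
    inferInstanceAs (IsScalarTower R (R ⧸ maximalIdeal R)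
      (M ⧸ maximalIdeal R • (⊤ : Submodule R M)))
  haveI instFin : Module.Finite (ResidueField R) (M ⧸ (maximalIdeal R • ⊤ : Submodule R M)) :=
    Module.Finite.of_restrictScalars_finite R _ _
  let TR : (M ⧸ (maximalIdeal R • ⊤ : Submodule R M)) →ₛₗ[σ]
      (M ⧸ (maximalIdeal R • ⊤ : Submodule R M)) :=
    Submodule.mapQ _ _ T (Groth.Agent.S19235.smul_top_le_comap hmax T)
  let Tbar : (M ⧸ (maximalIdeal R • ⊤ : Submodule R M)) →ₛₗ[σbar]
      (M ⧸ (maximalIdeal R • ⊤ : Submodule R M)) :=
    { toFun := TR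
      map_add' := TR.map_add
      map_smul' := by
        intro c x
        obtain ⟨c, rfl⟩ := IsLocalRing.residue_surjective c
        obtain ⟨x, rfl⟩ := Submodule.Quotient.mk_surjective _ x
        rw [hσbar]
        show TR (Submodule.Quotient.mk (c • x)) = _
        show Submodule.Quotient.mk (T (c • x)) = _
        rw [LinearMap.map_smulₛₗ]
        rfl }
  have hTbar : ∀ x : M, Tbar (Submodule.Quotient.mk x) = Submodule.Quotient.mk (T x) :=
    fun x => rfl
  obtain ⟨-, b, hb⟩ := Groth.Agent.S19234.main (ResidueField R) σbar _ Tbar h2 h3 _ rfl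
  have hsurjM := Groth.Agent.S19235.result p R hmax n hn σ σbar hσbar hsurj h2 h3 M T
  have hex : ∀ i, ∃ e : M, T e = e ∧
      (Submodule.Quotient.mk e : M ⧸ (maximalIdeal R • ⊤ : Submodule R M)) = (b i : _) := by
    intro i
    obtain ⟨y, hy⟩ := Submodule.Quotient.mk_surjective _
      ((b i : _) : M ⧸ (maximalIdeal R • ⊤ : Submodule R M))
    have h4 : (Submodule.Quotient.mk (T y) : M ⧸ (maximalIdeal R • ⊤ : Submodule R M)) =
        Submodule.Quotient.mk y := by
      rw [← hTbar, hy]; exact hb i
    rw [Submodule.Quotient.eq] at h4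
    obtain ⟨w, hw⟩ := (Groth.Agent.S19235.mem_smul_top_iff hmax _).mp h4
    obtain ⟨x, hx⟩ := hsurjM w
    have hx' : x - T x = w := hx
    refine ⟨y + (p : R) • x, ?_, ?_⟩
    · rw [map_add, LinearMap.map_smulₛₗ, map_natCast]
      have : T y = y + (p : R) • w := by rw [← hw]; abel
      rw [this, ← hx', smul_sub]
      abel
    · rw [Submodule.Quotient.mk_add, hy]
      have : (Submodule.Quotient.mk ((p : R) • x) : M ⧸ (maximalIdeal R • ⊤ : Submodule R M)) = 0 := by
        rw [Submodule.Quotient.mk_eq_zero]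
        exact (Groth.Agent.S19235.mem_smul_top_iff hmax _).mpr ⟨x, rfl⟩
      rw [this, add_zero]
  choose e he1 he2 using hex
  refine ⟨_, e, he1, ?_⟩
  intro m hm
  have hfix : Tbar (Submodule.Quotient.mk m) = Submodule.Quotient.mk m := by rw [hTbar, hm]
  have hmem : (Submodule.Quotient.mk m : M ⧸ (maximalIdeal R • ⊤ : Submodule R M)) ∈
      (⨅ n : ℕ, Submodule.span (ResidueField R) (Set.range ((⇑Tbar)^[n]))) := by
    rw [Submodule.mem_iInf]
    intro j
    apply Submodule.subset_span
    exact ⟨Submodule.Quotient.mk m, Function.iterate_fixed hfix j⟩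
  obtain ⟨cbar, hrepr'⟩ : ∃ cbar : Fin _ → ResidueField R,
      ∑ i, cbar i • ((b i : _) : M ⧸ (maximalIdeal R • ⊤ : Submodule R M)) =
      Submodule.Quotient.mk m := by
    refine ⟨fun i => b.repr ⟨_, hmem⟩ i, ?_⟩
    have hrepr := b.sum_repr ⟨_, hmem⟩
    have h7 := congrArg Subtype.val hrepr
    rw [Submodule.coe_sum] at h7
    simpa only [Submodule.coe_smul] using h7
  have hli : LinearIndependent (ResidueField R)
      (fun i => ((b i : _) : M ⧸ (maximalIdeal R • ⊤ : Submodule R M))) :=
    b.linearIndependent.map' (Submodule.subtype _) (Submodule.ker_subtype _)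
  have hcfix : ∀ i, σbar (cbar i) = cbar i := by
    have h5 : Tbar (∑ i, cbar i •
        ((b i : _) : M ⧸ (maximalIdeal R • ⊤ : Submodule R M))) =
        ∑ i, cbar i • ((b i : _) : M ⧸ (maximalIdeal R • ⊤ : Submodule R M)) := by
      rw [hrepr', hfix]
    rw [map_sum] at h5
    simp only [LinearMap.map_smulₛₗ, hb] at h5
    have h6 : ∑ i, (σbar (cbar i) - cbar i) •
        ((b i : _) : M ⧸ (maximalIdeal R • ⊤ : Submodule R M)) = 0 := by
      simp only [sub_smul, Finset.sum_sub_distrib]
      rw [h5, sub_self]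
    intro i
    have := Fintype.linearIndependent_iff.mp hli _ h6 i
    exact sub_eq_zero.mp this
  choose c hc1 hc2 using fun i => hlift _ (hcfix i)
  refine ⟨c, hc1, ?_⟩
  rw [← Submodule.Quotient.mk_eq_zero, Submodule.Quotient.mk_sub, ← hrepr', sub_eq_zero]
  rw [← Submodule.mkQ_apply, map_sum]
  apply Finset.sum_congr rfl
  intro i _
  rw [← hc2 i, ← he2 i]
  rfl

theorem coe_mem_span {R : Type u} [CommRing R] (S : Subring R) {M : Type v} [AddCommGroup M]
    [Module R M] (N : Submodule R M) (t : Set N) (y : N) (hy : y ∈ Submodule.span S t) :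
    (y : M) ∈ Submodule.span S (Subtype.val '' t) := by
  induction hy using Submodule.span_induction with
  | mem z hz => exact Submodule.subset_span ⟨z, hz, rfl⟩
  | zero => exact Submodule.zero_mem _
  | add a b _ _ ha hb => exact Submodule.add_mem _ ha hb
  | smul c a _ ha => exact Submodule.smul_mem _ c ha

theorem fg_fixed
    (p : ℕ) [Fact p.Prime] (R : Type u) [CommRing R] [IsLocalRing R]
    (hmax : IsLocalRing.maximalIdeal R = Ideal.span {(p : R)}) (n : ℕ) (hn : (p : R) ^ n = 0)
    (σ : R →+* R) (σbar : IsLocalRing.ResidueField R →+* IsLocalRing.ResidueField R)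
    (hσbar : ∀ r : R, σbar (IsLocalRing.residue R r) = IsLocalRing.residue R (σ r))
    (hsurj : Function.Surjective σbar)
    (h2 : ∀ (n : ℕ) (b : Fin (n + 1) → IsLocalRing.ResidueField R), b ≠ 0 →
      ∃ x : IsLocalRing.ResidueField R, x ≠ 0 ∧ x = ∑ i : Fin (n + 1), (⇑σbar)^[i.val + 1] x * (⇑σbar)^[i.val] (b (Fin.rev i)))
    (h3 : ∀ c : IsLocalRing.ResidueField R, ∃ y : IsLocalRing.ResidueField R, σbar y - y + c = 0)
    (hlift : ∀ x : IsLocalRing.ResidueField R, σbar x = x → ∃ r : R, σ r = r ∧ IsLocalRing.residue R r = x)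
    (j : ℕ) :
    ∀ (M : Type v) [AddCommGroup M] [Module R M] [Module.Finite R M] (T : M →ₛₗ[σ] M),
      (∀ m : M, ((p : R) ^ j) • m = 0) →
      ∃ s : Finset M, (∀ x ∈ s, T x = x) ∧
        ∀ m, T m = m → m ∈ Submodule.span (σ.eqLocus (RingHom.id R)) (s : Set M) := by
  induction j with
  | zero =>
    intro M _ _ _ T hM
    refine ⟨∅, by simp, fun m _ => ?_⟩
    have : m = 0 := by simpa using hM m
    rw [this]; exact Submodule.zero_mem _
  | succ j ih =>
    intro M _ _ _ T hM
    classical
    have hNfg : Module.Finite R (maximalIdeal R • ⊤ : Submodule R M) := by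
      rw [Module.Finite.iff_fg]
      have hfg : (maximalIdeal R).FG := by
        rw [hmax]; exact Submodule.fg_span_singleton _
      exact Submodule.FG.smul hfg Module.Finite.fg_top
    have hstab : ∀ x ∈ (maximalIdeal R • ⊤ : Submodule R M),
        T x ∈ (maximalIdeal R • ⊤ : Submodule R M) :=
      fun x hx => Groth.Agent.S19235.smul_top_le_comap hmax T hx
    obtain ⟨sN, hsN1, hsN2⟩ := ih (maximalIdeal R • ⊤ : Submodule R M) (T.restrict hstab) (by
      rintro ⟨x, hx⟩
      obtain ⟨y, rfl⟩ := (Groth.Agent.S19235.mem_smul_top_iff hmax x).mp hx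
      apply Subtype.ext
      simp only [Submodule.coe_smul, Submodule.coe_zero]
      rw [smul_smul, ← pow_succ]
      exact hM y)
    obtain ⟨d, e, he1, he2⟩ := lemmaX p R hmax n hn σ σbar hσbar hsurj h2 h3 M T hlift
    refine ⟨Finset.image e Finset.univ ∪ Finset.image Subtype.val sN, ?_, ?_⟩
    · intro x hx
      rw [Finset.mem_union, Finset.mem_image, Finset.mem_image] at hx
      rcases hx with ⟨i, -, rfl⟩ | ⟨y, hy, rfl⟩
      · exact he1 i
      · exact congrArg Subtype.val (hsN1 y hy)
    · intro m hm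
      obtain ⟨c, hc1, hc2⟩ := he2 m hm
      have h1 : ∑ i, c i • e i ∈ Submodule.span (σ.eqLocus (RingHom.id R))
          ((Finset.image e Finset.univ ∪ Finset.image Subtype.val sN : Finset M) : Set M) := by
        apply Submodule.sum_mem
        intro i _
        have : c i • e i = (⟨c i, hc1 i⟩ : σ.eqLocus (RingHom.id R)) • e i := rfl
        rw [this]
        apply Submodule.smul_mem
        apply Submodule.subset_span
        simp
      have h2' : m - ∑ i, c i • e i ∈ Submodule.span (σ.eqLocus (RingHom.id R))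
          ((Finset.image e Finset.univ ∪ Finset.image Subtype.val sN : Finset M) : Set M) := by
        have hfix' : (T.restrict hstab) ⟨m - ∑ i, c i • e i, hc2⟩ = ⟨m - ∑ i, c i • e i, hc2⟩ := by
          apply Subtype.ext
          simp only [LinearMap.coe_restrict_apply, map_sub, map_sum, LinearMap.map_smulₛₗ, hm, he1, hc1]
        have h3' := coe_mem_span (σ.eqLocus (RingHom.id R)) _ _ _ (hsN2 _ hfix')
        refine Submodule.span_mono ?_ h3'
        rintro _ ⟨y, hy, rfl⟩
        simp only [Finset.coe_union, Finset.coe_image, Set.mem_union, Set.mem_image]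
        exact Or.inr ⟨y, hy, rfl⟩
      have := Submodule.add_mem _ h2' h1
      simpa using this

/-- Let p be a prime number and R a local ring whose maximal ideal is generated by p and in which p^n =
0 for some n. Let σ be a ring endomorphism of R and σ̄ the induced endomorphism of the residue field
k = R/(p); assume σ̄ is surjective, that for every m and every tuple (b_0, …, b_m) in k, not all
zero, the equation x = Σ_{i=0}^{m} σ̄^{i+1}(x) σ̄^{i}(b_{m-i}) has a nonzero solution x in k, that
for every c in k there is y with σ̄(y) − y + c = 0, and that every element of k fixed by σ̄ is the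
residue of an element of R fixed by σ. Let M be a finitely generated R-module and T : M → M additive
with T (r • m) = σ r • T m. Then the T-fixed elements of M form a finitely generated module over the
ring of σ-fixed elements of R: there are finitely many T-fixed elements such that every T-fixed
element is a linear combination of them with σ-fixed coefficients. -/
theorem result
    (p : ℕ) [Fact p.Prime] (R : Type u) [CommRing R] [IsLocalRing R]
    (hmax : IsLocalRing.maximalIdeal R = Ideal.span {(p : R)}) (n : ℕ) (hn : (p : R) ^ n = 0)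
    (σ : R →+* R) (σbar : IsLocalRing.ResidueField R →+* IsLocalRing.ResidueField R)
    (hσbar : ∀ r : R, σbar (IsLocalRing.residue R r) = IsLocalRing.residue R (σ r))
    (hsurj : Function.Surjective σbar)
    (h2 : ∀ (n : ℕ) (b : Fin (n + 1) → IsLocalRing.ResidueField R), b ≠ 0 →
      ∃ x : IsLocalRing.ResidueField R, x ≠ 0 ∧ x = ∑ i : Fin (n + 1), (⇑σbar)^[i.val + 1] x * (⇑σbar)^[i.val] (b (Fin.rev i)))
    (h3 : ∀ c : IsLocalRing.ResidueField R, ∃ y : IsLocalRing.ResidueField R, σbar y - y + c = 0)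
    (M : Type v) [AddCommGroup M] [Module R M] [Module.Finite R M] (T : M →ₛₗ[σ] M)
    (hlift : ∀ x : IsLocalRing.ResidueField R, σbar x = x → ∃ r : R, σ r = r ∧ IsLocalRing.residue R r = x) :
    ∃ s : Finset M, (∀ m ∈ s, T m = m) ∧
      ∀ m : M, T m = m → ∃ c : M → R, (∀ x ∈ s, σ (c x) = c x) ∧ m = ∑ x ∈ s, c x • x := by
  obtain ⟨s, hs1, hs2⟩ := fg_fixed p R hmax n hn σ σbar hσbar hsurj h2 h3 hlift n M T
    (fun m => by rw [hn, zero_smul])
  refine ⟨s, hs1, fun m hm => ?_⟩
  obtain ⟨f, -, hf⟩ := Submodule.mem_span_finset.mp (hs2 m hm)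
  refine ⟨fun x => (f x : R), fun x _ => (f x).2, ?_⟩
  rw [← hf]
  rfl

end Groth.Agent.S19236
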