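import Groth.Statements.S19237
import Groth.Agent.Lib.Helper83.WittTrunc
import Groth.Agent.S19235

set_option autoImplicit false
universe u v
open SigmaLin

namespace Groth.Agent.S19237

/-- Let k be an algebraically closed field of characteristic p > 0 and n a natural number; let M be a
finitely generated module over the ring W_n(k) of truncated Witt vectors and T : M → M an additive
map with T (c • m) = σ(c) • T m, where σ is either the Frobenius endomorphism of W_n(k) (induced by
the p-th power map of k) or its inverse (induced by the inverse of the p-th power map). Then m ↦ T m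
− m is surjective on M. (The printed statement takes k perfect and separably closed, which is the
same as algebraically closed.) -/
theorem result
    (p : ℕ) [Fact p.Prime] (k : Type u) [Field k] [CharP k p] [IsAlgClosed k] (n : ℕ)
    (σ : TruncatedWittVector p n k →+* TruncatedWittVector p n k)
    (hσ : σ = WittGrp.truncMap p n (frobenius k p) ∨
      σ = WittGrp.truncMap p n (frobeniusEquiv k p).symm.toRingHom)
    (M : Type v) [AddCommGroup M] [Module (TruncatedWittVector p n k) M] [Module.Finite (TruncatedWittVector p n k) M]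
    (T : M →ₛₗ[σ] M) :
    Function.Surjective (fun m : M => T m - m) := by
  cases n with
  | zero =>
    have h0 : Subsingleton (TruncatedWittVector p 0 k) :=
      ⟨fun a b => TruncatedWittVector.ext (fun i => i.elim0)⟩
    have h1 : Subsingleton M := Module.subsingleton (TruncatedWittVector p 0 k) M
    intro y
    exact ⟨0, Subsingleton.elim _ _⟩
  | succ m =>
    obtain ⟨φ, hφσ, hφsurj, hφ2, hφ3⟩ : ∃ φ : k →+* k, σ = WittGrp.truncMap p (m + 1) φ ∧
        Function.Surjective φ ∧
        (∀ (n : ℕ) (b : Fin (n + 1) → k), b ≠ 0 → ∃ x : k, x ≠ 0 ∧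
          x = ∑ i : Fin (n + 1), (⇑φ)^[i.val + 1] x * (⇑φ)^[i.val] (b (Fin.rev i))) ∧
        (∀ c : k, ∃ y : k, φ y - y + c = 0) := by
      rcases hσ with h | h
      · exact ⟨frobenius k p, h, (bijective_frobenius k p).2,
          Groth.Agent.Lib.Helper83.WittTrunc.h2_frobenius p,
          Groth.Agent.Lib.Helper83.WittTrunc.h3_frobenius p⟩
      · exact ⟨(frobeniusEquiv k p).symm.toRingHom, h, (frobeniusEquiv k p).symm.surjective,
          Groth.Agent.Lib.Helper83.WittTrunc.h2_frobenius_symm p,
          Groth.Agent.Lib.Helper83.WittTrunc.h3_frobenius_symm p⟩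
    subst hφσ
    have key := Groth.Agent.S19235.result p (TruncatedWittVector p (m + 1) k)
      (Groth.Agent.Lib.Helper83.WittTrunc.maximalIdeal_eq p k m) (m + 1)
      (Groth.Agent.Lib.Helper83.WittTrunc.p_pow_eq_zero p k m)
      (WittGrp.truncMap p (m + 1) φ) (Groth.Agent.Lib.Helper83.WittTrunc.σbar p k m φ)
      (Groth.Agent.Lib.Helper83.WittTrunc.σbar_residue p k m φ)
      (Groth.Agent.Lib.Helper83.WittTrunc.σbar_surjective p k m φ hφsurj)
      (Groth.Agent.Lib.Helper83.WittTrunc.h2_σbar p k m φ hφ2)
      (Groth.Agent.Lib.Helper83.WittTrunc.h3_σbar p k m φ hφ3) M T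
    intro y
    obtain ⟨x, hx⟩ := key (-y)
    refine ⟨x, ?_⟩
    have hx' : x - T x = -y := hx
    show T x - x = y
    rw [← neg_sub, hx', neg_neg]

end Groth.Agent.S19237
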