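import Groth.Statements.S19238
import Groth.Agent.Lib.Helper83.WittTrunc
import Groth.Agent.S19236

set_option autoImplicit false
universe u v
open SigmaLin

namespace Groth.Agent.S19238

/-- Let k be an algebraically closed field of characteristic p > 0 and n a natural number; let M be a
finitely generated module over the ring W_n(k) of truncated Witt vectors and T : M → M an additive
map with T (c • m) = σ(c) • T m, where σ is either the Frobenius endomorphism of W_n(k) or its
inverse. Then the set of T-fixed elements of M is finite. (The printed statement says that the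
T-fixed elements form a finitely generated module over the σ-fixed subring of W_n(k), which is the
finite ring of integers modulo p^n.) -/
theorem result
    (p : ℕ) [Fact p.Prime] (k : Type u) [Field k] [CharP k p] [IsAlgClosed k] (n : ℕ)
    (σ : TruncatedWittVector p n k →+* TruncatedWittVector p n k)
    (hσ : σ = WittGrp.truncMap p n (frobenius k p) ∨
      σ = WittGrp.truncMap p n (frobeniusEquiv k p).symm.toRingHom)
    (M : Type v) [AddCommGroup M] [Module (TruncatedWittVector p n k) M] [Module.Finite (TruncatedWittVector p n k) M]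
    (T : M →ₛₗ[σ] M) :
    {m : M | T m = m}.Finite := by
  cases n with
  | zero =>
    have h0 : Subsingleton (TruncatedWittVector p 0 k) :=
      ⟨fun a b => TruncatedWittVector.ext (fun i => i.elim0)⟩
    have h1 : Subsingleton M := Module.subsingleton (TruncatedWittVector p 0 k) M
    exact Set.toFinite _
  | succ m =>
    obtain ⟨φ, hφσ, hφsurj, hφ2, hφ3, hφfix⟩ : ∃ φ : k →+* k, σ = WittGrp.truncMap p (m + 1) φ ∧
        Function.Surjective φ ∧
        (∀ (n : ℕ) (b : Fin (n + 1) → k), b ≠ 0 → ∃ x : k, x ≠ 0 ∧
          x = ∑ i : Fin (n + 1), (⇑φ)^[i.val + 1] x * (⇑φ)^[i.val] (b (Fin.rev i))) ∧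
        (∀ c : k, ∃ y : k, φ y - y + c = 0) ∧ (∀ a : k, φ a = a → a ^ p = a) := by
      rcases hσ with h | h
      · exact ⟨frobenius k p, h, (bijective_frobenius k p).2,
          Groth.Agent.Lib.Helper83.WittTrunc.h2_frobenius p,
          Groth.Agent.Lib.Helper83.WittTrunc.h3_frobenius p, fun a ha => by
            rwa [frobenius_def] at ha⟩
      · refine ⟨(frobeniusEquiv k p).symm.toRingHom, h, (frobeniusEquiv k p).symm.surjective,
          Groth.Agent.Lib.Helper83.WittTrunc.h2_frobenius_symm p,
          Groth.Agent.Lib.Helper83.WittTrunc.h3_frobenius_symm p, fun a ha => ?_⟩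
        have h1 : (frobeniusEquiv k p).symm a = a := ha
        have h2 := frobeniusEquiv_symm_pow_p k p a
        rwa [h1] at h2
    subst hφσ
    obtain ⟨s, hs1, hs2⟩ := Groth.Agent.S19236.result p (TruncatedWittVector p (m + 1) k)
      (Groth.Agent.Lib.Helper83.WittTrunc.maximalIdeal_eq p k m) (m + 1)
      (Groth.Agent.Lib.Helper83.WittTrunc.p_pow_eq_zero p k m)
      (WittGrp.truncMap p (m + 1) φ) (Groth.Agent.Lib.Helper83.WittTrunc.σbar p k m φ)
      (Groth.Agent.Lib.Helper83.WittTrunc.σbar_residue p k m φ)
      (Groth.Agent.Lib.Helper83.WittTrunc.σbar_surjective p k m φ hφsurj)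
      (Groth.Agent.Lib.Helper83.WittTrunc.h2_σbar p k m φ hφ2)
      (Groth.Agent.Lib.Helper83.WittTrunc.h3_σbar p k m φ hφ3) M T
      (Groth.Agent.Lib.Helper83.WittTrunc.hlift_σbar p k m φ hφfix)
    have hfix := Groth.Agent.Lib.Helper83.WittTrunc.finite_fixed p k m φ hφfix
    have hFin : Finite {r : TruncatedWittVector p (m + 1) k |
      WittGrp.truncMap p (m + 1) φ r = r} := hfix
    let F : (s → {r : TruncatedWittVector p (m + 1) k |
        WittGrp.truncMap p (m + 1) φ r = r}) → M := fun c => ∑ x : s, (c x).1 • x.1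
    apply Set.Finite.subset (Set.finite_range F)
    intro mm hm
    obtain ⟨c, hc1, hc2⟩ := hs2 mm hm
    refine ⟨fun x => ⟨c x.1, hc1 x.1 x.2⟩, ?_⟩
    show ∑ x : s, c x.1 • x.1 = mm
    rw [hc2]
    exact Finset.sum_coe_sort s (fun x => c x • x)

end Groth.Agent.S19238
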