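import Groth.Statements.S19239
import Groth.Agent.S19234
-- import your own Groth.Agent.* helpers here

set_option autoImplicit false
universe u v
open SigmaLin

namespace Groth.Agent.S19239

open Polynomial in
theorem exists_ne_zero_root {k : Type u} [Field k] [IsAlgClosed k] (P : k[X]) (a b : ℕ)
    (hab : a ≠ b) (ha : P.coeff a ≠ 0) (hb : P.coeff b ≠ 0) : ∃ x : k, x ≠ 0 ∧ P.eval x = 0 := by
  by_contra hcon
  push Not at hcon
  have hroots : ∀ r ∈ P.roots, r = 0 := by
    intro r hr
    by_contra hr0
    exact hcon r hr0 (by simpa using (Polynomial.mem_roots'.mp hr).2)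
  have hsplit := (IsAlgClosed.splits P).eq_prod_roots
  have hrep : P.roots = Multiset.replicate (Multiset.card P.roots) 0 :=
    Multiset.eq_replicate.mpr ⟨rfl, hroots⟩
  rw [hrep] at hsplit
  simp only [Multiset.map_replicate, Multiset.prod_replicate, map_zero, sub_zero] at hsplit
  have ha' := ha
  have hb' := hb
  rw [hsplit, coeff_C_mul_X_pow] at ha' hb'
  have h1 : a = Multiset.card P.roots := by
    by_contra h
    simp [h] at ha'
  have h2 : b = Multiset.card P.roots := by
    by_contra h
    simp [h] at hb'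
  exact hab (h1.trans h2.symm)

theorem iter_symm_pow {k : Type u} [Field k] (p : ℕ) [Fact p.Prime] [CharP k p] [PerfectRing k p]
    (a c : ℕ) (z : k) :
    (⇑((frobeniusEquiv k p).symm.toRingHom))^[a] (z ^ p ^ (a + c)) = z ^ p ^ c := by
  induction a with
  | zero => simp
  | succ a ih =>
    rw [Function.iterate_succ_apply]
    have : z ^ p ^ (a + 1 + c) = (z ^ p ^ (a + c)) ^ p := by
      rw [← pow_mul, ← pow_succ]
      congr 2
      omega
    rw [this]
    have h2 : ((frobeniusEquiv k p).symm.toRingHom) ((z ^ p ^ (a + c)) ^ p) = z ^ p ^ (a + c) :=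
      frobeniusEquiv_symm_pow k p _
    rw [h2, ih]

open Polynomial in
theorem h2_holds (p : ℕ) [Fact p.Prime] (k : Type u) [Field k] [CharP k p] [IsAlgClosed k]
    (n : ℕ) (b : Fin (n + 1) → k) (hb : b ≠ 0) :
    ∃ x : k, x ≠ 0 ∧ x = ∑ i : Fin (n + 1),
      (⇑((frobeniusEquiv k p).symm.toRingHom))^[i.val + 1] x *
        (⇑((frobeniusEquiv k p).symm.toRingHom))^[i.val] (b (Fin.rev i)) := by
  classical
  have hp2 : 2 ≤ p := (Fact.out : p.Prime).two_le
  set σ := (frobeniusEquiv k p).symm.toRingHom with hσ
  set d : Fin (n + 1) → k := fun i => (⇑σ)^[i.val] (b (Fin.rev i)) with hd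
  have hσinj : Function.Injective ⇑σ := (frobeniusEquiv k p).symm.injective
  obtain ⟨i₁, hi₁⟩ : ∃ i, d i ≠ 0 := by
    by_contra hcon
    push Not at hcon
    apply hb
    funext j
    have := hcon (Fin.rev j)
    simp only [hd, Fin.rev_rev] at this
    have hinj := hσinj.iterate (Fin.rev j).val
    exact hinj (by rw [this]; simp)
  set P : k[X] := X ^ (p ^ (n + 1)) - ∑ i : Fin (n + 1), C (d i) * X ^ (p ^ (n - i.val)) with hP
  have hpow_inj : Function.Injective (fun m : ℕ => p ^ m) := Nat.pow_right_injective hp2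
  have hc1 : P.coeff (p ^ (n + 1)) = 1 := by
    rw [hP, coeff_sub, coeff_X_pow, if_pos rfl, finsetSum_coeff]
    rw [Finset.sum_eq_zero, sub_zero]
    intro i _
    rw [coeff_C_mul_X_pow, if_neg]
    intro h
    have := hpow_inj h
    omega
  have hc2 : P.coeff (p ^ (n - i₁.val)) = - d i₁ := by
    rw [hP, coeff_sub, coeff_X_pow, if_neg, finsetSum_coeff, zero_sub]
    · congr 1
      rw [Finset.sum_eq_single i₁]
      · rw [coeff_C_mul_X_pow, if_pos rfl]
      · intro j _ hj
        rw [coeff_C_mul_X_pow, if_neg]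
        intro h
        have := hpow_inj h
        apply hj
        apply Fin.ext
        have h1 := i₁.isLt
        have h2 := j.isLt
        omega
      · simp
    · intro h
      have := hpow_inj h
      omega
  obtain ⟨z, hz0, hz⟩ := exists_ne_zero_root P (p ^ (n + 1)) (p ^ (n - i₁.val))
    (by intro h; have := hpow_inj h; omega) (by rw [hc1]; exact one_ne_zero)
    (by rw [hc2]; exact neg_ne_zero.mpr hi₁)
  refine ⟨z ^ p ^ (n + 1), pow_ne_zero _ hz0, ?_⟩
  rw [hP, eval_sub, eval_pow, eval_X, eval_finsetSum, sub_eq_zero] at hz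
  rw [hz]
  apply Finset.sum_congr rfl
  intro i _
  rw [eval_mul, eval_C, eval_pow, eval_X, ← hz]
  have hi := i.isLt
  have h5 : z ^ p ^ (n + 1) = z ^ p ^ ((i.val + 1) + (n - i.val)) := by
    congr 2
    omega
  have h6 : (⇑σ)^[i.val + 1] (z ^ p ^ (n + 1)) = z ^ p ^ (n - i.val) := by
    rw [h5]
    exact iter_symm_pow p (i.val + 1) (n - i.val) z
  rw [h6, mul_comm]

theorem h3_holds (p : ℕ) [Fact p.Prime] (k : Type u) [Field k] [CharP k p] [IsAlgClosed k]
    (c : k) : ∃ y : k, ((frobeniusEquiv k p).symm.toRingHom) y - y + c = 0 := by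
  have hp2 : 2 ≤ p := (Fact.out : p.Prime).two_le
  have hdeg : (Polynomial.X ^ p - Polynomial.X - Polynomial.C c : Polynomial k).degree ≠ 0 := by
    have h1 : (Polynomial.X ^ p - Polynomial.X - Polynomial.C c : Polynomial k) =
        Polynomial.X ^ p - (Polynomial.X + Polynomial.C c) := by ring
    rw [h1, Polynomial.degree_sub_eq_left_of_degree_lt]
    · rw [Polynomial.degree_X_pow]
      exact_mod_cast (by omega : p ≠ 0)
    · rw [Polynomial.degree_X_pow, Polynomial.degree_X_add_C]
      exact_mod_cast (by omega : 1 < p)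
  obtain ⟨z, hz⟩ := IsAlgClosed.exists_root _ hdeg
  simp only [Polynomial.IsRoot.def, Polynomial.eval_sub, Polynomial.eval_pow, Polynomial.eval_X,
    Polynomial.eval_C] at hz
  refine ⟨z ^ p, ?_⟩
  have h2 : ((frobeniusEquiv k p).symm.toRingHom) (z ^ p) = z := frobeniusEquiv_symm_pow k p _
  rw [h2]
  linear_combination (-1 : k) * hz

/-- Let k be an algebraically closed field of characteristic p > 0, V a finite-dimensional k-vector
space and T : V → V an additive map with T (c • v) = σ(c) • T v for σ the inverse of the p-th power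
map of k. Then v ↦ v − T v is surjective on V, and the intersection over n of the k-spans of the
images of the iterates of T admits a k-basis consisting of vectors fixed by T. (A special case of
the statement for a surjective field endomorphism satisfying two solvability conditions.) -/
theorem result
    (p : ℕ) [Fact p.Prime] (k : Type u) [Field k] [CharP k p] [IsAlgClosed k]
    (V : Type v) [AddCommGroup V] [Module k V] [FiniteDimensional k V]
    (T : V →ₛₗ[(frobeniusEquiv k p).symm.toRingHom] V) :
    Function.Surjective (fun v : V => v - T v) ∧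
    ∃ b : Module.Basis (Fin (Module.finrank k ↥(⨅ n : ℕ, Submodule.span k (Set.range ((⇑T)^[n]))))) k ↥(⨅ n : ℕ, Submodule.span k (Set.range ((⇑T)^[n]))),
      ∀ i, T (b i : V) = (b i : V) := by
  exact Groth.Agent.S19234.main k _ V T (h2_holds p k) (h3_holds p k) _ rfl

end Groth.Agent.S19239
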