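import Groth.Statements.S19243
import Groth.Agent.Lib.Helper53.TowerAdapted
import Groth.Agent.Lib.Helper53.ModLoc
import Groth.Agent.Lib.Helper53.ModGroth

set_option autoImplicit false
universe u
open CohTop

namespace Groth.Agent.S19243

open CategoryTheory CategoryTheory.Limits TopologicalSpace Opposite in
/-- Let X be a topological space with a sheaf of (not necessarily commutative) rings R, E = (E_n)_{n ≥
0} an inverse system of R-modules indexed by the natural numbers and B a basis of the topology of X.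
Write R^i lim for the i-th right derived functor of the limit functor from ℕ-indexed inverse systems
of R-modules to R-modules (the limit functor is additive and the category of inverse systems has
injective resolutions; both facts are carried as instance hypotheses). (1) If H^i(U, E_n) = 0 for
every U in B, every n and every i ≥ 1, then R^i lim E = 0 for every i ≥ 2. (2) If in addition, for
every U in B, the inverse system of abelian groups (H^0(U, E_n))_n satisfies the Mittag-Leffler
condition, then R^i lim E = 0 for every i ≥ 1. (The source states this for a ringed space, with a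
commutative structure sheaf, and indexes the system by the integers n ≥ 1; commutativity plays no
role.) -/
theorem result
    (X : TopCat.{u}) (R : Sheaf (Opens.grothendieckTopology X) RingCat.{u})
    [(lim : (ℕᵒᵖ ⥤ SheafOfModules.{u} R) ⥤ SheafOfModules.{u} R).Additive]
    [HasInjectiveResolutions (ℕᵒᵖ ⥤ SheafOfModules.{u} R)]
    (E : ℕᵒᵖ ⥤ SheafOfModules.{u} R) (B : Set (Opens X)) (hB : Opens.IsBasis B)
    (ha : ∀ U ∈ B, ∀ (n i : ℕ), 1 ≤ i →
      Subsingleton (CohTop.HU ((SheafOfModules.toSheaf R).obj (E.obj (op n))) i U)) :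
    (∀ i : ℕ, 2 ≤ i →
      IsZero (((lim : (ℕᵒᵖ ⥤ SheafOfModules.{u} R) ⥤ SheafOfModules.{u} R).rightDerived i).obj E)) ∧
    ((∀ U ∈ B, (E ⋙ SheafOfModules.toSheaf R ⋙
        (sheafSections (Opens.grothendieckTopology X) AddCommGrpCat.{u}).obj (op U) ⋙
          forget AddCommGrpCat.{u}).IsMittagLeffler) →
      ∀ i : ℕ, 1 ≤ i →
        IsZero (((lim : (ℕᵒᵖ ⥤ SheafOfModules.{u} R) ⥤ SheafOfModules.{u} R).rightDerived i).obj E)) := by
  haveI : IsGrothendieckAbelian.{u} (SheafOfModules.{u} R) :=
    Groth.Agent.Lib.Helper53.ModGroth.isGrothendieckAbelian (Opens.grothendieckTopology X) R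
  haveI : HasExt.{u} (SheafOfModules.{u} R) := hasExt_of_enoughInjectives _
  haveI : EnoughInjectives (ℕᵒᵖ ⥤ SheafOfModules.{u} R) := by
    refine ⟨fun Z => ⟨?_⟩⟩
    let I := injectiveResolution Z
    have hm : Mono (I.ι.f 0) := inferInstance
    exact ⟨I.cocomplex.X 0, inferInstance, I.ι.f 0, hm⟩
  let D := Groth.Agent.Lib.Helper53.ModLoc.modLocData (Opens.grothendieckTopology X) R
  have hB' : ∀ U : Opens X, ∃ (ι : Type u) (Y : ι → Opens X) (f : ∀ i, Y i ⟶ U),
      Sieve.ofArrows Y f ∈ Opens.grothendieckTopology X U ∧ ∀ i, Y i ∈ B := by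
    intro U
    refine ⟨{W : Opens X // W ∈ B ∧ W ≤ U}, fun W => W.1, fun W => homOfLE W.2.2, ?_,
      fun W => W.2.1⟩
    rw [Opens.mem_grothendieckTopology]
    intro x hx
    obtain ⟨W, hW, hxW, hWU⟩ := Opens.isBasis_iff_nbhd.mp hB hx
    exact ⟨W, homOfLE hWU, ⟨_, 𝟙 _, _, ⟨(⟨W, hW, hWU⟩ : {W : Opens X // W ∈ B ∧ W ≤ U})⟩,
      by simp⟩, hxW⟩
  have hG₁ : ∀ U, PreservesLimitsOfShape ℕᵒᵖ (Groth.Agent.Lib.Helper53.TowerAdapted.G D U) :=
    fun U => by
      show PreservesLimitsOfShape ℕᵒᵖ ((SheafOfModules.forget R ⋙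
        PresheafOfModules.toPresheaf R.obj) ⋙ (evaluation _ _).obj (op U))
      infer_instance
  have hG₂ : ∀ U, PreservesFiniteLimits (Groth.Agent.Lib.Helper53.TowerAdapted.G D U) :=
    fun U => by
      show PreservesFiniteLimits ((SheafOfModules.toSheaf R ⋙ sheafToPresheaf _ _) ⋙
        (evaluation _ _).obj (op U))
      infer_instance
  have hG₃ : ∀ U, (Groth.Agent.Lib.Helper53.TowerAdapted.G D U).PreservesZeroMorphisms :=
    fun U => by
      show (SheafOfModules.toSheaf R ⋙ sheafToPresheaf _ _ ⋙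
        (evaluation _ _).obj (op U)).PreservesZeroMorphisms
      infer_instance
  have hE : Groth.Agent.Lib.Helper53.TowerAdapted.Acy D B E := by
    intro U hU n i
    exact Groth.Agent.Lib.Helper53.ModLoc.subsingleton_ext_Tm (Opens.grothendieckTopology X) R U
      (E.obj n) (i + 1) (ha U hU n.unop (i + 1) (by omega))
  refine ⟨fun i hi => ?_, fun hML i hi => ?_⟩
  · exact Groth.Agent.Lib.Helper53.TowerAdapted.isZero_rightDerived_lim hB' hG₁ hG₂ hG₃ E hE i hi
  · exact Groth.Agent.Lib.Helper53.TowerAdapted.isZero_rightDerived_lim_of_mittagLeffler hB' hG₁ hG₂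
      hG₃ E hE (fun U hU => hML U hU) i hi

end Groth.Agent.S19243
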