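import Groth.Statements.S19244
import Mathlib

set_option autoImplicit false
universe v v' u u'
open HomAlg3

namespace Groth.Agent.S19244

open CategoryTheory in
/-- Let A be an abelian category and let P be the class of bounded-torsion objects of A, those X with n
• 𝟙_X = 0 for some nonzero integer n; assume P is a Serre class. Let L : A ⥤ D be an additive
functor to a preadditive category exhibiting D as the localization of A at the morphisms whose
kernel and cokernel are in P (so D is the quotient category A_ℚ = A ⧸ A_{b-tor}; the source assumes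
A well-powered, which guarantees that this quotient exists). Then for all objects X, Y of A: (1) for
every nonzero integer n, multiplication by n is bijective on Hom_D(L X, L Y), so that this group is
naturally a ℚ-vector space; (2) a morphism f : X ⟶ Y satisfies L f = 0 if and only if n • f = 0 for
some nonzero integer n; (3) for every g : L X ⟶ L Y there are a nonzero integer n and f : X ⟶ Y with
n • g = L f. Equivalently, the natural map Hom_A(X, Y) ⊗_ℤ ℚ → Hom_D(L X, L Y) is an isomorphism. -/
theorem result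
    {A : Type u} [Category.{v} A] [Abelian A] {D : Type u'} [Category.{v'} D] [Preadditive D]
    (P : ObjectProperty A) (hP : ∀ X : A, P X ↔ ∃ n : ℤ, n ≠ 0 ∧ n • (𝟙 X) = 0) [P.IsSerreClass]
    (L : A ⥤ D) [L.Additive] [L.IsLocalization P.isoModSerre] (X Y : A) :
    (∀ n : ℤ, n ≠ 0 → Function.Bijective (fun g : L.obj X ⟶ L.obj Y => n • g)) ∧
    (∀ f : X ⟶ Y, L.map f = 0 ↔ ∃ n : ℤ, n ≠ 0 ∧ n • f = 0) ∧
    (∀ g : L.obj X ⟶ L.obj Y, ∃ (n : ℤ) (f : X ⟶ Y), n ≠ 0 ∧ n • g = L.map f) := by
  -- torsion annihilators of kernels and cokernels of `n • 𝟙`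
  have hW : ∀ (Z : A) (n : ℤ), n ≠ 0 → P.isoModSerre (n • 𝟙 Z) := by
    intro Z n hn
    constructor
    · change P (Limits.kernel (n • 𝟙 Z))
      rw [hP]
      refine ⟨n, hn, ?_⟩
      rw [← cancel_mono (Limits.kernel.ι (n • 𝟙 Z)), Limits.zero_comp, Preadditive.zsmul_comp,
        Category.id_comp]
      have := Limits.kernel.condition (n • 𝟙 Z)
      rwa [Preadditive.comp_zsmul, Category.comp_id] at this
    · change P (Limits.cokernel (n • 𝟙 Z))
      rw [hP]
      refine ⟨n, hn, ?_⟩
      rw [← cancel_epi (Limits.cokernel.π (n • 𝟙 Z)), Limits.comp_zero, Preadditive.comp_zsmul,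
        Category.comp_id]
      have := Limits.cokernel.condition (n • 𝟙 Z)
      rwa [Preadditive.zsmul_comp, Category.id_comp] at this
  have hiso : ∀ (Z : A) (n : ℤ), n ≠ 0 → IsIso (n • 𝟙 (L.obj Z)) := by
    intro Z n hn
    have h1 : IsIso (L.map (n • 𝟙 Z)) := Localization.inverts L P.isoModSerre _ (hW Z n hn)
    rwa [Functor.map_zsmul, L.map_id] at h1
  have h1 : ∀ n : ℤ, n ≠ 0 → Function.Bijective (fun g : L.obj X ⟶ L.obj Y => n • g) := by
    intro n hn
    have := hiso Y n hn
    have e : ∀ g : L.obj X ⟶ L.obj Y, n • g = g ≫ (n • 𝟙 (L.obj Y)) := by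
      intro g
      rw [Preadditive.comp_zsmul, Category.comp_id]
    constructor
    · intro g g' h
      change n • g = n • g' at h
      rw [e g, e g'] at h
      exact (cancel_mono (n • 𝟙 (L.obj Y))).1 h
    · intro g
      refine ⟨g ≫ inv (n • 𝟙 (L.obj Y)), ?_⟩
      change n • (g ≫ inv (n • 𝟙 (L.obj Y))) = g
      rw [e, Category.assoc, IsIso.inv_hom_id, Category.comp_id]
  refine ⟨h1, ?_, ?_⟩
  · intro f
    constructor
    · intro hf
      rw [ObjectProperty.SerreClassLocalization.map_eq_zero_iff L P, hP] at hf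
      obtain ⟨n, hn, h⟩ := hf
      refine ⟨n, hn, ?_⟩
      have hfac : Abelian.factorThruImage f ≫ Abelian.image.ι f = f := Abelian.image.fac f
      calc n • f = n • (Abelian.factorThruImage f ≫ 𝟙 _ ≫ Abelian.image.ι f) := by
            rw [Category.id_comp, hfac]
        _ = Abelian.factorThruImage f ≫ (n • 𝟙 _) ≫ Abelian.image.ι f := by
            rw [Preadditive.zsmul_comp, Preadditive.comp_zsmul]
        _ = 0 := by rw [h, Limits.zero_comp, Limits.comp_zero]
    · rintro ⟨n, hn, h⟩
      apply (h1 n hn).1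
      change n • L.map f = n • (0 : L.obj X ⟶ L.obj Y)
      rw [← Functor.map_zsmul, h, Functor.map_zero, smul_zero]
  · intro g
    obtain ⟨φ, rfl⟩ := Localization.exists_leftFraction L P.isoModSerre g
    obtain ⟨hker, hcoker⟩ := φ.hs
    change P (Limits.kernel φ.s) at hker
    change P (Limits.cokernel φ.s) at hcoker
    rw [hP] at hker hcoker
    obtain ⟨a, ha, hka⟩ := hker
    obtain ⟨b, hb, hkb⟩ := hcoker
    -- β : Y' ⟶ image s with β ≫ ι = b • 𝟙
    have hβ : (b • 𝟙 φ.Y') ≫ Limits.cokernel.π φ.s = 0 := by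
      rw [Preadditive.zsmul_comp, Category.id_comp]
      have : b • Limits.cokernel.π φ.s = Limits.cokernel.π φ.s ≫ (b • 𝟙 _) := by
        rw [Preadditive.comp_zsmul, Category.comp_id]
      rw [this, hkb, Limits.comp_zero]
    let β : φ.Y' ⟶ Abelian.image φ.s := Limits.kernel.lift (Limits.cokernel.π φ.s) (b • 𝟙 φ.Y') hβ
    have hβ' : β ≫ Abelian.image.ι φ.s = b • 𝟙 φ.Y' := Limits.kernel.lift_ι _ _ _
    have hιβ : Abelian.image.ι φ.s ≫ β = b • 𝟙 _ := by
      rw [← cancel_mono (Abelian.image.ι φ.s), Category.assoc, hβ', Preadditive.comp_zsmul,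
        Category.comp_id, Preadditive.zsmul_comp, Category.id_comp]
    -- α : image s ⟶ Y with p ≫ α = a • 𝟙
    have hα : Limits.kernel.ι (Abelian.factorThruImage φ.s) ≫ (a • 𝟙 Y) = 0 := by
      have h0 : Limits.kernel.ι (Abelian.factorThruImage φ.s) ≫ φ.s = 0 := by
        have e1 : Limits.kernel.ι (Abelian.factorThruImage φ.s) ≫
            (Abelian.factorThruImage φ.s ≫ Abelian.image.ι φ.s) = 0 := by
          rw [← Category.assoc, Limits.kernel.condition, Limits.zero_comp]
        rwa [Abelian.image.fac] at e1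
      have h2 : Limits.kernel.lift φ.s _ h0 ≫ Limits.kernel.ι φ.s =
          Limits.kernel.ι (Abelian.factorThruImage φ.s) := Limits.kernel.lift_ι _ _ _
      rw [Preadditive.comp_zsmul, Category.comp_id, ← h2]
      have : a • (Limits.kernel.lift φ.s _ h0 ≫ Limits.kernel.ι φ.s) =
          Limits.kernel.lift φ.s _ h0 ≫ (a • 𝟙 _) ≫ Limits.kernel.ι φ.s := by
        rw [Preadditive.zsmul_comp, Category.id_comp, Preadditive.comp_zsmul]
      rw [this, hka, Limits.zero_comp, Limits.comp_zero]
    let hc := Abelian.epiIsCokernelOfKernel (Limits.limit.cone _)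
      (Limits.limit.isLimit (Limits.parallelPair (Abelian.factorThruImage φ.s) 0))
    let α : Abelian.image φ.s ⟶ Y := hc.desc (Limits.CokernelCofork.ofπ (a • 𝟙 Y) hα)
    have hα' : Abelian.factorThruImage φ.s ≫ α = a • 𝟙 Y :=
      hc.fac (Limits.CokernelCofork.ofπ (a • 𝟙 Y) hα) Limits.WalkingParallelPair.one
    have hst : φ.s ≫ β ≫ α = (b * a) • 𝟙 Y := by
      calc φ.s ≫ β ≫ α = (Abelian.factorThruImage φ.s ≫ Abelian.image.ι φ.s) ≫ β ≫ α := by
            rw [Abelian.image.fac]
        _ = Abelian.factorThruImage φ.s ≫ (Abelian.image.ι φ.s ≫ β) ≫ α := by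
            simp only [Category.assoc]
        _ = b • (Abelian.factorThruImage φ.s ≫ α) := by
            rw [hιβ, Preadditive.zsmul_comp, Category.id_comp, Preadditive.comp_zsmul]
        _ = (b * a) • 𝟙 Y := by rw [hα', smul_smul]
    refine ⟨b * a, φ.f ≫ β ≫ α, mul_ne_zero hb ha, ?_⟩
    have h3 : φ.map L (Localization.inverts L P.isoModSerre) ≫ L.map φ.s = L.map φ.f :=
      φ.map_comp_map_s L _
    calc (b * a) • φ.map L (Localization.inverts L P.isoModSerre)
        = φ.map L (Localization.inverts L P.isoModSerre) ≫ L.map ((b * a) • 𝟙 Y) := by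
          rw [Functor.map_zsmul, L.map_id, Preadditive.comp_zsmul, Category.comp_id]
      _ = L.map (φ.f ≫ β ≫ α) := by
          rw [← hst, L.map_comp φ.s, ← Category.assoc, h3, ← L.map_comp]

end Groth.Agent.S19244
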