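import Groth.Statements.S19246
import Groth.Agent.Lib.Helper10.TowerSections

set_option autoImplicit false
universe u
open CohTop

namespace Groth.Agent.S19246

open CategoryTheory CategoryTheory.Limits TopologicalSpace Opposite in
/-- Let X be a topological space and (M_n)_{n ≥ 0} an inverse system of abelian sheaves on X indexed by
the natural numbers, such that every M_n is flasque and every transition map M_{n+1} ⟶ M_n is an
epimorphism of sheaves with flasque kernel. Then the limit sheaf lim_n M_n is flasque. (The source's
statement is about flasque de Rham–Witt systems on a scheme, whose definition is exactly this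
condition on the underlying tower of abelian sheaves; the additional structure plays no role in the
assertion or its proof, so the row is stated for towers of abelian sheaves on any space.) -/
theorem result {X : TopCat.{u}} (M : ℕᵒᵖ ⥤ CohTop.Ab X) :
    (∀ n : ℕ, TopCat.Sheaf.IsFlasque (M.obj (op n))) →
      (∀ n : ℕ, Epi (M.map (homOfLE (Nat.le_succ n)).op)) →
      (∀ n : ℕ, TopCat.Sheaf.IsFlasque (kernel (M.map (homOfLE (Nat.le_succ n)).op) : CohTop.Ab X)) →
      TopCat.Sheaf.IsFlasque (limit M : CohTop.Ab X) := by
  open Groth.Agent.Lib.Helper10.TowerSections in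
  intro hfl hepi hK
  constructor
  intro U' V' i
  induction U' using Opposite.rec with | _ U => ?_
  induction V' using Opposite.rec with | _ V => ?_
  rw [AddCommGrpCat.epi_iff_surjective]
  intro s
  let P : ∀ n, (M.obj (op n)).obj.obj (op U) → Prop :=
    fun n t => (M.obj (op n)).obj.map i t = comp M V n s
  have h0 : ∃ t, P 0 t := by
    haveI : Epi ((M.obj (op 0)).obj.map i) := (hfl 0).epi i
    exact (AddCommGrpCat.epi_iff_surjective _).mp this (comp M V 0 s)
  have hstep : ∀ n (t : {t // P n t}), ∃ t' : {t' // P (n + 1) t'},
      (tr M n).hom.app (op U) t'.1 = t.1 := by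
    intro n t
    haveI := hepi n
    obtain ⟨t', h1, h2⟩ := step (tr M n) (hK n) i t.1 (comp M V (n + 1) s) (by
      rw [comp_tr]
      exact t.2.symm)
    exact ⟨⟨t', h2⟩, h1⟩
  choose nxt hnxt using hstep
  let t : ∀ n, {t // P n t} := fun n => Nat.rec ⟨h0.choose, h0.choose_spec⟩ (fun n t => nxt n t) n
  obtain ⟨T, hT⟩ := exists_sec M U (fun n => (t n).1) (fun n => hnxt n (t n))
  refine ⟨T, ?_⟩
  apply sec_ext
  intro n
  rw [comp_res, hT]
  exact (t n).2

end Groth.Agent.S19246
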