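import Groth.Statements.S19247
import Groth.Agent.Lib.Helper10.TowerSections

set_option autoImplicit false
universe u
open CohTop

namespace Groth.Agent.S19247

open CategoryTheory CategoryTheory.Limits TopologicalSpace Opposite in
/-- Let X be a topological space and S : 0 ⟶ M' ⟶ M ⟶ M'' ⟶ 0 a short exact sequence of ℕ-indexed
inverse systems of abelian sheaves on X (short exact in the abelian category of such systems, i.e.
levelwise), such that each of M', M, M'' is a flasque tower: every term is flasque and every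
transition map is an epimorphism of sheaves with flasque kernel. Then the induced map lim M ⟶ lim
M'' is an epimorphism of sheaves, so that, lim being left exact, the sequence 0 ⟶ lim M' ⟶ lim M ⟶
lim M'' ⟶ 0 is exact. (The source's statement is the exactness of lim on flasque de Rham–Witt
systems on a scheme; the de Rham–Witt structure plays no role, so the row is stated for towers of
abelian sheaves on any space.) -/
theorem result {X : TopCat.{u}}
    (S : ShortComplex (ℕᵒᵖ ⥤ CohTop.Ab X)) (hS : S.ShortExact) :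
    (∀ n : ℕ, TopCat.Sheaf.IsFlasque (S.X₁.obj (op n))) →
      (∀ n : ℕ, Epi (S.X₁.map (homOfLE (Nat.le_succ n)).op)) →
      (∀ n : ℕ, TopCat.Sheaf.IsFlasque (kernel (S.X₁.map (homOfLE (Nat.le_succ n)).op) : CohTop.Ab X)) →
    (∀ n : ℕ, TopCat.Sheaf.IsFlasque (S.X₂.obj (op n))) →
      (∀ n : ℕ, Epi (S.X₂.map (homOfLE (Nat.le_succ n)).op)) →
      (∀ n : ℕ, TopCat.Sheaf.IsFlasque (kernel (S.X₂.map (homOfLE (Nat.le_succ n)).op) : CohTop.Ab X)) →
    (∀ n : ℕ, TopCat.Sheaf.IsFlasque (S.X₃.obj (op n))) →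
      (∀ n : ℕ, Epi (S.X₃.map (homOfLE (Nat.le_succ n)).op)) →
      (∀ n : ℕ, TopCat.Sheaf.IsFlasque (kernel (S.X₃.map (homOfLE (Nat.le_succ n)).op) : CohTop.Ab X)) →
      Epi (limMap S.g) := by
  open Groth.Agent.Lib.Helper10.TowerSections in
  intro hfl hepi hK _ _ _ _ _ _
  apply epi_of_surj
  intro U z
  -- levelwise short exact sequences
  have hSn : ∀ n : ℕ, (S.map ((evaluation ℕᵒᵖ (CohTop.Ab X)).obj (op n))).ShortExact :=
    fun n => hS.map_of_exact _
  have hsurj : ∀ (n : ℕ) (c : (S.X₃.obj (op n)).obj.obj (op U)),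
      ∃ b : (S.X₂.obj (op n)).obj.obj (op U), (S.g.app (op n)).hom.app (op U) b = c := by
    intro n c
    haveI : TopCat.Sheaf.IsFlasque (S.map ((evaluation ℕᵒᵖ (CohTop.Ab X)).obj (op n))).X₁ := hfl n
    have := TopCat.Sheaf.IsFlasque.epi_of_shortExact (U := U) (hSn n)
    exact (AddCommGrpCat.epi_iff_surjective _).mp this c
  have hexact : ∀ (n : ℕ) (b : (S.X₂.obj (op n)).obj.obj (op U)),
      (S.g.app (op n)).hom.app (op U) b = 0 →
      ∃ a : (S.X₁.obj (op n)).obj.obj (op U), (S.f.app (op n)).hom.app (op U) a = b := by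
    intro n b hb
    exact TopCat.Sheaf.sections_exact_of_left_exact (U := U) (hSn n).1 (hSn n).2 b hb
  -- naturality of f and g along the towers, on sections
  have hgnat : ∀ (n : ℕ) (b : (S.X₂.obj (op (n + 1))).obj.obj (op U)),
      (S.g.app (op n)).hom.app (op U) ((tr S.X₂ n).hom.app (op U) b) =
        (tr S.X₃ n).hom.app (op U) ((S.g.app (op (n + 1))).hom.app (op U) b) := by
    intro n b
    have h := S.g.naturality (homOfLE (Nat.le_succ n)).op
    have h2 := congrArg (fun ψ : S.X₂.obj (op (n + 1)) ⟶ S.X₃.obj (op n) => ψ.hom.app (op U) b) h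
    exact h2
  have hfnat : ∀ (n : ℕ) (a : (S.X₁.obj (op (n + 1))).obj.obj (op U)),
      (S.f.app (op n)).hom.app (op U) ((tr S.X₁ n).hom.app (op U) a) =
        (tr S.X₂ n).hom.app (op U) ((S.f.app (op (n + 1))).hom.app (op U) a) := by
    intro n a
    have h := S.f.naturality (homOfLE (Nat.le_succ n)).op
    have h2 := congrArg (fun ψ : S.X₁.obj (op (n + 1)) ⟶ S.X₂.obj (op n) => ψ.hom.app (op U) a) h
    exact h2
  have hfg : ∀ (n : ℕ) (a : (S.X₁.obj (op n)).obj.obj (op U)),
      (S.g.app (op n)).hom.app (op U) ((S.f.app (op n)).hom.app (op U) a) = 0 := by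
    intro n a
    have h : S.f.app (op n) ≫ S.g.app (op n) = 0 := by
      rw [← NatTrans.comp_app, S.zero]
      rfl
    have h2 := congrArg (fun ψ : S.X₁.obj (op n) ⟶ S.X₃.obj (op n) => ψ.hom.app (op U) a) h
    exact h2
  let P : ∀ n, (S.X₂.obj (op n)).obj.obj (op U) → Prop :=
    fun n b => (S.g.app (op n)).hom.app (op U) b = comp S.X₃ U n z
  have h0 : ∃ b, P 0 b := hsurj 0 _
  have hstep : ∀ n (b : {b // P n b}), ∃ b' : {b' // P (n + 1) b'},
      (tr S.X₂ n).hom.app (op U) b'.1 = b.1 := by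
    intro n b
    obtain ⟨a, ha⟩ := hsurj (n + 1) (comp S.X₃ U (n + 1) z)
    have hd : (S.g.app (op n)).hom.app (op U) ((tr S.X₂ n).hom.app (op U) a - b.1) = 0 := by
      rw [map_sub, hgnat, ha, comp_tr, b.2, sub_self]
    obtain ⟨β, hβ⟩ := hexact n _ hd
    haveI := hepi n
    obtain ⟨c, hc⟩ := surj_of_flasque_kernel (tr S.X₁ n) (hK n) U β
    refine ⟨⟨a - (S.f.app (op (n + 1))).hom.app (op U) c, ?_⟩, ?_⟩
    · change (S.g.app (op (n + 1))).hom.app (op U) (a - (S.f.app (op (n + 1))).hom.app (op U) c) = _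
      rw [map_sub, hfg, ha, sub_zero]
    · change (tr S.X₂ n).hom.app (op U) (a - (S.f.app (op (n + 1))).hom.app (op U) c) = b.1
      rw [map_sub, ← hfnat, hc, hβ]
      abel
  choose nxt hnxt using hstep
  let t : ∀ n, {b // P n b} := fun n => Nat.rec ⟨h0.choose, h0.choose_spec⟩ (fun n b => nxt n b) n
  obtain ⟨T, hT⟩ := exists_sec S.X₂ U (fun n => (t n).1) (fun n => hnxt n (t n))
  refine ⟨T, ?_⟩
  apply sec_ext
  intro n
  have h := limMap_π S.g (op n)
  have h2 := congrArg (fun ψ : (limit S.X₂ : CohTop.Ab X) ⟶ S.X₃.obj (op n) => ψ.hom.app (op U) T) h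
  change comp S.X₃ U n ((limMap S.g).hom.app (op U) T) = _
  change (limit.π S.X₃ (op n)).hom.app (op U) ((limMap S.g).hom.app (op U) T) = _
  refine h2.trans ?_
  change (S.g.app (op n)).hom.app (op U) (comp S.X₂ U n T) = _
  rw [hT]
  exact (t n).2

end Groth.Agent.S19247
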