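import Groth.Statements.S19263
import Groth.Agent.Lib.Helper44.WittFilRoot

set_option autoImplicit false
universe u
open WittFil

namespace Groth.Agent.S19263

/-- Let A be a unique factorisation domain of characteristic p, x_1, …, x_r pairwise non-associate prime
elements of A, B the localisation A[1/(x_1⋯x_r)] with u_i the unit of B defined by x_i, n ∈ ℤ^r and
m ≥ 0. The filtered piece of the length-m truncated p-typical Witt vectors of B cut out by c = ∏ u_i
^ n_i, namely the set of vectors whose j-th coordinate y_j satisfies y_j ^ (p ^ (m-1-j)) · c ∈ A for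
every j < m, is closed under subtraction (so it is an additive subgroup). (The published setting is
a regular local ring A and the prime elements cutting out the components of a divisor; the argument
uses only unique factorisation.) -/
theorem result (p : ℕ) [Fact p.Prime] {A B : Type u} [CommRing A] [IsDomain A]
    [UniqueFactorizationMonoid A] [CharP A p] [CommRing B] [Algebra A B] {r : ℕ} (x : Fin r → A)
    (hx : ∀ i, Prime (x i)) (hxa : ∀ i j, Associated (x i) (x j) → i = j)
    [IsLocalization.Away (∏ i, x i) B] (u : Fin r → Bˣ)
    (hu : ∀ i, (u i : B) = algebraMap A B (x i)) (n : Fin r → ℤ) (m : ℕ)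
    (a b : TruncatedWittVector p m B) (ha : a ∈ WittFil.fil p m (A := A) (WittFil.zmon u n))
    (hb : b ∈ WittFil.fil p m (A := A) (WittFil.zmon u n)) :
    a - b ∈ WittFil.fil p m (A := A) (WittFil.zmon u n) := by
  have hp : p.Prime := Fact.out
  have hπ := Groth.Agent.Lib.Helper44.prod_ne_zero_of_prime x hx
  obtain ⟨K, _, _, _, ι, hι⟩ := Groth.Agent.Lib.Helper44.exists_root_setup p (B := B) hπ
  have hT2 : ∀ (y : B) (k : ℕ), y ^ (p ^ k) ∈ (algebraMap A B).range →
      y ∈ (algebraMap A B).range := fun y k h =>
    Groth.Agent.Lib.Helper44.mem_range_of_pow_mem_range hπ (pow_pos hp.pos k) h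
  obtain ⟨T, hT⟩ := IsAlgClosed.exists_pow_nat_eq (ι (WittFil.zmon u n)) (pow_pos hp.pos (m - 1))
  have hout : ∀ (c : TruncatedWittVector p m B) (k : ℕ), ¬ k < m → c.out.coeff k = 0 := by
    intro c k hk
    simp [TruncatedWittVector.out, hk]
  have hmem : ∀ c : TruncatedWittVector p m B, c ∈ WittFil.fil p m (A := A) (WittFil.zmon u n) →
      WittVector.map ι c.out * WittVector.teichmuller p T ∈
        Groth.Agent.Lib.Helper44.coeffSubring p
          (Groth.Agent.Lib.Helper44.rootSubring (A := A) p ι m) := by
    intro c hc
    rw [Groth.Agent.Lib.Helper44.mem_coeffSubring]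
    intro k
    by_cases hk : k < m
    · have hc' : WittVector.truncate m c.out ∈ WittFil.fil p m (A := A) (WittFil.zmon u n) := by
        rw [show WittVector.truncate m c.out = c from TruncatedWittVector.truncateFun_out c]
        exact hc
      exact (Groth.Agent.Lib.Helper44.truncate_mem_fil_iff p m hι hT2 _ T hT c.out).mp hc' k hk
    · rw [Groth.Agent.Lib.Helper44.mul_teichmuller_coeff, WittVector.map_coeff, hout c k hk,
        map_zero, zero_mul]
      exact Subring.zero_mem _
  have hXY : WittVector.map ι (a.out - b.out) * WittVector.teichmuller p T ∈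
      Groth.Agent.Lib.Helper44.coeffSubring p
        (Groth.Agent.Lib.Helper44.rootSubring (A := A) p ι m) := by
    rw [map_sub, sub_mul]
    exact Subring.sub_mem _ (hmem a ha) (hmem b hb)
  have hab : a - b = WittVector.truncate m (a.out - b.out) := by
    rw [map_sub, show WittVector.truncate m a.out = a from TruncatedWittVector.truncateFun_out a,
      show WittVector.truncate m b.out = b from TruncatedWittVector.truncateFun_out b]
  rw [hab]
  exact (Groth.Agent.Lib.Helper44.truncate_mem_fil_iff p m hι hT2 _ T hT _).mpr
    (fun k _ => (Groth.Agent.Lib.Helper44.mem_coeffSubring p _ _).mp hXY k)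

end Groth.Agent.S19263
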