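import Groth.Statements.S19264
import Groth.Agent.Lib.Helper44.UFDLoc2

set_option autoImplicit false
universe u
open WittFil

namespace Groth.Agent.S19264

/-- Let A be a unique factorisation domain of characteristic p, x_1, …, x_r pairwise non-associate prime
elements of A, B = A[1/(x_1⋯x_r)] with u_i the unit of B defined by x_i, n ∈ ℤ^r and m ≥ 0. The
restriction map from truncated p-typical Witt vectors of length m+1 to those of length m over B
(forgetting the last coordinate) maps the filtered piece cut out by ∏ u_i ^ n_i onto the filtered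
piece cut out by ∏ u_i ^ ⌊n_i / p⌋; that is, the image is exactly that piece. (The other parts of
the exact sequence, injectivity of the (m-fold) Verschiebung from the fractional ideal generated by
(∏ u_i ^ n_i)⁻¹ and exactness in the middle, are immediate from the definition and are not restated.
The published setting is a regular local ring; only unique factorisation is used.) -/
theorem result (p : ℕ) [Fact p.Prime] {A B : Type u} [CommRing A] [IsDomain A]
    [UniqueFactorizationMonoid A] [CharP A p] [CommRing B] [Algebra A B] {r : ℕ} (x : Fin r → A)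
    (hx : ∀ i, Prime (x i)) (hxa : ∀ i j, Associated (x i) (x j) → i = j)
    [IsLocalization.Away (∏ i, x i) B] (u : Fin r → Bˣ)
    (hu : ∀ i, (u i : B) = algebraMap A B (x i)) (n : Fin r → ℤ) (m : ℕ) :
    (TruncatedWittVector.truncate (Nat.le_succ m)) '' WittFil.fil p (m + 1) (A := A) (WittFil.zmon u n) =
      WittFil.fil p m (A := A) (WittFil.zmon u (fun i => n i / (p : ℤ))) := by
  classical
  have hp : p.Prime := Fact.out
  have hp0 : (0 : ℤ) < (p : ℤ) := by exact_mod_cast hp.pos
  let s : Fin r → ℕ := fun i => (n i % (p : ℤ)).toNat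
  have hs : ∀ i, ((s i : ℕ) : ℤ) = n i % (p : ℤ) := fun i =>
    Int.toNat_of_nonneg (Int.emod_nonneg _ hp0.ne')
  have hsp : ∀ i, s i < p := fun i => by
    have h1 := hs i
    have h2 := Int.emod_lt_of_pos (n i) hp0
    omega
  have hzmon : WittFil.zmon u n =
      (WittFil.zmon u (fun i => n i / (p : ℤ))) ^ p * algebraMap A B (∏ i, x i ^ s i) := by
    have h1 : algebraMap A B (∏ i, x i ^ s i) = ((∏ i, u i ^ (s i) : Bˣ) : B) := by
      simp only [map_prod, map_pow, Units.coe_prod, Units.val_pow_eq_pow_val]
      exact Finset.prod_congr rfl fun i _ => by rw [hu i]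
    rw [h1, WittFil.zmon, WittFil.zmon, ← Units.val_pow_eq_pow_val, ← Units.val_mul,
      ← Finset.prod_pow, ← Finset.prod_mul_distrib]
    congr 1
    refine Finset.prod_congr rfl fun i _ => ?_
    rw [← zpow_natCast (u i ^ (n i / (p : ℤ))), ← zpow_mul, ← zpow_natCast (u i) (s i),
      ← zpow_add, hs i, Int.ediv_mul_add_emod]
  have hkey : ∀ (y : B) (e : ℕ), y ^ (p ^ (e + 1)) * WittFil.zmon u n =
      (y ^ (p ^ e) * WittFil.zmon u (fun i => n i / (p : ℤ))) ^ p *
        algebraMap A B (∏ i, x i ^ s i) := by
    intro y e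
    rw [hzmon, pow_succ, pow_mul, mul_pow]
    ring
  apply Set.Subset.antisymm
  · rintro _ ⟨a, ha, rfl⟩ j
    rw [TruncatedWittVector.coeff_truncate]
    have h := ha (Fin.castLE (Nat.le_succ m) j)
    have e1 : m + 1 - 1 - ((Fin.castLE (Nat.le_succ m) j : Fin (m + 1)) : ℕ) =
        (m - 1 - (j : ℕ)) + 1 := by
      have := j.2
      simp only [Fin.val_castLE]
      omega
    rw [e1, hkey] at h
    exact Groth.Agent.Lib.Helper44.mem_range_of_pow_mul_mem_range x hx hxa p s hsp _ h
  · intro b hb
    refine ⟨TruncatedWittVector.mk p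
      (fun i : Fin (m + 1) => if h : (i : ℕ) < m then b.coeff ⟨i, h⟩ else 0), ?_, ?_⟩
    · intro i
      rw [TruncatedWittVector.coeff_mk]
      by_cases h : (i : ℕ) < m
      · rw [dif_pos h]
        have e1 : m + 1 - 1 - (i : ℕ) = (m - 1 - (i : ℕ)) + 1 := by omega
        rw [e1, hkey]
        have h2 := hb ⟨i, h⟩
        exact Subring.mul_mem _ (Subring.pow_mem _ h2 _) ⟨_, rfl⟩
      · rw [dif_neg h, zero_pow (pow_ne_zero _ hp.ne_zero), zero_mul]
        exact Subring.zero_mem _
    · apply TruncatedWittVector.ext
      intro j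
      rw [TruncatedWittVector.coeff_truncate, TruncatedWittVector.coeff_mk]
      simp [j.2]

end Groth.Agent.S19264
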