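import Groth.Statements.S19265
import Groth.Agent.Lib.Helper44.WittFilRoot

set_option autoImplicit false
universe u
open WittFil

namespace Groth.Agent.S19265

/-- Let A be a unique factorisation domain of characteristic p, x_1, …, x_r pairwise non-associate prime
elements of A, B = A[1/(x_1⋯x_r)] with u_i the unit of B defined by x_i, n, n' ∈ ℤ^r and m ≥ 0. If a
truncated p-typical Witt vector a of length m over B lies in the filtered piece cut out by ∏ u_i ^
n_i and b lies in the piece cut out by ∏ u_i ^ n'_i, then the product a · b lies in the piece cut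
out by ∏ u_i ^ (n_i + n'_i). In particular (n' = 0) each filtered piece is a module over the
truncated Witt vectors of A. (The published statement also asserts the analogous inclusion for sums,
which holds only when both multi-indices are non-negative and is then immediate from monotonicity;
the published setting is a regular local ring, and only unique factorisation is used.) -/
theorem result (p : ℕ) [Fact p.Prime] {A B : Type u} [CommRing A] [IsDomain A]
    [UniqueFactorizationMonoid A] [CharP A p] [CommRing B] [Algebra A B] {r : ℕ} (x : Fin r → A)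
    (hx : ∀ i, Prime (x i)) (hxa : ∀ i j, Associated (x i) (x j) → i = j)
    [IsLocalization.Away (∏ i, x i) B] (u : Fin r → Bˣ)
    (hu : ∀ i, (u i : B) = algebraMap A B (x i)) (n n' : Fin r → ℤ) (m : ℕ)
    (a b : TruncatedWittVector p m B) (ha : a ∈ WittFil.fil p m (A := A) (WittFil.zmon u n))
    (hb : b ∈ WittFil.fil p m (A := A) (WittFil.zmon u n')) :
    a * b ∈ WittFil.fil p m (A := A) (WittFil.zmon u (n + n')) := by
  have hp : p.Prime := Fact.out
  have hπ := Groth.Agent.Lib.Helper44.prod_ne_zero_of_prime x hx
  obtain ⟨K, _, _, _, ι, hι⟩ := Groth.Agent.Lib.Helper44.exists_root_setup p (B := B) hπ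
  have hT2 : ∀ (y : B) (k : ℕ), y ^ (p ^ k) ∈ (algebraMap A B).range →
      y ∈ (algebraMap A B).range := fun y k h =>
    Groth.Agent.Lib.Helper44.mem_range_of_pow_mem_range hπ (pow_pos hp.pos k) h
  obtain ⟨T, hT⟩ := IsAlgClosed.exists_pow_nat_eq (ι (WittFil.zmon u n)) (pow_pos hp.pos (m - 1))
  obtain ⟨T', hT'⟩ :=
    IsAlgClosed.exists_pow_nat_eq (ι (WittFil.zmon u n')) (pow_pos hp.pos (m - 1))
  have hzmon : WittFil.zmon u (n + n') = WittFil.zmon u n * WittFil.zmon u n' := by
    simp only [WittFil.zmon, Pi.add_apply, zpow_add, Finset.prod_mul_distrib, Units.val_mul]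
  have hTT' : (T * T') ^ (p ^ (m - 1)) = ι (WittFil.zmon u (n + n')) := by
    rw [mul_pow, hT, hT', hzmon, map_mul]
  have hout : ∀ (c : TruncatedWittVector p m B) (k : ℕ), ¬ k < m → c.out.coeff k = 0 := by
    intro c k hk
    simp [TruncatedWittVector.out, hk]
  have hmem : ∀ (c₀ : B) (T₀ : K), T₀ ^ (p ^ (m - 1)) = ι c₀ →
      ∀ c : TruncatedWittVector p m B, c ∈ WittFil.fil p m (A := A) c₀ →
      WittVector.map ι c.out * WittVector.teichmuller p T₀ ∈
        Groth.Agent.Lib.Helper44.coeffSubring p
          (Groth.Agent.Lib.Helper44.rootSubring (A := A) p ι m) := by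
    intro c₀ T₀ hT₀ c hc
    rw [Groth.Agent.Lib.Helper44.mem_coeffSubring]
    intro k
    by_cases hk : k < m
    · have hc' : WittVector.truncate m c.out ∈ WittFil.fil p m (A := A) c₀ := by
        rw [show WittVector.truncate m c.out = c from TruncatedWittVector.truncateFun_out c]
        exact hc
      exact (Groth.Agent.Lib.Helper44.truncate_mem_fil_iff p m hι hT2 _ T₀ hT₀ c.out).mp hc' k hk
    · rw [Groth.Agent.Lib.Helper44.mul_teichmuller_coeff, WittVector.map_coeff, hout c k hk,
        map_zero, zero_mul]
      exact Subring.zero_mem _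
  have hXY : WittVector.map ι (a.out * b.out) * WittVector.teichmuller p (T * T') ∈
      Groth.Agent.Lib.Helper44.coeffSubring p
        (Groth.Agent.Lib.Helper44.rootSubring (A := A) p ι m) := by
    have e : WittVector.map ι (a.out * b.out) * WittVector.teichmuller p (T * T') =
        (WittVector.map ι a.out * WittVector.teichmuller p T) *
          (WittVector.map ι b.out * WittVector.teichmuller p T') := by
      rw [map_mul, map_mul]
      ring
    rw [e]
    exact Subring.mul_mem _ (hmem _ T hT a ha) (hmem _ T' hT' b hb)
  have hab : a * b = WittVector.truncate m (a.out * b.out) := by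
    rw [map_mul, show WittVector.truncate m a.out = a from TruncatedWittVector.truncateFun_out a,
      show WittVector.truncate m b.out = b from TruncatedWittVector.truncateFun_out b]
  rw [hab]
  exact (Groth.Agent.Lib.Helper44.truncate_mem_fil_iff p m hι hT2 _ (T * T') hTT' _).mpr
    (fun k _ => (Groth.Agent.Lib.Helper44.mem_coeffSubring p _ _).mp hXY k)

end Groth.Agent.S19265
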