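import Groth.Statements.S19266
import Groth.Agent.Lib.Helper44.WittTeich
import Groth.Agent.Lib.Helper44.UFDLoc

set_option autoImplicit false
universe u
open WittFil

namespace Groth.Agent.S19266

/-- Let A be a unique factorisation domain of characteristic p, x_1, …, x_r pairwise non-associate prime
elements of A, B = A[1/(x_1⋯x_r)] with u_i the unit of B defined by x_i, n ∈ ℤ^r, m ≥ 0 and c = ∏
u_i ^ n_i. A truncated p-typical Witt vector a of length m over B lies in the filtered piece cut out
by c ^ (p ^ (m-1)) if and only if all coordinates of the product a · [c] lie in A, where [c] denotes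
the (truncated) Teichmüller representative of c; in other words that filtered piece is the
invertible module [c]⁻¹ · W_m(A). (Published for a regular local ring; only unique factorisation is
used.) -/
theorem result (p : ℕ) [Fact p.Prime] {A B : Type u} [CommRing A] [IsDomain A]
    [UniqueFactorizationMonoid A] [CharP A p] [CommRing B] [Algebra A B] {r : ℕ} (x : Fin r → A)
    (hx : ∀ i, Prime (x i)) (hxa : ∀ i j, Associated (x i) (x j) → i = j)
    [IsLocalization.Away (∏ i, x i) B] (u : Fin r → Bˣ)
    (hu : ∀ i, (u i : B) = algebraMap A B (x i)) (n : Fin r → ℤ) (m : ℕ)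
    (a : TruncatedWittVector p m B) :
    a ∈ WittFil.fil p m (A := A) ((WittFil.zmon u n) ^ (p ^ (m - 1))) ↔
      ∀ j : Fin m, TruncatedWittVector.coeff j
          (a * WittVector.truncate m (WittVector.teichmuller p (WittFil.zmon u n))) ∈
        (algebraMap A B).range := by
  have hπ := Groth.Agent.Lib.Helper44.prod_ne_zero_of_prime x hx
  have key : ∀ j : Fin m,
      (TruncatedWittVector.coeff j
        (a * WittVector.truncate m (WittVector.teichmuller p (WittFil.zmon u n)))) ^
          (p ^ (m - 1 - (j : ℕ))) =
      (TruncatedWittVector.coeff j a) ^ (p ^ (m - 1 - (j : ℕ))) *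
        (WittFil.zmon u n) ^ (p ^ (m - 1)) := by
    intro j
    have hj : (j : ℕ) + (m - 1 - (j : ℕ)) = m - 1 := by have := j.2; omega
    rw [Groth.Agent.Lib.Helper44.mul_truncate_teichmuller_coeff, mul_pow, ← pow_mul, ← pow_add, hj]
  constructor
  · intro h j
    refine Groth.Agent.Lib.Helper44.mem_range_of_pow_mem_range hπ
      (n := p ^ (m - 1 - (j : ℕ))) (pow_pos (Fact.out : p.Prime).pos _) ?_
    rw [key j]
    exact h j
  · intro h j
    change (TruncatedWittVector.coeff j a) ^ (p ^ (m - 1 - (j : ℕ))) *
      (WittFil.zmon u n) ^ (p ^ (m - 1)) ∈ (algebraMap A B).range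
    rw [← key j]
    exact Subring.pow_mem _ (h j) _

end Groth.Agent.S19266
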