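import Groth.Statements.S19267
import Groth.Agent.Lib.Helper44.WittTeich
import Mathlib.Tactic

set_option autoImplicit false
universe u
open WittFil

namespace Groth.Agent.S19267


open Groth.Agent.Lib.Helper44 in
theorem mem_fil_iff (p : ℕ) [Fact p.Prime] {A B : Type u}
    [CommRing A] [CommRing B] [Algebra A B] (m : ℕ) (u : Bˣ) (n l : ℤ)
    (a : TruncatedWittVector p m B) :
    WittVector.truncate m (WittVector.teichmuller p ((u ^ l : Bˣ) : B)) * a ∈
        WittFil.fil p m (A := A) ((u ^ (n - (p : ℤ) ^ (m - 1) * l) : Bˣ) : B) ↔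
      a ∈ WittFil.fil p m (A := A) ((u ^ n : Bˣ) : B) := by
  have key : ∀ j : Fin m,
      (TruncatedWittVector.coeff j
        (WittVector.truncate m (WittVector.teichmuller p ((u ^ l : Bˣ) : B)) * a)) ^
          (p ^ (m - 1 - (j : ℕ))) * ((u ^ (n - (p : ℤ) ^ (m - 1) * l) : Bˣ) : B) =
      (TruncatedWittVector.coeff j a) ^ (p ^ (m - 1 - (j : ℕ))) * ((u ^ n : Bˣ) : B) := by
    intro j
    rw [truncate_teichmuller_mul_coeff, mul_pow, ← pow_mul, ← pow_add]
    have hj : (j : ℕ) + (m - 1 - (j : ℕ)) = m - 1 := by have := j.2; omega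
    rw [hj]
    have hu : (u ^ l) ^ (p ^ (m - 1) : ℕ) * u ^ (n - (p : ℤ) ^ (m - 1) * l) = u ^ n := by
      rw [← zpow_natCast, ← zpow_mul, ← zpow_add]
      congr 1
      push_cast
      ring
    have hu' := congrArg (fun v : Bˣ => (v : B)) hu
    simp only [Units.val_mul, Units.val_pow_eq_pow_val] at hu'
    rw [← hu']
    ring
  constructor
  · intro h j
    rw [← key j]
    exact h j
  · intro h j
    rw [key j]
    exact h j

/-- Let A → B be a homomorphism of commutative rings, u a unit of B, m ≥ 0 and n, l integers. For an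
element c of B call the filtered piece cut out by c the set of truncated p-typical Witt vectors of
length m over B whose j-th coordinate y_j satisfies: y_j ^ (p ^ (m-1-j)) · c lies in the image of A,
for every j < m. Then the piece cut out by u ^ (n − p^(m−1)·l) is exactly the image of the piece cut
out by u ^ n under multiplication by the truncated Teichmüller representative [u ^ l]. (The
published case is B = S[[π]][1/π] over A = S[[π]] with u = π; the computation is the same in
general.) -/
theorem result (p : ℕ) [Fact p.Prime] {A B : Type u}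
    [CommRing A] [CommRing B] [Algebra A B] (m : ℕ) (u : Bˣ) (n l : ℤ) :
    WittFil.fil p m (A := A) ((u ^ (n - (p : ℤ) ^ (m - 1) * l) : Bˣ) : B) =
      (fun a => WittVector.truncate m (WittVector.teichmuller p ((u ^ l : Bˣ) : B)) * a) ''
        WittFil.fil p m (A := A) ((u ^ n : Bˣ) : B) := by
  apply Set.Subset.antisymm
  · intro b hb
    refine ⟨WittVector.truncate m (WittVector.teichmuller p ((u ^ (-l) : Bˣ) : B)) * b, ?_, ?_⟩
    · rw [← mem_fil_iff p m u n l]
      rw [← mul_assoc, ← map_mul, ← map_mul, ← Units.val_mul, ← zpow_add, add_neg_cancel,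
        zpow_zero, Units.val_one, map_one, map_one, one_mul]
      exact hb
    · change WittVector.truncate m (WittVector.teichmuller p ((u ^ l : Bˣ) : B)) *
        (WittVector.truncate m (WittVector.teichmuller p ((u ^ (-l) : Bˣ) : B)) * b) = b
      rw [← mul_assoc, ← map_mul, ← map_mul, ← Units.val_mul, ← zpow_add, add_neg_cancel,
        zpow_zero, Units.val_one, map_one, map_one, one_mul]
  · rintro _ ⟨a, ha, rfl⟩
    exact (mem_fil_iff p m u n l a).mpr ha

end Groth.Agent.S19267
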