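import Groth.Statements.S19268
import Mathlib
import Groth.Agent.Lib.Helper91.WittFilPS

set_option autoImplicit false
universe u
open WittFil

set_option linter.unusedSectionVars false

namespace Groth.Agent.S19268Aux

open WittVector Groth.Agent.Lib.Helper91.WittFilPS Groth.Agent.Lib.Helper44

variable (p : ℕ) [hp : Fact p.Prime]

section General

variable {R : Type*} [CommRing R]

theorem coeff_V_teich (j n : ℕ) (b : R) :
    ((verschiebung (p := p))^[j] (teichmuller p b)).coeff n = if n = j then b else 0 := by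
  by_cases h : n < j
  · rw [iterate_verschiebung_coeff_eq_zero _ h, if_neg (by omega)]
  · obtain ⟨k, rfl⟩ : ∃ k, n = k + j := ⟨n - j, by omega⟩
    rw [iterate_verschiebung_coeff]
    rcases Nat.eq_zero_or_pos k with rfl | hk
    · simp [teichmuller_coeff_zero]
    · rw [teichmuller_coeff_pos p b k hk, if_neg (by omega)]

theorem coeff_sum_V_teich (m : ℕ) (b : ℕ → R) (n : ℕ) :
    (∑ j ∈ Finset.range m, (verschiebung (p := p))^[j] (teichmuller p (b j))).coeff n =
      if n < m then b n else 0 := by
  rw [sum_coeff_eq_coeff_sum]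
  · simp only [coeff_V_teich]
    rw [Finset.sum_ite_eq]
    simp [Finset.mem_range]
  · intro n'
    refine ⟨fun x y => ?_⟩
    have hx := x.2.2
    have hy := y.2.2
    rw [coeff_V_teich] at hx hy
    have hx' : n' = x.1 := by
      by_contra h; exact hx (if_neg h)
    have hy' : n' = y.1 := by
      by_contra h; exact hy (if_neg h)
    exact Subtype.ext (hx'.symm.trans hy')

theorem unit_pow_id {B : Type*} [CommRing B] (u : Bˣ) (q : ℤ) (k e : ℕ) (z : ℤ) :
    (((u ^ q : Bˣ) : B) ^ p ^ k) ^ p ^ e * ((u ^ z : Bˣ) : B) =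
      ((u ^ (q * (p : ℤ) ^ k * (p : ℤ) ^ e + z) : Bˣ) : B) := by
  rw [← Units.val_pow_eq_pow_val, ← Units.val_pow_eq_pow_val, ← Units.val_mul, ← zpow_natCast,
    ← zpow_natCast, ← zpow_mul, ← zpow_mul, ← zpow_add]
  push_cast
  rw [mul_assoc]

theorem vShiftTeich_coeff {S B : Type*} [CommRing S] [CommRing B] [Algebra S B] (m s : ℕ) (v : B)
    (c : WittVector p S) (j : Fin m) :
    TruncatedWittVector.coeff j (WittFil.vShiftTeich p m s v c) =
      if (j : ℕ) < s then 0 else algebraMap S B (c.coeff ((j : ℕ) - s)) * v ^ p ^ ((j : ℕ) - s) := by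
  unfold WittFil.vShiftTeich
  rw [WittVector.coeff_truncate]
  split_ifs with h
  · exact iterate_verschiebung_coeff_eq_zero _ h
  · obtain ⟨k, hk⟩ : ∃ k, (j : ℕ) = k + s := ⟨(j : ℕ) - s, by omega⟩
    rw [hk, iterate_verschiebung_coeff, mul_teichmuller_coeff, WittVector.map_coeff,
      Nat.add_sub_cancel]

end General

section Main

variable {S B : Type u} [CommRing S] [IsDomain S] [CharP S p]
  [CommRing B] [Algebra (PowerSeries S) B] [Algebra S B] [IsScalarTower S (PowerSeries S) B]
  [IsLocalization.Away (PowerSeries.X : PowerSeries S) B]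
  (u : Bˣ) (hu : (u : B) = algebraMap (PowerSeries S) B PowerSeries.X)

/-- the coordinate condition for `Φ(c)` at an index `j ≥ s`, with a shift `z` -/
theorem coord_id (m s : ℕ) (i : ℤ) (j : ℕ) (hj : j < m) (hsj : s ≤ j) (x : S) (z : ℤ) :
    (algebraMap S B x * ((u ^ i : Bˣ) : B) ^ p ^ (j - s)) ^ p ^ (m - 1 - j) *
        ((u ^ (-((p : ℤ) ^ (m - 1 - s) * i) + z) : Bˣ) : B) =
      algebraMap (PowerSeries S) B (PowerSeries.C (x ^ p ^ (m - 1 - j))) * ((u ^ z : Bˣ) : B) := by
  rw [mul_pow, mul_assoc, unit_pow_id, IsScalarTower.algebraMap_apply S (PowerSeries S) B,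
    ← map_pow, ← map_pow]
  have hexp : i * (p : ℤ) ^ (j - s) * (p : ℤ) ^ (m - 1 - j) + (-((p : ℤ) ^ (m - 1 - s) * i) + z) = z := by
    have : (p : ℤ) ^ (m - 1 - s) = (p : ℤ) ^ (j - s) * (p : ℤ) ^ (m - 1 - j) := by
      rw [← pow_add]; congr 1; omega
    rw [this]; ring
  rw [hexp]
  rfl

include hu in
theorem part1 (m s : ℕ) (hs : s < m) (i : ℤ) (c : WittVector p S) :
    WittFil.vShiftTeich p m s ((u ^ i : Bˣ) : B) c ∈
      WittFil.fil p m (A := PowerSeries S) ((u ^ (-((p : ℤ) ^ (m - 1 - s) * i)) : Bˣ) : B) := by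
  intro j
  rw [vShiftTeich_coeff]
  split_ifs with h
  · rw [zero_pow (pow_ne_zero _ hp.out.ne_zero), zero_mul]
    exact Subring.zero_mem _
  · have := coord_id p u m s i j j.2 (by omega) (c.coeff ((j : ℕ) - s)) 0
    rw [add_zero] at this
    rw [this]
    exact ⟨PowerSeries.C (c.coeff ((j : ℕ) - s) ^ p ^ (m - 1 - (j : ℕ))), by simp⟩

include hu in
theorem part2 (m s : ℕ) (hs : s < m) (i : ℤ) (c : WittVector p S) :
    WittFil.vShiftTeich p m s ((u ^ i : Bˣ) : B) c ∈
        WittFil.fil p m (A := PowerSeries S) ((u ^ (-((p : ℤ) ^ (m - 1 - s) * i) - 1) : Bˣ) : B) ↔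
      WittVector.truncate (m - s) c = 0 := by
  have key : ∀ (j : ℕ) (hj : j < m), s ≤ j →
      ((algebraMap S B (c.coeff (j - s)) * ((u ^ i : Bˣ) : B) ^ p ^ (j - s)) ^ p ^ (m - 1 - j) *
        ((u ^ (-((p : ℤ) ^ (m - 1 - s) * i) - 1) : Bˣ) : B) ∈
          (algebraMap (PowerSeries S) B).range ↔ c.coeff (j - s) = 0) := by
    intro j hj hsj
    rw [sub_eq_add_neg, coord_id p u m s i j hj hsj]
    constructor
    · intro h
      by_contra hne
      have hne' : (PowerSeries.C (c.coeff (j - s) ^ p ^ (m - 1 - j)) : PowerSeries S) ≠ 0 := by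
        intro h0
        apply hne
        have := PowerSeries.C_injective (h0.trans (map_zero _).symm)
        exact pow_eq_zero_iff (pow_ne_zero _ hp.out.ne_zero) |>.1 this
      have h1 := (mem_iff u hu _ hne' (-1)).1 h
      have h2 : (PowerSeries.order (PowerSeries.C (c.coeff (j - s) ^ p ^ (m - 1 - j)) :
          PowerSeries S)).toNat = 0 := by
        have : PowerSeries.order (PowerSeries.C (c.coeff (j - s) ^ p ^ (m - 1 - j)) :
            PowerSeries S) ≤ (0 : ℕ) := by
          apply PowerSeries.order_le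
          rw [PowerSeries.coeff_zero_C]
          intro h0
          exact hne' (by rw [h0, map_zero])
        have h3 : PowerSeries.order (PowerSeries.C (c.coeff (j - s) ^ p ^ (m - 1 - j)) :
            PowerSeries S) = 0 := le_antisymm (by simpa using this) zero_le
        rw [h3]; rfl
      rw [h2] at h1
      omega
    · intro h
      rw [h, zero_pow (pow_ne_zero _ hp.out.ne_zero), map_zero, map_zero, zero_mul]
      exact Subring.zero_mem _
  constructor
  · intro h
    apply TruncatedWittVector.ext
    intro l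
    rw [WittVector.coeff_truncate, TruncatedWittVector.coeff_zero]
    have hl : (l : ℕ) + s < m := by have := l.2; omega
    have h1 := h ⟨(l : ℕ) + s, hl⟩
    rw [vShiftTeich_coeff, if_neg (by simp)] at h1
    simp only [Nat.add_sub_cancel] at h1
    have h2 := (key ((l : ℕ) + s) hl (by omega)).1
    simp only [Nat.add_sub_cancel] at h2
    exact h2 h1
  · intro h j
    rw [vShiftTeich_coeff]
    split_ifs with hjs
    · rw [zero_pow (pow_ne_zero _ hp.out.ne_zero), zero_mul]
      exact Subring.zero_mem _
    · have hjs' : s ≤ (j : ℕ) := by omega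
      rw [key j j.2 hjs']
      have hl : (j : ℕ) - s < m - s := by have := j.2; omega
      have := congrArg (TruncatedWittVector.coeff ⟨(j : ℕ) - s, hl⟩) h
      rw [WittVector.coeff_truncate, TruncatedWittVector.coeff_zero] at this
      exact this

include hu in
theorem part3 (m s : ℕ) (hs : s < m) (i : ℤ) (hsi : s = 0 ∨ ¬ ((p : ℤ) ∣ i))
    (y : TruncatedWittVector p m B)
    (hy : y ∈ WittFil.fil p m (A := PowerSeries S) ((u ^ (-((p : ℤ) ^ (m - 1 - s) * i)) : Bˣ) : B)) :
    ∃ c : WittVector p S,
      y - WittFil.vShiftTeich p m s ((u ^ i : Bˣ) : B) c ∈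
        WittFil.fil p m (A := PowerSeries S)
          ((u ^ (-((p : ℤ) ^ (m - 1 - s) * i) - 1) : Bˣ) : B) := by
  have hpp : p.Prime := hp.out
  -- Step A: extraction for j ≥ s
  have hext : ∀ j : ℕ, ∃ a : PowerSeries S, ∀ (hj : j < m), s ≤ j →
      TruncatedWittVector.coeff ⟨j, hj⟩ y =
        algebraMap (PowerSeries S) B a * ((u ^ ((p : ℤ) ^ (j - s) * i) : Bˣ) : B) := by
    intro j
    by_cases hj : j < m ∧ s ≤ j
    · have h1 := hy ⟨j, hj.1⟩
      have hexp : -((p : ℤ) ^ (m - 1 - s) * i) =
          -(((p ^ (m - 1 - j) : ℕ) : ℤ) * ((p : ℤ) ^ (j - s) * i)) := by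
        push_cast
        rw [← mul_assoc, ← pow_add]
        congr 3
        omega
      rw [hexp] at h1
      obtain ⟨a, ha⟩ := extract u hu _ (p ^ (m - 1 - j)) (pow_pos hpp.pos _) _ h1
      exact ⟨a, fun _ _ => ha⟩
    · exact ⟨0, fun h1 h2 => absurd ⟨h1, h2⟩ hj⟩
  choose a ha using hext
  let c : WittVector p S := WittVector.mk p (fun l => PowerSeries.constantCoeff (a (l + s)))
  refine ⟨c, ?_⟩
  set v : B := ((u ^ i : Bˣ) : B) with hv
  let bb : ℕ → B := fun j =>
    if j < s then 0 else algebraMap S B (c.coeff (j - s)) * v ^ p ^ (j - s)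
  let Yc : ℕ → B := fun j => y.out.coeff j
  have hY : y = WittVector.truncate m
      (∑ j ∈ Finset.range m, (verschiebung (p := p))^[j] (teichmuller p (Yc j))) := by
    apply TruncatedWittVector.ext
    intro j
    rw [WittVector.coeff_truncate, coeff_sum_V_teich, if_pos j.2]
    exact (TruncatedWittVector.coeff_out y j).symm
  have hΦ : WittFil.vShiftTeich p m s v c = WittVector.truncate m
      (∑ j ∈ Finset.range m, (verschiebung (p := p))^[j] (teichmuller p (bb j))) := by
    apply TruncatedWittVector.ext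
    intro j
    rw [vShiftTeich_coeff, WittVector.coeff_truncate, coeff_sum_V_teich, if_pos j.2]
  have hdiff : y - WittFil.vShiftTeich p m s v c =
      ∑ j ∈ Finset.range m, WittVector.truncate m
        ((verschiebung (p := p))^[j] (teichmuller p (Yc j) - teichmuller p (bb j))) := by
    calc y - WittFil.vShiftTeich p m s v c
        = WittVector.truncate m
            (∑ j ∈ Finset.range m, (verschiebung (p := p))^[j] (teichmuller p (Yc j))) -
          WittVector.truncate m
            (∑ j ∈ Finset.range m, (verschiebung (p := p))^[j] (teichmuller p (bb j))) := by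
          rw [← hY, ← hΦ]
      _ = _ := by
          rw [← map_sub, ← Finset.sum_sub_distrib, map_sum]
          apply Finset.sum_congr rfl
          intro j _
          rw [iterate_map_sub (verschiebung (p := p) (R := B))]
  rw [hdiff]
  apply fil_sum_mem p u hu
  intro j hj
  rw [Finset.mem_range] at hj
  have hYj : Yc j = TruncatedWittVector.coeff ⟨j, hj⟩ y := TruncatedWittVector.coeff_out y ⟨j, hj⟩
  by_cases hjs : j < s
  · have hb0 : bb j = 0 := if_pos hjs
    rw [hb0, teichmuller_zero, sub_zero]
    intro n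
    rw [WittVector.coeff_truncate, coeff_V_teich]
    split_ifs with hn
    · have hi : ¬ ((p : ℤ) ∣ i) := by
        rcases hsi with h0 | h0
        · omega
        · exact h0
      have h1 := hy ⟨j, hj⟩
      have he : m - 1 - s = (m - 1 - j) - (s - j) := by omega
      rw [he] at h1 ⊢
      rw [hYj]
      have hnj : (n : ℕ) = j := hn
      rw [hnj]
      exact improve u hu p hpp _ (m - 1 - j) (s - j) (by omega) (by omega) i hi h1
    · rw [zero_pow (pow_ne_zero _ hpp.ne_zero), zero_mul]
      exact Subring.zero_mem _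
  · have hsj : s ≤ j := by omega
    set q : ℤ := (p : ℤ) ^ (j - s) * i with hq
    set uq : B := ((u ^ q : Bˣ) : B) with huq
    have hYj' : Yc j = algebraMap (PowerSeries S) B (a j) * uq := by
      rw [hYj]; exact ha j hj hsj
    have hcl : c.coeff (j - s) = PowerSeries.constantCoeff (a j) := by
      show PowerSeries.constantCoeff (a (j - s + s)) = _
      rw [Nat.sub_add_cancel hsj]
    have hvq : v ^ p ^ (j - s) = uq := by
      rw [hv, huq, ← Units.val_pow_eq_pow_val, ← zpow_natCast, ← zpow_mul, hq]
      push_cast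
      rw [mul_comm]
    have hbj : bb j = algebraMap (PowerSeries S) B (PowerSeries.C (PowerSeries.constantCoeff (a j))) * uq := by
      show (if j < s then 0 else algebraMap S B (c.coeff (j - s)) * v ^ p ^ (j - s)) = _
      rw [if_neg hjs, hcl, hvq, IsScalarTower.algebraMap_apply S (PowerSeries S) B]
      rfl
    set E : WittVector p (PowerSeries S) :=
      teichmuller p (a j) - teichmuller p (PowerSeries.C (PowerSeries.constantCoeff (a j))) with hE
    have hEX : ∀ k, (PowerSeries.X : PowerSeries S) ∣ E.coeff k := by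
      intro k
      rw [PowerSeries.X_dvd_iff]
      have h0 : WittVector.map (PowerSeries.constantCoeff (R := S)) E = 0 := by
        rw [hE, map_sub, map_teichmuller, map_teichmuller]
        simp
      have := congrArg (fun w => w.coeff k) h0
      simpa [WittVector.map_coeff] using this
    have hD : teichmuller p (Yc j) - teichmuller p (bb j) =
        WittVector.map (algebraMap (PowerSeries S) B) E * teichmuller p uq := by
      rw [hYj', hbj, map_mul, map_mul, hE, map_sub, map_teichmuller, map_teichmuller, sub_mul]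
    rw [hD]
    intro n
    rw [WittVector.coeff_truncate]
    by_cases hnj : (n : ℕ) < j
    · rw [iterate_verschiebung_coeff_eq_zero _ hnj, zero_pow (pow_ne_zero _ hpp.ne_zero), zero_mul]
      exact Subring.zero_mem _
    · obtain ⟨k, hk⟩ : ∃ k, (n : ℕ) = k + j := ⟨(n : ℕ) - j, by omega⟩
      rw [hk, iterate_verschiebung_coeff, mul_teichmuller_coeff, WittVector.map_coeff, mul_pow,
        mul_assoc, huq, unit_pow_id]
      have hexp : q * (p : ℤ) ^ k * (p : ℤ) ^ (m - 1 - (k + j)) +
          (-((p : ℤ) ^ (m - 1 - s) * i) - 1) = -1 := by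
        have hnm : k + j < m := by have := n.2; omega
        have : (p : ℤ) ^ (m - 1 - s) = (p : ℤ) ^ (j - s) * (p : ℤ) ^ k * (p : ℤ) ^ (m - 1 - (k + j)) := by
          rw [← pow_add, ← pow_add]; congr 1; omega
        rw [this, hq]; ring
      rw [hexp]
      obtain ⟨t, ht⟩ := dvd_pow (hEX k) (pow_ne_zero (m - 1 - (k + j)) hpp.ne_zero)
      refine ⟨t, ?_⟩
      rw [← map_pow, ht, map_mul, ← hu, mul_comm ((u : B)), mul_assoc, ← Units.val_mul]
      simp

end Main

end Groth.Agent.S19268Aux

namespace Groth.Agent.S19268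

/-- Let S be an integral domain of characteristic p, A = S[[π]] the power series ring, B = A[1/π] with u
the unit of B given by π, and let m > s ≥ 0 and i be an integer with s = 0 or p ∤ i; put n = p ^
(m−1−s) · i. For e in B write fil(e) for the set of truncated p-typical Witt vectors of length m
over B whose j-th coordinate y_j satisfies y_j ^ (p ^ (m−1−j)) · e ∈ A for all j, and for a Witt
vector c over S let Φ(c) ∈ W_m(B) be the length-m truncation of V^s(c · [u ^ i]) (V the
Verschiebung, [ ] the Teichmüller map, c mapped to B). Then Φ induces a bijection from the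
length-(m−s) truncated Witt vectors of S onto the graded piece fil(u^(−n)) / fil(u^(−n−1)): (1) Φ(c)
lies in fil(u^(−n)) for every c; (2) Φ(c) lies in fil(u^(−n−1)) exactly when the length-(m−s)
truncation of c is zero; (3) every element of fil(u^(−n)) is congruent to some Φ(c) modulo
fil(u^(−n−1)). (Published for S a regular local Noetherian F-finite F_p-algebra; the argument uses
only that S is a domain.) -/
theorem result (p : ℕ) [Fact p.Prime] {S B : Type u} [CommRing S]
    [IsDomain S] [CharP S p] [CommRing B] [Algebra (PowerSeries S) B] [Algebra S B]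
    [IsScalarTower S (PowerSeries S) B] [IsLocalization.Away (PowerSeries.X : PowerSeries S) B]
    (u : Bˣ) (hu : (u : B) = algebraMap (PowerSeries S) B PowerSeries.X) (m s : ℕ) (hs : s < m)
    (i : ℤ) (hsi : s = 0 ∨ ¬ ((p : ℤ) ∣ i)) :
    (∀ c : WittVector p S,
        WittFil.vShiftTeich p m s ((u ^ i : Bˣ) : B) c ∈
          WittFil.fil p m (A := PowerSeries S) ((u ^ (-((p : ℤ) ^ (m - 1 - s) * i)) : Bˣ) : B)) ∧
      (∀ c : WittVector p S,
        WittFil.vShiftTeich p m s ((u ^ i : Bˣ) : B) c ∈
            WittFil.fil p m (A := PowerSeries S) ((u ^ (-((p : ℤ) ^ (m - 1 - s) * i) - 1) : Bˣ) : B) ↔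
          WittVector.truncate (m - s) c = 0) ∧
      (∀ y ∈ WittFil.fil p m (A := PowerSeries S) ((u ^ (-((p : ℤ) ^ (m - 1 - s) * i)) : Bˣ) : B),
        ∃ c : WittVector p S,
          y - WittFil.vShiftTeich p m s ((u ^ i : Bˣ) : B) c ∈
            WittFil.fil p m (A := PowerSeries S)
              ((u ^ (-((p : ℤ) ^ (m - 1 - s) * i) - 1) : Bˣ) : B)) := by
  exact ⟨fun c => Groth.Agent.S19268Aux.part1 p u hu m s hs i c,
    fun c => Groth.Agent.S19268Aux.part2 p u hu m s hs i c,
    fun y hy => Groth.Agent.S19268Aux.part3 p u hu m s hs i hsi y hy⟩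

end Groth.Agent.S19268
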