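import Groth.Statements.S19269
import Mathlib.RingTheory.AdicCompletion.Exactness
import Mathlib.RingTheory.AdicCompletion.AsTensorProduct
import Mathlib.RingTheory.AdicCompletion.Noetherian

set_option autoImplicit false
universe u
open CAlg

namespace Groth.Agent.S19269

open IsLocalRing in
/-- Let R be a Noetherian local ring with maximal ideal 𝔪, M a finitely generated R-module and M^ its
𝔪-adic completion, a module over the 𝔪-adic completion R^ of R. Let N' be an R^-submodule of M^ and
N an R-submodule of M whose image in M^ is contained in N' and is dense in N' for the 𝔪-adic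
topology, in the sense that for every y in N' and every k there is x in N with y ≡ x modulo the
kernel of M^ → M/𝔪^k M. Then N' equals the image of the completion of N under the map induced by the
inclusion N → M (so N' is the completion of N), and N is the set of elements of M whose image in M^
lies in N'. -/
theorem result {R : Type u} [CommRing R]
    [IsNoetherianRing R] [IsLocalRing R] {M : Type u} [AddCommGroup M] [Module R M]
    [Module.Finite R M] (N : Submodule R M)
    (N' : Submodule (AdicCompletion (maximalIdeal R) R) (AdicCompletion (maximalIdeal R) M))
    (hle : ∀ x ∈ N, AdicCompletion.of (maximalIdeal R) M x ∈ N')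
    (hdense : ∀ y ∈ N', ∀ k : ℕ, ∃ x ∈ N,
      AdicCompletion.eval (maximalIdeal R) M k y = Submodule.Quotient.mk x) :
    (N'.restrictScalars R =
        (LinearMap.range (AdicCompletion.map (maximalIdeal R) N.subtype)).restrictScalars R) ∧
      (∀ x : M, x ∈ N ↔ AdicCompletion.of (maximalIdeal R) M x ∈ N') := by
  classical
  have hexact : Function.Exact (AdicCompletion.map (maximalIdeal R) N.subtype)
      (AdicCompletion.map (maximalIdeal R) N.mkQ) :=
    AdicCompletion.map_exact (I := maximalIdeal R) N.injective_subtype
      (LinearMap.exact_subtype_mkQ N) (Submodule.mkQ_surjective N)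
  have hrange : N' = LinearMap.range (AdicCompletion.map (maximalIdeal R) N.subtype) := by
    apply le_antisymm
    · intro y hy
      rw [← hexact.linearMap_ker_eq, LinearMap.mem_ker]
      ext k
      rw [AdicCompletion.map_val_apply]
      obtain ⟨x, hx, hxy⟩ := hdense y hy k
      rw [AdicCompletion.eval_apply] at hxy
      rw [hxy]
      have h0 : N.mkQ x = 0 := by simpa using hx
      have := LinearMap.reduceModIdeal_apply (maximalIdeal R ^ k) N.mkQ x
      rw [this, h0]
      rfl
    · rintro _ ⟨z, rfl⟩
      obtain ⟨w, rfl⟩ := AdicCompletion.ofTensorProduct_surjective_of_finite (maximalIdeal R) N z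
      induction w using TensorProduct.induction_on with
      | zero => simp
      | tmul r n =>
        rw [AdicCompletion.ofTensorProduct_tmul, map_smul, AdicCompletion.map_of]
        exact N'.smul_mem r (hle n n.2)
      | add a b ha hb =>
        rw [map_add, map_add]
        exact N'.add_mem ha hb
  refine ⟨by rw [hrange], fun x => ⟨fun hx => hle x hx, fun hx => ?_⟩⟩
  rw [hrange, ← hexact.linearMap_ker_eq, LinearMap.mem_ker, AdicCompletion.map_of] at hx
  have h0 : N.mkQ x = 0 := by
    apply AdicCompletion.of_injective (maximalIdeal R) (M ⧸ N)
    rw [hx, map_zero]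
  simpa using h0

end Groth.Agent.S19269
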