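import Groth.Statements.S19270
-- import your own Groth.Agent.* helpers here
import Groth.Agent.Lib.Helper49.GeomRegFS6
import Mathlib

set_option autoImplicit false
universe u
open CAlg

namespace Groth.Agent.S19270

open CAlg
open TensorProduct IsLocalRing KaehlerDifferential Groth.Agent.Lib.Helper49.GeomRegFS

theorem cotangent_li {A : Type u} [CommRing A] [IsRegularLocalRing A] {N : ℕ} (x : Fin N → A)
    (hx : Ideal.span (Set.range x) = maximalIdeal A)
    (hN : ringKrullDim A = (N : WithBot ℕ∞)) (hxm : ∀ i, x i ∈ maximalIdeal A) :
    LinearIndependent (ResidueField A)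
      (fun i => (maximalIdeal A).toCotangent ⟨x i, hxm i⟩) := by
  apply linearIndependent_of_top_le_span_of_card_eq_finrank
  · have h1 : Submodule.span A (Set.range (fun i => (⟨x i, hxm i⟩ : maximalIdeal A))) = ⊤ := by
      apply Submodule.map_injective_of_injective (maximalIdeal A).subtype_injective
      rw [Submodule.map_span, Submodule.map_top, Submodule.range_subtype, ← Set.range_comp]
      exact hx
    have h2 := (CotangentSpace.span_image_eq_top_iff (R := A)
      (s := Set.range (fun i => (⟨x i, hxm i⟩ : maximalIdeal A)))).mpr h1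
    rw [← Set.range_comp] at h2
    exact h2.ge
  · have h3 : (Module.finrank (ResidueField A) (CotangentSpace A) : WithBot ℕ∞) = ringKrullDim A :=
      (IsRegularLocalRing.iff_finrank_cotangentSpace A).mp inferInstance
    rw [hN] at h3
    rw [Fintype.card_fin]
    exact_mod_cast h3.symm

open IsLocalRing in
/-- Let A be a regular local ring of prime characteristic p, of Krull dimension N, with maximal ideal
generated by x_1, …, x_N, and assume that the module Ω_A of absolute Kähler differentials of A
(differentials relative to ℤ, equivalently relative to the prime field) is a free A-module of finite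
rank. Then dx_1, …, dx_N are part of a basis of Ω_A: there exist a basis b of Ω_A and an injection e
of the indices 1, …, N into the index type of b with b (e i) = d(x_i) for all i. (In the published
statement A is a regular local F-finite algebra over the prime field and the freeness and finiteness
of Ω_A form the first assertion, taken there from the literature; here they are hypotheses.) -/
theorem result (p : ℕ) [Fact p.Prime]
    {A : Type u} [CommRing A] [IsRegularLocalRing A] [CharP A p]
    [Module.Free A (KaehlerDifferential ℤ A)] [Module.Finite A (KaehlerDifferential ℤ A)]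
    {N : ℕ} (x : Fin N → A) (hx : Ideal.span (Set.range x) = maximalIdeal A)
    (hN : ringKrullDim A = (N : WithBot ℕ∞)) :
    ∃ (ι : Type u) (b : Module.Basis ι A (KaehlerDifferential ℤ A)) (e : Fin N ↪ ι),
      ∀ i : Fin N, b (e i) = KaehlerDifferential.D ℤ A (x i) := by
  classical
  have hxm : ∀ i, x i ∈ maximalIdeal A := fun i => hx ▸ Ideal.subset_span ⟨i, rfl⟩
  have hli := linearIndependent_one_tmul_D p x hxm (cotangent_li x hx hN hxm)
  set w : Fin N → ResidueField A ⊗[A] Ω[A⁄ℤ] := fun i => (1 : ResidueField A) ⊗ₜ[A] D ℤ A (x i)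
    with hw
  have hwinj : Function.Injective w := hli.injective
  have hS : LinearIndepOn (ResidueField A) id (Set.range w) := hli.linearIndepOn_id
  let bK := Module.Basis.extend hS
  have hsub : Set.range w ⊆ hS.extend (Set.subset_univ _) := Module.Basis.subset_extend hS
  have hsurj : Function.Surjective (TensorProduct.mk A (ResidueField A) (Ω[A⁄ℤ]) 1) := by
    intro t
    induction t using TensorProduct.induction_on with
    | zero => exact ⟨0, map_zero _⟩
    | tmul c ω =>
      obtain ⟨a, rfl⟩ := residue_surjective c
      refine ⟨a • ω, ?_⟩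
      rw [TensorProduct.mk_apply, TensorProduct.tmul_smul, TensorProduct.smul_tmul',
        Algebra.smul_def, mul_one]
      rfl
    | add s t hs ht =>
      obtain ⟨a, rfl⟩ := hs
      obtain ⟨b, rfl⟩ := ht
      exact ⟨a + b, map_add _ _ _⟩
  let v : ↥(hS.extend (Set.subset_univ _)) → Ω[A⁄ℤ] := fun j =>
    if h : (j : ResidueField A ⊗[A] Ω[A⁄ℤ]) ∈ Set.range w then D ℤ A (x h.choose)
    else Function.surjInv hsurj j
  have hv : ∀ j, TensorProduct.mk A (ResidueField A) (Ω[A⁄ℤ]) 1 (v j) = (j : _) := by
    intro j
    by_cases h : (j : ResidueField A ⊗[A] Ω[A⁄ℤ]) ∈ Set.range w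
    · simp only [v, dif_pos h]
      exact h.choose_spec
    · simp only [v, dif_neg h]
      exact Function.surjInv_eq hsurj _
  have hcomp : (TensorProduct.mk A (ResidueField A) (Ω[A⁄ℤ]) 1 ∘ v) = bK := by
    funext j
    rw [Function.comp_apply, hv]
    exact (Module.Basis.extend_apply_self hS j).symm
  have hli2 : LinearIndependent (ResidueField A)
      (TensorProduct.mk A (ResidueField A) (Ω[A⁄ℤ]) 1 ∘ v) := by
    rw [hcomp]; exact bK.linearIndependent
  have hsp2 : Submodule.span (ResidueField A)
      (Set.range (TensorProduct.mk A (ResidueField A) (Ω[A⁄ℤ]) 1 ∘ v)) = ⊤ := by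
    rw [hcomp]; exact bK.span_eq
  have H : Function.Injective ((maximalIdeal A).subtype.rTensor (Ω[A⁄ℤ])) :=
    Module.Flat.rTensor_preserves_injective_linearMap _ (maximalIdeal A).subtype_injective
  haveI : Module.FinitePresentation A (Ω[A⁄ℤ]) := Module.finitePresentation_of_finite A _
  obtain ⟨b, hb⟩ := Module.exists_basis_of_basis_baseChange v hli2 hsp2 H
  refine ⟨_, b, ⟨fun i => ⟨w i, hsub ⟨i, rfl⟩⟩, fun i j hij => hwinj (congrArg Subtype.val hij)⟩,
    fun i => ?_⟩
  rw [hb]
  have hmem : w i ∈ Set.range w := ⟨i, rfl⟩
  change (if h : w i ∈ Set.range w then D ℤ A (x h.choose) else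
    Function.surjInv hsurj (w i)) = _
  rw [dif_pos hmem]
  have := hwinj hmem.choose_spec
  rw [this]

end Groth.Agent.S19270
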