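import Groth.Statements.S19272
import Groth.Agent.Lib.Helper44.UFDLoc

set_option autoImplicit false
universe u
open WittFil

namespace Groth.Agent.S19272

/-- Let A be a unique factorisation domain of characteristic p, x_1, …, x_r pairwise non-associate prime
elements of A, B = A[1/(x_1⋯x_r)] with u_i the unit of B defined by x_i, m ≥ 0, and n ∈ ℤ^r with n_i
< 0 for every i. Then every truncated p-typical Witt vector of length m over B lying in the filtered
piece cut out by ∏ u_i ^ n_i (every coordinate y_j has y_j ^ (p ^ (m−1−j)) · ∏ u_i ^ n_i in the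
image of A) has all its coordinates in the image of the ideal (x_1⋯x_r)·A. (The published item,
stated for the filtered de Rham–Witt pieces in all degrees over a regular local ring, says only that
such vectors have all coordinates in A; this row states the divisibility of every coordinate by
x_1⋯x_r that its proof establishes, in degree zero, for a unique factorisation domain in place of a
regular local ring.) -/
theorem result (p : ℕ) [Fact p.Prime] {A B : Type u} [CommRing A] [IsDomain A]
    [UniqueFactorizationMonoid A] [CharP A p] [CommRing B] [Algebra A B] {r : ℕ} (x : Fin r → A)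
    (hx : ∀ i, Prime (x i)) (hxa : ∀ i j, Associated (x i) (x j) → i = j)
    [IsLocalization.Away (∏ i, x i) B] (u : Fin r → Bˣ)
    (hu : ∀ i, (u i : B) = algebraMap A B (x i)) (m : ℕ) (n : Fin r → ℤ) (hn : ∀ i, n i < 0)
    (a : TruncatedWittVector p m B) (ha : a ∈ WittFil.fil p m (A := A) (WittFil.zmon u n))
    (j : Fin m) :
    ∃ b : A, TruncatedWittVector.coeff j a = algebraMap A B ((∏ i, x i) * b) := by
  classical
  have hπ := Groth.Agent.Lib.Helper44.prod_ne_zero_of_prime x hx
  have hinj : Function.Injective (algebraMap A B) :=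
    Groth.Agent.Lib.Helper44.algebraMap_injective_of_away hπ
  set y := TruncatedWittVector.coeff j a with hy
  have hN : 0 < p ^ (m - 1 - (j : ℕ)) := pow_pos (Fact.out : p.Prime).pos _
  obtain ⟨a₀, ha₀⟩ := ha j
  let k : Fin r → ℕ := fun i => (-(n i)).toNat
  have hk : ∀ i, ((k i : ℕ) : ℤ) = -(n i) := fun i =>
    Int.toNat_of_nonneg (by have := hn i; omega)
  have hkpos : ∀ i, 0 < k i := fun i => by
    have h1 := hk i
    have h2 := hn i
    omega
  let d : A := ∏ i, x i ^ k i
  have hd : WittFil.zmon u n * algebraMap A B d = 1 := by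
    have h1 : algebraMap A B d = ((∏ i, u i ^ (-(n i)) : Bˣ) : B) := by
      simp only [d, map_prod, map_pow, Units.coe_prod]
      refine Finset.prod_congr rfl fun i _ => ?_
      rw [← hu i, ← hk i, zpow_natCast, Units.val_pow_eq_pow_val]
    rw [h1, WittFil.zmon, ← Units.val_mul, ← Finset.prod_mul_distrib]
    simp
  have hyN : y ^ (p ^ (m - 1 - (j : ℕ))) = algebraMap A B (a₀ * d) := by
    rw [map_mul, ha₀, mul_assoc, hd, mul_one]
  obtain ⟨b₀, hb₀⟩ := Groth.Agent.Lib.Helper44.mem_range_of_pow_mem_range hπ hN ⟨_, hyN.symm⟩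
  have hb₀' : b₀ ^ (p ^ (m - 1 - (j : ℕ))) = a₀ * d := by
    apply hinj
    rw [map_pow, hb₀, hyN]
  have hdvd : ∀ i, x i ∣ b₀ := by
    intro i
    have h1 : x i ∣ d :=
      (dvd_pow_self (x i) (hkpos i).ne').trans (Finset.dvd_prod_of_mem _ (Finset.mem_univ i))
    have h2 : x i ∣ b₀ ^ (p ^ (m - 1 - (j : ℕ))) := hb₀' ▸ Dvd.dvd.mul_left h1 a₀
    exact (hx i).dvd_of_dvd_pow h2
  obtain ⟨b, hb⟩ := Groth.Agent.Lib.Helper44.prod_dvd_of_forall_dvd x hx hxa hdvd
  exact ⟨b, by rw [← hb, hb₀]⟩

end Groth.Agent.S19272
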