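import Groth.Statements.S19273
import Mathlib

set_option autoImplicit false
universe u
open CAlg

namespace Groth.Agent.S19273
open CAlg
open KaehlerDifferential

theorem main
    {A B : Type u} [CommRing A] [IsDomain A] [CommRing B] [Algebra A B] {r N : ℕ}
    (hr : r ≤ N) (x : Fin N → A) [IsLocalization.Away (∏ i : Fin r, x (Fin.castLE hr i)) B]
    (u : Fin r → Bˣ) (hu : ∀ i, (u i : B) = algebraMap A B (x (Fin.castLE hr i)))
    {ι : Type u} (b : Module.Basis (Fin N ⊕ ι) A (Ω[A⁄ℤ])) (hb : ∀ i, b (Sum.inl i) = D ℤ A (x i)) :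
    ∃ e : Module.Basis (Fin N ⊕ ι) A
        (W4c6katofilta.logForms1 (fun i : Fin r => x (Fin.castLE hr i)) u),
      (∀ i : Fin r, (e (Sum.inl (Fin.castLE hr i)) : Ω[B⁄ℤ]) =
          ((u i)⁻¹ : Bˣ) • KaehlerDifferential.map ℤ ℤ A B (D ℤ A (x (Fin.castLE hr i)))) ∧
      (∀ i : Fin N, r ≤ (i : ℕ) →
          (e (Sum.inl i) : Ω[B⁄ℤ]) = KaehlerDifferential.map ℤ ℤ A B (D ℤ A (x i))) ∧
      (∀ k : ι, (e (Sum.inr k) : Ω[B⁄ℤ]) = KaehlerDifferential.map ℤ ℤ A B (b (Sum.inr k))) := by
  have hx0 : ∀ i, x i ≠ 0 := by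
    intro i h0
    have := b.ne_zero (Sum.inl i)
    rw [hb, h0, map_zero] at this
    exact this rfl
  have hf0 : (∏ i : Fin r, x (Fin.castLE hr i)) ≠ 0 :=
    Finset.prod_ne_zero_iff.mpr (fun i _ => hx0 _)
  have hinj : Function.Injective (algebraMap A B) :=
    IsLocalization.injective B (M := Submonoid.powers (∏ i : Fin r, x (Fin.castLE hr i)))
      (powers_le_nonZeroDivisors_of_noZeroDivisors hf0)
  haveI : IsLocalizedModule (Submonoid.powers (∏ i : Fin r, x (Fin.castLE hr i)))
      (KaehlerDifferential.map ℤ ℤ A B) :=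
    KaehlerDifferential.isLocalizedModule_map ℤ A B _
  obtain ⟨bB, hbB⟩ : ∃ bB : Module.Basis (Fin N ⊕ ι) B (Ω[B⁄ℤ]),
      ∀ j, bB j = KaehlerDifferential.map ℤ ℤ A B (b j) :=
    ⟨b.ofIsLocalizedModule B (Submonoid.powers (∏ i : Fin r, x (Fin.castLE hr i)))
      (KaehlerDifferential.map ℤ ℤ A B), fun j => Module.Basis.ofIsLocalizedModule_apply _ _ _ _ j⟩
  obtain ⟨w, hw⟩ : ∃ w : Fin N ⊕ ι → Bˣ, w = Sum.elim
      (fun i : Fin N => if h : (i : ℕ) < r then (u ⟨i, h⟩)⁻¹ else 1) (fun _ : ι => 1) :=
    ⟨Sum.elim (fun i : Fin N => if h : (i : ℕ) < r then (u ⟨i, h⟩)⁻¹ else 1) (fun _ : ι => 1), rfl⟩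
  obtain ⟨v, hv⟩ : ∃ v : Fin N ⊕ ι → Ω[B⁄ℤ], v = fun j => bB.unitsSMul w j :=
    ⟨fun j => bB.unitsSMul w j, rfl⟩
  have hvj : ∀ j, v j = w j • KaehlerDifferential.map ℤ ℤ A B (b j) := by
    intro j
    rw [hv]
    simp only [Module.Basis.unitsSMul_apply, hbB]
  have hli : LinearIndependent A v := by
    have h1 : LinearIndependent B v := by
      rw [hv]
      exact (bB.unitsSMul w).linearIndependent
    refine h1.restrict_scalars ?_
    intro a a' h
    simp only [Algebra.smul_def, mul_one] at h
    exact hinj h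
  have hspan : Submodule.span A (Set.range v) =
      W4c6katofilta.logForms1 (fun i : Fin r => x (Fin.castLE hr i)) u := by
    apply le_antisymm
    · refine Submodule.span_le.mpr ?_
      rintro _ ⟨j, rfl⟩
      rw [hvj]
      rcases j with i | k
      · by_cases h : (i : ℕ) < r
        · refine Submodule.subset_span (Or.inr ⟨⟨i, h⟩, ?_⟩)
          simp only [hw, Sum.elim_inl, dif_pos h, hb]
          rfl
        · refine Submodule.subset_span (Or.inl ⟨b (Sum.inl i), ?_⟩)
          simp only [hw, Sum.elim_inl, dif_neg h, one_smul]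
      · refine Submodule.subset_span (Or.inl ⟨b (Sum.inr k), ?_⟩)
        simp only [hw, Sum.elim_inr, one_smul]
    · refine Submodule.span_le.mpr ?_
      rintro _ (⟨ω, rfl⟩ | ⟨i, rfl⟩)
      · have hω : ω ∈ Submodule.span A (Set.range b) := by rw [b.span_eq]; trivial
        induction hω using Submodule.span_induction with
        | mem y hy =>
          obtain ⟨j, rfl⟩ := hy
          rcases j with i | k
          · by_cases h : (i : ℕ) < r
            · have h2 : KaehlerDifferential.map ℤ ℤ A B (b (Sum.inl i)) = x i • v (Sum.inl i) := by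
                rw [hvj]
                simp only [hw, Sum.elim_inl, dif_pos h]
                rw [Units.smul_def, ← algebraMap_smul B (x i), smul_smul]
                have : algebraMap A B (x i) * ((u ⟨i, h⟩)⁻¹ : Bˣ) = 1 := by
                  have := hu ⟨i, h⟩
                  have h3 : Fin.castLE hr ⟨i, h⟩ = i := Fin.ext rfl
                  rw [h3] at this
                  rw [← this]
                  exact Units.mul_inv _
                rw [this, one_smul]
              rw [h2]
              exact Submodule.smul_mem _ _ (Submodule.subset_span ⟨_, rfl⟩)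
            · have h2 : KaehlerDifferential.map ℤ ℤ A B (b (Sum.inl i)) = v (Sum.inl i) := by
                rw [hvj]
                simp only [hw, Sum.elim_inl, dif_neg h, one_smul]
              rw [h2]
              exact Submodule.subset_span ⟨_, rfl⟩
          · have h2 : KaehlerDifferential.map ℤ ℤ A B (b (Sum.inr k)) = v (Sum.inr k) := by
              rw [hvj]
              simp only [hw, Sum.elim_inr, one_smul]
            rw [h2]
            exact Submodule.subset_span ⟨_, rfl⟩
        | zero => rw [map_zero]; exact zero_mem _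
        | add y z _ _ hy hz => rw [map_add]; exact add_mem hy hz
        | smul a y _ hy => rw [map_smul]; exact Submodule.smul_mem _ _ hy
      · have h2 : ((u i)⁻¹ : Bˣ) • KaehlerDifferential.map ℤ ℤ A B (D ℤ A (x (Fin.castLE hr i)))
            = v (Sum.inl (Fin.castLE hr i)) := by
          rw [hvj]
          have h : ((Fin.castLE hr i : Fin N) : ℕ) < r := i.2
          simp only [hw, Sum.elim_inl, dif_pos h, hb]
          rfl
        show ((u i)⁻¹ : Bˣ) • KaehlerDifferential.map ℤ ℤ A B (D ℤ A (x (Fin.castLE hr i))) ∈ _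
        rw [h2]
        exact Submodule.subset_span ⟨_, rfl⟩
  refine ⟨(Module.Basis.span hli).map (LinearEquiv.ofEq _ _ hspan), ?_, ?_, ?_⟩
  · intro i
    simp only [Module.Basis.map_apply, LinearEquiv.coe_ofEq_apply, Module.Basis.span_apply]
    rw [hvj]
    have h : ((Fin.castLE hr i : Fin N) : ℕ) < r := i.2
    simp only [hw, Sum.elim_inl, dif_pos h, hb]
    rfl
  · intro i hi
    simp only [Module.Basis.map_apply, LinearEquiv.coe_ofEq_apply, Module.Basis.span_apply]
    rw [hvj]
    have h : ¬ (i : ℕ) < r := by omega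
    simp only [hw, Sum.elim_inl, dif_neg h, one_smul, hb]
  · intro k
    simp only [Module.Basis.map_apply, LinearEquiv.coe_ofEq_apply, Module.Basis.span_apply]
    rw [hvj]
    simp only [hw, Sum.elim_inr, one_smul]

end Groth.Agent.S19273

namespace Groth.Agent.S19273

open KaehlerDifferential in
/-- Let A be an integral domain of prime characteristic p, x_1, …, x_N elements of A, r ≤ N, B =
A[1/(x_1⋯x_r)] with u_i the unit of B defined by x_i for i ≤ r, and suppose that the module Ω_A of
absolute Kähler differentials of A is free with a basis b indexed by {1, …, N} ⊔ ι whose i-th vector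
is d(x_i) for i ≤ N. Then the module of logarithmic 1-forms — the A-submodule of Ω_B spanned by the
image of Ω_A and the forms u_i⁻¹ · d(x_i), i ≤ r — is a free A-module: it has a basis indexed by {1,
…, N} ⊔ ι whose vector at i ≤ r is u_i⁻¹ · d(x_i), at r < i ≤ N is d(x_i), and at k ∈ ι is the image
of b_k. (In the published statement A is a regular local F-finite algebra over the prime field with
maximal ideal (x_1, …, x_N), the basis of Ω_A comes from the preceding lemma, and the assertion
covers the logarithmic q-forms for all q together with their identification with the log de Rham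
complex of the log ring; only the degree-one freeness is stated here, from the properties of A
actually used.) -/
theorem result (p : ℕ) [Fact p.Prime]
    {A B : Type u} [CommRing A] [IsDomain A] [CharP A p] [CommRing B] [Algebra A B] {r N : ℕ}
    (hr : r ≤ N) (x : Fin N → A) [IsLocalization.Away (∏ i : Fin r, x (Fin.castLE hr i)) B]
    (u : Fin r → Bˣ) (hu : ∀ i, (u i : B) = algebraMap A B (x (Fin.castLE hr i)))
    {ι : Type u} (b : Module.Basis (Fin N ⊕ ι) A (Ω[A⁄ℤ])) (hb : ∀ i, b (Sum.inl i) = D ℤ A (x i)) :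
    ∃ e : Module.Basis (Fin N ⊕ ι) A
        (W4c6katofilta.logForms1 (fun i : Fin r => x (Fin.castLE hr i)) u),
      (∀ i : Fin r, (e (Sum.inl (Fin.castLE hr i)) : Ω[B⁄ℤ]) =
          ((u i)⁻¹ : Bˣ) • KaehlerDifferential.map ℤ ℤ A B (D ℤ A (x (Fin.castLE hr i)))) ∧
      (∀ i : Fin N, r ≤ (i : ℕ) →
          (e (Sum.inl i) : Ω[B⁄ℤ]) = KaehlerDifferential.map ℤ ℤ A B (D ℤ A (x i))) ∧
      (∀ k : ι, (e (Sum.inr k) : Ω[B⁄ℤ]) = KaehlerDifferential.map ℤ ℤ A B (b (Sum.inr k))) := by
  exact main hr x u hu b hb

end Groth.Agent.S19273
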