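import Groth.Statements.S19274
import Groth.Agent.Lib.Helper44.UFDLoc2
import Mathlib.RingTheory.WittVector.Domain
import Mathlib.RingTheory.WittVector.InitTail

set_option autoImplicit false
universe u
open WittFil

namespace Groth.Agent.S19274

theorem init_one_coeff (p : ℕ) {R : Type*} [CommRing R] (X : WittVector p R) (i : ℕ) :
    (WittVector.init 1 X).coeff i = if i = 0 then X.coeff 0 else 0 := by
  classical
  simp only [WittVector.init, WittVector.select, WittVector.coeff_mk]
  by_cases h : i = 0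
  · subst h; simp
  · have : ¬ i < 1 := by omega
    simp [h, this]

theorem tail_one_coeff (p : ℕ) {R : Type*} [CommRing R] (X : WittVector p R) (i : ℕ) :
    (WittVector.tail 1 X).coeff i = if i = 0 then 0 else X.coeff i := by
  classical
  simp only [WittVector.tail, WittVector.select, WittVector.coeff_mk]
  by_cases h : i = 0
  · subst h; simp
  · have : 1 ≤ i := by omega
    simp [h, this]

theorem pow_mul_zpow_pred_mem (p : ℕ) [Fact p.Prime]
    {A B : Type u} [CommRing A] [IsDomain A]
    [CommRing B] [Algebra A B] (x : A) (hx : Prime x) [IsLocalization.Away x B] (u : Bˣ)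
    (hu : (u : B) = algebraMap A B x) (N : ℕ) (hN : 0 < N) (n : ℤ) (hn : ¬ ((N : ℤ) ∣ n))
    (y₀ : B) (h : y₀ ^ N * ((u ^ n : Bˣ) : B) ∈ (algebraMap A B).range) :
    y₀ ^ N * ((u ^ (n - 1) : Bˣ) : B) ∈ (algebraMap A B).range := by
  have hN0 : (0 : ℤ) < (N : ℤ) := by exact_mod_cast hN
  let x' : Fin 1 → A := fun _ => x
  haveI : IsLocalization.Away (∏ i : Fin 1, x' i) B := by
    have e : (∏ i : Fin 1, x' i) = x := by simp [x']
    rw [e]; infer_instance
  let s : ℕ := (n % (N : ℤ)).toNat
  have hs : ((s : ℕ) : ℤ) = n % (N : ℤ) := Int.toNat_of_nonneg (Int.emod_nonneg _ hN0.ne')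
  have hsN : s < N := by
    have h2 := Int.emod_lt_of_pos n hN0
    omega
  have hs0 : 0 < s := by
    by_contra h0
    have h1 : n % (N : ℤ) = 0 := by omega
    exact hn (Int.dvd_of_emod_eq_zero h1)
  have hun : u ^ n = (u ^ (n / (N : ℤ))) ^ N * u ^ s := by
    rw [← zpow_natCast (u ^ (n / (N : ℤ))), ← zpow_mul, ← zpow_natCast u s, ← zpow_add, hs,
      Int.ediv_mul_add_emod]
  have hun1 : u ^ (n - 1) = (u ^ (n / (N : ℤ))) ^ N * u ^ (s - 1) := by
    rw [← zpow_natCast (u ^ (n / (N : ℤ))), ← zpow_mul, ← zpow_natCast u (s - 1), ← zpow_add]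
    congr 1
    have : ((s - 1 : ℕ) : ℤ) = (s : ℤ) - 1 := by omega
    rw [this, hs]
    have := Int.ediv_mul_add_emod n (N : ℤ)
    omega
  have hz : (y₀ * ((u ^ (n / (N : ℤ)) : Bˣ) : B)) ^ N * algebraMap A B (∏ i : Fin 1, x' i ^ s) ∈
      (algebraMap A B).range := by
    have e : (y₀ * ((u ^ (n / (N : ℤ)) : Bˣ) : B)) ^ N * algebraMap A B (∏ i : Fin 1, x' i ^ s) =
        y₀ ^ N * ((u ^ n : Bˣ) : B) := by
      rw [hun]
      simp only [x', Finset.univ_unique, Finset.prod_singleton, map_pow, ← hu, Units.val_mul,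
        Units.val_pow_eq_pow_val]
      ring
    rw [e]; exact h
  have hzr := Groth.Agent.Lib.Helper44.mem_range_of_pow_mul_mem_range x' (fun _ => hx) (fun i j _ => Subsingleton.elim i j)
    N (fun _ => s) (fun _ => hsN) _ hz
  have e2 : y₀ ^ N * ((u ^ (n - 1) : Bˣ) : B) =
      (y₀ * ((u ^ (n / (N : ℤ)) : Bˣ) : B)) ^ N * algebraMap A B (x ^ (s - 1)) := by
    rw [hun1]
    simp only [map_pow, ← hu, Units.val_mul, Units.val_pow_eq_pow_val]
    ring
  rw [e2]
  exact Subring.mul_mem _ (Subring.pow_mem _ hzr _) ⟨_, rfl⟩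

/-- Let A be a unique factorisation domain of characteristic p, x a prime element of A, B = A[1/x] with
u the unit of B defined by x, m ≥ 1, and n an integer NOT divisible by p^m. For e in B and k ≥ 0
write fil_k(e) for the set of truncated p-typical Witt vectors of length k over B whose j-th
coordinate y_j satisfies y_j ^ (p ^ (k−1−j)) · e ∈ A for all j < k (the filtered piece; fil_k(u^n)
is the piece of index n). Then fil_{m+1}(u^n) is contained in fil_{m+1}(u^(n−1)) + V(fil_m(u^n))
(the reverse inclusion is immediate): every a in fil_{m+1}(u^n) can be written a = b + V(y) with b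
in fil_{m+1}(u^(n−1)) and y a Witt vector over B whose length-m truncation lies in fil_m(u^n), V(y)
being truncated to length m+1. (In the source A is a henselian discrete valuation ring, n = p^r·l >
1 with p not dividing l, and the condition reads m ≥ r + 1.) -/
theorem result (p : ℕ) [Fact p.Prime]
    {A B : Type u} [CommRing A] [IsDomain A] [UniqueFactorizationMonoid A] [CharP A p]
    [CommRing B] [Algebra A B] (x : A) (hx : Prime x) [IsLocalization.Away x B] (u : Bˣ)
    (hu : (u : B) = algebraMap A B x) (m : ℕ) (hm : 0 < m) (n : ℤ) (hn : ¬ ((p : ℤ) ^ m ∣ n)) :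
    ∀ a ∈ WittFil.fil p (m + 1) (A := A) ((u ^ n : Bˣ) : B),
      ∃ b ∈ WittFil.fil p (m + 1) (A := A) ((u ^ (n - 1) : Bˣ) : B),
        ∃ y : WittVector p B,
          WittVector.truncate m y ∈ WittFil.fil p m (A := A) ((u ^ n : Bˣ) : B) ∧
            a = b + WittVector.truncate (m + 1) (WittVector.verschiebung y) := by
  intro a ha
  have hp : p.Prime := Fact.out
  let X : WittVector p B := a.out
  have hXa : WittVector.truncate (m + 1) X = a := TruncatedWittVector.truncateFun_out a
  have hXc : ∀ i : Fin (m + 1), X.coeff i = a.coeff i := fun i => TruncatedWittVector.coeff_out a i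
  let T := WittVector.tail 1 X
  have hT0 : ∀ i < 1, T.coeff i = 0 := by
    intro i hi
    have : i = 0 := by omega
    subst this
    rw [tail_one_coeff]; simp
  have hTV : T = WittVector.verschiebung (T.shift 1) := by
    have := WittVector.eq_iterate_verschiebung (x := T) (n := 1) hT0
    simpa using this
  refine ⟨WittVector.truncate (m + 1) (WittVector.init 1 X), ?_, T.shift 1, ?_, ?_⟩
  · intro j
    rw [WittVector.coeff_truncate, init_one_coeff]
    by_cases hj : (j : ℕ) = 0
    · rw [if_pos hj]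
      have h0 := ha 0
      rw [← hXc 0] at h0
      have e : m + 1 - 1 - (j : ℕ) = m := by omega
      have e0 : m + 1 - 1 - ((0 : Fin (m + 1)) : ℕ) = m := by simp
      rw [e]
      rw [e0] at h0
      have hn' : ¬ (((p ^ m : ℕ) : ℤ) ∣ n) := by push_cast; exact hn
      exact pow_mul_zpow_pred_mem p x hx u hu (p ^ m) (pow_pos hp.pos m) n hn' _ h0
    · rw [if_neg hj, zero_pow (pow_ne_zero _ hp.ne_zero), zero_mul]
      exact Subring.zero_mem _
  · intro j
    rw [WittVector.coeff_truncate, WittVector.shift_coeff, tail_one_coeff]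
    have hne : ¬ (1 + (j : ℕ) = 0) := by omega
    rw [if_neg hne]
    have hlt : 1 + (j : ℕ) < m + 1 := by have := j.2; omega
    have h1 := ha ⟨1 + (j : ℕ), hlt⟩
    rw [← hXc ⟨1 + (j : ℕ), hlt⟩] at h1
    have e : m + 1 - 1 - ((⟨1 + (j : ℕ), hlt⟩ : Fin (m + 1)) : ℕ) = m - 1 - (j : ℕ) := by
      simp only []
      omega
    rw [e] at h1
    exact h1
  · rw [← hXa, ← hTV, ← map_add, WittVector.init_add_tail]

end Groth.Agent.S19274
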