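import Groth.Statements.S19275
import Groth.Agent.Lib.Helper84.HochBC
import Groth.Agent.Lib.Helper84.FlatQuot

set_option autoImplicit false
universe u v w
open Hoch

namespace Groth.Agent.S19275

open TensorProduct in
/-- In the case of an affine group scheme over a field (a K-groupoid acting on Spec K itself),
cohomology commutes with arbitrary base change. Precisely: let K be a field, A a commutative Hopf
algebra over K (the coordinate ring of an affine K-group scheme G), V a right A-comodule (a linear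
representation of G) and R any commutative K-algebra. Give R ⊗ V the base-changed comodule structure
over the R-bialgebra R ⊗ A, whose coaction sends r ⊗ v to the image of r ⊗ ρ(v) under the canonical
identification of R ⊗ (V ⊗ A) with (R ⊗ V) ⊗_R (R ⊗ A), and let φ_n : R ⊗ C^n(A, V) → C^n(R ⊗ A, R ⊗
V) be the canonical R-linear maps between the Hochschild cochain modules, determined by φ_0 = id and
φ_{n+1}(r ⊗ (c ⊗ a)) = φ_n(r ⊗ c) ⊗ (1 ⊗ a). Then every φ_n is bijective, the φ_n commute with the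
Hochschild differentials, and for every n there is an R-linear isomorphism R ⊗ H^n(A, V) ≅ H^n(R ⊗
A, R ⊗ V) sending r ⊗ [z] to [φ_n(r ⊗ z)] for every n-cocycle z. (The published statement is for an
affine K-groupoid acting on the spectrum of a finite extension L of K and its coherent
representations, with K of characteristic 0; this is its case L = K, in which the cochain complex of
a representation is the Hochschild complex of the comodule; V is not assumed finite-dimensional and
K may be any field.) -/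
theorem result
    (K : Type u) [Field K] (A : Type v) [CommRing A] [HopfAlgebra K A]
    (V : Type v) [AddCommGroup V] [Module K V] [HopfRep.Comod K A V]
    (R : Type w) [CommRing R] [Algebra K R]
    (φ : ∀ n : ℕ, R ⊗[K] (Hoch.cochain K A V n) →ₗ[R] (Hoch.cochain R (R ⊗[K] A) (R ⊗[K] V) n))
    (hφ0 : ∀ x : R ⊗[K] V, φ 0 x = x)
    (hφs : ∀ (n : ℕ) (r : R) (c : Hoch.cochain K A V n) (a : A),
      φ (n + 1) (r ⊗ₜ[K] (c ⊗ₜ[K] a)) = (φ n (r ⊗ₜ[K] c)) ⊗ₜ[R] ((1 : R) ⊗ₜ[K] a)) :
    letI := CoactBr.Comod.baseChange K R A V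
    (∀ n : ℕ, Function.Bijective (φ n)) ∧
    (∀ (n : ℕ) (x : R ⊗[K] (Hoch.cochain K A V n)),
        φ (n + 1) ((Hoch.d K A V n).baseChange R x) = Hoch.d R (R ⊗[K] A) (R ⊗[K] V) n (φ n x)) ∧
      ∀ n : ℕ, ∃ e : R ⊗[K] Hoch.H K A V n ≃ₗ[R] Hoch.H R (R ⊗[K] A) (R ⊗[K] V) n,
        ∀ (r : R) (z : Hoch.cocycles K A V n)
          (hz : φ n (r ⊗ₜ[K] (z : Hoch.cochain K A V n)) ∈ Hoch.cocycles R (R ⊗[K] A) (R ⊗[K] V) n),
          e (r ⊗ₜ[K] Hoch.H.mk K A V n z) = Hoch.H.mk R (R ⊗[K] A) (R ⊗[K] V) n ⟨φ n (r ⊗ₜ[K] (z : Hoch.cochain K A V n)), hz⟩ := by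
  letI := CoactBr.Comod.baseChange K R A V
  have hbij := Groth.Agent.Lib.Helper84.HochBC.φ_bijective K A V R φ hφ0 hφs
  have hd := Groth.Agent.Lib.Helper84.HochBC.d_compat K A V R φ hφ0 hφs
  refine ⟨hbij, hd, fun n => ?_⟩
  have hZ : Hoch.cocycles R (R ⊗[K] A) (R ⊗[K] V) n =
      Submodule.map (φ n) (LinearMap.range ((Hoch.cocycles K A V n).subtype.baseChange R)) :=
    Groth.Agent.Lib.Helper84.FlatQuot.ker_eq_map (φ n) (hbij n).2 (φ (n + 1)) (hbij (n + 1)).1
      (Hoch.d K A V n) (Hoch.d R (R ⊗[K] A) (R ⊗[K] V) n) (hd n)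
  have hB : Hoch.coboundaries R (R ⊗[K] A) (R ⊗[K] V) n =
      Submodule.map (φ n) (LinearMap.range ((Hoch.coboundaries K A V n).subtype.baseChange R)) := by
    cases n with
    | zero => exact Groth.Agent.Lib.Helper84.FlatQuot.bot_eq_map (φ 0)
    | succ m =>
      exact Groth.Agent.Lib.Helper84.FlatQuot.range_eq_map (φ (m + 1)) (φ m) (hbij m).2
        (Hoch.d K A V m) (Hoch.d R (R ⊗[K] A) (R ⊗[K] V) m) (hd m)
  obtain ⟨e, he⟩ := Groth.Agent.Lib.Helper84.FlatQuot.exists_quot_equiv (φ n) (hbij n).1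
    (Hoch.cocycles K A V n) (Hoch.coboundaries K A V n)
    (Hoch.cocycles R (R ⊗[K] A) (R ⊗[K] V) n) (Hoch.coboundaries R (R ⊗[K] A) (R ⊗[K] V) n) hZ hB
  exact ⟨e, fun r z hz => he r z hz⟩

end Groth.Agent.S19275
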