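import Groth.Statements.S19288
import Mathlib

set_option autoImplicit false
universe u
open CategoryTheory CategoryTheory.Limits MonoidalCategory CartesianMonoidalCategory MonObj AlgebraicGeometry
open AbSch

namespace Groth.Agent.S19288

section helpers

theorem eq_of_connected_fibres {S P X : Scheme.{u}} (sP : P ⟶ S) (sX : X ⟶ S)
    [FormallyUnramified sX] [LocallyOfFiniteType sX] [IsSeparated sX]
    (a b : P ⟶ X) (ha : a ≫ sX = sP) (hb : b ≫ sX = sP)
    (u0 : S ⟶ P) (hη : u0 ≫ sP = 𝟙 S) (hηab : u0 ≫ a = u0 ≫ b)
    (hconn : ∀ s : S, ConnectedSpace ↥(sP.fiber s)) : a = b := by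
  let g : P ⟶ pullback sX sX := pullback.lift a b (by rw [ha, hb])
  have hg1 : g ≫ pullback.fst sX sX = a := pullback.lift_fst _ _ _
  have hg2 : g ≫ pullback.snd sX sX = b := pullback.lift_snd _ _ _
  let Δ : X ⟶ pullback sX sX := pullback.diagonal sX
  have hΔ1 : Δ ≫ pullback.fst sX sX = 𝟙 _ := pullback.diagonal_fst _
  have hΔ2 : Δ ≫ pullback.snd sX sX = 𝟙 _ := pullback.diagonal_snd _
  have hΔoi : IsOpenImmersion Δ := inferInstance
  have hΔci : IsClosedImmersion Δ := inferInstance
  let e : pullback g Δ ⟶ P := pullback.fst g Δ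
  have he_oi : IsOpenImmersion e := inferInstance
  have he_ci : IsClosedImmersion e := inferInstance
  let l : S ⟶ pullback g Δ := pullback.lift u0 (u0 ≫ a) (by
    apply pullback.hom_ext
    · rw [Category.assoc, Category.assoc, hg1, hΔ1, Category.comp_id]
    · rw [Category.assoc, Category.assoc, hg2, hΔ2, Category.comp_id, hηab])
  have hl : l ≫ e = u0 := pullback.lift_fst _ _ _
  have hclopen : IsClopen (Set.range e) :=
    ⟨e.isClosedEmbedding.isClosed_range, e.isOpenEmbedding.isOpen_range⟩
  have he_surj : Surjective e := by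
    constructor
    intro x
    let s : S := sP x
    have hfib := hconn s
    have hpre : IsClopen ((sP.fiberι s) ⁻¹' (Set.range e)) :=
      hclopen.preimage (sP.fiberι s).continuous
    have hηs : u0 s ∈ Set.range e := ⟨l s, by rw [← Scheme.Hom.comp_apply, hl]⟩
    have hηfib : u0 s ∈ Set.range (sP.fiberι s) := by
      rw [Scheme.Hom.range_fiberι]
      change sP (u0 s) = s
      rw [← Scheme.Hom.comp_apply, hη]
      rfl
    obtain ⟨z, hz⟩ := hηfib
    have hne : ((sP.fiberι s) ⁻¹' (Set.range e)).Nonempty := ⟨z, by
      change sP.fiberι s z ∈ Set.range e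
      rw [hz]; exact hηs⟩
    have huniv := (isClopen_iff.mp hpre).resolve_left hne.ne_empty
    have hxfib : x ∈ Set.range (sP.fiberι s) := by
      rw [Scheme.Hom.range_fiberι]
      rfl
    obtain ⟨w, hw⟩ := hxfib
    have : w ∈ (sP.fiberι s) ⁻¹' (Set.range e) := by rw [huniv]; trivial
    rw [← hw]
    exact this
  have he_iso : IsIso e := (isIso_iff_isOpenImmersion_and_surjective e).mpr ⟨he_oi, he_surj⟩
  have h1 : e ≫ a = pullback.snd g Δ := by
    have : e ≫ g = pullback.snd g Δ ≫ Δ := pullback.condition
    have := congrArg (fun φ => φ ≫ pullback.fst sX sX) this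
    simp only [Category.assoc, hg1, hΔ1, Category.comp_id] at this
    exact this
  have h2 : e ≫ b = pullback.snd g Δ := by
    have : e ≫ g = pullback.snd g Δ ≫ Δ := pullback.condition
    have := congrArg (fun φ => φ ≫ pullback.snd sX sX) this
    simp only [Category.assoc, hg2, hΔ2, Category.comp_id] at this
    exact this
  exact (cancel_epi e).mp (h1.trans h2.symm)



end helpers

/-- Let S be a scheme, X a commutative S-group scheme which is etale and separated over S (hence locally
of finite presentation), and P a commutative S-group scheme of finite presentation over S all of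
whose fibres are connected. Then every homomorphism of S-group schemes from P to X is trivial (it
factors through the unit section). -/
theorem result {S : Scheme.{u}} (P X : Over S)
    [GrpObj P] [IsCommMonObj P] [GrpObj X] [IsCommMonObj X]
    [Etale X.hom] [IsSeparated X.hom]
    [QuasiCompact P.hom] [QuasiSeparated P.hom] [LocallyOfFinitePresentation P.hom]
    (hP : ∀ s : S, ConnectedSpace ↥(P.hom.fiber s))
    (f : P ⟶ X) [IsMonHom f] : f = 1 := by
  apply Over.OverMorphism.ext
  have h1 : η[P] ≫ f = η[X] := IsMonHom.one_hom f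
  have h2 : η[P] ≫ (1 : P ⟶ X) = η[X] := by
    rw [Hom.one_def, ← Category.assoc, comp_toUnit, toUnit_unit, Category.id_comp]
  refine eq_of_connected_fibres P.hom X.hom f.left (1 : P ⟶ X).left (Over.w f) (Over.w _)
    (η[P]).left (Over.w η[P]) ?_ hP
  exact congrArg (fun φ => φ.left) (h1.trans h2.symm)

end Groth.Agent.S19288
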