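import Groth.Statements.S19307
import Groth.Agent.S18975
import Groth.Agent.S0082
import Groth.Agent.Lib.Helper5.FpqcLocal
import Groth.Agent.Lib.Lead.PowSerLift
import Groth.Agent.Lib.Lead.EtaleCoverSection
import Mathlib.AlgebraicGeometry.Morphisms.LocalFlatDescent

set_option autoImplicit false
universe u
open CategoryTheory MonoidalCategory CartesianMonoidalCategory MonObj GrpObj AlgebraicGeometry PowerSeries
open NonAbH1

namespace Groth.Agent.S19307

/-- Let R be a commutative ring, G an affine smooth group scheme over the power series ring R⟦X⟧ and P a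
G-torsor over Spec R⟦X⟧ for the fpqc topology. Then there is an étale and faithfully flat R-algebra
R' such that P has a section over Spec R'⟦X⟧. (The published statement takes R an algebra over a
field and G the base change to R⟦X⟧ of a smooth affine group scheme over the power series ring of
that field; the statement here allows any affine smooth group scheme over R⟦X⟧, to which the
published proof applies unchanged.) -/
theorem result
    (R : Type u) [CommRing R]
    (G : Over (Spec (CommRingCat.of R⟦X⟧))) [GrpObj G] [IsAffine G.left] [Smooth G.hom]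
    (P : Over (Spec (CommRingCat.of R⟦X⟧))) (a : AlgGrp.Action G P)
    (hP : NonAbH1.IsTorsorFor Scheme.fpqcPrecoverage a) :
    ∃ (R' : Type u) (_ : CommRing R') (_ : Algebra R R'),
      Algebra.Etale R R' ∧ Module.FaithfullyFlat R R' ∧
      NonAbH1.HasSectionOver P (Spec.map (CommRingCat.ofHom (PowerSeries.map (algebraMap R R')))) := by
  obtain ⟨hps, Rc, hRq, hsec⟩ := hP
  -- the cartesian square
  have hprod : IsPullback (CartesianMonoidalCategory.fst P P) (CartesianMonoidalCategory.snd P P)
      (CartesianMonoidalCategory.toUnit P) (CartesianMonoidalCategory.toUnit P) :=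
    IsPullback.of_is_product' (CartesianMonoidalCategory.tensorProductIsBinaryProduct P P)
      CartesianMonoidalCategory.isTerminalTensorUnit
  haveI : IsIso (CartesianMonoidalCategory.lift a.act (CartesianMonoidalCategory.snd G P)) := hps
  have hcart : IsPullback a.act (CartesianMonoidalCategory.snd G P)
      (CartesianMonoidalCategory.toUnit P) (CartesianMonoidalCategory.toUnit P) := by
    refine IsPullback.of_iso hprod
      (asIso (CartesianMonoidalCategory.lift a.act (CartesianMonoidalCategory.snd G P))).symm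
      (Iso.refl _) (Iso.refl _) (Iso.refl _) ?_ ?_ ?_ ?_
    · simp
    · simp
    · simp
    · simp
  have hφ : (CartesianMonoidalCategory.toUnit P).left = P.hom := Over.toUnit_left
  haveI hGaff : IsAffineHom G.hom := isAffineHom_of_isAffine G.hom
  haveI := Groth.Agent.S0082.result.{u}
  -- smoothness and affineness of P
  have key : ∀ (Q : MorphismProperty Scheme.{u}) [Q.IsStableUnderBaseChange]
      [IsZariskiLocalAtTarget Q]
      [Q.DescendsAlong (@Surjective ⊓ @Flat ⊓ @QuasiCompact)], Q G.hom → Q P.hom := by
    intro Q _ _ _ hG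
    apply Groth.Agent.Lib.Helper5.of_mem_fpqcPrecoverage Q P.hom Rc hRq
    intro Y' f hf
    obtain ⟨s, hs⟩ := hsec f hf
    obtain ⟨top, sq⟩ := Groth.Agent.S18975.isPullback_of_section a
      (CartesianMonoidalCategory.toUnit P) hcart
      (Y := MonoidalCategoryStruct.tensorUnit (Over (Spec (CommRingCat.of R⟦X⟧)))) f s
      (by rw [hφ]; exact hs)
    rw [hφ] at sq
    have h1 : Q (Limits.pullback.snd G.hom
        (f ≫ (MonoidalCategoryStruct.tensorUnit (Over (Spec (CommRingCat.of R⟦X⟧)))).hom)) :=
      MorphismProperty.pullback_snd (P := Q) _ _ hG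
    rw [← sq.isoPullback_hom_snd] at h1
    exact (MorphismProperty.cancel_left_of_respectsIso Q _ _).mp h1
  haveI hsm : Smooth P.hom := key @Smooth inferInstance
  haveI haff : IsAffineHom P.hom := key @IsAffineHom hGaff
  -- surjectivity of P
  have hsurj : Function.Surjective P.hom := by
    intro y
    obtain ⟨𝒰, rfl⟩ := Precoverage.mem_iff_exists_zeroHypercover.mp hRq
    have h2 := 𝒰.mem₀.2
    rw [Scheme.presieve₀_mem_precoverage_iff] at h2
    obtain ⟨i, y', hy'⟩ := h2.1 y
    obtain ⟨s, hs⟩ := hsec (𝒰.f i) (Presieve.ofArrows.mk i)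
    refine ⟨s.base y', ?_⟩
    rw [← Scheme.Hom.comp_apply]
    change (s ≫ P.hom).base y' = y
    rw [show s ≫ P.hom = 𝒰.f i from hs]
    exact hy'
  haveI : Surjective P.hom := ⟨hsurj⟩
  -- the closed subscheme X = 0
  let i : Spec (CommRingCat.of R) ⟶ Spec (CommRingCat.of R⟦X⟧) :=
    Spec.map (CommRingCat.ofHom PowerSeries.constantCoeff)
  obtain ⟨R', iR', iA', hEt, hFF, t, ht⟩ :=
    Groth.Agent.Lib.Lead.EtaleCoverSection.exists_etale_faithfullyFlat_section (CommRingCat.of R)
      (Limits.pullback.snd P.hom i)
  -- P is affine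
  haveI : IsAffine P.left := isAffine_of_isAffineHom P.hom
  let B : CommRingCat.{u} := Γ(P.left, ⊤)
  let e := P.left.isoSpec
  let φ : CommRingCat.of R⟦X⟧ ⟶ B := Spec.preimage (e.inv ≫ P.hom)
  have hφ' : Spec.map φ = e.inv ≫ P.hom := Spec.map_preimage _
  have hφsm : Smooth (Spec.map φ) := by rw [hφ']; infer_instance
  have h2 : φ.hom.Smooth := HasRingHomProperty.Spec_iff.mp hφsm
  letI : Algebra R⟦X⟧ B := φ.hom.toAlgebra
  haveI : Algebra.Smooth R⟦X⟧ B := RingHom.smooth_algebraMap.mp h2
  let t' : Spec (CommRingCat.of R') ⟶ P.left := t ≫ Limits.pullback.fst P.hom i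
  have ht' : t' ≫ P.hom = Spec.map (CommRingCat.ofHom (algebraMap R R')) ≫ i := by
    rw [Category.assoc, Limits.pullback.condition, ← Category.assoc, ht]
  let f₀ : B ⟶ CommRingCat.of R' := Spec.preimage (t' ≫ e.hom)
  have hf₀ : Spec.map f₀ = t' ≫ e.hom := Spec.map_preimage _
  have hcomp : φ ≫ f₀ =
      CommRingCat.ofHom ((algebraMap R R').comp PowerSeries.constantCoeff) := by
    apply Spec.map_injective
    rw [Spec.map_comp, hf₀, hφ', Category.assoc, e.hom_inv_id_assoc, ht', ← Spec.map_comp]
    rfl
  obtain ⟨g, hg⟩ := Groth.Agent.Lib.Lead.PowSerLift.exists_lift (B := B) (algebraMap R R') f₀.hom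
    (by
      ext a : 1
      exact congr($hcomp a))
  refine ⟨R', iR', iA', hEt, hFF, Spec.map (CommRingCat.ofHom g) ≫ e.inv, ?_⟩
  rw [Category.assoc, ← hφ', ← Spec.map_comp]
  congr 1
  ext a : 2
  exact congr($hg a)

end Groth.Agent.S19307
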