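import Groth.Statements.S19308
-- import your own Groth.Agent.* helpers here
import Groth.Agent.Lib.Helper58.UnitCoeff

set_option autoImplicit false
universe u
open TensorProduct
open CAlg

namespace Groth.Agent.S19308

open Groth.Agent.Lib.Helper58.UnitCoeff in

/-- Let k be an algebraically closed field, A a finitely generated k-algebra which is an integral domain
(an affine variety X = Spec A), Z a finite (possibly empty) set of k-points of A, R a commutative
k-algebra and U an open dense subset of Spec (R ⊗_k A) = X_R containing every point of Z_R and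
meeting every fibre of X_R → Spec R. Then locally on Spec R there is a principal relative effective
Cartier divisor missing Z_R whose complement lies in U: for every prime p of R there are r ∉ p and f
∈ R[1/r] ⊗_k A such that f is a non-zero-divisor, (R[1/r] ⊗_k A)/(f) is flat over R[1/r], f maps to
a unit under every point of Z, and the basic open set D(f) of X_{R[1/r]} maps into U. (The published
statement is for a quasi-projective variety X and asks for relative Cartier divisors D_i over an
open cover of Spec R; this row is the affine case, to which the published proof reduces, where the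
divisors produced are principal.) -/
theorem result
    (k : Type u) [Field k] [IsAlgClosed k]
    (A : Type u) [CommRing A] [Algebra k A] [IsDomain A] [Algebra.FiniteType k A]
    (Z : Finset (A →ₐ[k] k))
    (R : Type u) [CommRing R] [Algebra k R]
    (U : TopologicalSpace.Opens (PrimeSpectrum (TensorProduct k R A)))
    (hU : Dense (U : Set (PrimeSpectrum (TensorProduct k R A))))
    (hZ : ∀ z ∈ Z, ∀ q : PrimeSpectrum R,
      PrimeSpectrum.comap (Algebra.TensorProduct.lift (AlgHom.id k R) ((Algebra.ofId k R).comp z)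
        (fun _ _ => Commute.all _ _)).toRingHom q ∈ U)
    (hsurj : ∀ q : PrimeSpectrum R, ∃ P ∈ U,
      PrimeSpectrum.comap (Algebra.TensorProduct.includeLeftRingHom : R →+* TensorProduct k R A) P = q)
    (p : PrimeSpectrum R) :
    ∃ r : R, r ∉ p.asIdeal ∧
      ∃ f : TensorProduct k (Localization.Away r) A,
        f ∈ nonZeroDivisors (TensorProduct k (Localization.Away r) A) ∧
        Module.Flat (Localization.Away r)
          (TensorProduct k (Localization.Away r) A ⧸ Ideal.span {f}) ∧
        (∀ z ∈ Z, IsUnit (Algebra.TensorProduct.lift (AlgHom.id k (Localization.Away r))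
          ((Algebra.ofId k (Localization.Away r)).comp z) (fun _ _ => Commute.all _ _) f)) ∧
        (∀ P : PrimeSpectrum (TensorProduct k (Localization.Away r) A), f ∉ P.asIdeal →
          PrimeSpectrum.comap (Algebra.TensorProduct.map
            (IsScalarTower.toAlgHom k R (Localization.Away r)) (AlgHom.id k A)).toRingHom P ∈ U) := by
  classical
  -- a basis of `A` over `k`
  let b : Module.Basis (Module.Basis.ofVectorSpaceIndex k A) k A := Module.Basis.ofVectorSpace k A
  -- the closed complement of `U`
  obtain ⟨I, hI⟩ := (PrimeSpectrum.isClosed_iff_zeroLocus_ideal _).mp U.isOpen.isClosed_compl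
  have hUI : ∀ Q : PrimeSpectrum (R ⊗[k] A), Q ∈ U ↔ ¬ (I : Set (R ⊗[k] A)) ⊆ Q.asIdeal := by
    intro Q
    have : Q ∈ (U : Set _)ᶜ ↔ Q ∈ PrimeSpectrum.zeroLocus (I : Set (R ⊗[k] A)) := by rw [hI]
    rw [Set.mem_compl_iff, PrimeSpectrum.mem_zeroLocus] at this
    exact not_iff_comm.mp this |>.symm
  obtain ⟨P, hPU, hPp⟩ := hsurj p
  -- the sections `z_R : R ⊗ A → R`
  let zR : (A →ₐ[k] k) → (R ⊗[k] A →ₐ[k] R) := fun z =>
    Algebra.TensorProduct.lift (AlgHom.id k R) ((Algebra.ofId k R).comp z)
      (fun _ _ => Commute.all _ _)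
  -- prime avoidance
  let s : Finset (PrimeSpectrum (R ⊗[k] A)) :=
    insert P (Z.image fun z => PrimeSpectrum.comap (zR z).toRingHom p)
  have hsU : ∀ Q ∈ s, Q ∈ U := by
    intro Q hQ
    rcases Finset.mem_insert.mp hQ with rfl | hQ
    · exact hPU
    · obtain ⟨z, hz, rfl⟩ := Finset.mem_image.mp hQ
      exact hZ z hz p
  obtain ⟨f1, hf1I, hf1s⟩ : ∃ f1 ∈ I, ∀ Q ∈ s, f1 ∉ Q.asIdeal := by
    have h1 : ¬ ((I : Set (R ⊗[k] A)) ⊆ ⋃ Q ∈ (↑s : Set (PrimeSpectrum (R ⊗[k] A))),
        (Q.asIdeal : Set (R ⊗[k] A))) := by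
      rw [Ideal.subset_union_prime (f := fun Q : PrimeSpectrum (R ⊗[k] A) => Q.asIdeal) P P
        (fun Q _ _ _ => Q.isPrime)]
      rintro ⟨Q, hQs, hQ⟩
      exact (hUI Q).mp (hsU Q hQs) hQ
    obtain ⟨f1, hf1I, hf1⟩ := Set.not_subset.mp h1
    refine ⟨f1, hf1I, fun Q hQ hfQ => hf1 ?_⟩
    exact Set.mem_biUnion (Finset.mem_coe.mpr hQ) hfQ
  have hf1P : f1 ∉ P.asIdeal := hf1s P (Finset.mem_insert_self _ _)
  have hf1z : ∀ z ∈ Z, zR z f1 ∉ p.asIdeal := by
    intro z hz
    have := hf1s _ (Finset.mem_insert_of_mem (Finset.mem_image_of_mem _ hz))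
    simpa [PrimeSpectrum.comap_asIdeal, Ideal.mem_comap] using this
  -- a coordinate of `f1` outside `p`
  obtain ⟨i1, hi1⟩ : ∃ i1, coord b R f1 i1 ∉ p.asIdeal := by
    by_contra h
    push Not at h
    have h2 : f1 ∈ (p.asIdeal • ⊤ : Submodule R (R ⊗[k] A)) := (mem_smul_top_iff b _ _).mpr h
    apply hf1P
    refine Submodule.smul_induction_on h2 (fun j hj y _ => ?_) (fun x y hx hy => ?_)
    · have hjP : (Algebra.TensorProduct.includeLeftRingHom : R →+* R ⊗[k] A) j ∈ P.asIdeal := by
        have : j ∈ (PrimeSpectrum.comap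
          (Algebra.TensorProduct.includeLeftRingHom : R →+* R ⊗[k] A) P).asIdeal := by
          rw [hPp]; exact hj
        simpa [PrimeSpectrum.comap_asIdeal, Ideal.mem_comap] using this
      have hjy : j • y = (Algebra.TensorProduct.includeLeftRingHom : R →+* R ⊗[k] A) j * y := by
        rw [Algebra.smul_def]; rfl
      rw [hjy]
      exact Ideal.mul_mem_right _ _ hjP
    · exact Ideal.add_mem _ hx hy
  -- the element `r`
  let r : R := coord b R f1 i1 * ∏ z ∈ Z, zR z f1
  have hr : r ∉ p.asIdeal := by
    intro h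
    rcases (p.isPrime.mul_mem_iff_mem_or_mem).mp h with h | h
    · exact hi1 h
    · obtain ⟨z, hz, hz'⟩ := (Ideal.IsPrime.prod_mem_iff (hp := p.isPrime)).mp h
      exact hf1z z hz hz'
  refine ⟨r, hr, ?_⟩
  let ψ : R →ₐ[k] Localization.Away r := IsScalarTower.toAlgHom k R (Localization.Away r)
  have hunit_of_dvd : ∀ x : R, x ∣ r → IsUnit (ψ x) := by
    intro x hx
    have h1 : IsUnit (algebraMap R (Localization.Away r) r) :=
      IsLocalization.Away.algebraMap_isUnit r
    exact isUnit_of_dvd_unit ((algebraMap R (Localization.Away r)).map_dvd hx) h1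
  let f : Localization.Away r ⊗[k] A := Algebra.TensorProduct.map ψ (AlgHom.id k A) f1
  have hfunit : ∃ i, IsUnit (coord b (Localization.Away r) f i) :=
    ⟨i1, by rw [coord_map]; exact hunit_of_dvd _ (Dvd.intro _ rfl)⟩
  refine ⟨f, ?_, flat_quotient b f hfunit, ?_, ?_⟩
  · rw [mem_nonZeroDivisors_iff_left]
    intro x hx
    exact eq_zero_of_mul_eq_zero b f x hfunit hx
  · intro z hz
    have hnat : ∀ x : R ⊗[k] A,
        Algebra.TensorProduct.lift (AlgHom.id k (Localization.Away r))
          ((Algebra.ofId k (Localization.Away r)).comp z) (fun _ _ => Commute.all _ _)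
          (Algebra.TensorProduct.map ψ (AlgHom.id k A) x) = ψ (zR z x) := by
      intro x
      induction x using TensorProduct.induction_on with
      | zero => simp
      | tmul a c => simp [zR, Algebra.ofId_apply]
      | add x y hx hy => simp only [map_add, hx, hy]
    rw [hnat]
    exact hunit_of_dvd _ (Dvd.dvd.mul_left (Finset.dvd_prod_of_mem _ hz) _)
  · intro P' hP'
    rw [hUI]
    intro hI'
    apply hP'
    have := hI' hf1I
    simpa [PrimeSpectrum.comap_asIdeal, Ideal.mem_comap] using this

end Groth.Agent.S19308
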