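import Groth.Statements.S19309
import Mathlib
-- import your own Groth.Agent.* helpers here

set_option autoImplicit false
universe u
open PowerSeries LaurentSeries
open CAlg

namespace Groth.Agent.S19309

theorem coeff_ofPS_neg {R : Type u} [CommRing R] (g : R⟦X⟧) (i : ℤ) (hi : i < 0) :
    (HahnSeries.ofPowerSeries ℤ R g).coeff i = 0 := by
  rw [HahnSeries.ofPowerSeries_apply, HahnSeries.embDomain_of_notMem_range]
  simp only [Nat.castOrderEmbedding_apply, Set.mem_range, not_exists]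
  intro n hn
  omega

theorem exists_ofPS {R : Type u} [CommRing R] (h : R⸨X⸩) (hneg : ∀ i : ℤ, i < 0 → h.coeff i = 0) :
    ∃ g : R⟦X⟧, HahnSeries.ofPowerSeries ℤ R g = h := by
  refine ⟨PowerSeries.mk (fun n => h.coeff n), ?_⟩
  ext i
  by_cases hi : 0 ≤ i
  · obtain ⟨n, rfl⟩ := Int.eq_ofNat_of_zero_le hi
    rw [HahnSeries.ofPowerSeries_apply_coeff, PowerSeries.coeff_mk]
  · rw [coeff_ofPS_neg _ _ (by omega), hneg _ (by omega)]

theorem theta_coeff {R R' : Type u} [CommRing R] [CommRing R'] (φ : R →+* R')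
    (θ : R⸨X⸩ →+* R'⸨X⸩)
    (hθ : θ.comp (algebraMap R⟦X⟧ R⸨X⸩) = (algebraMap R'⟦X⟧ R'⸨X⸩).comp (PowerSeries.map φ))
    (f : R⸨X⸩) (i : ℤ) : (θ f).coeff i = φ (f.coeff i) := by
  obtain ⟨⟨g, ⟨_, n, rfl⟩⟩, hg⟩ := IsLocalization.surj (Submonoid.powers (PowerSeries.X : R⟦X⟧)) f
  simp only [LaurentSeries.coe_algebraMap, HahnSeries.ofPowerSeries_X_pow] at hg
  have hθ' : ∀ q : R⟦X⟧, θ (HahnSeries.ofPowerSeries ℤ R q) =
      HahnSeries.ofPowerSeries ℤ R' (PowerSeries.map φ q) := fun q => RingHom.congr_fun hθ q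
  have h1 : θ f * HahnSeries.single (n : ℤ) 1 =
      HahnSeries.ofPowerSeries ℤ R' (PowerSeries.map φ g) := by
    have hX : θ (HahnSeries.single (n : ℤ) (1 : R)) = HahnSeries.single (n : ℤ) (1 : R') := by
      have h0 := hθ' (PowerSeries.X ^ n)
      have e1 : (PowerSeries.map φ) (PowerSeries.X ^ n) = PowerSeries.X ^ n := by
        rw [map_pow, PowerSeries.map_X]
      rw [e1, HahnSeries.ofPowerSeries_X_pow, HahnSeries.ofPowerSeries_X_pow] at h0
      exact h0
    rw [← hθ', ← hg, map_mul, hX]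
  have h2 : (θ f).coeff i = (HahnSeries.ofPowerSeries ℤ R' (PowerSeries.map φ g)).coeff (i + n) := by
    rw [← h1, HahnSeries.coeff_mul_single_add, mul_one]
  have h3 : f.coeff i = (HahnSeries.ofPowerSeries ℤ R g).coeff (i + n) := by
    rw [← hg, HahnSeries.coeff_mul_single_add, mul_one]
  rw [h2, h3]
  by_cases hi : 0 ≤ i + n
  · obtain ⟨m, hm⟩ := Int.eq_ofNat_of_zero_le hi
    rw [hm, HahnSeries.ofPowerSeries_apply_coeff, HahnSeries.ofPowerSeries_apply_coeff,
      PowerSeries.coeff_map]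
  · rw [coeff_ofPS_neg _ _ (by omega), coeff_ofPS_neg _ _ (by omega), map_zero]

/-- Let k be a field, R a commutative k-algebra, B a finitely presented R⟦X⟧-algebra (an affine scheme V
= Spec B of finite presentation over the disc D_R = Spec R⟦X⟧) and s : B → R((X)) an R⟦X⟧-algebra
map (a section of V over the punctured disc). Then there is an ideal I of R such that for every ring
map φ : R → R', writing θ : R((X)) → R'((X)) for the ring map compatible with R⟦X⟧ → R'⟦X⟧, the
section s extends to a section over D_{R'} — an R⟦X⟧-algebra map s' : B → R'⟦X⟧ whose composite with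
R'⟦X⟧ → R'((X)) is θ ∘ s — if and only if φ kills I. In other words the sub-presheaf of Spec R where
s extends over the disc is the closed subscheme defined by I. -/
theorem result
    (k : Type u) [Field k] (R : Type u) [CommRing R] [Algebra k R]
    (B : Type u) [CommRing B] [Algebra R⟦X⟧ B] [Algebra.FinitePresentation R⟦X⟧ B]
    (s : B →ₐ[R⟦X⟧] R⸨X⸩) :
    ∃ I : Ideal R, ∀ (R' : Type u) [CommRing R'] (φ : R →+* R') (θ : R⸨X⸩ →+* R'⸨X⸩),
      θ.comp (algebraMap R⟦X⟧ R⸨X⸩) = (algebraMap R'⟦X⟧ R'⸨X⸩).comp (PowerSeries.map φ) →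
      ((∃ s' : B →+* R'⟦X⟧, s'.comp (algebraMap R⟦X⟧ B) = PowerSeries.map φ ∧
          (algebraMap R'⟦X⟧ R'⸨X⸩).comp s' = θ.comp s.toRingHom) ↔ I ≤ RingHom.ker φ) := by
  refine ⟨Ideal.span {r | ∃ (b : B) (i : ℤ), i < 0 ∧ (s b).coeff i = r}, ?_⟩
  intro R' _ φ θ hθ
  have hinj : Function.Injective (algebraMap R'⟦X⟧ R'⸨X⸩) := HahnSeries.ofPowerSeries_injective
  constructor
  · rintro ⟨s', hs'1, hs'2⟩
    rw [Ideal.span_le]
    rintro _ ⟨b, i, hi, rfl⟩
    show φ ((s b).coeff i) = 0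
    rw [← theta_coeff φ θ hθ]
    have : θ (s b) = HahnSeries.ofPowerSeries ℤ R' (s' b) := (RingHom.congr_fun hs'2 b).symm
    rw [this, coeff_ofPS_neg _ _ hi]
  · intro hI
    have hrange : ∀ b : B, (θ.comp s.toRingHom) b ∈ (algebraMap R'⟦X⟧ R'⸨X⸩).range := by
      intro b
      obtain ⟨g, hg⟩ := exists_ofPS (θ (s b)) (by
        intro i hi
        rw [theta_coeff φ θ hθ]
        exact hI (Ideal.subset_span ⟨b, i, hi, rfl⟩))
      exact ⟨g, hg⟩
    let eqv := RingEquiv.ofLeftInverse (Function.leftInverse_invFun hinj)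
    let s' : B →+* R'⟦X⟧ :=
      (eqv.symm : _ →+* R'⟦X⟧).comp ((θ.comp s.toRingHom).codRestrict _ hrange)
    have hs' : ∀ b : B, algebraMap R'⟦X⟧ R'⸨X⸩ (s' b) = θ (s b) := by
      intro b
      have h1 : eqv (s' b) = (θ.comp s.toRingHom).codRestrict _ hrange b :=
        eqv.apply_symm_apply _
      have h2 := congrArg Subtype.val h1
      exact h2
    refine ⟨s', ?_, ?_⟩
    · ext1 g
      apply hinj
      rw [RingHom.comp_apply, hs', AlgHom.commutes]
      exact RingHom.congr_fun hθ g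
    · ext1 b
      exact hs' b

end Groth.Agent.S19309
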