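import Groth.Statements.S19310
import Groth.Agent.Lib.Helper74.WeakAss
import Groth.Agent.Lib.Helper56.GeomIntegral
import Mathlib

set_option autoImplicit false
universe u
open TensorProduct
open CAlg

namespace Groth.Agent.S19310

open TensorProduct

section reg

variable {k R' A : Type u} [Field k] [CommRing R'] [IsLocalRing R'] [Algebra k R'] [CommRing A]
  [Algebra k A]

/-- The reduction map `R' ⊗ A → κ ⊗ A`. -/
noncomputable def redMap : R' ⊗[k] A →ₐ[k] IsLocalRing.ResidueField R' ⊗[k] A :=
  Algebra.TensorProduct.map (IsScalarTower.toAlgHom k R' (IsLocalRing.ResidueField R'))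
    (AlgHom.id k A)

theorem cancel_one_tmul (G : R' ⊗[k] A) :
    Algebra.TensorProduct.cancelBaseChange k R' (IsLocalRing.ResidueField R')
      (IsLocalRing.ResidueField R') A ((1 : IsLocalRing.ResidueField R') ⊗ₜ[R'] G) = redMap G := by
  induction G using TensorProduct.induction_on with
  | zero => simp
  | tmul r a =>
    rw [Algebra.TensorProduct.cancelBaseChange_tmul, redMap, Algebra.TensorProduct.map_tmul]
    simp [Algebra.smul_def]
  | add x y hx hy => rw [TensorProduct.tmul_add, map_add, map_add, hx, hy]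

local notation "κ" => IsLocalRing.ResidueField R'

theorem regular_of_redMap_ne_zero [IsDomain (IsLocalRing.ResidueField R' ⊗[k] A)]
    (G : R' ⊗[k] A) (hG : redMap G ≠ 0) (x : R' ⊗[k] A) (hx : G * x = 0) : x = 0 := by
  classical
  let b₀ := Module.Basis.ofVectorSpace k A
  let b : Module.Basis _ R' (R' ⊗[k] A) := Algebra.TensorProduct.basis R' b₀
  let φ : R' ⊗[k] A →ₗ[R'] R' ⊗[k] A := LinearMap.mulLeft R' G
  let e := Algebra.TensorProduct.cancelBaseChange k R' κ κ A
  haveI : IsDomain (κ ⊗[R'] (R' ⊗[k] A)) := e.toMulEquiv.isDomain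
  have hne : ((1 : κ) ⊗ₜ[R'] G : κ ⊗[R'] (R' ⊗[k] A)) ≠ 0 := by
    intro h0
    apply hG
    rw [← cancel_one_tmul, h0, map_zero]
  have hbc : ∀ y, φ.baseChange κ y = ((1 : κ) ⊗ₜ[R'] G) * y := by
    intro y
    induction y using TensorProduct.induction_on with
    | zero => simp
    | tmul c t =>
      rw [LinearMap.baseChange_tmul, Algebra.TensorProduct.tmul_mul_tmul, one_mul]
      rfl
    | add y z hy hz => rw [map_add, hy, hz, mul_add]
  have hker : LinearMap.ker (φ.baseChange κ) = ⊥ := by
    rw [LinearMap.ker_eq_bot]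
    intro y z hyz
    rw [hbc, hbc] at hyz
    exact mul_left_cancel₀ hne hyz
  let bκ : Module.Basis _ κ (κ ⊗[R'] (R' ⊗[k] A)) := Algebra.TensorProduct.basis κ b
  have h2 : (TensorProduct.mk R' κ (R' ⊗[k] A) 1 ∘ (φ ∘ b)) = (φ.baseChange κ) ∘ bκ := by
    funext i
    simp only [Function.comp_apply, TensorProduct.mk_apply, bκ, Algebra.TensorProduct.basis_apply,
      LinearMap.baseChange_tmul]
  have hli : LinearIndependent κ (TensorProduct.mk R' κ (R' ⊗[k] A) 1 ∘ (φ ∘ b)) := by
    rw [h2]
    exact bκ.linearIndependent.map' (φ.baseChange κ) hker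
  have hliR : LinearIndependent R' (φ ∘ b) := Module.IsLocalRing.linearIndependent_of_flat _ hli
  have hφx : φ x = Finsupp.linearCombination R' (φ ∘ b) (b.repr x) := by
    conv_lhs => rw [← b.linearCombination_repr x]
    rw [Finsupp.apply_linearCombination]
  have hφ0 : φ x = 0 := hx
  rw [hφx] at hφ0
  have := (linearIndependent_iff.1 hliR) (b.repr x) hφ0
  exact b.repr.map_eq_zero_iff.1 this

end reg

section claimA

variable {k R A : Type u} [Field k] [CommRing R] [Algebra k R] [CommRing A] [Algebra k A]

/-- The localisation map `R ⊗ A → R_q ⊗ A`. -/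
noncomputable def locMap (q : Ideal R) [q.IsPrime] :
    R ⊗[k] A →ₐ[k] Localization.AtPrime q ⊗[k] A :=
  Algebra.TensorProduct.map (IsScalarTower.toAlgHom k R (Localization.AtPrime q)) (AlgHom.id k A)

theorem redMap_locMap_ne_zero (q : Ideal R) [q.IsPrime] (P' : Ideal (R ⊗[k] A)) [P'.IsPrime]
    (hP' : P'.comap (algebraMap R (R ⊗[k] A)) = q) (g : R ⊗[k] A) (hg : g ∉ P') :
    redMap (locMap q g) ≠ 0 := by
  let T := R ⊗[k] A
  let R' := Localization.AtPrime q
  let L := P'.ResidueField
  let ρ₁ : R →+* L := (algebraMap T L).comp (algebraMap R T)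
  have hρ₁ : ∀ r : R, ρ₁ r = 0 ↔ r ∈ q := by
    intro r
    change algebraMap T L (algebraMap R T r) = 0 ↔ r ∈ q
    rw [Ideal.algebraMap_residueField_eq_zero, ← hP', Ideal.mem_comap]
  have hunit : ∀ s : q.primeCompl, IsUnit (ρ₁ s) := by
    intro s
    exact IsUnit.mk0 _ (fun h => s.2 ((hρ₁ s).1 h))
  let ρ₂ : R' →+* L := IsLocalization.lift hunit
  have hρ₂ : ∀ r : R, ρ₂ (algebraMap R R' r) = ρ₁ r := fun r => IsLocalization.lift_eq hunit r
  have hρ₂max : ∀ a ∈ IsLocalRing.maximalIdeal R', ρ₂ a = 0 := by
    intro a ha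
    obtain ⟨r, s, rfl⟩ := IsLocalization.exists_mk'_eq q.primeCompl a
    rw [IsLocalization.AtPrime.mk'_mem_maximal_iff R' q] at ha
    rw [IsLocalization.lift_mk', (hρ₁ r).2 ha, zero_mul]
  haveI : IsLocalHom ρ₂ := by
    constructor
    intro a ha
    by_contra hna
    have : a ∈ IsLocalRing.maximalIdeal R' := (IsLocalRing.mem_maximalIdeal a).2 hna
    rw [hρ₂max a this] at ha
    exact not_isUnit_zero ha
  let ρ₃ : IsLocalRing.ResidueField R' →+* L := IsLocalRing.ResidueField.lift ρ₂
  have hρ₃ : ∀ a : R', ρ₃ (IsLocalRing.residue R' a) = ρ₂ a := fun a =>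
    IsLocalRing.ResidueField.lift_residue_apply ρ₂ a
  let ρ₃a : IsLocalRing.ResidueField R' →ₐ[k] L :=
    { ρ₃ with
      commutes' := fun c => by
        change ρ₃ (algebraMap k (IsLocalRing.ResidueField R') c) = algebraMap k L c
        rw [IsScalarTower.algebraMap_apply k R' (IsLocalRing.ResidueField R')]
        change ρ₃ (IsLocalRing.residue R' (algebraMap k R' c)) = algebraMap k L c
        rw [hρ₃, IsScalarTower.algebraMap_apply k R R', hρ₂]
        change algebraMap T L (algebraMap R T (algebraMap k R c)) = algebraMap k L c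
        rw [← IsScalarTower.algebraMap_apply k R T, ← IsScalarTower.algebraMap_apply k T L] }
  let α : A →ₐ[k] L := (IsScalarTower.toAlgHom k T L).comp Algebra.TensorProduct.includeRight
  let ψ : IsLocalRing.ResidueField R' ⊗[k] A →ₐ[k] L :=
    Algebra.TensorProduct.lift ρ₃a α (fun _ _ => Commute.all _ _)
  have hψ : ∀ x : T, ψ (redMap (locMap q x)) = algebraMap T L x := by
    intro x
    induction x using TensorProduct.induction_on with
    | zero => simp
    | tmul r a =>
      rw [locMap, Algebra.TensorProduct.map_tmul, redMap, Algebra.TensorProduct.map_tmul,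
        Algebra.TensorProduct.lift_tmul]
      change ρ₃ (IsLocalRing.residue R' (algebraMap R R' r)) * algebraMap T L ((1 : R) ⊗ₜ[k] a) = _
      rw [hρ₃, hρ₂]
      change algebraMap T L (algebraMap R T r) * algebraMap T L ((1 : R) ⊗ₜ[k] a) = _
      rw [← map_mul, Algebra.TensorProduct.algebraMap_apply, Algebra.algebraMap_self,
        RingHom.id_apply, Algebra.TensorProduct.tmul_mul_tmul, mul_one, one_mul]
    | add x y hx hy => rw [map_add, map_add, map_add, map_add, hx, hy]
  intro h0
  apply hg
  rw [← Ideal.algebraMap_residueField_eq_zero, ← hψ, h0, map_zero]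

end claimA

/-- Let k be an algebraically closed field, A a finitely generated k-algebra which is an integral domain
(X = Spec A an affine variety), R a commutative k-algebra, possibly non-reduced, and U an open
subset of X_R = Spec (R ⊗_k A) meeting every fibre of X_R → Spec R (a very dense open subset). Then
a regular function on X_R whose restriction to U vanishes is zero: if f ∈ R ⊗_k A maps to 0 in the
localisation (R ⊗_k A)[1/g] for every g with D(g) ⊆ U, then f = 0. (The published statement is that
automorphisms of a torsor under a smooth affine group scheme over X_R which are the identity over a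
very dense open subset are the identity, for X a smooth projective curve; its proof reduces this to
the present assertion about functions, for quasi-projective X; this row is the affine case.) -/
theorem result
    (k : Type u) [Field k] [IsAlgClosed k]
    (A : Type u) [CommRing A] [Algebra k A] [IsDomain A] [Algebra.FiniteType k A]
    (R : Type u) [CommRing R] [Algebra k R]
    (U : TopologicalSpace.Opens (PrimeSpectrum (TensorProduct k R A)))
    (hsurj : ∀ q : PrimeSpectrum R, ∃ P ∈ U,
      PrimeSpectrum.comap (Algebra.TensorProduct.includeLeftRingHom : R →+* TensorProduct k R A) P = q)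
    (f : TensorProduct k R A)
    (hf : ∀ g : TensorProduct k R A, (PrimeSpectrum.basicOpen g : Set (PrimeSpectrum (TensorProduct k R A))) ⊆ U →
      algebraMap (TensorProduct k R A) (Localization.Away g) f = 0) :
    f = 0 := by
  classical
  by_contra hf0
  obtain ⟨P, hP⟩ := Groth.Agent.Lib.Helper74.WeakAss.exists_minimalPrimes_ann
    (R := TensorProduct k R A) (M := TensorProduct k R A) hf0
  have hPprime : P.IsPrime := hP.1.1
  let q : Ideal R := P.comap (algebraMap R (TensorProduct k R A))
  haveI hq : q.IsPrime := Ideal.comap_isPrime _ _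
  obtain ⟨P', hP'U, hP'q⟩ := hsurj ⟨q, hq⟩
  have hP'q' : P'.asIdeal.comap (algebraMap R (TensorProduct k R A)) = q := by
    have := congrArg PrimeSpectrum.asIdeal hP'q
    exact this
  obtain ⟨g, hgP', hgU⟩ : ∃ g : TensorProduct k R A, g ∉ P'.asIdeal ∧
      (PrimeSpectrum.basicOpen g : Set (PrimeSpectrum (TensorProduct k R A))) ⊆ U := by
    obtain ⟨_, ⟨g, rfl⟩, h1, h2⟩ :=
      PrimeSpectrum.isTopologicalBasis_basic_opens.exists_subset_of_mem_open hP'U U.isOpen
    exact ⟨g, h1, h2⟩
  have h1 := hf g hgU
  obtain ⟨⟨_, n, rfl⟩, hn⟩ :=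
    (IsLocalization.map_eq_zero_iff (Submonoid.powers g) (Localization.Away g) f).1 h1
  have hgP : g ∈ P := by
    refine hPprime.mem_of_pow_mem n (hP.1.2 ?_)
    rw [Groth.Agent.Lib.Helper74.WeakAss.mem_ann]
    exact hn
  obtain ⟨s, hsP, m, hsm⟩ :=
    Groth.Agent.Lib.Helper74.WeakAss.exists_mul_pow_mem_of_mem_minimalPrimes hP hgP
  rw [Groth.Agent.Lib.Helper74.WeakAss.mem_ann, smul_eq_mul] at hsm
  haveI : IsDomain (IsLocalRing.ResidueField (Localization.AtPrime q) ⊗[k] A) :=
    Groth.Agent.Lib.Helper56.isDomain_tensor_of_isAlgClosed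
  have hA := redMap_locMap_ne_zero q P'.asIdeal hP'q' g hgP'
  have hreg := regular_of_redMap_ne_zero ((locMap q g) ^ m)
    (by rw [map_pow]; exact pow_ne_zero m hA) (locMap q (s * f))
    (by rw [← map_pow, ← map_mul, show g ^ m * (s * f) = s * g ^ m * f by ring, hsm, map_zero])
  let lam : TensorProduct k R A →ₗ[R] (Localization.AtPrime q) ⊗[k] A :=
    TensorProduct.AlgebraTensorModule.rTensor k A (Algebra.linearMap R (Localization.AtPrime q))
  haveI : IsLocalizedModule q.primeCompl lam := inferInstance
  have hlam : ∀ x, lam x = locMap q x := by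
    intro x
    induction x using TensorProduct.induction_on with
    | zero => simp
    | tmul r a => rfl
    | add x y hx hy => rw [map_add, map_add, hx, hy]
  have h0 : lam (s * f) = 0 := by rw [hlam]; exact hreg
  obtain ⟨r, hr⟩ := (IsLocalizedModule.eq_zero_iff q.primeCompl lam).1 h0
  have h2 : algebraMap R (TensorProduct k R A) r * s ∈ P := by
    refine hP.1.2 ?_
    rw [Groth.Agent.Lib.Helper74.WeakAss.mem_ann, smul_eq_mul, mul_assoc, ← Algebra.smul_def]
    exact hr
  rcases hPprime.mem_or_mem h2 with h3 | h3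
  · exact r.2 h3
  · exact hsP h3

end Groth.Agent.S19310
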