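import Groth.Statements.S19322
import Mathlib
import Groth.Prelude.Def_SpSeq
import Groth.Agent.S14355

set_option autoImplicit false
universe v u
open CategoryTheory CategoryTheory.Limits
open SpSeq

namespace Groth.Agent.S19322

section Aux
open CategoryTheory CategoryTheory.Limits


variable {K : Type u} [Field K]

/-- finrank through an iso of `ModuleCat`. -/
lemma finrank_iso {M N : ModuleCat.{v} K} (e : M ≅ N) : Module.finrank K M = Module.finrank K N :=
  LinearEquiv.finrank_eq e.toLinearEquiv

lemma finite_iso {M N : ModuleCat.{v} K} (e : M ≅ N) [Module.Finite K M] : Module.Finite K N :=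
  Module.Finite.equiv e.toLinearEquiv

lemma sc_finrank (S : ShortComplex (ModuleCat.{v} K)) [Module.Finite K S.X₂] :
    Module.Finite K S.homology ∧ Module.finrank K S.homology ≤ Module.finrank K S.X₂ ∧
      (Module.finrank K S.X₂ ≤ Module.finrank K S.homology → S.f = 0 ∧ S.g = 0) := by
  have e := S.moduleCatHomologyIso
  have h1 : Module.finrank K S.homology =
      Module.finrank K (LinearMap.ker S.g.hom ⧸ LinearMap.range S.moduleCatToCycles) :=
    finrank_iso e
  have h2 := Submodule.finrank_quotient_add_finrank (LinearMap.range S.moduleCatToCycles)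
  have h3 : Module.finrank K (LinearMap.ker S.g.hom) ≤ Module.finrank K S.X₂ :=
    Submodule.finrank_le _
  haveI : Module.Finite K (S.moduleCatLeftHomologyData.H) := by
    change Module.Finite K (LinearMap.ker S.g.hom ⧸ LinearMap.range S.moduleCatToCycles)
    infer_instance
  refine ⟨finite_iso e.symm, by omega, fun h => ?_⟩
  have h4 : Module.finrank K (LinearMap.ker S.g.hom) = Module.finrank K S.X₂ := by omega
  have h5 : Module.finrank K (LinearMap.range S.moduleCatToCycles) = 0 := by omega
  have h6 : LinearMap.ker S.g.hom = ⊤ := Submodule.eq_top_of_finrank_eq h4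
  have h7 : LinearMap.range S.moduleCatToCycles = ⊥ := Submodule.finrank_eq_zero.mp h5
  constructor
  · ext x
    have : S.moduleCatToCycles x ∈ LinearMap.range S.moduleCatToCycles := ⟨x, rfl⟩
    rw [h7, Submodule.mem_bot] at this
    exact congrArg Subtype.val this
  · ext x
    have : x ∈ LinearMap.ker S.g.hom := h6 ▸ Submodule.mem_top
    exact this

variable {r₀ : ℤ} (E : CohomologicalSpectralSequence (ModuleCat.{v} K) r₀)

lemma page_succ (pq : ℤ × ℤ) (r : ℤ) (hr : r₀ ≤ r) [Module.Finite K ((E.page r hr).X pq)] :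
    Module.Finite K ((E.page (r + 1) (hr.trans (Int.le_add_one le_rfl))).X pq) ∧
    Module.finrank K ((E.page (r + 1) (hr.trans (Int.le_add_one le_rfl))).X pq) ≤
      Module.finrank K ((E.page r hr).X pq) ∧
    (Module.finrank K ((E.page r hr).X pq) ≤
      Module.finrank K ((E.page (r + 1) (hr.trans (Int.le_add_one le_rfl))).X pq) →
      (E.page r hr).d (pq - (r, 1 - r)) pq = 0 ∧ (E.page r hr).d pq (pq + (r, 1 - r)) = 0) := by
  have e := E.iso r (r + 1) pq rfl hr
  haveI : Module.Finite K ((E.page r hr).sc pq).X₂ := ‹_›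
  obtain ⟨h1, h2, h3⟩ := sc_finrank ((E.page r hr).sc pq)
  have h4 : Module.finrank K ((E.page r hr).homology pq) =
      Module.finrank K ((E.page (r + 1) (hr.trans (Int.le_add_one le_rfl))).X pq) := finrank_iso e
  haveI : Module.Finite K ((E.page r hr).homology pq) := h1
  refine ⟨finite_iso e, ?_, fun h => ?_⟩
  · rw [← h4]; exact h2
  · have hprev : (ComplexShape.up' ((r, 1 - r) : ℤ × ℤ)).prev pq = pq - (r, 1 - r) :=
      ComplexShape.prev_eq' _ (show pq - (r, 1 - r) + (r, 1 - r) = pq from sub_add_cancel _ _)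
    have hnext : (ComplexShape.up' ((r, 1 - r) : ℤ × ℤ)).next pq = pq + (r, 1 - r) :=
      ComplexShape.next_eq' _ (show pq + (r, 1 - r) = pq + (r, 1 - r) from rfl)
    obtain ⟨h5, h6⟩ := h3 (by rw [← h4] at h; exact h)
    rw [← hprev, ← hnext]
    exact ⟨h5, h6⟩

lemma page_finite (pq : ℤ × ℤ) (hfd : Module.Finite K ((E.page r₀ le_rfl).X pq)) (r : ℤ)
    (hr : r₀ ≤ r) : Module.Finite K ((E.page r hr).X pq) := by
  induction r, hr using Int.leInduction with
  | base => exact hfd
  | succ s hs ih =>
    haveI := ih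
    exact (page_succ E pq s hs).1

lemma page_anti (pq : ℤ × ℤ) (hfd : Module.Finite K ((E.page r₀ le_rfl).X pq)) (r : ℤ)
    (hr : r₀ ≤ r) (r' : ℤ) (hrr' : r ≤ r') :
    Module.finrank K ((E.page r' (hr.trans hrr')).X pq) ≤ Module.finrank K ((E.page r hr).X pq) := by
  induction r', hrr' using Int.leInduction with
  | base => exact le_rfl
  | succ s hs ih =>
    haveI := page_finite E pq hfd s (hr.trans hs)
    exact (page_succ E pq s (hr.trans hs)).2.1.trans ih

lemma stationary_of_finrank (pq : ℤ × ℤ) (hfd : Module.Finite K ((E.page r₀ le_rfl).X pq)) (R : ℤ)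
    (hR : SpSeq.StationaryAt E pq R)
    (h : Module.finrank K ((E.page r₀ le_rfl).X pq) ≤ Module.finrank K ((E.page R hR.1).X pq)) :
    SpSeq.StationaryAt E pq r₀ := by
  refine ⟨le_rfl, fun r' h₀ _ => ?_⟩
  by_cases hlt : R ≤ r'
  · exact hR.2 r' h₀ hlt
  · push Not at hlt
    haveI := page_finite E pq hfd r' h₀
    have h1 := page_anti E pq hfd (r' + 1) (by omega) R (by omega)
    have h2 := page_anti E pq hfd r₀ le_rfl r' h₀
    exact (page_succ E pq r' h₀).2.2 (by omega)

section Fil

variable {X : ModuleCat.{v} K}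

lemma finite_sub [Module.Finite K X] (S : Subobject X) : Module.Finite K (S : ModuleCat.{v} K) :=
  Module.Finite.of_injective S.arrow.hom ((ModuleCat.mono_iff_injective _).mp inferInstance)

lemma finrank_top : Module.finrank K ((⊤ : Subobject X) : ModuleCat.{v} K) = Module.finrank K X :=
  finrank_iso (asIso (⊤ : Subobject X).arrow)

lemma finrank_bot : Module.finrank K ((⊥ : Subobject X) : ModuleCat.{v} K) = 0 := by
  haveI : Subsingleton ((⊥ : Subobject X) : ModuleCat.{v} K) :=
    ModuleCat.subsingleton_of_isZero (IsZero.of_iso (isZero_zero _) Subobject.botCoeIsoZero)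
  exact Module.finrank_zero_of_subsingleton

lemma finrank_cokernel {A B : ModuleCat.{v} K} (f : A ⟶ B) [Mono f] [Module.Finite K B] :
    Module.finrank K (cokernel f : ModuleCat.{v} K) + Module.finrank K A = Module.finrank K B := by
  have h1 : Module.finrank K (cokernel f : ModuleCat.{v} K) =
      Module.finrank K (B ⧸ LinearMap.range f.hom) := finrank_iso (ModuleCat.cokernelIsoRangeQuotient f)
  have h2 := Submodule.finrank_quotient_add_finrank (LinearMap.range f.hom)
  have h3 : Module.finrank K (LinearMap.range f.hom) = Module.finrank K A :=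
    LinearMap.finrank_range_of_inj ((ModuleCat.mono_iff_injective f).mp inferInstance)
  omega

lemma finrank_step [Module.Finite K X] (F : ℤ → Subobject X) (hF : Antitone F) (p : ℤ) :
    Module.finrank K (F p : ModuleCat.{v} K) =
      Module.finrank K (F (p + 1) : ModuleCat.{v} K) + Module.finrank K (SpSeq.grPiece F hF p : ModuleCat.{v} K) := by
  haveI := finite_sub (F p)
  have := finrank_cokernel ((F (p + 1)).ofLE (F p) (hF (Int.le_add_one le_rfl)))
  unfold SpSeq.grPiece SpSeq.subquot
  omega

lemma finrank_tele [Module.Finite K X] (F : ℤ → Subobject X) (hF : Antitone F) (a b : ℤ)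
    (hab : a ≤ b) :
    Module.finrank K (F a : ModuleCat.{v} K) =
      Module.finrank K (F b : ModuleCat.{v} K) +
        ∑ p ∈ Finset.Ico a b, Module.finrank K (SpSeq.grPiece F hF p : ModuleCat.{v} K) := by
  induction b, hab using Int.leInduction with
  | base => simp
  | succ s hs ih =>
    rw [← Finset.insert_Ico_right_eq_Ico_add_one hs, Finset.sum_insert (by simp), ih,
      finrank_step F hF s]
    omega

lemma finrank_total [Module.Finite K X] (F : ℤ → Subobject X) (hF : Antitone F) (a b : ℤ)
    (hab : a ≤ b) (ha : F a = ⊤) (hb : F b = ⊥) :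
    Module.finrank K X = ∑ p ∈ Finset.Ico a b, Module.finrank K (SpSeq.grPiece F hF p : ModuleCat.{v} K) := by
  have h := finrank_tele F hF a b hab
  rw [ha, hb, finrank_top, finrank_bot, zero_add] at h
  exact h

end Fil

lemma gr_congr {H : ℤ → ModuleCat.{v} K} (a : SpSeq.Abutment E H) (p m n : ℤ) (h : m = n) :
    Module.finrank K (SpSeq.grPiece (a.fil m) (a.anti m) p : ModuleCat.{v} K) =
      Module.finrank K (SpSeq.grPiece (a.fil n) (a.anti n) p : ModuleCat.{v} K) := by
  subst h; rfl

theorem main
    (H : ℤ → ModuleCat.{v} K)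
    (a : SpSeq.Abutment E H) (n : ℤ) (hfin : a.IsFinite n)
    (hquad : ∀ pq : ℤ × ℤ, pq.1 < 0 ∨ pq.2 < 0 → IsZero ((E.page r₀ le_rfl).X pq))
    (hfd : ∀ pq : ℤ × ℤ, Module.Finite K ((E.page r₀ le_rfl).X pq))
    (hH : Module.Finite K (H n))
    (hsum : ∑ s ∈ Finset.Icc (0 : ℤ) n, Module.finrank K ((E.page r₀ le_rfl).X (s, n - s)) =
      Module.finrank K (H n)) :
    ∀ s : ℤ, SpSeq.StationaryAt E (s, n - s) r₀ := by
  obtain ⟨⟨a₀, ha₀⟩, ⟨b₀, hb₀⟩⟩ := hfin
  change a.fil n a₀ = ⊤ at ha₀
  change a.fil n b₀ = ⊥ at hb₀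
  have hA : a.fil n (min a₀ 0) = ⊤ := top_le_iff.mp (ha₀ ▸ a.anti n (min_le_left _ _))
  have hB : a.fil n (max (max b₀ (n + 1)) 0) = ⊥ :=
    le_bot_iff.mp (hb₀ ▸ a.anti n ((le_max_left _ _).trans (le_max_left _ _)))
  have hab : min a₀ 0 ≤ max (max b₀ (n + 1)) 0 := (min_le_right _ _).trans (le_max_right _ _)
  have htot := finrank_total (a.fil n) (a.anti n) _ _ hab hA hB
  have hgr : ∀ p : ℤ, Module.finrank K (SpSeq.grPiece (a.fil n) (a.anti n) p : ModuleCat.{v} K) =
      Module.finrank K ((E.page (a.rk (p, n - p)) (a.stat (p, n - p)).1).X (p, n - p)) := by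
    intro p
    rw [finrank_iso (a.β (p, n - p))]
    exact (gr_congr E a p (p + (n - p)) n (by ring)).symm
  have hle : ∀ p : ℤ,
      Module.finrank K ((E.page (a.rk (p, n - p)) (a.stat (p, n - p)).1).X (p, n - p)) ≤
      Module.finrank K ((E.page r₀ le_rfl).X (p, n - p)) :=
    fun p => page_anti E _ (hfd _) r₀ le_rfl _ (a.stat (p, n - p)).1
  have hzero : ∀ p : ℤ, p ∉ Finset.Icc (0 : ℤ) n →
      Module.finrank K ((E.page r₀ le_rfl).X (p, n - p)) = 0 := by
    intro p hp
    haveI : Subsingleton ((E.page r₀ le_rfl).X (p, n - p)) :=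
      ModuleCat.subsingleton_of_isZero (hquad (p, n - p) (by
        simp only [Finset.mem_Icc, not_and_or, not_le] at hp
        rcases hp with hp | hp
        · exact Or.inl hp
        · exact Or.inr (by simp only; omega)))
    exact Module.finrank_zero_of_subsingleton
  have hsub : Finset.Icc (0 : ℤ) n ⊆ Finset.Ico (min a₀ 0) (max (max b₀ (n + 1)) 0) := by
    intro p hp
    simp only [Finset.mem_Icc] at hp
    simp only [Finset.mem_Ico]
    constructor
    · exact (min_le_right _ _).trans hp.1
    · have : n + 1 ≤ max (max b₀ (n + 1)) 0 := (le_max_right _ _).trans (le_max_left _ _)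
      omega
  have hsum' := Finset.sum_subset hsub (fun p _ hp => hzero p hp)
  have heq : ∑ p ∈ Finset.Ico (min a₀ 0) (max (max b₀ (n + 1)) 0),
      Module.finrank K ((E.page (a.rk (p, n - p)) (a.stat (p, n - p)).1).X (p, n - p)) =
      ∑ p ∈ Finset.Ico (min a₀ 0) (max (max b₀ (n + 1)) 0),
        Module.finrank K ((E.page r₀ le_rfl).X (p, n - p)) := by
    rw [← hsum', hsum, htot]
    exact Finset.sum_congr rfl (fun p _ => (hgr p).symm)
  have key := (Finset.sum_eq_sum_iff_of_le (fun p _ => hle p)).mp heq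
  intro s
  apply stationary_of_finrank E (s, n - s) (hfd _) (a.rk (s, n - s)) (a.stat _)
  by_cases hs : s ∈ Finset.Ico (min a₀ 0) (max (max b₀ (n + 1)) 0)
  · exact (key s hs).ge
  · rw [hzero s (fun h => hs (hsub h))]
    exact Nat.zero_le _


end Aux

/-- Let K be a field and E a cohomological spectral sequence of K-vector spaces, pages from r₀,
concentrated in the first quadrant on page r₀ and with all terms of page r₀ finite-dimensional, and
let H be abutment data for E whose filtration in degree n is finite, H n finite-dimensional. If the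
dimensions of the page-r₀ terms E^{s, n-s}, 0 ≤ s ≤ n, add up to the dimension of H n, then every
position of total degree n is stationary from page r₀ on: all differentials into and out of it
vanish on every page. (The printed statement takes r₀ a positive integer and n ≥ 0; neither
restriction is needed.) -/
theorem result
    {K : Type u} [Field K] {r₀ : ℤ}
    (E : CohomologicalSpectralSequence (ModuleCat.{v} K) r₀) (H : ℤ → ModuleCat.{v} K)
    (a : SpSeq.Abutment E H) (n : ℤ) (hfin : a.IsFinite n)
    (hquad : ∀ pq : ℤ × ℤ, pq.1 < 0 ∨ pq.2 < 0 → IsZero ((E.page r₀ le_rfl).X pq))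
    (hfd : ∀ pq : ℤ × ℤ, Module.Finite K ((E.page r₀ le_rfl).X pq))
    (hH : Module.Finite K (H n))
    (hsum : ∑ s ∈ Finset.Icc (0 : ℤ) n, Module.finrank K ((E.page r₀ le_rfl).X (s, n - s)) =
      Module.finrank K (H n)) :
    ∀ s : ℤ, SpSeq.StationaryAt E (s, n - s) r₀ := by
  exact main E H a n hfin hquad hfd hH hsum

end Groth.Agent.S19322
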