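import Groth.Statements.S19323
import Mathlib
import Groth.Agent.S14355
import Groth.Prelude.Def_SpSeq

set_option autoImplicit false
universe v u
open CategoryTheory CategoryTheory.Limits
open SpSeq

namespace Groth.Agent.S19323

section Aux
open CategoryTheory CategoryTheory.Limits


variable {C : Type u} [Category.{v} C] [Abelian C]

/-- homology map is mono at a spot where all four differentials vanish and the component is mono -/
theorem mono_homologyMap {ι : Type*} {c : ComplexShape ι} {K L : HomologicalComplex C c}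
    (g : K ⟶ L) (i : ι) (hK1 : K.d (c.prev i) i = 0) (hK2 : K.d i (c.next i) = 0)
    (hL1 : L.d (c.prev i) i = 0) (hL2 : L.d i (c.next i) = 0) (hg : Mono (g.f i)) :
    Mono (HomologicalComplex.homologyMap g i) := by
  haveI : IsIso (K.iCycles i) := ShortComplex.isIso_iCycles _ hK2
  haveI : IsIso (L.iCycles i) := ShortComplex.isIso_iCycles _ hL2
  haveI : IsIso (K.homologyπ i) := ShortComplex.isIso_homologyπ _ hK1
  haveI : IsIso (L.homologyπ i) := ShortComplex.isIso_homologyπ _ hL1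
  have h1 : HomologicalComplex.cyclesMap g i = K.iCycles i ≫ g.f i ≫ inv (L.iCycles i) := by
    rw [← Category.assoc, IsIso.eq_comp_inv, HomologicalComplex.cyclesMap_i]
  have h2 : HomologicalComplex.homologyMap g i =
      inv (K.homologyπ i) ≫ HomologicalComplex.cyclesMap g i ≫ L.homologyπ i := by
    rw [IsIso.eq_inv_comp, HomologicalComplex.homologyπ_naturality]
  rw [h2, h1]
  infer_instance

theorem dzero (E E' : E₂CohomologicalSpectralSequence C) (φ : E ⟶ E')
    (hE : ∀ pq : ℤ × ℤ, pq.1 < 0 ∨ pq.2 < 0 → IsZero ((E.page 2 le_rfl).X pq))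
    (hφd : ∀ (r : ℤ) (hr : 2 ≤ r) (pq : ℤ × ℤ),
      (φ.hom r hr).f pq ≫ (E'.page r hr).d pq (pq + (r, 1 - r)) = 0)
    (r : ℤ) (hr : 2 ≤ r) (P : ∀ pq : ℤ × ℤ, r ≤ pq.1 → Mono ((φ.hom r hr).f pq)) :
    ∀ a b : ℤ × ℤ, (E.page r hr).d a b = 0 := by
  intro a b
  by_cases hrel : (ComplexShape.up' ((r, 1 - r) : ℤ × ℤ)).Rel a b
  · have hb : a + (r, 1 - r) = b := hrel
    subst hb
    by_cases ha : a.1 < 0
    · exact (Groth.Agent.S14355.isZero_page E a 2 le_rfl (hE a (Or.inl ha)) r hr).eq_of_src _ _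
    · haveI : Mono ((φ.hom r hr).f (a + (r, 1 - r))) := P _ (by simp only [Prod.fst_add]; omega)
      rw [← cancel_mono ((φ.hom r hr).f (a + (r, 1 - r))), ← (φ.hom r hr).comm, hφd, zero_comp]
  · exact (E.page r hr).shape a b hrel

theorem main (E E' : E₂CohomologicalSpectralSequence C) (φ : E ⟶ E')
    (hE : ∀ pq : ℤ × ℤ, pq.1 < 0 ∨ pq.2 < 0 → IsZero ((E.page 2 le_rfl).X pq))
    (hE' : ∀ pq : ℤ × ℤ, pq.1 < 0 ∨ pq.2 < 0 → IsZero ((E'.page 2 le_rfl).X pq))
    (hd' : ∀ (r : ℤ) (hr : 2 ≤ r) (pq : ℤ × ℤ), pq.1 ≠ 0 →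
      (E'.page r hr).d pq (pq + (r, 1 - r)) = 0)
    (hφd : ∀ (r : ℤ) (hr : 2 ≤ r) (pq : ℤ × ℤ),
      (φ.hom r hr).f pq ≫ (E'.page r hr).d pq (pq + (r, 1 - r)) = 0)
    (hmono : ∀ pq : ℤ × ℤ, Mono ((φ.hom 2 le_rfl).f pq)) :
    SpSeq.Degenerates E 2 := by
  have key : ∀ (r : ℤ) (hr : 2 ≤ r), ∀ pq : ℤ × ℤ, r ≤ pq.1 → Mono ((φ.hom r hr).f pq) := by
    intro r hr
    induction r, hr using Int.leInduction with
    | base => intro pq _; exact hmono pq
    | succ s hs ih =>
      intro pq hpq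
      have hd0 := dzero E E' φ hE hφd s hs ih
      have hprev : (ComplexShape.up' ((s, 1 - s) : ℤ × ℤ)).prev pq = pq - (s, 1 - s) :=
        ComplexShape.prev_eq' _ (show pq - (s, 1 - s) + (s, 1 - s) = pq from sub_add_cancel _ _)
      have hnext : (ComplexShape.up' ((s, 1 - s) : ℤ × ℤ)).next pq = pq + (s, 1 - s) :=
        ComplexShape.next_eq' _ (show pq + (s, 1 - s) = pq + (s, 1 - s) from rfl)
      have hL1 : (E'.page s hs).d ((ComplexShape.up' ((s, 1 - s) : ℤ × ℤ)).prev pq) pq = 0 := by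
        rw [hprev]
        have h := hd' s hs (pq - (s, 1 - s)) (by simp only [Prod.fst_sub]; omega)
        rwa [sub_add_cancel] at h
      have hL2 : (E'.page s hs).d pq ((ComplexShape.up' ((s, 1 - s) : ℤ × ℤ)).next pq) = 0 := by
        rw [hnext]
        exact hd' s hs pq (by omega)
      haveI : Mono ((φ.hom s hs).f pq) := ih pq (by omega)
      haveI := mono_homologyMap (φ.hom s hs) pq (hd0 _ _) (hd0 _ _) hL1 hL2 inferInstance
      have h := φ.comm s (s + 1) pq rfl hs
      have h2 : (φ.hom (s + 1) (hs.trans (Int.le_add_one le_rfl))).f pq =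
          (E.iso s (s + 1) pq rfl hs).inv ≫ HomologicalComplex.homologyMap (φ.hom s hs) pq ≫
            (E'.iso s (s + 1) pq rfl hs).hom := by
        rw [h, Iso.inv_hom_id_assoc]
      rw [h2]
      infer_instance
  refine ⟨le_rfl, fun r' h₀ _ pq pq' => ?_⟩
  exact dzero E E' φ hE hφd r' h₀ (key r' h₀) pq pq'


end Aux

/-- In an abelian category let E and E' be first-quadrant E₂ cohomological spectral sequences and φ : E
⟶ E' a morphism of spectral sequences such that (i) every differential of E' leaving a position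
whose first coordinate is nonzero vanishes, (ii) on every page the map φ at each position followed
by the outgoing differential of E' is zero, and (iii) φ is a monomorphism at every position of page
2. Then E degenerates at page 2. -/
theorem result
    {C : Type u} [Category.{v} C] [Abelian C]
    (E E' : E₂CohomologicalSpectralSequence C) (φ : E ⟶ E')
    (hE : ∀ pq : ℤ × ℤ, pq.1 < 0 ∨ pq.2 < 0 → IsZero ((E.page 2 le_rfl).X pq))
    (hE' : ∀ pq : ℤ × ℤ, pq.1 < 0 ∨ pq.2 < 0 → IsZero ((E'.page 2 le_rfl).X pq))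
    (hd' : ∀ (r : ℤ) (hr : 2 ≤ r) (pq : ℤ × ℤ), pq.1 ≠ 0 →
      (E'.page r hr).d pq (pq + (r, 1 - r)) = 0)
    (hφd : ∀ (r : ℤ) (hr : 2 ≤ r) (pq : ℤ × ℤ),
      (φ.hom r hr).f pq ≫ (E'.page r hr).d pq (pq + (r, 1 - r)) = 0)
    (hmono : ∀ pq : ℤ × ℤ, Mono ((φ.hom 2 le_rfl).f pq)) :
    SpSeq.Degenerates E 2 := by
  exact main E E' φ hE hE' hd' hφd hmono

end Groth.Agent.S19323
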