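import Groth.Statements.S19326
import Groth.Agent.Lib.Helper83.DiagComod

set_option autoImplicit false
universe u
open TensorProduct
open GLin

namespace Groth.Agent.S19326

/-- Let k be a field, M a finite abelian group and D = Spec k[M] the finite diagonalizable group scheme
it defines, acting on an affine k-scheme U = Spec R through a multiplicative coaction R → R ⊗ k[M];
write R_a for the weight space of a ∈ M (elements with coaction f ⊗ a). For an ideal J of R the
induced action of D on the closed subscheme V(J) is trivial, meaning that the coaction followed by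
reduction modulo J equals f ↦ (f mod J) ⊗ 1, exactly when J contains the ideal generated by the
weight spaces R_a for a ≠ 0; in other words that ideal defines the largest closed subscheme of U on
which D acts trivially. (The printed setting has U smooth, which plays no role here and is not
assumed; the further assertion that the construction commutes with flat base change on U/D is not
part of this statement.) -/
theorem result
    {k : Type u} [Field k] {M : Type u} [AddCommGroup M] [Finite M]
    {R : Type u} [CommRing R] [Algebra k R] [HopfRep.Comod k (AddMonoidAlgebra k M) R]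
    [GLin.IsCoactAlg k (AddMonoidAlgebra k M) R] (J : Ideal R) :
    (∀ f : R, LinearMap.rTensor (AddMonoidAlgebra k M) (Ideal.Quotient.mkₐ k J).toLinearMap
        (HopfRep.Comod.coact (k := k) (A := AddMonoidAlgebra k M) f) =
        (Ideal.Quotient.mk J f) ⊗ₜ[k] (1 : AddMonoidAlgebra k M)) ↔
      Ideal.span (⋃ (a : M) (_ : a ≠ 0),
        (HopfRep.eigenspace k (AddMonoidAlgebra k M) R (AddMonoidAlgebra.single a 1) : Set R)) ≤ J := by
  classical
  let b : Module.Basis M k (AddMonoidAlgebra k M) :=
    Module.Basis.ofRepr (AddMonoidAlgebra.coeffLinearEquiv k)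
  have hb : ∀ m, b m = AddMonoidAlgebra.single m (1 : k) := fun m => rfl
  have hcomul : ∀ m, Coalgebra.comul (R := k) (b m) = b m ⊗ₜ[k] b m := by
    intro m
    rw [hb, AddMonoidAlgebra.comul_single]
    simp
  have hcounit : ∀ m, Coalgebra.counit (R := k) (b m) = (1 : k) := by
    intro m
    rw [hb, AddMonoidAlgebra.counit_single]
    simp
  have hone : (1 : AddMonoidAlgebra k M) = b 0 := by
    rw [hb]
    rfl
  let q : R →ₗ[k] R ⧸ J := (Ideal.Quotient.mkₐ k J).toLinearMap
  have hq : ∀ r, q r = Ideal.Quotient.mk J r := fun r => rfl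
  have key : ∀ (t : R ⊗[k] AddMonoidAlgebra k M) (n : M),
      Groth.Agent.Lib.Helper83.DiagComod.Φ b (q.rTensor (AddMonoidAlgebra k M) t) n =
        q (Groth.Agent.Lib.Helper83.DiagComod.Φ b t n) := by
    intro t n
    induction t using TensorProduct.induction_on with
    | zero => simp
    | tmul r a =>
      rw [LinearMap.rTensor_tmul, Groth.Agent.Lib.Helper83.DiagComod.Φ_tmul,
        Groth.Agent.Lib.Helper83.DiagComod.Φ_tmul, map_smul]
    | add x y hx hy => simp only [map_add, Finsupp.add_apply, hx, hy]
  have hD : ∀ (f : R) (n : M), n ≠ 0 → (∀ g ∈ Ideal.span (⋃ (a : M) (_ : a ≠ 0),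
      (HopfRep.eigenspace k (AddMonoidAlgebra k M) R (AddMonoidAlgebra.single a 1) : Set R)), g ∈ J) →
      q (Groth.Agent.Lib.Helper83.DiagComod.D b f n) = 0 := by
    intro f n hn hJ
    rw [hq, Ideal.Quotient.eq_zero_iff_mem]
    apply hJ
    apply Ideal.subset_span
    simp only [Set.mem_iUnion]
    refine ⟨n, hn, ?_⟩
    change HopfRep.Comod.coact (k := k) (A := AddMonoidAlgebra k M) _ = _
    rw [Groth.Agent.Lib.Helper83.DiagComod.coact_eq b,
      Groth.Agent.Lib.Helper83.DiagComod.D_D b hcomul,
      Groth.Agent.Lib.Helper83.DiagComod.Φ_symm_single, hb]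
  constructor
  · intro h
    rw [Ideal.span_le]
    intro f hf
    simp only [Set.mem_iUnion] at hf
    obtain ⟨a, ha, hfa⟩ := hf
    have hfa' : HopfRep.Comod.coact (k := k) (A := AddMonoidAlgebra k M) f = f ⊗ₜ[k] b a := hfa
    have h1 := h f
    rw [hfa', hone] at h1
    change q f ⊗ₜ[k] b a = q f ⊗ₜ[k] b 0 at h1
    have h2 := congrArg (fun t => Groth.Agent.Lib.Helper83.DiagComod.Φ b t a) h1
    simp only [Groth.Agent.Lib.Helper83.DiagComod.Φ_tmul_basis, Finsupp.single_eq_same] at h2
    rw [Finsupp.single_eq_of_ne ha] at h2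
    exact Ideal.Quotient.eq_zero_iff_mem.mp h2
  · intro h f
    have hJ : ∀ g ∈ Ideal.span (⋃ (a : M) (_ : a ≠ 0),
      (HopfRep.eigenspace k (AddMonoidAlgebra k M) R (AddMonoidAlgebra.single a 1) : Set R)), g ∈ J :=
      fun g hg => h hg
    apply (Groth.Agent.Lib.Helper83.DiagComod.Φ b).injective
    ext n
    change Groth.Agent.Lib.Helper83.DiagComod.Φ b (q.rTensor (AddMonoidAlgebra k M)
      (HopfRep.Comod.coact (k := k) (A := AddMonoidAlgebra k M) f)) n =
      Groth.Agent.Lib.Helper83.DiagComod.Φ b (q f ⊗ₜ[k] (1 : AddMonoidAlgebra k M)) n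
    rw [key, hone, Groth.Agent.Lib.Helper83.DiagComod.Φ_tmul_basis,
      ← Groth.Agent.Lib.Helper83.DiagComod.D_apply]
    by_cases hn : n = 0
    · subst hn
      rw [Finsupp.single_eq_same]
      have hs := Groth.Agent.Lib.Helper83.DiagComod.sum_D b hcounit f
      conv_rhs => rw [← hs]
      rw [Finsupp.sum, map_sum]
      rw [Finset.sum_eq_single 0]
      · intro m _ hm
        exact hD f m hm hJ
      · intro h0
        rw [Finsupp.notMem_support_iff] at h0
        rw [h0, map_zero]
    · rw [Finsupp.single_eq_of_ne hn]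
      exact hD f n hn hJ

end Groth.Agent.S19326
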