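import Groth.Statements.S19328
import Mathlib.RingTheory.Flat.FaithfullyFlat.Algebra
import Mathlib.RingTheory.Localization.Integral
import Mathlib.RingTheory.AdjoinRoot
import Mathlib.RingTheory.Polynomial.ScaleRoots
-- import your own Groth.Agent.* helpers here

set_option autoImplicit false
universe u
open CategoryTheory CategoryTheory.Limits AlgebraicGeometry
open ModPair

namespace Groth.Agent.S19328

theorem exists_retraction (A : Type u) [CommRing A]
    (hloc : ∀ (X : Scheme.{u}) (R : Presieve X),
      R ∈ Scheme.precoverage (@Flat ⊓ @LocallyOfFinitePresentation ⊓ @QuasiCompact ⊓ @QuasiSeparated) X →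
      ∀ g : Spec (CommRingCat.of A) ⟶ X,
        ∃ (Y : Scheme.{u}) (v : Y ⟶ X) (h : Spec (CommRingCat.of A) ⟶ Y), R v ∧ h ≫ v = g)
    (C : Type u) [CommRing C] [Algebra A C] [Module.FaithfullyFlat A C]
    [Algebra.FinitePresentation A C] :
    ∃ ψ : C →+* A, ∀ a : A, ψ (algebraMap A C a) = a := by
  set φ : CommRingCat.of A ⟶ CommRingCat.of C := CommRingCat.ofHom (algebraMap A C) with hφ
  have hmem : Presieve.singleton (Spec.map φ) ∈
      Scheme.precoverage (@Flat ⊓ @LocallyOfFinitePresentation ⊓ @QuasiCompact ⊓ @QuasiSeparated)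
        (Spec (CommRingCat.of A)) := by
    rw [Scheme.singleton_mem_precoverage_iff]
    have hff : φ.hom.FaithfullyFlat := by
      rw [hφ, CommRingCat.hom_ofHom, RingHom.faithfullyFlat_algebraMap_iff]
      infer_instance
    have h1 := (flat_and_surjective_SpecMap_iff φ).mpr hff
    refine ⟨h1.2.surj, ⟨⟨h1.1, ?_⟩, ?_⟩, ?_⟩
    · rw [LocallyOfFinitePresentation.SpecMap_iff, hφ, CommRingCat.hom_ofHom]
      exact (RingHom.finitePresentation_algebraMap).mpr inferInstance
    · infer_instance
    · infer_instance
  obtain ⟨Y, v, h, hv, hh⟩ := hloc _ _ hmem (𝟙 _)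
  cases hv
  refine ⟨(Spec.preimage h).hom, fun a => ?_⟩
  have h2 : Spec.map (φ ≫ Spec.preimage h) = 𝟙 _ := by
    rw [Spec.map_comp, Spec.map_preimage, hh]
  rw [Spec.map_eq_id] at h2
  have h3 := congrArg (fun k => k.hom a) h2
  simpa [hφ] using h3

/-- Let A be a commutative ring such that Spec A is local for fppf coverings, in the sense that for
every scheme X, every jointly surjective family of morphisms to X each of which is flat and of
finite presentation (locally of finite presentation, quasi-compact and quasi-separated), and every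
morphism Spec A ⟶ X, the morphism factors through a member of the family. Then the residue field of
A at every prime ideal is algebraically closed. -/
theorem result (A : Type u) [CommRing A]
    (hloc : ∀ (X : Scheme.{u}) (R : Presieve X),
      R ∈ Scheme.precoverage (@Flat ⊓ @LocallyOfFinitePresentation ⊓ @QuasiCompact ⊓ @QuasiSeparated) X →
      ∀ g : Spec (CommRingCat.of A) ⟶ X,
        ∃ (Y : Scheme.{u}) (v : Y ⟶ X) (h : Spec (CommRingCat.of A) ⟶ Y), R v ∧ h ≫ v = g)
    (p : Ideal A) [p.IsPrime] : IsAlgClosed p.ResidueField := by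
  classical
  have hnt : Nontrivial A := by
    refine ⟨⟨0, 1, fun h => ?_⟩⟩
    apply (inferInstance : p.IsPrime).ne_top
    rw [Ideal.eq_top_iff_one, ← h]
    exact p.zero_mem
  refine IsAlgClosed.of_exists_root _ fun P hPm hPirr => ?_
  have hlift := IsLocalization.scaleRoots_commonDenom_mem_lifts (nonZeroDivisors (A ⧸ p)) P
    (by rw [hPm.leadingCoeff]; exact one_mem _)
  set b : A ⧸ p :=
    ((IsLocalization.commonDenom (nonZeroDivisors (A ⧸ p)) P.support P.coeff :
      nonZeroDivisors (A ⧸ p)) : A ⧸ p) with hbdef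
  have hb : algebraMap (A ⧸ p) p.ResidueField b ≠ 0 := by
    intro h0
    have hinj := IsFractionRing.injective (A ⧸ p) p.ResidueField
    have hb0 : b = 0 := hinj (by rw [h0, map_zero])
    exact nonZeroDivisors.ne_zero
      (IsLocalization.commonDenom (nonZeroDivisors (A ⧸ p)) P.support P.coeff).2 hb0
  have hmonic : (P.scaleRoots (algebraMap (A ⧸ p) p.ResidueField b)).Monic :=
    (Polynomial.monic_scaleRoots_iff _).mpr hPm
  obtain ⟨q', hq'map, hq'deg, hq'monic⟩ :=
    Polynomial.lifts_and_degree_eq_and_monic hlift hmonic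
  have hq'lift : q' ∈ Polynomial.lifts (Ideal.Quotient.mk p) :=
    Polynomial.mem_lifts_of_surjective Ideal.Quotient.mk_surjective q'
  obtain ⟨q, hqmap, hqdeg, hqmonic⟩ := Polynomial.lifts_and_degree_eq_and_monic hq'lift hq'monic
  have hdegP : P.degree ≠ 0 := fun h => by
    have := Polynomial.degree_pos_of_irreducible hPirr
    rw [h] at this
    exact lt_irrefl _ this
  have hqdeg' : q.natDegree = P.natDegree := by
    have h1 : q.degree = P.degree := by
      rw [hqdeg, hq'deg, Polynomial.degree_scaleRoots]
    exact Polynomial.natDegree_eq_natDegree h1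
  have hqpos : 0 < q.natDegree := by
    rw [hqdeg']
    exact Polynomial.natDegree_pos_iff_degree_pos.mpr (Polynomial.degree_pos_of_irreducible hPirr)
  let pb := AdjoinRoot.powerBasis' hqmonic
  have : Module.Free A (AdjoinRoot q) := Module.Free.of_basis pb.basis
  have : Nontrivial (AdjoinRoot q) := by
    have hdim : 0 < pb.dim := by
      rw [AdjoinRoot.powerBasis'_dim]
      exact hqpos
    exact ⟨⟨pb.basis ⟨0, hdim⟩, 0, pb.basis.ne_zero _⟩⟩
  obtain ⟨ψ, hψ⟩ := exists_retraction A hloc (AdjoinRoot q)
  set r : A := ψ (AdjoinRoot.root q) with hrdef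
  have hr : q.eval r = 0 := by
    have h1 : Polynomial.eval₂ (ψ.comp (algebraMap A (AdjoinRoot q))) r q = 0 := by
      rw [hrdef, ← Polynomial.hom_eval₂, AdjoinRoot.algebraMap_eq, AdjoinRoot.eval₂_root, map_zero]
    have h2 : ψ.comp (algebraMap A (AdjoinRoot q)) = RingHom.id A := RingHom.ext hψ
    rw [h2] at h1
    exact h1
  have hmapq : q.map (algebraMap A p.ResidueField) =
      P.scaleRoots (algebraMap (A ⧸ p) p.ResidueField b) := by
    rw [← hq'map, ← hqmap, Polynomial.map_map]
    congr 1
  have hroot : (P.scaleRoots (algebraMap (A ⧸ p) p.ResidueField b)).eval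
      (algebraMap A p.ResidueField r) = 0 := by
    rw [← hmapq, Polynomial.eval_map, Polynomial.eval₂_at_apply, hr, map_zero]
  refine ⟨algebraMap A p.ResidueField r / algebraMap (A ⧸ p) p.ResidueField b, ?_⟩
  have h3 := Polynomial.scaleRoots_eval₂_mul (p := P) (RingHom.id p.ResidueField)
    (algebraMap A p.ResidueField r / algebraMap (A ⧸ p) p.ResidueField b)
    (algebraMap (A ⧸ p) p.ResidueField b)
  simp only [RingHom.id_apply, Polynomial.eval₂_id] at h3
  rw [mul_div_cancel₀ _ hb, hroot] at h3
  exact (mul_eq_zero.mp h3.symm).resolve_left (pow_ne_zero _ hb)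

end Groth.Agent.S19328
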