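import Groth.Statements.S19330
-- import your own Groth.Agent.* helpers here
import Groth.Agent.S18749

set_option autoImplicit false
universe u
open CategoryTheory CategoryTheory.Limits AlgebraicGeometry TopologicalSpace
open ModPair

namespace Groth.Agent.S19330


open Groth.Agent.S18748 Groth.Agent.S18738 Groth.Agent.Lib.Helper33.AdmOre Groth.Agent.Lib.Helper82
open AlgebraicGeometry.Scheme.IdealSheafData Groth.Agent.S18749

/-- every point of a scheme with an effective Cartier ideal is a specialization of a point
of the interior -/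
theorem exists_specializes_of_effCartier {S : Scheme.{u}} (I : S.IdealSheafData)
    (hI : BlowUp.IsEffCartierIdeal I) (s : S) :
    ∃ u : S, u ∈ ModPair.interior I ∧ u ⤳ s := by
  obtain ⟨W, hsW, e, he, hIe⟩ := hI s
  have hW := W.2
  obtain ⟨q, hq, hqle⟩ := Ideal.exists_minimalPrimes_le
    (J := (hW.primeIdealOf ⟨s, hsW⟩).asIdeal) (I := ⊥) bot_le
  have hqprime : q.IsPrime := hq.1.1
  have heq : e ∉ q := fun h =>
    Set.disjoint_left.mp (Ideal.disjoint_nonZeroDivisors_of_mem_minimalPrimes hq) h he
  let Q : PrimeSpectrum Γ(S, W.1) := ⟨q, hqprime⟩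
  have hsp : Q ⤳ hW.primeIdealOf ⟨s, hsW⟩ :=
    (PrimeSpectrum.le_iff_specializes Q _).mp hqle
  have hsp2 : hW.fromSpec Q ⤳ s := by
    have := hsp.map hW.fromSpec.continuous
    rwa [hW.fromSpec_primeIdealOf] at this
  refine ⟨hW.fromSpec Q, ?_, hsp2⟩
  have hmem : Q ∈ hW.fromSpec ⁻¹ᵁ S.basicOpen e := by
    rw [hW.fromSpec_preimage_basicOpen]
    exact heq
  have h2 : hW.fromSpec Q ∈ S.basicOpen e := hmem
  rw [← compl_support_inf_eq_basicOpen I W e hIe] at h2
  exact h2.1


/-- Let (S, I) be a modulus pair, i.e. a scheme with the quasi-coherent ideal sheaf of an effective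
Cartier divisor, with interior U, and let g_i : V_i ⟶ U be a jointly surjective family of closed
immersions into the interior. Let V̄_i be the scheme-theoretic image of V_i ⟶ U ⟶ S. Then the closed
immersions V̄_i ⟶ S are jointly surjective, the modulus restricted to each V̄_i is again the ideal
sheaf of an effective Cartier divisor (so that V̄_i ⟶ S is a minimal morphism of modulus pairs), and
the interior of V̄_i is V_i: the canonical morphism V_i ⟶ V̄_i is an open immersion whose image is
the preimage of U. -/
theorem result {S : Scheme.{u}} (I : S.IdealSheafData)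
    (hI : BlowUp.IsEffCartierIdeal I) {ι : Type u} (V : ι → Scheme.{u})
    (g : ∀ i, V i ⟶ (ModPair.interior I : Scheme.{u})) [∀ i, IsClosedImmersion (g i)]
    (hsurj : ∀ u : (ModPair.interior I : Scheme.{u}), ∃ (i : ι) (v : V i), (g i).base v = u) :
    (∀ s : S, ∃ (i : ι) (v : (g i ≫ (ModPair.interior I).ι).image),
        (g i ≫ (ModPair.interior I).ι).imageι.base v = s) ∧
      (∀ i, BlowUp.IsEffCartierIdeal (I.comap (g i ≫ (ModPair.interior I).ι).imageι)) ∧
      ∀ i, IsOpenImmersion (g i ≫ (ModPair.interior I).ι).toImage ∧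
        Set.range (g i ≫ (ModPair.interior I).ι).toImage.base =
          (g i ≫ (ModPair.interior I).ι).imageι.base ⁻¹' (ModPair.interior I : Set S) := by
  have haffU : IsAffineHom (ModPair.interior I).ι := isAffineHom_ι_compl_support I hI
  have hqc : ∀ i, QuasiCompact (g i ≫ (ModPair.interior I).ι) := fun i => inferInstance
  have hcl : ∀ i, IsClosedImmersion (g i ≫ (ModPair.interior I).ι).imageι := fun i =>
    inferInstanceAs (IsClosedImmersion (g i ≫ (ModPair.interior I).ι).ker.subschemeι)
  -- range of toImage inside the preimage of the interior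
  have hr : ∀ i, Set.range (g i ≫ (ModPair.interior I).ι).toImage ⊆
      Set.range ((g i ≫ (ModPair.interior I).ι).imageι ⁻¹ᵁ ModPair.interior I).ι := by
    intro i
    rintro _ ⟨v, rfl⟩
    rw [Scheme.Opens.range_ι]
    change (g i ≫ (ModPair.interior I).ι).imageι ((g i ≫ (ModPair.interior I).ι).toImage v) ∈
      ModPair.interior I
    rw [← Scheme.Hom.comp_apply, Scheme.Hom.toImage_imageι, Scheme.Hom.comp_apply]
    exact (g i v).2
  have hfac : ∀ i, IsOpenImmersion.lift
      ((g i ≫ (ModPair.interior I).ι).imageι ⁻¹ᵁ ModPair.interior I).ι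
      (g i ≫ (ModPair.interior I).ι).toImage (hr i) ≫
      ((g i ≫ (ModPair.interior I).ι).imageι ⁻¹ᵁ ModPair.interior I).ι =
      (g i ≫ (ModPair.interior I).ι).toImage := fun i => IsOpenImmersion.lift_fac _ _ _
  have hdomT : ∀ i, IsSchemeTheoreticallyDominant (g i ≫ (ModPair.interior I).ι).toImage :=
    fun i => isSchemeTheoreticallyDominant_toImage _
  have hdomO : ∀ i, IsSchemeTheoreticallyDominant
      ((g i ≫ (ModPair.interior I).ι).imageι ⁻¹ᵁ ModPair.interior I).ι := by
    intro i
    have : IsSchemeTheoreticallyDominant (IsOpenImmersion.lift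
      ((g i ≫ (ModPair.interior I).ι).imageι ⁻¹ᵁ ModPair.interior I).ι
      (g i ≫ (ModPair.interior I).ι).toImage (hr i) ≫
      ((g i ≫ (ModPair.interior I).ι).imageι ⁻¹ᵁ ModPair.interior I).ι) := by
      rw [hfac i]; exact hdomT i
    exact isSchemeTheoreticallyDominant_of_comp (IsOpenImmersion.lift
      ((g i ≫ (ModPair.interior I).ι).imageι ⁻¹ᵁ ModPair.interior I).ι
      (g i ≫ (ModPair.interior I).ι).toImage (hr i)) _
  refine ⟨?_, ?_, ?_⟩
  · intro s
    obtain ⟨u, hu, hus⟩ := exists_specializes_of_effCartier I hI s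
    obtain ⟨i, v, hv⟩ := hsurj ⟨u, hu⟩
    have hmem : s ∈ Set.range (g i ≫ (ModPair.interior I).ι).imageι := by
      have h1 : Set.range (g i ≫ (ModPair.interior I).ι).imageι =
          closure (Set.range (g i ≫ (ModPair.interior I).ι)) := by
        change Set.range (g i ≫ (ModPair.interior I).ι).ker.subschemeι = _
        rw [Scheme.IdealSheafData.range_subschemeι, Scheme.Hom.support_ker]
      rw [h1]
      refine hus.mem_closed isClosed_closure (subset_closure ⟨v, ?_⟩)
      rw [Scheme.Hom.comp_apply]
      have : g i v = ⟨u, hu⟩ := hv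
      rw [this]
      rfl
    obtain ⟨w, hw⟩ := hmem
    exact ⟨i, w, hw⟩
  · intro i
    have := hdomO i
    exact (Groth.Agent.S18732.result I hI (g i ≫ (ModPair.interior I).ι).imageι).2
  · intro i
    -- the lift is an isomorphism
    have hflat : IsPullback (𝟙 (V i)) (IsOpenImmersion.lift
        ((g i ≫ (ModPair.interior I).ι).imageι ⁻¹ᵁ ModPair.interior I).ι
        (g i ≫ (ModPair.interior I).ι).toImage (hr i))
        (g i ≫ (ModPair.interior I).ι).toImage
        ((g i ≫ (ModPair.interior I).ι).imageι ⁻¹ᵁ ModPair.interior I).ι := by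
      refine (IsOpenImmersion.isPullback _ (𝟙 (V i)) _ _ ?_ ?_).flip
      · rw [Category.id_comp, hfac i]
      · ext v
        simp only [Scheme.Opens.opensRange_ι, Scheme.Hom.opensRange_of_isIso]
        constructor
        · intro _; trivial
        · intro _
          change (g i ≫ (ModPair.interior I).ι).imageι
            ((g i ≫ (ModPair.interior I).ι).toImage v) ∈ ModPair.interior I
          rw [← Scheme.Hom.comp_apply, Scheme.Hom.toImage_imageι, Scheme.Hom.comp_apply]
          exact (g i v).2
    have := hdomT i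
    have hqcT : QuasiCompact (g i ≫ (ModPair.interior I).ι).toImage := by
      have : QuasiCompact ((g i ≫ (ModPair.interior I).ι).toImage ≫
          (g i ≫ (ModPair.interior I).ι).imageι) := by
        rw [Scheme.Hom.toImage_imageι]; exact hqc i
      exact QuasiCompact.of_comp _ (g i ≫ (ModPair.interior I).ι).imageι
    have hLdom : IsSchemeTheoreticallyDominant (IsOpenImmersion.lift
        ((g i ≫ (ModPair.interior I).ι).imageι ⁻¹ᵁ ModPair.interior I).ι
        (g i ≫ (ModPair.interior I).ι).toImage (hr i)) := .of_isPullback hflat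
    have hLg : IsOpenImmersion.lift
        ((g i ≫ (ModPair.interior I).ι).imageι ⁻¹ᵁ ModPair.interior I).ι
        (g i ≫ (ModPair.interior I).ι).toImage (hr i) ≫
        ((g i ≫ (ModPair.interior I).ι).imageι ∣_ ModPair.interior I) = g i := by
      rw [← cancel_mono (ModPair.interior I).ι, Category.assoc, morphismRestrict_ι,
        ← Category.assoc, hfac i, Scheme.Hom.toImage_imageι]
    have hrcl : IsClosedImmersion ((g i ≫ (ModPair.interior I).ι).imageι ∣_ ModPair.interior I) :=
      IsZariskiLocalAtTarget.restrict (hcl i) _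
    have hLcl : IsClosedImmersion (IsOpenImmersion.lift
        ((g i ≫ (ModPair.interior I).ι).imageι ⁻¹ᵁ ModPair.interior I).ι
        (g i ≫ (ModPair.interior I).ι).toImage (hr i)) := by
      have : IsClosedImmersion (IsOpenImmersion.lift
        ((g i ≫ (ModPair.interior I).ι).imageι ⁻¹ᵁ ModPair.interior I).ι
        (g i ≫ (ModPair.interior I).ι).toImage (hr i) ≫
        ((g i ≫ (ModPair.interior I).ι).imageι ∣_ ModPair.interior I)) := by
        rw [hLg]; infer_instance
      exact IsClosedImmersion.of_comp _
        ((g i ≫ (ModPair.interior I).ι).imageι ∣_ ModPair.interior I)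
    have hLiso : IsIso (IsOpenImmersion.lift
        ((g i ≫ (ModPair.interior I).ι).imageι ⁻¹ᵁ ModPair.interior I).ι
        (g i ≫ (ModPair.interior I).ι).toImage (hr i)) :=
      IsClosedImmersion.isIso_iff_ker_eq_bot.mpr (Scheme.Hom.ker_eq_bot _)
    constructor
    · rw [← hfac i]; infer_instance
    · apply Set.Subset.antisymm
      · rintro _ ⟨v, rfl⟩
        change (g i ≫ (ModPair.interior I).ι).imageι
          ((g i ≫ (ModPair.interior I).ι).toImage v) ∈ ModPair.interior I
        rw [← Scheme.Hom.comp_apply, Scheme.Hom.toImage_imageι, Scheme.Hom.comp_apply]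
        exact (g i v).2
      · intro z hz
        have hz' : z ∈ (g i ≫ (ModPair.interior I).ι).imageι ⁻¹ᵁ ModPair.interior I := hz
        obtain ⟨v, hv⟩ := (ConcreteCategory.bijective_of_isIso (IsOpenImmersion.lift
          ((g i ≫ (ModPair.interior I).ι).imageι ⁻¹ᵁ ModPair.interior I).ι
          (g i ≫ (ModPair.interior I).ι).toImage (hr i)).base).2 ⟨z, hz'⟩
        refine ⟨v, ?_⟩
        have h2 := congrArg (fun t => ((g i ≫ (ModPair.interior I).ι).imageι ⁻¹ᵁ
          ModPair.interior I).ι t) hv
        simp only at h2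
        rw [← hfac i, Scheme.Hom.comp_apply]
        exact h2

end Groth.Agent.S19330
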