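import Groth.Statements.S19331
import Mathlib
import Groth.Agent.Lib.Helper41.EffCartierClosure
import Groth.Agent.Lib.Helper41.FiniteExtend2

set_option autoImplicit false
universe u
open CategoryTheory CategoryTheory.Limits AlgebraicGeometry TopologicalSpace
open ModPair

namespace Groth.Agent.S19331

/-- Let (S, I) be a modulus pair, i.e. a scheme with the quasi-coherent ideal sheaf of an effective
Cartier divisor, with S quasi-compact and quasi-separated and with interior U, and let t₀ : T₀ ⟶ U
be a finite surjective morphism. Then there are a finite surjective morphism t : T ⟶ S such that the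
pulled-back modulus I.comap t is again the ideal sheaf of an effective Cartier divisor, making T ⟶ S
a minimal morphism of modulus pairs, and an open immersion j : T₀ ⟶ T with image t⁻¹(U) and j ≫ t =
t₀ ≫ (U ⟶ S), so that t₀ is the interior of t. -/
theorem result {S : Scheme.{u}}
    [CompactSpace S] [QuasiSeparatedSpace S] (I : S.IdealSheafData)
    (hI : BlowUp.IsEffCartierIdeal I) {T₀ : Scheme.{u}}
    (t₀ : T₀ ⟶ (ModPair.interior I : Scheme.{u})) [IsFinite t₀] [Surjective t₀] :
    ∃ (T : Scheme.{u}) (t : T ⟶ S) (j : T₀ ⟶ T), IsFinite t ∧ Surjective t ∧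
      BlowUp.IsEffCartierIdeal (I.comap t) ∧ IsOpenImmersion j ∧
      Set.range j.base = t.base ⁻¹' (ModPair.interior I : Set S) ∧
      j ≫ t = t₀ ≫ (ModPair.interior I).ι := by
  classical
  have hUeq : ModPair.interior I = I.support.compl := rfl
  haveI haffU : IsAffineHom (ModPair.interior I).ι := by
    rw [hUeq]
    exact Groth.Agent.Lib.Helper82.isAffineHom_ι_compl_support I hI
  haveI hdomU : IsSchemeTheoreticallyDominant (ModPair.interior I).ι := by
    rw [hUeq]
    exact Groth.Agent.Lib.Helper82.isSchemeTheoreticallyDominant_ι_compl_support I hI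
  have hUc : IsCompact (ModPair.interior I : Set S) := by
    have h1 : IsCompact ((ModPair.interior I).ι ⁻¹' (Set.univ : Set S)) :=
      QuasiCompact.isCompact_preimage (f := (ModPair.interior I).ι) _ isOpen_univ isCompact_univ
    have h2 := h1.image (ModPair.interior I).ι.continuous
    rw [Set.preimage_univ, Set.image_univ, Scheme.Opens.range_ι] at h2
    exact h2
  obtain ⟨V', π, i, hπ, hpb⟩ :=
    Groth.Agent.Lib.Helper41.FiniteExtend.exists_finite_extension' (ModPair.interior I) hUc t₀
  haveI := hπ
  haveI : IsOpenImmersion i :=
    MorphismProperty.of_isPullback (P := @IsOpenImmersion) hpb.flip inferInstance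
  haveI : QuasiCompact i :=
    MorphismProperty.of_isPullback (P := @QuasiCompact) hpb.flip inferInstance
  set j : T₀ ⟶ i.image := i.toImage with hj
  set t : i.image ⟶ S := i.imageι ≫ π with ht
  haveI : IsSchemeTheoreticallyDominant j :=
    Groth.Agent.Lib.Helper41.EffCartierClosure.isSchemeTheoreticallyDominant_toImage i
  haveI : QuasiCompact j := inferInstanceAs (QuasiCompact i.toImage)
  haveI : IsOpenImmersion j := inferInstanceAs (IsOpenImmersion i.toImage)
  have hfac : j ≫ t = t₀ ≫ (ModPair.interior I).ι := by
    rw [hj, ht, ← Category.assoc, Scheme.Hom.toImage_imageι]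
    exact hpb.w
  have hmem : ∀ y : T₀, t (j y) ∈ ModPair.interior I := by
    intro y
    rw [← Scheme.Hom.comp_apply, hfac, Scheme.Hom.comp_apply]
    exact (t₀ y).2
  haveI hfin : IsFinite t := inferInstanceAs (IsFinite (i.imageι ≫ π))
  refine ⟨i.image, t, j, hfin, ?_, ?_, inferInstance, ?_, hfac⟩
  · -- surjective
    have hclosed : IsClosed (Set.range t) := t.isClosedMap.isClosed_range
    have hsub : (ModPair.interior I : Set S) ⊆ Set.range t := by
      intro s hs
      obtain ⟨y, hy⟩ := t₀.surjective ⟨s, hs⟩
      refine ⟨j y, ?_⟩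
      rw [← Scheme.Hom.comp_apply, hfac, Scheme.Hom.comp_apply, hy]
      rfl
    have hdense : Dense (ModPair.interior I : Set S) := by
      have := (ModPair.interior I).ι.denseRange
      rwa [DenseRange, Scheme.Opens.range_ι] at this
    have : Set.range t = Set.univ := by
      rw [← Set.univ_subset_iff, ← hdense.closure_eq]
      exact hclosed.closure_subset_iff.mpr hsub
    exact ⟨fun s => by
      have : s ∈ Set.range t := by rw [this]; trivial
      exact this⟩
  · -- effective Cartier
    exact Groth.Agent.Lib.Helper41.EffCartierClosure.isEffCartierIdeal_comap_of_dominant I hI t j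
      (fun w => hmem w)
  · -- range
    ext x
    constructor
    · rintro ⟨y, rfl⟩
      exact hmem y
    · intro hx
      have hx' : π (i.imageι x) ∈ ModPair.interior I := hx
      have h1 : i.imageι x ∈ Set.range i := by
        have := hpb.flip
        obtain ⟨y, hy1, hy2⟩ := Scheme.Pullback.exists_preimage_pullback
          (f := π) (g := (ModPair.interior I).ι) (i.imageι x) ⟨π (i.imageι x), hx'⟩ rfl
        refine ⟨hpb.isoPullback.inv y, ?_⟩
        have e2 : hpb.isoPullback.inv ≫ i = pullback.fst π (ModPair.interior I).ι :=
          IsPullback.isoPullback_inv_fst hpb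
        rw [← Scheme.Hom.comp_apply, e2]
        exact hy1
      obtain ⟨y, hy⟩ := h1
      refine ⟨y, ?_⟩
      apply i.imageι.isClosedEmbedding.injective
      rw [← Scheme.Hom.comp_apply, hj, Scheme.Hom.toImage_imageι]
      exact hy

end Groth.Agent.S19331
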