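import Groth.Statements.S19333
import Mathlib.RingTheory.Valuation.LocalSubring
import Mathlib.Algebra.Polynomial.Lifts
import Mathlib.RingTheory.Localization.FractionRing
-- import your own Groth.Agent.* helpers here

set_option autoImplicit false
universe u
open ModPair

namespace Groth.Agent.S19333

open Polynomial

theorem forward {A B : Type u} [CommRing A] [CommRing B] [Algebra A B] (x : B)
    (hx : IsIntegral A x) (K : Type u) [Field K] (R : ValuationSubring K) (φ : B →+* K)
    (hφ : ∀ a : A, φ (algebraMap A B a) ∈ R) : φ x ∈ R := by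
  obtain ⟨P, hPm, hP⟩ := hx
  let ψ' : A →+* R := (φ.comp (algebraMap A B)).codRestrict R hφ
  have h1 : IsIntegral R (φ x) := by
    refine ⟨P.map ψ', hPm.map ψ', ?_⟩
    rw [eval₂_map]
    have h2 : (algebraMap R K).comp ψ' = φ.comp (algebraMap A B) := by
      ext a
      rfl
    rw [h2, ← hom_eval₂, hP, map_zero]
  obtain ⟨y, hy⟩ := IsIntegrallyClosedIn.isIntegral_iff.mp h1
  rw [← hy]
  exact y.2

theorem backward {A B : Type u} [CommRing A] [CommRing B] [Algebra A B] (x : B)
    (hx : ¬ IsIntegral A x) :
    ∃ (K : Type u) (_ : Field K) (R : ValuationSubring K) (φ : B →+* K),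
      (∀ a, φ (algebraMap A B a) ∈ R) ∧ φ x ∉ R := by
  classical
  let S : Submonoid B :=
    { carrier := {b | ∃ P : A[X], P.Monic ∧ aeval x P = b}
      one_mem' := ⟨1, monic_one, by simp⟩
      mul_mem' := by
        rintro _ _ ⟨P, hP, rfl⟩ ⟨Q, hQ, rfl⟩
        exact ⟨P * Q, hP.mul hQ, by simp⟩ }
  have h0 : (0 : B) ∉ S := fun ⟨P, hPm, hP⟩ => hx ⟨P, hPm, by rwa [← aeval_def]⟩
  have hdisj : Disjoint ((⊥ : Ideal B) : Set B) S := by
    rw [Set.disjoint_left]
    rintro b hb hbS
    rw [SetLike.mem_coe, Ideal.mem_bot] at hb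
    subst hb
    exact h0 hbS
  obtain ⟨q, hq, -, hqS⟩ := Ideal.exists_le_prime_disjoint ⊥ S hdisj
  have := hq
  let K := FractionRing (B ⧸ q)
  let φ : B →+* K := (algebraMap (B ⧸ q) K).comp (Ideal.Quotient.mk q)
  have hker : ∀ b, φ b = 0 → b ∈ q := by
    intro b hb
    have h1 : algebraMap (B ⧸ q) K (Ideal.Quotient.mk q b) = algebraMap (B ⧸ q) K 0 := by
      rw [map_zero]
      exact hb
    exact Ideal.Quotient.eq_zero_iff_mem.mp (IsFractionRing.injective (B ⧸ q) K h1)
  let f : A →+* K := φ.comp (algebraMap A B)
  have hnot : φ x ∉ (integralClosure (Subring.closure (Set.range f)) K).toSubring := by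
    intro hmem
    have hcl : Subring.closure (Set.range f) = f.range := by
      rw [← RingHom.coe_range, Subring.closure_eq]
    rw [hcl] at hmem
    obtain ⟨P, hPm, hP⟩ := hmem
    obtain ⟨Q, hQmap, -, hQm⟩ := lifts_and_degree_eq_and_monic
      (mem_lifts_of_surjective f.rangeRestrict_surjective P) hPm
    have h2 : φ (aeval x Q) = 0 := by
      rw [aeval_def, hom_eval₂]
      have h3 : φ.comp (algebraMap A B) = (algebraMap f.range K).comp f.rangeRestrict := by
        ext a
        rfl
      rw [h3, ← eval₂_map, hQmap]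
      exact hP
    exact Set.disjoint_left.mp hqS (hker _ h2) ⟨Q, hQm, rfl⟩
  rw [← iInf_valuationSubring_superset, Subring.mem_iInf] at hnot
  push Not at hnot
  obtain ⟨⟨V, hV⟩, hxV⟩ := hnot
  exact ⟨K, inferInstance, V, φ, fun a => hV ⟨a, rfl⟩, hxV⟩

/-- Let A → B be any homomorphism of commutative rings. An element x of B is integral over A if and only
if for every field K, every valuation subring R of K and every ring homomorphism φ : B → K which
sends the image of A into R, the element φ(x) lies in R. In other words the integral closure of A in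
B is the intersection of the subrings R ×_K B taken over all commutative squares A → R ⊆ K ← B with
R a valuation ring of the field K. -/
theorem result {A B : Type u} [CommRing A]
    [CommRing B] [Algebra A B] (x : B) :
    x ∈ integralClosure A B ↔
      ∀ (K : Type u) [Field K] (R : ValuationSubring K) (φ : B →+* K),
        (∀ a : A, φ (algebraMap A B a) ∈ R) → φ x ∈ R := by
  constructor
  · intro hx K _ R φ hφ
    exact forward x hx K R φ hφ
  · intro h
    by_contra hx
    obtain ⟨K, hK, R, φ, hφ, hxR⟩ := backward (A := A) x hx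
    exact hxR (@h K hK R φ hφ)

end Groth.Agent.S19333
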