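import Groth.Statements.S19339
import Mathlib
import Groth.Agent.S1353
import Groth.Agent.Lib.Helper15.QFCover

set_option autoImplicit false
universe u
open CategoryTheory CategoryTheory.Limits AlgebraicGeometry TopologicalSpace
open ModPair

namespace Groth.Agent.S19339

theorem local_piece {W X : Scheme.{u}} (w : W ⟶ X) [Flat w] [LocallyOfFinitePresentation w]
    (y : W) :
    ∃ (U V : Scheme.{u}) (u : U ⟶ X) (v : V ⟶ U) (r : V ⟶ W), Etale u ∧
      (∃ p : U, u p = w y ∧ IsIso (u.residueFieldMap p)) ∧ IsFinite v ∧ Flat v ∧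
      Surjective v ∧ r ≫ w = v ≫ u := by
  obtain ⟨Z, k, hZ, hfl, hfp, hqf, ⟨z, hz⟩⟩ :=
    Groth.Agent.Lib.Helper15.QFCover.exists_affine_qf_flat_over w y
  have := hfl
  have := hfp
  have := hqf
  set f := k ≫ w with hf
  have hqfz : f.QuasiFiniteAt z := f.quasiFiniteAt z
  obtain ⟨U, e, u, ⟨het, heu, hres⟩, V, v, hvV, hfin, hvu, -, -, -⟩ :=
    Groth.Agent.S1353.result f z hqfz
  have := het
  have := hfin
  set π₀ := V.ι ≫ pullback.snd f e with hπ₀
  have : Flat π₀ := by rw [hπ₀]; infer_instance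
  have : LocallyOfFinitePresentation π₀ := by rw [hπ₀]; infer_instance
  have hopen : IsOpen (Set.range π₀) := π₀.isOpenMap.isOpen_range
  let O : U.Opens := ⟨Set.range π₀, hopen⟩
  have hrange : Set.range π₀ ⊆ Set.range O.ι := by
    rw [Scheme.Opens.range_ι]; exact subset_rfl
  let π : (V : Scheme.{u}) ⟶ (O : Scheme.{u}) := IsOpenImmersion.lift O.ι π₀ hrange
  have hπ : π ≫ O.ι = π₀ := IsOpenImmersion.lift_fac _ _ _
  have sq : IsPullback (𝟙 (V : Scheme.{u})) π π₀ O.ι :=
    IsPullback.of_horiz_isIso_mono ⟨by rw [Category.id_comp, hπ]⟩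
  have huO : u ∈ O := ⟨⟨v, hvV⟩, by rw [hπ₀, Scheme.Hom.comp_apply]; exact hvu⟩
  refine ⟨O, V, O.ι ≫ e, π, V.ι ≫ pullback.fst f e ≫ k, inferInstance, ⟨⟨u, huO⟩, ?_, ?_⟩,
    ?_, ?_, ?_, ?_⟩
  · rw [Scheme.Hom.comp_apply]
    change e u = w y
    exact heu.trans hz
  · rw [Scheme.residueFieldMap_comp]
    have h1 : IsIso (e.residueFieldMap (O.ι ⟨u, huO⟩)) := by
      change IsIso (e.residueFieldMap u)
      exact (ConcreteCategory.isIso_iff_bijective _).mpr hres
    have h2 : IsIso (O.ι.residueFieldMap ⟨u, huO⟩) := inferInstance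
    exact @IsIso.comp_isIso _ _ _ _ _ _ _ h1 h2
  · exact MorphismProperty.of_isPullback (P := @IsFinite) sq hfin
  · exact MorphismProperty.of_isPullback (P := @Flat) sq inferInstance
  · constructor
    intro p
    obtain ⟨q, hq⟩ := p.2
    refine ⟨q, ?_⟩
    apply O.ι.isOpenEmbedding.injective
    rw [← Scheme.Hom.comp_apply, hπ]
    exact hq
  · simp only [Category.assoc]
    rw [← hf, pullback.condition, ← Category.assoc V.ι, ← hπ₀, ← hπ]
    simp only [Category.assoc]

/-- Let X be a scheme and (w_j : W_j ⟶ X) an fppf covering, i.e. a jointly surjective family of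
morphisms each of which is flat and of finite presentation (locally of finite presentation,
quasi-compact and quasi-separated). Then it is refined by a family of composites V_k ⟶ U_k ⟶ X in
which the u_k : U_k ⟶ X are étale morphisms such that every point of X is the image of a point of
some U_k with trivial residue field extension, and the v_k : V_k ⟶ U_k are finite, flat and
surjective: each composite v_k ≫ u_k factors through some w_j. (The covering condition on the family
(u_k) is stated here pointwise, every point lifting to some U_k with the same residue field; a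
Nisnevich covering in the stronger sense with members of finite presentation and a finite splitting
stratification is not asserted.) -/
theorem result {X : Scheme.{u}}
    {ι : Type u} (W : ι → Scheme.{u}) (w : ∀ j, W j ⟶ X)
    (hw : Presieve.ofArrows W w ∈
      Scheme.precoverage (@Flat ⊓ @LocallyOfFinitePresentation ⊓ @QuasiCompact ⊓ @QuasiSeparated) X) :
    ∃ (κ : Type u) (U V : κ → Scheme.{u}) (u : ∀ k, U k ⟶ X) (v : ∀ k, V k ⟶ U k),
      (∀ k, Etale (u k)) ∧
        (∀ x : X, ∃ (k : κ) (y : U k), (u k).base y = x ∧ IsIso ((u k).residueFieldMap y)) ∧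
        (∀ k, IsFinite (v k) ∧ Flat (v k) ∧ Surjective (v k)) ∧
        ∀ k, ∃ (j : ι) (r : V k ⟶ W j), r ≫ w j = v k ≫ u k := by
  rw [Scheme.ofArrows_mem_precoverage_iff] at hw
  obtain ⟨hsurj, hP⟩ := hw
  have key : ∀ x : X, ∃ (U V : Scheme.{u}) (u : U ⟶ X) (v : V ⟶ U), Etale u ∧
      (∃ p : U, u p = x ∧ IsIso (u.residueFieldMap p)) ∧ IsFinite v ∧ Flat v ∧
      Surjective v ∧ ∃ (j : ι) (r : V ⟶ W j), r ≫ w j = v ≫ u := by
    intro x
    obtain ⟨j, y, hy⟩ := hsurj x
    have hfl : Flat (w j) := (hP j).1.1.1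
    have hfp : LocallyOfFinitePresentation (w j) := (hP j).1.1.2
    obtain ⟨U, V, u, v, r, h1, ⟨p, hp, hp'⟩, h3, h4, h5, h6⟩ := local_piece (w j) y
    exact ⟨U, V, u, v, h1, ⟨p, hp.trans hy, hp'⟩, h3, h4, h5, j, r, h6⟩
  choose U V u v h1 h2 h3 h4 h5 h6 using key
  refine ⟨X, U, V, u, v, h1, ?_, fun k => ⟨h3 k, h4 k, h5 k⟩, h6⟩
  intro x
  obtain ⟨p, hp, hp'⟩ := h2 x
  exact ⟨x, p, hp, hp'⟩

end Groth.Agent.S19339
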