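import Groth.Statements.S19340
-- import your own Groth.Agent.* helpers here

set_option autoImplicit false
universe v v' u u'
open CategoryTheory
open ModPair

namespace Groth.Agent.S19340

/-- Let C be a category, S a class of morphisms of C containing the identities, closed under composition
and admitting a right calculus of fractions, and L : C ⥤ D a localization functor for S. Then for
every object X of C the comma category of L under X, whose objects are pairs (Y, L(X) ⟶ L(Y)) and
whose morphisms are morphisms Y ⟶ Y' of C compatible with the structure maps, is cofiltered. The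
published statement calls this category filtered; its proof verifies, and this row states,
cofilteredness. -/
theorem result {C : Type u}
    [Category.{v} C] {D : Type u'} [Category.{v'} D] (S : MorphismProperty C)
    [S.HasRightCalculusOfFractions] (L : C ⥤ D) [L.IsLocalization S] (X : C) :
    IsCofiltered (StructuredArrow (L.obj X) L) := by
  have hL : S.IsInvertedBy L := Localization.inverts L S
  have key : ∀ {Y : C} (α : L.obj X ⟶ L.obj Y), ∃ (X' : C) (s : X' ⟶ X) (_ : S s) (f : X' ⟶ Y),
      L.map s ≫ α = L.map f := by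
    intro Y α
    obtain ⟨φ, hφ⟩ := Localization.exists_rightFraction L S α
    refine ⟨φ.X', φ.s, φ.hs, φ.f, ?_⟩
    rw [hφ]
    exact φ.map_s_comp_map L hL
  refine { cone_objs := ?_, cone_maps := ?_, nonempty := ⟨StructuredArrow.mk (𝟙 (L.obj X))⟩ }
  · intro A₁ A₂
    obtain ⟨X₁, s₁, hs₁, f₁, h₁⟩ := key A₁.hom
    obtain ⟨X₂, s₂, hs₂, f₂, h₂⟩ := key A₂.hom
    obtain ⟨ψ, hψ⟩ := MorphismProperty.HasRightCalculusOfFractions.exists_rightFraction
      (W := S) (X := X₁) (Y := X₂) ⟨s₁, s₂, hs₂⟩
    have hψ' : ψ.s ≫ s₁ = ψ.f ≫ s₂ := hψ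
    have hs₃ : S (ψ.s ≫ s₁) := S.comp_mem _ _ ψ.hs hs₁
    have e1 : L.map (ψ.s ≫ f₁) = L.map (ψ.s ≫ s₁) ≫ A₁.hom := by
      rw [L.map_comp, L.map_comp, Category.assoc, h₁]
    have e2 : L.map (ψ.f ≫ f₂) = L.map (ψ.s ≫ s₁) ≫ A₂.hom := by
      rw [hψ', L.map_comp, L.map_comp, Category.assoc, h₂]
    have : IsIso (L.map (ψ.s ≫ s₁)) := hL _ hs₃
    refine ⟨StructuredArrow.mk (Y := ψ.X') (inv (L.map (ψ.s ≫ s₁))),
      StructuredArrow.homMk (ψ.s ≫ f₁) ?_, StructuredArrow.homMk (ψ.f ≫ f₂) ?_, trivial⟩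
    · simp only [StructuredArrow.mk_hom_eq_self]
      rw [IsIso.inv_comp_eq]
      exact e1
    · simp only [StructuredArrow.mk_hom_eq_self]
      rw [IsIso.inv_comp_eq]
      exact e2
  · intro A₁ A₂ u v
    obtain ⟨X₁, s₁, hs₁, f₁, h₁⟩ := key A₁.hom
    have : IsIso (L.map s₁) := hL _ hs₁
    have hu := StructuredArrow.w u
    have hv := StructuredArrow.w v
    have h2 : L.map (f₁ ≫ u.right) = L.map (f₁ ≫ v.right) := by
      rw [L.map_comp, L.map_comp, ← h₁, Category.assoc, Category.assoc, hu, hv]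
    obtain ⟨Z, t, ht, hfac⟩ := (MorphismProperty.map_eq_iff_precomp L S _ _).mp h2
    have hs₃ : S (t ≫ s₁) := S.comp_mem _ _ ht hs₁
    have e : L.map (t ≫ f₁) = L.map (t ≫ s₁) ≫ A₁.hom := by
      rw [L.map_comp, L.map_comp, Category.assoc, h₁]
    have : IsIso (L.map (t ≫ s₁)) := hL _ hs₃
    refine ⟨StructuredArrow.mk (Y := Z) (inv (L.map (t ≫ s₁))),
      StructuredArrow.homMk (t ≫ f₁) ?_, ?_⟩
    · simp only [StructuredArrow.mk_hom_eq_self]
      rw [IsIso.inv_comp_eq]
      exact e
    · ext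
      simp only [StructuredArrow.comp_right, StructuredArrow.homMk_right, Category.assoc]
      exact hfac

end Groth.Agent.S19340
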