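import Groth.Statements.S19341
-- import your own Groth.Agent.* helpers here
import Groth.Agent.S18749

set_option autoImplicit false
universe u
open CategoryTheory CategoryTheory.Limits AlgebraicGeometry TopologicalSpace
open ModPair

namespace Groth.Agent.S19341


open Groth.Agent.S18748 Groth.Agent.S18738 Groth.Agent.Lib.Helper33.AdmOre Groth.Agent.Lib.Helper82
open AlgebraicGeometry.Scheme.IdealSheafData Groth.Agent.S18749

theorem isEffCartier_mul {Y : Scheme.{u}} (A B : Y.IdealSheafData)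
    (hA : BlowUp.IsEffCartierIdeal A) (hB : BlowUp.IsEffCartierIdeal B) :
    BlowUp.IsEffCartierIdeal (A * B) := by
  intro y
  obtain ⟨WA, hyA, hWA⟩ := hA y
  obtain ⟨WB, hyB, hWB⟩ := hB y
  obtain ⟨W, hW, hyW, hWle⟩ := exists_isAffineOpen_mem_and_subset
    (U := WA.1 ⊓ WB.1) (x := y) ⟨hyA, hyB⟩
  have hWA' : W ≤ WA.1 := fun z hz => (hWle hz).1
  have hWB' : W ≤ WB.1 := fun z hz => (hWle hz).2
  obtain ⟨a, ha, hAa⟩ := isPrincipalNZD_of_le A WA ⟨W, hW⟩ hWA' hWA
  obtain ⟨b, hb, hBb⟩ := isPrincipalNZD_of_le B WB ⟨W, hW⟩ hWB' hWB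
  refine ⟨⟨W, hW⟩, hyW, a * b, mul_mem ha hb, ?_⟩
  change A.ideal ⟨W, hW⟩ * B.ideal ⟨W, hW⟩ = _
  rw [hAa, hBb, Ideal.span_singleton_mul_span_singleton]

theorem isEffCartier_comap_of_le {P S : Scheme.{u}} (IS : S.IdealSheafData)
    (hS : BlowUp.IsEffCartierIdeal IS) (h : P ⟶ S) (A : P.IdealSheafData)
    (hA : BlowUp.IsEffCartierIdeal A) (hle : A ≤ IS.comap h) :
    BlowUp.IsEffCartierIdeal (IS.comap h) := by
  intro p
  obtain ⟨WS, hpS, σ, -, hσ⟩ := hS (h p)
  obtain ⟨WA, hpA, hWA⟩ := hA p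
  obtain ⟨W, hW, hpW, hWle⟩ := exists_isAffineOpen_mem_and_subset
    (U := h ⁻¹ᵁ WS.1 ⊓ WA.1) (x := p) ⟨hpS, hpA⟩
  have hW1 : W ≤ h ⁻¹ᵁ WS.1 := fun z hz => (hWle hz).1
  have hW2 : W ≤ WA.1 := fun z hz => (hWle hz).2
  obtain ⟨a, ha, hAa⟩ := isPrincipalNZD_of_le A WA ⟨W, hW⟩ hW2 hWA
  have hC : (IS.comap h).ideal ⟨W, hW⟩ = Ideal.span {(h.appLE WS.1 W hW1).hom σ} := by
    rw [ideal_comap_of_le h IS W hW WS.1 WS.2 hW1]
    change (IS.ideal WS).map _ = _
    rw [hσ, Ideal.map_span, Set.image_singleton]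
  have hmem : a ∈ Ideal.span {(h.appLE WS.1 W hW1).hom σ} := by
    rw [← hC]
    apply hle ⟨W, hW⟩
    rw [hAa]
    exact Ideal.subset_span rfl
  obtain ⟨c, hc⟩ := Ideal.mem_span_singleton'.mp hmem
  refine ⟨⟨W, hW⟩, hpW, (h.appLE WS.1 W hW1).hom σ, ?_, hC⟩
  have : c * (h.appLE WS.1 W hW1).hom σ ∈ nonZeroDivisors Γ(P, W) := hc ▸ ha
  exact (mul_mem_nonZeroDivisors.mp this).2


/-- Let (S, I_S), (X, I_X), (T, I_T) be modulus pairs, i.e. schemes with quasi-coherent ideal sheaves of
effective Cartier divisors, and f : X ⟶ S, g : T ⟶ S morphisms satisfying the modulus conditions I_X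
≤ I_S.comap f and I_T ≤ I_S.comap g. Suppose that the pulled-back ideals I_X.comap pr₁ and I_T.comap
pr₂ on X ×_S T are again ideal sheaves of effective Cartier divisors. Then the pulled-back base
modulus I_S.comap (pr₁ ≫ f) is also the ideal sheaf of an effective Cartier divisor, and the
scheme-theoretic closure of pr₁⁻¹(X°) ∩ pr₂⁻¹(T°) is all of X ×_S T: its closed immersion into X ×_S
T is an isomorphism. Consequently the box product of (X, I_X) and (T, I_T) over (S, I_S) has total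
space X ×_S T with modulus D_X + D_T − D_S. -/
theorem result {X T S : Scheme.{u}}
    (IS : S.IdealSheafData) (IX : X.IdealSheafData) (IT : T.IdealSheafData)
    (hS : BlowUp.IsEffCartierIdeal IS) (hX : BlowUp.IsEffCartierIdeal IX)
    (hT : BlowUp.IsEffCartierIdeal IT) (f : X ⟶ S) (g : T ⟶ S)
    (hf : ModPair.IsAmbient IX IS f) (hg : ModPair.IsAmbient IT IS g)
    (h₁ : BlowUp.IsEffCartierIdeal (IX.comap (pullback.fst f g)))
    (h₂ : BlowUp.IsEffCartierIdeal (IT.comap (pullback.snd f g))) :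
    BlowUp.IsEffCartierIdeal (IS.comap (pullback.fst f g ≫ f)) ∧
      IsIso (ModPair.mprodι f g IX IT) := by
  have hA := h₁
  have hB := h₂
  refine ⟨?_, ?_⟩
  · refine isEffCartier_comap_of_le IS hS _ _ h₁ ?_
    rw [comap_comp]
    exact comap_mono _ hf
  · have hAB := isEffCartier_mul _ _ h₁ h₂
    have heq : ModPair.prodInterior f g IX IT =
        ((IX.comap (pullback.fst f g) * IT.comap (pullback.snd f g)).support.compl :
          (pullback f g).Opens) := by
      unfold ModPair.prodInterior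
      rw [← interior_comap, ← interior_comap]
      ext z
      change (z ∉ (IX.comap (pullback.fst f g)).support ∧
        z ∉ (IT.comap (pullback.snd f g)).support) ↔
        z ∉ (IX.comap (pullback.fst f g) * IT.comap (pullback.snd f g)).support
      rw [support_mul]
      change _ ↔ ¬ (z ∈ (IX.comap (pullback.fst f g)).support ∨
        z ∈ (IT.comap (pullback.snd f g)).support)
      exact not_or.symm
    have hdom : IsSchemeTheoreticallyDominant (ModPair.prodInterior f g IX IT).ι := by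
      rw [heq]
      exact isSchemeTheoreticallyDominant_ι_compl_support _ hAB
    have hcl : IsClosedImmersion (ModPair.mprodι f g IX IT) :=
      inferInstanceAs (IsClosedImmersion (ModPair.prodInterior f g IX IT).ι.ker.subschemeι)
    rw [IsClosedImmersion.isIso_iff_ker_eq_bot]
    change (ModPair.prodInterior f g IX IT).ι.ker.subschemeι.ker = ⊥
    rw [ker_subschemeι]
    exact Scheme.Hom.ker_eq_bot _

end Groth.Agent.S19341
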