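import Groth.Statements.S19349
import Groth.Agent.Lib.Helper2.FittPullback
import Groth.Agent.Lib.Helper21.StrictTransQCoh

set_option autoImplicit false
universe u
open RigCh

namespace Groth.Agent.S19349

open AlgebraicGeometry CategoryTheory in
/-- Let X be a separated scheme of finite type over a field k, I a quasi-coherent ideal sheaf on X, b :
X' → X a blowing up of X in I and F a coherent O_X-module. Then any strict transform G of F along b
(an epimorphism from the pullback of F onto G whose kernel consists, affine-locally, of the sections
annihilated by a power of the exceptional ideal) is a coherent module on X': quasi-coherent of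
finite type, X' being again of finite type over k. (The source assumes k of positive characteristic;
this plays no role here.) -/
theorem result (k : Type u) [Field k]
    (X : Scheme.{u}) (f : X ⟶ Spec (CommRingCat.of k)) [IsSeparated f] [QuasiCompact f] [LocallyOfFiniteType f]
    (I : X.IdealSheafData) {X' : Scheme.{u}} (b : X' ⟶ X) (hb : BlowUp.IsBlowUp b I)
    (F : X.Modules) (hF : Coh.IsCoh F) (G : X'.Modules) (π : (Scheme.Modules.pullback b).obj F ⟶ G)
    (hG : BlowUp.IsStrictTransform b I F G π) : Coh.IsCoh G := by
  haveI hFq : F.IsQuasicoherent := hF.1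
  haveI hFt : SheafOfModules.IsFiniteType (R := X.ringCatSheaf) F := hF.2
  have hfinF : ∀ V : X.affineOpens, Module.Finite Γ(X, V.1) Γ(F, V.1) :=
    fun V => Groth.Agent.Lib.Helper2.FinTypeAff.finite_sections F V.2
  have hfinP := Groth.Agent.Lib.Helper2.FittSheaf.finite_sections_pullback b F hfinF
  have hE := hb.1
  have hGq : G.IsQuasicoherent :=
    Groth.Agent.Lib.Helper21.StrictTransQCoh.isQuasicoherent b _ F G π hE hG
  refine ⟨hGq, ?_⟩
  apply Groth.Agent.Lib.Lead.CohAff.isFiniteType_of_finite_sections
  intro x
  obtain ⟨_, ⟨V, hV, rfl⟩, hxV, -⟩ :=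
    X'.isBasis_affineOpens.exists_subset_of_mem_open (Set.mem_univ x) isOpen_univ
  haveI := hfinP ⟨V, hV⟩
  exact ⟨V, hV, hxV, Groth.Agent.Lib.Helper21.StrictTransQCoh.finite_sections b _ F G π hE hG hV⟩

end Groth.Agent.S19349
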