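import Groth.Statements.S19350
import Groth.Agent.Lib.Helper2.RankSections
import Groth.Agent.Lib.Helper2.FinLocFreeAff
import Groth.Agent.Lib.Helper7.FinLocFreePullback
import Groth.Agent.Lib.Helper48.Conormal1
import Groth.Agent.Lib.Helper21.StrictTransFlat

set_option autoImplicit false
universe u
open RigCh

namespace Groth.Agent.S19350

open AlgebraicGeometry CategoryTheory in
/-- Let X be a separated scheme of finite type over a field k, I a quasi-coherent ideal sheaf on X, b :
X' → X a blowing up of X in I and F a finite locally free O_X-module. Then for any strict transform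
G of F along b (an epimorphism π from the pullback of F onto G whose kernel consists,
affine-locally, of the sections annihilated by a power of the exceptional ideal), π is an
isomorphism and G is finite locally free. (The published statement asserts only that the strict
transform is locally free. The source assumes k of positive characteristic, which plays no role
here.) -/
theorem result (k : Type u) [Field k]
    (X : Scheme.{u}) (f : X ⟶ Spec (CommRingCat.of k)) [IsSeparated f] [QuasiCompact f] [LocallyOfFiniteType f]
    (I : X.IdealSheafData) {X' : Scheme.{u}} (b : X' ⟶ X) (hb : BlowUp.IsBlowUp b I)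
    (F : X.Modules) (hF : FlatMod.IsFinLocFree F) (G : X'.Modules) (π : (Scheme.Modules.pullback b).obj F ⟶ G)
    (hG : BlowUp.IsStrictTransform b I F G π) : IsIso π ∧ FlatMod.IsFinLocFree G := by
  haveI hFq : F.IsQuasicoherent :=
    Groth.Agent.Lib.Helper2.RankSections.isQuasicoherent_of_isFinLocFree F hF
  have hflat : FlatMod.IsFlat F := Groth.Agent.Lib.Helper2.FinLocFreeAff.isFlat_of_isFinLocFree F hF
  have hid := Groth.Agent.Lib.Helper21.StrictTransFlat.isStrictTransform_id I b hb.1 F
    (fun s _ => hflat s)
  haveI : Epi π := hG.1
  haveI : Mono π := by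
    apply Groth.Agent.Lib.Helper48.Conormal.mono_of_basis π _ X'.isBasis_affineOpens
    rintro V hV
    rw [injective_iff_map_eq_zero]
    intro m hm
    have h1 := (hG.2 ⟨V, hV⟩ m).1 hm
    exact (hid.2 ⟨V, hV⟩ m).2 h1
  have hiso : IsIso π := isIso_of_mono_of_epi π
  refine ⟨hiso, ?_⟩
  exact Groth.Agent.Lib.Helper7.FinLocFree.isFinLocFree_of_iso (asIso π)
    (Groth.Agent.Lib.Helper7.FinLocFree.isFinLocFree_pullback b hF)

end Groth.Agent.S19350
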