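import Groth.Statements.S1936
import Groth.Agent.Lib.Helper73.DimFormula.CMFlat.GrpdCM

set_option autoImplicit false
universe u
open CategoryTheory CategoryTheory.Limits AlgebraicGeometry
open Grpd

namespace Groth.Agent.S1936

/-- Let (U, R, s, t, c) be a groupoid scheme over S with s, t flat and locally of finite presentation.
There is an open U' ⊆ U such that t⁻¹(U') is exactly the set of points of R at which s is
Cohen–Macaulay, s⁻¹(U') is exactly the set of points at which t is Cohen–Macaulay, and both t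
restricted to s⁻¹(U') and s restricted to t⁻¹(U') are surjective onto U. (Part (5), that the
restriction of R to U' is a groupoid with Cohen–Macaulay s', t', then follows and is not restated.)
Cohen–Macaulay at a point: flat there with Cohen–Macaulay fibre local ring (Grpd.IsCMAt). (A
groupoid scheme carries U, R, s, t, c, e, i over S with the groupoid axioms on T-points; 'finite
locally free' is finite, flat and locally of finite presentation; C ⊂ Γ(U) is the ring of functions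
a with s♯(a) = t♯(a) and M = Spec C.) -/
theorem result (S : Scheme.{u}) (G : Grpd.GroupoidScheme S) [Flat G.s] [LocallyOfFinitePresentation G.s] [Flat G.t] [LocallyOfFinitePresentation G.t] : ∃ U' : G.U.Opens, (G.t ⁻¹ᵁ U' : Set G.R) = {r | Grpd.IsCMAt G.s r} ∧ (G.s ⁻¹ᵁ U' : Set G.R) = {r | Grpd.IsCMAt G.t r} ∧ ⇑G.t '' (G.s ⁻¹ᵁ U' : Set G.R) = Set.univ ∧ ⇑G.s '' (G.t ⁻¹ᵁ U' : Set G.R) = Set.univ := by
  open Groth.Agent.Lib.Helper73 in
  have hopen : IsOpen {r : G.R | MoreMor.IsCMAt G.s r} := isOpen_setOf_isCMAt_fp G.s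
  let U' : G.U.Opens := ⟨G.e ⁻¹' {r : G.R | MoreMor.IsCMAt G.s r}, hopen.preimage G.e.continuous⟩
  have hU' : ∀ u : G.U, u ∈ U' ↔ MoreMor.IsCMAt G.s (G.e u) := fun u => Iff.rfl
  have h1 : (G.t ⁻¹ᵁ U' : Set G.R) = {r | Grpd.IsCMAt G.s r} := by
    ext r
    show G.t r ∈ U' ↔ Grpd.IsCMAt G.s r
    rw [hU', grpd_isCMAt_iff, ← isCMAt_s_iff]
  have h2 : (G.s ⁻¹ᵁ U' : Set G.R) = {r | Grpd.IsCMAt G.t r} := by
    ext r
    show G.s r ∈ U' ↔ Grpd.IsCMAt G.t r
    rw [hU', grpd_isCMAt_iff, ← isCMAt_t_iff]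
  refine ⟨U', h1, h2, ?_, ?_⟩
  · rw [h2, Set.eq_univ_iff_forall]
    intro u
    obtain ⟨ξ, hξ, hCM⟩ := exists_isCMAt_fiber G.t (G.e u)
    refine ⟨ξ, (grpd_isCMAt_iff _ _).mpr hCM, ?_⟩
    rw [hξ, ← Scheme.Hom.comp_apply, G.e_t]; rfl
  · rw [h1, Set.eq_univ_iff_forall]
    intro u
    obtain ⟨ξ, hξ, hCM⟩ := exists_isCMAt_fiber G.s (G.e u)
    refine ⟨ξ, (grpd_isCMAt_iff _ _).mpr hCM, ?_⟩
    rw [hξ, ← Scheme.Hom.comp_apply, G.e_s]; rfl

end Groth.Agent.S1936
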