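import Groth.Statements.S19374
-- import your own Groth.Agent.* helpers here

set_option autoImplicit false
universe u
open CategoryTheory Opposite Instab
open Instab Instab.Fan

namespace Groth.Agent.S19374

lemma realMap_id (n : ICone) (v : Fin n.dim → ℝ) : (𝟙 n : n ⟶ n).realMap v = v := by
  funext j
  change ∑ i, (((LinearMap.id : (Fin n.dim → ℤ) →ₗ[ℤ] (Fin n.dim → ℤ)) (Pi.single i 1) j : ℤ) : ℝ)
    * v i = v j
  simp only [LinearMap.id_apply]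
  rw [Finset.sum_eq_single j]
  · simp
  · intro i _ hij
    simp [Pi.single_apply, hij.symm]
  · intro h
    exact absurd (Finset.mem_univ j) h

lemma mk_smul {F : Fan.{u}} {n : ICone} (ξ : F.obj (op n)) (v w : Fan.Orth n) (c : ℝ) (hc : 0 < c)
    (h : w.1 = c • v.1) : Fan.P.mk ξ v = Fan.P.mk ξ w := by
  have h1 : Fan.Rel F ⟨⟨n, F.map (𝟙 n : n ⟶ n).op ξ⟩, v⟩ ⟨⟨n, ξ⟩, w⟩ :=
    Fan.Rel.glue (𝟙 n) ξ v w c hc (by rw [realMap_id]; exact h)
  have h2 : F.map (𝟙 n : n ⟶ n).op ξ = ξ := by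
    rw [op_id, F.map_id]
    rfl
  rw [h2] at h1
  exact Quot.sound h1

/-- Let F be a formal fan and U ⊆ P F. Then U is locally convex in the simplex-wise sense — for every
rational simplex, a ray lying strictly between two rays that map into U also maps into U — if and
only if, for every n-cone ξ of F, the set of nonzero nonnegative vectors v of ℝ^n whose point of the
rational simplex of ξ lies in U is a convex subset of ℝ^n (convexity of the preimage of U in each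
punctured cone of the affine realization). -/
theorem result (F : Fan.{u}) (U : Set (Fan.P F)) :
    Fan.IsLocallyConvex U ↔
      ∀ (n : ICone) (ξ : F.obj (op n)),
        Convex ℝ {v : Fin n.dim → ℝ | ∃ h : (∀ i, 0 ≤ v i) ∧ v ≠ 0, Fan.P.mk ξ (⟨v, h⟩ : Fan.Orth n) ∈ U} := by
  constructor
  · intro hU n ξ
    intro v₀ hv₀ v₂ hv₂ a b ha hb hab
    obtain ⟨h₀, hm₀⟩ := hv₀
    obtain ⟨h₂, hm₂⟩ := hv₂
    rcases ha.eq_or_lt with rfl | ha'
    · rw [zero_add] at hab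
      subst hab
      simpa using (⟨h₂, hm₂⟩ : ∃ h : (∀ i, 0 ≤ v₂ i) ∧ v₂ ≠ 0, Fan.P.mk ξ (⟨v₂, h⟩ : Fan.Orth n) ∈ U)
    rcases hb.eq_or_lt with rfl | hb'
    · rw [add_zero] at hab
      subst hab
      simpa using (⟨h₀, hm₀⟩ : ∃ h : (∀ i, 0 ≤ v₀ i) ∧ v₀ ≠ 0, Fan.P.mk ξ (⟨v₀, h⟩ : Fan.Orth n) ∈ U)
    have hnn : ∀ i, 0 ≤ (a • v₀ + b • v₂) i := fun i => by
      simp only [Pi.add_apply, Pi.smul_apply, smul_eq_mul]
      exact add_nonneg (mul_nonneg ha (h₀.1 i)) (mul_nonneg hb (h₂.1 i))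
    have hne : a • v₀ + b • v₂ ≠ 0 := by
      intro h
      apply h₀.2
      funext i
      have hi := congr_fun h i
      simp only [Pi.add_apply, Pi.smul_apply, smul_eq_mul, Pi.zero_apply] at hi
      have h1 : a * v₀ i = 0 := by
        have := mul_nonneg ha (h₀.1 i)
        have := mul_nonneg hb (h₂.1 i)
        linarith
      rcases mul_eq_zero.mp h1 with h2 | h2
      · exact absurd h2 ha'.ne'
      · exact h2
    refine ⟨⟨hnn, hne⟩, ?_⟩
    exact hU n ξ ⟨v₀, h₀⟩ ⟨a • v₀ + b • v₂, hnn, hne⟩ ⟨v₂, h₂⟩ hm₀ hm₂ ⟨a, b, ha', hb', rfl⟩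
  · intro hC n ξ v₀ v₁ v₂ hm₀ hm₂
    rintro ⟨a, b, ha, hb, hab⟩
    have hab0 : 0 < a + b := add_pos ha hb
    have h0 : v₀.1 ∈ {v : Fin n.dim → ℝ | ∃ h : (∀ i, 0 ≤ v i) ∧ v ≠ 0,
        Fan.P.mk ξ (⟨v, h⟩ : Fan.Orth n) ∈ U} := ⟨v₀.2, hm₀⟩
    have h2 : v₂.1 ∈ {v : Fin n.dim → ℝ | ∃ h : (∀ i, 0 ≤ v i) ∧ v ≠ 0,
        Fan.P.mk ξ (⟨v, h⟩ : Fan.Orth n) ∈ U} := ⟨v₂.2, hm₂⟩
    have := hC n ξ h0 h2 (div_nonneg ha.le hab0.le) (div_nonneg hb.le hab0.le)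
      (by field_simp)
    obtain ⟨hw, hwU⟩ := this
    have heq : Fan.P.mk ξ (⟨_, hw⟩ : Fan.Orth n) = Fan.P.mk ξ v₁ := by
      apply mk_smul ξ _ _ (a + b) hab0
      rw [hab]
      change a • v₀.1 + b • v₂.1 = (a + b) • ((a / (a + b)) • v₀.1 + (b / (a + b)) • v₂.1)
      rw [smul_add, smul_smul, smul_smul]
      congr 2 <;> field_simp
    rw [← heq]
    exact hwU

end Groth.Agent.S19374
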