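import Groth.Statements.S19379
-- import your own Groth.Agent.* helpers here
import Mathlib
import Groth.Agent.S7134
import Groth.Agent.S2363
import Groth.Agent.Lib.Helper6.LocalFlat3
import Groth.Agent.Lib.Helper6.FlatRegular
import Groth.Agent.Lib.Helper56.FibreCM

set_option autoImplicit false
universe u
open CAlg

namespace Groth.Agent.S19379

open IsLocalRing TensorProduct Groth.Agent.S7134

theorem isDomain_fib {A B : Type u} [CommRing A] [CommRing B] [IsLocalRing A] [IsLocalRing B]
    [IsNoetherianRing B] [Algebra A B] [IsLocalHom (algebraMap A B)]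
    [Algebra.FormallySmooth A B] : IsDomain (Fib A B) := by
  have hadic : CAlgX.IsAdicFormallySmooth A B (maximalIdeal B) :=
    fun C _ _ J hJ ψ _ => Algebra.FormallySmooth.exists_lift J ⟨2, hJ⟩ ψ
  have hle : (maximalIdeal A).map (algebraMap A B) ≤ maximalIdeal B :=
    IsLocalRing.map_maximalIdeal_le (algebraMap A B)
  have h0 := isAdicFormallySmooth_quotient (maximalIdeal A) (maximalIdeal B) hadic
  have hnt : Nontrivial (Fib A B) := Ideal.Quotient.nontrivial_iff.mpr
    (fun h => (maximalIdeal.isMaximal B).ne_top (top_le_iff.mp (h ▸ hle)))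
  have hloc : IsLocalRing (Fib A B) :=
    IsLocalRing.of_surjective' (Ideal.Quotient.mk ((maximalIdeal A).map (algebraMap A B)))
      Ideal.Quotient.mk_surjective
  have hmax : (maximalIdeal B).map (Ideal.Quotient.mk ((maximalIdeal A).map (algebraMap A B))) =
      maximalIdeal (Fib A B) :=
    map_maximalIdeal_of_surjective _ Ideal.Quotient.mk_surjective
  let : Algebra (ResidueField A) (Fib A B) := fibAlgebra A B
  have h1 : CAlgX.IsAdicFormallySmooth (ResidueField A) (Fib A B) (maximalIdeal (Fib A B)) := by
    rw [← hmax]
    exact h0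
  have hreg : IsRegularLocalRing (Fib A B) :=
    (Groth.Agent.Lib.Helper49.FSRegular.isRegularLocalRing_of_isAdicFormallySmooth_field h1).1
  exact Groth.Agent.Lib.Helper76.isDomain_of_isRegularLocalRing _

theorem flat_of_formallySmooth_local {A B : Type u} [CommRing A] [CommRing B] [IsLocalRing A]
    [IsLocalRing B] [IsNoetherianRing A] [IsNoetherianRing B] [Algebra A B]
    [IsLocalHom (algebraMap A B)] [Algebra.FormallySmooth A B] : Module.Flat A B := by
  have hdom : IsDomain (Fib A B) := isDomain_fib
  let L := FractionRing (Fib A B)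
  let : Algebra (ResidueField A) (Fib A B) := fibAlgebra A B
  let : Algebra (ResidueField A) L :=
    ((algebraMap (Fib A B) L).comp (algebraMap (ResidueField A) (Fib A B))).toAlgebra
  obtain ⟨S, _, _, hN, hloc, hlh, hflat, e, he⟩ := Groth.Agent.S2363.result (A := A) L
  let Shat := AdicCompletion (maximalIdeal S) S
  have hflat' : Module.Flat A Shat := Module.Flat.trans A S Shat
  have hlocA : IsLocalHom (algebraMap A Shat) := by
    rw [IsScalarTower.algebraMap_eq A S Shat]
    exact RingHom.isLocalHom_comp _ _
  have hmS : (maximalIdeal A).map (algebraMap A S) ≤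
      (maximalIdeal Shat).comap (algebraMap S Shat) := by
    rw [Ideal.map_le_iff_le_comap]
    intro a ha
    rw [Ideal.mem_comap, Ideal.mem_comap, ← IsScalarTower.algebraMap_apply]
    intro hu
    exact ha (hlocA.map_nonunit a hu)
  let r1 : B →+* Fib A B := Ideal.Quotient.mk _
  let r2 : Fib A B →+* L := algebraMap _ _
  let r3 : L →+* S ⧸ (maximalIdeal A).map (algebraMap A S) := e.symm.toRingHom
  let r4 : S ⧸ (maximalIdeal A).map (algebraMap A S) →+* Shat ⧸ maximalIdeal Shat :=
    Ideal.quotientMap (maximalIdeal Shat) (algebraMap S Shat) hmS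
  let f₀ : B →+* Shat ⧸ maximalIdeal Shat := r4.comp (r3.comp (r2.comp r1))
  have hr43 : Function.Injective (r4.comp r3) := RingHom.injective _
  have hr2 : Function.Injective r2 := IsFractionRing.injective (Fib A B) L
  let f : B →ₐ[A] Shat ⧸ maximalIdeal Shat :=
    { f₀ with
      commutes' := fun a => by
        change r4 (e.symm (algebraMap (Fib A B) L (Ideal.Quotient.mk _ (algebraMap A B a)))) = _
        have h1 : algebraMap (Fib A B) L (Ideal.Quotient.mk _ (algebraMap A B a)) =
            algebraMap (ResidueField A) L (residue A a) := rfl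
        rw [h1, ← he a, RingEquiv.symm_apply_apply]
        change Ideal.Quotient.mk _ (algebraMap S Shat (algebraMap A S a)) = _
        rw [← IsScalarTower.algebraMap_apply]
        rfl }
  obtain ⟨g, hg⟩ := Algebra.FormallySmooth.exists_mkₐ_comp_eq_of_isAdicComplete f
  have hgf : ∀ b, Ideal.Quotient.mk (maximalIdeal Shat) (g b) = f₀ b :=
    fun b => DFunLike.congr_fun hg b
  let u : B →ₗ[A] Shat := g.toLinearMap
  have hu : Function.Injective (LinearMap.lTensor (A ⧸ maximalIdeal A) u) := by
    rw [injective_iff_map_eq_zero]
    intro z hz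
    obtain ⟨x, rfl⟩ := TensorProduct.mk_surjective A B (A ⧸ maximalIdeal A)
      Ideal.Quotient.mk_surjective z
    have h1 : TensorProduct.mk A (A ⧸ maximalIdeal A) Shat 1 (u x) = 0 := hz
    rw [← LinearMap.mem_ker, LinearMap.ker_tensorProductMk] at h1
    have h2 : g x ∈ maximalIdeal Shat := by
      refine Submodule.smul_induction_on h1 ?_ ?_
      · intro a ha s _
        rw [Algebra.smul_def]
        refine Ideal.mul_mem_right _ _ ?_
        intro hu
        exact ha (hlocA.map_nonunit a hu)
      · intro s t hs ht
        exact Ideal.add_mem _ hs ht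
    have h3 : f₀ x = 0 := by
      rw [← hgf, Ideal.Quotient.eq_zero_iff_mem]
      exact h2
    have h4 : r1 x = 0 := by
      have : (r4.comp r3) (r2 (r1 x)) = (r4.comp r3) 0 := by
        rw [map_zero]
        exact h3
      have h5 := hr43 this
      exact hr2 (h5.trans (map_zero r2).symm)
    have h6 : x ∈ (maximalIdeal A • ⊤ : Submodule A B) := by
      have h7 : x ∈ (maximalIdeal A).map (algebraMap A B) := Ideal.Quotient.eq_zero_iff_mem.mp h4
      rw [Ideal.smul_top_eq_map]
      exact h7
    rw [← LinearMap.ker_tensorProductMk, LinearMap.mem_ker] at h6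
    exact h6
  have hinj : Function.Injective u := Groth.Agent.Lib.Helper6.LocalFlat.injective_of_residue B u hu
  have hcok : Module.Flat A (Shat ⧸ LinearMap.range u) :=
    Groth.Agent.Lib.Helper6.LocalFlat.flat_coker_of_residue B u hu
  exact Groth.Agent.Lib.Helper6.FlatRegular.flat_of_exact_of_flat u (LinearMap.range u).mkQ hinj
    (LinearMap.exact_map_mkQ_range u) (Submodule.mkQ_surjective _)

theorem flat_of_formallySmooth (A B : Type u) [CommRing A] [CommRing B] [Algebra A B]
    [IsNoetherianRing A] [IsNoetherianRing B] [Algebra.FormallySmooth A B] : Module.Flat A B := by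
  have h : (algebraMap A B).Flat := by
    apply RingHom.Flat.ofLocalizationPrime
    intro P hP
    let p := P.comap (algebraMap A B)
    let _ : Algebra (Localization.AtPrime p) (Localization.AtPrime P) :=
      (Localization.localRingHom p P (algebraMap A B) rfl).toAlgebra
    have : IsScalarTower A (Localization.AtPrime p) (Localization.AtPrime P) :=
      .of_algebraMap_eq fun x => (Localization.localRingHom_to_map _ _ _ rfl x).symm
    have : IsLocalHom (algebraMap (Localization.AtPrime p) (Localization.AtPrime P)) :=
      Localization.isLocalHom_localRingHom _ _ _ rfl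
    have : Algebra.FormallySmooth (Localization.AtPrime p) (Localization.AtPrime P) :=
      Algebra.FormallySmooth.localization_base p.primeCompl
    exact flat_of_formallySmooth_local
  rw [RingHom.flat_algebraMap_iff] at h
  exact h

theorem isGeometricallyRegular_of_formallySmooth {κ F : Type u} [Field κ] [CommRing F]
    [Algebra κ F] [IsNoetherianRing F] [Algebra.FormallySmooth κ F] :
    CAlg.IsGeometricallyRegular κ F := by
  apply Groth.Agent.Lib.Helper49.GeomRegFS.isGeometricallyRegular_of_localization
  intro q hq
  rw [Groth.Agent.Lib.Helper49.GeomRegFS.isGeometricallyRegular_iff_isAdicFormallySmooth]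
  intro C _ _ J hJ ψ _
  exact Algebra.FormallySmooth.exists_lift J ⟨2, hJ⟩ ψ

/-- Let A and B be Noetherian rings and let B be an A-algebra which is formally smooth for the discrete
topologies. Then A → B is a regular homomorphism, that is, flat with (Noetherian) geometrically
regular fibres. -/
theorem result
    (A B : Type u) [CommRing A] [CommRing B] [Algebra A B]
    [IsNoetherianRing A] [IsNoetherianRing B] [Algebra.FormallySmooth A B] :
    CAlg.IsRegularHom A B := by
  refine ⟨flat_of_formallySmooth A B, fun p hp => ?_⟩
  have hN : IsNoetherianRing (p.Fiber B) :=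
    Groth.Agent.Lib.Helper56.isNoetherianRing_fiber A B p
  exact ⟨hN, isGeometricallyRegular_of_formallySmooth⟩

end Groth.Agent.S19379
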