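import Groth.Statements.S19380
import Mathlib.LinearAlgebra.Matrix.SchurComplement
-- import your own Groth.Agent.* helpers here

set_option autoImplicit false
universe u
open CAlg

namespace Groth.Agent.S19380

open Polynomial in
theorem charpolyRev_map_hom {L : Type u} [CommRing L] {r : ℕ} (f : L →+* L)
    (M : Matrix (Fin r) (Fin r) L) :
    (Matrix.charpolyRev M).map f = Matrix.charpolyRev (M.map f) := by
  unfold Matrix.charpolyRev
  rw [← Polynomial.coe_mapRingHom, RingHom.map_det]
  congr 1
  ext i j : 1
  simp only [RingHom.mapMatrix_apply, Matrix.map_apply, Matrix.sub_apply, Matrix.smul_apply,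
    Matrix.one_apply, smul_eq_mul]
  split_ifs <;> simp

open Polynomial in
theorem charpolyRev_mul_comm {L : Type u} [CommRing L] {r : ℕ}
    (A B : Matrix (Fin r) (Fin r) L) :
    Matrix.charpolyRev (A * B) = Matrix.charpolyRev (B * A) := by
  unfold Matrix.charpolyRev
  have h1 : (1 : Matrix (Fin r) (Fin r) L[X]) - (X : L[X]) • (A * B).map C =
      1 - ((X : L[X]) • A.map C) * B.map C := by
    rw [Matrix.map_mul, Matrix.smul_mul]
  have h2 : (1 : Matrix (Fin r) (Fin r) L[X]) - (X : L[X]) • (B * A).map C =
      1 - B.map C * ((X : L[X]) • A.map C) := by
    rw [Matrix.map_mul, Matrix.mul_smul]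
  rw [h1, h2, Matrix.det_one_sub_mul_comm]

/-- Let L be a commutative ring, σ a ring automorphism of L of finite order dividing d (σ^d = 1), and C
an r × r matrix over L. The reverse characteristic polynomial det(1 − T·N) of the twisted product N
= C·σ(C)·σ²(C)⋯σ^(d−1)(C), with σ applied to the entries, is fixed by σ acting on coefficients. (In
the source this is phrased for the fibre at a closed point x of degree d of a convergent F-module
with Frobenius matrix C: the d-th iterate of the semilinear Frobenius of the fibre is the linear map
with matrix N, so its characteristic polynomial has coefficients in the subfield fixed by the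
Frobenius of K(x), namely K, and likewise with the valuation ring in place of K for an integral
F-module; only this linear-algebra statement, over any commutative ring, is given here.) -/
theorem result
    (L : Type u) [CommRing L] (σ : L ≃+* L) (d : ℕ) (hσ : σ ^ d = 1)
    (r : ℕ) (C : Matrix (Fin r) (Fin r) L) :
    (Matrix.charpolyRev (((List.range d).map fun i => C.map ⇑(σ ^ i)).prod)).map (σ : L →+* L) =
      Matrix.charpolyRev (((List.range d).map fun i => C.map ⇑(σ ^ i)).prod) := by
  set g : ℕ → Matrix (Fin r) (Fin r) L := fun i => C.map ⇑(σ ^ i) with hg
  rw [charpolyRev_map_hom]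
  have hmap : ∀ l : List ℕ, ((l.map g).prod).map (σ : L →+* L) =
      (l.map fun i => g (i + 1)).prod := by
    intro l
    have h1 : ((l.map g).prod).map (σ : L →+* L) =
        (RingHom.mapMatrix (σ : L →+* L)) ((l.map g).prod) := rfl
    rw [h1, map_list_prod, List.map_map]
    congr 1
    refine List.map_congr_left fun i _ => ?_
    simp only [Function.comp_apply, RingHom.mapMatrix_apply, hg]
    ext a b
    simp only [Matrix.map_apply, pow_succ']
    rfl
  rw [hmap]
  cases d with
  | zero => simp
  | succ d' =>
    have hN : ((List.range (d' + 1)).map g).prod =
        g 0 * ((List.range d').map fun i => g (i + 1)).prod := by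
      rw [List.range_succ_eq_map, List.map_cons, List.prod_cons, List.map_map]
      rfl
    have hN' : ((List.range (d' + 1)).map fun i => g (i + 1)).prod =
        ((List.range d').map fun i => g (i + 1)).prod * g 0 := by
      rw [List.range_succ, List.map_append, List.prod_append, List.map_singleton,
        List.prod_singleton]
      congr 1
      simp only [hg, hσ, pow_zero]
    rw [hN, hN', charpolyRev_mul_comm]

end Groth.Agent.S19380
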