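import Groth.Statements.S19381
import Groth.Agent.Lib.Helper54.FibreFlat

set_option autoImplicit false
universe u
open CategoryTheory CategoryTheory.Limits AlgebraicGeometry
open FlatMor

namespace Groth.Agent.S19381

open Groth.Agent.Lib.Helper54.FibreFlat TensorProduct

/-- ring-level: torsion-freeness over a DVR from regularity of the uniformizer. -/
theorem flat_of_uniformizer_regular {V R : Type u} [CommRing V] [IsDomain V]
    [IsDiscreteValuationRing V] [CommRing R] [Algebra V R] (π : V) (hπ : Irreducible π)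
    (hreg : ∀ r : R, π • r = 0 → r = 0) : Module.Flat V R := by
  rw [IsDedekindDomain.flat_iff_torsion_eq_bot, eq_bot_iff]
  rintro r ⟨⟨v, hv⟩, hvr⟩
  rw [Submodule.mem_bot]
  have hv0 : v ≠ 0 := nonZeroDivisors.ne_zero hv
  obtain ⟨n, u, rfl⟩ := IsDiscreteValuationRing.eq_unit_mul_pow_irreducible hv0 hπ
  have h1 : (π ^ n) • r = 0 := by
    have : (↑u⁻¹ : V) • ((↑u * π ^ n) • r) = (π ^ n) • r := by
      rw [smul_smul, ← mul_assoc, Units.inv_mul, one_mul]
    rw [← this]
    show (↑u⁻¹ : V) • ((↑u * π ^ n) • r) = 0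
    have h2 : (↑u * π ^ n) • r = 0 := hvr
    rw [h2, smul_zero]
  clear hvr hv hv0
  induction n with
  | zero => simpa using h1
  | succ n ih =>
    apply ih
    apply hreg
    rw [smul_smul, ← pow_succ']
    exact h1


section Main

variable (V : Type u) [CommRing V] [IsDomain V] [IsDiscreteValuationRing V]
  (A : Type u) [CommRing A] [Algebra V A] [Algebra.Smooth V A]
  (X : Scheme.{u}) (h : X ⟶ Spec (.of A)) [IsProper h]

/-- (⇐), second half: base change to the quotient. -/
theorem flat_quot_of_flat_compl (I : Ideal A)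
    (h3 : Flat (pullback.snd h (Spec.map (CommRingCat.ofHom
      (algebraMap A (AdicCompletion I A)))))) :
    Flat (pullback.snd h (Spec.map (CommRingCat.ofHom (Ideal.Quotient.mk I)))) := by
  refine flat_snd_of_isPullback (IsPullback.of_hasPullback h (Spec.map (CommRingCat.ofHom
      (algebraMap A (AdicCompletion I A)))))
    (Spec.map (CommRingCat.ofHom (AdicCompletion.evalOneₐ I).toRingHom)) _ ?_
  rw [← Spec.map_comp, ← CommRingCat.ofHom_comp, AdicCompletion.evalOneₐ_comp_algebraMap_eq_mk]


set_option backward.isDefEq.respectTransparency false in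
/-- (⇐), first half: flatness over `V`. -/
theorem flat_comp_of_flat_compl [IsNoetherianRing A] (I : Ideal A) (π : V) (hπ : Irreducible π)
    (hIp : I ≤ Ideal.span {algebraMap V A π}) (hp : algebraMap V A π ∈ nonZeroDivisors A)
    (h3 : Flat (pullback.snd h (Spec.map (CommRingCat.ofHom
      (algebraMap A (AdicCompletion I A)))))) :
    Flat (h ≫ Spec.map (CommRingCat.ofHom (algebraMap V A))) := by
  refine (IsZariskiLocalAtSource.iff_of_openCover X.affineOpenCover.openCover).mpr fun i ↦ ?_
  let R : CommRingCat.{u} := X.affineOpenCover.X i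
  let ψ : Spec R ⟶ X := X.affineOpenCover.f i
  have hψ : IsOpenImmersion ψ := inferInstance
  let β : CommRingCat.of A ⟶ R := Spec.preimage (ψ ≫ h)
  have hβ : Spec.map β = ψ ≫ h := Spec.map_preimage _
  show Flat (ψ ≫ h ≫ Spec.map (CommRingCat.ofHom (algebraMap V A)))
  rw [← Category.assoc, ← hβ, ← Spec.map_comp, HasRingHomProperty.Spec_iff (P := @Flat)]
  have hfl := flat_tensor_of_flat_snd h ψ β hβ (AdicCompletion I A) h3
  let _ := β.hom.toAlgebra
  let _ := (CommRingCat.ofHom (algebraMap V A) ≫ β).hom.toAlgebra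
  show Module.Flat V R
  refine flat_of_uniformizer_regular π hπ ?_
  intro r hr
  refine eq_zero_of_smul_eq_zero (A := A) (B := R) I (algebraMap V A π) hIp hp r ?_
  rw [Algebra.smul_def] at hr ⊢
  exact hr


set_option backward.isDefEq.respectTransparency false in
/-- Claim A': `h` is flat at points over `V(I)`. -/
theorem flat_stalkMap_of_le [IsNoetherianRing A] (I : Ideal A) (π : V)
    (hπ0 : π ∈ nonZeroDivisors V) (hI : I = Ideal.span {algebraMap V A π})
    (h1 : Flat (h ≫ Spec.map (CommRingCat.ofHom (algebraMap V A))))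
    (h2 : Flat (pullback.snd h (Spec.map (CommRingCat.ofHom (Ideal.Quotient.mk I)))))
    (x : X) (hx : I ≤ PrimeSpectrum.asIdeal (h x)) : (h.stalkMap x).hom.Flat := by
  obtain ⟨i, y, hy⟩ : ∃ i, ∃ y : ↥(Spec (X.affineOpenCover.X i)), (X.affineOpenCover.f i) y = x :=
    ⟨_, X.affineOpenCover.openCover.covers x⟩
  let R : CommRingCat.{u} := X.affineOpenCover.X i
  let ψ : Spec R ⟶ X := X.affineOpenCover.f i
  have hψ : IsOpenImmersion ψ := inferInstance
  let β : CommRingCat.of A ⟶ R := Spec.preimage (ψ ≫ h)
  have hβ : Spec.map β = ψ ≫ h := Spec.map_preimage _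
  let y' : PrimeSpectrum R := y
  have hy' : ψ y' = x := hy
  subst hy'
  rw [stalkMap_flat_iff_chart h ψ β hβ y']
  let _ := β.hom.toAlgebra
  have hft : LocallyOfFiniteType (Spec.map β) := by rw [hβ]; infer_instance
  have hft' : Algebra.FiniteType A R := (HasRingHomProperty.Spec_iff (P := @LocallyOfFiniteType)).mp hft
  have hR : IsNoetherianRing R := Algebra.FiniteType.isNoetherianRing A R
  have hflat := flat_tensor_of_flat_snd h ψ β hβ (A ⧸ I) h2
  refine flat_atPrime_of_fibre I (algebraMap V A π) hI hflat ?_ y'.asIdeal ?_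
  · intro r hr
    refine regular_of_flat_comp h ψ β hβ h1 π hπ0 r ?_
    rw [Algebra.smul_def] at hr
    exact hr
  · have h3 : h (ψ y') = (Spec.map β) y' := by rw [hβ]; rfl
    rw [h3] at hx
    have h4 : algebraMap V A π ∈ I := by rw [hI]; exact Ideal.mem_span_singleton_self _
    exact hx h4


theorem map_le_jacobson {B : Type u} [CommRing B] (J : Ideal B) (hJ : J.FG) :
    J.map (algebraMap B (AdicCompletion J B)) ≤ Ideal.jacobson ⊥ := by
  have h1 : IsAdicComplete J (AdicCompletion J B) := AdicCompletion.isAdicComplete hJ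
  have h2 : IsAdicComplete (J.map (algebraMap B (AdicCompletion J B))) (AdicCompletion J B) :=
    (IsAdicComplete.map_algebraMap_iff (S := AdicCompletion J B) J (AdicCompletion J B)).mpr h1
  exact IsAdicComplete.le_jacobson_bot _

set_option backward.isDefEq.respectTransparency false in
/-- (⇒) -/
theorem flat_compl_of_flat [IsNoetherianRing A] (I : Ideal A) (π : V)
    (hπ0 : π ∈ nonZeroDivisors V) (hI : I = Ideal.span {algebraMap V A π})
    (h1 : Flat (h ≫ Spec.map (CommRingCat.ofHom (algebraMap V A))))
    (h2 : Flat (pullback.snd h (Spec.map (CommRingCat.ofHom (Ideal.Quotient.mk I))))) :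
    Flat (pullback.snd h (Spec.map (CommRingCat.ofHom (algebraMap A (AdicCompletion I A))))) := by
  have lfp : LocallyOfFinitePresentation h :=
    LocallyOfFinitePresentation.iff_locallyOfFiniteType.mpr inferInstance
  have hopen := Groth.Agent.Lib.Helper55.FL.isOpen_stalkMap_flat h
  let Z : Set X := {x | ¬ (h.stalkMap x).hom.Flat}
  have hZc : IsClosed Z := by
    rw [← isOpen_compl_iff]
    convert hopen using 1
    ext x
    simp [Z]
  have hhZ : IsClosed (h.base '' Z) := h.isClosedMap _ hZc
  let T : (Spec (CommRingCat.of A)).Opens := ⟨(h.base '' Z)ᶜ, hhZ.isOpen_compl⟩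
  let φ : CommRingCat.of A ⟶ CommRingCat.of (AdicCompletion I A) :=
    CommRingCat.ofHom (algebraMap A (AdicCompletion I A))
  have hrange : Set.range (Spec.map φ).base ⊆ (T : Set ↥(Spec (CommRingCat.of A))) := by
    rintro _ ⟨p, rfl⟩ ⟨z, hz, hzp⟩
    let p' : PrimeSpectrum (AdicCompletion I A) := p
    obtain ⟨m, hm, hpm⟩ := Ideal.exists_le_maximal p'.asIdeal p'.2.ne_top
    let m' : PrimeSpectrum (AdicCompletion I A) := ⟨m, hm.isPrime⟩
    have hs : p' ⤳ m' := (PrimeSpectrum.le_iff_specializes _ _).mp hpm
    have hs' := hs.map (Spec.map φ).continuous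
    have hmem : (Spec.map φ) m' ∈ h.base '' Z := hs'.mem_closed hhZ ⟨z, hz, hzp⟩
    obtain ⟨z', hz', hz'm⟩ := hmem
    apply hz'
    refine flat_stalkMap_of_le V A X h I π hπ0 hI h1 h2 z' ?_
    have h5 : h z' = (Spec.map φ) m' := hz'm
    rw [h5]
    intro a ha
    show algebraMap A (AdicCompletion I A) a ∈ m
    have h6 := map_le_jacobson I (IsNoetherian.noetherian I) (Ideal.mem_map_of_mem _ ha)
    exact (sInf_le (show m ∈ {J : Ideal (AdicCompletion I A) | ⊥ ≤ J ∧ J.IsMaximal} from
      ⟨bot_le, hm⟩) : Ideal.jacobson ⊥ ≤ m) h6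
  let lift := IsOpenImmersion.lift T.ι (Spec.map φ) (by
    rw [Scheme.Opens.range_ι]
    exact hrange)
  have hlift : lift ≫ T.ι = Spec.map φ := IsOpenImmersion.lift_fac _ _ _
  have hflT : Flat (h ∣_ T) := by
    rw [Flat.iff_flat_stalkMap]
    intro y
    rw [RingHom.Flat.respectsIso.arrow_mk_iso_iff (morphismRestrictStalkMap h T y)]
    by_contra hn
    exact y.2 ⟨y.1, hn, rfl⟩
  exact flat_snd_of_isPullback (isPullback_morphismRestrict h T).flip lift _ hlift.symm

end Main



/-- Over a discrete valuation ring, let V be a henselian discrete valuation ring with maximal ideal 𝔪, A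
a smooth V-algebra, Â the 𝔪A-adic completion of A, and h : X → Spec A a proper morphism with
reduction h₀ : X ×_{Spec A} Spec(A/𝔪A) → Spec(A/𝔪A). Then X is flat over V and h₀ is flat if and
only if the base change of h to Spec Â is flat. (The published statement is for an excellent normal
ring V with a henselian pair (V, V/I) and the projective lift h built from lifted equations, and
also lists the base changes to the weak completion and to the henselization of (A, 𝔪A); it rests on
a lemma asserting 'B flat over V iff B̂ flat over V' for V-algebras B of finite type, which fails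
when V has dimension ≥ 2 (V = ℤ_p[[x]], I = (p), B = V[y]/(x, py − 1) ≅ ℚ_p has B̂ = 0), so the
statement is given over a discrete valuation ring and for an arbitrary proper h.) -/
theorem result
    (V : Type u) [CommRing V] [IsDomain V] [IsDiscreteValuationRing V] [HenselianLocalRing V]
    (A : Type u) [CommRing A] [Algebra V A] [Algebra.Smooth V A]
    (X : Scheme.{u}) (h : X ⟶ Spec (.of A)) [IsProper h] :
    (Flat (h ≫ Spec.map (CommRingCat.ofHom (algebraMap V A))) ∧
        Flat (pullback.snd h (Spec.map (CommRingCat.ofHom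
          (Ideal.Quotient.mk ((IsLocalRing.maximalIdeal V).map (algebraMap V A))))))) ↔
      Flat (pullback.snd h (Spec.map (CommRingCat.ofHom
          (algebraMap A (AdicCompletion ((IsLocalRing.maximalIdeal V).map (algebraMap V A)) A))))) := by
  have hA : IsNoetherianRing A := Algebra.FiniteType.isNoetherianRing V A
  obtain ⟨π, hπ⟩ := IsDiscreteValuationRing.exists_irreducible V
  have hI : (IsLocalRing.maximalIdeal V).map (algebraMap V A) =
      Ideal.span {algebraMap V A π} := by
    rw [hπ.maximalIdeal_eq, Ideal.map_span, Set.image_singleton]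
  have hπ0 : π ∈ nonZeroDivisors V := mem_nonZeroDivisors_of_ne_zero hπ.ne_zero
  have hp : algebraMap V A π ∈ nonZeroDivisors A := by
    have hreg : IsSMulRegular A π := Module.Flat.isSMulRegular_of_nonZeroDivisors hπ0
    rw [mem_nonZeroDivisors_iff_right]
    intro a ha
    apply hreg
    simp only [smul_zero]
    rw [Algebra.smul_def, mul_comm]
    exact ha
  constructor
  · rintro ⟨h1, h2⟩
    exact flat_compl_of_flat V A X h _ π hπ0 hI h1 h2
  · intro h3
    exact ⟨flat_comp_of_flat_compl V A X h _ π hπ hI.le hp h3, flat_quot_of_flat_compl A X h _ h3⟩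

end Groth.Agent.S19381
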