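import Groth.Statements.S19382
import Groth.Agent.S19381
import Groth.Agent.S1359

set_option autoImplicit false
universe u
open CategoryTheory CategoryTheory.Limits AlgebraicGeometry
open FlatMor

namespace Groth.Agent.S19382

open Groth.Agent.Lib.Helper54.FibreFlat TensorProduct

/-- Base change of a morphism with property `P` presented by a pullback square, followed by a
further base change. -/
theorem prop_snd_of_isPullback (P : MorphismProperty Scheme.{u}) [P.IsStableUnderBaseChange]
    {X X' S T T' : Scheme.{u}} {h : X ⟶ S} {k : T ⟶ S} {t : X' ⟶ X}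
    {f' : X' ⟶ T} (sq : IsPullback t f' h k) (k' : T' ⟶ T) (hf' : P f') (k'' : T' ⟶ S)
    (hk : k'' = k' ≫ k) : P (pullback.snd h k'') := by
  subst hk
  have sq2 := IsPullback.of_hasPullback f' k'
  have big := sq2.paste_horiz sq
  rw [← big.isoPullback_inv_snd, P.cancel_left_of_respectsIso]
  exact P.pullback_snd _ _ hf'

set_option backward.isDefEq.respectTransparency false in
/-- A closed subset of `Spec A` missing `V(I)` misses the image of `Spec Â`. -/
theorem not_mem_of_isClosed {A : Type u} [CommRing A] (I : Ideal A) (hI : I.FG)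
    (F : Set ↥(Spec (CommRingCat.of A))) (hF : IsClosed F)
    (hFI : ∀ s ∈ F, ¬ I ≤ PrimeSpectrum.asIdeal s)
    (p : ↥(Spec (CommRingCat.of (AdicCompletion I A)))) :
    (Spec.map (CommRingCat.ofHom (algebraMap A (AdicCompletion I A)))) p ∉ F := by
  intro hp
  let φ : CommRingCat.of A ⟶ CommRingCat.of (AdicCompletion I A) :=
    CommRingCat.ofHom (algebraMap A (AdicCompletion I A))
  let p' : PrimeSpectrum (AdicCompletion I A) := p
  obtain ⟨m, hm, hpm⟩ := Ideal.exists_le_maximal p'.asIdeal p'.2.ne_top
  let m' : PrimeSpectrum (AdicCompletion I A) := ⟨m, hm.isPrime⟩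
  have hs : p' ⤳ m' := (PrimeSpectrum.le_iff_specializes _ _).mp hpm
  have hs' := hs.map (Spec.map φ).continuous
  have hmem : (Spec.map φ) m' ∈ F := hs'.mem_closed hF hp
  apply hFI _ hmem
  intro a ha
  show algebraMap A (AdicCompletion I A) a ∈ m
  have h6 := Groth.Agent.S19381.map_le_jacobson I hI (Ideal.mem_map_of_mem _ ha)
  exact (sInf_le (show m ∈ {J : Ideal (AdicCompletion I A) | ⊥ ≤ J ∧ J.IsMaximal} from
    ⟨bot_le, hm⟩) : Ideal.jacobson ⊥ ≤ m) h6

section Main

variable (V : Type u) [CommRing V] [IsDomain V] [IsDiscreteValuationRing V]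
  (A : Type u) [CommRing A] [Algebra V A] [Algebra.Smooth V A]
  (X : Scheme.{u}) (h : X ⟶ Spec (.of A)) [IsProper h]

set_option backward.isDefEq.respectTransparency false in
/-- (⇒) -/
theorem smooth_compl_of_smooth [IsNoetherianRing A] (I : Ideal A) (π : V)
    (hπ0 : π ∈ nonZeroDivisors V) (hI : I = Ideal.span {algebraMap V A π})
    (h1 : Flat (h ≫ Spec.map (CommRingCat.ofHom (algebraMap V A))))
    (h2 : Smooth (pullback.snd h (Spec.map (CommRingCat.ofHom (Ideal.Quotient.mk I))))) :
    Smooth (pullback.snd h (Spec.map (CommRingCat.ofHom (algebraMap A (AdicCompletion I A))))) := by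
  have lfp : LocallyOfFinitePresentation h :=
    LocallyOfFinitePresentation.iff_locallyOfFiniteType.mpr inferInstance
  have h2f : Flat (pullback.snd h (Spec.map (CommRingCat.ofHom (Ideal.Quotient.mk I)))) :=
    inferInstance
  have hci : IsClosedImmersion (Spec.map (CommRingCat.ofHom (Ideal.Quotient.mk I))) :=
    IsClosedImmersion.spec_of_surjective _ Ideal.Quotient.mk_surjective
  -- points over `V(I)` are smooth points
  have hsm : ∀ x : X, I ≤ PrimeSpectrum.asIdeal (h x) → x ∈ h.smoothLocus := by
    intro x hx
    have hfl := Groth.Agent.S19381.flat_stalkMap_of_le V A X h I π hπ0 hI h1 h2f x hx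
    refine Groth.Agent.Lib.Helper19.mem_smoothLocus_of_flat_of_smooth_fiber h x hfl ?_
    have hr : h x ∈ Set.range (Spec.map (CommRingCat.ofHom (Ideal.Quotient.mk I))) := by
      have hrange : Set.range (PrimeSpectrum.comap (Ideal.Quotient.mk I)) =
          PrimeSpectrum.zeroLocus (RingHom.ker (Ideal.Quotient.mk I)) :=
        range_comap_of_surjective _ _ Ideal.Quotient.mk_surjective
      have : h x ∈ PrimeSpectrum.zeroLocus (RingHom.ker (Ideal.Quotient.mk I)) := by
        rw [Ideal.mk_ker, PrimeSpectrum.mem_zeroLocus]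
        exact hx
      rw [← hrange] at this
      exact this
    obtain ⟨z, hz⟩ := hr
    rw [← hz]
    exact Groth.Agent.S1359.smooth_fiber_of_mem_range h _ h2 z
  let Z : Set X := (h.smoothLocus : Set X)ᶜ
  have hZc : IsClosed Z := h.smoothLocus.isOpen.isClosed_compl
  have hhZ : IsClosed (h.base '' Z) := h.isClosedMap _ hZc
  let T : (Spec (CommRingCat.of A)).Opens := ⟨(h.base '' Z)ᶜ, hhZ.isOpen_compl⟩
  let φ : CommRingCat.of A ⟶ CommRingCat.of (AdicCompletion I A) :=
    CommRingCat.ofHom (algebraMap A (AdicCompletion I A))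
  have hrange : Set.range (Spec.map φ).base ⊆ (T : Set ↥(Spec (CommRingCat.of A))) := by
    rintro _ ⟨p, rfl⟩
    refine not_mem_of_isClosed I (IsNoetherian.noetherian I) _ hhZ ?_ p
    rintro _ ⟨z, hz, rfl⟩ hle
    exact hz (hsm z hle)
  let lift := IsOpenImmersion.lift T.ι (Spec.map φ) (by
    rw [Scheme.Opens.range_ι]
    exact hrange)
  have hlift : lift ≫ T.ι = Spec.map φ := IsOpenImmersion.lift_fac _ _ _
  have hsmT : Smooth (h ∣_ T) := by
    rw [← Scheme.Hom.smoothLocus_eq_top_iff, ← top_le_iff]
    rintro y -
    rw [Scheme.Hom.mem_smoothLocus,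
      RingHom.FormallySmooth.respectsIso.arrow_mk_iso_iff (morphismRestrictStalkMap h T y)]
    by_contra hn
    exact y.2 ⟨y.1, hn, rfl⟩
  exact prop_snd_of_isPullback @Smooth (isPullback_morphismRestrict h T).flip lift hsmT _
    hlift.symm

end Main



/-- Over a discrete valuation ring, let V be a henselian discrete valuation ring with maximal ideal 𝔪, A
a smooth V-algebra, Â the 𝔪A-adic completion of A, and h : X → Spec A a proper morphism with
reduction h₀ over Spec(A/𝔪A). Then X is flat over V and h₀ is smooth if and only if the base change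
of h to Spec Â is smooth. (As for the flat case, the published statement concerns an excellent
normal base ring with a henselian pair and the projective lift built from lifted equations, together
with the weak completion and the henselization; it is given here over a discrete valuation ring and
for an arbitrary proper h.) -/
theorem result
    (V : Type u) [CommRing V] [IsDomain V] [IsDiscreteValuationRing V] [HenselianLocalRing V]
    (A : Type u) [CommRing A] [Algebra V A] [Algebra.Smooth V A]
    (X : Scheme.{u}) (h : X ⟶ Spec (.of A)) [IsProper h] :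
    (Flat (h ≫ Spec.map (CommRingCat.ofHom (algebraMap V A))) ∧
        Smooth (pullback.snd h (Spec.map (CommRingCat.ofHom
          (Ideal.Quotient.mk ((IsLocalRing.maximalIdeal V).map (algebraMap V A))))))) ↔
      Smooth (pullback.snd h (Spec.map (CommRingCat.ofHom
          (algebraMap A (AdicCompletion ((IsLocalRing.maximalIdeal V).map (algebraMap V A)) A))))) := by
  have hA : IsNoetherianRing A := Algebra.FiniteType.isNoetherianRing V A
  obtain ⟨π, hπ⟩ := IsDiscreteValuationRing.exists_irreducible V
  have hI : (IsLocalRing.maximalIdeal V).map (algebraMap V A) =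
      Ideal.span {algebraMap V A π} := by
    rw [hπ.maximalIdeal_eq, Ideal.map_span, Set.image_singleton]
  have hπ0 : π ∈ nonZeroDivisors V := mem_nonZeroDivisors_of_ne_zero hπ.ne_zero
  have hp : algebraMap V A π ∈ nonZeroDivisors A := by
    have hreg : IsSMulRegular A π := Module.Flat.isSMulRegular_of_nonZeroDivisors hπ0
    rw [mem_nonZeroDivisors_iff_right]
    intro a ha
    apply hreg
    simp only [smul_zero]
    rw [Algebra.smul_def, mul_comm]
    exact ha
  constructor
  · rintro ⟨h1, h2⟩
    exact smooth_compl_of_smooth V A X h _ π hπ0 hI h1 h2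
  · intro h3
    have h3f : Flat (pullback.snd h (Spec.map (CommRingCat.ofHom
        (algebraMap A (AdicCompletion ((IsLocalRing.maximalIdeal V).map (algebraMap V A)) A))))) :=
      inferInstance
    refine ⟨Groth.Agent.S19381.flat_comp_of_flat_compl V A X h _ π hπ hI.le hp h3f, ?_⟩
    refine prop_snd_of_isPullback @Smooth (IsPullback.of_hasPullback h (Spec.map (CommRingCat.ofHom
      (algebraMap A (AdicCompletion ((IsLocalRing.maximalIdeal V).map (algebraMap V A)) A)))))
      (Spec.map (CommRingCat.ofHom (AdicCompletion.evalOneₐ _).toRingHom)) h3 _ ?_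
    rw [← Spec.map_comp, ← CommRingCat.ofHom_comp, AdicCompletion.evalOneₐ_comp_algebraMap_eq_mk]

end Groth.Agent.S19382
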