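import Groth.Statements.S19383
import Mathlib.RingTheory.AdicCompletion.AsTensorProduct
import Mathlib.RingTheory.Flat.TorsionFree
import Mathlib.RingTheory.Filtration
import Mathlib.Tactic.LinearCombination
-- import your own Groth.Agent.* helpers here

set_option autoImplicit false
universe u
open CAlg

namespace Groth.Agent.S19383

/-- Over a discrete valuation ring, let V be a henselian discrete valuation ring with maximal ideal 𝔪
and B a Noetherian V-algebra, B̂ its 𝔪B-adic completion. Then B is flat over V if and only if B̂ is
flat over V. (The published lemma takes V an excellent normal ring with an ideal I such that (V,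
V/I) is a henselian pair and B of finite type; in that generality it fails: for V = ℤ_p[[x]], I =
(p) and B = V[y]/(x, py − 1) ≅ ℚ_p one has IB = B, so B̂ = 0 is flat while B is not flat over V.
Over a discrete valuation ring flatness is torsion-freeness and the statement holds for every
Noetherian B.) -/
theorem result
    (V : Type u) [CommRing V] [IsDomain V] [IsDiscreteValuationRing V] [HenselianLocalRing V]
    (B : Type u) [CommRing B] [Algebra V B] [IsNoetherianRing B] :
    Module.Flat V B ↔
      Module.Flat V (AdicCompletion ((IsLocalRing.maximalIdeal V).map (algebraMap V B)) B) := by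
  set I := (IsLocalRing.maximalIdeal V).map (algebraMap V B) with hI
  have : IsScalarTower V B (AdicCompletion I B) := IsScalarTower.of_algebraMap_eq (fun v => rfl)
  constructor
  · intro h
    exact Module.Flat.trans V B (AdicCompletion I B)
  · intro h
    rw [Module.Flat.flat_iff_torsion_eq_bot_of_isBezout, eq_bot_iff]
    rintro b ⟨⟨v, hv⟩, hvb⟩
    have hvb' : v • b = 0 := hvb
    have hb' : AdicCompletion.of I B b = 0 := by
      have htor : AdicCompletion.of I B b ∈ Submodule.torsion V (AdicCompletion I B) := by
        refine ⟨⟨v, hv⟩, ?_⟩
        change v • AdicCompletion.of I B b = 0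
        rw [← algebraMap_smul B v (AdicCompletion.of I B b), ← map_smul, algebraMap_smul, hvb',
          map_zero]
      rw [Module.Flat.torsion_eq_bot] at htor
      exact htor
    have hmem : b ∈ (⨅ i : ℕ, I ^ i • ⊤ : Submodule B B) := by
      rw [Submodule.mem_iInf]
      intro n
      have h1 := congrArg (fun x => x.val n) hb'
      simp only [AdicCompletion.of_apply, Submodule.mkQ_apply, AdicCompletion.val_zero,
        Pi.zero_apply] at h1
      exact (Submodule.Quotient.mk_eq_zero _).mp h1
    obtain ⟨⟨r, hrI⟩, hr⟩ := (I.mem_iInf_smul_pow_eq_bot_iff b).mp hmem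
    obtain ⟨ϖ, hϖ⟩ := IsDiscreteValuationRing.exists_irreducible V
    have hI' : I = Ideal.span {algebraMap V B ϖ} := by
      rw [hI, hϖ.maximalIdeal_eq, Ideal.map_span, Set.image_singleton]
    rw [hI', Ideal.mem_span_singleton'] at hrI
    obtain ⟨c, hc⟩ := hrI
    have hv0 : v ≠ 0 := nonZeroDivisors.ne_zero hv
    obtain ⟨n, u, hu⟩ := IsDiscreteValuationRing.eq_unit_mul_pow_irreducible hv0 hϖ
    have hrn : ∀ k : ℕ, r ^ k * b = b := by
      intro k
      induction k with
      | zero => simp
      | succ k ih =>
        have hr' : r * b = b := hr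
        rw [pow_succ, mul_assoc, hr', ih]
    have h2 : algebraMap V B (ϖ ^ n) * b = 0 := by
      have h3 : ϖ ^ n = (↑u⁻¹ : V) * v := by
        rw [hu, ← mul_assoc, Units.inv_mul, one_mul]
      rw [h3, map_mul, mul_assoc]
      have : algebraMap V B v * b = 0 := by rw [← Algebra.smul_def]; exact hvb'
      rw [this, mul_zero]
    have h4 : r ^ n * b = 0 := by
      rw [← hc, mul_pow, mul_assoc, ← map_pow, h2, mul_zero]
    rw [Submodule.mem_bot, ← hrn n, h4]

end Groth.Agent.S19383
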