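import Groth.Statements.S1939
import Groth.Agent.Lib.Helper73.DimFormula.FibreLift

set_option autoImplicit false
universe u
open CategoryTheory AlgebraicGeometry
open CategoryTheory.Limits
open Cyc

namespace Groth.Agent.S1939

/-- Let (S, δS) and (S', δS') be two pairs satisfying Cyc.IsSetup, g : S' → S flat with δS'(s') = δS(g
s') + c for every s' generic in an irreducible component of its fibre g⁻¹(g s'), a : X → S locally
of finite type with X integral of δ-dimension k (δX induced from δS), and X' = X ×_S S' with δX'
induced from δS'. Then every generic point x' of an irreducible component of X' has δX'(x') = k + c.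
A pair (X, δ) with Cyc.IsSetup plays the role of a scheme locally of finite type over a fixed base
with a dimension function (X locally Noetherian with universally catenary local rings, δ a dimension
function), and Cyc.DeltaCompat records that the dimension function upstairs is the induced one. -/
theorem result (S S' X : Scheme.{u}) (δS : S → ℤ) (δS' : S' → ℤ) (hS : Cyc.IsSetup S δS) (hS' : Cyc.IsSetup S' δS') (g : S' ⟶ S) [Flat g] (c : ℤ) (hc : ∀ s' : S', (∀ y, g y = g s' → y ⤳ s' → y = s') → δS' s' = δS (g s') + c) (a : X ⟶ S) [LocallyOfFiniteType a] [IsIntegral X] (δX : X → ℤ) (hX : Cyc.DeltaCompat a δX δS) (δX' : ↥(pullback a g) → ℤ) (hX' : Cyc.DeltaCompat (pullback.snd a g) δX' δS') (k : ℤ) (hk : δX (genericPoint X) = k) (x' : ↥(pullback a g)) (hx' : ∀ y : ↥(pullback a g), y ⤳ x' → y = x') : δX' x' = k + c := by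
  open Groth.Agent.Lib.Helper73 in
  set π := pullback.fst a g with hπ
  set a' := pullback.snd a g with ha'
  have hsq : IsPullback π a' a g := IsPullback.of_hasPullback a g
  haveI : Flat π := MorphismProperty.of_isPullback hsq.flip (inferInstance : Flat g)
  haveI : LocallyOfFiniteType a' := locallyOfFiniteType_of_isPullback' a g π a' hsq
  -- `π x'` is the generic point
  have hgen : π x' = genericPoint X := by
    have := IsDimFun.maximal_map_of_generalizingMap π (Flat.generalizingMap π) x' hx'
    exact (this _ (genericPoint_specializes (π x'))).symm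
  -- `a' x'` is generic in its fibre
  have hfib : ∀ y, g y = g (a' x') → y ⤳ a' x' → y = a' x' := by
    intro y hgy hy
    obtain ⟨t, ht, hat, -⟩ := exists_specializes_fiber_of_isPullback a g π a' hsq x' y hy hgy
    rw [← hat, hx' t ht]
  have h1 := hc (a' x') hfib
  -- transcendence degrees
  have h2 := resTrdegNat_eq_of_isPullback_of_relMaximal a g π a' hsq x'
    (fun t ht _ _ => hx' t ht)
  obtain ⟨n', hn', hδ'⟩ := hX' x'
  obtain ⟨n, hn, hδ⟩ := hX (genericPoint X)
  have hn'' : resTrdegNat a' x' = n' := by
    have h : resTrdeg a' x' = (n' : Cardinal.{u}) := hn'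
    rw [resTrdeg_eq_resTrdegNat] at h
    exact_mod_cast h
  have hnn : resTrdegNat a (genericPoint X) = n := by
    have h : resTrdeg a (genericPoint X) = (n : Cardinal.{u}) := hn
    rw [resTrdeg_eq_resTrdegNat] at h
    exact_mod_cast h
  rw [hgen, hnn, hn''] at h2
  have hw : g (a' x') = a (genericPoint X) := by
    have := congrArg (fun φ => φ x') hsq.w
    simp only [Scheme.Hom.comp_apply] at this
    rw [← this, hgen]
  show δX' x' = k + c
  rw [hδ', h1, hw, ← hk, hδ, h2]
  ring

end Groth.Agent.S1939
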