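import Groth.Statements.S19390
import Mathlib

set_option autoImplicit false
universe u
open GIT

set_option linter.unusedSectionVars false

namespace Groth.Agent.S19390Aux

variable {α : Type*} [DecidableEq α] {ι : Type*} [Fintype ι] [DecidableEq ι]

/-- Hall-type lemma: a permutation moving every element of `T` to a differently coloured
element of `T`, fixing the rest. -/
theorem exists_perm (x : ι → α) (T : Finset ι) (r : ℕ) (hT : T.card = 2 * r)
    (hcl : ∀ v, (T.filter (fun k => x k = v)).card ≤ r) :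
    ∃ g : Equiv.Perm ι, (∀ u, u ∉ T → g u = u) ∧ (∀ u ∈ T, g u ∈ T ∧ x (g u) ≠ x u) := by
  classical
  let t : ι → Finset ι := fun u => if u ∈ T then T.filter (fun v => x v ≠ x u) else {u}
  have hall : ∀ s : Finset ι, s.card ≤ (s.biUnion t).card := by
    intro s
    set s1 := s.filter (fun u => ¬ u ∈ T) with hs1
    set s2 := s.filter (fun u => u ∈ T) with hs2
    have hsplit : s2.card + s1.card = s.card :=
      Finset.card_filter_add_card_filter_not (s := s) (fun u => u ∈ T)
    set U2 := s2.biUnion (fun u => T.filter (fun v => x v ≠ x u)) with hU2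
    have hU2T : U2 ⊆ T := by
      intro v hv
      obtain ⟨u, _, hvu⟩ := Finset.mem_biUnion.mp hv
      exact (Finset.mem_filter.mp hvu).1
    have hsub : s1 ∪ U2 ⊆ s.biUnion t := by
      intro v hv
      rcases Finset.mem_union.mp hv with hv | hv
      · obtain ⟨hvs, hvT⟩ := Finset.mem_filter.mp hv
        refine Finset.mem_biUnion.mpr ⟨v, hvs, ?_⟩
        simp only [t, if_neg hvT, Finset.mem_singleton]
      · obtain ⟨u, hu, hvu⟩ := Finset.mem_biUnion.mp hv
        obtain ⟨hus, huT⟩ := Finset.mem_filter.mp hu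
        refine Finset.mem_biUnion.mpr ⟨u, hus, ?_⟩
        simp only [t, if_pos huT]
        exact hvu
    have hdisj : Disjoint s1 U2 := by
      rw [Finset.disjoint_left]
      intro v hv1 hv2
      exact (Finset.mem_filter.mp hv1).2 (hU2T hv2)
    have h2 : s2.card ≤ U2.card := by
      by_cases hdiff : ∃ u1 ∈ s2, ∃ u2 ∈ s2, x u1 ≠ x u2
      · obtain ⟨u1, hu1, u2, hu2, hne⟩ := hdiff
        have hU : U2 = T := by
          apply Finset.Subset.antisymm hU2T
          intro v hv
          by_cases h : x v = x u1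
          · exact Finset.mem_biUnion.mpr ⟨u2, hu2,
              Finset.mem_filter.mpr ⟨hv, fun h' => hne (h.symm.trans h')⟩⟩
          · exact Finset.mem_biUnion.mpr ⟨u1, hu1, Finset.mem_filter.mpr ⟨hv, h⟩⟩
        rw [hU]
        exact Finset.card_le_card (fun u hu => (Finset.mem_filter.mp hu).2)
      · push Not at hdiff
        rcases s2.eq_empty_or_nonempty with hempty | ⟨u0, hu0⟩
        · rw [hempty]; simp
        · have hs2sub : s2 ⊆ T.filter (fun k => x k = x u0) := fun u hu =>
            Finset.mem_filter.mpr ⟨(Finset.mem_filter.mp hu).2, hdiff u hu u0 hu0⟩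
          have hUsup : T.filter (fun k => ¬ x k = x u0) ⊆ U2 := fun v hv =>
            Finset.mem_biUnion.mpr ⟨u0, hu0, hv⟩
          have hsum := Finset.card_filter_add_card_filter_not (s := T) (fun k => x k = x u0)
          have h3 := hcl (x u0)
          have h4 := Finset.card_le_card hs2sub
          have h5 := Finset.card_le_card hUsup
          omega
    calc s.card = s1.card + s2.card := by omega
      _ ≤ s1.card + U2.card := by omega
      _ = (s1 ∪ U2).card := (Finset.card_union_of_disjoint hdisj).symm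
      _ ≤ _ := Finset.card_le_card hsub
  obtain ⟨f, hfinj, hf⟩ := (Finset.all_card_le_biUnion_card_iff_exists_injective t).mp hall
  have hbij : Function.Bijective f := Finite.injective_iff_bijective.mp hfinj
  refine ⟨Equiv.ofBijective f hbij, ?_, ?_⟩
  · intro u hu
    have := hf u
    simp only [t, if_neg hu, Finset.mem_singleton] at this
    exact this
  · intro u hu
    have := hf u
    simp only [t, if_pos hu, Finset.mem_filter] at this
    exact this

/-- choice of the triangle -/
theorem exists_triangle (e : ℕ) (he : 1 ≤ e) (x : ι → α) (hn : Fintype.card ι = 2 * e + 1)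
    (hx : ∀ v : α, (Finset.univ.filter fun k => x k = v).card ≤ e) :
    ∃ a b c : ι, x a ≠ x b ∧ x b ≠ x c ∧ x a ≠ x c ∧
      ∀ v, (((Finset.univ : Finset ι) \ {a, b, c}).filter (fun k => x k = v)).card ≤ e - 1 := by
  classical
  set N : α → ℕ := fun v => (Finset.univ.filter fun k => x k = v).card with hN
  have hne : (Finset.univ : Finset ι).Nonempty := by
    rw [Finset.univ_nonempty_iff, ← Fintype.card_pos_iff]; omega
  obtain ⟨a, -, ha⟩ := Finset.exists_max_image Finset.univ (fun k => N (x k)) hne
  -- S1 nonempty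
  have hS1 : (Finset.univ.filter (fun k => ¬ x k = x a)).Nonempty := by
    rw [← Finset.card_pos]
    have h1 := Finset.card_filter_add_card_filter_not (s := (Finset.univ : Finset ι))
      (fun k => x k = x a)
    have h2 := hx (x a)
    rw [Finset.card_univ, hn] at h1
    omega
  obtain ⟨b, hbS, hb⟩ := Finset.exists_max_image _ (fun k => N (x k)) hS1
  have hba : ¬ x b = x a := (Finset.mem_filter.mp hbS).2
  -- four (or three) disjoint classes bound
  have hsum3 : ∀ v1 v2 v3 : α, v1 ≠ v2 → v1 ≠ v3 → v2 ≠ v3 →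
      N v1 + N v2 + N v3 + (Finset.univ.filter
        (fun k => ¬ x k = v1 ∧ ¬ x k = v2 ∧ ¬ x k = v3)).card = 2 * e + 1 := by
    intro v1 v2 v3 h12 h13 h23
    rw [← hn, ← Finset.card_univ]
    simp only [hN, Finset.card_filter]
    rw [← Finset.sum_add_distrib, ← Finset.sum_add_distrib, ← Finset.sum_add_distrib,
      Finset.card_eq_sum_ones]
    refine Finset.sum_congr rfl fun k _ => ?_
    by_cases h1 : x k = v1
    · have h2 : ¬ x k = v2 := fun h => h12 (h1.symm.trans h)
      have h3 : ¬ x k = v3 := fun h => h13 (h1.symm.trans h)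
      simp [h1, h2, h3, h12, h13]
    · by_cases h2 : x k = v2
      · have h3 : ¬ x k = v3 := fun h => h23 (h2.symm.trans h)
        simp [h1, h2, h3, h23, Ne.symm h12]
      · by_cases h3 : x k = v3
        · simp [h1, h2, h3, Ne.symm h13, Ne.symm h23]
        · simp [h1, h2, h3]
  -- S2 nonempty
  have hS2 : (Finset.univ.filter (fun k => ¬ x k = x a ∧ ¬ x k = x b)).Nonempty := by
    rw [← Finset.card_pos]
    have h1 := Finset.card_filter_add_card_filter_not (s := (Finset.univ : Finset ι))
      (fun k => x k = x a)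
    have h2 := Finset.card_filter_add_card_filter_not
      (s := (Finset.univ.filter (fun k : ι => ¬ x k = x a))) (fun k => x k = x b)
    rw [Finset.filter_filter, Finset.filter_filter] at h2
    have h3 : (Finset.univ.filter (fun k : ι => ¬ x k = x a ∧ x k = x b)).card ≤ N (x b) :=
      Finset.card_le_card (fun k hk => Finset.mem_filter.mpr
        ⟨Finset.mem_univ _, (Finset.mem_filter.mp hk).2.2⟩)
    have h4 := hx (x a)
    have h5 := hx (x b)
    rw [Finset.card_univ, hn] at h1
    simp only [hN] at h3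
    omega
  obtain ⟨c, hcS, hc⟩ := Finset.exists_max_image _ (fun k => N (x k)) hS2
  have hca : ¬ x c = x a := (Finset.mem_filter.mp hcS).2.1
  have hcb : ¬ x c = x b := (Finset.mem_filter.mp hcS).2.2
  refine ⟨a, b, c, fun h => hba h.symm, fun h => hcb h.symm, fun h => hca h.symm, ?_⟩
  intro v
  have hab : a ≠ b := fun h => hba (h ▸ rfl)
  have hac : a ≠ c := fun h => hca (h ▸ rfl)
  have hbc : b ≠ c := fun h => hcb (h ▸ rfl)
  -- removing a point of the class lowers the count
  have hdrop : ∀ z : ι, z ∈ ({a, b, c} : Finset ι) → x z = v →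
      (((Finset.univ : Finset ι) \ {a, b, c}).filter (fun k => x k = v)).card ≤ e - 1 := by
    intro z hz hzv
    have hsub : ((Finset.univ : Finset ι) \ {a, b, c}).filter (fun k => x k = v)
        ⊆ (Finset.univ.filter (fun k => x k = v)).erase z := by
      intro k hk
      obtain ⟨hk1, hk2⟩ := Finset.mem_filter.mp hk
      refine Finset.mem_erase.mpr ⟨?_, Finset.mem_filter.mpr ⟨Finset.mem_univ _, hk2⟩⟩
      intro hkz
      exact (Finset.mem_sdiff.mp hk1).2 (hkz ▸ hz)
    have h1 := Finset.card_le_card hsub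
    have hzmem : z ∈ Finset.univ.filter (fun k => x k = v) :=
      Finset.mem_filter.mpr ⟨Finset.mem_univ _, hzv⟩
    rw [Finset.card_erase_of_mem hzmem] at h1
    have h2 := hx v
    omega
  by_cases hva : x a = v
  · exact hdrop a (by simp) hva
  by_cases hvb : x b = v
  · exact hdrop b (by simp) hvb
  by_cases hvc : x c = v
  · exact hdrop c (by simp) hvc
  -- other classes are small
  have hle : (((Finset.univ : Finset ι) \ {a, b, c}).filter (fun k => x k = v)).card ≤ N v :=
    Finset.card_le_card (fun k hk => Finset.mem_filter.mpr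
      ⟨Finset.mem_univ _, (Finset.mem_filter.mp hk).2⟩)
  rcases Nat.eq_zero_or_pos (N v) with h0 | hpos
  · omega
  · obtain ⟨k, hk⟩ := Finset.card_pos.mp hpos
    have hkv : x k = v := (Finset.mem_filter.mp hk).2
    have hka : ¬ x k = x a := fun h => hva (h.symm.trans hkv)
    have hkb : ¬ x k = x b := fun h => hvb (h.symm.trans hkv)
    have h1 : N v ≤ N (x a) := hkv ▸ ha k (Finset.mem_univ _)
    have h2 : N v ≤ N (x b) := hkv ▸ hb k (Finset.mem_filter.mpr ⟨Finset.mem_univ _, hka⟩)
    have h3 : N v ≤ N (x c) := hkv ▸ hc k (Finset.mem_filter.mpr ⟨Finset.mem_univ _, hka, hkb⟩)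
    have h4 := hsum3 (x a) (x b) (x c) (fun h => hba h.symm) (fun h => hca h.symm)
      (fun h => hcb h.symm)
    have h5 : N v ≤ (Finset.univ.filter
        (fun k => ¬ x k = x a ∧ ¬ x k = x b ∧ ¬ x k = x c)).card := by
      refine Finset.card_le_card (fun k hk => ?_)
      have hkv' : x k = v := (Finset.mem_filter.mp hk).2
      exact Finset.mem_filter.mpr ⟨Finset.mem_univ _, fun h => hva (h.symm.trans hkv'),
        fun h => hvb (h.symm.trans hkv'), fun h => hvc (h.symm.trans hkv')⟩
    omega

theorem inj3 {β : Type*} (a b c : β) (hab' : a ≠ b) (hac' : a ≠ c) (hbc' : b ≠ c) :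
    Function.Injective (![a, b, c] : Fin 3 → β) := by
  intro p q hpq
  fin_cases p <;> fin_cases q <;> simp_all [Ne.symm]

end Groth.Agent.S19390Aux

namespace Groth.Agent.S19390

/-- Let e ≥ 1, n = 2e + 1, and let x_1, …, x_n be points such that no point occurs more than e times
among them (the stability condition for n ordered points on a line, n odd). Then there are index
sequences i_1, …, i_n and j_1, …, j_n in which every index between 1 and n occurs exactly twice in
total, such that x_{i_k} ≠ x_{j_k} for every k and (i_1, i_2, i_3) = (j_3, j_1, j_2). Indices are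
written 0, …, n − 1 here. -/
theorem result {α : Type u} [DecidableEq α] (e : ℕ) (he : 1 ≤ e)
    (x : Fin (2 * e + 1) → α)
    (hx : ∀ a : α, (Finset.univ.filter fun k => x k = a).card ≤ e) :
    ∃ i j : Fin (2 * e + 1) → Fin (2 * e + 1),
      (∀ m : Fin (2 * e + 1),
        (Finset.univ.filter fun k => i k = m).card + (Finset.univ.filter fun k => j k = m).card = 2) ∧
      (∀ k, x (i k) ≠ x (j k)) ∧
      i 0 = j 2 ∧ i 1 = j 0 ∧ i 2 = j 1 := by
  classical
  obtain ⟨a, b, c, hab, hbc, hac, hcl⟩ := Groth.Agent.S19390Aux.exists_triangle e he x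
    (by simp) hx
  have hab' : a ≠ b := fun h => hab (h ▸ rfl)
  have hac' : a ≠ c := fun h => hac (h ▸ rfl)
  have hbc' : b ≠ c := fun h => hbc (h ▸ rfl)
  set T : Finset (Fin (2 * e + 1)) := Finset.univ \ {a, b, c} with hT
  have hTcard : T.card = 2 * (e - 1) := by
    rw [hT, Finset.card_sdiff_of_subset (Finset.subset_univ _), Finset.card_univ, Fintype.card_fin]
    have : ({a, b, c} : Finset (Fin (2 * e + 1))).card = 3 := by
      rw [Finset.card_eq_three]; exact ⟨a, b, c, hab', hac', hbc', rfl⟩
    rw [this]; omega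
  obtain ⟨g0, hg0fix, hg0T⟩ := Groth.Agent.S19390Aux.exists_perm x T (e - 1) hTcard hcl
  have haT : a ∉ T := by simp [hT]
  have hbT : b ∉ T := by simp [hT]
  have hcT : c ∉ T := by simp [hT]
  set c3 : Equiv.Perm (Fin (2 * e + 1)) := Equiv.swap a b * Equiv.swap b c with hc3
  have hc3a : c3 a = b := by
    rw [hc3, Equiv.Perm.mul_apply, Equiv.swap_apply_of_ne_of_ne hab' hac', Equiv.swap_apply_left]
  have hc3b : c3 b = c := by
    rw [hc3, Equiv.Perm.mul_apply, Equiv.swap_apply_left,
      Equiv.swap_apply_of_ne_of_ne hac'.symm hbc'.symm]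
  have hc3c : c3 c = a := by
    rw [hc3, Equiv.Perm.mul_apply, Equiv.swap_apply_right, Equiv.swap_apply_right]
  have hc3T : ∀ u ∈ T, c3 u = u := by
    intro u hu
    have hu' : u ∉ ({a, b, c} : Finset (Fin (2 * e + 1))) := (Finset.mem_sdiff.mp hu).2
    simp only [Finset.mem_insert, Finset.mem_singleton, not_or] at hu'
    rw [hc3, Equiv.Perm.mul_apply, Equiv.swap_apply_of_ne_of_ne hu'.2.1 hu'.2.2,
      Equiv.swap_apply_of_ne_of_ne hu'.1 hu'.2.1]
  set g : Equiv.Perm (Fin (2 * e + 1)) := c3 * g0 with hg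
  have hga : g a = b := by rw [hg, Equiv.Perm.mul_apply, hg0fix a haT, hc3a]
  have hgb : g b = c := by rw [hg, Equiv.Perm.mul_apply, hg0fix b hbT, hc3b]
  have hgc : g c = a := by rw [hg, Equiv.Perm.mul_apply, hg0fix c hcT, hc3c]
  have hgx : ∀ u, x u ≠ x (g u) := by
    intro u
    by_cases hu : u ∈ T
    · rw [hg, Equiv.Perm.mul_apply, hc3T _ (hg0T u hu).1]
      exact fun h => (hg0T u hu).2 h.symm
    · have hu' : u ∈ ({a, b, c} : Finset (Fin (2 * e + 1))) := by
        by_contra h
        exact hu (Finset.mem_sdiff.mpr ⟨Finset.mem_univ _, h⟩)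
      simp only [Finset.mem_insert, Finset.mem_singleton] at hu'
      rcases hu' with rfl | rfl | rfl
      · rw [hga]; exact hab
      · rw [hgb]; exact hbc
      · rw [hgc]; exact fun h => hac h.symm
  -- the enumeration σ
  have h01 : (0 : Fin (2 * e + 1)) ≠ 1 := by
    intro h
    have := congrArg Fin.val h
    simp at this
    omega
  have h02 : (0 : Fin (2 * e + 1)) ≠ 2 := by
    intro h
    have := congrArg Fin.val h
    have h2v : ((2 : Fin (2*e+1)) : ℕ) = 2 % (2*e+1) := rfl
    rw [Fin.val_zero, h2v] at this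
    have h2 : 2 % (2 * e + 1) = 2 := Nat.mod_eq_of_lt (by omega)
    omega
  have h12 : (1 : Fin (2 * e + 1)) ≠ 2 := by
    intro h
    have := congrArg Fin.val h
    have h1v : ((1 : Fin (2*e+1)) : ℕ) = 1 % (2*e+1) := rfl
    have h2v : ((2 : Fin (2*e+1)) : ℕ) = 2 % (2*e+1) := rfl
    rw [h1v, h2v] at this
    have h1 : 1 % (2 * e + 1) = 1 := Nat.mod_eq_of_lt (by omega)
    have h2 : 2 % (2 * e + 1) = 2 := Nat.mod_eq_of_lt (by omega)
    omega
  obtain ⟨σ, hσ⟩ := Equiv.Perm.exists_extending_pair
    (![0, 1, 2] : Fin 3 → Fin (2 * e + 1)) (![a, b, c] : Fin 3 → Fin (2 * e + 1))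
    (Groth.Agent.S19390Aux.inj3 _ _ _ h01 h02 h12)
    (Groth.Agent.S19390Aux.inj3 _ _ _ hab' hac' hbc')
  have hσ0 : σ 0 = a := by simpa using hσ 0
  have hσ1 : σ 1 = b := by simpa using hσ 1
  have hσ2 : σ 2 = c := by simpa using hσ 2
  refine ⟨σ, fun k => g (σ k), ?_, fun k => hgx (σ k), ?_, ?_, ?_⟩
  · intro m
    have h1 : (Finset.univ.filter fun k => σ k = m) = {σ.symm m} := by
      ext k; simp [Equiv.eq_symm_apply]
    have h2 : (Finset.univ.filter fun k => g (σ k) = m) = {σ.symm (g.symm m)} := by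
      ext k; simp [Equiv.eq_symm_apply]
    rw [h1, h2]; simp
  · show σ 0 = g (σ 2)
    rw [hσ0, hσ2, hgc]
  · show σ 1 = g (σ 0)
    rw [hσ1, hσ0, hga]
  · show σ 2 = g (σ 1)
    rw [hσ2, hσ1, hgb]

end Groth.Agent.S19390
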