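import Groth.Statements.S19392
import Groth.Agent.Lib.Helper6.Quartic

set_option autoImplicit false
universe u
open InvQ

namespace Groth.Agent.S19392


open W4c6intromoduli Groth.Agent.Lib.Helper6.Quartic

section aux
variable {k : Type u} [Field k]

theorem specialB (la mu : Fin 4 → k) (c : k) (h1 : la 1 = c * la 0) (h2 : mu 1 = c * mu 0) :
    invI (coef la mu) = c ^ 2 * (la 0 * mu 2 - la 2 * mu 0) ^ 2 * (la 0 * mu 3 - la 3 * mu 0) ^ 2 := by
  rw [invI, coef0, coef1, coef2, coef3, coef4, h1, h2]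
  ring

theorem specialA (la mu : Fin 4 → k) (c0 c2 : k) (h1 : la 0 = c0 * la 1) (h2 : mu 0 = c0 * mu 1)
    (h3 : la 2 = c2 * la 1) (h4 : mu 2 = c2 * mu 1) :
    invI (coef la mu) = 0 ∧ invJ (coef la mu) = 0 := by
  constructor
  · rw [invI, coef0, coef1, coef2, coef3, coef4, h1, h2, h3, h4]
    ring
  · rw [invJ, coef0, coef1, coef2, coef3, coef4, h1, h2, h3, h4]
    ring

theorem permD : ∀ i j l : Fin 4, i ≠ j → j ≠ l → i ≠ l →
    ∃ σ : Equiv.Perm (Fin 4), σ 0 = i ∧ σ 1 = j ∧ σ 2 = l := by
  decide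

theorem permD2 : ∀ i j : Fin 4, i ≠ j → ∃ σ : Equiv.Perm (Fin 4), σ 0 = i ∧ σ 1 = j := by
  decide

theorem coef_perm (la mu : Fin 4 → k) (σ : Equiv.Perm (Fin 4)) :
    coef (la ∘ σ) (mu ∘ σ) = coef la mu := by
  funext n
  unfold coef rootPoly
  congr 1
  exact Equiv.prod_comp σ (fun i => Polynomial.C (mu i) - Polynomial.C (la i) * Polynomial.X)

theorem prop_of_bracket (a b c d : k) (hab : a ≠ 0 ∨ b ≠ 0) (h : a * d = c * b) :
    ∃ t, c = t * a ∧ d = t * b := by
  rcases hab with ha | hb
  · refine ⟨c / a, by field_simp, ?_⟩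
    field_simp
    linear_combination h
  · refine ⟨d / b, ?_, by field_simp⟩
    field_simp
    linear_combination -h

end aux

/-- Over a field of characteristic different from 2 and 3, a nonzero binary quartic f has P(f) = Q(f) =
0 for the two basic invariants P, Q if and only if f has a triple zero. Stated for f = ∏_i (μ_i X₀ −
λ_i X₁) given by four root points (λ_i, μ_i) ≠ (0, 0) (over an algebraically closed field every
nonzero quartic form is of this shape), with the integral invariants I = 6P and J = 72Q of the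
coefficients of f; a triple zero means that three of the four root points are pairwise proportional. -/
theorem result (k : Type u) [Field k]
    (h2 : (2 : k) ≠ 0) (h3 : (3 : k) ≠ 0) (la mu : Fin 4 → k) (hne : ∀ i, la i ≠ 0 ∨ mu i ≠ 0) :
    (W4c6intromoduli.invI (W4c6intromoduli.coef la mu) = 0 ∧
        W4c6intromoduli.invJ (W4c6intromoduli.coef la mu) = 0) ↔
      ∃ i j l : Fin 4, i ≠ j ∧ j ≠ l ∧ i ≠ l ∧
        la i * mu j = la j * mu i ∧ la j * mu l = la l * mu j := by
  constructor
  · rintro ⟨hI, hJ⟩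
    have hD : disc la mu = 0 := by
      have h := Groth.Agent.Lib.Helper6.Quartic.main la mu
      rw [hI, hJ] at h
      have h27 : (27 : k) ≠ 0 := by
        have : (27 : k) = 3 ^ 3 := by norm_num
        rw [this]
        exact pow_ne_zero 3 h3
      have : (27 : k) * disc la mu = 0 := by rw [h]; ring
      rcases mul_eq_zero.mp this with h' | h'
      · exact absurd h' h27
      · exact h'
    have hpair : ∃ i j : Fin 4, i ≠ j ∧ la j * mu i = la i * mu j := by
      rw [disc_eq] at hD
      simp only [mul_eq_zero, ne_eq, OfNat.ofNat_ne_zero, not_false_eq_true, pow_eq_zero_iff,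
        sub_eq_zero] at hD
      rcases hD with ((((h | h) | h) | h) | h) | h
      · exact ⟨0, 1, by decide, h⟩
      · exact ⟨0, 2, by decide, h⟩
      · exact ⟨0, 3, by decide, h⟩
      · exact ⟨1, 2, by decide, h⟩
      · exact ⟨1, 3, by decide, h⟩
      · exact ⟨2, 3, by decide, h⟩
    obtain ⟨i, j, hij, hprop⟩ := hpair
    obtain ⟨σ, hσ0, hσ1⟩ := permD2 i j hij
    obtain ⟨c, hc1, hc2⟩ := prop_of_bracket (la i) (mu i) (la j) (mu j) (hne i) hprop.symm
    have hc0 : c ≠ 0 := by
      rintro rfl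
      rcases hne j with h | h
      · exact h (by rw [hc1, zero_mul])
      · exact h (by rw [hc2, zero_mul])
    have hB := specialB (la ∘ σ) (mu ∘ σ) c (by simp [hσ0, hσ1, hc1]) (by simp [hσ0, hσ1, hc2])
    rw [coef_perm, hI] at hB
    have hB' : (la i * mu (σ 2) - la (σ 2) * mu i) = 0 ∨ (la i * mu (σ 3) - la (σ 3) * mu i) = 0 := by
      simp only [Function.comp_apply, hσ0] at hB
      have := hB.symm
      simp only [mul_eq_zero, ne_eq, OfNat.ofNat_ne_zero, not_false_eq_true, pow_eq_zero_iff,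
        hc0, false_or] at this
      exact this
    have inj := σ.injective
    rcases hB' with h | h
    · refine ⟨j, i, σ 2, hij.symm, ?_, ?_, hprop, sub_eq_zero.mp h⟩
      · rw [← hσ0]; exact fun e => absurd (inj e) (by decide)
      · rw [← hσ1]; exact fun e => absurd (inj e) (by decide)
    · refine ⟨j, i, σ 3, hij.symm, ?_, ?_, hprop, sub_eq_zero.mp h⟩
      · rw [← hσ0]; exact fun e => absurd (inj e) (by decide)
      · rw [← hσ1]; exact fun e => absurd (inj e) (by decide)
  · rintro ⟨i, j, l, hij, hjl, hil, h1, h2⟩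
    obtain ⟨σ, hσ0, hσ1, hσ2⟩ := permD i j l hij hjl hil
    obtain ⟨c0, hc01, hc02⟩ := prop_of_bracket (la j) (mu j) (la i) (mu i) (hne j) h1.symm
    obtain ⟨c2, hc21, hc22⟩ := prop_of_bracket (la j) (mu j) (la l) (mu l) (hne j) h2
    have hA := specialA (la ∘ σ) (mu ∘ σ) c0 c2 (by simp [hσ0, hσ1, hc01]) (by simp [hσ0, hσ1, hc02])
      (by simp [hσ2, hσ1, hc21]) (by simp [hσ2, hσ1, hc22])
    rw [coef_perm] at hA
    exact hA

end Groth.Agent.S19392
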