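import Groth.Statements.S19393
import Groth.Agent.Lib.Helper6.Quartic

set_option autoImplicit false
universe u
open InvQ

namespace Groth.Agent.S19393

open W4c6intromoduli MvPolynomial

variable {k : Type u} [Field k]

theorem subst_lin (M : Matrix (Fin 2) (Fin 2) k) (x y : k) :
    subst M (C y * X 0 - C x * X 1) =
      C (y * M 0 0 - x * M 1 0) * X 0 - C (x * M 1 1 - y * M 0 1) * X 1 := by
  unfold subst
  simp only [map_sub, map_mul, aeval_X, Fin.sum_univ_two, MvPolynomial.algHom_C,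
    MvPolynomial.algebraMap_eq]
  ring

theorem lin_scale (d x y x' y' : k) (hx : x = d * x') (hy : y = d * y') :
    (C y * X 0 - C x * X 1 : MvPolynomial (Fin 2) k) = C d * (C y' * X 0 - C x' * X 1) := by
  rw [hx, hy, map_mul, map_mul]
  ring

theorem core (a b a' b' : Fin 4 → k)
    (h01 : a 0 * b 1 - a 1 * b 0 ≠ 0) (h02 : a 0 * b 2 - a 2 * b 0 ≠ 0)
    (h21 : a 2 * b 1 - a 1 * b 2 ≠ 0) (h31 : a 3 * b 1 - a 1 * b 3 ≠ 0)
    (h01' : a' 0 * b' 1 - a' 1 * b' 0 ≠ 0) (h02' : a' 0 * b' 2 - a' 2 * b' 0 ≠ 0)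
    (h21' : a' 2 * b' 1 - a' 1 * b' 2 ≠ 0) (h31' : a' 3 * b' 1 - a' 1 * b' 3 ≠ 0)
    (hcr : ((a' 0 * b' 2 - a' 2 * b' 0) * (a' 3 * b' 1 - a' 1 * b' 3)) *
        ((a 0 * b 3 - a 3 * b 0) * (a 1 * b 2 - a 2 * b 1)) =
      ((a 0 * b 2 - a 2 * b 0) * (a 3 * b 1 - a 1 * b 3)) *
        ((a' 0 * b' 3 - a' 3 * b' 0) * (a' 1 * b' 2 - a' 2 * b' 1))) :
    ∃ (M : Matrix (Fin 2) (Fin 2) k) (c : k), IsUnit M.det ∧ c ≠ 0 ∧
      binForm a' b' = C c * subst M (binForm a b) := by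
  obtain ⟨c0, hc0⟩ : ∃ c0, c0 = (a' 2 * b' 1 - a' 1 * b' 2) * (a 0 * b 2 - a 2 * b 0) := ⟨_, rfl⟩
  obtain ⟨c1, hc1⟩ : ∃ c1, c1 = (a' 0 * b' 2 - a' 2 * b' 0) * (a 2 * b 1 - a 1 * b 2) := ⟨_, rfl⟩
  have hc0n : c0 ≠ 0 := by rw [hc0]; exact mul_ne_zero h21' h02
  have hc1n : c1 ≠ 0 := by rw [hc1]; exact mul_ne_zero h02' h21
  obtain ⟨N00, hN00⟩ : ∃ z, z = c0 * a' 0 * b 1 - c1 * a' 1 * b 0 := ⟨_, rfl⟩
  obtain ⟨N01, hN01⟩ : ∃ z, z = -(c0 * a' 0 * a 1) + c1 * a' 1 * a 0 := ⟨_, rfl⟩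
  obtain ⟨N10, hN10⟩ : ∃ z, z = c0 * b' 0 * b 1 - c1 * b' 1 * b 0 := ⟨_, rfl⟩
  obtain ⟨N11, hN11⟩ : ∃ z, z = -(c0 * b' 0 * a 1) + c1 * b' 1 * a 0 := ⟨_, rfl⟩
  obtain ⟨d0, hd0⟩ : ∃ z, z = (a 0 * b 1 - a 1 * b 0) * c0 := ⟨_, rfl⟩
  obtain ⟨d1, hd1⟩ : ∃ z, z = (a 0 * b 1 - a 1 * b 0) * c1 := ⟨_, rfl⟩
  obtain ⟨d2, hd2⟩ : ∃ z, z = (a 2 * b 1 - a 1 * b 2) * (a 0 * b 2 - a 2 * b 0) *
    (a' 0 * b' 1 - a' 1 * b' 0) := ⟨_, rfl⟩
  obtain ⟨d3, hd3⟩ : ∃ z, z = (a' 0 * b' 1 - a' 1 * b' 0) * (a 3 * b 1 - a 1 * b 3) *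
    (a' 2 * b' 1 - a' 1 * b' 2) * (a 0 * b 2 - a 2 * b 0) / (a' 3 * b' 1 - a' 1 * b' 3) := ⟨_, rfl⟩
  have hd0n : d0 ≠ 0 := by rw [hd0]; exact mul_ne_zero h01 hc0n
  have hd1n : d1 ≠ 0 := by rw [hd1]; exact mul_ne_zero h01 hc1n
  have hd2n : d2 ≠ 0 := by rw [hd2]; exact mul_ne_zero (mul_ne_zero h21 h02) h01'
  have hd3n : d3 ≠ 0 := by
    rw [hd3]
    exact div_ne_zero (mul_ne_zero (mul_ne_zero (mul_ne_zero h01' h31) h21') h02) h31'
  have e0x : N00 * a 0 + N01 * b 0 = d0 * a' 0 := by rw [hN00, hN01, hd0]; ring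
  have e0y : N10 * a 0 + N11 * b 0 = d0 * b' 0 := by rw [hN10, hN11, hd0]; ring
  have e1x : N00 * a 1 + N01 * b 1 = d1 * a' 1 := by rw [hN00, hN01, hd1]; ring
  have e1y : N10 * a 1 + N11 * b 1 = d1 * b' 1 := by rw [hN10, hN11, hd1]; ring
  have e2x : N00 * a 2 + N01 * b 2 = d2 * a' 2 := by rw [hN00, hN01, hd2, hc0, hc1]; ring
  have e2y : N10 * a 2 + N11 * b 2 = d2 * b' 2 := by rw [hN10, hN11, hd2, hc0, hc1]; ring
  have e3x : N00 * a 3 + N01 * b 3 = d3 * a' 3 := by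
    rw [hN00, hN01, hd3, hc0, hc1, div_mul_eq_mul_div, eq_div_iff h31']
    linear_combination (-(a' 1)) * hcr
  have e3y : N10 * a 3 + N11 * b 3 = d3 * b' 3 := by
    rw [hN10, hN11, hd3, hc0, hc1, div_mul_eq_mul_div, eq_div_iff h31']
    linear_combination (-(b' 1)) * hcr
  refine ⟨!![N11, -N01; -N10, N00], (d0 * d1 * d2 * d3)⁻¹, ?_, ?_, ?_⟩
  · rw [Matrix.det_fin_two_of, isUnit_iff_ne_zero]
    have : N11 * N00 - -N01 * -N10 = c0 * c1 * (a' 0 * b' 1 - a' 1 * b' 0) * (a 0 * b 1 - a 1 * b 0) := by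
      rw [hN00, hN01, hN10, hN11]; ring
    rw [this]
    exact mul_ne_zero (mul_ne_zero (mul_ne_zero hc0n hc1n) h01') h01
  · exact inv_ne_zero (mul_ne_zero (mul_ne_zero (mul_ne_zero hd0n hd1n) hd2n) hd3n)
  · have key : ∀ (x y x' y' d : k), N00 * x + N01 * y = d * x' → N10 * x + N11 * y = d * y' →
        subst !![N11, -N01; -N10, N00] (C y * X 0 - C x * X 1) = C d * (C y' * X 0 - C x' * X 1) := by
      intro x y x' y' d hx hy
      rw [subst_lin]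
      apply lin_scale
      · simp only [Matrix.of_apply, Matrix.cons_val', Matrix.cons_val_zero, Matrix.cons_val_one,
          Matrix.cons_val_fin_one]
        linear_combination hx
      · simp only [Matrix.of_apply, Matrix.cons_val', Matrix.cons_val_zero, Matrix.cons_val_one,
          Matrix.cons_val_fin_one]
        linear_combination hy
    simp only [binForm, Fin.prod_univ_four, map_mul]
    rw [key _ _ _ _ _ e0x e0y, key _ _ _ _ _ e1x e1y, key _ _ _ _ _ e2x e2y, key _ _ _ _ _ e3x e3y]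
    have hC : (C (d0 * d1 * d2 * d3)⁻¹ : MvPolynomial (Fin 2) k) * (C d0 * C d1 * C d2 * C d3) = 1 := by
      rw [← map_mul, ← map_mul, ← map_mul, ← map_mul, inv_mul_cancel₀, map_one]
      exact mul_ne_zero (mul_ne_zero (mul_ne_zero hd0n hd1n) hd2n) hd3n
    linear_combination (-(C (b' 0) * X 0 - C (a' 0) * X 1) * (C (b' 1) * X 0 - C (a' 1) * X 1) *
      (C (b' 2) * X 0 - C (a' 2) * X 1) * (C (b' 3) * X 0 - C (a' 3) * X 1)) * hC



theorem find_s0 (I I' E E' : k) (hE : E ≠ 0) (hE' : E' ≠ 0) (hI' : I' ≠ 0)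
    (h : I^3 * E'^2 = I'^3 * E^2) :
    I' = ((E' / E) * (I / I'))^2 * I ∧ E' = ((E' / E) * (I / I'))^3 * E := by
  constructor
  · field_simp
    linear_combination -h
  · field_simp
    linear_combination -h

theorem find_s (u v u' v' : k) (hn : u * v * (u + v) ≠ 0) (hn' : u' * v' * (u' + v') ≠ 0)
    (h : (u^2+u*v+v^2)^3 * (u'*v'*(u'+v'))^2 = (u'^2+u'*v'+v'^2)^3 * (u*v*(u+v))^2) :
    ∃ s : k, u'^2+u'*v'+v'^2 = s^2*(u^2+u*v+v^2) ∧ u'*v'*(u'+v') = s^3*(u*v*(u+v)) := by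
  by_cases hI : u^2+u*v+v^2 = 0
  · have hI' : u'^2+u'*v'+v'^2 = 0 := by
      rw [hI] at h
      have h2 : (u'^2+u'*v'+v'^2)^3 * (u*v*(u+v))^2 = 0 := by rw [← h]; ring
      rcases mul_eq_zero.mp h2 with h3 | h3
      · exact pow_eq_zero_iff (by norm_num) |>.mp h3
      · exact absurd (pow_eq_zero_iff (by norm_num) |>.mp h3) hn
    have hu : u ≠ 0 := fun h0 => hn (by rw [h0]; ring)
    refine ⟨u' / u, ?_, ?_⟩
    · rw [hI, hI']; ring
    · have e1 : u' * v' * (u' + v') = -u'^3 := by linear_combination u' * hI'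
      have e2 : u * v * (u + v) = -u^3 := by linear_combination u * hI
      rw [e1, e2]
      field_simp
  · have hI' : u'^2+u'*v'+v'^2 ≠ 0 := by
      intro h0
      rw [h0] at h
      have h2 : (u^2+u*v+v^2)^3 * (u'*v'*(u'+v'))^2 = 0 := by rw [h]; ring
      rcases mul_eq_zero.mp h2 with h3 | h3
      · exact hI (pow_eq_zero_iff (by norm_num) |>.mp h3)
      · exact hn' (pow_eq_zero_iff (by norm_num) |>.mp h3)
    exact ⟨_, find_s0 _ _ _ _ hn hn' hI' h⟩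

theorem perm_cases (u v u' v' s : k)
    (he2 : u'^2+u'*v'+v'^2 = s^2*(u^2+u*v+v^2)) (he3 : u'*v'*(u'+v') = s^3*(u*v*(u+v))) :
    (u' = s*u ∧ v' = s*v) ∨ (u' = s*u ∧ v' = s*(-u-v)) ∨ (u' = s*v ∧ v' = s*u) ∨
    (u' = s*v ∧ v' = s*(-u-v)) ∨ (u' = s*(-u-v) ∧ v' = s*u) ∨ (u' = s*(-u-v) ∧ v' = s*v) := by
  have h1 : (u' - s*u) * (u' - s*v) * (u' - s*(-u-v)) = 0 := by
    linear_combination u' * he2 - he3
  rcases mul_eq_zero.mp h1 with h1 | h1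
  · rcases mul_eq_zero.mp h1 with h1 | h1
    · have hu : u' = s*u := by linear_combination h1
      have h2 : (v' - s*v) * (v' - s*(-u-v)) = 0 := by
        rw [hu] at he2
        linear_combination he2
      rcases mul_eq_zero.mp h2 with h2 | h2
      · exact Or.inl ⟨hu, by linear_combination h2⟩
      · exact Or.inr (Or.inl ⟨hu, by linear_combination h2⟩)
    · have hu : u' = s*v := by linear_combination h1
      have h2 : (v' - s*u) * (v' - s*(-u-v)) = 0 := by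
        rw [hu] at he2
        linear_combination he2
      rcases mul_eq_zero.mp h2 with h2 | h2
      · exact Or.inr (Or.inr (Or.inl ⟨hu, by linear_combination h2⟩))
      · exact Or.inr (Or.inr (Or.inr (Or.inl ⟨hu, by linear_combination h2⟩)))
  · have hu : u' = s*(-u-v) := by linear_combination h1
    have h2 : (v' - s*u) * (v' - s*v) = 0 := by
      rw [hu] at he2
      linear_combination he2
    rcases mul_eq_zero.mp h2 with h2 | h2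
    · exact Or.inr (Or.inr (Or.inr (Or.inr (Or.inl ⟨hu, by linear_combination h2⟩))))
    · exact Or.inr (Or.inr (Or.inr (Or.inr (Or.inr ⟨hu, by linear_combination h2⟩))))

theorem core' (a0 a1 a2 a3 b0 b1 b2 b3 : k) (a' b' : Fin 4 → k)
    (h01 : a0 * b1 - a1 * b0 ≠ 0) (h02 : a0 * b2 - a2 * b0 ≠ 0)
    (h21 : a2 * b1 - a1 * b2 ≠ 0) (h31 : a3 * b1 - a1 * b3 ≠ 0)
    (h01' : a' 0 * b' 1 - a' 1 * b' 0 ≠ 0) (h02' : a' 0 * b' 2 - a' 2 * b' 0 ≠ 0)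
    (h21' : a' 2 * b' 1 - a' 1 * b' 2 ≠ 0) (h31' : a' 3 * b' 1 - a' 1 * b' 3 ≠ 0)
    (s : k)
    (hU : (a' 0 * b' 1 - a' 1 * b' 0) * (a' 2 * b' 3 - a' 3 * b' 2) =
      s * ((a0 * b1 - a1 * b0) * (a2 * b3 - a3 * b2)))
    (hV : (a' 0 * b' 2 - a' 2 * b' 0) * (a' 3 * b' 1 - a' 1 * b' 3) =
      s * ((a0 * b2 - a2 * b0) * (a3 * b1 - a1 * b3))) :
    ∃ (M : Matrix (Fin 2) (Fin 2) k) (c : k), IsUnit M.det ∧ c ≠ 0 ∧
      binForm a' b' = C c * subst M ((C b0 * X 0 - C a0 * X 1) * (C b1 * X 0 - C a1 * X 1) *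
        (C b2 * X 0 - C a2 * X 1) * (C b3 * X 0 - C a3 * X 1)) := by
  have := core ![a0, a1, a2, a3] ![b0, b1, b2, b3] a' b' (by simpa using h01) (by simpa using h02)
    (by simpa using h21) (by simpa using h31) h01' h02' h21' h31' (by
      simp only [Matrix.cons_val_zero, Matrix.cons_val_one, Matrix.cons_val]
      linear_combination (-((a0 * b1 - a1 * b0) * (a2 * b3 - a3 * b2))) * hV +
        ((a0 * b2 - a2 * b0) * (a3 * b1 - a1 * b3)) * hU)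
  obtain ⟨M, c, hM, hc, heq⟩ := this
  refine ⟨M, c, hM, hc, ?_⟩
  rw [heq]
  simp [binForm, Fin.prod_univ_four]

theorem br_ne (la mu : Fin 4 → k) (hd : disc la mu ≠ 0) (i j : Fin 4) (hij : i ≠ j) :
    la i * mu j - la j * mu i ≠ 0 := by
  rw [Groth.Agent.Lib.Helper6.Quartic.disc_eq] at hd
  simp only [ne_eq, mul_eq_zero, not_or, pow_eq_zero_iff (two_ne_zero)] at hd
  obtain ⟨⟨⟨⟨⟨h10, h20⟩, h30⟩, h21⟩, h31⟩, h32⟩ := hd
  intro h
  fin_cases i <;> fin_cases j <;> simp only [Fin.zero_eta, Fin.mk_one, Fin.reduceFinMk] at h hij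
  all_goals first
    | exact absurd rfl hij
    | exact h10 (by linear_combination h)
    | exact h10 (by linear_combination -h)
    | exact h20 (by linear_combination h)
    | exact h20 (by linear_combination -h)
    | exact h30 (by linear_combination h)
    | exact h30 (by linear_combination -h)
    | exact h21 (by linear_combination h)
    | exact h21 (by linear_combination -h)
    | exact h31 (by linear_combination h)
    | exact h31 (by linear_combination -h)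
    | exact h32 (by linear_combination h)
    | exact h32 (by linear_combination -h)

theorem invI_eq (la mu : Fin 4 → k) :
    invI (coef la mu) =
      ((la 0 * mu 1 - la 1 * mu 0) * (la 2 * mu 3 - la 3 * mu 2)) ^ 2 +
      ((la 0 * mu 1 - la 1 * mu 0) * (la 2 * mu 3 - la 3 * mu 2)) *
        ((la 0 * mu 2 - la 2 * mu 0) * (la 3 * mu 1 - la 1 * mu 3)) +
      ((la 0 * mu 2 - la 2 * mu 0) * (la 3 * mu 1 - la 1 * mu 3)) ^ 2 := by
  rw [invI, Groth.Agent.Lib.Helper6.Quartic.coef0, Groth.Agent.Lib.Helper6.Quartic.coef1,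
    Groth.Agent.Lib.Helper6.Quartic.coef2, Groth.Agent.Lib.Helper6.Quartic.coef3,
    Groth.Agent.Lib.Helper6.Quartic.coef4]
  ring

theorem disc_eq' (la mu : Fin 4 → k) :
    disc la mu =
      (((la 0 * mu 1 - la 1 * mu 0) * (la 2 * mu 3 - la 3 * mu 2)) *
        ((la 0 * mu 2 - la 2 * mu 0) * (la 3 * mu 1 - la 1 * mu 3)) *
        (((la 0 * mu 1 - la 1 * mu 0) * (la 2 * mu 3 - la 3 * mu 2)) +
          ((la 0 * mu 2 - la 2 * mu 0) * (la 3 * mu 1 - la 1 * mu 3)))) ^ 2 := by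
  rw [Groth.Agent.Lib.Helper6.Quartic.disc_eq]
  ring


theorem result (k : Type u) [Field k]
    (h2 : (2 : k) ≠ 0) (h3 : (3 : k) ≠ 0) (la mu la' mu' : Fin 4 → k)
    (hne : ∀ i, la i ≠ 0 ∨ mu i ≠ 0) (hne' : ∀ i, la' i ≠ 0 ∨ mu' i ≠ 0)
    (hd : W4c6intromoduli.disc la mu ≠ 0) (hd' : W4c6intromoduli.disc la' mu' ≠ 0)
    (h : W4c6intromoduli.invI (W4c6intromoduli.coef la mu) ^ 3
          * W4c6intromoduli.invJ (W4c6intromoduli.coef la' mu') ^ 2 =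
        W4c6intromoduli.invI (W4c6intromoduli.coef la' mu') ^ 3
          * W4c6intromoduli.invJ (W4c6intromoduli.coef la mu) ^ 2) :
    ∃ (M : Matrix (Fin 2) (Fin 2) k) (c : k), IsUnit M.det ∧ c ≠ 0 ∧
      W4c6intromoduli.binForm la' mu' =
        MvPolynomial.C c * W4c6intromoduli.subst M (W4c6intromoduli.binForm la mu) := by
  have hJ := Groth.Agent.Lib.Helper6.Quartic.main la mu
  have hJ' := Groth.Agent.Lib.Helper6.Quartic.main la' mu'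
  have h27 : (27 : k) ≠ 0 := by
    have : (27 : k) = 3 ^ 3 := by norm_num
    rw [this]
    exact pow_ne_zero 3 h3
  have hID : invI (coef la mu) ^ 3 * disc la' mu' = invI (coef la' mu') ^ 3 * disc la mu := by
    apply mul_left_cancel₀ h27
    linear_combination (invI (coef la mu) ^ 3) * hJ' - (invI (coef la' mu') ^ 3) * hJ - h
  have hbr := br_ne la mu hd
  have hbr' := br_ne la' mu' hd'
  rw [invI_eq, invI_eq, disc_eq', disc_eq'] at hID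
  rw [disc_eq'] at hd hd'
  obtain ⟨s, hs2, hs3⟩ := find_s _ _ _ _ (fun h0 => hd (by rw [h0]; ring))
    (fun h0 => hd' (by rw [h0]; ring)) hID
  have hbin : ∀ t0 t1 t2 t3 : Fin 4, (t0 = 0 ∧ t1 = 1 ∧ t2 = 2 ∧ t3 = 3) ∨
      (t0 = 1 ∧ t1 = 0 ∧ t2 = 2 ∧ t3 = 3) ∨ (t0 = 2 ∧ t1 = 1 ∧ t2 = 0 ∧ t3 = 3) ∨
      (t0 = 3 ∧ t1 = 1 ∧ t2 = 2 ∧ t3 = 0) ∨ (t0 = 1 ∧ t1 = 2 ∧ t2 = 0 ∧ t3 = 3) ∨
      (t0 = 2 ∧ t1 = 0 ∧ t2 = 1 ∧ t3 = 3) →
      (C (mu t0) * X 0 - C (la t0) * X 1) * (C (mu t1) * X 0 - C (la t1) * X 1) *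
        (C (mu t2) * X 0 - C (la t2) * X 1) * (C (mu t3) * X 0 - C (la t3) * X 1) =
      binForm la mu := by
    intro t0 t1 t2 t3 ht
    rw [binForm, Fin.prod_univ_four]
    rcases ht with ⟨rfl, rfl, rfl, rfl⟩ | ⟨rfl, rfl, rfl, rfl⟩ | ⟨rfl, rfl, rfl, rfl⟩ |
      ⟨rfl, rfl, rfl, rfl⟩ | ⟨rfl, rfl, rfl, rfl⟩ | ⟨rfl, rfl, rfl, rfl⟩ <;> ring
  rcases perm_cases _ _ _ _ s hs2 hs3 with ⟨e1, e2⟩ | ⟨e1, e2⟩ | ⟨e1, e2⟩ | ⟨e1, e2⟩ | ⟨e1, e2⟩ | ⟨e1, e2⟩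
  · obtain ⟨M, c, hM, hc, heq⟩ := core' (la 0) (la 1) (la 2) (la 3) (mu 0) (mu 1) (mu 2) (mu 3) la' mu'
      (hbr 0 1 (by decide)) (hbr 0 2 (by decide)) (hbr 2 1 (by decide)) (hbr 3 1 (by decide))
      (hbr' 0 1 (by decide)) (hbr' 0 2 (by decide)) (hbr' 2 1 (by decide)) (hbr' 3 1 (by decide))
      s (by rw [e1]) (by rw [e2])
    exact ⟨M, c, hM, hc, by rw [heq, hbin 0 1 2 3 (by decide)]⟩
  · obtain ⟨M, c, hM, hc, heq⟩ := core' (la 1) (la 0) (la 2) (la 3) (mu 1) (mu 0) (mu 2) (mu 3) la' mu'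
      (hbr 1 0 (by decide)) (hbr 1 2 (by decide)) (hbr 2 0 (by decide)) (hbr 3 0 (by decide))
      (hbr' 0 1 (by decide)) (hbr' 0 2 (by decide)) (hbr' 2 1 (by decide)) (hbr' 3 1 (by decide))
      (-s) (by rw [e1]; ring) (by rw [e2]; ring)
    exact ⟨M, c, hM, hc, by rw [heq, hbin 1 0 2 3 (by decide)]⟩
  · obtain ⟨M, c, hM, hc, heq⟩ := core' (la 3) (la 1) (la 2) (la 0) (mu 3) (mu 1) (mu 2) (mu 0) la' mu'
      (hbr 3 1 (by decide)) (hbr 3 2 (by decide)) (hbr 2 1 (by decide)) (hbr 0 1 (by decide))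
      (hbr' 0 1 (by decide)) (hbr' 0 2 (by decide)) (hbr' 2 1 (by decide)) (hbr' 3 1 (by decide))
      (-s) (by rw [e1]; ring) (by rw [e2]; ring)
    exact ⟨M, c, hM, hc, by rw [heq, hbin 3 1 2 0 (by decide)]⟩
  · obtain ⟨M, c, hM, hc, heq⟩ := core' (la 2) (la 0) (la 1) (la 3) (mu 2) (mu 0) (mu 1) (mu 3) la' mu'
      (hbr 2 0 (by decide)) (hbr 2 1 (by decide)) (hbr 1 0 (by decide)) (hbr 3 0 (by decide))
      (hbr' 0 1 (by decide)) (hbr' 0 2 (by decide)) (hbr' 2 1 (by decide)) (hbr' 3 1 (by decide))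
      s (by rw [e1]; ring) (by rw [e2]; ring)
    exact ⟨M, c, hM, hc, by rw [heq, hbin 2 0 1 3 (by decide)]⟩
  · obtain ⟨M, c, hM, hc, heq⟩ := core' (la 1) (la 2) (la 0) (la 3) (mu 1) (mu 2) (mu 0) (mu 3) la' mu'
      (hbr 1 2 (by decide)) (hbr 1 0 (by decide)) (hbr 0 2 (by decide)) (hbr 3 2 (by decide))
      (hbr' 0 1 (by decide)) (hbr' 0 2 (by decide)) (hbr' 2 1 (by decide)) (hbr' 3 1 (by decide))
      s (by rw [e1]; ring) (by rw [e2]; ring)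
    exact ⟨M, c, hM, hc, by rw [heq, hbin 1 2 0 3 (by decide)]⟩
  · obtain ⟨M, c, hM, hc, heq⟩ := core' (la 2) (la 1) (la 0) (la 3) (mu 2) (mu 1) (mu 0) (mu 3) la' mu'
      (hbr 2 1 (by decide)) (hbr 2 0 (by decide)) (hbr 0 1 (by decide)) (hbr 3 1 (by decide))
      (hbr' 0 1 (by decide)) (hbr' 0 2 (by decide)) (hbr' 2 1 (by decide)) (hbr' 3 1 (by decide))
      (-s) (by rw [e1]; ring) (by rw [e2]; ring)
    exact ⟨M, c, hM, hc, by rw [heq, hbin 2 1 0 3 (by decide)]⟩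

end Groth.Agent.S19393
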