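import Groth.Statements.S19394
import Mathlib.LinearAlgebra.Projection
import Mathlib.LinearAlgebra.Matrix.ToLin
import Mathlib.Algebra.Polynomial.Roots

set_option autoImplicit false
universe u
open InvQ

namespace Groth.Agent.S19394

variable {k : Type u} [Field k]

theorem eval_aeval_poly {σ : Type*} (g : σ → Polynomial k) (t : k) (F : MvPolynomial σ k) :
    Polynomial.eval t (MvPolynomial.aeval g F) =
      MvPolynomial.eval (fun p => Polynomial.eval t (g p)) F := by
  induction F using MvPolynomial.induction_on with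
  | C a => simp
  | add p q hp hq => simp [hp, hq]
  | mul_X p i hp => simp [hp]

theorem one_param [Infinite k] {n : ℕ} (F : MvPolynomial (Fin n × Fin n) k)
    (C0 C1 : Matrix (Fin n) (Fin n) k)
    (h : ∀ t : k, t ≠ 0 → MvPolynomial.eval (fun p => (C0 + t • C1) p.1 p.2) F = 0) :
    MvPolynomial.eval (fun p => C0 p.1 p.2) F = 0 := by
  obtain ⟨G, hG⟩ : ∃ G : Polynomial k, G = MvPolynomial.aeval
    (fun p : Fin n × Fin n => Polynomial.C (C0 p.1 p.2) + Polynomial.X * Polynomial.C (C1 p.1 p.2)) F :=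
    ⟨_, rfl⟩
  have hev : ∀ t : k, Polynomial.eval t G =
      MvPolynomial.eval (fun p => (C0 + t • C1) p.1 p.2) F := by
    intro t
    rw [hG, eval_aeval_poly]
    simp only [Polynomial.eval_add, Polynomial.eval_mul, Polynomial.eval_C, Polynomial.eval_X,
      Matrix.add_apply, Matrix.smul_apply, smul_eq_mul]
  have hG0 : G = 0 := by
    apply Polynomial.eq_zero_of_infinite_isRoot
    apply Set.Infinite.mono (s := ({0} : Set k)ᶜ)
    · intro t ht
      simp only [Set.mem_compl_iff, Set.mem_singleton_iff] at ht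
      simp only [Set.mem_ofPred_eq, Polynomial.IsRoot.def]
      rw [hev t, h t ht]
    · exact (Set.finite_singleton 0).infinite_compl
  have := hev 0
  rw [hG0] at this
  simp only [Polynomial.eval_zero, zero_smul, add_zero] at this
  exact this.symm

theorem exists_proj {n : ℕ} (S N : Matrix (Fin n) (Fin n) k)
    (hS : Module.End.IsSemisimple (Matrix.toLin' S)) (hSN : Commute S N) (m : ℕ)
    (hN : N ^ (m + 1) = 0) :
    ∃ P : Matrix (Fin n) (Fin n) k, P * P = P ∧ Commute P S ∧ P * N = 0 ∧ N ^ m * (1 - P) = 0 := by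
  obtain ⟨W, hW⟩ : ∃ W : Submodule k (Fin n → k), W = LinearMap.ker (Matrix.toLin' (N ^ m)) := ⟨_, rfl⟩
  have hWinv : W ∈ Module.End.invtSubmodule (Matrix.toLin' S) := by
    rw [Module.End.mem_invtSubmodule]
    intro x hx
    rw [hW, LinearMap.mem_ker] at hx
    rw [Submodule.mem_comap, hW, LinearMap.mem_ker, ← LinearMap.comp_apply, ← Matrix.toLin'_mul,
      ← (hSN.pow_right m).eq, Matrix.toLin'_mul, LinearMap.comp_apply, hx, map_zero]
  obtain ⟨q, hqinv, hWq⟩ := Module.End.isSemisimple_iff.mp hS W hWinv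
  obtain ⟨Pl, hPl⟩ : ∃ Pl, Pl = q.projection W hWq.symm := ⟨_, rfl⟩
  have hidem : IsIdempotentElem Pl := by
    rw [hPl]
    exact Submodule.isIdempotentElem_projection hWq.symm
  have hker : LinearMap.ker Pl = W := by rw [hPl]; exact Submodule.ker_projection hWq.symm
  have hrange : LinearMap.range Pl = q := by rw [hPl]; exact Submodule.range_projection hWq.symm
  have hcomm : Commute Pl (Matrix.toLin' S) := by
    rw [LinearMap.IsIdempotentElem.commute_iff hidem, hker, hrange]
    exact ⟨hqinv, hWinv⟩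
  have hinj : Function.Injective (Matrix.toLin' : Matrix (Fin n) (Fin n) k → _) :=
    Matrix.toLin'.injective
  refine ⟨LinearMap.toMatrix' Pl, ?_, ?_, ?_, ?_⟩
  · apply hinj
    rw [Matrix.toLin'_mul, Matrix.toLin'_toMatrix']
    exact hidem.eq
  · apply hinj
    rw [Matrix.toLin'_mul, Matrix.toLin'_mul, Matrix.toLin'_toMatrix']
    exact hcomm.eq
  · apply hinj
    rw [Matrix.toLin'_mul, Matrix.toLin'_toMatrix', map_zero]
    apply LinearMap.ext
    intro x
    rw [LinearMap.comp_apply, LinearMap.zero_apply, ← LinearMap.mem_ker, hker, hW, LinearMap.mem_ker,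
      ← LinearMap.comp_apply, ← Matrix.toLin'_mul, ← pow_succ, hN, map_zero, LinearMap.zero_apply]
  · apply hinj
    rw [Matrix.toLin'_mul, map_sub, Matrix.toLin'_toMatrix', map_zero, Matrix.toLin'_one]
    apply LinearMap.ext
    intro x
    rw [LinearMap.comp_apply, LinearMap.zero_apply, ← LinearMap.mem_ker, ← hW, LinearMap.sub_apply,
      LinearMap.id_apply, hPl]
    exact Submodule.sub_projection_mem hWq.symm x

theorem conj_family {n : ℕ} (S N P : Matrix (Fin n) (Fin n) k) (hPP : P * P = P)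
    (hPS : Commute P S) (hPN : P * N = 0) (t : k) (ht : t ≠ 0) :
    (t • (1 - P) + P) * (t⁻¹ • (1 - P) + P) = 1 ∧
    (t • (1 - P) + P) * (S + N) * (t⁻¹ • (1 - P) + P) = S + N * (1 - P) + t • (N * P) := by
  have h1 : (1 - P) * (1 - P) = 1 - P := by
    rw [mul_sub, mul_one, sub_mul, one_mul, hPP, sub_self, sub_zero]
  have h2 : (1 - P) * P = 0 := by rw [sub_mul, one_mul, hPP, sub_self]
  have h3 : P * (1 - P) = 0 := by rw [mul_sub, mul_one, hPP, sub_self]
  have hinv : (t • (1 - P) + P) * (t⁻¹ • (1 - P) + P) = 1 := by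
    rw [add_mul, mul_add, mul_add, smul_mul_smul_comm, h1, mul_inv_cancel₀ ht, one_smul,
      smul_mul_assoc, h2, smul_zero, mul_smul_comm, h3, smul_zero, hPP]
    simp
  refine ⟨hinv, ?_⟩
  have hAS : (t • (1 - P) + P) * S = S * (t • (1 - P) + P) := by
    rw [add_mul, mul_add, smul_mul_assoc, mul_smul_comm, sub_mul, mul_sub, one_mul, mul_one,
      hPS.eq]
  have hAN : (t • (1 - P) + P) * N = t • N := by
    rw [add_mul, smul_mul_assoc, sub_mul, one_mul, hPN, sub_zero, add_zero]
  calc (t • (1 - P) + P) * (S + N) * (t⁻¹ • (1 - P) + P)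
      = (S * (t • (1 - P) + P) + t • N) * (t⁻¹ • (1 - P) + P) := by
        rw [mul_add (t • (1 - P) + P) S N, hAS, hAN]
    _ = S * ((t • (1 - P) + P) * (t⁻¹ • (1 - P) + P)) + t • N * (t⁻¹ • (1 - P) + P) := by
        rw [add_mul, mul_assoc]
    _ = S + (N * (1 - P) + t • (N * P)) := by
        rw [hinv, mul_one, mul_add, smul_mul_smul_comm, mul_inv_cancel₀ ht, one_smul,
          smul_mul_assoc]
    _ = S + N * (1 - P) + t • (N * P) := by rw [add_assoc]

theorem main [Infinite k] {n : ℕ} : ∀ (m : ℕ) (S N : Matrix (Fin n) (Fin n) k),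
    Module.End.IsSemisimple (Matrix.toLin' S) → Commute S N → N ^ (m + 1) = 0 →
    ∀ F : MvPolynomial (Fin n × Fin n) k,
    (∀ A : Matrix (Fin n) (Fin n) k, IsUnit A.det →
      MvPolynomial.eval (fun p => (A * (S + N) * A⁻¹) p.1 p.2) F = 0) →
    MvPolynomial.eval (fun p => S p.1 p.2) F = 0 := by
  intro m
  induction m with
  | zero =>
    intro S N hS hSN hN F hF
    have hN0 : N = 0 := by simpa using hN
    have := hF 1 (by simp)
    simpa [hN0] using this
  | succ m ih =>
    intro S N hS hSN hN F hF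
    obtain ⟨P, hPP, hPS, hPN, hNP⟩ := exists_proj S N hS hSN (m + 1) hN
    have hN1 : (1 - P) * N = N := by rw [sub_mul, one_mul, hPN, sub_zero]
    have hpow : ∀ j : ℕ, (N * (1 - P)) ^ (j + 1) = N ^ (j + 1) * (1 - P) := by
      intro j
      induction j with
      | zero => simp
      | succ j ihj =>
        rw [pow_succ, ihj, mul_assoc, ← mul_assoc (1 - P), hN1, ← mul_assoc, ← pow_succ]
    apply ih S (N * (1 - P)) hS ?_ ?_ F ?_
    · exact hSN.mul_right ((Commute.one_right S).sub_right hPS.symm)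
    · rw [hpow, hNP]
    · intro A hA
      have hAA : A * A⁻¹ = 1 := Matrix.mul_nonsing_inv A hA
      have key : ∀ t : k, t ≠ 0 → MvPolynomial.eval
          (fun p => (A * (S + N * (1 - P)) * A⁻¹ + t • (A * (N * P) * A⁻¹)) p.1 p.2) F = 0 := by
        intro t ht
        obtain ⟨hinv, hconj⟩ := conj_family S N P hPP hPS hPN t ht
        have hinv2 : (A * (t • (1 - P) + P)) * ((t⁻¹ • (1 - P) + P) * A⁻¹) = 1 := by
          rw [mul_assoc, ← mul_assoc (t • (1 - P) + P), hinv, one_mul, hAA]
        have hdet : IsUnit (A * (t • (1 - P) + P)).det :=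
          Matrix.isUnit_det_of_right_inverse hinv2
        have hF' := hF (A * (t • (1 - P) + P)) hdet
        rw [Matrix.inv_eq_right_inv hinv2] at hF'
        have e : A * (t • (1 - P) + P) * (S + N) * ((t⁻¹ • (1 - P) + P) * A⁻¹) =
            A * (S + N * (1 - P)) * A⁻¹ + t • (A * (N * P) * A⁻¹) := by
          have : A * (t • (1 - P) + P) * (S + N) * ((t⁻¹ • (1 - P) + P) * A⁻¹) =
              A * ((t • (1 - P) + P) * (S + N) * (t⁻¹ • (1 - P) + P)) * A⁻¹ := by
            simp only [mul_assoc]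
          rw [this, hconj, mul_add, add_mul, mul_smul_comm, smul_mul_assoc]
        rw [e] at hF'
        exact hF'
      exact one_param F _ _ key

theorem result (k : Type u) [Field k] [IsAlgClosed k] (n : ℕ)
    (B S N : Matrix (Fin n) (Fin n) k) (hS : Module.End.IsSemisimple (Matrix.toLin' S))
    (hN : IsNilpotent N) (hSN : Commute S N) (hB : B = S + N)
    (F : MvPolynomial (Fin n × Fin n) k)
    (hF : ∀ A : Matrix (Fin n) (Fin n) k, IsUnit A.det →
      MvPolynomial.eval (fun p => (A * B * A⁻¹) p.1 p.2) F = 0) :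
    MvPolynomial.eval (fun p => S p.1 p.2) F = 0 := by
  obtain ⟨m, hm⟩ := hN
  subst hB
  exact main m S N hS hSN (by rw [pow_succ, hm, zero_mul]) F hF

end Groth.Agent.S19394
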