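import Groth.Statements.S19395
import Groth.Agent.S19394
import Mathlib.LinearAlgebra.Eigenspace.Semisimple
import Mathlib.LinearAlgebra.Eigenspace.Zero
import Mathlib.LinearAlgebra.Charpoly.ToMatrix
import Mathlib.LinearAlgebra.Matrix.MvPolynomial
import Mathlib.Algebra.DirectSum.Module
import Mathlib.LinearAlgebra.Dimension.Free

set_option autoImplicit false
universe u
open InvQ

namespace Groth.Agent.S19395

open Groth.Agent.S19394

variable {k : Type u} [Field k]

theorem lin_conj [IsAlgClosed k] {V : Type*} [AddCommGroup V] [Module k V] [FiniteDimensional k V]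
    (f₁ f₂ : Module.End k V) (h₁ : f₁.IsSemisimple) (h₂ : f₂.IsSemisimple)
    (hc : f₁.charpoly = f₂.charpoly) : ∃ e : V ≃ₗ[k] V, ∀ x, e (f₁ x) = f₂ (e x) := by
  classical
  have hint : ∀ f : Module.End k V, f.IsSemisimple →
      DirectSum.IsInternal (fun μ : k => f.eigenspace μ) := by
    intro f hf
    exact DirectSum.isInternal_submodule_of_iSupIndep_of_iSup_eq_top f.eigenspaces_iSupIndep
      hf.iSup_eigenspace_eq_top
  have hdim : ∀ f : Module.End k V, f.IsSemisimple → ∀ μ,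
      Module.finrank k (f.eigenspace μ) = f.charpoly.rootMultiplicity μ := by
    intro f hf μ
    rw [← LinearMap.finrank_maxGenEigenspace_eq,
      (Module.End.isFinitelySemisimple_iff_isSemisimple.mpr hf).maxGenEigenspace_eq_eigenspace]
  let b₁ : ∀ μ, Module.Basis (Fin (f₁.charpoly.rootMultiplicity μ)) k (f₁.eigenspace μ) :=
    fun μ => Module.finBasisOfFinrankEq k _ (hdim f₁ h₁ μ)
  let b₂ : ∀ μ, Module.Basis (Fin (f₁.charpoly.rootMultiplicity μ)) k (f₂.eigenspace μ) :=
    fun μ => Module.finBasisOfFinrankEq k _ (by rw [hdim f₂ h₂ μ, hc])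
  let B₁ := (hint f₁ h₁).collectedBasis b₁
  let B₂ := (hint f₂ h₂).collectedBasis b₂
  refine ⟨B₁.equiv B₂ (Equiv.refl _), ?_⟩
  have : (B₁.equiv B₂ (Equiv.refl _)).toLinearMap ∘ₗ f₁ =
      f₂ ∘ₗ (B₁.equiv B₂ (Equiv.refl _)).toLinearMap := by
    apply B₁.ext
    intro a
    have m1 := (hint f₁ h₁).collectedBasis_mem b₁ a
    have m2 := (hint f₂ h₂).collectedBasis_mem b₂ a
    rw [Module.End.mem_eigenspace_iff] at m1 m2
    simp only [LinearMap.comp_apply, LinearEquiv.coe_coe, Module.Basis.equiv_apply, Equiv.refl_apply]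
    rw [show f₁ (B₁ a) = a.1 • B₁ a from m1, show f₂ (B₂ a) = a.1 • B₂ a from m2, map_smul,
      Module.Basis.equiv_apply, Equiv.refl_apply]
  intro x
  exact LinearMap.congr_fun this x

theorem mat_conj [IsAlgClosed k] {n : ℕ} (S₁ S₂ : Matrix (Fin n) (Fin n) k)
    (h₁ : Module.End.IsSemisimple (Matrix.toLin' S₁)) (h₂ : Module.End.IsSemisimple (Matrix.toLin' S₂))
    (hc : S₁.charpoly = S₂.charpoly) :
    ∃ A : Matrix (Fin n) (Fin n) k, IsUnit A.det ∧ A * S₁ * A⁻¹ = S₂ := by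
  obtain ⟨e, he⟩ := lin_conj (Matrix.toLin' S₁) (Matrix.toLin' S₂) h₁ h₂ (by
    rw [Matrix.charpoly_toLin', Matrix.charpoly_toLin', hc])
  have hinj : Function.Injective (Matrix.toLin' : Matrix (Fin n) (Fin n) k → _) :=
    Matrix.toLin'.injective
  have hinv : LinearMap.toMatrix' e.toLinearMap * LinearMap.toMatrix' e.symm.toLinearMap = 1 := by
    rw [← LinearMap.toMatrix'_comp, LinearEquiv.comp_symm, LinearMap.toMatrix'_id]
  have hcomm : LinearMap.toMatrix' e.toLinearMap * S₁ = S₂ * LinearMap.toMatrix' e.toLinearMap := by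
    apply hinj
    rw [Matrix.toLin'_mul, Matrix.toLin'_mul, Matrix.toLin'_toMatrix']
    apply LinearMap.ext
    intro x
    exact he x
  refine ⟨LinearMap.toMatrix' e.toLinearMap, Matrix.isUnit_det_of_right_inverse hinv, ?_⟩
  rw [Matrix.inv_eq_right_inv hinv, hcomm, mul_assoc, hinv, mul_one]

noncomputable def cpoly (n : ℕ) (j : ℕ) : MvPolynomial (Fin n × Fin n) k :=
  (Matrix.mvPolynomialX (Fin n) (Fin n) k).charpoly.coeff j

theorem eval_cpoly {n : ℕ} (j : ℕ) (M : Matrix (Fin n) (Fin n) k) :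
    MvPolynomial.eval (fun p => M p.1 p.2) (cpoly n j) = M.charpoly.coeff j := by
  have h := Matrix.charpoly_map (Matrix.mvPolynomialX (Fin n) (Fin n) k)
    (MvPolynomial.eval fun p : Fin n × Fin n => M p.1 p.2)
  have h2 : (Matrix.mvPolynomialX (Fin n) (Fin n) k).map
      (MvPolynomial.eval fun p : Fin n × Fin n => M p.1 p.2) = M :=
    Matrix.mvPolynomialX_mapMatrix_eval M
  rw [h2] at h
  rw [h, Polynomial.coeff_map, cpoly]

theorem charpoly_eq_of_mem_closure {n : ℕ} (B C : Matrix (Fin n) (Fin n) k)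
    (hC : ∀ F : MvPolynomial (Fin n × Fin n) k,
      (∀ A : Matrix (Fin n) (Fin n) k, IsUnit A.det →
        MvPolynomial.eval (fun p => (A * B * A⁻¹) p.1 p.2) F = 0) →
      MvPolynomial.eval (fun p => C p.1 p.2) F = 0) :
    C.charpoly = B.charpoly := by
  ext j
  have := hC (cpoly n j - MvPolynomial.C (B.charpoly.coeff j)) (by
    intro A hA
    rw [map_sub, eval_cpoly, MvPolynomial.eval_C, sub_eq_zero]
    obtain ⟨u, hu⟩ := (Matrix.isUnit_iff_isUnit_det A).mpr hA
    rw [← hu, Matrix.charpoly_units_conj])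
  rw [map_sub, eval_cpoly, MvPolynomial.eval_C, sub_eq_zero] at this
  exact this

theorem main' [Infinite k] {n : ℕ} : ∀ (m : ℕ) (S N : Matrix (Fin n) (Fin n) k),
    Module.End.IsSemisimple (Matrix.toLin' S) → Commute S N → N ^ (m + 1) = 0 →
    ∀ F : MvPolynomial (Fin n × Fin n) k,
    (∀ A : Matrix (Fin n) (Fin n) k, IsUnit A.det →
      MvPolynomial.eval (fun p => (A * (S + N) * A⁻¹) p.1 p.2) F = 0) →
    ∀ A : Matrix (Fin n) (Fin n) k, IsUnit A.det →
      MvPolynomial.eval (fun p => (A * S * A⁻¹) p.1 p.2) F = 0 := by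
  intro m
  induction m with
  | zero =>
    intro S N hS hSN hN F hF A hA
    have hN0 : N = 0 := by simpa using hN
    have := hF A hA
    simpa [hN0] using this
  | succ m ih =>
    intro S N hS hSN hN F hF
    obtain ⟨P, hPP, hPS, hPN, hNP⟩ := exists_proj S N hS hSN (m + 1) hN
    have hN1 : (1 - P) * N = N := by rw [sub_mul, one_mul, hPN, sub_zero]
    have hpow : ∀ j : ℕ, (N * (1 - P)) ^ (j + 1) = N ^ (j + 1) * (1 - P) := by
      intro j
      induction j with
      | zero => simp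
      | succ j ihj =>
        rw [pow_succ, ihj, mul_assoc, ← mul_assoc (1 - P), hN1, ← mul_assoc, ← pow_succ]
    apply ih S (N * (1 - P)) hS ?_ ?_ F ?_
    · exact hSN.mul_right ((Commute.one_right S).sub_right hPS.symm)
    · rw [hpow, hNP]
    · intro A hA
      have hAA : A * A⁻¹ = 1 := Matrix.mul_nonsing_inv A hA
      have key : ∀ t : k, t ≠ 0 → MvPolynomial.eval
          (fun p => (A * (S + N * (1 - P)) * A⁻¹ + t • (A * (N * P) * A⁻¹)) p.1 p.2) F = 0 := by
        intro t ht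
        obtain ⟨hinv, hconj⟩ := conj_family S N P hPP hPS hPN t ht
        have hinv2 : (A * (t • (1 - P) + P)) * ((t⁻¹ • (1 - P) + P) * A⁻¹) = 1 := by
          rw [mul_assoc, ← mul_assoc (t • (1 - P) + P), hinv, one_mul, hAA]
        have hdet : IsUnit (A * (t • (1 - P) + P)).det :=
          Matrix.isUnit_det_of_right_inverse hinv2
        have hF' := hF (A * (t • (1 - P) + P)) hdet
        rw [Matrix.inv_eq_right_inv hinv2] at hF'
        have e : A * (t • (1 - P) + P) * (S + N) * ((t⁻¹ • (1 - P) + P) * A⁻¹) =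
            A * (S + N * (1 - P)) * A⁻¹ + t • (A * (N * P) * A⁻¹) := by
          have : A * (t • (1 - P) + P) * (S + N) * ((t⁻¹ • (1 - P) + P) * A⁻¹) =
              A * ((t • (1 - P) + P) * (S + N) * (t⁻¹ • (1 - P) + P)) * A⁻¹ := by
            simp only [mul_assoc]
          rw [this, hconj, mul_add, add_mul, mul_smul_comm, smul_mul_assoc]
        rw [e] at hF'
        exact hF'
      exact one_param F _ _ key

theorem result (k : Type u) [Field k] [IsAlgClosed k]
    (n : ℕ) (B₁ S₁ N₁ B₂ S₂ N₂ : Matrix (Fin n) (Fin n) k)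
    (hS₁ : Module.End.IsSemisimple (Matrix.toLin' S₁)) (hN₁ : IsNilpotent N₁) (hc₁ : Commute S₁ N₁)
    (hB₁ : B₁ = S₁ + N₁)
    (hS₂ : Module.End.IsSemisimple (Matrix.toLin' S₂)) (hN₂ : IsNilpotent N₂) (hc₂ : Commute S₂ N₂)
    (hB₂ : B₂ = S₂ + N₂) :
    (∃ C : Matrix (Fin n) (Fin n) k,
        (∀ F : MvPolynomial (Fin n × Fin n) k,
          (∀ A : Matrix (Fin n) (Fin n) k, IsUnit A.det →
            MvPolynomial.eval (fun p => (A * B₁ * A⁻¹) p.1 p.2) F = 0) →
          MvPolynomial.eval (fun p => C p.1 p.2) F = 0) ∧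
        (∀ F : MvPolynomial (Fin n × Fin n) k,
          (∀ A : Matrix (Fin n) (Fin n) k, IsUnit A.det →
            MvPolynomial.eval (fun p => (A * B₂ * A⁻¹) p.1 p.2) F = 0) →
          MvPolynomial.eval (fun p => C p.1 p.2) F = 0)) ↔
      ∃ A : Matrix (Fin n) (Fin n) k, IsUnit A.det ∧ A * S₁ * A⁻¹ = S₂ := by
  obtain ⟨m₁, hm₁⟩ := hN₁
  obtain ⟨m₂, hm₂⟩ := hN₂
  subst hB₁ hB₂
  have hcl₁ := fun F hF => main' m₁ S₁ N₁ hS₁ hc₁ (by rw [pow_succ, hm₁, zero_mul]) F hF
  have hcl₂ := fun F hF => main' m₂ S₂ N₂ hS₂ hc₂ (by rw [pow_succ, hm₂, zero_mul]) F hF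
  constructor
  · rintro ⟨C, hC₁, hC₂⟩
    apply mat_conj S₁ S₂ hS₁ hS₂
    have e₁ := charpoly_eq_of_mem_closure (S₁ + N₁) C hC₁
    have e₂ := charpoly_eq_of_mem_closure (S₂ + N₂) C hC₂
    have e₃ := charpoly_eq_of_mem_closure (S₁ + N₁) S₁ (fun F hF => by
      have := hcl₁ F hF 1 (by simp)
      simpa using this)
    have e₄ := charpoly_eq_of_mem_closure (S₂ + N₂) S₂ (fun F hF => by
      have := hcl₂ F hF 1 (by simp)
      simpa using this)
    rw [e₃, e₄, ← e₁, ← e₂]
  · rintro ⟨A, hA, hAS⟩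
    refine ⟨S₂, ?_, ?_⟩
    · intro F hF
      have := hcl₁ F hF A hA
      rw [hAS] at this
      exact this
    · intro F hF
      have := hcl₂ F hF 1 (by simp)
      simpa using this

end Groth.Agent.S19395
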