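import Groth.Statements.S19408
import Groth.Agent.Lib.Helper43.InvBC
-- import your own Groth.Agent.* helpers here

set_option autoImplicit false
universe u
open TensorProduct
open GLin

namespace Groth.Agent.S19408

/-- Let k be an algebraically closed field of characteristic zero, A a finitely generated commutative
Hopf algebra over k all of whose finite-dimensional comodules are semisimple (a reductive group G),
S and R finitely generated commutative k-algebras with multiplicative A-coactions (G acting on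
affine Y = Spec S and X = Spec R), S → R an algebra map compatible with the coactions (a G-morphism
θ : X → Y), S₀ → S and R₀ → R injective k-algebra maps whose images are the subrings of invariants,
and S₀ → R₀ an algebra map with S₀ → R₀ → R equal to S₀ → S → R (θ/G). Suppose R is étale over S, R₀
is étale over S₀, and the canonical map S ⊗_{S₀} R₀ → R is bijective (θ and θ/G étale and X ≅ Y
×_{Y//G} X//G). Let J be an ideal of S which is a subcomodule (Y' = V(J) a closed G-invariant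
subscheme), let S/J and R/JR carry A-coactions for which the quotient maps are compatible with the
coactions (the induced actions on Y' and X' = Y' ×_Y X), and let S₁ → S/J and R₁ → R/JR be injective
k-algebra maps whose images are the subrings of invariants, with S₁ → R₁ an algebra map such that S₁
→ R₁ → R/JR equals S₁ → S/J → R/JR. Then R/JR is étale over S/J, R₁ is étale over S₁, and the
canonical map (S/J) ⊗_{S₁} R₁ → R/JR is bijective (θ' : X' → Y' and θ'/G are étale and X' ≅ Y'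
×_{Y'//G} X'//G). -/
theorem result (k : Type u) [Field k] [IsAlgClosed k] [CharZero k]
    (A : Type u) [CommRing A] [HopfAlgebra k A] [Algebra.FiniteType k A] (hG : HopfRep.IsLinearlyReductive k A)
    (S : Type u) [CommRing S] [Algebra k S] [Algebra.FiniteType k S] [HopfRep.Comod k A S] [GLin.IsCoactAlg k A S]
    (R : Type u) [CommRing R] [Algebra k R] [Algebra.FiniteType k R] [HopfRep.Comod k A R] [GLin.IsCoactAlg k A R]
    [Algebra S R] [IsScalarTower k S R]
    (hequiv : (∀ s : S, HopfRep.Comod.coact (k := k) (A := A) (algebraMap S R s) =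
      Algebra.TensorProduct.map (IsScalarTower.toAlgHom k S R) (AlgHom.id k A) (HopfRep.Comod.coact (k := k) (A := A) s)))
    (S₀ : Type u) [CommRing S₀] [Algebra k S₀] [Algebra S₀ S] [IsScalarTower k S₀ S]
    (hS₀i : Function.Injective (algebraMap S₀ S)) (hS₀ : (IsScalarTower.toAlgHom k S₀ S).range = GLin.invariants k A S)
    (R₀ : Type u) [CommRing R₀] [Algebra k R₀] [Algebra R₀ R] [IsScalarTower k R₀ R]
    (hR₀i : Function.Injective (algebraMap R₀ R)) (hR₀ : (IsScalarTower.toAlgHom k R₀ R).range = GLin.invariants k A R)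
    [Algebra S₀ R₀] [Algebra S₀ R] [IsScalarTower S₀ S R] [IsScalarTower S₀ R₀ R]
    (het : Algebra.Etale S R) (het₀ : Algebra.Etale S₀ R₀)
    (hcart : Function.Bijective (Algebra.TensorProduct.productMap (IsScalarTower.toAlgHom S₀ S R) (IsScalarTower.toAlgHom S₀ R₀ R)))
    (J : Ideal S) (hJ : HopfRep.IsSubcomod (k := k) (A := A) (J.restrictScalars k))
    [HopfRep.Comod k A (S ⧸ J)] [GLin.IsCoactAlg k A (S ⧸ J)]
    (hqS : (∀ s : S, HopfRep.Comod.coact (k := k) (A := A) ((Ideal.Quotient.mkₐ k J) s) =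
        Algebra.TensorProduct.map (Ideal.Quotient.mkₐ k J) (AlgHom.id k A) (HopfRep.Comod.coact (k := k) (A := A) s)))
    [HopfRep.Comod k A (R ⧸ J.map (algebraMap S R))] [GLin.IsCoactAlg k A (R ⧸ J.map (algebraMap S R))]
    (hqR : (∀ s : R, HopfRep.Comod.coact (k := k) (A := A) ((Ideal.Quotient.mkₐ k (J.map (algebraMap S R))) s) =
        Algebra.TensorProduct.map (Ideal.Quotient.mkₐ k (J.map (algebraMap S R))) (AlgHom.id k A) (HopfRep.Comod.coact (k := k) (A := A) s)))
    (S₁ : Type u) [CommRing S₁] [Algebra k S₁] [Algebra S₁ (S ⧸ J)] [IsScalarTower k S₁ (S ⧸ J)]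
    (hS₁i : Function.Injective (algebraMap S₁ (S ⧸ J)))
    (hS₁ : (IsScalarTower.toAlgHom k S₁ (S ⧸ J)).range = GLin.invariants k A (S ⧸ J))
    (R₁ : Type u) [CommRing R₁] [Algebra k R₁] [Algebra R₁ (R ⧸ J.map (algebraMap S R))] [IsScalarTower k R₁ (R ⧸ J.map (algebraMap S R))]
    (hR₁i : Function.Injective (algebraMap R₁ (R ⧸ J.map (algebraMap S R))))
    (hR₁ : (IsScalarTower.toAlgHom k R₁ (R ⧸ J.map (algebraMap S R))).range = GLin.invariants k A (R ⧸ J.map (algebraMap S R)))
    [Algebra S₁ R₁] [Algebra S₁ (R ⧸ J.map (algebraMap S R))]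
    [IsScalarTower S₁ (S ⧸ J) (R ⧸ J.map (algebraMap S R))] [IsScalarTower S₁ R₁ (R ⧸ J.map (algebraMap S R))] :
    Algebra.Etale (S ⧸ J) (R ⧸ J.map (algebraMap S R)) ∧ Algebra.Etale S₁ R₁ ∧
      Function.Bijective (Algebra.TensorProduct.productMap
        (IsScalarTower.toAlgHom S₁ (S ⧸ J) (R ⧸ J.map (algebraMap S R)))
        (IsScalarTower.toAlgHom S₁ R₁ (R ⧸ J.map (algebraMap S R)))) := by
  classical
  -- flatness
  haveI : Module.Flat S₀ R₀ := inferInstance
  -- tower k S₀ R₀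
  haveI : IsScalarTower k S₀ R₀ := IsScalarTower.of_algebraMap_eq (fun c => hR₀i (by
    rw [← IsScalarTower.algebraMap_apply S₀ R₀ R, ← IsScalarTower.algebraMap_apply k R₀ R,
      IsScalarTower.algebraMap_apply S₀ S R, ← IsScalarTower.algebraMap_apply k S₀ S,
      ← IsScalarTower.algebraMap_apply k S R]))
  haveI : IsScalarTower k S₀ R := IsScalarTower.of_algebraMap_eq (fun c => by
    rw [IsScalarTower.algebraMap_apply S₀ S R, ← IsScalarTower.algebraMap_apply k S₀ S,
      ← IsScalarTower.algebraMap_apply k S R])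
  -- the given square is a pushout
  haveI hP1 : Algebra.IsPushout S₀ S R₀ R :=
    (Groth.Agent.Lib.Helper43.InvBC.isPushout_iff_bijective_productMap S₀ S R₀ R).2 hcart
  -- the quotient square is a pushout
  have hP2 : Algebra.IsPushout S (S ⧸ J) R (R ⧸ J.map (algebraMap S R)) := by
    letI : Algebra R ((S ⧸ J) ⊗[S] R) := Algebra.TensorProduct.rightAlgebra
    haveI h0 : Algebra.IsPushout S (S ⧸ J) R ((S ⧸ J) ⊗[S] R) := TensorProduct.isPushout
    refine Algebra.IsPushout.of_equiv (Algebra.TensorProduct.quotIdealMapEquivQuotTensor R J).symm ?_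
    ext r
    change (Algebra.TensorProduct.quotIdealMapEquivQuotTensor R J).symm ((1 : S ⧸ J) ⊗ₜ[S] r) =
      Ideal.Quotient.mk _ r
    rw [AlgEquiv.symm_apply_eq]
    exact (Algebra.TensorProduct.quotIdealMapEquivQuotTensor_mk R J r).symm
  haveI := hP2
  -- étale part (1)
  have hE1 : Algebra.Etale (S ⧸ J) (R ⧸ J.map (algebraMap S R)) :=
    Algebra.Etale.of_equiv (Algebra.TensorProduct.quotIdealMapEquivQuotTensor R J).symm
  -- big rectangle
  haveI : IsScalarTower S₀ (S ⧸ J) (R ⧸ J.map (algebraMap S R)) :=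
    IsScalarTower.of_algebraMap_eq (fun x => by
      rw [IsScalarTower.algebraMap_apply S₀ S (S ⧸ J),
        IsScalarTower.algebraMap_apply S₀ R (R ⧸ J.map (algebraMap S R)),
        IsScalarTower.algebraMap_apply S₀ S R]
      rfl)
  have hP3 : Algebra.IsPushout S₀ (S ⧸ J) R₀ (R ⧸ J.map (algebraMap S R)) :=
    (Algebra.IsPushout.comp_iff S₀ S R₀ R (T := S ⧸ J) (T' := R ⧸ J.map (algebraMap S R))).2 hP2
  haveI hP3' : Algebra.IsPushout S₀ R₀ (S ⧸ J) (R ⧸ J.map (algebraMap S R)) := hP3.symm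
  -- invariance facts
  have hinvS : ∀ x : S₀, HopfRep.Comod.coact (k := k) (A := A) (algebraMap S₀ S x) =
      algebraMap S₀ S x ⊗ₜ[k] (1 : A) := fun x => by
    have h1 : algebraMap S₀ S x ∈ (IsScalarTower.toAlgHom k S₀ S).range := ⟨x, rfl⟩
    rw [hS₀] at h1
    exact h1
  have hinvR : ∀ x : R₀, HopfRep.Comod.coact (k := k) (A := A) (algebraMap R₀ R x) =
      algebraMap R₀ R x ⊗ₜ[k] (1 : A) := fun x => by
    have h1 : algebraMap R₀ R x ∈ (IsScalarTower.toAlgHom k R₀ R).range := ⟨x, rfl⟩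
    rw [hR₀] at h1
    exact h1
  have hrangeS : ∀ m : S ⧸ J, m ∈ Set.range (algebraMap S₁ (S ⧸ J)) ↔
      HopfRep.Comod.coact (k := k) (A := A) m = m ⊗ₜ[k] (1 : A) := fun m => by
    have h1 : m ∈ Set.range (algebraMap S₁ (S ⧸ J)) ↔
        m ∈ (IsScalarTower.toAlgHom k S₁ (S ⧸ J)).range := Iff.rfl
    rw [h1, hS₁]
    exact Iff.rfl
  have hrangeR : ∀ m : R ⧸ J.map (algebraMap S R),
      m ∈ Set.range (algebraMap R₁ (R ⧸ J.map (algebraMap S R))) ↔
      HopfRep.Comod.coact (k := k) (A := A) m = m ⊗ₜ[k] (1 : A) := fun m => by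
    have h1 : m ∈ Set.range (algebraMap R₁ (R ⧸ J.map (algebraMap S R))) ↔
        m ∈ (IsScalarTower.toAlgHom k R₁ (R ⧸ J.map (algebraMap S R))).range := Iff.rfl
    rw [h1, hR₁]
    exact Iff.rfl
  have hinvM : ∀ x : S₀, algebraMap S₀ (S ⧸ J) x ∈ Set.range (algebraMap S₁ (S ⧸ J)) := fun x => by
    rw [hrangeS, IsScalarTower.algebraMap_apply S₀ S (S ⧸ J)]
    change HopfRep.Comod.coact (k := k) (A := A) (Ideal.Quotient.mkₐ k J (algebraMap S₀ S x)) = _
    rw [hqS, hinvS, Algebra.TensorProduct.map_tmul]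
    rfl
  have hinvN : ∀ x : R₀, algebraMap R₀ (R ⧸ J.map (algebraMap S R)) x ∈
      Set.range (algebraMap R₁ (R ⧸ J.map (algebraMap S R))) := fun x => by
    rw [hrangeR, IsScalarTower.algebraMap_apply R₀ R (R ⧸ J.map (algebraMap S R))]
    change HopfRep.Comod.coact (k := k) (A := A)
      (Ideal.Quotient.mkₐ k (J.map (algebraMap S R)) (algebraMap R₀ R x)) = _
    rw [hqR, hinvR, Algebra.TensorProduct.map_tmul]
    rfl
  obtain ⟨g₀, hg₀⟩ := Groth.Agent.Lib.Helper43.InvBC.exists_ringHom_lift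
    (algebraMap S₁ (S ⧸ J)) hS₁i (algebraMap S₀ (S ⧸ J)) hinvM
  obtain ⟨g₀', hg₀'⟩ := Groth.Agent.Lib.Helper43.InvBC.exists_ringHom_lift
    (algebraMap R₁ (R ⧸ J.map (algebraMap S R))) hR₁i
    (algebraMap R₀ (R ⧸ J.map (algebraMap S R))) hinvN
  letI : Algebra S₀ S₁ := g₀.toAlgebra
  haveI : IsScalarTower S₀ S₁ (S ⧸ J) := IsScalarTower.of_algebraMap_eq (fun x => (hg₀ x).symm)
  letI : Algebra R₀ R₁ := g₀'.toAlgebra
  haveI : IsScalarTower R₀ R₁ (R ⧸ J.map (algebraMap S R)) :=
    IsScalarTower.of_algebraMap_eq (fun x => (hg₀' x).symm)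
  letI : Algebra S₀ R₁ := ((algebraMap S₁ R₁).comp g₀).toAlgebra
  haveI : IsScalarTower S₀ S₁ R₁ := IsScalarTower.of_algebraMap_eq (fun x => rfl)
  haveI : IsScalarTower S₀ R₀ R₁ := IsScalarTower.of_algebraMap_eq (fun x => hR₁i (by
    change algebraMap R₁ (R ⧸ J.map (algebraMap S R)) (algebraMap S₁ R₁ (g₀ x)) =
      algebraMap R₁ (R ⧸ J.map (algebraMap S R)) (g₀' (algebraMap S₀ R₀ x))
    rw [hg₀', ← IsScalarTower.algebraMap_apply S₁ R₁ (R ⧸ J.map (algebraMap S R)),
      IsScalarTower.algebraMap_apply S₁ (S ⧸ J) (R ⧸ J.map (algebraMap S R)), hg₀,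
      ← IsScalarTower.algebraMap_apply S₀ (S ⧸ J) (R ⧸ J.map (algebraMap S R)),
      ← IsScalarTower.algebraMap_apply S₀ R₀ (R ⧸ J.map (algebraMap S R))]))
  have hmulM : ∀ (s : S₀) (z : (S ⧸ J) ⊗[k] A),
      (algebraMap S₀ (S ⧸ J) s ⊗ₜ[k] (1 : A)) * z = s • z := by
    intro s z
    induction z with
    | zero => simp
    | tmul m a =>
      rw [Algebra.TensorProduct.tmul_mul_tmul, one_mul, TensorProduct.smul_tmul',
        Algebra.smul_def]
    | add x y hx hy => rw [mul_add, hx, hy, smul_add]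
  have hmulN : ∀ (s : R₀) (z : (R ⧸ J.map (algebraMap S R)) ⊗[k] A),
      (algebraMap R₀ (R ⧸ J.map (algebraMap S R)) s ⊗ₜ[k] (1 : A)) * z = s • z := by
    intro s z
    induction z with
    | zero => simp
    | tmul m a =>
      rw [Algebra.TensorProduct.tmul_mul_tmul, one_mul, TensorProduct.smul_tmul',
        Algebra.smul_def]
    | add x y hx hy => rw [mul_add, hx, hy, smul_add]
  have hmaps : ∀ z : S ⊗[k] A,
      Algebra.TensorProduct.map (Ideal.Quotient.mkₐ k (J.map (algebraMap S R))) (AlgHom.id k A)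
        (Algebra.TensorProduct.map (IsScalarTower.toAlgHom k S R) (AlgHom.id k A) z) =
      TensorProduct.AlgebraTensorModule.map
        (IsScalarTower.toAlgHom S₀ (S ⧸ J) (R ⧸ J.map (algebraMap S R))).toLinearMap
        (LinearMap.id : A →ₗ[k] A)
        (Algebra.TensorProduct.map (Ideal.Quotient.mkₐ k J) (AlgHom.id k A) z) := by
    intro z
    induction z with
    | zero => simp
    | tmul m a => rfl
    | add x y hx hy => simp only [map_add, hx, hy]
  -- the left square is a pushout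
  have hP4 : Algebra.IsPushout S₀ R₀ S₁ R₁ := by
    refine Groth.Agent.Lib.Helper43.InvBC.inv_isPushout (k := k) (A := A) (1 : A)
      (M := S ⧸ J) (N := R ⧸ J.map (algebraMap S R))
      (HopfRep.Comod.coact (k := k) (A := A)) (HopfRep.Comod.coact (k := k) (A := A))
      ?_ ?_ ?_ hS₁i hrangeS hR₁i hrangeR
    · intro s m
      rw [Algebra.smul_def, GLin.IsCoactAlg.coact_mul, (hrangeS _).1 (hinvM s), hmulM]
    · intro s m
      rw [Algebra.smul_def, GLin.IsCoactAlg.coact_mul, (hrangeR _).1 (hinvN s), hmulN]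
    · intro m
      obtain ⟨s, rfl⟩ := Ideal.Quotient.mk_surjective m
      change HopfRep.Comod.coact (k := k) (A := A)
          (Ideal.Quotient.mkₐ k (J.map (algebraMap S R)) (algebraMap S R s)) =
        TensorProduct.AlgebraTensorModule.map _ _
          (HopfRep.Comod.coact (k := k) (A := A) (Ideal.Quotient.mkₐ k J s))
      rw [hqR, hequiv, hqS, hmaps]
  haveI hP4' : Algebra.IsPushout S₀ S₁ R₀ R₁ := hP4.symm
  haveI : IsScalarTower S₀ R₁ (R ⧸ J.map (algebraMap S R)) :=
    IsScalarTower.of_algebraMap_eq (fun x => by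
      change _ = algebraMap R₁ (R ⧸ J.map (algebraMap S R)) (algebraMap S₁ R₁ (g₀ x))
      rw [← IsScalarTower.algebraMap_apply S₁ R₁ (R ⧸ J.map (algebraMap S R)),
        IsScalarTower.algebraMap_apply S₁ (S ⧸ J) (R ⧸ J.map (algebraMap S R)), hg₀,
        ← IsScalarTower.algebraMap_apply S₀ (S ⧸ J) (R ⧸ J.map (algebraMap S R))])
  have hP5 : Algebra.IsPushout S₁ (S ⧸ J) R₁ (R ⧸ J.map (algebraMap S R)) :=
    (Algebra.IsPushout.comp_iff S₀ S₁ R₀ R₁ (T := S ⧸ J)
      (T' := R ⧸ J.map (algebraMap S R))).1 hP3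
  refine ⟨hE1, ?_, ?_⟩
  · exact Algebra.Etale.of_equiv (Algebra.IsPushout.equiv S₀ S₁ R₀ R₁)
  · exact (Groth.Agent.Lib.Helper43.InvBC.isPushout_iff_bijective_productMap S₁ (S ⧸ J) R₁
      (R ⧸ J.map (algebraMap S R))).1 hP5

end Groth.Agent.S19408
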