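import Groth.Statements.S19411
import Groth.Agent.Lib.Helper32.Rosenlicht.CharConst
import Groth.Agent.Lib.Helper96.CartierG

set_option autoImplicit false
universe u
open TensorProduct
open GLin

namespace Groth.Agent.S19411

/-- Let k be an uncountable algebraically closed field of characteristic zero, A a finitely generated
commutative Hopf algebra over k all of whose finite-dimensional comodules are semisimple (a
reductive group G), and R a reduced finitely generated commutative k-algebra whose prime spectrum is
connected, with a multiplicative A-coaction ρ (G acting on the connected affine scheme X = Spec R).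
Let θ ∈ R ⊗ A be such that the map r ↦ ρ(r)·θ from R to R ⊗ A is coassociative and counital (a
structure of G-line bundle on the trivial line bundle of X, θ being the corresponding invertible
function on X × G). Suppose that either every unit of A is a scalar multiple of a group-like element
(every invertible function on G is a constant times a character), or every unit of R is a scalar
(every invertible function on X is constant). Then θ = 1 ⊗ χ for some group-like element χ of A: the
G-line bundle is the one attached to the character χ. (Stated for G-line bundle structures on the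
trivial bundle, the case to which the hypothesis of a trivial Picard group reduces the source's
statement; uncountability of k is what the argument uses in the first case.) -/
theorem result (k : Type u) [Field k] [IsAlgClosed k] [CharZero k] [Uncountable k]
    (A : Type u) [CommRing A] [HopfAlgebra k A] [Algebra.FiniteType k A] (hG : HopfRep.IsLinearlyReductive k A)
    (R : Type u) [CommRing R] [IsReduced R] [Algebra k R] [Algebra.FiniteType k R] [HopfRep.Comod k A R] [GLin.IsCoactAlg k A R]
    [ConnectedSpace (PrimeSpectrum R)]
    (θ : R ⊗[k] A)
    (hassoc : (TensorProduct.assoc k R A A).toLinearMap ∘ₗ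
        ((LinearMap.mulRight k θ) ∘ₗ HopfRep.Comod.coact (k := k) (A := A) (V := R)).rTensor A ∘ₗ
          ((LinearMap.mulRight k θ) ∘ₗ HopfRep.Comod.coact (k := k) (A := A) (V := R)) =
      (CoalgebraStruct.comul (R := k) (A := A)).lTensor R ∘ₗ
        ((LinearMap.mulRight k θ) ∘ₗ HopfRep.Comod.coact (k := k) (A := A) (V := R)))
    (hcounit : (CoalgebraStruct.counit (R := k) (A := A)).lTensor R ∘ₗ
        ((LinearMap.mulRight k θ) ∘ₗ HopfRep.Comod.coact (k := k) (A := A) (V := R)) =
      (TensorProduct.mk k R k).flip 1)
    (h : (∀ u : Aˣ, ∃ (c : k) (χ : A), IsGroupLikeElem k χ ∧ (u : A) = c • χ) ∨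
      (∀ u : Rˣ, (u : R) ∈ Set.range (algebraMap k R))) :
    ∃ χ : A, IsGroupLikeElem k χ ∧ θ = (1 : R) ⊗ₜ[k] χ := by
  have hAred : IsReduced A := Groth.Agent.Lib.Helper96.Cartier.isReduced k A
  have hρ : (GLin.coactAlgHom k A R).toLinearMap = HopfRep.Comod.coact (k := k) (A := A) (V := R) :=
    LinearMap.ext fun _ => rfl
  have h1 : TensorProduct.assoc k R A A
      (LinearMap.rTensor A (LinearMap.mulRight k θ ∘ₗ (GLin.coactAlgHom k A R).toLinearMap) θ) =
      LinearMap.lTensor R (CoalgebraStruct.comul (R := k) (A := A)) θ := by
    have := LinearMap.congr_fun hassoc 1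
    simp only [LinearMap.comp_apply, LinearMap.mulRight_apply, LinearEquiv.coe_coe] at this
    rw [GLin.IsCoactAlg.coact_one (k := k) (A := A) (R := R), one_mul] at this
    rw [hρ]
    exact this
  have h2 : LinearMap.lTensor R (CoalgebraStruct.counit (R := k) (A := A)) θ = 1 ⊗ₜ[k] 1 := by
    have := LinearMap.congr_fun hcounit 1
    simp only [LinearMap.comp_apply, LinearMap.mulRight_apply, LinearMap.flip_apply,
      TensorProduct.mk_apply] at this
    rw [GLin.IsCoactAlg.coact_one (k := k) (A := A) (R := R), one_mul] at this
    exact this
  have hne : Nonempty (PrimeSpectrum R) := inferInstance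
  have hnt : Nontrivial R := (PrimeSpectrum.nonempty_iff_nontrivial).mp hne
  obtain ⟨x₀⟩ : Nonempty (R →ₐ[k] k) := Groth.Agent.Lib.Helper32.Rosenlicht.nonempty_algHom k
  rcases h with hA | hR
  · exact Groth.Agent.Lib.Helper32.Rosenlicht.exists_groupLike_of_const
      (GLin.coactAlgHom k A R) θ h1 h2 x₀
      (fun x g => Groth.Agent.Lib.Helper32.Rosenlicht.const_of_units_groupLike
        (GLin.coactAlgHom k A R) θ h1 h2 hA x x₀ g)
  · exact Groth.Agent.Lib.Helper32.Rosenlicht.exists_groupLike_of_const
      (GLin.coactAlgHom k A R) θ h1 h2 x₀
      (fun x g => Groth.Agent.Lib.Helper32.Rosenlicht.const_of_units_scalar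
        (GLin.coactAlgHom k A R) θ h1 h2 hR x x₀ g)

end Groth.Agent.S19411
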