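import Groth.Statements.S19412
import Mathlib

set_option autoImplicit false
universe u
open TensorProduct
open GLin

namespace Groth.Agent.S19412
open TensorProduct
open GLin

section Basic

variable {k : Type u} [Field k] {A : Type u} [CommRing A] [HopfAlgebra k A]
  {R : Type u} [CommRing R] [Algebra k R] [HopfRep.Comod k A R] [GLin.IsCoactAlg k A R]

theorem orbitHom_apply (x : R →ₐ[k] k) (f : R) :
    GLin.orbitHom k A x f = Algebra.TensorProduct.lid k A
      (Algebra.TensorProduct.map x (AlgHom.id k A) (HopfRep.Comod.coact (k := k) (A := A) f)) :=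
  rfl

theorem orbitHom_inv (x : R →ₐ[k] k) (f : R) (hf : f ∈ GLin.invariants k A R) :
    GLin.orbitHom k A x f = algebraMap k A (x f) := by
  rw [orbitHom_apply, (GLin.mem_invariants_iff k A R f).mp hf]
  simp [Algebra.algebraMap_eq_smul_one]

variable {S : Type u} [CommRing S] [Algebra k S] [HopfRep.Comod k A S] [GLin.IsCoactAlg k A S]
  [Algebra S R] [IsScalarTower k S R]

theorem orbitHom_comp
    (hequiv : (∀ s : S, HopfRep.Comod.coact (k := k) (A := A) (algebraMap S R s) =
      Algebra.TensorProduct.map (IsScalarTower.toAlgHom k S R) (AlgHom.id k A)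
        (HopfRep.Comod.coact (k := k) (A := A) s)))
    (x : R →ₐ[k] k) (s : S) :
    GLin.orbitHom k A (x.comp (IsScalarTower.toAlgHom k S R)) s =
      GLin.orbitHom k A x (algebraMap S R s) := by
  rw [orbitHom_apply, orbitHom_apply, hequiv s]
  congr 1
  rw [← AlgHom.comp_apply, ← Algebra.TensorProduct.map_comp]
  simp

end Basic

theorem main (k : Type u) [Field k]
    (A : Type u) [CommRing A] [HopfAlgebra k A]
    (S : Type u) [CommRing S] [Algebra k S] [HopfRep.Comod k A S] [GLin.IsCoactAlg k A S]
    (R : Type u) [CommRing R] [Algebra k R] [HopfRep.Comod k A R] [GLin.IsCoactAlg k A R]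
    [Algebra S R] [IsScalarTower k S R]
    (hequiv : (∀ s : S, HopfRep.Comod.coact (k := k) (A := A) (algebraMap S R s) =
      Algebra.TensorProduct.map (IsScalarTower.toAlgHom k S R) (AlgHom.id k A) (HopfRep.Comod.coact (k := k) (A := A) s)))
    (S₀ : Type u) [CommRing S₀] [Algebra k S₀] [Algebra S₀ S] [IsScalarTower k S₀ S]
    (R₀ : Type u) [CommRing R₀] [Algebra k R₀] [Algebra R₀ R] [IsScalarTower k R₀ R]
    (hR₀ : (IsScalarTower.toAlgHom k R₀ R).range = GLin.invariants k A R)
    [Algebra S₀ R₀] [Algebra S₀ R] [IsScalarTower S₀ S R] [IsScalarTower S₀ R₀ R]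
    (het₀ : Algebra.Etale S₀ R₀)
    (hcart : Function.Bijective (Algebra.TensorProduct.productMap (IsScalarTower.toAlgHom S₀ S R) (IsScalarTower.toAlgHom S₀ R₀ R))) :
    Algebra.Etale S R ∧
      ∀ x : R →ₐ[k] k,
        (∀ g : A →ₐ[k] k, GLin.actPt k g (x.comp (IsScalarTower.toAlgHom k S R)) = x.comp (IsScalarTower.toAlgHom k S R) →
          GLin.actPt k g x = x) ∧
        (GLin.IsClosedOrbit k A x ↔ GLin.IsClosedOrbit k A (x.comp (IsScalarTower.toAlgHom k S R))) := by
  have hinv : ∀ r₀ : R₀, algebraMap R₀ R r₀ ∈ GLin.invariants k A R := by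
    intro r₀
    rw [← hR₀]
    exact ⟨r₀, rfl⟩
  -- generation
  have hgen : ∀ (P : R → Prop), P 0 → (∀ a b, P a → P b → P (a + b)) →
      (∀ (s : S) (r₀ : R₀), P (algebraMap S R s * algebraMap R₀ R r₀)) → ∀ r, P r := by
    intro P h0 hadd hmul r
    obtain ⟨t, rfl⟩ := hcart.2 r
    induction t using TensorProduct.induction_on with
    | zero => rw [map_zero]; exact h0
    | tmul s r₀ =>
      rw [Algebra.TensorProduct.productMap_apply_tmul]
      exact hmul s r₀
    | add a b ha hb => rw [map_add]; exact hadd _ _ ha hb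
  refine ⟨?_, fun x => ⟨?_, ?_⟩⟩
  · -- etale
    let F : (S ⊗[S₀] R₀) →ₐ[S] R :=
      Algebra.TensorProduct.productLeftAlgHom (Algebra.ofId S R) (IsScalarTower.toAlgHom S₀ R₀ R)
    have hF : Function.Bijective F := by
      have : (F : S ⊗[S₀] R₀ → R) = (Algebra.TensorProduct.productMap (IsScalarTower.toAlgHom S₀ S R)
          (IsScalarTower.toAlgHom S₀ R₀ R)) := by
        funext t
        induction t using TensorProduct.induction_on with
        | zero => simp
        | tmul s r₀ => simp [F, Algebra.ofId_apply]
        | add a b ha hb => simp only [map_add, ha, hb]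
      rw [this]
      exact hcart
    exact Algebra.Etale.of_equiv (AlgEquiv.ofBijective F hF)
  · -- stabilisers
    intro g hg
    apply AlgHom.ext
    refine hgen _ (by simp) (fun a b ha hb => by rw [map_add, map_add, ha, hb]) (fun s r₀ => ?_)
    rw [map_mul, map_mul]
    congr 1
    · have := AlgHom.congr_fun hg s
      simp only [GLin.actPt, AlgHom.comp_apply] at this ⊢
      rw [orbitHom_comp hequiv] at this
      exact this
    · simp only [GLin.actPt, AlgHom.comp_apply]
      rw [orbitHom_inv x _ (hinv r₀), AlgHom.commutes]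
      rfl
  · -- closed orbits
    obtain ⟨J, hJdef⟩ : ∃ J : Ideal R, J = Ideal.span (Set.range fun r₀ : R₀ =>
        algebraMap R₀ R r₀ - algebraMap k R (x (algebraMap R₀ R r₀))) := ⟨_, rfl⟩
    have hJ : ∀ a ∈ J, (GLin.orbitHom k A x).toRingHom a = 0 := by
      intro a ha
      rw [hJdef] at ha
      refine Submodule.span_induction ?_ (map_zero _) (fun a b _ _ ha hb => by rw [map_add, ha, hb, add_zero])
        (fun c a _ ha => by rw [smul_eq_mul, map_mul, ha, mul_zero]) ha
      rintro _ ⟨r₀, rfl⟩
      show GLin.orbitHom k A x _ = 0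
      rw [map_sub, orbitHom_inv x _ (hinv r₀), AlgHom.commutes, sub_self]
    obtain ⟨θ, hθdef⟩ : ∃ θ : R ⧸ J →+* A, θ = Ideal.Quotient.lift J (GLin.orbitHom k A x).toRingHom hJ :=
      ⟨_, rfl⟩
    have hθ : θ.comp (Ideal.Quotient.mk J) = (GLin.orbitHom k A x).toRingHom := by
      rw [hθdef]
      exact Ideal.Quotient.lift_comp_mk J _ hJ
    have hψsurj : Function.Surjective ((Ideal.Quotient.mk J).comp (algebraMap S R)) := by
      intro y
      obtain ⟨r, rfl⟩ := Ideal.Quotient.mk_surjective y
      revert r
      refine hgen _ ⟨0, by simp⟩ ?_ (fun s r₀ => ?_)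
      · rintro a b ⟨a', ha⟩ ⟨b', hb⟩
        exact ⟨a' + b', by rw [map_add, ha, hb, map_add]⟩
      · refine ⟨s * algebraMap k S (x (algebraMap R₀ R r₀)), ?_⟩
        rw [RingHom.comp_apply, map_mul, map_mul, map_mul]
        congr 1
        rw [← IsScalarTower.algebraMap_apply k S R]
        symm
        rw [Ideal.Quotient.eq, hJdef]
        exact Ideal.subset_span ⟨r₀, rfl⟩
    have h2 : (GLin.orbitHom k A (x.comp (IsScalarTower.toAlgHom k S R))).toRingHom =
        θ.comp ((Ideal.Quotient.mk J).comp (algebraMap S R)) := by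
      rw [← RingHom.comp_assoc, hθ]
      ext s
      exact orbitHom_comp hequiv x s
    unfold GLin.IsClosedOrbit
    rw [h2, ← hθ, PrimeSpectrum.comap_comp, PrimeSpectrum.comap_comp, Set.range_comp, Set.range_comp,
      ← (PrimeSpectrum.isClosedEmbedding_comap_of_surjective _ _
        Ideal.Quotient.mk_surjective).isClosed_iff_image_isClosed,
      ← (PrimeSpectrum.isClosedEmbedding_comap_of_surjective _ _ hψsurj).isClosed_iff_image_isClosed]

end Groth.Agent.S19412

namespace Groth.Agent.S19412

/-- Let k be an algebraically closed field of characteristic zero, A a finitely generated commutative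
Hopf algebra over k (an algebraic group G), S and R finitely generated commutative k-algebras with
multiplicative A-coactions (G acting on affine Y = Spec S, X = Spec R), S → R an algebra map
compatible with the coactions (a G-morphism φ : X → Y), S₀ → S and R₀ → R injective k-algebra maps
whose images are the subrings of invariants, and S₀ → R₀ an algebra map with S₀ → R₀ → R equal to S₀
→ S → R (φ/G). Suppose R₀ is étale over S₀ and the canonical map S ⊗_{S₀} R₀ → R is bijective (φ is
strongly étale: φ/G étale and X ≅ Y ×_{Y//G} X//G). Then R is étale over S (φ étale), and for every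
k-point x of X: every k-point of G fixing the image point φ(x) fixes x (φ restricted to the orbit of
x is injective), and the orbit of x is closed if and only if the orbit of φ(x) is closed. (The
published item also asserts that φ is surjective; that fails when φ is the inclusion of a proper
saturated open subset, which is strongly étale, so surjectivity is not asserted here.) -/
theorem result (k : Type u) [Field k] [IsAlgClosed k] [CharZero k]
    (A : Type u) [CommRing A] [HopfAlgebra k A] [Algebra.FiniteType k A]
    (S : Type u) [CommRing S] [Algebra k S] [Algebra.FiniteType k S] [HopfRep.Comod k A S] [GLin.IsCoactAlg k A S]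
    (R : Type u) [CommRing R] [Algebra k R] [Algebra.FiniteType k R] [HopfRep.Comod k A R] [GLin.IsCoactAlg k A R]
    [Algebra S R] [IsScalarTower k S R]
    (hequiv : (∀ s : S, HopfRep.Comod.coact (k := k) (A := A) (algebraMap S R s) =
      Algebra.TensorProduct.map (IsScalarTower.toAlgHom k S R) (AlgHom.id k A) (HopfRep.Comod.coact (k := k) (A := A) s)))
    (S₀ : Type u) [CommRing S₀] [Algebra k S₀] [Algebra S₀ S] [IsScalarTower k S₀ S]
    (hS₀i : Function.Injective (algebraMap S₀ S)) (hS₀ : (IsScalarTower.toAlgHom k S₀ S).range = GLin.invariants k A S)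
    (R₀ : Type u) [CommRing R₀] [Algebra k R₀] [Algebra R₀ R] [IsScalarTower k R₀ R]
    (hR₀i : Function.Injective (algebraMap R₀ R)) (hR₀ : (IsScalarTower.toAlgHom k R₀ R).range = GLin.invariants k A R)
    [Algebra S₀ R₀] [Algebra S₀ R] [IsScalarTower S₀ S R] [IsScalarTower S₀ R₀ R]
    (het₀ : Algebra.Etale S₀ R₀)
    (hcart : Function.Bijective (Algebra.TensorProduct.productMap (IsScalarTower.toAlgHom S₀ S R) (IsScalarTower.toAlgHom S₀ R₀ R))) :
    Algebra.Etale S R ∧
      ∀ x : R →ₐ[k] k,
        (∀ g : A →ₐ[k] k, GLin.actPt k g (x.comp (IsScalarTower.toAlgHom k S R)) = x.comp (IsScalarTower.toAlgHom k S R) →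
          GLin.actPt k g x = x) ∧
        (GLin.IsClosedOrbit k A x ↔ GLin.IsClosedOrbit k A (x.comp (IsScalarTower.toAlgHom k S R))) := by
  exact main k A S R hequiv S₀ R₀ hR₀ het₀ hcart

end Groth.Agent.S19412
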