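import Groth.Statements.S19414
-- import your own Groth.Agent.* helpers here
import Groth.Agent.Lib.Helper33.WeilLib
import Groth.Agent.Lib.Helper33.WeilDim
import Groth.Agent.Lib.Helper33.WeilGraph

set_option autoImplicit false
universe u v
open CategoryTheory AlgebraicGeometry
open WeilCoh

namespace Groth.Agent.S19414
open WeilCoh Groth.Agent.Lib.Helper33.WeilLib Groth.Agent.Lib.Helper33.WeilDim
  Groth.Agent.Lib.Helper33.WeilGraph

/-- cycle classes are central (they have even degree) -/
theorem cl_mul_comm {k : Type u} [Field k] [IsAlgClosed k]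
    {K : Type v} [Field K] [CharZero K] (T : WeilCoh.Theory k K) (X : WeilCoh.Var k)
    (ξ : X.obj.left) (a : T.H X) : T.cl X ξ * a = a * T.cl X ξ := by
  induction a using hom_induction T with
  | hom j a ha =>
    have h := T.gradedComm X _ _ _ _ (T.cl_mem X ξ) ha
    rw [h]
    have : ((2 * (codim X.obj.left ξ : ℤ)).natAbs * j.natAbs) = 2 * (codim X.obj.left ξ * j.natAbs) := by
      rw [Int.natAbs_mul]; simp; ring
    rw [this, pow_mul]
    simp
  | zero => simp
  | add b c hb hc => rw [mul_add, add_mul, hb, hc]


/-- Let H be a Weil cohomology theory with coefficients in a field K of characteristic zero on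
nonsingular connected projective varieties over an algebraically closed field k, X such a variety, P
= X × X with its projections p and q, and d : X → P the diagonal (the section of p and of q). For a
closed irreducible subset Z ⊆ X with generic point η and a class α ∈ H^i(X), the cohomological
correspondence given by the class of the diagonal image d(Z) ⊆ P acts on α as cup product with the
class of Z: q_*(p^*(α) · cl_P(d(Z))) = α · cl_X(Z) in the total cohomology ring of X. The
push-forward q_* (Gysin map, defined through Poincaré duality) is taken on the homogeneous component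
of degree i + 2 codim_P(d(Z)) that contains p^*(α) · cl_P(d(Z)). The published statement takes Z to
be a smooth hyperplane section, in which case cup product with cl_X(Z) is the Lefschetz operator L
and the identity says that L is given by an algebraic correspondence; it is stated here for every
closed irreducible Z, which is what the argument establishes. -/
theorem result (k : Type u) [Field k] [IsAlgClosed k]
    (K : Type v) [Field K] [CharZero K] (T : WeilCoh.Theory k K) (X P : WeilCoh.Var k)
    (p q : P ⟶ X) (hP : WeilCoh.IsProd p q) (d : X ⟶ P) (hdp : d ≫ p = 𝟙 X) (hdq : d ≫ q = 𝟙 X)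
    (η : ↥X.obj.left) (i : ℤ) (a : ↥(T.gr X i)) :
    (T.push q (i + 2 * (WeilCoh.codim P.obj.left (WeilCoh.sm d η) : ℤ))
        ⟨T.pull p (a : T.H X) * T.cl P (WeilCoh.sm d η),
          SetLike.mul_mem_graded (T.pull_mem p i a a.2) (T.cl_mem P (WeilCoh.sm d η))⟩ : T.H X) =
      (a : T.H X) * T.cl X η := by
  have hdeg : (sm d).residueDegree η = 1 :=
    residueDegree_section (sm d) (sm p) (by rw [← sm_comp, hdp, sm_id]) _
  have hp := pdim_map_of_residueDegree_ne_zero d η (by rw [hdeg]; exact one_ne_zero)
  have h1 := codim_add_pdim X η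
  have h2 := codim_add_pdim P (sm d η)
  have hR : (a : T.H X) * T.cl X η ∈ T.gr X (i + 2 * (WeilCoh.codim P.obj.left (WeilCoh.sm d η) : ℤ) +
      2 * (dim X.obj.left : ℤ) - 2 * (dim P.obj.left : ℤ)) := by
    have e : i + 2 * (WeilCoh.codim P.obj.left (WeilCoh.sm d η) : ℤ) +
      2 * (dim X.obj.left : ℤ) - 2 * (dim P.obj.left : ℤ) = i + 2 * (codim X.obj.left η : ℤ) := by
      omega
    rw [e]
    exact SetLike.mul_mem_graded a.2 (T.cl_mem X η)
  refine eq_of_tr_mul T (Subtype.property _) hR fun b hb => ?_
  rw [tr_push_mul']
  show T.tr P (T.pull p (a : T.H X) * T.cl P (sm d η) * T.pull q b) = _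
  rw [← cl_mul_comm T P, mul_assoc]
  have h3 := tr_cl_mul_pull T d η (T.pull p (a : T.H X) * T.pull q b)
  rw [hdeg, Nat.cast_one, one_mul] at h3
  have hpull : T.pull d (T.pull p (a : T.H X) * T.pull q b) = (a : T.H X) * b := by
    rw [map_mul (T.pull d), ← AlgHom.comp_apply, ← AlgHom.comp_apply, ← T.pull_comp, ← T.pull_comp,
      hdp, hdq, T.pull_id]
    simp only [AlgHom.id_apply]
  rw [← h3, hpull, ← mul_assoc, cl_mul_comm T X]

end Groth.Agent.S19414
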