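import Groth.Statements.S19415
-- import your own Groth.Agent.* helpers here
import Groth.Agent.Lib.Helper33.WeilCorr

set_option autoImplicit false
universe u v
open CategoryTheory AlgebraicGeometry
open WeilCoh

namespace Groth.Agent.S19415
open WeilCoh Groth.Agent.Lib.Helper33.WeilLib Groth.Agent.Lib.Helper33.WeilKun
  Groth.Agent.Lib.Helper33.WeilCorr Groth.Agent.Lib.Helper33.WeilGraph

section
variable {k : Type u} [Field k] [IsAlgClosed k] {K : Type v} [Field K] [CharZero K]
  (T : WeilCoh.Theory k K) {X : WeilCoh.Var k} (F : X ⟶ X)

/-- iterates of an endomorphism -/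
noncomputable def iter : ℕ → (X ⟶ X)
  | 0 => 𝟙 X
  | (m + 1) => iter m ≫ F

theorem pull_iter (m : ℕ) (j : ℤ) (b : ↥(T.gr X j)) :
    T.pull (iter F m) (b : T.H X) = (((T.pullDeg F j) ^ m) b : T.H X) := by
  induction m generalizing b with
  | zero =>
    show T.pull (𝟙 X) (b : T.H X) = _
    rw [T.pull_id]; rfl
  | succ m ih =>
    show T.pull (iter F m ≫ F) (b : T.H X) = _
    rw [T.pull_comp, AlgHom.comp_apply, pow_succ]
    exact ih (T.pullDeg F j b)

end


/-- Let H be a Weil cohomology theory with coefficients in a field K of characteristic zero on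
nonsingular connected projective varieties over an algebraically closed field k, X such a variety of
dimension n, P = X × X with its projections p, q, and F : X → X an endomorphism such that the
characteristic polynomials of F^* on the cohomology groups H^i(X), i ∈ ℤ, are pairwise coprime in
K[T]. Then for every i the i-th Künneth projector of X is given by an algebraic correspondence with
coefficients in K: there is a class u in H^{2n}(P), lying in the K-linear span of the classes of
closed irreducible subsets of P, whose action β ↦ q_*(p^*(β) · u) is the identity on H^i(X) and zero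
on H^j(X) for every j ≠ i (push-forward q_* taken on the homogeneous piece of degree j + 2n). The
published statement has rational coefficients, X defined over a finite field and F its Frobenius
endomorphism, the coprimality of the characteristic polynomials being deduced there from the Riemann
hypothesis over finite fields and from the independence of these polynomials of the cohomology
theory; here that coprimality is the hypothesis and F is any endomorphism. -/
theorem result (k : Type u) [Field k]
    [IsAlgClosed k] (K : Type v) [Field K] [CharZero K] (T : WeilCoh.Theory k K)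
    (X P : WeilCoh.Var k) (p q : P ⟶ X) (hP : WeilCoh.IsProd p q) (F : X ⟶ X)
    (hF : ∀ i j : ℤ, i ≠ j → IsCoprime (T.pullDeg F i).charpoly (T.pullDeg F j).charpoly)
    (i : ℤ) :
    ∃ u : ↥(T.gr P (2 * (WeilCoh.dim X.obj.left : ℤ))),
      (u : T.H P) ∈ Submodule.span K (Set.range (T.cl P)) ∧
        ∀ (j : ℤ) (b : ↥(T.gr X j)),
          (T.push q (j + 2 * (WeilCoh.dim X.obj.left : ℤ))
              ⟨T.pull p (b : T.H X) * (u : T.H P),
                SetLike.mul_mem_graded (T.pull_mem p j b b.2) u.2⟩ : T.H X) =
            if j = i then (b : T.H X) else 0 := by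
  classical
  haveI : IrreducibleSpace ↥X.obj.left := X.property.2.2
  -- CRT
  set S : Finset ℤ := ((Finset.range (2 * dim X.obj.left + 1)).image (Nat.cast : ℕ → ℤ)).erase i with hS
  have hcop : IsCoprime (T.pullDeg F i).charpoly (∏ j ∈ S, (T.pullDeg F j).charpoly) :=
    IsCoprime.prod_right fun j hj => hF i j (Finset.ne_of_mem_erase hj).symm
  obtain ⟨a, b0, hab⟩ := hcop
  set Q : Polynomial K := b0 * ∏ j ∈ S, (T.pullDeg F j).charpoly with hQ
  -- graph classes
  let jm : ℕ → (X ⟶ P) := fun m => prodLift p q hP (iter F m) (𝟙 X)
  let γ : ℕ → T.H P := fun m => T.cl P (sm (jm m) (genericPoint ↥X.obj.left))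
  have hγ : ∀ m, γ m ∈ T.gr P (2 * (dim X.obj.left : ℤ)) := fun m =>
    cl_graph_mem T p q hP (jm m) (prodLift_snd p q hP _ _)
  let u0 : T.H P := ∑ m ∈ Finset.range (Q.natDegree + 1), Q.coeff m • γ m
  have hu0 : u0 ∈ T.gr P (2 * (dim X.obj.left : ℤ)) :=
    Submodule.sum_mem _ fun m _ => Submodule.smul_mem _ _ (hγ m)
  refine ⟨⟨u0, hu0⟩, ?_, ?_⟩
  · show u0 ∈ Submodule.span K (Set.range (T.cl P))
    exact Submodule.sum_mem _ fun m _ => Submodule.smul_mem _ _
      (Submodule.subset_span (s := Set.range (T.cl P)) (Set.mem_range_self _))
  · intro j b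
    -- the action is `aeval (F^*) Q`
    have hact : (T.push q (j + 2 * (dim X.obj.left : ℤ))
        ⟨T.pull p (b : T.H X) * u0, SetLike.mul_mem_graded (T.pull_mem p j b b.2) hu0⟩ : T.H X) =
        ((Polynomial.aeval (T.pullDeg F j) Q) b : T.H X) := by
      refine act_eq T p q hP ⟨u0, hu0⟩ j b _ (Subtype.property _) fun c => ?_
      show T.tr P (T.pull p (b : T.H X) * u0 * T.pull q c) = _
      simp only [u0]
      rw [Finset.mul_sum, Finset.sum_mul, map_sum, Polynomial.aeval_eq_sum_range]
      rw [LinearMap.sum_apply, Submodule.coe_sum, Finset.sum_mul, map_sum]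
      refine Finset.sum_congr rfl fun m _ => ?_
      rw [mul_smul_comm, smul_mul_assoc, map_smul, LinearMap.smul_apply, Submodule.coe_smul,
        smul_mul_assoc, map_smul]
      congr 1
      rw [← pull_iter T F m j b]
      exact tr_graph T p q hP (iter F m) (jm m) (prodLift_fst p q hP _ _) (prodLift_snd p q hP _ _)
        (b : T.H X) c
    rw [hact]
    split_ifs with hji
    · subst hji
      have h1 : Q = 1 - a * (T.pullDeg F j).charpoly := by rw [hQ]; linear_combination hab
      rw [h1, map_sub, map_one, map_mul, LinearMap.aeval_self_charpoly, mul_zero]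
      simp
    · by_cases hjS : j ∈ S
      · have h0 : Polynomial.aeval (T.pullDeg F j) Q = 0 := by
          rw [hQ, ← Finset.mul_prod_erase S _ hjS, map_mul, map_mul, LinearMap.aeval_self_charpoly,
            zero_mul, mul_zero]
        rw [h0]; rfl
      · have hb0 : b = 0 := by
          apply Subtype.ext
          refine eq_zero_of_mem_of_vanish T b.2 ?_
          by_contra hcon
          push Not at hcon
          apply hjS
          rw [hS, Finset.mem_erase]
          refine ⟨hji, Finset.mem_image.2 ⟨j.toNat, Finset.mem_range.2 (by omega), by omega⟩⟩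
        rw [hb0, map_zero]; rfl

end Groth.Agent.S19415
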