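import Groth.Statements.S19416
import Mathlib
import Groth.Agent.S1871
import Groth.Agent.Lib.Helper90.DiagSerre3
import Groth.Agent.Lib.Helper90.InterDim1

set_option autoImplicit false
universe u
open CategoryTheory AlgebraicGeometry
open IntMult

namespace Groth.Agent.S19416

/-- Let k be a field and X a smooth variety over k (the structure morphism X → Spec k smooth, separated
and quasi-compact, X integral) of dimension n, and let V, W ⊆ X be closed irreducible subsets of
dimensions r and s. Then every irreducible component Z of V ∩ W has dimension at least r + s − n,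
stated as r + s ≤ dim Z + n with Krull dimensions of the subspaces; equivalently the codimension of
Z is at most the sum of the codimensions of V and W. The base field is arbitrary here; the same
statement over an algebraically closed field is the classical dimension count for intersections on a
nonsingular variety. -/
theorem result (k : Type u) [Field k] (X : Scheme.{u})
    (f : X ⟶ Spec (CommRingCat.of k)) [Smooth f] [IsSeparated f] [QuasiCompact f] [IsIntegral X]
    (n r s : ℕ) (hn : topologicalKrullDim X = n) (V W : Set X) (hVc : IsClosed V)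
    (hVi : IsIrreducible V) (hWc : IsClosed W) (hWi : IsIrreducible W)
    (hr : topologicalKrullDim ↥V = r) (hs : topologicalKrullDim ↥W = s) (Z : Set ↥(V ∩ W))
    (hZ : Z ∈ irreducibleComponents ↥(V ∩ W)) :
    ((r + s : ℕ) : WithBot ℕ∞) ≤ topologicalKrullDim ↥Z + n := by
  haveI : IsLocallyNoetherian X := LocallyOfFiniteType.isLocallyNoetherian f
  obtain ⟨ζ, hζC, hmax, hdimZ⟩ :=
    Groth.Agent.Lib.Helper90.InterDim.exists_generic_of_mem_irreducibleComponents (V ∩ W)
      (hVc.inter hWc) Z hZ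
  set IV := Scheme.IdealSheafData.vanishingIdeal ⟨V, hVc⟩ with hIV
  set IW := Scheme.IdealSheafData.vanishingIdeal ⟨W, hWc⟩ with hIW
  have hsV : (IV.support : Set X) = V := Scheme.IdealSheafData.coe_support_vanishingIdeal _
  have hsW : (IW.support : Set X) = W := Scheme.IdealSheafData.coe_support_vanishingIdeal _
  haveI : IsIntegral IV.subscheme :=
    Groth.Agent.Lib.Helper90.InterDim.isIntegral_subscheme_vanishingIdeal ⟨V, hVc⟩ hVi
  haveI : IsIntegral IW.subscheme :=
    Groth.Agent.Lib.Helper90.InterDim.isIntegral_subscheme_vanishingIdeal ⟨W, hWc⟩ hWi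
  have hζV : ζ ∈ IV.support := by
    rw [← SetLike.mem_coe, hsV]
    exact hζC.1
  have hζW : ζ ∈ IW.support := by
    rw [← SetLike.mem_coe, hsW]
    exact hζC.2
  obtain ⟨aV, bV, haV, hbV, habV⟩ := Groth.Agent.Lib.Helper90.IntMultDim.dim_quot_stalkIdeal f IV ζ
    hζV (closure {ζ}) isClosed_closure (subset_closure rfl)
  obtain ⟨aW, bW, haW, hbW, habW⟩ := Groth.Agent.Lib.Helper90.IntMultDim.dim_quot_stalkIdeal f IW ζ
    hζW (closure {ζ}) isClosed_closure (subset_closure rfl)
  obtain ⟨N, z, hN, hz, hNz⟩ := Groth.Agent.Lib.Helper90.IntMultDim.dim_formula f ζ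
  have hfl := Groth.Agent.Lib.Helper90.IntMultGeom.isFiniteLength_quot_sup IV IW ζ
    (fun ξ' h1 h2 h3 => hmax ξ' ⟨by rw [← hsV]; exact h1, by rw [← hsW]; exact h2⟩ h3)
  have hdV : topologicalKrullDim IV.support = topologicalKrullDim ↥V :=
    IsHomeomorph.topologicalKrullDim_eq _ (Homeomorph.setCongr hsV).isHomeomorph
  have hdW : topologicalKrullDim IW.support = topologicalKrullDim ↥W :=
    IsHomeomorph.topologicalKrullDim_eq _ (Homeomorph.setCongr hsW).isHomeomorph
  -- Serre's inequality at the local ring of `ζ`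
  have key : aV + aW ≤ N := by
    obtain ⟨U, hξU⟩ := Groth.Agent.Lib.Helper64.StalkIdeal.exists_affine_nhd ζ
    have hU : IsAffineOpen U.1 := U.2
    letI : Algebra Γ(X, U.1) (X.presheaf.stalk ζ) :=
      TopCat.Presheaf.algebra_section_stalk X.presheaf ⟨ζ, hξU⟩
    haveI hloc : IsLocalization.AtPrime (X.presheaf.stalk ζ) (hU.primeIdealOf ⟨ζ, hξU⟩).asIdeal :=
      hU.isLocalization_stalk ⟨ζ, hξU⟩
    haveI : IsLocalRing (X.presheaf.stalk ζ) := inferInstance
    let e₀ : k ≃+* Γ(Spec (CommRingCat.of k), ⊤) :=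
      (Scheme.ΓSpecIso (CommRingCat.of k)).symm.commRingCatIsoToRingEquiv
    have hle' : U.1 ≤ f ⁻¹ᵁ ⊤ := le_top
    have hsm : (f.appLE ⊤ U.1 hle').hom.Smooth := f.smooth_appLE (isAffineOpen_top _) hU hle'
    have hφ : ((f.appLE ⊤ U.1 hle').hom.comp e₀.toRingHom).Smooth :=
      (RingHom.Smooth.of_bijective e₀.bijective).comp hsm
    letI : Algebra k Γ(X, U.1) := ((f.appLE ⊤ U.1 hle').hom.comp e₀.toRingHom).toAlgebra
    haveI : Algebra.Smooth k Γ(X, U.1) := hφ
    haveI h𝔭' := Groth.Agent.S1871.stalkIdeal_isPrime IV ζ hζV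
    haveI h𝔮' := Groth.Agent.S1871.stalkIdeal_isPrime IW ζ hζW
    have hcomapmax := IsLocalization.AtPrime.comap_maximalIdeal (X.presheaf.stalk ζ)
      (hU.primeIdealOf ⟨ζ, hξU⟩).asIdeal
    have h𝔭map := IsLocalization.map_comap (hU.primeIdealOf ⟨ζ, hξU⟩).asIdeal.primeCompl
      (X.presheaf.stalk ζ) (IntMult.stalkIdeal IV ζ)
    have h𝔮map := IsLocalization.map_comap (hU.primeIdealOf ⟨ζ, hξU⟩).asIdeal.primeCompl
      (X.presheaf.stalk ζ) (IntMult.stalkIdeal IW ζ)
    have h𝔭P : (IntMult.stalkIdeal IV ζ).comap (algebraMap Γ(X, U.1) (X.presheaf.stalk ζ)) ≤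
        (hU.primeIdealOf ⟨ζ, hξU⟩).asIdeal := by
      rw [← hcomapmax]
      exact Ideal.comap_mono (IsLocalRing.le_maximalIdeal h𝔭'.ne_top)
    have h𝔮P : (IntMult.stalkIdeal IW ζ).comap (algebraMap Γ(X, U.1) (X.presheaf.stalk ζ)) ≤
        (hU.primeIdealOf ⟨ζ, hξU⟩).asIdeal := by
      rw [← hcomapmax]
      exact Ideal.comap_mono (IsLocalRing.le_maximalIdeal h𝔮'.ne_top)
    have key := Groth.Agent.Lib.Helper90.DiagRing.serre_dim_le_smooth k Γ(X, U.1)
      (hU.primeIdealOf ⟨ζ, hξU⟩).asIdeal (X.presheaf.stalk ζ)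
      ((IntMult.stalkIdeal IV ζ).comap (algebraMap Γ(X, U.1) (X.presheaf.stalk ζ)))
      ((IntMult.stalkIdeal IW ζ).comap (algebraMap Γ(X, U.1) (X.presheaf.stalk ζ)))
      h𝔭P h𝔮P
      (by rw [h𝔭map, h𝔮map, sup_comm]; exact hfl)
    rw [h𝔭map, h𝔮map, haV, haW, hN] at key
    exact_mod_cast key
  -- arithmetic
  rw [hdV, hr] at habV
  rw [hdW, hs] at habW
  rw [hn] at hNz
  rw [hz] at hbV hbW
  rw [hdimZ, hz]
  have e1 : r = aV + bV := by exact_mod_cast habV
  have e2 : s = aW + bW := by exact_mod_cast habW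
  have e3 : n = N + z := by exact_mod_cast hNz
  have e4 : bV ≤ z := by exact_mod_cast hbV
  have e5 : bW ≤ z := by exact_mod_cast hbW
  have : r + s ≤ z + n := by omega
  exact_mod_cast this

end Groth.Agent.S19416
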