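import Groth.Statements.S19418
import Groth.Agent.S15748
import Groth.Agent.Lib.Helper33.WeilFrob
import Groth.Agent.Lib.Helper33.WeilGraph
import Mathlib

set_option autoImplicit false
universe u v
open CategoryTheory AlgebraicGeometry
open WeilCoh

namespace Groth.Agent.S19418

section

open Groth.Agent.Lib.Helper33.WeilLib Groth.Agent.Lib.Helper33.WeilDim
  Groth.Agent.Lib.Helper33.WeilGraph Groth.Agent.Lib.Helper33.WeilFrob Groth.Agent.S15748

variable {k : Type u} [Field k] [IsAlgClosed k] {K : Type v} [Field K] [CharZero K]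
  (T : WeilCoh.Theory k K) {X P : WeilCoh.Var k}

theorem invol (p q : P ⟶ X) (hP : WeilCoh.IsProd p q) (σ : P ⟶ P) (hσp : σ ≫ p = q)
    (hσq : σ ≫ q = p) : σ ≫ σ = 𝟙 P := by
  have h1 : (σ ≫ σ) ≫ p = 𝟙 P ≫ p := by rw [Category.assoc, hσp, hσq, Category.id_comp]
  have h2 : (σ ≫ σ) ≫ q = 𝟙 P ≫ q := by rw [Category.assoc, hσq, hσp, Category.id_comp]
  apply ObjectProperty.hom_ext
  apply Over.OverMorphism.ext
  exact hP.hom_ext (congrArg sm h1) (congrArg sm h2)

theorem pull_cl_invol (σ : P ⟶ P) (hσ : σ ≫ σ = 𝟙 P) (ζ : P.obj.left) :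
    T.pull σ (T.cl P ζ) = T.cl P (sm σ ζ) := by
  have : IrreducibleSpace ↥P.obj.left := P.property.2.2
  have hsm : sm σ ≫ sm σ = 𝟙 P.obj.left := congrArg sm hσ
  have hdeg : ∀ x, (sm σ).residueDegree x = 1 := fun x =>
    residueDegree_section (sm σ) (sm σ) hsm x
  have htr : ∀ c, T.tr P (T.pull σ c) = T.tr P c := fun c => by
    have := tr_pull_of_residueDegree T σ 1 one_ne_zero (hdeg _) c
    simpa using this
  have hpp : ∀ c, T.pull σ (T.pull σ c) = c := by
    intro c
    rw [← AlgHom.comp_apply, ← T.pull_comp, hσ, T.pull_id]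
    rfl
  have hpd : pdim P.obj.left (sm σ ζ) = pdim P.obj.left ζ :=
    pdim_map_of_residueDegree_ne_zero σ ζ (by rw [hdeg]; exact one_ne_zero)
  have hcod : codim P.obj.left (sm σ ζ) = codim P.obj.left ζ := by
    unfold codim
    rw [hpd]
  refine eq_of_tr_mul T (T.pull_mem σ _ _ (T.cl_mem P ζ))
    (by rw [← hcod]; exact T.cl_mem P _) fun b _ => ?_
  have h1 : T.pull σ (T.cl P ζ) * b = T.pull σ (T.cl P ζ * T.pull σ b) := by
    rw [map_mul, hpp]
  rw [h1, htr, tr_cl_mul_pull T σ ζ b, hdeg, Nat.cast_one, one_mul]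

theorem action_eq (p q : P ⟶ X) (i : ℤ)
    (hdimj : i + 2 * (WeilCoh.dim X.obj.left : ℤ) + 2 * (WeilCoh.dim X.obj.left : ℤ) -
      2 * (WeilCoh.dim P.obj.left : ℤ) = i)
    (h' : T.gr X (i + 2 * (WeilCoh.dim X.obj.left : ℤ) + 2 * (WeilCoh.dim X.obj.left : ℤ) -
      2 * (WeilCoh.dim P.obj.left : ℤ)) = T.gr X i)
    (w : ↥(T.gr P (2 * (WeilCoh.dim X.obj.left : ℤ)))) :
    (LinearEquiv.ofEq _ _ h').toLinearMap ∘ₗ
      ((T.push q (i + 2 * (WeilCoh.dim X.obj.left : ℤ))) ∘ₗ
        (((LinearMap.mulRight K (w : T.H P)).restrict (p := T.gr P i)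
            (q := T.gr P (i + 2 * (WeilCoh.dim X.obj.left : ℤ)))
            (fun x hx => SetLike.mul_mem_graded hx w.2)) ∘ₗ
          T.pullDeg p i)) = act T p q (w : T.H P) i i := by
  rw [corr_eq_act T p q _ w i, ofEq_comp_act T p q (w : T.H P) _ _ _ hdimj]

end

/-- Key step, cohomological form: let H be a Weil cohomology theory with coefficients in a field K of
characteristic zero on nonsingular connected projective varieties over an algebraically closed field
k, X such a variety of dimension n, P = X × X with projections p, q and the swap automorphism σ (σ p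
= q, σ q = p); the identity dim P = 2n is carried as the arithmetic hypothesis hdim. A class u ∈
H^{2n}(P) acts as a degree-0 correspondence on each H^j(X), 0 ≤ j ≤ 2n, by β ↦ q_*(p^*(β) · u); call
u algebraic when it lies in the K-linear span of the classes of closed irreducible subsets of P, and
let A be the K-subalgebra of ∏_j End_K(H^j(X)) generated by the actions of the algebraic classes in
H^{2n}(P). If u is algebraic and ψ ∘ (action of u) is nilpotent for every ψ ∈ A — that is, the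
action of u lies in the Jacobson radical of the finite-dimensional algebra A — then u is numerically
trivial against algebraic classes: Tr_P(u · v) = 0 for every algebraic v ∈ H^{2n}(P). In the
published argument this is the step showing that the algebra of degree-0 algebraic correspondences
modulo numerical equivalence has zero Jacobson radical, hence is semisimple; it is stated here on
the cohomological side, with the algebra generated by the correspondence actions in place of the
algebra of cycle classes. -/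
theorem result (k : Type u) [Field k] [IsAlgClosed k]
    (K : Type v) [Field K] [CharZero K] (T : WeilCoh.Theory k K) (X P : WeilCoh.Var k)
    (p q : P ⟶ X) (hP : WeilCoh.IsProd p q) (σ : P ⟶ P) (hσp : σ ≫ p = q) (hσq : σ ≫ q = p)
    (hdim : ∀ j : ℤ, j + 2 * (WeilCoh.dim X.obj.left : ℤ) + 2 * (WeilCoh.dim X.obj.left : ℤ) - 2 * (WeilCoh.dim P.obj.left : ℤ) = j)
    (u : ↥(T.gr P (2 * (WeilCoh.dim X.obj.left : ℤ)))) (hu : (u : T.H P) ∈ Submodule.span K (Set.range (T.cl P)))
    (hJ : ∀ ψ ∈ Algebra.adjoin K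
          (Set.range (fun w : {w : ↥(T.gr P (2 * (WeilCoh.dim X.obj.left : ℤ))) // (w : T.H P) ∈ Submodule.span K (Set.range (T.cl P))} =>
            fun j : Fin (2 * WeilCoh.dim X.obj.left + 1) =>
              ((LinearEquiv.ofEq (T.gr X (((j : ℕ) : ℤ) + 2 * (WeilCoh.dim X.obj.left : ℤ) + 2 * (WeilCoh.dim X.obj.left : ℤ) - 2 * (WeilCoh.dim P.obj.left : ℤ))) (T.gr X ((j : ℕ) : ℤ)) (congrArg (T.gr X) (hdim ((j : ℕ) : ℤ)))).toLinearMap ∘ₗ
              ((T.push q (((j : ℕ) : ℤ) + 2 * (WeilCoh.dim X.obj.left : ℤ))) ∘ₗ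
                (((LinearMap.mulRight K (w.1 : T.H P)).restrict (p := T.gr P ((j : ℕ) : ℤ))
                    (q := T.gr P (((j : ℕ) : ℤ) + 2 * (WeilCoh.dim X.obj.left : ℤ))) (fun x hx => SetLike.mul_mem_graded hx w.1.2)) ∘ₗ
                  T.pullDeg p ((j : ℕ) : ℤ)))))),
        IsNilpotent (ψ * fun j : Fin (2 * WeilCoh.dim X.obj.left + 1) =>
          ((LinearEquiv.ofEq (T.gr X (((j : ℕ) : ℤ) + 2 * (WeilCoh.dim X.obj.left : ℤ) + 2 * (WeilCoh.dim X.obj.left : ℤ) - 2 * (WeilCoh.dim P.obj.left : ℤ))) (T.gr X ((j : ℕ) : ℤ)) (congrArg (T.gr X) (hdim ((j : ℕ) : ℤ)))).toLinearMap ∘ₗ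
              ((T.push q (((j : ℕ) : ℤ) + 2 * (WeilCoh.dim X.obj.left : ℤ))) ∘ₗ
                (((LinearMap.mulRight K (u : T.H P)).restrict (p := T.gr P ((j : ℕ) : ℤ))
                    (q := T.gr P (((j : ℕ) : ℤ) + 2 * (WeilCoh.dim X.obj.left : ℤ))) (fun x hx => SetLike.mul_mem_graded hx u.2)) ∘ₗ
                  T.pullDeg p ((j : ℕ) : ℤ))))))
    (v : ↥(T.gr P (2 * (WeilCoh.dim X.obj.left : ℤ)))) (hv : (v : T.H P) ∈ Submodule.span K (Set.range (T.cl P))) :
    T.tr P ((u : T.H P) * (v : T.H P)) = 0 := by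
  classical
  have hσσ := invol p q hP σ hσp hσq
  have hpp : ∀ c, T.pull σ (T.pull σ c) = c := by
    intro c
    rw [← AlgHom.comp_apply, ← T.pull_comp, hσσ, T.pull_id]
    rfl
  have hv' : T.pull σ (v : T.H P) ∈ Submodule.span K (Set.range (T.cl P)) := by
    refine Submodule.span_induction
      (p := fun x _ => T.pull σ x ∈ Submodule.span K (Set.range (T.cl P))) ?_ ?_ ?_ ?_ hv
    · rintro _ ⟨ζ, rfl⟩
      rw [pull_cl_invol T σ hσσ ζ]
      exact Submodule.subset_span ⟨_, rfl⟩
    · simp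
    · intro x y _ _ hx hy
      rw [map_add]
      exact Submodule.add_mem _ hx hy
    · intro c x _ hx
      rw [map_smul]
      exact Submodule.smul_mem _ c hx
  have hv'mem : T.pull σ (v : T.H P) ∈ T.gr P (2 * (WeilCoh.dim X.obj.left : ℤ)) :=
    T.pull_mem σ _ _ v.2
  have hmain := Groth.Agent.S15748.main T p q hP p q hP σ hσp hσq 0 (fun i => (i : ℤ))
    (fun i => by simp) (u : T.H P) (by simpa using u.2) (T.pull σ (v : T.H P))
    (by simpa using hv'mem)
  rw [hpp] at hmain
  rw [hmain]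
  unfold Groth.Agent.S15748.F
  refine Finset.sum_eq_zero fun i hi => ?_
  have hnil := hJ _ (Algebra.subset_adjoin
    ⟨⟨⟨T.pull σ (v : T.H P), hv'mem⟩, hv'⟩, rfl⟩)
  obtain ⟨N, hN⟩ := hnil
  have hNj := congrFun hN ⟨i, Finset.mem_range.1 hi⟩
  rw [Pi.pow_apply, Pi.mul_apply, Pi.zero_apply] at hNj
  simp only [] at hNj
  rw [action_eq T p q (i : ℤ) (hdim (i : ℤ)) _ ⟨T.pull σ (v : T.H P), hv'mem⟩,
    action_eq T p q (i : ℤ) (hdim (i : ℤ)) _ u] at hNj
  have hnil' : IsNilpotent (Groth.Agent.S15748.act T p q (T.pull σ (v : T.H P)) (i : ℤ) (i : ℤ) ∘ₗ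
      Groth.Agent.S15748.act T p q (u : T.H P) (i : ℤ) (i : ℤ)) := ⟨N, hNj⟩
  have := LinearMap.isNilpotent_trace_of_isNilpotent hnil'
  rw [this.eq_zero, mul_zero]

end Groth.Agent.S19418
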