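import Groth.Statements.S19422
import Mathlib.RingTheory.MvPolynomial.Homogeneous
import Mathlib.RingTheory.TensorProduct.Basic

set_option autoImplicit false
universe u
open TensorProduct LaurentPolynomial
open GIT

namespace Groth.Agent.S19422

section
variable {k : Type u} [Field k] {ι : Type u} [Fintype ι]

noncomputable def Ψ' (r : ι → ℤ) : MvPolynomial ι k →ₐ[k] MvPolynomial ι k ⊗[k] k[T;T⁻¹] :=
  MvPolynomial.aeval fun i => (MvPolynomial.X i : MvPolynomial ι k) ⊗ₜ[k] (T (r i) : k[T;T⁻¹])

noncomputable def wt (r : ι → ℤ) (α : ι →₀ ℕ) : ℤ := α.sum fun i e => (e : ℤ) * r i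

lemma prod_tmul (S : Finset ι) (a : ι → MvPolynomial ι k) (b : ι → ℤ) :
    ∏ i ∈ S, (a i ⊗ₜ[k] (T (b i) : k[T;T⁻¹])) =
      (∏ i ∈ S, a i) ⊗ₜ[k] (T (∑ i ∈ S, b i) : k[T;T⁻¹]) := by
  classical
  induction S using Finset.induction_on with
  | empty => simp [Algebra.TensorProduct.one_def, T_zero]
  | insert i S hi ih =>
    rw [Finset.prod_insert hi, Finset.prod_insert hi, Finset.sum_insert hi, ih,
      Algebra.TensorProduct.tmul_mul_tmul, T_add]

lemma Ψ'_monomial (r : ι → ℤ) (α : ι →₀ ℕ) (c : k) :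
    Ψ' r (MvPolynomial.monomial α c) =
      (MvPolynomial.monomial α c) ⊗ₜ[k] (T (wt r α) : k[T;T⁻¹]) := by
  rw [Ψ', MvPolynomial.aeval_monomial]
  simp only [Algebra.TensorProduct.tmul_pow, T_pow]
  rw [Finsupp.prod, prod_tmul, Algebra.TensorProduct.algebraMap_apply,
    Algebra.TensorProduct.tmul_mul_tmul, one_mul]
  congr 1
  rw [MvPolynomial.monomial_eq, Finsupp.prod]
  rfl

lemma T_inj {a b : ℤ} (h : (T a : k[T;T⁻¹]) = T b) : a = b := by
  have := congrArg (fun f : k[T;T⁻¹] => f.coeff a) h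
  simp only [T_apply] at this
  by_contra hab
  have hba : ¬ b = a := fun h' => hab h'.symm
  simp [hba] at this

lemma key (r : ι → ℤ) (α : ι →₀ ℕ) (F : MvPolynomial ι k)
    (hF : Ψ' r F = F ⊗ₜ[k] (1 : k[T;T⁻¹])) (hα : MvPolynomial.coeff α F ≠ 0) : wt r α = 0 := by
  classical
  let L : MvPolynomial ι k ⊗[k] k[T;T⁻¹] →ₗ[k] k[T;T⁻¹] :=
    (TensorProduct.lid k k[T;T⁻¹]).toLinearMap ∘ₗ
      LinearMap.rTensor k[T;T⁻¹] (MvPolynomial.lcoeff k α)
  have h1 : L ∘ₗ (Ψ' r).toLinearMap =
      (LinearMap.toSpanSingleton k k[T;T⁻¹] (T (wt r α))) ∘ₗ (MvPolynomial.lcoeff k α) := by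
    apply MvPolynomial.linearMap_ext
    intro β
    apply LinearMap.ext
    intro c
    simp only [LinearMap.coe_comp, Function.comp_apply, AlgHom.toLinearMap_apply,
      Ψ'_monomial, L, LinearMap.rTensor_tmul, LinearEquiv.coe_coe, TensorProduct.lid_tmul,
      MvPolynomial.lcoeff_apply, MvPolynomial.coeff_monomial, LinearMap.toSpanSingleton_apply,
      ]
    by_cases h : β = α
    · subst h
      simp
    · simp [h]
  have h2 := LinearMap.congr_fun h1 F
  simp only [LinearMap.coe_comp, Function.comp_apply, AlgHom.toLinearMap_apply, hF, L,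
    LinearMap.rTensor_tmul, LinearEquiv.coe_coe, TensorProduct.lid_tmul,
    MvPolynomial.lcoeff_apply, LinearMap.toSpanSingleton_apply] at h2
  have h3 : (T 0 : k[T;T⁻¹]) = T (wt r α) := by
    rw [T_zero]
    have := congrArg (fun x => (MvPolynomial.coeff α F)⁻¹ • x) h2
    simpa [smul_smul, inv_mul_cancel₀ hα] using this
  exact (T_inj h3).symm

end

/-- Over an algebraically closed field k, let the multiplicative group, whose coordinate Hopf algebra is
the Laurent polynomial ring, act diagonally on affine ι-space, ι finite: the coaction on the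
polynomial ring is multiplicative and sends the coordinate function X_i to X_i ⊗ T^(r_i) for
integers r_i. Then a vector v is semistable (some invariant homogeneous polynomial of positive
degree does not vanish at v) if and only if there are indices i and j, possibly equal, with v_i ≠ 0,
v_j ≠ 0 and r_i ≤ 0 ≤ r_j, i.e. the origin lies in the convex hull of the weights of v. (Stated for
the ambient projective space on its affine cone; the published statement is for a point of a closed
invariant subvariety, whose semistability is that of the point in the ambient space.) -/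
theorem result (k : Type u) [Field k] [IsAlgClosed k]
    (ι : Type u) [Fintype ι] [HopfRep.Comod k k[T;T⁻¹] (MvPolynomial ι k)] [GLin.IsCoactAlg k k[T;T⁻¹] (MvPolynomial ι k)]
    (r : ι → ℤ)
    (hr : ∀ i : ι, HopfRep.Comod.coact (k := k) (A := k[T;T⁻¹]) (MvPolynomial.X i : MvPolynomial ι k) =
      (MvPolynomial.X i : MvPolynomial ι k) ⊗ₜ[k] (T (r i) : k[T;T⁻¹]))
    (v : ι → k) :
    GLin.IsSemistableVec k k[T;T⁻¹] v ↔ ∃ i j : ι, v i ≠ 0 ∧ v j ≠ 0 ∧ r i ≤ 0 ∧ 0 ≤ r j := by
  classical
  have hΨ : ∀ F : MvPolynomial ι k,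
      HopfRep.Comod.coact (k := k) (A := k[T;T⁻¹]) F = Ψ' r F := by
    intro F
    have : GLin.coactAlgHom k k[T;T⁻¹] (MvPolynomial ι k) = Ψ' r := by
      apply MvPolynomial.algHom_ext
      intro i
      rw [GLin.coactAlgHom_apply, hr, Ψ', MvPolynomial.aeval_X]
    rw [← this]
    rfl
  constructor
  · intro hss
    unfold GLin.IsSemistableVec GLin.IsNullform at hss
    push Not at hss
    obtain ⟨F, hFinv, d, hd, hFhom, hFv⟩ := hss
    rw [GLin.mem_invariants_iff, hΨ] at hFinv
    rw [MvPolynomial.eval_eq] at hFv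
    obtain ⟨α, hαs, hα⟩ := Finset.exists_ne_zero_of_sum_ne_zero hFv
    have hc : MvPolynomial.coeff α F ≠ 0 := left_ne_zero_of_mul hα
    have hv : ∀ i ∈ α.support, v i ≠ 0 := by
      intro i hi h0
      apply right_ne_zero_of_mul hα
      apply Finset.prod_eq_zero hi
      rw [h0, zero_pow (Finsupp.mem_support_iff.mp hi)]
    have hw : wt r α = 0 := key r α F hFinv hc
    have hne : α.support.Nonempty := by
      rw [Finset.nonempty_iff_ne_empty, Ne, Finsupp.support_eq_empty]
      rintro rfl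
      have := hFhom hc
      simp at this
      omega
    have hw' : ∑ i ∈ α.support, (α i : ℤ) * r i = 0 := hw
    have hpos : ∀ i ∈ α.support, (0 : ℤ) < α i := fun i hi =>
      Int.natCast_pos.mpr (Nat.pos_of_ne_zero (Finsupp.mem_support_iff.mp hi))
    have h1 : ∃ i ∈ α.support, r i ≤ 0 := by
      by_contra hcon
      push Not at hcon
      have : 0 < ∑ i ∈ α.support, (α i : ℤ) * r i :=
        Finset.sum_pos (fun i hi => mul_pos (hpos i hi) (hcon i hi)) hne
      omega
    have h2 : ∃ j ∈ α.support, 0 ≤ r j := by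
      by_contra hcon
      push Not at hcon
      have : ∑ i ∈ α.support, (α i : ℤ) * r i < 0 :=
        Finset.sum_neg (fun i hi => mul_neg_of_pos_of_neg (hpos i hi) (hcon i hi)) hne
      omega
    obtain ⟨i, hi, hri⟩ := h1
    obtain ⟨j, hj, hrj⟩ := h2
    exact ⟨i, j, hv i hi, hv j hj, hri, hrj⟩
  · rintro ⟨i, j, hvi, hvj, hri, hrj⟩
    unfold GLin.IsSemistableVec GLin.IsNullform
    push Not
    have hX : ∀ (l : ι) (e : ℕ), Ψ' r ((MvPolynomial.X l : MvPolynomial ι k) ^ e) =
        ((MvPolynomial.X l : MvPolynomial ι k) ^ e) ⊗ₜ[k] (T ((e : ℤ) * r l) : k[T;T⁻¹]) := by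
      intro l e
      rw [map_pow, Ψ', MvPolynomial.aeval_X, Algebra.TensorProduct.tmul_pow, T_pow]
    by_cases hi0 : r i = 0
    · refine ⟨MvPolynomial.X i, ?_, 1, one_pos, MvPolynomial.isHomogeneous_X k i, by simpa using hvi⟩
      rw [GLin.mem_invariants_iff, hr, hi0, T_zero]
    by_cases hj0 : r j = 0
    · refine ⟨MvPolynomial.X j, ?_, 1, one_pos, MvPolynomial.isHomogeneous_X k j, by simpa using hvj⟩
      rw [GLin.mem_invariants_iff, hr, hj0, T_zero]
    have hri' : r i < 0 := lt_of_le_of_ne hri hi0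
    have hrj' : 0 < r j := lt_of_le_of_ne hrj (Ne.symm hj0)
    refine ⟨MvPolynomial.X i ^ (r j).toNat * MvPolynomial.X j ^ (-r i).toNat, ?_,
      (r j).toNat + (-r i).toNat, ?_, ?_, ?_⟩
    · rw [GLin.mem_invariants_iff, hΨ, map_mul, hX, hX, Algebra.TensorProduct.tmul_mul_tmul,
        ← T_add]
      congr 1
      rw [← T_zero]
      congr 1
      rw [Int.toNat_of_nonneg hrj, Int.toNat_of_nonneg (by omega)]
      ring
    · have : 0 < (r j).toNat := by omega
      omega
    · have := ((MvPolynomial.isHomogeneous_X k i).pow (r j).toNat).mul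
        ((MvPolynomial.isHomogeneous_X k j).pow (-r i).toNat)
      simpa using this
    · simp only [map_mul, map_pow, MvPolynomial.eval_X]
      exact mul_ne_zero (pow_ne_zero _ hvi) (pow_ne_zero _ hvj)

end Groth.Agent.S19422
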