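import Groth.Statements.S19423
import Groth.Agent.S19422
import Mathlib.RingTheory.Spectrum.Prime.Topology
import Mathlib.RingTheory.IntegralClosure.IsIntegralClosure.Basic

set_option autoImplicit false
universe u
open TensorProduct LaurentPolynomial
open GIT

namespace Groth.Agent.S19423

open Groth.Agent.S19422 in
lemma prod_eq {k : Type u} [Field k] {ι : Type u} (r : ι → ℤ) (v : ι → k)
    (H : (∀ j, v j ≠ 0 → r j ≤ 0) ∨ (∀ j, v j ≠ 0 → 0 ≤ r j)) (α : ι →₀ ℕ) :
    (α.prod fun i e => (if r i = 0 then v i else 0) ^ e) =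
      (α.prod fun i e => v i ^ e) * (if wt r α = 0 then 1 else 0) := by
  classical
  by_cases h0 : ∃ i ∈ α.support, v i = 0
  · obtain ⟨i, hi, hvi⟩ := h0
    have hαi : α i ≠ 0 := Finsupp.mem_support_iff.mp hi
    rw [Finsupp.prod, Finsupp.prod, Finset.prod_eq_zero hi, Finset.prod_eq_zero hi, zero_mul]
    · rw [hvi, zero_pow hαi]
    · split_ifs
      · rw [hvi, zero_pow hαi]
      · rw [zero_pow hαi]
  · push Not at h0
    have hpos : ∀ i ∈ α.support, (0 : ℤ) < α i := fun i hi =>
      Int.natCast_pos.mpr (Nat.pos_of_ne_zero (Finsupp.mem_support_iff.mp hi))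
    have key : wt r α = 0 ↔ ∀ i ∈ α.support, r i = 0 := by
      change ∑ i ∈ α.support, (α i : ℤ) * r i = 0 ↔ _
      rcases H with H | H
      · rw [Finset.sum_eq_zero_iff_of_nonpos
          (fun i hi => mul_nonpos_of_nonneg_of_nonpos (hpos i hi).le (H i (h0 i hi)))]
        refine forall₂_congr fun i hi => ?_
        rw [mul_eq_zero]
        exact ⟨fun h => h.resolve_left (hpos i hi).ne', Or.inr⟩
      · rw [Finset.sum_eq_zero_iff_of_nonneg
          (fun i hi => mul_nonneg (hpos i hi).le (H i (h0 i hi)))]
        refine forall₂_congr fun i hi => ?_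
        rw [mul_eq_zero]
        exact ⟨fun h => h.resolve_left (hpos i hi).ne', Or.inr⟩
    by_cases hw : wt r α = 0
    · rw [if_pos hw, mul_one]
      apply Finset.prod_congr rfl
      intro i hi
      change (if r i = 0 then v i else 0) ^ α i = v i ^ α i
      rw [if_pos (key.mp hw i hi)]
    · rw [if_neg hw, mul_zero]
      rw [key] at hw
      push Not at hw
      obtain ⟨i, hi, hri⟩ := hw
      rw [Finsupp.prod]
      apply Finset.prod_eq_zero hi
      rw [if_neg hri, zero_pow (Finsupp.mem_support_iff.mp hi)]

open Groth.Agent.S19422 in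
lemma orbit_monomial (k : Type u) [Field k]
    (ι : Type u) [Fintype ι] [HopfRep.Comod k k[T;T⁻¹] (MvPolynomial ι k)]
    [GLin.IsCoactAlg k k[T;T⁻¹] (MvPolynomial ι k)]
    (r : ι → ℤ)
    (hr : ∀ i : ι, HopfRep.Comod.coact (k := k) (A := k[T;T⁻¹])
      (MvPolynomial.X i : MvPolynomial ι k) =
      (MvPolynomial.X i : MvPolynomial ι k) ⊗ₜ[k] (T (r i) : k[T;T⁻¹]))
    (v : ι → k) (α : ι →₀ ℕ) (c : k) :
    GLin.orbitHom k k[T;T⁻¹] (GLin.vecPt k ι v) (MvPolynomial.monomial α c) =
      (c * α.prod fun i e => v i ^ e) • (T (wt r α) : k[T;T⁻¹]) := by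
  have hΨ : GLin.coactAlgHom k k[T;T⁻¹] (MvPolynomial ι k) = Ψ' r := by
    apply MvPolynomial.algHom_ext
    intro i
    rw [GLin.coactAlgHom_apply, hr, Ψ', MvPolynomial.aeval_X]
  simp only [GLin.orbitHom, AlgHom.comp_apply, hΨ, Ψ'_monomial, AlgEquiv.toAlgHom_eq_coe,
    AlgHom.coe_coe, Algebra.TensorProduct.map_tmul, AlgHom.id_apply,
    Algebra.TensorProduct.lid_tmul, GLin.vecPt, MvPolynomial.aeval_monomial]
  rfl

/-- Over an algebraically closed field k, let the multiplicative group, whose coordinate Hopf algebra is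
the Laurent polynomial ring, act diagonally on affine ι-space, ι finite: the coaction on the
polynomial ring is multiplicative and sends the coordinate function X_i to X_i ⊗ T^(r_i) for
integers r_i. Then a vector v is stable (the orbit of the point v of affine space is closed and its
stabiliser is a finite group scheme) if and only if there are indices i and j with v_i ≠ 0, v_j ≠ 0
and r_i < 0 < r_j, i.e. the origin is an interior point of the convex hull of the weights of v.
(Stated for the ambient projective space on its affine cone, where stability means a closed orbit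
with finite stabiliser in the cone.) -/
theorem result (k : Type u) [Field k] [IsAlgClosed k]
    (ι : Type u) [Fintype ι] [HopfRep.Comod k k[T;T⁻¹] (MvPolynomial ι k)] [GLin.IsCoactAlg k k[T;T⁻¹] (MvPolynomial ι k)]
    (r : ι → ℤ)
    (hr : ∀ i : ι, HopfRep.Comod.coact (k := k) (A := k[T;T⁻¹]) (MvPolynomial.X i : MvPolynomial ι k) =
      (MvPolynomial.X i : MvPolynomial ι k) ⊗ₜ[k] (T (r i) : k[T;T⁻¹]))
    (v : ι → k) :
    GLin.IsStableVec k k[T;T⁻¹] v ↔ ∃ i j : ι, v i ≠ 0 ∧ v j ≠ 0 ∧ r i < 0 ∧ 0 < r j := by
  classical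
  have hmon := orbit_monomial k ι r hr v
  set φ := GLin.orbitHom k k[T;T⁻¹] (GLin.vecPt k ι v) with hφ
  have hφX : ∀ i, φ (MvPolynomial.X i) = v i • (T (r i) : k[T;T⁻¹]) := by
    intro i
    have := hmon (Finsupp.single i 1) 1
    rw [show (MvPolynomial.monomial (Finsupp.single i 1) (1 : k) : MvPolynomial ι k) =
      MvPolynomial.X i from rfl] at this
    rw [this]
    simp [Groth.Agent.S19422.wt]
  have hφC : ∀ a : k, φ (MvPolynomial.C a) = algebraMap k k[T;T⁻¹] a := fun a => by
    rw [← MvPolynomial.algebraMap_eq]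
    exact φ.commutes a
  constructor
  · rintro ⟨hclosed, hfin⟩
    by_contra hcon
    push Not at hcon
    have H : (∀ j, v j ≠ 0 → r j ≤ 0) ∨ (∀ j, v j ≠ 0 → 0 ≤ r j) := by
      by_cases h : ∃ i, v i ≠ 0 ∧ r i < 0
      · obtain ⟨i, hvi, hri⟩ := h
        exact Or.inl fun j hj => hcon i j hvi hj hri
      · push Not at h
        exact Or.inr h
    have hex : ∃ i₀, v i₀ ≠ 0 ∧ r i₀ ≠ 0 := by
      by_contra hno
      push Not at hno
      have hφeq : φ = (Algebra.ofId k k[T;T⁻¹]).comp (GLin.vecPt k ι v) := by
        apply MvPolynomial.algHom_ext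
        intro i
        rw [hφX]
        simp only [GLin.vecPt, AlgHom.comp_apply, MvPolynomial.aeval_X, Algebra.ofId_apply,
          Algebra.algebraMap_eq_smul_one]
        by_cases hvi : v i = 0
        · rw [hvi, zero_smul, zero_smul]
        · rw [hno i hvi, T_zero]
      have hbot : GLin.stabIdeal k k[T;T⁻¹] (GLin.vecPt k ι v) = ⊥ := by
        rw [eq_bot_iff, GLin.stabIdeal, Ideal.map_le_iff_le_comap]
        intro F hF
        rw [RingHom.mem_ker] at hF
        rw [Ideal.mem_comap, Ideal.mem_bot]
        change φ F = 0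
        rw [hφeq, AlgHom.comp_apply, hF, map_zero]
      have hfin' : Module.Finite k (k[T;T⁻¹] ⧸ GLin.stabIdeal k k[T;T⁻¹] (GLin.vecPt k ι v)) :=
        hfin
      rw [hbot] at hfin'
      haveI : Module.Finite k k[T;T⁻¹] :=
        Module.Finite.equiv (AlgEquiv.quotientBot k k[T;T⁻¹]).toLinearEquiv
      haveI : IsNoetherian k k[T;T⁻¹] := isNoetherian_of_isNoetherianRing_of_finite k _
      exact Polynomial.not_finite (R := k) (Module.Finite.of_injective
        (Polynomial.toLaurentAlg (R := k)).toLinearMap Polynomial.toLaurent_injective)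
    obtain ⟨i₀, hvi₀, hri₀⟩ := hex
    let v' : ι → k := fun i => if r i = 0 then v i else 0
    let x' := GLin.vecPt k ι v'
    have claim1 : ∀ F : MvPolynomial ι k, x' F = (φ F).coeff 0 := by
      intro F
      induction F using MvPolynomial.induction_on' with
      | monomial α c =>
        rw [hmon]
        simp only [x', GLin.vecPt, MvPolynomial.aeval_monomial, Algebra.algebraMap_self,
          RingHom.id_apply, AddMonoidAlgebra.coeff_smul, Finsupp.smul_apply, T_apply, smul_eq_mul]
        rw [prod_eq r v H α, mul_assoc]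
      | add p q hp hq =>
        rw [map_add, map_add, AddMonoidAlgebra.coeff_add, Finsupp.add_apply, hp, hq]
    have claim2 : RingHom.ker φ ≤ RingHom.ker x' := by
      intro F hF
      rw [RingHom.mem_ker] at hF ⊢
      rw [claim1, hF]
      rfl
    let P' : PrimeSpectrum (MvPolynomial ι k) := ⟨RingHom.ker x', RingHom.ker_isPrime _⟩
    have hP' : P' ∈ closure (Set.range (PrimeSpectrum.comap φ.toRingHom)) := by
      rw [PrimeSpectrum.closure_range_comap, PrimeSpectrum.mem_zeroLocus]
      exact claim2
    have hclosed' : IsClosed (Set.range (PrimeSpectrum.comap φ.toRingHom)) := hclosed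
    rw [hclosed'.closure_eq] at hP'
    obtain ⟨p, hp⟩ := hP'
    have h1 : (MvPolynomial.X i₀ : MvPolynomial ι k) ∈ P'.asIdeal := by
      change MvPolynomial.X i₀ ∈ RingHom.ker x'
      rw [RingHom.mem_ker]
      simp [x', GLin.vecPt, v', hri₀]
    rw [← hp] at h1
    have h2 : φ (MvPolynomial.X i₀) ∈ p.asIdeal := h1
    rw [hφX] at h2
    have h3 := p.asIdeal.mul_mem_left ((v i₀)⁻¹ • (T (-r i₀) : k[T;T⁻¹])) h2
    rw [smul_mul_smul_comm, inv_mul_cancel₀ hvi₀, one_smul, ← T_add, neg_add_cancel, T_zero] at h3
    exact p.isPrime.ne_top ((Ideal.eq_top_iff_one _).mpr h3)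
  · rintro ⟨i, j, hvi, hvj, hri, hrj⟩
    constructor
    · have hint : φ.toRingHom.IsIntegral := by
        algebraize [φ.toRingHom]
        have hT1 : IsIntegral (MvPolynomial ι k) (T 1 : k[T;T⁻¹]) := by
          refine IsIntegral.of_pow (n := (r j).toNat) (by omega) ?_
          have : (T 1 : k[T;T⁻¹]) ^ (r j).toNat =
              algebraMap (MvPolynomial ι k) k[T;T⁻¹] (MvPolynomial.C (v j)⁻¹ * MvPolynomial.X j) := by
            change _ = φ (MvPolynomial.C (v j)⁻¹ * MvPolynomial.X j)
            rw [map_mul, hφX, hφC, T_pow, mul_one, Int.toNat_of_nonneg hrj.le,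
              Algebra.algebraMap_eq_smul_one, smul_mul_assoc, one_mul, smul_smul,
              inv_mul_cancel₀ hvj, one_smul]
          rw [this]
          exact isIntegral_algebraMap
        have hT1' : IsIntegral (MvPolynomial ι k) (T (-1) : k[T;T⁻¹]) := by
          refine IsIntegral.of_pow (n := (-r i).toNat) (by omega) ?_
          have : (T (-1) : k[T;T⁻¹]) ^ (-r i).toNat =
              algebraMap (MvPolynomial ι k) k[T;T⁻¹] (MvPolynomial.C (v i)⁻¹ * MvPolynomial.X i) := by
            change _ = φ (MvPolynomial.C (v i)⁻¹ * MvPolynomial.X i)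
            rw [map_mul, hφX, hφC, T_pow, Int.toNat_of_nonneg (by omega),
              Algebra.algebraMap_eq_smul_one, smul_mul_assoc, one_mul, smul_smul,
              inv_mul_cancel₀ hvi, one_smul]
            congr 1
            ring
          rw [this]
          exact isIntegral_algebraMap
        have hTn : ∀ n : ℤ, IsIntegral (MvPolynomial ι k) (T n : k[T;T⁻¹]) := by
          intro n
          rcases le_total 0 n with hn | hn
          · have : (T n : k[T;T⁻¹]) = T 1 ^ n.toNat := by
              rw [T_pow, mul_one, Int.toNat_of_nonneg hn]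
            rw [this]
            exact hT1.pow _
          · have : (T n : k[T;T⁻¹]) = T (-1) ^ (-n).toNat := by
              rw [T_pow, Int.toNat_of_nonneg (by omega)]
              congr 1
              ring
            rw [this]
            exact hT1'.pow _
        intro f
        change IsIntegral (MvPolynomial ι k) f
        induction f using LaurentPolynomial.induction_on' with
        | add p q hp hq => exact hp.add hq
        | C_mul_T n a =>
          refine IsIntegral.mul ?_ (hTn n)
          have : (C a : k[T;T⁻¹]) = algebraMap (MvPolynomial ι k) k[T;T⁻¹] (MvPolynomial.C a) := by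
            change _ = φ (MvPolynomial.C a)
            rw [hφC, LaurentPolynomial.C_eq_algebraMap]
          rw [this]
          exact isIntegral_algebraMap
      have := PrimeSpectrum.isClosedMap_comap_of_isIntegral _ hint _ isClosed_univ
      rwa [Set.image_univ] at this
    · change Module.Finite k (k[T;T⁻¹] ⧸ GLin.stabIdeal k k[T;T⁻¹] (GLin.vecPt k ι v))
      set I := GLin.stabIdeal k k[T;T⁻¹] (GLin.vecPt k ι v) with hI
      set n : ℤ := r j with hn
      have hmem : (T n : k[T;T⁻¹]) - 1 ∈ I := by
        have h1 : φ (MvPolynomial.X j - MvPolynomial.C (v j)) ∈ I := by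
          apply Ideal.mem_map_of_mem
          rw [RingHom.mem_ker]
          simp [GLin.vecPt]
        rw [map_sub, hφX, hφC] at h1
        have h2 := I.mul_mem_left (algebraMap k k[T;T⁻¹] (v j)⁻¹) h1
        convert h2 using 1
        rw [Algebra.algebraMap_eq_smul_one, Algebra.algebraMap_eq_smul_one, smul_mul_assoc,
          one_mul, smul_sub, smul_smul, smul_smul, inv_mul_cancel₀ hvj, one_smul, one_smul]
      let qm := Ideal.Quotient.mk I
      have hTn : qm (T n) = 1 := by
        rw [← map_one qm]
        exact Ideal.Quotient.eq.mpr hmem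
      have h1 : ∀ e : ℕ, qm (T (n * e)) = 1 := by
        intro e
        rw [show (n * e : ℤ) = e * n by ring, ← T_pow, map_pow, hTn, one_pow]
      have h2 : ∀ q : ℤ, qm (T (n * q)) = 1 := by
        intro q
        rcases le_total 0 q with hq | hq
        · have := h1 q.toNat
          rwa [Int.toNat_of_nonneg hq] at this
        · have h3 := h1 (-q).toNat
          rw [Int.toNat_of_nonneg (by omega)] at h3
          have h4 : (T (n * q) : k[T;T⁻¹]) * T (n * (-q)) = 1 := by
            rw [← T_add, ← T_zero]
            congr 1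
            ring
          have h5 := congrArg qm h4
          rw [map_mul, h3, mul_one, map_one] at h5
          exact h5
      have hper : ∀ m : ℤ, qm (T m) = qm (T (m % n)) := by
        intro m
        conv_lhs => rw [← Int.emod_add_mul_ediv m n, T_add, map_mul, h2, mul_one]
      refine ⟨⟨(Finset.range n.toNat).image (fun l : ℕ => qm (T (l : ℤ))), ?_⟩⟩
      rw [eq_top_iff]
      rintro y -
      obtain ⟨a, rfl⟩ := Ideal.Quotient.mk_surjective y
      induction a using LaurentPolynomial.induction_on' with
      | add p q hp hq =>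
        rw [map_add]
        exact Submodule.add_mem _ hp hq
      | C_mul_T m a =>
        rw [LaurentPolynomial.C_eq_algebraMap, ← Algebra.smul_def, ← Ideal.Quotient.mkₐ_eq_mk k,
          map_smul, Ideal.Quotient.mkₐ_eq_mk]
        apply Submodule.smul_mem
        apply Submodule.subset_span
        rw [Finset.coe_image, Set.mem_image]
        refine ⟨(m % n).toNat, ?_, ?_⟩
        · rw [Finset.coe_range, Set.mem_Iio]
          have := Int.emod_lt_of_pos m hrj
          have := Int.emod_nonneg m hrj.ne'
          omega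
        · change qm (T ((m % n).toNat : ℤ)) = qm (T m)
          rw [Int.toNat_of_nonneg (Int.emod_nonneg m hrj.ne'), ← hper]

end Groth.Agent.S19423
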