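import Groth.Statements.S19427
import Groth.Agent.Lib.Helper6.MilK2

set_option autoImplicit false
universe u
open MilnorK

namespace Groth.Agent.S19427

/-- For a field F and nonzero b, c with b + c ≠ 0, in the Milnor K-group K_2(F) one has {b, c} + {b + c,
-b/c} = 0, that is {b, c} = -{b + c, -b/c} = {b + c, -c/b}. (The identity as displayed in the source
is {b, c} = {b + c, -b/c}, which differs from this by a sign and fails in general: for b = 3, c = 5
over the rationals the tame symbol at 5 takes the values 3 and 1/3 on the two sides; the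
accompanying derivation from the Steinberg relation b/(b+c) + c/(b+c) = 1 gives exactly the identity
stated here.) -/
theorem result (F : Type u) [Field F] (b c : Fˣ)
    (h : (b : F) + (c : F) ≠ 0) :
    (MilK.symbol ![b, c] : MilK.K F 2) + MilK.symbol ![Units.mk0 ((b : F) + (c : F)) h, -(b / c)] = 0 := by
  open Groth.Agent.Lib.Helper6.MilK2 in
  set s : Fˣ := Units.mk0 ((b : F) + (c : F)) h with hs
  have hst : (MilK.symbol ![b * s⁻¹, c * s⁻¹] : MilK.K F 2) = 0 := by
    apply symbol_steinberg
    simp only [Units.val_mul, Units.val_inv_eq_inv_val, hs, Units.val_mk0]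
    rw [← add_mul, mul_inv_cancel₀ h]
  rw [symbol_mul_left, symbol_mul_right, symbol_mul_right, symbol_inv_right, symbol_inv_left,
    symbol_inv_left, symbol_inv_right] at hst
  have e : -(b / c) = (-1) * (b * c⁻¹) := by
    rw [div_eq_mul_inv]; simp
  rw [e, symbol_mul_right, symbol_mul_right, symbol_inv_right]
  have hanti := symbol_antisymm b s
  have hneg := symbol_neg_self s
  have e2 : -s = (-1) * s := by simp
  rw [e2, symbol_mul_right] at hneg
  have htwo := symbol_mul_right s (-1) (-1)
  have e3 : (-1 : Fˣ) * (-1) = 1 := by simp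
  rw [e3, symbol_one_right] at htwo
  have key : (MilK.symbol ![b, c] : MilK.K F 2) +
      (MilK.symbol ![s, -1] + (MilK.symbol ![s, b] + -MilK.symbol ![s, c])) =
      (MilK.symbol ![b, c] + -MilK.symbol ![b, s] + (-MilK.symbol ![s, c] + - -MilK.symbol ![s, s])) +
      (MilK.symbol ![b, s] + MilK.symbol ![s, b]) +
      (MilK.symbol ![s, -1] + MilK.symbol ![s, -1]) -
      (MilK.symbol ![s, -1] + MilK.symbol ![s, s]) := by abel
  rw [key, hst, hanti, ← htwo, hneg]
  simp

end Groth.Agent.S19427
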