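import Groth.Statements.S1943
import Groth.Agent.Lib.Helper98.KoszulFilt2

set_option autoImplicit false
universe u
open CategoryTheory Groth.Agent.Lib.Helper98.KoszulEuler
open IntMult

namespace Groth.Agent.S1943

theorem isFiniteLength_quotient_maximalIdeal_pow_smul {R : Type u} [CommRing R] [IsNoetherianRing R]
    [IsLocalRing R] (M : Type u) [AddCommGroup M] [Module R M] [Module.Finite R M] (k : ℕ) :
    IsFiniteLength R (M ⧸ (IsLocalRing.maximalIdeal R ^ k) • (⊤ : Submodule R M)) := by
  rcases k with _ | k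
  · have : Subsingleton (M ⧸ (IsLocalRing.maximalIdeal R ^ 0) • (⊤ : Submodule R M)) := by
      rw [pow_zero, Ideal.one_eq_top, Submodule.top_smul]
      exact Submodule.Quotient.subsingleton_iff.mpr rfl
    exact IsFiniteLength.of_subsingleton
  · set I := IsLocalRing.maximalIdeal R ^ (k + 1) with hI
    have hmin : IsLocalRing.maximalIdeal R ∈ I.minimalPrimes := by
      refine ⟨⟨inferInstance, Ideal.pow_le_self (Nat.succ_ne_zero k)⟩, fun q ⟨hq, hIq⟩ _ => ?_⟩
      exact hq.le_of_pow_le hIq
    have : IsArtinianRing (R ⧸ I) :=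
      IsLocalRing.quotient_artinian_of_mem_minimalPrimes_of_isLocalRing I hmin
    rw [isFiniteLength_iff_isNoetherian_isArtinian]
    refine ⟨inferInstance, ?_⟩
    have : Module.Finite (R ⧸ I) (M ⧸ I • (⊤ : Submodule R M)) :=
      Module.Finite.of_restrictScalars_finite R _ _
    have : IsArtinian (R ⧸ I) (M ⧸ I • (⊤ : Submodule R M)) := inferInstance
    exact isArtinian_of_surjective_algebraMap (S := R) (R := R ⧸ I) Ideal.Quotient.mk_surjective


/-- Let A be a Noetherian local ring, f₁, …, f_r elements generating an ideal of definition I (𝔪^n ⊆ I ⊆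
𝔪 for some n) and M a finite A-module. Then r! · length_A(M/I^t M)/t^r tends, as t → ∞, to Σ_i
(−1)^i length_A H^i(K(f₁, …, f_r) ⊗_A M), the Euler characteristic of the Koszul complex tensored
with M (cohomological indexing, degrees −r, …, 0); that is, e_I(M, r) equals that alternating sum.
The Koszul complex is the shared prelude's mapping-cone model. -/
theorem result (A : Type u) [CommRing A] [IsNoetherianRing A] [IsLocalRing A] (r : ℕ) (f : Fin r → A) (hI : Ideal.span (Set.range f) ≤ IsLocalRing.maximalIdeal A ∧ ∃ n : ℕ, IsLocalRing.maximalIdeal A ^ n ≤ Ideal.span (Set.range f)) (M : Type u) [AddCommGroup M] [Module A M] [Module.Finite A M] : Filter.Tendsto (fun t : ℕ => (r.factorial : ℝ) * ((Module.length A (M ⧸ (Ideal.span (Set.range f) ^ t • (⊤ : Submodule A M)))).toNat : ℝ) / (t : ℝ) ^ r) Filter.atTop (nhds ((∑ᶠ i : ℤ, ((i.negOnePow : ℤˣ) : ℤ) * ((Module.length A ((DRing.tensorCx (Koszul.koszul A (List.ofFn f)) (ModuleCat.of A M)).homology i)).toNat : ℤ) : ℤ) : ℝ)) := by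
  have hset : {a : A | a ∈ List.ofFn f} = Set.range f := by
    ext a
    simp [List.mem_ofFn]
  obtain ⟨_, n, hn⟩ := hI
  have hfl : IsFiniteLength A (M ⧸ (Ideal.span (Set.range f) • (⊤ : Submodule A M))) := by
    have h1 := isFiniteLength_quotient_maximalIdeal_pow_smul (R := A) M n
    have hle : (IsLocalRing.maximalIdeal A ^ n) • (⊤ : Submodule A M) ≤
        Ideal.span (Set.range f) • (⊤ : Submodule A M) := Submodule.smul_mono hn le_rfl
    refine IsFiniteLength.of_surjective h1 (f := Submodule.mapQ _ _ LinearMap.id ?_) ?_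
    · exact hle
    · intro y
      obtain ⟨y, rfl⟩ := Submodule.Quotient.mk_surjective _ y
      exact ⟨Submodule.Quotient.mk y, rfl⟩
  have h := tendsto_samuel_chi (List.ofFn f) M (by rw [hset]; exact hfl)
  rw [hset, List.length_ofFn] at h
  exact h

end Groth.Agent.S1943
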