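import Groth.Statements.S19436
import Mathlib.RingTheory.Nakayama
import Mathlib.LinearAlgebra.FiniteDimensional.Lemmas
import Mathlib.Tactic.Linarith
-- import your own Groth.Agent.* helpers here

set_option autoImplicit false
universe u
open CAlg

namespace Groth.Agent.S19436

/-- For a Noetherian local commutative algebra R over a field k, with maximal ideal M, and an ideal I of
R whose quotient R/I is finite-dimensional over k of dimension n, the power M^n lies in I. -/
theorem result (k : Type u) [Field k] (R : Type u) [CommRing R]
    [Algebra k R] [IsNoetherianRing R] [IsLocalRing R] (I : Ideal R) [Module.Finite k (R ⧸ I)] (n : ℕ)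
    (hn : Module.finrank k (R ⧸ I) = n) : IsLocalRing.maximalIdeal R ^ n ≤ I := by
  set M := IsLocalRing.maximalIdeal R with hM
  set Q := R ⧸ I
  have hjac : M ≤ Ideal.jacobson (⊥ : Ideal R) := IsLocalRing.maximalIdeal_le_jacobson ⊥
  have key : ∀ j : ℕ, (M ^ j • (⊤ : Submodule R Q)) = ⊥ ∨
      Module.finrank k ((M ^ j • (⊤ : Submodule R Q)).restrictScalars k) + j ≤ n := by
    intro j
    induction j with
    | zero =>
      right
      rw [pow_zero, Ideal.one_eq_top, Submodule.top_smul, Submodule.restrictScalars_top,
        finrank_top, hn, add_zero]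
    | succ j ih =>
      rcases ih with h0 | hle
      · left
        rw [pow_succ', Submodule.mul_smul, h0, Submodule.smul_bot]
      · by_cases h0 : (M ^ j • (⊤ : Submodule R Q)) = ⊥
        · left
          rw [pow_succ', Submodule.mul_smul, h0, Submodule.smul_bot]
        · right
          have hle' : M ^ (j + 1) • (⊤ : Submodule R Q) ≤ M ^ j • (⊤ : Submodule R Q) := by
            rw [pow_succ', Submodule.mul_smul]
            exact Submodule.smul_le_right
          have hlt : M ^ (j + 1) • (⊤ : Submodule R Q) < M ^ j • (⊤ : Submodule R Q) := by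
            refine lt_of_le_of_ne hle' fun heq => h0 ?_
            refine Submodule.eq_bot_of_le_smul_of_le_jacobson_bot M _
              (IsNoetherian.noetherian _) ?_ hjac
            rw [← Submodule.mul_smul, ← pow_succ', heq]
          have hlt' : (M ^ (j + 1) • (⊤ : Submodule R Q)).restrictScalars k <
              (M ^ j • (⊤ : Submodule R Q)).restrictScalars k := by
            exact (Submodule.restrictScalarsEmbedding k R Q).lt_iff_lt.mpr hlt
          have := Submodule.finrank_lt_finrank_of_lt hlt'
          omega
  have hbot : (M ^ n • (⊤ : Submodule R Q)) = ⊥ := by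
    rcases key n with h | h
    · exact h
    · have h0 : Module.finrank k ((M ^ n • (⊤ : Submodule R Q)).restrictScalars k) = 0 := by omega
      rw [Submodule.finrank_eq_zero] at h0
      exact (Submodule.restrictScalars_eq_bot_iff k R Q).mp h0
  intro x hx
  have h1 : x • (Ideal.Quotient.mk I 1 : Q) ∈ M ^ n • (⊤ : Submodule R Q) :=
    Submodule.smul_mem_smul hx Submodule.mem_top
  rw [hbot, Submodule.mem_bot] at h1
  have h2 : x • (Ideal.Quotient.mk I 1 : Q) = Ideal.Quotient.mk I x := by
    rw [← Ideal.Quotient.mk_eq_mk, ← Ideal.Quotient.mk_eq_mk, ← Submodule.Quotient.mk_smul,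
      smul_eq_mul, mul_one]
  rw [h2] at h1
  exact Ideal.Quotient.eq_zero_iff_mem.mp h1

end Groth.Agent.S19436
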