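import Groth.Statements.S19438
import Mathlib.Algebra.Polynomial.Identities
import Mathlib.RingTheory.Adjoin.Polynomial.Basic
import Mathlib.LinearAlgebra.Dimension.FreeAndStrongRankCondition
-- import your own Groth.Agent.* helpers here

set_option autoImplicit false
universe u
open CAlg

namespace Groth.Agent.S19438

open Polynomial in
theorem taylor_mod_sq {k A : Type u} [Field k] [CommRing A] [Algebra k A] (p : k[X]) (c : k)
    (m : A) (J : Ideal A) (hm : m ∈ J) :
    aeval (algebraMap k A c + m) p -
      (algebraMap k A (p.eval c) + algebraMap k A (p.derivative.eval c) * m) ∈ J ^ 2 := by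
  obtain ⟨t, ht⟩ := Polynomial.binomExpansion (p.map (algebraMap k A)) (algebraMap k A c) m
  have e1 : aeval (algebraMap k A c + m) p = (p.map (algebraMap k A)).eval (algebraMap k A c + m) := by
    rw [Polynomial.eval_map, Polynomial.aeval_def]
  have e2 : (p.map (algebraMap k A)).eval (algebraMap k A c) = algebraMap k A (p.eval c) := by
    rw [Polynomial.eval_map, Polynomial.eval₂_at_apply]
  have e3 : (p.map (algebraMap k A)).derivative.eval (algebraMap k A c) =
      algebraMap k A (p.derivative.eval c) := by
    rw [Polynomial.derivative_map, Polynomial.eval_map, Polynomial.eval₂_at_apply]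
  rw [e1, ht, e2, e3]
  have : algebraMap k A (p.eval c) + algebraMap k A (p.derivative.eval c) * m + t * m ^ 2 -
      (algebraMap k A (p.eval c) + algebraMap k A (p.derivative.eval c) * m) = t * m ^ 2 := by ring
  rw [this]
  exact Ideal.mul_mem_left _ _ (Ideal.pow_mem_pow hm 2)

/-- First assertion: let A be a Noetherian local commutative algebra over a field k with maximal ideal
M, residue field k (the map from k to A/M is onto) and embedding dimension dim M/M^2 at least 2, and
let I be a proper ideal with A/I finite-dimensional over k. If A/I is generated as a k-algebra by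
one element, then some element of I does not lie in M^2; that is, the finite closed subscheme
defined by I lies on a smooth hypersurface germ (it is curvilinear). (The published statement is for
the local ring of a smooth surface at a closed point; only a Noetherian local algebra with residue
field k and embedding dimension at least 2 is assumed here, which is what the published argument
uses.) -/
theorem result (k : Type u) [Field k]
    (A : Type u) [CommRing A] [Algebra k A] [IsNoetherianRing A] [IsLocalRing A]
    (hres : Function.Surjective (algebraMap k (IsLocalRing.ResidueField A)))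
    (hemb : 2 ≤ Module.finrank (IsLocalRing.ResidueField A) (IsLocalRing.CotangentSpace A))
    (I : Ideal A) (hI : I ≠ ⊤) [Module.Finite k (A ⧸ I)]
    (f : A ⧸ I) (hf : Algebra.adjoin k {f} = ⊤) :
    ∃ g ∈ I, g ∉ IsLocalRing.maximalIdeal A ^ 2 := by
  by_contra hcon
  push Not at hcon
  have hIM : I ≤ IsLocalRing.maximalIdeal A ^ 2 := fun g hg => hcon g hg
  obtain ⟨f₀, rfl⟩ := Ideal.Quotient.mk_surjective f
  obtain ⟨c, hc⟩ := hres (IsLocalRing.residue A f₀)
  have hmM : f₀ - algebraMap k A c ∈ IsLocalRing.maximalIdeal A := by
    rw [← IsLocalRing.residue_eq_zero_iff, map_sub, ← hc]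
    rw [IsScalarTower.algebraMap_apply k A (IsLocalRing.ResidueField A)]
    exact sub_self _
  set m := f₀ - algebraMap k A c with hm
  have hf₀ : f₀ = algebraMap k A c + m := by rw [hm]; ring
  have key : ∀ a : A, ∃ α β : k,
      a - (algebraMap k A α + algebraMap k A β * m) ∈ IsLocalRing.maximalIdeal A ^ 2 := by
    intro a
    have hmem : Ideal.Quotient.mk I a ∈ Algebra.adjoin k {Ideal.Quotient.mk I f₀} := by
      rw [hf]; trivial
    rw [Algebra.adjoin_singleton_eq_range_aeval] at hmem
    obtain ⟨p, hp⟩ := hmem
    have h1 : Ideal.Quotient.mk I (Polynomial.aeval f₀ p) = Ideal.Quotient.mk I a := by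
      rw [← hp]
      exact (Polynomial.aeval_algHom_apply (Ideal.Quotient.mkₐ k I) f₀ p).symm
    have h2 : a - Polynomial.aeval f₀ p ∈ I := by
      rw [← Ideal.Quotient.eq]; exact h1.symm
    have h3 := taylor_mod_sq p c m (IsLocalRing.maximalIdeal A) hmM
    rw [← hf₀] at h3
    refine ⟨p.eval c, p.derivative.eval c, ?_⟩
    have := Ideal.add_mem _ (hIM h2) h3
    convert this using 1
    ring
  have hle : Module.finrank (IsLocalRing.ResidueField A) (IsLocalRing.CotangentSpace A) ≤ 1 := by
    apply finrank_le_one ((IsLocalRing.maximalIdeal A).toCotangent ⟨m, hmM⟩)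
    intro w
    obtain ⟨⟨a, ha⟩, rfl⟩ := Ideal.toCotangent_surjective _ w
    obtain ⟨α, β, hαβ⟩ := key a
    have hα : algebraMap k A α ∈ IsLocalRing.maximalIdeal A := by
      have e : algebraMap k A α = a - algebraMap k A β * m -
          (a - (algebraMap k A α + algebraMap k A β * m)) := by ring
      rw [e]
      exact sub_mem (sub_mem ha (Ideal.mul_mem_left _ _ hmM))
        (Ideal.pow_le_self two_ne_zero hαβ)
    have hα0 : α = 0 := by
      by_contra h
      have hu : IsUnit (algebraMap k A α) := (IsUnit.mk0 α h).map _
      exact (IsLocalRing.mem_maximalIdeal _).1 hα hu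
    subst hα0
    refine ⟨IsLocalRing.residue A (algebraMap k A β), ?_⟩
    have e1 : IsLocalRing.residue A (algebraMap k A β) •
        (IsLocalRing.maximalIdeal A).toCotangent ⟨m, hmM⟩ =
        (algebraMap k A β) • (IsLocalRing.maximalIdeal A).toCotangent ⟨m, hmM⟩ :=
      algebraMap_smul (IsLocalRing.ResidueField A) (algebraMap k A β)
        ((IsLocalRing.maximalIdeal A).toCotangent ⟨m, hmM⟩)
    rw [e1, ← map_smul, Ideal.toCotangent_eq]
    simp only [map_zero, zero_add] at hαβ
    have e2 : ((algebraMap k A β • (⟨m, hmM⟩ : IsLocalRing.maximalIdeal A) :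
        IsLocalRing.maximalIdeal A) : A) - a = -(a - algebraMap k A β * m) := by
      simp [Algebra.smul_def]
    rw [e2]
    exact neg_mem hαβ
  omega

end Groth.Agent.S19438
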