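import Groth.Statements.S19439
import Mathlib.LinearAlgebra.FiniteDimensional.Lemmas
-- import your own Groth.Agent.* helpers here

set_option autoImplicit false
universe u
open CAlg

namespace Groth.Agent.S19439

section
variable {k : Type u} [Field k] {N : ℕ} (I : Ideal (MvPolynomial (Fin N) k))

noncomputable def V (j : ℕ) : Submodule k (MvPolynomial (Fin N) k ⧸ I) :=
  Submodule.map (Ideal.Quotient.mkₐ k I).toLinearMap (MvPolynomial.restrictTotalDegree (Fin N) k j)

theorem mem_V (j : ℕ) (y : MvPolynomial (Fin N) k ⧸ I) :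
    y ∈ V I j ↔ ∃ p : MvPolynomial (Fin N) k, p.totalDegree ≤ j ∧ Ideal.Quotient.mk I p = y := by
  unfold V
  rw [Submodule.mem_map]
  constructor
  · rintro ⟨p, hp, rfl⟩
    exact ⟨p, (MvPolynomial.mem_restrictTotalDegree _ _ _).1 hp, rfl⟩
  · rintro ⟨p, hp, rfl⟩
    exact ⟨p, (MvPolynomial.mem_restrictTotalDegree _ _ _).2 hp, rfl⟩

theorem V_mono {i j : ℕ} (h : i ≤ j) : V I i ≤ V I j := by
  intro y hy
  rw [mem_V] at hy ⊢
  obtain ⟨p, hp, rfl⟩ := hy
  exact ⟨p, hp.trans h, rfl⟩

theorem V_eq_top_of_le (j : ℕ) (h : V I (j + 1) ≤ V I j) : V I j = ⊤ := by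
  rw [eq_top_iff]
  rintro y -
  obtain ⟨p, rfl⟩ := Ideal.Quotient.mk_surjective y
  induction p using MvPolynomial.induction_on with
  | C a =>
    rw [mem_V]
    exact ⟨MvPolynomial.C a, by rw [MvPolynomial.totalDegree_C]; exact Nat.zero_le _, rfl⟩
  | add p q hp hq =>
    rw [map_add]
    exact Submodule.add_mem _ hp hq
  | mul_X p i hp =>
    apply h
    rw [mem_V] at hp ⊢
    obtain ⟨p', hp', e⟩ := hp
    refine ⟨p' * MvPolynomial.X i, ?_, ?_⟩
    · refine (MvPolynomial.totalDegree_mul _ _).trans ?_
      rw [MvPolynomial.totalDegree_X]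
      omega
    · rw [map_mul, map_mul, e]

theorem finrank_V (j : ℕ) [Module.Finite k (MvPolynomial (Fin N) k ⧸ I)] :
    V I j = ⊤ ∨ j + 1 ≤ Module.finrank k (V I j) := by
  induction j with
  | zero =>
    by_cases hI : I = ⊤
    · left
      rw [eq_top_iff]
      rintro y -
      obtain ⟨p, rfl⟩ := Ideal.Quotient.mk_surjective y
      have : Ideal.Quotient.mk I p = 0 := by rw [Ideal.Quotient.eq_zero_iff_mem, hI]; trivial
      rw [this]
      exact Submodule.zero_mem _
    · right
      have h1 : (1 : MvPolynomial (Fin N) k ⧸ I) ∈ V I 0 := by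
        rw [mem_V]
        exact ⟨MvPolynomial.C 1, by rw [MvPolynomial.totalDegree_C], by simp⟩
      have hne : (⟨1, h1⟩ : V I 0) ≠ 0 := by
        intro h
        have h2 : (1 : MvPolynomial (Fin N) k ⧸ I) = 0 := congrArg Subtype.val h
        rw [← map_one (Ideal.Quotient.mk I), Ideal.Quotient.eq_zero_iff_mem] at h2
        exact hI ((Ideal.eq_top_iff_one I).2 h2)
      have : 0 < Module.finrank k (V I 0) := Module.finrank_pos_iff_exists_ne_zero.2 ⟨_, hne⟩
      omega
  | succ j ih =>
    rcases ih with ih | ih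
    · left
      exact top_le_iff.1 (ih ▸ V_mono I (Nat.le_succ j))
    · by_cases hle : V I (j + 1) ≤ V I j
      · left
        exact top_le_iff.1 ((V_eq_top_of_le I j hle) ▸ V_mono I (Nat.le_succ j))
      · right
        have hlt : V I j < V I (j + 1) := lt_of_le_not_ge (V_mono I (Nat.le_succ j)) hle
        have := Submodule.finrank_lt_finrank_of_lt hlt
        omega

end

/-- Affine form: for all n and N there is an integer d, that depends only on n and N, such that for
every algebraically closed field k and every ideal I of the polynomial ring in N variables over k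
whose quotient has finite dimension n over k, the polynomials of total degree at most d map onto the
quotient. -/
theorem result (n N : ℕ) :
    ∃ d : ℕ, ∀ (k : Type u) [Field k] [IsAlgClosed k] (I : Ideal (MvPolynomial (Fin N) k))
      [Module.Finite k (MvPolynomial (Fin N) k ⧸ I)],
      Module.finrank k (MvPolynomial (Fin N) k ⧸ I) = n →
      Submodule.map (Ideal.Quotient.mkₐ k I).toLinearMap (MvPolynomial.restrictTotalDegree (Fin N) k d) = ⊤ := by
  refine ⟨n, fun k _ _ I _ hn => ?_⟩
  rcases finrank_V I n with h | h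
  · exact h
  · have := Submodule.finrank_le (V I n)
    omega

end Groth.Agent.S19439
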