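import Groth.Statements.S19440
import Mathlib.LinearAlgebra.Matrix.ToLin
-- import your own Groth.Agent.* helpers here

set_option autoImplicit false
universe u
open LinAlg

namespace Groth.Agent.S19440

theorem comm_pow {k : Type u} [Field k] {n : ℕ} (T U : Matrix (Fin n) (Fin n) k)
    (h : T * U = U * T) (p : ℕ) : T * U ^ p = U ^ p * T :=
  (Commute.pow_right (show Commute T U from h) p)

/-- Let U, V be commuting n × n matrices over a field k and e a vector which is cyclic for them (the
vectors U^p V^q e span k^n). An invertible matrix T which commutes with U and V and fixes e is the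
identity: the general linear group acts freely by simultaneous conjugation on commuting pairs with a
cyclic vector. -/
theorem result (k : Type u) [Field k] (n : ℕ)
    (U V : Matrix (Fin n) (Fin n) k) (hUV : U * V = V * U) (e : Fin n → k)
    (he : Submodule.span k (Set.range fun p : ℕ × ℕ => (U ^ p.1 * V ^ p.2).mulVec e) = ⊤)
    (T : Matrix.GeneralLinearGroup (Fin n) k)
    (hTU : (T : Matrix (Fin n) (Fin n) k) * U = U * T) (hTV : (T : Matrix (Fin n) (Fin n) k) * V = V * T)
    (hTe : (T : Matrix (Fin n) (Fin n) k).mulVec e = e) : T = 1 := by
  set M : Matrix (Fin n) (Fin n) k := (T : Matrix (Fin n) (Fin n) k) with hM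
  have hfix : ∀ x : Fin n → k, M.mulVec x = x := by
    intro x
    have hx : x ∈ Submodule.span k (Set.range fun p : ℕ × ℕ => (U ^ p.1 * V ^ p.2).mulVec e) := by
      rw [he]; trivial
    induction hx using Submodule.span_induction with
    | mem y hy =>
      obtain ⟨p, rfl⟩ := hy
      simp only
      rw [Matrix.mulVec_mulVec, ← mul_assoc, comm_pow M U hTU, mul_assoc, comm_pow M V hTV,
        ← mul_assoc, ← Matrix.mulVec_mulVec, hTe]
    | zero => simp
    | add y z _ _ hy hz => rw [Matrix.mulVec_add, hy, hz]
    | smul c y _ hy => rw [Matrix.mulVec_smul, hy]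
  have hM1 : M = 1 := by
    apply Matrix.toLin'.injective
    apply LinearMap.ext
    intro x
    simp [Matrix.toLin'_apply, hfix]
  apply Units.ext
  exact hM1

end Groth.Agent.S19440
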