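import Groth.Statements.S19443
-- import your own Groth.Agent.* helpers here

set_option autoImplicit false
universe u
open LinAlg

namespace Groth.Agent.S19443

section
variable {k : Type u} [Field k] {G : Type u} [Group G] [Fintype G]
  {V : Type u} [AddCommGroup V] [Module k V] (ρ : Representation k G V)

noncomputable def avg (w : V) : V := ((Fintype.card G : k))⁻¹ • ∑ g : G, ρ g w

theorem avg_mem (w : V) : avg ρ w ∈ ρ.invariants := by
  intro h
  unfold avg
  rw [map_smul, map_sum]
  congr 1
  have : ∀ g : G, ρ h (ρ g w) = ρ (h * g) w := fun g => by rw [map_mul]; rfl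
  simp only [this]
  exact Fintype.sum_bijective (fun g => h * g) (Group.mulLeft_bijective h) _ _ (fun _ => rfl)

theorem form_avg_right (ω : LinearMap.BilinForm k V) (hc : (Fintype.card G : k) ≠ 0)
    (hinv : ∀ (g : G) (v w : V), ω (ρ g v) (ρ g w) = ω v w) (v w : V) (hv : v ∈ ρ.invariants) :
    ω v (avg ρ w) = ω v w := by
  unfold avg
  rw [map_smul, map_sum]
  have : ∀ g : G, ω v (ρ g w) = ω v w := fun g => by
    conv_lhs => rw [← hv g]
    exact hinv g v w
  simp only [this, Finset.sum_const, Finset.card_univ, nsmul_eq_mul, smul_eq_mul]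
  field_simp

theorem form_avg_left (ω : LinearMap.BilinForm k V) (hc : (Fintype.card G : k) ≠ 0)
    (hinv : ∀ (g : G) (v w : V), ω (ρ g v) (ρ g w) = ω v w) (v w : V) (hw : w ∈ ρ.invariants) :
    ω (avg ρ v) w = ω v w := by
  unfold avg
  rw [map_smul, map_sum, LinearMap.smul_apply, LinearMap.sum_apply]
  have : ∀ g : G, ω (ρ g v) w = ω v w := fun g => by
    conv_lhs => rw [← hw g]
    exact hinv g v w
  simp only [this, Finset.sum_const, Finset.card_univ, nsmul_eq_mul, smul_eq_mul]
  field_simp

end

/-- Algebraic form: let G be a finite group with order invertible in the field k, ρ a linear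
representation of G on a k-vector space V, and ω a nondegenerate bilinear form on V invariant under
G. Then ω restricted to the fixed subspace V^G is nondegenerate (for a finite group of symplectic
automorphisms, the fixed subspace is a symplectic subspace). -/
theorem result (k : Type u) [Field k]
    (G : Type u) [Group G] [Finite G] (hG : (Nat.card G : k) ≠ 0)
    (V : Type u) [AddCommGroup V] [Module k V] (ρ : Representation k G V)
    (ω : LinearMap.BilinForm k V) (hω : ω.Nondegenerate)
    (hinv : ∀ (g : G) (v w : V), ω (ρ g v) (ρ g w) = ω v w) :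
    (ω.restrict ρ.invariants).Nondegenerate := by
  haveI : Fintype G := Fintype.ofFinite G
  have hc : (Fintype.card G : k) ≠ 0 := by rwa [← Nat.card_eq_fintype_card]
  constructor
  · rintro ⟨v, hv⟩ h
    have : v = 0 := by
      apply hω.1
      intro w
      rw [← form_avg_right ρ ω hc hinv v w hv]
      exact h ⟨avg ρ w, avg_mem ρ w⟩
    exact Subtype.ext this
  · rintro ⟨w, hw⟩ h
    have : w = 0 := by
      apply hω.2
      intro v
      rw [← form_avg_left ρ ω hc hinv v w hw]
      exact h ⟨avg ρ v, avg_mem ρ v⟩
    exact Subtype.ext this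

end Groth.Agent.S19443
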