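import Groth.Statements.S19444
import Groth.Agent.Lib.Helper27.SymTenDet
import Groth.Agent.Lib.Helper27.Polarization

set_option autoImplicit false
universe u
open SymTen

namespace Groth.Agent.S19444

open Groth.Agent.Lib.Helper27.SymTenDet Groth.Agent.Lib.Helper27.Polarization
open scoped TensorProduct

section Aux

variable {A : Type u} [CommRing A] {R : Type u} [CommRing R] [Algebra A R] {n : ℕ}
variable (b : Module.Basis (Fin n) A R)

theorem Dlin_perm (σ : Equiv.Perm (Fin n)) (t : ⨂[A] _ : Fin n, R) :
    Dlin b (SymTen.perm A R n σ t) = Equiv.Perm.sign σ • Dlin b t := by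
  induction t using PiTensorProduct.induction_on with
  | smul_tprod r q =>
    simp only [map_smul, SymTen.perm_tprod, Dlin_tprod]
    have : (fun i => q (σ.symm i)) = q ∘ ⇑σ.symm := rfl
    rw [this, AlternatingMap.map_perm, Equiv.Perm.sign_symm, smul_comm]
  | add x y hx hy => simp only [map_add, hx, hy, smul_add]

theorem two_torsion_free (hfact : IsUnit ((Nat.factorial n : ℕ) : A)) {i j : Fin n} (hij : i ≠ j)
    (y : A) (hy : y + y = 0) : y = 0 := by
  have hn : 2 ≤ n := by
    by_contra h
    push Not at h
    have : Subsingleton (Fin n) := by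
      interval_cases n
      · exact Fin.subsingleton_zero
      · exact Fin.subsingleton_one
    exact hij (Subsingleton.elim i j)
  obtain ⟨m, hm⟩ := Nat.dvd_factorial (by norm_num : 0 < 2) hn
  have : ((Nat.factorial n : ℕ) : A) * y = 0 := by
    rw [hm, Nat.cast_mul, mul_comm ((2 : ℕ) : A), mul_assoc]
    have : ((2 : ℕ) : A) * y = y + y := by push_cast; ring
    rw [this, hy, mul_zero]
  exact (hfact.mul_right_eq_zero).mp this

theorem Dlin_mul_eq_zero (hfact : IsUnit ((Nat.factorial n : ℕ) : A))
    (z : ⨂[A] _ : Fin n, R) (hz : z ∈ SymTen.TS A R n)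
    (x : ⨂[A] _ : Fin n, R) (hx : x ∈ SymTen.altSpan A R n) : Dlin b (z * x) = 0 := by
  have : SymTen.altSpan A R n ≤ (LinearMap.ker (Dlin b)).comap (LinearMap.mulLeft A z) := by
    rw [SymTen.altSpan, Submodule.span_le]
    rintro _ ⟨p, i, j, hij, hp, rfl⟩
    show Dlin b (z * PiTensorProduct.tprod A p) = 0
    apply two_torsion_free hfact hij
    have h1 : SymTen.perm A R n (Equiv.swap i j) (z * PiTensorProduct.tprod A p) =
        z * PiTensorProduct.tprod A p := by
      rw [map_mul, SymTen.perm_apply A R n _ z, hz (Equiv.swap i j), SymTen.perm_tprod]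
      congr 2
      ext k
      rw [Equiv.symm_swap, Equiv.swap_apply_def]
      split_ifs with h h'
      · rw [h, hp]
      · rw [h', hp]
      · rfl
    have h3 := Dlin_perm b (Equiv.swap i j) (z * PiTensorProduct.tprod A p)
    rw [h1, Equiv.Perm.sign_swap hij] at h3
    have h4 : Dlin b (z * PiTensorProduct.tprod A p) = - Dlin b (z * PiTensorProduct.tprod A p) := by
      conv_lhs => rw [h3]
      simp
    exact eq_neg_iff_add_eq_zero.mp h4
  exact this hx

noncomputable def phiLin : SymTen.TS A R n →ₗ[A] A :=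
  (Dlin b ∘ₗ LinearMap.mulRight A (PiTensorProduct.tprod A (fun i => b i))) ∘ₗ
    (SymTen.TS A R n).val.toLinearMap

theorem phiLin_apply (z : SymTen.TS A R n) :
    phiLin b z = Dlin b ((z : ⨂[A] _ : Fin n, R) * PiTensorProduct.tprod A (fun i => b i)) := rfl

theorem phiLin_one : phiLin b 1 = 1 := by
  rw [phiLin_apply, OneMemClass.coe_one, one_mul, Dlin_tprod]
  exact b.det_self

theorem phiLin_mul (hfact : IsUnit ((Nat.factorial n : ℕ) : A)) (z z' : SymTen.TS A R n) :
    phiLin b (z * z') = phiLin b z * phiLin b z' := by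
  simp only [phiLin_apply]
  have hy := sub_Dlin_smul_mem b ((z' : ⨂[A] _ : Fin n, R) * PiTensorProduct.tprod A (fun i => b i))
  have := Dlin_mul_eq_zero b hfact z.1 z.2 _ hy
  rw [mul_sub, map_sub, mul_smul_comm, map_smul, sub_eq_zero] at this
  rw [MulMemClass.coe_mul, mul_assoc, this, smul_eq_mul, mul_comm]

theorem phiLin_tpow (r : R) : phiLin b (SymTen.tpow A R n r) = Algebra.norm A r := by
  rw [phiLin_apply]
  show Dlin b (PiTensorProduct.tprod A (fun _ : Fin n => r) * PiTensorProduct.tprod A (fun i => b i)) = _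
  rw [PiTensorProduct.tprod_mul_tprod, Dlin_tprod]
  have : ((fun _ : Fin n => r) * fun i => b i) = (Algebra.lmul A R r) ∘ ⇑b := rfl
  rw [this, Module.Basis.det_comp, Module.Basis.det_self, mul_one, Algebra.norm_apply]

theorem symm_mem (t : ⨂[A] _ : Fin n, R) :
    (∑ σ : Equiv.Perm (Fin n), SymTen.perm A R n σ t) ∈
      (Submodule.span A (Set.range (SymTen.tpow A R n))).map (SymTen.TS A R n).val.toLinearMap := by
  induction t using PiTensorProduct.induction_on with
  | smul_tprod r p =>
    simp only [map_smul]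
    rw [← Finset.smul_sum]
    refine Submodule.smul_mem _ _ ?_
    simp only [SymTen.perm_tprod]
    have h1 : ∑ σ : Equiv.Perm (Fin n), PiTensorProduct.tprod A (fun i => p (σ.symm i)) =
        ∑ σ : Equiv.Perm (Fin n), PiTensorProduct.tprod A (fun i => p (σ i)) :=
      Fintype.sum_equiv (Equiv.inv (Equiv.Perm (Fin n))) _ _ fun σ => rfl
    rw [h1, ← polarization (PiTensorProduct.tprod A) p]
    refine Submodule.sum_mem _ fun S _ => Submodule.smul_of_tower_mem _ _ ?_
    exact ⟨SymTen.tpow A R n (∑ i ∈ S, p i), Submodule.subset_span (Set.mem_range_self _), rfl⟩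
  | add x y hx hy =>
    simp only [map_add, Finset.sum_add_distrib]
    exact Submodule.add_mem _ hx hy

theorem factorial_smul_mem (z : SymTen.TS A R n) :
    ((Nat.factorial n : ℕ) : A) • z ∈ Submodule.span A (Set.range (SymTen.tpow A R n)) := by
  have h1 : ∑ σ : Equiv.Perm (Fin n), SymTen.perm A R n σ (z : ⨂[A] _ : Fin n, R) =
      ((Nat.factorial n : ℕ) : A) • (z : ⨂[A] _ : Fin n, R) := by
    have : ∀ σ : Equiv.Perm (Fin n), SymTen.perm A R n σ (z : ⨂[A] _ : Fin n, R) = z := by
      intro σ
      rw [SymTen.perm_apply]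
      exact z.2 σ
    rw [Finset.sum_congr rfl fun σ _ => this σ, Finset.sum_const, Finset.card_univ,
      Fintype.card_perm, Fintype.card_fin, Nat.cast_smul_eq_nsmul]
  obtain ⟨l, hl, hl'⟩ := symm_mem (z : ⨂[A] _ : Fin n, R)
  rw [h1] at hl'
  have : l = ((Nat.factorial n : ℕ) : A) • z := Subtype.ext hl'
  rwa [← this]

end Aux

/-- Linearised norm: let A be a commutative ring in which n! is invertible and R a commutative
A-algebra, free of rank n as an A-module. There is a unique A-algebra homomorphism from the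
symmetric tensors TS^n_A(R) to A taking r ⊗ ⋯ ⊗ r to the norm of r for every r in R. (The published
corollary is stated for any free algebra of rank n; the construction printed for it divides by n!,
and n! invertible is assumed here.) -/
theorem result (A : Type u) [CommRing A] (R : Type u) [CommRing R]
    [Algebra A R] [Module.Free A R] [Module.Finite A R] (n : ℕ) (hn : Module.finrank A R = n)
    (hfact : IsUnit ((Nat.factorial n : ℕ) : A)) :
    ∃! φ : SymTen.TS A R n →ₐ[A] A, ∀ r : R, φ (SymTen.tpow A R n r) = Algebra.norm A r := by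
  classical
  rcases subsingleton_or_nontrivial A with hA | hA
  · refine ⟨⟨⟨⟨⟨fun _ => 0, Subsingleton.elim _ _⟩, fun _ _ => Subsingleton.elim _ _⟩,
      Subsingleton.elim _ _, fun _ _ => Subsingleton.elim _ _⟩, fun _ => Subsingleton.elim _ _⟩,
      fun _ => Subsingleton.elim _ _, fun ψ _ => ?_⟩
    ext z
    exact Subsingleton.elim _ _
  let b : Module.Basis (Fin n) A R := Module.finBasisOfFinrankEq A R hn
  refine ⟨AlgHom.ofLinearMap (phiLin b) (phiLin_one b) (phiLin_mul b hfact), ?_, ?_⟩
  · intro r
    exact phiLin_tpow b r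
  · intro ψ hψ
    have hle : Submodule.span A (Set.range (SymTen.tpow A R n)) ≤
        LinearMap.eqLocus ψ.toLinearMap (AlgHom.ofLinearMap (phiLin b) (phiLin_one b)
          (phiLin_mul b hfact)).toLinearMap := by
      rw [Submodule.span_le]
      rintro _ ⟨r, rfl⟩
      show ψ _ = phiLin b _
      rw [hψ r, phiLin_tpow]
    ext z
    have := hle (factorial_smul_mem z)
    rw [LinearMap.mem_eqLocus, map_smul, map_smul, smul_eq_mul, smul_eq_mul] at this
    exact (hfact.mul_right_inj).mp this

end Groth.Agent.S19444
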