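import Groth.Statements.S19448
import Mathlib

set_option autoImplicit false
universe u
open CAlg

namespace Groth.Agent.S19448

/-- Let k be a field, A a Noetherian local k-algebra with maximal ideal M and residue field k, and G a
finite group with |G| ≠ 0 in k acting on A by k-algebra automorphisms. An element of G which acts
trivially on M/M^2 acts trivially on A; in other words the stabilizer acts faithfully on the
cotangent space whenever it acts faithfully on the local ring. -/
theorem result (k : Type u) [Field k] (A : Type u) [CommRing A]
    [Algebra k A] [IsLocalRing A] [IsNoetherianRing A]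
    (hres : Function.Surjective (algebraMap k (IsLocalRing.ResidueField A)))
    (G : Type u) [Group G] [Finite G] [MulSemiringAction G A] [SMulCommClass G k A]
    (hG : (Nat.card G : k) ≠ 0) (g : G)
    (hg : ∀ a ∈ IsLocalRing.maximalIdeal A, g • a - a ∈ IsLocalRing.maximalIdeal A ^ 2) (a : A) :
    g • a = a := by
  classical
  set M := IsLocalRing.maximalIdeal A with hM
  -- every group element preserves powers of the maximal ideal
  have hpres : ∀ (h : G) (s : ℕ) (x : A), x ∈ M ^ s → h • x ∈ M ^ s := by
    intro h s x hx
    have h1 : Ideal.map (MulSemiringAction.toRingHom G A h) M ≤ M := by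
      rw [Ideal.map_le_iff_le_comap]
      intro z hz
      rw [Ideal.mem_comap, hM, IsLocalRing.mem_maximalIdeal, mem_nonunits_iff] at *
      intro hu
      have := IsUnit.map (MulSemiringAction.toRingHom G A h⁻¹) hu
      rw [MulSemiringAction.toRingHom_apply, MulSemiringAction.toRingHom_apply,
        inv_smul_smul] at this
      exact hz this
    have h2 : Ideal.map (MulSemiringAction.toRingHom G A h) (M ^ s) ≤ M ^ s := by
      rw [Ideal.map_pow]
      exact Ideal.pow_right_mono h1 s
    exact h2 (Ideal.mem_map_of_mem _ hx)
  -- δ raises the filtration degree on M^i, i ≥ 1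
  have hF2 : ∀ i : ℕ, ∀ x ∈ M ^ (i + 1), g • x - x ∈ M ^ (i + 2) := by
    intro i
    induction i with
    | zero =>
      intro x hx
      rw [zero_add, pow_one] at hx
      exact hg x hx
    | succ i ih =>
      intro x hx
      rw [pow_succ] at hx
      refine Submodule.smul_induction_on (p := fun x => g • x - x ∈ M ^ (i + 1 + 2)) hx ?_ ?_
      · intro u hu v hv
        rw [smul_eq_mul]
        have e : g • (u * v) - u * v = (g • u - u) * (g • v) + u * (g • v - v) := by
          rw [smul_mul']; ring
        rw [e]
        refine Ideal.add_mem _ ?_ ?_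
        · have h1 : g • u - u ∈ M ^ (i + 2) := ih u hu
          have h2 : g • v ∈ M ^ 1 := hpres g 1 v (by rwa [pow_one])
          have := Ideal.mul_mem_mul h1 h2
          rwa [← pow_add] at this
        · have h1 : g • v - v ∈ M ^ 2 := hg v hv
          have := Ideal.mul_mem_mul hu h1
          rwa [← pow_add] at this
      · intro u v hu hv
        have e : g • (u + v) - (u + v) = (g • u - u) + (g • v - v) := by
          rw [smul_add]; ring
        rw [e]
        exact Ideal.add_mem _ hu hv
  -- δ maps A into M
  have hF3 : ∀ x : A, g • x - x ∈ M := by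
    intro x
    obtain ⟨c, hc⟩ := hres (IsLocalRing.residue A x)
    have h1 : x - algebraMap k A c ∈ M := by
      rw [hM, ← IsLocalRing.residue_eq_zero_iff, map_sub, sub_eq_zero, ← hc]
      rfl
    have h2 : g • (algebraMap k A c) = algebraMap k A c := by
      rw [Algebra.algebraMap_eq_smul_one, smul_comm, smul_one]
    have e : g • x - x = g • (x - algebraMap k A c) - (x - algebraMap k A c) := by
      rw [smul_sub, h2]; ring
    rw [e]
    have := hg _ h1
    exact Ideal.pow_le_self (by norm_num) this
  -- main induction
  have hmain : ∀ r : ℕ, ∀ x : A, g • x - x ∈ M ^ (r + 1) := by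
    intro r
    induction r with
    | zero => intro x; rw [zero_add, pow_one]; exact hF3 x
    | succ r ih =>
      intro x
      obtain ⟨y, hy⟩ : ∃ y, y = g • x - x := ⟨_, rfl⟩
      rw [← hy]
      have hyr : y ∈ M ^ (r + 1) := by rw [hy]; exact ih x
      set n := Nat.card G with hn
      have hgn : g ^ n = 1 := pow_card_eq_one'
      have htel : ∑ j ∈ Finset.range n, g ^ j • y = 0 := by
        have : ∀ j, g ^ j • y = g ^ (j + 1) • x - g ^ j • x := by
          intro j
          rw [hy, smul_sub, ← mul_smul, ← pow_succ]
        simp only [this]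
        rw [Finset.sum_range_sub (fun j => g ^ j • x), hgn, pow_zero, sub_self]
      have hj : ∀ j : ℕ, g ^ j • y - y ∈ M ^ (r + 2) := by
        intro j
        induction j with
        | zero => rw [pow_zero, one_smul, sub_self]; exact Ideal.zero_mem _
        | succ j ihj =>
          have e : g ^ (j + 1) • y - y = g ^ j • (g • y - y) + (g ^ j • y - y) := by
            rw [pow_succ, mul_smul, smul_sub]; abel
          rw [e]
          exact Ideal.add_mem _ (hpres _ _ _ (hF2 r y hyr)) ihj
      have hsum : (n : A) * y ∈ M ^ (r + 2) := by
        have e : (n : A) * y = ∑ j ∈ Finset.range n, g ^ j • y -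
            ∑ j ∈ Finset.range n, (g ^ j • y - y) := by
          rw [← Finset.sum_sub_distrib]
          simp
        rw [e, htel, zero_sub]
        exact Ideal.neg_mem_iff _ |>.mpr (Ideal.sum_mem _ fun j _ => hj j)
      have hnk : ((n : k)) ≠ 0 := hG
      have e : y = algebraMap k A ((n : k)⁻¹) * ((n : A) * y) := by
        rw [← mul_assoc]
        have : algebraMap k A ((n : k)⁻¹) * (n : A) = 1 := by
          rw [← map_natCast (algebraMap k A) n, ← map_mul, inv_mul_cancel₀ hnk, map_one]
        rw [this, one_mul]
      rw [e]
      exact Ideal.mul_mem_left _ _ hsum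
  have hbot : g • a - a ∈ (⨅ r : ℕ, M ^ r) := by
    rw [Ideal.mem_iInf]
    intro r
    rcases r with _ | r
    · rw [pow_zero, Ideal.one_eq_top]; exact Submodule.mem_top
    · exact hmain r a
  rw [Ideal.iInf_pow_eq_bot_of_isLocalRing M (IsLocalRing.maximalIdeal.isMaximal A).ne_top] at hbot
  exact sub_eq_zero.mp hbot

end Groth.Agent.S19448
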