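import Mathlib
-- Template for statement S19452 (row 19451; see the milestone table for weights).
-- Copy to Groth/Agent/S19452.lean and replace the sorry. The statement below is byte-identical to the frozen
-- statement HilbD.GrothFrozen.S19452 (Groth/Statements/S19452.lean; the theorem HilbD.w4c6ph_firstOrder_liftings_eq_liftIdeal);
-- the grader kernel-checks Groth.Agent.S19452.result against that frozen type. Keep the theorem IN THIS FILE
-- (a `result` declared elsewhere and merely imported here is not credited); helpers may live anywhere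
-- under Groth/Agent/.
import Groth.Statements.S19452
import Groth.Agent.S6000

set_option autoImplicit false
universe u
attribute [local instance] W4c6puncthilbintro.dualAlgebra
open HilbD

namespace Groth.Agent.S19452

open TensorProduct DualNumber TrivSqZeroExt

section general

/-- semilinear transfer of flatness along a bijective ring hom. -/
theorem flat_of_semilinear {A B : Type*} [CommRing A] [CommRing B] (σ : A →+* B)
    (hσ : Function.Surjective σ) (X : Type*) [AddCommGroup X] [Module A X] [Module.Flat A X]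
    (Y : Type*) [AddCommGroup Y] [Module B Y] (e : X ≃+ Y)
    (he : ∀ (a : A) (x : X), e (a • x) = σ a • e x) : Module.Flat B Y := by
  refine Module.Flat.of_forall_isTrivialRelation ?_
  intro l f y h
  choose f₀ hf₀ using fun i => hσ (f i)
  have h0 : ∑ i, f₀ i • e.symm (y i) = 0 := by
    apply e.injective
    rw [map_sum, map_zero, ← h]
    refine Finset.sum_congr rfl (fun i _ => ?_)
    rw [he, hf₀, AddEquiv.apply_symm_apply]
  obtain ⟨k, a, z, hz, ha⟩ := Module.Flat.isTrivialRelation_of_sum_smul_eq_zero h0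
  refine ⟨k, fun i j => σ (a i j), fun j => e (z j), ?_, ?_⟩
  · intro i
    have := congrArg e (hz i)
    rw [AddEquiv.apply_symm_apply, map_sum] at this
    rw [this]
    exact Finset.sum_congr rfl (fun j _ => he _ _)
  · intro j
    have := congrArg σ (ha j)
    rw [map_sum, map_zero] at this
    rw [← this]
    exact Finset.sum_congr rfl (fun i _ => by rw [map_mul, hf₀])

variable (A : Type u) [CommRing A]

/-- the ideal `(ε)` of the dual numbers. -/
noncomputable def epsIdeal : Ideal (DualNumber A) := Ideal.span {(ε : DualNumber A)}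

lemma epsIdeal_nilpotent : IsNilpotent (epsIdeal A) := by
  refine ⟨2, ?_⟩
  rw [epsIdeal, Ideal.span_singleton_pow, sq, eps_mul_eps, Ideal.zero_eq_bot, Ideal.span_singleton_eq_bot]

lemma mem_epsIdeal_iff (x : DualNumber A) : x ∈ epsIdeal A ↔ x.fst = 0 := by
  rw [epsIdeal, Ideal.mem_span_singleton']
  constructor
  · rintro ⟨a, rfl⟩
    rw [fst_mul, fst_eps, mul_zero]
  · intro h
    refine ⟨inl x.snd, ?_⟩
    apply TrivSqZeroExt.ext
    · rw [fst_mul, fst_eps, mul_zero, h]
    · rw [DualNumber.snd_mul, fst_inl, snd_eps, mul_one, snd_inl, zero_mul, add_zero]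

variable {A}

/-- flatness criterion over the dual numbers. -/
theorem flat_of_eps (M' : Type u) [AddCommGroup M'] [Module (DualNumber A) M']
    (h1 : Module.Flat (DualNumber A ⧸ epsIdeal A) ((DualNumber A ⧸ epsIdeal A) ⊗[DualNumber A] M'))
    (h2 : ∀ m : M', (ε : DualNumber A) • m = 0 → ∃ m₁ : M', m = (ε : DualNumber A) • m₁) :
    Module.Flat (DualNumber A) M' := by
  refine (Groth.Agent.S6000.result (DualNumber A) (epsIdeal A) (epsIdeal_nilpotent A) M').2 ⟨h1, ?_⟩
  have hε : (ε : DualNumber A) ∈ epsIdeal A := Ideal.subset_span rfl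
  have key : ∀ t : ↥(epsIdeal A) ⊗[DualNumber A] M', ∃ m : M',
      t = (⟨ε, hε⟩ : ↥(epsIdeal A)) ⊗ₜ[DualNumber A] m := by
    intro t
    induction t using TensorProduct.induction_on with
    | zero => exact ⟨0, (tmul_zero _ _).symm⟩
    | tmul n m =>
      obtain ⟨a, ha⟩ := Ideal.mem_span_singleton'.mp n.2
      refine ⟨a • m, ?_⟩
      rw [← smul_tmul]
      congr 1
      apply Subtype.ext
      rw [Submodule.coe_smul, smul_eq_mul]
      exact ha.symm
    | add x y hx hy =>
      obtain ⟨m₁, rfl⟩ := hx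
      obtain ⟨m₂, rfl⟩ := hy
      exact ⟨m₁ + m₂, (tmul_add _ _ _).symm⟩
  rw [injective_iff_map_eq_zero]
  intro t ht
  obtain ⟨m, rfl⟩ := key t
  rw [LinearMap.rTensor_tmul, Submodule.subtype_apply] at ht
  have h3 := congrArg (TensorProduct.lid (DualNumber A) M') ht
  rw [TensorProduct.lid_tmul, map_zero] at h3
  obtain ⟨m₁, rfl⟩ := h2 m h3
  rw [← smul_tmul]
  have : (ε : DualNumber A) • (⟨ε, hε⟩ : ↥(epsIdeal A)) = 0 := by
    apply Subtype.ext
    rw [Submodule.coe_smul, smul_eq_mul, eps_mul_eps]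
    rfl
  rw [this, zero_tmul]

/-- converse: over a flat module the annihilator of `ε` is `ε M'`. -/
theorem exists_eps_smul_of_flat (M' : Type*) [AddCommGroup M'] [Module (DualNumber A) M']
    [Module.Flat (DualNumber A) M'] (m : M') (hm : (ε : DualNumber A) • m = 0) :
    ∃ m₁ : M', m = (ε : DualNumber A) • m₁ := by
  have h0 : ∑ i : Fin 1, (fun _ => (ε : DualNumber A)) i • (fun _ => m) i = 0 := by
    rw [Fin.sum_univ_one]
    exact hm
  obtain ⟨k, a, y, hy, ha⟩ := Module.Flat.isTrivialRelation_of_sum_smul_eq_zero h0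
  refine ⟨∑ j, (inl (a 0 j).snd : DualNumber A) • y j, ?_⟩
  have hy0 : m = ∑ j, a 0 j • y j := hy 0
  rw [Finset.smul_sum]
  refine hy0.trans (Finset.sum_congr rfl (fun j _ => ?_))
  rw [← mul_smul]
  congr 1
  have h1 : ∑ i : Fin 1, (ε : DualNumber A) * a i j = 0 := ha j
  rw [Fin.sum_univ_one] at h1
  have h2 : (a 0 j).fst = 0 := by
    have := congrArg TrivSqZeroExt.snd h1
    rw [DualNumber.snd_mul, fst_eps, zero_mul, snd_eps, one_mul, zero_add] at this
    exact this
  apply TrivSqZeroExt.ext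
  · rw [fst_mul, fst_eps, zero_mul, h2]
  · rw [DualNumber.snd_mul, fst_eps, zero_mul, snd_eps, one_mul, fst_inl, zero_add]

end general

section specific

variable {A : Type u} [CommRing A] {R : Type u} [CommRing R] [Algebra A R]

lemma algebraMap_eps : algebraMap (DualNumber A) (DualNumber R) ε = ε :=
  W4c6puncthilbintro.dualMap_eps A R

lemma algebraMap_inl (a : A) :
    algebraMap (DualNumber A) (DualNumber R) (inl a) = inl (algebraMap A R a) :=
  W4c6puncthilbintro.dualMap_inl A R a

lemma fst_algebraMap (x : DualNumber A) :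
    (algebraMap (DualNumber A) (DualNumber R) x).fst = algebraMap A R x.fst := by
  have hx : x = inl x.fst + inl x.snd * ε := by
    apply TrivSqZeroExt.ext
    · rw [fst_add, fst_mul, fst_eps, mul_zero, add_zero, fst_inl]
    · rw [snd_add, DualNumber.snd_mul, snd_inl, fst_inl, snd_eps, mul_one, fst_eps, mul_zero,
        add_zero, zero_add]
  conv_lhs => rw [hx]
  rw [map_add, map_mul, algebraMap_inl, algebraMap_inl, algebraMap_eps, fst_add, fst_mul, fst_eps,
    mul_zero, add_zero, fst_inl]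

lemma eps_mul (r : DualNumber R) : (ε : DualNumber R) * r = inr r.fst := by
  apply TrivSqZeroExt.ext
  · rw [fst_mul, fst_eps, zero_mul, fst_inr]
  · rw [DualNumber.snd_mul, fst_eps, zero_mul, snd_eps, one_mul, zero_add, snd_inr]

lemma smul_mk (J : Ideal (DualNumber R)) (a' : DualNumber A) (r : DualNumber R) :
    a' • (Ideal.Quotient.mk J r : DualNumber R ⧸ J) =
      Ideal.Quotient.mk J (algebraMap (DualNumber A) (DualNumber R) a' * r) := by
  rw [← Algebra.smul_def]
  rfl

variable (I : Ideal R) (J : Ideal (DualNumber R))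
  (hfst : ∀ a : R, a ∈ I ↔ ∃ x ∈ J, TrivSqZeroExt.fst x = a)

include hfst in
lemma exists_eps_smul (r : DualNumber R) (hr : r.fst ∈ I) :
    ∃ m₁ : DualNumber R ⧸ J, (Ideal.Quotient.mk J r : DualNumber R ⧸ J) =
      (ε : DualNumber A) • m₁ := by
  obtain ⟨x, hxJ, hx⟩ := (hfst _).1 hr
  refine ⟨Ideal.Quotient.mk J (inl (r - x).snd), ?_⟩
  rw [smul_mk, algebraMap_eps, eps_mul, fst_inl]
  rw [Ideal.Quotient.eq]
  have : r - inr (r - x).snd = x := by
    apply TrivSqZeroExt.ext
    · rw [fst_sub, fst_inr, sub_zero, hx]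
    · rw [snd_sub, snd_inr, snd_sub, sub_sub_cancel]
  rw [this]
  exact hxJ

end specific

section partB

variable {A : Type u} [CommRing A] {R : Type u} [CommRing R] [Algebra A R]
variable (I : Ideal R) (J : Ideal (DualNumber R))
  (hfst : ∀ a : R, a ∈ I ↔ ∃ x ∈ J, TrivSqZeroExt.fst x = a)

include hfst in
theorem flat_quotient_tensor [Module.Flat A (R ⧸ I)] :
    Module.Flat (DualNumber A ⧸ epsIdeal A)
      ((DualNumber A ⧸ epsIdeal A) ⊗[DualNumber A] (DualNumber R ⧸ J)) := by
  -- `R ⧸ I` as a module over the dual numbers through `ε ↦ 0`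
  let modX : Module (DualNumber A) (R ⧸ I) :=
    Module.compHom (R ⧸ I) (TrivSqZeroExt.fstHom A A A).toRingHom
  have hsmulX : ∀ (a' : DualNumber A) (x : R ⧸ I), a' • x = a'.fst • x := fun a' x => rfl
  -- the ring map `R[ε]/J → R/I`
  have hJI : ∀ x ∈ J, ((Ideal.Quotient.mk I).comp (TrivSqZeroExt.fstHom A R R).toRingHom) x = 0 := by
    intro x hx
    change Ideal.Quotient.mk I x.fst = 0
    rw [Ideal.Quotient.eq_zero_iff_mem]
    exact (hfst _).2 ⟨x, hx, rfl⟩
  let ρ : (DualNumber R ⧸ J) →+* (R ⧸ I) := Ideal.Quotient.lift J _ hJI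
  have hρ : ∀ r : DualNumber R, ρ (Ideal.Quotient.mk J r) = Ideal.Quotient.mk I r.fst := fun r => rfl
  let π₁ : (DualNumber R ⧸ J) →ₗ[DualNumber A] (R ⧸ I) :=
    { toFun := ρ
      map_add' := map_add ρ
      map_smul' := by
        intro a' m
        obtain ⟨r, rfl⟩ := Ideal.Quotient.mk_surjective m
        rw [smul_mk, hρ, hρ, RingHom.id_apply, hsmulX, fst_mul, fst_algebraMap, map_mul,
          Algebra.smul_def]
        rfl }
  have hπ₁ : ∀ r : DualNumber R, π₁ (Ideal.Quotient.mk J r) = Ideal.Quotient.mk I r.fst :=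
    fun r => rfl
  have hle : (epsIdeal A • ⊤ : Submodule (DualNumber A) (DualNumber R ⧸ J)) ≤ LinearMap.ker π₁ := by
    rw [Submodule.smul_le]
    intro n hn m _
    rw [LinearMap.mem_ker, map_smul, hsmulX, (mem_epsIdeal_iff A n).1 hn, zero_smul]
  let π₂ := Submodule.liftQ _ π₁ hle
  have hπ₂inj : Function.Injective π₂ := by
    rw [← LinearMap.ker_eq_bot]
    refine Submodule.ker_liftQ_eq_bot _ _ hle ?_
    intro m hm
    obtain ⟨r, rfl⟩ := Ideal.Quotient.mk_surjective m
    rw [LinearMap.mem_ker, hπ₁, Ideal.Quotient.eq_zero_iff_mem] at hm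
    obtain ⟨m₁, hm₁⟩ := exists_eps_smul (A := A) I J hfst r hm
    rw [hm₁]
    exact Submodule.smul_mem_smul (Ideal.subset_span rfl) trivial
  have hπ₂surj : Function.Surjective π₂ := by
    intro x
    obtain ⟨r, rfl⟩ := Ideal.Quotient.mk_surjective x
    refine ⟨Submodule.Quotient.mk (Ideal.Quotient.mk J (inl r)), ?_⟩
    change π₁ (Ideal.Quotient.mk J (inl r)) = _
    rw [hπ₁, fst_inl]
  let e := (TensorProduct.quotTensorEquivQuotSMul (DualNumber R ⧸ J) (epsIdeal A)).trans
    (LinearEquiv.ofBijective π₂ ⟨hπ₂inj, hπ₂surj⟩)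
  let σ : A →+* (DualNumber A ⧸ epsIdeal A) :=
    (Ideal.Quotient.mk (epsIdeal A)).comp (TrivSqZeroExt.inlHom A A)
  have hσ : Function.Surjective σ := by
    intro b
    obtain ⟨a', rfl⟩ := Ideal.Quotient.mk_surjective b
    refine ⟨a'.fst, ?_⟩
    change Ideal.Quotient.mk (epsIdeal A) (inl a'.fst) = _
    rw [Ideal.Quotient.eq, mem_epsIdeal_iff, fst_sub, fst_inl, sub_self]
  refine flat_of_semilinear (A := A) (B := DualNumber A ⧸ epsIdeal A) σ hσ (R ⧸ I)
    ((DualNumber A ⧸ epsIdeal A) ⊗[DualNumber A] (DualNumber R ⧸ J)) e.symm.toAddEquiv ?_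
  intro a x
  have h1 : a • x = (inl a : DualNumber A) • x := by
    rw [hsmulX, fst_inl]
  change e.symm (a • x) = σ a • e.symm x
  rw [h1, map_smul]
  exact (algebraMap_smul (DualNumber A ⧸ epsIdeal A) (inl a : DualNumber A) (e.symm x)).symm

include hfst in
theorem flat_quotient_iff [Module.Flat A (R ⧸ I)] :
    Module.Flat (DualNumber A) (DualNumber R ⧸ J) ↔
      ∀ a : R, (inr a : DualNumber R) ∈ J → a ∈ I := by
  constructor
  · intro hflat a ha
    have h0 : (ε : DualNumber A) • (Ideal.Quotient.mk J (inl a) : DualNumber R ⧸ J) = 0 := by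
      rw [smul_mk, algebraMap_eps, eps_mul, fst_inl, Ideal.Quotient.eq_zero_iff_mem]
      exact ha
    obtain ⟨m₁, hm₁⟩ := exists_eps_smul_of_flat (A := A) (DualNumber R ⧸ J)
      (Ideal.Quotient.mk J (inl a)) h0
    obtain ⟨r₁, rfl⟩ := Ideal.Quotient.mk_surjective m₁
    rw [smul_mk, algebraMap_eps, eps_mul, Ideal.Quotient.eq] at hm₁
    refine (hfst a).2 ⟨_, hm₁, ?_⟩
    rw [fst_sub, fst_inl, fst_inr, sub_zero]
  · intro h
    refine flat_of_eps _ (flat_quotient_tensor I J hfst) ?_
    intro m hm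
    obtain ⟨r, rfl⟩ := Ideal.Quotient.mk_surjective m
    rw [smul_mk, algebraMap_eps, eps_mul, Ideal.Quotient.eq_zero_iff_mem] at hm
    exact exists_eps_smul I J hfst r (h _ hm)

end partB

section main

variable {A : Type u} [CommRing A] {R : Type u} [CommRing R] [Algebra A R] (I : Ideal R)

lemma mem_liftIdeal (φ : I →ₗ[R] R ⧸ I) (x : DualNumber R) :
    x ∈ W4c6puncthilbintro.liftIdeal I φ ↔
      ∃ h : x.fst ∈ I, Ideal.Quotient.mk I x.snd = φ ⟨x.fst, h⟩ := Iff.rfl

lemma hfst_iff_map (J : Ideal (DualNumber R)) :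
    Ideal.map (TrivSqZeroExt.fstHom A R R) J = I ↔
      ∀ a : R, a ∈ I ↔ ∃ x ∈ J, TrivSqZeroExt.fst x = a := by
  have hs : Function.Surjective (TrivSqZeroExt.fstHom A R R) := fun a => ⟨inl a, rfl⟩
  constructor
  · intro h a
    rw [← h, Ideal.mem_map_iff_of_surjective _ hs]
    rfl
  · intro h
    ext a
    rw [Ideal.mem_map_iff_of_surjective _ hs, h a]
    rfl

lemma hfst_liftIdeal (φ : I →ₗ[R] R ⧸ I) :
    ∀ a : R, a ∈ I ↔ ∃ x ∈ W4c6puncthilbintro.liftIdeal I φ, TrivSqZeroExt.fst x = a := by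
  intro a
  constructor
  · intro ha
    obtain ⟨c, hc⟩ := Ideal.Quotient.mk_surjective (φ ⟨a, ha⟩)
    refine ⟨inl a + inr c, ?_, by rw [fst_add, fst_inl, fst_inr, add_zero]⟩
    rw [mem_liftIdeal]
    have h1 : (inl a + inr c : DualNumber R).fst = a := by rw [fst_add, fst_inl, fst_inr, add_zero]
    have h2 : (inl a + inr c : DualNumber R).snd = c := by rw [snd_add, snd_inl, snd_inr, zero_add]
    refine ⟨by rw [h1]; exact ha, ?_⟩
    rw [h2, hc]
    congr 1
    exact Subtype.ext h1.symm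
  · rintro ⟨x, ⟨h, _⟩, rfl⟩
    exact h

theorem part1 [Module.Flat A (R ⧸ I)] (φ : I →ₗ[R] R ⧸ I) :
    Module.Flat (DualNumber A) (DualNumber R ⧸ W4c6puncthilbintro.liftIdeal I φ) ∧
      Ideal.map (TrivSqZeroExt.fstHom A R R) (W4c6puncthilbintro.liftIdeal I φ) = I := by
  refine ⟨(flat_quotient_iff I _ (hfst_liftIdeal I φ)).2 ?_, (hfst_iff_map I _).2 (hfst_liftIdeal I φ)⟩
  intro a ha
  obtain ⟨h, h'⟩ := (mem_liftIdeal I φ _).1 ha
  rw [snd_inr] at h'
  have h0 : (⟨(inr a : DualNumber R).fst, h⟩ : I) = 0 := Subtype.ext rfl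
  rw [h0, map_zero, Ideal.Quotient.eq_zero_iff_mem] at h'
  exact h'

theorem part2 : Function.Injective (W4c6puncthilbintro.liftIdeal I) := by
  intro φ ψ h
  ext a
  obtain ⟨x, hx, hxa⟩ := (hfst_liftIdeal I φ a.1).1 a.2
  obtain ⟨h1, h2⟩ := (mem_liftIdeal I φ x).1 hx
  rw [h] at hx
  obtain ⟨h3, h4⟩ := (mem_liftIdeal I ψ x).1 hx
  have : (⟨x.fst, h1⟩ : I) = a := Subtype.ext hxa
  rw [← this, ← h2, h4]

theorem part3 [Module.Flat A (R ⧸ I)] (J : Ideal (DualNumber R))
    (hflat : Module.Flat (DualNumber A) (DualNumber R ⧸ J))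
    (hmap : Ideal.map (TrivSqZeroExt.fstHom A R R) J = I) :
    ∃ φ : I →ₗ[R] R ⧸ I, J = W4c6puncthilbintro.liftIdeal I φ := by
  have hfst := (hfst_iff_map (A := A) I J).1 hmap
  have hJ0 : ∀ a : R, (inr a : DualNumber R) ∈ J → a ∈ I := (flat_quotient_iff I J hfst).1 hflat
  have hJ1 : ∀ a : R, a ∈ I → (inr a : DualNumber R) ∈ J := by
    intro a ha
    obtain ⟨x, hx, rfl⟩ := (hfst a).1 ha
    rw [← eps_mul]
    exact J.mul_mem_left _ hx
  -- well-definedness
  have hW : ∀ x ∈ J, ∀ y ∈ J, x.fst = y.fst → Ideal.Quotient.mk I x.snd = Ideal.Quotient.mk I y.snd := by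
    intro x hx y hy hxy
    rw [Ideal.Quotient.eq]
    apply hJ0
    have : (inr (x.snd - y.snd) : DualNumber R) = x - y := by
      apply TrivSqZeroExt.ext
      · rw [fst_inr, fst_sub, hxy, sub_self]
      · rw [snd_inr, snd_sub]
    rw [this]
    exact J.sub_mem hx hy
  choose b hbJ hb using fun a : I => (hfst a.1).1 a.2
  let φ : I →ₗ[R] R ⧸ I :=
    { toFun := fun a => Ideal.Quotient.mk I (b a).snd
      map_add' := by
        intro a₁ a₂
        rw [← map_add, ← snd_add]
        refine hW _ (hbJ _) _ (J.add_mem (hbJ _) (hbJ _)) ?_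
        rw [hb, fst_add, hb, hb]
        rfl
      map_smul' := by
        intro r a
        rw [RingHom.id_apply, Algebra.smul_def, Ideal.Quotient.algebraMap_eq, ← map_mul]
        have h1 : r * (b a).snd = (inl r * b a : DualNumber R).snd := by
          rw [DualNumber.snd_mul, fst_inl, snd_inl, zero_mul, add_zero]
        rw [h1]
        refine hW _ (hbJ _) _ (J.mul_mem_left _ (hbJ _)) ?_
        rw [hb, fst_mul, fst_inl, hb]
        rfl }
  refine ⟨φ, ?_⟩
  ext x
  rw [mem_liftIdeal]
  constructor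
  · intro hx
    have hxI : x.fst ∈ I := (hfst _).2 ⟨x, hx, rfl⟩
    refine ⟨hxI, ?_⟩
    exact hW _ hx _ (hbJ _) (hb ⟨x.fst, hxI⟩).symm
  · rintro ⟨hxI, hx⟩
    change Ideal.Quotient.mk I x.snd = Ideal.Quotient.mk I (b ⟨x.fst, hxI⟩).snd at hx
    rw [Ideal.Quotient.eq] at hx
    have h1 := hJ1 _ hx
    have h2 : x = b ⟨x.fst, hxI⟩ + inr (x.snd - (b ⟨x.fst, hxI⟩).snd) := by
      apply TrivSqZeroExt.ext
      · rw [fst_add, fst_inr, add_zero, hb]
      · rw [snd_add, snd_inr, add_sub_cancel]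
    rw [h2]
    exact J.add_mem (hbJ _) h1

end main

end Groth.Agent.S19452

namespace Groth.Agent.S19452

/-- Let A be a commutative ring, R a commutative A-algebra free as an A-module, I an ideal of R with R/I
flat over A, and view the dual numbers R[ε] as an algebra over A[ε] (ε ↦ ε). For φ : I → R/I linear
over R, let J_φ be the ideal of elements a + bε of R[ε] with a ∈ I and b ≡ φ(a) modulo I. Then each
R[ε]/J_φ is flat over A[ε] and J_φ reduces to I modulo ε; the assignment φ ↦ J_φ is injective; and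
every ideal J of R[ε] with R[ε]/J flat over A[ε] which reduces to I modulo ε equals some J_φ. Thus
the first-order liftings of I correspond one-to-one to Hom_R(I, R/I) (the tangent space of the
Hilbert scheme at I). -/
theorem result (A : Type u) [CommRing A] (R : Type u) [CommRing R]
    [Algebra A R] [Module.Free A R] (I : Ideal R) [Module.Flat A (R ⧸ I)] :
    (∀ φ : I →ₗ[R] R ⧸ I,
        Module.Flat (DualNumber A) (DualNumber R ⧸ W4c6puncthilbintro.liftIdeal I φ) ∧
          Ideal.map (TrivSqZeroExt.fstHom A R R) (W4c6puncthilbintro.liftIdeal I φ) = I) ∧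
      Function.Injective (W4c6puncthilbintro.liftIdeal I) ∧
      ∀ J : Ideal (DualNumber R), Module.Flat (DualNumber A) (DualNumber R ⧸ J) →
        Ideal.map (TrivSqZeroExt.fstHom A R R) J = I →
          ∃ φ : I →ₗ[R] R ⧸ I, J = W4c6puncthilbintro.liftIdeal I φ := by
  exact ⟨fun φ => part1 I φ, part2 I, fun J hJ hmap => part3 I J hJ hmap⟩

end Groth.Agent.S19452
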