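import Groth.Statements.S19453
import Mathlib
import Groth.Agent.Lib.Helper76.RegularLocal

set_option autoImplicit false
universe u
open CAlg

namespace Groth.Agent.S19453

open IsLocalRing Polynomial

/-- A local finite-dimensional `k`-algebra with residue field `k` and principal maximal ideal is
`k[x]/(x^n)`. -/
theorem key (k : Type u) [Field k] (B : Type u) [CommRing B] [Algebra k B] [IsLocalRing B]
    [Module.Finite k B] (τ : B) (hτ : maximalIdeal B = Ideal.span {τ})
    (hres : ∀ b : B, ∃ c : k, b - algebraMap k B c ∈ maximalIdeal B) :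
    Nonempty (B ≃ₐ[k] (Polynomial k ⧸ Ideal.span {(Polynomial.X : Polynomial k) ^
      Module.finrank k B})) := by
  have hart : IsArtinianRing B := IsArtinianRing.of_finite k B
  -- τ nilpotent
  have hτm : τ ∈ maximalIdeal B := by rw [hτ]; exact Ideal.mem_span_singleton_self τ
  obtain ⟨N, hN⟩ : ∃ N : ℕ, τ ^ N = 0 := by
    obtain ⟨N, hN⟩ := IsArtinianRing.isNilpotent_jacobson_bot (R := B)
    refine ⟨N, ?_⟩
    have h1 : τ ∈ (⊥ : Ideal B).jacobson := by
      rw [IsLocalRing.jacobson_eq_maximalIdeal ⊥ bot_ne_top]; exact hτm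
    have h2 : τ ^ N ∈ (⊥ : Ideal B).jacobson ^ N := Ideal.pow_mem_pow h1 N
    rw [hN] at h2
    exact h2
  -- approximation
  have happrox : ∀ j : ℕ, ∀ b : B, ∃ P : Polynomial k, ∃ b' : B, b = aeval τ P + τ ^ j * b' := by
    intro j
    induction j with
    | zero => intro b; exact ⟨0, b, by simp⟩
    | succ j ih =>
      intro b
      obtain ⟨P, b', hb⟩ := ih b
      obtain ⟨c, hc⟩ := hres b'
      rw [hτ, Ideal.mem_span_singleton] at hc
      obtain ⟨b'', hb''⟩ := hc
      refine ⟨P + C c * X ^ j, b'', ?_⟩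
      rw [hb, map_add, map_mul, aeval_C, map_pow, aeval_X, pow_succ]
      linear_combination (τ ^ j) * hb''
  have hsurj : Function.Surjective (aeval τ : Polynomial k →ₐ[k] B) := by
    intro b
    obtain ⟨P, b', hb⟩ := happrox N b
    exact ⟨P, by rw [hb, hN, zero_mul, add_zero]⟩
  -- the kernel
  have hXN : (X : Polynomial k) ^ N ∈ RingHom.ker (aeval τ : Polynomial k →ₐ[k] B) := by
    rw [RingHom.mem_ker, map_pow, aeval_X, hN]
  obtain ⟨p, hp⟩ : ∃ p : Polynomial k, RingHom.ker (aeval τ : Polynomial k →ₐ[k] B) = Ideal.span {p} :=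
    ⟨_, (IsPrincipalIdealRing.principal (RingHom.ker (aeval τ : Polynomial k →ₐ[k] B))).span_singleton_generator.symm⟩
  have hpdvd : p ∣ X ^ N := by
    rw [← Ideal.mem_span_singleton, ← hp]; exact hXN
  obtain ⟨m, -, hm⟩ := (dvd_prime_pow (Polynomial.prime_X (R := k)) N).mp hpdvd
  have hker : RingHom.ker (aeval τ : Polynomial k →ₐ[k] B) = Ideal.span {(X : Polynomial k) ^ m} := by
    rw [hp]; exact Ideal.span_singleton_eq_span_singleton.mpr hm
  let e1 : (Polynomial k ⧸ RingHom.ker (aeval τ : Polynomial k →ₐ[k] B)) ≃ₐ[k] B :=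
    Ideal.quotientKerAlgEquivOfSurjective hsurj
  let e2 : (Polynomial k ⧸ RingHom.ker (aeval τ : Polynomial k →ₐ[k] B)) ≃ₐ[k]
      (Polynomial k ⧸ Ideal.span {(X : Polynomial k) ^ m}) := Ideal.quotientEquivAlgOfEq k hker
  let e : B ≃ₐ[k] (Polynomial k ⧸ Ideal.span {(X : Polynomial k) ^ m}) := e1.symm.trans e2
  have hfr : Module.finrank k (Polynomial k ⧸ Ideal.span {(X : Polynomial k) ^ m}) = m := by
    have hmonic : ((X : Polynomial k) ^ m).Monic := monic_X_pow m
    have := (AdjoinRoot.powerBasis' hmonic).finrank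
    rw [AdjoinRoot.powerBasis'_dim, natDegree_X_pow] at this
    exact this
  have hm' : Module.finrank k B = m := by
    rw [e.toLinearEquiv.finrank_eq, hfr]
  rw [hm']
  exact ⟨e⟩

/-- Converse direction: let k be a field, A a regular local k-algebra of Krull dimension 2 with maximal
ideal M and residue field k, and I an ideal with A/I of finite dimension n ≥ 1 over k. If some
element of I does not lie in M^2, then A/I is isomorphic as a k-algebra to k[x]/(x^n): a cluster
lying on a smooth curve germ of a smooth surface is curvilinear, with coordinate ring generated by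
one element. -/
theorem result (k : Type u) [Field k]
    (A : Type u) [CommRing A] [Algebra k A] [IsRegularLocalRing A] (hdim : ringKrullDim A = 2)
    (hres : Function.Surjective (algebraMap k (IsLocalRing.ResidueField A)))
    (I : Ideal A) [Module.Finite k (A ⧸ I)] (n : ℕ) (hn : Module.finrank k (A ⧸ I) = n) (h1 : 1 ≤ n)
    (g : A) (hgI : g ∈ I) (hg : g ∉ IsLocalRing.maximalIdeal A ^ 2) :
    Nonempty ((A ⧸ I) ≃ₐ[k] (Polynomial k ⧸ Ideal.span {(Polynomial.X : Polynomial k) ^ n})) := by
  classical
  have hnt : Nontrivial (A ⧸ I) := by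
    by_contra hcon
    rw [not_nontrivial_iff_subsingleton] at hcon
    have : Module.finrank k (A ⧸ I) = 0 := Module.finrank_zero_of_subsingleton
    omega
  have hItop : I ≠ ⊤ := by
    intro h
    exact (Ideal.Quotient.nontrivial_iff.mp hnt) h
  have hIm : I ≤ maximalIdeal A := IsLocalRing.le_maximalIdeal hItop
  have hgm : g ∈ maximalIdeal A := hIm hgI
  have hloc : IsLocalRing (A ⧸ I) :=
    IsLocalRing.of_surjective' (Ideal.Quotient.mk I) Ideal.Quotient.mk_surjective
  have hlh : IsLocalHom (Ideal.Quotient.mk I) :=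
    (Ideal.Quotient.mk_surjective (I := I)).isLocalHom _
  have hmem : ∀ r : A, r ∈ maximalIdeal A ↔ Ideal.Quotient.mk I r ∈ maximalIdeal (A ⧸ I) := by
    intro r
    rw [mem_maximalIdeal, mem_maximalIdeal, map_mem_nonunits_iff]
  obtain ⟨T, hTcard, hTsub, hTspan⟩ :=
    Groth.Agent.Lib.Helper76.exists_finset_span_insert_eq_maximalIdeal A g hgm hg
  have hfr : (maximalIdeal A).spanFinrank = 2 := by
    have h := IsRegularLocalRing.spanFinrank_maximalIdeal (R := A)
    rw [hdim] at h
    exact_mod_cast h
  have hcard : T.card ≤ 1 := by omega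
  -- the generator
  obtain ⟨t, htm, hT⟩ : ∃ t : A, t ∈ maximalIdeal A ∧ (T : Set A) ⊆ Ideal.span {t} := by
    rcases Finset.card_le_one_iff_subset_singleton.mp hcard with ⟨t, ht⟩
    by_cases hTe : T = ∅
    · exact ⟨0, zero_mem _, by simp [hTe]⟩
    · obtain ⟨t', ht'⟩ := Finset.nonempty_iff_ne_empty.mpr hTe
      have : t' = t := by simpa using ht ht'
      subst this
      refine ⟨t', hTsub ht', ?_⟩
      intro x hx
      have : x = t' := by simpa using ht hx
      rw [this]; exact Ideal.mem_span_singleton_self _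
  have hmax : maximalIdeal (A ⧸ I) = Ideal.span {Ideal.Quotient.mk I t} := by
    apply le_antisymm
    · intro b hb
      obtain ⟨a, rfl⟩ := Ideal.Quotient.mk_surjective b
      have ha : a ∈ maximalIdeal A := (hmem a).mpr hb
      rw [← hTspan] at ha
      have hle : Ideal.span (insert g (T : Set A)) ≤
          (Ideal.span {Ideal.Quotient.mk I t}).comap (Ideal.Quotient.mk I) := by
        rw [Ideal.span_le]
        intro x hx
        rcases hx with rfl | hx
        · rw [SetLike.mem_coe, Ideal.mem_comap, Ideal.Quotient.eq_zero_iff_mem.mpr hgI]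
          exact zero_mem _
        · have := hT hx
          obtain ⟨y, rfl⟩ := Ideal.mem_span_singleton.mp this
          rw [SetLike.mem_coe, Ideal.mem_comap, map_mul]
          exact Ideal.mul_mem_right _ _ (Ideal.mem_span_singleton_self _)
      exact hle ha
    · rw [Ideal.span_le, Set.singleton_subset_iff]
      exact (hmem t).mp htm
  have hres' : ∀ b : A ⧸ I, ∃ c : k, b - algebraMap k (A ⧸ I) c ∈ maximalIdeal (A ⧸ I) := by
    intro b
    obtain ⟨a, rfl⟩ := Ideal.Quotient.mk_surjective b
    obtain ⟨c, hc⟩ := hres (IsLocalRing.residue A a)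
    refine ⟨c, ?_⟩
    have h2 : a - algebraMap k A c ∈ maximalIdeal A := by
      rw [← IsLocalRing.residue_eq_zero_iff, map_sub, sub_eq_zero, ← hc]
      rfl
    have := (hmem _).mp h2
    rw [map_sub] at this
    exact this
  have := key k (A ⧸ I) (Ideal.Quotient.mk I t) hmax hres'
  rw [hn] at this
  exact this

end Groth.Agent.S19453
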