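import Groth.Statements.S19455
import Mathlib
import Groth.Agent.Lib.Helper64.MeroInv5

set_option autoImplicit false
universe u
open CategoryTheory CategoryTheory.Limits AlgebraicGeometry TopologicalSpace Opposite
open Mero

namespace Groth.Agent.S19455


/-- Let X be an integral scheme and D, E Cartier divisors on X (global sections of the sheaf of units of
K_X modulo units of O_X, written multiplicatively, so that D · E stands for the sum of the two
divisors). Then there is a morphism of O_X-modules from the tensor product O_X(D) ⊗ O_X(E) to O_X(D
· E) which sends each section t ⊗ t' over an open subset U to the product t · t' computed in the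
sheaf of meromorphic functions K_X, and this morphism is an isomorphism. (The published statement is
for an irreducible normal variety over an algebraically closed field, where a Cartier divisor is a
locally principal Weil divisor and O_X(D) is its sheaf of rational functions φ with div φ + D ≥ 0
locally, a subsheaf of the constant sheaf of rational functions equal to O_U · φ⁻¹ wherever D is the
divisor of φ; this row states it for the fractional ideals O_X(D) ⊆ K_X of Cartier divisors on an
arbitrary integral scheme.) -/
theorem result (X : Scheme.{u}) [AlgebraicGeometry.IsIntegral X]
    (D E : Mero.Divisor X) :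
    ∃ μ : CohB1.tensorMod (Mero.divMod D) (Mero.divMod E) ⟶ Mero.divMod (D * E),
      (∀ (U : X.Opens) (t : Γ(Mero.divMod D, U)) (t' : Γ(Mero.divMod E, U)),
        (Mero.divModι (D * E)).app U (μ.app U (SecTwist.tmul (Mero.divMod D) (Mero.divMod E) U t t')) =
          (Mero.divModι D).app U t * (Mero.divModι E).app U t') ∧
      IsIso μ := by
    refine ⟨Groth.Agent.Lib.Helper64.MeroInv.mulHomDiv D E, ?_,
      Groth.Agent.Lib.Helper64.MeroInv.isIso_mulHomDiv D E⟩
    intro U t t'
    have h := Groth.Agent.Lib.Helper64.MeroInv.mulHomDiv_tmul D E t t'
    have h2 : (Groth.Agent.Lib.Helper64.MeroInv.mulHomDiv D E).app U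
        (SecTwist.tmul (Mero.divMod D) (Mero.divMod E) U t t') =
        Groth.Agent.Lib.Helper64.MeroInv.mulSec D E t t' := h
    rw [h2]
    rfl

end Groth.Agent.S19455
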