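import Groth.Statements.S19460
import Mathlib
import Groth.Agent.Lib.Helper51.CotangentSmoothSch
import Groth.Agent.Lib.Helper51.CotangentSmoothDim

set_option autoImplicit false
universe u
open CategoryTheory CategoryTheory.Limits AlgebraicGeometry
open Variety

namespace Groth.Agent.S19460

/-- Let k be an algebraically closed field, X and Y smooth irreducible varieties over k (integral,
separated, of finite type and smooth over k) of dimensions dX and dY, and f : X → Y a k-morphism
which is smooth in the sense that at every closed point x of X the tangent map T_x X → T_{f(x)} Y is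
surjective, equivalently the cotangent map m_{f(x)}/m_{f(x)}² → m_x/m_x² of the local rings is
injective. Then f is dominant, dY ≤ dX, and for every closed point y of Y in the image of f the
scheme-theoretic fibre X_y is smooth over the residue field κ(y) (which is k) and each of its
irreducible components has dimension dX − dY. (The published statement is for varieties in the
classical sense, with the fibre carrying its reduced structure, and it also identifies the tangent
space of the fibre at each point with the kernel of the tangent map; that identification is not part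
of this row.) -/
theorem result (k : Type u) [Field k] [IsAlgClosed k]
    {X Y : Scheme.{u}} (qX : X ⟶ Spec (CommRingCat.of k)) (qY : Y ⟶ Spec (CommRingCat.of k))
    [AlgebraicGeometry.IsIntegral X] [IsSeparated qX] [LocallyOfFiniteType qX] [QuasiCompact qX] [Smooth qX]
    [AlgebraicGeometry.IsIntegral Y] [IsSeparated qY] [LocallyOfFiniteType qY] [QuasiCompact qY] [Smooth qY]
    (f : X ⟶ Y) (hf : f ≫ qY = qX) (dX dY : ℕ) (hX : topologicalKrullDim ↥X = dX)
    (hY : topologicalKrullDim ↥Y = dY)
    (hT : ∀ x : X, IsClosed ({x} : Set ↥X) → Function.Injective (FixPt.cotangentMapAt f x (f.base x) rfl)) :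
    DenseRange f.base ∧ dY ≤ dX ∧
      ∀ y : Y, IsClosed ({y} : Set ↥Y) → y ∈ Set.range f.base →
        Smooth (f.fiberToSpecResidueField y) ∧
          ∀ Z ∈ irreducibleComponents ↥(f.fiber y),
            topologicalKrullDim ↥Z = ((dX - dY : ℕ) : WithBot ℕ∞) := by
  have hcot : ∀ x : X, IsClosed ({x} : Set ↥X) →
      ∀ a ∈ IsLocalRing.maximalIdeal (Y.presheaf.stalk (f x)),
        (f.stalkMap x).hom a ∈ IsLocalRing.maximalIdeal (X.presheaf.stalk x) ^ 2 →
          a ∈ IsLocalRing.maximalIdeal (Y.presheaf.stalk (f x)) ^ 2 :=
    fun x hx a ha h2 =>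
      Groth.Agent.Lib.Helper51.CotangentSmoothSch.mem_sq_of_injective_cotangentMapAt f x
        (hT x hx) a ha h2
  have hsm : Smooth f :=
    Groth.Agent.Lib.Helper51.CotangentSmoothSch.smooth_of_cotangent_injective qX qY f hf hcot
  have hlft : LocallyOfFiniteType f := inferInstance
  have hJY : JacobsonSpace Y := LocallyOfFiniteType.jacobsonSpace qY
  obtain ⟨x₀, -, -, hx₀⟩ := Groth.Agent.Lib.Helper72.DimLFT.exists_specializes_isClosed qX
    isOpen_univ (Set.mem_univ (genericPoint X))
  have hreg : IsRegularLocalRing (X.presheaf.stalk x₀) :=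
    Groth.Agent.Lib.Helper51.isRegularLocalRing_stalk_of_mem_smoothLocus qX x₀
      (by rw [qX.smoothLocus_eq_top]; trivial)
  have hdom : IsDominant f :=
    Groth.Agent.Lib.Helper51.CotangentDominantSch.isDominant_of_cotangent_injective qX qY f hf
      x₀ hx₀ (hcot x₀ hx₀)
  have hy₀ : IsClosed ({f x₀} : Set ↥Y) := f.closePoints_subset_preimage_closedPoints hx₀
  refine ⟨f.denseRange, ?_, ?_⟩
  · exact (Groth.Agent.Lib.Helper51.CotangentSmoothDim.dim_fibre qX qY f dX dY hX hY (f x₀)
      hy₀).1 ⟨f.asFiber x₀⟩
  · intro y hy _
    exact ⟨Groth.Agent.Lib.Helper51.CotangentSmoothDim.smooth_fiberToSpecResidueField f y,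
      (Groth.Agent.Lib.Helper51.CotangentSmoothDim.dim_fibre qX qY f dX dY hX hY y hy).2⟩

end Groth.Agent.S19460
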