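import Groth.Statements.S19474
import Groth.Agent.Lib.Helper77.RegularCompletion
import Groth.Agent.S0565
import Mathlib.RingTheory.Flat.FaithfullyFlat.Algebra

set_option autoImplicit false
universe u
open CAlg

namespace Groth.Agent.S19474

section Aux
open IsLocalRing


section
variable (A : Type u) [CommRing A] [IsLocalRing A] [IsNoetherianRing A] (I : Ideal A) (hI : I ≠ ⊤)
include hI

theorem isLocalRing_adicCompletion : IsLocalRing (AdicCompletion I A) := by
  have hIm : I ≤ maximalIdeal A := le_maximalIdeal hI
  have hmax : ((maximalIdeal A).map (algebraMap A (AdicCompletion I A))).IsMaximal :=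
    AdicCompletion.isMaximal_map_of_le I (maximalIdeal A) hIm (IsNoetherian.noetherian I)
  apply IsLocalRing.of_unique_max_ideal
  refine ⟨(maximalIdeal A).map (algebraMap A (AdicCompletion I A)), hmax, ?_⟩
  intro n hn
  have h1 := Groth.Agent.Lib.Helper77.RegularCompletion.maximal_eq_map A I n
  have hprime : (n.comap (algebraMap A (AdicCompletion I A))).IsPrime := inferInstance
  have h2 : n.comap (algebraMap A (AdicCompletion I A)) ≤ maximalIdeal A :=
    le_maximalIdeal hprime.ne_top
  have h3 : n ≤ (maximalIdeal A).map (algebraMap A (AdicCompletion I A)) := by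
    rw [h1]; exact Ideal.map_mono h2
  exact hn.eq_of_le hmax.ne_top h3

theorem maximalIdeal_adicCompletion [IsLocalRing (AdicCompletion I A)] :
    (maximalIdeal A).map (algebraMap A (AdicCompletion I A)) = maximalIdeal (AdicCompletion I A) := by
  have hIm : I ≤ maximalIdeal A := le_maximalIdeal hI
  have hmax : ((maximalIdeal A).map (algebraMap A (AdicCompletion I A))).IsMaximal :=
    AdicCompletion.isMaximal_map_of_le I (maximalIdeal A) hIm (IsNoetherian.noetherian I)
  exact IsLocalRing.eq_maximalIdeal hmax

end

/-- dimension is preserved by flat local homomorphisms with `m_A B = m_B` -/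
theorem dim_eq_of_flat_of_map_maximalIdeal (A B : Type u) [CommRing A] [CommRing B]
    [IsLocalRing A] [IsLocalRing B] [IsNoetherianRing A] [IsNoetherianRing B] [Algebra A B]
    [IsLocalHom (algebraMap A B)] [Module.Flat A B]
    (h : (maximalIdeal A).map (algebraMap A B) = maximalIdeal B) :
    ringKrullDim B = ringKrullDim A := by
  have hlo : (maximalIdeal B).LiesOver (maximalIdeal A) :=
    ⟨(maximalIdeal_comap (algebraMap A B)).symm⟩
  have h3 := Ideal.height_eq_height_add_of_liesOver_of_hasGoingDown (maximalIdeal A) (maximalIdeal B)
  have key : ∀ (Q : Ideal B), Q = maximalIdeal B →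
      ((maximalIdeal B).map (Ideal.Quotient.mk Q)).height = 0 := by
    rintro _ rfl
    have : Nontrivial (B ⧸ maximalIdeal B) :=
      Ideal.Quotient.nontrivial_iff.mpr (maximalIdeal.isMaximal B).ne_top
    rw [Ideal.map_quotient_self, Ideal.height_bot]
  rw [key _ h, add_zero] at h3
  rw [← IsLocalRing.maximalIdeal_height_eq_ringKrullDim,
    ← IsLocalRing.maximalIdeal_height_eq_ringKrullDim, h3]

theorem main (A : Type u) [CommRing A]
    [IsLocalRing A] [IsNoetherianRing A] (I : Ideal A) (hI : I ≠ ⊤) :
    ringKrullDim (AdicCompletion I A) = ringKrullDim A ∧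
      (IsRegularLocalRing A ↔ IsRegularLocalRing (AdicCompletion I A)) := by
  have hloc := isLocalRing_adicCompletion A I hI
  have hnoeth : IsNoetherianRing (AdicCompletion I A) := Groth.Agent.S0543.result A I
  have hmap := maximalIdeal_adicCompletion A I hI
  have hlh : IsLocalHom (algebraMap A (AdicCompletion I A)) :=
    ((local_hom_TFAE (algebraMap A (AdicCompletion I A))).out 2 0).mp hmap.le
  refine ⟨dim_eq_of_flat_of_map_maximalIdeal A (AdicCompletion I A) hmap, ?_, ?_⟩
  · intro h
    exact Groth.Agent.Lib.Helper77.RegularCompletion.regular_of_flat_of_map_maximalIdeal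
      A (AdicCompletion I A) hmap
  · intro h
    exact Groth.Agent.S0565.result A (AdicCompletion I A)


end Aux

/-- Let A be a Noetherian local ring and I an ideal of A different from A. Then the I-adic completion of
A has the same Krull dimension as A, and A is a regular local ring if and only if the I-adic
completion of A is a regular local ring (in particular the completion is then local and Noetherian).
The case where I is the maximal ideal is the classical one; here I is any proper ideal. -/
theorem result (A : Type u) [CommRing A]
    [IsLocalRing A] [IsNoetherianRing A] (I : Ideal A) (hI : I ≠ ⊤) :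
    ringKrullDim (AdicCompletion I A) = ringKrullDim A ∧
      (IsRegularLocalRing A ↔ IsRegularLocalRing (AdicCompletion I A)) := by
  exact main A I hI

end Groth.Agent.S19474
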