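import Groth.Statements.S19461
import Groth.Agent.S2321
import Groth.Agent.S19474
import Groth.Agent.Lib.Helper6.LocalFlat2

set_option autoImplicit false
universe u
open CAlg

namespace Groth.Agent.S19461

/-- The implication from isomorphic completions to flat and unramified. Let A → B be a local
homomorphism of Noetherian local rings and ψ a ring map from the completion of A at its maximal
ideal to that of B whose composite with A → A^ is A → B → B^. If ψ is bijective, then A → B is flat
and the maximal ideal of A generates the maximal ideal of B. (The published statement is the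
implication, for a morphism of algebraic varieties over an algebraically closed field, from
isomorphic induced maps of completed local rings at every point to flat and unramified; its proof is
this local-ring argument, valid for any Noetherian local rings. The converse implication is a
separate result.) -/
theorem result (A B : Type u) [CommRing A]
    [CommRing B] [IsLocalRing A] [IsLocalRing B] [IsNoetherianRing A] [IsNoetherianRing B]
    [Algebra A B] [IsLocalHom (algebraMap A B)]
    (ψ : AdicCompletion (IsLocalRing.maximalIdeal A) A →+* AdicCompletion (IsLocalRing.maximalIdeal B) B)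
    (hψ : ψ.comp (algebraMap A (AdicCompletion (IsLocalRing.maximalIdeal A) A)) =
      (algebraMap B (AdicCompletion (IsLocalRing.maximalIdeal B) B)).comp (algebraMap A B))
    (hbij : Function.Bijective ψ) :
    Module.Flat A B ∧
      Ideal.map (algebraMap A B) (IsLocalRing.maximalIdeal A) = IsLocalRing.maximalIdeal B := by
  classical
  haveI ffA : Module.FaithfullyFlat A (AdicCompletion (IsLocalRing.maximalIdeal A) A) :=
    Groth.Agent.S2321.a_to_b A _ (IsLocalRing.maximalIdeal_le_jacobson _)
  haveI ffB : Module.FaithfullyFlat B (AdicCompletion (IsLocalRing.maximalIdeal B) B) :=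
    Groth.Agent.S2321.a_to_b B _ (IsLocalRing.maximalIdeal_le_jacobson _)
  haveI : IsScalarTower A B (AdicCompletion (IsLocalRing.maximalIdeal B) B) :=
    IsScalarTower.of_algebraMap_eq fun a => rfl
  have hψa : ∀ a : A, ψ (algebraMap A _ a) =
      algebraMap A (AdicCompletion (IsLocalRing.maximalIdeal B) B) a := by
    intro a
    have := DFunLike.congr_fun hψ a
    rw [RingHom.comp_apply, RingHom.comp_apply] at this
    rw [this]
    rfl
  let e : AdicCompletion (IsLocalRing.maximalIdeal A) A ≃ₗ[A]
      AdicCompletion (IsLocalRing.maximalIdeal B) B :=
    LinearEquiv.ofBijective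
      { toFun := ψ
        map_add' := map_add ψ
        map_smul' := fun a x => by
          rw [Algebra.smul_def, map_mul, hψa, RingHom.id_apply, Algebra.smul_def] } hbij
  haveI : Module.Flat A (AdicCompletion (IsLocalRing.maximalIdeal B) B) :=
    Module.Flat.of_linearEquiv e.symm
  have hflat : Module.Flat A B :=
    Groth.Agent.Lib.Helper6.LocalFlat.flat_of_faithfullyFlat_of_flat (R := A) (S := B)
      (M := AdicCompletion (IsLocalRing.maximalIdeal B) B)
  refine ⟨hflat, ?_⟩
  haveI locA : IsLocalRing (AdicCompletion (IsLocalRing.maximalIdeal A) A) :=
    Groth.Agent.S19474.isLocalRing_adicCompletion A _ (Ideal.IsPrime.ne_top inferInstance)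
  haveI locB : IsLocalRing (AdicCompletion (IsLocalRing.maximalIdeal B) B) :=
    Groth.Agent.S19474.isLocalRing_adicCompletion B _ (Ideal.IsPrime.ne_top inferInstance)
  have hA := Groth.Agent.S19474.maximalIdeal_adicCompletion A (IsLocalRing.maximalIdeal A)
    (Ideal.IsPrime.ne_top inferInstance)
  have hB := Groth.Agent.S19474.maximalIdeal_adicCompletion B (IsLocalRing.maximalIdeal B)
    (Ideal.IsPrime.ne_top inferInstance)
  have hmaxψ : (IsLocalRing.maximalIdeal (AdicCompletion (IsLocalRing.maximalIdeal A) A)).map ψ =
      IsLocalRing.maximalIdeal (AdicCompletion (IsLocalRing.maximalIdeal B) B) := by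
    apply IsLocalRing.eq_maximalIdeal
    exact (Ideal.isMaximal_map_iff_of_bijective ψ hbij).mpr inferInstance
  have h1 : ((IsLocalRing.maximalIdeal A).map (algebraMap A B)).map
      (algebraMap B (AdicCompletion (IsLocalRing.maximalIdeal B) B)) =
      (IsLocalRing.maximalIdeal B).map
        (algebraMap B (AdicCompletion (IsLocalRing.maximalIdeal B) B)) := by
    rw [Ideal.map_map, ← hψ, ← Ideal.map_map, hA, hmaxψ, hB]
  have h2 := congrArg (Ideal.comap (algebraMap B (AdicCompletion (IsLocalRing.maximalIdeal B) B))) h1
  rwa [Ideal.comap_map_eq_self_of_faithfullyFlat, Ideal.comap_map_eq_self_of_faithfullyFlat] at h2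

end Groth.Agent.S19461
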