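import Groth.Statements.S19465
import Groth.Agent.Lib.Helper19.UnramifiedFiber

set_option autoImplicit false
universe u
open CategoryTheory CategoryTheory.Limits MonoidalCategory CartesianMonoidalCategory MonObj GrpObj AlgebraicGeometry
open AlgGrp

namespace Groth.Agent.S19465

/-- Let S be a scheme and G an S-group scheme whose structure morphism G → S is locally of finite type.
Then G → S is an isomorphism (G is the trivial group scheme over S) if and only if every fibre G_s →
Spec κ(s), s ∈ S, is an isomorphism. -/
theorem result (S : Scheme.{u}) (G : Over S)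
    [GrpObj G] [LocallyOfFiniteType G.hom] :
    IsIso G.hom ↔ ∀ s : S, IsIso (G.hom.fiberToSpecResidueField s) := by
  constructor
  · intro _ s
    exact inferInstanceAs (IsIso (pullback.snd G.hom _))
  · intro H
    have : Mono G.hom := Groth.Agent.Lib.Helper19.mono_of_mono_fiberToSpecResidueField G.hom
      fun s => by have := H s; infer_instance
    -- the unit section gives a right inverse
    let e : 𝟙_ (Over S) ⟶ G := MonObj.one
    have hη : e.left ≫ G.hom = (𝟙_ (Over S)).hom := Over.w e
    have h1 : IsIso (𝟙_ (Over S)).hom := by
      change IsIso (𝟙 S)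
      infer_instance
    have : IsSplitEpi G.hom :=
      ⟨⟨⟨inv (𝟙_ (Over S)).hom ≫ e.left, by rw [Category.assoc, hη, IsIso.inv_hom_id]⟩⟩⟩
    exact isIso_of_mono_of_isSplitEpi G.hom

end Groth.Agent.S19465
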