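import Groth.Statements.S19473
import Mathlib.AlgebraicGeometry.Morphisms.FormallyUnramified
import Mathlib.CategoryTheory.Monoidal.Cartesian.Over

set_option autoImplicit false
universe u
open CategoryTheory CategoryTheory.Limits MonoidalCategory CartesianMonoidalCategory MonObj GrpObj AlgebraicGeometry
open AlgGrp

namespace Groth.Agent.S19473

set_option backward.isDefEq.respectTransparency.types false
set_option linter.style.haveILetI false

section
variable {C : Type*} [Category C] [CartesianMonoidalCategory C] (G : C) [GrpObj G]

/-- the diagonal of a group object is the fibre of the division map over the unit. -/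
theorem isPullback_diag_div :
    IsPullback (lift (𝟙 G) (𝟙 G)) (toUnit G) ((fst G G)⁻¹ * snd G G) η[G] := by
  refine ⟨⟨?_⟩, ⟨PullbackCone.IsLimit.mk _ (fun s => s.fst ≫ fst G G) ?_ ?_ ?_⟩⟩
  · rw [MonObj.comp_mul, GrpObj.comp_inv, lift_fst, lift_snd, inv_mul_cancel, Hom.one_def]
  · intro s
    have h := s.condition
    rw [MonObj.comp_mul, GrpObj.comp_inv, toUnit_unique s.snd (toUnit s.pt), ← Hom.one_def,
      inv_mul_eq_one] at h
    apply CartesianMonoidalCategory.hom_ext
    · rw [Category.assoc, lift_fst, Category.comp_id]
    · rw [Category.assoc, lift_snd, Category.comp_id, h]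
  · intro s
    exact toUnit_unique _ _
  · intro s m h1 _
    rw [← h1, Category.assoc, lift_fst, Category.comp_id]

/-- the unit section is the fibre of the diagonal over `g ↦ (g, e)`. -/
theorem isPullback_unit_diag :
    IsPullback η[G] η[G] (lift (𝟙 G) (𝟙 G)) (lift (𝟙 G) (toUnit G ≫ η[G])) := by
  refine ⟨⟨?_⟩, ⟨PullbackCone.IsLimit.mk _ (fun s => toUnit s.pt) ?_ ?_ ?_⟩⟩
  · apply CartesianMonoidalCategory.hom_ext
    · simp
    · rw [Category.assoc, Category.assoc, lift_snd, lift_snd, Category.comp_id,
        ← Category.assoc, toUnit_unique (η[G] ≫ toUnit G) (𝟙 _), Category.id_comp]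
  · intro s
    have h1 := congr_arg (fun f => f ≫ fst G G) s.condition
    have h2 := congr_arg (fun f => f ≫ snd G G) s.condition
    simp only [Category.assoc, lift_fst, lift_snd, Category.comp_id] at h1 h2
    rw [h2, ← Category.assoc, toUnit_unique (s.snd ≫ toUnit G) (toUnit s.pt)]
  · intro s
    have h2 := congr_arg (fun f => f ≫ snd G G) s.condition
    simp only [Category.assoc, lift_snd, Category.comp_id] at h2
    have h1 := congr_arg (fun f => f ≫ fst G G) s.condition
    simp only [Category.assoc, lift_fst, Category.comp_id] at h1
    rw [← h1, h2, ← Category.assoc, toUnit_unique (s.snd ≫ toUnit G) (toUnit s.pt)]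
  · intro s m _ _
    exact toUnit_unique _ _

end

/-- Let S be a scheme and G an S-group scheme whose structure morphism G → S is locally of finite type.
Then G → S is unramified — formally unramified, since it is locally of finite type — if and only if
the identity section S → G is an open immersion. (The separated and quasi-separated clauses of the
published item are separate results.) -/
theorem result (S : Scheme.{u})
    (G : Over S) [GrpObj G] [LocallyOfFiniteType G.hom] :
    FormallyUnramified G.hom ↔ IsOpenImmersion η[G].left := by
  have hd : (Over.forget S).map (lift (𝟙 G) (𝟙 G)) = pullback.diagonal G.hom := rfl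
  have sq1 := (isPullback_unit_diag G).map (Over.forget S)
  have sq2 := ((isPullback_diag_div G).map (Over.forget S)).flip
  rw [hd] at sq1 sq2
  constructor
  · intro h
    have : IsOpenImmersion (pullback.diagonal G.hom) := inferInstance
    exact MorphismProperty.of_isPullback (P := @IsOpenImmersion) sq1 this
  · intro h
    have : IsOpenImmersion (pullback.diagonal G.hom) :=
      MorphismProperty.of_isPullback (P := @IsOpenImmersion) sq2 h
    infer_instance

end Groth.Agent.S19473
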