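import Groth.Statements.S19475
import Mathlib

set_option autoImplicit false
universe u
open CAlg

namespace Groth.Agent.S19475

open IsLocalRing TensorProduct

section
variable (A B : Type u) [CommRing A] [CommRing B] [Algebra A B] [IsNoetherianRing A]
  (q : Ideal B) [q.IsPrime]

local notation "Ap" => Localization.AtPrime (q.under A)
local notation "Bq" => Localization.AtPrime q
local notation "Ahat" => AdicCompletion (maximalIdeal (Localization.AtPrime (q.under A)))
  (Localization.AtPrime (q.under A))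

/-- the local homomorphism `A_p → B_q`. -/
noncomputable abbrev loc : Ap →+* Bq :=
  Localization.localRingHom (q.under A) q (algebraMap A B) rfl

theorem loc_algebraMap (a : A) : loc A B q (algebraMap A Ap a) = algebraMap A Bq a := by
  rw [loc, Localization.localRingHom_to_map, ← IsScalarTower.algebraMap_apply]

/-- `A_p/𝔪 → κ(q)`. -/
noncomputable def epsQ : Ap ⧸ maximalIdeal Ap →+* ResidueField Bq :=
  Ideal.Quotient.lift (maximalIdeal Ap) ((residue Bq).comp (loc A B q)) (by
    intro a ha
    rw [RingHom.comp_apply, residue_eq_zero_iff]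
    exact map_nonunit (loc A B q) a ha)

theorem epsQ_mk (a : Ap) :
    epsQ A B q (Ideal.Quotient.mk _ a) = residue Bq (loc A B q a) :=
  Ideal.Quotient.lift_mk _ _ _

theorem evalOne_algebraMap (a : Ap) :
    AdicCompletion.evalOneₐ (maximalIdeal Ap) (algebraMap Ap Ahat a) = Ideal.Quotient.mk _ a := by
  rw [AdicCompletion.algebraMap_apply, Algebra.algebraMap_self, RingHom.id_apply,
    AdicCompletion.evalOneₐ_of]

/-- `Â_p → κ(q)`. -/
noncomputable def eps : Ahat →ₐ[A] ResidueField Bq :=
  { (epsQ A B q).comp (AdicCompletion.evalOneₐ (maximalIdeal Ap)).toRingHom with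
    commutes' := by
      intro a
      change epsQ A B q (AdicCompletion.evalOneₐ (maximalIdeal Ap) (algebraMap A Ahat a)) = _
      rw [IsScalarTower.algebraMap_apply A Ap Ahat, evalOne_algebraMap, epsQ_mk, loc_algebraMap]
      rfl }

theorem eps_apply (x : Ahat) :
    eps A B q x = epsQ A B q (AdicCompletion.evalOneₐ (maximalIdeal Ap) x) := rfl

theorem eps_algebraMap (a : Ap) :
    eps A B q (algebraMap Ap Ahat a) = residue Bq (loc A B q a) := by
  rw [eps_apply, evalOne_algebraMap, epsQ_mk]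

theorem algebraMap_smul' (a : A) (x : Ap) :
    algebraMap Ap Ahat (a • x) = a • algebraMap Ap Ahat x := by
  rw [Algebra.smul_def, map_mul, ← IsScalarTower.algebraMap_apply, ← Algebra.smul_def]

/-- `B_q ⊗ Â_p → κ(q)`. -/
noncomputable def Phi : Bq ⊗[A] Ahat →ₐ[A] ResidueField Bq :=
  Algebra.TensorProduct.lift (IsScalarTower.toAlgHom A Bq (ResidueField Bq)) (eps A B q)
    (fun _ _ => Commute.all _ _)

theorem Phi_tmul (b : Bq) (x : Ahat) :
    Phi A B q (b ⊗ₜ x) = residue Bq b * eps A B q x := by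
  simp [Phi]

/-- every element of `Â_p` is congruent to an element of `A_p` modulo `𝔪 Â_p`. -/
theorem exists_approx (x : Ahat) : ∃ a : Ap,
    x - algebraMap Ap Ahat a ∈ (maximalIdeal Ap).map (algebraMap Ap Ahat) := by
  obtain ⟨a, ha⟩ := Ideal.Quotient.mk_surjective
    (AdicCompletion.evalOneₐ (maximalIdeal Ap) x)
  refine ⟨a, ?_⟩
  rw [← AdicCompletion.ker_evalOneₐ_eq_map _ (maximalIdeal Ap).fg_of_isNoetherianRing,
    RingHom.mem_ker]
  change AdicCompletion.evalOneₐ (maximalIdeal Ap) (x - algebraMap Ap Ahat a) = 0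
  rw [map_sub, evalOne_algebraMap, ha, sub_self]

theorem main :
    ((maximalIdeal Bq).map
      (Algebra.TensorProduct.includeLeftRingHom : Bq →+* Bq ⊗[A] Ahat)).IsMaximal := by
  set J := (maximalIdeal Bq).map
      (Algebra.TensorProduct.includeLeftRingHom : Bq →+* Bq ⊗[A] Ahat) with hJ
  have hinc : ∀ b ∈ maximalIdeal Bq, (b ⊗ₜ[A] (1 : Ahat)) ∈ J := fun b hb =>
    Ideal.mem_map_of_mem _ hb
  -- J ≤ ker Phi
  have hJle : J ≤ RingHom.ker (Phi A B q).toRingHom := by
    rw [hJ, Ideal.map_le_iff_le_comap]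
    intro b hb
    rw [Ideal.mem_comap, RingHom.mem_ker]
    change Phi A B q (b ⊗ₜ 1) = 0
    rw [Phi_tmul, (residue_eq_zero_iff b).mpr hb, zero_mul]
  -- Claim A
  have hA : ∀ μ ∈ (maximalIdeal Ap).map (algebraMap Ap Ahat), ((1 : Bq) ⊗ₜ[A] μ) ∈ J := by
    intro μ hμ
    refine Submodule.span_induction ?_ ?_ ?_ ?_ hμ
    · rintro _ ⟨m, hm, rfl⟩
      obtain ⟨a, s, rfl⟩ := IsLocalization.exists_mk'_eq (q.under A).primeCompl m
      have ha : a ∈ q.under A :=
        (IsLocalization.AtPrime.mk'_mem_maximal_iff Ap (q.under A) a s).mp hm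
      have h1 : IsLocalization.mk' Ap a s = a • IsLocalization.mk' Ap (1 : A) s := by
        rw [Algebra.smul_def, IsLocalization.mul_mk'_eq_mk'_of_mul, mul_one]
      rw [h1, algebraMap_smul', TensorProduct.tmul_smul, TensorProduct.smul_tmul']
      have h2 : (a • (1 : Bq)) ⊗ₜ[A] (algebraMap Ap Ahat (IsLocalization.mk' Ap (1 : A) s)) =
          ((algebraMap A Bq a) ⊗ₜ[A] (1 : Ahat)) *
            ((1 : Bq) ⊗ₜ[A] (algebraMap Ap Ahat (IsLocalization.mk' Ap (1 : A) s))) := by
        rw [Algebra.TensorProduct.tmul_mul_tmul, mul_one, one_mul, Algebra.smul_def, mul_one]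
      rw [h2]
      apply Ideal.mul_mem_right
      apply hinc
      rw [IsScalarTower.algebraMap_apply A B Bq,
        IsLocalization.AtPrime.to_map_mem_maximal_iff Bq q]
      exact ha
    · rw [TensorProduct.tmul_zero]; exact zero_mem _
    · intro x y _ _ hx hy
      rw [TensorProduct.tmul_add]; exact add_mem hx hy
    · intro c x _ hx
      have : (1 : Bq) ⊗ₜ[A] (c • x) = ((1 : Bq) ⊗ₜ[A] c) * ((1 : Bq) ⊗ₜ[A] x) := by
        rw [Algebra.TensorProduct.tmul_mul_tmul, one_mul, smul_eq_mul]
      rw [this]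
      exact Ideal.mul_mem_left _ _ hx
  -- Claim B
  have hB : ∀ a' : Ap, (1 : Bq) ⊗ₜ[A] (algebraMap Ap Ahat a') = (loc A B q a') ⊗ₜ[A] (1 : Ahat) := by
    intro a'
    obtain ⟨a, s, rfl⟩ := IsLocalization.exists_mk'_eq (q.under A).primeCompl a'
    set y : Ahat := algebraMap Ap Ahat (IsLocalization.mk' Ap (1 : A) s) with hy
    have h1 : algebraMap Ap Ahat (IsLocalization.mk' Ap a s) = a • y := by
      rw [hy, ← algebraMap_smul', Algebra.smul_def, IsLocalization.mul_mk'_eq_mk'_of_mul, mul_one]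
    have h2 : (s : A) • y = 1 := by
      rw [hy, ← algebraMap_smul', Algebra.smul_def, IsLocalization.mul_mk'_eq_mk'_of_mul, mul_one,
        IsLocalization.mk'_self', map_one]
    have h3 : (s : A) • loc A B q (IsLocalization.mk' Ap a s) = a • (1 : Bq) := by
      rw [Algebra.smul_def, Algebra.smul_def, mul_one, ← loc_algebraMap A B q (s : A), ← map_mul,
        IsLocalization.mk'_spec', loc_algebraMap]
    calc (1 : Bq) ⊗ₜ[A] (algebraMap Ap Ahat (IsLocalization.mk' Ap a s))
        = (1 : Bq) ⊗ₜ[A] (a • y) := by rw [h1]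
      _ = (a • (1 : Bq)) ⊗ₜ[A] y := by rw [TensorProduct.tmul_smul, TensorProduct.smul_tmul']
      _ = ((s : A) • loc A B q (IsLocalization.mk' Ap a s)) ⊗ₜ[A] y := by rw [h3]
      _ = (loc A B q (IsLocalization.mk' Ap a s)) ⊗ₜ[A] ((s : A) • y) := by
          rw [TensorProduct.smul_tmul]
      _ = _ := by rw [h2]
  -- F3
  have hF3 : ∀ x : Bq ⊗[A] Ahat, ∃ β : Bq, x - β ⊗ₜ[A] (1 : Ahat) ∈ J := by
    intro x
    induction x using TensorProduct.induction_on with
    | zero => exact ⟨0, by simp⟩
    | tmul b x =>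
      obtain ⟨a', ha'⟩ := exists_approx A B q x
      refine ⟨b * loc A B q a', ?_⟩
      have h1 : b ⊗ₜ[A] x - (b * loc A B q a') ⊗ₜ[A] (1 : Ahat) =
          (b ⊗ₜ[A] (1 : Ahat)) * ((1 : Bq) ⊗ₜ[A] (x - algebraMap Ap Ahat a')) := by
        rw [TensorProduct.tmul_sub, mul_sub, hB, Algebra.TensorProduct.tmul_mul_tmul,
          Algebra.TensorProduct.tmul_mul_tmul, mul_one, one_mul, mul_one]
      rw [h1]
      exact Ideal.mul_mem_left _ _ (hA _ ha')
    | add x y hx hy =>
      obtain ⟨β₁, h₁⟩ := hx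
      obtain ⟨β₂, h₂⟩ := hy
      refine ⟨β₁ + β₂, ?_⟩
      have : x + y - (β₁ + β₂) ⊗ₜ[A] (1 : Ahat) =
          (x - β₁ ⊗ₜ[A] (1 : Ahat)) + (y - β₂ ⊗ₜ[A] (1 : Ahat)) := by
        rw [TensorProduct.add_tmul]; abel
      rw [this]
      exact add_mem h₁ h₂
  -- ker Phi ≤ J
  have hle : RingHom.ker (Phi A B q).toRingHom ≤ J := by
    intro x hx
    obtain ⟨β, hβ⟩ := hF3 x
    have h1 : Phi A B q (β ⊗ₜ[A] (1 : Ahat)) = 0 := by
      have h2 : Phi A B q (x - β ⊗ₜ[A] (1 : Ahat)) = 0 := hJle hβ
      have h3 : Phi A B q x = 0 := hx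
      rw [map_sub, h3, zero_sub, neg_eq_zero] at h2
      exact h2
    rw [Phi_tmul, map_one, mul_one, residue_eq_zero_iff] at h1
    have : x = (x - β ⊗ₜ[A] (1 : Ahat)) + β ⊗ₜ[A] (1 : Ahat) := by abel
    rw [this]
    exact add_mem hβ (hinc β h1)
  have hsurj : Function.Surjective (Phi A B q).toRingHom := by
    intro z
    obtain ⟨b, rfl⟩ := residue_surjective z
    exact ⟨b ⊗ₜ 1, by change Phi A B q (b ⊗ₜ 1) = _; rw [Phi_tmul, map_one, mul_one]⟩
  have hmax : (RingHom.ker (Phi A B q).toRingHom).IsMaximal :=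
    RingHom.ker_isMaximal_of_surjective _ hsurj
  rwa [le_antisymm hJle hle]

end

end Groth.Agent.S19475

namespace Groth.Agent.S19475

open IsLocalRing in
/-- Let A be a Noetherian ring, B an A-algebra, q a prime ideal of B and p its preimage in A; let A_p
and B_q be the local rings at p and q and Â_p the completion of A_p at its maximal ideal pA_p. Then
the ideal generated by qB_q in B_q ⊗ Â_p is maximal. (The tensor product is formed over A; since A_p
is a localization of A it agrees with the tensor product over A_p used in the published statement.) -/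
theorem result (A B : Type u) [CommRing A] [CommRing B]
    [Algebra A B] [IsNoetherianRing A] (q : Ideal B) [q.IsPrime] :
    ((maximalIdeal (Localization.AtPrime q)).map
      (Algebra.TensorProduct.includeLeftRingHom :
        Localization.AtPrime q →+* TensorProduct A (Localization.AtPrime q)
          (AdicCompletion (maximalIdeal (Localization.AtPrime (q.under A)))
            (Localization.AtPrime (q.under A))))).IsMaximal := by
  exact main A B q

end Groth.Agent.S19475
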