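import Groth.Statements.S19477
import Mathlib
import Groth.Agent.Lib.Helper51.FgField
import Groth.Agent.Lib.Helper51.SepCount
import Groth.Agent.Lib.Helper78.GalTrans

set_option autoImplicit false
universe u
open Variety

namespace Groth.Agent.S19477

/-- Let K be a field, B an integral K-algebra of finite type with fraction field F, and L a Galois
extension of K with group Γ = Aut_K(L). Then F ⊗_K L has only finitely many prime ideals and Γ,
acting through the second factor, permutes them transitively: for prime ideals P, Q there is γ ∈ Γ
with Q the preimage of P under id ⊗ γ. (The published statement is the geometric one, that the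
points of an algebraic K-scheme X correspond to the Γ-orbits of points of X_L and that these orbits
are finite; it reduces to this algebraic statement by passing to the fibre over a point, and the
algebraic statement is what is proved.) -/
theorem result (K B L : Type u) [Field K]
    [CommRing B] [IsDomain B] [Algebra K B] [Algebra.FiniteType K B] [Field L] [Algebra K L] [IsGalois K L] :
    Finite (PrimeSpectrum (TensorProduct K (FractionRing B) L)) ∧
      ∀ P Q : PrimeSpectrum (TensorProduct K (FractionRing B) L), ∃ γ : L ≃ₐ[K] L,
        Q.asIdeal = P.asIdeal.comap
          (Algebra.TensorProduct.map (AlgHom.id K (FractionRing B)) (γ : L →ₐ[K] L)) := by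
  classical
  constructor
  · -- finiteness: compare with the separable closure of `L`
    haveI : Algebra.IsIntegral K (SeparableClosure L) := Algebra.IsIntegral.trans (R := K) L
    haveI : Algebra.EssFiniteType K (FractionRing B) := Algebra.EssFiniteType.comp K B (FractionRing B)
    haveI := Groth.Agent.Lib.Helper51.finiteDimensional_separableClosure_of_essFiniteType K (FractionRing B)
    have hsplit : ∀ a : separableClosure K (FractionRing B),
        ((minpoly K a).map (algebraMap K (SeparableClosure L))).Splits := by
      intro a
      refine IsSepClosed.splits_codomain _ ?_
      exact Algebra.IsSeparable.isSeparable K a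
    haveI hfinΩ : Finite (PrimeSpectrum (TensorProduct K (FractionRing B) (SeparableClosure L))) :=
      (Groth.Agent.Lib.Helper51.card_primeSpectrum_tensor_le (k := K) (κ := FractionRing B)
        (L := SeparableClosure L) hsplit).1
    let g : TensorProduct K (FractionRing B) L →ₐ[K] TensorProduct K (FractionRing B) (SeparableClosure L) :=
      Algebra.TensorProduct.map (AlgHom.id K (FractionRing B)) (IsScalarTower.toAlgHom K L (SeparableClosure L))
    have hginj : Function.Injective g :=
      Groth.Agent.Lib.Helper51.tensorMap_id_injective _ (RingHom.injective _)
    have hgint : g.toRingHom.IsIntegral := by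
      letI := g.toRingHom.toAlgebra
      haveI : IsScalarTower K (TensorProduct K (FractionRing B) L)
          (TensorProduct K (FractionRing B) (SeparableClosure L)) :=
        IsScalarTower.of_algebraMap_eq (fun c => (g.commutes c).symm)
      intro x
      show IsIntegral (TensorProduct K (FractionRing B) L) x
      induction x using TensorProduct.induction_on with
      | zero => exact isIntegral_zero
      | tmul a ω =>
        have h1 : a ⊗ₜ[K] ω = (a ⊗ₜ[K] (1 : SeparableClosure L)) * ((1 : FractionRing B) ⊗ₜ[K] ω) := by
          simp
        rw [h1]
        refine IsIntegral.mul ?_ ?_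
        · have : a ⊗ₜ[K] (1 : SeparableClosure L) =
              algebraMap (TensorProduct K (FractionRing B) L)
                (TensorProduct K (FractionRing B) (SeparableClosure L)) (a ⊗ₜ[K] (1 : L)) := by
            simp [RingHom.algebraMap_toAlgebra, g]
          rw [this]
          exact isIntegral_algebraMap
        · have hω : IsIntegral K ω := Algebra.IsIntegral.isIntegral ω
          have := hω.map (Algebra.TensorProduct.includeRight :
            SeparableClosure L →ₐ[K] TensorProduct K (FractionRing B) (SeparableClosure L))
          exact this.tower_top
      | add x y hx hy => exact hx.add hy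
    exact Finite.of_surjective _ (hgint.comap_surjective hginj)
  · intro P Q
    have hPQ : P.asIdeal.comap (algebraMap (FractionRing B) (TensorProduct K (FractionRing B) L)) =
        Q.asIdeal.comap (algebraMap (FractionRing B) (TensorProduct K (FractionRing B) L)) := by
      rw [Ideal.eq_bot_of_prime (P.asIdeal.comap _), Ideal.eq_bot_of_prime (Q.asIdeal.comap _)]
    obtain ⟨σ, hσ⟩ := Groth.Agent.Lib.Helper78.GalTrans.exists_comap_eq K (FractionRing B) L
      P.asIdeal Q.asIdeal hPQ
    refine ⟨σ, ?_⟩
    rw [hσ]
    ext x
    simp only [Ideal.mem_comap]
    have : (Groth.Agent.Lib.Helper78.GalTrans.tensorAut K (FractionRing B) L σ) x =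
        (Algebra.TensorProduct.map (AlgHom.id K (FractionRing B)) (σ : L →ₐ[K] L)) x := by
      induction x using TensorProduct.induction_on with
      | zero => simp
      | tmul a b => simp [Groth.Agent.Lib.Helper78.GalTrans.tensorAut_tmul]
      | add x y hx hy => simp only [map_add, hx, hy]
    show (Groth.Agent.Lib.Helper78.GalTrans.tensorAut K (FractionRing B) L σ) x ∈ P.asIdeal ↔ _
    rw [this]

end Groth.Agent.S19477
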