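import Groth.Statements.S19480
import Groth.Agent.Lib.Helper59.FrobCI
import Groth.Agent.S15046

set_option autoImplicit false
open CategoryTheory AlgebraicGeometry MvPolynomial
universe u
open Quiet
open Groth.Agent.Lib.Helper59.FrobTower

namespace Groth.Agent.S19480

/-- Let k be a perfect field of prime characteristic p, A a smooth k-algebra of characteristic p and
t_1, …, t_n a regular sequence in A, so that A₀ = A/(t_1^p, …, t_n^p) is a p-good algebra when A has
a system of parameters; let v_1, …, v_m ∈ A[Y_1, …, Y_r] have images forming a regular sequence in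
A₀[Y_1, …, Y_r], and put B_0 = A[Y]/(t_1^p, …, t_n^p, v_1, …, v_m). Identify A^{1/p} with A as a
ring, so that u_i = t_i^p and the Frobenius x ↦ x^p of A[Y] carries the ideal (t_i^p, v_j) into
(u_i^p, v_j^p) = (t_i^{p²}, v_j^p). Then: (ii) (t_1^{p²}, …, t_n^{p²}, v_1^p, …, v_m^p) is a regular
sequence in A[Y]; (iii) the induced ring map β : B_0 → B = A[Y]/(t_i^{p²}, v_j^p) is faithfully flat
and Spec β is an extraction of p-th roots, i.e. every point of Spec B_0 has an affine open
neighbourhood with affine preimage over which the ring map is a tower of finitely many elementary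
extractions R → R[x]/(x^p − a). (The published statement also assumes B_0 faithfully flat and
syntomic over A₀ and A good; these are not used for (ii) and (iii) and are not assumed here. The v_j
are taken in A[Y] rather than in A₀[Y], which is how their p-th powers in A^{1/p}[Y] are meant.) -/
theorem result (p : ℕ) [Fact p.Prime]
    (k : Type u) [Field k] [CharP k p] [PerfectRing k p] (A : Type u) [CommRing A] [Algebra k A]
    [CharP A p] [Algebra.Smooth k A] (n : ℕ) (t : Fin n → A) (ht : RingTheory.Sequence.IsRegular A (List.ofFn t))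
    (r m : ℕ) (v : Fin m → MvPolynomial (Fin r) A)
    (hv : RingTheory.Sequence.IsRegular
      (MvPolynomial (Fin r) A ⧸ Ideal.span (Set.range fun i => C (t i) ^ p))
      (List.ofFn fun j => Ideal.Quotient.mk (Ideal.span (Set.range fun i => C (t i) ^ p)) (v j))) :
    RingTheory.Sequence.IsRegular (MvPolynomial (Fin r) A)
        (List.ofFn (fun i => C (t i) ^ (p ^ 2)) ++ List.ofFn (fun j => v j ^ p)) ∧
      (Ideal.quotientMap ((Ideal.span (Set.range (fun i => C (t i) ^ p) ∪ Set.range v)).map (frobenius (MvPolynomial (Fin r) A) p)) (frobenius (MvPolynomial (Fin r) A) p) Ideal.le_comap_map).FaithfullyFlat ∧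
      Quiet.IsPthRoot p (Spec.map (CommRingCat.ofHom (Ideal.quotientMap ((Ideal.span (Set.range (fun i => C (t i) ^ p) ∪ Set.range v)).map (frobenius (MvPolynomial (Fin r) A) p)) (frobenius (MvPolynomial (Fin r) A) p) Ideal.le_comap_map))) := by
  classical
  haveI : Nontrivial A := CharP.nontrivial_of_char_ne_one (R := A) (v := p)
    (Fact.out : p.Prime).ne_one
  haveI : Algebra.Smooth A (MvPolynomial (Fin r) A) := ⟨inferInstance, inferInstance⟩
  haveI : Algebra.Smooth k (MvPolynomial (Fin r) A) :=
    Algebra.Smooth.comp k A (MvPolynomial (Fin r) A)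
  -- Frobenius of `A` and of `A[Y]` are faithfully flat
  have hFA : (pPow p A).FaithfullyFlat := by
    have := (Groth.Agent.S15046.result p k A).1
    rwa [frobenius_eq_pPow] at this
  have hFR : (pPow p (MvPolynomial (Fin r) A)).FaithfullyFlat := by
    have := (Groth.Agent.S15046.result p k (MvPolynomial (Fin r) A)).1
    rwa [frobenius_eq_pPow] at this
  rw [frobenius_eq_pPow]
  refine ⟨?_, ?_, ?_⟩
  · -- regular sequence
    have h1 : RingTheory.Sequence.IsRegular A ((List.ofFn t).map (· ^ p)) :=
      isRegular_map_pow p A hFA ht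
    have h2 : RingTheory.Sequence.IsRegular (MvPolynomial (Fin r) A)
        (((List.ofFn t).map (· ^ p)).map (algebraMap A (MvPolynomial (Fin r) A))) :=
      RingTheory.Sequence.IsRegular.of_faithfullyFlat h1
    have h3 : ((List.ofFn t).map (· ^ p)).map (algebraMap A (MvPolynomial (Fin r) A)) =
        List.ofFn (fun i => (C (t i) : MvPolynomial (Fin r) A) ^ p) := by
      rw [List.map_ofFn, List.map_ofFn]
      congr 1
      funext i
      simp [MvPolynomial.algebraMap_eq]
    rw [h3] at h2
    have h4 := isRegular_append_of_quotient (fun i => (C (t i) : MvPolynomial (Fin r) A) ^ p) v h2 hv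
    have h5 := isRegular_map_pow p (MvPolynomial (Fin r) A) hFR h4
    have h6 : (List.ofFn (fun i => (C (t i) : MvPolynomial (Fin r) A) ^ p) ++ List.ofFn v).map
        (· ^ p) = List.ofFn (fun i => (C (t i) : MvPolynomial (Fin r) A) ^ (p ^ 2)) ++
          List.ofFn (fun j => v j ^ p) := by
      rw [List.map_append, List.map_ofFn, List.map_ofFn]
      congr 2
      funext i
      simp [← pow_mul, sq]
    rw [h6] at h5
    exact h5
  · exact frobQuot_faithfullyFlat p (MvPolynomial (Fin r) A) _ hFR
  · obtain ⟨s, hs, h⟩ := exists_cover_isRootTower p k (MvPolynomial (Fin r) A)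
    exact isPthRoot_frobQuot p (MvPolynomial (Fin r) A) _ s hs (fun g hg _ => h g hg)

end Groth.Agent.S19480
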