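import Groth.Statements.S19485

set_option autoImplicit false
universe u
open Crimp

namespace Groth.Agent.S19485


open PowerSeries in
theorem enat_ne (p : ℕ) (m N : ℕ) (h : N % p ≠ m % p) (o : ℕ∞) :
    p • o + (m : ℕ∞) ≠ (N : ℕ∞) := by
  induction o using ENat.recTopCoe with
  | top =>
    rcases Nat.eq_zero_or_pos p with hp | hp
    · subst hp
      simp only [zero_smul, zero_add]
      intro h'
      have : m = N := by exact_mod_cast h'
      subst this
      exact h rfl
    · have : p • (⊤ : ℕ∞) = ⊤ := by
        rw [nsmul_eq_mul]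
        exact ENat.mul_top (by exact_mod_cast hp.ne')
      rw [this, top_add]
      exact ENat.top_ne_coe N
  | coe a =>
    intro h'
    have h2 : p * a + m = N := by
      have : ((p * a + m : ℕ) : ℕ∞) = (N : ℕ∞) := by
        rw [← h']
        push_cast
        rw [nsmul_eq_mul]
      exact_mod_cast this
    apply h
    rw [← h2]
    simp [Nat.add_mod]

open PowerSeries in
theorem order_term {k : Type u} [Field k] (p : ℕ) (hp : p ≠ 0) (m : ℕ) (r g : PowerSeries k)
    (hg : g.order = 0) :
    (PowerSeries.expand p hp r * (X ^ m * g)).order = p • r.order + (m : ℕ∞) := by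
  rw [order_mul, order_mul, order_expand, order_X_pow, hg, add_zero]


/-- The criterion for closedness under multiplication on which the description of the stratum rests.
Over R = k⟦t⟧ with k an algebraically closed field of characteristic zero, let S̃ = k⟦x⟧ regarded as
an R-algebra through t ↦ x ^ 3, that is S̃ = R[x] / (x ^ 3 - t). Let m, n be natural numbers with m
not divisible by 3, and let g be a power series with nonzero constant term. Then the R-submodule of
S̃ spanned by 1 and x ^ m g together with the ideal x ^ n S̃ is closed under multiplication if and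
only if n ≤ 2m. (The published proposition goes on to describe the stratum of crimps with these
invariants as irreducible of dimension ⌊(n - m)/3⌋ with a normal form for g; only the closedness
criterion is stated here.) -/
theorem result {k : Type u} [Field k] [IsAlgClosed k] [CharZero k]
    (m n : ℕ) (hm : ¬ 3 ∣ m) (x g : W4c1hurwitzcpt.RootDisk 3 k)
    (hx : W4c1hurwitzcpt.RootDisk.val x = PowerSeries.X) (hg : PowerSeries.order (W4c1hurwitzcpt.RootDisk.val g) = 0)
    (M : Submodule (PowerSeries k) (W4c1hurwitzcpt.RootDisk 3 k))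
    (hM : M = Submodule.span (PowerSeries k) {1, x ^ m * g} ⊔
      (Ideal.span {x ^ n} : Ideal (W4c1hurwitzcpt.RootDisk 3 k)).restrictScalars (PowerSeries k)) :
    (∀ a ∈ M, ∀ b ∈ M, a * b ∈ M) ↔ n ≤ 2 * m := by
  have hmem : ∀ a, a ∈ M ↔ ∃ r1 r2 : PowerSeries k, ∃ s : W4c1hurwitzcpt.RootDisk 3 k,
      a = algebraMap (PowerSeries k) (W4c1hurwitzcpt.RootDisk 3 k) r1
        + algebraMap (PowerSeries k) (W4c1hurwitzcpt.RootDisk 3 k) r2 * (x ^ m * g) + x ^ n * s := by
    intro a
    rw [hM, Submodule.mem_sup]
    constructor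
    · rintro ⟨y, hy, z, hz, rfl⟩
      rw [Submodule.mem_span_pair] at hy
      obtain ⟨r1, r2, rfl⟩ := hy
      rw [Submodule.restrictScalars_mem, Ideal.mem_span_singleton'] at hz
      obtain ⟨s, rfl⟩ := hz
      exact ⟨r1, r2, s, by rw [Algebra.smul_def, Algebra.smul_def, mul_one, mul_comm s]⟩
    · rintro ⟨r1, r2, s, rfl⟩
      refine ⟨r1 • 1 + r2 • (x ^ m * g), Submodule.mem_span_pair.mpr ⟨r1, r2, rfl⟩, x ^ n * s, ?_, ?_⟩
      · rw [Submodule.restrictScalars_mem, Ideal.mem_span_singleton']
        exact ⟨s, mul_comm _ _⟩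
      · rw [Algebra.smul_def, Algebra.smul_def, mul_one]
  constructor
  · intro hcl
    by_contra hlt
    push Not at hlt
    have hu : x ^ m * g ∈ M := by
      rw [hmem]
      exact ⟨0, 1, 0, by simp⟩
    obtain ⟨r1, r2, s, hs⟩ := (hmem _).mp (hcl _ hu _ hu)
    have hxX : x = (PowerSeries.X : PowerSeries k) := hx
    obtain ⟨g', hg'e⟩ : ∃ g' : PowerSeries k, g' = W4c1hurwitzcpt.RootDisk.val g := ⟨_, rfl⟩
    obtain ⟨s', hs'e⟩ : ∃ s' : PowerSeries k, s' = W4c1hurwitzcpt.RootDisk.val s := ⟨_, rfl⟩
    have hg' : PowerSeries.order g' = 0 := hg'e ▸ hg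
    have hs' : (PowerSeries.X : PowerSeries k) ^ m * g' * (PowerSeries.X ^ m * g')
        = PowerSeries.expand 3 (NeZero.ne 3) r1
          + PowerSeries.expand 3 (NeZero.ne 3) r2 * (PowerSeries.X ^ m * g')
          + PowerSeries.X ^ n * s' := by
      rw [hg'e, hs'e, ← hxX]
      exact hs
    set A : PowerSeries k := PowerSeries.expand 3 (NeZero.ne 3) r1 with hA
    set B : PowerSeries k := PowerSeries.expand 3 (NeZero.ne 3) r2 * (PowerSeries.X ^ m * g') with hB
    have hoA : A.order = 3 • r1.order + ((0 : ℕ) : ℕ∞) := by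
      rw [hA, PowerSeries.order_expand]
      simp
    have hoB : B.order = 3 • r2.order + (m : ℕ∞) := order_term 3 _ m r2 g' hg'
    have hL : ((PowerSeries.X : PowerSeries k) ^ m * g' * (PowerSeries.X ^ m * g')).order
        = ((2 * m : ℕ) : ℕ∞) := by
      rw [PowerSeries.order_mul, PowerSeries.order_mul, PowerSeries.order_X_pow, hg']
      push_cast
      ring
    have hW : ((n : ℕ) : ℕ∞) ≤ ((PowerSeries.X : PowerSeries k) ^ n * s').order := by
      rw [PowerSeries.order_mul, PowerSeries.order_X_pow]
      exact le_self_add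
    have hAB : (A + B).order = ((2 * m : ℕ) : ℕ∞) := by
      have h1 : A + B = (PowerSeries.X : PowerSeries k) ^ m * g' * (PowerSeries.X ^ m * g')
          + -((PowerSeries.X : PowerSeries k) ^ n * s') := by
        rw [hs']
        ring
      rw [h1, PowerSeries.order_add_of_order_ne, PowerSeries.order_neg, hL]
      · apply min_eq_left
        refine le_trans ?_ hW
        exact_mod_cast hlt.le
      · rw [PowerSeries.order_neg, hL]
        intro h'
        rw [← h'] at hW
        have : n ≤ 2 * m := by exact_mod_cast hW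
        omega
    have hm3 : m % 3 ≠ 0 := fun h => hm (Nat.dvd_of_mod_eq_zero h)
    by_cases hne : A.order = B.order
    · have h1 : A.order ≠ ⊤ := by
        intro htop
        have hBtop : B.order = ⊤ := hne ▸ htop
        rw [PowerSeries.order_eq_top] at htop hBtop
        rw [htop, hBtop, add_zero, PowerSeries.order_zero] at hAB
        exact ENat.top_ne_coe _ hAB
      obtain ⟨a, ha⟩ := ENat.ne_top_iff_exists.mp h1
      rw [← ha] at hoA
      exact enat_ne 3 0 a (by
        intro h0
        have := enat_ne 3 m a (by rw [h0]; simpa using hm3.symm) r2.order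
        rw [← hoB, ← hne, ← ha] at this
        exact this rfl) r1.order hoA.symm
    · rw [PowerSeries.order_add_of_order_ne _ _ hne] at hAB
      rcases min_choice A.order B.order with h | h
      · rw [h, hoA] at hAB
        exact enat_ne 3 0 (2 * m) (by omega) _ hAB
      · rw [h, hoB] at hAB
        exact enat_ne 3 m (2 * m) (by omega) _ hAB
  · intro hle a ha b hb
    obtain ⟨r1, r2, s, rfl⟩ := (hmem a).mp ha
    obtain ⟨q1, q2, w, rfl⟩ := (hmem b).mp hb
    rw [hmem]
    obtain ⟨d, hd⟩ := Nat.exists_eq_add_of_le hle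
    refine ⟨r1 * q1, r1 * q2 + r2 * q1,
      algebraMap (PowerSeries k) (W4c1hurwitzcpt.RootDisk 3 k) (r2 * q2) * x ^ d * g ^ 2
        + s * (algebraMap (PowerSeries k) (W4c1hurwitzcpt.RootDisk 3 k) q1
          + algebraMap (PowerSeries k) (W4c1hurwitzcpt.RootDisk 3 k) q2 * (x ^ m * g) + x ^ n * w)
        + (algebraMap (PowerSeries k) (W4c1hurwitzcpt.RootDisk 3 k) r1
          + algebraMap (PowerSeries k) (W4c1hurwitzcpt.RootDisk 3 k) r2 * (x ^ m * g)) * w, ?_⟩
    have h2 : x ^ m * x ^ m = x ^ n * x ^ d := by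
      rw [← pow_add, ← pow_add, ← hd, two_mul]
    simp only [map_mul, map_add]
    linear_combination (algebraMap (PowerSeries k) (W4c1hurwitzcpt.RootDisk 3 k) r2
      * algebraMap (PowerSeries k) (W4c1hurwitzcpt.RootDisk 3 k) q2 * g ^ 2) * h2

end Groth.Agent.S19485
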