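import Groth.Statements.S19486
import Groth.Agent.S19485

set_option autoImplicit false
universe u
open Crimp

namespace Groth.Agent.S19486

/-- The emptiness of the stratum rests on the following computation. Over R = k⟦t⟧ with k an
algebraically closed field of characteristic zero, let S̃ = S̃₁ × R where S̃₁ = k⟦x⟧ is regarded as
an R-algebra through t ↦ x ^ 2, that is S̃₁ = R[x] / (x ^ 2 - t), with R embedded diagonally in the
product. Let m be odd, n > 2m, and let g be a power series with nonzero constant term. Then the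
R-submodule of S̃ spanned by 1 = (1, 1) and (x ^ m g, 0) together with the ideal x ^ n S̃₁ × 0 is
not closed under multiplication. (The published item concludes that the corresponding stratum of
crimps is empty; only this computation is stated here, with the ideal read as x ^ n S̃₁ × 0.) -/
theorem result {k : Type u} [Field k] [IsAlgClosed k] [CharZero k]
    (m n : ℕ) (hm : Odd m) (hmn : 2 * m < n) (x g : W4c1hurwitzcpt.RootDisk 2 k)
    (hx : W4c1hurwitzcpt.RootDisk.val x = PowerSeries.X) (hg : PowerSeries.order (W4c1hurwitzcpt.RootDisk.val g) = 0)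
    (M : Submodule (PowerSeries k) (W4c1hurwitzcpt.RootDisk 2 k × PowerSeries k))
    (hM : M = Submodule.span (PowerSeries k) {(1 : W4c1hurwitzcpt.RootDisk 2 k × PowerSeries k), (x ^ m * g, 0)} ⊔
      ((Ideal.span {x ^ n} : Ideal (W4c1hurwitzcpt.RootDisk 2 k)).restrictScalars (PowerSeries k)).prod ⊥) :
    ∃ a ∈ M, ∃ b ∈ M, a * b ∉ M := by
  have hmem : ∀ a, a ∈ M → ∃ r1 r2 : PowerSeries k, ∃ s : W4c1hurwitzcpt.RootDisk 2 k,
      a = (algebraMap (PowerSeries k) (W4c1hurwitzcpt.RootDisk 2 k) r1
        + algebraMap (PowerSeries k) (W4c1hurwitzcpt.RootDisk 2 k) r2 * (x ^ m * g) + x ^ n * s, r1) := by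
    intro a
    rw [hM, Submodule.mem_sup]
    rintro ⟨y, hy, z, hz, rfl⟩
    rw [Submodule.mem_span_pair] at hy
    obtain ⟨r1, r2, rfl⟩ := hy
    obtain ⟨z1, z2⟩ := z
    rw [Submodule.mem_prod] at hz
    obtain ⟨hz1, hz2⟩ := hz
    simp only at hz1 hz2
    rw [Submodule.restrictScalars_mem, Ideal.mem_span_singleton'] at hz1
    obtain ⟨s, rfl⟩ := hz1
    rw [Submodule.mem_bot] at hz2
    subst hz2
    refine ⟨r1, r2, s, ?_⟩
    ext
    · simp only [Prod.fst_add, Prod.smul_fst, Prod.fst_one]
      rw [Algebra.smul_def, Algebra.smul_def, mul_one, mul_comm s]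
    · simp
  have hu : ((x ^ m * g, 0) : W4c1hurwitzcpt.RootDisk 2 k × PowerSeries k) ∈ M := by
    rw [hM]
    exact Submodule.mem_sup_left (Submodule.subset_span (by simp))
  refine ⟨_, hu, _, hu, ?_⟩
  intro hcl
  obtain ⟨r1, r2, s, hs⟩ := hmem _ hcl
  have h2 := congrArg Prod.snd hs
  simp only [Prod.snd_mul, mul_zero] at h2
  subst h2
  have h1 := congrArg Prod.fst hs
  simp only [Prod.fst_mul, map_zero, zero_add] at h1
  have hxX : x = (PowerSeries.X : PowerSeries k) := hx
  obtain ⟨g', hg'e⟩ : ∃ g' : PowerSeries k, g' = W4c1hurwitzcpt.RootDisk.val g := ⟨_, rfl⟩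
  obtain ⟨s', hs'e⟩ : ∃ s' : PowerSeries k, s' = W4c1hurwitzcpt.RootDisk.val s := ⟨_, rfl⟩
  have hg' : PowerSeries.order g' = 0 := hg'e ▸ hg
  have hs' : (PowerSeries.X : PowerSeries k) ^ m * g' * (PowerSeries.X ^ m * g')
      = PowerSeries.expand 2 (NeZero.ne 2) r2 * (PowerSeries.X ^ m * g')
        + PowerSeries.X ^ n * s' := by
    rw [hg'e, hs'e, ← hxX]
    exact h1
  set B : PowerSeries k := PowerSeries.expand 2 (NeZero.ne 2) r2 * (PowerSeries.X ^ m * g') with hB
  have hoB : B.order = 2 • r2.order + (m : ℕ∞) := S19485.order_term 2 _ m r2 g' hg'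
  have hL : ((PowerSeries.X : PowerSeries k) ^ m * g' * (PowerSeries.X ^ m * g')).order
      = ((2 * m : ℕ) : ℕ∞) := by
    rw [PowerSeries.order_mul, PowerSeries.order_mul, PowerSeries.order_X_pow, hg']
    push_cast
    ring
  have hW : ((n : ℕ) : ℕ∞) ≤ ((PowerSeries.X : PowerSeries k) ^ n * s').order := by
    rw [PowerSeries.order_mul, PowerSeries.order_X_pow]
    exact le_self_add
  have hAB : B.order = ((2 * m : ℕ) : ℕ∞) := by
    have h1 : B = (PowerSeries.X : PowerSeries k) ^ m * g' * (PowerSeries.X ^ m * g')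
        + -((PowerSeries.X : PowerSeries k) ^ n * s') := by
      rw [hs']
      ring
    rw [h1, PowerSeries.order_add_of_order_ne, PowerSeries.order_neg, hL]
    · apply min_eq_left
      refine le_trans ?_ hW
      exact_mod_cast hmn.le
    · rw [PowerSeries.order_neg, hL]
      intro h'
      rw [← h'] at hW
      have : n ≤ 2 * m := by exact_mod_cast hW
      omega
  rw [hoB] at hAB
  obtain ⟨j, hj⟩ := hm
  exact S19485.enat_ne 2 m (2 * m) (by omega) _ hAB

end Groth.Agent.S19486
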