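import Groth.Statements.S19487
import Mathlib

set_option autoImplicit false
open W4c1frobunstiva

namespace Groth.Agent.S19487


open Polynomial

theorem count_eq_coeff (N M : ℕ) (t : Fin N → Finset (Fin M)) (s : ℕ) :
    Fintype.card {e : Fin N → Fin M // (∀ i, e i ∈ t i) ∧ ∑ i, (e i : ℕ) = s} =
      (∏ i, ∑ a ∈ t i, (X : ℕ[X]) ^ (a : ℕ)).coeff s := by
  classical
  rw [Finset.prod_univ_sum, Polynomial.finset_sum_coeff, Fintype.card_subtype]
  have hterm : ∀ e ∈ Fintype.piFinset t, (∏ i, (X : ℕ[X]) ^ ((e i : Fin M) : ℕ)).coeff s =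
      if ∑ i, ((e i : Fin M) : ℕ) = s then 1 else 0 := by
    intro e _
    rw [Finset.prod_pow_eq_pow_sum, coeff_X_pow]
    simp only [eq_comm]
  rw [Finset.sum_congr rfl hterm, Finset.sum_boole]
  simp only [Nat.cast_id]
  congr 1
  ext e
  simp only [Finset.mem_filter, Finset.mem_univ, true_and, Fintype.mem_piFinset]

theorem sum_fin_filter (M : ℕ) (P : ℕ → Prop) [DecidablePred P] :
    ∑ a ∈ (Finset.univ : Finset (Fin M)).filter (fun a : Fin M => P (a : ℕ)), (X : ℕ[X]) ^ (a : ℕ) =
      ∑ k ∈ (Finset.range M).filter P, (X : ℕ[X]) ^ k := by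
  rw [Finset.sum_filter, Finset.sum_filter]
  exact Fin.sum_univ_eq_sum_range (fun k => if P k then (X : ℕ[X]) ^ k else 0) M

noncomputable def SP (m : ℕ) : ℕ[X] := ∑ k ∈ (Finset.range (m + 1)).filter (fun k => 1 ≤ k), X ^ k

theorem SP_coeff_zero (m : ℕ) : (SP m).coeff 0 = 0 := by
  unfold SP
  rw [Polynomial.finset_sum_coeff]
  apply Finset.sum_eq_zero
  intro k hk
  rw [Finset.mem_filter] at hk
  rw [coeff_X_pow, if_neg]
  omega

theorem SP_pow_coeff_zero (m K : ℕ) (hK : 1 ≤ K) : ((SP m) ^ K).coeff 0 = 0 := by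
  rw [Polynomial.coeff_zero_eq_eval_zero, eval_pow, ← Polynomial.coeff_zero_eq_eval_zero,
    SP_coeff_zero, zero_pow (by omega)]

theorem A_eq (m N t : ℕ) :
    Fintype.card {e : Fin N → Fin (m + 1) // (∀ i, 1 ≤ (e i : ℕ)) ∧ ∑ i, (e i : ℕ) = t} =
      ((SP m) ^ N).coeff t := by
  classical
  have h := count_eq_coeff N (m + 1)
    (fun _ => (Finset.univ : Finset (Fin (m + 1))).filter (fun a : Fin (m + 1) => 1 ≤ (a : ℕ))) t
  simp only [Finset.mem_filter, Finset.mem_univ, true_and] at h
  rw [h, Finset.prod_const, Finset.card_univ, Fintype.card_fin,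
    sum_fin_filter (m + 1) (fun k => 1 ≤ k)]
  rfl

theorem PS_eq (m : ℕ) :
    ∑ k ∈ (Finset.range (2 * m + 1)).filter (fun k => 1 ≤ k ∧ 2 * k < 2 * m + 1), (X : ℕ[X]) ^ k =
      SP m := by
  unfold SP
  congr 1
  ext k
  simp only [Finset.mem_filter, Finset.mem_range]
  omega

theorem PL_eq (m : ℕ) :
    ∑ k ∈ (Finset.range (2 * m + 1)).filter (fun k => 1 ≤ k ∧ ¬ 2 * k < 2 * m + 1), (X : ℕ[X]) ^ k =
      X ^ m * SP m := by
  unfold SP
  rw [Finset.mul_sum]
  apply Finset.sum_nbij' (fun k => k - m) (fun k => m + k)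
  · intro k hk
    simp only [Finset.mem_filter, Finset.mem_range] at hk ⊢
    omega
  · intro k hk
    simp only [Finset.mem_filter, Finset.mem_range] at hk ⊢
    omega
  · intro k hk
    simp only [Finset.mem_filter, Finset.mem_range] at hk
    omega
  · intro k hk
    simp only [Finset.mem_filter, Finset.mem_range] at hk
    omega
  · intro k hk
    simp only [Finset.mem_filter, Finset.mem_range] at hk
    rw [← pow_add]
    congr 1
    omega

theorem coeff_identity (m D K s : ℕ) :
    ((SP m) ^ D * (X ^ m * SP m) ^ K).coeff s =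
      ∑ j ∈ Finset.range (s + 1), ((SP m) ^ D).coeff j * ((SP m) ^ K).coeff (s - j - K * m) := by
  rw [mul_pow, ← pow_mul, Polynomial.coeff_mul,
    Finset.Nat.sum_antidiagonal_eq_sum_range_succ
      (fun a b => ((SP m) ^ D).coeff a * ((X : ℕ[X]) ^ (m * K) * (SP m) ^ K).coeff b)]
  apply Finset.sum_congr rfl
  intro j _
  congr 1
  rw [coeff_X_pow_mul', mul_comm m K]
  split_ifs with h
  · rfl
  · push Not at h
    have hK : 1 ≤ K := by
      by_contra hcon
      have : K = 0 := by omega
      rw [this, zero_mul] at h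
      omega
    have : s - j - K * m = 0 := by omega
    rw [this, SP_pow_coeff_zero m K hK]

theorem prod_ite_const (n : ℕ) (T : Finset (Fin n)) (a b : ℕ[X]) :
    ∏ i : Fin n, (if i ∈ T then a else b) = a ^ T.card * b ^ (n - T.card) := by
  classical
  rw [Finset.prod_ite, Finset.prod_const, Finset.prod_const]
  congr 2
  · congr 1
    ext i
    simp
  · have h1 : (Finset.univ.filter (fun i : Fin n => i ∉ T)) = Tᶜ := by
      ext i
      simp
    rw [h1, Finset.card_compl, Fintype.card_fin]

theorem lhs_eq (m n s D : ℕ) :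
    Fintype.card {e : Fin n → Fin (2 * m + 1) // (∀ i, 1 ≤ (e i : ℕ)) ∧ ∑ i, (e i : ℕ) = s ∧
        (Finset.univ.filter fun i => 2 * (e i : ℕ) < 2 * m + 1).card = D} =
      n.choose D * ((SP m) ^ D * (X ^ m * SP m) ^ (n - D)).coeff s := by
  classical
  rw [Fintype.card_subtype]
  set 𝒮 := (Finset.univ : Finset (Fin n → Fin (2 * m + 1))).filter (fun e =>
    (∀ i, 1 ≤ (e i : ℕ)) ∧ ∑ i, (e i : ℕ) = s ∧
      (Finset.univ.filter fun i => 2 * (e i : ℕ) < 2 * m + 1).card = D) with h𝒮
  have hmaps : ∀ e ∈ 𝒮, (Finset.univ.filter fun i => 2 * (e i : ℕ) < 2 * m + 1) ∈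
      Finset.powersetCard D (Finset.univ : Finset (Fin n)) := by
    intro e he
    rw [h𝒮, Finset.mem_filter] at he
    rw [Finset.mem_powersetCard]
    exact ⟨Finset.subset_univ _, he.2.2.2⟩
  rw [Finset.card_eq_sum_card_fiberwise hmaps]
  have hfiber : ∀ T ∈ Finset.powersetCard D (Finset.univ : Finset (Fin n)),
      (𝒮.filter (fun e => (Finset.univ.filter fun i => 2 * (e i : ℕ) < 2 * m + 1) = T)).card =
        ((SP m) ^ D * (X ^ m * SP m) ^ (n - D)).coeff s := by
    intro T hT
    rw [Finset.mem_powersetCard] at hT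
    set smallSet := (Finset.univ : Finset (Fin (2 * m + 1))).filter
      (fun a : Fin (2 * m + 1) => 1 ≤ (a : ℕ) ∧ 2 * (a : ℕ) < 2 * m + 1) with hsmall
    set largeSet := (Finset.univ : Finset (Fin (2 * m + 1))).filter
      (fun a : Fin (2 * m + 1) => 1 ≤ (a : ℕ) ∧ ¬ 2 * (a : ℕ) < 2 * m + 1) with hlarge
    have hcount := count_eq_coeff n (2 * m + 1) (fun i => if i ∈ T then smallSet else largeSet) s
    rw [Fintype.card_subtype] at hcount
    have hsets : 𝒮.filter (fun e => (Finset.univ.filter fun i => 2 * (e i : ℕ) < 2 * m + 1) = T) =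
        (Finset.univ : Finset (Fin n → Fin (2 * m + 1))).filter (fun e =>
          (∀ i, e i ∈ (if i ∈ T then smallSet else largeSet)) ∧ ∑ i, (e i : ℕ) = s) := by
      ext e
      rw [h𝒮]
      simp only [Finset.mem_filter, Finset.mem_univ, true_and]
      constructor
      · rintro ⟨⟨h1, h2, h3⟩, h4⟩
        refine ⟨?_, h2⟩
        intro i
        have hi : i ∈ T ↔ 2 * (e i : ℕ) < 2 * m + 1 := by
          rw [← h4]
          simp
        by_cases hiT : i ∈ T
        · rw [if_pos hiT, hsmall]
          simp only [Finset.mem_filter, Finset.mem_univ, true_and]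
          exact ⟨h1 i, hi.mp hiT⟩
        · rw [if_neg hiT, hlarge]
          simp only [Finset.mem_filter, Finset.mem_univ, true_and]
          exact ⟨h1 i, fun h => hiT (hi.mpr h)⟩
      · rintro ⟨h1, h2⟩
        have hT' : (Finset.univ.filter fun i => 2 * (e i : ℕ) < 2 * m + 1) = T := by
          ext i
          simp only [Finset.mem_filter, Finset.mem_univ, true_and]
          have := h1 i
          by_cases hiT : i ∈ T
          · rw [if_pos hiT, hsmall] at this
            simp only [Finset.mem_filter, Finset.mem_univ, true_and] at this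
            exact ⟨fun _ => hiT, fun _ => this.2⟩
          · rw [if_neg hiT, hlarge] at this
            simp only [Finset.mem_filter, Finset.mem_univ, true_and] at this
            exact ⟨fun h => absurd h this.2, fun h => absurd h hiT⟩
        refine ⟨⟨?_, h2, ?_⟩, hT'⟩
        · intro i
          have := h1 i
          by_cases hiT : i ∈ T
          · rw [if_pos hiT, hsmall] at this
            simp only [Finset.mem_filter, Finset.mem_univ, true_and] at this
            exact this.1
          · rw [if_neg hiT, hlarge] at this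
            simp only [Finset.mem_filter, Finset.mem_univ, true_and] at this
            exact this.1
        · rw [hT']
          exact hT.2
    rw [hsets, hcount]
    have hprod : ∀ i : Fin n, ∑ a ∈ (if i ∈ T then smallSet else largeSet), (X : ℕ[X]) ^ (a : ℕ) =
        if i ∈ T then SP m else X ^ m * SP m := by
      intro i
      by_cases hiT : i ∈ T
      · rw [if_pos hiT, if_pos hiT, hsmall,
          sum_fin_filter (2 * m + 1) (fun k => 1 ≤ k ∧ 2 * k < 2 * m + 1), PS_eq]
      · rw [if_neg hiT, if_neg hiT, hlarge,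
          sum_fin_filter (2 * m + 1) (fun k => 1 ≤ k ∧ ¬ 2 * k < 2 * m + 1), PL_eq]
    rw [Finset.prod_congr rfl (fun i _ => hprod i), prod_ite_const, hT.2]
  rw [Finset.sum_congr rfl hfiber, Finset.sum_const, Finset.card_powersetCard, Finset.card_univ,
    Fintype.card_fin, smul_eq_mul]

theorem main_lemma (m n s D M m' : ℕ) (hM : M = m + 1) (hm' : m' = m) :
    Fintype.card {e : Fin n → Fin (2 * m + 1) // (∀ i, 1 ≤ (e i : ℕ)) ∧ ∑ i, (e i : ℕ) = s ∧
        (Finset.univ.filter fun i => 2 * (e i : ℕ) < 2 * m + 1).card = D} =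
      n.choose D * ∑ j ∈ Finset.range (s + 1),
        Fintype.card {e : Fin D → Fin M // (∀ i, 1 ≤ (e i : ℕ)) ∧ ∑ i, (e i : ℕ) = j} *
          Fintype.card {e : Fin (n - D) → Fin M // (∀ i, 1 ≤ (e i : ℕ)) ∧
            ∑ i, (e i : ℕ) = (s - j - (n - D) * m')} := by
  subst hM
  subst hm'
  rw [lhs_eq, coeff_identity]
  congr 1
  apply Finset.sum_congr rfl
  intro j _
  rw [A_eq, A_eq]


/-- The second formula. For p odd and natural numbers n, s, write N_p(n, s) for the number of monomials
of degree s in n variables in which every variable occurs with a positive exponent strictly less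
than p, that is of exponent vectors (e_1, …, e_n) with sum s and 1 ≤ e_i ≤ p − 1, and N_p^D(n, s)
for the number of those in which exactly D variables occur with exponent less than p/2. Then
N_p^D(n, s) = C(n, D) · Σ_j N_{(p+1)/2}(D, j) · N_{(p+1)/2}(n − D, s − j − (n − D)(p − 1)/2), the
sum running over 0 ≤ j ≤ s. (Natural-number subtraction is used in the last argument; when it
truncates and n > D the factor vanishes, as it should. The published setting has p an odd prime;
only p odd is used. The companion inclusion–exclusion expression for N_p(n, s) itself is a separate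
statement.) -/
theorem result (p n s D : ℕ) (hp : Odd p) :
    Fintype.card {e : Fin n → Fin p // (∀ i, 1 ≤ (e i : ℕ)) ∧ ∑ i, (e i : ℕ) = s ∧
        (Finset.univ.filter fun i => 2 * (e i : ℕ) < p).card = D} =
      n.choose D * ∑ j ∈ Finset.range (s + 1),
        Fintype.card {e : Fin D → Fin ((p + 1) / 2) // (∀ i, 1 ≤ (e i : ℕ)) ∧ ∑ i, (e i : ℕ) = j} *
          Fintype.card {e : Fin (n - D) → Fin ((p + 1) / 2) // (∀ i, 1 ≤ (e i : ℕ)) ∧ ∑ i, (e i : ℕ) = (s - j - (n - D) * ((p - 1) / 2))} := by
  obtain ⟨m, rfl⟩ := hp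
  exact main_lemma m n s D _ _ (by omega) (by omega)

end Groth.Agent.S19487
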