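import Groth.Statements.S19488
import Mathlib

set_option autoImplicit false
set_option linter.style.haveILetI false
universe u
open CategoryTheory CategoryTheory.Limits AlgebraicGeometry
open W4c1frobunstiva

namespace Groth.Agent.S19488

open CategoryTheory.Limits TopologicalSpace Opposite

/-- Pushforward of modules along a topological embedding is faithful. -/
theorem pushforward_faithful {S T : Scheme.{u}} (f : S ⟶ T) (hf : Topology.IsInducing f) :
    (Scheme.Modules.pushforward f).Faithful where
  map_injective := by
    intro M N φ ψ h
    apply Scheme.Modules.hom_ext
    intro V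
    obtain ⟨U, hU, hUV⟩ := hf.isOpen_iff.1 V.isOpen
    have hV : V = f ⁻¹ᵁ ⟨U, hU⟩ := by
      ext x
      rw [← hUV]
      rfl
    subst hV
    have := congrArg (fun α => Scheme.Modules.Hom.app α ⟨U, hU⟩) h
    simpa using this

/-- A right exact functor between abelian categories: the kernel comparison of an epimorphism
is an epimorphism. -/
theorem epi_kernelComparison {C D : Type*} [Category C] [Category D] [Abelian C] [Abelian D]
    (F : C ⥤ D) [F.Additive] [PreservesFiniteColimits F] {X Y : C} (ψ : X ⟶ Y) [Epi ψ] :
    Epi (kernelComparison ψ F) := by
  let Sc : ShortComplex C := ShortComplex.mk (kernel.ι ψ) ψ (kernel.condition ψ)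
  have hS : Sc.Exact := ShortComplex.exact_of_f_is_kernel _ (kernelIsKernel ψ)
  have hS' : (Sc.map F).Exact :=
    hS.map_of_epi_of_preservesCokernel F (inferInstanceAs (Epi ψ)) inferInstance
  have := (ShortComplex.exact_iff_epi_kernel_lift (Sc.map F)).1 hS'
  exact this


/-- Fix a closed immersion of schemes f : S → T, an O_T-module G, an O_S-module E and an epimorphism ψ :
G → f_*E. Then the morphism ψ′ : f^*G → E that corresponds to ψ under the adjunction between
pullback and pushforward (it is the pullback f^*ψ followed by the counit f^*f_*E → E, an isomorphism
for a closed immersion) is an epimorphism, and the canonical map f^*(ker ψ) → ker(f^*ψ) is an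
epimorphism. (The published statement takes G and E locally free, which these two assertions do not
use.) -/
theorem result
    {S T : Scheme.{u}} (f : S ⟶ T) [IsClosedImmersion f] (G : T.Modules) (E : S.Modules)
    (ψ : G ⟶ (Scheme.Modules.pushforward f).obj E) [Epi ψ] :
    Epi (((Scheme.Modules.pullbackPushforwardAdjunction f).homEquiv G E).symm ψ) ∧
      Epi (kernelComparison ψ (Scheme.Modules.pullback f)) := by
  constructor
  · haveI : (Scheme.Modules.pushforward f).Faithful :=
      pushforward_faithful f (IsClosedImmersion.isClosedEmbedding f).isInducing
    rw [Adjunction.homEquiv_counit]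
    haveI : Epi ((Scheme.Modules.pullback f).map ψ) := inferInstance
    exact epi_comp _ _
  · exact epi_kernelComparison _ ψ

end Groth.Agent.S19488
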