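import Groth.Statements.S19489
import Mathlib

set_option autoImplicit false
open scoped TensorProduct
open ZeroCyc

namespace Groth.Agent.S19489
set_option maxHeartbeats 400000

universe u

open scoped TensorProduct
open FrobAlg PolLaw

section Law

variable (p : ℕ) [Fact p.Prime] (k : Type u) [Field k] [CharP k p]

instance : Nontrivial (Twist p k) := inferInstanceAs (Nontrivial k)

theorem exists_retraction :
    ∃ g : Twist p k →ₗ[k] k, ∀ b : k, g (algebraMap k (Twist p k) b) = b := by
  obtain ⟨g, hg⟩ := LinearMap.exists_leftInverse_of_injective (Algebra.linearMap k (Twist p k))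
    (LinearMap.ker_eq_bot.2 (algebraMap k (Twist p k)).injective)
  exact ⟨g, fun b => LinearMap.congr_fun hg b⟩

variable {p k}

theorem twist_pow (a : Twist p k) : a ^ p = algebraMap k (Twist p k) ((toTwist p k).symm a) := rfl

variable (S : Type u) [CommSemiring S] [Algebra k S]

theorem add_pow_p (x y : S ⊗[k] Twist p k) : (x + y) ^ p = x ^ p + y ^ p := by
  rcases subsingleton_or_nontrivial (S ⊗[k] Twist p k) with h | h
  · exact Subsingleton.elim _ _
  · haveI : CharP (S ⊗[k] Twist p k) p :=
      charP_of_injective_algebraMap (algebraMap k (S ⊗[k] Twist p k)).injective p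
    exact add_pow_char _ _ _

theorem pow_p_mem (x : S ⊗[k] Twist p k) : ∃ u : S, x ^ p = u ⊗ₜ[k] (1 : Twist p k) := by
  induction x using TensorProduct.induction_on with
  | zero => exact ⟨0, by rw [zero_pow (Fact.out : p.Prime).ne_zero, TensorProduct.zero_tmul]⟩
  | tmul s a =>
    refine ⟨(toTwist p k).symm a • s ^ p, ?_⟩
    rw [Algebra.TensorProduct.tmul_pow, twist_pow, TensorProduct.smul_tmul,
      Algebra.algebraMap_eq_smul_one]
  | add x y hx hy =>
    obtain ⟨u, hu⟩ := hx
    obtain ⟨v, hv⟩ := hy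
    exact ⟨u + v, by rw [add_pow_p, hu, hv, TensorProduct.add_tmul]⟩

variable (g : Twist p k →ₗ[k] k) (hg : ∀ b : k, g (algebraMap k (Twist p k) b) = b)

theorem lTensor_smul' (s : S) (y : S ⊗[k] Twist p k) :
    g.lTensor S (s • y) = s • g.lTensor S y := by
  induction y using TensorProduct.induction_on with
  | zero => simp
  | tmul t b => simp [TensorProduct.smul_tmul']
  | add x y hx hy => rw [smul_add, map_add, hx, hy, map_add, smul_add]

include hg in
theorem g_one : g 1 = 1 := by
  have := hg 1
  rwa [map_one] at this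

include hg in
theorem lTensor_tmul_one (u : S) : g.lTensor S (u ⊗ₜ[k] (1 : Twist p k)) = u ⊗ₜ[k] (1 : k) := by
  rw [LinearMap.lTensor_tmul, g_one g hg]

theorem law_apply (x : S ⊗[k] Twist p k) :
    (PolLaw.postcomp g (PolLaw.powLaw (A := k) (B := Twist p k) p)).toFun' S x =
      g.lTensor S (x ^ p) := rfl

noncomputable def frobLaw : MulLaw k (Twist p k) k p where
  law := PolLaw.postcomp g (PolLaw.powLaw p)
  homog S _ _ s x := by
    rw [law_apply, law_apply, smul_pow, lTensor_smul']
  mult S _ _ := by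
    refine ⟨?_, fun x y => ?_⟩
    · rw [law_apply, one_pow, Algebra.TensorProduct.one_def, lTensor_tmul_one S g hg]
      rfl
    · rw [law_apply, law_apply, law_apply, mul_pow]
      obtain ⟨u, hu⟩ := pow_p_mem S x
      obtain ⟨v, hv⟩ := pow_p_mem S y
      rw [hu, hv, Algebra.TensorProduct.tmul_mul_tmul, mul_one, lTensor_tmul_one S g hg,
        lTensor_tmul_one S g hg, lTensor_tmul_one S g hg, Algebra.TensorProduct.tmul_mul_tmul,
        mul_one]

theorem frobLaw_apply (s : S) (a : Twist p k) :
    (frobLaw g hg).law.toFun' S (s ⊗ₜ[k] a) = (s ^ p) ⊗ₜ[k] (toTwist p k).symm a := by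
  show (PolLaw.postcomp g (PolLaw.powLaw (A := k) (B := Twist p k) p)).toFun' S (s ⊗ₜ[k] a) = _
  rw [law_apply, Algebra.TensorProduct.tmul_pow, twist_pow, LinearMap.lTensor_tmul, hg]

end Law

section Ker

variable {p : ℕ} [Fact p.Prime] {k : Type u} [Field k] [CharP k p]

theorem ker_eq_bot (F : MulLaw k (Twist p k) k p)
    (hF : ∀ (S : Type u) [CommSemiring S] [Algebra k S] (s : S) (a : Twist p k),
        F.law.toFun' S (s ⊗ₜ[k] a) = (s ^ p) ⊗ₜ[k] (toTwist p k).symm a) :
    PolLaw.ker F.law = ⊥ := by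
  by_contra hne
  obtain ⟨b, hb, hb0⟩ := Submodule.exists_mem_ne_zero_of_ne_bot hne
  have h1 : (1 : Twist p k) ∈ PolLaw.ker F.law := by
    have hb0' : (toTwist p k).symm b ≠ 0 := fun h => hb0 (by
      have := congrArg (toTwist p k) h
      rwa [RingEquiv.apply_symm_apply, map_zero] at this)
    have hmul : toTwist p k ((toTwist p k).symm b)⁻¹ * b = 1 := by
      conv_lhs => rw [← (toTwist p k).apply_symm_apply b]
      rw [RingEquiv.symm_apply_apply, ← map_mul, inv_mul_cancel₀ hb0', map_one]
    rw [← hmul]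
    exact Ideal.mul_mem_left _ _ hb
  have h2 := h1 k ((0 : k) ⊗ₜ[k] (1 : Twist p k)) 1
  rw [TensorProduct.zero_tmul, zero_add, one_mul] at h2
  have h3 : F.law.toFun' k (0 : k ⊗[k] Twist p k) = 0 := by
    rw [← TensorProduct.zero_tmul (R := k) (M := k) (N := Twist p k) (1 : Twist p k), hF,
      zero_pow (Fact.out : p.Prime).ne_zero, TensorProduct.zero_tmul]
  rw [hF, h3, one_pow] at h2
  have h4 := congrArg (TensorProduct.lid k k) h2
  rw [TensorProduct.lid_tmul, map_zero] at h4
  simp at h4

end Ker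

section NotFinite

variable (p : ℕ) [Fact p.Prime]

theorem poly_indep (s : Finset ℕ) (c : ℕ → MvPolynomial ℕ (ZMod p))
    (h : ∑ i ∈ s, (c i) ^ p * MvPolynomial.X i = 0) : ∀ i ∈ s, c i = 0 := by
  classical
  have hp : p ≠ 0 := (Fact.out : p.Prime).ne_zero
  intro i hi
  rw [MvPolynomial.eq_zero_iff]
  intro m
  have h1 := congrArg (MvPolynomial.coeff (p • m + Finsupp.single i 1)) h
  rw [MvPolynomial.coeff_sum, MvPolynomial.coeff_zero] at h1
  rw [Finset.sum_eq_single i] at h1
  · rwa [MvPolynomial.coeff_mul_X, ← MvPolynomial.expand_zmod,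
      MvPolynomial.coeff_expand_smul _ hp] at h1
  · intro j _ hji
    rw [MvPolynomial.coeff_mul_X']
    split_ifs with hjs
    · rw [← MvPolynomial.expand_zmod]
      apply MvPolynomial.coeff_expand_of_not_dvd (i := i)
      have : (p • m + Finsupp.single i 1 - Finsupp.single j 1 : ℕ →₀ ℕ) i = p * m i + 1 := by
        rw [Finsupp.tsub_apply, Finsupp.add_apply, Finsupp.smul_apply, Finsupp.single_apply,
          Finsupp.single_apply, if_pos rfl, if_neg hji, smul_eq_mul, tsub_zero]
      rw [this]
      intro hdvd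
      have h2 : p ∣ 1 := (Nat.dvd_add_right (Dvd.intro _ rfl)).mp hdvd
      exact (Fact.out : p.Prime).one_lt.ne' (Nat.dvd_one.mp h2)
    · rfl
  · intro hi'
    exact absurd hi hi'

end NotFinite

section NotFinite2

variable (p : ℕ) [Fact p.Prime]

local notation "R0" => MvPolynomial ℕ (ZMod p)
local notation "k0" => FractionRing (MvPolynomial ℕ (ZMod p))
local notation "K0" => Twist p (FractionRing (MvPolynomial ℕ (ZMod p)))

theorem not_finite_twist : ¬ Module.Finite k0 K0 := by
  intro hfin
  letI : Module R0 K0 := Module.compHom K0 (algebraMap R0 k0)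
  haveI : IsScalarTower R0 k0 K0 := ⟨fun r c a => by
    show (r • c) • a = (algebraMap R0 k0 r) • (c • a)
    rw [Algebra.smul_def (A := k0) r c, mul_smul]⟩
  let b : ℕ → K0 := fun i => toTwist p k0 (algebraMap R0 k0 (MvPolynomial.X i))
  have hb : LinearIndependent R0 b := by
    rw [linearIndependent_iff']
    intro s c hc i hi
    apply poly_indep p s c _ i hi
    apply IsFractionRing.injective R0 k0
    rw [map_zero, map_sum]
    have h1 : ∀ i, c i • b i = toTwist p k0 (algebraMap R0 k0 ((c i) ^ p * MvPolynomial.X i)) := by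
      intro i
      show algebraMap k0 K0 (algebraMap R0 k0 (c i)) * b i = _
      rw [algebraMap_twist, map_mul, map_mul, map_pow, map_pow, map_pow]
    simp_rw [h1] at hc
    rw [← map_sum] at hc
    have h2 := congrArg (toTwist p k0).symm hc
    rwa [RingEquiv.symm_apply_apply, map_zero] at h2
  have hb' : LinearIndependent k0 b := hb.localization k0 (nonZeroDivisors R0)
  haveI : IsNoetherian k0 K0 := isNoetherian_of_isNoetherianRing_of_finite k0 K0
  have := hb'.finite_of_isNoetherian
  exact not_finite ℕ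

end NotFinite2

theorem main (p : ℕ) [Fact p.Prime] :
    (∃ F : PolLaw.MulLaw (FractionRing (MvPolynomial ℕ (ZMod p))) (FrobAlg.Twist p (FractionRing (MvPolynomial ℕ (ZMod p)))) (FractionRing (MvPolynomial ℕ (ZMod p))) p,
      ∀ (S : Type) [CommSemiring S] [Algebra (FractionRing (MvPolynomial ℕ (ZMod p))) S] (s : S) (a : FrobAlg.Twist p (FractionRing (MvPolynomial ℕ (ZMod p)))),
        F.law.toFun' S (s ⊗ₜ[FractionRing (MvPolynomial ℕ (ZMod p))] a) =
          (s ^ p) ⊗ₜ[FractionRing (MvPolynomial ℕ (ZMod p))] (FrobAlg.toTwist p (FractionRing (MvPolynomial ℕ (ZMod p)))).symm a) ∧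
    (∀ F : PolLaw.MulLaw (FractionRing (MvPolynomial ℕ (ZMod p))) (FrobAlg.Twist p (FractionRing (MvPolynomial ℕ (ZMod p)))) (FractionRing (MvPolynomial ℕ (ZMod p))) p,
      (∀ (S : Type) [CommSemiring S] [Algebra (FractionRing (MvPolynomial ℕ (ZMod p))) S] (s : S) (a : FrobAlg.Twist p (FractionRing (MvPolynomial ℕ (ZMod p)))),
        F.law.toFun' S (s ⊗ₜ[FractionRing (MvPolynomial ℕ (ZMod p))] a) =
          (s ^ p) ⊗ₜ[FractionRing (MvPolynomial ℕ (ZMod p))] (FrobAlg.toTwist p (FractionRing (MvPolynomial ℕ (ZMod p)))).symm a) →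
      PolLaw.ker F.law = ⊥) ∧
    ¬ Module.Finite (FractionRing (MvPolynomial ℕ (ZMod p))) (FrobAlg.Twist p (FractionRing (MvPolynomial ℕ (ZMod p)))) := by
  refine ⟨?_, fun F hF => ker_eq_bot F hF, not_finite_twist p⟩
  obtain ⟨g, hg⟩ := exists_retraction p (FractionRing (MvPolynomial ℕ (ZMod p)))
  exact ⟨frobLaw g hg, fun S _ _ s a => frobLaw_apply S g hg s a⟩

end Groth.Agent.S19489

namespace Groth.Agent.S19489

/-- Let p be a prime, k = F_p(t_0, t_1, …) the field of rational functions over F_p in countably many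
variables, and K = k^{1/p} = F_p(t_0^{1/p}, t_1^{1/p}, …), modelled here as a copy of k made into a
k-algebra through the Frobenius b ↦ b ^ p (under a ↦ a ^ p the extension k ⊆ k^{1/p} becomes this
algebra). Then a ↦ a ^ p is a multiplicative polynomial law from K to k over k, homogeneous of
degree p: there is such a law sending s ⊗ a to s ^ p ⊗ a ^ p on every test algebra S, where a ^ p is
read in k. Every such law has zero kernel, so the support of the corresponding family of zero-cycles
of degree p on Spec K over Spec k is all of Spec K; and K is not finite over k. Thus the support of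
a family of zero-cycles need not be finite over the base. -/
theorem result (p : ℕ) [Fact p.Prime] :
    (∃ F : PolLaw.MulLaw (FractionRing (MvPolynomial ℕ (ZMod p))) (FrobAlg.Twist p (FractionRing (MvPolynomial ℕ (ZMod p)))) (FractionRing (MvPolynomial ℕ (ZMod p))) p,
      ∀ (S : Type) [CommSemiring S] [Algebra (FractionRing (MvPolynomial ℕ (ZMod p))) S] (s : S) (a : FrobAlg.Twist p (FractionRing (MvPolynomial ℕ (ZMod p)))),
        F.law.toFun' S (s ⊗ₜ[FractionRing (MvPolynomial ℕ (ZMod p))] a) =
          (s ^ p) ⊗ₜ[FractionRing (MvPolynomial ℕ (ZMod p))] (FrobAlg.toTwist p (FractionRing (MvPolynomial ℕ (ZMod p)))).symm a) ∧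
    (∀ F : PolLaw.MulLaw (FractionRing (MvPolynomial ℕ (ZMod p))) (FrobAlg.Twist p (FractionRing (MvPolynomial ℕ (ZMod p)))) (FractionRing (MvPolynomial ℕ (ZMod p))) p,
      (∀ (S : Type) [CommSemiring S] [Algebra (FractionRing (MvPolynomial ℕ (ZMod p))) S] (s : S) (a : FrobAlg.Twist p (FractionRing (MvPolynomial ℕ (ZMod p)))),
        F.law.toFun' S (s ⊗ₜ[FractionRing (MvPolynomial ℕ (ZMod p))] a) =
          (s ^ p) ⊗ₜ[FractionRing (MvPolynomial ℕ (ZMod p))] (FrobAlg.toTwist p (FractionRing (MvPolynomial ℕ (ZMod p)))).symm a) →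
      PolLaw.ker F.law = ⊥) ∧
    ¬ Module.Finite (FractionRing (MvPolynomial ℕ (ZMod p))) (FrobAlg.Twist p (FractionRing (MvPolynomial ℕ (ZMod p)))) := by
  exact main p

end Groth.Agent.S19489
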