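import Groth.Statements.S19507
import Mathlib
import Groth.Agent.Lib.Helper51.SmoothStalk
import Groth.Agent.Lib.Helper19.Grp.GeneralHomogeneity
-- import your own Groth.Agent.* helpers here

set_option autoImplicit false
universe u
open CategoryTheory MonoidalCategory CartesianMonoidalCategory MonObj GrpObj AlgebraicGeometry
open AlgGrp

namespace Groth.Agent.S19507
set_option linter.style.haveILetI false
open CategoryTheory MonoidalCategory CartesianMonoidalCategory MonObj GrpObj AlgebraicGeometry
open Groth.Agent.Lib.Helper51

/-- abstract: a local `k`-algebra with a local retraction onto a ring `L` such that `k → L` is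
bijective has residue field `k`. -/
theorem bijective_residue_of_retraction {k A L : Type*} [Field k] [CommRing A] [IsLocalRing A]
    [Algebra k A] [CommRing L] [Nontrivial L] (ρ : A →+* L) [IsLocalHom ρ]
    (h : Function.Bijective (ρ.comp (algebraMap k A))) :
    Function.Bijective (algebraMap k (IsLocalRing.ResidueField A)) := by
  refine ⟨(algebraMap k (IsLocalRing.ResidueField A)).injective, ?_⟩
  intro y
  obtain ⟨x, rfl⟩ := IsLocalRing.residue_surjective y
  obtain ⟨c, hc⟩ := h.2 (ρ x)
  refine ⟨c, ?_⟩
  have h0 : ρ (x - algebraMap k A c) = 0 := by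
    rw [map_sub, sub_eq_zero]; exact hc.symm
  have hm : x - algebraMap k A c ∈ IsLocalRing.maximalIdeal A := by
    rw [IsLocalRing.mem_maximalIdeal, mem_nonunits_iff]
    intro hu
    have := hu.map ρ
    rw [h0] at this
    exact not_isUnit_zero this
  have := (IsLocalRing.residue_eq_zero_iff _).mpr hm
  rw [map_sub, sub_eq_zero] at this
  rw [this]
  rfl

theorem bijective_algebraMap_residueField (k : Type u) [Field k] {X : Scheme.{u}}
    (f : X ⟶ Spec (CommRingCat.of k)) (s : Spec (CommRingCat.of k) ⟶ X) (hs : s ≫ f = 𝟙 _)
    (pt : Spec (CommRingCat.of k)) :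
    letI := stalkAlg f (s pt)
    Function.Bijective (algebraMap k (IsLocalRing.ResidueField (X.presheaf.stalk (s pt)))) := by
  letI := stalkAlg f (s pt)
  refine bijective_residue_of_retraction (s.stalkMap pt).hom ?_
  have hcomp : (s.stalkMap pt).hom.comp (algebraMap k (X.presheaf.stalk (s pt))) =
      ((Scheme.ΓSpecIso (CommRingCat.of k)).inv ≫
        (Spec (CommRingCat.of k)).presheaf.germ ⊤ pt trivial).hom := by
    have h1 : algebraMap k (X.presheaf.stalk (s pt)) =
        (((Scheme.ΓSpecIso (CommRingCat.of k)).inv ≫ f.appTop) ≫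
          X.presheaf.germ ⊤ (s pt) trivial).hom := rfl
    rw [h1, ← CommRingCat.hom_comp]
    congr 1
    rw [Category.assoc, Category.assoc, Scheme.Hom.germ_stalkMap]
    have h3 := Scheme.Hom.congr_app hs ⊤
    rw [Scheme.Hom.comp_app] at h3
    have h4 : f.appTop ≫ s.app ⊤ ≫ (Spec (CommRingCat.of k)).presheaf.germ (s ⁻¹ᵁ ⊤) pt trivial =
        (Spec (CommRingCat.of k)).presheaf.germ ⊤ pt trivial := by
      change (f.app ⊤ ≫ s.app (f ⁻¹ᵁ ⊤)) ≫
        (Spec (CommRingCat.of k)).presheaf.germ (s ⁻¹ᵁ ⊤) pt trivial = _
      rw [h3]
      simp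
    rw [h4]
  rw [hcomp]
  have h4 : Function.Bijective (StructureSheaf.toStalk k pt).hom := by
    letI := StructureSheaf.stalkAlgebra k pt
    haveI : IsLocalization.AtPrime ((Spec.structureSheaf k).presheaf.stalk pt) pt.asIdeal :=
      StructureSheaf.IsLocalization.to_stalk k pt
    have hu : ∀ x ∈ pt.asIdeal.primeCompl, IsUnit x := by
      intro x hx
      refine IsUnit.mk0 x ?_
      rintro rfl
      exact hx (Ideal.zero_mem _)
    exact (IsLocalization.atUnits k pt.asIdeal.primeCompl
      (S := (Spec.structureSheaf k).presheaf.stalk pt) hu).bijective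
  exact h4


/-- (iv) ⇒ (i): let k be a field, G a k-group scheme of finite type and e ∈ G the identity point (the
image of the unit section Spec k → G). If the local ring of G at e is regular, then G is smooth over
k. (The corollary lists six equivalent conditions; (i) ⇒ (iv) is the standard fact that smooth
schemes over a field have regular local rings, and the remaining conditions concern the base change
to an algebraic closure and the completed local ring.) -/
theorem result (k : Type u) [Field k]
    (G : Over (Spec (CommRingCat.of k))) [GrpObj G] [LocallyOfFiniteType G.hom] [QuasiCompact G.hom]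
    (e : G.left) (he : e ∈ Set.range (η[G]).left.base)
    (hreg : IsRegularLocalRing (G.left.presheaf.stalk e)) : Smooth G.hom := by
  obtain ⟨pt, rfl⟩ := he
  refine Groth.Agent.Lib.Helper19.smooth_of_exists_mem_smoothLocus k G ⟨(η[G]).left.base pt, ?_⟩
  refine mem_smoothLocus_of_isRegularLocalRing_stalk G.hom _ ?_
  letI := stalkAlg G.hom ((η[G]).left.base pt)
  have hs : (η[G]).left ≫ G.hom = 𝟙 _ := Over.w η[G]
  have hbij := bijective_algebraMap_residueField k G.hom (η[G]).left hs pt
  exact Algebra.FormallySmooth.of_equiv (AlgEquiv.ofBijective (Algebra.ofId k _) hbij)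


end Groth.Agent.S19507
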