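import Groth.Statements.S19511
-- import your own Groth.Agent.* helpers here
import Mathlib.AlgebraicGeometry.Morphisms.Proper
import Mathlib.AlgebraicGeometry.Properties
import Mathlib.Tactic

set_option autoImplicit false
universe u
open CategoryTheory CategoryTheory.Limits AlgebraicGeometry
open Variety

namespace Groth.Agent.S19511

theorem surj_of_fib {X Y : Scheme.{u}} (f : X ⟶ Y) (hcl : IsClosedMap f.base)
    (hfib : ∀ V : Y.Opens, IsIso (f.app V)) : Function.Surjective f.base := by
  intro y
  by_contra hy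
  -- the open complement of the image
  let V : Y.Opens := ⟨(Set.range f.base)ᶜ, (hcl.isClosed_range).isOpen_compl⟩
  have hyV : y ∈ V := fun ⟨x, hx⟩ => hy ⟨x, hx⟩
  have hempty : (f ⁻¹ᵁ V : X.Opens) = ⊥ := by
    ext x
    simp only [TopologicalSpace.Opens.coe_bot, Set.mem_empty_iff_false, iff_false]
    intro hx
    exact hx ⟨x, rfl⟩
  haveI := hfib V
  have hsub : Subsingleton Γ(X, f ⁻¹ᵁ V) := by
    rw [hempty]
    infer_instance
  have hsubY : Subsingleton Γ(Y, V) :=
    (asIso (f.app V)).commRingCatIsoToRingEquiv.toEquiv.subsingleton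
  haveI : Nonempty V := ⟨⟨y, hyV⟩⟩
  haveI : Nontrivial Γ(Y, V) := inferInstance
  exact not_subsingleton _ hsubY

/-- Let k be a field and f : X → Y a k-morphism between proper k-schemes which is a fibration, i.e. O_Y
→ f_*O_X is an isomorphism (Γ(V, O_Y) → Γ(f⁻¹V, O_X) bijective for every open V ⊆ Y). Then f is
surjective. (The connectedness of the fibres asserted in (i) is quoted from the literature and not
stated.) -/
theorem result (k : Type u) [Field k] (X Y : Scheme.{u})
    [X.Over (Spec (CommRingCat.of k))] [Y.Over (Spec (CommRingCat.of k))] [IsProper (X ↘ Spec (CommRingCat.of k))] [IsProper (Y ↘ Spec (CommRingCat.of k))]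
    (f : X ⟶ Y) (hf : f ≫ (Y ↘ Spec (CommRingCat.of k)) = X ↘ Spec (CommRingCat.of k)) (hfib : ∀ V : Y.Opens, IsIso (f.app V)) :
    Surjective f := by
  haveI : IsProper (f ≫ (Y ↘ Spec (CommRingCat.of k))) := hf ▸ inferInstance
  haveI : IsProper f := IsProper.of_comp f (Y ↘ Spec (CommRingCat.of k))
  exact ⟨surj_of_fib f f.isClosedMap hfib⟩

end Groth.Agent.S19511
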