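import Groth.Statements.S19514
import Groth.Agent.S19512

set_option autoImplicit false
universe u
open CategoryTheory CategoryTheory.Limits AlgebraicGeometry
open Variety

namespace Groth.Agent.S19514

open TopologicalSpace Opposite

/-- base change of a fibration along a flat morphism is a fibration -/
theorem fib_baseChange {X Y Z W : Scheme.{u}} (f : X ⟶ Y) [QuasiCompact f] [QuasiSeparated f]
    (q : Z ⟶ Y) [Flat q] (g' : W ⟶ X) (f' : W ⟶ Z) (H : IsPullback g' f' f q)
    (hfib : ∀ V : Y.Opens, IsIso (f.app V)) (V' : Z.Opens) : IsIso (f'.app V') := by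
  -- basis
  let ι : Type u := {V' : Z.Opens // IsAffineOpen V' ∧ ∃ V : Y.Opens, IsAffineOpen V ∧ V' ≤ q ⁻¹ᵁ V}
  let B : ι → Z.Opens := Subtype.val
  have hB : Opens.IsBasis (Set.range B) := by
    rw [Opens.isBasis_iff_nbhd]
    intro U x hxU
    obtain ⟨_, ⟨V, hV : IsAffineOpen V, rfl⟩, hxV, -⟩ :=
      (Y.isBasis_affineOpens).exists_subset_of_mem_open (Set.mem_univ (q x)) isOpen_univ
    obtain ⟨_, ⟨V', hV' : IsAffineOpen V', rfl⟩, hxV', hV'U⟩ :=
      (Z.isBasis_affineOpens).exists_subset_of_mem_open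
        (show x ∈ U ⊓ q ⁻¹ᵁ V from ⟨hxU, hxV⟩) (U ⊓ q ⁻¹ᵁ V).2
    exact ⟨V', ⟨⟨V', hV', V, hV, fun y hy => (hV'U hy).2⟩, rfl⟩, hxV', fun y hy => (hV'U hy).1⟩
  have key : ∀ i : ι, IsIso (f'.app (B i)) := by
    rintro ⟨V', hV', V, hV, e⟩
    have hUY : f' ⁻¹ᵁ V' = g' ⁻¹ᵁ (f ⁻¹ᵁ V) ⊓ f' ⁻¹ᵁ V' := by
      refine (inf_eq_right.2 ?_).symm
      rw [← Scheme.Hom.comp_preimage, H.w, Scheme.Hom.comp_preimage]
      exact Scheme.Hom.preimage_mono f' e
    have hc : IsCompact ((f ⁻¹ᵁ V : X.Opens) : Set X) :=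
      QuasiCompact.isCompact_preimage (f := f) _ V.2 hV.isCompact
    have hqs : IsQuasiSeparated ((f ⁻¹ᵁ V : X.Opens) : Set X) :=
      f.isQuasiSeparated_preimage hV.isQuasiSeparated
    have h1 := isIso_pushoutSection_of_isQuasiSeparated_of_flat_right H e (le_refl (f ⁻¹ᵁ V)) hUY
      hV hV' hc hqs
    haveI : IsIso (f.appLE V (f ⁻¹ᵁ V) (le_refl _)) := by
      rw [← Scheme.Hom.app_eq_appLE]; exact hfib V
    have h2 : pushout.inr (f.appLE V (f ⁻¹ᵁ V) (le_refl _)) (q.appLE V V' e) ≫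
        pushoutSection H e (le_refl (f ⁻¹ᵁ V)) hUY = f'.appLE V' (f' ⁻¹ᵁ V') (le_refl _) :=
      pushout.inr_desc _ _ _
    change IsIso (f'.app V')
    rw [Scheme.Hom.app_eq_appLE, ← h2]
    infer_instance
  let φ : Z.sheaf ⟶ (TopCat.Sheaf.pushforward CommRingCat.{u} f'.base).obj W.sheaf := ⟨f'.c⟩
  have hφ : IsIso φ := TopCat.Sheaf.isIso_iff_isIso_basis (B := B) hB (fun i => key i)
  have : IsIso ((TopCat.Sheaf.forget CommRingCat.{u} Z).map φ) := inferInstance
  exact NatIso.isIso_app_of_isIso ((TopCat.Sheaf.forget CommRingCat.{u} Z).map φ) (op V')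

theorem flat_Spec_field {k K : Type u} [Field k] [Field K]
    (y : Spec (CommRingCat.of K) ⟶ Spec (CommRingCat.of k)) : Flat y := by
  obtain ⟨φ, rfl⟩ := Spec.map_surjective y
  rw [HasRingHomProperty.Spec_iff (P := @Flat)]
  algebraize [φ.hom]
  change Module.Flat k K
  infer_instance

/-- Let k be a field and f : X → Y a k-morphism between proper k-schemes which is a fibration, i.e. O_Y
→ f_*O_X is an isomorphism (Γ(V, O_Y) → Γ(f⁻¹V, O_X) bijective for every open V ⊆ Y). If X is
geometrically integral over k, then so is Y. (The assertion of (iii) for geometric normality is not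
stated here.) -/
theorem result (k : Type u) [Field k] (X Y : Scheme.{u})
    [X.Over (Spec (CommRingCat.of k))] [Y.Over (Spec (CommRingCat.of k))] [IsProper (X ↘ Spec (CommRingCat.of k))] [IsProper (Y ↘ Spec (CommRingCat.of k))]
    (f : X ⟶ Y) (hf : f ≫ (Y ↘ Spec (CommRingCat.of k)) = X ↘ Spec (CommRingCat.of k)) (hfib : ∀ V : Y.Opens, IsIso (f.app V))
    [GeometricallyIntegral (X ↘ Spec (CommRingCat.of k))] : GeometricallyIntegral (Y ↘ Spec (CommRingCat.of k)) := by
  haveI : IsProper (f ≫ (Y ↘ Spec (CommRingCat.of k))) := hf ▸ inferInstance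
  haveI : IsProper f := IsProper.of_comp f (Y ↘ Spec (CommRingCat.of k))
  refine ⟨fun K _ y Z fst snd h => ?_⟩
  let W := pullback f fst
  let g' : W ⟶ X := pullback.fst f fst
  let f' : W ⟶ Z := pullback.snd f fst
  have H : IsPullback g' f' f fst := IsPullback.of_hasPullback f fst
  have HX : IsPullback g' (f' ≫ snd) (X ↘ Spec (CommRingCat.of k)) y := by
    rw [← hf]
    exact H.paste_vert h
  haveI : Flat y := flat_Spec_field y
  haveI : Flat fst := MorphismProperty.of_isPullback h.flip inferInstance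
  haveI : IsIntegral W :=
    (GeometricallyIntegral.geometrically_isIntegral (f := X ↘ Spec (CommRingCat.of k))) y g' (f' ≫ snd) HX
  haveI : IsProper snd := MorphismProperty.of_isPullback h inferInstance
  haveI : IsProper f' := MorphismProperty.of_isPullback H inferInstance
  haveI : IsProper (f' ≫ snd) := inferInstance
  letI : Z.Over (Spec (CommRingCat.of K)) := ⟨snd⟩
  letI : W.Over (Spec (CommRingCat.of K)) := ⟨f' ≫ snd⟩
  haveI : IsProper (Z ↘ Spec (CommRingCat.of K)) := by change IsProper snd; infer_instance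
  haveI : IsProper (W ↘ Spec (CommRingCat.of K)) := by change IsProper (f' ≫ snd); infer_instance
  exact Groth.Agent.S19512.result K W Z f' rfl (fib_baseChange f fst g' f' H hfib)

end Groth.Agent.S19514
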