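import Groth.Statements.S19515
import Groth.Agent.S19514
import Groth.Agent.Lib.Helper20.NormDescend

set_option autoImplicit false
universe u
open CategoryTheory CategoryTheory.Limits AlgebraicGeometry
open Variety

namespace Groth.Agent.S19515

/-- normality is invariant under isomorphism -/
theorem isNormalScheme_of_iso {X Y : Scheme.{u}} (e : X ≅ Y) (h : Pi1.IsNormalScheme Y) :
    Pi1.IsNormalScheme X := by
  intro x
  obtain ⟨h1, h2⟩ := h (e.hom x)
  let α : Y.presheaf.stalk (e.hom x) ≃+* X.presheaf.stalk x :=
    (asIso (e.hom.stalkMap x)).commRingCatIsoToRingEquiv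
  haveI := h1
  haveI := h2
  exact ⟨MulEquiv.isDomain (Y.presheaf.stalk (e.hom x)) α.symm.toMulEquiv, IsIntegrallyClosed.of_equiv α⟩

/-- Let k be a field and f : X → Y a k-morphism between proper k-schemes which is a fibration, i.e. O_Y
→ f_*O_X is an isomorphism (Γ(V, O_Y) → Γ(f⁻¹V, O_X) bijective for every open V ⊆ Y). If X is
geometrically normal, i.e. its base change to every algebraic closure of k has all local rings
integrally closed domains, then Y is geometrically normal in the same sense. -/
theorem result (k : Type u) [Field k] (X Y : Scheme.{u})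
    [X.Over (Spec (CommRingCat.of k))] [Y.Over (Spec (CommRingCat.of k))] [IsProper (X ↘ Spec (CommRingCat.of k))] [IsProper (Y ↘ Spec (CommRingCat.of k))]
    (f : X ⟶ Y) (hf : f ≫ (Y ↘ Spec (CommRingCat.of k)) = X ↘ Spec (CommRingCat.of k)) (hfib : ∀ V : Y.Opens, IsIso (f.app V))
    (hX : ∀ (K : Type u) [Field K] [Algebra k K] [IsAlgClosure k K],
      Pi1.IsNormalScheme (pullback (X ↘ Spec (CommRingCat.of k)) (Spec.map (CommRingCat.ofHom (algebraMap k K)))))
    (K : Type u) [Field K] [Algebra k K] [IsAlgClosure k K] :
    Pi1.IsNormalScheme (pullback (Y ↘ Spec (CommRingCat.of k)) (Spec.map (CommRingCat.ofHom (algebraMap k K)))) := by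
  haveI : IsProper (f ≫ (Y ↘ Spec (CommRingCat.of k))) := hf ▸ inferInstance
  haveI : IsProper f := IsProper.of_comp f (Y ↘ Spec (CommRingCat.of k))
  let y : Spec (CommRingCat.of K) ⟶ Spec (CommRingCat.of k) :=
    Spec.map (CommRingCat.ofHom (algebraMap k K))
  let Z := pullback (Y ↘ Spec (CommRingCat.of k)) y
  let fst : Z ⟶ Y := pullback.fst _ _
  let snd : Z ⟶ Spec (CommRingCat.of K) := pullback.snd _ _
  have h : IsPullback fst snd (Y ↘ Spec (CommRingCat.of k)) y := IsPullback.of_hasPullback _ _
  let W := pullback f fst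
  let g' : W ⟶ X := pullback.fst f fst
  let f' : W ⟶ Z := pullback.snd f fst
  have H : IsPullback g' f' f fst := IsPullback.of_hasPullback f fst
  have HX : IsPullback g' (f' ≫ snd) (X ↘ Spec (CommRingCat.of k)) y := by
    rw [← hf]
    exact H.paste_vert h
  haveI : Flat y := Groth.Agent.S19514.flat_Spec_field y
  haveI : Flat fst := MorphismProperty.of_isPullback h.flip inferInstance
  have hW : Pi1.IsNormalScheme W := isNormalScheme_of_iso HX.isoPullback (hX K)
  haveI : IsProper snd := MorphismProperty.of_isPullback h inferInstance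
  haveI : IsProper f' := MorphismProperty.of_isPullback H inferInstance
  haveI : IsProper (f' ≫ snd) := inferInstance
  haveI : IsLocallyNoetherian W := LocallyOfFiniteType.isLocallyNoetherian (f' ≫ snd)
  haveI : CompactSpace W := QuasiCompact.compactSpace_of_compactSpace (f' ≫ snd)
  haveI : IsNoetherian W := {}
  refine Groth.Agent.Lib.Helper20.NormComp.isNormalScheme_of_app_bijective f' hW
    (Groth.Agent.Lib.Helper20.NormComp.locallyFinite_irreducibleComponents_of_noetherianSpace W)
    (fun V => ?_) f'.isClosedMap
  haveI := Groth.Agent.S19514.fib_baseChange f fst g' f' H hfib V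
  exact ConcreteCategory.bijective_of_isIso (f'.app V)

end Groth.Agent.S19515
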