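import Groth.Statements.S19519
import Groth.Agent.Lib.Helper72.OrbitClosed

set_option autoImplicit false
universe u
open CategoryTheory MonoidalCategory CartesianMonoidalCategory MonObj GrpObj AlgebraicGeometry
open AlgGrp

namespace Groth.Agent.S19519

/-- Let k be an algebraically closed field, G a smooth k-group scheme of finite type acting on a
k-scheme X of finite type, and x a rational point of X. If the orbit of x — the image of the orbit
map G → X, g ↦ g · x, with its subspace topology — has Krull dimension at most that of the orbit of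
every rational point of X, then the orbit of x is closed in X. (The first assertions of the lemma,
local closedness and smoothness of orbits over any field, are not restated here.) -/
theorem result (k : Type u) [Field k] [IsAlgClosed k]
    (G X : Over (Spec (CommRingCat.of k))) [GrpObj G] [Smooth G.hom] [QuasiCompact G.hom]
    [LocallyOfFiniteType X.hom] [QuasiCompact X.hom] (a : AlgGrp.Action G X)
    (x : 𝟙_ (Over (Spec (CommRingCat.of k))) ⟶ X)
    (hmin : ∀ y : 𝟙_ (Over (Spec (CommRingCat.of k))) ⟶ X,
      topologicalKrullDim (Set.range (a.orbitMap x).left.base) ≤ topologicalKrullDim (Set.range (a.orbitMap y).left.base)) :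
    IsClosed (Set.range (a.orbitMap x).left.base) := by
  open Groth.Agent.Lib.Helper72 Groth.Agent.Lib.Helper72.OrbitDim
    Groth.Agent.Lib.Helper72.OrbitClosed Groth.Agent.Lib.Helper72.OrbitAct
    Groth.Agent.Lib.Helper72.GrpTrans Groth.Agent.Lib.Helper72.GrpConn in
  have hlfp : LocallyOfFinitePresentation G.hom := inferInstance
  have hlft : LocallyOfFiniteType G.hom := inferInstance
  have hJ : JacobsonSpace X.left := LocallyOfFiniteType.jacobsonSpace X.hom
  have hpt : ∀ y₀ : X.left, IsClosed ({y₀} : Set X.left) →
      ∃ y : 𝟙_ (Over (Spec (CommRingCat.of k))) ⟶ X, y.left (IsLocalRing.closedPoint k) = y₀ := by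
    intro y₀ hy₀
    exact ⟨Over.homMk (pointOfClosedPoint X.hom y₀ hy₀) (pointOfClosedPoint_comp X.hom y₀ hy₀),
      pointOfClosedPoint_apply X.hom y₀ hy₀ _⟩
  by_contra hncl
  have hα : (a.orbitMap x).left ≫ X.hom = G.hom := Over.w _
  have hom := homog_orbitMap G X a x
  have hlt := dim_boundary_lt G.hom X.hom (a.orbitMap x).left hα hom
    (η[G].left (IsLocalRing.closedPoint k))
  have hE := isConstructible_range G.hom X.hom (a.orbitMap x).left hα
  have hN := noetherianSpace_of_ft X.hom
  have hB : Topology.IsConstructible
      (closure (Set.range (a.orbitMap x).left) \ Set.range (a.orbitMap x).left) :=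
    (Groth.Agent.Lib.Helper35.noeth_isConstructible_of_isClosed isClosed_closure).sdiff hE
  have hBne : (closure (Set.range (a.orbitMap x).left) \ Set.range (a.orbitMap x).left).Nonempty := by
    rw [Set.nonempty_iff_ne_empty]
    intro he
    apply hncl
    have : closure (Set.range (a.orbitMap x).left) ⊆ Set.range (a.orbitMap x).left :=
      Set.diff_eq_empty.mp he
    exact closure_subset_iff_isClosed.mp this
  obtain ⟨y₀, hy₀B, hy₀c⟩ := exists_isClosed_mem_of_isConstructible X.hom hB hBne
  obtain ⟨y, rfl⟩ := hpt y₀ hy₀c
  have hαy : (a.orbitMap y).left ≫ X.hom = G.hom := Over.w _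
  have hEy := isConstructible_range G.hom X.hom (a.orbitMap y).left hαy
  have hsub : Set.range (a.orbitMap y).left ⊆
      closure (Set.range (a.orbitMap x).left) \ Set.range (a.orbitMap x).left := by
    by_contra hns
    have hne : (Set.range (a.orbitMap y).left \
        (closure (Set.range (a.orbitMap x).left) \ Set.range (a.orbitMap x).left)).Nonempty := by
      rw [Set.nonempty_iff_ne_empty]
      exact fun he => hns (Set.diff_eq_empty.mp he)
    obtain ⟨z, ⟨hzr, hzn⟩, hzc⟩ :=
      exists_isClosed_mem_of_isConstructible X.hom (hEy.sdiff hB) hne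
    obtain ⟨c, hcc, rfl⟩ := exists_isClosed_of_mem_range G.hom (a.orbitMap y).left z hzc hzr
    obtain ⟨g, rfl⟩ := exists_ptVal_eq G c hcc
    rw [orbitMap_ptVal] at hzn
    exact hzn (actTr_mem_boundary G X a g x _ hy₀B)
  have h1 : topologicalKrullDim ↥(Set.range (a.orbitMap y).left.base) ≤ topologicalKrullDim
      ↥(closure (Set.range (a.orbitMap x).left) \ Set.range (a.orbitMap x).left) :=
    (Topology.IsEmbedding.inclusion hsub).isInducing.topologicalKrullDim_le
  exact absurd (hmin y) (not_le.mpr (lt_of_le_of_lt h1 hlt))

end Groth.Agent.S19519
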