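import Mathlib
import Groth.Statements.S19522
-- import your own Groth.Agent.* helpers here

set_option autoImplicit false
universe u
open TensorProduct
open GLin

namespace Groth.Agent.S19522

open Polynomial


/-- Let k be a field, A a commutative k-bialgebra coacting multiplicatively on a commutative k-algebra
R, and χ ∈ A a group-like element with an inverse χ' (χχ' = 1). Suppose the polynomial ring R[t]
carries a multiplicative coaction which restricts to the given one on constants and sends t to t ⊗
χ'. Then g ∈ R[t] is coinvariant if and only if, for every r, its r-th coefficient has coaction g_r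
↦ g_r ⊗ χ^r; that is, the ring of invariants of R[t] is the sum over r ≥ 0 of the weight-χ^r
semi-invariants of R times t^r. (The published statement is phrased for an affine variety with an
action of a linear algebraic group over an algebraically closed field of characteristic zero and
identifies the invariants of X × A¹ with the graded ring of invariant sections of the powers of the
linearised trivial bundle; this is its coordinate-ring content, valid over any field.) -/
theorem result (k : Type u) [Field k]
    (A : Type u) [CommRing A] [Bialgebra k A]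
    (R : Type u) [CommRing R] [Algebra k R] [HopfRep.Comod k A R] [GLin.IsCoactAlg k A R]
    [HopfRep.Comod k A (Polynomial R)] [GLin.IsCoactAlg k A (Polynomial R)]
    (χ χ' : A) (hχ : CoalgebraStruct.comul (R := k) (A := A) χ = χ ⊗ₜ[k] χ)
    (hχε : CoalgebraStruct.counit (R := k) (A := A) χ = 1) (hχχ' : χ * χ' = 1)
    (hC : ∀ r : R, HopfRep.Comod.coact (k := k) (A := A) (Polynomial.C r) =
      Algebra.TensorProduct.map (Polynomial.CAlgHom : R →ₐ[k] Polynomial R) (AlgHom.id k A)
        (HopfRep.Comod.coact (k := k) (A := A) r))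
    (hX : HopfRep.Comod.coact (k := k) (A := A) (Polynomial.X : Polynomial R) = Polynomial.X ⊗ₜ[k] χ')
    (g : Polynomial R) :
    g ∈ GLin.invariants k A (Polynomial R) ↔
      ∀ r : ℕ, g.coeff r ∈ HopfRep.eigenspace k A R (χ ^ r) := by
  let co : R[X] →ₐ[k] R[X] ⊗[k] A := GLin.coactAlgHom k A R[X]
  let cR : R →ₗ[k] R ⊗[k] A := HopfRep.Comod.coact (k := k) (A := A)
  let CA : R ⊗[k] A →ₐ[k] R[X] ⊗[k] A :=
    Algebra.TensorProduct.map (Polynomial.CAlgHom : R →ₐ[k] Polynomial R) (AlgHom.id k A)
  have hco : ∀ g : R[X], co g = ∑ r ∈ Finset.range (g.natDegree + 1),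
      CA (cR (g.coeff r)) * (((X : R[X]) ^ r) ⊗ₜ[k] (χ' ^ r)) := by
    intro g
    conv_lhs => rw [g.as_sum_range_C_mul_X_pow]
    rw [map_sum]
    refine Finset.sum_congr rfl fun r _ => ?_
    rw [map_mul, map_pow]
    show HopfRep.Comod.coact (k := k) (A := A) (C (g.coeff r)) *
      (HopfRep.Comod.coact (k := k) (A := A) (X : R[X])) ^ r = _
    rw [hC, hX, Algebra.TensorProduct.tmul_pow]
  let lc : ℕ → (R[X] ⊗[k] A →ₗ[k] R ⊗[k] A) := fun r =>
    TensorProduct.map ((Polynomial.lcoeff R r).restrictScalars k) LinearMap.id
  have hlc : ∀ (r s : ℕ) (y : R ⊗[k] A) (a : A),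
      lc r (CA y * (((X : R[X]) ^ s) ⊗ₜ[k] a)) = if r = s then y * (1 ⊗ₜ[k] a) else 0 := by
    intro r s y a
    induction y using TensorProduct.induction_on with
    | zero => simp
    | tmul ρ b =>
      simp only [CA, lc, Algebra.TensorProduct.map_tmul, Algebra.TensorProduct.tmul_mul_tmul,
        TensorProduct.map_tmul, AlgHom.id_apply, LinearMap.id_apply, mul_one]
      simp only [LinearMap.coe_restrictScalars, lcoeff_apply, CAlgHom_apply, coeff_C_mul,
        coeff_X_pow]
      split_ifs with h
      · simp
      · simp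
    | add y z hy hz =>
      rw [map_add, add_mul, map_add, hy, hz]
      split_ifs <;> simp [add_mul]
  constructor
  · intro hg r
    have h1 : co g = g ⊗ₜ[k] (1 : A) := hg
    have h2 := congrArg (lc r) h1
    rw [hco, map_sum] at h2
    simp only [hlc] at h2
    rw [Finset.sum_ite_eq] at h2
    have h3 : lc r (g ⊗ₜ[k] (1 : A)) = (g.coeff r) ⊗ₜ[k] (1 : A) := by
      simp [lc]
    rw [h3] at h2
    show cR (g.coeff r) = (g.coeff r) ⊗ₜ[k] (χ ^ r)
    by_cases hr : r ∈ Finset.range (g.natDegree + 1)
    · rw [if_pos hr] at h2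
      have h4 := congrArg (fun z => z * ((1 : R) ⊗ₜ[k] (χ ^ r))) h2
      simp only [mul_assoc, Algebra.TensorProduct.tmul_mul_tmul, mul_one, one_mul] at h4
      rw [← mul_pow, mul_comm χ' χ, hχχ', one_pow, ← Algebra.TensorProduct.one_def, mul_one] at h4
      exact h4
    · have : g.coeff r = 0 := by
        apply coeff_eq_zero_of_natDegree_lt
        simp at hr
        omega
      rw [this, map_zero, TensorProduct.zero_tmul]
  · intro hg
    show co g = g ⊗ₜ[k] (1 : A)
    rw [hco]
    have hg' : ∀ r, cR (g.coeff r) = (g.coeff r) ⊗ₜ[k] (χ ^ r) := hg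
    conv_rhs => rw [g.as_sum_range_C_mul_X_pow, TensorProduct.sum_tmul]
    refine Finset.sum_congr rfl fun r _ => ?_
    rw [hg']
    simp only [CA, Algebra.TensorProduct.map_tmul, Algebra.TensorProduct.tmul_mul_tmul,
      AlgHom.id_apply, CAlgHom_apply]
    rw [← mul_pow, hχχ', one_pow]


end Groth.Agent.S19522
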