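import Groth.Statements.S19523
import Groth.Agent.Lib.Helper72.OrbitRed
import Groth.Agent.Lib.Helper72.OrbitDim
import Groth.Agent.Lib.Helper30.SmoothReduced
import Groth.Agent.Lib.Helper46.FppfSourceSm
import Groth.Agent.Lib.Helper55.GR.Scheme
import Groth.Agent.Lib.Helper19.Grp.FlatBaseChangePt

set_option autoImplicit false
universe u
open CategoryTheory MonoidalCategory CartesianMonoidalCategory MonObj GrpObj AlgebraicGeometry
open AlgGrp

namespace Groth.Agent.S19523

/-- Let k be a field, G a smooth k-group scheme of finite type acting on a k-scheme X of finite type,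
and x a rational point of X. The orbit of x, the image of the orbit map G → X, is locally closed
(not restated here); if i : O → X is an immersion from a reduced scheme whose image is exactly the
orbit — the orbit with its reduced induced structure — then O is smooth over k. -/
theorem result (k : Type u) [Field k]
    (G X : Over (Spec (CommRingCat.of k))) [GrpObj G] [Smooth G.hom] [QuasiCompact G.hom]
    [LocallyOfFiniteType X.hom] [QuasiCompact X.hom] (a : AlgGrp.Action G X)
    (x : 𝟙_ (Over (Spec (CommRingCat.of k))) ⟶ X)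
    (O : Scheme.{u}) (i : O ⟶ X.left) [IsImmersion i] [IsReduced O]
    (hO : Set.range i.base = Set.range (a.orbitMap x).left.base) : Smooth (i ≫ X.hom) := by
  have hGred : AlgebraicGeometry.IsReduced G.left :=
    Groth.Agent.Lib.Helper30.SmoothReduced.isReduced_of_smooth_scheme G.hom
  have hlfpG : LocallyOfFinitePresentation G.hom := inferInstance
  have hlftG : LocallyOfFiniteType G.hom := inferInstance
  have hO' : AlgebraicGeometry.IsReduced (Over.mk (i ≫ X.hom)).left := ‹AlgebraicGeometry.IsReduced O›
  have hGO : AlgebraicGeometry.IsReduced (G ⊗ Over.mk (i ≫ X.hom)).left := by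
    have hsm : Smooth (snd G (Over.mk (i ≫ X.hom))).left := by
      show Smooth (Limits.pullback.snd G.hom (i ≫ X.hom))
      infer_instance
    exact Groth.Agent.Lib.Helper30.SmoothReduced.isReduced_of_smooth_scheme
      (snd G (Over.mk (i ≫ X.hom))).left
  obtain ⟨b, x', hb, hx', hbo⟩ := Groth.Agent.Lib.Helper72.OrbitRed.exists_restrict a x i hO
  have hα' : (b.orbitMap x').left ≫ i = (a.orbitMap x).left := congrArg CommaMorphism.left hbo
  have hw : (b.orbitMap x').left ≫ (i ≫ X.hom) = G.hom := Over.w (b.orbitMap x')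
  have hsurj : Surjective (b.orbitMap x').left := ⟨fun o => by
    obtain ⟨g, hg⟩ : i o ∈ Set.range (a.orbitMap x).left := hO ▸ ⟨o, rfl⟩
    refine ⟨g, ?_⟩
    apply i.isEmbedding.injective
    rw [← Scheme.Hom.comp_apply, hα', hg]⟩
  have hlft : LocallyOfFiniteType (b.orbitMap x').left := by
    have : LocallyOfFiniteType ((b.orbitMap x').left ≫ (i ≫ X.hom)) := by rw [hw]; infer_instance
    exact locallyOfFiniteType_of_comp _ (i ≫ X.hom)
  have hNG := Groth.Agent.Lib.Helper72.OrbitDim.noetherianSpace_of_ft G.hom
  have hqc : QuasiCompact (b.orbitMap x').left :=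
    ⟨fun U _ _ => TopologicalSpace.NoetherianSpace.isCompact _⟩
  obtain ⟨U, hUd, hUf, -⟩ :=
    Groth.Agent.Lib.Helper55.GR.generic_flatness_reduced (b.orbitMap x').left
  have hne : Nonempty ↥(Over.mk (i ≫ X.hom)).left :=
    ⟨(b.orbitMap x').left (η[G].left (IsLocalRing.closedPoint k))⟩
  obtain ⟨o, ho⟩ := hUd.nonempty
  obtain ⟨g, rfl⟩ := (b.orbitMap x').left.surjective o
  haveI : Flat (((b.orbitMap x').left ⁻¹ᵁ U).ι ≫ (b.orbitMap x').left) := by
    rw [← morphismRestrict_ι]
    infer_instance
  have hflat : Flat (b.orbitMap x').left :=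
    Groth.Agent.Lib.Helper19.flat_orbitMap_of_exists_flat_stalkMap b x'
      ⟨g, Groth.Agent.Lib.Helper19.flat_stalkMap_of_ι_comp (b.orbitMap x').left
        ((b.orbitMap x').left ⁻¹ᵁ U) g ho⟩
  have hNO : IsLocallyNoetherian (Over.mk (i ≫ X.hom)).left :=
    LocallyOfFiniteType.isLocallyNoetherian (i ≫ X.hom)
  have hfp : LocallyOfFinitePresentation (b.orbitMap x').left :=
    LocallyOfFinitePresentation.iff_locallyOfFiniteType.mpr hlft
  haveI : Smooth ((b.orbitMap x').left ≫ (i ≫ X.hom)) := by rw [hw]; infer_instance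
  exact Groth.Agent.Lib.Helper46.FppfSourceSch.smooth_of_fppf_surjective_comp
    (b.orbitMap x').left (i ≫ X.hom)

end Groth.Agent.S19523
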