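import Groth.Statements.S19533
import Groth.Agent.Lib.Helper22.FibreComp2

set_option autoImplicit false
universe u
open CategoryTheory CategoryTheory.Limits MonoidalCategory CartesianMonoidalCategory MonObj GrpObj AlgebraicGeometry
open AbVar

namespace Groth.Agent.S19533

/-- Let k be an algebraically closed field, A an abelian variety over k (a k-group scheme whose
structure morphism is proper, smooth and geometrically connected) with unit point e, Y a scheme
separated over k and f : A → Y a morphism over k. Write F₀ for the connected component of e in the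
fibre f⁻¹(f(e)). Then the k-rational points of F₀ are stable under the group law: if k-points x and
y of A lie in F₀ then so do the product point x·y and the inverse point x⁻¹. (The published
statement is for Y a k-variety and concludes that F₀ with its reduced structure is an abelian
subvariety, together with the translation formula F_a = a + F₀; this row records the closure of
F₀(k) under multiplication and inversion, for Y merely separated over k.) -/
theorem result (k : Type u) [Field k] [IsAlgClosed k]
    (A : Over (Spec (CommRingCat.of k))) [GrpObj A] [IsProper A.hom] [Smooth A.hom] [GeometricallyConnected A.hom]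
    {Y : Scheme.{u}} (q : Y ⟶ Spec (CommRingCat.of k)) [IsSeparated q] (f : A.left ⟶ Y) (hf : f ≫ q = A.hom)
    (x y : 𝟙_ (Over (Spec (CommRingCat.of k))) ⟶ A)
    (hx : x.left (IsLocalRing.closedPoint k) ∈
      connectedComponentIn (f ⁻¹' {f (η[A].left (IsLocalRing.closedPoint k))}) (η[A].left (IsLocalRing.closedPoint k)))
    (hy : y.left (IsLocalRing.closedPoint k) ∈
      connectedComponentIn (f ⁻¹' {f (η[A].left (IsLocalRing.closedPoint k))}) (η[A].left (IsLocalRing.closedPoint k))) :
    (lift x y ≫ μ[A]).left (IsLocalRing.closedPoint k) ∈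
        connectedComponentIn (f ⁻¹' {f (η[A].left (IsLocalRing.closedPoint k))}) (η[A].left (IsLocalRing.closedPoint k)) ∧
      (x ≫ ι[A]).left (IsLocalRing.closedPoint k) ∈
        connectedComponentIn (f ⁻¹' {f (η[A].left (IsLocalRing.closedPoint k))}) (η[A].left (IsLocalRing.closedPoint k)) := by
  have hrig := Groth.Agent.Lib.Helper22.FibreComp.rigidityFor_of_isAlgClosed A q
  -- the component of `x` in its fibre is the component of the unit
  have hfx' : x.left (IsLocalRing.closedPoint k) ∈
      f ⁻¹' {f (η[A].left (IsLocalRing.closedPoint k))} := connectedComponentIn_subset _ _ hx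
  have hfx : f (x.left (IsLocalRing.closedPoint k)) = f (η[A].left (IsLocalRing.closedPoint k)) :=
    hfx'
  have hFx : connectedComponentIn (f ⁻¹' {f (x.left (IsLocalRing.closedPoint k))})
      (x.left (IsLocalRing.closedPoint k)) =
      connectedComponentIn (f ⁻¹' {f (η[A].left (IsLocalRing.closedPoint k))})
        (η[A].left (IsLocalRing.closedPoint k)) := by
    rw [hfx]
    exact (connectedComponentIn_eq hx).symm
  constructor
  · have h1 := Groth.Agent.Lib.Helper22.FibreComp.image_translate_subset A q f hf hrig x η[A]
    have e : lift x η[A] ≫ μ[A] = x := by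
      rw [← Hom.mul_def, one_eq_one, _root_.mul_one]
    rw [e, hFx] at h1
    have e2 : (lift x y ≫ μ[A]) = y ≫ (lift (toUnit A ≫ x) (𝟙 A) ≫ μ[A]) := by
      rw [← Hom.mul_def, ← Hom.mul_def, comp_mul, Category.comp_id, ← Category.assoc,
        toUnit_unique (y ≫ toUnit A) (𝟙 _), Category.id_comp]
    rw [e2]
    exact h1 ⟨_, hy, rfl⟩
  · have h2 := Groth.Agent.Lib.Helper22.FibreComp.image_translate_subset A q f hf hrig x⁻¹ x
    have e : lift x⁻¹ x ≫ μ[A] = η[A] := by
      rw [← Hom.mul_def, inv_mul_cancel, one_eq_one]
    rw [e, hFx] at h2
    have e2 : x ≫ ι[A] = η[A] ≫ (lift (toUnit A ≫ x⁻¹) (𝟙 A) ≫ μ[A]) := by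
      rw [← Hom.mul_def, comp_mul, Category.comp_id, ← Category.assoc,
        toUnit_unique (η[A] ≫ toUnit A) (𝟙 _), Category.id_comp, one_eq_one, _root_.mul_one,
        Hom.inv_def]
    rw [e2]
    exact h2 ⟨_, mem_connectedComponentIn rfl, rfl⟩

end Groth.Agent.S19533
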